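import Groth.Statements.S14514
import Mathlib
import Groth.Agent.Lib.Helper21.DominantMaximal
import Groth.Agent.Lib.Helper21.FieldDimPts
-- import your own Groth.Agent.* helpers here

set_option autoImplicit false
universe u
open CategoryTheory CategoryTheory.Limits AlgebraicGeometry
open Variety

namespace Groth.Agent.S14514

/-- Let k be an algebraically closed field and f : X → Y a morphism of algebraic varieties over k (X, Y
reduced, separated and of finite type over k) such that Y is irreducible and the image f(X) is dense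
in Y. Then X contains an irreducible closed subset Z with dim Z = dim Y such that f(Z) is dense in
Y. -/
theorem result (k : Type u) [Field k] [IsAlgClosed k]
    (X Y : Scheme.{u}) [X.Over (Spec (CommRingCat.of k))] [Y.Over (Spec (CommRingCat.of k))]
    [IsReduced X] [IsSeparated (X ↘ (Spec (CommRingCat.of k)))] [LocallyOfFiniteType (X ↘ (Spec (CommRingCat.of k)))] [QuasiCompact (X ↘ (Spec (CommRingCat.of k)))]
    [IsReduced Y] [IsSeparated (Y ↘ (Spec (CommRingCat.of k)))] [LocallyOfFiniteType (Y ↘ (Spec (CommRingCat.of k)))] [QuasiCompact (Y ↘ (Spec (CommRingCat.of k)))] [IrreducibleSpace Y]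
    (f : X ⟶ Y) (hf : f ≫ (Y ↘ (Spec (CommRingCat.of k))) = (X ↘ (Spec (CommRingCat.of k)))) [IsDominant f] :
    ∃ Z : Set X, IsClosed Z ∧ IsIrreducible Z ∧ topologicalKrullDim ↥Z = topologicalKrullDim Y ∧
      Dense (f '' Z) := by
  have hlft : LocallyOfFiniteType f :=
    Groth.Agent.Lib.Helper21.FieldDim.locallyOfFiniteType_of_comp_eq
      (X ↘ (Spec (CommRingCat.of k))) (Y ↘ (Spec (CommRingCat.of k))) f hf
  have hqc : QuasiCompact f := by
    have : QuasiCompact (f ≫ (Y ↘ (Spec (CommRingCat.of k)))) := by rw [hf]; infer_instance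
    exact QuasiCompact.of_comp f (Y ↘ (Spec (CommRingCat.of k)))
  have hln : IsLocallyNoetherian X :=
    LocallyOfFiniteType.isLocallyNoetherian (X ↘ (Spec (CommRingCat.of k)))
  have hmax : ∀ z : Y, z ⤳ genericPoint Y → genericPoint Y ⤳ z :=
    fun z _ => genericPoint_specializes z
  obtain ⟨x0, hx0⟩ := Groth.Agent.Lib.Helper21.FieldDim.mem_range_of_maximal_of_denseRange f
    f.denseRange hmax
  have hne : Nonempty ↥(f.fiber (genericPoint Y)) :=
    ⟨(f.fiberHomeo _).symm ⟨x0, hx0⟩⟩
  obtain ⟨z', -, hz'cl⟩ := (isClosed_univ (X := ↥(f.fiber (genericPoint Y)))).exists_closed_singleton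
    Set.univ_nonempty
  have hfz : f (f.fiberι _ z') = genericPoint Y := by
    have : f.fiberι (genericPoint Y) z' ∈ Set.range (f.fiberι (genericPoint Y)) := ⟨z', rfl⟩
    rw [Scheme.Hom.range_fiberι] at this
    exact this
  have htd0 : Groth.Agent.Lib.Helper21.FieldDim.tdR f (f.fiberι _ z') = 0 := by
    rw [← Groth.Agent.Lib.Helper21.FieldDim.td_fibStr,
      Groth.Agent.Lib.Helper21.FieldDim.td_eq_zero_of_isClosed_singleton _ hz'cl]
  refine ⟨closure {f.fiberι _ z'}, isClosed_closure, isIrreducible_singleton.closure, ?_, ?_⟩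
  · rw [Groth.Agent.Lib.Helper21.FieldDim.dim_closure_singleton (X ↘ (Spec (CommRingCat.of k))),
      Groth.Agent.Lib.Helper21.FieldDim.td_eq_add_tdR (X ↘ (Spec (CommRingCat.of k)))
        (Y ↘ (Spec (CommRingCat.of k))) f hf, htd0, hfz, add_zero,
      Groth.Agent.Lib.Helper21.FieldDim.dim_eq_td_genericPoint (Y ↘ (Spec (CommRingCat.of k)))]
  · rw [dense_iff_closure_eq, Set.eq_univ_iff_forall]
    intro y
    have hmem : genericPoint Y ∈ f '' closure {f.fiberι _ z'} :=
      ⟨_, subset_closure rfl, hfz⟩
    exact (genericPoint_specializes y).mem_closed isClosed_closure (subset_closure hmem)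

end Groth.Agent.S14514
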