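import Groth.Statements.S14519
import Groth.Agent.S4809
import Groth.Agent.Lib.Helper61.DimOneFib
import Groth.Agent.Lib.Helper61.SmoothFieldNormal
import Groth.Agent.Lib.Helper61.BiratGeneric

set_option autoImplicit false
universe u
open CategoryTheory CategoryTheory.Limits AlgebraicGeometry
open Curves

namespace Groth.Agent.S14519

/-- Let k be an algebraically closed field and f : X → Y a birational morphism over k between smooth
curves (X, Y integral, separated, of finite type and smooth over k, of dimension one; f sends the
generic point of X to that of Y and the induced map of function fields K(Y) → K(X) is bijective).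
Then f is an open immersion. -/
theorem result (k : Type u) [Field k] [IsAlgClosed k]
    (X Y : Scheme.{u}) [X.Over (Spec (CommRingCat.of k))] [Y.Over (Spec (CommRingCat.of k))]
    [IsIntegral X] [IsSeparated (X ↘ (Spec (CommRingCat.of k)))] [LocallyOfFiniteType (X ↘ (Spec (CommRingCat.of k)))] [QuasiCompact (X ↘ (Spec (CommRingCat.of k)))] [Smooth (X ↘ (Spec (CommRingCat.of k)))] (hdimX : topologicalKrullDim X = 1)
    [IsIntegral Y] [IsSeparated (Y ↘ (Spec (CommRingCat.of k)))] [LocallyOfFiniteType (Y ↘ (Spec (CommRingCat.of k)))] [QuasiCompact (Y ↘ (Spec (CommRingCat.of k)))] [Smooth (Y ↘ (Spec (CommRingCat.of k)))] (hdimY : topologicalKrullDim Y = 1)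
    (f : X ⟶ Y) (hf : f ≫ (Y ↘ (Spec (CommRingCat.of k))) = (X ↘ (Spec (CommRingCat.of k))))
    (e : f (genericPoint X) = genericPoint Y)
    (hbir : Function.Bijective (Y.presheaf.stalkSpecializes (specializes_of_eq e) ≫ f.stalkMap (genericPoint X)).hom) :
    IsOpenImmersion f := by
  have hsep : IsSeparated f := by
    have : IsSeparated (f ≫ (Y ↘ (Spec (CommRingCat.of k)))) := by rw [hf]; infer_instance
    exact IsSeparated.of_comp f (Y ↘ (Spec (CommRingCat.of k)))
  have hloft : LocallyOfFiniteType f := by
    have : LocallyOfFiniteType (f ≫ (Y ↘ (Spec (CommRingCat.of k)))) := by rw [hf]; infer_instance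
    exact locallyOfFiniteType_of_comp f (Y ↘ (Spec (CommRingCat.of k)))
  have hLN : IsLocallyNoetherian X :=
    LocallyOfFiniteType.isLocallyNoetherian (X ↘ (Spec (CommRingCat.of k)))
  have hC : CompactSpace X := QuasiCompact.compactSpace_of_compactSpace (X ↘ (Spec (CommRingCat.of k)))
  have hNoe : IsNoetherian X := {}
  haveI : JacobsonSpace Y := LocallyOfFiniteType.jacobsonSpace (Y ↘ (Spec (CommRingCat.of k)))
  have hN : ∀ y : Y, IsIntegrallyClosed (Y.presheaf.stalk y) := fun y =>
    (Groth.Agent.Lib.Helper61.SmoothFieldNormal.normal_stalk_of_smooth_field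
      (Y ↘ (Spec (CommRingCat.of k))) y).2
  have hbir' : IsIso (f.stalkMap (genericPoint X)) := by
    have h1 := Groth.Agent.Lib.Helper61.BiratGeneric.stalkSpecializes_bijective_of_eq (specializes_of_eq e) e
    have h2 : Function.Bijective (f.stalkMap (genericPoint X)).hom := by
      have h3 : Function.Bijective ((f.stalkMap (genericPoint X)).hom ∘
          (Y.presheaf.stalkSpecializes (specializes_of_eq e)).hom) := by
        simpa using hbir
      exact (Function.Bijective.of_comp_iff _ h1).mp h3
    exact (ConcreteCategory.isIso_iff_bijective _).mpr h2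
  have hclosedX : ∀ x : X, x ≠ genericPoint X → IsClosed ({x} : Set X) := fun x hx =>
    Groth.Agent.Lib.Helper61.DimOneFib.isClosed_singleton_of_ne_genericPoint hdimX.le x hx
  have hηY : ¬ IsClosed ({genericPoint Y} : Set Y) :=
    Groth.Agent.Lib.Helper61.DimOneFib.not_isClosed_singleton_genericPoint hdimY
  have hclosedY : ∀ x : X, x ≠ genericPoint X → IsClosed ({f x} : Set Y) := fun x hx =>
    mem_closedPoints_iff.mp
      (f.closePoints_subset_preimage_closedPoints (mem_closedPoints_iff.mpr (hclosedX x hx)))
  have hfib : ∀ y : Y, (f ⁻¹' {y}).Finite := by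
    intro y
    by_cases hy : genericPoint X ∈ f ⁻¹' {y}
    · refine (Set.finite_singleton (genericPoint X)).subset ?_
      intro x hx
      by_contra hne
      have h1 := hclosedY x hne
      have h2 : f x = genericPoint Y := (hx : f x = y).trans ((hy : f (genericPoint X) = y).symm.trans e)
      rw [h2] at h1
      exact hηY h1
    · by_cases hne : (f ⁻¹' {y}).Nonempty
      · obtain ⟨x₀, hx₀⟩ := hne
        have hx₀ne : x₀ ≠ genericPoint X := fun h => hy (h ▸ hx₀)
        have hycl : IsClosed ({y} : Set Y) := (hx₀ : f x₀ = y) ▸ hclosedY x₀ hx₀ne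
        refine Groth.Agent.Lib.Helper61.DimOneFib.finite_of_isClosed_of_forall_isClosed_singleton _
          (hycl.preimage f.continuous) ?_
        intro z hz
        exact hclosedX z (fun h => hy (h ▸ hz))
      · rw [Set.not_nonempty_iff_eq_empty.mp hne]
        exact Set.finite_empty
  haveI : LocallyQuasiFinite f := LocallyQuasiFinite.of_finite_preimage_singleton f hfib
  exact (Groth.Agent.S4809.result hN f e hbir').2 hsep

end Groth.Agent.S14519
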