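import Groth.Statements.S1452
import Groth.Agent.S1451
import Groth.Agent.Lib.Helper61.EtaleSourceDescent

set_option autoImplicit false
universe u
open FlatMor

namespace Groth.Agent.S1452

open AlgebraicGeometry CategoryTheory Limits in
/-- Let f : X → Y and g : Y → Z with Y integral and the local ring of Y at y = f x geometrically
unibranch; assume g ∘ f is étale on an open neighbourhood of x and some generization of x maps to
the generic point of Y. Then f is étale on an open neighbourhood of x and g is étale on an open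
neighbourhood of y. -/
theorem result {X Y Z : Scheme.{u}} (f : X ⟶ Y) (g : Y ⟶ Z) [IsIntegral Y] (x : X)
    (hY : CAlg2.IsGeomUnibranch (Y.presheaf.stalk (f x))) (het : ∃ U : X.Opens, x ∈ U ∧ Etale (U.ι ≫ f ≫ g))
    (hsp : ∃ x' : X, x' ⤳ x ∧ f x' = genericPoint ↑Y) :
    (∃ U : X.Opens, x ∈ U ∧ Etale (U.ι ≫ f)) ∧ ∃ V : Y.Opens, f x ∈ V ∧ Etale (V.ι ≫ g) := by
  obtain ⟨U, hxU, hU⟩ := het
  obtain ⟨x', hsp, hx'⟩ := hsp
  -- restrict to `U`
  have hcomp : Etale ((U.ι ≫ f) ≫ g) := by rwa [Category.assoc]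
  have hlft : LocallyOfFiniteType (U.ι ≫ f) := locallyOfFiniteType_of_comp (U.ι ≫ f) g
  have hunr : FormallyUnramified (U.ι ≫ f) := FormallyUnramified.of_comp (U.ι ≫ f) g
  have hx'U : x' ∈ U := hsp.mem_open U.2 hxU
  have key := Groth.Agent.S1451.result (U.ι ≫ f) ⟨x, hxU⟩ hY
    ⟨⟨x', hx'U⟩, by
      refine (U.ι.isOpenEmbedding.isInducing.specializes_iff).mp ?_
      exact hsp, hx'⟩
    ⟨⊤, trivial, MorphismProperty.comp_mem _ _ _ inferInstance hunr⟩
  obtain ⟨U'', hxU'', hU''⟩ := key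
  refine ⟨⟨U.ι ''ᵁ U'', ⟨⟨x, hxU⟩, hxU'', rfl⟩, ?_⟩, ?_⟩
  · have h1 : (U.ι ''ᵁ U'').ι ≫ f = (U.ι.isoImage U'').inv ≫ U''.ι ≫ U.ι ≫ f := by
      rw [← Scheme.Hom.isoImage_inv_ι U.ι U'']
      simp only [Category.assoc]
    rw [h1]
    infer_instance
  · have hcomp' : Etale ((U''.ι ≫ U.ι ≫ f) ≫ g) := by
      have : (U''.ι ≫ U.ι ≫ f) ≫ g = U''.ι ≫ (U.ι ≫ f) ≫ g := by simp
      rw [this]
      infer_instance
    exact Groth.Agent.Lib.Helper61.EtaleSourceDescent.exists_etale_nhd_of_comp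
      (U''.ι ≫ U.ι ≫ f) g ⟨⟨x, hxU⟩, hxU''⟩

end Groth.Agent.S1452
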