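import Groth.Statements.S1655
import Groth.Agent.Lib.Helper61.BiratQFScheme

set_option autoImplicit false
universe u
open CategoryTheory CategoryTheory.Limits AlgebraicGeometry
open Variety

namespace Groth.Agent.S1655

/-- Let X be a Noetherian integral scheme, Y an integral scheme, and f : Y → X a proper morphism that
restricts to an isomorphism over some nonempty open subscheme of X. If x is a point of X whose local
ring is integrally closed and f is quasi-finite at some point lying over x, then f restricts to an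
isomorphism over an open neighbourhood of x. -/
theorem result {X Y : Scheme.{u}} [IsNoetherian X] [IsIntegral X] [IsIntegral Y]
    (f : Y ⟶ X) [IsProper f] (W : X.Opens) (hW : (W : Set X).Nonempty) (hfW : IsIso (f ∣_ W))
    (x : X) (hx : IsIntegrallyClosed (X.presheaf.stalk x)) (y : Y) (hy : f.base y = x) (hq : f.QuasiFiniteAt y) :
    ∃ V : X.Opens, x ∈ V ∧ IsIso (f ∣_ V) := by
  classical
  subst hy
  -- the generic point of Y lies over W
  haveI := hfW
  have hne : Nonempty (f ⁻¹ᵁ W : Y.Opens) := by
    obtain ⟨w, hw⟩ := hW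
    let e := TopCat.homeoOfIso (asIso (f ∣_ W).base)
    exact ⟨e.symm ⟨w, hw⟩⟩
  have hη : genericPoint Y ∈ f ⁻¹ᵁ W :=
    ((genericPoint_spec Y).mem_open_set_iff (f ⁻¹ᵁ W).isOpen).mpr (by simpa using hne)
  let η' : ((f ⁻¹ᵁ W : Y.Opens) : Scheme.{u}) := ⟨genericPoint Y, hη⟩
  have hbir : IsIso (f.stalkMap (genericPoint Y)) := by
    have h1 : IsIso ((f ∣_ W).stalkMap η') := inferInstance
    have h2 := (MorphismProperty.isomorphisms _).arrow_mk_iso_iff (morphismRestrictStalkMap f W η')
    exact h2.mp h1
  obtain ⟨V, hyV, hV⟩ :=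
    Groth.Agent.Lib.Helper61.BiratQF.exists_opens_isOpenImmersion f hbir y hq hx
  haveI : Nonempty V := ⟨⟨y, hyV⟩⟩
  haveI := hV
  exact ⟨(V.ι ≫ f).opensRange, ⟨⟨y, hyV⟩, rfl⟩,
    Groth.Agent.Lib.Helper61.BiratQF.isIso_morphismRestrict_opensRange f V⟩

end Groth.Agent.S1655
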