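import Groth.Statements.S14523
import Groth.Agent.S1655
import Groth.Agent.Lib.Helper61.ValDominate

set_option autoImplicit false
universe u
open CategoryTheory CategoryTheory.Limits AlgebraicGeometry
open Variety

namespace Groth.Agent.S14523

/-- Let k be an algebraically closed field and f : X → Y a proper, birational morphism over k of
irreducible varieties (X, Y integral, separated and of finite type over k; f restricts to an
isomorphism over some nonempty open subset of Y), with Y normal (all local rings integrally closed).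
Let U ⊆ Y be the largest open subset over which f is an isomorphism (the domain of f^{-1}). Then
codim_Y(Y ∖ U) ≥ 2: for every point y of Y whose local ring has Krull dimension at most one, f
restricts to an isomorphism over some open neighbourhood of y. -/
theorem result (k : Type u) [Field k] [IsAlgClosed k]
    (X Y : Scheme.{u}) [X.Over (Spec (CommRingCat.of k))] [Y.Over (Spec (CommRingCat.of k))]
    [IsIntegral X] [IsSeparated (X ↘ (Spec (CommRingCat.of k)))] [LocallyOfFiniteType (X ↘ (Spec (CommRingCat.of k)))] [QuasiCompact (X ↘ (Spec (CommRingCat.of k)))]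
    [IsIntegral Y] [IsSeparated (Y ↘ (Spec (CommRingCat.of k)))] [LocallyOfFiniteType (Y ↘ (Spec (CommRingCat.of k)))] [QuasiCompact (Y ↘ (Spec (CommRingCat.of k)))] (hY : ∀ y : Y, IsIntegrallyClosed (Y.presheaf.stalk y))
    (f : X ⟶ Y) (hf : f ≫ (Y ↘ (Spec (CommRingCat.of k))) = (X ↘ (Spec (CommRingCat.of k)))) [IsProper f]
    (hbir : ∃ V : Y.Opens, (V : Set Y).Nonempty ∧ IsIso (f ∣_ V))
    (y : Y) (hy : ringKrullDim (Y.presheaf.stalk y) ≤ 1) :
    ∃ V : Y.Opens, y ∈ V ∧ IsIso (f ∣_ V) := by
  classical
  obtain ⟨W, hW, hfW⟩ := hbir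
  have hLN : IsLocallyNoetherian Y :=
    LocallyOfFiniteType.isLocallyNoetherian (Y ↘ (Spec (CommRingCat.of k)))
  have hC : CompactSpace Y := QuasiCompact.compactSpace_of_compactSpace (Y ↘ (Spec (CommRingCat.of k)))
  have hNoe : IsNoetherian Y := {}
  haveI := hfW
  -- the generic point of X lies over W
  have hne : Nonempty (f ⁻¹ᵁ W : X.Opens) := by
    obtain ⟨w, hw⟩ := hW
    let e := TopCat.homeoOfIso (asIso (f ∣_ W).base)
    exact ⟨e.symm ⟨w, hw⟩⟩
  have hη : genericPoint X ∈ f ⁻¹ᵁ W :=
    ((genericPoint_spec X).mem_open_set_iff (f ⁻¹ᵁ W).isOpen).mpr (by simpa using hne)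
  let η' : ((f ⁻¹ᵁ W : X.Opens) : Scheme.{u}) := ⟨genericPoint X, hη⟩
  have hbir' : IsIso (f.stalkMap (genericPoint X)) := by
    have h1 : IsIso ((f ∣_ W).stalkMap η') := inferInstance
    have h2 := (MorphismProperty.isomorphisms _).arrow_mk_iso_iff (morphismRestrictStalkMap f W η')
    exact h2.mp h1
  -- f is surjective
  have hsurj : Function.Surjective f := by
    intro c
    have hcl : IsClosed (Set.range f) := f.isClosedMap.isClosed_range
    have hWsub : (W : Set Y) ⊆ Set.range f := by
      intro w hw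
      let e := TopCat.homeoOfIso (asIso (f ∣_ W).base)
      refine ⟨(e.symm ⟨w, hw⟩).1, ?_⟩
      have h1 : ((f ∣_ W) (e.symm ⟨w, hw⟩)).1 = f (e.symm ⟨w, hw⟩).1 :=
        morphismRestrict_base_coe f W _
      have h2 : (f ∣_ W) (e.symm ⟨w, hw⟩) = ⟨w, hw⟩ := e.apply_symm_apply ⟨w, hw⟩
      rw [← h1, h2]
    have hdense : Dense (W : Set Y) := W.isOpen.dense hW
    exact (closure_minimal hWsub hcl) (hdense c)
  obtain ⟨x, rfl⟩ := hsurj y
  haveI : IsIntegrallyClosed (Y.presheaf.stalk (f x)) := hY (f x)
  haveI : ValuationRing (Y.presheaf.stalk (f x)) :=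
    Groth.Agent.Lib.Helper61.ValDominate.valuationRing_of_dim_le_one _ hy
  have hs : Function.Surjective (f.stalkMap x).hom :=
    Groth.Agent.Lib.Helper61.ValDominate.surjective_of_valuationRing (f.stalkMap x).hom
      (Groth.Agent.Lib.Helper61.ValDominate.exists_stalkMap_mul_eq f hbir' x)
  have hq : f.QuasiFiniteAt x :=
    RingHom.QuasiFinite.of_finite (RingHom.Finite.of_surjective _ hs)
  exact Groth.Agent.S1655.result f W hW hfW (f x) (hY (f x)) x rfl hq

end Groth.Agent.S14523
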