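import Groth.Statements.S14536
import Groth.Agent.Lib.Helper23.AffGrpHopf
import Groth.Agent.Lib.Helper23.HopfPointsSurj

set_option autoImplicit false
universe u
open CategoryTheory MonoidalCategory CartesianMonoidalCategory MonObj GrpObj AlgebraicGeometry
open PrincBund

namespace Groth.Agent.S14536

/-- Let k be an algebraically closed field and h : G → G' a homomorphism of affine group schemes over k
(not necessarily of finite type) which is surjective on underlying spaces. Then h is surjective on
k-points: every k-point of G' is the image of a k-point of G. -/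
theorem result (k : Type u) [Field k] [IsAlgClosed k]
    (G G' : Over (Spec (CommRingCat.of k))) [GrpObj G] [GrpObj G'] [IsAffine G.left] [IsAffine G'.left]
    (h : G ⟶ G') [IsMonHom h] (hs : Surjective h.left) (x : 𝟙_ (Over (Spec (CommRingCat.of k))) ⟶ G') :
    ∃ g : 𝟙_ (Over (Spec (CommRingCat.of k))) ⟶ G, g ≫ h = x := by
  open Groth.Agent.Lib.Helper23.AffGrpHopf in
  obtain ⟨A, A', _, _, _, _, φ, a, a', ha, ha', hcomm⟩ := exists_model_hom h
  have hleft : Spec.map (CommRingCat.ofHom (φ : A' →+* A)) = a.hom ≫ h.left ≫ a'.inv := by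
    rw [← Category.assoc, hcomm, Category.assoc, a'.hom_inv_id, Category.comp_id]
  have hsurj : Surjective (Spec.map (CommRingCat.ofHom (φ : A' →+* A))) := by
    rw [hleft]; infer_instance
  have hker : ∀ y : A', φ y = 0 → IsNilpotent y := by
    intro y hy
    rw [← mem_nilradical, nilradical_eq_sInf, Ideal.mem_sInf]
    intro p hp
    obtain ⟨q, hq⟩ := hsurj.surj (⟨p, hp⟩ : PrimeSpectrum A')
    have : y ∈ (PrimeSpectrum.comap (φ : A' →+* A) q).asIdeal := by
      show φ y ∈ q.asIdeal
      rw [hy]; exact zero_mem _
    have hq' : PrimeSpectrum.comap (φ : A' →+* A) q = ⟨p, hp⟩ := hq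
    rw [hq'] at this
    exact this
  -- the point of G'
  let z : A' →ₐ[k] k := algHomOfPoint G' a' ha' x
  obtain ⟨g, hg⟩ := Groth.Agent.Lib.Helper23.HopfPts.exists_point_comp_eq (k := k) φ hker z
  refine ⟨pointOfModel G a ha g, ?_⟩
  apply Over.OverMorphism.ext
  rw [Over.comp_left, pointOfModel_left, Category.assoc, hcomm, ← Category.assoc,
    ← spec_map_algHomOfPoint G' a' ha' x, ← Spec.map_comp]
  congr 2
  ext y
  exact hg y

end Groth.Agent.S14536
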