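import Groth.Statements.S14537
import Groth.Agent.Lib.Helper23.AffGrpHopf
import Groth.Agent.Lib.Helper23.HopfPointsSurj

set_option autoImplicit false
universe u
open CategoryTheory MonoidalCategory CartesianMonoidalCategory MonObj GrpObj AlgebraicGeometry
open PrincBund

namespace Groth.Agent.S14537

/-- Let k be an algebraically closed field and G an affine group scheme over k, not necessarily of
finite type. Then the set of k-rational points of G is dense in the underlying space of G. -/
theorem result (k : Type u) [Field k] [IsAlgClosed k]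
    (G : Over (Spec (CommRingCat.of k))) [GrpObj G] [IsAffine G.left] :
    Dense {x : ↥G.left | ∃ g : 𝟙_ (Over (Spec (CommRingCat.of k))) ⟶ G, g.left.base (IsLocalRing.closedPoint k) = x} := by
  open Groth.Agent.Lib.Helper23.AffGrpHopf in
  obtain ⟨A, _, _, a, ha⟩ := exists_model G
  rw [dense_iff_inter_open]
  intro U hU hUne
  -- pull back to the prime spectrum
  let V : Set (PrimeSpectrum A) := a.hom.base ⁻¹' U
  have hV : IsOpen V := hU.preimage a.hom.base.hom.continuous
  have hVne : V.Nonempty := by
    obtain ⟨u, hu⟩ := hUne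
    obtain ⟨v, hv⟩ := a.hom.homeomorph.surjective u
    exact ⟨v, by show a.hom.base v ∈ U; rw [show a.hom.base v = u from hv]; exact hu⟩
  obtain ⟨p, hp⟩ := hVne
  obtain ⟨W, ⟨f, rfl⟩, hpW, hWV⟩ :=
    PrimeSpectrum.isTopologicalBasis_basic_opens.exists_subset_of_mem_open hp hV
  have hfp : f ∉ p.asIdeal := hpW
  have hnil : ¬ IsNilpotent f := by
    rintro ⟨n, hn⟩
    apply hfp
    have : f ^ n ∈ p.asIdeal := by rw [hn]; exact zero_mem _
    exact p.isPrime.mem_of_pow_mem n this
  obtain ⟨g, hg⟩ := Groth.Agent.Lib.Helper23.HopfPts.exists_point_ne_zero_of_not_isNilpotent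
    (k := k) f hnil
  let q : PrimeSpectrum A :=
    (Spec.map (CommRingCat.ofHom g.toRingHom)).base (IsLocalRing.closedPoint k)
  have hq : q ∈ (PrimeSpectrum.basicOpen f : Set (PrimeSpectrum A)) := by
    show f ∉ q.asIdeal
    intro hmem
    have h1 : g f ∈ (IsLocalRing.closedPoint k).asIdeal := hmem
    have h2 : g f ∈ IsLocalRing.maximalIdeal k := h1
    rw [IsLocalRing.mem_maximalIdeal, mem_nonunits_iff] at h2
    exact h2 (isUnit_iff_ne_zero.2 hg)
  refine ⟨a.hom.base q, hWV hq, pointOfModel G a ha g, ?_⟩
  rw [pointOfModel_left]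
  rfl

end Groth.Agent.S14537
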