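import Groth.Statements.S14577
import Groth.Agent.Lib.Helper60.AntiAffRigidity

set_option autoImplicit false
universe u
open CategoryTheory MonoidalCategory CartesianMonoidalCategory MonObj GrpObj AlgebraicGeometry CategoryTheory.Limits
open AlgGrp

namespace Groth.Agent.S14577

/-- Let k be a field, X a quasi-compact separated k-scheme with O(X) = k, Y a separated, reduced and
irreducible locally Noetherian k-scheme, Z a separated k-scheme, and x₀, y₀ rational points of X, Y.
If a k-morphism f : X × Y → Z satisfies f(x, y₀) = f(x₀, y₀) identically (as morphisms from X), then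
f(x, y) = f(x₀, y) identically on X × Y. (The published statement does not ask Y to be reduced; the
final density step of its proof uses that the infinitesimal neighbourhoods of y₀ are schematically
dense in Y, which holds when Y is moreover reduced, so Y is taken reduced, hence integral, here.) -/
theorem result (k : Type u) [Field k]
    (X Y Z : Over (Spec (CommRingCat.of k))) [QuasiCompact X.hom] [IsSeparated X.hom]
    (hX : Function.Bijective ((Scheme.ΓSpecIso (CommRingCat.of k)).inv ≫ X.hom.appTop).hom)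
    [IsSeparated Y.hom] [IsLocallyNoetherian Y.left] [IrreducibleSpace ↥Y.left] [IsReduced Y.left] [IsSeparated Z.hom]
    (x₀ : 𝟙_ (Over (Spec (CommRingCat.of k))) ⟶ X) (y₀ : 𝟙_ (Over (Spec (CommRingCat.of k))) ⟶ Y) (f : X ⊗ Y ⟶ Z)
    (hf : (X ◁ y₀) ≫ f = toUnit _ ≫ lift x₀ y₀ ≫ f) :
    f = snd X Y ≫ lift (toUnit Y ≫ x₀) (𝟙 Y) ≫ f := by
  have hy₀ : y₀.left ≫ Y.hom = 𝟙 _ := Over.w y₀
  have hφ : f.left ≫ Z.hom = Limits.pullback.snd X.hom Y.hom ≫ Y.hom := by
    have h : f.left ≫ Z.hom = Limits.pullback.fst X.hom Y.hom ≫ X.hom := Over.w f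
    rw [h, Limits.pullback.condition]
  have hj₁f : (lift (𝟙 X) (toUnit X ≫ y₀)).left ≫ Limits.pullback.fst X.hom Y.hom = 𝟙 X.left :=
    congrArg (fun g => g.left) (lift_fst (𝟙 X) (toUnit X ≫ y₀))
  have hj₁s : (lift (𝟙 X) (toUnit X ≫ y₀)).left ≫ Limits.pullback.snd X.hom Y.hom
      = X.hom ≫ y₀.left :=
    congrArg (fun g => g.left) (lift_snd (𝟙 X) (toUnit X ≫ y₀))
  have hσs : (lift (toUnit Y ≫ x₀) (𝟙 Y)).left ≫ Limits.pullback.snd X.hom Y.hom = 𝟙 Y.left :=
    congrArg (fun g => g.left) (lift_snd (toUnit Y ≫ x₀) (𝟙 Y))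
  have hj : lift (𝟙 X) (toUnit X ≫ y₀) = lift (𝟙 X) (toUnit X) ≫ (X ◁ y₀) := by
    apply CartesianMonoidalCategory.hom_ext
    · rw [lift_fst, Category.assoc, whiskerLeft_fst, lift_fst]
    · rw [lift_snd, Category.assoc, whiskerLeft_snd, lift_snd_assoc]
  have hv : x₀ ≫ lift (𝟙 X) (toUnit X ≫ y₀) = lift x₀ y₀ := by
    apply CartesianMonoidalCategory.hom_ext
    · rw [Category.assoc, lift_fst, lift_fst, Category.comp_id]
    · rw [Category.assoc, lift_snd, lift_snd, ← Category.assoc,
        toUnit_unique (x₀ ≫ toUnit X) (𝟙 _), Category.id_comp]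
  have hconst' : lift (𝟙 X) (toUnit X ≫ y₀) ≫ f =
      toUnit X ≫ x₀ ≫ lift (𝟙 X) (toUnit X ≫ y₀) ≫ f := by
    rw [reassoc_of% hv, hj, Category.assoc, hf, ← Category.assoc]
    congr 1
    exact toUnit_unique _ _
  have hconst : (lift (𝟙 X) (toUnit X ≫ y₀)).left ≫ f.left =
      X.hom ≫ x₀.left ≫ (lift (𝟙 X) (toUnit X ≫ y₀)).left ≫ f.left :=
    congrArg (fun g => g.left) hconst'
  haveI : IsIntegral Y.left := isIntegral_of_irreducibleSpace_of_isReduced Y.left
  have key := Groth.Agent.Lib.Helper60.AntiAffRigidity.rigidity_antiAffine X.hom Y.hom hX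
    x₀.left y₀.left hy₀ f.left _ hj₁f hj₁s _ hσs hconst Z.hom hφ
  apply Over.OverMorphism.ext
  exact key

end Groth.Agent.S14577
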