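import Groth.Statements.S1458
import Mathlib.RingTheory.Finiteness.ModuleFinitePresentation
import Mathlib.LinearAlgebra.TensorProduct.Pi
import Mathlib.LinearAlgebra.TensorProduct.RightExactness
import Mathlib.RingTheory.FinitePresentation
import Mathlib.Algebra.Module.FinitePresentation

set_option autoImplicit false
universe u
open FlatMor

namespace Groth.Agent.S1458

section
open TensorProduct
variable (A : Type u) {B : Type u} [CommRing A] [CommRing B] [Algebra A B]
variable {n m : ℕ} (b : Fin n → B) (k : Fin m → (Fin n → A))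

/-- The element `∑ b i ⊗ x i`. -/
noncomputable def E (A' : Type u) [CommRing A'] [Algebra A A'] (x : Fin n → A') : B ⊗[A] A' :=
  ∑ i, b i ⊗ₜ[A] x i

/-- The quadratic expression governing idempotency. -/
noncomputable def q (c : Fin n → Fin n → Fin n → A) (R : Type u) [CommRing R] [Algebra A R]
    (x : Fin n → R) (l : Fin n) : R :=
  (∑ i, ∑ j, c i j l • (x i * x j)) - x l

lemma q_map (c : Fin n → Fin n → Fin n → A) {R R' : Type u} [CommRing R] [Algebra A R]
    [CommRing R'] [Algebra A R'] (φ : R →ₐ[A] R') (x : Fin n → R) (l : Fin n) :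
    φ (q A c R x l) = q A c R' (fun i => φ (x i)) l := by
  simp [q, map_sum, map_sub, map_smul, map_mul]

lemma exists_E (hb : Submodule.span A (Set.range b) = ⊤) (A' : Type u) [CommRing A'] [Algebra A A']
    (e : B ⊗[A] A') : ∃ x, E A b A' x = e := by
  induction e using TensorProduct.induction_on with
  | zero => exact ⟨0, by simp [E]⟩
  | tmul z a =>
    have hz : z ∈ Submodule.span A (Set.range b) := hb ▸ Submodule.mem_top
    obtain ⟨c, rfl⟩ := (Submodule.mem_span_range_iff_exists_fun A).mp hz
    refine ⟨fun i => c i • a, ?_⟩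
    simp [E, TensorProduct.sum_tmul, TensorProduct.smul_tmul]
  | add e1 e2 h1 h2 =>
    obtain ⟨x1, rfl⟩ := h1
    obtain ⟨x2, rfl⟩ := h2
    exact ⟨x1 + x2, by simp [E, TensorProduct.tmul_add, Finset.sum_add_distrib]⟩

lemma E_mul_self (c : Fin n → Fin n → Fin n → A) (hc : ∀ i j, b i * b j = ∑ l, c i j l • b l)
    (A' : Type u) [CommRing A'] [Algebra A A'] (x : Fin n → A') :
    E A b A' x * E A b A' x - E A b A' x = E A b A' (q A c A' x) := by
  unfold E q
  rw [Finset.sum_mul_sum]
  simp only [Algebra.TensorProduct.tmul_mul_tmul, hc, TensorProduct.sum_tmul,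
    TensorProduct.smul_tmul, TensorProduct.tmul_sub, Finset.sum_sub_distrib, TensorProduct.tmul_sum]
  congr 1
  calc ∑ i, ∑ j, ∑ l, b l ⊗ₜ[A] (c i j l • (x i * x j))
      = ∑ i, ∑ l, ∑ j, b l ⊗ₜ[A] (c i j l • (x i * x j)) := by
        refine Finset.sum_congr rfl fun i _ => ?_
        rw [Finset.sum_comm]
    _ = ∑ l, ∑ i, ∑ j, b l ⊗ₜ[A] (c i j l • (x i * x j)) := Finset.sum_comm

lemma E_eq_zero_of (hk : ∀ j, ∑ l, k j l • b l = 0) (A' : Type u) [CommRing A'] [Algebra A A']
    (y : Fin m → A') : E A b A' (fun l => ∑ j, k j l • y j) = 0 := by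
  unfold E
  simp only [TensorProduct.tmul_sum, TensorProduct.tmul_smul]
  rw [Finset.sum_comm]
  refine Finset.sum_eq_zero fun j _ => ?_
  have : ∑ l, k j l • (b l ⊗ₜ[A] y j) = (∑ l, k j l • b l) ⊗ₜ[A] y j := by
    simp [TensorProduct.sum_tmul, TensorProduct.smul_tmul']
  rw [this, hk, zero_tmul]

lemma exists_of_E_eq_zero (hb : Submodule.span A (Set.range b) = ⊤)
    (hK : Submodule.span A (Set.range k) = LinearMap.ker (Fintype.linearCombination A b))
    (A' : Type u) [CommRing A'] [Algebra A A'] (x : Fin n → A') (hx : E A b A' x = 0) :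
    ∃ y : Fin m → A', ∀ l, x l = ∑ j, k j l • y j := by
  classical
  set π := Fintype.linearCombination A b with hπ
  set κ := Fintype.linearCombination A k with hκ
  have hsurj : Function.Surjective π :=
    (span_range_eq_top_iff_surjective_fintypeLinearCombination A b).mp hb
  have hex : Function.Exact κ π := by
    rw [LinearMap.exact_iff, hκ, Fintype.range_linearCombination, hK]
  have hex' := lTensor_exact A' hex hsurj
  let Tn := TensorProduct.piScalarRight A A A' (Fin n)
  let Tm := TensorProduct.piScalarRight A A A' (Fin m)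
  have hTn : ∀ x : Fin n → A', Tn.symm x = ∑ l, x l ⊗ₜ[A] (Pi.single l (1 : A) : Fin n → A) := by
    intro x
    conv_lhs => rw [← Finset.univ_sum_single x]
    rw [map_sum]
    simp [Tn]
  have hTm : ∀ y : Fin m → A', Tm.symm y = ∑ j, y j ⊗ₜ[A] (Pi.single j (1 : A) : Fin m → A) := by
    intro y
    conv_lhs => rw [← Finset.univ_sum_single y]
    rw [map_sum]
    simp [Tm]
  have h1 : (π.lTensor A') (Tn.symm x) = 0 := by
    rw [hTn, map_sum]
    have : (TensorProduct.comm A B A') (E A b A' x) = 0 := by rw [hx, map_zero]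
    simpa [E, hπ] using this
  obtain ⟨w, hw⟩ := (hex' _).mp h1
  refine ⟨Tm w, fun l => ?_⟩
  have h2 : x = Tn ((κ.lTensor A') (Tm.symm (Tm w))) := by
    rw [LinearEquiv.symm_apply_apply, hw, LinearEquiv.apply_symm_apply]
  rw [hTm, map_sum, map_sum] at h2
  have h3 := congrFun h2 l
  rw [h3, Finset.sum_apply]
  refine Finset.sum_congr rfl fun j _ => ?_
  simp [Tn, hκ]

end


open TensorProduct in
/-- Let A → B be a finite ring map of finite presentation. Then there are a finitely presented A-algebra
A_u and an idempotent e_u of B ⊗_A A_u such that for every A-algebra A' and every idempotent e of B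
⊗_A A' there is an A-algebra map A_u → A' whose induced map B ⊗ A_u → B ⊗ A' sends e_u to e. -/
theorem result {A B : Type u} [CommRing A] [CommRing B] [Algebra A B] [Module.Finite A B] [Algebra.FinitePresentation A B] :
    ∃ (Au : Type u) (_ : CommRing Au) (_ : Algebra A Au) (eu : B ⊗[A] Au), Algebra.FinitePresentation A Au ∧ IsIdempotentElem eu ∧
      ∀ (A' : Type u) [CommRing A'] [Algebra A A'] (e : B ⊗[A] A'), IsIdempotentElem e →
        ∃ φ : Au →ₐ[A] A', Algebra.TensorProduct.map (AlgHom.id A B) φ eu = e := by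
  classical
  have hfp : Module.FinitePresentation A B := Module.FinitePresentation.of_finite_of_finitePresentation A B
  obtain ⟨n, b, hb⟩ := Module.Finite.exists_fin (R := A) (M := B)
  have hsurj : Function.Surjective (Fintype.linearCombination A b) :=
    (span_range_eq_top_iff_surjective_fintypeLinearCombination A b).mp hb
  obtain ⟨m, k, hK⟩ := Submodule.fg_iff_exists_fin_generating_family.mp
    (Module.FinitePresentation.fg_ker (Fintype.linearCombination A b) hsurj)
  have hk : ∀ j, ∑ l, k j l • b l = 0 := by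
    intro j
    have : k j ∈ LinearMap.ker (Fintype.linearCombination A b) := by
      rw [← hK]; exact Submodule.subset_span ⟨j, rfl⟩
    simpa [Fintype.linearCombination_apply] using this
  have hc' : ∀ i j, ∃ c : Fin n → A, b i * b j = ∑ l, c l • b l := by
    intro i j
    have hz : b i * b j ∈ Submodule.span A (Set.range b) := hb ▸ Submodule.mem_top
    obtain ⟨c, hc⟩ := (Submodule.mem_span_range_iff_exists_fun A).mp hz
    exact ⟨c, hc.symm⟩
  choose c hc using hc'
  -- the universal ring
  let P := MvPolynomial (Fin n ⊕ Fin m) A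
  let r : Fin n → P := fun l =>
    q A c P (fun i => MvPolynomial.X (Sum.inl i)) l - ∑ j, k j l • (MvPolynomial.X (Sum.inr j) : P)
  let J : Ideal P := Ideal.span (Set.range r)
  let xu : Fin n → P ⧸ J := fun i => Ideal.Quotient.mk J (MvPolynomial.X (Sum.inl i))
  let yu : Fin m → P ⧸ J := fun j => Ideal.Quotient.mk J (MvPolynomial.X (Sum.inr j))
  have hJ : J.FG := Submodule.fg_span (Set.finite_range r)
  have hqu : ∀ l, q A c (P ⧸ J) xu l = ∑ j, k j l • yu j := by
    intro l
    have h0 : Ideal.Quotient.mkₐ A J (r l) = 0 := by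
      rw [Ideal.Quotient.mkₐ_eq_mk, Ideal.Quotient.eq_zero_iff_mem]
      exact Ideal.subset_span ⟨l, rfl⟩
    simp only [r] at h0
    rw [map_sub, q_map, map_sum, sub_eq_zero] at h0
    simpa [xu, yu, map_smul] using h0
  refine ⟨P ⧸ J, inferInstance, inferInstance, E A b (P ⧸ J) xu, ?_, ?_, ?_⟩
  · exact Algebra.FinitePresentation.quotient hJ
  · have h1 := E_mul_self A b c hc (P ⧸ J) xu
    have h2 : E A b (P ⧸ J) (q A c (P ⧸ J) xu) = 0 := by
      have : q A c (P ⧸ J) xu = fun l => ∑ j, k j l • yu j := funext hqu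
      rw [this]
      exact E_eq_zero_of A b k hk (P ⧸ J) yu
    rw [h2, sub_eq_zero] at h1
    exact h1
  · intro A' _ _ e he
    obtain ⟨x, rfl⟩ := exists_E A b hb A' e
    have h1 := E_mul_self A b c hc A' x
    rw [he.eq, sub_self] at h1
    obtain ⟨y, hy⟩ := exists_of_E_eq_zero A b k hb hK A' (q A c A' x) h1.symm
    let ψ : P →ₐ[A] A' := MvPolynomial.aeval (Sum.elim x y)
    have hψ : ∀ a ∈ J, ψ a = 0 := by
      intro a ha
      have : J ≤ RingHom.ker ψ.toRingHom := by
        rw [Ideal.span_le]
        rintro _ ⟨l, rfl⟩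
        show ψ (r l) = 0
        simp only [r]
        rw [map_sub, q_map, map_sum, sub_eq_zero]
        have e1 : (fun i => ψ (MvPolynomial.X (Sum.inl i) : P)) = x := by
          funext i; exact MvPolynomial.aeval_X (Sum.elim x y) (Sum.inl i)
        rw [e1, hy l]
        refine Finset.sum_congr rfl fun j _ => ?_
        rw [map_smul]
        congr 1
        exact (MvPolynomial.aeval_X (Sum.elim x y) (Sum.inr j)).symm
      exact this ha
    refine ⟨Ideal.Quotient.liftₐ J ψ hψ, ?_⟩
    simp only [E, xu, map_sum, Algebra.TensorProduct.map_tmul, AlgHom.coe_id, id_eq]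
    refine Finset.sum_congr rfl fun i _ => ?_
    congr 1
    exact MvPolynomial.aeval_X (Sum.elim x y) (Sum.inl i)

end Groth.Agent.S1458
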