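import Groth.Statements.S19519
import Groth.Agent.Lib.Helper73.OrbitLC
-- import your own Groth.Agent.* helpers here

set_option autoImplicit false
universe u
open CategoryTheory MonoidalCategory CartesianMonoidalCategory MonObj GrpObj AlgebraicGeometry
open AlgGrp

namespace Groth.Agent.S19519

/-- Let k be an algebraically closed field, G a smooth k-group scheme of finite type acting on a
k-scheme X of finite type, and x a rational point of X. If the orbit of x — the image of the orbit
map G → X, g ↦ g · x, with its subspace topology — has Krull dimension at most that of the orbit of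
every rational point of X, then the orbit of x is closed in X. (The first assertions of the lemma,
local closedness and smoothness of orbits over any field, are not restated here.) -/
theorem result (k : Type u) [Field k] [IsAlgClosed k]
    (G X : Over (Spec (CommRingCat.of k))) [GrpObj G] [Smooth G.hom] [QuasiCompact G.hom]
    [LocallyOfFiniteType X.hom] [QuasiCompact X.hom] (a : AlgGrp.Action G X)
    (x : 𝟙_ (Over (Spec (CommRingCat.of k))) ⟶ X)
    (hmin : ∀ y : 𝟙_ (Over (Spec (CommRingCat.of k))) ⟶ X,
      topologicalKrullDim (Set.range (a.orbitMap x).left.base) ≤ topologicalKrullDim (Set.range (a.orbitMap y).left.base)) :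
    IsClosed (Set.range (a.orbitMap x).left.base) := by
  have hmain := Groth.Agent.Lib.Helper73.OrbitLC.orbit_main a x
  by_contra hnc
  have hne : (closure (Groth.Agent.Lib.Helper73.OrbitLC.orbit a x) \
      Groth.Agent.Lib.Helper73.OrbitLC.orbit a x).Nonempty := by
    rw [Set.nonempty_iff_ne_empty]
    intro h
    apply hnc
    have h1 : closure (Groth.Agent.Lib.Helper73.OrbitLC.orbit a x) ⊆
        Groth.Agent.Lib.Helper73.OrbitLC.orbit a x := Set.sdiff_eq_empty.mp h
    exact (closure_subset_iff_isClosed.mp h1)
  have : JacobsonSpace X.left := LocallyOfFiniteType.jacobsonSpace X.hom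
  obtain ⟨y0, hy0, hy0c⟩ := nonempty_inter_closedPoints hne hmain.2.1.isLocallyClosed
  have hsub := Groth.Agent.Lib.Helper73.OrbitLC.orbit_subset_boundary a x
    (Over.homMk (pointOfClosedPoint X.hom y0 hy0c) (pointOfClosedPoint_comp _ _ _))
    (by
      have : (pointOfClosedPoint X.hom y0 hy0c) (IsLocalRing.closedPoint k) = y0 :=
        pointOfClosedPoint_apply _ _ _ _
      exact this.symm ▸ hy0)
  have h1 := (Topology.IsEmbedding.inclusion hsub).topologicalKrullDim_le
  have h2 := hmin (Over.homMk (pointOfClosedPoint X.hom y0 hy0c) (pointOfClosedPoint_comp _ _ _))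
  exact lt_irrefl _ (lt_of_le_of_lt (h2.trans h1) hmain.2.2)

end Groth.Agent.S19519
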