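import Groth.Statements.S14586
import Groth.Agent.S19519
-- import your own Groth.Agent.* helpers here

set_option autoImplicit false
universe u
open CategoryTheory MonoidalCategory CartesianMonoidalCategory MonObj GrpObj AlgebraicGeometry CategoryTheory.Limits
open AlgGrp

namespace Groth.Agent.S14586

/-- Let k be an algebraically closed field, G a smooth k-group scheme of finite type and X a non-empty
separated k-scheme of finite type with an action of G. Then there is a rational point x of X whose
orbit, the image of the orbit map g ↦ g · x, is closed in X. -/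
theorem result (k : Type u) [Field k] [IsAlgClosed k]
    (G X : Over (Spec (CommRingCat.of k))) [GrpObj G] [Smooth G.hom] [QuasiCompact G.hom]
    [LocallyOfFiniteType X.hom] [QuasiCompact X.hom] [IsSeparated X.hom] [Nonempty ↥X.left]
    (a : AlgGrp.Action G X) :
    ∃ x : 𝟙_ (Over (Spec (CommRingCat.of k))) ⟶ X, IsClosed (Set.range ⇑(a.orbitMap x).left.base) := by
  have : JacobsonSpace X.left := LocallyOfFiniteType.jacobsonSpace X.hom
  obtain ⟨y0, -, hy0c⟩ := nonempty_inter_closedPoints (Set.univ_nonempty (α := X.left))
    isClosed_univ.isLocallyClosed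
  have hne : (Set.range fun y : 𝟙_ (Over (Spec (CommRingCat.of k))) ⟶ X =>
      topologicalKrullDim (Set.range (a.orbitMap y).left.base)).Nonempty :=
    ⟨_, ⟨Over.homMk (pointOfClosedPoint X.hom y0 hy0c) (pointOfClosedPoint_comp _ _ _), rfl⟩⟩
  obtain ⟨_, ⟨x, rfl⟩, hmin⟩ := wellFounded_lt.has_min _ hne
  refine ⟨x, Groth.Agent.S19519.result k G X a x (fun y => ?_)⟩
  exact not_lt.mp (hmin _ ⟨y, rfl⟩)

end Groth.Agent.S14586
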