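import Groth.Statements.S1459
import Groth.Agent.Lib.Helper35.IterSliceBC

set_option autoImplicit false
universe u
open FlatMor

namespace Groth.Agent.S1459

section Helpers

set_option linter.style.haveILetI false
set_option maxHeartbeats 800000

open AlgebraicGeometry CategoryTheory Limits IsLocalRing RingTheory.Sequence
open Groth.Agent.Lib.Helper35

theorem aux {X S : Scheme.{u}} (f : X ⟶ S) [LocallyOfFinitePresentation f] (x : X)
    (hflat : (f.stalkMap x).hom.Flat) (hs : List ↑(X.presheaf.stalk x))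
    (hreg : RingTheory.Sequence.IsRegular (↑(X.presheaf.stalk x) ⧸ Ideal.map (f.stalkMap x).hom (IsLocalRing.maximalIdeal ↑(S.presheaf.stalk (f x))))
      (hs.map (Ideal.Quotient.mk (Ideal.map (f.stalkMap x).hom (IsLocalRing.maximalIdeal ↑(S.presheaf.stalk (f x))))))) :
    ∃ (U : X.Opens) (hU : IsAffineOpen U) (hx : x ∈ U) (hs' : List Γ(X, U)), hs'.map (X.presheaf.germ U x hx) = hs ∧
      Mor2.IsRegularClosedImmersion (Spec.map (CommRingCat.ofHom (Ideal.Quotient.mk (Ideal.ofList hs'))) ≫ hU.isoSpec.inv) ∧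
      x ∈ Set.range ⇑(Spec.map (CommRingCat.ofHom (Ideal.Quotient.mk (Ideal.ofList hs'))) ≫ hU.fromSpec) ∧
      Flat (Spec.map (CommRingCat.ofHom (Ideal.Quotient.mk (Ideal.ofList hs'))) ≫ hU.fromSpec ≫ f) ∧ LocallyOfFinitePresentation (Spec.map (CommRingCat.ofHom (Ideal.Quotient.mk (Ideal.ofList hs'))) ≫ hU.fromSpec ≫ f) ∧
      ∀ (S' : Scheme.{u}) (g : S' ⟶ S), Mor2.IsRegularClosedImmersion
        (pullback.map (Spec.map (CommRingCat.ofHom (Ideal.Quotient.mk (Ideal.ofList hs'))) ≫ hU.isoSpec.inv ≫ U.ι ≫ f) g (U.ι ≫ f) g (Spec.map (CommRingCat.ofHom (Ideal.Quotient.mk (Ideal.ofList hs'))) ≫ hU.isoSpec.inv) (𝟙 S') (𝟙 S)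
          (Category.comp_id _) ((Category.comp_id g).trans (Category.id_comp g).symm)) := by
  obtain ⟨I, hI⟩ : ∃ I : Ideal (X.presheaf.stalk x),
      I = Ideal.map (f.stalkMap x).hom (maximalIdeal (S.presheaf.stalk (f x))) := ⟨_, rfl⟩
  rw [← hI] at hreg
  have hmem : ∀ h ∈ hs, h ∈ maximalIdeal (X.presheaf.stalk x) := by
    intro h hh
    by_contra hnot
    have hu : IsUnit h := by
      by_contra hnu
      exact hnot ((IsLocalRing.mem_maximalIdeal _).2 hnu)
    apply hreg.2
    rw [smul_eq_mul, Ideal.mul_top]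
    symm
    apply Ideal.eq_top_of_isUnit_mem _ _ (hu.map (Ideal.Quotient.mk I))
    exact Ideal.subset_span (List.mem_map_of_mem hh)
  have hreg' : IsWeaklyRegular (X.presheaf.stalk x ⧸ I) hs :=
    (isWeaklyRegular_map_algebraMap_iff (X.presheaf.stalk x ⧸ I) (X.presheaf.stalk x ⧸ I) hs).1
      hreg.1
  rw [hI] at hreg'
  obtain ⟨V, hV, U, hU, hUV, hxU, gs, -, hgs, hwr, hgsq, hfl⟩ :=
    IterSliceScheme.exists_chart f x hflat hs hmem hreg' ⊤ trivial
  refine ⟨U, hU, hxU, gs, hgs,
    IterSliceScheme.isRegularClosedImmersion_chart hU gs hwr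
      (IterSliceScheme.ofList_ne_top hU gs x hxU hgsq),
    IterSliceScheme.mem_range_chart hU gs x hxU hgsq,
    IterSliceScheme.flat_chart f hU gs hV hUV (by
      have := hfl gs.length
      rwa [List.take_length] at this),
    IterSliceScheme.lfp_chart f hU gs, ?_⟩
  intro S' g
  exact IterSliceBC.isRegularClosedImmersion_pullback_map _ _ g _ (Category.assoc _ _ _).symm _ _
    (IterSliceBC.baseChange_chart f hV hU hUV gs hwr hfl g)

end Helpers

open AlgebraicGeometry CategoryTheory Limits in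
/-- Let f : X → S be locally of finite presentation and flat at x with image s, and let h_1, …, h_r be
elements of O_{X,x} whose images in O_{X,x} / m_s O_{X,x} form a regular sequence. Then there are an
affine open U ∋ x and sections on U with these germs such that the closed subscheme Z of U they cut
out is a regular closed immersion whose image contains x, Z → S is flat and locally of finite
presentation, and the base change of Z → U along any S' → S is again a regular closed immersion. -/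
theorem result {X S : Scheme.{u}} (f : X ⟶ S) [LocallyOfFinitePresentation f] (x : X)
    (hflat : (f.stalkMap x).hom.Flat) (hs : List ↑(X.presheaf.stalk x))
    (hreg : RingTheory.Sequence.IsRegular (↑(X.presheaf.stalk x) ⧸ Ideal.map (f.stalkMap x).hom (IsLocalRing.maximalIdeal ↑(S.presheaf.stalk (f x))))
      (hs.map (Ideal.Quotient.mk (Ideal.map (f.stalkMap x).hom (IsLocalRing.maximalIdeal ↑(S.presheaf.stalk (f x))))))) :
    ∃ (U : X.Opens) (hU : IsAffineOpen U) (hx : x ∈ U) (hs' : List Γ(X, U)), hs'.map (X.presheaf.germ U x hx) = hs ∧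
      Mor2.IsRegularClosedImmersion (Spec.map (CommRingCat.ofHom (Ideal.Quotient.mk (Ideal.ofList hs'))) ≫ hU.isoSpec.inv) ∧
      x ∈ Set.range ⇑(Spec.map (CommRingCat.ofHom (Ideal.Quotient.mk (Ideal.ofList hs'))) ≫ hU.fromSpec) ∧
      Flat (Spec.map (CommRingCat.ofHom (Ideal.Quotient.mk (Ideal.ofList hs'))) ≫ hU.fromSpec ≫ f) ∧ LocallyOfFinitePresentation (Spec.map (CommRingCat.ofHom (Ideal.Quotient.mk (Ideal.ofList hs'))) ≫ hU.fromSpec ≫ f) ∧
      ∀ (S' : Scheme.{u}) (g : S' ⟶ S), Mor2.IsRegularClosedImmersion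
        (pullback.map (Spec.map (CommRingCat.ofHom (Ideal.Quotient.mk (Ideal.ofList hs'))) ≫ hU.isoSpec.inv ≫ U.ι ≫ f) g (U.ι ≫ f) g (Spec.map (CommRingCat.ofHom (Ideal.Quotient.mk (Ideal.ofList hs'))) ≫ hU.isoSpec.inv) (𝟙 S') (𝟙 S)
          (Category.comp_id _) ((Category.comp_id g).trans (Category.id_comp g).symm)) := by
  exact aux f x hflat hs hreg

end Groth.Agent.S1459
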