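import Groth.Statements.S14596
import Mathlib
import Groth.Agent.S1865
import Groth.Agent.Lib.Helper23.GrpDominant
import Groth.Agent.Lib.Helper23.ReducedLift
import Groth.Agent.Lib.Helper23.NeutralFlat

set_option autoImplicit false
universe u
open CategoryTheory MonoidalCategory CartesianMonoidalCategory MonObj GrpObj AlgebraicGeometry CategoryTheory.Limits
open AlgGrp

namespace Groth.Agent.S14596

section Cat

variable {C : Type*} [Category C] [CartesianMonoidalCategory C]

theorem isPullback_unit_section (G H : C) (e : 𝟙_ C ⟶ G) :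
    IsPullback (lift (toUnit H ≫ e) (𝟙 H)) (toUnit H) (fst G H) e := by
  refine ⟨⟨lift_fst _ _⟩, ⟨PullbackCone.IsLimit.mk _ (fun s => s.fst ≫ snd G H) ?_ ?_ ?_⟩⟩
  · intro s
    apply CartesianMonoidalCategory.hom_ext
    · have h0 : (s.fst ≫ snd G H) ≫ toUnit H = s.snd := toUnit_unique _ _
      rw [Category.assoc, lift_fst, s.condition, ← Category.assoc, h0]
    · rw [Category.assoc, lift_snd, Category.comp_id]
  · intro s
    exact toUnit_unique _ _
  · intro s m h1 _
    have := congrArg (fun q => q ≫ snd G H) h1
    simpa using this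

end Cat

section Field

variable {k : Type u} [Field k]

/-- Over a field, the image under the second projection of an open subset of a fibre of the first
projection is open. -/
theorem isOpen_snd_image_fibre (Y Z : Over (Spec (CommRingCat.of k))) (E : Set ↥(Y ⊗ Z).left)
    (hE : IsOpen E) (y : Y.left) :
    IsOpen ((snd Y Z).left.base '' ((fst Y Z).left.base ⁻¹' {y} ∩ E)) := by
  have hfst : (fst Y Z).left = pullback.fst Y.hom Z.hom := rfl
  have hsnd : (snd Y Z).left = pullback.snd Y.hom Z.hom := rfl
  rw [hfst, hsnd]
  set f := pullback.fst Y.hom Z.hom with hf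
  let j := Y.left.fromSpecResidueField y
  have sqL : IsPullback (f.fiberι y) (f.fiberToSpecResidueField y) f j :=
    IsPullback.of_hasPullback f j
  have sqR : IsPullback (pullback.snd Y.hom Z.hom) f Z.hom Y.hom :=
    (IsPullback.of_hasPullback Y.hom Z.hom).flip
  have sq := sqL.paste_horiz sqR
  haveI : Subsingleton ↥(Spec (CommRingCat.of k)) :=
    inferInstanceAs (Subsingleton (PrimeSpectrum k))
  haveI huo : UniversallyOpen (j ≫ Y.hom) := inferInstance
  have huo2 : UniversallyOpen (f.fiberι y ≫ pullback.snd Y.hom Z.hom) :=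
    MorphismProperty.of_isPullback sq.flip huo
  have hopen : IsOpenMap (f.fiberι y ≫ pullback.snd Y.hom Z.hom).base :=
    (f.fiberι y ≫ pullback.snd Y.hom Z.hom).isOpenMap
  have hset : (pullback.snd Y.hom Z.hom).base '' (f.base ⁻¹' {y} ∩ E) =
      (f.fiberι y ≫ pullback.snd Y.hom Z.hom).base '' ((f.fiberι y).base ⁻¹' E) := by
    ext z
    constructor
    · rintro ⟨w, ⟨hw1, hw2⟩, rfl⟩
      have : w ∈ Set.range (f.fiberι y).base := by
        rw [Scheme.Hom.range_fiberι]; exact hw1
      obtain ⟨p, rfl⟩ := this
      exact ⟨p, hw2, rfl⟩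
    · rintro ⟨p, hp, rfl⟩
      refine ⟨(f.fiberι y).base p, ⟨?_, hp⟩, rfl⟩
      have : (f.fiberι y).base p ∈ Set.range (f.fiberι y).base := ⟨p, rfl⟩
      rw [Scheme.Hom.range_fiberι] at this
      exact this
  rw [hset]
  exact hopen _ (hE.preimage (f.fiberι y).continuous)

variable {G H X : Over (Spec (CommRingCat.of k))} [GrpObj G] [GrpObj H]

open Groth.Agent.Lib.Helper23.GrpDominant in
/-- Points of `G` with the same image as the unit point under the orbit map lie in `H`. -/
theorem mem_range_of_orbit_eq (i : H ⟶ G) (a : AlgGrp.Action G X)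
    (o : 𝟙_ (Over (Spec (CommRingCat.of k))) ⟶ X) (hq : AGF.IsQuotient i X a o)
    (t : ↥((𝟙_ (Over (Spec (CommRingCat.of k)))).left)) (g' : G.left)
    (hg' : (a.orbitMap o).left.base g' = (a.orbitMap o).left.base (η[G].left.base t)) :
    g' ∈ Set.range i.left.base := by
  obtain ⟨-, -, -, hpb⟩ := hq
  have sq : IsPullback (fst G H).left ((G ◁ i) ≫ μ[G]).left (a.orbitMap o).left (a.orbitMap o).left :=
    hpb.map (Over.forget _)
  obtain ⟨z, hz1, hz2⟩ := exists_preimage_of_isPullback sq (η[G].left.base t) g' hg'.symm
  have sq2 : IsPullback (lift (toUnit H ≫ η[G]) (𝟙 H)).left (toUnit H).left (fst G H).left η[G].left :=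
    (isPullback_unit_section G H η[G]).map (Over.forget _)
  obtain ⟨h₀, hh1, -⟩ := exists_preimage_of_isPullback sq2 z t hz1
  refine ⟨h₀, ?_⟩
  have e : lift (toUnit H ≫ η[G]) (𝟙 H) ≫ (G ◁ i) ≫ μ[G] = i := by
    have e1 : lift (toUnit H ≫ η[G]) (𝟙 H) ≫ (G ◁ i) = lift (toUnit H ≫ η[G]) i := by
      apply CartesianMonoidalCategory.hom_ext
      · rw [Category.assoc, whiskerLeft_fst, lift_fst, lift_fst]
      · rw [Category.assoc, whiskerLeft_snd, ← Category.assoc, lift_snd, lift_snd, Category.id_comp]
    rw [← Category.assoc, e1]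
    show (toUnit H ≫ η[G]) * i = i
    exact one_mul i
  have e2 : ((G ◁ i) ≫ μ[G]).left.base ((lift (toUnit H ≫ η[G]) (𝟙 H)).left.base h₀) = i.left.base h₀ :=
    congrArg (fun m => m.left.base h₀) e
  rw [← e2, hh1, hz2]

open Groth.Agent.Lib.Helper23.GrpDominant in
/-- If the image of `H` in `G` is open, the fibres of the orbit map `G ⟶ G/H` are open. -/
theorem isOpen_fibre (i : H ⟶ G) (a : AlgGrp.Action G X)
    (o : 𝟙_ (Over (Spec (CommRingCat.of k))) ⟶ X) (hq : AGF.IsQuotient i X a o)
    (hW : IsOpen (Set.range i.left.base)) (g : G.left) :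
    IsOpen ((a.orbitMap o).left.base ⁻¹' {(a.orbitMap o).left.base g}) := by
  obtain ⟨-, -, -, hpb⟩ := hq
  set π := a.orbitMap o with hπ
  have sq : IsPullback (fst G H).left ((G ◁ i) ≫ μ[G]).left π.left π.left :=
    hpb.map (Over.forget _)
  have sq3 : IsPullback (G ◁ i).left (snd G H).left (snd G G).left i.left :=
    (isPullback_whiskerLeft_snd G i).map (Over.forget _)
  let σ := Groth.Agent.S1865.shear G
  let E : Set ↥(G ⊗ G).left := (σ.inv ≫ snd G G).left.base ⁻¹' (Set.range i.left.base)
  have hE : IsOpen E := hW.preimage (σ.inv ≫ snd G G).left.continuous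
  have key : π.left.base ⁻¹' {π.left.base g} =
      (snd G G).left.base '' ((fst G G).left.base ⁻¹' {g} ∩ E) := by
    ext g'
    constructor
    · intro hg'
      have hg'' : π.left.base g = π.left.base g' := hg'.symm
      obtain ⟨z, hz1, hz2⟩ := exists_preimage_of_isPullback sq g g' hg''
      refine ⟨σ.hom.left.base ((G ◁ i).left.base z), ⟨?_, ?_⟩, ?_⟩
      · show (fst G G).left.base (σ.hom.left.base ((G ◁ i).left.base z)) = g
        have e : (G ◁ i) ≫ σ.hom ≫ fst G G = fst G H := by
          rw [Groth.Agent.S1865.shear_hom_fst, whiskerLeft_fst]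
        have e2 := congrArg (fun m => m.left.base z) e
        exact e2.trans hz1
      · show (σ.inv ≫ snd G G).left.base (σ.hom.left.base ((G ◁ i).left.base z)) ∈ Set.range i.left.base
        have e : (G ◁ i) ≫ σ.hom ≫ σ.inv ≫ snd G G = snd G H ≫ i := by
          rw [Iso.hom_inv_id_assoc, whiskerLeft_snd]
        have e2 : (σ.inv ≫ snd G G).left.base (σ.hom.left.base ((G ◁ i).left.base z)) =
            i.left.base ((snd G H).left.base z) := congrArg (fun m => m.left.base z) e
        rw [e2]
        exact ⟨_, rfl⟩
      · have e : (G ◁ i) ≫ σ.hom ≫ snd G G = (G ◁ i) ≫ μ[G] := by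
          rw [Groth.Agent.S1865.shear_hom_snd]
        have e2 := congrArg (fun m => m.left.base z) e
        exact e2.trans hz2
    · rintro ⟨v, ⟨hv1, hv2⟩, rfl⟩
      obtain ⟨h₁, hh₁⟩ := hv2
      obtain ⟨z, hz1, -⟩ := exists_preimage_of_isPullback sq3 (σ.inv.left.base v) h₁ hh₁.symm
      show π.left.base ((snd G G).left.base v) = π.left.base g
      have e1 : (snd G G).left.base v = ((G ◁ i) ≫ μ[G]).left.base z := by
        have e : (G ◁ i) ≫ μ[G] = (G ◁ i) ≫ σ.hom ≫ snd G G := by
          rw [Groth.Agent.S1865.shear_hom_snd]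
        have e2 : ((G ◁ i) ≫ μ[G]).left.base z =
            (snd G G).left.base (σ.hom.left.base ((G ◁ i).left.base z)) :=
          congrArg (fun m => m.left.base z) e
        rw [e2, hz1]
        have e3 : σ.inv ≫ σ.hom ≫ snd G G = snd G G := by rw [Iso.inv_hom_id_assoc]
        exact (congrArg (fun m => m.left.base v) e3).symm
      have e4 : g = (fst G H).left.base z := by
        have e : (G ◁ i) ≫ fst G G = fst G H := whiskerLeft_fst _ _
        have e2 : (fst G G).left.base ((G ◁ i).left.base z) = (fst G H).left.base z :=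
          congrArg (fun m => m.left.base z) e
        rw [← e2, hz1]
        have e3 : σ.inv ≫ fst G G = fst G G := by
          rw [Iso.inv_comp_eq, Groth.Agent.S1865.shear_hom_fst]
        have e5 : (fst G G).left.base (σ.inv.left.base v) = (fst G G).left.base v :=
          congrArg (fun m => m.left.base v) e3
        rw [e5]
        exact hv1.symm
      rw [e1, e4]
      have e6 := congrArg (fun m => m.left.base z) hpb.w
      exact e6.symm
  rw [key]
  exact isOpen_snd_image_fibre G G E hE g

end Field


/-- Let k be a perfect field, G a k-group scheme of finite type and r₀ : G⁰_red → G the reduced neutral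
component of G, i.e. a homomorphism and closed immersion from a reduced k-group scheme whose image
is the connected component of the identity. Then the homogeneous space G/G⁰_red is finite, and
G⁰_red is the smallest closed subgroup scheme H of G such that G/H is finite: every such H contains
G⁰_red. -/
theorem result (k : Type u) [Field k] [PerfectField k]
    (G G₀ : Over (Spec (CommRingCat.of k))) [GrpObj G] [GrpObj G₀] [LocallyOfFiniteType G.hom] [QuasiCompact G.hom]
    [LocallyOfFiniteType G₀.hom] [QuasiCompact G₀.hom]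
    (r₀ : G₀ ⟶ G) [IsMonHom r₀] [IsClosedImmersion r₀.left] [IsReduced G₀.left] (t : ↥((𝟙_ (Over (Spec (CommRingCat.of k)))).left))
    (hr₀ : Set.range ⇑r₀.left.base = connectedComponent ((η[G]).left.base t)) :
    (∀ (X : Over (Spec (CommRingCat.of k))) (a : AlgGrp.Action G X) (o : 𝟙_ (Over (Spec (CommRingCat.of k))) ⟶ X), AGF.IsQuotient r₀ X a o → IsFinite X.hom) ∧
    ∀ (H : Over (Spec (CommRingCat.of k))) [GrpObj H] (h : H ⟶ G) [IsMonHom h] [IsClosedImmersion h.left]
      (X : Over (Spec (CommRingCat.of k))) (a : AlgGrp.Action G X) (o : 𝟙_ (Over (Spec (CommRingCat.of k))) ⟶ X),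
      AGF.IsQuotient h X a o → IsFinite X.hom → ∃ g : G₀ ⟶ H, g ≫ h = r₀ := by
  haveI hNG : IsLocallyNoetherian G.left := LocallyOfFiniteType.isLocallyNoetherian G.hom
  haveI : Subsingleton ↥(Spec (CommRingCat.of k)) :=
    inferInstanceAs (Subsingleton (PrimeSpectrum k))
  constructor
  · intro X a o hq
    have hq' := hq
    obtain ⟨hlft, hflat, hsurj, hpb⟩ := hq
    set π := a.orbitMap o with hπ
    haveI := hlft
    haveI := hflat
    haveI := hsurj
    haveI hNX : IsLocallyNoetherian X.left := LocallyOfFiniteType.isLocallyNoetherian X.hom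
    haveI : LocallyOfFiniteType (π.left ≫ X.hom) := by
      rw [Over.w π]; infer_instance
    haveI : LocallyOfFiniteType π.left := locallyOfFiniteType_of_comp π.left X.hom
    haveI : LocallyOfFinitePresentation π.left := inferInstance
    have hopen : IsOpenMap π.left.base := π.left.isOpenMap
    have hW : IsOpen (Set.range r₀.left.base) := by
      rw [hr₀]
      exact Groth.Agent.Lib.Helper23.NeutralFlat.isOpen_connectedComponent G.left _
    have hsing : ∀ x : X.left, IsOpen ({x} : Set X.left) := by
      intro x
      obtain ⟨g, rfl⟩ := π.left.surjective x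
      have h1 := hopen _ (isOpen_fibre r₀ a o hq' hW g)
      rwa [Set.image_preimage_eq _ π.left.surjective] at h1
    haveI : DiscreteTopology X.left := discreteTopology_iff_isOpen_singleton.mpr hsing
    haveI : CompactSpace G.left := (quasiCompact_iff_compactSpace G.hom).mp inferInstance
    haveI : CompactSpace X.left := by
      constructor
      have := (isCompact_univ (X := G.left)).image π.left.continuous
      rwa [Set.image_univ, Set.range_eq_univ.mpr π.left.surjective] at this
    haveI : Finite X.left := finite_of_compact_of_discrete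
    haveI : QuasiCompact X.hom := (quasiCompact_iff_compactSpace X.hom).mpr inferInstance
    haveI : LocallyQuasiFinite X.hom :=
      LocallyQuasiFinite.of_finite_preimage_singleton X.hom (fun _ => Set.toFinite _)
    haveI : IsLocallyArtinian (Spec (CommRingCat.of k)) := by
      rw [Scheme.isLocallyArtinianScheme_Spec]
      infer_instance
    exact IsFinite.of_locallyQuasiFinite X.hom
  · intro H _ h _ _ X a o hq hfin
    have hq' := hq
    obtain ⟨hlft, hflat, hsurj, hpb⟩ := hq
    set π := a.orbitMap o with hπ
    haveI := hfin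
    haveI : IsLocallyArtinian (Spec (CommRingCat.of k)) := by
      rw [Scheme.isLocallyArtinianScheme_Spec]
      infer_instance
    haveI : IsLocallyArtinian X.left := IsLocallyArtinian.of_locallyQuasiFinite X.hom
    haveI : DiscreteTopology X.left :=
      (IsLocallyArtinian.iff_isLocallyNoetherian_and_discreteTopology.mp inferInstance).2
    let x₀ := π.left.base (η[G].left.base t)
    have hclopen : IsClopen (π.left.base ⁻¹' {x₀}) :=
      (isClopen_discrete {x₀}).preimage π.left.continuous
    have hsub : connectedComponent (η[G].left.base t) ⊆ π.left.base ⁻¹' {x₀} :=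
      hclopen.connectedComponent_subset rfl
    have hsub2 : Set.range r₀.left.base ⊆ Set.range h.left.base := by
      rw [hr₀]
      intro g' hg'
      exact mem_range_of_orbit_eq h a o hq' t g' (hsub hg')
    apply Groth.Agent.Lib.Helper23.ReducedLift.exists_lift_of_isReduced' h r₀
    constructor
    intro p
    have hp : p ∈ Set.range (pullback.fst r₀.left h.left).base := by
      rw [Scheme.Pullback.range_fst]
      exact hsub2 ⟨p, rfl⟩
    exact hp

end Groth.Agent.S14596
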