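import Groth.Statements.S1460
import Mathlib.RingTheory.Extension.Presentation.Core
import Mathlib.AlgebraicGeometry.Pullbacks
import Mathlib.Algebra.Category.Ring.Constructions

set_option autoImplicit false
universe u
open FlatMor

namespace Groth.Agent.S1460

open AlgebraicGeometry CategoryTheory Limits TensorProduct in
/-- Ring-level Noetherian approximation: a finitely presented algebra `R → T` is a pushout of
a finite type algebra `R₀ → T₀` with `R₀` of finite type over `ℤ`. -/
theorem ring_approx (R T : Type u) [CommRing R] [CommRing T] [Algebra R T]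
    [Algebra.FinitePresentation R T] :
    ∃ (R₀ T₀ : Type u) (_ : CommRing R₀) (_ : CommRing T₀) (_ : Algebra R₀ T₀)
      (a : R₀ →+* R) (b : T₀ →+* T),
      Algebra.FiniteType ℤ R₀ ∧ Algebra.FiniteType R₀ T₀ ∧
      IsPushout (CommRingCat.ofHom a) (CommRingCat.ofHom (algebraMap R₀ T₀))
        (CommRingCat.ofHom (algebraMap R T)) (CommRingCat.ofHom b) := by
  let P := Algebra.Presentation.ofFinitePresentation R T
  let R₀ := P.Core
  let T₀ := P.ModelOfHasCoeffs R₀
  let e : R ⊗[R₀] T₀ ≃ₐ[R] T := P.tensorModelOfHasCoeffsEquiv R₀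
  refine ⟨R₀, T₀, inferInstance, inferInstance, inferInstance, algebraMap R₀ R,
    (e.toAlgHom.toRingHom).comp (Algebra.TensorProduct.includeRight (R := R₀) (A := R) (B := T₀)).toRingHom,
    inferInstance, ?_, ?_⟩
  · have : Algebra.FinitePresentation R₀ T₀ := inferInstance
    infer_instance
  · refine (CommRingCat.isPushout_tensorProduct R₀ R T₀).of_iso (Iso.refl _) (Iso.refl _) (Iso.refl _)
      e.toRingEquiv.toCommRingCatIso ?_ ?_ ?_ ?_
    · simp
    · simp
    · ext x
      have := e.commutes x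
      rw [Algebra.TensorProduct.algebraMap_apply] at this
      simpa using this
    · rw [Iso.refl_hom, Category.id_comp]
      rfl

open AlgebraicGeometry CategoryTheory Limits in
/-- Let f : X → S be a morphism of finite presentation between affine schemes. Then f is the base change
of a morphism of finite type f₀ : X₀ → S₀ between affine schemes with S₀ of finite type over ℤ. -/
theorem result {X S : Scheme.{u}} (f : X ⟶ S) [IsAffine X] [IsAffine S] [LocallyOfFinitePresentation f] :
    ∃ (X₀ S₀ : Scheme.{u}) (f₀ : X₀ ⟶ S₀) (g : S ⟶ S₀) (g' : X ⟶ X₀), IsAffine X₀ ∧ IsAffine S₀ ∧ IsPullback g' f f₀ g ∧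
      Algebra.FiniteType ℤ Γ(S₀, ⊤) ∧ LocallyOfFiniteType f₀ := by
  have hfp : RingHom.FinitePresentation f.appTop.hom :=
    (HasRingHomProperty.iff_of_isAffine (P := @LocallyOfFinitePresentation)).mp ‹_›
  let _ := f.appTop.hom.toAlgebra
  have : Algebra.FinitePresentation Γ(S, ⊤) Γ(X, ⊤) := hfp
  obtain ⟨R₀, T₀, _, _, _, a, b, h1, h2, hpo⟩ := ring_approx Γ(S, ⊤) Γ(X, ⊤)
  have hpb := isPullback_SpecMap_of_isPushout _ _ _ _ hpo
  have hφ : CommRingCat.ofHom (algebraMap Γ(S, ⊤) Γ(X, ⊤)) = f.appTop := rfl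
  rw [hφ] at hpb
  refine ⟨Spec (.of T₀), Spec (.of R₀), Spec.map (CommRingCat.ofHom (algebraMap R₀ T₀)),
    S.isoSpec.hom ≫ Spec.map (CommRingCat.ofHom a), X.isoSpec.hom ≫ Spec.map (CommRingCat.ofHom b),
    inferInstance, inferInstance, ?_, ?_, ?_⟩
  · refine hpb.flip.of_iso X.isoSpec.symm (Iso.refl _) S.isoSpec.symm (Iso.refl _) ?_ ?_ ?_ ?_
    · simp
    · exact Scheme.isoSpec_inv_naturality f
    · simp
    · simp
  · exact Algebra.FiniteType.equiv h1
      (Scheme.ΓSpecIso (.of R₀)).commRingCatIsoToRingEquiv.symm.toIntAlgEquiv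
  · rw [HasRingHomProperty.Spec_iff (P := @LocallyOfFiniteType)]
    exact RingHom.finiteType_algebraMap.mpr h2

end Groth.Agent.S1460
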