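import Groth.Statements.S14606
import Mathlib

set_option autoImplicit false
universe u
open FrobAlg

namespace Groth.Agent.S14606

/-- Let k be a field of characteristic p > 0 and R a finitely generated commutative k-algebra. The
scheme-theoretic image of the n-th relative Frobenius morphism of Spec R is the spectrum of the
k-subalgebra k[R^(p^n)] generated by all p^n-th powers; for n large enough this image is
geometrically reduced: there is an n such that k[R^(p^n)] is a geometrically reduced k-algebra.
(Stated in affine, ring-theoretic form.) -/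
theorem result (k : Type u) [Field k] (p : ℕ) [Fact p.Prime] [CharP k p]
    (R : Type u) [CommRing R] [Algebra k R] [Algebra.FiniteType k R] :
    ∃ n : ℕ, Algebra.IsGeometricallyReduced k ↥(Algebra.adjoin k (Set.range (fun x : R => x ^ (p ^ n)))) := by
  classical
  by_cases hR : Subsingleton R
  · refine ⟨0, ?_⟩
    rw [Algebra.isGeometricallyReduced_field_iff]
    have : Subsingleton ↥(Algebra.adjoin k (Set.range (fun x : R => x ^ (p ^ 0)))) :=
      ⟨fun a b => Subtype.ext (Subsingleton.elim _ _)⟩
    have : Subsingleton (TensorProduct k (AlgebraicClosure k)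
        ↥(Algebra.adjoin k (Set.range (fun x : R => x ^ (p ^ 0))))) := by
      refine ⟨fun a b => ?_⟩
      have h0 : ∀ z : TensorProduct k (AlgebraicClosure k)
          ↥(Algebra.adjoin k (Set.range (fun x : R => x ^ (p ^ 0)))), z = 0 := by
        intro z
        induction z using TensorProduct.induction_on with
        | zero => rfl
        | tmul c s => rw [Subsingleton.elim s 0, TensorProduct.tmul_zero]
        | add a b ha hb => rw [ha, hb, add_zero]
      rw [h0 a, h0 b]
    exact ⟨fun z _ => Subsingleton.elim _ _⟩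
  have hRn : Nontrivial R := not_subsingleton_iff_nontrivial.mp hR
  -- the big ring
  have hTn : Nontrivial (TensorProduct k (AlgebraicClosure k) R) :=
    (Algebra.TensorProduct.includeRight_injective (R := k) (A := AlgebraicClosure k) (B := R)
      (RingHom.injective _)).nontrivial
  have hKp : CharP (AlgebraicClosure k) p :=
    charP_of_injective_algebraMap (algebraMap k (AlgebraicClosure k)).injective p
  have hTp : CharP (TensorProduct k (AlgebraicClosure k) R) p :=
    charP_of_injective_algebraMap
      (algebraMap (AlgebraicClosure k) (TensorProduct k (AlgebraicClosure k) R)).injective p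
  have hTN : IsNoetherianRing (TensorProduct k (AlgebraicClosure k) R) :=
    Algebra.FiniteType.isNoetherianRing (AlgebraicClosure k) _
  obtain ⟨e, he⟩ := IsNoetherianRing.isNilpotent_nilradical (TensorProduct k (AlgebraicClosure k) R)
  refine ⟨e, ?_⟩
  have hq : e ≤ p ^ e := (Nat.lt_pow_self (Fact.out : p.Prime).one_lt).le
  have hq0 : p ^ e ≠ 0 := pow_ne_zero _ (Fact.out : p.Prime).ne_zero
  rw [Algebra.isGeometricallyReduced_field_iff]
  -- the comparison map
  obtain ⟨φ, hφ⟩ : ∃ φ : TensorProduct k (AlgebraicClosure k)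
      ↥(Algebra.adjoin k (Set.range (fun x : R => x ^ (p ^ e)))) →ₐ[AlgebraicClosure k]
      TensorProduct k (AlgebraicClosure k) R, φ = Algebra.TensorProduct.map
        (AlgHom.id (AlgebraicClosure k) (AlgebraicClosure k))
        (Algebra.adjoin k (Set.range (fun x : R => x ^ (p ^ e)))).val := ⟨_, rfl⟩
  have hφinj : Function.Injective φ := by
    rw [hφ]
    exact Module.Flat.lTensor_preserves_injective_linearMap
      (M := AlgebraicClosure k)
      (Algebra.adjoin k (Set.range (fun x : R => x ^ (p ^ e)))).val.toLinearMap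
      Subtype.val_injective
  -- W = set of `p^e`-th powers is a subring
  have hW : ∀ z, ∃ t : TensorProduct k (AlgebraicClosure k) R, φ z = t ^ (p ^ e) := by
    have hmul : ∀ a b : TensorProduct k (AlgebraicClosure k) R,
        (∃ t, a = t ^ (p ^ e)) → (∃ t, b = t ^ (p ^ e)) → ∃ t, a * b = t ^ (p ^ e) := by
      rintro a b ⟨s, rfl⟩ ⟨t, rfl⟩
      exact ⟨s * t, (mul_pow _ _ _).symm⟩
    have hadd : ∀ a b : TensorProduct k (AlgebraicClosure k) R,
        (∃ t, a = t ^ (p ^ e)) → (∃ t, b = t ^ (p ^ e)) → ∃ t, a + b = t ^ (p ^ e) := by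
      rintro a b ⟨s, rfl⟩ ⟨t, rfl⟩
      exact ⟨s + t, (add_pow_char_pow s t p e).symm⟩
    have hK : ∀ c : AlgebraicClosure k, ∃ t : TensorProduct k (AlgebraicClosure k) R,
        (c ⊗ₜ[k] (1 : R)) = t ^ (p ^ e) := by
      intro c
      obtain ⟨d, hd⟩ := IsAlgClosed.exists_pow_nat_eq c (Nat.pos_of_ne_zero hq0)
      refine ⟨d ⊗ₜ[k] (1 : R), ?_⟩
      rw [Algebra.TensorProduct.tmul_pow, hd, one_pow]
    have hS : ∀ s ∈ Algebra.adjoin k (Set.range (fun x : R => x ^ (p ^ e))),
        ∃ t : TensorProduct k (AlgebraicClosure k) R,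
        ((1 : AlgebraicClosure k) ⊗ₜ[k] s) = t ^ (p ^ e) := by
      intro s hs
      induction hs using Algebra.adjoin_induction with
      | mem x hx =>
        obtain ⟨r, rfl⟩ := hx
        exact ⟨(1 : AlgebraicClosure k) ⊗ₜ[k] r, by
          rw [Algebra.TensorProduct.tmul_pow, one_pow]⟩
      | algebraMap c =>
        obtain ⟨t, ht⟩ := hK (algebraMap k _ c)
        refine ⟨t, ?_⟩
        rw [← ht, Algebra.algebraMap_eq_smul_one, Algebra.algebraMap_eq_smul_one,
          TensorProduct.smul_tmul]
      | add x y _ _ hx hy =>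
        rw [TensorProduct.tmul_add]
        exact hadd _ _ hx hy
      | mul x y _ _ hx hy =>
        have : ((1 : AlgebraicClosure k) ⊗ₜ[k] (x * y)) =
            ((1 : AlgebraicClosure k) ⊗ₜ[k] x) * ((1 : AlgebraicClosure k) ⊗ₜ[k] y) := by
          rw [Algebra.TensorProduct.tmul_mul_tmul, one_mul]
        rw [this]
        exact hmul _ _ hx hy
    intro z
    induction z using TensorProduct.induction_on with
    | zero => exact ⟨0, by rw [map_zero, zero_pow hq0]⟩
    | tmul c s =>
      have : φ (c ⊗ₜ[k] s) = (c ⊗ₜ[k] (1 : R)) * ((1 : AlgebraicClosure k) ⊗ₜ[k] (s : R)) := by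
        rw [hφ, Algebra.TensorProduct.map_tmul, Algebra.TensorProduct.tmul_mul_tmul, mul_one,
          one_mul]
        rfl
      rw [this]
      exact hmul _ _ (hK c) (hS _ s.2)
    | add a b ha hb =>
      rw [map_add]
      exact hadd _ _ ha hb
  refine ⟨fun z hz => ?_⟩
  obtain ⟨t, ht⟩ := hW z
  have hnil : IsNilpotent (t ^ (p ^ e)) := ht ▸ hz.map φ
  have htn : t ∈ nilradical (TensorProduct k (AlgebraicClosure k) R) := by
    rw [mem_nilradical]
    exact hnil.of_pow
  have hte : t ^ e = 0 := by
    have : t ^ e ∈ (nilradical (TensorProduct k (AlgebraicClosure k) R)) ^ e :=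
      Ideal.pow_mem_pow htn e
    rw [he] at this
    simpa using this
  have : φ z = 0 := by
    rw [ht, ← Nat.sub_add_cancel hq, pow_add, hte, mul_zero]
  exact hφinj (by rw [this, map_zero])

end Groth.Agent.S14606
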