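import Groth.Statements.S14608
import Mathlib
import Groth.Agent.Lib.Helper45.ResidueTensor

set_option autoImplicit false
universe u v
open CAlg

namespace Groth.Agent.S14608


open TensorProduct Groth.Agent.Lib.Helper45.ResidueTensor

section
variable {A : Type u} [CommRing A] [IsNoetherianRing A]
    {M : Type v} {F : Type v} [AddCommGroup M] [Module A M] [Module.Finite A M]
    [AddCommGroup F] [Module A F] [Module.Finite A F] [Module.Free A F]
    (δ : M →ₗ[A] F) (p : Ideal A) [p.IsPrime]

/-- (a) ⇔ `κ ⊗ im δ → κ ⊗ F` injective -/
lemma exact_iff_injective :
    Function.Exact (LinearMap.lTensor p.ResidueField (LinearMap.ker δ).subtype)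
        (LinearMap.lTensor p.ResidueField δ) ↔
      Function.Injective (LinearMap.lTensor p.ResidueField (LinearMap.range δ).subtype) := by
  have hex : Function.Exact (LinearMap.ker δ).subtype δ.rangeRestrict := by
    rw [LinearMap.exact_iff, LinearMap.ker_rangeRestrict, Submodule.range_subtype]
  have hex0 := lTensor_exact p.ResidueField hex δ.surjective_rangeRestrict
  have hsurj : Function.Surjective (LinearMap.lTensor p.ResidueField δ.rangeRestrict) :=
    LinearMap.lTensor_surjective _ δ.surjective_rangeRestrict
  have hcomp : LinearMap.lTensor p.ResidueField δ =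
      LinearMap.lTensor p.ResidueField (LinearMap.range δ).subtype ∘ₗ
        LinearMap.lTensor p.ResidueField δ.rangeRestrict := by
    rw [← LinearMap.lTensor_comp]
    congr 1
  constructor
  · intro ha
    rw [injective_iff_map_eq_zero]
    intro y hy
    obtain ⟨x, rfl⟩ := hsurj y
    have h1 : LinearMap.lTensor p.ResidueField δ x = 0 := by
      rw [hcomp, LinearMap.comp_apply, hy]
    obtain ⟨w, rfl⟩ := (ha x).mp h1
    exact (hex0 _).mpr ⟨w, rfl⟩
  · intro hinj
    rw [hcomp]
    exact hex0.comp_injective (g' := LinearMap.lTensor p.ResidueField (LinearMap.range δ).subtype) hinj (map_zero _)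

/-- `κ ⊗ im δ → κ ⊗ F` injective ⇒ `(F/im δ)_p` free -/
lemma free_of_injective
    (h : Function.Injective (LinearMap.lTensor p.ResidueField (LinearMap.range δ).subtype)) :
    Module.Free (Localization.AtPrime p) (Localization.AtPrime p ⊗[A] (F ⧸ LinearMap.range δ)) := by
  have h' := (lTensor_injective_iff p (LinearMap.range δ).subtype).mpr h
  have hex : Function.Exact ((LinearMap.range δ).subtype.baseChange (Localization.AtPrime p))
      ((LinearMap.range δ).mkQ.baseChange (Localization.AtPrime p)) :=
    lTensor_exact (Localization.AtPrime p) (LinearMap.exact_subtype_mkQ (LinearMap.range δ))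
      (Submodule.mkQ_surjective _)
  have hsurj : Function.Surjective ((LinearMap.range δ).mkQ.baseChange (Localization.AtPrime p)) :=
    LinearMap.lTensor_surjective _ (Submodule.mkQ_surjective _)
  exact Module.free_of_lTensor_residueField_injective _ _ hsurj hex h'

/-- `(F/im δ)_p` free ⇒ `κ ⊗ im δ → κ ⊗ F` injective and `(im δ)_p` projective -/
lemma injective_of_free
    (h : Module.Free (Localization.AtPrime p) (Localization.AtPrime p ⊗[A] (F ⧸ LinearMap.range δ))) :
    Function.Injective (LinearMap.lTensor p.ResidueField (LinearMap.range δ).subtype) ∧
      Module.Projective (Localization.AtPrime p) (Localization.AtPrime p ⊗[A] (LinearMap.range δ)) := by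
  have hex : Function.Exact ((LinearMap.range δ).subtype.baseChange (Localization.AtPrime p))
      ((LinearMap.range δ).mkQ.baseChange (Localization.AtPrime p)) :=
    lTensor_exact (Localization.AtPrime p) (LinearMap.exact_subtype_mkQ (LinearMap.range δ))
      (Submodule.mkQ_surjective _)
  have hsurj : Function.Surjective ((LinearMap.range δ).mkQ.baseChange (Localization.AtPrime p)) :=
    LinearMap.lTensor_surjective _ (Submodule.mkQ_surjective _)
  have hinj : Function.Injective ((LinearMap.range δ).subtype.baseChange (Localization.AtPrime p)) :=
    Module.Flat.lTensor_preserves_injective_linearMap _ Subtype.val_injective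
  obtain ⟨l, hl⟩ := exists_retraction_of_exact _ _ hex hinj hsurj
  refine ⟨(lTensor_injective_iff p (LinearMap.range δ).subtype).mp ?_, Module.Projective.of_split _ l hl⟩
  apply Function.LeftInverse.injective (g := LinearMap.lTensor p.ResidueField l)
  intro x
  rw [← LinearMap.comp_apply, ← LinearMap.lTensor_comp, hl, LinearMap.lTensor_id, LinearMap.id_apply]

/-- `(im δ)_p` projective ⇒ `κ ⊗ ker δ → κ ⊗ M` injective -/
lemma ker_injective_of_projective
    (h : Module.Projective (Localization.AtPrime p) (Localization.AtPrime p ⊗[A] (LinearMap.range δ))) :
    Function.Injective (LinearMap.lTensor p.ResidueField (LinearMap.ker δ).subtype) := by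
  have hex0 : Function.Exact (LinearMap.ker δ).subtype δ.rangeRestrict := by
    rw [LinearMap.exact_iff, LinearMap.ker_rangeRestrict, Submodule.range_subtype]
  have hex : Function.Exact ((LinearMap.ker δ).subtype.baseChange (Localization.AtPrime p))
      (δ.rangeRestrict.baseChange (Localization.AtPrime p)) :=
    lTensor_exact (Localization.AtPrime p) hex0 δ.surjective_rangeRestrict
  have hsurj : Function.Surjective (δ.rangeRestrict.baseChange (Localization.AtPrime p)) :=
    LinearMap.lTensor_surjective _ δ.surjective_rangeRestrict
  have hinj : Function.Injective ((LinearMap.ker δ).subtype.baseChange (Localization.AtPrime p)) :=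
    Module.Flat.lTensor_preserves_injective_linearMap _ Subtype.val_injective
  obtain ⟨l, hl⟩ := exists_retraction_of_exact _ _ hex hinj hsurj
  apply (lTensor_injective_iff p (LinearMap.ker δ).subtype).mp
  apply Function.LeftInverse.injective (g := LinearMap.lTensor p.ResidueField l)
  intro x
  rw [← LinearMap.comp_apply, ← LinearMap.lTensor_comp, hl, LinearMap.lTensor_id, LinearMap.id_apply]

end

open TensorProduct in
/-- Let A be a Noetherian ring, M a finitely generated A-module, F a finitely generated free A-module, δ
: M → F an A-linear map and p a prime of A with residue field κ(p). The following are equivalent: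
(a) the natural map (ker δ) ⊗ κ(p) → ker(δ ⊗ κ(p)) is surjective (its image is the whole kernel);
(b) that map is bijective; (c) (F / im δ) localized at p is a free module over the local ring A_p.
Moreover, if these hold then (im δ) localized at p is free over A_p. (The published statement takes
M to be the cokernel of a map of finitely generated free modules; over a Noetherian ring this is
every finitely generated M, which is what this row takes.) -/
theorem result (A : Type u) [CommRing A] [IsNoetherianRing A]
    (M : Type v) (F : Type v) [AddCommGroup M] [Module A M] [Module.Finite A M]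
    [AddCommGroup F] [Module A F] [Module.Finite A F] [Module.Free A F]
    (δ : M →ₗ[A] F) (p : Ideal A) [p.IsPrime] :
    [ Function.Exact (LinearMap.lTensor p.ResidueField (LinearMap.ker δ).subtype)
        (LinearMap.lTensor p.ResidueField δ),
      Function.Exact (LinearMap.lTensor p.ResidueField (LinearMap.ker δ).subtype)
        (LinearMap.lTensor p.ResidueField δ) ∧
        Function.Injective (LinearMap.lTensor p.ResidueField (LinearMap.ker δ).subtype),
      Module.Free (Localization.AtPrime p)
        (LocalizedModule p.primeCompl (F ⧸ LinearMap.range δ)) ].TFAE ∧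
    (Function.Exact (LinearMap.lTensor p.ResidueField (LinearMap.ker δ).subtype)
        (LinearMap.lTensor p.ResidueField δ) →
      Module.Free (Localization.AtPrime p)
        (LocalizedModule p.primeCompl (LinearMap.range δ))) := by
  have h13 : Function.Exact (LinearMap.lTensor p.ResidueField (LinearMap.ker δ).subtype)
        (LinearMap.lTensor p.ResidueField δ) →
      Module.Free (Localization.AtPrime p)
        (LocalizedModule p.primeCompl (F ⧸ LinearMap.range δ)) := by
    intro ha
    rw [free_localizedModule_iff]
    exact free_of_injective δ p ((exact_iff_injective δ p).mp ha)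
  refine ⟨?_, ?_⟩
  · tfae_have 1 → 3 := h13
    tfae_have 3 → 2 := by
      intro hc
      rw [free_localizedModule_iff] at hc
      obtain ⟨h1, h2⟩ := injective_of_free δ p hc
      exact ⟨(exact_iff_injective δ p).mpr h1, ker_injective_of_projective δ p h2⟩
    tfae_have 2 → 1 := fun h => h.1
    tfae_finish
  · intro ha
    have hc := h13 ha
    rw [free_localizedModule_iff] at hc
    obtain ⟨-, h2⟩ := injective_of_free δ p hc
    rw [free_localizedModule_iff]
    exact Module.free_of_flat_of_isLocalRing

end Groth.Agent.S14608
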