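import Groth.Statements.S14609
import Mathlib
import Groth.Agent.Lib.Helper45.FibreDim

set_option autoImplicit false
universe u v
open CAlg

namespace Groth.Agent.S14609

open TensorProduct in
/-- Let A be a Noetherian ring, M a finitely generated A-module, F a finitely generated free A-module
and δ : M → F an A-linear map. Then the function on Spec A sending a prime p with residue field κ(p)
to the κ(p)-dimension of the kernel of δ ⊗ κ(p) : M ⊗ κ(p) → F ⊗ κ(p) is upper semicontinuous. -/
theorem result (A : Type u) [CommRing A]
    [IsNoetherianRing A] (M : Type v) (F : Type v) [AddCommGroup M] [Module A M] [Module.Finite A M]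
    [AddCommGroup F] [Module A F] [Module.Finite A F] [Module.Free A F] (δ : M →ₗ[A] F) :
    UpperSemicontinuous (fun x : PrimeSpectrum A =>
      Module.finrank x.asIdeal.ResidueField
        (LinearMap.ker (δ.baseChange x.asIdeal.ResidueField))) := by
  open Groth.Agent.Lib.Helper45.Fitting in
  have hsum : ∀ x : PrimeSpectrum A,
      Module.finrank x.asIdeal.ResidueField (LinearMap.ker (δ.baseChange x.asIdeal.ResidueField)) +
        Module.finrank A F = fibreDim A M x + fibreDim A (F ⧸ LinearMap.range δ) x := by
    intro x
    have h1 := fibreDim_coker_add δ x
    have h2 := fibreDim_ker_add δ x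
    have h3 := fibreDim_of_free (R := A) (K' := F) x
    omega
  have husc : UpperSemicontinuous (fun x : PrimeSpectrum A =>
      fibreDim A M x + fibreDim A (F ⧸ LinearMap.range δ) x) :=
    UpperSemicontinuous.add upperSemicontinuous_fibreDim upperSemicontinuous_fibreDim
  rw [upperSemicontinuous_iff_isOpen_preimage] at husc ⊢
  intro y
  convert husc (y + Module.finrank A F) using 1
  ext x
  simp only [Set.mem_preimage, Set.mem_Iio]
  have := hsum x
  omega

end Groth.Agent.S14609
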