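import Groth.Statements.S9737
import Groth.Agent.Lib.Helper24.Lim8FGModel
import Groth.Agent.Lib.Helper24.Lim8FPMain
import Groth.Agent.Lib.Helper24.ConsLocusSingle
-- import your own Groth.Agent.* helpers here

set_option autoImplicit false
universe u
open FlatMor

namespace Groth.Agent.S9737

open AlgebraicGeometry CategoryTheory Limits Groth.Agent.Lib.Helper24.Lim8
  Groth.Agent.Lib.Helper24.ConsLocus

/-- A morphism from an affine scheme to an affine scheme with finitely generated coordinate ring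
factors through every sufficiently large finitely generated subring. -/
lemma exists_factor {S T : Scheme.{u}} [IsAffine S] [IsAffine T] (g : S ⟶ T)
    (hT : Algebra.FiniteType ℤ Γ(T, ⊤)) :
    ∃ R : FGSubZ Γ(S, ⊤), ∀ R' : FGSubZ Γ(S, ⊤), R ≤ R' →
      ∃ t : Spec ((fgSubZDiagram Γ(S, ⊤)).obj R') ⟶ T,
        (S.isoSpec.hom ≫ Spec.map ((fgSubZCocone Γ(S, ⊤)).ι.app R')) ≫ t = g := by
  let φ : Γ(T, ⊤) →ₐ[ℤ] Γ(S, ⊤) := g.appTop.hom.toIntAlgHom
  have hfg : φ.range.FG := by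
    have h := hT.out
    have := h.map φ
    rwa [Algebra.map_top] at this
  refine ⟨⟨φ.range, hfg⟩, fun R' hR ↦ ?_⟩
  let ψ : Γ(T, ⊤) →ₐ[ℤ] R'.1 := φ.codRestrict R'.1 (fun x ↦ hR (AlgHom.mem_range_self φ x))
  let ψ' : Γ(T, ⊤) ⟶ (fgSubZDiagram Γ(S, ⊤)).obj R' := CommRingCat.ofHom ψ.toRingHom
  refine ⟨Spec.map ψ' ≫ T.isoSpec.inv, ?_⟩
  let ι' : (fgSubZDiagram Γ(S, ⊤)).obj R' ⟶ Γ(S, ⊤) := (fgSubZCocone Γ(S, ⊤)).ι.app R'
  have h1 : ψ' ≫ ι' = g.appTop := by
    ext x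
    rfl
  have key : (S.isoSpec.hom ≫ Spec.map ι') ≫ Spec.map ψ' ≫ T.isoSpec.inv = g := by
    rw [Category.assoc, ← Spec.map_comp_assoc, h1, Scheme.isoSpec_hom_naturality_assoc,
      Iso.hom_inv_id, Category.comp_id]
  exact key

/-- The model at a stage of `f ≫ e.hom` induced by a factorization of the base of a cartesian
square. -/
noncomputable def modelOfPullback {I : Type u} [SmallCategory I] {D : I ⥤ Scheme.{u}} {c : Cone D}
    {X S : Scheme.{u}} (f : X ⟶ S) (e : S ≅ c.pt) {X₁ S₁ : Scheme.{u}} (f₁ : X₁ ⟶ S₁) (g₁ : S ⟶ S₁)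
    (g₁' : X ⟶ X₁) (h₁ : IsPullback g₁' f f₁ g₁) (l : I) (t : D.obj l ⟶ S₁)
    (ht : (e.hom ≫ c.π.app l) ≫ t = g₁) : Model D c l (f ≫ e.hom) where
  Xi := pullback f₁ t
  fi := pullback.snd f₁ t
  g := pullback.lift g₁' (f ≫ e.hom ≫ c.π.app l) (by rw [h₁.w, ← ht]; simp)
  sq := by
    refine IsPullback.of_right ?_ (by rw [pullback.lift_snd, Category.assoc])
      (IsPullback.of_hasPullback f₁ t)
    rw [pullback.lift_fst]
    refine h₁.of_iso (Iso.refl _) (Iso.refl _) e (Iso.refl _) (by simp) (by simp) (by simp) ?_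
    rw [← ht]; simp

open AlgebraicGeometry CategoryTheory Limits in
/-- Suppose P and Q are classes of morphisms of schemes preserved by arbitrary pullback, and f : X ⟶ S
is a finitely presented morphism of affine schemes. If f arises by pullback from a finite-type
morphism f₁ : X₁ ⟶ S₁ satisfying P, and also from a finite-type morphism f₂ : X₂ ⟶ S₂ satisfying Q,
where all four schemes are affine and Γ(S₁), Γ(S₂) are finitely generated ℤ-algebras, then f arises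
by pullback from a single finite-type morphism f₀ : X₀ ⟶ S₀ of affine schemes, with Γ(S₀) finitely
generated over ℤ, satisfying both P and Q. -/
theorem result (P Q : MorphismProperty Scheme.{u}) [P.IsStableUnderBaseChange] [Q.IsStableUnderBaseChange]
    {X S : Scheme.{u}} (f : X ⟶ S) [IsAffine X] [IsAffine S] [LocallyOfFinitePresentation f]
    {X₁ S₁ X₂ S₂ : Scheme.{u}} [IsAffine X₁] [IsAffine S₁] [IsAffine X₂] [IsAffine S₂]
    (f₁ : X₁ ⟶ S₁) (g₁ : S ⟶ S₁) (g₁' : X ⟶ X₁) (h₁ : IsPullback g₁' f f₁ g₁)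
    (f₂ : X₂ ⟶ S₂) (g₂ : S ⟶ S₂) (g₂' : X ⟶ X₂) (h₂ : IsPullback g₂' f f₂ g₂)
    (hS₁ : Algebra.FiniteType ℤ Γ(S₁, ⊤)) (hS₂ : Algebra.FiniteType ℤ Γ(S₂, ⊤))
    [LocallyOfFiniteType f₁] [LocallyOfFiniteType f₂] (hP : P f₁) (hQ : Q f₂) :
    ∃ (X₀ S₀ : Scheme.{u}) (f₀ : X₀ ⟶ S₀) (g : S ⟶ S₀) (g' : X ⟶ X₀), IsAffine X₀ ∧ IsAffine S₀ ∧ IsPullback g' f f₀ g ∧
      Algebra.FiniteType ℤ Γ(S₀, ⊤) ∧ LocallyOfFiniteType f₀ ∧ P f₀ ∧ Q f₀ := by
  classical
  let B : CommRingCat.{u} := Γ(S, ⊤)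
  let D : (FGSubZ B)ᵒᵖ ⥤ Scheme.{u} := (fgSubZDiagram B).op ⋙ Scheme.Spec
  let c : Cone D := Scheme.Spec.mapCone (fgSubZCocone B).op
  have hc : IsLimit c := isLimitOfPreserves Scheme.Spec (isColimitFgSubZCocone B).op
  have hD : ∀ {i k : (FGSubZ B)ᵒᵖ} (h : i ⟶ k), IsAffineHom (D.map h) := fun h ↦ by
    dsimp [D]; infer_instance
  have hD1 : ∀ i, CompactSpace (D.obj i) := fun i ↦ by dsimp [D]; infer_instance
  have hD2 : ∀ i, QuasiSeparatedSpace (D.obj i) := fun i ↦ by dsimp [D]; infer_instance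
  have hD3 : ∀ i, IsAffine (D.obj i) := fun i ↦ by dsimp [D]; infer_instance
  let e : S ≅ c.pt := S.isoSpec
  obtain ⟨R₁, hR₁⟩ := exists_factor g₁ hS₁
  obtain ⟨R₂, hR₂⟩ := exists_factor g₂ hS₂
  obtain ⟨R, h1R, h2R⟩ := exists_ge_ge R₁ R₂
  obtain ⟨t₁, ht₁⟩ := hR₁ R h1R
  obtain ⟨t₂, ht₂⟩ := hR₂ R h2R
  let M₁ : Model D c (Opposite.op R) (f ≫ e.hom) :=
    modelOfPullback f e f₁ g₁ g₁' h₁ (Opposite.op R) t₁ ht₁
  let M₂ : Model D c (Opposite.op R) (f ≫ e.hom) :=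
    modelOfPullback f e f₂ g₂ g₂' h₂ (Opposite.op R) t₂ ht₂
  have hN₁ : IsNoetherianRing Γ(S₁, ⊤) := Algebra.FiniteType.isNoetherianRing ℤ _
  have hN₂ : IsNoetherianRing Γ(S₂, ⊤) := Algebra.FiniteType.isNoetherianRing ℤ _
  have hLN₁ : IsLocallyNoetherian S₁ := isLocallyNoetherian_of_isOpenImmersion S₁.isoSpec.hom
  have hLN₂ : IsLocallyNoetherian S₂ := isLocallyNoetherian_of_isOpenImmersion S₂.isoSpec.hom
  have hfp₁ : LocallyOfFinitePresentation f₁ := inferInstance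
  have hfp₂ : LocallyOfFinitePresentation f₂ := inferInstance
  have hM₁fi : M₁.fi = pullback.snd f₁ t₁ := rfl
  have hM₂fi : M₂.fi = pullback.snd f₂ t₂ := rfl
  have : IsAffine M₁.Xi := inferInstanceAs (IsAffine (pullback f₁ t₁))
  have : IsAffine M₂.Xi := inferInstanceAs (IsAffine (pullback f₂ t₂))
  have : LocallyOfFinitePresentation M₁.fi :=
    MorphismProperty.pullback_snd (P := @LocallyOfFinitePresentation) _ _ hfp₁
  have : LocallyOfFinitePresentation M₂.fi :=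
    MorphismProperty.pullback_snd (P := @LocallyOfFinitePresentation) _ _ hfp₂
  have : QuasiCompact M₁.fi := inferInstance
  have : QuasiSeparated M₁.fi := inferInstance
  obtain ⟨l, φ, ⟨H⟩⟩ := HomModel.exists_stage hc M₁ M₂ (𝟙 X) (Category.id_comp _)
  have hf : 𝟙 X ≫ (f ≫ e.hom) = f ≫ e.hom := Category.id_comp _
  have : IsAffine (M₁.rebase φ).Xi := inferInstanceAs (IsAffine (pullback (D.map φ) M₁.fi))
  have : IsAffine (M₂.rebase φ).Xi := inferInstanceAs (IsAffine (pullback (D.map φ) M₂.fi))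
  have : LocallyOfFinitePresentation (M₁.rebase φ).fi :=
    MorphismProperty.pullback_fst (P := @LocallyOfFinitePresentation) _ _ ‹_›
  have : LocallyOfFinitePresentation (M₂.rebase φ).fi :=
    MorphismProperty.pullback_fst (P := @LocallyOfFinitePresentation) _ _ ‹_›
  have : LocallyOfFinitePresentation H.hi := by
    have : LocallyOfFinitePresentation (H.hi ≫ (M₂.rebase φ).fi) := by
      rw [H.hi_fi]; infer_instance
    exact Groth.Agent.Lib.Helper24.locallyOfFinitePresentation_of_comp H.hi (M₂.rebase φ).fi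
  have : QuasiCompact H.hi := inferInstance
  obtain ⟨l', φ', hiso⟩ := HomModel.exists_stage_of_descends hc H hf
    (descends_isomorphisms D c hc l H.hi (M₂.rebase φ).fi)
    (MorphismProperty.isomorphisms.infer_property _)
  have hiso' : IsIso (H.rebase hf φ').hi := hiso
  refine ⟨((M₁.rebase φ).rebase φ').Xi, D.obj l', ((M₁.rebase φ).rebase φ').fi,
    e.hom ≫ c.π.app l', ((M₁.rebase φ).rebase φ').g, ?_, hD3 l', ?_, ?_, ?_, ?_, ?_⟩
  · exact inferInstanceAs (IsAffine (pullback (D.map φ') (M₁.rebase φ).fi))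
  · exact ((M₁.rebase φ).rebase φ').sq.of_iso (Iso.refl _) (Iso.refl _) e.symm (Iso.refl _)
      (by simp) (by simp) (by simp) (by simp)
  · have h1 : Algebra.FiniteType ℤ l'.unop.1 := (Subalgebra.fg_iff_finiteType _).mp l'.unop.2
    exact Algebra.FiniteType.equiv h1
      (Scheme.ΓSpecIso (.of l'.unop.1)).commRingCatIsoToRingEquiv.symm.toIntAlgEquiv
  · have : LocallyOfFinitePresentation ((M₁.rebase φ).rebase φ').fi :=
      MorphismProperty.pullback_fst (P := @LocallyOfFinitePresentation) _ _ ‹_›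
    infer_instance
  · exact P.pullback_fst _ _ (P.pullback_fst _ _ (P.pullback_snd _ _ hP))
  · have hQ₂ : Q ((M₂.rebase φ).rebase φ').fi :=
      Q.pullback_fst _ _ (Q.pullback_fst _ _ (Q.pullback_snd _ _ hQ))
    rw [← (H.rebase hf φ').hi_fi]
    exact (Q.cancel_left_of_respectsIso (H.rebase hf φ').hi _).mpr hQ₂

end Groth.Agent.S9737
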