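import Groth.Statements.S1461
import Groth.Agent.S1460
import Groth.Agent.S9737
import Groth.Agent.Lib.Helper24.ConsGeomReduced
-- import your own Groth.Agent.* helpers here

set_option autoImplicit false
universe u
open FlatMor

namespace Groth.Agent.S1461

open AlgebraicGeometry CategoryTheory Limits Groth.Agent.Lib.Helper24.Lim8
  Groth.Agent.Lib.Helper24.ConsLocus Groth.Agent.Lib.Helper24.ConsGeomReduced

open AlgebraicGeometry CategoryTheory Limits in
/-- Let f : X → S be a morphism of finite presentation between affine schemes whose fibres are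
geometrically reduced. Then f is the base change of a morphism of finite type f₀ : X₀ → S₀ between
affine schemes with S₀ of finite type over ℤ, where f₀ can be chosen with the same property. -/
theorem result {X S : Scheme.{u}} (f : X ⟶ S) [IsAffine X] [IsAffine S] [LocallyOfFinitePresentation f] [GeometricallyReduced f] :
    ∃ (X₀ S₀ : Scheme.{u}) (f₀ : X₀ ⟶ S₀) (g : S ⟶ S₀) (g' : X ⟶ X₀), IsAffine X₀ ∧ IsAffine S₀ ∧ IsPullback g' f f₀ g ∧
      Algebra.FiniteType ℤ Γ(S₀, ⊤) ∧ LocallyOfFiniteType f₀ ∧ GeometricallyReduced f₀ := by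
  classical
  obtain ⟨X₁, S₁, f₁, g₁, g₁', hX₁, hS₁aff, h₁, hS₁, hf₁⟩ := Groth.Agent.S1460.result f
  let B : CommRingCat.{u} := Γ(S, ⊤)
  let D : (FGSubZ B)ᵒᵖ ⥤ Scheme.{u} := (fgSubZDiagram B).op ⋙ Scheme.Spec
  let c : Cone D := Scheme.Spec.mapCone (fgSubZCocone B).op
  have hc : IsLimit c := isLimitOfPreserves Scheme.Spec (isColimitFgSubZCocone B).op
  have hD : ∀ {i k : (FGSubZ B)ᵒᵖ} (h : i ⟶ k), IsAffineHom (D.map h) := fun h ↦ by
    dsimp [D]; infer_instance
  have hD1 : ∀ i, CompactSpace (D.obj i) := fun i ↦ by dsimp [D]; infer_instance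
  have hD2 : ∀ i, QuasiSeparatedSpace (D.obj i) := fun i ↦ by dsimp [D]; infer_instance
  have hD3 : ∀ i, IsAffine (D.obj i) := fun i ↦ by dsimp [D]; infer_instance
  let e : S ≅ c.pt := S.isoSpec
  obtain ⟨R₁, hR₁⟩ := Groth.Agent.S9737.exists_factor g₁ hS₁
  obtain ⟨t₁, ht₁⟩ := hR₁ R₁ le_rfl
  let M₁ : Model D c (Opposite.op R₁) (f ≫ e.hom) :=
    Groth.Agent.S9737.modelOfPullback f e f₁ g₁ g₁' h₁ (Opposite.op R₁) t₁ ht₁
  have hN₁ : IsNoetherianRing Γ(S₁, ⊤) := Algebra.FiniteType.isNoetherianRing ℤ _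
  have hLN₁ : IsLocallyNoetherian S₁ := isLocallyNoetherian_of_isOpenImmersion S₁.isoSpec.hom
  have hfp₁ : LocallyOfFinitePresentation f₁ := inferInstance
  have hM₁fi : M₁.fi = pullback.snd f₁ t₁ := rfl
  have hM₁aff : IsAffine M₁.Xi := inferInstanceAs (IsAffine (pullback f₁ t₁))
  have hM₁fp : LocallyOfFinitePresentation M₁.fi :=
    MorphismProperty.pullback_snd (P := @LocallyOfFinitePresentation) _ _ hfp₁
  have hM₁qc : QuasiCompact M₁.fi := inferInstance
  have hM₁qs : QuasiSeparated M₁.fi := inferInstance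
  have hfe : GeometricallyReduced (f ≫ e.hom) :=
    (MorphismProperty.cancel_right_of_respectsIso (P := @GeometricallyReduced) f e.hom).mpr ‹_›
  have hall : theoryGR.locus (S := c.pt)
      (⟨X, f ≫ e.hom, inferInstance, inferInstance, inferInstance⟩ : SingleDat c.pt) =
        Set.univ := by
    refine Set.eq_univ_of_forall fun s ↦ ?_
    change GeometricallyReduced ((f ≫ e.hom).fiberToSpecResidueField s)
    infer_instance
  obtain ⟨j, φ, dj, ⟨eX, hdj⟩, hj⟩ := LocusTheory.exists_stage_locus_eq_univ (T := theoryGR)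
    genInd_theoryGR D c hc (Opposite.op R₁) ⟨M₁.Xi, M₁.fi, hM₁fp, hM₁qc, hM₁qs⟩
    ⟨X, f ≫ e.hom, inferInstance, inferInstance, inferInstance⟩ ⟨M₁.g, M₁.sq⟩ hall
  have hjall : ∀ y : D.obj j, GeometricallyReduced (dj.u.fiberToSpecResidueField y) := by
    intro y
    have : y ∈ theoryGR.locus dj := hj ▸ Set.mem_univ y
    exact this
  have hdjGR : GeometricallyReduced dj.u := by
    refine ⟨(geometrically_iff_forall_fiberToSpecResidueField).mpr fun y ↦ ?_⟩
    exact (hjall y).geometrically_isReduced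
  have hdjaff : IsAffineHom dj.u :=
    MorphismProperty.of_isPullback (P := @IsAffineHom) hdj inferInstance
  have hdjX : IsAffine dj.X := isAffine_of_isAffineHom dj.u
  have hw : M₁.g ≫ M₁.fi = ((f ≫ e.hom) ≫ c.π.app j) ≫ D.map φ := by
    rw [M₁.sq.w, Category.assoc, Category.assoc, Category.assoc, c.w]
  let gX : X ⟶ dj.X := hdj.lift M₁.g ((f ≫ e.hom) ≫ c.π.app j) hw
  have hgX1 : gX ≫ eX = M₁.g := hdj.lift_fst _ _ _
  have hgX2 : gX ≫ dj.u = (f ≫ e.hom) ≫ c.π.app j := hdj.lift_snd _ _ _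
  have hsq : IsPullback gX (f ≫ e.hom) dj.u (c.π.app j) := by
    refine IsPullback.of_right ?_ hgX2 hdj
    rw [hgX1, c.w]
    exact M₁.sq
  refine ⟨dj.X, D.obj j, dj.u, e.hom ≫ c.π.app j, gX, hdjX, hD3 j, ?_, ?_, inferInstance, hdjGR⟩
  · exact hsq.of_iso (Iso.refl _) (Iso.refl _) e.symm (Iso.refl _)
      (by simp) (by simp) (by simp) (by simp)
  · have h1 : Algebra.FiniteType ℤ j.unop.1 := (Subalgebra.fg_iff_finiteType _).mp j.unop.2
    exact Algebra.FiniteType.equiv h1
      (Scheme.ΓSpecIso (.of j.unop.1)).commRingCatIsoToRingEquiv.symm.toIntAlgEquiv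

end Groth.Agent.S1461
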