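import Groth.Statements.S14610
import Mathlib
import Groth.Agent.Lib.Helper45.FibreDim

set_option autoImplicit false
universe u v
open CAlg

namespace Groth.Agent.S14610


open Groth.Agent.Lib.Helper45.Fitting in
/-- two upper semicontinuous `ℕ`-valued functions with locally constant sum are locally constant -/
lemma isLocallyConstant_of_usc_add {X : Type*} [TopologicalSpace X] (f g : X → ℕ)
    (hf : UpperSemicontinuous f) (hg : UpperSemicontinuous g)
    (h : IsLocallyConstant (fun x => f x + g x)) : IsLocallyConstant f := by
  rw [IsLocallyConstant.iff_exists_open]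
  intro x
  rw [upperSemicontinuous_iff_isOpen_preimage] at hf hg
  refine ⟨(f ⁻¹' Set.Iio (f x + 1)) ∩ (g ⁻¹' Set.Iio (g x + 1)) ∩
    ((fun x => f x + g x) ⁻¹' {f x + g x}), ?_, ?_, ?_⟩
  · exact ((hf _).inter (hg _)).inter (h.isOpen_fiber _)
  · refine ⟨⟨?_, ?_⟩, rfl⟩ <;> simp
  · rintro y ⟨⟨h1, h2⟩, h3⟩
    simp only [Set.mem_preimage, Set.mem_Iio, Set.mem_singleton_iff] at h1 h2 h3
    omega

/-- a retract of a projective module is projective, and the kernel of a surjection onto a projective is a retract -/
lemma exists_retraction_ker {A : Type*} [CommRing A] {M P : Type*} [AddCommGroup M] [Module A M]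
    [AddCommGroup P] [Module A P] [Module.Projective A P] (π : M →ₗ[A] P) (hπ : Function.Surjective π) :
    ∃ r : M →ₗ[A] LinearMap.ker π, r ∘ₗ (LinearMap.ker π).subtype = LinearMap.id := by
  obtain ⟨s, hs⟩ := Module.projective_lifting_property π LinearMap.id hπ
  have hs' : ∀ y, π (s y) = y := fun y => LinearMap.congr_fun hs y
  refine ⟨LinearMap.codRestrict (LinearMap.ker π) (LinearMap.id - s ∘ₗ π) ?_, ?_⟩
  · intro x
    simp [hs']
  · ext x
    have : π x.1 = 0 := x.2
    simp [this]

open TensorProduct in
/-- Let A be a reduced Noetherian ring, M a finitely generated A-module, F a finitely generated free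
A-module and δ : M → F an A-linear map such that the function p ↦ dim_{κ(p)} ker(δ ⊗ κ(p)) is
locally constant on Spec A. Then M, ker δ and coker δ = F / im δ are projective A-modules, and for
every A-module N the natural map (ker δ) ⊗ N → M ⊗ N is injective with image equal to the kernel of
δ ⊗ N. -/
theorem result (A : Type u) [CommRing A]
    [IsNoetherianRing A] [IsReduced A] (M : Type v) (F : Type v) [AddCommGroup M] [Module A M]
    [Module.Finite A M] [AddCommGroup F] [Module A F] [Module.Finite A F] [Module.Free A F]
    (δ : M →ₗ[A] F)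
    (h : IsLocallyConstant (fun x : PrimeSpectrum A =>
      Module.finrank x.asIdeal.ResidueField
        (LinearMap.ker (δ.baseChange x.asIdeal.ResidueField)))) :
    Module.Projective A M ∧ Module.Projective A (LinearMap.ker δ) ∧
      Module.Projective A (F ⧸ LinearMap.range δ) ∧
      ∀ (N : Type v) [AddCommGroup N] [Module A N],
        Function.Injective (LinearMap.rTensor N (LinearMap.ker δ).subtype) ∧
        Function.Exact (LinearMap.rTensor N (LinearMap.ker δ).subtype) (LinearMap.rTensor N δ) := by
  open Groth.Agent.Lib.Helper45.Fitting in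
  have hsum : ∀ x : PrimeSpectrum A,
      Module.finrank x.asIdeal.ResidueField (LinearMap.ker (δ.baseChange x.asIdeal.ResidueField)) +
        Module.finrank A F = fibreDim A M x + fibreDim A (F ⧸ LinearMap.range δ) x := by
    intro x
    have h1 := fibreDim_coker_add δ x
    have h2 := fibreDim_ker_add δ x
    have h3 := fibreDim_of_free (R := A) (K' := F) x
    omega
  have hlc : IsLocallyConstant (fun x : PrimeSpectrum A =>
      fibreDim A M x + fibreDim A (F ⧸ LinearMap.range δ) x) := by
    have h2 : IsLocallyConstant (fun x : PrimeSpectrum A =>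
        Module.finrank x.asIdeal.ResidueField (LinearMap.ker (δ.baseChange x.asIdeal.ResidueField)) +
          Module.finrank A F) := h.comp (fun n => n + Module.finrank A F)
    convert h2 using 2 with x
    exact (hsum x).symm
  have hM : IsLocallyConstant (fibreDim A M) :=
    isLocallyConstant_of_usc_add _ _ upperSemicontinuous_fibreDim upperSemicontinuous_fibreDim hlc
  have hC : IsLocallyConstant (fibreDim A (F ⧸ LinearMap.range δ)) := by
    refine isLocallyConstant_of_usc_add _ (fibreDim A M) upperSemicontinuous_fibreDim
      upperSemicontinuous_fibreDim ?_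
    convert hlc using 2 with x
    exact add_comm _ _
  have pM : Module.Projective A M := projective_of_isLocallyConstant_fibreDim hM
  have pC : Module.Projective A (F ⧸ LinearMap.range δ) := projective_of_isLocallyConstant_fibreDim hC
  -- range δ is a retract of F
  obtain ⟨r1, hr1⟩ := exists_retraction_ker (LinearMap.range δ).mkQ (Submodule.mkQ_surjective _)
  let e : LinearMap.ker (LinearMap.range δ).mkQ ≃ₗ[A] LinearMap.range δ :=
    LinearEquiv.ofEq _ _ (Submodule.ker_mkQ _)
  have pI : Module.Projective A (LinearMap.range δ) := by
    have : Module.Projective A (LinearMap.ker (LinearMap.range δ).mkQ) :=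
      Module.Projective.of_split _ r1 hr1
    exact Module.Projective.of_equiv e
  obtain ⟨r2, hr2⟩ := exists_retraction_ker δ.rangeRestrict δ.surjective_rangeRestrict
  have hker : LinearMap.ker δ.rangeRestrict = LinearMap.ker δ := LinearMap.ker_rangeRestrict δ
  let e2 : LinearMap.ker δ.rangeRestrict ≃ₗ[A] LinearMap.ker δ := LinearEquiv.ofEq _ _ hker
  have pK : Module.Projective A (LinearMap.ker δ) := by
    have : Module.Projective A (LinearMap.ker δ.rangeRestrict) :=
      Module.Projective.of_split _ r2 hr2
    exact Module.Projective.of_equiv e2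
  refine ⟨pM, pK, pC, ?_⟩
  intro N _ _
  -- retraction of ker δ ⊆ M
  let ρ : M →ₗ[A] LinearMap.ker δ := e2.toLinearMap ∘ₗ r2
  have hρ : ρ ∘ₗ (LinearMap.ker δ).subtype = LinearMap.id := by
    ext x
    have h1 := LinearMap.congr_fun hr2 (e2.symm x)
    have h2 : (LinearMap.ker δ.rangeRestrict).subtype (e2.symm x) = (x : M) := rfl
    simp only [LinearMap.comp_apply, LinearMap.id_apply] at h1
    simp only [ρ, LinearMap.comp_apply, LinearMap.id_apply, Submodule.subtype_apply]
    rw [h2] at h1
    rw [h1]
    simp
  -- retraction of range δ ⊆ F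
  let ρ' : F →ₗ[A] LinearMap.range δ := e.toLinearMap ∘ₗ r1
  have hρ' : ρ' ∘ₗ (LinearMap.range δ).subtype = LinearMap.id := by
    ext x
    have h1 := LinearMap.congr_fun hr1 (e.symm x)
    have h2 : (LinearMap.ker (LinearMap.range δ).mkQ).subtype (e.symm x) = (x : F) := rfl
    simp only [LinearMap.comp_apply, LinearMap.id_apply] at h1
    simp only [ρ', LinearMap.comp_apply, LinearMap.id_apply, Submodule.subtype_apply]
    rw [h2] at h1
    rw [h1]
    simp
  have hinj : Function.Injective (LinearMap.rTensor N (LinearMap.ker δ).subtype) := by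
    apply Function.LeftInverse.injective (g := LinearMap.rTensor N ρ)
    intro x
    rw [← LinearMap.comp_apply, ← LinearMap.rTensor_comp, hρ, LinearMap.rTensor_id, LinearMap.id_apply]
  have hinj' : Function.Injective (LinearMap.rTensor N (LinearMap.range δ).subtype) := by
    apply Function.LeftInverse.injective (g := LinearMap.rTensor N ρ')
    intro x
    rw [← LinearMap.comp_apply, ← LinearMap.rTensor_comp, hρ', LinearMap.rTensor_id, LinearMap.id_apply]
  refine ⟨hinj, ?_⟩
  have hex : Function.Exact (LinearMap.ker δ).subtype δ.rangeRestrict := by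
    rw [LinearMap.exact_iff, hker, Submodule.range_subtype]
  have hex2 := rTensor_exact N hex δ.surjective_rangeRestrict
  have hcomp : LinearMap.rTensor N δ =
      LinearMap.rTensor N (LinearMap.range δ).subtype ∘ₗ LinearMap.rTensor N δ.rangeRestrict := by
    rw [← LinearMap.rTensor_comp]
    congr 1
  have := hex2.comp_injective (g' := LinearMap.rTensor N (LinearMap.range δ).subtype) hinj' (map_zero _)
  rw [hcomp]
  exact this

end Groth.Agent.S14610
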