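import Groth.Statements.S14612
import Mathlib.RingTheory.Flat.Equalizer
import Mathlib.Algebra.Homology.ShortComplex.ModuleCat
import Mathlib.Algebra.Homology.ShortComplex.HomologicalComplex
import Mathlib.Algebra.Category.ModuleCat.EpiMono
-- import your own Groth.Agent.* helpers here

set_option autoImplicit false
universe u
open FlatCx

namespace Groth.Agent.S14612

/-- The kernel of a surjection of flat modules is flat. -/
theorem flat_of_exact {A : Type u} [CommRing A] {Z X Z' : Type u}
    [AddCommGroup Z] [Module A Z] [AddCommGroup X] [Module A X] [AddCommGroup Z'] [Module A Z']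
    (g : Z →ₗ[A] X) (f : X →ₗ[A] Z') (hg : Function.Injective g) (hf : Function.Surjective f)
    (H : Function.Exact g f) [Module.Flat A X] [Module.Flat A Z'] : Module.Flat A Z := by
  rw [Module.Flat.iff_lTensor_preserves_injective_linearMap]
  intro N N' _ _ _ _ φ hφ
  have h1 : Function.Injective (g.rTensor N) := by
    rw [← LinearMap.lTensor_inj_iff_rTensor_inj]
    exact LinearMap.lTensor_injective_of_exact_of_flat f hf g hg H N
  have h2 : Function.Injective (φ.lTensor X) :=
    Module.Flat.lTensor_preserves_injective_linearMap φ hφ
  have h3 : (φ.lTensor X) ∘ₗ (g.rTensor N) = (g.rTensor N') ∘ₗ (φ.lTensor Z) := by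
    rw [LinearMap.lTensor_comp_rTensor, LinearMap.rTensor_comp_lTensor]
  have h4 : Function.Injective ((g.rTensor N') ∘ₗ (φ.lTensor Z)) := by
    rw [← h3]; exact h2.comp h1
  exact Function.Injective.of_comp h4

open CategoryTheory CategoryTheory.Limits in
/-- One step of the descending induction. -/
theorem flat_cycles_step {A : Type u} [CommRing A]
    (F : CochainComplex (ModuleCat.{u} A) ℤ) (p : ℤ) (hX : Module.Flat A (F.X p))
    (hZ : Module.Flat A (F.cycles (p + 1))) (hex : IsZero (F.homology (p + 1))) :
    Module.Flat A (F.cycles p) := by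
  have hprev : (ComplexShape.up ℤ).prev (p + 1) = p := by simp
  have hnext : (ComplexShape.up ℤ).next p = p + 1 := by simp
  -- surjectivity of `F^p → Z^{p+1}`
  have hepi : Epi (F.toCycles p (p + 1)) := by
    have hE : F.ExactAt (p + 1) := (F.exactAt_iff_isZero_homology (p + 1)).mpr hex
    have key : ∀ i : ℤ, (ComplexShape.up ℤ).prev (p + 1) = i → Epi (F.toCycles i (p + 1)) := by
      intro i hi
      subst hi
      exact (ShortComplex.exact_iff_epi_toCycles _).mp hE
    exact key p hprev
  have hsurj : Function.Surjective (F.toCycles p (p + 1)).hom :=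
    (ModuleCat.epi_iff_surjective _).mp hepi
  have hinj : Function.Injective (F.iCycles p).hom :=
    (ModuleCat.mono_iff_injective _).mp inferInstance
  have hexact : Function.Exact (F.iCycles p).hom (F.toCycles p (p + 1)).hom := by
    intro x
    constructor
    · intro hx
      -- `x` is killed by `d`, hence lifts to the cycles
      have hdx : (F.d p (p + 1)).hom x = 0 := by
        have := congrArg (F.iCycles (p + 1)).hom hx
        rw [map_zero] at this
        rw [← this, ← F.toCycles_i p (p + 1)]
        rfl
      have hlim := F.cyclesIsKernel p (p + 1) hnext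
      -- use the kernel property in `ModuleCat`
      let ι : ModuleCat.of A (LinearMap.ker (F.d p (p + 1)).hom) ⟶ F.X p :=
        ModuleCat.ofHom (LinearMap.ker (F.d p (p + 1)).hom).subtype
      have hι : ι ≫ F.d p (p + 1) = 0 := by
        ext y
        exact y.2
      let l := hlim.lift (KernelFork.ofι ι hι)
      have hl : l ≫ F.iCycles p = ι := hlim.fac (KernelFork.ofι ι hι) WalkingParallelPair.zero
      refine ⟨l.hom ⟨x, hdx⟩, ?_⟩
      have := congrArg (fun φ => φ.hom ⟨x, hdx⟩) hl
      exact this
    · rintro ⟨z, rfl⟩
      have hcomp : F.iCycles p ≫ F.toCycles p (p + 1) = 0 := by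
        rw [← cancel_mono (F.iCycles (p + 1)), Category.assoc, F.toCycles_i, F.iCycles_d,
          zero_comp]
      exact congrArg (fun φ => φ.hom z) hcomp
  exact flat_of_exact (F.iCycles p).hom (F.toCycles p (p + 1)).hom hinj hsurj hexact

open CategoryTheory CategoryTheory.Limits in
/-- Let A be a commutative ring and F a cochain complex of flat A-modules which is bounded above (F^i =
0 for all large i) and whose cohomology H^p(F) vanishes for every p > d. Then the module of
d-cocycles Z^d = ker(F^d → F^{d+1}) is flat over A; hence the truncation τ_{≤ d} F is again a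
complex of flat modules (and τ_{≤ d} F → F is a quasi-isomorphism, which is not restated).
Boundedness cannot be dropped. -/
theorem result (A : Type u) [CommRing A]
    (F : CochainComplex (ModuleCat.{u} A) ℤ) (hF : ∀ i, Module.Flat A (F.X i))
    (hb : ∃ b : ℤ, ∀ i, b < i → IsZero (F.X i)) (d : ℤ) (hac : ∀ p, d < p → IsZero (F.homology p)) :
    Module.Flat A (F.cycles d) := by
  obtain ⟨b, hb⟩ := hb
  have key : ∀ k : ℕ, ∀ p : ℤ, d ≤ p → b < p + k → Module.Flat A (F.cycles p) := by
    intro k
    induction k with
    | zero =>
      intro p _ hp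
      have hz : IsZero (F.X p) := hb p (by simpa using hp)
      have hz' : IsZero (F.cycles p) := IsZero.of_mono (F.iCycles p) hz
      have : Subsingleton (F.cycles p) := ModuleCat.subsingleton_of_isZero hz'
      infer_instance
    | succ k ih =>
      intro p hdp hp
      have h1 : Module.Flat A (F.cycles (p + 1)) := ih (p + 1) (by omega) (by push_cast at hp ⊢; omega)
      exact flat_cycles_step F p (hF p) h1 (hac (p + 1) (by omega))
  exact key (b - d + 1).toNat d le_rfl (by omega)

end Groth.Agent.S14612
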