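import Groth.Statements.S14614
import Mathlib
-- import your own Groth.Agent.* helpers here

set_option autoImplicit false
universe u
open Mor

namespace Groth.Agent.S14614
open CategoryTheory AlgebraicGeometry Limits TopologicalSpace Topology Opposite


lemma ker_le_pow (S : Scheme.{u}) [IsLocallyNoetherian S]
    {Z : Scheme.{u}} (i : Z ⟶ S) [IsClosedImmersion i]
    (h : ∀ (A : Type u) [CommRing A] [IsArtinianRing A] [IsLocalRing A] (g : Spec (CommRingCat.of A) ⟶ S),
      (∃ t : Spec (CommRingCat.of (IsLocalRing.ResidueField A)) ⟶ Z,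
          t ≫ i = Spec.map (CommRingCat.ofHom (IsLocalRing.residue A)) ≫ g) →
        ∃ g' : Spec (CommRingCat.of A) ⟶ Z, g' ≫ i = g) (z : Z) (n : ℕ) :
    RingHom.ker (i.stalkMap z).hom ≤
      (IsLocalRing.maximalIdeal (S.presheaf.stalk (i z))) ^ (n + 1) := by
  set B := S.presheaf.stalk (i z) with hB
  set m := IsLocalRing.maximalIdeal B with hm
  have hmtop : m ≠ ⊤ := Ideal.IsPrime.ne_top'
  have hle : m ^ (n + 1) ≤ m := Ideal.pow_le_self (Nat.succ_ne_zero n)
  haveI : Nontrivial (B ⧸ m ^ (n + 1)) :=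
    Ideal.Quotient.nontrivial_iff.mpr (fun h => hmtop (top_le_iff.mp (h ▸ hle)))
  haveI : IsLocalRing (B ⧸ m ^ (n + 1)) :=
    IsLocalRing.of_surjective' (Ideal.Quotient.mk (m ^ (n + 1))) Ideal.Quotient.mk_surjective
  haveI : IsArtinianRing (B ⧸ m ^ (n + 1)) := by
    apply IsLocalRing.quotient_artinian_of_mem_minimalPrimes_of_isLocalRing
    rw [Ideal.minimalPrimes, Set.mem_ofPred]
    refine ⟨⟨inferInstance, hle⟩, fun q hq _ => ?_⟩
    haveI := hq.1
    exact Ideal.IsPrime.le_of_pow_le hq.2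
  have hmksurj : Function.Surjective (Ideal.Quotient.mk (m ^ (n + 1))) :=
    Ideal.Quotient.mk_surjective
  haveI hloc : IsLocalHom (Ideal.Quotient.mk (m ^ (n + 1))) :=
    IsLocalHom.of_surjective _ hmksurj
  haveI hloc' : IsLocalHom (CommRingCat.ofHom (Ideal.Quotient.mk (m ^ (n + 1)))).hom := hloc
  let g : Spec (CommRingCat.of (B ⧸ m ^ (n + 1))) ⟶ S :=
    Spec.map (CommRingCat.ofHom (Ideal.Quotient.mk (m ^ (n + 1)))) ≫ S.fromSpecStalk (i z)
  have hφ : Function.Surjective (i.stalkMap z).hom := i.stalkMap_surjective z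
  let ψ : B →+* IsLocalRing.ResidueField (B ⧸ m ^ (n + 1)) :=
    (IsLocalRing.residue (B ⧸ m ^ (n + 1))).comp (Ideal.Quotient.mk (m ^ (n + 1)))
  have hker : RingHom.ker (i.stalkMap z).hom ≤ RingHom.ker ψ := by
    intro b hb
    rw [RingHom.mem_ker] at hb ⊢
    show IsLocalRing.residue _ (Ideal.Quotient.mk (m ^ (n + 1)) b) = 0
    rw [IsLocalRing.residue_eq_zero_iff, IsLocalRing.mem_maximalIdeal, mem_nonunits_iff]
    intro hu
    have hub : IsUnit b := hloc.map_nonunit b hu
    have := hub.map (i.stalkMap z).hom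
    rw [hb] at this
    exact not_isUnit_zero this
  let τ : Z.presheaf.stalk z →+* IsLocalRing.ResidueField (B ⧸ m ^ (n + 1)) :=
    RingHom.liftOfSurjective (i.stalkMap z).hom hφ ⟨ψ, hker⟩
  have hτ : τ.comp (i.stalkMap z).hom = ψ := RingHom.liftOfSurjective_comp _ hφ ⟨ψ, hker⟩
  obtain ⟨g', hg'⟩ := h (B ⧸ m ^ (n + 1)) g
    ⟨Spec.map (CommRingCat.ofHom τ) ≫ Z.fromSpecStalk z, by
      rw [Category.assoc, ← Scheme.SpecMap_stalkMap_fromSpecStalk, ← Spec.map_comp_assoc]
      show _ = _ ≫ _ ≫ _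
      rw [← Spec.map_comp_assoc]
      congr 2
      ext x
      exact congrArg (fun f => f x) hτ⟩
  have hgcp : g (IsLocalRing.closedPoint (B ⧸ m ^ (n + 1))) = i z := by
    show (Spec.map (CommRingCat.ofHom (Ideal.Quotient.mk (m ^ (n + 1)))) ≫ S.fromSpecStalk (i z))
      (IsLocalRing.closedPoint (B ⧸ m ^ (n + 1))) = i z
    rw [Scheme.Hom.comp_apply, Spec_closedPoint, Scheme.fromSpecStalk_closedPoint]
  have hz' : g' (IsLocalRing.closedPoint (B ⧸ m ^ (n + 1))) = z := by
    apply i.injective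
    rw [← Scheme.Hom.comp_apply, hg', hgcp]
  intro b hb
  rw [RingHom.mem_ker] at hb
  obtain ⟨U, hU, β, rfl⟩ := TopCat.Presheaf.exists_germ_eq S.presheaf b
  have key : ∀ (g₀ : Spec (CommRingCat.of (B ⧸ m ^ (n + 1))) ⟶ S) (hg : g' ≫ i = g₀)
      (hU₀ : g₀ (IsLocalRing.closedPoint (B ⧸ m ^ (n + 1))) ∈ U),
      (S.presheaf.germ U _ hU₀ ≫ Scheme.stalkClosedPointTo g₀).hom β = 0 := by
    rintro _ rfl hU₀
    have aux : ∀ z' (hz : z' = z) (hm : z' ∈ i ⁻¹ᵁ U),
        Z.presheaf.germ (i ⁻¹ᵁ U) z' hm (i.app U β) = 0 := by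
      rintro _ rfl hm
      rw [← Scheme.Hom.germ_stalkMap_apply]
      exact hb
    rw [Scheme.stalkClosedPointTo_comp]
    have e := Scheme.Hom.germ_stalkMap i U (g' (IsLocalRing.closedPoint (B ⧸ m ^ (n + 1)))) hU₀
    have e2 : (S.presheaf.germ U (i (g' (IsLocalRing.closedPoint (B ⧸ m ^ (n + 1))))) hU₀ ≫
        i.stalkMap (g' (IsLocalRing.closedPoint (B ⧸ m ^ (n + 1)))) ≫
        Scheme.stalkClosedPointTo g') =
        i.app U ≫ Z.presheaf.germ (i ⁻¹ᵁ U) (g' (IsLocalRing.closedPoint (B ⧸ m ^ (n + 1)))) hU₀ ≫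
          Scheme.stalkClosedPointTo g' := by
      rw [← Category.assoc, e, Category.assoc]
    refine (congrArg (fun φ => φ.hom β) e2).trans ?_
    show (Scheme.stalkClosedPointTo g').hom
      ((Z.presheaf.germ (i ⁻¹ᵁ U) _ hU₀).hom ((i.app U).hom β)) = 0
    have h0 := aux _ hz' hU₀
    rw [show (Z.presheaf.germ (i ⁻¹ᵁ U) _ hU₀).hom ((i.app U).hom β) = 0 from h0, map_zero]
  have hUg : g (IsLocalRing.closedPoint (B ⧸ m ^ (n + 1))) ∈ U := hgcp ▸ hU
  have h1 := key g hg' hUg
  have h2 := Scheme.germ_stalkClosedPointTo_Spec_fromSpecStalk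
    (CommRingCat.ofHom (Ideal.Quotient.mk (m ^ (n + 1)))) U hUg
  have h3 := (congrArg (fun φ => φ.hom β) h2).symm.trans h1
  rw [← Ideal.Quotient.eq_zero_iff_mem]
  exact h3


open CategoryTheory AlgebraicGeometry in
/-- Let S be a locally Noetherian scheme and i : Z → S a closed immersion with the following property:
for every Artinian local ring A with residue field k and every morphism g : Spec A → S, if the
restriction Spec k → Spec A → S of g factors through i then so does g. Then i is also an open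
immersion, i.e. the closed subscheme Z is open in S as a subscheme. (The published hypothesis is an
equivalence; its other direction always holds, so this row assumes only the implication.) -/
theorem result (S : Scheme.{u}) [IsLocallyNoetherian S]
    {Z : Scheme.{u}} (i : Z ⟶ S) [IsClosedImmersion i]
    (h : ∀ (A : Type u) [CommRing A] [IsArtinianRing A] [IsLocalRing A] (g : Spec (CommRingCat.of A) ⟶ S),
      (∃ t : Spec (CommRingCat.of (IsLocalRing.ResidueField A)) ⟶ Z,
          t ≫ i = Spec.map (CommRingCat.ofHom (IsLocalRing.residue A)) ≫ g) →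
        ∃ g' : Spec (CommRingCat.of A) ⟶ Z, g' ≫ i = g) :
    IsOpenImmersion i := by
  haveI : LocallyOfFinitePresentation i := inferInstance
  suffices Flat i from IsOpenImmersion.of_flat_of_mono i
  rw [Flat.iff_flat_stalkMap]
  intro z
  apply RingHom.Flat.of_bijective
  refine ⟨?_, i.stalkMap_surjective z⟩
  rw [RingHom.injective_iff_ker_eq_bot, eq_bot_iff]
  have hmtop : IsLocalRing.maximalIdeal (S.presheaf.stalk (i z)) ≠ ⊤ := Ideal.IsPrime.ne_top'
  rw [← Ideal.iInf_pow_eq_bot_of_isLocalRing _ hmtop]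
  refine le_iInf fun n => ?_
  rcases n with _ | n
  · simp
  · exact ker_le_pow S i h z n

end Groth.Agent.S14614
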