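import Groth.Statements.S14617
-- import your own Groth.Agent.* helpers here

set_option autoImplicit false
universe u
open Formal2

namespace Groth.Agent.S14617

/-- The snake lemma for abelian groups, elementwise, for endomorphisms `d', d, d''` of a short exact
sequence `0 → A' → A → A'' → 0`. -/
theorem snake {A' A A'' : Type u} [AddCommGroup A'] [AddCommGroup A] [AddCommGroup A'']
    (U : A' →+ A) (V : A →+ A'') (d' : A' →+ A') (d : A →+ A) (d'' : A'' →+ A'')
    (hU : ∀ x, d (U x) = U (d' x)) (hV : ∀ y, d'' (V y) = V (d y))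
    (hinj : Function.Injective U) (hsurj : Function.Surjective V)
    (hex : ∀ y, V y = 0 → ∃ x, U x = y) (hUV : ∀ x, V (U x) = 0) :
    ∃ (α : d'.ker →+ d.ker) (β : d.ker →+ d''.ker) (δ : d''.ker →+ A' ⧸ d'.range)
      (ε : A' ⧸ d'.range →+ A ⧸ d.range) (ζ : A ⧸ d.range →+ A'' ⧸ d''.range),
      (∀ x : d'.ker, (α x : A) = U x) ∧ (∀ x : d.ker, (β x : A'') = V x) ∧
      (∀ (z : d''.ker) (y : A) (w : A'), V y = z → U w = d y →
        δ z = (QuotientAddGroup.mk w : A' ⧸ d'.range)) ∧
      (∀ y : A', ε (QuotientAddGroup.mk y : A' ⧸ d'.range) =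
        (QuotientAddGroup.mk (U y) : A ⧸ d.range)) ∧
      (∀ y : A, ζ (QuotientAddGroup.mk y : A ⧸ d.range) =
        (QuotientAddGroup.mk (V y) : A'' ⧸ d''.range)) ∧
      Function.Injective α ∧ α.range = β.ker ∧ β.range = δ.ker ∧ δ.range = ε.ker ∧
      ε.range = ζ.ker ∧ Function.Surjective ζ := by
  -- the maps on kernels
  let α : d'.ker →+ d.ker := (U.comp d'.ker.subtype).codRestrict d.ker fun x => by
    change d (U x) = 0
    rw [hU, (AddMonoidHom.mem_ker.mp x.2), map_zero]
  let β : d.ker →+ d''.ker := (V.comp d.ker.subtype).codRestrict d''.ker fun x => by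
    change d'' (V x) = 0
    rw [hV, (AddMonoidHom.mem_ker.mp x.2), map_zero]
  -- the maps on cokernels
  let ε : A' ⧸ d'.range →+ A ⧸ d.range := QuotientAddGroup.map _ _ U (by
    rintro _ ⟨x, rfl⟩
    exact ⟨U x, hU x⟩)
  let ζ : A ⧸ d.range →+ A'' ⧸ d''.range := QuotientAddGroup.map _ _ V (by
    rintro _ ⟨x, rfl⟩
    exact ⟨V x, hV x⟩)
  -- the connecting map
  have hex2 : ∀ (z : d''.ker) (y : A), V y = z → ∃ w, U w = d y := fun z y hy => by
    apply hex
    rw [← hV, hy]
    exact AddMonoidHom.mem_ker.mp z.2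
  have wd : ∀ (z : d''.ker) (y₁ y₂ : A) (w₁ w₂ : A'), V y₁ = z → V y₂ = z → U w₁ = d y₁ →
      U w₂ = d y₂ → (QuotientAddGroup.mk w₁ : A' ⧸ d'.range) = QuotientAddGroup.mk w₂ := by
    intro z y₁ y₂ w₁ w₂ h₁ h₂ k₁ k₂
    obtain ⟨a, ha⟩ := hex (y₁ - y₂) (by rw [map_sub, h₁, h₂, sub_self])
    have : w₁ - w₂ = d' a := by
      apply hinj
      rw [map_sub, k₁, k₂, ← map_sub, ← ha, hU]
    rw [QuotientAddGroup.eq_iff_sub_mem]
    exact ⟨a, this.symm⟩
  choose s hs using hsurj
  choose c hc using fun z : d''.ker => hex2 z (s z) (hs z)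
  let δ : d''.ker →+ A' ⧸ d'.range := AddMonoidHom.mk' (fun z => QuotientAddGroup.mk (c z)) (by
    intro z₁ z₂
    rw [← QuotientAddGroup.mk_add]
    refine wd (z₁ + z₂) (s (z₁ + z₂ : d''.ker)) (s z₁ + s z₂) _ _ (hs _) ?_ (hc _) ?_
    · rw [map_add, hs, hs]; rfl
    · rw [map_add, map_add, hc, hc])
  have hδ : ∀ (z : d''.ker) (y : A) (w : A'), V y = z → U w = d y →
      δ z = (QuotientAddGroup.mk w : A' ⧸ d'.range) := fun z y w hy hw =>
    wd z (s z) y (c z) w (hs z) hy (hc z) hw
  refine ⟨α, β, δ, ε, ζ, fun _ => rfl, fun _ => rfl, hδ, fun _ => rfl, fun _ => rfl, ?_, ?_, ?_, ?_,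
    ?_, ?_⟩
  · -- α injective
    intro x₁ x₂ h
    apply Subtype.ext
    apply hinj
    exact congrArg Subtype.val h
  · -- exact at lim G
    ext y
    constructor
    · rintro ⟨x, rfl⟩
      rw [AddMonoidHom.mem_ker]
      apply Subtype.ext
      exact hUV x
    · intro hy
      rw [AddMonoidHom.mem_ker] at hy
      obtain ⟨x, hx⟩ := hex y (congrArg Subtype.val hy)
      have hx' : d' x = 0 := by
        apply hinj
        rw [← hU, hx, map_zero]
        exact AddMonoidHom.mem_ker.mp y.2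
      exact ⟨⟨x, AddMonoidHom.mem_ker.mpr hx'⟩, Subtype.ext hx⟩
  · -- exact at lim G''
    ext z
    constructor
    · rintro ⟨y, rfl⟩
      rw [AddMonoidHom.mem_ker, hδ (β y) y 0 rfl (by
        rw [map_zero]; exact (AddMonoidHom.mem_ker.mp y.2).symm)]
      rfl
    · intro hz
      rw [AddMonoidHom.mem_ker, hδ z (s z) (c z) (hs z) (hc z),
        QuotientAddGroup.eq_zero_iff] at hz
      obtain ⟨a, ha⟩ := hz
      have hk : d (s z - U a) = 0 := by
        rw [map_sub, hU, ha, hc, sub_self]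
      refine ⟨⟨s z - U a, AddMonoidHom.mem_ker.mpr hk⟩, Subtype.ext ?_⟩
      change V (s z - U a) = z
      rw [map_sub, hUV, sub_zero, hs]
  · -- exact at lim¹ G'
    ext q
    constructor
    · rintro ⟨z, rfl⟩
      rw [AddMonoidHom.mem_ker, hδ z (s z) (c z) (hs z) (hc z)]
      change (QuotientAddGroup.mk (U (c z)) : A ⧸ d.range) = 0
      rw [QuotientAddGroup.eq_zero_iff, hc]
      exact ⟨_, rfl⟩
    · intro hq
      obtain ⟨w, rfl⟩ := QuotientAddGroup.mk_surjective q
      rw [AddMonoidHom.mem_ker] at hq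
      change (QuotientAddGroup.mk (U w) : A ⧸ d.range) = 0 at hq
      rw [QuotientAddGroup.eq_zero_iff] at hq
      obtain ⟨y, hy⟩ := hq
      have hz : d'' (V y) = 0 := by rw [hV, hy, hUV]
      exact ⟨⟨V y, AddMonoidHom.mem_ker.mpr hz⟩, hδ _ y w rfl hy.symm⟩
  · -- exact at lim¹ G
    ext q
    constructor
    · rintro ⟨p, rfl⟩
      obtain ⟨w, rfl⟩ := QuotientAddGroup.mk_surjective p
      rw [AddMonoidHom.mem_ker]
      change (QuotientAddGroup.mk (V (U w)) : A'' ⧸ d''.range) = 0
      rw [hUV]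
      rfl
    · intro hq
      obtain ⟨y, rfl⟩ := QuotientAddGroup.mk_surjective q
      rw [AddMonoidHom.mem_ker] at hq
      change (QuotientAddGroup.mk (V y) : A'' ⧸ d''.range) = 0 at hq
      rw [QuotientAddGroup.eq_zero_iff] at hq
      obtain ⟨z, hz⟩ := hq
      obtain ⟨w, hw⟩ := hex (y - d (s z)) (by rw [map_sub, ← hV, hs, hz, sub_self])
      refine ⟨QuotientAddGroup.mk w, ?_⟩
      change (QuotientAddGroup.mk (U w) : A ⧸ d.range) = QuotientAddGroup.mk y
      rw [hw, QuotientAddGroup.eq_iff_sub_mem]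
      exact ⟨-(s z), by rw [map_neg]; abel⟩
  · -- ζ surjective
    intro q
    obtain ⟨y, rfl⟩ := QuotientAddGroup.mk_surjective q
    exact ⟨QuotientAddGroup.mk (s y), congrArg _ (hs y)⟩

/-- Let 0 → (G'_n) → (G_n) → (G''_n) → 0 be a short exact sequence of inverse systems of abelian groups
indexed by ℕ: maps u_n : G'_n → G_n and v_n : G_n → G''_n commuting with the transition maps, with
u_n injective, v_n surjective and ker v_n = im u_n for every n. Writing lim and lim¹ for the kernel
and cokernel of (x_n) ↦ (x_n − t_n(x_{n+1})) on the product, there is an exact sequence 0 → lim G' →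
lim G → lim G'' → lim¹ G' → lim¹ G → lim¹ G'' → 0 in which the four outer maps are the ones induced
by u and v on products and the connecting map δ sends a compatible sequence (z_n) to the class of
the unique (w_n) with u_n(w_n) = y_n − t_n(y_{n+1}), for any levelwise lift (y_n) of (z_n). -/
theorem result (G' G G'' : ℕ → Type u)
    [∀ n, AddCommGroup (G' n)] [∀ n, AddCommGroup (G n)] [∀ n, AddCommGroup (G'' n)]
    (t' : ∀ n, G' (n + 1) →+ G' n) (t : ∀ n, G (n + 1) →+ G n) (t'' : ∀ n, G'' (n + 1) →+ G'' n)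
    (u : ∀ n, G' n →+ G n) (v : ∀ n, G n →+ G'' n)
    (hu : ∀ n x, t n (u (n + 1) x) = u n (t' n x)) (hv : ∀ n x, t'' n (v (n + 1) x) = v n (t n x))
    (hinj : ∀ n, Function.Injective (u n)) (hsurj : ∀ n, Function.Surjective (v n))
    (hex : ∀ n, (v n).ker = (u n).range) :
    ∃ (α : Formal2.limZero G' t' →+ Formal2.limZero G t) (β : Formal2.limZero G t →+ Formal2.limZero G'' t'')
      (δ : Formal2.limZero G'' t'' →+ Formal2.limOne G' t')
      (ε : Formal2.limOne G' t' →+ Formal2.limOne G t) (ζ : Formal2.limOne G t →+ Formal2.limOne G'' t''),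
      (∀ (x : Formal2.limZero G' t') (n : ℕ), (α x : ∀ n, G n) n = u n ((x : ∀ n, G' n) n)) ∧
      (∀ (x : Formal2.limZero G t) (n : ℕ), (β x : ∀ n, G'' n) n = v n ((x : ∀ n, G n) n)) ∧
      (∀ (z : Formal2.limZero G'' t'') (y : ∀ n, G n) (w : ∀ n, G' n),
          (∀ n, v n (y n) = (z : ∀ n, G'' n) n) → (∀ n, u n (w n) = Formal2.towerDiff G t y n) →
            δ z = (QuotientAddGroup.mk w : Formal2.limOne G' t')) ∧
      (∀ y : ∀ n, G' n, ε (QuotientAddGroup.mk y : Formal2.limOne G' t') =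
          (QuotientAddGroup.mk (fun n => u n (y n)) : Formal2.limOne G t)) ∧
      (∀ y : ∀ n, G n, ζ (QuotientAddGroup.mk y : Formal2.limOne G t) =
          (QuotientAddGroup.mk (fun n => v n (y n)) : Formal2.limOne G'' t'')) ∧
      Function.Injective α ∧ α.range = β.ker ∧ β.range = δ.ker ∧ δ.range = ε.ker ∧ ε.range = ζ.ker ∧
      Function.Surjective ζ := by
  let U : (∀ n, G' n) →+ (∀ n, G n) :=
    { toFun := fun x n => u n (x n)
      map_zero' := by funext n; simp
      map_add' := fun x y => by funext n; simp }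
  let V : (∀ n, G n) →+ (∀ n, G'' n) :=
    { toFun := fun x n => v n (x n)
      map_zero' := by funext n; simp
      map_add' := fun x y => by funext n; simp }
  have hU : ∀ x, Formal2.towerDiff G t (U x) = U (Formal2.towerDiff G' t' x) := by
    intro x
    funext n
    change u n (x n) - t n (u (n + 1) (x (n + 1))) = u n (x n - t' n (x (n + 1)))
    rw [hu, map_sub]
  have hV : ∀ y, Formal2.towerDiff G'' t'' (V y) = V (Formal2.towerDiff G t y) := by
    intro y
    funext n
    change v n (y n) - t'' n (v (n + 1) (y (n + 1))) = v n (y n - t n (y (n + 1)))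
    rw [hv, map_sub]
  have hinjU : Function.Injective U := fun x y hxy => by
    funext n
    exact hinj n (congrFun hxy n)
  have hsurjV : Function.Surjective V := fun z => by
    choose y hy using fun n => hsurj n (z n)
    exact ⟨y, funext hy⟩
  have hexUV : ∀ y, V y = 0 → ∃ x, U x = y := fun y hy => by
    have : ∀ n, ∃ x, u n x = y n := fun n => by
      have h1 : y n ∈ (v n).ker := congrFun hy n
      rw [hex n] at h1
      exact h1
    choose x hx using this
    exact ⟨x, funext hx⟩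
  have hUV : ∀ x, V (U x) = 0 := fun x => by
    funext n
    change v n (u n (x n)) = 0
    have : u n (x n) ∈ (v n).ker := by rw [hex n]; exact ⟨_, rfl⟩
    exact this
  obtain ⟨α, β, δ, ε, ζ, h1, h2, h3, h4, h5, h6⟩ :=
    snake U V (Formal2.towerDiff G' t') (Formal2.towerDiff G t) (Formal2.towerDiff G'' t'')
      hU hV hinjU hsurjV hexUV hUV
  refine ⟨α, β, δ, ε, ζ, fun x n => congrFun (h1 x) n, fun x n => congrFun (h2 x) n, ?_, h4, h5, h6⟩
  intro z y w hy hw
  exact h3 z y w (funext hy) (funext hw)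

end Groth.Agent.S14617
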