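import Groth.Statements.S14624
import Mathlib

set_option autoImplicit false
open CategoryTheory CategoryTheory.Limits
universe u
open Hensel

section S14624helpers
set_option linter.style.haveILetI false

namespace Groth.Agent.S14624

/-- recognition of filtered colimits in `Under A` -/
noncomputable def isColimitUnder {A : CommRingCat.{u}} {J : Type u} [SmallCategory J] [IsFiltered J]
    (D : J ⥤ Under A) (c : Cocone D)
    (hsurj : ∀ x : c.pt.right, ∃ (j : J) (y : (D.obj j).right), (c.ι.app j).right y = x)
    (hinj : ∀ (j : J) (y y' : (D.obj j).right), (c.ι.app j).right y = (c.ι.app j).right y' →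
       ∃ (k : J) (f : j ⟶ k), (D.map f).right y = (D.map f).right y') : IsColimit c := by
  haveI : IsConnected J := IsFiltered.isConnected J
  refine isColimitOfReflects (Under.forget A) ?_
  haveI : ReflectsColimit (D ⋙ Under.forget A) (forget CommRingCat) :=
    reflectsColimit_of_reflectsIsomorphisms _ _
  refine isColimitOfReflects (forget CommRingCat) ?_
  refine Types.FilteredColimit.isColimitOf' _ _ ?_ ?_
  · intro x
    obtain ⟨j, y, hy⟩ := hsurj x
    exact ⟨j, y, hy.symm⟩
  · intro j y y' h
    obtain ⟨k, f, hf⟩ := hinj j y y' h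
    exact ⟨k, f, hf⟩


/-- type-indexed version of the approximation property -/
theorem hAP' (A : Type u) [CommRing A] (m : Ideal A)
    (hAP : ∀ (k l c : ℕ) (f : Fin l → MvPolynomial (Fin k) A) (â : Fin k → AdicCompletion m A),
      (∀ i, MvPolynomial.aeval â (f i) = 0) →
      ∃ a : Fin k → A, (∀ i, MvPolynomial.eval a (f i) = 0) ∧
        ∀ j, Ideal.Quotient.mk (m ^ c) (a j) = AdicCompletion.evalₐ m c (â j))
    {σ τ : Type u} [Fintype σ] [Fintype τ] (c : ℕ) (f : τ → MvPolynomial σ A)
    (b : σ → AdicCompletion m A) (hb : ∀ i, MvPolynomial.aeval b (f i) = 0) :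
    ∃ a : σ → A, (∀ i, MvPolynomial.eval a (f i) = 0) ∧
        ∀ j, Ideal.Quotient.mk (m ^ c) (a j) = AdicCompletion.evalₐ m c (b j) := by
  classical
  let eσ := Fintype.equivFin σ
  let eτ := Fintype.equivFin τ
  obtain ⟨a', ha', ha''⟩ := hAP (Fintype.card σ) (Fintype.card τ) c
    (fun i => MvPolynomial.rename eσ (f (eτ.symm i))) (b ∘ eσ.symm) (by
      intro i
      rw [MvPolynomial.aeval_rename]
      have : (b ∘ eσ.symm) ∘ eσ = b := by ext j; simp
      rw [this]
      exact hb _)
  refine ⟨a' ∘ eσ, ?_, ?_⟩
  · intro i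
    have := ha' (eτ i)
    simp only [Equiv.symm_apply_apply] at this
    rw [MvPolynomial.eval_rename] at this
    exact this
  · intro j
    have := ha'' (eσ j)
    simpa using this

section diagrams
variable (A : Type u) [CommRing A] (B : Type u) [CommRing B] [Algebra A B]

/-- the evaluation map from the polynomial ring on a finite set of elements -/
noncomputable abbrev phi (s : Finset B) : MvPolynomial s A →ₐ[A] B :=
  MvPolynomial.aeval (Subtype.val : s → B)

theorem phi_range (s : Finset B) : (phi A B s).range = Algebra.adjoin A (s : Set B) := by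
  rw [phi, ← Algebra.adjoin_range_eq_range_aeval, Subtype.range_coe_subtype]
  rfl

theorem phi_range_mono {s s' : Finset B} (h : s ≤ s') : (phi A B s).range ≤ (phi A B s').range := by
  rw [phi_range, phi_range]
  exact Algebra.adjoin_mono (Finset.coe_subset.2 h)

/-- step 1 diagram: finitely generated subalgebras -/
noncomputable def D₁ : Finset B ⥤ Under (CommRingCat.of A) where
  obj s := Under.mk (CommRingCat.ofHom (algebraMap A (phi A B s).range))
  map {s s'} h := Under.homMk
    (CommRingCat.ofHom (Subalgebra.inclusion (phi_range_mono A B (leOfHom h))).toRingHom)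
    (by ext x; rfl)
  map_id s := by ext x; rfl
  map_comp f g := by ext x; rfl

/-- step 1 cocone -/
noncomputable def c₁ : Cocone (D₁ A B) where
  pt := Under.mk (CommRingCat.ofHom (algebraMap A B))
  ι := { app := fun s => Under.homMk (CommRingCat.ofHom (phi A B s).range.val.toRingHom)
           (by ext x; rfl)
         naturality := fun s s' h => by ext x; rfl }

noncomputable def isColimit₁ : IsColimit (c₁ A B) := by
  classical
  refine isColimitUnder _ _ ?_ ?_
  · intro x
    exact ⟨{x}, ⟨x, ⟨MvPolynomial.X ⟨x, Finset.mem_singleton_self x⟩,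
      MvPolynomial.aeval_X _ _⟩⟩, rfl⟩
  · intro s y y' h
    exact ⟨s, 𝟙 s, by rw [Subtype.ext h]⟩

variable (s : Finset B)

/-- the ideal generated by a finite set of elements of the kernel -/
noncomputable abbrev It (t : Finset (RingHom.ker (phi A B s).toRingHom)) :
    Ideal (MvPolynomial s A) :=
  Ideal.span (Subtype.val '' (t : Set (RingHom.ker (phi A B s).toRingHom)))

theorem It_mono {t t' : Finset (RingHom.ker (phi A B s).toRingHom)} (h : t ≤ t') :
    It A B s t ≤ It A B s t' :=
  Ideal.span_mono (Set.image_mono (Finset.coe_subset.2 h))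

theorem It_le_ker (t : Finset (RingHom.ker (phi A B s).toRingHom)) :
    It A B s t ≤ RingHom.ker (phi A B s).rangeRestrict.toRingHom := by
  rw [It, Ideal.span_le]
  rintro _ ⟨x, _, rfl⟩
  rw [SetLike.mem_coe, RingHom.mem_ker]
  apply Subtype.ext
  exact x.2

/-- step 2 diagram: finitely presented quotients -/
noncomputable def D₂ : Finset (RingHom.ker (phi A B s).toRingHom) ⥤ Under (CommRingCat.of A) where
  obj t := Under.mk (CommRingCat.ofHom (algebraMap A (MvPolynomial s A ⧸ It A B s t)))
  map {t t'} h := Under.homMk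
    (CommRingCat.ofHom (Ideal.Quotient.factor (It_mono A B s (leOfHom h))))
    (by ext x; rfl)
  map_id t := by
    ext x
    obtain ⟨p, rfl⟩ := Ideal.Quotient.mk_surjective x
    rfl
  map_comp f g := by
    ext x
    obtain ⟨p, rfl⟩ := Ideal.Quotient.mk_surjective x
    rfl

/-- step 2 cocone -/
noncomputable def c₂ : Cocone (D₂ A B s) where
  pt := (D₁ A B).obj s
  ι := { app := fun t => Under.homMk (CommRingCat.ofHom
            (Ideal.Quotient.lift (It A B s t) (phi A B s).rangeRestrict.toRingHom
              (fun p hp => It_le_ker A B s t hp)))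
           (by
             ext x
             apply Subtype.ext
             change (phi A B s) (MvPolynomial.C x) = algebraMap A B x
             exact MvPolynomial.aeval_C _ _)
         naturality := fun t t' h => by
           ext x
           obtain ⟨p, rfl⟩ := Ideal.Quotient.mk_surjective x
           rfl }

noncomputable def isColimit₂ : IsColimit (c₂ A B s) := by
  classical
  refine isColimitUnder _ _ ?_ ?_
  · intro x
    obtain ⟨p, hp⟩ := (phi A B s).rangeRestrict_surjective x
    exact ⟨∅, Ideal.Quotient.mk _ p, hp⟩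
  · intro t y y' h
    obtain ⟨p, rfl⟩ := Ideal.Quotient.mk_surjective y
    obtain ⟨p', rfl⟩ := Ideal.Quotient.mk_surjective y'
    have hk : p - p' ∈ RingHom.ker (phi A B s).toRingHom := by
      have h' : (phi A B s).rangeRestrict p = (phi A B s).rangeRestrict p' := h
      have := congrArg Subtype.val h'
      rw [RingHom.mem_ker, map_sub, sub_eq_zero]
      exact this
    refine ⟨t ∪ {⟨p - p', hk⟩}, homOfLE Finset.subset_union_left, ?_⟩
    change Ideal.Quotient.mk _ p = Ideal.Quotient.mk _ p'
    rw [Ideal.Quotient.eq]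
    apply Ideal.subset_span
    exact ⟨⟨p - p', hk⟩,
      Finset.mem_coe.2 (Finset.mem_union_right _ (Finset.mem_singleton_self _)), rfl⟩

end diagrams


theorem main (A : Type u) [CommRing A]
    (m : Ideal A)
    (hAP : ∀ (k l c : ℕ) (f : Fin l → MvPolynomial (Fin k) A) (â : Fin k → AdicCompletion m A),
      (∀ i, MvPolynomial.aeval â (f i) = 0) →
      ∃ a : Fin k → A, (∀ i, MvPolynomial.eval a (f i) = 0) ∧
        ∀ j, Ideal.Quotient.mk (m ^ c) (a j) = AdicCompletion.evalₐ m c (â j))
    (F : Under (CommRingCat.of A) ⥤ Type u)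
    (hF : ∀ (J : Type u) [SmallCategory J] [IsFiltered J], PreservesColimitsOfShape J F)
    (c : ℕ)
    (π : Under.mk (CommRingCat.ofHom (algebraMap A (AdicCompletion m A))) ⟶
      Under.mk (CommRingCat.ofHom (algebraMap A (A ⧸ m ^ c))))
    (hπ : π.right = CommRingCat.ofHom
      (AdicCompletion.evalₐ m c : AdicCompletion m A →ₐ[A] A ⧸ m ^ c).toRingHom)
    (ρ : Under.mk (𝟙 (CommRingCat.of A)) ⟶ Under.mk (CommRingCat.ofHom (algebraMap A (A ⧸ m ^ c))))
    (ξ : F.obj (Under.mk (CommRingCat.ofHom (algebraMap A (AdicCompletion m A))))) :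
    ∃ η : F.obj (Under.mk (𝟙 (CommRingCat.of A))), F.map ρ η = F.map π ξ := by
  classical
  haveI := hF (Finset (AdicCompletion m A))
  obtain ⟨s, ξs, hξs⟩ := Types.jointly_surjective_of_isColimit
    (isColimitOfPreserves F (isColimit₁ A (AdicCompletion m A))) ξ
  haveI := hF (Finset (RingHom.ker (phi A (AdicCompletion m A) s).toRingHom))
  obtain ⟨t, ξt, hξt⟩ := Types.jointly_surjective_of_isColimit
    (isColimitOfPreserves F (isColimit₂ A (AdicCompletion m A) s)) ξs
  obtain ⟨a, ha, ha'⟩ := hAP' A m hAP (σ := s) (τ := t) c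
    (fun i => ((i : RingHom.ker (phi A (AdicCompletion m A) s).toRingHom) : MvPolynomial s A))
    (fun j => (j : AdicCompletion m A)) (by
      intro i
      exact (RingHom.mem_ker).1 i.1.2)
  let ψ : MvPolynomial s A ⧸ It A (AdicCompletion m A) s t →+* A :=
    Ideal.Quotient.lift (It A (AdicCompletion m A) s t) (MvPolynomial.eval a) (by
      intro p hp
      have hle : It A (AdicCompletion m A) s t ≤ RingHom.ker (MvPolynomial.eval a) := by
        rw [It, Ideal.span_le]
        rintro _ ⟨x, hx, rfl⟩
        exact (RingHom.mem_ker).2 (ha ⟨x, hx⟩)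
      exact (RingHom.mem_ker).1 (hle hp))
  let Ψ : (D₂ A (AdicCompletion m A) s).obj t ⟶ Under.mk (𝟙 (CommRingCat.of A)) :=
    Under.homMk (CommRingCat.ofHom ψ) (by
      ext x
      change ψ (Ideal.Quotient.mk _ (MvPolynomial.C x)) = x
      simp [ψ])
  refine ⟨F.map Ψ ξt, ?_⟩
  have hρ : ρ.right = CommRingCat.ofHom (algebraMap A (A ⧸ m ^ c)) := by
    have := Under.w ρ
    simpa using this
  let ι₂ : (D₂ A (AdicCompletion m A) s).obj t ⟶ (D₁ A (AdicCompletion m A)).obj s :=
    (c₂ A (AdicCompletion m A) s).ι.app t
  let ι₁ : (D₁ A (AdicCompletion m A)).obj s ⟶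
      Under.mk (CommRingCat.ofHom (algebraMap A (AdicCompletion m A))) :=
    (c₁ A (AdicCompletion m A)).ι.app s
  have hξs' : F.map ι₁ ξs = ξ := hξs
  have hξt' : F.map ι₂ ξt = ξs := hξt
  have hcomp : Ψ ≫ ρ = ι₂ ≫ ι₁ ≫ π := by
    apply Under.UnderMorphism.ext
    simp only [Under.comp_right]
    rw [hρ, hπ]
    apply CommRingCat.hom_ext
    apply Ideal.Quotient.ringHom_ext
    apply MvPolynomial.ringHom_ext
    · intro r
      change algebraMap A (A ⧸ m ^ c) (ψ (Ideal.Quotient.mk _ (MvPolynomial.C r))) =
        AdicCompletion.evalₐ m c ((phi A (AdicCompletion m A) s) (MvPolynomial.C r))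
      simp [ψ]
    · intro j
      change algebraMap A (A ⧸ m ^ c) (ψ (Ideal.Quotient.mk _ (MvPolynomial.X j))) =
        AdicCompletion.evalₐ m c ((phi A (AdicCompletion m A) s) (MvPolynomial.X j))
      simp only [ψ, Ideal.Quotient.lift_mk, MvPolynomial.eval_X, phi, MvPolynomial.aeval_X]
      exact ha' j
  calc F.map ρ (F.map Ψ ξt) = F.map (Ψ ≫ ρ) ξt := (Functor.map_comp_apply F Ψ ρ ξt).symm
  _ = F.map (ι₂ ≫ ι₁ ≫ π) ξt := by rw [hcomp]
  _ = F.map π (F.map ι₁ (F.map ι₂ ξt)) := by
    rw [Functor.map_comp_apply, Functor.map_comp_apply]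
  _ = F.map π ξ := by rw [hξt', hξs']

end Groth.Agent.S14624

end S14624helpers

namespace Groth.Agent.S14624

/-- Let A be a commutative ring, m a proper ideal of A and Â the m-adic completion. Assume the
approximation property for polynomial systems: whenever finitely many polynomials over A in finitely
many variables have a common zero â in Â, then for every c there is a common zero a in A which
agrees with â in A/m^c. Let F be a functor from A-algebras (commutative rings under A) to sets which
preserves filtered colimits, c a natural number and ξ ∈ F(Â). Then there is η ∈ F(A) whose image in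
F(A/m^c) equals the image of ξ; here π is the A-algebra map Â → A/m^c (pinned by its underlying ring
map) and ρ the A-algebra map A → A/m^c. (The published statement takes for A the henselization at a
prime ideal of an algebra of finite type over a field or over an excellent discrete valuation ring,
for which the approximation property of polynomial systems is quoted; this row carries that property
as a hypothesis and draws the published conclusion for functors.) -/
theorem result (A : Type u) [CommRing A]
    (m : Ideal A) (hm : m ≠ ⊤)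
    (hAP : ∀ (k l c : ℕ) (f : Fin l → MvPolynomial (Fin k) A) (â : Fin k → AdicCompletion m A),
      (∀ i, MvPolynomial.aeval â (f i) = 0) →
      ∃ a : Fin k → A, (∀ i, MvPolynomial.eval a (f i) = 0) ∧
        ∀ j, Ideal.Quotient.mk (m ^ c) (a j) = AdicCompletion.evalₐ m c (â j))
    (F : Under (CommRingCat.of A) ⥤ Type u)
    (hF : ∀ (J : Type u) [SmallCategory J] [IsFiltered J], PreservesColimitsOfShape J F)
    (c : ℕ)
    (π : Under.mk (CommRingCat.ofHom (algebraMap A (AdicCompletion m A))) ⟶
      Under.mk (CommRingCat.ofHom (algebraMap A (A ⧸ m ^ c))))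
    (hπ : π.right = CommRingCat.ofHom
      (AdicCompletion.evalₐ m c : AdicCompletion m A →ₐ[A] A ⧸ m ^ c).toRingHom)
    (ρ : Under.mk (𝟙 (CommRingCat.of A)) ⟶ Under.mk (CommRingCat.ofHom (algebraMap A (A ⧸ m ^ c))))
    (ξ : F.obj (Under.mk (CommRingCat.ofHom (algebraMap A (AdicCompletion m A))))) :
    ∃ η : F.obj (Under.mk (𝟙 (CommRingCat.of A))), F.map ρ η = F.map π ξ := by

  exact Groth.Agent.S14624.main A m hAP F hF c π hπ ρ ξ

end Groth.Agent.S14624
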