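import Groth.Statements.S14625
import Mathlib
import Groth.Agent.S13507

set_option autoImplicit false
set_option linter.style.haveILetI false
open CategoryTheory AlgebraicGeometry
universe u
open EtBase

namespace Groth.Agent.S14625

/-- Let A be a strictly henselian local ring, n ≥ 1 an integer invertible in A, and X a scheme over Spec
A. Then the étale sheaf μ_n of n-th roots of unity on X is isomorphic to the constant sheaf with
value ℤ/n. Only the existence of an isomorphism is asserted; it depends on the choice of a primitive
n-th root of unity in A. -/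
theorem result (A : Type u) [CommRing A]
    (hA : EtCoh.IsStrictlyHenselianLocalRing A) (n : ℕ) (hn : 1 ≤ n) (hu : IsUnit (n : A))
    (X : Scheme.{u}) (f : X ⟶ Spec (CommRingCat.of A)) :
    Nonempty (EtCoh.mu X n ≅ EtCoh.const X (ZMod n)) := by
  obtain ⟨hH, hsc⟩ := hA
  have hnk : (n : IsLocalRing.ResidueField A) ≠ 0 := by
    have h := hu.map (IsLocalRing.residue A)
    rw [map_natCast] at h
    exact h.ne_zero
  haveI : NeZero (n : IsLocalRing.ResidueField A) := ⟨hnk⟩
  have hsep : (Polynomial.cyclotomic n (IsLocalRing.ResidueField A)).Separable :=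
    Polynomial.separable_cyclotomic n _
  have hdeg : (Polynomial.cyclotomic n (IsLocalRing.ResidueField A)).degree ≠ 0 := by
    rw [Polynomial.degree_cyclotomic]
    have : 0 < Nat.totient n := Nat.totient_pos.mpr (by omega)
    exact_mod_cast this.ne'
  obtain ⟨b, hb⟩ := IsSepClosed.exists_root _ hdeg hsep
  have hT := ((HenselianLocalRing.TFAE A).out 0 1).mp hH
  have hmap : (Polynomial.cyclotomic n A).map (algebraMap A (IsLocalRing.ResidueField A)) =
      Polynomial.cyclotomic n (IsLocalRing.ResidueField A) := Polynomial.map_cyclotomic n _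
  obtain ⟨a, ha, -⟩ := hT (Polynomial.cyclotomic n A) (Polynomial.cyclotomic.monic n A) b
    (by
      rw [Polynomial.aeval_def, Polynomial.eval₂_eq_eval_map, hmap]
      exact hb)
    (by
      rw [Polynomial.aeval_def, Polynomial.eval₂_eq_eval_map, ← Polynomial.derivative_map, hmap]
      have := hsep.aeval_derivative_ne_zero (x := b)
        (by rw [Polynomial.coe_aeval_eq_eval]; exact hb)
      rwa [Polynomial.coe_aeval_eq_eval] at this)
  -- transport to global sections of `X`
  let φ : A →+* Γ(X, ⊤) :=
    f.appTop.hom.comp (Scheme.ΓSpecIso (CommRingCat.of A)).inv.hom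
  have hunit : IsUnit (n : Γ(X, ⊤)) := by
    have := hu.map φ
    rwa [map_natCast] at this
  have hζ : Polynomial.aeval (φ a) (Polynomial.cyclotomic n ℤ) = 0 := by
    have h1 := Polynomial.aeval_algHom_apply (φ.toIntAlgHom) a (Polynomial.cyclotomic n ℤ)
    have h2 : Polynomial.aeval a (Polynomial.cyclotomic n ℤ) = 0 := by
      rw [Polynomial.aeval_def, Polynomial.eval₂_eq_eval_map, Polynomial.map_cyclotomic]
      exact ha
    rw [h2, map_zero] at h1
    exact h1
  exact Groth.Agent.S13507.result X n hn hunit (φ a) hζ

end Groth.Agent.S14625
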