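import Groth.Statements.S14626
import Mathlib
import Groth.Agent.Lib.Helper47.CechFree
import Groth.Agent.Lib.Helper47.CechTwist
-- import your own Groth.Agent.* helpers here

set_option autoImplicit false
open CategoryTheory CategoryTheory.Limits AlgebraicGeometry
universe u
open EtBase

namespace Groth.Agent.S14626

open Groth.Agent.Lib.Cohomology.SiteCech Groth.Agent.Lib.Helper47.CechFree
  Groth.Agent.Lib.Helper47.CechTwist

set_option backward.isDefEq.respectTransparency.types false in
lemma cover_bc {X Y : Scheme.{u}} (f : X ⟶ Y) (V : Y.Etale) (ι : Type (u + 1)) (Vf : ι → Over V)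
    (hV : ∀ x : ↥(V.left), ∃ (i : ι) (y : ↥((Vf i).left.left)), (Vf i).hom.left.base y = x)
    (x' : ↥(((EtCoh.bc f).obj V).left)) :
    ∃ (i : ι) (y : ↥(((Over.post (EtCoh.bc f)).obj (Vf i)).left.left)),
      ((Over.post (EtCoh.bc f)).obj (Vf i)).hom.left.base y = x' := by
  obtain ⟨i, v, hv⟩ := hV ((pullback.fst V.hom f : ((EtCoh.bc f).obj V).left ⟶ V.left) x')
  have sq := EtCoh.isPullback_bc_map f (Vf i).hom
  obtain ⟨z, hz1, -⟩ := Scheme.Pullback.exists_preimage_pullback
    (f := (pullback.fst V.hom f : ((EtCoh.bc f).obj V).left ⟶ V.left)) (g := (Vf i).hom.left) x' v hv.symm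
  refine ⟨i, sq.isoPullback.inv z, ?_⟩
  rw [← hz1]
  change (sq.isoPullback.inv ≫ ((EtCoh.bc f).map (Vf i).hom).left) z = _
  rw [IsPullback.isoPullback_inv_fst]
  rfl



/-- For the direct image along a morphism of schemes on small étale sites; take a morphism of schemes f
: X → Y and an abelian étale sheaf F on X which is flasque in the Čech sense, i.e. for every étale U
over X and every jointly surjective family of étale U-schemes the Čech cohomology groups of F in
positive degrees vanish. Then the direct image f_*F is flasque in the same sense on Y. The finite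
products of the over categories (the fibre products entering the Čech complexes) are carried as
instance hypotheses. -/
theorem result {X Y : Scheme.{u}} (f : X ⟶ Y)
    [∀ U : X.Etale, HasFiniteProducts (Over U)] [∀ V : Y.Etale, HasFiniteProducts (Over V)]
    (F : EtCoh.Ab X)
    (hF : ∀ (U : X.Etale) (ι : Type (u + 1)) (Uf : ι → Over U),
      (∀ x : ↥(U.left), ∃ (i : ι) (y : ↥((Uf i).left.left)), (Uf i).hom.left.base y = x) →
      ∀ p : ℕ, 0 < p → IsZero (EtCech.cechH Uf F.obj p))
    (V : Y.Etale) (ι : Type (u + 1)) (Vf : ι → Over V)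
    (hV : ∀ x : ↥(V.left), ∃ (i : ι) (y : ↥((Vf i).left.left)), (Vf i).hom.left.base y = x)
    (p : ℕ) (hp : 0 < p) :
    IsZero (EtCech.cechH Vf ((EtCoh.push f).obj F).obj p) := by
  obtain ⟨q, rfl⟩ : ∃ q, p = q + 1 := ⟨p - 1, by omega⟩
  have h := hF ((EtCoh.bc f).obj V) ι (fun j => (Over.post (EtCoh.bc f)).obj (Vf j))
    (cover_bc f V ι Vf hV) (q + 1) hp
  exact isZero_homology_comp_of_preserves (Over.post (EtCoh.bc f)) (resP F.obj) Vf q h

end Groth.Agent.S14626
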