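import Groth.Statements.S14628
import Groth.Agent.Lib.Helper32.EtCechSurj
import Mathlib.AlgebraicGeometry.Sites.AffineEtale
import Mathlib.CategoryTheory.Sites.EpiMono
-- import your own Groth.Agent.* helpers here

set_option autoImplicit false
open CategoryTheory CategoryTheory.Limits AlgebraicGeometry
universe u
open EtBase

namespace Groth.Agent.S14628

open Groth.Agent.Lib.Helper32.CechSurj Groth.Agent.Lib.Cohomology.SiteCech Opposite

/-- Čech-flasqueness of the kernel makes sections of an epimorphism of étale sheaves surjective. -/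
lemma surj_sections {X : Scheme.{u}}
    [∀ U : X.Etale, HasFiniteProducts (Over U)] (S : ShortComplex (EtCoh.Ab X)) (hS : S.ShortExact)
    (h1 : (∀ (U : X.Etale) (ι : Type (u + 1)) (Uf : ι → Over U),
      (∀ x : ↥(U.left), ∃ (i : ι) (y : ↥((Uf i).left.left)), (Uf i).hom.left.base y = x) →
      ∀ p : ℕ, 0 < p → IsZero (EtCech.cechH Uf S.X₁.obj p)))
    (V : X.Etale) : Function.Surjective (S.g.hom.app (op V)) := by
  intro t
  have := hS.epi_g
  have hls : Sheaf.IsLocallySurjective S.g := (Sheaf.isLocallySurjective_iff_epi' (φ := S.g)).2 inferInstance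
  have hcov : Presheaf.imageSieve S.g.hom t ∈ X.smallEtaleTopology V :=
    Presheaf.imageSieve_mem _ S.g.hom t
  let R := Presheaf.imageSieve S.g.hom t
  let ι : Type (u + 1) := Σ W : X.Etale, {f : W ⟶ V // R.arrows f}
  let Y : ι → Over V := fun i => Over.mk i.2.1
  have hYR : Sieve.ofArrows (fun i : ι => (Y i).left) (fun i => (Y i).hom) = R := by
    apply le_antisymm
    · rintro W f ⟨W', a, b, ⟨i⟩, rfl⟩
      exact R.downward_closed i.2.2 a
    · intro W f hf
      exact Sieve.ofArrows_mk (fun i : ι => (Y i).left) (fun i => (Y i).hom) ⟨W, f, hf⟩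
  have hY : Sieve.ofArrows (fun i : ι => (Y i).left) (fun i => (Y i).hom) ∈
      X.smallEtaleTopology V := by
    rw [hYR]; exact hcov
  have hjs : ∀ x : ↥(V.left), ∃ (i : ι) (y : ↥((Y i).left.left)), (Y i).hom.left.base y = x := by
    have hu := (AlgebraicGeometry.Scheme.ofArrows_mem_smallEtaleTopology_iff
      (fun i : ι => (Y i).hom)).1 hY
    intro x
    have hx : x ∈ ⋃ i : ι, Set.range ((Y i).hom.left) := by rw [hu]; trivial
    obtain ⟨i, y, hy⟩ := Set.mem_iUnion.1 hx
    exact ⟨i, y, hy⟩
  have hZ := h1 V ι Y hjs 1 one_pos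
  exact exists_lift_of_cechH1 Y hY hS t (fun i => i.2.2) hZ

/-- On the small étale site of a scheme, let 0 → F' → F → F'' → 0 be a short exact sequence of abelian
étale sheaves on a scheme X. If F' and F are flasque in the Čech sense (for every étale U over X and
every jointly surjective family of étale U-schemes, Čech cohomology in positive degrees vanishes),
then so is F''. The finite products of the over categories (the fibre products entering the Čech
complexes) are carried as instance hypotheses. -/
theorem result {X : Scheme.{u}}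
    [∀ U : X.Etale, HasFiniteProducts (Over U)] (S : ShortComplex (EtCoh.Ab X)) (hS : S.ShortExact)
    (h1 : (∀ (U : X.Etale) (ι : Type (u + 1)) (Uf : ι → Over U),
      (∀ x : ↥(U.left), ∃ (i : ι) (y : ↥((Uf i).left.left)), (Uf i).hom.left.base y = x) →
      ∀ p : ℕ, 0 < p → IsZero (EtCech.cechH Uf S.X₁.obj p)))
    (h2 : (∀ (U : X.Etale) (ι : Type (u + 1)) (Uf : ι → Over U),
      (∀ x : ↥(U.left), ∃ (i : ι) (y : ↥((Uf i).left.left)), (Uf i).hom.left.base y = x) →
      ∀ p : ℕ, 0 < p → IsZero (EtCech.cechH Uf S.X₂.obj p)))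
    (U : X.Etale) (ι : Type (u + 1)) (Uf : ι → Over U)
    (hU : ∀ x : ↥(U.left), ∃ (i : ι) (y : ↥((Uf i).left.left)), (Uf i).hom.left.base y = x)
    (p : ℕ) (hp : 0 < p) :
    IsZero (EtCech.cechH Uf S.X₃.obj p) := by
  obtain ⟨q, rfl⟩ : ∃ q, p = q + 1 := ⟨p - 1, by omega⟩
  have hsurj := surj_sections S hS h1
  exact isZero_cechH_quot Uf hS (fun n i => hsurj _) q (h1 U ι Uf hU (q + 2) (by omega))
    (h2 U ι Uf hU (q + 1) (by omega))

end Groth.Agent.S14628
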