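import Groth.Statements.S14631
import Mathlib.AlgebraicGeometry.Morphisms.Etale
import Mathlib.AlgebraicGeometry.Morphisms.QuasiSeparated
import Mathlib.AlgebraicGeometry.Morphisms.QuasiCompact
-- import your own Groth.Agent.* helpers here

set_option autoImplicit false
open CategoryTheory AlgebraicGeometry
universe u
open EtBase

namespace Groth.Agent.S14631

/-- Let X be a quasi-separated scheme and U an étale X-scheme. Then there is a jointly surjective family
of étale U-schemes each of which is quasi-compact and quasi-separated, hence of finite presentation,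
over X. (Sheaves on the small étale site are therefore determined by their values on étale X-schemes
of finite presentation; that equivalence is not stated here.) -/
theorem result (X : Scheme.{u})
    [QuasiSeparatedSpace ↥X] (U : X.Etale) :
    ∃ (ι : Type u) (V : ι → Over U), (∀ i, QuasiCompact (V i).left.hom ∧ QuasiSeparated (V i).left.hom) ∧
      ∀ x : ↥(U.left), ∃ (i : ι) (y : ↥((V i).left.left)), (V i).hom.left.base y = x := by
  refine ⟨U.left.affineOpens, fun W =>
    Over.mk (Y := Scheme.Etale.mk (W.1.ι ≫ U.hom))
      (MorphismProperty.Over.homMk W.1.ι rfl trivial), ?_, ?_⟩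
  · intro W
    have h1 : IsAffine (W.1 : Scheme) := W.2
    have h2 : CompactSpace ↥(W.1 : Scheme) := inferInstance
    have h3 : QuasiSeparatedSpace ↥(W.1 : Scheme) := inferInstance
    constructor
    · show QuasiCompact (W.1.ι ≫ U.hom)
      exact @quasiCompact_of_compactSpace _ X (W.1.ι ≫ U.hom) h2 ‹QuasiSeparatedSpace ↥X›
    · show QuasiSeparated (W.1.ι ≫ U.hom)
      exact QuasiSeparated.of_quasiSeparatedSpace _
  · intro x
    obtain ⟨_, ⟨W, hW, rfl⟩, hxW, -⟩ := (U.left.isBasis_affineOpens).exists_subset_of_mem_open
      (Set.mem_univ x) isOpen_univ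
    exact ⟨⟨W, hW⟩, ⟨x, hxW⟩, rfl⟩

end Groth.Agent.S14631
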