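import Groth.Statements.S14639
-- import your own Groth.Agent.* helpers here
import Mathlib
import Groth.Agent.Lib.Helper72.TruncSub

set_option autoImplicit false
universe u
open Polynomial
open AlgGrp

namespace Groth.Agent.S14639

/-- Classification of the subalgebras of a truncated polynomial ring that are stable under the unipotent
substitutions, which is the algebraic step behind the classification of curves almost homogeneous
under the additive group in characteristic zero. Let k be a field of characteristic zero, N ≥ 0 and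
R = k[u]/(u^(N+1)). The additive group acts on R through the substitutions u ↦ u/(1 + a u), a in k.
If A is a k-subalgebra of R stable under all these substitutions (stated for every k-algebra
endomorphism σ of R with σ(u)(1 + a u) = u for some a in k), then there is an integer n with 1 ≤ n ≤
N + 1 such that A = k ⊕ (u^n): as a k-subspace, A is the span of 1 plus the ideal generated by u^n.
(In positive characteristic p and for N ≥ p + 1, the subalgebra generated by u^p is stable and not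
of this form.) -/
theorem result (k : Type u) [Field k] [CharZero k]
    (N : ℕ) (A : Subalgebra k (AdjoinRoot ((Polynomial.X : Polynomial k) ^ (N + 1))))
    (hA : ∀ (a : k) (σ : AdjoinRoot ((Polynomial.X : Polynomial k) ^ (N + 1)) →ₐ[k] AdjoinRoot ((Polynomial.X : Polynomial k) ^ (N + 1))),
      σ (AdjoinRoot.root ((Polynomial.X : Polynomial k) ^ (N + 1))) * (1 + algebraMap k (AdjoinRoot ((Polynomial.X : Polynomial k) ^ (N + 1))) a * AdjoinRoot.root ((Polynomial.X : Polynomial k) ^ (N + 1))) = AdjoinRoot.root ((Polynomial.X : Polynomial k) ^ (N + 1)) →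
        A.map σ ≤ A) :
    ∃ n : ℕ, 1 ≤ n ∧ n ≤ N + 1 ∧
      Subalgebra.toSubmodule A =
        Submodule.span k {1} ⊔ (Ideal.span {AdjoinRoot.root ((Polynomial.X : Polynomial k) ^ (N + 1)) ^ n}).restrictScalars k := by
  open Groth.Agent.Lib.Helper72.TruncSub in
  classical
  generalize hf' : (Polynomial.X : Polynomial k) ^ (N + 1) = f at A hA ⊢
  have hf : f = Polynomial.X ^ (N + 1) := hf'.symm
  generalize hu' : AdjoinRoot.root f = u at hA ⊢
  have hu : u = AdjoinRoot.root f := hu'.symm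
  have hN : u ^ (N + 1) = 0 := by
    have h1 : AdjoinRoot.mk f ((Polynomial.X : Polynomial k) ^ (N + 1)) = 0 :=
      AdjoinRoot.mk_eq_zero.mpr (by rw [← hf])
    have h2 : AdjoinRoot.mk f ((Polynomial.X : Polynomial k) ^ (N + 1)) = u ^ (N + 1) := by
      rw [map_pow, AdjoinRoot.mk_X, hu]
    rw [← h2, h1]
  have hgen : ∀ w : AdjoinRoot f, ∃ p : Polynomial k, w = Polynomial.aeval u p := by
    intro w
    obtain ⟨p, rfl⟩ := AdjoinRoot.mk_surjective w
    exact ⟨p, by rw [hu, AdjoinRoot.aeval_eq]⟩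
  obtain ⟨v', hv'⟩ : IsUnit (1 + u) := IsNilpotent.isUnit_one_add ⟨N + 1, hN⟩
  obtain ⟨v, hvdef⟩ : ∃ v : AdjoinRoot f, v = ((v'⁻¹ : (AdjoinRoot f)ˣ) : AdjoinRoot f) := ⟨_, rfl⟩
  have hv : v * (1 + u) = 1 := by rw [← hv', hvdef]; exact Units.inv_mul v'
  have hσ00 : Polynomial.eval₂ (Algebra.ofId k (AdjoinRoot f) : k →+* AdjoinRoot f) (u * v)
      ((Polynomial.X : Polynomial k) ^ (N + 1)) = 0 := by
    rw [Polynomial.eval₂_pow, Polynomial.eval₂_X, mul_pow, hN, zero_mul]
  have hσ0 : Polynomial.eval₂ (Algebra.ofId k (AdjoinRoot f) : k →+* AdjoinRoot f) (u * v) f = 0 :=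
    (congrArg (Polynomial.eval₂ (Algebra.ofId k (AdjoinRoot f) : k →+* AdjoinRoot f) (u * v)) hf).trans hσ00
  obtain ⟨σ, hσdef⟩ : ∃ σ : AdjoinRoot f →ₐ[k] AdjoinRoot f,
      σ = AdjoinRoot.liftAlgHom f (Algebra.ofId k _) (u * v) hσ0 := ⟨_, rfl⟩
  have hσ : σ u = u * v := by
    have h1 : σ (AdjoinRoot.root f) = u * v := by rw [hσdef, AdjoinRoot.liftAlgHom_root]
    rw [← hu] at h1
    exact h1
  have hAσ : ∀ y ∈ A, σ y ∈ A := by
    intro y hy
    have h1 : σ u * (1 + algebraMap k (AdjoinRoot f) 1 * u) = u := by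
      rw [map_one, one_mul, hσ, mul_assoc, hv, mul_one]
    exact hA 1 σ h1 (Subalgebra.mem_map.mpr ⟨y, hy, rfl⟩)
  -- the minimal order
  have hQ : ∃ i : ℕ, 1 ≤ i ∧ (i = N + 1 ∨ ∃ y ∈ A, P k u i y) := ⟨N + 1, by omega, Or.inl rfl⟩
  obtain ⟨n, hndef⟩ : ∃ n, n = Nat.find hQ := ⟨_, rfl⟩
  have hn := Nat.find_spec hQ
  rw [← hndef] at hn
  have hnN : n ≤ N + 1 := by rw [hndef]; exact Nat.find_min' hQ ⟨by omega, Or.inl rfl⟩
  have hmin : ∀ i, 1 ≤ i → (∃ y ∈ A, P k u i y) → n ≤ i := by
    intro i hi hy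
    rw [hndef]; exact Nat.find_min' hQ ⟨hi, Or.inr hy⟩
  have hpow : ∀ m, n ≤ m → u ^ m ∈ A := by
    rcases hn.2 with h | ⟨y, hyA, hy⟩
    · intro m hm
      have : u ^ m = u ^ (N + 1) * u ^ (m - (N + 1)) := by rw [← pow_add]; congr 1; omega
      rw [this, hN, zero_mul]; exact A.zero_mem
    · exact pow_mem u v σ hv hσ hgen A hAσ N hN n hn.1 y hyA hy
  have hdec : ∀ x ∈ A, ∃ c : k, x - algebraMap k (AdjoinRoot f) c ∈ Ideal.span {u ^ n} := by
    intro x hx
    obtain ⟨p, rfl⟩ := AdjoinRoot.mk_surjective x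
    refine ⟨p.coeff 0, ?_⟩
    obtain ⟨q, hq⟩ : ∃ q : Polynomial k, q = p - Polynomial.C (p.coeff 0) := ⟨_, rfl⟩
    have hyq : AdjoinRoot.mk f p - algebraMap k (AdjoinRoot f) (p.coeff 0) = AdjoinRoot.mk f q := by
      rw [hq, map_sub, AdjoinRoot.mk_C, AdjoinRoot.algebraMap_eq]
    have hyA : AdjoinRoot.mk f q ∈ A := by
      rw [← hyq]; exact A.sub_mem hx (A.algebraMap_mem _)
    rw [hyq]
    by_cases hy0 : AdjoinRoot.mk f q = 0
    · rw [hy0]; exact Ideal.zero_mem _
    · have hq0 : q.coeff 0 = 0 := by rw [hq]; simp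
      have h1 : ¬ f ∣ q := fun h => hy0 (AdjoinRoot.mk_eq_zero.mpr h)
      rw [hf, Polynomial.X_pow_dvd_iff] at h1
      push Not at h1
      have hE : ∃ d, q.coeff d ≠ 0 := by obtain ⟨d, _, hd⟩ := h1; exact ⟨d, hd⟩
      obtain ⟨i, hidef⟩ : ∃ i, i = Nat.find hE := ⟨_, rfl⟩
      have hi := Nat.find_spec hE
      rw [← hidef] at hi
      have hilt : ∀ d < i, q.coeff d = 0 := by
        intro d hd
        by_contra hne
        have := Nat.find_min' hE hne
        omega
      have hi1 : 1 ≤ i := by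
        rcases Nat.eq_zero_or_pos i with h | h
        · rw [h] at hi; exact absurd hq0 hi
        · exact h
      obtain ⟨q1, hq1⟩ : (Polynomial.X : Polynomial k) ^ i ∣ q := Polynomial.X_pow_dvd_iff.mpr hilt
      have hc1 : q1.coeff 0 = q.coeff i := by
        rw [hq1]
        have := Polynomial.coeff_X_pow_mul q1 i 0
        rw [zero_add] at this
        exact this.symm
      have hPy : P k u i (AdjoinRoot.mk f q) := by
        refine ⟨q1.coeff 0, AdjoinRoot.mk f q1.divX, by rw [hc1]; exact hi, ?_⟩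
        have h2 : q1 = Polynomial.X * q1.divX + Polynomial.C (q1.coeff 0) := (Polynomial.X_mul_divX_add q1).symm
        conv_lhs => rw [hq1, h2]
        rw [map_mul, map_add, map_mul, map_pow, AdjoinRoot.mk_X, AdjoinRoot.mk_C, ← hu,
          AdjoinRoot.algebraMap_eq]
        ring
      have hni : n ≤ i := hmin i hi1 ⟨_, hyA, hPy⟩
      rw [Ideal.mem_span_singleton']
      refine ⟨u ^ (i - n) * AdjoinRoot.mk f q1, ?_⟩
      rw [hq1, map_mul, map_pow, AdjoinRoot.mk_X, ← hu, mul_comm _ (u ^ n), ← mul_assoc, ← pow_add]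
      congr 2; omega
  refine ⟨n, hn.1, hnN, ?_⟩
  apply le_antisymm
  · intro x hx
    obtain ⟨c, hc⟩ := hdec x hx
    rw [Submodule.mem_sup]
    refine ⟨algebraMap k _ c, ?_, x - algebraMap k _ c, hc, by ring⟩
    rw [Algebra.algebraMap_eq_smul_one]
    exact Submodule.smul_mem _ _ (Submodule.subset_span rfl)
  · apply sup_le
    · rw [Submodule.span_le]
      intro x hx
      rw [Set.mem_singleton_iff] at hx
      rw [hx]; exact A.one_mem
    · intro x hx
      have hx' : x ∈ Ideal.span {u ^ n} := hx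
      rw [Ideal.mem_span_singleton'] at hx'
      obtain ⟨w, rfl⟩ := hx'
      have h1 := mul_mem_of_pow_mem u hgen A (n - 1) (fun m' hm' => hpow m' (by omega)) w
      have h2 : n - 1 + 1 = n := by omega
      rw [h2, mul_comm] at h1
      exact h1

end Groth.Agent.S14639
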