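import Groth.Statements.S5888
import Groth.Agent.S9777
import Groth.Agent.Lib.Helper73.FibreDimCons
-- import your own Groth.Agent.* helpers here

set_option autoImplicit false
universe u
open CategoryTheory AlgebraicGeometry
open ConsProp

namespace Groth.Agent.S5888
open Groth.Agent.Lib.Helper73.FibreDimCons Groth.Agent.Lib.Helper73.ConstructibleNhds

/-- For a given set Φ of values (natural numbers, with −∞ = ⊥ the dimension of the empty scheme), the
property of an algebraic k-scheme X that the dimension of X belongs to Φ is a constructible property
of algebraic schemes. The dimension is the Krull dimension of the underlying topological space,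
valued in WithBot ℕ∞. -/
theorem result (Φ : Set (WithBot ℕ∞)) :
    ConsProp.IsCons (fun Y T g => topologicalKrullDim ↥Y ∈ Φ) := by
  -- dimension of a scheme over a one-point base is the dimension of the fibre
  have hfib : ∀ {Y T : Scheme} (g : Y ⟶ T) [Subsingleton T] (t : T),
      topologicalKrullDim (g.fiber t) = topologicalKrullDim Y := by
    intro Y T g _ t
    have h1 := IsHomeomorph.topologicalKrullDim_eq _ (g.fiberHomeo t).isHomeomorph
    rw [h1]
    have : g.base ⁻¹' {t} = Set.univ := by
      ext y
      simp only [Set.mem_preimage, Set.mem_singleton_iff, Set.mem_univ, iff_true]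
      exact Subsingleton.elim _ _
    rw [this]
    exact IsHomeomorph.topologicalKrullDim_eq _ (Homeomorph.Set.univ Y).isHomeomorph
  refine ⟨?_, ?_⟩
  · intro Y Y' T T' g g' e h _ _ _ _ _ _ sq
    obtain ⟨t'⟩ : Nonempty T' := inferInstance
    have h1 := Groth.Agent.S9777.result g h g' e sq t'
    rw [hfib g' t', hfib g (h.base t')] at h1
    change topologicalKrullDim Y ∈ Φ ↔ topologicalKrullDim Y' ∈ Φ
    rw [h1]
  · intro X S u _ _ _ _
    set η := genericPoint S with hη
    have hηmax : ∀ z : S, z ⤳ η → z = η := fun z hz =>
      (hz.antisymm (genericPoint_specializes z)).eq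
    -- the level set through the generic point is a neighbourhood of it
    have hlev := isLocallyConstructible_setOf_dim_fiber_eq u (topologicalKrullDim (u.fiber η))
    have hnhds := mem_nhds_of_isLocallyConstructible hlev η (fun z hz => by
      rw [hηmax z hz]; rfl)
    have hfibre : ∀ s : S, topologicalKrullDim (u.fiber s) =
        topologicalKrullDim (u.fiber s) := fun s => rfl
    by_cases hd : topologicalKrullDim (u.fiber η) ∈ Φ
    · left
      refine ⟨η, ?_⟩
      rw [mem_interior_iff_mem_nhds]
      refine Filter.mem_of_superset hnhds ?_
      intro s hs
      change topologicalKrullDim (u.fiber s) ∈ Φ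
      rw [show topologicalKrullDim (u.fiber s) = topologicalKrullDim (u.fiber η) from hs]
      exact hd
    · right
      refine ⟨η, ?_⟩
      rw [mem_interior_iff_mem_nhds]
      refine Filter.mem_of_superset hnhds ?_
      intro s hs
      change ¬ (topologicalKrullDim (u.fiber s) ∈ Φ)
      rw [show topologicalKrullDim (u.fiber s) = topologicalKrullDim (u.fiber η) from hs]
      exact hd

end Groth.Agent.S5888
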