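import Groth.Statements.S1464
import Groth.Agent.S1460
import Groth.Agent.S9737
import Groth.Agent.S5888
import Groth.Agent.Lib.Helper24.ConsLocusSingle
-- import your own Groth.Agent.* helpers here

set_option autoImplicit false
universe u
open FlatMor

namespace Groth.Agent.S1464


open AlgebraicGeometry CategoryTheory Limits Groth.Agent.Lib.Helper24.Lim8
  Groth.Agent.Lib.Helper24.ConsLocus

/-- The relation "the dimension is `d`". -/
def PDim (d : ℕ) : ∀ ⦃Y T : Scheme.{u}⦄, (Y ⟶ T) → Prop :=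
  fun Y _ _ ↦ topologicalKrullDim ↥Y ∈ ({(d : WithBot ℕ∞)} : Set (WithBot ℕ∞))

lemma isCons_PDim (d : ℕ) : ConsProp.IsCons (PDim.{u} d) :=
  Groth.Agent.S5888.result ({(d : WithBot ℕ∞)} : Set (WithBot ℕ∞))

/-- The locus theory of "the fibre has dimension `d`". -/
noncomputable def theoryDim (d : ℕ) : LocusTheory.{u} := singleTheory (PDim d) (isCons_PDim d).1

lemma genInd_theoryDim (d : ℕ) : (theoryDim.{u} d).GenInd := by
  intro S _ _ dat hη
  rcases (isCons_PDim d).2 dat.u with h | ⟨x, hx⟩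
  · exact h
  · exfalso
    have hmem : genericPoint S ∈ interior (ConsProp.locus (PDim d) dat.u)ᶜ :=
      ((genericPoint_spec S).mem_open_set_iff isOpen_interior).mpr ⟨x, by simpa using hx⟩
    exact interior_subset hmem hη

open AlgebraicGeometry CategoryTheory Limits in
/-- Let f : X → S be a morphism of finite presentation between affine schemes all of whose fibres have
dimension d. Then f is the base change of a morphism of finite type f₀ : X₀ → S₀ between affine
schemes with S₀ of finite type over ℤ, where f₀ can be chosen with the same property. -/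
theorem result {X S : Scheme.{u}} (f : X ⟶ S) [IsAffine X] [IsAffine S] [LocallyOfFinitePresentation f] (d : ℕ) (hd : ∀ s : S, topologicalKrullDim ↑(f.fiber s) = d) :
    ∃ (X₀ S₀ : Scheme.{u}) (f₀ : X₀ ⟶ S₀) (g : S ⟶ S₀) (g' : X ⟶ X₀), IsAffine X₀ ∧ IsAffine S₀ ∧ IsPullback g' f f₀ g ∧
      Algebra.FiniteType ℤ Γ(S₀, ⊤) ∧ LocallyOfFiniteType f₀ ∧ ∀ s₀ : S₀, topologicalKrullDim ↑(f₀.fiber s₀) = d := by
  classical
  obtain ⟨X₁, S₁, f₁, g₁, g₁', hX₁, hS₁aff, h₁, hS₁, hf₁⟩ := Groth.Agent.S1460.result f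
  let B : CommRingCat.{u} := Γ(S, ⊤)
  let D : (FGSubZ B)ᵒᵖ ⥤ Scheme.{u} := (fgSubZDiagram B).op ⋙ Scheme.Spec
  let c : Cone D := Scheme.Spec.mapCone (fgSubZCocone B).op
  have hc : IsLimit c := isLimitOfPreserves Scheme.Spec (isColimitFgSubZCocone B).op
  have hD : ∀ {i k : (FGSubZ B)ᵒᵖ} (h : i ⟶ k), IsAffineHom (D.map h) := fun h ↦ by
    dsimp [D]; infer_instance
  have hD1 : ∀ i, CompactSpace (D.obj i) := fun i ↦ by dsimp [D]; infer_instance
  have hD2 : ∀ i, QuasiSeparatedSpace (D.obj i) := fun i ↦ by dsimp [D]; infer_instance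
  have hD3 : ∀ i, IsAffine (D.obj i) := fun i ↦ by dsimp [D]; infer_instance
  let e : S ≅ c.pt := S.isoSpec
  obtain ⟨R₁, hR₁⟩ := Groth.Agent.S9737.exists_factor g₁ hS₁
  obtain ⟨t₁, ht₁⟩ := hR₁ R₁ le_rfl
  let M₁ : Model D c (Opposite.op R₁) (f ≫ e.hom) :=
    Groth.Agent.S9737.modelOfPullback f e f₁ g₁ g₁' h₁ (Opposite.op R₁) t₁ ht₁
  have hN₁ : IsNoetherianRing Γ(S₁, ⊤) := Algebra.FiniteType.isNoetherianRing ℤ _
  have hLN₁ : IsLocallyNoetherian S₁ := isLocallyNoetherian_of_isOpenImmersion S₁.isoSpec.hom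
  have hfp₁ : LocallyOfFinitePresentation f₁ := inferInstance
  have hM₁fi : M₁.fi = pullback.snd f₁ t₁ := rfl
  have hM₁aff : IsAffine M₁.Xi := inferInstanceAs (IsAffine (pullback f₁ t₁))
  have hM₁fp : LocallyOfFinitePresentation M₁.fi :=
    MorphismProperty.pullback_snd (P := @LocallyOfFinitePresentation) _ _ hfp₁
  have hM₁qc : QuasiCompact M₁.fi := inferInstance
  have hM₁qs : QuasiSeparated M₁.fi := inferInstance
  -- dimension of the fibres of `f ≫ e.hom`
  have hsqe : IsPullback (𝟙 X) f (f ≫ e.hom) e.hom :=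
    IsPullback.of_horiz_isIso ⟨by simp⟩
  have hall : (theoryDim d).locus (S := c.pt)
      (⟨X, f ≫ e.hom, inferInstance, inferInstance, inferInstance⟩ : SingleDat c.pt) =
        Set.univ := by
    refine Set.eq_univ_of_forall fun s ↦ ?_
    have h1 : ConsProp.locus (PDim d) f = e.hom ⁻¹' ConsProp.locus (PDim d) (f ≫ e.hom) :=
      locus_bc (isCons_PDim d).1 e.hom hsqe
    have h2 : e.inv s ∈ ConsProp.locus (PDim d) f := by
      change topologicalKrullDim ↥(f.fiber (e.inv s)) ∈ ({(d : WithBot ℕ∞)} : Set (WithBot ℕ∞))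
      rw [hd (e.inv s)]
      rfl
    rw [h1] at h2
    have h3 : e.hom (e.inv s) = s := by
      rw [← Scheme.Hom.comp_apply, Iso.inv_hom_id]
      rfl
    have h4 : e.hom (e.inv s) ∈ ConsProp.locus (PDim d) (f ≫ e.hom) := h2
    rw [h3] at h4
    exact h4
  obtain ⟨j, φ, dj, ⟨eX, hdj⟩, hj⟩ := LocusTheory.exists_stage_locus_eq_univ (T := theoryDim d)
    (genInd_theoryDim d) D c hc (Opposite.op R₁) ⟨M₁.Xi, M₁.fi, hM₁fp, hM₁qc, hM₁qs⟩
    ⟨X, f ≫ e.hom, inferInstance, inferInstance, inferInstance⟩ ⟨M₁.g, M₁.sq⟩ hall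
  have hjall : ∀ y : D.obj j, topologicalKrullDim ↥(dj.u.fiber y) = d := by
    intro y
    have : y ∈ (theoryDim d).locus dj := hj ▸ Set.mem_univ y
    exact this
  have hdjaff : IsAffineHom dj.u :=
    MorphismProperty.of_isPullback (P := @IsAffineHom) hdj inferInstance
  have hdjX : IsAffine dj.X := isAffine_of_isAffineHom dj.u
  have hw : M₁.g ≫ M₁.fi = ((f ≫ e.hom) ≫ c.π.app j) ≫ D.map φ := by
    rw [M₁.sq.w, Category.assoc, Category.assoc, Category.assoc, c.w]
  let gX : X ⟶ dj.X := hdj.lift M₁.g ((f ≫ e.hom) ≫ c.π.app j) hw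
  have hgX1 : gX ≫ eX = M₁.g := hdj.lift_fst _ _ _
  have hgX2 : gX ≫ dj.u = (f ≫ e.hom) ≫ c.π.app j := hdj.lift_snd _ _ _
  have hsq : IsPullback gX (f ≫ e.hom) dj.u (c.π.app j) := by
    refine IsPullback.of_right ?_ hgX2 hdj
    rw [hgX1, c.w]
    exact M₁.sq
  refine ⟨dj.X, D.obj j, dj.u, e.hom ≫ c.π.app j, gX, hdjX, hD3 j, ?_, ?_, inferInstance, hjall⟩
  · exact hsq.of_iso (Iso.refl _) (Iso.refl _) e.symm (Iso.refl _)
      (by simp) (by simp) (by simp) (by simp)
  · have h1 : Algebra.FiniteType ℤ j.unop.1 := (Subalgebra.fg_iff_finiteType _).mp j.unop.2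
    exact Algebra.FiniteType.equiv h1
      (Scheme.ΓSpecIso (.of j.unop.1)).commRingCatIsoToRingEquiv.symm.toIntAlgEquiv

end Groth.Agent.S1464
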