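import Groth.Statements.S14641
import Mathlib.AlgebraicGeometry.Morphisms.Flat

set_option autoImplicit false
universe u
open CategoryTheory MonoidalCategory CartesianMonoidalCategory MonObj GrpObj AlgebraicGeometry CategoryTheory.Limits
open AlgGrp

namespace Groth.Agent.S14641

section aux
variable {S : Scheme.{u}} {G X : Over S} [GrpObj G] (a : AlgGrp.Action G X)

theorem act_one {T : Over S} (x : T ⟶ X) :
    lift (1 : T ⟶ G) x ≫ a.act = x := by
  have h1 : lift (1 : T ⟶ G) x = lift (toUnit T) x ≫ (η[G] ▷ X) := by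
    rw [lift_whiskerRight]; rfl
  rw [h1, Category.assoc, a.one_act, lift_leftUnitor_hom]

theorem act_mul {T : Over S} (g h : T ⟶ G) (x : T ⟶ X) :
    lift (g * h) x ≫ a.act = lift g (lift h x ≫ a.act) ≫ a.act := by
  have h1 : lift (g * h) x = lift (lift g h) x ≫ (μ[G] ▷ X) := by
    rw [lift_whiskerRight]; rfl
  rw [h1, Category.assoc, a.mul_act, lift_lift_associator_hom_assoc, lift_whiskerLeft_assoc]

theorem comp_orbitMap {T : Over S} (o : 𝟙_ (Over S) ⟶ X) (g : T ⟶ G) :
    g ≫ a.orbitMap o = lift g (toUnit T ≫ o) ≫ a.act := by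
  unfold AlgGrp.Action.orbitMap
  rw [← Category.assoc, comp_lift, Category.comp_id, ← Category.assoc, toUnit_unique (g ≫ toUnit G) (toUnit T)]

end aux

/-- Over a field k, let G be a k-group scheme of finite type, i : H → G a closed subgroup scheme, and
(Q, o) the quotient G/H: a k-scheme with a G-action and a rational point o exhibiting it as the
quotient (orbit map flat and surjective, G × H ≅ G ×_Q G). Let n : N → G be a closed subgroup scheme
which is the kernel of the action of G on Q, i.e. for every k-scheme T, a T-point g of G factors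
through N exactly when g acts as the identity on Q_T (on all points of Q over T-schemes). Then N is
normal in G and contained in H, and N is the largest such subgroup: every closed subgroup scheme N'
of G which is normal in G and factors through H factors through N. -/
theorem result (k : Type u) [Field k]
    (G H Q N : Over (Spec (CommRingCat.of k))) [GrpObj G] [LocallyOfFiniteType G.hom] [QuasiCompact G.hom]
    [GrpObj H] (i : H ⟶ G) [IsMonHom i] [IsClosedImmersion i.left]
    (a : AlgGrp.Action G Q) (o : 𝟙_ (Over (Spec (CommRingCat.of k))) ⟶ Q) (hQ : AGF.IsQuotient i Q a o)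
    [GrpObj N] (n : N ⟶ G) [IsMonHom n] [IsClosedImmersion n.left]
    (hN : ∀ (T : Over (Spec (CommRingCat.of k))) (g : T ⟶ G),
      (∃ m : T ⟶ N, m ≫ n = g) ↔
        ∀ (T' : Over (Spec (CommRingCat.of k))) (s : T' ⟶ T) (x : T' ⟶ Q),
          CartesianMonoidalCategory.lift (s ≫ g) x ≫ a.act = x) :
    AlgGrp.IsNormalHom n ∧ (∃ f : N ⟶ H, f ≫ i = n) ∧
      ∀ (N' : Over (Spec (CommRingCat.of k))) [GrpObj N'] (n' : N' ⟶ G) [IsMonHom n'] [IsClosedImmersion n'.left],
        AlgGrp.IsNormalHom n' → (∃ f : N' ⟶ H, f ≫ i = n') → ∃ f' : N' ⟶ N, f' ≫ n = n' := by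
  obtain ⟨_, hflat, hsurj, hpb⟩ := hQ
  -- points of H fix o
  have hHfix : ∀ (P : Over (Spec (CommRingCat.of k))) (h : P ⟶ H),
      lift (h ≫ i) (toUnit P ≫ o) ≫ a.act = toUnit P ≫ o := by
    intro P h
    have h1 := congrArg (fun t => lift (1 : P ⟶ G) h ≫ t) hpb.w
    beta_reduce at h1
    rw [lift_fst_assoc, ← Category.assoc, ← Category.assoc, lift_whiskerLeft, ← CategoryTheory.Hom.mul_def,
      _root_.one_mul, comp_orbitMap, comp_orbitMap, act_one] at h1
    exact h1.symm
  refine ⟨?_, ?_, ?_⟩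
  · -- normality
    intro T g m
    suffices h : ∃ m', m' ≫ n = g * (m ≫ n) * g⁻¹ by
      obtain ⟨m', hm'⟩ := h
      exact ⟨m', hm'.symm⟩
    apply (hN T (g * (m ≫ n) * g⁻¹)).mpr
    intro T' s x
    have hm := (hN T (m ≫ n)).mp ⟨m, rfl⟩ T' s
    rw [MonObj.comp_mul, MonObj.comp_mul, GrpObj.comp_inv, act_mul, act_mul, hm, ← act_mul,
      mul_inv_cancel, act_one]
  · -- N ⊆ H
    have hn := (hN N n).mp ⟨𝟙 N, Category.id_comp n⟩ N (𝟙 N) (toUnit N ≫ o)
    rw [Category.id_comp] at hn
    have hcond : (1 : N ⟶ G) ≫ a.orbitMap o = n ≫ a.orbitMap o := by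
      rw [comp_orbitMap, comp_orbitMap, act_one, hn]
    refine ⟨hpb.lift (1 : N ⟶ G) n hcond ≫ snd G H, ?_⟩
    have h1 := hpb.lift_fst (1 : N ⟶ G) n hcond
    have h2 := hpb.lift_snd (1 : N ⟶ G) n hcond
    have h3 : hpb.lift (1 : N ⟶ G) n hcond = lift (1 : N ⟶ G) (hpb.lift (1 : N ⟶ G) n hcond ≫ snd G H) := by
      apply CartesianMonoidalCategory.hom_ext
      · rw [lift_fst, h1]
      · rw [lift_snd]
    rw [h3, ← Category.assoc, lift_whiskerLeft, ← CategoryTheory.Hom.mul_def, _root_.one_mul] at h2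
    exact h2
  · -- maximality
    intro N' _ n' _ _ hnorm hfac
    obtain ⟨f, hf⟩ := hfac
    apply (hN N' n').mpr
    intro T' s x
    -- the fppf cover P = T' ×_Q G of T' on which x lifts to G
    have hcomm : pullback.snd x.left (a.orbitMap o).left ≫ G.hom =
        (pullback.fst x.left (a.orbitMap o).left ≫ T'.hom) := by
      rw [← Over.w (a.orbitMap o), ← Over.w x, ← Category.assoc, ← Category.assoc, pullback.condition]
    let P : Over (Spec (CommRingCat.of k)) :=
      Over.mk (pullback.fst x.left (a.orbitMap o).left ≫ T'.hom)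
    let p1 : P ⟶ T' := Over.homMk (pullback.fst x.left (a.orbitMap o).left) rfl
    let p2 : P ⟶ G := Over.homMk (pullback.snd x.left (a.orbitMap o).left) hcomm
    have hp : p1 ≫ x = p2 ≫ a.orbitMap o := by
      apply Over.OverMorphism.ext
      exact pullback.condition
    have hepi1 : Epi p1.left := by
      show Epi (pullback.fst x.left (a.orbitMap o).left)
      exact Flat.epi_of_flat_of_surjective _
    have hepi : Epi p1 := (Over.forget _).epi_of_epi_map hepi1
    rw [← cancel_epi p1, ← Category.assoc, comp_lift, hp, comp_orbitMap, ← act_mul]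
    -- ν * γ = γ * (γ⁻¹ ν γ)
    obtain ⟨m', hm'⟩ := hnorm P (p2⁻¹) (p1 ≫ s)
    rw [_root_.inv_inv] at hm'
    have h5 : (p1 ≫ s ≫ n') * p2 = p2 * ((m' ≫ f) ≫ i) := by
      rw [Category.assoc, hf, ← hm', ← Category.assoc]
      group
    rw [h5, act_mul, hHfix]

end Groth.Agent.S14641
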