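import Groth.Statements.S14643
-- import your own Groth.Agent.* helpers here
import Groth.Agent.Lib.Helper40.QuotAction

set_option autoImplicit false
universe u
open CategoryTheory MonoidalCategory CartesianMonoidalCategory MonObj GrpObj AlgebraicGeometry CategoryTheory.Limits
open AlgGrp

namespace Groth.Agent.S14643

/-- Over a field k, let G be a smooth k-group scheme of finite type acting on a variety X (a separated,
geometrically integral k-scheme of finite type). Let n : N → G be the kernel of the action: a closed
subgroup scheme such that, for every k-scheme T, a T-point of G factors through N exactly when it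
acts as the identity on all points of X over T-schemes. Let π : G → Q be a homomorphism onto a
k-group scheme of finite type which is flat and surjective with kernel N (the quotient G/N). Then
there is a unique action of Q on X inducing the given one along π; this action of Q is faithful (a
T-point of Q acting as the identity on all points of X over T-schemes is the unit); and X is
homogeneous under G (surjective graph morphism (g, x) ↦ (x, g·x)) if and only if it is homogeneous
under Q, and almost homogeneous under G (dominant graph morphism) if and only if it is almost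
homogeneous under Q. -/
theorem result (k : Type u) [Field k]
    (G N Q X : Over (Spec (CommRingCat.of k))) [GrpObj G] [Smooth G.hom] [QuasiCompact G.hom]
    [IsSeparated X.hom] [LocallyOfFiniteType X.hom] [QuasiCompact X.hom] [GeometricallyIntegral X.hom] (a : AlgGrp.Action G X)
    [GrpObj N] (n : N ⟶ G) [IsMonHom n] [IsClosedImmersion n.left]
    (hN : ∀ (T : Over (Spec (CommRingCat.of k))) (g : T ⟶ G),
      (∃ m : T ⟶ N, m ≫ n = g) ↔
        ∀ (T' : Over (Spec (CommRingCat.of k))) (s : T' ⟶ T) (x : T' ⟶ X), CartesianMonoidalCategory.lift (s ≫ g) x ≫ a.act = x)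
    [GrpObj Q] [LocallyOfFiniteType Q.hom] [QuasiCompact Q.hom] (π : G ⟶ Q) [IsMonHom π] [Flat π.left] [Surjective π.left]
    (hker : AlgGrp.IsKernel n π) :
    (∃! b : AlgGrp.Action Q X, (π ▷ X) ≫ b.act = a.act) ∧
    ∀ b : AlgGrp.Action Q X, (π ▷ X) ≫ b.act = a.act →
      (∀ (T : Over (Spec (CommRingCat.of k))) (q : T ⟶ Q),
        (∀ (T' : Over (Spec (CommRingCat.of k))) (s : T' ⟶ T) (x : T' ⟶ X), CartesianMonoidalCategory.lift (s ≫ q) x ≫ b.act = x) → q = 1) ∧
      (Surjective (CartesianMonoidalCategory.lift (CartesianMonoidalCategory.snd G X) a.act).left ↔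
        Surjective (CartesianMonoidalCategory.lift (CartesianMonoidalCategory.snd Q X) b.act).left) ∧
      (IsDominant (CartesianMonoidalCategory.lift (CartesianMonoidalCategory.snd G X) a.act).left ↔
        IsDominant (CartesianMonoidalCategory.lift (CartesianMonoidalCategory.snd Q X) b.act).left) := by
  haveI : IsLocallyNoetherian Q.left := LocallyOfFiniteType.isLocallyNoetherian Q.hom
  haveI : LocallyOfFiniteType π.left := by
    haveI : LocallyOfFiniteType (π.left ≫ Q.hom) := by rw [Over.w π]; infer_instance
    exact locallyOfFiniteType_of_comp π.left Q.hom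
  haveI : LocallyOfFinitePresentation π.left := inferInstance
  have hcov : Groth.Agent.Lib.Helper40.FpqcCov.IsCov π.left :=
    (Groth.Agent.Lib.Helper40.FpqcCov.IsQCov.of_fppf π.left).isCov
  refine ⟨Groth.Agent.Lib.Helper40.QuotAction.existsUnique_quot_action a n π hN hker hcov, ?_⟩
  intro b hb
  have hsq1 : IsPullback (π ▷ X).left (fst G X).left (fst Q X).left π.left :=
    (Groth.Agent.Lib.Helper40.FpqcCov.isPullback_whiskerRight π X).map (Over.forget _)
  haveI : Surjective (π ▷ X).left :=
    MorphismProperty.of_isPullback (P := @Surjective) hsq1.flip inferInstance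
  have eL : (lift (snd G X) a.act).left = (π ▷ X).left ≫ (lift (snd Q X) b.act).left :=
    congrArg CommaMorphism.left (Groth.Agent.Lib.Helper40.QuotAction.graph_eq a π b hb)
  refine ⟨fun T q hq => Groth.Agent.Lib.Helper40.QuotAction.faithful a n π hN hker b hb hcov q hq,
    ⟨fun h => ?_, fun h => ?_⟩, ⟨fun h => ?_, fun h => ?_⟩⟩
  · haveI : Surjective ((π ▷ X).left ≫ (lift (snd Q X) b.act).left) := by rw [← eL]; exact h
    exact Surjective.of_comp (π ▷ X).left (lift (snd Q X) b.act).left
  · rw [eL]; infer_instance
  · haveI : IsDominant ((π ▷ X).left ≫ (lift (snd Q X) b.act).left) := by rw [← eL]; exact h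
    exact IsDominant.of_comp (f := (π ▷ X).left) (g := (lift (snd Q X) b.act).left)
  · rw [eL]; infer_instance

end Groth.Agent.S14643
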