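import Groth.Statements.S14645
import Groth.Agent.Lib.Helper23.ClosedPtsField

set_option autoImplicit false
universe u
open CategoryTheory MonoidalCategory CartesianMonoidalCategory MonObj GrpObj AlgebraicGeometry CategoryTheory.Limits
open AlgGrp

namespace Groth.Agent.S14645

/-- Over a field k with algebraic closure K, let G be a smooth k-group scheme of finite type acting on a
variety X (a separated, geometrically integral k-scheme of finite type). Then X is homogeneous under
G, i.e. the graph morphism G × X → X × X, (g, x) ↦ (x, g·x), is surjective, if and only if the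
abstract group G(K) of K-points over k acts transitively on the set X(K): for all K-points x, y of X
there is a K-point g of G with g · x = y. -/
theorem result (k : Type u) [Field k]
    (G X : Over (Spec (CommRingCat.of k))) [GrpObj G] [Smooth G.hom] [QuasiCompact G.hom]
    [IsSeparated X.hom] [LocallyOfFiniteType X.hom] [QuasiCompact X.hom] [GeometricallyIntegral X.hom] (a : AlgGrp.Action G X)
    (K : Type u) [Field K] [Algebra k K] [IsAlgClosure k K] :
    Surjective (CartesianMonoidalCategory.lift (CartesianMonoidalCategory.snd G X) a.act).left ↔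
      ∀ x y : Over.mk (Spec.map (CommRingCat.ofHom (algebraMap k K))) ⟶ X, ∃ g : Over.mk (Spec.map (CommRingCat.ofHom (algebraMap k K))) ⟶ G, CartesianMonoidalCategory.lift g x ≫ a.act = y := by
  open Groth.Agent.Lib.Helper23.ClosedPtsField Groth.Agent.Lib.Helper23.PointsDense Limits
    CartesianMonoidalCategory in
  have hK : IsAlgClosed K := IsAlgClosure.isAlgClosed k
  have hGX1 : LocallyOfFiniteType (G ⊗ X).hom :=
    inferInstanceAs (LocallyOfFiniteType (pullback.fst G.hom X.hom ≫ G.hom))
  have hGX2 : QuasiCompact (G ⊗ X).hom :=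
    inferInstanceAs (QuasiCompact (pullback.fst G.hom X.hom ≫ G.hom))
  have hXX1 : LocallyOfFiniteType (X ⊗ X).hom :=
    inferInstanceAs (LocallyOfFiniteType (pullback.fst X.hom X.hom ≫ X.hom))
  have hXX2 : QuasiCompact (X ⊗ X).hom :=
    inferInstanceAs (QuasiCompact (pullback.fst X.hom X.hom ≫ X.hom))
  set Γ : G ⊗ X ⟶ X ⊗ X := lift (snd G X) a.act with hΓ
  constructor
  · intro hsurj x y
    let z : XK k K ⟶ X ⊗ X := lift x y
    have hw : Γ.left ≫ (X ⊗ X).hom = (G ⊗ X).hom := Over.w Γ
    have hlft : LocallyOfFiniteType Γ.left := by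
      have : LocallyOfFiniteType (Γ.left ≫ (X ⊗ X).hom) := hw ▸ hGX1
      exact locallyOfFiniteType_of_comp Γ.left (X ⊗ X).hom
    have hne : Nonempty ↥(pullback Γ.left z.left) := by
      have : Surjective (pullback.snd Γ.left z.left) := inferInstance
      obtain ⟨w, -⟩ := this.surj (IsLocalRing.closedPoint K)
      exact ⟨w⟩
    obtain ⟨s, hs⟩ := exists_section_of_nonempty K (pullback.snd Γ.left z.left)
    let w : XK k K ⟶ G ⊗ X := Over.homMk (s ≫ pullback.fst Γ.left z.left) (by
      show (s ≫ pullback.fst Γ.left z.left) ≫ (G ⊗ X).hom = (XK k K).hom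
      rw [← hw, Category.assoc, pullback.condition_assoc, reassoc_of% hs]
      exact Over.w z)
    have hwz : w ≫ Γ = z := by
      apply Over.OverMorphism.ext
      show (s ≫ pullback.fst Γ.left z.left) ≫ Γ.left = z.left
      rw [Category.assoc, pullback.condition, reassoc_of% hs]
    have h1 : w ≫ snd G X = x := by
      have := congrArg (fun t => t ≫ fst X X) hwz
      simpa [hΓ, z] using this
    have h2 : w ≫ a.act = y := by
      have := congrArg (fun t => t ≫ snd X X) hwz
      simpa [hΓ, z] using this
    refine ⟨w ≫ fst G X, ?_⟩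
    rw [← h1, ← h2]
    congr 1
    ext <;> simp
  · intro h
    apply surjective_of_points k K (G ⊗ X) (X ⊗ X) Γ
    intro p
    obtain ⟨g, hg⟩ := h (p ≫ fst X X) (p ≫ snd X X)
    refine ⟨lift g (p ≫ fst X X), ?_⟩
    rw [hΓ, comp_lift, lift_snd, hg]
    ext <;> simp

end Groth.Agent.S14645
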