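import Groth.Statements.S14652
import Mathlib

set_option autoImplicit false
universe u
open FiltBl

namespace Groth.Agent.S14652

open Polynomial

/-- `t ↦ 2^(-t)` on `WithTop ℤ`, with `⊤ ↦ 0`. -/
noncomputable def gfun : WithTop ℤ → ℝ
  | ⊤ => 0
  | (n : ℤ) => (2 : ℝ) ^ (-n)

theorem gfun_top : gfun ⊤ = 0 := rfl
theorem gfun_coe (n : ℤ) : gfun (n : WithTop ℤ) = (2 : ℝ) ^ (-n) := rfl

theorem gfun_nonneg (t : WithTop ℤ) : 0 ≤ gfun t := by
  induction t using WithTop.recTopCoe with
  | top => exact le_rfl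
  | coe n => rw [gfun_coe]; positivity

theorem gfun_add (a b : WithTop ℤ) : gfun (a + b) = gfun a * gfun b := by
  induction a using WithTop.recTopCoe with
  | top => simp [gfun_top]
  | coe m =>
    induction b using WithTop.recTopCoe with
    | top => simp [gfun_top]
    | coe n =>
      rw [← WithTop.coe_add, gfun_coe, gfun_coe, gfun_coe, neg_add, zpow_add₀ (by norm_num)]

theorem gfun_eq_zero (t : WithTop ℤ) : gfun t = 0 ↔ t = ⊤ := by
  induction t using WithTop.recTopCoe with
  | top => simp [gfun_top]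
  | coe n =>
    rw [gfun_coe]
    constructor
    · intro h
      have : (2 : ℝ) ^ (-n) ≠ 0 := by positivity
      exact absurd h this
    · intro h; exact absurd h WithTop.coe_ne_top

theorem gfun_le_iff (a b : WithTop ℤ) : gfun b ≤ gfun a ↔ a ≤ b := by
  induction a using WithTop.recTopCoe with
  | top =>
    rw [gfun_top, top_le_iff]
    constructor
    · intro h
      exact (gfun_eq_zero b).mp (le_antisymm h (gfun_nonneg b))
    · intro h; rw [h, gfun_top]
  | coe m =>
    induction b using WithTop.recTopCoe with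
    | top => simp [gfun_top, gfun_nonneg]
    | coe n =>
      rw [gfun_coe, gfun_coe, WithTop.coe_le_coe, zpow_le_zpow_iff_right₀ (by norm_num : (1:ℝ) < 2)]
      omega

theorem gfun_nsmul (q : ℕ) (t : WithTop ℤ) : gfun (q • t) = gfun t ^ q := by
  induction q with
  | zero =>
    rw [zero_nsmul, pow_zero]
    change gfun ((0 : ℤ) : WithTop ℤ) = 1
    rw [gfun_coe]; simp
  | succ q ih => rw [succ_nsmul, gfun_add, ih, pow_succ]

theorem gfun_natCast_mul (q : ℕ) (hq : 0 < q) (t : WithTop ℤ) :
    gfun ((q : WithTop ℤ) * t) = gfun t ^ q := by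
  induction t using WithTop.recTopCoe with
  | top =>
    rw [WithTop.mul_top (by exact_mod_cast hq.ne'), gfun_top, zero_pow hq.ne']
  | coe n =>
    have : ((q : WithTop ℤ) * (n : WithTop ℤ)) = (((q : ℤ) * n : ℤ) : WithTop ℤ) := by
      rw [WithTop.coe_mul]; rfl
    rw [this, gfun_coe, gfun_coe, ← zpow_natCast, ← zpow_mul]
    congr 1
    ring

section Abs
variable {A K : Type u} [CommRing A] [IsDomain A] [Field K] [Algebra A K] [IsFractionRing A K]

/-- The absolute value `x ↦ 2^(-q v(x))` on `A`. -/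
noncomputable def absv (v : AddValuation K (WithTop ℤ)) (q : ℕ) (hq : 0 < q) : AbsoluteValue A ℝ where
  toFun x := gfun (v (algebraMap A K x)) ^ q
  map_mul' x y := by rw [map_mul, AddValuation.map_mul, gfun_add, mul_pow]
  nonneg' x := pow_nonneg (gfun_nonneg _) _
  eq_zero' x := by
    rw [pow_eq_zero_iff hq.ne', gfun_eq_zero, AddValuation.top_iff,
      map_eq_zero_iff _ (IsFractionRing.injective A K)]
  add_le' x y := by
    have h : min (v (algebraMap A K x)) (v (algebraMap A K y)) ≤
        v (algebraMap A K (x + y)) := by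
      rw [map_add]; exact AddValuation.map_add v _ _
    rcases le_total (v (algebraMap A K x)) (v (algebraMap A K y)) with h1 | h1
    · rw [min_eq_left h1] at h
      calc gfun (v (algebraMap A K (x + y))) ^ q ≤ gfun (v (algebraMap A K x)) ^ q :=
            pow_le_pow_left₀ (gfun_nonneg _) ((gfun_le_iff _ _).mpr h) q
        _ ≤ _ := le_add_of_nonneg_right (pow_nonneg (gfun_nonneg _) _)
    · rw [min_eq_right h1] at h
      calc gfun (v (algebraMap A K (x + y))) ^ q ≤ gfun (v (algebraMap A K y)) ^ q :=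
            pow_le_pow_left₀ (gfun_nonneg _) ((gfun_le_iff _ _).mpr h) q
        _ ≤ _ := le_add_of_nonneg_left (pow_nonneg (gfun_nonneg _) _)

theorem absv_apply (v : AddValuation K (WithTop ℤ)) (q : ℕ) (hq : 0 < q) (x : A) :
    absv (A := A) v q hq x = gfun (v (algebraMap A K x)) ^ q := rfl

theorem absv_nonarch (v : AddValuation K (WithTop ℤ)) (q : ℕ) (hq : 0 < q) :
    IsNonarchimedean (absv (A := A) v q hq) := by
  intro x y
  rw [absv_apply, absv_apply, absv_apply]
  have h : min (v (algebraMap A K x)) (v (algebraMap A K y)) ≤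
      v (algebraMap A K (x + y)) := by
    rw [map_add]; exact AddValuation.map_add v _ _
  rcases le_total (v (algebraMap A K x)) (v (algebraMap A K y)) with h1 | h1
  · rw [min_eq_left h1] at h
    exact le_trans (pow_le_pow_left₀ (gfun_nonneg _) ((gfun_le_iff _ _).mpr h) q) (le_max_left _ _)
  · rw [min_eq_right h1] at h
    exact le_trans (pow_le_pow_left₀ (gfun_nonneg _) ((gfun_le_iff _ _).mpr h) q) (le_max_right _ _)

/-- membership in the `k`-th step in terms of the absolute value. -/
theorem absv_mul_pow_le_one_iff (v : AddValuation K (WithTop ℤ)) (q : ℕ) (hq : 0 < q) (p k : ℕ)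
    (x : A) :
    absv (A := A) v q hq x * ((2 : ℝ) ^ p) ^ k ≤ 1 ↔
      ((k * p : ℕ) : WithTop ℤ) ≤ (q : WithTop ℤ) * v (algebraMap A K x) := by
  rw [absv_apply, ← gfun_natCast_mul q hq]
  have h2 : ((2 : ℝ) ^ p) ^ k = (gfun (((k * p : ℕ) : ℤ) : WithTop ℤ))⁻¹ := by
    rw [gfun_coe, zpow_neg, inv_inv, ← pow_mul, mul_comm]
    norm_cast
  have hpos : 0 < gfun (((k * p : ℕ) : ℤ) : WithTop ℤ) := by rw [gfun_coe]; positivity
  rw [h2, ← div_eq_mul_inv, div_le_one hpos, gfun_le_iff]
  norm_cast

end Abs

/-- Let A be a Noetherian integrally closed domain with fraction field K, let v_1, …, v_s be finitely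
many valuations on K with values in ℤ ∪ {∞} (written additively) that are non-negative on A, and let
r_i = p_i / q_i be positive rationals (p_i, q_i positive integers). Let F be the filtration of
ideals of A given by F^k = {x ∈ A | q_i · v_i(x) ≥ k · p_i for every i}. Then the Rees algebra ⊕_{k
≥ 0} F^k X^k ⊆ A[X] is an integrally closed domain (it need not be Noetherian). -/
theorem result (A K : Type u) [CommRing A] [IsDomain A]
    [IsNoetherianRing A] [IsIntegrallyClosed A] [Field K] [Algebra A K] [IsFractionRing A K]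
    (ι : Type) [Finite ι] (v : ι → AddValuation K (WithTop ℤ))
    (hv : ∀ (i : ι) (x : A), 0 ≤ v i (algebraMap A K x)) (p q : ι → ℕ) (hp : ∀ i, 0 < p i)
    (hq : ∀ i, 0 < q i) (𝓕 : FiltBl.IdealFiltration A)
    (hF : ∀ (k : ℕ) (x : A), x ∈ 𝓕.F k ↔
      ∀ i, ((k * p i : ℕ) : WithTop ℤ) ≤ (q i : WithTop ℤ) * v i (algebraMap A K x)) :
    IsIntegrallyClosed 𝓕.rees := by
  have hmem : ∀ z : A[X], z ∈ 𝓕.rees ↔
      ∀ i, z.gaussNorm (absv (A := A) (v i) (q i) (hq i)) ((2 : ℝ) ^ (p i)) ≤ 1 := by
    intro z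
    constructor
    · intro hz i
      obtain ⟨k, hk⟩ := Polynomial.exists_eq_gaussNorm (absv (A := A) (v i) (q i) (hq i))
        ((2 : ℝ) ^ (p i)) z
      rw [hk, absv_mul_pow_le_one_iff]
      exact (hF k _).mp (hz k) i
    · intro h k
      rw [hF]
      intro i
      rw [← absv_mul_pow_le_one_iff (v i) (q i) (hq i)]
      exact le_trans (z.le_gaussNorm _ (by positivity) k) (h i)
  have hint : ∀ z : A[X], IsIntegral 𝓕.rees z → z ∈ 𝓕.rees := by
    rintro z ⟨P, hP, hPz⟩
    rw [hmem]
    intro i
    by_contra hlt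
    push Not at hlt
    have hc : (0 : ℝ) < (2 : ℝ) ^ (p i) := by positivity
    have hna0 := absv_nonarch (A := A) (v i) (q i) (hq i)
    have hna : IsNonarchimedean (Polynomial.gaussNorm (absv (A := A) (v i) (q i) (hq i))
        ((2 : ℝ) ^ (p i))) := Polynomial.isNonarchimedean_gaussNorm _ hna0 hc.le
    haveI habs := Polynomial.gaussNorm_isAbsoluteValue hna0 hc
    obtain ⟨N, hN⟩ : ∃ N : A[X] → ℝ, N = Polynomial.gaussNorm (absv (A := A) (v i) (q i) (hq i))
        ((2 : ℝ) ^ (p i)) := ⟨_, rfl⟩
    rw [← hN] at hna habs hlt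
    have hcoef : ∀ j, N ((P.coeff j : 𝓕.rees) : A[X]) ≤ 1 := by
      intro j
      rw [hN]
      exact (hmem _).mp (P.coeff j).2 i
    rw [Polynomial.eval₂_eq_sum_range, Finset.sum_range_succ, hP.coeff_natDegree, map_one,
      one_mul] at hPz
    have hzm : z ^ P.natDegree = - ∑ j ∈ Finset.range P.natDegree,
        algebraMap 𝓕.rees A[X] (P.coeff j) * z ^ j := by
      rw [eq_neg_iff_add_eq_zero, add_comm]; exact hPz
    rcases Nat.eq_zero_or_pos P.natDegree with hm | hm
    · rw [hm, Finset.range_zero, Finset.sum_empty, neg_zero, pow_zero] at hzm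
      exact one_ne_zero hzm
    · obtain ⟨j, hj, hle⟩ := IsNonarchimedean.finset_image_add_of_nonempty hna
        (fun j => algebraMap 𝓕.rees A[X] (P.coeff j) * z ^ j)
        (Finset.nonempty_range_iff.mpr hm.ne')
      have h1 : N (z ^ P.natDegree) = N z ^ P.natDegree := IsAbsoluteValue.abv_pow N z _
      have h2 : N (z ^ P.natDegree) ≤ N z ^ j := by
        rw [hzm, IsAbsoluteValue.abv_neg N]
        refine le_trans hle ?_
        rw [IsAbsoluteValue.abv_mul N, IsAbsoluteValue.abv_pow N]
        calc N (algebraMap 𝓕.rees A[X] (P.coeff j)) * N z ^ j ≤ 1 * N z ^ j := by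
              gcongr
              exact hcoef j
          _ = N z ^ j := one_mul _
      rw [h1] at h2
      have hjlt : j < P.natDegree := Finset.mem_range.mp hj
      have h3 : N z ^ j < N z ^ P.natDegree := pow_lt_pow_right₀ hlt hjlt
      exact absurd h2 (not_le.mpr h3)
  -- conclude
  rw [isIntegrallyClosed_iff (FractionRing 𝓕.rees)]
  intro x hx
  let g : 𝓕.rees →+* FractionRing A[X] :=
    (algebraMap A[X] (FractionRing A[X])).comp (algebraMap 𝓕.rees A[X])
  have hg : Function.Injective g :=
    (IsFractionRing.injective A[X] _).comp Subtype.val_injective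
  let j : FractionRing 𝓕.rees →+* FractionRing A[X] := IsFractionRing.lift hg
  have hj : ∀ y, j (algebraMap _ _ y) = g y := fun y => IsFractionRing.lift_algebraMap hg y
  have hjx : IsIntegral A[X] (j x) := by
    refine hx.map_of_comp_eq (algebraMap 𝓕.rees A[X]) j ?_
    ext y
    · simp only [RingHom.comp_apply]
      rw [hj]
      rfl
  obtain ⟨z, hz⟩ := IsIntegrallyClosed.isIntegral_iff.mp hjx
  have hzint : IsIntegral 𝓕.rees z := by
    obtain ⟨P, hP, hPx⟩ := hx
    refine ⟨P, hP, ?_⟩
    apply IsFractionRing.injective A[X] (FractionRing A[X])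
    rw [map_zero, Polynomial.hom_eval₂, hz]
    have h1 := congrArg j hPx
    rw [map_zero, Polynomial.hom_eval₂] at h1
    have h2 : j.comp (algebraMap 𝓕.rees (FractionRing 𝓕.rees)) =
        (algebraMap A[X] (FractionRing A[X])).comp (algebraMap 𝓕.rees A[X]) := by
      ext y
      · simp only [RingHom.comp_apply]
        rw [hj]
        rfl
    rw [h2] at h1
    exact h1
  refine ⟨⟨z, hint z hzint⟩, ?_⟩
  apply j.injective
  rw [hj, ← hz]
  rfl

end Groth.Agent.S14652
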