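import Groth.Statements.S14654
import Mathlib

set_option autoImplicit false
universe u
open FiltBl

namespace Groth.Agent.S14654

open DirectSum

section
variable {A : Type u} [CommRing A] (𝒜 : ℕ → AddSubgroup A) [GradedRing 𝒜]
  (p : Ideal A) [hpp : p.IsPrime] (hp : p.IsHomogeneous 𝒜)

omit hpp in
theorem exists_component_notMem (w : A) (hw : w ∉ p) : ∃ i, (decompose 𝒜 w i : A) ∉ p := by
  classical
  by_contra hcon
  push_neg at hcon
  apply hw
  rw [← DirectSum.sum_support_decompose 𝒜 w]
  exact Ideal.sum_mem _ fun i _ => hcon i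

include hp in
theorem exists_val_eq [IsDomain (Localization.AtPrime p)] (z : Localization.AtPrime p)
    (a b : HomogeneousLocalization.AtPrime 𝒜 p) (hb : b.val ≠ 0) (h : z * b.val = a.val) :
    ∃ w : HomogeneousLocalization.AtPrime 𝒜 p, w.val = z := by
  classical
  obtain ⟨⟨d1, a', s, hs⟩, rfl⟩ := HomogeneousLocalization.mk_surjective a
  obtain ⟨⟨d2, b', s', hs'⟩, rfl⟩ := HomogeneousLocalization.mk_surjective b
  obtain ⟨c, t, rfl⟩ := IsLocalization.exists_mk'_eq p.primeCompl z
  rw [HomogeneousLocalization.val_mk, HomogeneousLocalization.val_mk] at h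
  rw [HomogeneousLocalization.val_mk] at hb
  simp only at h hb
  rw [Localization.mk_eq_mk'] at h
  change IsLocalization.mk' (Localization.AtPrime p) c t *
      IsLocalization.mk' (Localization.AtPrime p) (b' : A) (⟨s', hs'⟩ : p.primeCompl) =
    IsLocalization.mk' (Localization.AtPrime p) (a' : A) (⟨s, hs⟩ : p.primeCompl) at h
  rw [← IsLocalization.mk'_mul, IsLocalization.eq] at h
  obtain ⟨u, hu⟩ := h
  -- hu : u * (s * (c * b')) = u * ((t * s') * a')
  obtain ⟨i, hi⟩ := exists_component_notMem 𝒜 p ((u : A) * (t : A))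
    (fun hmem => (hpp.mem_or_mem hmem).elim u.2 t.2)
  have hβ : (b' : A) * (s : A) ∈ 𝒜 (d2 + d1) := SetLike.mul_mem_graded b'.2 s.2
  have hα : (a' : A) * (s' : A) ∈ 𝒜 (d2 + d1) := by
    rw [add_comm]; exact SetLike.mul_mem_graded a'.2 s'.2
  have hkey : ((u : A) * c) * ((b' : A) * (s : A)) = ((u : A) * (t : A)) * ((a' : A) * (s' : A)) := by
    simp only [Submonoid.coe_mul] at hu
    linear_combination hu
  have hcomp : (decompose 𝒜 ((u : A) * c) i : A) * ((b' : A) * (s : A)) =
      (decompose 𝒜 ((u : A) * (t : A)) i : A) * ((a' : A) * (s' : A)) := by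
    have h1 := DirectSum.coe_decompose_mul_of_right_mem_of_le 𝒜 (a := (u : A) * c) hβ
      (Nat.le_add_left (d2 + d1) i)
    have h2 := DirectSum.coe_decompose_mul_of_right_mem_of_le 𝒜 (a := (u : A) * (t : A)) hα
      (Nat.le_add_left (d2 + d1) i)
    rw [Nat.add_sub_cancel] at h1 h2
    rw [← h1, ← h2, hkey]
  refine ⟨HomogeneousLocalization.mk ⟨i, decompose 𝒜 ((u : A) * c) i,
    decompose 𝒜 ((u : A) * (t : A)) i, hi⟩, ?_⟩
  rw [HomogeneousLocalization.val_mk, Localization.mk_eq_mk']
  simp only
  rw [Localization.mk_eq_mk'] at hb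
  have hb' : IsLocalization.mk' (Localization.AtPrime p) (b' : A) (⟨s', hs'⟩ : p.primeCompl) ≠ 0 := hb
  apply mul_right_cancel₀ hb'
  have h1 : IsLocalization.mk' (Localization.AtPrime p) c t *
      IsLocalization.mk' (Localization.AtPrime p) (b' : A) (⟨s', hs'⟩ : p.primeCompl) =
      IsLocalization.mk' (Localization.AtPrime p) (a' : A) (⟨s, hs⟩ : p.primeCompl) := by
    rw [← IsLocalization.mk'_mul, IsLocalization.eq]
    exact ⟨u, hu⟩
  rw [h1]
  change IsLocalization.mk' (Localization.AtPrime p) (decompose 𝒜 ((u : A) * c) i : A)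
      (⟨(decompose 𝒜 ((u : A) * (t : A)) i : A), hi⟩ : p.primeCompl) * _ = _
  rw [← IsLocalization.mk'_mul, IsLocalization.eq]
  refine ⟨1, ?_⟩
  simp only [Submonoid.coe_mul, Submonoid.coe_one, one_mul]
  linear_combination hcomp

include hp in
theorem homLoc_normal (hdom : IsDomain (Localization.AtPrime p))
    (hic : IsIntegrallyClosed (Localization.AtPrime p)) :
    IsDomain (HomogeneousLocalization.AtPrime 𝒜 p) ∧
      IsIntegrallyClosed (HomogeneousLocalization.AtPrime 𝒜 p) := by
  have hinj : Function.Injective (algebraMap (HomogeneousLocalization.AtPrime 𝒜 p)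
      (Localization.AtPrime p)) := HomogeneousLocalization.val_injective _
  have hD : IsDomain (HomogeneousLocalization.AtPrime 𝒜 p) :=
    Function.Injective.isDomain _ hinj
  refine ⟨hD, ?_⟩
  rw [isIntegrallyClosed_iff (FractionRing (HomogeneousLocalization.AtPrime 𝒜 p))]
  intro x hx
  let g : HomogeneousLocalization.AtPrime 𝒜 p →+* FractionRing (Localization.AtPrime p) :=
    (algebraMap (Localization.AtPrime p) (FractionRing (Localization.AtPrime p))).comp
      (algebraMap (HomogeneousLocalization.AtPrime 𝒜 p) (Localization.AtPrime p))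
  have hg : Function.Injective g :=
    (IsFractionRing.injective (Localization.AtPrime p) _).comp hinj
  let j : FractionRing (HomogeneousLocalization.AtPrime 𝒜 p) →+*
      FractionRing (Localization.AtPrime p) := IsFractionRing.lift hg
  have hj : ∀ y, j (algebraMap _ _ y) = g y := fun y => IsFractionRing.lift_algebraMap hg y
  have hjx : IsIntegral (Localization.AtPrime p) (j x) := by
    refine hx.map_of_comp_eq (algebraMap (HomogeneousLocalization.AtPrime 𝒜 p)
      (Localization.AtPrime p)) j ?_
    ext y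
    simp only [RingHom.comp_apply]
    rw [hj]
    rfl
  obtain ⟨z, hz⟩ := IsIntegrallyClosed.isIntegral_iff.mp hjx
  obtain ⟨a, b, hb, hab⟩ := IsFractionRing.div_surjective (A := HomogeneousLocalization.AtPrime 𝒜 p) x
  have hb0 : b ≠ 0 := nonZeroDivisors.ne_zero hb
  have hbval : b.val ≠ 0 := fun h => hb0 (hinj (by rw [map_zero]; exact h))
  have hzb : z * b.val = a.val := by
    apply IsFractionRing.injective (Localization.AtPrime p) (FractionRing (Localization.AtPrime p))
    rw [map_mul, hz, ← hab, map_div₀, hj, hj]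
    have : g b ≠ 0 := fun h => hb0 (hg (by rw [map_zero]; exact h))
    change g a / g b * g b = g a
    rw [div_mul_cancel₀ _ this]
  obtain ⟨w, hw⟩ := exists_val_eq 𝒜 p hp z a b hbval hzb
  refine ⟨w, ?_⟩
  apply j.injective
  rw [hj, ← hz, ← hw]
  rfl

end

open AlgebraicGeometry in
/-- Let A be a Noetherian ℕ-graded commutative ring which is normal, i.e. every localization of A at a
prime ideal is an integrally closed domain. Then the scheme Proj A is normal: every local ring of
Proj A is an integrally closed domain. -/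
theorem result (A : Type u) [CommRing A] [IsNoetherianRing A]
    (𝒜 : ℕ → AddSubgroup A) [GradedRing 𝒜]
    (hA : ∀ (p : Ideal A) [p.IsPrime], IsDomain (Localization.AtPrime p) ∧
      IsIntegrallyClosed (Localization.AtPrime p))
    (x : Proj 𝒜) :
    IsDomain ((Proj 𝒜).presheaf.stalk x) ∧ IsIntegrallyClosed ((Proj 𝒜).presheaf.stalk x) := by
  let y : ProjectiveSpectrum 𝒜 := x
  haveI hy : y.asHomogeneousIdeal.toIdeal.IsPrime := y.isPrime
  let e : (Proj 𝒜).presheaf.stalk x ≃+*
      HomogeneousLocalization.AtPrime 𝒜 y.asHomogeneousIdeal.toIdeal := Proj.stalkIso' 𝒜 y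
  obtain ⟨h1, h2⟩ := homLoc_normal 𝒜 y.asHomogeneousIdeal.toIdeal
    y.asHomogeneousIdeal.isHomogeneous (hA _).1 (hA _).2
  exact ⟨e.toMulEquiv.isDomain _, IsIntegrallyClosed.of_equiv e.symm⟩

end Groth.Agent.S14654
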