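import Groth.Statements.S14656
import Mathlib
import Groth.Agent.Lib.Helper49.Serre

set_option autoImplicit false
universe u
open FiltBl

namespace Groth.Agent.S14656

open DirectSum AlgebraicGeometry

section Noeth
variable {A : Type u} [CommRing A] (𝒜 : ℕ → AddSubgroup A) [GradedRing 𝒜]

/-- A Noetherian `ℕ`-graded ring is of finite type over its degree-zero part. -/
theorem finiteType_of_noetherian [IsNoetherianRing A] :
    Algebra.FiniteType (𝒜 0) A := by
  classical
  have hfg : ((HomogeneousIdeal.irrelevant 𝒜).toIdeal).FG := IsNoetherian.noetherian _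
  rw [HomogeneousIdeal.irrelevant_eq_span] at hfg
  obtain ⟨T, hTsub, hTspan⟩ := (Submodule.fg_span_iff_fg_span_finset_subset _).mp hfg
  have hTdeg : ∀ t ∈ T, ∃ d, 0 < d ∧ t ∈ 𝒜 d := by
    intro t ht
    have := hTsub ht
    simp only [Set.mem_iUnion, exists_prop] at this
    obtain ⟨d, hd, htd⟩ := this
    exact ⟨d, hd, htd⟩
  refine ⟨⟨T, ?_⟩⟩
  set S := Algebra.adjoin (𝒜 0) (T : Set A) with hS
  have key : ∀ n : ℕ, ∀ a ∈ 𝒜 n, a ∈ S := by
    intro n
    induction n using Nat.strong_induction_on with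
    | _ n ih =>
      intro a ha
      rcases Nat.eq_zero_or_pos n with rfl | hn
      · exact Subalgebra.algebraMap_mem S (⟨a, ha⟩ : 𝒜 0)
      · have hmem : a ∈ (HomogeneousIdeal.irrelevant 𝒜).toIdeal :=
          HomogeneousIdeal.mem_irrelevant_of_mem 𝒜 hn ha
        rw [HomogeneousIdeal.irrelevant_eq_span] at hmem
        replace hmem : a ∈ Submodule.span A (T : Set A) := hTspan ▸ hmem
        obtain ⟨f, -, hf⟩ := Submodule.mem_span_finset.mp hmem
        have h1 : a = GradedRing.proj 𝒜 n a := by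
          rw [GradedRing.proj_apply, DirectSum.decompose_of_mem_same 𝒜 ha]
        rw [h1, ← hf, map_sum]
        refine Subalgebra.sum_mem _ ?_
        intro t ht
        obtain ⟨d, hd, htd⟩ := hTdeg t ht
        rw [GradedRing.proj_apply, smul_eq_mul, DirectSum.coe_decompose_mul_of_right_mem 𝒜 n htd]
        split_ifs with hle
        · refine Subalgebra.mul_mem _ ?_ (Algebra.subset_adjoin ht)
          exact ih (n - d) (by omega) _ (SetLike.coe_mem _)
        · exact Subalgebra.zero_mem _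
  rw [eq_top_iff]
  rintro a -
  rw [← DirectSum.sum_support_decompose 𝒜 a]
  exact Subalgebra.sum_mem _ (fun i _ => key i _ (SetLike.coe_mem _))

theorem isNoetherianRing_stalk [IsNoetherianRing A] (x : Proj 𝒜) :
    IsNoetherianRing ((Proj 𝒜).presheaf.stalk x) := by
  haveI : Algebra.FiniteType (𝒜 0) A := finiteType_of_noetherian 𝒜
  haveI : IsNoetherianRing (𝒜 0) := GradedRing.GradeZero.isNoetherianRing 𝒜
  haveI : IsLocallyNoetherian (Proj 𝒜) :=
    LocallyOfFiniteType.isLocallyNoetherian (Proj.toSpecZero 𝒜)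
  infer_instance

end Noeth

section Key

theorem exists_component_notMem {A : Type u} [CommRing A] (𝒜 : ℕ → AddSubgroup A) [GradedRing 𝒜]
    (p : Ideal A) (w : A) (hw : w ∉ p) : ∃ i, (decompose 𝒜 w i : A) ∉ p := by
  classical
  by_contra hcon
  push Not at hcon
  apply hw
  rw [← DirectSum.sum_support_decompose 𝒜 w]
  exact Ideal.sum_mem _ fun i _ => hcon i

theorem exists_mul_pow_eq_zero {A : Type u} [CommRing A] (P : Ideal A) [hP : P.IsPrime]
    (hmin : P ∈ minimalPrimes A) (b : A) (hb : b ∈ P) : ∃ c ∉ P, ∃ k : ℕ, c * b ^ k = 0 := by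
  have h := IsLocalization.AtPrime.radical_map_of_mem_minimalPrimes (A := Localization.AtPrime P)
    P ⊥ hmin
  have hb' : algebraMap A (Localization.AtPrime P) b ∈ P.map (algebraMap A (Localization.AtPrime P)) :=
    Ideal.mem_map_of_mem _ hb
  rw [← h, Ideal.map_bot] at hb'
  obtain ⟨k, hk⟩ := hb'
  rw [Ideal.mem_bot, ← map_pow, IsLocalization.map_eq_zero_iff P.primeCompl] at hk
  obtain ⟨c, hc⟩ := hk
  exact ⟨c, c.2, k, hc⟩

variable {A : Type u} [CommRing A] [IsNoetherianRing A] (𝒜 : ℕ → AddSubgroup A) [GradedRing 𝒜]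
  (p : Ideal A) [hpp : p.IsPrime]
  (S : Type u) [CommRing S] [IsNoetherianRing S] (ι : S →+* Localization.AtPrime p)

theorem key (hι : Function.Injective ι)
    (hr1 : ∀ r : S, ∃ (n : ℕ) (b s : A) (hs : s ∈ p.primeCompl), b ∈ 𝒜 n ∧ s ∈ 𝒜 n ∧
      ι r = IsLocalization.mk' (Localization.AtPrime p) b ⟨s, hs⟩)
    (hr2 : ∀ (n : ℕ) (b s : A) (hs : s ∈ p.primeCompl), b ∈ 𝒜 n → s ∈ 𝒜 n →
      ∃ r : S, ι r = IsLocalization.mk' (Localization.AtPrime p) b ⟨s, hs⟩)
    (f : A) (d : ℕ) (hd : 0 < d) (hf : f ∈ 𝒜 d) (hfp : f ∉ p)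
    (hA : ∀ P ∈ associatedPrimes A A, P ∈ minimalPrimes A) :
    ∀ q ∈ associatedPrimes S S, q ∈ minimalPrimes S := by
  intro q hq
  rw [AssociatedPrimes.mem_iff, isAssociatedPrime_iff] at hq
  obtain ⟨hqprime, x, rfl⟩ := hq
  have hx0 : x ≠ 0 := by
    rintro rfl
    apply hqprime.ne_top
    rw [Ideal.eq_top_iff_one, Submodule.mem_colon_singleton]
    simp
  obtain ⟨e, a, s, hs, hae, hse, hιx⟩ := hr1 x
  have ha : ∀ t : A, t ∉ p → t * a ≠ 0 := by
    intro t ht h0
    apply hx0
    apply hι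
    rw [map_zero, hιx, IsLocalization.mk'_eq_zero_iff]
    exact ⟨⟨t, ht⟩, h0⟩
  -- the associated prime `P` of `A`
  have hne : algebraMap A (Localization.AtPrime p) a ≠ 0 := by
    intro h0
    rw [IsLocalization.map_eq_zero_iff p.primeCompl] at h0
    obtain ⟨t, ht⟩ := h0
    exact ha t t.2 ht
  obtain ⟨Q, hQass, hQle⟩ := exists_le_isAssociatedPrime_of_isNoetherianRing
    (Localization.AtPrime p) (algebraMap A (Localization.AtPrime p) a) hne
  have hQprime : Q.IsPrime := hQass.isPrime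
  obtain ⟨P, hPdef⟩ : ∃ P : Ideal A, P = Q.comap (algebraMap A (Localization.AtPrime p)) :=
    ⟨_, rfl⟩
  have hPprime : P.IsPrime := by rw [hPdef]; exact Ideal.IsPrime.comap _
  have hPass : P ∈ associatedPrimes A A := by
    have h := Module.associatedPrimes.preimage_comap_associatedPrimes_eq_associatedPrimes_of_isLocalizedModule
      p.primeCompl (R' := Localization.AtPrime p) (Algebra.linearMap A (Localization.AtPrime p))
    have : Q ∈ associatedPrimes (Localization.AtPrime p) (Localization.AtPrime p) := hQass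
    rw [← h] at this
    rw [hPdef]
    exact this
  have hPmin : P ∈ minimalPrimes A := hA P hPass
  have hPp : P ≤ p := by
    intro z hz
    by_contra hzp
    rw [hPdef, Ideal.mem_comap] at hz
    have hu : IsUnit (algebraMap A (Localization.AtPrime p) z) :=
      IsLocalization.map_units (Localization.AtPrime p) (⟨z, hzp⟩ : p.primeCompl)
    exact hQprime.ne_top (Q.eq_top_of_isUnit_mem hz hu)
  have hannP : ∀ z : A, z * a = 0 → z ∈ P := by
    intro z hz
    rw [hPdef, Ideal.mem_comap]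
    apply hQle
    rw [Submodule.mem_colon_singleton, Submodule.mem_bot, smul_eq_mul, ← map_mul, hz, map_zero]
  -- minimality of `q`
  refine ⟨⟨hqprime, bot_le⟩, fun q' hq' hle => ?_⟩
  have hq'prime : q'.IsPrime := hq'.1
  intro r hr
  rw [Submodule.mem_colon_singleton, Submodule.mem_bot, smul_eq_mul] at hr
  obtain ⟨n, b, s', hs', hbn, hs'n, hιr⟩ := hr1 r
  have h0 : ι r * ι x = 0 := by rw [← map_mul, hr, map_zero]
  rw [hιr, hιx, ← IsLocalization.mk'_mul, IsLocalization.mk'_eq_zero_iff] at h0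
  obtain ⟨t, ht⟩ := h0
  have hbP : b ∈ P := by
    have h1 : (t : A) * b ∈ P := hannP _ (by linear_combination ht)
    exact (hPprime.mem_or_mem h1).resolve_left (fun h => t.2 (hPp h))
  obtain ⟨c, hcP, k, hck⟩ := exists_mul_pow_eq_zero P hPmin b hbP
  obtain ⟨i, hi⟩ := exists_component_notMem 𝒜 P c hcP
  have hcik : (decompose 𝒜 c i : A) * b ^ k = 0 := by
    have hbk : b ^ k ∈ 𝒜 (k • n) := SetLike.pow_mem_graded k hbn
    have h1 := DirectSum.coe_decompose_mul_of_right_mem_of_le 𝒜 (a := c) hbk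
      (Nat.le_add_left (k • n) i)
    rw [Nat.add_sub_cancel, hck] at h1
    rw [← h1]
    simp
  obtain ⟨ci, hcidef⟩ : ∃ ci : A, ci = (decompose 𝒜 c i : A) := ⟨_, rfl⟩
  rw [← hcidef] at hi hcik
  have hcimem : ci ∈ 𝒜 i := by rw [hcidef]; exact SetLike.coe_mem _
  have hcid : ci ^ d ∈ 𝒜 (d • i) := SetLike.pow_mem_graded d hcimem
  have hfi : f ^ i ∈ 𝒜 (d • i) := by
    have := SetLike.pow_mem_graded i hf
    rwa [smul_eq_mul, mul_comm] at this
  have hfip : f ^ i ∈ p.primeCompl := fun h => hfp (hpp.mem_of_pow_mem _ h)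
  obtain ⟨γ, hγ⟩ := hr2 (d • i) (ci ^ d) (f ^ i) hfip hcid hfi
  have h1 : γ * r ^ k = 0 := by
    apply hι
    rw [map_mul, map_pow, map_zero, hγ, hιr, ← IsLocalization.mk'_pow, ← IsLocalization.mk'_mul,
      IsLocalization.mk'_eq_zero_iff]
    refine ⟨1, ?_⟩
    obtain ⟨d', rfl⟩ : ∃ d', d = d' + 1 := ⟨d - 1, by omega⟩
    rw [pow_succ, mul_assoc, hcik]
    simp
  have hγq : γ ∉ Submodule.colon (⊥ : Submodule S S) {x} := by
    intro h
    rw [Submodule.mem_colon_singleton, Submodule.mem_bot, smul_eq_mul] at h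
    have h0 : ι γ * ι x = 0 := by rw [← map_mul, h, map_zero]
    rw [hγ, hιx, ← IsLocalization.mk'_mul, IsLocalization.mk'_eq_zero_iff] at h0
    obtain ⟨t', ht'⟩ := h0
    have h2 : (t' : A) * ci ^ d ∈ P := hannP _ (by linear_combination ht')
    rcases hPprime.mem_or_mem h2 with h | h
    · exact t'.2 (hPp h)
    · exact hi (hPprime.mem_of_pow_mem _ h)
  have h2 : γ * r ^ k ∈ q' := by rw [h1]; exact zero_mem _
  rcases hq'prime.mem_or_mem h2 with h | h
  · exact absurd (hle h) hγq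
  · exact hq'prime.mem_of_pow_mem _ h

end Key

open AlgebraicGeometry in
/-- Let A be a Noetherian ℕ-graded commutative ring satisfying Serre's condition (S_1) (every
localization A_p has depth at least min(1, dim A_p)). Then every local ring of the scheme Proj A
satisfies (S_1). -/
theorem result (A : Type u) [CommRing A] [IsNoetherianRing A]
    (𝒜 : ℕ → AddSubgroup A) [GradedRing 𝒜] (hA : LocCoh.HasSk 1 A A) (x : Proj 𝒜) :
    LocCoh.HasSk 1 ((Proj 𝒜).presheaf.stalk x) ((Proj 𝒜).presheaf.stalk x) := by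
  let y : ProjectiveSpectrum 𝒜 := x
  haveI hy : y.asHomogeneousIdeal.toIdeal.IsPrime := y.isPrime
  let e : (Proj 𝒜).presheaf.stalk x ≃+*
      HomogeneousLocalization.AtPrime 𝒜 y.asHomogeneousIdeal.toIdeal := Proj.stalkIso' 𝒜 y
  haveI : IsNoetherianRing ((Proj 𝒜).presheaf.stalk x) := isNoetherianRing_stalk 𝒜 x
  rw [← Groth.Agent.Lib.Helper49.Serre.hasSk_one_iff,
    Groth.Agent.Lib.Helper49.Serre.annihilator_self]
  have hA' : ∀ P ∈ associatedPrimes A A, P ∈ minimalPrimes A := by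
    have h := (Groth.Agent.Lib.Helper49.Serre.hasSk_one_iff (R := A) (M := A)).mpr hA
    rwa [Groth.Agent.Lib.Helper49.Serre.annihilator_self] at h
  -- a homogeneous element of positive degree outside `p`
  obtain ⟨f, d, hd, hf, hfp⟩ : ∃ (f : A) (d : ℕ), 0 < d ∧ f ∈ 𝒜 d ∧
      f ∉ y.asHomogeneousIdeal.toIdeal := by
    by_contra hcon
    push Not at hcon
    apply y.not_irrelevant_le
    change (HomogeneousIdeal.irrelevant 𝒜).toIdeal ≤ y.asHomogeneousIdeal.toIdeal
    rw [HomogeneousIdeal.irrelevant_eq_span, Ideal.span_le]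
    intro z hz
    simp only [Set.mem_iUnion, exists_prop] at hz
    obtain ⟨i, hi, hzi⟩ := hz
    exact hcon z i hi hzi
  let ι : (Proj 𝒜).presheaf.stalk x →+* Localization.AtPrime y.asHomogeneousIdeal.toIdeal :=
    (algebraMap (HomogeneousLocalization.AtPrime 𝒜 y.asHomogeneousIdeal.toIdeal)
      (Localization.AtPrime y.asHomogeneousIdeal.toIdeal)).comp e.toRingHom
  have hι : Function.Injective ι :=
    (HomogeneousLocalization.val_injective _).comp e.injective
  refine key 𝒜 y.asHomogeneousIdeal.toIdeal _ ι hι ?_ ?_ f d hd hf hfp hA'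
  · intro r
    obtain ⟨⟨n, b, s, hs⟩, hr⟩ := HomogeneousLocalization.mk_surjective (e r)
    refine ⟨n, b, s, hs, b.2, s.2, ?_⟩
    change (e r).val = _
    rw [← hr, HomogeneousLocalization.val_mk, Localization.mk_eq_mk']
  · intro n b s hs hb hsn
    refine ⟨e.symm (HomogeneousLocalization.mk ⟨n, ⟨b, hb⟩, ⟨s, hsn⟩, hs⟩), ?_⟩
    change (e (e.symm _)).val = _
    rw [e.apply_symm_apply, HomogeneousLocalization.val_mk, Localization.mk_eq_mk']

end Groth.Agent.S14656
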