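import Groth.Statements.S14655
import Mathlib
import Groth.Agent.S14656
import Groth.Agent.Lib.Helper83.ProjCM

set_option autoImplicit false
universe u
open FiltBl

namespace Groth.Agent.S14655

open AlgebraicGeometry in
/-- Let A be a Noetherian ℕ-graded commutative ring which is a Cohen–Macaulay ring. Then the scheme Proj
A is Cohen–Macaulay: every local ring of Proj A is a Cohen–Macaulay local ring. -/
theorem result (A : Type u) [CommRing A]
    (𝒜 : ℕ → AddSubgroup A) [GradedRing 𝒜] [LocCoh.IsCohenMacaulayRing A] (x : Proj 𝒜) :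
    LocCoh.IsCohenMacaulayLocalRing ((Proj 𝒜).presheaf.stalk x) := by
  classical
  haveI hN : IsNoetherianRing A := inferInstance
  let y : ProjectiveSpectrum 𝒜 := x
  haveI hy : y.asHomogeneousIdeal.toIdeal.IsPrime := y.isPrime
  let e : (Proj 𝒜).presheaf.stalk x ≃+*
      HomogeneousLocalization.AtPrime 𝒜 y.asHomogeneousIdeal.toIdeal := Proj.stalkIso' 𝒜 y
  haveI : IsNoetherianRing ((Proj 𝒜).presheaf.stalk x) :=
    Groth.Agent.S14656.isNoetherianRing_stalk 𝒜 x
  obtain ⟨f, d, hd, hf, hfp⟩ : ∃ (f : A) (d : ℕ), 0 < d ∧ f ∈ 𝒜 d ∧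
      f ∉ y.asHomogeneousIdeal.toIdeal := by
    by_contra hcon
    push Not at hcon
    apply y.not_irrelevant_le
    change (HomogeneousIdeal.irrelevant 𝒜).toIdeal ≤ y.asHomogeneousIdeal.toIdeal
    rw [HomogeneousIdeal.irrelevant_eq_span, Ideal.span_le]
    intro z hz
    simp only [Set.mem_iUnion, exists_prop] at hz
    obtain ⟨i, hi, hzi⟩ := hz
    exact hcon z i hi hzi
  let ι : (Proj 𝒜).presheaf.stalk x →+* Localization.AtPrime y.asHomogeneousIdeal.toIdeal :=
    (algebraMap (HomogeneousLocalization.AtPrime 𝒜 y.asHomogeneousIdeal.toIdeal)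
      (Localization.AtPrime y.asHomogeneousIdeal.toIdeal)).comp e.toRingHom
  have hι : Function.Injective ι :=
    (HomogeneousLocalization.val_injective _).comp e.injective
  have H : Groth.Agent.Lib.Helper83.ProjCM.DegZero 𝒜 y.asHomogeneousIdeal.toIdeal ι := by
    refine ⟨hι, ?_, ?_⟩
    · intro r
      obtain ⟨⟨n, b, s, hs⟩, hr⟩ := HomogeneousLocalization.mk_surjective (e r)
      refine ⟨n, b, s, hs, b.2, s.2, ?_⟩
      change (e r).val = _
      rw [← hr, HomogeneousLocalization.val_mk, Localization.mk_eq_mk']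
    · intro n b s hs hb hsn
      refine ⟨e.symm (HomogeneousLocalization.mk ⟨n, ⟨b, hb⟩, ⟨s, hsn⟩, hs⟩), ?_⟩
      change (e (e.symm _)).val = _
      rw [e.apply_symm_apply, HomogeneousLocalization.val_mk, Localization.mk_eq_mk']
  exact Groth.Agent.Lib.Helper83.ProjCM.isCM_degZero H y.asHomogeneousIdeal.isHomogeneous hd hf hfp
    (Groth.Agent.Lib.Helper83.ProjCM.hdim_stalk 𝒜 x)
    (LocCoh.IsCohenMacaulayRing.isCohenMacaulayLocalRing_localization y.asHomogeneousIdeal.toIdeal)

end Groth.Agent.S14655
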