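import Groth.Statements.S14666
-- import your own Groth.Agent.* helpers here
import Groth.Agent.Lib.Helper40.Collapse

set_option autoImplicit false
universe u
open CategoryTheory CategoryTheory.Limits AlgebraicGeometry
open AbSch

namespace Groth.Agent.S14666

/-- Let S be a locally Noetherian scheme, ξ : X ⟶ S a proper morphism all of whose geometric fibres are
integral and for which O_S ⟶ ξ_*O_X is an isomorphism (the map Γ(U, O_S) → Γ(ξ⁻¹U, O_X) is bijective
for every open U of S), v : Y ⟶ S an arbitrary S-scheme and f : X ⟶ Y a morphism over S. Let U be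
the set of points s of S such that f sends every point of the fibre ξ⁻¹(s) to one and the same point
of Y. Then U is open in S, and for every morphism τ : T ⟶ S the base change of f to T factors
through the projection X ×_S T ⟶ T — that is, there is r : T ⟶ Y with r ≫ v = τ and fst ≫ f = snd ≫
r on X ×_S T — if and only if τ maps every point of T into U. -/
theorem result {X Y S : Scheme.{u}} [IsLocallyNoetherian S]
    (ξ : X ⟶ S) [IsProper ξ] [GeometricallyIntegral ξ]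
    (h0 : ∀ U : S.Opens, Function.Bijective (ξ.app U).hom)
    (v : Y ⟶ S) (f : X ⟶ Y) (hf : f ≫ v = ξ) :
    IsOpen {s : ↥S | ∃ y : ↥Y, ∀ x : ↥X, ξ.base x = s → f.base x = y} ∧
    ∀ (T : Scheme.{u}) (τ : T ⟶ S),
      ((∃ r : T ⟶ Y, r ≫ v = τ ∧ pullback.fst ξ τ ≫ f = pullback.snd ξ τ ≫ r) ↔
        ∀ t : ↥T, τ.base t ∈ {s : ↥S | ∃ y : ↥Y, ∀ x : ↥X, ξ.base x = s → f.base x = y}) := by
  have hopen : IsOpen (Groth.Agent.Lib.Helper40.Collapse.C ξ f) :=
    Groth.Agent.Lib.Helper40.Collapse.isOpen_C ξ f h0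
  refine ⟨hopen, fun T τ => ⟨?_, ?_⟩⟩
  · rintro ⟨r, hr1, hr2⟩ t
    refine ⟨r.base t, fun x hx => ?_⟩
    obtain ⟨x', hx'1, hx'2⟩ :=
      Scheme.Pullback.exists_preimage_pullback (f := ξ) (g := τ) x t hx
    have h : (pullback.fst ξ τ ≫ f).base x' = (pullback.snd ξ τ ≫ r).base x' := by rw [hr2]
    have h2 : f.base ((pullback.fst ξ τ).base x') = r.base ((pullback.snd ξ τ).base x') := h
    rw [hx'1, hx'2] at h2
    exact h2
  · intro hτ
    obtain ⟨Uo, hUo⟩ : ∃ Uo : S.Opens,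
        (Uo : Set ↥S) = Groth.Agent.Lib.Helper40.Collapse.C ξ f := ⟨⟨_, hopen⟩, rfl⟩
    obtain ⟨σ, hσ⟩ := Groth.Agent.Lib.Helper40.Collapse.exists_factor ξ f h0 Uo hUo
    have D' : Groth.Agent.Lib.Helper40.QuotDesc.TData (pullback.snd ξ Uo.ι) :=
      Groth.Agent.Lib.Helper40.QuotDesc.TData.of_isClosedMap _
        (pullback.snd ξ Uo.ι).isClosedMap
        (fun W' => (Groth.Agent.Lib.Helper40.Collapse.bijective_app_snd ξ h0 Uo W').1)
    have hσv : σ ≫ v = Uo.ι := by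
      apply D'.cancel
      rw [← Category.assoc, hσ, Category.assoc, hf, pullback.condition]
    have hrange : Set.range τ ⊆ Set.range Uo.ι := by
      rintro _ ⟨t, rfl⟩
      have hmem : τ.base t ∈ (Uo : Set ↥S) := by rw [hUo]; exact hτ t
      exact ⟨⟨τ.base t, hmem⟩, rfl⟩
    obtain ⟨τ', hτ'⟩ : ∃ τ' : T ⟶ Uo.toScheme, τ' ≫ Uo.ι = τ :=
      ⟨IsOpenImmersion.lift Uo.ι τ hrange, IsOpenImmersion.lift_fac _ _ _⟩
    refine ⟨τ' ≫ σ, by rw [Category.assoc, hσv, hτ'], ?_⟩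
    have hc : pullback.fst ξ τ ≫ ξ = (pullback.snd ξ τ ≫ τ') ≫ Uo.ι := by
      rw [Category.assoc, hτ', pullback.condition]
    obtain ⟨m, hm1, hm2⟩ : ∃ m : pullback ξ τ ⟶ pullback ξ Uo.ι,
        m ≫ pullback.fst ξ Uo.ι = pullback.fst ξ τ ∧
        m ≫ pullback.snd ξ Uo.ι = pullback.snd ξ τ ≫ τ' :=
      ⟨pullback.lift _ _ hc, pullback.lift_fst _ _ _, pullback.lift_snd _ _ _⟩
    calc pullback.fst ξ τ ≫ f = m ≫ pullback.fst ξ Uo.ι ≫ f := by rw [← Category.assoc, hm1]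
      _ = m ≫ pullback.snd ξ Uo.ι ≫ σ := by rw [hσ]
      _ = pullback.snd ξ τ ≫ τ' ≫ σ := by rw [← Category.assoc, hm2, Category.assoc]

end Groth.Agent.S14666
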