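import Groth.Statements.S14677
import Mathlib
-- import your own Groth.Agent.* helpers here

set_option autoImplicit false
universe u
open CAlg

namespace Groth.Agent.S14677

section
open AdicCompletion

variable {A : Type u} [CommRing A] (I : Ideal A)
variable {M : Type*} [AddCommGroup M] [Module A M] {N : Type*} [AddCommGroup N] [Module A N]

theorem map_add' (f g : M →ₗ[A] N) (x : AdicCompletion I M) :
    AdicCompletion.map I (f + g) x = AdicCompletion.map I f x + AdicCompletion.map I g x := by
  apply AdicCompletion.ext
  intro n
  obtain ⟨m, hm⟩ := Submodule.Quotient.mk_surjective _ (x.val n)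
  rw [val_add_apply, map_val_apply, map_val_apply, map_val_apply, ← hm,
    LinearMap.reduceModIdeal_apply, LinearMap.reduceModIdeal_apply,
    LinearMap.reduceModIdeal_apply, LinearMap.add_apply, Submodule.Quotient.mk_add]

theorem map_smul'' (a : A) (f : M →ₗ[A] N) (x : AdicCompletion I M) :
    AdicCompletion.map I (a • f) x = a • AdicCompletion.map I f x := by
  apply AdicCompletion.ext
  intro n
  obtain ⟨m, hm⟩ := Submodule.Quotient.mk_surjective _ (x.val n)
  rw [val_smul_apply, map_val_apply, map_val_apply, ← hm,
    LinearMap.reduceModIdeal_apply, LinearMap.reduceModIdeal_apply, LinearMap.smul_apply,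
    Submodule.Quotient.mk_smul]

theorem map_sum' {ι : Type*} (s : Finset ι) (f : ι → (M →ₗ[A] N)) (x : AdicCompletion I M) :
    AdicCompletion.map I (∑ i ∈ s, f i) x = ∑ i ∈ s, AdicCompletion.map I (f i) x := by
  classical
  induction s using Finset.induction_on with
  | empty => simp
  | insert i s hi ih => rw [Finset.sum_insert hi, Finset.sum_insert hi, map_add', ih]

variable (J : Ideal A) (M)

/-- multiplication by `a ∈ J` as a map `M → JM`. -/
def mulTo (a : A) (ha : a ∈ J) : M →ₗ[A] ↥(J • (⊤ : Submodule A M)) :=
  LinearMap.codRestrict _ (a • LinearMap.id) (fun _ => Submodule.smul_mem_smul ha Submodule.mem_top)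

theorem subtype_comp_mulTo (a : A) (ha : a ∈ J) :
    (J • (⊤ : Submodule A M)).subtype ∘ₗ mulTo M J a ha = a • LinearMap.id := by
  ext m; rfl

end

/-- Let A be a Noetherian commutative ring, I and J ideals of A and M a finitely generated A-module.
Then the map of I-adic completions induced by the inclusion of the submodule JM into M is injective
with image exactly J·M̂, where M̂ is the I-adic completion of M; that is, the completion of JM is J
times the completion of M. (The published statement does not say that A is Noetherian; its proof
uses exactness of completion on finitely generated modules, which needs it, so this row assumes A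
Noetherian.) -/
theorem result (A : Type u) [CommRing A] [IsNoetherianRing A] (I J : Ideal A)
    (M : Type u) [AddCommGroup M] [Module A M] [Module.Finite A M] :
    Function.Injective (AdicCompletion.map I (J • (⊤ : Submodule A M)).subtype) ∧
      LinearMap.range (AdicCompletion.map I (J • (⊤ : Submodule A M)).subtype) =
        (J.map (algebraMap A (AdicCompletion I A))) • (⊤ : Submodule (AdicCompletion I A) (AdicCompletion I M)) := by
  refine ⟨AdicCompletion.map_injective I (Submodule.subtype_injective _), le_antisymm ?_ ?_⟩
  · -- range ≤ J • ⊤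
    obtain ⟨r, s, hs⟩ := Submodule.fg_iff_exists_fin_generating_family.1
      (IsNoetherian.noetherian J)
    have hsJ : ∀ i, s i ∈ J := fun i => hs ▸ Submodule.subset_span ⟨i, rfl⟩
    let π : (Fin r → M) →ₗ[A] ↥(J • (⊤ : Submodule A M)) :=
      ∑ i, (mulTo M J (s i) (hsJ i)) ∘ₗ LinearMap.proj i
    have hπ : Function.Surjective π := by
      rintro ⟨y, hy⟩
      suffices h : ∃ m : Fin r → M, ∑ i, s i • m i = y by
        obtain ⟨m, hm⟩ := h
        refine ⟨m, Subtype.ext ?_⟩
        simp only [π, LinearMap.sum_apply, LinearMap.comp_apply, LinearMap.proj_apply]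
        rw [← hm, Submodule.coe_sum]
        rfl
      refine Submodule.smul_induction_on hy ?_ ?_
      · intro a ha m _
        rw [← hs] at ha
        obtain ⟨c, hc⟩ := (Submodule.mem_span_range_iff_exists_fun A).1 ha
        refine ⟨fun i => c i • m, ?_⟩
        rw [← hc, Finset.sum_smul]
        refine Finset.sum_congr rfl fun i _ => ?_
        rw [smul_smul, smul_eq_mul, mul_comm]
      · rintro x y ⟨m, hm⟩ ⟨m', hm'⟩
        refine ⟨m + m', ?_⟩
        simp only [Pi.add_apply, smul_add, Finset.sum_add_distrib, hm, hm']
    rintro _ ⟨y, rfl⟩
    obtain ⟨z, rfl⟩ := AdicCompletion.map_surjective I hπ y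
    rw [AdicCompletion.map_comp_apply]
    have hcomp : (J • (⊤ : Submodule A M)).subtype ∘ₗ π =
        ∑ i, s i • (LinearMap.proj i : (Fin r → M) →ₗ[A] M) := by
      ext m
      simp only [π, LinearMap.comp_apply, LinearMap.sum_apply, map_sum, LinearMap.smul_apply,
        LinearMap.proj_apply]
      rfl
    rw [hcomp, map_sum']
    refine Submodule.sum_mem _ fun i _ => ?_
    rw [map_smul'']
    have : s i • AdicCompletion.map I (LinearMap.proj i : (Fin r → M) →ₗ[A] M) z =
        algebraMap A (AdicCompletion I A) (s i) •
          AdicCompletion.map I (LinearMap.proj i : (Fin r → M) →ₗ[A] M) z :=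
      (algebraMap_smul _ _ _).symm
    rw [this]
    exact Submodule.smul_mem_smul (Ideal.mem_map_of_mem _ (hsJ i)) Submodule.mem_top
  · -- J • ⊤ ≤ range
    have hle : J.map (algebraMap A (AdicCompletion I A)) ≤
        (LinearMap.range (AdicCompletion.map I (J • (⊤ : Submodule A M)).subtype)).colon ⊤ := by
      rw [Ideal.map_le_iff_le_comap]
      intro a ha
      rw [Ideal.mem_comap, Submodule.mem_colon]
      intro x _
      rw [algebraMap_smul]
      refine ⟨AdicCompletion.map I (mulTo M J a ha) x, ?_⟩
      rw [AdicCompletion.map_comp_apply, subtype_comp_mulTo, map_smul'']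
      simp
    exact Submodule.smul_le.2 fun r hr x _ => (Submodule.mem_colon.1 (hle hr)) x trivial

end Groth.Agent.S14677
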