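import Groth.Statements.S14679
import Mathlib

set_option autoImplicit false
universe u
open CategoryTheory CategoryTheory.Limits AlgebraicGeometry
open EtBase

namespace Groth.Agent.S14679

open AlgebraicGeometry.Scheme.Pullback in
theorem subsingleton_tensor {X Y S : Scheme.{u}} {f : X ⟶ S} {g : Y ⟶ S} (T : Triplet f g)
    (h : Function.Bijective (f.residueFieldMap T.x).hom) : Subsingleton (Spec T.tensor) := by
  have h1 : IsIso (f.residueFieldMap T.x) :=
    (ConcreteCategory.isIso_iff_bijective _).mpr h
  have h2 : IsIso ((S.residueFieldCongr T.hx).inv ≫ f.residueFieldMap T.x) := inferInstance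
  have h3 : IsIso T.tensorInr := by
    unfold Triplet.tensorInr
    haveI := h2
    exact pushout_inr_iso_of_left_iso _ _
  have h4 : IsIso (Spec.map T.tensorInr) := inferInstance
  have hinj : Function.Injective (Spec.map T.tensorInr) :=
    (Scheme.homeoOfIso (asIso (Spec.map T.tensorInr))).injective
  exact hinj.subsingleton

open AlgebraicGeometry.Scheme.Pullback in

/-- Given a morphism of schemes f : X ⟶ Y and a point x ∈ X with image y = f(x), such that the residue
field map κ(y) → κ(x) is bijective; let ℓ be an algebraic extension field of κ(y) and form the base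
change X ×_Y Spec ℓ along Spec ℓ ⟶ Spec κ(y) ⟶ Y. Then there is exactly one point of X ×_Y Spec ℓ
mapping to x under the first projection. (The published statement takes ℓ to be an algebraic closure
of κ(y), noting that any algebraic extension works, and also identifies the local ring at the point
with O_{X,x} ⊗_{O_{Y,y}} ℓ; this row allows any algebraic extension ℓ and states only the first
assertion.) -/
theorem result {X Y : Scheme.{u}} (f : X ⟶ Y) (x : ↥X)
    (hx : Function.Bijective (f.residueFieldMap x).hom)
    (ℓ : Type u) [Field ℓ] [Algebra (Y.residueField (f.base x)) ℓ] [Algebra.IsAlgebraic (Y.residueField (f.base x)) ℓ] :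
    ∃! z : ↥(pullback f (Spec.map (CommRingCat.ofHom (algebraMap (Y.residueField (f.base x)) ℓ)) ≫ Y.fromSpecResidueField (f.base x))),
      (pullback.fst f (Spec.map (CommRingCat.ofHom (algebraMap (Y.residueField (f.base x)) ℓ)) ≫ Y.fromSpecResidueField (f.base x))).base z = x := by
  set g := Spec.map (CommRingCat.ofHom (algebraMap (Y.residueField (f.base x)) ℓ)) ≫
    Y.fromSpecResidueField (f.base x) with hg
  have hbij : ∀ x' : X, x' = x → Function.Bijective (f.residueFieldMap x').hom := by
    rintro x' rfl
    exact hx
  have hgpt : ∀ p : Spec (CommRingCat.of ℓ), g p = f x := by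
    intro p
    rw [hg, Scheme.Hom.comp_apply]
    exact Scheme.fromSpecResidueField_apply _ _
  obtain ⟨z₀, hz₀, -⟩ := exists_preimage_pullback (f := f) (g := g) x default (hgpt _).symm
  refine ⟨z₀, hz₀, fun z hz => ?_⟩
  apply carrierEquiv.injective
  apply carrierEquiv_eq_iff.mpr
  have hT : Triplet.ofPoint z = Triplet.ofPoint z₀ := by
    apply Triplet.ext
    · exact hz.trans hz₀.symm
    · exact Subsingleton.elim _ _
  refine ⟨hT, ?_⟩
  haveI : Subsingleton (Spec (carrierEquiv z₀).fst.tensor) :=
    subsingleton_tensor (Triplet.ofPoint z₀) (hbij _ hz₀)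
  exact Subsingleton.elim _ _

end Groth.Agent.S14679
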