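import Groth.Statements.S14680
import Mathlib
-- import your own Groth.Agent.* helpers here

set_option autoImplicit false
universe u
open CAlg

namespace Groth.Agent.S14680

section
open AdicCompletion

variable {A : Type u} [CommRing A] [IsNoetherianRing A]

/-- a finite module whose completions at all maximal ideals vanish is zero. -/
theorem subsingleton_of_completions (N : Type u) [AddCommGroup N] [Module A N] [Module.Finite A N]
    (h : ∀ (m : Ideal A) [m.IsMaximal], Subsingleton (AdicCompletion m N)) : Subsingleton N := by
  rw [← Module.annihilator_eq_top_iff (R := A)]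
  by_contra hne
  obtain ⟨m, hm, hle⟩ := Ideal.exists_le_maximal _ hne
  have hsub := h m
  have hq : Subsingleton (N ⧸ (m ^ 1 • ⊤ : Submodule A N)) :=
    (AdicCompletion.eval_surjective m N 1).subsingleton
  rw [Submodule.Quotient.subsingleton_iff, pow_one] at hq
  obtain ⟨r, hr1, hr⟩ := Submodule.exists_sub_one_mem_and_smul_eq_zero_of_fg_of_le_smul m
    (⊤ : Submodule A N) Module.Finite.fg_top (le_of_eq hq.symm)
  have hrm : r ∈ m := hle (Module.mem_annihilator.2 fun n => hr n Submodule.mem_top)
  have : (1 : A) ∈ m := by
    have := m.sub_mem hrm hr1
    simpa using this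
  exact hm.ne_top ((Ideal.eq_top_iff_one m).2 this)

/-- zero detection. -/
theorem eq_zero_of_completions {P Q : Type u} [AddCommGroup P] [Module A P] [AddCommGroup Q]
    [Module A Q] [Module.Finite A Q] (h : P →ₗ[A] Q)
    (hz : ∀ (m : Ideal A) [m.IsMaximal], AdicCompletion.map m h = 0) : h = 0 := by
  have hR : Subsingleton (LinearMap.range h) := by
    refine subsingleton_of_completions (A := A) _ ?_
    intro m _
    have hinj := AdicCompletion.map_injective m (Submodule.subtype_injective (LinearMap.range h))
    have hsurj := AdicCompletion.map_surjective m (LinearMap.surjective_rangeRestrict h)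
    refine ⟨fun x y => ?_⟩
    apply hinj
    obtain ⟨x', rfl⟩ := hsurj x
    obtain ⟨y', rfl⟩ := hsurj y
    rw [AdicCompletion.map_comp_apply, AdicCompletion.map_comp_apply]
    have : (LinearMap.range h).subtype ∘ₗ h.rangeRestrict = h := LinearMap.subtype_comp_codRestrict _ _ _
    rw [this, hz m]
    rfl
  ext p
  have : (⟨h p, LinearMap.mem_range_self h p⟩ : LinearMap.range h) = 0 := Subsingleton.elim _ _
  exact congrArg Subtype.val this

/-- surjectivity detection. -/
theorem surjective_of_completions {P Q : Type u} [AddCommGroup P] [Module A P] [AddCommGroup Q]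
    [Module A Q] [Module.Finite A Q] (h : P →ₗ[A] Q)
    (hs : ∀ (m : Ideal A) [m.IsMaximal], Function.Surjective (AdicCompletion.map m h)) :
    Function.Surjective h := by
  have hC : Subsingleton (Q ⧸ LinearMap.range h) := by
    refine subsingleton_of_completions (A := A) _ ?_
    intro m _
    have hsurj := AdicCompletion.map_surjective m (Submodule.mkQ_surjective (LinearMap.range h))
    refine ⟨fun x y => ?_⟩
    obtain ⟨x', rfl⟩ := hsurj x
    obtain ⟨y', rfl⟩ := hsurj y
    obtain ⟨x'', rfl⟩ := hs m x'
    obtain ⟨y'', rfl⟩ := hs m y'
    rw [AdicCompletion.map_comp_apply, AdicCompletion.map_comp_apply]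
    have : (LinearMap.range h).mkQ ∘ₗ h = 0 := LinearMap.range_mkQ_comp h
    rw [this, AdicCompletion.map_zero]
    rfl
  rw [Submodule.Quotient.subsingleton_iff] at hC
  exact LinearMap.range_eq_top.1 hC

end

/-- Let A be a Noetherian commutative ring and f : M' → M, g : M → M'' linear maps between finitely
generated A-modules. Then the sequence 0 → M' → M → M'' → 0 is exact — f injective, the image of f
equal to the kernel of g, g surjective — if and only if for every maximal ideal m of A the sequence
of m-adic completions 0 → M'^ → M^ → M''^ → 0 (maps induced by f and g) is exact in the same sense. -/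
theorem result (A : Type u) [CommRing A] [IsNoetherianRing A]
    (M' M M'' : Type u) [AddCommGroup M'] [Module A M'] [AddCommGroup M] [Module A M] [AddCommGroup M''] [Module A M'']
    [Module.Finite A M'] [Module.Finite A M] [Module.Finite A M''] (f : M' →ₗ[A] M) (g : M →ₗ[A] M'') :
    (Function.Injective f ∧ Function.Exact f g ∧ Function.Surjective g) ↔
      ∀ (m : Ideal A) [m.IsMaximal],
        Function.Injective (AdicCompletion.map m f) ∧ Function.Exact (AdicCompletion.map m f) (AdicCompletion.map m g) ∧
          Function.Surjective (AdicCompletion.map m g) := by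
  constructor
  · rintro ⟨hf, hfg, hg⟩ m _
    exact ⟨AdicCompletion.map_injective m hf, AdicCompletion.map_exact hf hfg hg,
      AdicCompletion.map_surjective m hg⟩
  · intro H
    have hgs : Function.Surjective g := surjective_of_completions g fun m _ => (H m).2.2
    have hgf : g ∘ₗ f = 0 := by
      apply eq_zero_of_completions
      intro m _
      rw [← AdicCompletion.map_comp]
      refine LinearMap.ext fun x => ?_
      exact (H m).2.1.apply_apply_eq_zero x
    have hfi : Function.Injective f := by
      have h0 : (LinearMap.ker f).subtype = 0 := by
        apply eq_zero_of_completions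
        intro m _
        refine LinearMap.ext fun x => ?_
        apply (H m).1
        rw [AdicCompletion.map_comp_apply]
        have : f ∘ₗ (LinearMap.ker f).subtype = 0 := by
          ext y; exact y.2
        rw [this, AdicCompletion.map_zero]
        simp
      rw [← LinearMap.ker_eq_bot, eq_bot_iff]
      intro x hx
      have := congrArg (fun l => l ⟨x, hx⟩) h0
      simpa using this
    refine ⟨hfi, ?_, hgs⟩
    -- exactness
    have hle : ∀ x, f x ∈ LinearMap.ker g := fun x => by
      rw [LinearMap.mem_ker, ← LinearMap.comp_apply, hgf]; rfl
    let f' : M' →ₗ[A] LinearMap.ker g := LinearMap.codRestrict _ f hle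
    have hf's : Function.Surjective f' := by
      apply surjective_of_completions
      intro m _ y
      have hinj := AdicCompletion.map_injective m (Submodule.subtype_injective (LinearMap.ker g))
      have hmem : AdicCompletion.map m g (AdicCompletion.map m (LinearMap.ker g).subtype y) = 0 := by
        rw [AdicCompletion.map_comp_apply]
        have : g ∘ₗ (LinearMap.ker g).subtype = 0 := by
          ext z; exact z.2
        rw [this, AdicCompletion.map_zero]
        rfl
      obtain ⟨x, hx⟩ := ((H m).2.1 _).1 hmem
      refine ⟨x, hinj ?_⟩
      rw [AdicCompletion.map_comp_apply]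
      have : (LinearMap.ker g).subtype ∘ₗ f' = f := LinearMap.subtype_comp_codRestrict _ _ _
      rw [this, hx]
    rw [LinearMap.exact_iff]
    apply le_antisymm
    · intro x hx
      obtain ⟨y, hy⟩ := hf's ⟨x, hx⟩
      exact ⟨y, congrArg Subtype.val hy⟩
    · rintro _ ⟨y, rfl⟩
      exact hle y

end Groth.Agent.S14680
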