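import Groth.Statements.S14693
import Mathlib
-- import your own Groth.Agent.* helpers here

set_option autoImplicit false
universe u
open CategoryTheory AlgebraicGeometry
open SekSuwa

namespace Groth.Agent.S14693
open Limits

section
variable (R : Type u) [CommRing R] (lam : R) (N : ℕ) (h : DivCond lam N)

theorem ring_sq_apply (x : A R (lam ^ N)) :
    AK.mkHom R lam N h (psiHom R lam N h x) =
      algebraMap R (AK R lam N h) (Bialgebra.counitAlgHom R (A R (lam ^ N)) x) := by
  have := congrArg (fun f : A R (lam ^ N) →ₐc[R] AK R lam N h => f x) (mkHom_comp_psiHom R lam N h)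
  exact this

theorem ring_sq :
    CommRingCat.ofHom (psiHom R lam N h : A R (lam ^ N) →+* A R lam) ≫
      CommRingCat.ofHom (AK.mkHom R lam N h : A R lam →+* AK R lam N h) =
    CommRingCat.ofHom (Bialgebra.counitAlgHom R (A R (lam ^ N)) : A R (lam ^ N) →+* R) ≫
      CommRingCat.ofHom (algebraMap R (AK R lam N h)) := by
  ext x
  exact ring_sq_apply R lam N h x

theorem cocone_kills (T : CommRingCat.{u}) (f : A R lam →+* T) (g : R →+* T)
    (hfg : ∀ x : A R (lam ^ N), f (psiHom R lam N h x) = g (Bialgebra.counitAlgHom R (A R (lam ^ N)) x)) :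
    ∀ a ∈ kerIdeal lam N h, f a = 0 := by
  intro a ha
  obtain ⟨d, rfl⟩ := Ideal.mem_span_singleton'.mp ha
  have h1 := hfg A.t
  rw [psiHom_t] at h1
  have h2 : Bialgebra.counitAlgHom R (A R (lam ^ N)) A.t = 0 := A.counit_t
  rw [h2, map_zero] at h1
  rw [map_mul, h1, mul_zero]

theorem cocone_alg (T : CommRingCat.{u}) (f : A R lam →+* T) (g : R →+* T)
    (hfg : ∀ x : A R (lam ^ N), f (psiHom R lam N h x) = g (Bialgebra.counitAlgHom R (A R (lam ^ N)) x))
    (r : R) : f (algebraMap R (A R lam) r) = g r := by
  have h1 := hfg (algebraMap R _ r)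
  have e1 : psiHom R lam N h (algebraMap R _ r) = algebraMap R _ r :=
    AlgHomClass.commutes (psiHom R lam N h) r
  have e2 : Bialgebra.counitAlgHom R (A R (lam ^ N)) (algebraMap R _ r) = r := by
    rw [AlgHomClass.commutes]; rfl
  rw [e1, e2] at h1
  exact h1

theorem ring_pushout :
    IsPushout (CommRingCat.ofHom (psiHom R lam N h : A R (lam ^ N) →+* A R lam))
      (CommRingCat.ofHom (Bialgebra.counitAlgHom R (A R (lam ^ N)) : A R (lam ^ N) →+* R))
      (CommRingCat.ofHom (AK.mkHom R lam N h : A R lam →+* AK R lam N h))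
      (CommRingCat.ofHom (algebraMap R (AK R lam N h))) := by
  refine ⟨⟨ring_sq R lam N h⟩, ⟨PushoutCocone.IsColimit.mk _ ?_ ?_ ?_ ?_⟩⟩
  · intro s
    refine CommRingCat.ofHom (Ideal.Quotient.lift (kerIdeal lam N h) s.inl.hom
      (cocone_kills R lam N h s.pt s.inl.hom s.inr.hom ?_))
    intro x
    exact congrArg (fun f => f.hom x) s.condition
  · intro s
    ext x
    rfl
  · intro s
    ext r
    have hfg : ∀ x : A R (lam ^ N), s.inl.hom (psiHom R lam N h x) =
        s.inr.hom (Bialgebra.counitAlgHom R (A R (lam ^ N)) x) := fun x =>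
      congrArg (fun f => f.hom x) s.condition
    exact cocone_alg R lam N h s.pt s.inl.hom s.inr.hom hfg r
  · intro s m hm1 hm2
    ext x
    obtain ⟨y, rfl⟩ := Ideal.Quotient.mk_surjective x
    have := congrArg (fun f => f.hom y) hm1
    exact this

end
open MonoidalCategory CartesianMonoidalCategory MonObj

/-- For any commutative ring R, λ ∈ R and N such that λ is a non-zero-divisor and λ^N divides (1 + λX)^N
− 1 in R[X] with quotient P_{λ,N}, the closed subgroup scheme G_{λ,N} = Spec R[T]/(P_{λ,N}(T)) of
the affine R-group G^(λ) = Spec R[T, 1/(1+λT)] (group law s + t + λst) is the kernel of the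
homomorphism ψ_{λ,N} : G^(λ) → G^(λ^N), T ↦ P_{λ,N}(T): the square with sides the inclusion G_{λ,N}
→ G^(λ), ψ_{λ,N}, the unit section of G^(λ^N) and G_{λ,N} → Spec R is cartesian. (The published
text, over a discrete valuation ring and with N = p^n, introduces G_{λ,n} as the kernel of the
isogeny ψ_{λ,n}; this row is that assertion for every N, including the degenerate N = 0 where ψ is
trivial and G_{λ,0} = G^(λ).) -/
theorem result (R : Type u) [CommRing R] (lam : R) (N : ℕ) (h : SekSuwa.DivCond lam N) :
    AlgGrp.IsKernel (SekSuwa.incl R lam N h) (SekSuwa.psi R lam N h) := by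
  unfold AlgGrp.IsKernel
  have hsq : SekSuwa.incl R lam N h ≫ SekSuwa.psi R lam N h =
      toUnit (GK R lam N h) ≫ η[G R (lam ^ N)] := by
    rw [incl_psi]; rfl
  refine IsPullback.of_map (Over.forget _) hsq ?_
  have hP := isPullback_SpecMap_of_isPushout _ _ _ _ (ring_pushout R lam N h)
  have e1 : (toUnit (GK R lam N h)).left = Spec.map (CommRingCat.ofHom (algebraMap R (AK R lam N h))) := by
    have : (toUnit (GK R lam N h)).left =
        (Spec (CommRingCat.of (AK R lam N h)) ↘ Spec (CommRingCat.of R)) := by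
      first | (simp; done) | (simp; rfl)
    rw [this]; rfl
  change IsPullback (incl R lam N h).left (toUnit (GK R lam N h)).left (psi R lam N h).left
    η[G R (lam ^ N)].left
  rw [e1]
  exact hP

end Groth.Agent.S14693
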