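import Groth.Statements.S14694
import Mathlib
-- import your own Groth.Agent.* helpers here

set_option autoImplicit false
universe u
open CategoryTheory AlgebraicGeometry
open SekSuwa

namespace Groth.Agent.S14694

open Polynomial in
theorem psiPoly_coeff {R : Type u} [CommRing R] (lam : R) (N : ℕ) (h : DivCond lam N) (n : ℕ) :
    lam ^ N * (psiPoly lam N h).coeff n = ((1 + C lam * X) ^ N - 1 : R[X]).coeff n := by
  rw [← psiPoly_spec h, coeff_C_mul]

open Polynomial in
theorem natDegree_lin_le {R : Type u} [CommRing R] (lam : R) :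
    (1 + C lam * X : R[X]).natDegree ≤ 1 := by
  rw [add_comm, ← C_1]
  exact natDegree_linear_le

open Polynomial in
theorem natDegree_rhs_le {R : Type u} [CommRing R] (lam : R) (N : ℕ) :
    ((1 + C lam * X) ^ N - 1 : R[X]).natDegree ≤ N := by
  refine (natDegree_sub_le _ _).trans ?_
  rw [natDegree_one, max_eq_left (Nat.zero_le _)]
  refine (natDegree_pow_le).trans ?_
  calc N * (1 + C lam * X : R[X]).natDegree ≤ N * 1 := Nat.mul_le_mul_left _ (natDegree_lin_le lam)
    _ = N := mul_one N

open Polynomial in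
theorem coeff_rhs {R : Type u} [CommRing R] (lam : R) (N : ℕ) (hN : 0 < N) :
    ((1 + C lam * X) ^ N - 1 : R[X]).coeff N = lam ^ N := by
  rw [coeff_sub, coeff_one, if_neg (by omega), sub_zero]
  have := coeff_pow_of_natDegree_le (m := N) (natDegree_lin_le lam)
  rw [mul_one] at this
  rw [this, coeff_add, coeff_one, if_neg (by omega), zero_add, coeff_C_mul, coeff_X_one, mul_one]

open Polynomial in
theorem psiPoly_natDegree_le {R : Type u} [CommRing R] (lam : R) (N : ℕ) (h : DivCond lam N) :
    (psiPoly lam N h).natDegree ≤ N := by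
  rw [natDegree_le_iff_coeff_eq_zero]
  intro n hn
  have h1 := psiPoly_coeff lam N h n
  rw [coeff_eq_zero_of_natDegree_lt (lt_of_le_of_lt (natDegree_rhs_le lam N) hn)] at h1
  exact cancel_nzd h.pow_nzd (h1.trans (mul_zero _).symm)

open Polynomial in
theorem psiPoly_coeff_N {R : Type u} [CommRing R] (lam : R) (N : ℕ) (hN : 0 < N) (h : DivCond lam N) :
    (psiPoly lam N h).coeff N = 1 := by
  have h1 := psiPoly_coeff lam N h N
  rw [coeff_rhs lam N hN] at h1
  exact cancel_nzd h.pow_nzd (h1.trans (mul_one _).symm)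

open Polynomial in
theorem psiPoly_monic {R : Type u} [CommRing R] (lam : R) (N : ℕ) (hN : 0 < N) (h : DivCond lam N) :
    (psiPoly lam N h).Monic := by
  rcases subsingleton_or_nontrivial R with hR | hR
  · exact Subsingleton.elim _ _
  · have hd : (psiPoly lam N h).natDegree = N := by
      refine le_antisymm (psiPoly_natDegree_le lam N h) ?_
      refine le_natDegree_of_ne_zero ?_
      rw [psiPoly_coeff_N lam N hN h]
      exact one_ne_zero
    rw [Monic, leadingCoeff, hd, psiPoly_coeff_N lam N hN h]

open Polynomial in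
theorem psiPoly_natDegree {R : Type u} [CommRing R] [Nontrivial R] (lam : R) (N : ℕ) (hN : 0 < N)
    (h : DivCond lam N) : (psiPoly lam N h).natDegree = N := by
  refine le_antisymm (psiPoly_natDegree_le lam N h) ?_
  refine le_natDegree_of_ne_zero ?_
  rw [psiPoly_coeff_N lam N hN h]
  exact one_ne_zero


section
variable {R : Type u} [CommRing R] (lam : R) (N : ℕ) (hN : 0 < N) (h : DivCond lam N)

theorem root_pow : (1 + lam • AdjoinRoot.root (psiPoly lam N h)) ^ N = 1 := by
  have e := aeval_psiPoly h (AdjoinRoot.root (psiPoly lam N h))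
  rw [AdjoinRoot.aeval_eq, AdjoinRoot.mk_self, mul_zero] at e
  rw [Algebra.smul_def]
  exact (sub_eq_zero.mp e.symm)

include hN in
theorem root_rel : (1 + lam • AdjoinRoot.root (psiPoly lam N h)) *
    (1 + lam • AdjoinRoot.root (psiPoly lam N h)) ^ (N - 1) = 1 := by
  rw [← pow_succ', Nat.sub_add_cancel hN, root_pow]

/-- the map `A → R[T]/(P)`. -/
noncomputable def toAdj0 : A R lam →ₐ[R] AdjoinRoot (psiPoly lam N h) :=
  A.lift R lam (AdjoinRoot.root (psiPoly lam N h)) ((1 + lam • AdjoinRoot.root (psiPoly lam N h)) ^ (N - 1))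
    (root_rel lam N hN h)

theorem toAdj0_kerGen : toAdj0 lam N hN h (kerGen lam N h) = 0 := by
  rw [kerGen, ← Polynomial.aeval_algHom_apply, toAdj0, A.lift_t, AdjoinRoot.aeval_eq, AdjoinRoot.mk_self]

noncomputable def toAdj : AK R lam N h →ₐ[R] AdjoinRoot (psiPoly lam N h) :=
  Ideal.Quotient.liftₐ (kerIdeal lam N h) (toAdj0 lam N hN h) (by
    intro a ha
    obtain ⟨d, rfl⟩ := Ideal.mem_span_singleton'.mp ha
    rw [map_mul, toAdj0_kerGen, mul_zero])

theorem toAdj_t : toAdj lam N hN h AK.t = AdjoinRoot.root (psiPoly lam N h) := by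
  change toAdj0 lam N hN h A.t = _
  rw [toAdj0, A.lift_t]

theorem toAdj_inv : toAdj lam N hN h AK.inv = (1 + lam • AdjoinRoot.root (psiPoly lam N h)) ^ (N - 1) := by
  change toAdj0 lam N hN h A.inv = _
  rw [toAdj0, A.lift_inv]

noncomputable def fromAdj : AdjoinRoot (psiPoly lam N h) →ₐ[R] AK R lam N h :=
  AdjoinRoot.liftAlgHom (psiPoly lam N h) (Algebra.ofId R _) AK.t (by
    have := AK.aeval_t (R := R) (lam := lam) (N := N) (h := h)
    rw [Polynomial.aeval_def] at this
    exact this)

theorem fromAdj_root : fromAdj lam N h (AdjoinRoot.root (psiPoly lam N h)) = AK.t := by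
  exact AdjoinRoot.liftAlgHom_root _ _ _ _

theorem AK_u_mul_inv : (1 + lam • (AK.t : AK R lam N h)) * AK.inv = 1 := by
  have := congrArg (AK.mkHom R lam N h) (A.u_mul_inv (R := R) (lam := lam))
  rw [map_mul, map_one, AK.mkHom_u] at this
  exact this

include hN in
theorem AK_inv_eq : (AK.inv : AK R lam N h) = (1 + lam • (AK.t : AK R lam N h)) ^ (N - 1) := by
  have h1 := AK.u_pow (R := R) (lam := lam) (N := N) (h := h)
  have h2 := AK_u_mul_inv lam N h
  have h3 : (1 + lam • (AK.t : AK R lam N h)) ^ N =
      (1 + lam • (AK.t : AK R lam N h)) * (1 + lam • (AK.t : AK R lam N h)) ^ (N - 1) := by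
    rw [← pow_succ', Nat.sub_add_cancel hN]
  calc (AK.inv : AK R lam N h) = AK.inv * (1 + lam • (AK.t : AK R lam N h)) ^ N := by rw [h1, mul_one]
    _ = ((1 + lam • (AK.t : AK R lam N h)) * AK.inv) * (1 + lam • (AK.t : AK R lam N h)) ^ (N - 1) := by
        rw [h3]
        ring
    _ = _ := by rw [h2, one_mul]

noncomputable def equivAdj : AK R lam N h ≃ₐ[R] AdjoinRoot (psiPoly lam N h) :=
  AlgEquiv.ofAlgHom (toAdj lam N hN h) (fromAdj lam N h)
    (by
      apply AdjoinRoot.algHom_ext
      rw [AlgHom.comp_apply, fromAdj_root, toAdj_t]; rfl)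
    (by
      apply AK.algHom_ext
      · rw [AlgHom.comp_apply, toAdj_t, fromAdj_root]; rfl
      · rw [AlgHom.comp_apply, toAdj_inv, map_pow, map_add, map_one, map_smul, fromAdj_root,
          ← AK_inv_eq lam N hN h]; rfl)

include hN in
theorem AK_free : Module.Free R (AK R lam N h) :=
  haveI := (psiPoly_monic lam N hN h).free_adjoinRoot
  Module.Free.of_equiv (equivAdj lam N hN h).symm.toLinearEquiv

include hN in
theorem AK_finite : Module.Finite R (AK R lam N h) :=
  haveI := (psiPoly_monic lam N hN h).finite_adjoinRoot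
  Module.Finite.equiv (equivAdj lam N hN h).symm.toLinearEquiv

include hN in
theorem AK_finrank [Nontrivial R] : Module.finrank R (AK R lam N h) = N := by
  rw [(equivAdj lam N hN h).toLinearEquiv.finrank_eq,
    (AdjoinRoot.powerBasis' (psiPoly_monic lam N hN h)).finrank, AdjoinRoot.powerBasis'_dim,
    psiPoly_natDegree lam N hN h]

include hN in
theorem AK_fp : Algebra.FinitePresentation R (AK R lam N h) :=
  Algebra.FinitePresentation.equiv (equivAdj lam N hN h).symm

end
theorem key (R S : Type u) [CommRing R] [CommRing S] [Algebra R S] [Module.Free R S]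
    [Module.Finite R S] [Algebra.FinitePresentation R S] (N : ℕ)
    (hr : Nontrivial R → Module.finrank R S = N) :
    Mor2.IsFinLocFreeOfDeg N (Spec.map (CommRingCat.ofHom (algebraMap R S))) := by
  refine ⟨⟨?_, ?_, ?_⟩, ?_⟩
  · rw [IsFinite.SpecMap_iff]
    simpa [RingHom.finite_algebraMap]
  · rw [Flat.SpecMap_iff]
    simpa [RingHom.flat_algebraMap_iff] using (inferInstance : Module.Flat R S)
  · rw [LocallyOfFinitePresentation.SpecMap_iff]
    simpa [RingHom.finitePresentation_algebraMap]
  · intro y
    have hR : Nontrivial R := by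
      by_contra hR
      rw [not_nontrivial_iff_subsingleton] at hR
      exact (PrimeSpectrum.instIsEmptyOfSubsingleton : IsEmpty (PrimeSpectrum R)).false y
    rw [Scheme.Hom.finrank_SpecMap_algebraMap R S y,
      Module.rankAtStalk_eq_finrank_of_free]
    exact hr hR


/-- For any commutative ring R, λ ∈ R and N ≥ 1 such that λ is a non-zero-divisor and λ^N divides (1 +
λX)^N − 1 in R[X] with quotient P_{λ,N}, the R-group scheme G_{λ,N}, defined as the closed subscheme
of the affine R-group G^(λ) = Spec R[T, 1/(1+λT)] cut out by P_{λ,N}(T), is finite locally free of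
degree N over Spec R (its coordinate ring is R[T]/(P_{λ,N}(T)) with P_{λ,N} monic of degree N). (The
published text states this over a discrete valuation ring with N = p^n: G_{λ,n} is a commutative
finite flat group scheme of rank p^n.) -/
theorem result (R : Type u) [CommRing R] (lam : R) (N : ℕ) (hN : 0 < N) (h : SekSuwa.DivCond lam N) :
    Mor2.IsFinLocFreeOfDeg N (SekSuwa.GK R lam N h).hom := by
  haveI := AK_free lam N hN h
  haveI := AK_finite lam N hN h
  haveI := AK_fp lam N hN h
  exact key R (AK R lam N h) N (fun _ => AK_finrank lam N hN h)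

end Groth.Agent.S14694
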