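import Groth.Statements.S14695
-- import your own Groth.Agent.* helpers here
import Groth.Agent.Lib.Helper40.GenericSection
import Groth.Agent.Lib.Helper40.PushGeneric

set_option autoImplicit false
universe u
open CategoryTheory AlgebraicGeometry
open NonAbH1

namespace Groth.Agent.S14695

/-- In the case where the morphism Y → X is the identity of X: let X be a normal integral scheme
(integral, with every local ring an integrally closed domain), G and G' X-group schemes which are
finite and flat over X, and g : G → G' a homomorphism which becomes an isomorphism after base change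
to the spectrum of the function field of X. If an fppf G-torsor P over X becomes trivial after
extension of the structure group along g — there is an fppf G'-torsor P' over X with a g-equivariant
X-morphism P → P', and P' has a section over X — then P has a section over X. (The published
statement takes G, G' commutative and all schemes Noetherian, allows also composition with the
pull-back along a morphism Y → X admitting a rational section, and is phrased as injectivity of
H¹(X, G) → H¹(Y, G'_Y); this row is the case where Y → X is the identity of X, as the trivial-kernel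
assertion the argument establishes, for which commutativity and the Noetherian condition are not
needed.) -/
theorem result {X : Scheme.{u}} [IsIntegral X]
    (hX : Pi1.IsNormalScheme X) (G G' : Over X) [GrpObj G] [GrpObj G']
    [IsFinite G.hom] [Flat G.hom] [IsFinite G'.hom] [Flat G'.hom]
    (g : G ⟶ G') [IsMonHom g]
    (hg : IsIso ((Over.pullback (X.fromSpecStalk (genericPoint X))).map g))
    (P : Over X) (a : AlgGrp.Action G P) (hP : NonAbH1.IsTorsorFor Scheme.fppfPrecoverage a)
    (P' : Over X) (a' : AlgGrp.Action G' P') (hP' : NonAbH1.IsTorsorFor Scheme.fppfPrecoverage a')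
    (hpush : NonAbH1.IsPushforwardAlongSch g a a') (htriv : NonAbH1.HasSectionOver P' (𝟙 X)) :
    NonAbH1.HasSectionOver P (𝟙 X) := by
  classical
  obtain ⟨q, hq⟩ := hpush
  obtain ⟨σ', hσ'⟩ := htriv
  have hPfpqc : NonAbH1.IsTorsorFor Scheme.fpqcPrecoverage a :=
    ⟨hP.1, Groth.Agent.Lib.Helper40.FpqcCov.isLocallyTrivialFor_fpqc_of_fppf P hP.2⟩
  have hP'fpqc : NonAbH1.IsTorsorFor Scheme.fpqcPrecoverage a' :=
    ⟨hP'.1, Groth.Agent.Lib.Helper40.FpqcCov.isLocallyTrivialFor_fpqc_of_fppf P' hP'.2⟩
  have hfinP : IsFinite P.hom :=
    Groth.Agent.Lib.Helper40.TorsorTriv.isFinite_hom_of_isTorsorFor_fpqc a hPfpqc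
  have hfinP' : IsFinite P'.hom :=
    Groth.Agent.Lib.Helper40.TorsorTriv.isFinite_hom_of_isTorsorFor_fpqc a' hP'fpqc
  have hcov : Groth.Agent.Lib.Helper40.FpqcCov.IsCov P.hom :=
    Groth.Agent.Lib.Helper40.FpqcCov.isCov_of_isLocallyTrivialFor_fppf P hP.2
  -- the generic lift
  let j := X.fromSpecStalk (genericPoint X)
  let TX : Over X := Over.mk j
  let σT : TX ⟶ P' := Over.homMk (j ≫ σ') (by
    change (j ≫ σ') ≫ P'.hom = j
    rw [Category.assoc, hσ', Category.comp_id])
  obtain ⟨t, ht⟩ := Groth.Agent.Lib.Helper40.PushGeneric.exists_lift g a a' q hq hP.1 hP'.1 hcov TX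
    (fun W u => Groth.Agent.Lib.Helper40.PushGeneric.bijective_comp_of_isIso_map' j g hg W u) σT
  -- the fibre of q over σ'
  have hqfin : IsFinite q.left := by
    have h1 : IsFinite (q.left ≫ P'.hom) := by
      rw [Over.w q]
      exact hfinP
    exact MorphismProperty.of_postcomp (W := @IsFinite) (W' := @IsSeparated) q.left P'.hom
      inferInstance h1
  have hπ : IsFinite (Limits.pullback.snd q.left σ') := inferInstance
  have htl : t.left ≫ q.left = j ≫ σ' := by
    have := congrArg (fun k => k.left) ht
    exact this
  obtain ⟨σ, hσ⟩ := Groth.Agent.Lib.Helper40.GenericSection.exists_section_of_generic_section hX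
    (Limits.pullback.snd q.left σ') (Limits.pullback.lift t.left j htl) (Limits.pullback.lift_snd _ _ _)
  refine ⟨σ ≫ Limits.pullback.fst q.left σ', ?_⟩
  rw [← Over.w q, Category.assoc, ← Category.assoc (Limits.pullback.fst q.left σ'),
    Limits.pullback.condition, Category.assoc, hσ', Category.comp_id, hσ]

end Groth.Agent.S14695
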