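import Groth.Statements.S14729
import Mathlib

set_option autoImplicit false
universe u
open ValPrufer

namespace Groth.Agent.S14729

set_option linter.unusedSectionVars false

section aux
open Finset


lemma exists_period {κ : Type*} [Field κ] (b : κ) :
    ∃ d : ℕ, 0 < d ∧ ∀ t : ℕ, ∑ k ∈ range (d * t + 1), b ^ k ≠ 0 := by
  by_cases hb : b = 1
  · subst hb
    by_cases hp : ringChar κ = 0
    · refine ⟨1, one_pos, fun t => ?_⟩
      rw [one_geom_sum]
      intro h
      have := (ringChar.spec κ (1 * t + 1)).1 h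
      rw [hp] at this
      have := zero_dvd_iff.1 this
      omega
    · refine ⟨ringChar κ, Nat.pos_of_ne_zero hp, fun t => ?_⟩
      rw [one_geom_sum]
      intro h
      have h1 := (ringChar.spec κ (ringChar κ * t + 1)).1 h
      have h2 : ringChar κ ∣ 1 := (Nat.dvd_add_right (Dvd.intro _ rfl)).1 h1
      exact CharP.ringChar_ne_one (Nat.dvd_one.1 h2)
  · by_cases ho : orderOf b = 0
    · refine ⟨1, one_pos, fun t h => ?_⟩
      have h1 := geom_sum_mul b (1 * t + 1)
      rw [h, zero_mul] at h1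
      have h2 : b ^ (1 * t + 1) = 1 := (sub_eq_zero.1 h1.symm)
      have := orderOf_dvd_of_pow_eq_one h2
      rw [ho] at this
      have := zero_dvd_iff.1 this
      omega
    · refine ⟨orderOf b, Nat.pos_of_ne_zero ho, fun t h => ?_⟩
      have h1 := geom_sum_mul b (orderOf b * t + 1)
      rw [h, zero_mul] at h1
      have h2 : b ^ (orderOf b * t + 1) = 1 := (sub_eq_zero.1 h1.symm)
      have h3 := orderOf_dvd_of_pow_eq_one h2
      have h4 : orderOf b ∣ 1 := (Nat.dvd_add_right (Dvd.intro _ rfl)).1 h3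
      exact hb (orderOf_eq_one_iff.1 (Nat.dvd_one.1 h4))

variable {L : Type*} [Field L]

lemma key {J : Type*} [Finite J] (V : J → ValuationSubring L) (a : L) :
    ∃ s : ℕ, ∀ j, (∑ k ∈ range s, a ^ k)⁻¹ ∈ V j ∧ a * (∑ k ∈ range s, a ^ k)⁻¹ ∈ V j ∧
      (a ∈ V j → (∑ k ∈ range s, a ^ k) ∈ V j) ∧ (∑ k ∈ range s, a ^ k) ≠ 0 := by
  classical
  have := Fintype.ofFinite J
  have H : ∀ j, ∃ d : ℕ, 0 < d ∧ ∀ (h : a ∈ V j) (t : ℕ),
      ∑ k ∈ range (d * t + 1), (IsLocalRing.residue (V j) ⟨a, h⟩) ^ k ≠ 0 := by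
    intro j
    by_cases h : a ∈ V j
    · obtain ⟨d, hd, H⟩ := exists_period (IsLocalRing.residue (V j) ⟨a, h⟩)
      exact ⟨d, hd, fun _ t => H t⟩
    · exact ⟨1, one_pos, fun h' => absurd h' h⟩
  choose d hd Hd using H
  set S := ∏ j, d j with hS
  have hSpos : 0 < S := Finset.prod_pos fun j _ => hd j
  refine ⟨S + 1, fun j => ?_⟩
  obtain ⟨t, ht⟩ : d j ∣ S := Finset.dvd_prod_of_mem d (Finset.mem_univ j)
  set u := ∑ k ∈ range (S + 1), a ^ k with hu
  by_cases h : a ∈ V j
  · let a' : V j := ⟨a, h⟩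
    let u' : V j := ∑ k ∈ range (S + 1), a' ^ k
    have hu' : (u' : L) = u := by
      simp [u', a', hu]
    have hres : IsLocalRing.residue (V j) u' ≠ 0 := by
      have := Hd j h t
      rw [← ht] at this
      simpa [u', map_sum, map_pow] using this
    have hunit : IsUnit u' := by
      rw [← IsLocalRing.notMem_maximalIdeal, ← IsLocalRing.residue_eq_zero_iff]
      exact hres
    obtain ⟨w, hw⟩ := isUnit_iff_exists_inv.1 hunit
    have hw' : u * (w : L) = 1 := by
      rw [← hu']
      exact_mod_cast congrArg (Subtype.val) hw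
    have hinv : u⁻¹ = (w : L) := inv_eq_of_mul_eq_one_right hw'
    refine ⟨hinv ▸ w.2, mul_mem h (hinv ▸ w.2), fun _ => hu' ▸ u'.2,
      left_ne_zero_of_mul_eq_one hw'⟩
  · have hc : a⁻¹ ∈ V j := ((V j).mem_or_inv_mem a).resolve_left h
    have ha0 : a ≠ 0 := fun h0 => h (h0 ▸ (V j).zero_mem)
    let c' : V j := ⟨a⁻¹, hc⟩
    have hcm : c' ∈ IsLocalRing.maximalIdeal (V j) := by
      by_contra hcon
      rw [IsLocalRing.notMem_maximalIdeal] at hcon
      obtain ⟨w, hw⟩ := isUnit_iff_exists_inv.1 hcon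
      have hw' : a⁻¹ * (w : L) = 1 := by
        have := congrArg (Subtype.val) hw
        simpa [c'] using this
      have : a = (w : L) := by
        have := inv_eq_of_mul_eq_one_right hw'
        rwa [inv_inv] at this
      exact h (this ▸ w.2)
    have hres0 : IsLocalRing.residue (V j) c' = 0 := (IsLocalRing.residue_eq_zero_iff _).2 hcm
    let e' : V j := ∑ k ∈ range (S + 1), c' ^ k
    have hres : IsLocalRing.residue (V j) e' = 1 := by
      simp [e', map_sum, map_pow, hres0, zero_geom_sum]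
    have hunit : IsUnit e' := by
      rw [← IsLocalRing.notMem_maximalIdeal, ← IsLocalRing.residue_eq_zero_iff, hres]
      exact one_ne_zero
    obtain ⟨w, hw⟩ := isUnit_iff_exists_inv.1 hunit
    have he' : (e' : L) = ∑ k ∈ range (S + 1), (a⁻¹) ^ k := by
      simp [e', c']
    have hw' : (∑ k ∈ range (S + 1), (a⁻¹) ^ k) * (w : L) = 1 := by
      rw [← he']
      exact_mod_cast congrArg (Subtype.val) hw
    have hue : u = a ^ S * ∑ k ∈ range (S + 1), (a⁻¹) ^ k := by
      rw [hu, ← Finset.sum_range_reflect, Finset.mul_sum]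
      refine Finset.sum_congr rfl fun k hk => ?_
      have hk' : k ≤ S := by
        have := Finset.mem_range.1 hk
        omega
      rw [show S + 1 - 1 - k = S - k by omega, pow_sub₀ a ha0 hk', inv_pow]
    have hinv : u⁻¹ = (a⁻¹) ^ S * (w : L) := by
      apply inv_eq_of_mul_eq_one_right
      rw [hue]
      calc a ^ S * (∑ k ∈ range (S + 1), (a⁻¹) ^ k) * ((a⁻¹) ^ S * (w : L))
          = (a ^ S * (a⁻¹) ^ S) * ((∑ k ∈ range (S + 1), (a⁻¹) ^ k) * (w : L)) := by ring
        _ = 1 := by rw [hw', mul_one, ← mul_pow, mul_inv_cancel₀ ha0, one_pow]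
    have hainv : a * u⁻¹ = (a⁻¹) ^ (S - 1) * (w : L) := by
      rw [hinv]
      obtain ⟨S', hS'⟩ : ∃ S', S = S' + 1 := ⟨S - 1, by omega⟩
      rw [hS', Nat.add_sub_cancel, pow_succ]
      field_simp
    refine ⟨hinv ▸ mul_mem (pow_mem hc _) w.2, hainv ▸ mul_mem (pow_mem hc _) w.2,
      fun h' => absurd h' h, ?_⟩
    rw [hue]
    exact mul_ne_zero (pow_ne_zero _ ha0) (left_ne_zero_of_mul_eq_one hw')


end aux

open Finset in
/-- main construction -/
theorem main
    (R L : Type u) [CommRing R] [IsDomain R] [Field L] [Algebra R L] [IsFractionRing R L]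
    (hR : ∀ (p : Ideal R) [p.IsPrime], ValuationRing (Localization.AtPrime p))
    (hfin : Finite (MaximalSpectrum R)) (K : Subfield L) :
    (∀ (p : Ideal ↥((algebraMap R L).range ⊓ K.toSubring)) [p.IsPrime],
        ValuationRing (Localization.AtPrime p)) ∧
      Finite (MaximalSpectrum ↥((algebraMap R L).range ⊓ K.toSubring)) ∧
      ∀ x : L, x ∈ K → ∃ a b : L, a ∈ (algebraMap R L).range ⊓ K.toSubring ∧
        b ∈ (algebraMap R L).range ⊓ K.toSubring ∧ b ≠ 0 ∧ x = a / b := by
  classical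
  -- the valuation rings
  let Vs : MaximalSpectrum R → Subalgebra R L := fun m =>
    Localization.subalgebra.ofField L m.asIdeal.primeCompl m.asIdeal.primeCompl_le_nonZeroDivisors
  have hVs : ∀ m (x : L), x ∈ Vs m ∨ x⁻¹ ∈ Vs m := by
    intro m x
    have : m.asIdeal.IsPrime := m.isMaximal.isPrime
    have hv : ValuationRing (Localization.AtPrime m.asIdeal) := hR m.asIdeal
    let e := IsLocalization.algEquiv m.asIdeal.primeCompl (Localization.AtPrime m.asIdeal) (Vs m)
    have : ValuationRing ↥(Vs m) :=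
      Function.Surjective.valuationRing (e : Localization.AtPrime m.asIdeal →+* ↥(Vs m))
        e.surjective
    rcases ValuationRing.isInteger_or_isInteger (Vs m) x with ⟨y, hy⟩ | ⟨y, hy⟩
    · exact Or.inl (hy ▸ y.2)
    · exact Or.inr (hy ▸ y.2)
  let V : MaximalSpectrum R → ValuationSubring L := fun m =>
    { (Vs m).toSubring with mem_or_inv_mem' := hVs m }
  have hVmem : ∀ m (x : L), x ∈ V m ↔ x ∈ Vs m := fun m x => Iff.rfl
  have hRV : ∀ x : L, x ∈ (algebraMap R L).range ↔ ∀ m, x ∈ V m := by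
    intro x
    have := MaximalSpectrum.iInf_localization_eq_bot R L
    have h2 : x ∈ (⊥ : Subalgebra R L) ↔ x ∈ (algebraMap R L).range := Algebra.mem_bot
    rw [← h2, ← this, Algebra.mem_iInf]
    exact Iff.rfl
  have : Nonempty (MaximalSpectrum R) := by
    obtain ⟨m, hm⟩ := Ideal.exists_maximal R
    exact ⟨⟨m, hm⟩⟩
  set D : Subring L := (algebraMap R L).range ⊓ K.toSubring with hD
  have hDmem : ∀ x : L, x ∈ D ↔ (∀ m, x ∈ V m) ∧ x ∈ K := by
    intro x
    rw [hD, Subring.mem_inf, hRV]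
    rfl
  -- key consequence
  have hkey : ∀ z : L, z ∈ K → ∃ v w : L, v ∈ D ∧ w ∈ D ∧ v ≠ 0 ∧ z * v = w ∧
      ∀ m, z ∈ V m → v⁻¹ ∈ V m := by
    intro z hz
    obtain ⟨s, hs⟩ := key V z
    have huK : (∑ k ∈ range s, z ^ k) ∈ K := sum_mem fun k _ => pow_mem hz k
    refine ⟨(∑ k ∈ range s, z ^ k)⁻¹, z * (∑ k ∈ range s, z ^ k)⁻¹, ?_, ?_, ?_, rfl, ?_⟩
    · exact (hDmem _).2 ⟨fun m => (hs m).1, inv_mem huK⟩
    · exact (hDmem _).2 ⟨fun m => (hs m).2.1, mul_mem hz (inv_mem huK)⟩
    · exact inv_ne_zero (hs (Classical.arbitrary _)).2.2.2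
    · intro m hm
      rw [inv_inv]
      exact (hs m).2.2.1 hm
  -- the primes p_m
  let ι : ∀ m, ↥D →+* ↥(V m) := fun m =>
    Subring.inclusion (show D ≤ (V m).toSubring from fun x hx => ((hDmem x).1 hx).1 m)
  let P : MaximalSpectrum R → Ideal ↥D := fun m =>
    Ideal.comap (ι m) (IsLocalRing.maximalIdeal ↥(V m))
  have hPprime : ∀ m, (P m).IsPrime := fun m => Ideal.comap_isPrime _ _
  have hPmem : ∀ m (x : ↥D), x ∉ P m → (x : L)⁻¹ ∈ V m := by
    intro m x hx
    have h1 : IsUnit (ι m x) := by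
      rw [← IsLocalRing.notMem_maximalIdeal]
      exact hx
    obtain ⟨w, hw⟩ := isUnit_iff_exists_inv.1 h1
    have hw' : (x : L) * (w : L) = 1 := by
      have := congrArg (Subtype.val) hw
      exact this
    rw [inv_eq_of_mul_eq_one_right hw']
    exact w.2
  have hPmem' : ∀ m (x : ↥D), (x : L) ≠ 0 → (x : L)⁻¹ ∈ V m → x ∉ P m := by
    intro m x hx0 hx
    show ¬ (ι m x ∈ IsLocalRing.maximalIdeal ↥(V m))
    rw [IsLocalRing.notMem_maximalIdeal]
    refine isUnit_iff_exists_inv.2 ⟨⟨(x : L)⁻¹, hx⟩, ?_⟩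
    apply Subtype.ext
    show (x : L) * (x : L)⁻¹ = 1
    exact mul_inv_cancel₀ hx0
  -- every proper ideal lies in some P m
  have hle : ∀ I : Ideal ↥D, I ≠ ⊤ → ∃ m, I ≤ P m := by
    intro I hI
    by_contra hcon
    push Not at hcon
    have := Fintype.ofFinite (MaximalSpectrum R)
    have h1 : ¬ ((I : Set ↥D) ⊆ ⋃ m ∈ ((Finset.univ : Finset (MaximalSpectrum R)) : Set _), P m) := by
      intro h
      obtain ⟨m, -, hm⟩ := (Ideal.subset_union_prime (Classical.arbitrary _) (Classical.arbitrary _)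
        (fun m _ _ _ => hPprime m)).1 h
      exact hcon m hm
    rw [Set.not_subset] at h1
    obtain ⟨x, hxI, hx⟩ := h1
    simp only [Finset.coe_univ, Set.mem_univ, Set.iUnion_true, Set.mem_iUnion, SetLike.mem_coe,
      not_exists] at hx
    have hxinv : (x : L)⁻¹ ∈ D :=
      (hDmem _).2 ⟨fun m => hPmem m x (hx m), inv_mem ((hDmem _).1 x.2).2⟩
    have hx0 : (x : L) ≠ 0 := by
      intro h0
      have : x = 0 := Subtype.ext h0
      exact hx (Classical.arbitrary _) (this ▸ (P _).zero_mem)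
    apply hI
    rw [Ideal.eq_top_iff_one]
    have : (1 : ↥D) = ⟨(x : L)⁻¹, hxinv⟩ * x := by
      apply Subtype.ext
      show (1 : L) = (x : L)⁻¹ * (x : L)
      rw [inv_mul_cancel₀ hx0]
    rw [this]
    exact I.mul_mem_left _ hxI
  refine ⟨?_, ?_, ?_⟩
  · -- Prüfer
    intro q hq
    obtain ⟨m, hm⟩ := hle q hq.ne_top
    have hdiv : ∀ (x y : ↥D) (s t : q.primeCompl), (y : L) ≠ 0 → (x : L) / (y : L) ∈ V m →
        ∃ c : Localization.AtPrime q, IsLocalization.mk' (Localization.AtPrime q) y t * c =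
          IsLocalization.mk' (Localization.AtPrime q) x s := by
      intro x y s t hy0 hz
      have hzK : (x : L) / (y : L) ∈ K := div_mem ((hDmem _).1 x.2).2 ((hDmem _).1 y.2).2
      obtain ⟨v, w, hv, hw, hv0, hzv, hvm⟩ := hkey _ hzK
      have hvq : (⟨v, hv⟩ : ↥D) ∈ q.primeCompl := by
        intro hvq
        exact hPmem' m ⟨v, hv⟩ hv0 (hvm m hz) (hm hvq)
      refine ⟨IsLocalization.mk' (Localization.AtPrime q) (⟨w, hw⟩ * (t : ↥D))
        (⟨⟨v, hv⟩, hvq⟩ * s), ?_⟩
      rw [← IsLocalization.mk'_mul, IsLocalization.mk'_eq_iff_eq]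
      congr 1
      apply Subtype.ext
      show (s : L) * ((y : L) * (w * (t : L))) = ((t : L) * (v * (s : L))) * (x : L)
      have : (x : L) * v = w * (y : L) := by
        rw [← hzv]
        field_simp
      linear_combination (-(s : L) * (t : L)) * this
    suffices h : PreValuationRing (Localization.AtPrime q) from @ValuationRing.mk _ _ _ h
    refine ⟨fun a b => ?_⟩
    obtain ⟨x, s, rfl⟩ := IsLocalization.exists_mk'_eq q.primeCompl a
    obtain ⟨y, t, rfl⟩ := IsLocalization.exists_mk'_eq q.primeCompl b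
    by_cases hy0 : (y : L) = 0
    · refine ⟨0, Or.inl ?_⟩
      have : y = 0 := Subtype.ext hy0
      rw [this, IsLocalization.mk'_zero, mul_zero]
    by_cases hx0 : (x : L) = 0
    · refine ⟨0, Or.inr ?_⟩
      have : x = 0 := Subtype.ext hx0
      rw [this, IsLocalization.mk'_zero, mul_zero]
    rcases (V m).mem_or_inv_mem ((x : L) / (y : L)) with h | h
    · obtain ⟨c, hc⟩ := hdiv x y s t hy0 h
      exact ⟨c, Or.inr hc⟩
    · rw [inv_div] at h
      obtain ⟨c, hc⟩ := hdiv y x t s hx0 h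
      exact ⟨c, Or.inl hc⟩
  · -- finiteness
    have hmax : ∀ M : MaximalSpectrum ↥D, ∃ m, M.asIdeal = P m := by
      intro M
      obtain ⟨m, hm⟩ := hle M.asIdeal M.isMaximal.ne_top
      exact ⟨m, M.isMaximal.eq_of_le (hPprime m).ne_top hm⟩
    choose f hf using hmax
    refine Finite.of_injective f ?_
    intro M M' h
    apply MaximalSpectrum.ext
    rw [hf M, hf M', h]
  · intro x hx
    obtain ⟨v, w, hv, hw, hv0, hzv, -⟩ := hkey x hx
    exact ⟨w, v, hw, hv, hv0, by rw [← hzv]; field_simp⟩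


/-- Let R be a semilocal Prüfer domain (an integral domain with finitely many maximal ideals whose
localisations at primes are valuation rings) with fraction field L, and let K ⊆ L be a subfield.
Then R ∩ K is again a semilocal Prüfer domain and its fraction field is K, i.e. every element of K
is a quotient of two elements of R ∩ K. -/
theorem result
    (R L : Type u) [CommRing R] [IsDomain R] [Field L] [Algebra R L] [IsFractionRing R L]
    (hR : ∀ (p : Ideal R) [p.IsPrime], ValuationRing (Localization.AtPrime p))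
    (hfin : Finite (MaximalSpectrum R)) (K : Subfield L) :
    (∀ (p : Ideal ↥((algebraMap R L).range ⊓ K.toSubring)) [p.IsPrime],
        ValuationRing (Localization.AtPrime p)) ∧
      Finite (MaximalSpectrum ↥((algebraMap R L).range ⊓ K.toSubring)) ∧
      ∀ x : L, x ∈ K → ∃ a b : L, a ∈ (algebraMap R L).range ⊓ K.toSubring ∧
        b ∈ (algebraMap R L).range ⊓ K.toSubring ∧ b ≠ 0 ∧ x = a / b :=
  main R L hR hfin K

end Groth.Agent.S14729
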