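import Groth.Statements.S14732
import Mathlib
-- import your own Groth.Agent.* helpers here

set_option autoImplicit false
universe u
open ValPrufer

namespace Groth.Agent.S14732

universe v
section Aux

theorem exists_smooth_subalgebra {R : Type v} {K : Type u} [CommRing R] [IsNoetherianRing R] [Field K]
    [Algebra R K] [Algebra.FormallySmooth R K] (B : Subalgebra R K) [Algebra.FiniteType R B]
    (hfrac : ∀ x : K, ∃ y ∈ B, ∃ z ∈ B, y / z = x) :
    ∃ A : Subalgebra R K, Algebra.FiniteType R A ∧ Algebra.Smooth R A ∧ IsFractionRing A K ∧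
      B ≤ A := by
  haveI : FaithfulSMul B K := (faithfulSMul_iff_algebraMap_injective B K).mpr Subtype.val_injective
  haveI hBK : IsFractionRing B K := IsFractionRing.of_field B K (fun z => by
    obtain ⟨y, hy, w, hw, rfl⟩ := hfrac z
    exact ⟨⟨y, hy⟩, ⟨w, hw⟩, rfl⟩)
  haveI : Algebra.FinitePresentation R B := Algebra.FinitePresentation.of_finiteType.mp inferInstance
  haveI : (⊥ : Ideal B).IsPrime := Ideal.isPrime_bot
  have hloc : IsLocalization (⊥ : Ideal B).primeCompl K := by
    rw [Ideal.primeCompl_bot]; exact hBK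
  haveI : Algebra.IsSmoothAt R (⊥ : Ideal B) :=
    Algebra.FormallySmooth.of_equiv
      ((IsLocalization.algEquiv (⊥ : Ideal B).primeCompl K
        (Localization.AtPrime (⊥ : Ideal B))).restrictScalars R)
  obtain ⟨f, hf, hsm⟩ := Algebra.IsSmoothAt.exists_notMem_smooth R (⊥ : Ideal B)
  have hf0 : (f : K) ≠ 0 := fun h => hf (by
    rw [Ideal.mem_bot]; exact Subtype.ext h)
  let φ : Localization.Away f →ₐ[R] K :=
    IsLocalization.liftAlgHom (M := Submonoid.powers f) (f := B.val) (by
      rintro ⟨y, n, rfl⟩
      exact IsUnit.mk0 _ (by simpa using pow_ne_zero n hf0))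
  have hφB : ∀ b : B, φ (algebraMap B (Localization.Away f) b) = (b : K) := by
    intro b
    show IsLocalization.lift _ (algebraMap B (Localization.Away f) b) = _
    rw [IsLocalization.lift_eq]
    rfl
  have hφ : Function.Injective φ := by
    rw [injective_iff_map_eq_zero]
    intro x hx
    obtain ⟨b, m, rfl⟩ := IsLocalization.exists_mk'_eq (Submonoid.powers f) x
    have h1 : φ (IsLocalization.mk' (Localization.Away f) b m) *
        φ (algebraMap B (Localization.Away f) m) = φ (algebraMap B (Localization.Away f) b) := by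
      rw [← map_mul, IsLocalization.mk'_spec]
    rw [hx, zero_mul, hφB] at h1
    have hb : b = 0 := Subtype.ext h1.symm
    rw [hb, IsLocalization.mk'_zero]
  have hBA : B ≤ φ.range := fun b hb => ⟨algebraMap B (Localization.Away f) ⟨b, hb⟩, hφB ⟨b, hb⟩⟩
  let e : Localization.Away f ≃ₐ[R] φ.range := AlgEquiv.ofInjective φ hφ
  haveI : Algebra.Smooth R φ.range := Algebra.Smooth.of_equiv e
  refine ⟨φ.range, inferInstance, inferInstance, ?_, hBA⟩
  haveI : FaithfulSMul φ.range K :=
    (faithfulSMul_iff_algebraMap_injective φ.range K).mpr Subtype.val_injective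
  exact IsFractionRing.of_field φ.range K (fun z => by
    obtain ⟨y, hy, w, hw, rfl⟩ := hfrac z
    exact ⟨⟨y, hBA hy⟩, ⟨w, hBA hw⟩, rfl⟩)

theorem essFiniteType_of_closure {F : Type v} {K : Type u} [Field F] [Field K] [Algebra F K] (s : Finset K)
    (hs : Subfield.closure (↑s : Set K) = ⊤) : Algebra.EssFiniteType F K := by
  rw [← IntermediateField.fg_top_iff]
  refine ⟨s, ?_⟩
  rw [eq_top_iff]
  intro x _
  have hx : x ∈ Subfield.closure (↑s : Set K) := by rw [hs]; exact Subfield.mem_top x
  have hle : Subfield.closure (↑s : Set K) ≤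
      (IntermediateField.adjoin F (↑s : Set K)).toSubfield :=
    Subfield.closure_le.mpr (IntermediateField.subset_adjoin F _)
  exact hle hx

theorem frac_of_closure {R : Type v} {K : Type u} [CommRing R] [Field K] [Algebra R K] (s : Finset K)
    (hs : Subfield.closure (↑s : Set K) = ⊤) (x : K) :
    ∃ y ∈ Algebra.adjoin R (↑s : Set K), ∃ z ∈ Algebra.adjoin R (↑s : Set K), y / z = x := by
  have hx : x ∈ Subfield.closure (↑s : Set K) := by rw [hs]; exact Subfield.mem_top x
  obtain ⟨y, hy, z, hz, h⟩ := Subfield.mem_closure_iff.mp hx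
  have hle : Subring.closure (↑s : Set K) ≤ (Algebra.adjoin R (↑s : Set K)).toSubring :=
    Subring.closure_le.mpr Algebra.subset_adjoin
  exact ⟨y, hle hy, z, hle hz, h⟩

end Aux

/-- In characteristic p > 0, a field K that is finitely generated over its prime subfield F (a field
with p elements) is the fraction field of an integral scheme smooth over F; concretely, there is an
F-subalgebra A of K, of finite type and smooth over F, whose fraction field is K. -/
theorem result
    (K : Type u) [Field K] (p : ℕ) [Fact p.Prime] [CharP K p] (s : Finset K)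
    (hs : Subfield.closure (↑s : Set K) = ⊤) :
    ∃ A : Subalgebra (⊥ : Subfield K) K, Algebra.FiniteType (⊥ : Subfield K) A ∧
      Algebra.Smooth (⊥ : Subfield K) A ∧ IsFractionRing A K := by
  letI := ZMod.algebra K p
  haveI : Finite (⊥ : Subfield K) := by
    rw [Subfield.bot_eq_of_zMod_algebra p]
    exact (Set.finite_range (algebraMap (ZMod p) K)).to_subtype
  haveI : Algebra.EssFiniteType (⊥ : Subfield K) K := essFiniteType_of_closure s hs
  haveI : Algebra.FiniteType (⊥ : Subfield K) (Algebra.adjoin (⊥ : Subfield K) (↑s : Set K)) :=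
    ⟨(Subalgebra.fg_top _).mpr ⟨s, rfl⟩⟩
  obtain ⟨A, h1, h2, h3, -⟩ := exists_smooth_subalgebra
    (Algebra.adjoin (⊥ : Subfield K) (↑s : Set K)) (frac_of_closure s hs)
  exact ⟨A, h1, h2, h3⟩

end Groth.Agent.S14732
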