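import Groth.Statements.S14731
import Mathlib
import Groth.Agent.S14732
-- import your own Groth.Agent.* helpers here

set_option autoImplicit false
universe u
open ValPrufer

namespace Groth.Agent.S14731

/-- In characteristic zero, every field K generated as a field by a finite set is the fraction field of
a subring A of K of finite type and smooth over the integers. -/
theorem result
    (K : Type u) [Field K] [CharZero K] (s : Finset K)
    (hs : Subfield.closure (↑s : Set K) = ⊤) :
    ∃ A : Subring K, Algebra.FiniteType ℤ A ∧ Algebra.Smooth ℤ A ∧ IsFractionRing A K := by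
  haveI : Algebra.EssFiniteType ℚ K := Groth.Agent.S14732.essFiniteType_of_closure s hs
  haveI : Algebra.FormallySmooth ℤ ℚ := Algebra.FormallySmooth.of_isLocalization (nonZeroDivisors ℤ)
  haveI : Algebra.FormallySmooth ℤ K := Algebra.FormallySmooth.comp ℤ ℚ K
  haveI : Algebra.FiniteType ℤ (Algebra.adjoin ℤ (↑s : Set K)) :=
    ⟨(Subalgebra.fg_top _).mpr ⟨s, rfl⟩⟩
  obtain ⟨A, h1, h2, h3, hBA⟩ := Groth.Agent.S14732.exists_smooth_subalgebra
    (Algebra.adjoin ℤ (↑s : Set K)) (Groth.Agent.S14732.frac_of_closure s hs)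
  let e0 : A ≃+* A.toSubring :=
    { toFun := fun x => ⟨x.1, x.2⟩
      invFun := fun x => ⟨x.1, x.2⟩
      left_inv := fun _ => rfl
      right_inv := fun _ => rfl
      map_mul' := fun _ _ => rfl
      map_add' := fun _ _ => rfl }
  refine ⟨A.toSubring, Algebra.FiniteType.equiv h1 e0.toIntAlgEquiv,
    Algebra.Smooth.of_equiv e0.toIntAlgEquiv, ?_⟩
  haveI : FaithfulSMul A.toSubring K :=
    (faithfulSMul_iff_algebraMap_injective A.toSubring K).mpr Subtype.val_injective
  exact IsFractionRing.of_field A.toSubring K (fun z => by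
    obtain ⟨y, hy, w, hw, rfl⟩ := Groth.Agent.S14732.frac_of_closure (R := ℤ) s hs z
    exact ⟨⟨y, hBA hy⟩, ⟨w, hBA hw⟩, rfl⟩)

end Groth.Agent.S14731
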