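import Groth.Statements.S4954
import Mathlib
import Groth.Agent.Lib.Helper21.FibreClosureDim
import Groth.Agent.Lib.Helper21.FibreTd
import Groth.Agent.Lib.Helper73.FibreDimGen
-- import your own Groth.Agent.* helpers here

set_option autoImplicit false
set_option linter.style.haveILetI false
set_option linter.unusedSectionVars false
set_option linter.unusedVariables false
open CategoryTheory AlgebraicGeometry
universe u v w
open EGA43

namespace Groth.Agent.S4954

section Helpers

open Groth.Agent.Lib.Helper21.FieldDim Groth.Agent.Lib.Helper21.FibreClosureDim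

variable {X Y : Scheme.{u}} (f : X ⟶ Y) [LocallyOfFiniteType f]

/-- the connected component in a fibre is the trace of its closure. -/
theorem inter_closure_eq (F : Set X) (x : X) :
    F ∩ closure (connectedComponentIn F x) = connectedComponentIn F x := by
  apply Set.Subset.antisymm
  · rintro z ⟨hzF, hz⟩
    by_cases hx : x ∈ F
    · -- closure in subspace
      have hcl : IsClosed (Subtype.val ⁻¹' connectedComponentIn F x : Set F) := by
        rw [connectedComponentIn_eq_image hx]
        rw [Set.preimage_image_eq _ Subtype.val_injective]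
        exact isClosed_connectedComponent
      have : (⟨z, hzF⟩ : F) ∈ closure (Subtype.val ⁻¹' connectedComponentIn F x : Set F) := by
        rw [Topology.IsInducing.subtypeVal.closure_eq_preimage_closure_image]
        rw [Subtype.image_preimage_coe]
        change z ∈ closure (F ∩ connectedComponentIn F x)
        rw [Set.inter_eq_right.mpr (connectedComponentIn_subset F x)]
        exact hz
      rw [hcl.closure_eq] at this
      exact this
    · rw [connectedComponentIn_eq_empty hx] at hz
      simp at hz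
  · intro z hz
    exact ⟨connectedComponentIn_subset F x hz, subset_closure hz⟩

theorem mem_connectedComponentIn_of_specializes (F : Set X) (x ξ : X) (hx : x ∈ F) (hξ : ξ ∈ F)
    (h : ξ ⤳ x) : ξ ∈ connectedComponentIn F x := by
  have hpre : _root_.IsPreconnected ({ξ, x} : Set X) := by
    apply (isPreconnected_singleton (x := ξ)).subset_closure
    · intro z hz; simp at hz; simp [hz]
    · intro z hz
      simp only [Set.mem_insert_iff, Set.mem_singleton_iff] at hz
      rcases hz with rfl | rfl
      · exact subset_closure rfl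
      · exact specializes_iff_mem_closure.mp h
  have hsub : ({ξ, x} : Set X) ⊆ F := by
    intro z hz
    simp only [Set.mem_insert_iff, Set.mem_singleton_iff] at hz
    rcases hz with rfl | rfl
    · exact hξ
    · exact hx
  exact hpre.subset_connectedComponentIn (by simp) hsub (by simp)

theorem dim_le_iff (g : Y ⟶ X) (hg : g ≫ f = 𝟙 Y) (y : Y) (ξ : X)
    (hξC : ξ ∈ connectedComponentIn (f.base ⁻¹' {y}) (g.base y))
    (hgen : ∀ x ∈ connectedComponentIn (f.base ⁻¹' {y}) (g.base y), ξ ⤳ x) (d : WithBot ℕ∞) :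
    topologicalKrullDim ↥(connectedComponentIn (f.base ⁻¹' {y}) (g.base y)) ≤ d ↔
      FlatMor.fibreDimAt f (g.base y) ≤ d := by
  have hgy : f.base (g.base y) = y := by
    rw [← Scheme.Hom.comp_apply, hg]; rfl
  have hgF : g.base y ∈ f.base ⁻¹' {y} := hgy
  have h1 := dim_fibre_inter_le_iff f y (closure (connectedComponentIn (f.base ⁻¹' {y}) (g.base y)))
    isClosed_closure d
  have heq := inter_closure_eq (f.base ⁻¹' {y}) (g.base y)
  rw [heq] at h1
  rw [h1, fibreDimAt_le_iff]
  constructor
  · intro h ξ' hξ' hfξ'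
    have hξ'F : ξ' ∈ f.base ⁻¹' {y} := hfξ'.trans hgy
    have : ξ' ∈ connectedComponentIn (f.base ⁻¹' {y}) (g.base y) :=
      mem_connectedComponentIn_of_specializes _ _ _ hgF hξ'F hξ'
    exact h ξ' (subset_closure this) hξ'F
  · intro h x hx hfx
    have hxC : x ∈ connectedComponentIn (f.base ⁻¹' {y}) (g.base y) := by
      rw [← heq]; exact ⟨hfx, hx⟩
    have hξg := hgen _ (mem_connectedComponentIn hgF)
    have hξF : f.base ξ = y := by
      have h6 : ξ ∈ f.base ⁻¹' {y} := connectedComponentIn_subset _ _ hξC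
      exact h6
    have h2 := h ξ hξg (hξF.trans hgy.symm)
    have h3 := tdR_le_of_specializes f (hgen x hxC) (hξF.trans hfx.symm)
    have h4 : ((tdR f x : ℕ) : WithBot ℕ∞) ≤ ((tdR f ξ : ℕ) : WithBot ℕ∞) := by exact_mod_cast h3
    exact h4.trans h2

theorem exists_generic (g : Y ⟶ X) (hg : g ≫ f = 𝟙 Y) (y : Y)
    (hirr : IsIrreducible ((FBase.bcπ (f.fiberToSpecResidueField y)
      (IsLocalRing.ResidueField (Y.presheaf.stalk y)) ≫ f.fiberι y).base ⁻¹'
        connectedComponentIn (f.base ⁻¹' {y}) (g.base y))) :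
    ∃ ξ ∈ connectedComponentIn (f.base ⁻¹' {y}) (g.base y),
      ∀ x ∈ connectedComponentIn (f.base ⁻¹' {y}) (g.base y), ξ ⤳ x := by
  set C := connectedComponentIn (f.base ⁻¹' {y}) (g.base y) with hC
  haveI hiso : IsIso (Spec.map (CommRingCat.ofHom (algebraMap
      (IsLocalRing.ResidueField (Y.presheaf.stalk y))
      (IsLocalRing.ResidueField (Y.presheaf.stalk y))))) := by
    have : Spec.map (CommRingCat.ofHom (algebraMap (IsLocalRing.ResidueField (Y.presheaf.stalk y))
        (IsLocalRing.ResidueField (Y.presheaf.stalk y)))) = 𝟙 _ := by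
      rw [Algebra.algebraMap_self]
      exact Spec.map_id _
    rw [this]; infer_instance
  haveI : IsIso (FBase.bcπ (f.fiberToSpecResidueField y)
      (IsLocalRing.ResidueField (Y.presheaf.stalk y))) := by
    unfold FBase.bcπ
    exact Limits.pullback_fst_iso_of_right_iso _ _
  set π := FBase.bcπ (f.fiberToSpecResidueField y)
    (IsLocalRing.ResidueField (Y.presheaf.stalk y)) with hπ
  set j := π ≫ f.fiberι y with hj
  haveI : Surjective π := inferInstance
  have hrange : ∀ p, j.base p ∈ f.base ⁻¹' {y} := by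
    intro p
    have : j.base p ∈ Set.range (f.fiberι y).base := ⟨π.base p, by rw [hj]; rfl⟩
    rwa [Scheme.Hom.range_fiberι] at this
  have heq := inter_closure_eq (f.base ⁻¹' {y}) (g.base y)
  have hS : j.base ⁻¹' C = j.base ⁻¹' (closure C) := by
    ext p
    constructor
    · intro hp; exact subset_closure hp
    · intro hp
      change j.base p ∈ C
      rw [hC, ← heq]
      exact ⟨hrange p, hp⟩
  have hScl : IsClosed (j.base ⁻¹' C) := by
    rw [hS]; exact isClosed_closure.preimage j.continuous
  obtain ⟨ζ, hζ⟩ := QuasiSober.sober hirr hScl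
  refine ⟨j.base ζ, ?_, ?_⟩
  · have : ζ ∈ j.base ⁻¹' C := by
      rw [← hζ.def]; exact subset_closure rfl
    exact this
  · intro x hx
    have hxF : x ∈ Set.range (f.fiberι y).base := by
      rw [Scheme.Hom.range_fiberι]; exact connectedComponentIn_subset _ _ hx
    obtain ⟨z, rfl⟩ := hxF
    obtain ⟨p, rfl⟩ := Surjective.surj (f := π) z
    have hp : p ∈ j.base ⁻¹' C := hx
    rw [← hζ.def] at hp
    exact (specializes_iff_mem_closure.mpr hp).map j.continuous

theorem exists_nat (g : Y ⟶ X) (hg : g ≫ f = 𝟙 Y) (y : Y) (ξ : X)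
    (hξC : ξ ∈ connectedComponentIn (f.base ⁻¹' {y}) (g.base y))
    (hgen : ∀ x ∈ connectedComponentIn (f.base ⁻¹' {y}) (g.base y), ξ ⤳ x) :
    topologicalKrullDim ↥(connectedComponentIn (f.base ⁻¹' {y}) (g.base y)) =
      ((tdR f ξ : ℕ) : WithBot ℕ∞) := by
  have h1 := fun d => dim_fibre_inter_le_iff f y
    (closure (connectedComponentIn (f.base ⁻¹' {y}) (g.base y))) isClosed_closure d
  have heq := inter_closure_eq (f.base ⁻¹' {y}) (g.base y)
  rw [heq] at h1
  have hξF : f.base ξ = y := by
    have h6 : ξ ∈ f.base ⁻¹' {y} := connectedComponentIn_subset _ _ hξC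
    exact h6
  apply le_antisymm
  · rw [h1]
    intro x hx hfx
    have hxC : x ∈ connectedComponentIn (f.base ⁻¹' {y}) (g.base y) := by
      rw [← heq]; exact ⟨hfx, hx⟩
    have h3 := tdR_le_of_specializes f (hgen x hxC) (hξF.trans hfx.symm)
    exact_mod_cast h3
  · exact (h1 _).mp le_rfl ξ (subset_closure hξC) hξF

end Helpers

/-- Let f : X ⟶ Y be a morphism of finite presentation with a section g : Y ⟶ X, and for y in Y let
X_y^0 be the connected component of f⁻¹(y) containing g y. Suppose that every X_y^0 is geometrically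
irreducible over κ(y) (its preimage in X_y ⊗ K is irreducible for every field extension K of κ(y)).
Then the function y ↦ dim X_y^0 is upper semicontinuous on Y. -/
theorem result {X Y : Scheme.{u}} (f : X ⟶ Y)
    [LocallyOfFinitePresentation f] [QuasiCompact f] [QuasiSeparated f] (g : Y ⟶ X) (hg : g ≫ f = 𝟙 Y)
    (hirr : ∀ y : Y, (∀ (K : Type u) [Field K] [Algebra (IsLocalRing.ResidueField (Y.presheaf.stalk y)) K],
        IsIrreducible ((FBase.bcπ (f.fiberToSpecResidueField y) K ≫ f.fiberι y).base ⁻¹' connectedComponentIn (f.base ⁻¹' {y}) (g.base y)))) :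
    UpperSemicontinuous (fun y : Y => topologicalKrullDim ↥(connectedComponentIn (f.base ⁻¹' {y}) (g.base y))) := by
  have key : ∀ (y : Y) (d : WithBot ℕ∞),
      topologicalKrullDim ↥(connectedComponentIn (f.base ⁻¹' {y}) (g.base y)) ≤ d ↔
        FlatMor.fibreDimAt f (g.base y) ≤ d := by
    intro y d
    obtain ⟨ξ, hξC, hgen⟩ := exists_generic f g hg y (hirr y _)
    exact dim_le_iff f g hg y ξ hξC hgen d
  have hnat : ∀ y : Y, ∃ m : ℕ,
      topologicalKrullDim ↥(connectedComponentIn (f.base ⁻¹' {y}) (g.base y)) = (m : WithBot ℕ∞) := by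
    intro y
    obtain ⟨ξ, hξC, hgen⟩ := exists_generic f g hg y (hirr y _)
    exact ⟨_, exists_nat f g hg y ξ hξC hgen⟩
  intro y₀ d hd
  obtain ⟨m, hm⟩ := hnat y₀
  have hopen : IsOpen {y : Y | FlatMor.fibreDimAt f (g.base y) ≤ (m : WithBot ℕ∞)} :=
    (Groth.Agent.Lib.Helper73.SchemeDim.isOpen_setOf_fibreDimAt_le f m).preimage g.continuous
  have hmem : y₀ ∈ {y : Y | FlatMor.fibreDimAt f (g.base y) ≤ (m : WithBot ℕ∞)} :=
    (key y₀ m).mp hm.le
  filter_upwards [hopen.mem_nhds hmem] with y hy
  have h1 := (key y m).mpr hy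
  have h2 : ((m : ℕ) : WithBot ℕ∞) < d := by rw [← hm]; exact hd
  exact lt_of_le_of_lt h1 h2

end Groth.Agent.S4954
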