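import Groth.Statements.S4952
import Mathlib
import Groth.Agent.Lib.Helper21.FibreClosureDim
import Groth.Agent.Lib.Helper21.FibreTd
import Groth.Agent.Lib.Helper21.EtaleTrdeg
import Groth.Agent.Lib.Helper73.FibreDimGen
import Groth.Agent.S4954
-- import your own Groth.Agent.* helpers here

set_option autoImplicit false
set_option linter.style.haveILetI false
set_option linter.unusedSectionVars false
set_option linter.unusedVariables false
open CategoryTheory AlgebraicGeometry
universe u v w
open EGA43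

namespace Groth.Agent.S4952

open Groth.Agent.Lib.Helper21.FieldDim Groth.Agent.Lib.Helper21.FibreClosureDim
open Groth.Agent.S4954

section Helpers

variable {X Y : Scheme.{u}} (f : X ⟶ Y) [LocallyOfFiniteType f]

/-- an irreducible subset of a fibre, closed in the fibre, has a generic point. -/
theorem exists_generic_of_irreducible (y : Y) (Z : Set X) (hZF : Z ⊆ f.base ⁻¹' {y})
    (hZ : IsIrreducible Z) (hcl : f.base ⁻¹' {y} ∩ closure Z = Z) :
    ∃ ζ ∈ Z, ∀ x ∈ Z, ζ ⤳ x := by
  obtain ⟨ζ, hζ⟩ := QuasiSober.sober hZ.closure isClosed_closure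
  have hζcl : ζ ∈ closure Z := by rw [← hζ.def]; exact subset_closure rfl
  obtain ⟨z, hz⟩ := hZ.1
  have h1 : ζ ⤳ z := by
    rw [specializes_iff_mem_closure, hζ.def]; exact subset_closure hz
  have h2 : f.base ζ ∈ closure ({y} : Set Y) := by
    have : f.base '' (closure Z) ⊆ closure (f.base '' Z) := image_closure_subset_closure_image f.continuous
    have h3 := this ⟨ζ, hζcl, rfl⟩
    have h4 : f.base '' Z ⊆ {y} := by
      rintro _ ⟨a, ha, rfl⟩; exact hZF ha
    exact closure_mono h4 h3
  have h5 : f.base ζ ⤳ y := by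
    have := h1.map f.continuous
    rwa [show f.base z = y from hZF hz] at this
  have h6 : f.base ζ = y :=
    (h5.antisymm (specializes_iff_mem_closure.mpr h2)).eq
  refine ⟨ζ, ?_, ?_⟩
  · rw [← hcl]; exact ⟨h6, hζcl⟩
  · intro x hx
    rw [specializes_iff_mem_closure, hζ.def]; exact subset_closure hx

theorem dim_eq_tdR (y : Y) (Z : Set X) (hcl : f.base ⁻¹' {y} ∩ closure Z = Z) (ζ : X) (hζ : ζ ∈ Z)
    (hgen : ∀ x ∈ Z, ζ ⤳ x) :
    topologicalKrullDim ↥Z = ((tdR f ζ : ℕ) : WithBot ℕ∞) := by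
  have h1 := fun d => dim_fibre_inter_le_iff f y (closure Z) isClosed_closure d
  rw [hcl] at h1
  have hζF : f.base ζ = y := by
    rw [← hcl] at hζ; exact hζ.1
  apply le_antisymm
  · rw [h1]
    intro x hx hfx
    have hxZ : x ∈ Z := by rw [← hcl]; exact ⟨hfx, hx⟩
    have h3 := tdR_le_of_specializes f (hgen x hxZ) (hζF.trans hfx.symm)
    exact_mod_cast h3
  · exact (h1 _).mp le_rfl ζ (subset_closure hζ) hζF

theorem tdR_comp_closedImmersion {W : Scheme.{u}} (ι : W ⟶ X) [IsClosedImmersion ι]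
    [LocallyOfFiniteType (ι ≫ f)] (w : W) : tdR (ι ≫ f) w = tdR f (ι.base w) := by
  have h1 := trdegAt_comp ι f w
  rw [trdegAt_eq_zero_of_locallyQuasiFinite ι w, add_zero, trdegAt_eq_tdR, trdegAt_eq_tdR] at h1
  exact_mod_cast h1

theorem fibreDimAt_mono (x x' : X) (h : x' ⤳ x) :
    FlatMor.fibreDimAt f x' ≤ FlatMor.fibreDimAt f x := by
  obtain ⟨_, n, -, -, -, hn⟩ :=
    Groth.Agent.Lib.Helper73.SchemeDim.exists_specializes_trdeg_eq_fibreDimAt f x
  rw [hn]
  have hopen := Groth.Agent.Lib.Helper73.SchemeDim.isOpen_setOf_fibreDimAt_le f n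
  exact h.mem_open hopen hn.le

end Helpers

/-- Let Y be a locally Noetherian scheme, f : X ⟶ Y a morphism locally of finite type and g : Y ⟶ X a
section of f; for z in Y let X_z^0 be the connected component of the fibre f⁻¹(z) containing g z (a
subset of X with the induced topology). Let y be a point of Y and y' a generization of y. (i) If
there is an irreducible component Z of f⁻¹(y') containing g y' with dim Z = dim X_{y'}^0, then dim
X_y^0 ≥ dim X_{y'}^0. (ii) If moreover X_y^0 is irreducible and dim X_y^0 = dim X_{y'}^0, then X_y^0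
is contained in the closure of X_{y'}^0 in X. -/
theorem result {X Y : Scheme.{u}} [IsLocallyNoetherian Y] (f : X ⟶ Y)
    [LocallyOfFiniteType f] (g : Y ⟶ X) (hg : g ≫ f = 𝟙 Y) (y y' : Y) (hy : y' ⤳ y)
    (hZ : ∃ Z : Set X, Z ⊆ f.base ⁻¹' {y'} ∧ IsIrreducible Z ∧
      (∀ Z' : Set X, IsIrreducible Z' → Z' ⊆ f.base ⁻¹' {y'} → Z ⊆ Z' → Z' = Z) ∧ g.base y' ∈ Z ∧
      topologicalKrullDim ↥Z = topologicalKrullDim ↥(connectedComponentIn (f.base ⁻¹' {y'}) (g.base y'))) :
    topologicalKrullDim ↥(connectedComponentIn (f.base ⁻¹' {y'}) (g.base y')) ≤ topologicalKrullDim ↥(connectedComponentIn (f.base ⁻¹' {y}) (g.base y)) ∧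
      (IsIrreducible (connectedComponentIn (f.base ⁻¹' {y}) (g.base y)) → topologicalKrullDim ↥(connectedComponentIn (f.base ⁻¹' {y}) (g.base y)) = topologicalKrullDim ↥(connectedComponentIn (f.base ⁻¹' {y'}) (g.base y')) →
        connectedComponentIn (f.base ⁻¹' {y}) (g.base y) ⊆ closure (connectedComponentIn (f.base ⁻¹' {y'}) (g.base y'))) := by
  obtain ⟨Z, hZF, hZirr, hZmax, hgZ, hdimZ⟩ := hZ
  have hgy : ∀ t : Y, f.base (g.base t) = t := by
    intro t; rw [← Scheme.Hom.comp_apply, hg]; rfl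
  have hgF : g.base y ∈ f.base ⁻¹' {y} := hgy y
  have hgF' : g.base y' ∈ f.base ⁻¹' {y'} := hgy y'
  have hsp : g.base y' ⤳ g.base y := hy.map g.continuous
  -- Z is closed in the fibre
  have hZcl : f.base ⁻¹' {y'} ∩ closure Z = Z := by
    apply hZmax
    · have h1 : closure (f.base ⁻¹' {y'} ∩ closure Z) = closure Z := by
        apply subset_antisymm
        · exact closure_minimal Set.inter_subset_right isClosed_closure
        · exact closure_mono (fun z hz => ⟨hZF hz, subset_closure hz⟩)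
      rw [← isIrreducible_iff_closure, h1, isIrreducible_iff_closure]
      exact hZirr
    · exact Set.inter_subset_left
    · exact fun z hz => ⟨hZF hz, subset_closure hz⟩
  obtain ⟨ζ, hζZ, hζgen⟩ := exists_generic_of_irreducible f y' Z hZF hZirr hZcl
  have hdZ := dim_eq_tdR f y' Z hZcl ζ hζZ hζgen
  have hζF : f.base ζ = y' := hZF hζZ
  -- Z ⊆ C'
  have hZC' : Z ⊆ connectedComponentIn (f.base ⁻¹' {y'}) (g.base y') :=
    hZirr.isConnected.isPreconnected.subset_connectedComponentIn hgZ hZF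
  -- fibreDimAt at g y ≤ dim C
  have heq := inter_closure_eq (f.base ⁻¹' {y}) (g.base y)
  have hC1 := fun d => dim_fibre_inter_le_iff f y
    (closure (connectedComponentIn (f.base ⁻¹' {y}) (g.base y))) isClosed_closure d
  rw [heq] at hC1
  have hfdC : FlatMor.fibreDimAt f (g.base y) ≤
      topologicalKrullDim ↥(connectedComponentIn (f.base ⁻¹' {y}) (g.base y)) := by
    rw [fibreDimAt_le_iff]
    intro ξ hξ hfξ
    have hξF : ξ ∈ f.base ⁻¹' {y} := hfξ.trans (hgy y)
    have hξC := mem_connectedComponentIn_of_specializes _ _ _ hgF hξF hξ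
    exact (hC1 _).mp le_rfl ξ (subset_closure hξC) hξF
  have hζle : ((tdR f ζ : ℕ) : WithBot ℕ∞) ≤ FlatMor.fibreDimAt f (g.base y') :=
    (fibreDimAt_le_iff f (g.base y') _).mp le_rfl ζ (hζgen _ hgZ) (hζF.trans (hgy y').symm)
  refine ⟨?_, ?_⟩
  · rw [← hdimZ, hdZ]
    exact hζle.trans ((fibreDimAt_mono f _ _ hsp).trans hfdC)
  · intro hCirr hdimeq
    set C := connectedComponentIn (f.base ⁻¹' {y}) (g.base y) with hC
    obtain ⟨ξ, hξC, hξgen⟩ := exists_generic_of_irreducible f y C
      (connectedComponentIn_subset _ _) hCirr heq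
    have hdC := dim_eq_tdR f y C heq ξ hξC hξgen
    have hn : tdR f ξ = tdR f ζ := by
      have : ((tdR f ξ : ℕ) : WithBot ℕ∞) = ((tdR f ζ : ℕ) : WithBot ℕ∞) := by
        rw [← hdC, hdimeq, ← hdimZ, hdZ]
      exact_mod_cast this
    -- the closure of ζ as a scheme
    let W : TopologicalSpace.Closeds X := ⟨closure {ζ}, isClosed_closure⟩
    let ι := (Scheme.IdealSheafData.vanishingIdeal W).subschemeι
    have hrange : Set.range ι.base = closure {ζ} := by
      rw [Scheme.IdealSheafData.range_subschemeι, Scheme.IdealSheafData.coe_support_vanishingIdeal]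
      rfl
    haveI : LocallyOfFiniteType (ι ≫ f) := inferInstance
    have hgy'cl : g.base y' ∈ closure ({ζ} : Set X) := specializes_iff_mem_closure.mp (hζgen _ hgZ)
    have hgycl : g.base y ∈ closure ({ζ} : Set X) :=
      specializes_iff_mem_closure.mp ((hζgen _ hgZ).trans hsp)
    obtain ⟨w', hw'⟩ : g.base y' ∈ Set.range ι.base := by rw [hrange]; exact hgy'cl
    obtain ⟨w, hw⟩ : g.base y ∈ Set.range ι.base := by rw [hrange]; exact hgycl
    obtain ⟨ζ', hζ'⟩ : ζ ∈ Set.range ι.base := by rw [hrange]; exact subset_closure rfl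
    have hind := ι.isEmbedding.isInducing
    have hw'w : w' ⤳ w := by
      rw [← hind.specializes_iff, hw', hw]; exact hsp
    have hζ'w' : ζ' ⤳ w' := by
      rw [← hind.specializes_iff, hw', hζ']; exact hζgen _ hgZ
    have h1 : ((tdR (ι ≫ f) ζ' : ℕ) : WithBot ℕ∞) ≤ FlatMor.fibreDimAt (ι ≫ f) w' := by
      refine (fibreDimAt_le_iff (ι ≫ f) w' _).mp le_rfl ζ' hζ'w' ?_
      rw [Scheme.Hom.comp_apply, Scheme.Hom.comp_apply, hζ', hw', hζF, hgy y']
    have h2 := fibreDimAt_mono (ι ≫ f) _ _ hw'w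
    obtain ⟨τ', m, hτ'w, hτ'f, hm, hF⟩ :=
      Groth.Agent.Lib.Helper73.SchemeDim.exists_specializes_trdeg_eq_fibreDimAt (ι ≫ f) w
    have hmτ : tdR (ι ≫ f) τ' = m := tdR_eq_of_trdegAt_eq (ι ≫ f) hm
    rw [tdR_comp_closedImmersion] at hmτ h1
    rw [hζ'] at h1
    have hnm : tdR f ζ ≤ m := by
      have := h1.trans (h2.trans hF.le)
      exact_mod_cast this
    set τ := ι.base τ' with hτ
    have hτsp : τ ⤳ g.base y := by
      have := hτ'w.map ι.continuous
      rwa [hw] at this
    have hτF : f.base τ = y := by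
      have : (ι ≫ f).base τ' = (ι ≫ f).base w := hτ'f
      rw [Scheme.Hom.comp_apply, Scheme.Hom.comp_apply, hw, hgy y] at this
      exact this
    have hτC : τ ∈ C := mem_connectedComponentIn_of_specializes _ _ _ hgF hτF hτsp
    have hξτ : ξ = τ := by
      by_contra hne
      have hξF : ξ ∈ f.base ⁻¹' {y} := connectedComponentIn_subset _ _ hξC
      have hξF' : f.base ξ = y := hξF
      have := tdR_lt_of_specializes f (hξgen τ hτC) hne (hξF'.trans hτF.symm)
      omega
    have hξcl : ξ ∈ closure (connectedComponentIn (f.base ⁻¹' {y'}) (g.base y')) := by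
      have h3 : ξ ∈ closure ({ζ} : Set X) := by
        rw [hξτ, ← hrange]; exact ⟨τ', rfl⟩
      exact closure_mono (Set.singleton_subset_iff.mpr (hZC' hζZ)) h3
    intro x hx
    have := hξgen x hx
    exact this.mem_closed isClosed_closure hξcl

end Groth.Agent.S4952
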