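import Groth.Statements.S4969
import Mathlib
import Groth.Agent.S1416
import Groth.Agent.S4952
import Groth.Agent.Lib.Helper73.FibreDimCons
import Groth.Agent.Lib.Helper73.FibreDimGen2
import Groth.Agent.Lib.QCoh.Helper74_FittFG
import Groth.Agent.Lib.QCoh.Helper74_FittSheaf
import Groth.Agent.Lib.QCoh.Helper50_SubschemeLFP
-- import your own Groth.Agent.* helpers here

set_option autoImplicit false
set_option linter.style.haveILetI false
set_option linter.unusedSectionVars false
set_option linter.unusedVariables false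
open CategoryTheory AlgebraicGeometry
universe u v w
open EGA43

namespace Groth.Agent.S4969

open CategoryTheory AlgebraicGeometry Topology
open Groth.Agent.Lib.Helper21.FieldDim Groth.Agent.Lib.Helper21.FibreClosureDim
open Groth.Agent.Lib.Helper21 Groth.Agent.Lib.Helper21.ValTrdeg
open CategoryTheory.Limits
open Groth.Agent.Lib.QCoh

section Helpers

/-- a locally constructible subset of a scheme stable under generization is open. -/
theorem isOpen_of_isLocallyConstructible_of_stableUnderGeneralization {Y : Scheme.{u}} (s : Set Y)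
    (hs : IsLocallyConstructible s) (hg : StableUnderGeneralization s) : IsOpen s := by
  rw [isOpen_iff_forall_mem_open]
  intro y hy
  obtain ⟨_, ⟨U, hU : IsAffineOpen U, rfl⟩, hyU, -⟩ :=
    (Y.isBasis_affineOpens).exists_subset_of_mem_open (Set.mem_univ y) isOpen_univ
  have hemb : IsOpenEmbedding hU.fromSpec := hU.fromSpec.isOpenEmbedding
  have h1 : IsLocallyConstructible (hU.fromSpec ⁻¹' s) := hs.preimage_of_isOpenEmbedding hemb
  have h2 : IsConstructible (hU.fromSpec ⁻¹' s) := by
    have : IsLocallyConstructible ((hU.fromSpec ⁻¹' s : Set (Spec Γ(Y, U))) : Set (PrimeSpectrum Γ(Y, U))) := h1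
    exact this.isConstructible
  have h3 : StableUnderGeneralization ((hU.fromSpec ⁻¹' s : Set (Spec Γ(Y, U))) : Set (PrimeSpectrum Γ(Y, U))) := by
    intro a b hab ha
    exact hg (hab.map hU.fromSpec.continuous) ha
  have h4 : IsOpen ((hU.fromSpec ⁻¹' s : Set (Spec Γ(Y, U))) : Set (PrimeSpectrum Γ(Y, U))) :=
    PrimeSpectrum.isOpen_of_stableUnderGeneralization_of_isConstructible h3 h2
  refine ⟨hU.fromSpec '' (hU.fromSpec ⁻¹' s), ?_, hemb.isOpenMap _ h4, ?_⟩
  · rintro _ ⟨a, ha, rfl⟩; exact ha
  · have : y ∈ Set.range hU.fromSpec := by rw [hU.range_fromSpec]; exact hyU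
    obtain ⟨a, rfl⟩ := this
    exact ⟨a, hy, rfl⟩

/-- the dimension of the support of a flat module in a fibre does not increase under
specialization of the base point. -/
theorem dim_support_fibre_le_of_specializes {X S : Scheme.{u}} (f : X ⟶ S) [LocallyOfFiniteType f]
    (F : X.Modules) [F.IsQuasicoherent] [F.IsFiniteType] (hfl : FlatMod.IsFlatOver f F)
    {s' s : S} (hs : s' ⤳ s) :
    topologicalKrullDim ↑(f ⁻¹' {s} ∩ CohB1.support F) ≤
      topologicalKrullDim ↑(f ⁻¹' {s'} ∩ CohB1.support F) := by
  have hcl : IsClosed (CohB1.support F) := isClosed_support_of_isFT F inferInstance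
  have h := (dim_fibre_inter_le_iff f s' _ hcl _).mp le_rfl
  rw [dim_fibre_inter_le_iff f _ _ hcl]
  intro c hc hfc
  obtain ⟨R, _, _, _, φ, hφm, hφη⟩ :=
    Groth.Agent.Lib.Helper21.OpenGeneralizing.exists_valuationRing_of_specializes hs
  set m : Spec (CommRingCat.of R) := IsLocalRing.closedPoint R with hm
  obtain ⟨c', hc'1, hc'2, hc'3⟩ := exists_tdR_snd_eq f φ c m (hfc.trans hφm.symm)
  have hGqc : ((Scheme.Modules.pullback (pullback.fst f φ)).obj F).IsQuasicoherent :=
    isQuasicoherent_pullback _ F
  have hGfl : FlatMod.IsFlatOver (pullback.snd f φ)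
      ((Scheme.Modules.pullback (pullback.fst f φ)).obj F) :=
    isFlatOver_pullback_of_isPullback f φ (pullback.fst f φ) (pullback.snd f φ)
      (IsPullback.of_hasPullback f φ) F hfl
  have hsupp := support_pullback (pullback.fst f φ) F
  have hc'G : c' ∈ CohB1.support ((Scheme.Modules.pullback (pullback.fst f φ)).obj F) := by
    rw [hsupp]
    change (pullback.fst f φ) c' ∈ CohB1.support F
    rw [hc'1]; exact hc
  obtain ⟨ζ, hζc', hζη, hζG⟩ :=
    Groth.Agent.S1416.exists_generization_support (pullback.snd f φ) _ hGfl c' hc'G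
  have h4 : tdR (pullback.snd f φ) c' ≤ tdR (pullback.snd f φ) ζ :=
    tdR_le_of_valuation' (pullback.snd f φ) hζc'
  have h5 := tdR_snd_le f φ ζ
  have hz1 : f ((pullback.fst f φ) ζ) = s' := by
    rw [← Scheme.Hom.comp_apply, pullback.condition, Scheme.Hom.comp_apply]
    exact hφη _ hζη
  have hz2 : (pullback.fst f φ) ζ ∈ CohB1.support F := by
    rw [hsupp] at hζG
    exact hζG
  have h8 := h _ hz2 hz1
  refine le_trans ?_ h8
  have : tdR f c ≤ tdR f ((pullback.fst f φ) ζ) := by
    rw [← hc'3]; exact h4.trans h5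
  exact_mod_cast this

theorem eq_of_le_of_not_succ_le (a : WithBot ℕ∞) (n : ℕ) (h1 : (n : WithBot ℕ∞) ≤ a)
    (h2 : ¬ ((n + 1 : ℕ) : WithBot ℕ∞) ≤ a) : a = n := by
  induction a using WithBot.recBotCoe with
  | bot =>
    exfalso
    have : ((n : ℕ∞) : WithBot ℕ∞) ≤ ⊥ := by exact_mod_cast h1
    exact WithBot.not_coe_le_bot _ this
  | coe e =>
    induction e using ENat.recTopCoe with
    | top => exact absurd le_top h2
    | coe k =>
      have h1' : n ≤ k := by exact_mod_cast h1
      have h2' : ¬ n + 1 ≤ k := by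
        intro h; apply h2; exact_mod_cast h
      have : k = n := by omega
      subst this
      rfl

theorem eq_bot_of_not_zero_le (a : WithBot ℕ∞) (h : ¬ ((0 : ℕ) : WithBot ℕ∞) ≤ a) : a = ⊥ := by
  induction a using WithBot.recBotCoe with
  | bot => rfl
  | coe e =>
    exfalso; apply h
    have : ((0 : ℕ∞) : WithBot ℕ∞) ≤ (e : WithBot ℕ∞) := WithBot.coe_le_coe.mpr zero_le
    exact_mod_cast this

/-- the dimension of a fibre in terms of residue transcendence degrees. -/
theorem dim_fiber_le_iff {Z Y : Scheme.{u}} (g : Z ⟶ Y) [LocallyOfFiniteType g] (y : Y)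
    (d : WithBot ℕ∞) :
    topologicalKrullDim ↥(g.fiber y) ≤ d ↔ ∀ z : Z, g z = y → ((tdR g z : ℕ) : WithBot ℕ∞) ≤ d := by
  have h1 := dim_fibre_inter_le_iff g y Set.univ isClosed_univ d
  have hsub : g ⁻¹' {y} ∩ Set.univ ⊆ Set.range (g.fiberι y) := by
    rw [Scheme.Hom.range_fiberι]; exact Set.inter_subset_left
  have e := (g.fiberι y).isEmbedding.homeomorphOfSubsetRange hsub
  have hmem : ∀ z : g.fiber y, g (g.fiberι y z) = y := by
    intro z
    have : g.fiberι y z ∈ Set.range (g.fiberι y) := ⟨z, rfl⟩
    rw [Scheme.Hom.range_fiberι] at this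
    exact this
  have hset : (g.fiberι y) ⁻¹' (g ⁻¹' {y} ∩ Set.univ) = Set.univ := by
    ext z
    simp only [Set.mem_preimage, Set.mem_inter_iff, Set.mem_univ, and_true, iff_true]
    exact hmem z
  rw [← e.isHomeomorph.topologicalKrullDim_eq] at h1
  rw [hset] at h1
  rw [← (Homeomorph.Set.univ (g.fiber y)).isHomeomorph.topologicalKrullDim_eq]
  rw [h1]
  constructor
  · intro h z hz; exact h z (Set.mem_univ _) hz
  · intro h z _ hz; exact h z hz

end Helpers

/-- Let f : X ⟶ Y be a proper morphism of finite presentation and F a finitely presented O_X-module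
which is f-flat; for y in Y let F_y be the restriction of F to the fibre X_y. Then the function y ↦
dim Supp(F_y) is locally constant on Y. -/
theorem result {X Y : Scheme.{u}} (f : X ⟶ Y) [IsProper f]
    [LocallyOfFinitePresentation f] (F : X.Modules) (hF : CohB1.IsFP F) (hflat : FlatMod.IsFlatOver f F) :
    IsLocallyConstant (fun y : Y => topologicalKrullDim ↥{z : ↥(f.fiber y) | Nontrivial (((Scheme.Modules.pullback (f.fiberι y)).obj F).presheaf.stalk z)}) := by
  haveI : F.IsFinitePresentation := hF
  haveI : F.IsQuasicoherent := by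
    obtain ⟨σ, _⟩ := SheafOfModules.IsFinitePresentation.exists_quasicoherentData (R := X.ringCatSheaf) F
    exact σ.isQuasicoherent
  haveI : F.IsFiniteType := by
    obtain ⟨σ, hσ⟩ :=
      SheafOfModules.IsFinitePresentation.exists_quasicoherentData (R := X.ringCatSheaf) F
    have h2 : σ.localGeneratorsData.IsFiniteType := by
      constructor
      intro i
      have := hσ.isFinite_presentation i
      exact (inferInstance : (σ.presentation i).generators.IsFiniteType)
    constructor
    exact ⟨σ.localGeneratorsData, h2⟩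
  have hcl : IsClosed (CohB1.support F) := isClosed_support_of_isFT F inferInstance
  have hI : ∀ V : X.affineOpens, ((Fitt.sheafIdeal F 0).ideal V).FG :=
    Groth.Agent.Lib.QCoh.FittSheaf74.isFiniteTypeIdeal_sheafIdeal F 0
  haveI : LocallyOfFinitePresentation (Fitt.sheafIdeal F 0).subschemeι :=
    Groth.Agent.Lib.QCoh.SubschemeLFP.locallyOfFinitePresentation_subschemeι _ hI
  haveI : IsProper ((Fitt.sheafIdeal F 0).subschemeι ≫ f) := inferInstance
  haveI : LocallyOfFinitePresentation ((Fitt.sheafIdeal F 0).subschemeι ≫ f) := inferInstance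
  haveI : LocallyOfFiniteType ((Fitt.sheafIdeal F 0).subschemeι ≫ f) := inferInstance
  have hrange : Set.range (Fitt.sheafIdeal F 0).subschemeι = CohB1.support F := by
    rw [Scheme.IdealSheafData.range_subschemeι, Groth.Agent.Lib.QCoh.FittSheaf74.support_zero_eq]
  -- identify the function with the fibre dimension of the Fitting subscheme
  have hN : ∀ y : Y, topologicalKrullDim ↥{z : ↥(f.fiber y) | Nontrivial (((Scheme.Modules.pullback (f.fiberι y)).obj F).presheaf.stalk z)} =
      topologicalKrullDim ↥(((Fitt.sheafIdeal F 0).subschemeι ≫ f).fiber y) := by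
    intro y
    have hmem : ∀ z : f.fiber y, f (f.fiberι y z) = y := by
      intro z
      have : f.fiberι y z ∈ Set.range (f.fiberι y) := ⟨z, rfl⟩
      rw [Scheme.Hom.range_fiberι] at this
      exact this
    have hset : {z : ↥(f.fiber y) | Nontrivial (((Scheme.Modules.pullback (f.fiberι y)).obj F).presheaf.stalk z)} =
        (f.fiberι y) ⁻¹' (f ⁻¹' {y} ∩ CohB1.support F) := by
      ext z
      have h1 := support_pullback (f.fiberι y) F
      have h2 : z ∈ CohB1.support ((Scheme.Modules.pullback (f.fiberι y)).obj F) ↔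
          (f.fiberι y) z ∈ CohB1.support F := by rw [h1]; rfl
      constructor
      · intro hz
        refine ⟨hmem z, h2.mp ?_⟩
        exact not_subsingleton_iff_nontrivial.mpr hz
      · intro hz
        exact not_subsingleton_iff_nontrivial.mp (h2.mpr hz.2)
    rw [hset]
    have hsub : f ⁻¹' {y} ∩ CohB1.support F ⊆ Set.range (f.fiberι y) := by
      rw [Scheme.Hom.range_fiberι]; exact Set.inter_subset_left
    have e := (f.fiberι y).isEmbedding.homeomorphOfSubsetRange hsub
    rw [e.isHomeomorph.topologicalKrullDim_eq]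
    apply eq_of_forall_ge_iff
    intro d
    rw [dim_fibre_inter_le_iff f y _ hcl, dim_fiber_le_iff]
    constructor
    · intro h z hz
      rw [Groth.Agent.S4952.tdR_comp_closedImmersion f (Fitt.sheafIdeal F 0).subschemeι z]
      refine h _ ?_ hz
      rw [← hrange]; exact ⟨z, rfl⟩
    · intro h x hx hfx
      rw [← hrange] at hx
      obtain ⟨z, rfl⟩ := hx
      rw [← Groth.Agent.S4952.tdR_comp_closedImmersion f (Fitt.sheafIdeal F 0).subschemeι z]
      exact h z hfx
  have hfun : (fun y : Y => topologicalKrullDim ↥{z : ↥(f.fiber y) | Nontrivial (((Scheme.Modules.pullback (f.fiberι y)).obj F).presheaf.stalk z)}) =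
      fun y : Y => topologicalKrullDim ↥(((Fitt.sheafIdeal F 0).subschemeι ≫ f).fiber y) := funext hN
  rw [hfun]
  -- level sets are open and closed
  have hmono : ∀ {y' y : Y}, y' ⤳ y →
      topologicalKrullDim ↥(((Fitt.sheafIdeal F 0).subschemeι ≫ f).fiber y) ≤
        topologicalKrullDim ↥(((Fitt.sheafIdeal F 0).subschemeι ≫ f).fiber y') := by
    intro y' y hy
    have h1 := dim_support_fibre_le_of_specializes f F hflat hy
    have e1 : ∀ y : Y, topologicalKrullDim ↥(((Fitt.sheafIdeal F 0).subschemeι ≫ f).fiber y) =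
        topologicalKrullDim ↑(f ⁻¹' {y} ∩ CohB1.support F) := by
      intro y
      apply eq_of_forall_ge_iff
      intro d
      rw [dim_fibre_inter_le_iff f y _ hcl, dim_fiber_le_iff]
      constructor
      · intro h x hx hfx
        rw [← hrange] at hx
        obtain ⟨z, rfl⟩ := hx
        rw [← Groth.Agent.S4952.tdR_comp_closedImmersion f (Fitt.sheafIdeal F 0).subschemeι z]
        exact h z hfx
      · intro h z hz
        rw [Groth.Agent.S4952.tdR_comp_closedImmersion f (Fitt.sheafIdeal F 0).subschemeι z]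
        refine h _ ?_ hz
        rw [← hrange]; exact ⟨z, rfl⟩
    rw [e1, e1]; exact h1
  have hopen : ∀ m : ℕ, IsOpen {y : Y | (m : WithBot ℕ∞) ≤
      topologicalKrullDim ↥(((Fitt.sheafIdeal F 0).subschemeι ≫ f).fiber y)} := by
    intro m
    apply isOpen_of_isLocallyConstructible_of_stableUnderGeneralization
    · exact Groth.Agent.Lib.Helper73.FibreDimCons.isLocallyConstructible_setOf_le_dim_fiber _ m
    · intro y y' hy hm
      exact le_trans hm (hmono hy)
  have hclosed : ∀ m : ℕ, IsClosed {y : Y | (m : WithBot ℕ∞) ≤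
      topologicalKrullDim ↥(((Fitt.sheafIdeal F 0).subschemeι ≫ f).fiber y)} := by
    intro m
    exact Groth.Agent.Lib.Helper73.SchemeDim.isClosed_setOf_le_topologicalKrullDim_fiber _
      (Scheme.Hom.isClosedMap _) m
  have hnetop := fun y : Y => Groth.Agent.Lib.Helper73.FibreDimCons.topologicalKrullDim_fiber_ne_top
    ((Fitt.sheafIdeal F 0).subschemeι ≫ f) y
  rw [IsLocallyConstant.iff_eventually_eq]
  intro y
  generalize hv : topologicalKrullDim ↥(((Fitt.sheafIdeal F 0).subschemeι ≫ f).fiber y) = v
  induction v using WithBot.recBotCoe with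
  | bot =>
    have h0 : y ∈ {y : Y | ((0 : ℕ) : WithBot ℕ∞) ≤
        topologicalKrullDim ↥(((Fitt.sheafIdeal F 0).subschemeι ≫ f).fiber y)}ᶜ := by
      intro h
      have h' : ((0 : ℕ) : WithBot ℕ∞) ≤ ⊥ := by rw [← hv]; exact h
      have : ((0 : ℕ∞) : WithBot ℕ∞) ≤ ⊥ := by exact_mod_cast h'
      exact WithBot.not_coe_le_bot _ this
    filter_upwards [(hclosed 0).isOpen_compl.mem_nhds h0] with y' hy'
    exact eq_bot_of_not_zero_le _ hy'
  | coe e =>
    induction e using ENat.recTopCoe with
    | top => exact absurd hv (hnetop y)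
    | coe n =>
      have h1 : y ∈ {y : Y | ((n : ℕ) : WithBot ℕ∞) ≤
          topologicalKrullDim ↥(((Fitt.sheafIdeal F 0).subschemeι ≫ f).fiber y)} := by
        change ((n : ℕ) : WithBot ℕ∞) ≤ _
        rw [hv]; rfl
      have h2 : y ∈ {y : Y | ((n + 1 : ℕ) : WithBot ℕ∞) ≤
          topologicalKrullDim ↥(((Fitt.sheafIdeal F 0).subschemeι ≫ f).fiber y)}ᶜ := by
        intro h
        have h' : ((n + 1 : ℕ) : WithBot ℕ∞) ≤ ((n : ℕ∞) : WithBot ℕ∞) := by rw [← hv]; exact h
        have : n + 1 ≤ n := by exact_mod_cast h'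
        omega
      filter_upwards [(hopen n).mem_nhds h1, (hclosed (n + 1)).isOpen_compl.mem_nhds h2] with y' hy1 hy2
      exact eq_of_le_of_not_succ_le _ n hy1 hy2

end Groth.Agent.S4969
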