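import Groth.Statements.S14733
import Mathlib
import Groth.Agent.S4969
-- import your own Groth.Agent.* helpers here

set_option autoImplicit false
set_option linter.style.haveILetI false
set_option linter.unusedSectionVars false
set_option linter.unusedVariables false
open CategoryTheory AlgebraicGeometry
universe u
open ValPrufer

namespace Groth.Agent.S14733

open CategoryTheory AlgebraicGeometry Topology
open Groth.Agent.Lib.Helper21.FieldDim Groth.Agent.Lib.Helper21.FibreClosureDim
open Groth.Agent.Lib.Helper21 Groth.Agent.Lib.Helper21.ValTrdeg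
open CategoryTheory.Limits

/-- Let R be a Prüfer domain (an integral domain whose localisations at primes are valuation rings), X
an irreducible scheme and f : X ⟶ Spec R a dominant morphism of finite type. If the fibre of f over
a point γ of Spec R is nonempty, then it has the same dimension as the fibre over the generic point. -/
theorem result
    (R : Type u) [CommRing R] [IsDomain R]
    (hR : ∀ (p : Ideal R) [p.IsPrime], ValuationRing (Localization.AtPrime p))
    (X : Scheme.{u}) [IrreducibleSpace X] (f : X ⟶ Spec (CommRingCat.of R))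
    [LocallyOfFiniteType f] [QuasiCompact f] [IsDominant f] (γ : Spec (CommRingCat.of R))
    (h0 : Nonempty ↥(f.fiber γ)) :
    topologicalKrullDim ↥(f.fiber γ) =
      topologicalKrullDim ↥(f.fiber (genericPoint (Spec (CommRingCat.of R)))) := by
  set ξ := genericPoint X with hξ
  have hξgen : ∀ z : X, ξ ⤳ z := fun z => (genericPoint_spec X).specializes (Set.mem_univ z)
  have hfξ : f ξ = genericPoint (Spec (CommRingCat.of R)) := by
    have h1 : IsGenericPoint (f ξ) (closure (f '' Set.univ)) :=
      (genericPoint_spec X).image f.continuous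
    rw [Set.image_univ, f.denseRange.closure_range] at h1
    exact (h1.eq (genericPoint_spec _))
  -- the generic fibre
  have hA : topologicalKrullDim ↥(f.fiber (genericPoint (Spec (CommRingCat.of R)))) =
      ((tdR f ξ : ℕ) : WithBot ℕ∞) := by
    apply le_antisymm
    · rw [Groth.Agent.S4969.dim_fiber_le_iff]
      intro z hz
      have := tdR_le_of_specializes f (hξgen z) (hfξ.trans hz.symm)
      exact_mod_cast this
    · exact (Groth.Agent.S4969.dim_fiber_le_iff f _ _).mp le_rfl ξ hfξ
  rw [hA]
  apply le_antisymm
  · -- valuation ring argument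
    rw [Groth.Agent.S4969.dim_fiber_le_iff]
    intro z hz
    haveI := γ.isPrime
    haveI : ValuationRing (Localization.AtPrime γ.asIdeal) := hR γ.asIdeal
    let φ : Spec (CommRingCat.of (Localization.AtPrime γ.asIdeal)) ⟶ Spec (CommRingCat.of R) :=
      Spec.map (CommRingCat.ofHom (algebraMap R (Localization.AtPrime γ.asIdeal)))
    have hφm : φ (IsLocalRing.closedPoint (Localization.AtPrime γ.asIdeal)) = γ := by
      apply PrimeSpectrum.ext
      exact IsLocalization.AtPrime.under_maximalIdeal (Localization.AtPrime γ.asIdeal) γ.asIdeal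
    haveI : Flat φ := by
      rw [Flat.SpecMap_iff]
      change (algebraMap R (Localization.AtPrime γ.asIdeal)).Flat
      rw [RingHom.flat_algebraMap_iff]
      exact IsLocalization.flat _ γ.asIdeal.primeCompl
    obtain ⟨c', hc'1, hc'2, hc'3⟩ := exists_tdR_snd_eq f φ z
      (IsLocalRing.closedPoint (Localization.AtPrime γ.asIdeal)) (hz.trans hφm.symm)
    haveI : Flat (pullback.fst f φ) := inferInstance
    have hgen := Flat.generalizingMap (pullback.fst f φ)
    obtain ⟨ζ, hζc', hζξ⟩ := hgen (a := c') (b := ξ) (by rw [hc'1]; exact hξgen z)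
    have h4 : tdR (pullback.snd f φ) c' ≤ tdR (pullback.snd f φ) ζ :=
      tdR_le_of_valuation' (pullback.snd f φ) hζc'
    have h5 := tdR_snd_le f φ ζ
    rw [hζξ] at h5
    rw [← hc'3]
    exact_mod_cast h4.trans h5
  · obtain ⟨z₀⟩ := h0
    have hz : f (f.fiberι γ z₀) = γ := by
      have : f.fiberι γ z₀ ∈ Set.range (f.fiberι γ) := ⟨z₀, rfl⟩
      rw [Scheme.Hom.range_fiberι] at this
      exact this
    have h1 := Groth.Agent.S4952.fibreDimAt_mono f _ _ (hξgen (f.fiberι γ z₀))
    have h2 := tdR_le_fibreDimAt f ξ
    have h3 := fibreDimAt_le_dim_fiber f (f.fiberι γ z₀)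
    rw [hz] at h3
    exact h2.trans (h1.trans h3)

end Groth.Agent.S14733
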