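import Groth.Statements.S1474
import Groth.Agent.Lib.Helper96.RegularFibres

set_option autoImplicit false
universe u
open FlatMor

namespace Groth.Agent.S1474

open Groth.Agent.Lib.Helper96.RegularFibres

open AlgebraicGeometry CategoryTheory Limits in
/-- (2) ⇔ (3): let f : X → Y have locally Noetherian fibres. Then the ring maps O_Y(V) → O_X(U) are
regular for all affine opens U ⊆ f⁻¹(V) if and only if f is flat and every fibre X_y is
geometrically regular over κ(y), i.e. every affine open of X_y has Noetherian, geometrically regular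
coordinate ring over κ(y). -/
theorem result {X Y : Scheme.{u}} (f : X ⟶ Y) (hN : ∀ y : Y, IsLocallyNoetherian (f.fiber y)) :
    (∀ (U : X.Opens) (V : Y.Opens) (hU : IsAffineOpen U) (hV : IsAffineOpen V) (hUV : U ≤ f ⁻¹ᵁ V),
        letI := (f.appLE V U hUV).hom.toAlgebra
        CAlg.IsRegularHom Γ(Y, V) Γ(X, U)) ↔
      Flat f ∧ ∀ (y : Y) (W : (f.fiber y).Opens), IsAffineOpen W →
        letI : Algebra ↑(Y.residueField y) ↑Γ(f.fiber y, W) := ((Scheme.ΓSpecIso (Y.residueField y)).inv ≫ (f.fiberToSpecResidueField y).appTop ≫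
          (f.fiber y).presheaf.map (homOfLE le_top).op).hom.toAlgebra
        IsNoetherianRing ↑Γ(f.fiber y, W) ∧ CAlg.IsGeometricallyRegular ↑(Y.residueField y) ↑Γ(f.fiber y, W) := by
  constructor
  · intro H
    refine ⟨?_, ?_⟩
    · rw [HasRingHomProperty.iff_appLE (P := @Flat)]
      intro V U e
      exact (H U.1 V.1 U.2 V.2 e).1
    · intro y W hW
      haveI := hN y
      refine ⟨IsLocallyNoetherian.component_noetherian ⟨W, hW⟩, ?_⟩
      have hS : FibreStalksRegular f y := by
        intro K _ _ hfin x'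
        have hfx : (f.fiberι y ((pullback.fst (f.fiberToSpecResidueField y)
            (Spec.map (CommRingCat.ofHom (algebraMap (Y.residueField y) K)))) x')) ∈ f ⁻¹' {y} := by
          rw [← f.range_fiberι y]
          exact ⟨_, rfl⟩
        obtain ⟨_, ⟨V, hV, rfl⟩, hyV, -⟩ := Y.isBasis_affineOpens.exists_subset_of_mem_open
          (Set.mem_univ y) isOpen_univ
        have hxV : (f.fiberι y ((pullback.fst (f.fiberToSpecResidueField y)
            (Spec.map (CommRingCat.ofHom (algebraMap (Y.residueField y) K)))) x')) ∈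
            ((f ⁻¹ᵁ V : X.Opens) : Set X) := by
          have h1 : f (f.fiberι y ((pullback.fst (f.fiberToSpecResidueField y)
            (Spec.map (CommRingCat.ofHom (algebraMap (Y.residueField y) K)))) x')) = y := hfx
          change f _ ∈ V
          rw [h1]
          exact hyV
        obtain ⟨_, ⟨U, hU, rfl⟩, hxU, hUV⟩ := X.isBasis_affineOpens.exists_subset_of_mem_open
          hxV (f ⁻¹ᵁ V).isOpen
        refine regular_stalk_of_fibreRegular f hV hU hUV y hyV ?_ K hfin x' hxU
        letI : Algebra Γ(Y, V) Γ(X, U) := (f.appLE V U hUV).hom.toAlgebra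
        letI : Algebra Γ(Y, V) ↑(Y.residueField y) := (Y.evaluation V y hyV).hom.toAlgebra
        haveI : (RingHom.ker (Y.evaluation V y hyV).hom).IsPrime := RingHom.ker_isPrime _
        obtain ⟨σ, hσ⟩ := exists_residueField_equiv hV y hyV
          (RingHom.ker (Y.evaluation V y hyV).hom) rfl
        exact fibreRegular_of_ringEquiv σ hσ ((isRegularHom_fibre_iff _ _ _).mp
          ((H U V hU hV hUV).2 (RingHom.ker (Y.evaluation V y hyV).hom)))
      exact (fibreStalksRegular_iff_affine f y).mp hS W hW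
  · rintro ⟨hflat, H⟩ U V hU hV hUV
    letI : Algebra Γ(Y, V) Γ(X, U) := (f.appLE V U hUV).hom.toAlgebra
    refine ⟨?_, fun p hp => ?_⟩
    · exact (HasRingHomProperty.iff_appLE (P := @Flat)).mp hflat ⟨V, hV⟩ ⟨U, hU⟩ hUV
    · have hy : hV.fromSpec ⟨p, hp⟩ ∈ V := by
        rw [← SetLike.mem_coe, ← hV.range_fromSpec]
        exact ⟨_, rfl⟩
      haveI := hN (hV.fromSpec ⟨p, hp⟩)
      have hS : FibreStalksRegular f (hV.fromSpec ⟨p, hp⟩) :=
        (fibreStalksRegular_iff_affine f _).mpr (fun W hW => (H _ W hW).2)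
      have hker : RingHom.ker (Y.evaluation V (hV.fromSpec ⟨p, hp⟩) hy).hom = p :=
        ker_evaluation_fromSpec hV ⟨p, hp⟩ hy
      letI : Algebra Γ(Y, V) ↑(Y.residueField (hV.fromSpec ⟨p, hp⟩)) :=
        (Y.evaluation V (hV.fromSpec ⟨p, hp⟩) hy).hom.toAlgebra
      obtain ⟨σ, hσ⟩ := exists_residueField_equiv hV (hV.fromSpec ⟨p, hp⟩) hy p hker
      have h1 := fibreRegular_of_fibreStalksRegular f hV hU hUV _ hy hS
      have h2 : FibreRegular Γ(Y, V) Γ(X, U) p.ResidueField :=
        fibreRegular_of_ringEquiv σ.symm (fun a => by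
          rw [RingEquiv.symm_apply_eq]
          exact (hσ a).symm) h1
      exact (isRegularHom_fibre_iff _ _ _).mpr h2

end Groth.Agent.S1474
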