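import Groth.Statements.S14743
-- import your own Groth.Agent.* helpers here

set_option autoImplicit false
universe u
open CategoryTheory MonoidalCategory CartesianMonoidalCategory MonObj GrpObj AlgebraicGeometry
open AlgGrp

namespace Groth.Agent.S14743

/-- Over an algebraically closed field k let L, G, B be commutative k-group schemes, i : L → G and π : G
→ B homomorphisms with i the kernel of π, and suppose that every k-morphism B × B → L is constant
(factors through a k-point of L). If π admits a section which is a morphism of k-schemes, then it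
admits a section which is a homomorphism, so the extension splits. (The published statement is for
algebraic groups, that is, of finite type over k; finiteness plays no role and is not assumed here.) -/
theorem result (k : Type u) [Field k] [IsAlgClosed k]
    (L G B : Over (Spec (CommRingCat.of k))) [GrpObj L] [GrpObj G] [GrpObj B]
    [IsCommMonObj L] [IsCommMonObj G] [IsCommMonObj B]
    (i : L ⟶ G) [IsMonHom i] (π : G ⟶ B) [IsMonHom π] (hker : AlgGrp.IsKernel i π)
    (hconst : ∀ f : B ⊗ B ⟶ L, ∃ l : 𝟙_ (Over (Spec (CommRingCat.of k))) ⟶ L, f = toUnit (B ⊗ B) ≫ l)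
    (s : B ⟶ G) (hs : s ≫ π = 𝟙 B) :
    ∃ s' : B ⟶ G, IsMonHom s' ∧ s' ≫ π = 𝟙 B := by
  have hm : (μ[B] : B ⊗ B ⟶ B) = fst B B * snd B B := MonObj.mul_eq_mul B
  -- tensorHom followed by multiplication, in terms of the Hom-group
  have htens : ∀ (f : B ⟶ G), (f ⊗ₘ f) ≫ μ[G] = (fst B B ≫ f) * (snd B B ≫ f) := by
    intro f
    rw [CategoryTheory.Hom.mul_def, lift_fst_comp_snd_comp]
  -- the 2-cocycle measuring the failure of s to be a homomorphism
  set φ : B ⊗ B ⟶ G := (μ[B] ≫ s) * (snd B B ≫ s)⁻¹ * (fst B B ≫ s)⁻¹ with hφdef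
  have hφπ : φ ≫ π = toUnit _ ≫ η[B] := by
    rw [hφdef, MonObj.mul_comp, MonObj.mul_comp, GrpObj.inv_comp, GrpObj.inv_comp, Category.assoc,
      Category.assoc, Category.assoc, hs, Category.comp_id, Category.comp_id, Category.comp_id, hm,
      ← CategoryTheory.Hom.one_def, mul_inv_cancel_right, mul_inv_cancel]
  obtain ⟨l, hl⟩ := hconst (hker.lift φ (toUnit _) hφπ)
  have hφ : φ = toUnit _ ≫ l ≫ i := by
    rw [← hker.lift_fst φ (toUnit _) hφπ, hl, Category.assoc]
  have hcπ : (l ≫ i) ≫ π = η[B] := by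
    rw [Category.assoc, hker.w, ← Category.assoc, toUnit_unique (l ≫ toUnit L) (𝟙 _), Category.id_comp]
  have hmain : μ[B] ≫ s = (toUnit _ ≫ l ≫ i) * (fst B B ≫ s) * (snd B B ≫ s) := by
    rw [← hφ, hφdef, inv_mul_cancel_right, inv_mul_cancel_right]
  have hη : ∀ (H : Over (Spec (CommRingCat.of k))) [GrpObj H], (η[H] : 𝟙_ _ ⟶ H) = 1 :=
    fun H _ => MonObj.one_eq_one H
  refine ⟨(toUnit B ≫ l ≫ i) * s, ⟨?_, ?_⟩, ?_⟩
  · -- one_hom
    have h1 := congrArg (fun t => lift η[B] η[B] ≫ t) hmain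
    beta_reduce at h1
    rw [MonObj.comp_mul, MonObj.comp_mul, ← Category.assoc, ← CategoryTheory.Hom.mul_def, hη B, _root_.mul_one,
      ← Category.assoc, toUnit_unique (lift (1 : 𝟙_ _ ⟶ B) 1 ≫ toUnit (B ⊗ B)) (𝟙 _), Category.id_comp,
      ← Category.assoc, lift_fst, ← Category.assoc, lift_snd] at h1
    rw [MonObj.comp_mul, hη B, ← Category.assoc, toUnit_unique ((1 : 𝟙_ _ ⟶ B) ≫ toUnit B) (𝟙 _),
      Category.id_comp, hη G]
    have h2 : (l ≫ i) * ((1 : 𝟙_ _ ⟶ B) ≫ s) * ((1 : 𝟙_ _ ⟶ B) ≫ s) = 1 * ((1 : 𝟙_ _ ⟶ B) ≫ s) := by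
      rw [_root_.one_mul]; exact h1.symm
    exact mul_right_cancel h2
  · -- mul_hom
    rw [htens, MonObj.comp_mul, MonObj.comp_mul, MonObj.comp_mul, hmain, ← Category.assoc,
      ← Category.assoc (fst B B), ← Category.assoc (snd B B),
      toUnit_unique (μ[B] ≫ toUnit B) (toUnit _), toUnit_unique (fst B B ≫ toUnit B) (toUnit _),
      toUnit_unique (snd B B ≫ toUnit B) (toUnit _)]
    rw [_root_.mul_mul_mul_comm, _root_.mul_assoc, _root_.mul_assoc]
  · rw [MonObj.mul_comp, Category.assoc, hcπ, hs, ← CategoryTheory.Hom.one_def, _root_.one_mul]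

end Groth.Agent.S14743
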