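import Groth.Statements.S14766
import Mathlib.AlgebraicGeometry.Noetherian
import Mathlib.AlgebraicGeometry.Morphisms.QuasiCompact
import Mathlib.RingTheory.DedekindDomain.Basic
import Mathlib.RingTheory.DiscreteValuationRing.TFAE

set_option autoImplicit false
universe u
open CategoryTheory CategoryTheory.Limits AlgebraicGeometry
open Subtr

namespace Groth.Agent.S14766

/-- Let V be a discrete valuation ring and f : X ⟶ Spec V any morphism of schemes. Then the underlying
continuous map of f is a quotient map (f is submersive) if and only if every ordered pair of points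
of Spec V lifts to an ordered pair of points of X. -/
theorem result (V : Type u) [CommRing V] [IsDomain V]
    [IsDiscreteValuationRing V] {X : Scheme.{u}} (f : X ⟶ Spec (CommRingCat.of V)) :
    Topology.IsQuotientMap f ↔ Subtr.IsSSubtrusive f := by
  classical
  -- the two points of Spec V
  let s : Spec (CommRingCat.of V) := IsLocalRing.closedPoint V
  let η : Spec (CommRingCat.of V) := (⟨⊥, Ideal.isPrime_bot⟩ : PrimeSpectrum V)
  have hcases : ∀ y : Spec (CommRingCat.of V), y = η ∨ y = s := by
    intro y
    by_cases h : y.asIdeal = ⊥
    · left; exact PrimeSpectrum.ext h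
    · right
      have hmax : y.asIdeal.IsMaximal := Ideal.IsPrime.isMaximal y.2 h
      exact PrimeSpectrum.ext (IsLocalRing.eq_maximalIdeal hmax)
  have hηs : η ⤳ s := (PrimeSpectrum.le_iff_specializes η s).mp bot_le
  have hne : s ≠ η := by
    intro h
    have : IsLocalRing.maximalIdeal V = ⊥ := congrArg PrimeSpectrum.asIdeal h
    exact IsDiscreteValuationRing.not_a_field V this
  have hnotopen : ¬ IsOpen ({s} : Set (Spec (CommRingCat.of V))) := by
    intro h
    exact hne (hηs.mem_open h rfl).symm
  have hsclosed : IsClosed ({s} : Set (Spec (CommRingCat.of V))) :=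
    IsLocalRing.isClosed_singleton_closedPoint V
  constructor
  · -- quotient map ⇒ S-subtrusive
    intro hq y y' hyy'
    have hsurj : Function.Surjective f := hq.surjective
    by_cases heq : y' = y
    · obtain ⟨x, hx⟩ := hsurj y
      exact ⟨x, x, specializes_rfl, hx, heq ▸ hx⟩
    · -- then y' = η and y = s
      have hy' : y' = η := by
        rcases hcases y' with h | h
        · exact h
        · exfalso
          rcases hcases y with h2 | h2
          · -- s ⤳ η impossible
            rw [h, h2] at hyy'
            have := (PrimeSpectrum.le_iff_specializes s η).mpr hyy'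
            have h3 : IsLocalRing.maximalIdeal V ≤ ⊥ := this
            exact IsDiscreteValuationRing.not_a_field V (le_bot_iff.mp h3)
          · exact heq (h.trans h2.symm)
      have hy : y = s := by
        rcases hcases y with h | h
        · exact absurd (hy'.trans h.symm) heq
        · exact h
      subst hy' hy
      by_contra hcon
      push Not at hcon
      -- f⁻¹(η) is open and stable under specialization, hence closed
      let W : (Spec (CommRingCat.of V)).Opens := ⟨{s}ᶜ, hsclosed.isOpen_compl⟩
      have hW : ∀ x : X, x ∈ f ⁻¹ᵁ W ↔ f x = η := by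
        intro x
        show f x ∈ ({s}ᶜ : Set _) ↔ _
        constructor
        · intro h
          rcases hcases (f x) with h1 | h1
          · exact h1
          · exact absurd h1 h
        · intro h h1
          exact hne (h1.symm.trans h)
      have hqc : QuasiCompact (f ⁻¹ᵁ W).ι :=
        MorphismProperty.of_isPullback (isPullback_morphismRestrict f W) inferInstance
      have hspec : SpecializingMap (f ⁻¹ᵁ W).ι := by
        intro u x' hux'
        have hu : f ((f ⁻¹ᵁ W).ι u) = η := (hW _).mp u.2
        have hx' : f x' = η := by
          rcases hcases (f x') with h1 | h1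
          · exact h1
          · exact absurd hu (hcon x' _ hux' h1)
        refine ⟨⟨x', (hW x').mpr hx'⟩, ?_, rfl⟩
        exact ((f ⁻¹ᵁ W).ι.isOpenEmbedding.isInducing.specializes_iff).mp hux'
      have hclosedmap : IsClosedMap (f ⁻¹ᵁ W).ι := (isClosedMap_iff_specializingMap _).mpr hspec
      have hrange : IsClosed (Set.range (f ⁻¹ᵁ W).ι) := hclosedmap.isClosed_range
      have hpre : (f ⁻¹' ({s} : Set (Spec (CommRingCat.of V)))) = (Set.range (f ⁻¹ᵁ W).ι)ᶜ := by
        ext x
        simp only [Set.mem_preimage, Set.mem_singleton_iff, Set.mem_compl_iff, Scheme.Opens.range_ι]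
        constructor
        · intro h h2
          exact hne (h.symm.trans ((hW x).mp h2))
        · intro h
          rcases hcases (f x) with h1 | h1
          · exact absurd ((hW x).mpr h1) h
          · exact h1
      have : IsOpen (f ⁻¹' ({s} : Set (Spec (CommRingCat.of V)))) := by
        rw [hpre]; exact hrange.isOpen_compl
      exact hnotopen (hq.isOpen_preimage.mp this)
  · -- S-subtrusive ⇒ quotient map
    intro hS
    have hsurj : Function.Surjective f := by
      intro y
      obtain ⟨x, _, _, hx, _⟩ := hS (specializes_rfl : y ⤳ y)
      exact ⟨x, hx⟩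
    refine ⟨.of_isOpen_preimage_iff_isOpen fun U => ⟨fun h => ?_, fun h => h.preimage f.continuous⟩, hsurj⟩
    by_cases hsU : s ∈ U
    · obtain ⟨x, x', hxx', hx, hx'⟩ := hS hηs
      have h1 : x ∈ f ⁻¹' U := by show f x ∈ U; rw [hx]; exact hsU
      have h2 : x' ∈ f ⁻¹' U := hxx'.mem_open h h1
      have hηU : η ∈ U := by rw [← hx']; exact h2
      have : U = Set.univ := by
        apply Set.eq_univ_of_forall
        intro y
        rcases hcases y with h3 | h3 <;> rw [h3] <;> assumption
      rw [this]; exact isOpen_univ
    · by_cases hηU : η ∈ U
      · have : U = ({s}ᶜ : Set _) := by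
          ext y
          simp only [Set.mem_compl_iff, Set.mem_singleton_iff]
          rcases hcases y with h3 | h3
          · rw [h3]; exact ⟨fun _ h => hne h.symm, fun _ => hηU⟩
          · rw [h3]; exact ⟨fun h => absurd h hsU, fun h => absurd rfl h⟩
        rw [this]; exact hsclosed.isOpen_compl
      · have : U = ∅ := by
          apply Set.eq_empty_of_forall_notMem
          intro y hy
          rcases hcases y with h3 | h3
          · exact hηU (h3 ▸ hy)
          · exact hsU (h3 ▸ hy)
        rw [this]; exact isOpen_empty

end Groth.Agent.S14766
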