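import Groth.Statements.S14767
import Mathlib
import Groth.Agent.Lib.Helper38.HTopV
-- import your own Groth.Agent.* helpers here

set_option autoImplicit false
universe u
open CategoryTheory CategoryTheory.Limits AlgebraicGeometry
open Subtr

namespace Groth.Agent.S14767
open Groth.Agent.Lib.Helper38.HTopV


theorem isClosed_image_affine {W T : Scheme.{u}} (q : W ⟶ T)
    [CompactSpace W] [IsAffine T] (C : Set W) (hC : IsClosed C)
    (H : StableUnderSpecialization (q '' C)) : IsClosed (q '' C) := by
  obtain ⟨R, g, hg⟩ := compactSpace_iff_exists.mp (inferInstance : CompactSpace W)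
  obtain ⟨φ, hφ⟩ := Spec.homEquiv.symm.surjective (g ≫ q ≫ T.isoSpec.hom)
  have hZ : IsClosed (g ⁻¹' C) := hC.preimage g.continuous
  have himg : (g ≫ q ≫ T.isoSpec.hom) '' (g ⁻¹' C) = T.isoSpec.hom '' (q '' C) := by
    simp_rw [Scheme.Hom.comp_base, TopCat.coe_comp, Set.image_comp, Set.image_preimage_eq _ hg]
  have hsp : SpecializingMap T.isoSpec.hom :=
    (T.isoSpec.hom.homeomorph).isClosedMap.specializingMap
  have H' : StableUnderSpecialization ((g ≫ q ≫ T.isoSpec.hom) '' (g ⁻¹' C)) := by
    rw [himg]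
    exact H.image hsp
  rw [← hφ] at H' himg
  have hcl := PrimeSpectrum.isClosed_image_of_stableUnderSpecialization φ.hom (g ⁻¹' C) hZ H'
  have hcl' : IsClosed (T.isoSpec.hom '' (q '' C)) := by
    rw [← himg]
    exact hcl
  have : q '' C = T.isoSpec.hom ⁻¹' (T.isoSpec.hom '' (q '' C)) :=
    (Set.preimage_image_eq _ (T.isoSpec.hom.homeomorph).injective).symm
  rw [this]
  exact hcl'.preimage T.isoSpec.hom.continuous

theorem isClosed_image_qc {X Y : Scheme.{u}} (f : X ⟶ Y) [QuasiCompact f] (C : Set X)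
    (hC : IsClosed C) (H : StableUnderSpecialization (f '' C)) : IsClosed (f '' C) := by
  rw [TopologicalSpace.IsOpenCover.isClosed_iff_coe_preimage (iSup_affineOpens_eq_top Y)]
  intro U
  have hUaff : IsAffine (U.1 : Scheme) := U.2
  have hqc : QuasiCompact (f ∣_ U.1) := inferInstance
  have : CompactSpace ↥(f ⁻¹ᵁ U.1 : Scheme) := QuasiCompact.compactSpace_of_compactSpace (f ∣_ U.1)
  have key : (Subtype.val ⁻¹' (f '' C) : Set (U.1 : Set Y)) = (f ∣_ U.1) '' ((f ⁻¹ᵁ U.1).ι ⁻¹' C) := by
    ext y
    constructor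
    · rintro ⟨x, hxC, hxy⟩
      have hx : x ∈ f ⁻¹ᵁ U.1 := by
        show f x ∈ U.1
        rw [hxy]; exact y.2
      refine ⟨⟨x, hx⟩, hxC, ?_⟩
      apply Subtype.ext
      have := congr($(morphismRestrict_ι f U.1) ⟨x, hx⟩)
      simpa [Scheme.Hom.comp_apply] using this.trans hxy
    · rintro ⟨x, hxC, rfl⟩
      refine ⟨(f ⁻¹ᵁ U.1).ι x, hxC, ?_⟩
      have := congr($(morphismRestrict_ι f U.1) x)
      simpa [Scheme.Hom.comp_apply] using this.symm
  have hcl : IsClosed ((f ∣_ U.1) '' ((f ⁻¹ᵁ U.1).ι ⁻¹' C)) := by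
    apply isClosed_image_affine
    · exact hC.preimage (f ⁻¹ᵁ U.1).ι.continuous
    · rw [← key]
      intro a b hab ha
      exact H (hab.map continuous_subtype_val) ha
  rw [← key] at hcl
  exact hcl


set_option backward.isDefEq.respectTransparency false in
theorem surj_of_forall {X Y : Scheme.{u}} (f : X ⟶ Y)
    (H : ∀ (V : Type u) [CommRing V] [IsDomain V] [ValuationRing V] (g : Spec (CommRingCat.of V) ⟶ Y),
        Topology.IsQuotientMap (pullback.snd f g)) : Surjective f := by
  refine ⟨fun y => ?_⟩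
  have hq := H (Y.residueField y) (Y.fromSpecResidueField y)
  obtain ⟨p, -⟩ := hq.surjective (IsLocalRing.closedPoint _)
  refine ⟨pullback.fst f (Y.fromSpecResidueField y) p, ?_⟩
  rw [← Scheme.Hom.comp_apply, pullback.condition, Scheme.Hom.comp_apply]
  exact Scheme.fromSpecResidueField_apply y _


/-- Let f : X ⟶ Y be a quasi-compact morphism of schemes. Then f is universally submersive if and only
if, for every valuation ring V and every morphism Spec V ⟶ Y, the base change X ×_Y Spec V ⟶ Spec V
is submersive (its underlying continuous map is a quotient map). (The published statement asks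
instead that f be universally submersive for the constructible topologies, which holds for
quasi-compact surjective morphisms; both sides here force f to be surjective.) -/
theorem result {X Y : Scheme.{u}} (f : X ⟶ Y) [QuasiCompact f] :
    SGA1.UnivSubmersive f ↔
      ∀ (V : Type u) [CommRing V] [IsDomain V] [ValuationRing V] (g : Spec (CommRingCat.of V) ⟶ Y),
        Topology.IsQuotientMap (pullback.snd f g) := by
  constructor
  · intro H V _ _ _ g
    exact H _ _ _ (IsPullback.of_hasPullback f g).flip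
  · intro H X' Y' i₁ i₂ f' h
    have hqc : QuasiCompact f' := MorphismProperty.of_isPullback h.flip inferInstance
    -- surjectivity of f
    have hsurjf : Surjective f := surj_of_forall f H
    have hsurj : Surjective f' := MorphismProperty.of_isPullback h.flip hsurjf
    show Topology.IsQuotientMap f'
    rw [Topology.isQuotientMap_iff_isClosed]
    refine ⟨hsurj.surj, fun Z => ⟨fun hZ => hZ.preimage f'.continuous, fun hZ => ?_⟩⟩
    have hZeq : Z = f' '' (f' ⁻¹' Z) := (Set.image_preimage_eq Z hsurj.surj).symm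
    rw [hZeq]
    apply isClosed_image_qc f' _ hZ
    rw [← hZeq]
    intro z z' hzz' hz
    obtain ⟨W, hWd, hWv, ι, h1, h2⟩ := exists_valuationRing_of_specializes hzz'
    have hq := H W (ι ≫ i₂)
    have hspec : (⊥ : PrimeSpectrum W) ⤳ IsLocalRing.closedPoint W :=
      IsLocalRing.specializes_closedPoint _
    have hcond : (pullback.snd f (ι ≫ i₂) ≫ ι) ≫ i₂ = pullback.fst f (ι ≫ i₂) ≫ f := by
      rw [Category.assoc]; exact pullback.condition.symm
    obtain ⟨φ, hφ⟩ : ∃ q : pullback f (ι ≫ i₂) ⟶ X',
        q = h.lift (pullback.snd f (ι ≫ i₂) ≫ ι) (pullback.fst f (ι ≫ i₂)) hcond := ⟨_, rfl⟩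
    have hφf : φ ≫ f' = pullback.snd f (ι ≫ i₂) ≫ ι := by rw [hφ, h.lift_fst]
    have hcl : IsClosed (ι ⁻¹' Z) := by
      rw [← hq.isClosed_preimage]
      have : (pullback.snd f (ι ≫ i₂)) ⁻¹' (ι ⁻¹' Z) = φ ⁻¹' (f' ⁻¹' Z) := by
        rw [← Set.preimage_comp, ← Set.preimage_comp, ← TopCat.coe_comp, ← TopCat.coe_comp,
          ← Scheme.Hom.comp_base, ← Scheme.Hom.comp_base, hφf]
      rw [this]
      exact hZ.preimage φ.continuous
    have hbot : (⊥ : PrimeSpectrum W) ∈ ι ⁻¹' Z := by
      show ι _ ∈ Z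
      rw [h2]; exact hz
    have := hspec.mem_closed hcl hbot
    have h3 : ι (IsLocalRing.closedPoint W) ∈ Z := this
    rwa [h1] at h3

end Groth.Agent.S14767
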