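import Groth.Statements.S14768
import Groth.Agent.Lib.Helper38.HTopV
open Groth.Agent.Lib.Helper38.HTopV

set_option autoImplicit false
universe u
open CategoryTheory CategoryTheory.Limits AlgebraicGeometry
open Subtr

namespace Groth.Agent.S14768

/-- Let f : X ⟶ Y be any morphism of schemes. Then every base change of f has the lifting property for
ordered pairs of points if and only if this holds for the base changes X ×_Y Spec V ⟶ Spec V along
all morphisms Spec V ⟶ Y with V a valuation ring. (The published statement is about universally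
subtrusive morphisms and assumes f universally submersive for the constructible topologies; the
lifting property alone descends from valuation rings with the same proof, and for quasi-compact f
the two statements agree.) -/
theorem result {X Y : Scheme.{u}} (f : X ⟶ Y) :
    Subtr.UnivSSubtrusive f ↔
      ∀ (V : Type u) [CommRing V] [IsDomain V] [ValuationRing V] (g : Spec (CommRingCat.of V) ⟶ Y),
        Subtr.IsSSubtrusive (pullback.snd f g) := by
  constructor
  · intro H V _ _ _ g
    exact H _ _ _ (IsPullback.of_hasPullback f g).flip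
  · intro H X' Y' i₁ i₂ f' h y y' hy'y
    obtain ⟨W, hWd, hWv, ι, h1, h2⟩ := exists_valuationRing_of_specializes hy'y
    have hsub := H W (ι ≫ i₂)
    have hspec : (⊥ : PrimeSpectrum W) ⤳ IsLocalRing.closedPoint W :=
      IsLocalRing.specializes_closedPoint _
    obtain ⟨w, w', hw'w, hw, hw'⟩ := hsub hspec
    have hcond : (pullback.snd f (ι ≫ i₂) ≫ ι) ≫ i₂ = pullback.fst f (ι ≫ i₂) ≫ f := by
      rw [Category.assoc]; exact pullback.condition.symm
    obtain ⟨φ, hφ⟩ : ∃ q : pullback f (ι ≫ i₂) ⟶ X',
        q = h.lift (pullback.snd f (ι ≫ i₂) ≫ ι) (pullback.fst f (ι ≫ i₂)) hcond := ⟨_, rfl⟩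
    have hφf : φ ≫ f' = pullback.snd f (ι ≫ i₂) ≫ ι := by rw [hφ, h.lift_fst]
    refine ⟨φ w, φ w', hw'w.map φ.continuous, ?_, ?_⟩
    · rw [← Scheme.Hom.comp_apply, hφf, Scheme.Hom.comp_apply, hw, h1]
    · rw [← Scheme.Hom.comp_apply, hφf, Scheme.Hom.comp_apply, hw', h2]


end Groth.Agent.S14768
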