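import Groth.Statements.S14769
import Groth.Agent.S14768
import Groth.Agent.Lib.Helper38.ValExtSurj
open Groth.Agent.Lib.Helper38.HTopV Groth.Agent.Lib.Helper38.ValExtSurj

set_option autoImplicit false
universe u
open CategoryTheory CategoryTheory.Limits AlgebraicGeometry
open Subtr

namespace Groth.Agent.S14769

/-- Let f : X ⟶ Y be any morphism of schemes. Then every base change of f has the lifting property for
ordered pairs of points if and only if, for every valuation ring V and morphism g : Spec V ⟶ Y,
there are a valuation ring V', a morphism a : Spec V' ⟶ X and a surjective morphism b : Spec V' ⟶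
Spec V with a ≫ f = b ≫ g. (The published statement assumes f universally submersive for the
constructible topologies and concludes universal subtrusiveness; for quasi-compact f the two agree.) -/
theorem result {X Y : Scheme.{u}} (f : X ⟶ Y) :
    Subtr.UnivSSubtrusive f ↔
      ∀ (V : Type u) [CommRing V] [IsDomain V] [ValuationRing V] (g : Spec (CommRingCat.of V) ⟶ Y),
        ∃ (V' : Type u) (_ : CommRing V') (_ : IsDomain V') (_ : ValuationRing V')
          (a : Spec (CommRingCat.of V') ⟶ X) (b : Spec (CommRingCat.of V') ⟶ Spec (CommRingCat.of V)),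
          Surjective b ∧ a ≫ f = b ≫ g := by
  constructor
  · intro H V _ _ _ g
    have hsub : Subtr.IsSSubtrusive (pullback.snd f g) :=
      H _ _ _ (IsPullback.of_hasPullback f g).flip
    have hspec : (⊥ : PrimeSpectrum V) ⤳ IsLocalRing.closedPoint V :=
      IsLocalRing.specializes_closedPoint _
    obtain ⟨w, w', hw'w, hw, hw'⟩ := hsub hspec
    obtain ⟨W, hWd, hWv, φ, ⟨hinj, hloc⟩, ι, hι, -⟩ :=
      exists_extVal_lift (V := CommRingCat.of V) (pullback.snd f g) hw'w hw' hw
    refine ⟨W, inferInstance, hWd, hWv, ι ≫ pullback.fst f g, ι ≫ pullback.snd f g, ?_, ?_⟩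
    · rw [hι]
      constructor
      exact comap_surjective_of_injective_local φ.hom hinj
    · rw [Category.assoc, Category.assoc, pullback.condition]
  · intro H
    rw [Groth.Agent.S14768.result]
    intro V _ _ _ g y y' hy'y
    obtain ⟨W, hWd, hWv, ι, h1, h2⟩ := exists_valuationRing_of_specializes hy'y
    obtain ⟨V', _, _, _, a, b, hb, hab⟩ := H W (ι ≫ g)
    obtain ⟨c, hc⟩ := hb.surj (IsLocalRing.closedPoint W)
    obtain ⟨d, hd⟩ := hb.surj (⊥ : PrimeSpectrum W)
    have hbc : b (IsLocalRing.closedPoint V') = IsLocalRing.closedPoint W := by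
      have h3 : b c ⤳ b (IsLocalRing.closedPoint V') :=
        (IsLocalRing.specializes_closedPoint c).map b.continuous
      rw [hc] at h3
      have h4 : b (IsLocalRing.closedPoint V') ⤳ IsLocalRing.closedPoint W :=
        IsLocalRing.specializes_closedPoint _
      exact (h4.antisymm h3).eq
    have hbd : b (⊥ : PrimeSpectrum V') = (⊥ : PrimeSpectrum W) := by
      have h3 : b (⊥ : PrimeSpectrum V') ⤳ b d :=
        ((PrimeSpectrum.le_iff_specializes _ _).mp bot_le).map b.continuous
      rw [hd] at h3
      have h4 : (⊥ : PrimeSpectrum W) ⤳ b (⊥ : PrimeSpectrum V') :=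
        (PrimeSpectrum.le_iff_specializes _ _).mp bot_le
      exact (h3.antisymm h4).eq
    have hcond : a ≫ f = (b ≫ ι) ≫ g := by rw [hab, Category.assoc]
    obtain ⟨ψ, hψ⟩ : ∃ q : Spec (CommRingCat.of V') ⟶ pullback f g,
      q = pullback.lift a (b ≫ ι) hcond := ⟨_, rfl⟩
    have hψs : ψ ≫ pullback.snd f g = b ≫ ι := by rw [hψ, pullback.lift_snd]
    have hspec : (⊥ : PrimeSpectrum V') ⤳ IsLocalRing.closedPoint V' :=
      IsLocalRing.specializes_closedPoint _
    refine ⟨ψ (IsLocalRing.closedPoint V'), ψ (⊥ : PrimeSpectrum V'), hspec.map ψ.continuous,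
      ?_, ?_⟩
    · rw [← Scheme.Hom.comp_apply, hψs, Scheme.Hom.comp_apply, hbc, h1]
    · rw [← Scheme.Hom.comp_apply, hψs, Scheme.Hom.comp_apply, hbd, h2]


end Groth.Agent.S14769
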