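import Groth.Statements.S1478
import Groth.Agent.Lib.QCoh.Helper50_OmAffGen
import Groth.Agent.Lib.QCoh.Helper66_ZeroLocal
import Groth.Agent.Lib.QCoh.Helper50_Pinch

set_option autoImplicit false
universe u
open FlatMor

namespace Groth.Agent.S1478

open AlgebraicGeometry CategoryTheory Limits in
/-- For separated morphisms (where the sheaf of differentials is literally the conormal sheaf of the
closed diagonal): a separated morphism f : X → S is formally unramified if and only if Ω_{X/S}, the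
conormal sheaf of the diagonal, is the zero O_X-module. -/
theorem result {X S : Scheme.{u}} (f : X ⟶ S) [IsSeparated f] :
    FormallyUnramified f ↔ IsZero (Omega.sheaf f) := by
  constructor
  · intro hf
    refine Groth.Agent.Lib.QCoh.isZero_of_sections_eq_zero fun W t => ?_
    -- cover `W` by affine opens `U x ≤ W ⊓ f⁻¹ (affine)`
    have hcov : ∀ x : W, ∃ (U : X.Opens) (V : S.Opens), IsAffineOpen U ∧ IsAffineOpen V ∧
        x.1 ∈ U ∧ U ≤ W ∧ U ≤ f ⁻¹ᵁ V := by
      intro x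
      obtain ⟨_, ⟨V, hV, rfl⟩, hxV, -⟩ :=
        S.isBasis_affineOpens.exists_subset_of_mem_open (Set.mem_univ (f x.1)) isOpen_univ
      obtain ⟨_, ⟨U, hU, rfl⟩, hxU, hUW⟩ :=
        X.isBasis_affineOpens.exists_subset_of_mem_open
          (show x.1 ∈ ((W ⊓ f ⁻¹ᵁ V : X.Opens) : Set X) from ⟨x.2, hxV⟩) (W ⊓ f ⁻¹ᵁ V).isOpen
      exact ⟨U, V, hU, hV, hxU, fun y hy => (hUW hy).1, fun y hy => (hUW hy).2⟩
    choose U V hU hV hxU hUW hUV using hcov
    refine TopCat.Sheaf.eq_of_locally_eq' (⟨(Omega.sheaf f).presheaf, (Omega.sheaf f).isSheaf⟩ :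
      TopCat.Sheaf Ab X) U W (fun x => homOfLE (hUW x)) ?_ t 0 fun x => ?_
    · intro y hy
      exact TopologicalSpace.Opens.mem_iSup.2 ⟨⟨y, hy⟩, hxU ⟨y, hy⟩⟩
    · rw [map_zero]
      have hfu := hf.formallyUnramified_appLE (hV x) (hU x) (hUV x)
      letI : Algebra Γ(S, V x) Γ(X, U x) := (f.appLE (V x) (U x) (hUV x)).hom.toAlgebra
      have hsub : Subsingleton (Ω[Γ(X, U x)⁄Γ(S, V x)]) := hfu.subsingleton_kaehlerDifferential
      have hb := Groth.Agent.Lib.QCoh.OmAffGen.bijective_toSect f (hU x) (hV x) (hUV x)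
      obtain ⟨ω, hω⟩ := hb.2 ((Omega.sheaf f).presheaf.map (homOfLE (hUW x)).op t)
      have hω0 : ω = 0 := Subsingleton.elim (α := Ω[Γ(X, U x)⁄Γ(S, V x)]) ω 0
      change (Omega.sheaf f).presheaf.map (homOfLE (hUW x)).op t = 0
      rw [← hω, hω0]
      exact map_zero (OmAff.toSect f (V x) (U x) (hUV x)).hom
  · intro hZ
    refine ⟨fun {V} hV {U} hU e => ?_⟩
    have hb := Groth.Agent.Lib.QCoh.OmAffGen.bijective_toSect f hU hV e
    have hs : Subsingleton Γ(Omega.sheaf f, U) :=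
      Groth.Agent.Lib.QCoh.Pinch.subsingleton_sections_of_isZero _ hZ U
    letI : Algebra Γ(S, V) Γ(X, U) := (f.appLE V U e).hom.toAlgebra
    have hsub : Subsingleton (Ω[Γ(X, U)⁄Γ(S, V)]) :=
      ⟨fun a b => hb.1 (Subsingleton.elim (α := Γ(Omega.sheaf f, U)) _ _)⟩
    exact ⟨hsub⟩

end Groth.Agent.S1478
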