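import Groth.Statements.S19530
import Mathlib
import Groth.Agent.S14765
-- import your own Groth.Agent.* helpers here

set_option autoImplicit false
universe u
open CategoryTheory CategoryTheory.Limits AlgebraicGeometry
open Subtr

namespace Groth.Agent.S19530


section Comp
variable {K : Type u} [Field K]

/-- composite of a valuation subring with a valuation subring of its residue field -/
noncomputable def compSubring (V : ValuationSubring K)
    (V' : ValuationSubring (IsLocalRing.ResidueField V)) : Subring K :=
  (V'.toSubring.comap (IsLocalRing.residue V)).map V.subtype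

theorem mem_compSubring (V : ValuationSubring K)
    (V' : ValuationSubring (IsLocalRing.ResidueField V)) (x : K) :
    x ∈ compSubring V V' ↔ ∃ h : x ∈ V, IsLocalRing.residue V ⟨x, h⟩ ∈ V' := by
  constructor
  · rintro ⟨a, ha, rfl⟩
    exact ⟨a.2, ha⟩
  · rintro ⟨h, h'⟩
    exact ⟨⟨x, h⟩, h', rfl⟩

theorem compSubring_mem_or_inv (V : ValuationSubring K)
    (V' : ValuationSubring (IsLocalRing.ResidueField V)) (x : K) :
    x ∈ compSubring V V' ∨ x⁻¹ ∈ compSubring V V' := by
  by_cases hx : x ∈ V
  · rcases V'.mem_or_inv_mem (IsLocalRing.residue V ⟨x, hx⟩) with h | h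
    · left; exact (mem_compSubring V V' x).2 ⟨hx, h⟩
    · by_cases h0 : IsLocalRing.residue V ⟨x, hx⟩ = 0
      · left
        refine (mem_compSubring V V' x).2 ⟨hx, ?_⟩
        rw [h0]; exact V'.zero_mem
      · right
        have hx' : x⁻¹ ∈ V := by
          by_contra hni
          have h1 : x ∈ V.nonunits := (ValuationSubring.mem_nonunits_iff_or V).2 (Or.inr hni)
          have h2 : (⟨x, hx⟩ : V) ∈ IsLocalRing.maximalIdeal V :=
            ValuationSubring.coe_mem_nonunits_iff.1 h1
          exact h0 ((IsLocalRing.residue_eq_zero_iff _).2 h2)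
        refine (mem_compSubring V V' _).2 ⟨hx', ?_⟩
        have hmul : IsLocalRing.residue V ⟨x⁻¹, hx'⟩ * IsLocalRing.residue V ⟨x, hx⟩ = 1 := by
          rw [← map_mul]
          have hxne : x ≠ 0 := by
            rintro rfl
            exact h0 (by
              have : (⟨0, hx⟩ : V) = 0 := rfl
              rw [this, map_zero])
          have : (⟨x⁻¹, hx'⟩ : V) * ⟨x, hx⟩ = 1 := Subtype.ext (inv_mul_cancel₀ hxne)
          rw [this, map_one]
        rw [eq_inv_of_mul_eq_one_left hmul]
        exact h
  · right
    have hx' : x⁻¹ ∈ V := (V.mem_or_inv_mem x).resolve_left hx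
    refine (mem_compSubring V V' _).2 ⟨hx', ?_⟩
    have h1 : x⁻¹ ∈ V.nonunits := (ValuationSubring.inv_mem_nonunits_iff V).2 (Or.inr hx)
    have h2 : (⟨x⁻¹, hx'⟩ : V) ∈ IsLocalRing.maximalIdeal V :=
      ValuationSubring.coe_mem_nonunits_iff.1 h1
    rw [(IsLocalRing.residue_eq_zero_iff _).2 h2]
    exact V'.zero_mem

noncomputable def comp (V : ValuationSubring K)
    (V' : ValuationSubring (IsLocalRing.ResidueField V)) : ValuationSubring K :=
  ValuationSubring.ofSubring (compSubring V V') (compSubring_mem_or_inv V V')

theorem mem_comp (V : ValuationSubring K)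
    (V' : ValuationSubring (IsLocalRing.ResidueField V)) (x : K) :
    x ∈ comp V V' ↔ ∃ h : x ∈ V, IsLocalRing.residue V ⟨x, h⟩ ∈ V' :=
  mem_compSubring V V' x

theorem comp_le (V : ValuationSubring K)
    (V' : ValuationSubring (IsLocalRing.ResidueField V)) : comp V V' ≤ V :=
  fun x hx => ((mem_comp V V' x).1 hx).1

end Comp


open IsLocalRing in
/-- image of the closed point under `Spec V → P` given by a local hom out of a stalk -/
theorem closedPoint_image {P : Scheme.{u}} (p : P) {V : CommRingCat.{u}} [IsLocalRing V]
    (φ : P.presheaf.stalk p ⟶ V) [IsLocalHom φ.hom] :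
    (Spec.map φ ≫ P.fromSpecStalk p) (closedPoint V) = p := by
  rw [Scheme.Hom.comp_apply]
  have : Spec.map φ (closedPoint V) = closedPoint (P.presheaf.stalk p) :=
    comap_closedPoint (S := V) φ.hom
  erw [this]
  exact P.fromSpecStalk_closedPoint

/-- A finite chain of specializations in a scheme is dominated by a valuation ring. -/
theorem exists_valuationRing_chain {P : Scheme.{u}} : ∀ (n : ℕ) (y : Fin (n + 1) → P),
    (∀ i j : Fin (n + 1), i ≤ j → y i ⤳ y j) →
    ∃ (K : Type u) (_ : Field K) (V : ValuationSubring K)
      (φ : P.presheaf.stalk (y (Fin.last n)) ⟶ CommRingCat.of V) (_ : IsLocalHom φ.hom)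
      (q : Fin (n + 1) → Spec (CommRingCat.of V)),
      (∀ i j : Fin (n + 1), i ≤ j → q i ⤳ q j) ∧
      ∀ i, (Spec.map φ ≫ P.fromSpecStalk (y (Fin.last n))) (q i) = y i := by
  intro n
  induction n with
  | zero =>
    intro y hy
    let K := P.residueField (y (Fin.last 0))
    let φ0 : P.presheaf.stalk (y (Fin.last 0)) →+* (⊤ : ValuationSubring K) :=
      (P.residue (y (Fin.last 0))).hom.codRestrict (⊤ : ValuationSubring K).toSubring
        (fun _ => trivial)
    have hloc : IsLocalHom φ0 := by
      constructor
      intro a ha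
      have h1 : IsUnit ((⊤ : ValuationSubring K).subtype (φ0 a)) := ha.map _
      haveI : IsLocalHom (P.residue (y (Fin.last 0))).hom :=
        inferInstanceAs (IsLocalHom (IsLocalRing.residue _))
      exact isUnit_of_map_unit (P.residue (y (Fin.last 0))).hom a h1
    refine ⟨K, inferInstance, ⊤, CommRingCat.ofHom φ0, hloc,
      fun _ => IsLocalRing.closedPoint _, fun _ _ _ => specializes_rfl, fun i => ?_⟩
    have hi : i = Fin.last 0 := Fin.ext (by have := i.2; simp only [Fin.val_last]; omega)
    rw [hi]
    haveI : IsLocalHom (CommRingCat.ofHom φ0).hom := hloc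
    exact closedPoint_image (y (Fin.last 0)) (CommRingCat.ofHom φ0)
  | succ n ih =>
    intro y hy
    obtain ⟨K, hK, V, φ, hφ, q', hq', hq'y⟩ := ih (fun i => y i.castSucc)
      (fun i j hij => hy _ _ (Fin.castSucc_le_castSucc_iff.2 hij))
    have hspec : y (Fin.last n).castSucc ⤳ y (Fin.last (n + 1)) :=
      hy _ _ (Fin.le_last _)
    let sp : P.presheaf.stalk (y (Fin.last (n + 1))) →+* V :=
      φ.hom.comp (P.presheaf.stalkSpecializes hspec).hom
    let ψ : P.presheaf.stalk (y (Fin.last (n + 1))) →+* IsLocalRing.ResidueField V :=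
      (IsLocalRing.residue V).comp sp
    obtain ⟨V', hV', hloc⟩ := IsLocalRing.exists_factor_valuationRing ψ
    have hmem : ∀ a, V.subtype (sp a) ∈ (comp V V').toSubring := by
      intro a
      exact (mem_comp V V' _).2 ⟨(sp a).2, hV' a⟩
    let φ'' : P.presheaf.stalk (y (Fin.last (n + 1))) →+* (comp V V') :=
      (V.subtype.comp sp).codRestrict (comp V V').toSubring hmem
    have hloc'' : IsLocalHom φ'' := by
      constructor
      intro a ha
      obtain ⟨b, hb⟩ := ha.exists_right_inv
      -- b ∈ comp V V'
      obtain ⟨hbV, hbV'⟩ := (mem_comp V V' _).1 b.2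
      have h1 : sp a * ⟨b.1, hbV⟩ = 1 := by
        apply Subtype.ext
        have := congrArg Subtype.val hb
        exact this
      have h2 : ψ a * IsLocalRing.residue V ⟨b.1, hbV⟩ = 1 := by
        show IsLocalRing.residue V (sp a) * _ = 1
        rw [← map_mul, h1, map_one]
      have h3 : IsUnit ((ψ.codRestrict V'.toSubring hV') a) := by
        refine IsUnit.of_mul_eq_one ⟨_, hbV'⟩ ?_
        exact Subtype.ext h2
      exact hloc.map_nonunit a h3
    let j : (comp V V') →+* V := ValuationSubring.inclusion _ _ (comp_le V V')
    have hj : j.comp φ'' = sp := by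
      ext a
      rfl
    let q'' : Fin (n + 2) → Spec (CommRingCat.of (comp V V')) := fun i =>
      if h : i = Fin.last (n + 1) then IsLocalRing.closedPoint (comp V V')
      else Spec.map (CommRingCat.ofHom j) (q' (i.castPred h))
    refine ⟨K, hK, comp V V', CommRingCat.ofHom φ'', hloc'', q'', ?_, ?_⟩
    · intro i k hik
      by_cases hk : k = Fin.last (n + 1)
      · simp only [q'', hk, dite_true]
        exact IsLocalRing.specializes_closedPoint _
      · have hi : i ≠ Fin.last (n + 1) := by
          intro hi
          apply hk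
          rw [hi] at hik
          exact le_antisymm (Fin.le_last _) hik
        simp only [q'', hk, hi, dite_false]
        exact (hq' _ _ (Fin.castPred_le_castPred_iff.2 hik)).map
          (Spec.map (CommRingCat.ofHom j)).continuous
    · intro i
      by_cases hi : i = Fin.last (n + 1)
      · simp only [q'', hi, dite_true]
        haveI : IsLocalHom (CommRingCat.ofHom φ'').hom := hloc''
        exact closedPoint_image (y (Fin.last (n + 1))) (CommRingCat.ofHom φ'')
      · simp only [q'', hi, dite_false]
        have e1 : CommRingCat.ofHom φ'' ≫ CommRingCat.ofHom j =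
            P.presheaf.stalkSpecializes hspec ≫ φ := by
          ext a
          rfl
        have e2 : Spec.map (CommRingCat.ofHom j) ≫ Spec.map (CommRingCat.ofHom φ'') ≫
            P.fromSpecStalk (y (Fin.last (n + 1))) =
            Spec.map φ ≫ P.fromSpecStalk (y (Fin.last n).castSucc) := by
          rw [← Category.assoc, ← Spec.map_comp, e1, Spec.map_comp, Category.assoc,
            Scheme.SpecMap_stalkSpecializes_fromSpecStalk]
        have e3 := congr($e2 (q' (i.castPred hi)))
        rw [Scheme.Hom.comp_apply] at e3
        refine e3.trans ((hq'y (i.castPred hi)).trans ?_)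
        rw [Fin.castSucc_castPred]



/-- Let f : X ⟶ Y be a morphism of schemes such that every base change of f has the lifting property for
ordered pairs of points (every point together with a specialization of it is the image of such a
pair). Then every finite chain of points y_0, y_1, …, y_n of Y, in which y_j is a specialization of
y_i whenever i ≤ j, lifts to a chain in X: there are points x_0, …, x_n of X with x_j a
specialization of x_i for i ≤ j and f(x_i) = y_i for every i. (The published statement is for
universally subtrusive f, which adds submersiveness for the constructible topologies, and for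
arbitrary chains having a lower bound in Y; this row keeps the pair-lifting property alone and
finite chains, whose most special member is a lower bound.) -/
theorem result {X Y : Scheme.{u}} (f : X ⟶ Y)
    (hf : Subtr.UnivSSubtrusive f) (n : ℕ) (y : Fin (n + 1) → Y)
    (hy : ∀ i j : Fin (n + 1), i ≤ j → y i ⤳ y j) :
    ∃ x : Fin (n + 1) → X, (∀ i j : Fin (n + 1), i ≤ j → x i ⤳ x j) ∧ ∀ i, f (x i) = y i := by
  obtain ⟨K, hK, V, φ, hφ, q, hq, hqy⟩ := exists_valuationRing_chain n y hy
  obtain ⟨ι, hι⟩ : ∃ ι : Spec (CommRingCat.of V) ⟶ Y,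
      ι = Spec.map φ ≫ Y.fromSpecStalk (y (Fin.last n)) := ⟨_, rfl⟩
  rw [← hι] at hqy
  have hfV : Subtr.UnivSSubtrusive (pullback.snd f ι) := by
    haveI : Subtr.UnivSSubtrusive.IsStableUnderBaseChange := by
      unfold Subtr.UnivSSubtrusive
      infer_instance
    exact MorphismProperty.of_isPullback (P := Subtr.UnivSSubtrusive)
      (IsPullback.of_hasPullback f ι) hf
  have htfae := Groth.Agent.S14765.result V (pullback.snd f ι)
  obtain ⟨W, hW1, hW2, hW3, g, hg⟩ := (htfae.out 0 4).1 hfV
  -- a set-theoretic section of the surjection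
  have hsec : ∀ v : Spec (CommRingCat.of V), ∃ w : Spec (CommRingCat.of W),
      (g ≫ pullback.snd f ι) w = v := fun v => hg.surj v
  choose σ hσ using hsec
  refine ⟨fun i => (g ≫ pullback.fst f ι) (σ (q i)), ?_, ?_⟩
  · intro i j hij
    have hqij := hq i j hij
    -- total order on Spec W
    have htot : σ (q i) ⤳ σ (q j) ∨ σ (q j) ⤳ σ (q i) := by
      rcases (ValuationRing.le_total_ideal (A := W)).total (σ (q i)).asIdeal (σ (q j)).asIdeal
        with h | h
      · left; exact (PrimeSpectrum.le_iff_specializes _ _).1 h
      · right; exact (PrimeSpectrum.le_iff_specializes _ _).1 h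
    rcases htot with h | h
    · exact h.map (g ≫ pullback.fst f ι).continuous
    · have h' : q j ⤳ q i := by
        have := h.map (g ≫ pullback.snd f ι).continuous
        rwa [hσ, hσ] at this
      have heq : q i = q j := (hqij.antisymm h').eq
      show (g ≫ pullback.fst f ι) (σ (q i)) ⤳ (g ≫ pullback.fst f ι) (σ (q j))
      rw [heq]
  · intro i
    rw [← Scheme.Hom.comp_apply, Category.assoc, pullback.condition, ← Category.assoc,
      Scheme.Hom.comp_apply, hσ]
    exact hqy i

end Groth.Agent.S19530
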