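import Groth.Statements.S14783
import Mathlib
import Groth.Agent.S19530
import Groth.Agent.S14767
import Groth.Agent.Lib.Helper81.IndQAff
-- import your own Groth.Agent.* helpers here

set_option autoImplicit false
universe u
open CategoryTheory CategoryTheory.Limits AlgebraicGeometry
open Subtr

namespace Groth.Agent.S14783


/-- points in the closure of the range of `comap φ` are specializations of points in the range -/
theorem exists_specializes_of_mem_closure_range_comap {R A : Type u} [CommRing R] [CommRing A]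
    (φ : R →+* A) (x : PrimeSpectrum R) (hx : x ∈ closure (Set.range (PrimeSpectrum.comap φ))) :
    ∃ p : PrimeSpectrum A, PrimeSpectrum.comap φ p ⤳ x := by
  rw [PrimeSpectrum.closure_range_comap] at hx
  have hle : RingHom.ker φ ≤ x.asIdeal := hx
  obtain ⟨q, hq, hqx⟩ := Ideal.exists_minimalPrimes_le hle
  have hq' : q ∈ (Ideal.comap φ ⊥).minimalPrimes := hq
  obtain ⟨p, hp, _, rfl⟩ := Ideal.exists_comap_eq_of_mem_minimalPrimes φ (I := ⊥) q hq'
  exact ⟨⟨p, hp⟩, (PrimeSpectrum.le_iff_specializes _ _).1 hqx⟩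

/-- a compact locally closed subset of a prime spectrum: closure = specializations -/
theorem exists_specializes_of_mem_closure_spec {R : Type u} [CommRing R]
    (F : Set (PrimeSpectrum R)) (hlc : IsLocallyClosed F) (hc : IsCompact F)
    (x : PrimeSpectrum R) (hx : x ∈ closure F) : ∃ p ∈ F, p ⤳ x := by
  obtain ⟨O, Z, hO, hZ, rfl⟩ := hlc
  -- cover by basic opens inside O
  have hcov : ∀ p : (O ∩ Z : Set (PrimeSpectrum R)), ∃ h : R,
      p.1 ∈ (PrimeSpectrum.basicOpen h : Set (PrimeSpectrum R)) ∧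
      (PrimeSpectrum.basicOpen h : Set (PrimeSpectrum R)) ⊆ O := by
    intro p
    obtain ⟨_, ⟨h, rfl⟩, h1, h2⟩ :=
      PrimeSpectrum.isTopologicalBasis_basic_opens.exists_subset_of_mem_open p.2.1 hO
    exact ⟨h, h1, h2⟩
  choose h hh1 hh2 using hcov
  have hsub : O ∩ Z ⊆ ⋃ p : (O ∩ Z : Set (PrimeSpectrum R)),
      (PrimeSpectrum.basicOpen (h p) : Set (PrimeSpectrum R)) :=
    fun p hp => Set.mem_iUnion.2 ⟨⟨p, hp⟩, hh1 ⟨p, hp⟩⟩
  obtain ⟨t, ht⟩ := hc.elim_finite_subcover
    (fun p : (O ∩ Z : Set (PrimeSpectrum R)) => (PrimeSpectrum.basicOpen (h p) : Set _))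
    (fun p => (PrimeSpectrum.basicOpen (h p)).isOpen) hsub
  have hF : O ∩ Z = ⋃ p ∈ t, ((PrimeSpectrum.basicOpen (h p) : Set _) ∩ Z) := by
    apply Set.Subset.antisymm
    · intro p hp
      have := ht hp
      simp only [Set.mem_iUnion] at this ⊢
      obtain ⟨i, hi, hpi⟩ := this
      exact ⟨i, hi, hpi, hp.2⟩
    · intro p hp
      simp only [Set.mem_iUnion] at hp
      obtain ⟨i, hi, hpi, hpZ⟩ := hp
      exact ⟨hh2 i hpi, hpZ⟩
  rw [hF, t.closure_biUnion] at hx
  simp only [Set.mem_iUnion] at hx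
  obtain ⟨i, hi, hxi⟩ := hx
  -- the ring map R → (R/I)_h
  let I := PrimeSpectrum.vanishingIdeal Z
  have hZI : Z = PrimeSpectrum.zeroLocus (I : Set R) := by
    rw [PrimeSpectrum.zeroLocus_vanishingIdeal_eq_closure, hZ.closure_eq]
  let hbar := Ideal.Quotient.mk I (h i)
  let φ : R →+* Localization.Away hbar :=
    (algebraMap (R ⧸ I) (Localization.Away hbar)).comp (Ideal.Quotient.mk I)
  have hrange : Set.range (PrimeSpectrum.comap φ) =
      (PrimeSpectrum.basicOpen (h i) : Set _) ∩ Z := by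
    have e1 : PrimeSpectrum.comap φ = (PrimeSpectrum.comap (Ideal.Quotient.mk I)) ∘
        (PrimeSpectrum.comap (algebraMap (R ⧸ I) (Localization.Away hbar))) := by
      ext1 p; rfl
    rw [e1, Set.range_comp, PrimeSpectrum.localization_away_comap_range (Localization.Away hbar) hbar]
    have e2 : (PrimeSpectrum.basicOpen hbar : Set (PrimeSpectrum (R ⧸ I))) =
        (PrimeSpectrum.comap (Ideal.Quotient.mk I)) ⁻¹' (PrimeSpectrum.basicOpen (h i) : Set _) := by
      ext p; rfl
    rw [e2, Set.image_preimage_eq_inter_range,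
      _root_.range_comap_of_surjective _ _ Ideal.Quotient.mk_surjective, Ideal.mk_ker, ← hZI]
  rw [← hrange] at hxi
  obtain ⟨p, hp⟩ := exists_specializes_of_mem_closure_range_comap φ x hxi
  refine ⟨PrimeSpectrum.comap φ p, ?_, hp⟩
  have : PrimeSpectrum.comap φ p ∈ (PrimeSpectrum.basicOpen (h i) : Set _) ∩ Z := by
    rw [← hrange]; exact ⟨p, rfl⟩
  exact ⟨hh2 i this.1, this.2⟩


/-- Helper B: in a scheme, the closure of a locally closed retrocompact subset consists of
specializations of its points. -/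
theorem exists_specializes_of_mem_closure_of_lc_retro {X : Scheme.{u}} (F : Set X)
    (hlc : IsLocallyClosed F) (hr : IsRetrocompact F) (x : X) (hx : x ∈ closure F) :
    ∃ p ∈ F, p ⤳ x := by
  obtain ⟨R, ι, hι, xR, hxR⟩ : ∃ (R : CommRingCat.{u}) (ι : Spec R ⟶ X) (_ : IsOpenImmersion ι)
      (xR : Spec R), ι xR = x := by
    obtain ⟨xR, hxR⟩ := X.affineOpenCover.covers x
    exact ⟨_, X.affineOpenCover.f (X.affineOpenCover.idx x), inferInstance, xR, hxR⟩
  have hFR_lc : IsLocallyClosed (ι ⁻¹' F) := hlc.preimage ι.continuous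
  have hFR_c : IsCompact (ι ⁻¹' F) := by
    have h1 : IsCompact (F ∩ Set.range ι) :=
      hr (isCompact_range ι.continuous) ι.isOpenEmbedding.isOpen_range
    have h2 : ι ⁻¹' F = ι ⁻¹' (F ∩ Set.range ι) := by
      ext y; simp
    rw [h2]
    exact ι.isOpenEmbedding.isInducing.isCompact_preimage' h1 Set.inter_subset_right
  have hxcl : xR ∈ closure (ι ⁻¹' F) := by
    rw [← ι.isOpenEmbedding.isOpenMap.preimage_closure_eq_closure_preimage ι.continuous]
    show ι xR ∈ closure F
    rw [hxR]; exact hx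
  obtain ⟨p, hpF, hpx⟩ := exists_specializes_of_mem_closure_spec (R := R) (ι ⁻¹' F) hFR_lc hFR_c
    xR hxcl
  exact ⟨ι p, hpF, hxR ▸ hpx.map ι.continuous⟩


/-- L1 (local piece): affine open `A` mapping into affine open `V`. -/
theorem isCompact_preimage_inter_affine {S' S : Scheme.{u}} (f : S' ⟶ S) (E : Set S)
    (hlc : IsLocallyClosed E) (hr : IsRetrocompact E) (A : S'.Opens) (hA : IsAffineOpen A)
    (V : S.Opens) (hV : IsAffineOpen V) (hAV : A ≤ f ⁻¹ᵁ V) :
    IsCompact (f ⁻¹' E ∩ (A : Set S')) := by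
  obtain ⟨O, Z, hO, hZ, rfl⟩ := hlc
  have hK : IsCompact ((O ∩ Z) ∩ (V : Set S)) := hr hV.isCompact V.isOpen
  obtain ⟨Q, hQc, hKQ, hQle⟩ := Groth.Agent.Lib.Helper81.IndQAff.exists_compact_open_between
    ((O ∩ Z) ∩ (V : Set S)) hK (⟨O, hO⟩ ⊓ V) (fun y hy => ⟨hy.1.1, hy.2⟩)
  have hQV : (Q : Set S) ⊆ V := fun y hy => (hQle hy).2
  have hQO : (Q : Set S) ⊆ O := fun y hy => (hQle hy).1
  -- the map g : A ⟶ V
  have hrange : Set.range (A.ι ≫ f) ⊆ Set.range V.ι := by
    rintro _ ⟨a, rfl⟩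
    rw [Scheme.Opens.range_ι]
    exact hAV a.2
  let g : (A : Scheme.{u}) ⟶ (V : Scheme.{u}) := IsOpenImmersion.lift V.ι (A.ι ≫ f) hrange
  have hg : g ≫ V.ι = A.ι ≫ f := IsOpenImmersion.lift_fac _ _ _
  haveI : IsAffine (A : Scheme.{u}) := hA
  haveI : IsAffine (V : Scheme.{u}) := hV
  haveI : IsAffineHom g := isAffineHom_of_isAffine g
  have hQ'c : IsCompact (V.ι ⁻¹' (Q : Set S)) :=
    V.ι.isOpenEmbedding.isInducing.isCompact_preimage' hQc
      (by rw [Scheme.Opens.range_ι]; exact hQV)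
  have hQ'o : IsOpen (V.ι ⁻¹' (Q : Set S)) := Q.isOpen.preimage V.ι.continuous
  have hc1 : IsCompact (g ⁻¹' (V.ι ⁻¹' (Q : Set S))) :=
    QuasiCompact.isCompact_preimage (f := g) _ hQ'o hQ'c
  have hc2 : IsCompact ((A.ι ≫ f) ⁻¹' Z ∩ g ⁻¹' (V.ι ⁻¹' (Q : Set S))) :=
    hc1.inter_left (hZ.preimage (A.ι ≫ f).continuous)
  have himg : f ⁻¹' (O ∩ Z) ∩ (A : Set S') =
      A.ι '' ((A.ι ≫ f) ⁻¹' Z ∩ g ⁻¹' (V.ι ⁻¹' (Q : Set S))) := by
    ext x
    constructor
    · rintro ⟨⟨hxO, hxZ⟩, hxA⟩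
      refine ⟨⟨x, hxA⟩, ⟨?_, ?_⟩, rfl⟩
      · exact hxZ
      · show V.ι (g ⟨x, hxA⟩) ∈ Q
        rw [← Scheme.Hom.comp_apply, hg]
        exact hKQ ⟨⟨hxO, hxZ⟩, hAV hxA⟩
    · rintro ⟨a, ⟨haZ, haQ⟩, rfl⟩
      have h1 : V.ι (g a) ∈ Q := haQ
      rw [← Scheme.Hom.comp_apply, hg] at h1
      exact ⟨⟨hQO h1, haZ⟩, a.2⟩
  rw [himg]
  exact hc2.image A.ι.continuous

/-- L1: preimages of locally closed retrocompact sets are retrocompact. -/
theorem isRetrocompact_preimage {S' S : Scheme.{u}} (f : S' ⟶ S) (E : Set S)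
    (hlc : IsLocallyClosed E) (hr : IsRetrocompact E) : IsRetrocompact (f ⁻¹' E) := by
  intro U' hU'c hU'o
  have hex : ∀ x : U', ∃ A : S'.Opens, IsAffineOpen A ∧ x.1 ∈ A ∧ (A : Set S') ⊆ U' ∧
      ∃ V : S.Opens, IsAffineOpen V ∧ A ≤ f ⁻¹ᵁ V := by
    intro x
    obtain ⟨_, ⟨V, hV, rfl⟩, hxV, -⟩ :=
      S.isBasis_affineOpens.exists_subset_of_mem_open (Set.mem_univ (f x.1)) isOpen_univ
    obtain ⟨_, ⟨A, hA, rfl⟩, hxA, hAsub⟩ :=
      S'.isBasis_affineOpens.exists_subset_of_mem_open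
        (show x.1 ∈ U' ∩ (f ⁻¹ᵁ V : Set S') from ⟨x.2, hxV⟩) (hU'o.inter (f ⁻¹ᵁ V).isOpen)
    exact ⟨A, hA, hxA, fun y hy => (hAsub hy).1, V, hV, fun y hy => (hAsub hy).2⟩
  choose A hA hxA hAU V hV hAV using hex
  have hsub : U' ⊆ ⋃ x : U', (A x : Set S') := fun x hx => Set.mem_iUnion.2 ⟨⟨x, hx⟩, hxA ⟨x, hx⟩⟩
  obtain ⟨t, ht⟩ := hU'c.elim_finite_subcover (fun x : U' => (A x : Set S'))
    (fun x => (A x).isOpen) hsub
  have heq : f ⁻¹' E ∩ U' = ⋃ x ∈ t, (f ⁻¹' E ∩ (A x : Set S')) := by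
    ext y
    simp only [Set.mem_inter_iff, Set.mem_iUnion]
    constructor
    · rintro ⟨hyE, hyU⟩
      have := ht hyU
      simp only [Set.mem_iUnion] at this
      obtain ⟨x, hx, hyx⟩ := this
      exact ⟨x, hx, hyE, hyx⟩
    · rintro ⟨x, hx, hyE, hyx⟩
      exact ⟨hyE, hAU x hyx⟩
  rw [heq]
  exact t.isCompact_biUnion fun x _ =>
    isCompact_preimage_inter_affine f E hlc hr (A x) (hA x) (V x) (hV x) (hAV x)


theorem isSSubtrusive_of_univ {X Y : Scheme.{u}} (f : X ⟶ Y) (hf : Subtr.UnivSSubtrusive f) :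
    Subtr.IsSSubtrusive f :=
  hf _ _ _ (IsPullback.of_id_snd)


/-- Let f : S' ⟶ S be a quasi-compact morphism of schemes every base change of which has the lifting
property for ordered pairs of points, and E ⊆ S any subset. For E to be both locally closed and
retrocompact it is necessary and sufficient that f⁻¹(E) be both. -/
theorem result {S' S : Scheme.{u}} (f : S' ⟶ S)
    [QuasiCompact f] (hf : Subtr.UnivSSubtrusive f) (E : Set S) :
    (IsLocallyClosed E ∧ IsRetrocompact E) ↔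
      (IsLocallyClosed (f ⁻¹' E) ∧ IsRetrocompact (f ⁻¹' E)) := by
  constructor
  · rintro ⟨h1, h2⟩
    exact ⟨h1.preimage f.continuous, isRetrocompact_preimage f E h1 h2⟩
  · rintro ⟨hlc, hr⟩
    have hS := isSSubtrusive_of_univ f hf
    have hsurj : Function.Surjective f := by
      intro y
      obtain ⟨x, _, _, hx, _⟩ := hS (specializes_rfl : y ⤳ y)
      exact ⟨x, hx⟩
    have hEimg : E = f '' (f ⁻¹' E) := (Set.image_preimage_eq E hsurj).symm
    refine ⟨?_, ?_⟩
    · -- locally closed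
      obtain ⟨O, Zc, hO, hZc, hOZ⟩ := hlc
      have hlc' : IsLocallyClosed (f ⁻¹' E) := ⟨O, Zc, hO, hZc, hOZ⟩
      -- G := f '' closure F' is closed
      have hGstab : StableUnderSpecialization (f '' closure (f ⁻¹' E)) := by
        rintro g g' hgg' ⟨z, hz, rfl⟩
        obtain ⟨x0, hx0, hx0z⟩ := exists_specializes_of_mem_closure_of_lc_retro _ hlc' hr z hz
        have h1 : f x0 ⤳ g' := (hx0z.map f.continuous).trans hgg'
        obtain ⟨x2, x0', hx, hx2, hx0'⟩ := hS h1
        have hx0'F : x0' ∈ f ⁻¹' E := by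
          show f x0' ∈ E
          rw [hx0']; exact hx0
        exact ⟨x2, hx.mem_closed isClosed_closure (subset_closure hx0'F), hx2⟩
      have hGcl : IsClosed (f '' closure (f ⁻¹' E)) :=
        Groth.Agent.S14767.isClosed_image_qc f _ isClosed_closure hGstab
      have hG : closure E = f '' closure (f ⁻¹' E) := by
        apply Set.Subset.antisymm
        · apply closure_minimal _ hGcl
          rw [hEimg]
          exact Set.image_mono (by rw [← hEimg]; exact subset_closure)
        · have := image_closure_subset_closure_image (s := f ⁻¹' E) f.continuous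
          rwa [← hEimg] at this
      -- C = closure E \ E = f '' (closure F' \ F')
      have hC : closure E \ E = f '' (closure (f ⁻¹' E) \ f ⁻¹' E) := by
        apply Set.Subset.antisymm
        · rintro c ⟨hc1, hc2⟩
          rw [hG] at hc1
          obtain ⟨z, hz, rfl⟩ := hc1
          exact ⟨z, ⟨hz, hc2⟩, rfl⟩
        · rintro _ ⟨z, ⟨hz1, hz2⟩, rfl⟩
          refine ⟨?_, hz2⟩
          rw [hG]; exact ⟨z, hz1, rfl⟩
      have hBcl : IsClosed (closure (f ⁻¹' E) \ f ⁻¹' E) := by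
        have := hlc'.isOpen_coborder
        rw [coborder] at this
        exact isOpen_compl_iff.1 this
      have hCstab : StableUnderSpecialization (f '' (closure (f ⁻¹' E) \ f ⁻¹' E)) := by
        rw [← hC]
        rintro c c' hcc' ⟨hc1, hc2⟩
        refine ⟨hcc'.mem_closed isClosed_closure hc1, fun hc'E => hc2 ?_⟩
        rw [hG] at hc1
        obtain ⟨z, hz, rfl⟩ := hc1
        obtain ⟨x0, hx0, hx0z⟩ := exists_specializes_of_mem_closure_of_lc_retro _ hlc' hr z hz
        -- chain f x0 ⤳ f z ⤳ c'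
        let y : Fin 3 → S := ![f x0, f z, c']
        have hy : ∀ i j : Fin 3, i ≤ j → y i ⤳ y j := by
          intro i j hij
          fin_cases i <;> fin_cases j <;> first
            | exact specializes_rfl
            | exact hx0z.map f.continuous
            | exact hcc'
            | exact (hx0z.map f.continuous).trans hcc'
            | (exfalso; revert hij; decide)
        obtain ⟨x, hxch, hxy⟩ := Groth.Agent.S19530.result f hf 2 y hy
        have h0 : x 0 ∈ f ⁻¹' E := by
          show f (x 0) ∈ E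
          rw [hxy 0]; exact hx0
        have h2 : x 2 ∈ f ⁻¹' E := by
          show f (x 2) ∈ E
          rw [hxy 2]; exact hc'E
        have h1 : x 1 ∈ f ⁻¹' E := by
          rw [hOZ] at h0 h2 ⊢
          refine ⟨?_, ?_⟩
          · exact (hxch 1 2 (by decide)).mem_open hO h2.1
          · exact (hxch 0 1 (by decide)).mem_closed hZc h0.2
        have : f (x 1) ∈ E := h1
        rw [hxy 1] at this
        exact this
      have hCcl : IsClosed (closure E \ E) := by
        rw [hC]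
        exact Groth.Agent.S14767.isClosed_image_qc f _ hBcl hCstab
      rw [isLocallyClosed_iff_isOpen_coborder, coborder]
      exact hCcl.isOpen_compl
    · -- retrocompact
      intro U hUc hUo
      have h1 : IsCompact (f ⁻¹' U) := QuasiCompact.isCompact_preimage (f := f) U hUo hUc
      have h2 : IsCompact (f ⁻¹' E ∩ f ⁻¹' U) := hr h1 (hUo.preimage f.continuous)
      have h3 : E ∩ U = f '' (f ⁻¹' E ∩ f ⁻¹' U) := by
        rw [← Set.preimage_inter, Set.image_preimage_eq _ hsurj]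
      rw [h3]
      exact h2.image f.continuous

end Groth.Agent.S14783
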