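import Groth.Statements.S14784
import Mathlib
import Groth.Agent.S19530
import Groth.Agent.S14767
import Groth.Agent.Lib.Helper38.ProConsClosure
-- import your own Groth.Agent.* helpers here

set_option autoImplicit false
universe u
open CategoryTheory CategoryTheory.Limits AlgebraicGeometry
open Subtr

namespace Groth.Agent.S14784
open Topology


/-- the constructible hull of a set -/
def consHull {S : Scheme.{u}} (E : Set S) : Set S :=
  ⋂₀ {T | IsConstructible T ∧ E ⊆ T}

theorem subset_consHull {S : Scheme.{u}} (E : Set S) : E ⊆ consHull E :=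
  Set.subset_sInter fun _ hT => hT.2

theorem isProConstructible_consHull {S : Scheme.{u}} (E : Set S) :
    ProCons.IsProConstructible (consHull E) := by
  intro x
  refine ⟨Set.univ, isOpen_univ, trivial,
    {T' | ∃ T, IsConstructible T ∧ E ⊆ T ∧ T' = Subtype.val ⁻¹' T}, ?_, ?_⟩
  · rintro _ ⟨T, hT, -, rfl⟩
    exact hT.isLocallyConstructible.preimage_of_isOpenEmbedding
      isOpen_univ.isOpenEmbedding_subtypeVal
  · ext y
    simp only [consHull, Set.mem_preimage, Set.mem_sInter, Set.mem_ofPred_eq]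
    constructor
    · rintro h _ ⟨T, hT, hET, rfl⟩
      exact h T ⟨hT, hET⟩
    · intro h T hT
      exact h _ ⟨T, hT.1, hT.2, rfl⟩

theorem isSSubtrusive_of_univ {X Y : Scheme.{u}} (f : X ⟶ Y) (hf : Subtr.UnivSSubtrusive f) :
    Subtr.IsSSubtrusive f :=
  hf _ _ _ (IsPullback.of_id_snd)

/-- affine target case -/
theorem isLocallyClosed_of_preimage_affine {S' S : Scheme.{u}} [IsAffine S] (f : S' ⟶ S)
    [LocallyOfFinitePresentation f] [QuasiCompact f] [QuasiSeparated f]
    (hf : Subtr.UnivSSubtrusive f) (E : Set S) (hlc : IsLocallyClosed (f ⁻¹' E)) :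
    IsLocallyClosed E := by
  have hS := isSSubtrusive_of_univ f hf
  have hsurj : Function.Surjective f := by
    intro y
    obtain ⟨x, _, _, hx, _⟩ := hS (specializes_rfl : y ⤳ y)
    exact ⟨x, hx⟩
  have hEimg : E = f '' (f ⁻¹' E) := (Set.image_preimage_eq E hsurj).symm
  haveI : QuasiSeparatedSpace S' := quasiSeparatedSpace_of_quasiSeparated f
  obtain ⟨O, Zc, hO, hZc, hOZ⟩ := hlc
  have hlc' : IsLocallyClosed (f ⁻¹' E) := ⟨O, Zc, hO, hZc, hOZ⟩
  -- key claim
  have hK : ∀ x' : S', f x' ∈ consHull E → x' ∈ closure (f ⁻¹' E) := by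
    intro x' hx'
    by_contra hcon
    have hopen : IsOpen (closure (f ⁻¹' E))ᶜ := isClosed_closure.isOpen_compl
    obtain ⟨_, ⟨N, hN, rfl⟩, hxN, hNsub⟩ :=
      S'.isBasis_affineOpens.exists_subset_of_mem_open (show x' ∈ (closure (f ⁻¹' E))ᶜ from hcon) hopen
    have hNc : IsConstructible (N : Set S') := hN.isCompact.isConstructible N.isOpen
    have himg : IsConstructible (f '' (N : Set S')) := f.isConstructible_image hNc
    have hdisj : E ⊆ (f '' (N : Set S'))ᶜ := by
      rintro e he ⟨n, hn, rfl⟩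
      exact hNsub hn (subset_closure he)
    have : f x' ∈ (f '' (N : Set S'))ᶜ :=
      hx' _ ⟨isConstructible_compl.2 himg, hdisj⟩
    exact this ⟨x', hxN, rfl⟩
  have hspec : ∀ c ∈ closure E, ∃ e' ∈ consHull E, e' ⤳ c := by
    intro c hc
    exact Groth.Agent.Lib.Helper38.ProConsClosure.exists_specializes_of_mem_closure _
      (isProConstructible_consHull E) c (closure_mono (subset_consHull E) hc)
  have hG : closure E = f '' closure (f ⁻¹' E) := by
    apply Set.Subset.antisymm
    · intro c hc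
      obtain ⟨e', he', he'c⟩ := hspec c hc
      obtain ⟨x, x', hx, hxc, hxe'⟩ := hS he'c
      have : x' ∈ closure (f ⁻¹' E) := hK x' (hxe' ▸ he')
      exact ⟨x, hx.mem_closed isClosed_closure this, hxc⟩
    · have := image_closure_subset_closure_image (s := f ⁻¹' E) f.continuous
      rwa [← hEimg] at this
  have hC : closure E \ E = f '' (closure (f ⁻¹' E) \ f ⁻¹' E) := by
    apply Set.Subset.antisymm
    · rintro c ⟨hc1, hc2⟩
      rw [hG] at hc1
      obtain ⟨z, hz, rfl⟩ := hc1
      exact ⟨z, ⟨hz, hc2⟩, rfl⟩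
    · rintro _ ⟨z, ⟨hz1, hz2⟩, rfl⟩
      refine ⟨?_, hz2⟩
      rw [hG]; exact ⟨z, hz1, rfl⟩
  have hBcl : IsClosed (closure (f ⁻¹' E) \ f ⁻¹' E) := by
    have := hlc'.isOpen_coborder
    rw [coborder] at this
    exact isOpen_compl_iff.1 this
  have hCstab : StableUnderSpecialization (f '' (closure (f ⁻¹' E) \ f ⁻¹' E)) := by
    rw [← hC]
    rintro c c' hcc' ⟨hc1, hc2⟩
    refine ⟨hcc'.mem_closed isClosed_closure hc1, fun hc'E => hc2 ?_⟩
    obtain ⟨e', he', he'c⟩ := hspec c hc1
    let y : Fin 3 → S := ![e', c, c']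
    have hy : ∀ i j : Fin 3, i ≤ j → y i ⤳ y j := by
      intro i j hij
      fin_cases i <;> fin_cases j <;> first
        | exact specializes_rfl
        | exact he'c
        | exact hcc'
        | exact he'c.trans hcc'
        | (exfalso; revert hij; decide)
    obtain ⟨x, hxch, hxy⟩ := Groth.Agent.S19530.result f hf 2 y hy
    have h0 : x 0 ∈ closure (f ⁻¹' E) := hK _ (by rw [hxy 0]; exact he')
    have h2 : x 2 ∈ f ⁻¹' E := by
      show f (x 2) ∈ E
      rw [hxy 2]; exact hc'E
    have h1 : x 1 ∈ f ⁻¹' E := by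
      have hcl : closure (f ⁻¹' E) ⊆ Zc := by
        apply closure_minimal _ hZc
        rw [hOZ]; exact Set.inter_subset_right
      rw [hOZ] at h2 ⊢
      refine ⟨?_, ?_⟩
      · exact (hxch 1 2 (by decide)).mem_open hO h2.1
      · exact (hxch 0 1 (by decide)).mem_closed hZc (hcl h0)
    have : f (x 1) ∈ E := h1
    rw [hxy 1] at this
    exact this
  have hCcl : IsClosed (closure E \ E) := by
    rw [hC]
    exact Groth.Agent.S14767.isClosed_image_qc f _ hBcl hCstab
  rw [isLocallyClosed_iff_isOpen_coborder, coborder]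
  exact hCcl.isOpen_compl



/-- Let f : S' ⟶ S be a morphism of schemes of finite presentation every base change of which has the
lifting property for ordered pairs of points, and E ⊆ S a subset. Then E is locally closed if and
only if f⁻¹(E) is locally closed. (The published statement is for algebraic spaces; this row is the
case of schemes.) -/
theorem result {S' S : Scheme.{u}} (f : S' ⟶ S)
    [LocallyOfFinitePresentation f] [QuasiCompact f] [QuasiSeparated f]
    (hf : Subtr.UnivSSubtrusive f) (E : Set S) :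
    IsLocallyClosed E ↔ IsLocallyClosed (f ⁻¹' E) := by
  refine ⟨fun h => h.preimage f.continuous, fun hlc => ?_⟩
  rw [TopologicalSpace.IsOpenCover.isLocallyClosed_iff_coe_preimage (iSup_affineOpens_eq_top S)]
  intro V
  haveI : IsAffine (V.1 : Scheme) := V.2
  have hfV : Subtr.UnivSSubtrusive (f ∣_ V.1) := by
    haveI : Subtr.UnivSSubtrusive.IsStableUnderBaseChange := by
      unfold Subtr.UnivSSubtrusive
      infer_instance
    exact MorphismProperty.of_isPullback (isPullback_morphismRestrict f V.1).flip hf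
  have hpre : (f ∣_ V.1) ⁻¹' (Subtype.val ⁻¹' E : Set V.1) = (f ⁻¹ᵁ V.1).ι ⁻¹' (f ⁻¹' E) := by
    ext x
    have := congr($(morphismRestrict_ι f V.1) x)
    simp only [Scheme.Hom.comp_apply] at this
    show ((f ∣_ V.1) x).1 ∈ E ↔ f ((f ⁻¹ᵁ V.1).ι x) ∈ E
    rw [← this]
    rfl
  have hlcV : IsLocallyClosed ((f ∣_ V.1) ⁻¹' (Subtype.val ⁻¹' E : Set V.1)) := by
    rw [hpre]
    exact hlc.preimage (f ⁻¹ᵁ V.1).ι.continuous
  exact isLocallyClosed_of_preimage_affine (f ∣_ V.1) hfV _ hlcV

end Groth.Agent.S14784
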