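import Groth.Statements.S14788
import Groth.Agent.S3398
import Groth.Agent.Lib.Helper38.ProConsClosure
open Groth.Agent.Lib.Helper38.ProConsClosure

set_option autoImplicit false
universe u
open CategoryTheory CategoryTheory.Limits AlgebraicGeometry
open Subtr

namespace Groth.Agent.S14788

/-- (i) ⇔ (iv): a morphism of schemes f : X ⟶ Y has the lifting property for ordered pairs of points if
and only if, for every pro-constructible subset Z ⊆ Y, the image under f of the closure of f⁻¹(Z) is
the closure of Z. (In the published item (iv) the right-hand side is printed as Z itself; the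
closure is meant, as the case of a non-closed point shows and as the proof uses.) -/
theorem result {X Y : Scheme.{u}} (f : X ⟶ Y) :
    Subtr.IsSSubtrusive f ↔
      ∀ Z : Set Y, ProCons.IsProConstructible Z → f '' closure (f ⁻¹' Z) = closure Z := by
  have hsingle : ∀ y' : Y, ProCons.IsProConstructible ({y'} : Set Y) := by
    intro y'
    have hfin : Finite (Spec (Y.residueField y')) :=
      inferInstanceAs (Finite (PrimeSpectrum (Y.residueField y')))
    have hqc : QuasiCompact (Y.fromSpecResidueField y') :=
      ⟨fun U _ _ => (Set.toFinite _).isCompact⟩
    have huniv : ProCons.IsProConstructible (Set.univ : Set (Spec (Y.residueField y'))) := by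
      intro x
      refine ⟨Set.univ, isOpen_univ, Set.mem_univ _, ∅, by simp, by simp⟩
    have := Groth.Agent.S3398.result (Y.fromSpecResidueField y') Set.univ huniv
    rw [Set.image_univ] at this
    have hr := Scheme.range_fromSpecResidueField y'
    rw [show Set.range (Y.fromSpecResidueField y').base = Set.range ⇑(Y.fromSpecResidueField y')
      from rfl, hr] at this
    exact this
  constructor
  · intro hf Z hZ
    apply subset_antisymm
    · exact (image_closure_subset_closure_image f.continuous).trans
        (closure_mono (Set.image_preimage_subset _ _))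
    · intro y hy
      obtain ⟨z, hz, hzy⟩ := exists_specializes_of_mem_closure Z hZ y hy
      obtain ⟨x, x', hx'x, hfx, hfx'⟩ := hf hzy
      refine ⟨x, ?_, hfx⟩
      have hmem : x' ∈ f ⁻¹' Z := by
        show f x' ∈ Z
        rw [hfx']; exact hz
      exact hx'x.mem_closed isClosed_closure (subset_closure hmem)
  · intro h y y' hy'y
    have h1 := h {y'} (hsingle y')
    have hy : y ∈ closure ({y'} : Set Y) := hy'y.mem_closure
    rw [← h1] at hy
    obtain ⟨x, hx, hfx⟩ := hy
    have hpc : ProCons.IsProConstructible (f.base ⁻¹' ({y'} : Set Y)) :=
      Groth.Agent.S15542.result f _ (hsingle y')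
    obtain ⟨x', hx', hx'x⟩ := exists_specializes_of_mem_closure _ hpc x hx
    exact ⟨x, x', hx'x, hfx, hx'⟩


end Groth.Agent.S14788
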