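import Groth.Statements.S14789
import Mathlib.Topology.Sober
import Mathlib.AlgebraicGeometry.Scheme
import Mathlib.AlgebraicGeometry.Properties
-- import your own Groth.Agent.* helpers here

set_option autoImplicit false
universe u
open CategoryTheory CategoryTheory.Limits AlgebraicGeometry
open Subtr

namespace Groth.Agent.S14789

/-- Let f : X ⟶ Y be a morphism of schemes with the lifting property for ordered pairs of points, and U
⊆ Y a subset containing every maximal point of Y (every point all of whose generizations are equal
to it). Then the closure of f⁻¹(U) maps onto Y. -/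
theorem result {X Y : Scheme.{u}} (f : X ⟶ Y)
    (hf : Subtr.IsSSubtrusive f) (U : Set Y) (hU : ∀ y : Y, (∀ y' : Y, y' ⤳ y → y' = y) → y ∈ U) :
    f '' closure (f ⁻¹' U) = Set.univ := by
  apply Set.eq_univ_of_forall
  intro y
  -- a maximal generization of y: the generic point of the irreducible component of y
  have hirr : IsIrreducible (irreducibleComponent y) := isIrreducible_irreducibleComponent
  have hcl : IsClosed (irreducibleComponent y) := isClosed_irreducibleComponent
  set y' : Y := hirr.genericPoint with hy'
  have hgen : IsGenericPoint y' (irreducibleComponent y) := hirr.isGenericPoint_genericPoint hcl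
  have hspec : y' ⤳ y := hgen.specializes mem_irreducibleComponent
  have hmax : ∀ z : Y, z ⤳ y' → z = y' := by
    intro z hz
    have h1 : irreducibleComponent y ⊆ closure ({z} : Set Y) := by
      rw [← hgen.def]
      exact closure_minimal (Set.singleton_subset_iff.mpr hz.mem_closure) isClosed_closure
    have h2 : closure ({z} : Set Y) = irreducibleComponent y :=
      eq_irreducibleComponent (isIrreducible_singleton.closure).isPreirreducible h1
    have h3 : IsGenericPoint z (irreducibleComponent y) := h2
    exact h3.eq hgen
  have hy'U : y' ∈ U := hU y' hmax
  obtain ⟨x, x', hxx', hx, hx'⟩ := hf hspec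
  refine ⟨x, ?_, hx⟩
  have : x' ∈ f ⁻¹' U := by
    show f x' ∈ U
    rw [hx']; exact hy'U
  exact closure_mono (Set.singleton_subset_iff.mpr this) hxx'.mem_closure

end Groth.Agent.S14789
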