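import Groth.Statements.S1479
import Groth.Agent.Lib.Helper35.JacobianPair
import Groth.Agent.Lib.Helper35.AffineChart

set_option autoImplicit false
universe u
open FlatMor

namespace Groth.Agent.S1479

section Helpers
set_option linter.style.haveILetI false
set_option maxHeartbeats 400000
open AlgebraicGeometry CategoryTheory Limits Groth.Agent.Lib.Helper35

set_option backward.defeqAttrib.useBackward true in
set_option backward.isDefEq.respectTransparency false in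
theorem aux {S X Y : Scheme.{u}} (pX : X ⟶ S) (pY : Y ⟶ S) [Smooth pX] [Smooth pY]
    (i : Y ⟶ X) [IsClosedImmersion i] (w : i ≫ pX = pY) (y : Y) :
    ∃ (U : X.Opens) (m n : ℕ) (π : (U : Scheme.{u}) ⟶ 𝔸(ULift.{u} (Fin m ⊕ Fin n); S)) (ρ : (↑(i ⁻¹ᵁ U) : Scheme.{u}) ⟶ 𝔸(ULift.{u} (Fin m); S)),
      i y ∈ U ∧ Etale π ∧ π ≫ (𝔸(ULift.{u} (Fin m ⊕ Fin n); S) ↘ S) = U.ι ≫ pX ∧
      IsPullback ρ (i ∣_ U)
        (AffineSpace.homOfVector (𝔸(ULift.{u} (Fin m); S) ↘ S)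
          (fun j : ULift.{u} (Fin m ⊕ Fin n) => Sum.elim (fun a => AffineSpace.coord S (ULift.up a)) (fun _ => 0) j.down))
        π := by
  -- affine opens
  obtain ⟨_, ⟨W, hW, rfl⟩, hyW, -⟩ := S.isBasis_affineOpens.exists_subset_of_mem_open
    (Set.mem_univ (pX (i y))) isOpen_univ
  obtain ⟨W, rfl⟩ : ∃ W' : S.Opens, W' = W := ⟨W, rfl⟩
  obtain ⟨_, ⟨U₀, hU₀, rfl⟩, hyU₀, hU₀W⟩ := X.isBasis_affineOpens.exists_subset_of_mem_open
    (show i y ∈ ((pX ⁻¹ᵁ W : X.Opens) : Set X) from hyW) (pX ⁻¹ᵁ W).2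
  obtain ⟨U₀, rfl⟩ : ∃ U' : X.Opens, U' = U₀ := ⟨U₀, rfl⟩
  have hU₀W' : U₀ ≤ pX ⁻¹ᵁ W := hU₀W
  have hV₀ : IsAffineOpen (i ⁻¹ᵁ U₀) := hU₀.preimage i
  have hV₀W : i ⁻¹ᵁ U₀ ≤ pY ⁻¹ᵁ W := by
    intro z hz
    have : pX (i z) ∈ W := hU₀W' hz
    rw [← w]
    exact this
  letI algAB : Algebra Γ(S, W) Γ(X, U₀) := (pX.appLE W U₀ hU₀W').hom.toAlgebra
  letI algBD : Algebra Γ(X, U₀) Γ(Y, i ⁻¹ᵁ U₀) := (i.app U₀).hom.toAlgebra
  letI algAD : Algebra Γ(S, W) Γ(Y, i ⁻¹ᵁ U₀) := (pY.appLE W (i ⁻¹ᵁ U₀) hV₀W).hom.toAlgebra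
  haveI : IsScalarTower Γ(S, W) Γ(X, U₀) Γ(Y, i ⁻¹ᵁ U₀) := IsScalarTower.of_algebraMap_eq' (by
    show (pY.appLE W (i ⁻¹ᵁ U₀) hV₀W).hom = (i.app U₀).hom.comp (pX.appLE W U₀ hU₀W').hom
    rw [← CommRingCat.hom_comp]
    congr 1
    subst w
    rw [← Scheme.Hom.appLE_eq_app, Scheme.Hom.appLE_comp_appLE])
  haveI : Algebra.Smooth Γ(S, W) Γ(X, U₀) :=
    HasRingHomProperty.appLE @Smooth pX ‹Smooth pX› ⟨W, hW⟩ ⟨U₀, hU₀⟩ hU₀W'
  haveI : Algebra.Smooth Γ(S, W) Γ(Y, i ⁻¹ᵁ U₀) :=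
    HasRingHomProperty.appLE @Smooth pY ‹Smooth pY› ⟨W, hW⟩ ⟨i ⁻¹ᵁ U₀, hV₀⟩ hV₀W
  have hsurj : Function.Surjective (algebraMap Γ(X, U₀) Γ(Y, i ⁻¹ᵁ U₀)) :=
    i.app_surjective U₀ hU₀
  have hyV₀ : y ∈ i ⁻¹ᵁ U₀ := hyU₀
  obtain ⟨m, r, g', g, f, hg, hf, H⟩ := JacobianPair.exists_chart_of_smooth_pair Γ(S, W) Γ(X, U₀)
    Γ(Y, i ⁻¹ᵁ U₀) hsurj (hV₀.primeIdealOf ⟨y, hyV₀⟩).asIdeal
  have hU : IsAffineOpen (X.basicOpen f) := hU₀.basicOpen f
  have hUU₀ : X.basicOpen f ≤ U₀ := X.basicOpen_le f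
  have hUW : X.basicOpen f ≤ pX ⁻¹ᵁ W := hUU₀.trans hU₀W'
  haveI : IsLocalization.Away f Γ(X, X.basicOpen f) := hU₀.isLocalization_basicOpen f
  obtain ⟨hét, hkerJ⟩ := H Γ(X, X.basicOpen f)
  -- the point lies in the basic open
  have hyU : i y ∈ X.basicOpen f := by
    have h1 : y ∈ Y.basicOpen (i.app U₀ f) := by
      rwa [← PrimeSpectrum.mem_basicOpen, IsAffineOpen.primeIdealOf,
        ← hV₀.fromSpec_preimage_basicOpen, Scheme.Hom.mem_preimage, ← Scheme.Hom.comp_apply,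
        IsAffineOpen.isoSpec_hom, IsAffineOpen.toSpecΓ_fromSpec] at hf
    rw [← Scheme.preimage_basicOpen] at h1
    exact h1
  -- étaleness of the chart
  have hcomp : (algebraMap Γ(X, U₀) Γ(X, X.basicOpen f)).comp (algebraMap Γ(S, W) Γ(X, U₀)) =
      (pX.appLE W (X.basicOpen f) hUW).hom := by
    show (X.presheaf.map (homOfLE hUU₀).op).hom.comp (pX.appLE W U₀ hU₀W').hom = _
    rw [← CommRingCat.hom_comp, Scheme.Hom.appLE_map]
  rw [hcomp] at hét
  have hπ := AffineChart.etale_homOfVector pX W hW (X.basicOpen f) hU hUW _ hét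
  -- the kernel of the restricted closed immersion
  have hkerU : RingHom.ker (i.app (X.basicOpen f)).hom =
      Ideal.span (Set.range fun k => algebraMap Γ(X, U₀) Γ(X, X.basicOpen f) (g k)) := by
    rw [← hkerJ]
    have h1 := i.ker.map_ideal_basicOpen ⟨U₀, hU₀⟩ f
    rw [Scheme.Hom.ker_apply, Scheme.Hom.ker_apply] at h1
    exact h1.symm
  haveI : IsAffine (X.basicOpen f : Scheme.{u}) := hU
  have happTop : (i ∣_ X.basicOpen f).appTop = (X.basicOpen f).topIso.hom ≫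
      i.app (X.basicOpen f) ≫ (i ⁻¹ᵁ X.basicOpen f).topIso.inv := by
    rw [Scheme.Hom.appTop, ← Scheme.Hom.resLE_eq_morphismRestrict, Scheme.Hom.resLE_app_top,
      Scheme.Hom.appLE_eq_app]
  have hker : RingHom.ker (i ∣_ X.basicOpen f).appTop.hom = Ideal.span (Set.range fun k =>
      (X.basicOpen f).topIso.inv (algebraMap Γ(X, U₀) Γ(X, X.basicOpen f) (g k))) := by
    rw [happTop]
    have hγ : Function.Injective ((i ⁻¹ᵁ X.basicOpen f).topIso.inv).hom :=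
      (ConcreteCategory.bijective_of_isIso (i ⁻¹ᵁ X.basicOpen f).topIso.inv).1
    have hαα : ∀ z, (X.basicOpen f).topIso.hom ((X.basicOpen f).topIso.inv z) = z := fun z => by
      rw [← CommRingCat.comp_apply, Iso.inv_hom_id]; rfl
    have hαα' : ∀ z, (X.basicOpen f).topIso.inv ((X.basicOpen f).topIso.hom z) = z := fun z => by
      rw [← CommRingCat.comp_apply, Iso.hom_inv_id]; rfl
    apply le_antisymm
    · intro z hz
      rw [RingHom.mem_ker] at hz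
      have h1 : (i.app (X.basicOpen f)).hom ((X.basicOpen f).topIso.hom z) = 0 :=
        hγ (by rw [map_zero]; exact hz)
      have h2 : (X.basicOpen f).topIso.hom z ∈ RingHom.ker (i.app (X.basicOpen f)).hom := h1
      rw [hkerU] at h2
      have h3 := Ideal.mem_map_of_mem ((X.basicOpen f).topIso.inv).hom h2
      rw [Ideal.map_span, ← Set.range_comp] at h3
      have h4 : ((X.basicOpen f).topIso.inv).hom ((X.basicOpen f).topIso.hom z) = z := hαα' z
      rw [h4] at h3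
      exact h3
    · rw [Ideal.span_le]
      rintro _ ⟨k, rfl⟩
      rw [SetLike.mem_coe, RingHom.mem_ker]
      have h1 : algebraMap Γ(X, U₀) Γ(X, X.basicOpen f) (g k) ∈
          RingHom.ker (i.app (X.basicOpen f)).hom := by
        rw [hkerU]; exact Ideal.subset_span ⟨k, rfl⟩
      rw [RingHom.mem_ker] at h1
      show ((i ⁻¹ᵁ X.basicOpen f).topIso.inv).hom ((i.app (X.basicOpen f)).hom
        ((X.basicOpen f).topIso.hom ((X.basicOpen f).topIso.inv
          (algebraMap Γ(X, U₀) Γ(X, X.basicOpen f) (g k))))) = 0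
      rw [hαα, h1, map_zero]
  have hpb := AffineChart.isPullback_chart ((X.basicOpen f).ι ≫ pX) (i ∣_ X.basicOpen f)
    (fun k => (X.basicOpen f).topIso.inv (algebraMap Γ(X, U₀) Γ(X, X.basicOpen f) (g' k)))
    (fun k => (X.basicOpen f).topIso.inv (algebraMap Γ(X, U₀) Γ(X, X.basicOpen f) (g k))) hker
  have hvec : (fun j : ULift.{u} (Fin m ⊕ Fin r) => Sum.elim
      (fun k => (X.basicOpen f).topIso.inv (algebraMap Γ(X, U₀) Γ(X, X.basicOpen f) (g' k)))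
      (fun k => (X.basicOpen f).topIso.inv (algebraMap Γ(X, U₀) Γ(X, X.basicOpen f) (g k)))
      j.down) = fun j : ULift.{u} (Fin m ⊕ Fin r) => (X.basicOpen f).topIso.inv
        (algebraMap Γ(X, U₀) Γ(X, X.basicOpen f) (Sum.elim g' g j.down)) := by
    funext j
    rcases j with ⟨j | j⟩ <;> rfl
  rw [hvec] at hpb
  exact ⟨X.basicOpen f, m, r, _, _, hyU, hπ, AffineSpace.homOfVector_over _ _, hpb⟩

end Helpers

open AlgebraicGeometry CategoryTheory Limits in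
/-- Let X and Y be smooth over S and i : Y → X a closed immersion over S. For every point y of Y there
are an open U of X containing i y, natural numbers m, n, and an étale S-morphism π from U to affine
(m+n)-space over S such that the closed subscheme Y ∩ U of U is the pullback along π of the
coordinate subspace given by the vanishing of the last n coordinates. -/
theorem result {S X Y : Scheme.{u}} (pX : X ⟶ S) (pY : Y ⟶ S) [Smooth pX] [Smooth pY]
    (i : Y ⟶ X) [IsClosedImmersion i] (w : i ≫ pX = pY) (y : Y) :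
    ∃ (U : X.Opens) (m n : ℕ) (π : (U : Scheme.{u}) ⟶ 𝔸(ULift.{u} (Fin m ⊕ Fin n); S)) (ρ : (↑(i ⁻¹ᵁ U) : Scheme.{u}) ⟶ 𝔸(ULift.{u} (Fin m); S)),
      i y ∈ U ∧ Etale π ∧ π ≫ (𝔸(ULift.{u} (Fin m ⊕ Fin n); S) ↘ S) = U.ι ≫ pX ∧
      IsPullback ρ (i ∣_ U)
        (AffineSpace.homOfVector (𝔸(ULift.{u} (Fin m); S) ↘ S)
          (fun j : ULift.{u} (Fin m ⊕ Fin n) => Sum.elim (fun a => AffineSpace.coord S (ULift.up a)) (fun _ => 0) j.down))
        π := by
  exact aux pX pY i w y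

end Groth.Agent.S1479
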