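import Groth.Statements.S14790
import Mathlib
import Groth.Agent.S0386
import Groth.Agent.Lib.Helper21.GenericSpread
-- import your own Groth.Agent.* helpers here

set_option autoImplicit false
set_option linter.style.haveILetI false
set_option linter.unusedSectionVars false
set_option linter.unusedVariables false
universe u
open CategoryTheory CategoryTheory.Limits AlgebraicGeometry
open Subtr

namespace Groth.Agent.S14790

open CategoryTheory CategoryTheory.Limits AlgebraicGeometry TopologicalSpace Topology

section Helpers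

/-- the stalk of a reduced scheme at a maximal point is a field. -/
theorem isField_stalk_of_maximal {Y : Scheme.{u}} [IsReduced Y] (η : Y)
    (hη : ∀ y' : Y, y' ⤳ η → y' = η) : IsField (Y.presheaf.stalk η) := by
  rw [IsLocalRing.isField_iff_maximalIdeal_eq]
  have hsub : ∀ p q : PrimeSpectrum (Y.presheaf.stalk η), p = q := by
    intro p q
    have hp : (Y.fromSpecStalk η) p ∈ Set.range (Y.fromSpecStalk η) := ⟨p, rfl⟩
    have hq : (Y.fromSpecStalk η) q ∈ Set.range (Y.fromSpecStalk η) := ⟨q, rfl⟩
    rw [Scheme.range_fromSpecStalk] at hp hq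
    have h1 := hη _ hp
    have h2 := hη _ hq
    exact (Y.fromSpecStalk η).isEmbedding.injective (h1.trans h2.symm)
  have hnil : nilradical (Y.presheaf.stalk η) = ⊥ := nilradical_eq_zero _
  rw [← hnil, nilradical_eq_sInf]
  apply le_antisymm
  · apply le_sInf
    intro J hJ
    have := hsub ⟨J, hJ⟩ (IsLocalRing.closedPoint (Y.presheaf.stalk η))
    have h2 : J = IsLocalRing.maximalIdeal (Y.presheaf.stalk η) := congrArg PrimeSpectrum.asIdeal this
    exact h2.ge
  · exact sInf_le (IsLocalRing.maximalIdeal.isMaximal _).isPrime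

theorem flat_of_isField {K B : Type u} [CommRing K] [CommRing B] (hK : IsField K) (φ : K →+* B) :
    φ.Flat := by
  letI F : Field K := hK.toField
  letI : Algebra K B := φ.toAlgebra
  have : Module.Flat K B := inferInstance
  exact this

/-- every point of a scheme has a maximal generization. -/
theorem exists_maximal_generization {Y : Scheme.{u}} (y : Y) :
    ∃ η : Y, η ⤳ y ∧ ∀ y' : Y, y' ⤳ η → y' = η := by
  obtain ⟨Z, hZ, hyZ⟩ := exists_mem_irreducibleComponents_subset_of_isIrreducible {y}
    isIrreducible_singleton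
  have hy : y ∈ Z := hyZ rfl
  have hZc : IsClosed Z := isClosed_of_mem_irreducibleComponents Z hZ
  obtain ⟨η, hη⟩ := QuasiSober.sober hZ.1 hZc
  refine ⟨η, ?_, ?_⟩
  · rw [specializes_iff_mem_closure, hη.def]; exact hy
  · intro y' hy'
    have h1 : Z ⊆ closure {y'} := by
      rw [← hη.def]
      exact closure_minimal (Set.singleton_subset_iff.mpr hy'.mem_closure) isClosed_closure
    have h2 : closure {y'} = Z :=
      le_antisymm (hZ.2 (isIrreducible_singleton.closure) h1) h1
    have h3 : IsGenericPoint y' Z := h2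
    exact h3.eq hη

end Helpers

/-- Take a scheme Y that is reduced, quasi-compact and quasi-separated, whose set of maximal points
(points with no proper generization) is quasi-compact, and f : X ⟶ Y a morphism of finite
presentation. Then there is a dense quasi-compact open subset U ⊆ Y over which f is flat. -/
theorem result {X Y : Scheme.{u}} [IsReduced Y]
    [CompactSpace Y] [QuasiSeparatedSpace Y]
    (hgen : IsCompact {y : Y | ∀ y' : Y, y' ⤳ y → y' = y})
    (f : X ⟶ Y) [LocallyOfFinitePresentation f] [QuasiCompact f] [QuasiSeparated f] :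
    ∃ U : Y.Opens, Dense (U : Set Y) ∧ IsCompact (U : Set Y) ∧ Flat (f ∣_ U) := by
  have hW : IsOpen {x : X | (f.stalkMap x).hom.Flat} := Groth.Agent.S0386.result f
  have hC : IsClosed ({x : X | (f.stalkMap x).hom.Flat}ᶜ) := hW.isClosed_compl
  -- local claim
  have hloc : ∀ η : Y, (∀ y' : Y, y' ⤳ η → y' = η) →
      ∃ V : Y.Opens, η ∈ V ∧ IsCompact (V : Set Y) ∧
        ∀ x : X, f x ∈ V → (f.stalkMap x).hom.Flat := by
    intro η hη
    have hfib : ∀ x : X, f x = η → (f.stalkMap x).hom.Flat := by
      intro x hx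
      subst hx
      exact flat_of_isField (isField_stalk_of_maximal _ hη) _
    have hncl : η ∉ closure (f '' ({x : X | (f.stalkMap x).hom.Flat}ᶜ)) := by
      intro hcl
      obtain ⟨x, hxC, hx⟩ :=
        Groth.Agent.Lib.Helper21.GenericSpread.exists_mem_of_maximal_of_mem_closure_image f hC
          (η := η) (fun z hz => (hη z hz) ▸ specializes_rfl) hcl
      exact hxC (hfib x hx)
    obtain ⟨_, ⟨V, hV : IsAffineOpen V, rfl⟩, hηV, hVsub⟩ :=
      (Y.isBasis_affineOpens).exists_subset_of_mem_open hncl isClosed_closure.isOpen_compl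
    refine ⟨V, hηV, hV.isCompact, ?_⟩
    intro x hx
    by_contra hnf
    exact hVsub hx (subset_closure ⟨x, hnf, rfl⟩)
  choose! V hVmem hVc hVflat using hloc
  obtain ⟨t, htsub, htfin, htcov⟩ :=
    hgen.elim_finite_subcover_image (b := {y : Y | ∀ y' : Y, y' ⤳ y → y' = y})
    (c := fun η => ((V η : Y.Opens) : Set Y)) (fun η _ => (V η).isOpen)
    (fun η hη => Set.mem_iUnion₂.mpr ⟨η, hη, hVmem η hη⟩)
  refine ⟨⟨⋃ η ∈ t, ((V η : Y.Opens) : Set Y), isOpen_biUnion fun η _ => (V η).isOpen⟩, ?_, ?_, ?_⟩
  · rw [dense_iff_inter_open]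
    rintro O hO ⟨y, hy⟩
    obtain ⟨η, hηy, hη⟩ := exists_maximal_generization y
    exact ⟨η, hηy.mem_open hO hy, htcov hη⟩
  · exact htfin.isCompact_biUnion (fun η hη => hVc η (htsub hη))
  · rw [Flat.iff_flat_stalkMap]
    intro x
    refine (RingHom.Flat.respectsIso.arrow_mk_iso_iff
      (AlgebraicGeometry.morphismRestrictStalkMap f _ x)).mpr ?_
    have hx : f x.1 ∈ ⋃ η ∈ t, ((V η : Y.Opens) : Set Y) := x.2
    obtain ⟨η, hηt, hxη⟩ := Set.mem_iUnion₂.mp hx
    exact hVflat η (htsub hηt) x.1 hxη

end Groth.Agent.S14790
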