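import Groth.Statements.S14796
import Groth.Agent.Lib.Helper69.WNBaseChange

set_option autoImplicit false
universe u
open CategoryTheory CategoryTheory.Limits AlgebraicGeometry
open Subtr

namespace Groth.Agent.S14796

/-- Let A ⊆ B be a ring extension and A ⟶ A' a ring map that is a localization or étale; put B' = A' ⊗_A
B. Let C ⊆ B be the weak subintegral closure of A in B and C' ⊆ B' that of A' in B' (each the
largest subalgebra whose spectrum maps to the base by a universal homeomorphism, characterised here
by that maximality). Then C' is the image of A' ⊗_A C ⟶ A' ⊗_A B: the weak subintegral closure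
commutes with such base changes. -/
theorem result {A B A' : Type u} [CommRing A] [CommRing B]
    [CommRing A'] [Algebra A B] [Algebra A A'] (hinj : Function.Injective (algebraMap A B))
    (hA' : (∃ M : Submonoid A, IsLocalization M A') ∨ Algebra.Etale A A')
    (C : Subalgebra A B) (hC : FlatMor.IsUnivHomeo (Spec.map (CommRingCat.ofHom (algebraMap A C))))
    (hmax : ∀ D : Subalgebra A B, FlatMor.IsUnivHomeo (Spec.map (CommRingCat.ofHom (algebraMap A D))) → D ≤ C)
    (C' : Subalgebra A' (TensorProduct A A' B)) (hC' : FlatMor.IsUnivHomeo (Spec.map (CommRingCat.ofHom (algebraMap A' C'))))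
    (hmax' : ∀ D : Subalgebra A' (TensorProduct A A' B), FlatMor.IsUnivHomeo (Spec.map (CommRingCat.ofHom (algebraMap A' D))) → D ≤ C') :
    (C' : Set (TensorProduct A A' B)) =
      Set.range (Algebra.TensorProduct.map (AlgHom.id A A') C.val) := by
  have hgood : Groth.Agent.Lib.Helper69.WNBaseChange.GoodBC A A' := by
    rcases hA' with ⟨M, hM⟩ | het
    · exact Groth.Agent.Lib.Helper69.WNBaseChange.goodBC_of_isLocalization A A' M
    · exact Groth.Agent.Lib.Helper69.WNBaseChange.goodBC_of_etale A A'
  have hflat := hgood.flat
  have hk : RingHom.ker (algebraMap A B) ≤ nilradical A := by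
    rw [(RingHom.injective_iff_ker_eq_bot _).mp hinj]
    exact bot_le
  have hinj' : Function.Injective (algebraMap A' (TensorProduct A A' B)) :=
    Algebra.TensorProduct.includeLeft_injective (S := A') hinj
  have hk' : RingHom.ker (algebraMap A' (TensorProduct A A' B)) ≤ nilradical A' := by
    rw [(RingHom.injective_iff_ker_eq_bot _).mp hinj']
    exact bot_le
  obtain rfl := Groth.Agent.Lib.Helper69.WNBaseChange.eq_Bwn hk C hC hmax
  obtain rfl := Groth.Agent.Lib.Helper69.WNBaseChange.eq_Bwn hk' C' hC' hmax'
  exact Groth.Agent.Lib.Helper69.WNBaseChange.Bwn_baseChange hgood hk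

end Groth.Agent.S14796
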