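import Groth.Statements.S14798
import Groth.Agent.Lib.Helper74.HJ

set_option autoImplicit false
open Finset
open HJFrac

namespace Groth.Agent.S14798

/-- auxiliary solution of the three-term recurrence with `q 0 = 0`, `q 1 = 1`. -/
def qseq (b : ℕ → ℤ) : ℕ → ℤ
  | 0 => 0
  | 1 => 1
  | (i + 2) => b (i + 1) * qseq b (i + 1) - qseq b i

/-- Let 0 < r < n be coprime integers and n/r = b₁ - 1/(b₂ - 1/(⋯ - 1/b_λ)) the Hirzebruch–Jung
expansion (λ ≥ 1, every b_i ≥ 2); let m₁, m₂ be positive integers prime to n with r m₂ + m₁ ≡ 0 mod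
n, and let μ₁, …, μ_λ be positive integers solving the tridiagonal system b_i μ_i - μ_{i-1} -
μ_{i+1} = 0 (1 ≤ i ≤ λ) with the conventions μ₀ = m₂ and μ_{λ+1} = m₁ (the multiplicity vector
attached to (n, r, m₂, m₁)). Then n/(m₁ m₂) = 1/(m₂ μ₁) + 1/(μ₁ μ₂) + ⋯ + 1/(μ_{λ-1} μ_λ) + 1/(μ_λ
m₁). -/
theorem result (l : ℕ) (hl : 1 ≤ l) (b : ℕ → ℤ)
    (hb : ∀ i, 1 ≤ i → i ≤ l → 2 ≤ b i)
    (n r : ℕ) (hr : 0 < r) (hrn : r < n) (hcop : Nat.Coprime r n)
    (hhj : (n : ℚ) / r = HJFrac.hjVal ((List.range l).map fun i => b (i + 1)))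
    (m₁ m₂ : ℕ) (hm₁ : 0 < m₁) (hm₂ : 0 < m₂) (h₁ : Nat.Coprime m₁ n) (h₂ : Nat.Coprime m₂ n)
    (hdvd : (n : ℤ) ∣ r * m₂ + m₁)
    (μ : ℕ → ℤ) (hμ0 : μ 0 = m₂) (hμl : μ (l + 1) = m₁) (hμpos : ∀ i, i ≤ l + 1 → 0 < μ i)
    (hsys : ∀ i, 1 ≤ i → i ≤ l → b i * μ i = μ (i - 1) + μ (i + 1)) :
    (n : ℚ) / ((m₁ : ℚ) * m₂) = ∑ i ∈ Finset.range (l + 1), 1 / ((μ i : ℚ) * (μ (i + 1) : ℚ)) := by
  classical
  set L : List ℤ := (List.range l).map fun i => b (i + 1) with hLdef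
  have hlen : L.length = l := by simp [hLdef]
  have hL2 : ∀ x ∈ L, 2 ≤ x := by
    intro x hx
    simp only [hLdef, List.mem_map, List.mem_range] at hx
    obtain ⟨i, hi, rfl⟩ := hx
    exact hb (i + 1) (by omega) (by omega)
  have hne : L ≠ [] := by
    intro h
    have : L.length = 0 := by simp [h]
    omega
  obtain ⟨hn, hr'⟩ := Groth.Agent.Lib.Helper74.hj_identify L hL2 hne n r hr hcop hhj
  -- the auxiliary sequence q
  have hqrec : ∀ i (h : i < L.length), L[i] * qseq b (i + 1) = qseq b i + qseq b (i + 2) := by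
    intro i hi
    simp only [hLdef, List.getElem_map, List.getElem_range]
    rw [qseq]
    ring
  have hq := Groth.Agent.Lib.Helper74.hj_rec L (qseq b) hqrec
  rw [hlen, ← hn] at hq
  have hq1 : qseq b (l + 1) = n := by
    rw [hq]; simp [qseq]
  -- Wronskian
  have hW : ∀ j, j ≤ l → qseq b (j + 1) * μ j - qseq b j * μ (j + 1) = m₂ := by
    intro j
    induction j with
    | zero => intro _; simp [qseq, hμ0]
    | succ j ih =>
      intro hj
      have h1 := ih (by omega)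
      have h2 := hsys (j + 1) (by omega) hj
      simp only [Nat.add_sub_cancel] at h2
      have h3 : qseq b (j + 1 + 1) = b (j + 1) * qseq b (j + 1) - qseq b j := by
        rw [qseq]
      rw [h3]
      have h4 : μ (j + 1 + 1) = b (j + 1) * μ (j + 1) - μ j := by linarith
      rw [h4]
      linarith
  -- telescoping
  have hμne : ∀ i, i ≤ l + 1 → (μ i : ℚ) ≠ 0 := by
    intro i hi
    have := hμpos i hi
    exact_mod_cast this.ne'
  have hm₂ne : (m₂ : ℚ) ≠ 0 := by exact_mod_cast hm₂.ne'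
  have hm₁ne : (m₁ : ℚ) ≠ 0 := by exact_mod_cast hm₁.ne'
  have htel : ∀ j, j ≤ l + 1 →
      ∑ i ∈ Finset.range j, 1 / ((μ i : ℚ) * (μ (i + 1) : ℚ)) = (qseq b j : ℚ) / ((m₂ : ℚ) * μ j) := by
    intro j
    induction j with
    | zero => intro _; simp [qseq]
    | succ j ih =>
      intro hj
      rw [Finset.sum_range_succ, ih (by omega)]
      have hw := hW j (by omega)
      have hwq : (qseq b (j + 1) : ℚ) * μ j - qseq b j * μ (j + 1) = m₂ := by exact_mod_cast hw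
      have hj1 := hμne j (by omega)
      have hj2 := hμne (j + 1) hj
      field_simp
      linarith
  rw [htel (l + 1) le_rfl, hq1, hμl]
  push_cast
  field_simp

end Groth.Agent.S14798
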