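import Groth.Statements.S14799
import Groth.Agent.Lib.Helper74.HJ

set_option autoImplicit false
open HJFrac

namespace Groth.Agent.S14799

/-- Let 0 < r < n be coprime integers and n/r = b₁ - 1/(b₂ - 1/(⋯ - 1/b_λ)) the Hirzebruch–Jung
expansion (λ ≥ 1, every b_i ≥ 2); let m₁, m₂ be positive integers prime to n with r m₂ + m₁ ≡ 0 mod
n, and let μ₁, …, μ_λ be positive integers with b_i μ_i = μ_{i-1} + μ_{i+1} for 1 ≤ i ≤ λ, where μ₀
= m₂ and μ_{λ+1} = m₁. Then gcd(m₁, μ₁, …, μ_λ, m₂) = gcd(m₁, m₂); equivalently gcd(m₁, m₂) divides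
every μ_i. -/
theorem result (l : ℕ) (hl : 1 ≤ l) (b : ℕ → ℤ)
    (hb : ∀ i, 1 ≤ i → i ≤ l → 2 ≤ b i)
    (n r : ℕ) (hr : 0 < r) (hrn : r < n) (hcop : Nat.Coprime r n)
    (hhj : (n : ℚ) / r = HJFrac.hjVal ((List.range l).map fun i => b (i + 1)))
    (m₁ m₂ : ℕ) (hm₁ : 0 < m₁) (hm₂ : 0 < m₂) (h₁ : Nat.Coprime m₁ n) (h₂ : Nat.Coprime m₂ n)
    (hdvd : (n : ℤ) ∣ r * m₂ + m₁)
    (μ : ℕ → ℤ) (hμ0 : μ 0 = m₂) (hμl : μ (l + 1) = m₁) (hμpos : ∀ i, i ≤ l + 1 → 0 < μ i)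
    (hsys : ∀ i, 1 ≤ i → i ≤ l → b i * μ i = μ (i - 1) + μ (i + 1)) :
    ∀ i, i ≤ l + 1 → ((Nat.gcd m₁ m₂ : ℕ) : ℤ) ∣ μ i := by
  classical
  set L : List ℤ := (List.range l).map fun i => b (i + 1) with hLdef
  have hlen : L.length = l := by simp [hLdef]
  have hL2 : ∀ x ∈ L, 2 ≤ x := by
    intro x hx
    simp only [hLdef, List.mem_map, List.mem_range] at hx
    obtain ⟨i, hi, rfl⟩ := hx
    exact hb (i + 1) (by omega) (by omega)
  have hne : L ≠ [] := by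
    intro h
    have : L.length = 0 := by simp [h]
    omega
  have hrec : ∀ i (h : i < L.length), L[i] * μ (i + 1) = μ i + μ (i + 2) := by
    intro i hi
    have hi' : i < l := by omega
    have := hsys (i + 1) (by omega) (by omega)
    simp only [hLdef, List.getElem_map, List.getElem_range]
    simpa using this
  have hmain := Groth.Agent.Lib.Helper74.hj_rec L μ hrec
  obtain ⟨hn, hr'⟩ := Groth.Agent.Lib.Helper74.hj_identify L hL2 hne n r hr hcop hhj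
  rw [hlen, ← hn, ← hr', hμl, hμ0] at hmain
  -- hmain : m₁ = n * μ 1 - r * m₂
  set g : ℕ := Nat.gcd m₁ m₂ with hg
  have hg1 : (g : ℤ) ∣ (m₁ : ℤ) := Int.natCast_dvd_natCast.mpr (Nat.gcd_dvd_left m₁ m₂)
  have hg2 : (g : ℤ) ∣ (m₂ : ℤ) := Int.natCast_dvd_natCast.mpr (Nat.gcd_dvd_right m₁ m₂)
  have hgn : IsCoprime (g : ℤ) (n : ℤ) := by
    rw [Int.isCoprime_iff_gcd_eq_one]
    have : Nat.Coprime g n := Nat.Coprime.coprime_dvd_left (Nat.gcd_dvd_left m₁ m₂) h₁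
    simpa [Int.gcd] using this
  have hgμ1 : (g : ℤ) ∣ μ 1 := by
    have h3 : (g : ℤ) ∣ (n : ℤ) * μ 1 := by
      have : (n : ℤ) * μ 1 = m₁ + r * m₂ := by linarith
      rw [this]
      exact dvd_add hg1 (Dvd.dvd.mul_left hg2 _)
    exact hgn.dvd_of_dvd_mul_left h3
  -- induction
  have key : ∀ i, i ≤ l → (g : ℤ) ∣ μ i ∧ (g : ℤ) ∣ μ (i + 1) := by
    intro i
    induction i with
    | zero => intro _; exact ⟨by rw [hμ0]; exact hg2, by simpa using hgμ1⟩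
    | succ i ih =>
      intro hi
      obtain ⟨h1, h2⟩ := ih (by omega)
      refine ⟨h2, ?_⟩
      have := hsys (i + 1) (by omega) hi
      have h4 : μ (i + 1 + 1) = b (i + 1) * μ (i + 1) - μ i := by
        simp only [Nat.add_sub_cancel] at this
        linarith
      rw [h4]
      exact dvd_sub (Dvd.dvd.mul_left h2 _) h1
  intro i hi
  rcases Nat.eq_zero_or_pos i with rfl | hpos
  · exact (key 0 (by omega)).1
  · obtain ⟨j, rfl⟩ : ∃ j, i = j + 1 := ⟨i - 1, by omega⟩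
    exact (key j (by omega)).2

end Groth.Agent.S14799
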