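import Groth.Statements.S14803
-- import your own Groth.Agent.* helpers here
import Groth.Agent.Lib.Helper72.GraphTreeF

set_option autoImplicit false
universe u
open Finset
open LabGraph

namespace Groth.Agent.S14803

open Classical in
/-- Let (G, β) be a connected finite multigraph with a multiplicity function, α its matrix (α_{vw} =
#edges(v, w) for v ≠ w, Σ_w β(w) α_{vw} = 0) and Φ(G) = ker β / im α its component group; let m be
the gcd of all the values β(v). Then Φ(G) is finite of order m² · Σ_T Π_v β(v)^{#N_T(v) - 2}, where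
T runs over the spanning trees of G and N_T(v) is the set of neighbours of v in T. (The published
statement gives this order for the Néron component group of a curve's Jacobian, G being the weighted
dual graph of a proper regular model and β its component multiplicities; this row states the
identity for every connected pair (G, β) with a positive multiplicity function.) -/
theorem result {V E : Type u} [Fintype V] [Fintype E] [DecidableEq V] [DecidableEq E]
    (ends : E → V × V) (β : V → ℤ) (hβ : LabGraph.IsMultFn ends β) (hG : LabGraph.Connected ends) :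
    (Nat.card (LabGraph.CompGrp ends β) : ℚ) =
      ((univ.gcd β : ℤ) : ℚ) ^ 2 *
        ∑ T ∈ univ.powerset.filter (fun T : Finset E => LabGraph.IsSpanningTree ends T),
          ∏ v : V, ((β v : ℚ) ^ ((LabGraph.nbrCount ends T v : ℤ) - 2)) := by
  classical
  have hP : (∏ w, (β w : ℚ)) ≠ 0 :=
    Finset.prod_ne_zero_iff.2 fun v _ => by exact_mod_cast (hβ v).1.ne'
  have hmain := Groth.Agent.Lib.Helper72.GraphCyc.card_compGrp_mul ends β hβ hG
  have hmainQ : (Nat.card (LabGraph.CompGrp ends β) : ℚ) * (∏ w, (β w : ℚ)) ^ 2 =
      ((univ.gcd β : ℤ) : ℚ) ^ 2 *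
        ∑ T ∈ univ.powerset.filter (fun T : Finset E => LabGraph.IsSpanningTree ends T),
          ∏ e ∈ T, ((β (ends e).1 : ℚ) * (β (ends e).2 : ℚ)) := by
    exact_mod_cast hmain
  have hterm : ∀ T ∈ univ.powerset.filter (fun T : Finset E => LabGraph.IsSpanningTree ends T),
      ∏ v : V, ((β v : ℚ) ^ ((LabGraph.nbrCount ends T v : ℤ) - 2)) =
        (∏ e ∈ T, ((β (ends e).1 : ℚ) * (β (ends e).2 : ℚ))) / (∏ w, (β w : ℚ)) ^ 2 := by
    intro T hT
    have hcf := ((Groth.Agent.Lib.Helper72.GraphCyc.isSpanningTree_iff ends T).1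
      (Finset.mem_filter.1 hT).2).2
    rw [Groth.Agent.Lib.Helper72.GraphCyc.prod_edge_weights ends (fun v => (β v : ℚ)) T,
      ← Finset.prod_pow,
      ← Finset.prod_div_distrib]
    refine Finset.prod_congr rfl fun v _ => ?_
    have hv : (β v : ℚ) ≠ 0 := by exact_mod_cast (hβ v).1.ne'
    rw [zpow_sub₀ hv, zpow_natCast,
      Groth.Agent.Lib.Helper72.GraphCyc.endCount_eq_nbrCount hcf]
    norm_cast
  rw [Finset.sum_congr rfl hterm, ← Finset.sum_div, ← mul_div_assoc, ← hmainQ, mul_div_assoc,
    div_self (pow_ne_zero 2 hP), mul_one]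

end Groth.Agent.S14803
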