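import Groth.Statements.S14804
-- import your own Groth.Agent.* helpers here
import Groth.Agent.Lib.Helper72.GraphCycD
open Groth.Agent.Lib.Helper72.GraphCyc

set_option autoImplicit false
universe u
open Finset
open LabGraph

namespace Groth.Agent.S14804

/-- In a connected finite multigraph G, a vertex v belongs to some cycle of G (here: v is an endpoint of
an edge of some circuit, a circuit being a minimal nonempty edge set meeting every vertex in an even
number of edge-ends, which includes loops and pairs of parallel edges) if and only if G has a
spanning tree T such that some edge outside T has v as an endpoint. (The published statement is for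
an arbitrary multigraph; when G is disconnected it has no spanning tree while a vertex may lie on a
cycle, so G is taken connected here, the case of dual graphs for which it is used.) -/
theorem result
    {V E : Type u} [Fintype V] [Fintype E] [DecidableEq V] [DecidableEq E]
    (ends : E → V × V) (hG : LabGraph.Connected ends) (v : V) :
    (∃ C : Finset E, LabGraph.IsCircuit ends C ∧ LabGraph.endCount ends C v ≠ 0) ↔
      ∃ T : Finset E, LabGraph.IsSpanningTree ends T ∧
        ∃ e : E, e ∉ T ∧ ((ends e).1 = v ∨ (ends e).2 = v) := by
  classical
  constructor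
  · rintro ⟨C, hC, hv⟩
    have hex : ∃ e ∈ C, (ends e).1 = v ∨ (ends e).2 = v := by
      by_contra hne
      push Not at hne
      apply hv
      simp only [endCount]
      refine Finset.sum_eq_zero fun e he => ?_
      simp [(hne e he).1, (hne e he).2]
    obtain ⟨e, he, hev⟩ := hex
    have h₀ : CircFree ends (C.erase e) := by
      intro C' hC' hcirc
      have hss : C' ⊂ C :=
        lt_of_le_of_lt hC' (Finset.erase_ssubset he)
      obtain ⟨w, hw⟩ := hC.2.2 C' hss hcirc.1
      exact hw (hcirc.2.1 w)
    obtain ⟨T, hFT, hTX, hT, hmax⟩ := exists_maximal_circFree ends (C.erase e) (univ.erase e) h₀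
      (fun x hx => Finset.mem_erase.2 ⟨(Finset.mem_erase.1 hx).1, Finset.mem_univ _⟩)
    have heT : e ∉ T := fun h => (Finset.mem_erase.1 (hTX h)).1 rfl
    have hreach : ∀ e' : E, Relation.ReflTransGen (AdjIn ends T) (ends e').1 (ends e').2 := by
      intro e'
      by_cases hee : e' = e
      · subst hee
        exact reach_mono hFT (reach_of_even ends C hC.2.1 e' he)
      · exact reach_of_maximal ends T (univ.erase e) hT hmax e'
          (Finset.mem_erase.2 ⟨hee, Finset.mem_univ _⟩)
    refine ⟨T, ?_, e, heT, hev⟩
    exact (isSpanningTree_iff ends T).2 ⟨⟨hG.1, reach_all ends hG T hreach⟩, hT⟩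
  · rintro ⟨T, hT, e, heT, hev⟩
    obtain ⟨⟨_, hr⟩, hcf⟩ := (isSpanningTree_iff ends T).1 hT
    obtain ⟨c, hc1, hc2⟩ := exists_chain2 ends T (ends e).1 (ends e).2 (hr _ _)
    have hce : c e = 0 := hc1 e heT
    obtain ⟨C, hCsub, hC⟩ := exists_circuit_of_bd2 ends (insert e T) (c + Pi.single e 1)
      (by
        intro e' he'
        have h1 : e' ≠ e := fun h => he' (h ▸ Finset.mem_insert_self _ _)
        have h2 : e' ∉ T := fun h => he' (Finset.mem_insert_of_mem h)
        simp [hc1 e' h2, h1])
      (by
        intro w
        rw [bd2_add, hc2, bd2_single]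
        have h2 : ∀ x y : ZMod 2, x + y + (x + y) = 0 := by decide
        exact h2 _ _)
      e (by simp [hce])
    have heC : e ∈ C := by
      by_contra hne
      refine hcf C (fun x hx => ?_) hC
      rcases Finset.mem_insert.1 (hCsub hx) with rfl | h
      · exact absurd hx hne
      · exact h
    refine ⟨C, hC, ?_⟩
    have hle := Finset.single_le_sum (f := fun e' : E =>
      ((if (ends e').1 = v then 1 else 0) + (if (ends e').2 = v then 1 else 0) : ℕ))
      (fun _ _ => Nat.zero_le _) heC
    simp only [endCount]
    rcases hev with h | h
    · rw [if_pos h] at hle; omega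
    · rw [if_pos h] at hle; omega

end Groth.Agent.S14804
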