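import Groth.Statements.S14805
import Mathlib
-- import your own Groth.Agent.* helpers here

set_option autoImplicit false
open Finset
open CompLat

namespace Groth.Agent.S14805

lemma card_quot_comap {R M : Type*} [Ring R] [AddCommGroup M] [Module R M] (G H : Submodule R M) :
    Nat.card (G ⧸ H.comap G.subtype) = H.toAddSubgroup.relIndex G.toAddSubgroup := by
  rw [← Submodule.cardQuot_apply, Submodule.cardQuot]
  have h1 : (H.comap G.subtype).toAddSubgroup =
      H.toAddSubgroup.comap G.subtype.toAddMonoidHom := rfl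
  rw [h1, AddSubgroup.index_comap]
  congr 1
  ext x
  simp

lemma index_calc {M : Type*} [AddCommGroup M] (Df : M →+ M) (S : M →+ ℤ)
    (hD : Function.Injective Df) (hS : Function.Surjective S)
    (G1 G2 H1 H2 DM : AddSubgroup M) (T : AddSubgroup ℤ)
    (hG1 : ∀ x, x ∈ G1 ↔ S (Df x) = 0) (hG2 : ∀ x, x ∈ G2 ↔ S x = 0)
    (hDM : ∀ x, x ∈ DM ↔ ∃ y, Df y = x)
    (hH2 : ∀ x, x ∈ H2 ↔ ∃ y ∈ H1, Df y = x)
    (hT : ∀ z, z ∈ T ↔ ∃ y, S (Df y) = z)
    (hH1 : H1 ≤ G1) :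
    H1.relIndex G1 * DM.index = T.index * H2.relIndex G2 := by
  have eG2 : G2 = S.ker := by
    ext x; rw [hG2, AddMonoidHom.mem_ker]
  have eH2 : H2 = H1.map Df := by
    ext x; rw [hH2, AddSubgroup.mem_map]
  have eT : T = DM.map S := by
    ext z
    rw [hT, AddSubgroup.mem_map]
    constructor
    · rintro ⟨y, rfl⟩
      exact ⟨Df y, (hDM _).2 ⟨y, rfl⟩, rfl⟩
    · rintro ⟨x, hx, rfl⟩
      obtain ⟨y, rfl⟩ := (hDM _).1 hx
      exact ⟨y, rfl⟩
  have hK : G1.map Df = DM ⊓ G2 := by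
    ext x
    rw [AddSubgroup.mem_map, AddSubgroup.mem_inf, hDM, hG2]
    constructor
    · rintro ⟨y, hy, rfl⟩
      exact ⟨⟨y, rfl⟩, (hG1 y).1 hy⟩
    · rintro ⟨⟨y, rfl⟩, hx⟩
      exact ⟨y, (hG1 y).2 hx, rfl⟩
  have hH2K : H2 ≤ G1.map Df := by
    rw [eH2]; exact AddSubgroup.map_mono hH1
  have hKG2 : G1.map Df ≤ G2 := by
    rw [hK]; exact inf_le_right
  have e1 : H2.relIndex (G1.map Df) = H1.relIndex G1 := by
    rw [eH2]; exact AddSubgroup.relIndex_map_map_of_injective H1 G1 hD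
  have e2 := AddSubgroup.relIndex_mul_relIndex H2 (G1.map Df) G2 hH2K hKG2
  have e3 : (G1.map Df).relIndex G2 = DM.relIndex G2 := by
    rw [hK]; exact AddSubgroup.inf_relIndex_right DM G2
  have e4 : DM.relIndex (G2 ⊔ DM) = DM.relIndex G2 := AddSubgroup.relIndex_sup_right G2 DM
  have e5 : DM.relIndex (G2 ⊔ DM) * (G2 ⊔ DM).index = DM.index :=
    AddSubgroup.relIndex_mul_index le_sup_right
  have e6 : (G2 ⊔ DM).index = T.index := by
    rw [eT, eG2, sup_comm, ← AddSubgroup.comap_map_eq,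
      AddSubgroup.index_comap_of_surjective _ hS]
  rw [← e2, e1, e3, ← e5, e4, e6]
  ring

/-- Let n ≥ 1 and let D, D' : ℤⁿ → ℤⁿ be given by diagonal matrices with nonzero diagonal entries (rank
n), A : ℤⁿ → ℤⁿ an integer matrix of rank n - 1, S : ℤⁿ → ℤ the sum of the coordinates and Δ : ℤ →
ℤⁿ the diagonal embedding; assume S D A = 0 and A D' Δ = 0, and let d > 0 with dℤ = im(S D), i.e. d
is the greatest common divisor of the diagonal entries of D. Then #(ker(S D)/im A) · |det D| = d ·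
#(ker S/im(D A)). -/
theorem result (n : ℕ) (hn : 0 < n) (δ δ' : Fin n → ℤ) (hδ : ∀ i, δ i ≠ 0) (hδ' : ∀ i, δ' i ≠ 0)
    (A : Matrix (Fin n) (Fin n) ℤ) (hA : A.rank = n - 1)
    (hSDA : (∑ i : Fin n, (LinearMap.proj i : (Fin n → ℤ) →ₗ[ℤ] ℤ)) ∘ₗ
        (Matrix.mulVecLin (Matrix.diagonal δ)) ∘ₗ (Matrix.mulVecLin A) = 0)
    (hADΔ : (Matrix.mulVecLin A) ∘ₗ (Matrix.mulVecLin (Matrix.diagonal δ')) ∘ₗ
        (LinearMap.pi fun _ : Fin n => (LinearMap.id : ℤ →ₗ[ℤ] ℤ)) = 0) :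
    (Nat.card (LinearMap.ker ((∑ i : Fin n, (LinearMap.proj i : (Fin n → ℤ) →ₗ[ℤ] ℤ)) ∘ₗ (Matrix.mulVecLin (Matrix.diagonal δ))) ⧸
          (LinearMap.range (Matrix.mulVecLin A)).comap (LinearMap.ker ((∑ i : Fin n, (LinearMap.proj i : (Fin n → ℤ) →ₗ[ℤ] ℤ)) ∘ₗ (Matrix.mulVecLin (Matrix.diagonal δ)))).subtype) : ℤ) * |∏ i, δ i| =
      (univ.gcd δ) * Nat.card (LinearMap.ker (∑ i : Fin n, (LinearMap.proj i : (Fin n → ℤ) →ₗ[ℤ] ℤ)) ⧸ (LinearMap.range ((Matrix.mulVecLin (Matrix.diagonal δ)) ∘ₗ (Matrix.mulVecLin A))).comap (LinearMap.ker (∑ i : Fin n, (LinearMap.proj i : (Fin n → ℤ) →ₗ[ℤ] ℤ))).subtype) := by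
  classical
  set Sl : (Fin n → ℤ) →ₗ[ℤ] ℤ :=
    ∑ i : Fin n, (LinearMap.proj i : (Fin n → ℤ) →ₗ[ℤ] ℤ) with hSl
  set Dl : (Fin n → ℤ) →ₗ[ℤ] (Fin n → ℤ) := Matrix.mulVecLin (Matrix.diagonal δ) with hDl
  set Al : (Fin n → ℤ) →ₗ[ℤ] (Fin n → ℤ) := Matrix.mulVecLin A with hAl
  have hSl_apply : ∀ x, Sl x = ∑ i, x i := by
    intro x; simp [hSl, LinearMap.sum_apply]
  have hDl_apply : ∀ x i, Dl x i = δ i * x i := by
    intro x i; simp [hDl, Matrix.mulVec_diagonal]
  rw [card_quot_comap, card_quot_comap]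
  have hD : Function.Injective Dl.toAddMonoidHom := by
    intro x y hxy
    funext i
    have h2 : Dl x i = Dl y i := congrFun hxy i
    rw [hDl_apply, hDl_apply] at h2
    exact mul_left_cancel₀ (hδ i) h2
  have hS : Function.Surjective Sl.toAddMonoidHom := by
    intro z
    refine ⟨Pi.single ⟨0, hn⟩ z, ?_⟩
    show Sl _ = z
    rw [hSl_apply, Finset.sum_pi_single']
    simp
  have key : (LinearMap.range Al).toAddSubgroup.relIndex
        (LinearMap.ker (Sl ∘ₗ Dl)).toAddSubgroup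
      * (LinearMap.range Dl).toAddSubgroup.index
      = (AddSubgroup.zmultiples (univ.gcd δ)).index *
        (LinearMap.range (Dl ∘ₗ Al)).toAddSubgroup.relIndex (LinearMap.ker Sl).toAddSubgroup := by
    apply index_calc Dl.toAddMonoidHom Sl.toAddMonoidHom hD hS
    · intro x; exact Iff.rfl
    · intro x; exact Iff.rfl
    · intro x; exact Iff.rfl
    · intro x
      constructor
      · rintro ⟨z, rfl⟩
        exact ⟨Al z, ⟨z, rfl⟩, rfl⟩
      · rintro ⟨y, ⟨z, rfl⟩, rfl⟩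
        exact ⟨z, rfl⟩
    · intro z
      rw [Int.mem_zmultiples_iff]
      constructor
      · rintro ⟨c, rfl⟩
        obtain ⟨g, hg⟩ := Finset.gcd_eq_sum_mul (univ : Finset (Fin n)) δ
        refine ⟨fun i => g i * c, ?_⟩
        show Sl (Dl _) = _
        rw [hSl_apply, hg, Finset.sum_mul]
        refine Finset.sum_congr rfl fun i _ => ?_
        simp only [hDl_apply]
        ring
      · rintro ⟨y, rfl⟩
        show _ ∣ Sl (Dl y)
        rw [hSl_apply]
        refine Finset.dvd_sum fun i _ => ?_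
        rw [hDl_apply]
        exact Dvd.dvd.mul_right (Finset.gcd_dvd (mem_univ i)) _
    · rintro x ⟨z, rfl⟩
      exact LinearMap.congr_fun hSDA z
  have hDMpi : (LinearMap.range Dl).toAddSubgroup =
      AddSubgroup.pi Set.univ (fun i => AddSubgroup.zmultiples (δ i)) := by
    ext x
    rw [AddSubgroup.mem_pi, Submodule.mem_toAddSubgroup, LinearMap.mem_range]
    constructor
    · rintro ⟨y, rfl⟩ i _
      rw [Int.mem_zmultiples_iff, hDl_apply]
      exact Dvd.intro _ rfl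
    · intro h
      have h' : ∀ i, δ i ∣ x i := fun i => Int.mem_zmultiples_iff.1 (h i (Set.mem_univ i))
      choose y hy using h'
      refine ⟨y, ?_⟩
      funext i
      rw [hDl_apply, hy i]
  have hDMidx : (LinearMap.range Dl).toAddSubgroup.index = (∏ i, δ i).natAbs := by
    rw [hDMpi, AddSubgroup.index_pi]
    simp only [Int.index_zmultiples]
    exact (map_prod Int.natAbsHom δ Finset.univ).symm
  have hd0 : 0 ≤ univ.gcd δ := Int.nonneg_of_normalize_eq_self Finset.normalize_gcd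
  rw [hDMidx, Int.index_zmultiples] at key
  have e1 : |∏ i, δ i| = ((∏ i, δ i).natAbs : ℤ) := (Int.natCast_natAbs _).symm
  have e2 : univ.gcd δ = ((univ.gcd δ).natAbs : ℤ) := (Int.natAbs_of_nonneg hd0).symm
  rw [e1, e2]
  exact_mod_cast key

end Groth.Agent.S14805
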