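import Groth.Statements.S14806
import Mathlib
import Groth.Agent.S14805
-- import your own Groth.Agent.* helpers here

set_option autoImplicit false
open Finset
open CompLat

namespace Groth.Agent.S14806

open Groth.Agent.S14805 (card_quot_comap)

lemma index_calc2 {M : Type*} [AddCommGroup M] (B D' : M →+ M) (φ : ℤ →+ M)
    (G2 H2 H3 DM' : AddSubgroup M) (T' : AddSubgroup ℤ)
    (hH2 : ∀ x, x ∈ H2 ↔ ∃ y, B y = x)
    (hH3 : ∀ x, x ∈ H3 ↔ ∃ y, B (D' y) = x)
    (hDM' : ∀ x, x ∈ DM' ↔ ∃ y, D' y = x)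
    (hK : ∀ x, B x = 0 ↔ ∃ k, φ k = x)
    (hT' : ∀ k, k ∈ T' ↔ ∃ y, D' y = φ k)
    (hH2G2 : H2 ≤ G2) :
    H3.relIndex G2 * T'.index = H2.relIndex G2 * DM'.index := by
  have eH2 : H2 = (⊤ : AddSubgroup M).map B := by
    ext x; rw [hH2, AddSubgroup.mem_map]
    constructor
    · rintro ⟨y, rfl⟩; exact ⟨y, AddSubgroup.mem_top y, rfl⟩
    · rintro ⟨y, -, rfl⟩; exact ⟨y, rfl⟩
  have eH3 : H3 = DM'.map B := by
    ext x; rw [hH3, AddSubgroup.mem_map]
    constructor
    · rintro ⟨y, rfl⟩; exact ⟨D' y, (hDM' _).2 ⟨y, rfl⟩, rfl⟩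
    · rintro ⟨z, hz, rfl⟩
      obtain ⟨y, rfl⟩ := (hDM' _).1 hz
      exact ⟨y, rfl⟩
  have eK : B.ker = (⊤ : AddSubgroup ℤ).map φ := by
    ext x; rw [AddMonoidHom.mem_ker, hK, AddSubgroup.mem_map]
    constructor
    · rintro ⟨k, rfl⟩; exact ⟨k, AddSubgroup.mem_top k, rfl⟩
    · rintro ⟨k, -, rfl⟩; exact ⟨k, rfl⟩
  have eT' : T' = DM'.comap φ := by
    ext k; rw [hT', AddSubgroup.mem_comap, hDM']
  have hH3H2 : H3 ≤ H2 := by
    rw [eH3, eH2]; exact AddSubgroup.map_mono le_top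
  have r1 := AddSubgroup.relIndex_mul_relIndex H3 H2 G2 hH3H2 hH2G2
  have r2 : H3.relIndex H2 = (DM' ⊔ B.ker).index := by
    rw [eH3, eH2, AddSubgroup.relIndex_map_map, top_sup_eq, AddSubgroup.relIndex_top_right]
  have r3 : DM'.relIndex (B.ker ⊔ DM') = DM'.relIndex B.ker :=
    AddSubgroup.relIndex_sup_right B.ker DM'
  have r4 : DM'.relIndex (B.ker ⊔ DM') * (B.ker ⊔ DM').index = DM'.index :=
    AddSubgroup.relIndex_mul_index le_sup_right
  have r5 : DM'.relIndex B.ker = T'.index := by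
    rw [eK, ← AddSubgroup.relIndex_comap, AddSubgroup.relIndex_top_right, eT']
  rw [← r1, r2, ← r4, r3, r5, sup_comm DM' B.ker]
  ring

lemma index_range_diag (n : ℕ) (δ : Fin n → ℤ) :
    (LinearMap.range (Matrix.mulVecLin (Matrix.diagonal δ))).toAddSubgroup.index
      = (∏ i, δ i).natAbs := by
  have hDl_apply : ∀ x i, (Matrix.mulVecLin (Matrix.diagonal δ)) x i = δ i * x i := by
    intro x i; simp [Matrix.mulVec_diagonal]
  have hDMpi : (LinearMap.range (Matrix.mulVecLin (Matrix.diagonal δ))).toAddSubgroup =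
      AddSubgroup.pi Set.univ (fun i => AddSubgroup.zmultiples (δ i)) := by
    ext x
    rw [AddSubgroup.mem_pi, Submodule.mem_toAddSubgroup, LinearMap.mem_range]
    constructor
    · rintro ⟨y, rfl⟩ i _
      rw [Int.mem_zmultiples_iff, hDl_apply]
      exact Dvd.intro _ rfl
    · intro h
      have h' : ∀ i, δ i ∣ x i := fun i => Int.mem_zmultiples_iff.1 (h i (Set.mem_univ i))
      choose y hy using h'
      refine ⟨y, ?_⟩
      funext i
      rw [hDl_apply, hy i]
  rw [hDMpi, AddSubgroup.index_pi]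
  simp only [Int.index_zmultiples]
  exact (map_prod Int.natAbsHom δ Finset.univ).symm

lemma final_arith (r1 r2 r3 : ℕ) (P P' d d' : ℤ) (hd' : 0 ≤ d')
    (h05 : (r1 : ℤ) * |P| = d * r2) (key2 : r3 * d'.natAbs = r2 * P'.natAbs) :
    (r1 : ℤ) * |P| * |P'| = d * d' * r3 := by
  have key2z : (r3 : ℤ) * d' = r2 * |P'| := by
    rw [← Int.natCast_natAbs P', ← Int.natAbs_of_nonneg hd']
    exact_mod_cast key2
  linear_combination |P'| * h05 - d * key2z

/-- Let n ≥ 1, let D, D' : ℤⁿ → ℤⁿ be given by diagonal matrices with nonzero diagonal entries, A : ℤⁿ →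
ℤⁿ an integer matrix of rank n - 1, S : ℤⁿ → ℤ the sum of the coordinates and Δ : ℤ → ℤⁿ the
diagonal embedding, with S D A = 0 and A D' Δ = 0; let d, d' be the greatest common divisors of the
diagonal entries of D and of D' (dℤ = im(S D), d'ℤ = im(S D')). Then #(ker(S D)/im A) · |det D| ·
|det D'| = d d' · #(ker S/im(D A D')). -/
theorem result (n : ℕ) (hn : 0 < n) (δ δ' : Fin n → ℤ) (hδ : ∀ i, δ i ≠ 0) (hδ' : ∀ i, δ' i ≠ 0)
    (A : Matrix (Fin n) (Fin n) ℤ) (hA : A.rank = n - 1)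
    (hSDA : (∑ i : Fin n, (LinearMap.proj i : (Fin n → ℤ) →ₗ[ℤ] ℤ)) ∘ₗ
        (Matrix.mulVecLin (Matrix.diagonal δ)) ∘ₗ (Matrix.mulVecLin A) = 0)
    (hADΔ : (Matrix.mulVecLin A) ∘ₗ (Matrix.mulVecLin (Matrix.diagonal δ')) ∘ₗ
        (LinearMap.pi fun _ : Fin n => (LinearMap.id : ℤ →ₗ[ℤ] ℤ)) = 0) :
    (Nat.card (LinearMap.ker ((∑ i : Fin n, (LinearMap.proj i : (Fin n → ℤ) →ₗ[ℤ] ℤ)) ∘ₗ (Matrix.mulVecLin (Matrix.diagonal δ))) ⧸
          (LinearMap.range (Matrix.mulVecLin A)).comap (LinearMap.ker ((∑ i : Fin n, (LinearMap.proj i : (Fin n → ℤ) →ₗ[ℤ] ℤ)) ∘ₗ (Matrix.mulVecLin (Matrix.diagonal δ)))).subtype) : ℤ) * |∏ i, δ i| * |∏ i, δ' i| =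
      (univ.gcd δ) * (univ.gcd δ') * Nat.card (LinearMap.ker (∑ i : Fin n, (LinearMap.proj i : (Fin n → ℤ) →ₗ[ℤ] ℤ)) ⧸
          (LinearMap.range ((Matrix.mulVecLin (Matrix.diagonal δ)) ∘ₗ (Matrix.mulVecLin A) ∘ₗ (Matrix.mulVecLin (Matrix.diagonal δ')))).comap (LinearMap.ker (∑ i : Fin n, (LinearMap.proj i : (Fin n → ℤ) →ₗ[ℤ] ℤ))).subtype) := by
  classical
  have h05 := Groth.Agent.S14805.result n hn δ δ' hδ hδ' A hA hSDA hADΔ
  set Sl : (Fin n → ℤ) →ₗ[ℤ] ℤ :=
    ∑ i : Fin n, (LinearMap.proj i : (Fin n → ℤ) →ₗ[ℤ] ℤ) with hSl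
  set Dl : (Fin n → ℤ) →ₗ[ℤ] (Fin n → ℤ) := Matrix.mulVecLin (Matrix.diagonal δ) with hDl
  set Dl' : (Fin n → ℤ) →ₗ[ℤ] (Fin n → ℤ) := Matrix.mulVecLin (Matrix.diagonal δ') with hDl'
  set Al : (Fin n → ℤ) →ₗ[ℤ] (Fin n → ℤ) := Matrix.mulVecLin A with hAl
  have hDl_apply : ∀ x i, Dl x i = δ i * x i := by
    intro x i; simp [hDl, Matrix.mulVec_diagonal]
  have hDl'_apply : ∀ x i, Dl' x i = δ' i * x i := by
    intro x i; simp [hDl', Matrix.mulVec_diagonal]
  have hDinj : Function.Injective Dl := by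
    intro x y hxy
    funext i
    have h2 : Dl x i = Dl y i := congrFun hxy i
    rw [hDl_apply, hDl_apply] at h2
    exact mul_left_cancel₀ (hδ i) h2
  set d' := univ.gcd δ' with hd'
  have i0 : Fin n := ⟨0, hn⟩
  have hd'dvd : ∀ i, d' ∣ δ' i := fun i => Finset.gcd_dvd (mem_univ i)
  have hd'0 : d' ≠ 0 := fun h => hδ' i0 (by
    have := hd'dvd i0; rw [h] at this; exact zero_dvd_iff.1 this)
  have hd0' : 0 ≤ d' := Int.nonneg_of_normalize_eq_self Finset.normalize_gcd
  choose w hw using hd'dvd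
  have hw0 : ∀ i, w i ≠ 0 := fun i h => hδ' i (by rw [hw i, h, mul_zero])
  obtain ⟨c, hc⟩ := Finset.gcd_eq_sum_mul (univ : Finset (Fin n)) δ'
  have hc1 : ∑ i, w i * c i = 1 := by
    have h1 : d' * ∑ i, w i * c i = d' * 1 := by
      rw [mul_one, Finset.mul_sum]
      calc ∑ i, d' * (w i * c i) = ∑ i, δ' i * c i :=
            Finset.sum_congr rfl fun i _ => by rw [hw i]; ring
        _ = d' := hc.symm
    exact mul_left_cancel₀ hd'0 h1
  have hAδ' : Al δ' = 0 := by
    have h : Al (Dl' ((LinearMap.pi fun _ : Fin n => (LinearMap.id : ℤ →ₗ[ℤ] ℤ)) 1)) = 0 :=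
      LinearMap.congr_fun hADΔ (1 : ℤ)
    have h2 : Dl' ((LinearMap.pi fun _ : Fin n => (LinearMap.id : ℤ →ₗ[ℤ] ℤ)) 1) = δ' := by
      funext i
      rw [hDl'_apply]
      simp
    rw [h2] at h; exact h
  have hAw : Al w = 0 := by
    have h1 : Al (d' • w) = 0 := by
      have : d' • w = δ' := by
        funext i
        rw [Pi.smul_apply, smul_eq_mul, ← hw i]
      rw [this]; exact hAδ'
    rw [map_smul] at h1
    funext i
    have h2 := congrFun h1 i
    rw [Pi.smul_apply, smul_eq_mul, Pi.zero_apply] at h2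
    exact (mul_eq_zero.1 h2).resolve_left hd'0
  have hrank : Module.finrank ℤ (LinearMap.ker Al) = 1 := by
    have hrn : Module.finrank ℤ (LinearMap.range Al) + Module.finrank ℤ (LinearMap.ker Al)
        = Module.finrank ℤ (Fin n → ℤ) := by
      rw [← Al.quotKerEquivRange.finrank_eq]
      exact Submodule.finrank_quotient_add_finrank _
    have hA' : Module.finrank ℤ (LinearMap.range Al) = n - 1 := hA
    rw [hA', Module.finrank_fin_fun] at hrn
    omega
  have hker : ∀ x, Al x = 0 → ∃ k : ℤ, k • w = x := by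
    intro x hx
    have hnot : ¬ LinearIndependent ℤ ![(⟨x, hx⟩ : LinearMap.ker Al), ⟨w, hAw⟩] := by
      intro hli
      have := hli.fintype_card_le_finrank
      rw [hrank, Fintype.card_fin] at this
      omega
    rw [LinearIndependent.pair_iff] at hnot
    push Not at hnot
    obtain ⟨s, t, hst, hne⟩ := hnot
    have hst' : ∀ i, s * x i + t * w i = 0 := by
      intro i
      have h1 := congrArg (fun v : LinearMap.ker Al => (v : Fin n → ℤ) i) hst
      simpa using h1
    set X := ∑ i, x i * c i with hX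
    have hsum : s * X + t = 0 := by
      have h2 : ∑ i, (s * x i + t * w i) * c i = 0 := by
        refine Finset.sum_eq_zero fun i _ => ?_
        rw [hst' i, zero_mul]
      have h3 : ∑ i, (s * x i + t * w i) * c i = s * X + t * ∑ i, w i * c i := by
        rw [hX, Finset.mul_sum, Finset.mul_sum, ← Finset.sum_add_distrib]
        refine Finset.sum_congr rfl fun i _ => ?_
        ring
      rw [h3, hc1, mul_one] at h2
      exact h2
    have hs0 : s ≠ 0 := by
      intro hs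
      have ht := hne hs
      have := hst' i0
      rw [hs, zero_mul, zero_add] at this
      exact ht ((mul_eq_zero.1 this).resolve_right (hw0 i0))
    refine ⟨X, ?_⟩
    funext i
    rw [Pi.smul_apply, smul_eq_mul]
    have h4 : s * (X * w i - x i) = 0 := by
      linear_combination (-1 : ℤ) * hst' i + w i * hsum
    exact sub_eq_zero.1 ((mul_eq_zero.1 h4).resolve_left hs0)
  have key2 : (LinearMap.range (Dl ∘ₗ Al ∘ₗ Dl')).toAddSubgroup.relIndex
        (LinearMap.ker Sl).toAddSubgroup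
      * (AddSubgroup.zmultiples d').index
      = (LinearMap.range (Dl ∘ₗ Al)).toAddSubgroup.relIndex (LinearMap.ker Sl).toAddSubgroup
        * (LinearMap.range Dl').toAddSubgroup.index := by
    apply index_calc2 (Dl ∘ₗ Al).toAddMonoidHom Dl'.toAddMonoidHom
      (zmultiplesHom (Fin n → ℤ) w)
    · intro x; exact Iff.rfl
    · intro x; exact Iff.rfl
    · intro x; exact Iff.rfl
    · intro x
      show Dl (Al x) = 0 ↔ ∃ k : ℤ, k • w = x
      constructor
      · intro h
        have h0 : Al x = 0 := hDinj (by rw [h, map_zero])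
        exact hker x h0
      · rintro ⟨k, rfl⟩
        rw [map_smul, hAw, smul_zero, map_zero]
    · intro k
      rw [Int.mem_zmultiples_iff]
      constructor
      · rintro ⟨e, rfl⟩
        refine ⟨fun _ => e, ?_⟩
        funext i
        show Dl' (fun _ => e) i = ((d' * e) • w) i
        rw [hDl'_apply, Pi.smul_apply, smul_eq_mul, hw i]
        ring
      · rintro ⟨y, hy⟩
        have h1 : Dl' y i0 = k * w i0 := congrFun hy i0
        rw [hDl'_apply, hw i0] at h1
        have h2 : (d' * y i0 - k) * w i0 = 0 := by linear_combination h1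
        have h3 := (mul_eq_zero.1 h2).resolve_right (hw0 i0)
        exact ⟨y i0, by linarith⟩
    · rintro x ⟨z, rfl⟩
      exact LinearMap.congr_fun hSDA z
  have hDM'idx : (LinearMap.range Dl').toAddSubgroup.index = (∏ i, δ' i).natAbs :=
    index_range_diag n δ'
  rw [hDM'idx, Int.index_zmultiples] at key2
  rw [card_quot_comap, card_quot_comap] at h05
  rw [card_quot_comap, card_quot_comap]
  exact final_arith _ _ _ _ _ _ _ hd0' h05 key2

end Groth.Agent.S14806
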