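import Groth.Statements.S14807
import Mathlib.Tactic
import Mathlib.GroupTheory.OrderOfElement
import Mathlib.Data.Nat.Factorization.Basic
-- import your own Groth.Agent.* helpers here

set_option autoImplicit false
universe u
open CAlg

namespace Groth.Agent.S14807

/-- Let G be a finite abelian group, written additively, and ℓ a prime number. Every sequence (g_n)_{n ≥
0} of elements of G with ℓ^n · g_n = 0 and ℓ · g_{n+1} = g_n for all n is identically zero; in other
words the inverse limit of the subgroups of ℓ^n-torsion elements, with transition maps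
multiplication by ℓ, vanishes. -/
theorem result (G : Type u) [AddCommGroup G] [Finite G]
    (ℓ : ℕ) (hℓ : ℓ.Prime) (g : ℕ → G) (htor : ∀ n : ℕ, ℓ ^ n • g n = 0)
    (hcomp : ∀ n : ℕ, ℓ • g (n + 1) = g n) (n : ℕ) : g n = 0 := by
  classical
  -- g n = ℓ^a • g (n + a)
  have hshift : ∀ a n : ℕ, ℓ ^ a • g (n + a) = g n := by
    intro a
    induction a with
    | zero => intro n; simp
    | succ a ih =>
      intro n
      rw [pow_succ, mul_smul, ← add_assoc, hcomp, ih]
  have hN0 : Nat.card G ≠ 0 := Nat.card_pos.ne'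
  obtain ⟨a, m, hm, hN⟩ := Nat.exists_eq_pow_mul_and_not_dvd hN0 ℓ hℓ.ne_one
  rw [← hshift a n]
  rw [← addOrderOf_dvd_iff_nsmul_eq_zero]
  have h1 : addOrderOf (g (n + a)) ∣ ℓ ^ (n + a) :=
    addOrderOf_dvd_iff_nsmul_eq_zero.mpr (htor (n + a))
  have h2 : addOrderOf (g (n + a)) ∣ ℓ ^ a * m := by
    rw [← hN]
    exact addOrderOf_dvd_natCard _
  obtain ⟨j, _, hj⟩ := (Nat.dvd_prime_pow hℓ).mp h1
  rw [hj] at h2 ⊢
  have hcop : Nat.Coprime (ℓ ^ j) m := Nat.Coprime.pow_left j ((Nat.Prime.coprime_iff_not_dvd hℓ).mpr hm)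
  exact hcop.dvd_of_dvd_mul_right h2

end Groth.Agent.S14807
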