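import Groth.Statements.S14808
import Groth.Agent.Lib.Helper48.DivOfSection
-- import your own Groth.Agent.* helpers here

set_option autoImplicit false
universe u
open CategoryTheory CategoryTheory.Limits AlgebraicGeometry
open PicF

namespace Groth.Agent.S14808

section Aux

open Groth.Agent.Lib.Ample Groth.Agent.Lib.Helper48 Groth.Agent.Lib.Helper48.DivOfSection
open TopologicalSpace Opposite

variable {X : Scheme.{u}}

/-- a unit section generates the structure sheaf -/
theorem isGenerator_of_isUnit (U : X.Opens) (b : Γ(X, U)) (hb : IsUnit b) :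
    IsGenerator (Coh.structureModule X) U (show Γ(Coh.structureModule X, U) from b) := by
  rw [isGenerator_iff]
  intro V hV
  have hbV : IsUnit (X.presheaf.map (homOfLE hV).op b) :=
    hb.map (X.presheaf.map (homOfLE hV).op).hom
  constructor
  · intro a a' haa
    have haa' : a * X.presheaf.map (homOfLE hV).op b = a' * X.presheaf.map (homOfLE hV).op b := haa
    exact hbV.mul_left_injective haa'
  · intro d
    refine ⟨(show Γ(X, V) from d) * ↑hbV.unit⁻¹, ?_⟩
    show (show Γ(X, V) from d) * ↑hbV.unit⁻¹ * X.presheaf.map (homOfLE hV).op b = d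
    rw [mul_assoc, IsUnit.val_inv_mul, mul_one]

/-- on an integral scheme, a morphism `L ⟶ O_X` killing a local generator on a nonempty open is zero -/
theorem hom_eq_zero_of_app_eq_zero [IsIntegral X] {L : X.Modules}
    (t : L ⟶ Coh.structureModule X) (U : X.Opens) (hU : (U : Set X).Nonempty) (e : Γ(L, U))
    (he : IsGenerator L U e) (h0 : t.app U e = 0) : t = 0 := by
  apply Scheme.Modules.hom_ext
  intro V
  ext m
  show t.app V m = 0
  by_cases hV : (V : Set X).Nonempty
  · obtain ⟨N, hN⟩ : ∃ N : X.Opens, N = V ⊓ U := ⟨_, rfl⟩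
    have hNV : N ≤ V := hN ▸ inf_le_left
    have hNU : N ≤ U := hN ▸ inf_le_right
    have hne : Nonempty N := by
      obtain ⟨y, hy⟩ := nonempty_preirreducible_inter V.2 U.2 hV hU
      exact ⟨⟨y, hN ▸ hy⟩⟩
    obtain ⟨r, hr⟩ := (he.bijective hNU).2 (L.presheaf.map (homOfLE hNV).op m)
    have hr' : r • L.presheaf.map (homOfLE hNU).op e = L.presheaf.map (homOfLE hNV).op m := hr
    have h1 : (Coh.structureModule X).presheaf.map (homOfLE hNV).op (t.app V m) = 0 := by
      rw [← Groth.Agent.Lib.QCoh.app_naturality_apply t (homOfLE hNV) m, ← hr',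
        Scheme.Modules.Hom.app_smul, Groth.Agent.Lib.QCoh.app_naturality_apply t (homOfLE hNU) e,
        h0, map_zero, smul_zero]
    have h2 : X.presheaf.map (homOfLE hNV).op (show Γ(X, V) from t.app V m) = 0 := h1
    haveI := hne
    exact map_injective_of_isIntegral X (homOfLE hNV) (h2.trans (map_zero _).symm)
  · have hbot : V = ⊥ := Opens.coe_eq_empty.mp (Set.not_nonempty_iff_eq_empty.mp hV)
    subst hbot
    show (show Γ(X, ⊥) from t.app ⊥ m) = 0
    exact Subsingleton.elim _ _

end Aux

/-- Let X be an integral scheme such that Γ(X, O_X) is a field and L an invertible O_X-module. If L has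
a nonzero global section (a nonzero morphism O_X → L) and its dual has a nonzero global section (a
nonzero morphism L → O_X), then L is isomorphic to O_X. -/
theorem result (X : Scheme.{u}) [IsIntegral X]
    (hfield : IsField (Γ(X, ⊤) : Type u)) (L : X.Modules) (hL : PicF.IsInvertible L)
    (s : Coh.structureModule X ⟶ L) (hs : s ≠ 0) (t : L ⟶ Coh.structureModule X) (ht : t ≠ 0) :
    Nonempty (L ≅ Coh.structureModule X) := by
  have key : ∀ x : X, ∃ (U : X.Opens) (_ : x ∈ U) (e : Γ(L, U)) (a : Γ(X, U)),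
      Groth.Agent.Lib.Ample.IsGenerator L U e ∧ (SecTwist.val s U : Γ(L, U)) = a • e :=
    fun x => Groth.Agent.Lib.Helper48.DivOfSection.exists_triv0 hL s x
  obtain ⟨c, hc⟩ : ∃ c : Γ(X, ⊤),
      c = (show Γ(X, ⊤) from t.app ⊤ (SecTwist.val s ⊤ : Γ(L, ⊤))) := ⟨_, rfl⟩
  have hres : ∀ (U : X.Opens) (e : Γ(L, U)) (a : Γ(X, U)),
      (SecTwist.val s U : Γ(L, U)) = a • e →
      a * (show Γ(X, U) from t.app U e) =
        X.presheaf.map (homOfLE (le_top : U ≤ ⊤)).op c := by
    intro U e a hae
    have h1 : L.presheaf.map (homOfLE (le_top : U ≤ ⊤)).op (SecTwist.val s ⊤ : Γ(L, ⊤)) =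
        (SecTwist.val s U : Γ(L, U)) := SecTwist.map_val s (homOfLE le_top)
    have h2 := Groth.Agent.Lib.QCoh.app_naturality_apply t (homOfLE (le_top : U ≤ ⊤))
      (SecTwist.val s ⊤ : Γ(L, ⊤))
    rw [h1, hae, Scheme.Modules.Hom.app_smul] at h2
    rw [hc]
    exact h2
  have hc0 : c ≠ 0 := by
    intro hc0
    obtain ⟨x⟩ : Nonempty X := inferInstance
    obtain ⟨U, hxU, e, a, he, hae⟩ := key x
    have h1 := hres U e a hae
    rw [hc0, map_zero] at h1
    haveI : Nonempty U := ⟨⟨x, hxU⟩⟩
    rcases mul_eq_zero.mp h1 with ha | hb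
    · apply hs
      refine Groth.Agent.Lib.Helper48.DivOfSection.eq_zero_of_val_eq_zero hL s U ⟨x, hxU⟩ ?_
      exact hae.trans ((congrArg (fun z : Γ(X, U) => z • e) ha).trans (zero_smul _ _))
    · apply ht
      exact hom_eq_zero_of_app_eq_zero t U ⟨x, hxU⟩ e he hb
  have hcu : IsUnit c := by
    obtain ⟨b, hb⟩ := hfield.mul_inv_cancel hc0
    exact IsUnit.of_mul_eq_one b hb
  have hiso : IsIso t := by
    refine Groth.Agent.Lib.Helper48.TensorDesc.isIso_of_isGenerator t (fun x => ?_)
    obtain ⟨U, hxU, e, a, he, hae⟩ := key x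
    refine ⟨U, hxU, e, he, ?_⟩
    have h1 := hres U e a hae
    have hu : IsUnit (a * (show Γ(X, U) from t.app U e)) := by
      rw [h1]
      exact hcu.map (X.presheaf.map (homOfLE (le_top : U ≤ ⊤)).op).hom
    exact isGenerator_of_isUnit U _ (isUnit_of_mul_isUnit_right hu)
  exact ⟨asIso t⟩

end Groth.Agent.S14808
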