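import Groth.Statements.S14809
import Groth.Agent.Lib.Helper48.DivOfSection
import Groth.Agent.Lib.Ample.SecTwistBridge
-- import your own Groth.Agent.* helpers here

set_option autoImplicit false
universe u
open CategoryTheory CategoryTheory.Limits AlgebraicGeometry
open PicF

namespace Groth.Agent.S14809

/-- Let X be an integral scheme such that Γ(X, O_X) is a field and L an invertible O_X-module with a
nonzero global section (a nonzero morphism O_X → L). If some tensor power L^{⊗d} with d ≥ 1 is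
isomorphic to O_X, then L itself is isomorphic to O_X. -/
theorem result (X : Scheme.{u}) [IsIntegral X]
    (hfield : IsField (Γ(X, ⊤) : Type u)) (L : X.Modules) (hL : PicF.IsInvertible L)
    (s : Coh.structureModule X ⟶ L) (hs : s ≠ 0) (d : ℕ) (hd : 0 < d)
    (htriv : Nonempty (CohB1.tensorPow L d ≅ Coh.structureModule X)) :
    Nonempty (L ≅ Coh.structureModule X) := by
  obtain ⟨φ⟩ := htriv
  obtain ⟨n, rfl⟩ : ∃ n, d = n + 1 := ⟨d - 1, by omega⟩
  obtain ⟨σ, hσ⟩ : ∃ σ : Coh.structureModule X ⟶ Coh.structureModule X,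
      σ = SecTwist.powHom s (n + 1) ≫ φ.hom := ⟨_, rfl⟩
  have h1 : CohB1.genLocus (Coh.structureModule X) σ = CohB1.genLocus L s := by
    rw [hσ, Groth.Agent.Lib.Ample.genLocus_comp_iso, Groth.Agent.Lib.Ample.genLocus_powHom hL]
  have h2 := Groth.Agent.Lib.Ample.genLocus_unit σ
  have hc0 : Groth.Agent.Lib.Ample.fnOf σ ≠ 0 := by
    intro hc
    rw [hc] at h2
    have h3 : CohB1.genLocus L s = ⊥ := by
      rw [← h1, h2]
      exact (AlgebraicGeometry.basicOpen_eq_bot_iff _).2 rfl
    obtain ⟨x⟩ : Nonempty X := inferInstance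
    obtain ⟨U, hxU, e, a, he, hae⟩ := Groth.Agent.Lib.Helper48.DivOfSection.exists_triv0 hL s x
    have h4 := Groth.Agent.Lib.Ample.genLocus_inf_eq_basicOpen s U e he a
      ((Groth.Agent.Lib.Ample.val_eq_secOn s U).symm.trans hae)
    rw [h3, bot_inf_eq] at h4
    have ha : a = 0 := (AlgebraicGeometry.basicOpen_eq_bot_iff a).1 h4.symm
    apply hs
    exact Groth.Agent.Lib.Helper48.DivOfSection.eq_zero_of_val_eq_zero hL s U ⟨x, hxU⟩
      (hae.trans ((congrArg (fun z : Γ(X, U) => z • e) ha).trans (zero_smul _ _)))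
  have hcu : IsUnit (Groth.Agent.Lib.Ample.fnOf σ) := by
    obtain ⟨b, hb⟩ := hfield.mul_inv_cancel hc0
    exact IsUnit.of_mul_eq_one b hb
  have h5 : CohB1.genLocus L s = ⊤ := by
    rw [← h1, h2]
    exact X.basicOpen_of_isUnit hcu
  have hbij : ∀ V : X.Opens, Function.Bijective (s.app V) := fun V =>
    (Groth.Agent.Lib.Ample.le_genLocus_iff' L s ⊤).1 (by rw [h5]) V le_top
  have hiso : IsIso s :=
    Scheme.Modules.Hom.isIso_iff_isIso_app.2
      (fun U => (ConcreteCategory.isIso_iff_bijective _).2 (hbij U))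
  exact ⟨(asIso s).symm⟩

end Groth.Agent.S14809
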