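import Groth.Statements.S14820
import Groth.Agent.Lib.Helper60.AbSub

set_option autoImplicit false
universe u
open CategoryTheory MonoidalCategory CartesianMonoidalCategory MonObj GrpObj AlgebraicGeometry
open AbVar

namespace Groth.Agent.S14820

/-- Let k be an arbitrary field and G a commutative group scheme locally of finite type over k. Then
there is a closed subgroup scheme M of G which is an abelian variety over k (proper and
geometrically integral) and through which every homomorphism A → G from an abelian variety A over k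
(a geometrically reduced, connected, proper k-group scheme) factors. -/
theorem result (k : Type u) [Field k]
    (G : Over (Spec (CommRingCat.of k))) [GrpObj G] [IsCommMonObj G] [LocallyOfFiniteType G.hom] :
    ∃ (M : Over (Spec (CommRingCat.of k))) (_ : GrpObj M) (i : M ⟶ G), IsMonHom i ∧ IsClosedImmersion i.left ∧
      IsProper M.hom ∧ GeometricallyIntegral M.hom ∧
      ∀ (A : Over (Spec (CommRingCat.of k))) [GrpObj A] [IsProper A.hom] [GeometricallyReduced A.hom] [ConnectedSpace ↥A.left]
        (φ : A ⟶ G), IsMonHom φ → ∃ ψ : A ⟶ M, ψ ≫ i = φ := by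
  haveI : IsSeparated G.hom := Groth.Agent.Lib.Helper23.GrpSeparated.isSeparated_of_field G
  haveI : IsLocallyNoetherian G.left := LocallyOfFiniteType.isLocallyNoetherian G.hom
  let e : G.left := η[G].left (IsLocalRing.closedPoint k)
  let S : Set (Set G.left) := {Z | ∃ (M : Over (Spec (CommRingCat.of k))) (_ : GrpObj M) (i : M ⟶ G),
    IsMonHom i ∧ IsClosedImmersion i.left ∧ IsProper M.hom ∧ GeometricallyIntegral M.hom ∧
    Set.range i.left = Z}
  have hS : S.Nonempty := by
    refine ⟨_, 𝟙_ (Over (Spec (CommRingCat.of k))), inferInstance, η[G], inferInstance, ?_, ?_, ?_, rfl⟩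
    · have h : η[G].left ≫ G.hom = 𝟙 (Spec (CommRingCat.of k)) := Over.w η[G]
      have hs : Subsingleton ↥(Spec (CommRingCat.of k)) :=
        inferInstanceAs (Subsingleton (PrimeSpectrum k))
      exact isClosedImmersion_of_comp_eq_id G.hom η[G].left h
    · show IsProper (𝟙 (Spec (CommRingCat.of k))); infer_instance
    · show GeometricallyIntegral (𝟙 (Spec (CommRingCat.of k))); infer_instance
  have hprops : ∀ Z ∈ S, IsClosed Z ∧ IsIrreducible Z ∧ e ∈ Z := by
    rintro Z ⟨M, instM, i, hi1, hi2, hi3, hi4, rfl⟩
    haveI : IsIntegral M.left := GeometricallyIntegral.isIntegral_of_subsingleton M.hom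
    refine ⟨i.left.isClosedEmbedding.isClosed_range, ?_, ?_⟩
    · rw [← Set.image_univ]
      exact (IrreducibleSpace.isIrreducible_univ M.left).image i.left
        i.left.continuous.continuousOn
    · refine ⟨η[M].left (IsLocalRing.closedPoint k), ?_⟩
      have h1 : η[M] ≫ i = η[G] := IsMonHom.one_hom (f := i)
      show (η[M].left ≫ i.left) (IsLocalRing.closedPoint k) = η[G].left (IsLocalRing.closedPoint k)
      rw [← Over.comp_left, h1]
  obtain ⟨Z₀, ⟨M, instM, i, hi1, hi2, hi3, hi4, rfl⟩, hmax⟩ :=
    Groth.Agent.Lib.Helper60.AbSub.exists_maximal_irreducibleCloseds G.left e S hS hprops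
  refine ⟨M, instM, i, hi1, hi2, hi3, hi4, fun A _ _ _ _ φ hφ => ?_⟩
  haveI : GeometricallyIntegral A.hom :=
    Groth.Agent.Lib.Helper60.AbSub.geometricallyIntegral_of_connected A
  obtain ⟨N, instN, iN, j, ψ, h1, h2, h3, h4, hj, hψ⟩ :=
    Groth.Agent.Lib.Helper60.AbSub.exists_sum G M A i φ
  have hsub : Set.range i.left ⊆ Set.range iN.left := by
    rintro _ ⟨m, rfl⟩
    refine ⟨j.left m, ?_⟩
    show (j.left ≫ iN.left) m = i.left m
    rw [← Over.comp_left, hj]
  have heq : Set.range iN.left = Set.range i.left :=
    hmax _ ⟨N, instN, iN, h1, h2, h3, h4, rfl⟩ hsub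
  haveI : IsClosedImmersion (j.left ≫ iN.left) := by
    rw [← Over.comp_left, hj]; exact hi2
  haveI : IsClosedImmersion j.left := IsClosedImmersion.of_comp_isClosedImmersion j.left iN.left
  haveI : Surjective j.left := by
    constructor
    intro n
    have hn : iN.left n ∈ Set.range i.left := heq ▸ ⟨n, rfl⟩
    obtain ⟨m, hm⟩ := hn
    refine ⟨m, iN.left.isClosedEmbedding.injective ?_⟩
    rw [← hm]
    show (j.left ≫ iN.left) m = i.left m
    rw [← Over.comp_left, hj]
  haveI : IsIntegral N.left := GeometricallyIntegral.isIntegral_of_subsingleton N.hom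
  haveI : IsIso j.left := isIso_of_isClosedImmersion_of_surjective j.left
  haveI : IsIso ((Over.forget (Spec (CommRingCat.of k))).map j) := by
    show IsIso j.left; infer_instance
  haveI : IsIso j := isIso_of_reflects_iso j (Over.forget _)
  exact ⟨ψ ≫ inv j, by rw [← hj, Category.assoc, IsIso.inv_hom_id_assoc, hψ]⟩

end Groth.Agent.S14820
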