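import Groth.Statements.S14825
import Groth.Agent.Lib.Helper60.RigidityGrp
import Groth.Agent.Lib.Helper61.H0Field

set_option autoImplicit false
universe u
open CategoryTheory MonoidalCategory CartesianMonoidalCategory MonObj GrpObj AlgebraicGeometry
open AbVar

namespace Groth.Agent.S14825

/-- In the pointed case, let k be a field and X a proper k-scheme with H^0(X, O_X) one-dimensional and a
k-rational point x₀; let alb : X → A be the Albanese morphism (A an abelian variety over k — proper,
geometrically integral group scheme — with alb(x₀) = 0, universal among pointed k-morphisms from X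
to abelian varieties, the latter being geometrically reduced, connected, proper group schemes). Then
X has Albanese dimension zero, i.e. the image of alb is a single point of A (X is connected, so this
says the image is zero-dimensional), if and only if A is the trivial abelian variety, i.e. A → Spec
k is an isomorphism. (The published statement does not assume a rational point (it works with the
Albanese torsor); this row assumes one.) -/
theorem result (k : Type u) [Field k] (X : Scheme.{u}) [X.Over (Spec (CommRingCat.of k))]
    [IsProper (X ↘ Spec (CommRingCat.of k))] (h0 : Module.finrank k (Coh.HH X (Coh.structureModule X) 0) = 1)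
    (x₀ : 𝟙_ (Over (Spec (CommRingCat.of k))) ⟶ Over.mk (X ↘ Spec (CommRingCat.of k)))
    (A : Over (Spec (CommRingCat.of k))) [GrpObj A] [IsProper A.hom] [GeometricallyIntegral A.hom]
    (alb : Over.mk (X ↘ Spec (CommRingCat.of k)) ⟶ A) (halb : x₀ ≫ alb = η[A])
    (huniv : ∀ (B : Over (Spec (CommRingCat.of k))) [GrpObj B] [IsProper B.hom] [GeometricallyReduced B.hom] [ConnectedSpace ↥B.left]
      (g : Over.mk (X ↘ Spec (CommRingCat.of k)) ⟶ B), x₀ ≫ g = η[B] → ∃! h : A ⟶ B, IsMonHom h ∧ alb ≫ h = g) :
    (Set.range alb.left.base).Subsingleton ↔ IsIso A.hom := by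
  letI : Algebra k Γ(X, ⊤) := (((Scheme.ΓSpecIso (CommRingCat.of k)).inv ≫
      (X ↘ Spec (CommRingCat.of k)).appTop).hom).toAlgebra
  have hfin : Module.finrank k Γ(X, ⊤) = 1 := by
    rw [← Groth.Agent.Lib.Helper61.H0Field.finrank_HH0_eq k X]; exact h0
  have hbij : Function.Bijective (algebraMap k Γ(X, ⊤)) :=
    Algebra.finrank_eq_one_iff_bijective_algebraMap.mp hfin
  have hiso : IsIso (X ↘ Spec (CommRingCat.of k)).appTop := by
    haveI : IsIso ((Scheme.ΓSpecIso (CommRingCat.of k)).inv ≫
        (X ↘ Spec (CommRingCat.of k)).appTop) :=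
      (ConcreteCategory.isIso_iff_bijective _).mpr hbij
    have : (X ↘ Spec (CommRingCat.of k)).appTop = (Scheme.ΓSpecIso (CommRingCat.of k)).hom ≫
        ((Scheme.ΓSpecIso (CommRingCat.of k)).inv ≫ (X ↘ Spec (CommRingCat.of k)).appTop) := by
      rw [Iso.hom_inv_id_assoc]
    rw [this]; infer_instance
  constructor
  · intro hsub
    have hx₀ : x₀.left ≫ (X ↘ Spec (CommRingCat.of k)) = 𝟙 _ := Over.w x₀
    have hconst := Groth.Agent.Lib.Helper60.RigidityGrp.eq_const_of_range_subsingleton
      (X ↘ Spec (CommRingCat.of k)) hiso x₀.left hx₀ alb.left hsub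
    have halb' : alb = toUnit _ ≫ η[A] := by
      apply Over.OverMorphism.ext
      rw [hconst]
      have := congrArg (fun φ => φ.left) halb
      show (X ↘ Spec (CommRingCat.of k)) ≫ x₀.left ≫ alb.left =
        (X ↘ Spec (CommRingCat.of k)) ≫ η[A].left
      exact congrArg (fun ψ => (X ↘ Spec (CommRingCat.of k)) ≫ ψ) this
    haveI : IsIntegral A.left := GeometricallyIntegral.isIntegral_of_subsingleton A.hom
    haveI : ConnectedSpace A.left := inferInstance
    obtain ⟨h, _, huniq⟩ := huniv A alb halb
    have e1 : 𝟙 A = h := huniq _ ⟨inferInstance, Category.comp_id _⟩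
    have e2 : toUnit A ≫ η[A] = h := by
      refine huniq _ ⟨inferInstance, ?_⟩
      rw [← Category.assoc, toUnit_unique (alb ≫ toUnit A) (toUnit _)]
      exact halb'.symm
    have e3 : 𝟙 A = toUnit A ≫ η[A] := e1.trans e2.symm
    refine ⟨η[A].left, ?_, Over.w η[A]⟩
    exact (congrArg (fun φ => φ.left) e3).symm
  · intro hiso'
    rintro p - q -
    apply A.hom.homeomorph.injective
    exact Subsingleton.elim _ _

end Groth.Agent.S14825
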