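import Groth.Statements.S14827
-- import your own Groth.Agent.* helpers here

set_option autoImplicit false
universe u
open CategoryTheory MonoidalCategory CartesianMonoidalCategory MonObj GrpObj AlgebraicGeometry
open AbVar

namespace Groth.Agent.S14827

/-- Over a field k (the published statement is over a base scheme S), let X be a proper k-scheme with
H^0(X, O_X) one-dimensional and a k-rational point x₀, and alb : X → A the Albanese morphism for the
base point x₀ (A an abelian variety — proper, geometrically integral group scheme — with alb(x₀) =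
0, universal among pointed morphisms to geometrically reduced, connected, proper group schemes). For
a second k-rational point x₁ let alb' = alb · (constant map with value alb(x₁))⁻¹, i.e. alb followed
by the translation of A by −alb(x₁). Then alb' is the Albanese morphism of X pointed by x₁: alb'(x₁)
= 0, and every k-morphism g : X → B to an abelian variety B with g(x₁) = 0 equals alb' ≫ h for a
unique homomorphism h : A → B. -/
theorem result (k : Type u) [Field k] (X : Scheme.{u}) [X.Over (Spec (CommRingCat.of k))]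
    [IsProper (X ↘ Spec (CommRingCat.of k))] (h0 : Module.finrank k (Coh.HH X (Coh.structureModule X) 0) = 1)
    (x₀ : 𝟙_ (Over (Spec (CommRingCat.of k))) ⟶ Over.mk (X ↘ Spec (CommRingCat.of k)))
    (A : Over (Spec (CommRingCat.of k))) [GrpObj A] [IsProper A.hom] [GeometricallyIntegral A.hom]
    (alb : Over.mk (X ↘ Spec (CommRingCat.of k)) ⟶ A) (halb : x₀ ≫ alb = η[A])
    (huniv : ∀ (B : Over (Spec (CommRingCat.of k))) [GrpObj B] [IsProper B.hom] [GeometricallyReduced B.hom] [ConnectedSpace ↥B.left]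
      (g : Over.mk (X ↘ Spec (CommRingCat.of k)) ⟶ B), x₀ ≫ g = η[B] → ∃! h : A ⟶ B, IsMonHom h ∧ alb ≫ h = g)
    (x₁ : 𝟙_ (Over (Spec (CommRingCat.of k))) ⟶ Over.mk (X ↘ Spec (CommRingCat.of k))) :
    x₁ ≫ (alb * (toUnit (Over.mk (X ↘ Spec (CommRingCat.of k))) ≫ x₁ ≫ alb)⁻¹) = η[A] ∧
    ∀ (B : Over (Spec (CommRingCat.of k))) [GrpObj B] [IsProper B.hom] [GeometricallyReduced B.hom] [ConnectedSpace ↥B.left]
      (g : Over.mk (X ↘ Spec (CommRingCat.of k)) ⟶ B), x₁ ≫ g = η[B] →
        ∃! h : A ⟶ B, IsMonHom h ∧ (alb * (toUnit (Over.mk (X ↘ Spec (CommRingCat.of k))) ≫ x₁ ≫ alb)⁻¹) ≫ h = g := by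
  have hu : ∀ (Z : Over (Spec (CommRingCat.of k)))
      (p : 𝟙_ (Over (Spec (CommRingCat.of k))) ⟶ Z), p ≫ toUnit Z = 𝟙 _ := fun Z p => toUnit_unique _ _
  have hη : ∀ (B : Over (Spec (CommRingCat.of k))) [GrpObj B], (η[B] : 𝟙_ _ ⟶ B) = 1 :=
    fun B _ => MonObj.one_eq_one B
  constructor
  · rw [MonObj.comp_mul, GrpObj.comp_inv, ← Category.assoc, hu, Category.id_comp, mul_inv_cancel, hη]
  · intro B _ _ _ _ g hg
    have hx₀g₀ : x₀ ≫ (g * (toUnit _ ≫ x₀ ≫ g)⁻¹) = η[B] := by
      rw [MonObj.comp_mul, GrpObj.comp_inv, ← Category.assoc, hu, Category.id_comp, mul_inv_cancel, hη]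
    obtain ⟨h, ⟨hh, hh2⟩, huniq⟩ := huniv B (g * (toUnit _ ≫ x₀ ≫ g)⁻¹) hx₀g₀
    have hx₁g₀ : x₁ ≫ (g * (toUnit _ ≫ x₀ ≫ g)⁻¹) = (x₀ ≫ g)⁻¹ := by
      rw [MonObj.comp_mul, GrpObj.comp_inv, ← Category.assoc, hu, Category.id_comp, hg, hη, _root_.one_mul]
    refine ⟨h, ⟨hh, ?_⟩, ?_⟩
    · rw [MonObj.mul_comp, GrpObj.inv_comp, Category.assoc, Category.assoc, hh2, hx₁g₀,
        GrpObj.comp_inv, _root_.inv_inv, inv_mul_cancel_right]
    · rintro h' ⟨hh', hh'2⟩
      apply huniq
      refine ⟨hh', ?_⟩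
      rw [MonObj.mul_comp, GrpObj.inv_comp, Category.assoc, Category.assoc] at hh'2
      have h1 : alb ≫ h' = g * (toUnit _ ≫ x₁ ≫ alb ≫ h') := by
        rw [← hh'2, inv_mul_cancel_right]
      have h2 : x₀ ≫ alb ≫ h' = 1 := by
        rw [← Category.assoc, halb, hη, MonObj.one_comp]
      have h3 : x₁ ≫ alb ≫ h' = (x₀ ≫ g)⁻¹ := by
        have := congrArg (fun t => x₀ ≫ t) h1
        beta_reduce at this
        rw [h2, MonObj.comp_mul, ← Category.assoc x₀, hu, Category.id_comp] at this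
        exact (eq_inv_of_mul_eq_one_right this.symm)
      rw [h1, h3, GrpObj.comp_inv]

end Groth.Agent.S14827
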