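import Groth.Statements.S1483
import Groth.Agent.Lib.Helper54.FibFT2
import Groth.Agent.Lib.Helper54.StalkEssFP
import Groth.Agent.Lib.Helper54.StalkFP
import Groth.Agent.Lib.Helper46.FibreFlat

set_option maxHeartbeats 1000000
set_option linter.style.haveILetI false

set_option autoImplicit false
universe u
open FlatMor

namespace Groth.Agent.S1483

open AlgebraicGeometry CategoryTheory Limits in
/-- Fibrewise flatness criterion (critère de platitude par fibres), pointwise equivalence for a module:
let f : X → Y and g : Y → S be morphisms of schemes with X locally of finite presentation over S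
(via g ∘ f) and Y locally of finite type over S, F a finitely presented quasi-coherent O_X-module,
and x a point of X with images y = f(x) and s = g(y) at which the stalk F_x is nonzero. The
following are equivalent: (a) F is flat over S at x and F_x / 𝔪_s F_x is flat over O_{Y,y} / 𝔪_s
O_{Y,y}; (b) the morphism g is flat at the point y and F is Y-flat at x. The published statement
also asserts that the locus of such x is open in the support of F; that is not restated here (the
companion statement for F = O_X carries it). -/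
theorem result {X Y S : Scheme.{u}} (f : X ⟶ Y) (g : Y ⟶ S) [LocallyOfFinitePresentation (f ≫ g)] [LocallyOfFiniteType g]
    (F : X.Modules) (hq : Coh.IsQCoh F) (hfp : CohB1.IsFP F) (x : X) (hx : Nontrivial ↑(F.presheaf.stalk x)) :
    letI := FlatMod.moduleStalkOver f F x
    (FlatMod.IsFlatOverAt (f ≫ g) F x ∧
      Module.Flat (↑(Y.presheaf.stalk (f x)) ⧸ Ideal.map (g.stalkMap (f x)).hom (IsLocalRing.maximalIdeal ↑(S.presheaf.stalk (g (f x)))))
        (↑(F.presheaf.stalk x) ⧸ (Ideal.map (g.stalkMap (f x)).hom (IsLocalRing.maximalIdeal ↑(S.presheaf.stalk (g (f x)))) •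
          (⊤ : Submodule ↑(Y.presheaf.stalk (f x)) ↑(F.presheaf.stalk x))))) ↔
    ((g.stalkMap (f x)).hom.Flat ∧ FlatMod.IsFlatOverAt f F x) := by
  haveI : F.IsQuasicoherent := hq
  haveI : F.IsFinitePresentation := hfp
  letI algAB : Algebra (S.presheaf.stalk (g (f x))) (Y.presheaf.stalk (f x)) :=
    (g.stalkMap (f x)).hom.toAlgebra
  letI algBC : Algebra (Y.presheaf.stalk (f x)) (X.presheaf.stalk x) :=
    (f.stalkMap x).hom.toAlgebra
  letI algAC : Algebra (S.presheaf.stalk (g (f x))) (X.presheaf.stalk x) :=
    ((f.stalkMap x).hom.comp (g.stalkMap (f x)).hom).toAlgebra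
  haveI t0 : IsScalarTower (S.presheaf.stalk (g (f x))) (Y.presheaf.stalk (f x))
      (X.presheaf.stalk x) := IsScalarTower.of_algebraMap_eq fun _ => rfl
  letI mB : Module (Y.presheaf.stalk (f x)) (F.presheaf.stalk x) := FlatMod.moduleStalkOver f F x
  letI mA : Module (S.presheaf.stalk (g (f x))) (F.presheaf.stalk x) :=
    Module.compHom _ ((f.stalkMap x).hom.comp (g.stalkMap (f x)).hom)
  haveI t1 : IsScalarTower (S.presheaf.stalk (g (f x))) (Y.presheaf.stalk (f x))
      (F.presheaf.stalk x) := IsScalarTower.of_algebraMap_smul fun _ _ => rfl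
  haveI t2 : IsScalarTower (Y.presheaf.stalk (f x)) (X.presheaf.stalk x)
      (F.presheaf.stalk x) := IsScalarTower.of_algebraMap_smul fun _ _ => rfl
  haveI t3 : IsScalarTower (S.presheaf.stalk (g (f x))) (X.presheaf.stalk x)
      (F.presheaf.stalk x) := IsScalarTower.of_algebraMap_smul fun _ _ => rfl
  haveI l1 : IsLocalHom (algebraMap (S.presheaf.stalk (g (f x))) (Y.presheaf.stalk (f x))) :=
    show IsLocalHom (g.stalkMap (f x)).hom from inferInstance
  haveI l2 : IsLocalHom (algebraMap (Y.presheaf.stalk (f x)) (X.presheaf.stalk x)) :=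
    show IsLocalHom (f.stalkMap x).hom from inferInstance
  have e : ((f ≫ g).stalkMap x).hom = (f.stalkMap x).hom.comp (g.stalkMap (f x)).hom := by
    rw [Scheme.Hom.stalkMap_comp]; rfl
  have hA : FlatMod.IsFlatOverAt (f ≫ g) F x ↔
      Module.Flat (S.presheaf.stalk (g (f x))) (F.presheaf.stalk x) := by
    unfold FlatMod.IsFlatOverAt FlatMod.moduleStalkOver
    rw [e]
    exact Iff.rfl
  haveI essB : Algebra.EssFiniteType (S.presheaf.stalk (g (f x))) (Y.presheaf.stalk (f x)) := by
    rw [← RingHom.essFiniteType_algebraMap, RingHom.algebraMap_toAlgebra]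
    exact LocallyOfFiniteType.stalkMap g (f x)
  have essC : CAlgX.IsEssFinitePresentation (S.presheaf.stalk (g (f x))) (X.presheaf.stalk x) := by
    have h0 := Groth.Agent.Lib.Helper54.StalkEssFP.stalk_isEssFinitePresentation (f ≫ g) x
    have h1 : ((f ≫ g).stalkMap x).hom.toAlgebra = algAC := congrArg RingHom.toAlgebra e
    rw [h1] at h0
    exact h0
  haveI fpM : Module.FinitePresentation (X.presheaf.stalk x) (F.presheaf.stalk x) :=
    Groth.Agent.Lib.Helper54.StalkFP.finitePresentation_stalk F x
  rw [hA]
  constructor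
  · rintro ⟨hAM, hfib⟩
    haveI := hAM
    exact Groth.Agent.Lib.Helper54.FibFT2.core_essFiniteType
      (R := S.presheaf.stalk (g (f x))) (S := Y.presheaf.stalk (f x))
      (S' := X.presheaf.stalk x) (M := F.presheaf.stalk x) essC hfib
  · rintro ⟨hAB, hBM⟩
    haveI : Module.Flat (S.presheaf.stalk (g (f x))) (Y.presheaf.stalk (f x)) := hAB
    haveI : Module.Flat (Y.presheaf.stalk (f x)) (F.presheaf.stalk x) := hBM
    refine ⟨Module.Flat.trans (S.presheaf.stalk (g (f x))) (Y.presheaf.stalk (f x))
      (F.presheaf.stalk x), ?_⟩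
    rw [Groth.Agent.Lib.Helper46.FibreFlat.flat_quot_iff]
    infer_instance

end Groth.Agent.S1483
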