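import Groth.Statements.S14830
import Groth.Agent.Lib.Helper60.RigidityGrp

set_option autoImplicit false
universe u
open CategoryTheory MonoidalCategory CartesianMonoidalCategory MonObj GrpObj AlgebraicGeometry
open AbVar

namespace Groth.Agent.S14830

/-- Let k be a field and X, Y proper, geometrically integral k-schemes with k-rational points x₀ and y₀.
Let albX : X → A and albY : Y → B be Albanese morphisms: A, B abelian varieties over k (proper,
geometrically integral group schemes), albX(x₀) = 0, albY(y₀) = 0, each universal among pointed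
k-morphisms into abelian varieties (geometrically reduced, connected, proper group schemes). Then
the product morphism albX × albY : X ×_k Y → A ×_k B is the Albanese morphism of X ×_k Y pointed at
(x₀, y₀): for every abelian variety C and every k-morphism g : X ×_k Y → C with g(x₀, y₀) = 0 there
is a unique homomorphism h : A ×_k B → C with (albX × albY) ≫ h = g. -/
theorem result (k : Type u) [Field k] (X Y : Scheme.{u}) [X.Over (Spec (CommRingCat.of k))] [Y.Over (Spec (CommRingCat.of k))]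
    [IsProper (X ↘ Spec (CommRingCat.of k))] [IsProper (Y ↘ Spec (CommRingCat.of k))]
    [GeometricallyIntegral (X ↘ Spec (CommRingCat.of k))] [GeometricallyIntegral (Y ↘ Spec (CommRingCat.of k))]
    (x₀ : 𝟙_ (Over (Spec (CommRingCat.of k))) ⟶ Over.mk (X ↘ Spec (CommRingCat.of k))) (y₀ : 𝟙_ (Over (Spec (CommRingCat.of k))) ⟶ Over.mk (Y ↘ Spec (CommRingCat.of k)))
    (A : Over (Spec (CommRingCat.of k))) [GrpObj A] [IsProper A.hom] [GeometricallyIntegral A.hom]
    (albX : Over.mk (X ↘ Spec (CommRingCat.of k)) ⟶ A) (halbX : x₀ ≫ albX = η[A])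
    (hunivA : ∀ (C : Over (Spec (CommRingCat.of k))) [GrpObj C] [IsProper C.hom] [GeometricallyReduced C.hom] [ConnectedSpace ↥C.left]
      (g : Over.mk (X ↘ Spec (CommRingCat.of k)) ⟶ C), x₀ ≫ g = η[C] → ∃! h : A ⟶ C, IsMonHom h ∧ albX ≫ h = g)
    (B : Over (Spec (CommRingCat.of k))) [GrpObj B] [IsProper B.hom] [GeometricallyIntegral B.hom]
    (albY : Over.mk (Y ↘ Spec (CommRingCat.of k)) ⟶ B) (halbY : y₀ ≫ albY = η[B])
    (hunivB : ∀ (C : Over (Spec (CommRingCat.of k))) [GrpObj C] [IsProper C.hom] [GeometricallyReduced C.hom] [ConnectedSpace ↥C.left]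
      (g : Over.mk (Y ↘ Spec (CommRingCat.of k)) ⟶ C), y₀ ≫ g = η[C] → ∃! h : B ⟶ C, IsMonHom h ∧ albY ≫ h = g)
    (C : Over (Spec (CommRingCat.of k))) [GrpObj C] [IsProper C.hom] [GeometricallyReduced C.hom] [ConnectedSpace ↥C.left]
    (g : Over.mk (X ↘ Spec (CommRingCat.of k)) ⊗ Over.mk (Y ↘ Spec (CommRingCat.of k)) ⟶ C) (hg : lift x₀ y₀ ≫ g = η[C]) :
    ∃! h : A ⊗ B ⟶ C, IsMonHom h ∧ (albX ⊗ₘ albY) ≫ h = g := by
  haveI : IsProper (Over.mk (X ↘ Spec (CommRingCat.of k))).hom :=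
    ‹IsProper (X ↘ Spec (CommRingCat.of k))›
  haveI : IsProper (Over.mk (Y ↘ Spec (CommRingCat.of k))).hom :=
    ‹IsProper (Y ↘ Spec (CommRingCat.of k))›
  haveI : GeometricallyIntegral (Over.mk (X ↘ Spec (CommRingCat.of k))).hom :=
    ‹GeometricallyIntegral (X ↘ Spec (CommRingCat.of k))›
  haveI : GeometricallyIntegral (Over.mk (Y ↘ Spec (CommRingCat.of k))).hom :=
    ‹GeometricallyIntegral (Y ↘ Spec (CommRingCat.of k))›
  haveI : IsSeparated C.hom := inferInstance
  -- Step 1: decomposition of `g`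
  have hdec := Groth.Agent.Lib.Helper60.RigidityGrp.prod_decomp k _ _ C x₀ y₀ g hg
  have hi₁ : x₀ ≫ lift (𝟙 (Over.mk (X ↘ Spec (CommRingCat.of k))))
      (toUnit (Over.mk (X ↘ Spec (CommRingCat.of k))) ≫ y₀) = lift x₀ y₀ := by
    apply CartesianMonoidalCategory.hom_ext
    · rw [Category.assoc, lift_fst, lift_fst, Category.comp_id]
    · rw [Category.assoc, lift_snd, lift_snd, ← Category.assoc,
        toUnit_unique (x₀ ≫ toUnit _) (𝟙 _), Category.id_comp]
  have hi₂ : y₀ ≫ lift (toUnit (Over.mk (Y ↘ Spec (CommRingCat.of k))) ≫ x₀)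
      (𝟙 (Over.mk (Y ↘ Spec (CommRingCat.of k)))) = lift x₀ y₀ := by
    apply CartesianMonoidalCategory.hom_ext
    · rw [Category.assoc, lift_fst, lift_fst, ← Category.assoc,
        toUnit_unique (y₀ ≫ toUnit _) (𝟙 _), Category.id_comp]
    · rw [Category.assoc, lift_snd, lift_snd, Category.comp_id]
  have hg₁ : x₀ ≫ lift (𝟙 (Over.mk (X ↘ Spec (CommRingCat.of k))))
      (toUnit (Over.mk (X ↘ Spec (CommRingCat.of k))) ≫ y₀) ≫ g = η[C] := by
    rw [reassoc_of% hi₁, hg]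
  have hg₂ : y₀ ≫ lift (toUnit (Over.mk (Y ↘ Spec (CommRingCat.of k))) ≫ x₀)
      (𝟙 (Over.mk (Y ↘ Spec (CommRingCat.of k)))) ≫ g = η[C] := by
    rw [reassoc_of% hi₂, hg]
  obtain ⟨h₁, ⟨hh₁, hh₁'⟩, hu₁⟩ := hunivA C _ hg₁
  obtain ⟨h₂, ⟨hh₂, hh₂'⟩, hu₂⟩ := hunivB C _ hg₂
  -- `A ⊗ B` is an abelian variety
  haveI : IsProper (A ⊗ B).hom := Groth.Agent.Lib.Helper60.RigidityGrp.isProper_tensor k A B
  haveI : GeometricallyIntegral (A ⊗ B).hom :=
    Groth.Agent.Lib.Helper60.RigidityGrp.geometricallyIntegral_tensor k A B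
  have hpt : η[A ⊗ B] ≫ ((fst A B ≫ h₁) * (snd A B ≫ h₂)) = η[C] := by
    rw [MonObj.comp_mul, ← Category.assoc, ← Category.assoc, IsMonHom.one_hom (fst A B),
      IsMonHom.one_hom (snd A B), IsMonHom.one_hom h₁, IsMonHom.one_hom h₂, MonObj.one_eq_one,
      _root_.mul_one]
  have hmon : IsMonHom ((fst A B ≫ h₁) * (snd A B ≫ h₂)) :=
    Groth.Agent.Lib.Helper60.RigidityGrp.isMonHom_of_pointed k (A ⊗ B) C _ hpt
  have hcomp : (albX ⊗ₘ albY) ≫ ((fst A B ≫ h₁) * (snd A B ≫ h₂)) = g := by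
    rw [MonObj.comp_mul, ← Category.assoc, tensorHom_fst, ← Category.assoc _ (snd A B),
      tensorHom_snd, Category.assoc, Category.assoc, hh₁', hh₂']
    exact hdec.symm
  refine ⟨_, ⟨hmon, hcomp⟩, ?_⟩
  rintro h' ⟨hm', hc'⟩
  have hsplit : h' = (fst A B ≫ lift (𝟙 A) (toUnit A ≫ η[B]) ≫ h') *
      (snd A B ≫ lift (toUnit B ≫ η[A]) (𝟙 B) ≫ h') := by
    have := Groth.Agent.Lib.Helper60.RigidityGrp.fst_inl_mul_snd_inr A B
    conv_lhs => rw [← Category.id_comp h', ← this, MonObj.mul_comp _ _ h']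
    simp only [Category.assoc]
  have e₁ : albX ≫ lift (𝟙 A) (toUnit A ≫ η[B]) =
      lift (𝟙 (Over.mk (X ↘ Spec (CommRingCat.of k))))
        (toUnit (Over.mk (X ↘ Spec (CommRingCat.of k))) ≫ y₀) ≫ (albX ⊗ₘ albY) := by
    apply CartesianMonoidalCategory.hom_ext
    · rw [Category.assoc, lift_fst, Category.assoc, tensorHom_fst, lift_fst_assoc,
        Category.comp_id, Category.id_comp]
    · rw [Category.assoc, lift_snd, Category.assoc, tensorHom_snd, lift_snd_assoc,
        Category.assoc, halbY, ← Category.assoc, toUnit_unique (albX ≫ toUnit A) (toUnit _)]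
  have e₂ : albY ≫ lift (toUnit B ≫ η[A]) (𝟙 B) =
      lift (toUnit (Over.mk (Y ↘ Spec (CommRingCat.of k))) ≫ x₀)
        (𝟙 (Over.mk (Y ↘ Spec (CommRingCat.of k)))) ≫ (albX ⊗ₘ albY) := by
    apply CartesianMonoidalCategory.hom_ext
    · rw [Category.assoc, lift_fst, Category.assoc, tensorHom_fst, lift_fst_assoc,
        Category.assoc, halbX, ← Category.assoc, toUnit_unique (albY ≫ toUnit B) (toUnit _)]
    · rw [Category.assoc, lift_snd, Category.assoc, tensorHom_snd, lift_snd_assoc,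
        Category.comp_id, Category.id_comp]
  have r₁ : lift (𝟙 A) (toUnit A ≫ η[B]) ≫ h' = h₁ := by
    apply hu₁
    refine ⟨inferInstance, ?_⟩
    rw [reassoc_of% e₁, hc']
  have r₂ : lift (toUnit B ≫ η[A]) (𝟙 B) ≫ h' = h₂ := by
    apply hu₂
    refine ⟨inferInstance, ?_⟩
    rw [reassoc_of% e₂, hc']
  rw [hsplit, r₁, r₂]

end Groth.Agent.S14830
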