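import Groth.Statements.S1484
import Mathlib.FieldTheory.AlgebraicClosure
import Mathlib.RingTheory.Ideal.Operations

set_option autoImplicit false
universe u
open FlatMor

namespace Groth.Agent.S1484

/-- Let R be a ring, p_1, …, p_r primes of R none of which is contained in another, k_i ⊆ κ(p_i)
subfields over which κ(p_i) is not algebraic, and J an ideal of R contained in none of the p_i. Then
some x ∈ J has image in κ(p_i) transcendental over k_i for every i. -/
theorem result {R : Type u} [CommRing R] {r : ℕ} (p : Fin r → Ideal R) [∀ i, (p i).IsPrime]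
    (hp : ∀ i j, i ≠ j → ¬ p i ≤ p j) (k : ∀ i, Subfield (p i).ResidueField)
    (hk : ∀ i, ¬ Algebra.IsAlgebraic ↥(k i) (p i).ResidueField) (J : Ideal R) (hJ : ∀ i, ¬ J ≤ p i) :
    ∃ x ∈ J, ∀ i, Transcendental ↥(k i) (algebraMap R (p i).ResidueField x) := by
  classical
  have he : ∀ i, ∃ e ∈ J, (∀ j, j ≠ i → e ∈ p j) ∧ e ∉ p i := by
    intro i
    have hpi : (p i).IsPrime := inferInstance
    have h1 : ¬ (J * ∏ j ∈ Finset.univ.erase i, p j) ≤ p i := by
      rw [hpi.mul_le]
      push Not
      refine ⟨hJ i, ?_⟩
      rw [hpi.prod_le]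
      push Not
      intro j hj
      exact hp j i (Finset.ne_of_mem_erase hj)
    obtain ⟨e, he1, he2⟩ := SetLike.not_le_iff_exists.mp h1
    refine ⟨e, Ideal.mul_le_left he1, ?_, he2⟩
    intro j hj
    have h2 : e ∈ ∏ j ∈ Finset.univ.erase i, p j := Ideal.mul_le_right he1
    exact (Ideal.prod_le_inf.trans (Finset.inf_le (Finset.mem_erase.mpr ⟨hj, Finset.mem_univ _⟩))) h2
  choose e heJ hej hei using he
  have hy : ∀ i, ∃ y : R, Transcendental (k i) (algebraMap R (p i).ResidueField (e i * y)) := by
    intro i
    by_contra hcon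
    push Not at hcon
    apply hk i
    have hcon' : ∀ y : R, algebraMap R (p i).ResidueField (e i * y) ∈
        algebraicClosure (k i) (p i).ResidueField := by
      intro y
      rw [mem_algebraicClosure_iff]
      have := hcon y
      rwa [Transcendental, not_not] at this
    have he0 : algebraMap R (p i).ResidueField (e i) ≠ 0 := by
      rw [Ne, Ideal.algebraMap_residueField_eq_zero]
      exact hei i
    have heL : algebraMap R (p i).ResidueField (e i) ∈ algebraicClosure (k i) (p i).ResidueField := by
      simpa using hcon' 1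
    have hyL : ∀ y : R, algebraMap R (p i).ResidueField y ∈
        algebraicClosure (k i) (p i).ResidueField := by
      intro y
      have h3 := div_mem (hcon' y) heL
      rwa [map_mul, mul_div_cancel_left₀ _ he0] at h3
    refine ⟨fun z => ?_⟩
    rw [← mem_algebraicClosure_iff]
    obtain ⟨a, b, -, rfl⟩ := IsFractionRing.div_surjective (A := R ⧸ p i) z
    obtain ⟨a, rfl⟩ := Ideal.Quotient.mk_surjective a
    obtain ⟨b, rfl⟩ := Ideal.Quotient.mk_surjective b
    rw [Ideal.algebraMap_quotient_residueField_mk, Ideal.algebraMap_quotient_residueField_mk]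
    exact div_mem (hyL a) (hyL b)
  choose y hy using hy
  refine ⟨∑ i, e i * y i, J.sum_mem (fun i _ => J.mul_mem_right _ (heJ i)), fun i => ?_⟩
  have h4 : algebraMap R (p i).ResidueField (∑ j, e j * y j) =
      algebraMap R (p i).ResidueField (e i * y i) := by
    rw [map_sum, Finset.sum_eq_single i]
    · intro j _ hji
      have : e j * y j ∈ p i := (p i).mul_mem_right _ (hej j i hji.symm)
      exact Ideal.algebraMap_residueField_eq_zero.mpr this
    · simp
  rw [h4]
  exact hy i

end Groth.Agent.S1484
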