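import Groth.Statements.S14840
import Groth.Agent.Lib.Helper16.FixFinite
import Groth.Agent.Lib.Helper16.FixLocal

set_option autoImplicit false
open CategoryTheory MonoidalCategory CartesianMonoidalCategory AlgebraicGeometry
universe u
open AlgGrp

namespace Groth.Agent.S14840

/-- Let G be a group scheme over a scheme S, affine over S and with structure sheaf locally free over
O_S (each point of S has an affine open neighbourhood U such that the sections of O_G over the
preimage of U form a free module over the sections of O_S over U), acting on an S-scheme Y which is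
separated over S. Then the subfunctor of G-fixed points of Y is a closed subfunctor: there are an
S-scheme Z and a closed immersion i : Z → Y over S such that a T-valued point y of Y factors through
i exactly when it is fixed, i.e. g · y = y for every S-scheme T' over T and every T'-valued point g
of G. -/
theorem result
    {S : Scheme.{u}} (G Y : Over S) [GrpObj G] (a : AlgGrp.Action G Y)
    [IsAffineHom G.hom] [IsSeparated Y.hom]
    (hfree : ∀ s : S, ∃ U : S.affineOpens, s ∈ (U : S.Opens) ∧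
      @Module.Free Γ(S, U) Γ(G.left, G.hom ⁻¹ᵁ U) _ _ (G.hom.app U).hom.toAlgebra.toModule) :
    ∃ (Z : Over S) (i : Z ⟶ Y), IsClosedImmersion i.left ∧
      ∀ (T : Over S) (y : T ⟶ Y),
        (∀ (T' : Over S) (t : T' ⟶ T) (g : T' ⟶ G), lift g (t ≫ y) ≫ a.act = t ≫ y) ↔
          ∃ z : T ⟶ Z, z ≫ i = y := by
  haveI : IsClosedImmersion (Limits.equalizer.ι a.act (snd G Y)).left := inferInstance
  have hpb : IsPullback (fst G Y).left (snd G Y).left G.hom Y.hom :=
    IsPullback.of_hasPullback G.hom Y.hom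
  haveI : IsAffineHom (snd G Y).left :=
    MorphismProperty.of_isPullback (P := @IsAffineHom) hpb (inferInstance : IsAffineHom G.hom)
  let small : Y.left.affineOpens → Prop := fun W => ∃ U : S.affineOpens,
    W.1 ≤ Y.hom ⁻¹ᵁ U.1 ∧
      @Module.Free Γ(S, U) Γ(G.left, G.hom ⁻¹ᵁ U) _ _ (G.hom.app U).hom.toAlgebra.toModule
  have hc : ∀ V : Y.left.affineOpens,
      Lib.Helper16.RingCoeff.HasCoeff ((snd G Y).left.app V.1) := by
    refine Lib.Helper16.FixLocal.hasCoeff_of_basis (snd G Y).left small ?_ ?_ ?_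
    · intro x V hx
      obtain ⟨U, hsU, hU⟩ := hfree (Y.hom.base x)
      have hx' : x ∈ V ⊓ Y.hom ⁻¹ᵁ U.1 := ⟨hx, hsU⟩
      obtain ⟨_, ⟨W, hW, rfl⟩, hxW, hWV⟩ :=
        Y.left.isBasis_affineOpens.exists_subset_of_mem_open hx' (V ⊓ Y.hom ⁻¹ᵁ U.1).isOpen
      exact ⟨⟨W, hW⟩, ⟨U, fun y hy => (hWV hy).2, hU⟩, hxW, fun y hy => (hWV hy).1⟩
    · rintro W W' ⟨U, hWU, hU⟩ hle
      exact ⟨U, hle.trans hWU, hU⟩
    · rintro W ⟨U, hWU, hU⟩
      have hUY : (snd G Y).left ⁻¹ᵁ W.1 =
          (fst G Y).left ⁻¹ᵁ (G.hom ⁻¹ᵁ U.1) ⊓ (snd G Y).left ⁻¹ᵁ W.1 := by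
        refine (inf_eq_right.2 ?_).symm
        rw [← Scheme.Hom.comp_preimage, hpb.w, Scheme.Hom.comp_preimage]
        exact (snd G Y).left.preimage_mono hWU
      have hiso := isIso_pushoutSection_of_isAffineOpen hpb (US := U.1) (UT := W.1)
        (UX := G.hom ⁻¹ᵁ U.1) hWU le_rfl hUY U.2 W.2 (U.2.preimage G.hom)
      have hpo := (isIso_pushoutSection_iff hpb hWU le_rfl hUY).1 hiso
      rw [← Scheme.Hom.app_eq_appLE, ← Scheme.Hom.app_eq_appLE] at hpo
      apply Lib.Helper16.RingCoeff.hasCoeff_of_projective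
      letI := (G.hom.app U.1).hom.toAlgebra
      letI := (Y.hom.appLE U.1 W.1 hWU).hom.toAlgebra
      letI := ((snd G Y).left.app W.1).hom.toAlgebra
      haveI : Module.Free Γ(S, U.1) Γ(G.left, G.hom ⁻¹ᵁ U.1) := hU
      exact Lib.Helper16.RingCoeffDescent.projective_of_isPushout (K := Γ(S, U.1))
        (A0 := Γ(G.left, G.hom ⁻¹ᵁ U.1)) (R := Γ(Y.left, W.1))
        (B := Γ((G ⊗ Y).left, (snd G Y).left ⁻¹ᵁ W.1)) _ hpo
  obtain ⟨Z, i, hi, hZ⟩ := Lib.Helper16.FixApp.exists_closed_of_equalizer a.act (snd G Y) hc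
  refine ⟨Z, i, hi, ?_⟩
  intro T y
  rw [hZ y]
  constructor
  · intro h X' x g
    rw [h X' x g, lift_snd]
  · intro h X' x g
    rw [h X' x g, lift_snd]

end Groth.Agent.S14840
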