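import Groth.Statements.S14842
import Groth.Agent.Lib.Helper75.ComodSimple

set_option autoImplicit false
universe u v
open HopfRep

namespace Groth.Agent.S14842

open Groth.Agent.Lib.Helper75
attribute [local instance] comodModule

open TensorProduct in
/-- Over a field K, every simple subcoalgebra D of a coalgebra C is the coefficient space of a simple
comodule. Precisely: there is a subspace E of C contained in D which is a simple subcomodule of the
regular right comodule C (E is nonzero, stable under the coaction, and its only subcomodules are 0
and E) and such that D is the least subspace D' of C with comul(E) inside the image of E ⊗ D'. Here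
a subcoalgebra of C is a subspace B whose comultiplication lands in the image of B ⊗ B, and a simple
subcoalgebra is a nonzero subcoalgebra D whose only subcoalgebras contained in D are 0 and D.
(Stated for right comodules; the published statement is for left comodules.) -/
theorem result {K : Type u} {C : Type v} [Field K]
    [AddCommGroup C] [Module K C] [Coalgebra K C]
    (D : Submodule K C) (hD0 : D ≠ ⊥) (hD : (∀ b ∈ D, CoalgebraStruct.comul (R := K) b ∈ LinearMap.range (TensorProduct.map D.subtype D.subtype)))
    (hDs : ∀ B : Submodule K C, B ≤ D → (∀ b ∈ B, CoalgebraStruct.comul (R := K) b ∈ LinearMap.range (TensorProduct.map B.subtype B.subtype)) → B = ⊥ ∨ B = D) :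
    ∃ E : Submodule K C, E ≤ D ∧ E ≠ ⊥ ∧ HopfRep.IsSubcomod (k := K) (A := C) E ∧
      (∀ E' : Submodule K C, E' ≤ E → HopfRep.IsSubcomod (k := K) (A := C) E' → E' = ⊥ ∨ E' = E) ∧
      IsLeast {D' : Submodule K C |
        ∀ e ∈ E, CoalgebraStruct.comul (R := K) e ∈ LinearMap.range (TensorProduct.map E.subtype D'.subtype)} D := by
  have hDsub : IsSubcoalg D := hD
  have hDR0 : toDualSubmodule D hDsub.isSubcomod ≠ ⊥ := by
    intro h
    apply hD0
    rw [← toDualSubmodule_restrictScalars D hDsub.isSubcomod, h, Submodule.restrictScalars_bot]
  obtain ⟨N, hND, hNs⟩ := exists_simple_le (toDualSubmodule D hDsub.isSubcomod) hDR0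
  have hNnt : Nontrivial N := IsSimpleModule.nontrivial (DualAlg K C) N
  have hN0 : N ≠ ⊥ := Submodule.nontrivial_iff_ne_bot.1 hNnt
  have hED : N.restrictScalars K ≤ D := fun x hx => hND hx
  have hE0 : N.restrictScalars K ≠ ⊥ := by
    intro h
    apply hN0
    apply Submodule.restrictScalars_injective K
    rw [h, Submodule.restrictScalars_bot]
  have hEsub : HopfRep.IsSubcomod (k := K) (A := C) (N.restrictScalars K) := isSubcomod_restrictScalars N
  refine ⟨N.restrictScalars K, hED, hE0, hEsub, ?_, ?_, ?_⟩
  · intro E' hE'E hE'
    have hatom := isSimpleModule_iff_isAtom.mp hNs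
    have hle : toDualSubmodule E' hE' ≤ N := fun x hx => hE'E hx
    rcases hatom.le_iff.mp hle with h | h
    · left
      rw [← toDualSubmodule_restrictScalars E' hE', h, Submodule.restrictScalars_bot]
    · right
      rw [← toDualSubmodule_restrictScalars E' hE', h]
  · intro e he
    rw [mem_range_map_iff]
    constructor
    · intro f
      exact (isSubcomod_iff _).1 hEsub f e he
    · intro φ
      exact ((isSubcoalg_iff D).1 hDsub).2 φ e (hED he)
  · intro D' hD'
    have h1 : coeffSpace C (N.restrictScalars K) ≤ D' := by
      apply Submodule.span_le.2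
      rintro _ ⟨φ, e, he, rfl⟩
      exact ((mem_range_map_iff _ D' _).1 (hD' e he)).2 φ
    have h2 : coeffSpace C (N.restrictScalars K) ≤ D :=
      (coeffSpace_mono hED).trans hDsub.coeffSpace_le
    have h3 : IsSubcoalg (coeffSpace C (N.restrictScalars K)) := isSubcoalg_coeffSpace _ hEsub
    have h4 : coeffSpace C (N.restrictScalars K) ≠ ⊥ := by
      intro h
      apply hE0
      exact le_bot_iff.mp (h ▸ le_coeffSpace_regular (N.restrictScalars K))
    rcases hDs _ h2 h3 with h | h
    · exact absurd h h4
    · rw [← h]; exact h1

end Groth.Agent.S14842
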