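import Groth.Statements.S14846
import Groth.Agent.Lib.Helper75.GaloisDescentSub

set_option autoImplicit false
universe u v w
open Brauer

namespace Groth.Agent.S14846

section Aux

open TensorProduct Groth.Agent.Lib.Helper75

variable {K : Type u} {L : Type v} [Field K] [Field L] [Algebra K L]
variable {A : Type w} [Ring A] [Algebra K A]

/-- the action of a `K`-automorphism of `L` on `L ⊗[K] A` -/
noncomputable def sig (γ : L ≃ₐ[K] L) : L ⊗[K] A →ₐ[K] L ⊗[K] A :=
  Algebra.TensorProduct.map (γ : L →ₐ[K] L) (AlgHom.id K A)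

@[simp] theorem sig_tmul (γ : L ≃ₐ[K] L) (l : L) (a : A) :
    sig γ (l ⊗ₜ[K] a) = γ l ⊗ₜ[K] a := rfl

theorem sig_eq_galAct (γ : L ≃ₐ[K] L) (x : L ⊗[K] A) : sig γ x = galAct γ x := by
  induction x using TensorProduct.induction_on with
  | zero => simp
  | tmul l a => rfl
  | add x y hx hy => rw [map_add, map_add, hx, hy]

theorem sig_sig (γ δ : L ≃ₐ[K] L) (x : L ⊗[K] A) : sig γ (sig δ x) = sig (γ * δ) x := by
  induction x using TensorProduct.induction_on with
  | zero => simp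
  | tmul l a => rfl
  | add x y hx hy => rw [map_add, map_add, map_add, hx, hy]

theorem sig_one (x : L ⊗[K] A) : sig (1 : L ≃ₐ[K] L) x = x := by
  induction x using TensorProduct.induction_on with
  | zero => simp
  | tmul l a => rfl
  | add x y hx hy => rw [map_add, hx, hy]

theorem sig_inv_sig (γ : L ≃ₐ[K] L) (x : L ⊗[K] A) : sig γ⁻¹ (sig γ x) = x := by
  rw [sig_sig, inv_mul_cancel, sig_one]

theorem sig_sig_inv (γ : L ≃ₐ[K] L) (x : L ⊗[K] A) : sig γ (sig γ⁻¹ x) = x := by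
  rw [sig_sig, mul_inv_cancel, sig_one]

/-- the translate `γ(I)` of a two-sided ideal -/
noncomputable def tr (γ : L ≃ₐ[K] L) (I : TwoSidedIdeal (L ⊗[K] A)) : TwoSidedIdeal (L ⊗[K] A) :=
  I.comap (sig (A := A) γ⁻¹)

theorem mem_tr (γ : L ≃ₐ[K] L) (I : TwoSidedIdeal (L ⊗[K] A)) (x : L ⊗[K] A) :
    x ∈ tr γ I ↔ sig γ⁻¹ x ∈ I := TwoSidedIdeal.mem_comap _

theorem coe_tr (γ : L ≃ₐ[K] L) (I : TwoSidedIdeal (L ⊗[K] A)) :
    (tr γ I : Set (L ⊗[K] A)) = sig γ '' (I : Set (L ⊗[K] A)) := by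
  ext x
  constructor
  · intro hx
    exact ⟨sig γ⁻¹ x, (mem_tr γ I x).1 hx, sig_sig_inv γ x⟩
  · rintro ⟨y, hy, rfl⟩
    show sig γ y ∈ tr γ I
    rw [mem_tr, sig_inv_sig]
    exact hy

/-- the translate as an `L`-subspace -/
noncomputable def trL (γ : L ≃ₐ[K] L) (I : TwoSidedIdeal (L ⊗[K] A)) : Submodule L (L ⊗[K] A) :=
  (TwoSidedIdeal.asIdeal (tr γ I)).restrictScalars L

theorem mem_trL (γ : L ≃ₐ[K] L) (I : TwoSidedIdeal (L ⊗[K] A)) (x : L ⊗[K] A) :
    x ∈ trL γ I ↔ x ∈ tr γ I := by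
  rw [trL, Submodule.restrictScalars_mem, TwoSidedIdeal.mem_asIdeal]

/-- the sum of all translates -/
noncomputable def sumTr (I : TwoSidedIdeal (L ⊗[K] A)) : Submodule L (L ⊗[K] A) :=
  ⨆ γ : L ≃ₐ[K] L, trL γ I

theorem mul_mem_sumTr (I : TwoSidedIdeal (L ⊗[K] A)) (b : L ⊗[K] A) {x : L ⊗[K] A}
    (hx : x ∈ sumTr I) : b * x ∈ sumTr I := by
  induction hx using Submodule.iSup_induction' with
  | mem γ x hx =>
    refine Submodule.mem_iSup_of_mem γ ?_
    rw [mem_trL] at hx ⊢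
    exact TwoSidedIdeal.mul_mem_left _ _ _ hx
  | zero => rw [mul_zero]; exact Submodule.zero_mem _
  | add x y _ _ hx hy => rw [mul_add]; exact Submodule.add_mem _ hx hy

theorem mem_sumTr_mul (I : TwoSidedIdeal (L ⊗[K] A)) (b : L ⊗[K] A) {x : L ⊗[K] A}
    (hx : x ∈ sumTr I) : x * b ∈ sumTr I := by
  induction hx using Submodule.iSup_induction' with
  | mem γ x hx =>
    refine Submodule.mem_iSup_of_mem γ ?_
    rw [mem_trL] at hx ⊢
    exact TwoSidedIdeal.mul_mem_right _ _ _ hx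
  | zero => rw [zero_mul]; exact Submodule.zero_mem _
  | add x y _ _ hx hy => rw [add_mul]; exact Submodule.add_mem _ hx hy

theorem sig_mem_sumTr (I : TwoSidedIdeal (L ⊗[K] A)) (δ : L ≃ₐ[K] L) {x : L ⊗[K] A}
    (hx : x ∈ sumTr I) : sig δ x ∈ sumTr I := by
  induction hx using Submodule.iSup_induction' with
  | mem γ x hx =>
    refine Submodule.mem_iSup_of_mem (δ * γ) ?_
    rw [mem_trL, mem_tr] at hx ⊢
    rw [mul_inv_rev, ← sig_sig, sig_inv_sig]
    exact hx
  | zero => rw [map_zero]; exact Submodule.zero_mem _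
  | add x y _ _ hx hy => rw [map_add]; exact Submodule.add_mem _ hx hy

end Aux

open TensorProduct in
/-- Let L/K be a Galois extension with group Γ = Aut_K(L), and A a K-algebra which is a simple ring. If
L ⊗_K A is semisimple, then Γ, acting on L ⊗_K A through the first tensor factor, permutes its
simple components, i.e. its minimal nonzero two-sided ideals, transitively: any minimal two-sided
ideal is carried onto any other by some γ ⊗ id. -/
theorem result
    {K : Type u} {L : Type v} [Field K] [Field L] [Algebra K L] [IsGalois K L]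
    {A : Type w} [Ring A] [Algebra K A] [IsSimpleRing A]
    [IsSemisimpleRing (L ⊗[K] A)]
    (I J : TwoSidedIdeal (L ⊗[K] A)) (hI : IsAtom I) (hJ : IsAtom J) :
    ∃ γ : L ≃ₐ[K] L, (J : Set (L ⊗[K] A)) =
      Algebra.TensorProduct.map (γ : L →ₐ[K] L) (AlgHom.id K A) '' (I : Set (L ⊗[K] A)) := by
  classical
  open Groth.Agent.Lib.Helper75 in
  -- the sum of all translates of `I`
  have hIne : I ≠ ⊥ := hI.1
  have hSne : sumTr I ≠ ⊥ := by
    intro hbot
    apply hIne
    rw [eq_bot_iff]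
    intro x hx
    have : x ∈ sumTr I := by
      refine Submodule.mem_iSup_of_mem (1 : L ≃ₐ[K] L) ?_
      rw [mem_trL, mem_tr, inv_one, sig_one]
      exact hx
    rw [hbot, Submodule.mem_bot] at this
    rw [this]
    exact TwoSidedIdeal.zero_mem _
  obtain ⟨a, ha0, haS⟩ := exists_one_tmul_mem_of_galois_stable (sumTr I) hSne
    (fun γ x hx => by rw [← sig_eq_galAct]; exact sig_mem_sumTr I γ hx)
  -- the ideal of `A` of those `a` with `1 ⊗ a` in the sum
  let 𝔞 : TwoSidedIdeal A := TwoSidedIdeal.mk' {a : A | (1 : L) ⊗ₜ[K] a ∈ sumTr I}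
    (by simp)
    (fun {x y} hx hy => by
      simp only [Set.mem_ofPred_eq] at hx hy ⊢
      rw [TensorProduct.tmul_add]
      exact Submodule.add_mem _ hx hy)
    (fun {x} hx => by
      simp only [Set.mem_ofPred_eq] at hx ⊢
      rw [TensorProduct.tmul_neg]
      exact Submodule.neg_mem _ hx)
    (fun {x y} hy => by
      simp only [Set.mem_ofPred_eq] at hy ⊢
      have : (1 : L) ⊗ₜ[K] (x * y) = ((1 : L) ⊗ₜ[K] x) * ((1 : L) ⊗ₜ[K] y) := by
        rw [Algebra.TensorProduct.tmul_mul_tmul, one_mul]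
      rw [this]
      exact mul_mem_sumTr I _ hy)
    (fun {x y} hx => by
      simp only [Set.mem_ofPred_eq] at hx ⊢
      have : (1 : L) ⊗ₜ[K] (x * y) = ((1 : L) ⊗ₜ[K] x) * ((1 : L) ⊗ₜ[K] y) := by
        rw [Algebra.TensorProduct.tmul_mul_tmul, one_mul]
      rw [this]
      exact mem_sumTr_mul I _ hx)
  have h𝔞 : 𝔞 = ⊤ := by
    rcases eq_bot_or_eq_top 𝔞 with h | h
    · exfalso
      have : a ∈ 𝔞 := (TwoSidedIdeal.mem_mk' _ _ _ _ _ _ _).2 haS
      rw [h, TwoSidedIdeal.mem_bot] at this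
      exact ha0 this
    · exact h
  have hone : (1 : L ⊗[K] A) ∈ sumTr I := by
    have h1 : (1 : A) ∈ 𝔞 := by rw [h𝔞]; trivial
    have h2 : (1 : L) ⊗ₜ[K] (1 : A) ∈ sumTr I :=
      (TwoSidedIdeal.mem_mk' {a : A | (1 : L) ⊗ₜ[K] a ∈ sumTr I} _ _ _ _ _ _).1 h1
    exact h2
  -- a nonzero element of `J`
  have hJne : J ≠ ⊥ := hJ.1
  obtain ⟨j, hjJ, hj0⟩ : ∃ j ∈ J, j ≠ 0 := by
    by_contra hcon
    push Not at hcon
    apply hJne
    rw [eq_bot_iff]
    intro x hx
    rw [hcon x hx]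
    exact TwoSidedIdeal.zero_mem _
  -- some translate of `I` meets `J`
  have key : ∀ s ∈ sumTr I, j * s ≠ 0 → ∃ γ : L ≃ₐ[K] L, ∃ x ∈ tr γ I, j * x ≠ 0 := by
    intro s hs
    induction hs using Submodule.iSup_induction' with
    | mem γ x hx =>
      intro h
      exact ⟨γ, x, (mem_trL γ I x).1 hx, h⟩
    | zero =>
      intro h
      rw [mul_zero] at h
      exact absurd rfl h
    | add x y _ _ hx hy =>
      intro h
      by_cases hx0 : j * x = 0
      · apply hy
        rwa [mul_add, hx0, zero_add] at h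
      · exact hx hx0
  obtain ⟨γ, x, hxI, hjx⟩ := key 1 hone (by rwa [mul_one])
  refine ⟨γ, ?_⟩
  rw [show (Algebra.TensorProduct.map (γ : L →ₐ[K] L) (AlgHom.id K A)) = sig γ from rfl, ← coe_tr]
  -- `J ⊓ γ(I)` is nonzero, hence equals `J`
  have hmeet : J ⊓ tr γ I ≠ ⊥ := by
    intro hbot
    have : j * x ∈ J ⊓ tr γ I := by
      rw [TwoSidedIdeal.mem_inf]
      exact ⟨TwoSidedIdeal.mul_mem_right _ _ _ hjJ, TwoSidedIdeal.mul_mem_left _ _ _ hxI⟩
    rw [hbot, TwoSidedIdeal.mem_bot] at this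
    exact hjx this
  have hJle : J ≤ tr γ I := by
    have h1 : J ⊓ tr γ I ≤ J := inf_le_left
    rcases hJ.le_iff.1 h1 with h | h
    · exact absurd h hmeet
    · rw [← h]
      exact inf_le_right
  -- pull back to `I`
  have hback : tr γ⁻¹ J ≤ I := by
    intro y hy
    rw [mem_tr, inv_inv] at hy
    have := hJle hy
    rw [mem_tr, sig_inv_sig] at this
    exact this
  have hbackne : tr γ⁻¹ J ≠ ⊥ := by
    intro hbot
    have : sig γ⁻¹ j ∈ tr γ⁻¹ J := by
      rw [mem_tr, inv_inv, sig_sig_inv]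
      exact hjJ
    rw [hbot, TwoSidedIdeal.mem_bot] at this
    apply hj0
    have h2 := congrArg (sig γ) this
    rwa [sig_sig_inv, map_zero] at h2
  have hbackeq : tr γ⁻¹ J = I := by
    rcases hI.le_iff.1 hback with h | h
    · exact absurd h hbackne
    · exact h
  ext z
  constructor
  · intro hz
    exact hJle hz
  · intro hz
    have hz' : z ∈ tr γ I := hz
    rw [mem_tr, ← hbackeq, mem_tr, inv_inv, sig_sig_inv] at hz'
    exact hz'

end Groth.Agent.S14846
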