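import Groth.Statements.S14848
import Mathlib

set_option autoImplicit false
universe u v
open McKay

namespace Groth.Agent.S14848

open Matrix

/-- the companion matrix -/
def comp {K : Type u} [Field K] (c : K) : Matrix (Fin 2) (Fin 2) K := !![0, -1; 1, 2 * c]

theorem det_comp {K : Type u} [Field K] (c : K) : (comp c).det = 1 := by
  simp [comp, Matrix.det_fin_two]

/-- eigenvector matrix -/
def P {L : Type v} [Field L] (ξ : L) : Matrix (Fin 2) (Fin 2) L := !![1, 1; -ξ, -ξ⁻¹]

def Dg {L : Type v} [Field L] (ξ : L) : Matrix (Fin 2) (Fin 2) L := !![ξ, 0; 0, ξ⁻¹]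

theorem comp_mul_P {L : Type v} [Field L] (ξ : L) (hξ : ξ ≠ 0) (c : L) (hc : 2 * c = ξ + ξ⁻¹) :
    comp c * P ξ = P ξ * Dg ξ := by
  ext i j
  fin_cases i <;> fin_cases j <;> simp [comp, P, Dg, Matrix.mul_apply, Fin.sum_univ_two, hc] <;> field_simp <;> ring

theorem comp_pow_mul_P {L : Type v} [Field L] (ξ : L) (hξ : ξ ≠ 0) (c : L) (hc : 2 * c = ξ + ξ⁻¹) (k : ℕ) :
    comp c ^ k * P ξ = P ξ * Dg ξ ^ k := by
  induction k with
  | zero => simp
  | succ k ih =>
    rw [pow_succ, Matrix.mul_assoc, comp_mul_P ξ hξ c hc, ← Matrix.mul_assoc, ih, Matrix.mul_assoc, ← pow_succ]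

theorem Dg_pow {L : Type v} [Field L] (ξ : L) (k : ℕ) : Dg ξ ^ k = !![ξ ^ k, 0; 0, (ξ⁻¹) ^ k] := by
  induction k with
  | zero => ext i j; fin_cases i <;> fin_cases j <;> simp [Matrix.one_apply]
  | succ k ih =>
    rw [pow_succ, ih]
    ext i j
    fin_cases i <;> fin_cases j <;> simp [Dg, Matrix.mul_apply, Fin.sum_univ_two, pow_succ]
theorem pow_eq_one_iff {L : Type v} [Field L] (ξ : L) (hξ : ξ ≠ 0) (hξ2 : ξ ^ 2 ≠ 1) (c : L)
    (hc : 2 * c = ξ + ξ⁻¹) (k : ℕ) :
    comp c ^ k = 1 ↔ ξ ^ k = 1 := by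
  have hdet : IsUnit (P ξ).det := by
    rw [isUnit_iff_ne_zero]
    simp only [P, Matrix.det_fin_two_of]
    intro h
    apply hξ2
    field_simp at h
    linear_combination h
  have h1 : (P ξ)⁻¹ * P ξ = 1 := Matrix.nonsing_inv_mul _ hdet
  have h2 : P ξ * (P ξ)⁻¹ = 1 := Matrix.mul_nonsing_inv _ hdet
  have key := comp_pow_mul_P ξ hξ c hc k
  rw [Dg_pow] at key
  constructor
  · intro h
    rw [h, Matrix.one_mul] at key
    have : (1 : Matrix (Fin 2) (Fin 2) L) = !![ξ ^ k, 0; 0, (ξ⁻¹) ^ k] := by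
      calc (1 : Matrix (Fin 2) (Fin 2) L) = (P ξ)⁻¹ * P ξ := h1.symm
        _ = (P ξ)⁻¹ * (P ξ * !![ξ ^ k, 0; 0, (ξ⁻¹) ^ k]) := by rw [← key]
        _ = _ := by rw [← Matrix.mul_assoc, h1, Matrix.one_mul]
    have := congrFun (congrFun this 0) 0
    simpa using this.symm
  · intro h
    have hD : !![ξ ^ k, 0; 0, (ξ⁻¹) ^ k] = (1 : Matrix (Fin 2) (Fin 2) L) := by
      ext i j
      fin_cases i <;> fin_cases j <;> simp [h, inv_pow]
    rw [hD, Matrix.mul_one] at key
    calc comp c ^ k = comp c ^ k * (P ξ * (P ξ)⁻¹) := by rw [h2, Matrix.mul_one]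
      _ = (comp c ^ k * P ξ) * (P ξ)⁻¹ := by rw [Matrix.mul_assoc]
      _ = 1 := by rw [key, h2]

theorem map_comp {K : Type u} {L : Type v} [Field K] [Field L] [Algebra K L] (c : K) :
    (algebraMap K L).mapMatrix (comp c) = comp (algebraMap K L c) := by
  ext i j
  fin_cases i <;> fin_cases j <;> simp [comp, map_ofNat]

/-- the companion matrix in SL2 -/
def compSL {K : Type u} [Field K] (c : K) : Matrix.SpecialLinearGroup (Fin 2) K := ⟨comp c, det_comp c⟩


/-- Let K be a field of characteristic zero, L an extension field of K and ξ ∈ L a primitive n-th root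
of unity (n ≥ 1) with ξ + ξ⁻¹ ∈ K, say ξ + ξ⁻¹ = 2c with c ∈ K (the character of the natural
two-dimensional representation of the cyclic group of order n takes values in K). Then the cyclic
group of order n is realisable over K as a subgroup of SL(2, K): there is an element of SL(2, K) of
order n. -/
theorem result {K : Type u} {L : Type v} [Field K] [Field L]
    [CharZero K] [Algebra K L] (n : ℕ) (hn : 1 ≤ n) (ξ : L) (hξ : IsPrimitiveRoot ξ n) (c : K)
    (hc : algebraMap K L (2 * c) = ξ + ξ⁻¹) :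
    ∃ M : Matrix.SpecialLinearGroup (Fin 2) K, orderOf M = n := by
  rcases Nat.lt_or_ge n 3 with h3 | h3
  · interval_cases n
    · exact ⟨1, orderOf_one⟩
    · refine ⟨-1, ?_⟩
      have : Fact (Nat.Prime 2) := ⟨Nat.prime_two⟩
      apply orderOf_eq_prime
      · ext i j
        fin_cases i <;> fin_cases j <;> simp [pow_two]
      · intro h
        have := congrArg (fun M : Matrix.SpecialLinearGroup (Fin 2) K => (M : Matrix (Fin 2) (Fin 2) K) 0 0) h
        simp at this
        have h2 : (2 : K) = 0 := by linear_combination -this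
        exact two_ne_zero h2
  · have hξ0 : ξ ≠ 0 := hξ.ne_zero (by omega)
    have hξ2 : ξ ^ 2 ≠ 1 := hξ.pow_ne_one_of_pos_of_lt (by norm_num) (by omega)
    refine ⟨compSL c, ?_⟩
    have hiff : ∀ k : ℕ, (compSL c) ^ k = 1 ↔ n ∣ k := by
      intro k
      rw [← hξ.pow_eq_one_iff_dvd k, ← pow_eq_one_iff ξ hξ0 hξ2 (algebraMap K L c) (by rw [← hc, map_mul, map_ofNat]) k,
        ← map_comp, ← map_pow]
      have hinj : Function.Injective ((algebraMap K L).mapMatrix : Matrix (Fin 2) (Fin 2) K →+* Matrix (Fin 2) (Fin 2) L) := by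
        intro A B hAB
        ext i j
        have := congrFun (congrFun hAB i) j
        simpa using this
      rw [← map_one ((algebraMap K L).mapMatrix : Matrix (Fin 2) (Fin 2) K →+* Matrix (Fin 2) (Fin 2) L), hinj.eq_iff]
      have hcoe : ((compSL c ^ k : Matrix.SpecialLinearGroup (Fin 2) K) : Matrix (Fin 2) (Fin 2) K) = comp c ^ k := by
        rw [Matrix.SpecialLinearGroup.coe_pow]; rfl
      constructor
      · intro h
        rw [← hcoe, h]; rfl
      · intro h
        apply Subtype.ext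
        rw [hcoe, h]; rfl
    apply Nat.dvd_antisymm
    · exact orderOf_dvd_of_pow_eq_one ((hiff n).2 dvd_rfl)
    · rw [← hiff]; exact pow_orderOf_eq_one _

end Groth.Agent.S14848
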