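import Groth.Statements.S14849
import Groth.Agent.S14848
import Mathlib

set_option autoImplicit false
universe u v
open McKay

namespace Groth.Agent.S14849

open QuaternionGroup

section lift
variable {G : Type u} [Group G] {n : ℕ} (σ τ : G)

theorem pw_aux (hσ : σ ^ (2 * n) = 1) :
    (zmultiplesHom (Additive G) (Additive.ofMul σ)) ((2 * n : ℕ) : ℤ) = 0 := by
  simp only [zmultiplesHom_apply, natCast_zsmul]
  rw [← ofMul_pow, hσ]; rfl

/-- powers of σ indexed by ZMod (2n) -/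
noncomputable def pw (hσ : σ ^ (2 * n) = 1) : ZMod (2 * n) →+ Additive G :=
  ZMod.lift (2 * n) ⟨zmultiplesHom (Additive G) (Additive.ofMul σ), pw_aux σ hσ⟩

theorem pw_natCast (hσ : σ ^ (2 * n) = 1) (k : ℕ) : (pw σ hσ (k : ZMod (2 * n))).toMul = σ ^ k := by
  have := ZMod.lift_coe (2 * n) (A := Additive G) ⟨zmultiplesHom (Additive G) (Additive.ofMul σ), pw_aux σ hσ⟩ (k : ℤ)
  simp only [Int.cast_natCast, zmultiplesHom_apply] at this
  unfold pw
  rw [this]
  simp

/-- the s i -/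
noncomputable def s (hσ : σ ^ (2 * n) = 1) (i : ZMod (2 * n)) : G := (pw σ hσ i).toMul

theorem s_add (hσ : σ ^ (2 * n) = 1) (i j : ZMod (2 * n)) : s σ hσ (i + j) = s σ hσ i * s σ hσ j := by
  simp [s]

theorem s_neg (hσ : σ ^ (2 * n) = 1) (i : ZMod (2 * n)) : s σ hσ (- i) = (s σ hσ i)⁻¹ := by
  simp [s]

theorem s_zero (hσ : σ ^ (2 * n) = 1) : s σ hσ 0 = 1 := by
  simp [s]

theorem s_natCast (hσ : σ ^ (2 * n) = 1) (k : ℕ) : s σ hσ (k : ZMod (2 * n)) = σ ^ k := pw_natCast σ hσ k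

theorem s_eq_pow (hn : n ≠ 0) (hσ : σ ^ (2 * n) = 1) (i : ZMod (2 * n)) : s σ hσ i = σ ^ i.val := by
  have : NeZero (2 * n) := ⟨by omega⟩
  conv_lhs => rw [← ZMod.natCast_zmod_val i]
  exact s_natCast σ hσ _

theorem pow_comm_tau (hστ : σ * τ = τ * σ⁻¹) (k : ℕ) : σ ^ k * τ = τ * (σ ^ k)⁻¹ := by
  induction k with
  | zero => simp
  | succ k ih =>
    calc σ ^ (k + 1) * τ = σ ^ k * (σ * τ) := by rw [pow_succ, mul_assoc]
      _ = (σ ^ k * τ) * σ⁻¹ := by rw [hστ, mul_assoc]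
      _ = τ * ((σ ^ k)⁻¹ * σ⁻¹) := by rw [ih, mul_assoc]
      _ = τ * (σ ^ (k + 1))⁻¹ := by rw [← mul_inv_rev, ← pow_succ']

theorem s_comm_tau (hn : n ≠ 0) (hσ : σ ^ (2 * n) = 1) (hστ : σ * τ = τ * σ⁻¹) (i : ZMod (2 * n)) :
    s σ hσ i * τ = τ * (s σ hσ i)⁻¹ := by
  rw [s_eq_pow σ hn hσ]
  exact pow_comm_tau σ τ hστ _

/-- the lift -/
noncomputable def liftFun (hσ : σ ^ (2 * n) = 1) : QuaternionGroup n → G
  | a i => s σ hσ i
  | xa i => τ * s σ hσ i

noncomputable def liftHom (hn : n ≠ 0) (hσ : σ ^ (2 * n) = 1) (hστ : σ * τ = τ * σ⁻¹) (hτ : τ * τ = σ ^ n) :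
    QuaternionGroup n →* G where
  toFun := liftFun σ τ hσ
  map_one' := by
    show liftFun σ τ hσ (a 0) = 1
    simp [liftFun, s_zero]
  map_mul' := by
    have hτ' : τ * τ = s σ hσ (n : ZMod (2 * n)) := by rw [s_natCast, hτ]
    rintro (i | i) (j | j)
    · simp only [a_mul_a, liftFun, s_add]
    · simp only [a_mul_xa, liftFun]
      rw [← mul_assoc, s_comm_tau σ τ hn hσ hστ, sub_eq_neg_add, s_add, s_neg, mul_assoc]
    · simp only [xa_mul_a, liftFun, s_add, mul_assoc]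
    · simp only [xa_mul_xa, liftFun]
      have : (n : ZMod (2 * n)) + j - i = n + (-i + j) := by ring
      rw [this, s_add, s_add, s_neg, ← hτ']
      rw [mul_assoc τ (s σ hσ i), ← mul_assoc (s σ hσ i), s_comm_tau σ τ hn hσ hστ]
      simp only [mul_assoc]

theorem liftHom_a (hn : n ≠ 0) (hσ : σ ^ (2 * n) = 1) (hστ : σ * τ = τ * σ⁻¹) (hτ : τ * τ = σ ^ n) (i : ZMod (2 * n)) :
    liftHom σ τ hn hσ hστ hτ (a i) = σ ^ i.val := by
  show liftFun σ τ hσ (a i) = _
  simp [liftFun, s_eq_pow σ hn hσ]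

theorem liftHom_xa (hn : n ≠ 0) (hσ : σ ^ (2 * n) = 1) (hστ : σ * τ = τ * σ⁻¹) (hτ : τ * τ = σ ^ n) (i : ZMod (2 * n)) :
    liftHom σ τ hn hσ hστ hτ (xa i) = τ * σ ^ i.val := by
  show liftFun σ τ hσ (xa i) = _
  simp [liftFun, s_eq_pow σ hn hσ]

theorem liftHom_injective (hn : 2 ≤ n) (hord : orderOf σ = 2 * n) (hστ : σ * τ = τ * σ⁻¹) (hτ : τ * τ = σ ^ n) :
    Function.Injective (liftHom σ τ (by omega) (by rw [← hord]; exact pow_orderOf_eq_one σ) hστ hτ) := by
  have hn0 : n ≠ 0 := by omega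
  have : NeZero (2 * n) := ⟨by omega⟩
  rw [injective_iff_map_eq_one]
  rintro (i | i) h
  · rw [liftHom_a] at h
    have h1 : orderOf σ ∣ i.val := orderOf_dvd_of_pow_eq_one h
    rw [hord] at h1
    have h2 : i.val < 2 * n := ZMod.val_lt i
    have h3 : i.val = 0 := Nat.eq_zero_of_dvd_of_lt h1 h2
    have : i = 0 := by rwa [ZMod.val_eq_zero] at h3
    rw [this]; rfl
  · exfalso
    rw [liftHom_xa] at h
    have hτe : τ = (σ ^ i.val)⁻¹ := eq_inv_of_mul_eq_one_left h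
    have hcomm : σ * τ = τ * σ := by
      rw [hτe, ← inv_pow]
      exact ((Commute.refl σ).inv_right.pow_right _).eq
    rw [hστ] at hcomm
    have h1 : σ⁻¹ = σ := mul_left_cancel hcomm
    have h2 : σ ^ 2 = 1 := by
      rw [pow_two]; nth_rewrite 1 [← h1]; exact inv_mul_cancel σ
    have h3 : orderOf σ ∣ 2 := orderOf_dvd_of_pow_eq_one h2
    rw [hord] at h3
    have := Nat.le_of_dvd (by norm_num) h3
    omega

end lift

open Matrix Groth.Agent.S14848

theorem compSL_pow_eq_one_iff {K : Type u} {L : Type v} [Field K] [Field L] [Algebra K L]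
    (m : ℕ) (hm : 3 ≤ m) (ξ : L) (hξ : IsPrimitiveRoot ξ m) (c : K)
    (hc : algebraMap K L (2 * c) = ξ + ξ⁻¹) (k : ℕ) : (compSL c) ^ k = 1 ↔ m ∣ k := by
  have hξ0 : ξ ≠ 0 := hξ.ne_zero (by omega)
  have hξ2 : ξ ^ 2 ≠ 1 := hξ.pow_ne_one_of_pos_of_lt (by norm_num) (by omega)
  rw [← hξ.pow_eq_one_iff_dvd k, ← pow_eq_one_iff ξ hξ0 hξ2 (algebraMap K L c) (by rw [← hc, map_mul, map_ofNat]) k,
    ← map_comp, ← map_pow]
  have hinj : Function.Injective ((algebraMap K L).mapMatrix : Matrix (Fin 2) (Fin 2) K →+* Matrix (Fin 2) (Fin 2) L) := by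
    intro A B hAB
    ext i j
    have := congrFun (congrFun hAB i) j
    simpa using this
  rw [← map_one ((algebraMap K L).mapMatrix : Matrix (Fin 2) (Fin 2) K →+* Matrix (Fin 2) (Fin 2) L), hinj.eq_iff]
  have hcoe : ((compSL c ^ k : Matrix.SpecialLinearGroup (Fin 2) K) : Matrix (Fin 2) (Fin 2) K) = comp c ^ k := by
    rw [Matrix.SpecialLinearGroup.coe_pow]; rfl
  constructor
  · intro h
    rw [← hcoe, h]; rfl
  · intro h
    apply Subtype.ext
    rw [hcoe, h]; rfl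

theorem orderOf_compSL {K : Type u} {L : Type v} [Field K] [Field L] [Algebra K L]
    (m : ℕ) (hm : 3 ≤ m) (ξ : L) (hξ : IsPrimitiveRoot ξ m) (c : K)
    (hc : algebraMap K L (2 * c) = ξ + ξ⁻¹) : orderOf (compSL c) = m := by
  have hiff := compSL_pow_eq_one_iff m hm ξ hξ c hc
  apply Nat.dvd_antisymm
  · exact orderOf_dvd_of_pow_eq_one ((hiff m).2 dvd_rfl)
  · rw [← hiff]; exact pow_orderOf_eq_one _

/-- σ^n = -1 -/
theorem comp_pow_eq_neg_one {L : Type v} [Field L] (ξ : L) (hξ : ξ ≠ 0) (hξ2 : ξ ^ 2 ≠ 1) (c : L)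
    (hc : 2 * c = ξ + ξ⁻¹) (k : ℕ) (hk : ξ ^ k = -1) :
    comp c ^ k = -1 := by
  have hdet : IsUnit (P ξ).det := by
    rw [isUnit_iff_ne_zero]
    simp only [P, Matrix.det_fin_two_of]
    intro h
    apply hξ2
    field_simp at h
    linear_combination h
  have h2 : P ξ * (P ξ)⁻¹ = 1 := Matrix.mul_nonsing_inv _ hdet
  have key := comp_pow_mul_P ξ hξ c hc k
  rw [Dg_pow] at key
  have hD : !![ξ ^ k, 0; 0, (ξ⁻¹) ^ k] = (-1 : Matrix (Fin 2) (Fin 2) L) := by
    ext i j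
    fin_cases i <;> fin_cases j <;> simp [hk, inv_pow, inv_neg]
  rw [hD, Matrix.mul_neg, Matrix.mul_one] at key
  calc comp c ^ k = comp c ^ k * (P ξ * (P ξ)⁻¹) := by rw [h2, Matrix.mul_one]
      _ = (comp c ^ k * P ξ) * (P ξ)⁻¹ := by rw [Matrix.mul_assoc]
      _ = -1 := by rw [key, Matrix.neg_mul, h2]


/-- τ -/
def tauM {K : Type u} [Field K] (c x y : K) : Matrix (Fin 2) (Fin 2) K :=
  !![x - c * y, y + 2 * c * (x - c * y); y, -(x - c * y)]

theorem det_tauM {K : Type u} [Field K] (c x y : K) (h : x ^ 2 - (c ^ 2 - 1) * y ^ 2 = -1) :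
    (tauM c x y).det = 1 := by
  simp only [tauM, Matrix.det_fin_two_of]
  linear_combination -h

/-- τ in SL2 -/
def tauSL {K : Type u} [Field K] (c x y : K) (h : x ^ 2 - (c ^ 2 - 1) * y ^ 2 = -1) :
    Matrix.SpecialLinearGroup (Fin 2) K := ⟨tauM c x y, det_tauM c x y h⟩

theorem sigma_tau {K : Type u} [Field K] (c x y : K) (h : x ^ 2 - (c ^ 2 - 1) * y ^ 2 = -1) :
    compSL c * tauSL c x y h = tauSL c x y h * (compSL c)⁻¹ := by
  apply Subtype.ext
  rw [Matrix.SpecialLinearGroup.coe_mul, Matrix.SpecialLinearGroup.coe_mul, Matrix.SpecialLinearGroup.coe_inv]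
  show comp c * tauM c x y = tauM c x y * (comp c).adjugate
  rw [Matrix.adjugate_fin_two]
  ext i j
  fin_cases i <;> fin_cases j <;> simp [S14848.comp, tauM, Matrix.mul_apply, Fin.sum_univ_two] <;> ring

theorem tau_tau {K : Type u} [Field K] (c x y : K) (h : x ^ 2 - (c ^ 2 - 1) * y ^ 2 = -1) :
    tauM c x y * tauM c x y = -1 := by
  ext i j
  fin_cases i <;> fin_cases j <;> simp [tauM, Matrix.mul_apply, Fin.sum_univ_two] <;> first | ring1 | linear_combination h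


/-- Let K be a field of characteristic zero, L an extension field of K, n ≥ 2, and ξ ∈ L a primitive
2n-th root of unity with ξ + ξ⁻¹ = 2c for some c ∈ K. If the Hilbert symbol of -1 and c² - 1 over K
equals 1, i.e. x² - (c² - 1) y² = -1 has a solution in K, then the binary dihedral group of order 4n
(generators σ, τ with τ² = σⁿ = (τσ)²) is isomorphic to a subgroup of SL(2, K). (The published
statement is an equivalence; this row is the direction realising the group from a solution of the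
conic.) -/
theorem result {K : Type u} {L : Type v}
    [Field K] [Field L] [CharZero K] [Algebra K L] (n : ℕ) (hn : 2 ≤ n) (ξ : L)
    (hξ : IsPrimitiveRoot ξ (2 * n)) (c : K) (hc : algebraMap K L (2 * c) = ξ + ξ⁻¹)
    (hsol : ∃ x y : K, x ^ 2 - (c ^ 2 - 1) * y ^ 2 = -1) :
    ∃ f : QuaternionGroup n →* Matrix.SpecialLinearGroup (Fin 2) K, Function.Injective f := by
  obtain ⟨x, y, hxy⟩ := hsol
  have hord : orderOf (compSL c) = 2 * n := orderOf_compSL (2 * n) (by omega) ξ hξ c hc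
  have hξ0 : ξ ≠ 0 := hξ.ne_zero (by omega)
  have hξ2 : ξ ^ 2 ≠ 1 := hξ.pow_ne_one_of_pos_of_lt (by norm_num) (by omega)
  have hξn : ξ ^ n = -1 := by
    have h1 : (ξ ^ n) ^ 2 = 1 := by rw [← pow_mul, mul_comm]; exact hξ.pow_eq_one
    have h2 : ξ ^ n ≠ 1 := hξ.pow_ne_one_of_pos_of_lt (by omega) (by omega)
    have h3 : (ξ ^ n - 1) * (ξ ^ n + 1) = 0 := by linear_combination h1
    rcases mul_eq_zero.mp h3 with h | h
    · exact absurd (sub_eq_zero.mp h) h2
    · exact eq_neg_of_add_eq_zero_left h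
  have hτ : tauSL c x y hxy * tauSL c x y hxy = compSL c ^ n := by
    apply Subtype.ext
    rw [Matrix.SpecialLinearGroup.coe_mul, Matrix.SpecialLinearGroup.coe_pow]
    show tauM c x y * tauM c x y = comp c ^ n
    rw [tau_tau c x y hxy]
    have hinj : Function.Injective ((algebraMap K L).mapMatrix : Matrix (Fin 2) (Fin 2) K →+* Matrix (Fin 2) (Fin 2) L) := by
      intro A B hAB
      ext i j
      have := congrFun (congrFun hAB i) j
      simpa using this
    apply hinj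
    rw [map_pow, map_comp, comp_pow_eq_neg_one ξ hξ0 hξ2 (algebraMap K L c) (by rw [← hc, map_mul, map_ofNat]) n hξn,
      map_neg, map_one]
  exact ⟨_, liftHom_injective (compSL c) (tauSL c x y hxy) hn hord (sigma_tau c x y hxy) hτ⟩

end Groth.Agent.S14849
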