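import Groth.Statements.S14850
import Groth.Agent.Lib.Helper75.ComodRestr

set_option autoImplicit false
universe u v
open HopfRep

namespace Groth.Agent.S14850

open Groth.Agent.Lib.Helper75
attribute [local instance] comodModule

theorem forward {K : Type u} {C : Type v} [Field K] [AddCommGroup C]
    [Module K C] [Coalgebra K C] [Nontrivial C]
    (hsimple : ∀ B : Submodule K C, IsSubcoalg B → B = ⊥ ∨ B = ⊤) :
    ∃ (E : Type v) (_ : AddCommGroup E) (_ : Module K E) (_ : HopfRep.Comod K C E),
      HopfRep.IsSimpleComod K C E ∧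
      ∃ (ι : Type v) (f : ι → (E →ₗ[K] C)),
        (∀ i, Hoch.IsComodHom C (f i) ∧ Function.Injective (f i)) ∧
        iSupIndep (fun i => LinearMap.range (f i)) ∧ (⨆ i, LinearMap.range (f i)) = ⊤ := by
  -- a simple subcomodule W of C
  obtain ⟨W, hW, hWs⟩ : ∃ (W : Submodule K C) (hW : HopfRep.IsSubcomod (k := K) (A := C) W),
      IsSimpleModule (DualAlg K C) (toDualSubmodule W hW) := by
    have htop : (⊤ : Submodule (DualAlg K C) C) ≠ ⊥ := top_ne_bot
    obtain ⟨N, -, hNs⟩ := exists_simple_le (⊤ : Submodule (DualAlg K C) C) htop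
    refine ⟨N.restrictScalars K, isSubcomod_restrictScalars N, ?_⟩
    rw [toDualSubmodule_restrictScalars']
    exact hNs
  have hW0 : W ≠ ⊥ := by
    intro h
    have hnt : Nontrivial (toDualSubmodule W hW) := IsSimpleModule.nontrivial (DualAlg K C) _
    obtain ⟨⟨x, hx⟩, ⟨y, hy⟩, hxy⟩ := hnt
    apply hxy
    have hx' : x ∈ W := hx
    have hy' : y ∈ W := hy
    rw [h, Submodule.mem_bot] at hx' hy'
    exact Subtype.ext (hx'.trans hy'.symm)
  have hcoeff : coeffSpace C W = ⊤ := by
    rcases hsimple _ (isSubcoalg_coeffSpace W hW) with h | h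
    · exfalso
      apply hW0
      exact le_bot_iff.mp (h ▸ le_coeffSpace_regular W)
    · exact h
  let cW : HopfRep.Comod K C W := restrComod W hW
  have hEs : HopfRep.IsSimpleComod K C W := isSimpleComod_restr W hW hWs
  have hEsm : IsSimpleModule (DualAlg K C) W := isSimpleComod_iff.1 hEs
  have hcoeff' : coeffSpace C (⊤ : Submodule K W) = ⊤ := (coeffSpace_restr_top W hW).trans hcoeff
  have hss : IsSemisimpleModule (DualAlg K C) C := by
    have h1 : IsSemisimpleModule (DualAlg K C) (⊤ : Submodule (DualAlg K C) C) :=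
      isSemisimpleModule_of_le_coeffSpace (V := W) (⊤ : Submodule (DualAlg K C) C)
        (by rw [hcoeff']; exact le_top)
    exact IsSemisimpleModule.congr (R := DualAlg K C) (N := C) (M := (⊤ : Submodule (DualAlg K C) C))
      Submodule.topEquiv.symm
  obtain ⟨s, hind, hsup, hsimp⟩ := IsSemisimpleModule.exists_sSupIndep_sSup_simples_eq_top (DualAlg K C) C
  have hiso : ∀ m : s, Nonempty (m.1 ≃ₗ[DualAlg K C] W) := fun m => by
    have := hsimp m.1 m.2
    exact nonempty_linearEquiv_of_le_coeffSpace (V := W) m.1 (by rw [hcoeff']; exact le_top)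
  let e : ∀ m : s, m.1 ≃ₗ[DualAlg K C] W := fun m => (hiso m).some
  have hrange : ∀ m : s, LinearMap.range ((m.1.subtype ∘ₗ (e m).symm.toLinearMap).restrictScalars K) =
      m.1.restrictScalars K := by
    intro m
    ext x
    constructor
    · rintro ⟨w, rfl⟩
      exact ((e m).symm w).2
    · intro hx
      exact ⟨e m ⟨x, hx⟩, by simp⟩
  refine ⟨W, inferInstance, inferInstance, cW, hEs, s,
    fun m => ((m.1.subtype ∘ₗ (e m).symm.toLinearMap).restrictScalars K), ?_, ?_, ?_⟩
  · intro m
    refine ⟨isComodHom_restrictScalars _, ?_⟩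
    intro x y hxy
    apply (e m).symm.injective
    apply m.1.subtype_injective
    exact hxy
  · simp_rw [hrange]
    rw [iSupIndep_restrictScalars_iff]
    exact (sSupIndep_iff s).1 hind
  · simp_rw [hrange]
    rw [← Submodule.restrictScalars_iSup, ← sSup_eq_iSup', hsup, Submodule.restrictScalars_top]

theorem backward {K : Type u} {C : Type v} [Field K] [AddCommGroup C]
    [Module K C] [Coalgebra K C] [Nontrivial C]
    (E : Type v) [AddCommGroup E] [Module K E] [HopfRep.Comod K C E]
    (hE : HopfRep.IsSimpleComod K C E) (ι : Type v) (f : ι → (E →ₗ[K] C))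
    (hf : ∀ i, Hoch.IsComodHom C (f i) ∧ Function.Injective (f i))
    (hsup : (⨆ i, LinearMap.range (f i)) = ⊤)
    (B : Submodule K C) (hB : IsSubcoalg B) : B = ⊥ ∨ B = ⊤ := by
  by_cases hB0 : B = ⊥
  · left; exact hB0
  right
  have hEsm : IsSimpleModule (DualAlg K C) E := isSimpleComod_iff.1 hE
  -- every range (f i) lies in the coefficient space of E
  have hfi : ∀ i, LinearMap.range (f i) ≤ coeffSpace C (⊤ : Submodule K E) := by
    intro i
    have h1 := coeffSpace_map_eq (f i) (hf i).1 (hf i).2 ⊤
    rw [Submodule.map_top] at h1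
    rw [← h1]
    exact le_coeffSpace_regular _
  have htop : coeffSpace C (⊤ : Submodule K E) = ⊤ := by
    rw [eq_top_iff, ← hsup]
    exact iSup_le hfi
  have := eq_coeffSpace_of_isSubcoalg_le (V := E) hB hB0 (by rw [htop]; exact le_top)
  rw [this, htop]

open TensorProduct in
/-- Over a field K, a nonzero coalgebra C is simple if and only if C is isotypic as a right comodule
over itself, i.e. C is the internal direct sum of the images of a family of injective comodule maps
from one simple right C-comodule E. Here a subcoalgebra of C is a subspace B whose comultiplication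
lands in the image of B ⊗ B, and C is simple when its only subcoalgebras are 0 and C. (Stated for
the right regular comodule; the published statement allows left or right.) -/
theorem result {K : Type u} {C : Type v} [Field K] [AddCommGroup C]
    [Module K C] [Coalgebra K C] [Nontrivial C] :
    (∀ B : Submodule K C, (∀ b ∈ B, CoalgebraStruct.comul (R := K) b ∈ LinearMap.range (TensorProduct.map B.subtype B.subtype)) → B = ⊥ ∨ B = ⊤) ↔
    ∃ (E : Type v) (_ : AddCommGroup E) (_ : Module K E) (_ : HopfRep.Comod K C E),
      HopfRep.IsSimpleComod K C E ∧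
      ∃ (ι : Type v) (f : ι → (E →ₗ[K] C)),
        (∀ i, Hoch.IsComodHom C (f i) ∧ Function.Injective (f i)) ∧
        iSupIndep (fun i => LinearMap.range (f i)) ∧ (⨆ i, LinearMap.range (f i)) = ⊤ := by
  constructor
  · intro h
    exact forward h
  · rintro ⟨E, _, _, _, hE, ι, f, hf, -, hsup⟩ B hB
    exact backward E hE ι f hf hsup B hB

end Groth.Agent.S14850
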