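import Groth.Statements.S14851
import Groth.Agent.Lib.Helper75.ComodSimple

set_option autoImplicit false
universe u v w w'
open HopfRep

namespace Groth.Agent.S14851

open Groth.Agent.Lib.Helper75
attribute [local instance] comodModule

open TensorProduct in
/-- The map E ↦ C(E) from isomorphism classes of simple comodules to simple subcoalgebras is injective,
that is: over a field K, two simple right comodules E, E' over a coalgebra C with the same
coefficient space D (the least subspace D' of C such that the coaction lands in E ⊗ D', resp. E' ⊗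
D') are isomorphic as comodules. (The published statement is made for a cosemisimple coalgebra and
for left comodules; the printed argument for this part uses neither restriction.) -/
theorem result {K : Type u} {C : Type v} [Field K]
    [AddCommGroup C] [Module K C] [Coalgebra K C]
    {E : Type w} [AddCommGroup E] [Module K E] [HopfRep.Comod K C E]
    {E' : Type w'} [AddCommGroup E'] [Module K E'] [HopfRep.Comod K C E']
    (hE : HopfRep.IsSimpleComod K C E) (hE' : HopfRep.IsSimpleComod K C E') (D : Submodule K C)
    (hD : IsLeast {D' : Submodule K C |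
      ∀ e : E, HopfRep.Comod.coact (k := K) (A := C) e ∈ LinearMap.range (LinearMap.lTensor E D'.subtype)} D)
    (hD' : IsLeast {D' : Submodule K C |
      ∀ e : E', HopfRep.Comod.coact (k := K) (A := C) e ∈ LinearMap.range (LinearMap.lTensor E' D'.subtype)} D) :
    ∃ e : E ≃ₗ[K] E', Hoch.IsComodHom C e.toLinearMap := by
  have hDeq : D = coeffSpace C (⊤ : Submodule K E) := hD.unique isLeast_coeffSpace_top
  have hDeq' : D = coeffSpace C (⊤ : Submodule K E') := hD'.unique isLeast_coeffSpace_top
  have hEs : IsSimpleModule (DualAlg K C) E := isSimpleComod_iff.1 hE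
  have hEs' : IsSimpleModule (DualAlg K C) E' := isSimpleComod_iff.1 hE'
  have hnt' : Nontrivial E' := hE'.1
  -- a nonzero matrix coefficient map on E'
  obtain ⟨v, hv⟩ := exists_ne (0 : E')
  have h1 : ¬ ∀ φ : Module.Dual K E', φ v = 0 := by
    rw [Module.forall_dual_apply_eq_zero_iff]
    exact hv
  push Not at h1
  obtain ⟨ψ, hψ⟩ := h1
  have hne : cfR (A := C) ψ ≠ 0 := by
    intro h0
    apply hψ
    have : cf (A := C) ψ v = 0 := by
      rw [← cfR_apply, h0]; rfl
    rw [← counit_cf (A := C) ψ v, this, map_zero]
  have hinj : Function.Injective (cfR (A := C) ψ) :=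
    (cfR (A := C) ψ).injective_or_eq_zero.resolve_right hne
  let e2 : E' ≃ₗ[DualAlg K C] LinearMap.range (cfR (A := C) ψ) := LinearEquiv.ofInjective _ hinj
  have hNs : IsSimpleModule (DualAlg K C) (LinearMap.range (cfR (A := C) ψ)) := IsSimpleModule.congr e2.symm
  have hle : (LinearMap.range (cfR (A := C) ψ)).restrictScalars K ≤ coeffSpace C (⊤ : Submodule K E) := by
    rw [← hDeq, hDeq']
    rintro _ ⟨w, rfl⟩
    exact cf_mem_coeffSpace ⊤ ψ Submodule.mem_top
  obtain ⟨e1⟩ := nonempty_linearEquiv_of_le_coeffSpace (V := E) (LinearMap.range (cfR (A := C) ψ)) hle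
  let eR : E ≃ₗ[DualAlg K C] E' := (e2.trans e1).symm
  refine ⟨eR.restrictScalars K, ?_⟩
  rw [isComodHom_iff]
  intro f x
  exact eR.map_smul (WithConv.toConv f) x

end Groth.Agent.S14851
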