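import Groth.Statements.S14852
import Groth.Agent.Lib.Helper75.ComodSimple

set_option autoImplicit false
universe u v w w'
open HopfRep

namespace Groth.Agent.S14852

open Groth.Agent.Lib.Helper75

open TensorProduct in
/-- Over a field K, let C be a cosemisimple coalgebra and D₁ ≠ D₂ simple subcoalgebras of C. If V is a
right C-comodule whose coaction lands in V ⊗ D₁ and W one whose coaction lands in W ⊗ D₂, then the
only comodule map V → W is zero. Here a subcoalgebra of C is a subspace B whose comultiplication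
lands in the image of B ⊗ B, and a simple subcoalgebra is a nonzero subcoalgebra D whose only
subcoalgebras contained in D are 0 and D; cosemisimple means C is the internal direct sum of a
family of simple subcoalgebras. (The published statement is for quasi-coherent G-sheaves on a scheme
with trivial action of G = Spec C; this row is the statement on spaces of sections to which its
proof reduces.) -/
theorem result {K : Type u} {C : Type v} [Field K]
    [AddCommGroup C] [Module K C] [Coalgebra K C]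
    (hC : ∃ (ι : Type v) (D : ι → Submodule K C), iSupIndep D ∧ iSup D = ⊤ ∧ ∀ i,
        D i ≠ ⊥ ∧ (∀ b ∈ (D i), CoalgebraStruct.comul (R := K) b ∈ LinearMap.range (TensorProduct.map (D i).subtype (D i).subtype)) ∧
        ∀ B : Submodule K C, B ≤ D i → (∀ b ∈ B, CoalgebraStruct.comul (R := K) b ∈ LinearMap.range (TensorProduct.map B.subtype B.subtype)) → B = ⊥ ∨ B = D i)
    (D₁ D₂ : Submodule K C) (hne : D₁ ≠ D₂)
    (h₁ : D₁ ≠ ⊥ ∧ (∀ b ∈ D₁, CoalgebraStruct.comul (R := K) b ∈ LinearMap.range (TensorProduct.map D₁.subtype D₁.subtype)) ∧ ∀ B : Submodule K C, B ≤ D₁ → (∀ b ∈ B, CoalgebraStruct.comul (R := K) b ∈ LinearMap.range (TensorProduct.map B.subtype B.subtype)) → B = ⊥ ∨ B = D₁)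
    (h₂ : D₂ ≠ ⊥ ∧ (∀ b ∈ D₂, CoalgebraStruct.comul (R := K) b ∈ LinearMap.range (TensorProduct.map D₂.subtype D₂.subtype)) ∧ ∀ B : Submodule K C, B ≤ D₂ → (∀ b ∈ B, CoalgebraStruct.comul (R := K) b ∈ LinearMap.range (TensorProduct.map B.subtype B.subtype)) → B = ⊥ ∨ B = D₂)
    {V : Type w} [AddCommGroup V] [Module K V] [HopfRep.Comod K C V]
    {W : Type w'} [AddCommGroup W] [Module K W] [HopfRep.Comod K C W]
    (hV : ∀ v : V, HopfRep.Comod.coact (k := K) (A := C) v ∈ LinearMap.range (LinearMap.lTensor V D₁.subtype))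
    (hW : ∀ w : W, HopfRep.Comod.coact (k := K) (A := C) w ∈ LinearMap.range (LinearMap.lTensor W D₂.subtype))
    (φ : V →ₗ[K] W) (hφ : Hoch.IsComodHom C φ) : φ = 0 := by
  obtain ⟨hD₁0, hD₁sub, hD₁s⟩ := h₁
  obtain ⟨hD₂0, hD₂sub, hD₂s⟩ := h₂
  have hs1 : IsSubcoalg D₁ := hD₁sub
  have hs2 : IsSubcoalg D₂ := hD₂sub
  -- the intersection is a subcoalgebra
  have hs12 : IsSubcoalg (D₁ ⊓ D₂) := by
    rw [isSubcoalg_iff]
    constructor
    · intro f b hb
      exact ⟨((isSubcoalg_iff D₁).1 hs1).1 f b hb.1, ((isSubcoalg_iff D₂).1 hs2).1 f b hb.2⟩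
    · intro f b hb
      exact ⟨((isSubcoalg_iff D₁).1 hs1).2 f b hb.1, ((isSubcoalg_iff D₂).1 hs2).2 f b hb.2⟩
  have hbot : D₁ ⊓ D₂ = ⊥ := by
    rcases hD₁s (D₁ ⊓ D₂) inf_le_left hs12 with h | h
    · exact h
    · exfalso
      have hle : D₁ ≤ D₂ := by rw [← h]; exact inf_le_right
      rcases hD₂s D₁ hle hs1 with h' | h'
      · exact hD₁0 h'
      · exact hne h'
  apply LinearMap.ext
  intro v
  rw [LinearMap.zero_apply]
  have hx : coactMap K C W (φ v) = 0 := by
    have h0 : coactMap K C W (φ v) ∈ LinearMap.range ((⊥ : Submodule K C).subtype.lTensor W) := by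
      rw [mem_range_lTensor_iff]
      intro ψ
      have h1 : contractL C ψ (coactMap K C W (φ v)) ∈ D₂ :=
        (mem_range_lTensor_iff D₂ _).1 (hW (φ v)) ψ
      have h2 : contractL C ψ (coactMap K C W (φ v)) ∈ D₁ := by
        have hc := LinearMap.congr_fun hφ v
        simp only [LinearMap.coe_comp, Function.comp_apply] at hc
        show contractL C ψ (HopfRep.Comod.coact (k := K) (A := C) (φ v)) ∈ D₁
        rw [hc, contractL_rTensor]
        exact (mem_range_lTensor_iff D₁ _).1 (hV v) (ψ ∘ₗ φ)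
      rw [← hbot]
      exact ⟨h2, h1⟩
    obtain ⟨y, hy⟩ := h0
    have : y = 0 := Subsingleton.elim _ _
    rw [← hy, this, map_zero]
  rw [← counit_contract (k := K) (A := C) (φ v), hx, map_zero]

end Groth.Agent.S14852
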