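import Groth.Statements.S14855
import Groth.Statements.S14855
import Groth.Agent.Lib.Helper60.WittComplete

set_option autoImplicit false
set_option maxHeartbeats 400000
universe u
open CAlg

namespace Groth.Agent.S14855

open Groth.Agent.Lib.Helper60.WittComplete

variable (p : ℕ) [hp : Fact p.Prime] {R : Type u} [CommRing R]

local notation "𝕎" => WittVector p

/-- the augmentation ideal -/
noncomputable abbrev IR : Ideal (WittVector p R) :=
  RingHom.ker (WittVector.constantCoeff : WittVector p R →+* R)

theorem mem_IR_iff (x : WittVector p R) : x ∈ IR p (R := R) ↔ x.coeff 0 = 0 := Iff.rfl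

theorem exists_verschiebung (x : WittVector p R) (hx : x ∈ IR p (R := R)) :
    ∃ y : WittVector p R, x = WittVector.verschiebung y := by
  refine ⟨x.shift 1, ?_⟩
  have := WittVector.eq_iterate_verschiebung (x := x) (n := 1) (by
    intro i hi
    obtain rfl : i = 0 := by omega
    exact hx)
  simpa using this

theorem verschiebung_mem (y : WittVector p R) : WittVector.verschiebung y ∈ IR p (R := R) := by
  rw [mem_IR_iff, WittVector.verschiebung_coeff_zero]

theorem verschiebung_mul_verschiebung (a b : WittVector p R) :
    WittVector.verschiebung a * WittVector.verschiebung b =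
      (p : WittVector p R) * WittVector.verschiebung (a * b) := by
  rw [← WittVector.verschiebung_mul_frobenius, WittVector.frobenius_verschiebung]
  have : a * (b * (p : WittVector p R)) = p • (a * b) := by
    rw [nsmul_eq_mul]; ring
  rw [this, map_nsmul, nsmul_eq_mul]

theorem IR_mul_le : IR p (R := R) * IR p (R := R) ≤ Ideal.span {(p : WittVector p R)} * IR p := by
  rw [Ideal.mul_le]
  intro a ha b hb
  obtain ⟨a', rfl⟩ := exists_verschiebung p a ha
  obtain ⟨b', rfl⟩ := exists_verschiebung p b hb
  rw [verschiebung_mul_verschiebung]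
  exact Ideal.mul_mem_mul (Ideal.subset_span rfl) (verschiebung_mem p _)

theorem IR_pow_le (k : ℕ) :
    IR p (R := R) ^ (k + 1) ≤ Ideal.span {(p : WittVector p R) ^ k} * IR p := by
  induction k with
  | zero => simp
  | succ k ih =>
    rw [pow_succ]
    calc IR p (R := R) ^ (k + 1) * IR p ≤ (Ideal.span {(p : WittVector p R) ^ k} * IR p) * IR p :=
          Ideal.mul_mono ih le_rfl
      _ = Ideal.span {(p : WittVector p R) ^ k} * (IR p * IR p) := mul_assoc _ _ _
      _ ≤ Ideal.span {(p : WittVector p R) ^ k} * (Ideal.span {(p : WittVector p R)} * IR p) :=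
          Ideal.mul_mono le_rfl (IR_mul_le p)
      _ = Ideal.span {(p : WittVector p R) ^ (k + 1)} * IR p := by
          rw [← mul_assoc, Ideal.span_singleton_mul_span_singleton, ← pow_succ]

theorem le_IR_pow (k : ℕ) :
    Ideal.span {(p : WittVector p R) ^ k} * IR p ≤ IR p (R := R) ^ (k + 1) := by
  induction k with
  | zero => simp
  | succ k ih =>
    rw [Ideal.span_singleton_mul_le_iff]
    intro x hx
    obtain ⟨x', rfl⟩ := exists_verschiebung p x hx
    have h1 : (p : WittVector p R) ^ (k + 1) * WittVector.verschiebung x' =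
        ((p : WittVector p R) ^ k * WittVector.verschiebung x') * WittVector.verschiebung 1 := by
      rw [mul_assoc, verschiebung_mul_verschiebung, mul_one, pow_succ, mul_assoc]
    rw [h1, pow_succ]
    exact Ideal.mul_mem_mul
      (ih (Ideal.mul_mem_mul (Ideal.subset_span rfl) (verschiebung_mem p _)))
      (verschiebung_mem p _)

variable [IsAdicComplete (Ideal.span {(p : R)}) R]

theorem hausdorff_p : IsHausdorff (Ideal.span {(p : WittVector p R)}) (WittVector p R) := by
  constructor
  intro x hx
  apply eq_zero_of_forall_mem_U p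
  intro n m
  have h1 := hx (n + m)
  rw [SModEq.zero, Ideal.span_singleton_pow, smul_eq_mul, Ideal.mul_top,
    Ideal.mem_span_singleton'] at h1
  obtain ⟨a, rfl⟩ := h1
  exact Ideal.mul_mem_left _ _ (p_pow_mem_U p n m (n + m) (by omega))

omit [IsAdicComplete (Ideal.span {(p : R)}) R] in
theorem telescope (f : ℕ → WittVector p R) (y : ℕ → WittVector p R)
    (h : ∀ k, f (k + 1) - f k = (p : WittVector p R) ^ k * y k) (K : ℕ) :
    f K = f 0 + psum p y K := by
  induction K with
  | zero => simp [psum]
  | succ K ih =>
    rw [psum, Finset.sum_range_succ, ← psum, ← add_assoc, ← ih, ← h K]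
    ring

theorem precomplete_p : IsPrecomplete (Ideal.span {(p : WittVector p R)}) (WittVector p R) := by
  constructor
  intro f hf
  have hy : ∀ k, ∃ y : WittVector p R, f (k + 1) - f k = (p : WittVector p R) ^ k * y := by
    intro k
    have h1 := hf (Nat.le_succ k)
    rw [SModEq.sub_mem, Ideal.span_singleton_pow, smul_eq_mul, Ideal.mul_top,
      Ideal.mem_span_singleton'] at h1
    obtain ⟨a, ha⟩ := h1
    refine ⟨-a, ?_⟩
    rw [mul_neg, mul_comm, ha]
    ring
  choose y hy using hy
  refine ⟨f 0 + wsum p y, ?_⟩
  intro K
  rw [SModEq.sub_mem, Ideal.span_singleton_pow, smul_eq_mul, Ideal.mul_top,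
    Ideal.mem_span_singleton']
  refine ⟨-wsum p (fun k => y (K + k)), ?_⟩
  rw [telescope p f y hy K, wsum_eq p y K]
  ring

theorem hausdorff_I : IsHausdorff (IR p (R := R)) (WittVector p R) := by
  constructor
  intro x hx
  apply (hausdorff_p p (R := R)).haus
  intro n
  have h1 := hx (n + 1)
  rw [SModEq.zero, smul_eq_mul, Ideal.mul_top] at h1
  have h2 : x ∈ Ideal.span {(p : WittVector p R) ^ n} * IR p := IR_pow_le p n h1
  rw [Ideal.mem_span_singleton_mul] at h2
  obtain ⟨z, _, hz⟩ := h2
  rw [SModEq.zero, smul_eq_mul, Ideal.mul_top, Ideal.span_singleton_pow,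
    Ideal.mem_span_singleton']
  exact ⟨z, by rw [mul_comm, hz]⟩

theorem precomplete_I : IsPrecomplete (IR p (R := R)) (WittVector p R) := by
  constructor
  intro f hf
  have hy : ∀ k, ∃ y : WittVector p R, y ∈ IR p (R := R) ∧
      f (k + 1 + 1) - f (k + 1) = (p : WittVector p R) ^ k * y := by
    intro k
    have h1 := hf (Nat.le_succ (k + 1))
    rw [SModEq.sub_mem, smul_eq_mul, Ideal.mul_top] at h1
    have h2 := IR_pow_le p k h1
    rw [Ideal.mem_span_singleton_mul] at h2
    obtain ⟨z, hz, hz'⟩ := h2
    refine ⟨-z, neg_mem hz, ?_⟩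
    rw [mul_neg, hz']
    ring
  choose y hyI hy using hy
  refine ⟨f 1 + wsum p y, ?_⟩
  intro K
  rw [SModEq.sub_mem, smul_eq_mul, Ideal.mul_top]
  rcases K with _ | K
  · simp
  · apply le_IR_pow p K
    rw [Ideal.mem_span_singleton_mul]
    refine ⟨-wsum p (fun k => y (K + k)), ?_, ?_⟩
    · apply neg_mem
      rw [mem_IR_iff]
      exact wsum_coeff_zero p _ (fun k => hyI _)
    · have := telescope p (fun k => f (k + 1)) y hy K
      rw [this, wsum_eq p y K]
      ring

/-- Let p be a prime and R a commutative ring which is complete and separated for the p-adic topology.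
Then the ring W(R) of p-typical Witt vectors of R is complete and separated for its own p-adic
topology, and it is also complete and separated for the adic topology of the ideal I_R, the kernel
of the projection of W(R) onto the zeroth Witt component. -/
theorem result (p : ℕ) [Fact p.Prime] (R : Type u) [CommRing R]
    [IsAdicComplete (Ideal.span {(p : R)}) R] :
    IsAdicComplete (Ideal.span {(p : WittVector p R)}) (WittVector p R) ∧
      IsAdicComplete (RingHom.ker (WittVector.constantCoeff : WittVector p R →+* R)) (WittVector p R) := by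
  refine ⟨?_, ?_⟩
  · haveI := hausdorff_p p (R := R)
    haveI := precomplete_p p (R := R)
    exact {}
  · haveI := hausdorff_I p (R := R)
    haveI := precomplete_I p (R := R)
    exact {}

end Groth.Agent.S14855
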