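import Groth.Statements.S14856
-- import your own Groth.Agent.* helpers here

set_option autoImplicit false
universe u
open CAlg

namespace Groth.Agent.S14856


theorem ghostComponent_eq_sum (p : ℕ) [Fact p.Prime] (S : Type u) [CommRing S] (x : WittVector p S)
    (n : ℕ) : WittVector.ghostComponent n x =
      ∑ i ∈ Finset.range (n + 1), (p : S) ^ i * x.coeff i ^ p ^ (n - i) := by
  rw [WittVector.ghostComponent_apply, wittPolynomial, MvPolynomial.aeval_sum]
  refine Finset.sum_congr rfl fun i _ => ?_
  simp [MvPolynomial.aeval_monomial, map_pow]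

theorem term_dvd (p : ℕ) [hp : Fact p.Prime] (S : Type u) [CommRing S] (s : ℕ) (hs : 1 ≤ s) (a : S)
    (h : (p : S) ^ s ∣ a) (i n : ℕ) (hin : i ≤ n) :
    (p : S) ^ (n + s) ∣ (p : S) ^ i * a ^ p ^ (n - i) := by
  have h1 : ((p : S) ^ s) ^ p ^ (n - i) ∣ a ^ p ^ (n - i) := pow_dvd_pow_of_dvd h _
  have h2 : (n - i) + s ≤ s * p ^ (n - i) := by
    have h3 : (n - i) + 1 ≤ p ^ (n - i) := Nat.lt_pow_self hp.out.one_lt
    calc (n - i) + s ≤ s * ((n - i) + 1) := by nlinarith
      _ ≤ s * p ^ (n - i) := Nat.mul_le_mul_left s h3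
  have h4 : (p : S) ^ ((n - i) + s) ∣ a ^ p ^ (n - i) := by
    refine dvd_trans ?_ h1
    rw [← pow_mul]
    exact pow_dvd_pow _ h2
  have h5 : n + s = i + ((n - i) + s) := by omega
  rw [h5, pow_add]
  exact mul_dvd_mul_left _ h4

theorem pow_mul_cancel (p : ℕ) (S : Type u) [CommRing S]
    (hS : ∀ y : S, (p : S) * y = 0 → y = 0) (i : ℕ) (y : S) (h : (p : S) ^ i * y = 0) : y = 0 := by
  induction i with
  | zero => simpa using h
  | succ i ih =>
    apply ih
    apply hS
    rw [← mul_assoc, ← pow_succ']
    exact h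

/-- Let p be a prime and S a commutative ring in which p is a non-zero-divisor. For a p-typical Witt
vector x over S, a natural number m and an integer s ≥ 1, the power p^s divides each of the Witt
components x_0, …, x_m if and only if p^(n+s) divides the n-th ghost component w_n(x) = x_0^(p^n) +
p x_1^(p^(n-1)) + ⋯ + p^n x_n for every n ≤ m. -/
theorem result (p : ℕ) [Fact p.Prime] (S : Type u) [CommRing S]
    (hS : ∀ y : S, (p : S) * y = 0 → y = 0) (x : WittVector p S) (m s : ℕ) (hs : 1 ≤ s) :
    (∀ i ≤ m, (p : S) ^ s ∣ x.coeff i) ↔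
      (∀ n ≤ m, (p : S) ^ (n + s) ∣ WittVector.ghostComponent n x) := by
  constructor
  · intro h n hn
    rw [ghostComponent_eq_sum]
    refine Finset.dvd_sum fun i hi => ?_
    have hin : i ≤ n := Nat.lt_succ_iff.mp (Finset.mem_range.mp hi)
    exact term_dvd p S s hs _ (h i (hin.trans hn)) i n hin
  · intro h i
    induction i using Nat.strong_induction_on with
    | _ i ih =>
      intro him
      have hw := h i him
      rw [ghostComponent_eq_sum, Finset.sum_range_succ] at hw
      have hrest : (p : S) ^ (i + s) ∣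
          ∑ j ∈ Finset.range i, (p : S) ^ j * x.coeff j ^ p ^ (i - j) := by
        refine Finset.dvd_sum fun j hj => ?_
        have hji : j < i := Finset.mem_range.mp hj
        exact term_dvd p S s hs _ (ih j hji (hji.le.trans him)) j i hji.le
      have hlast : (p : S) ^ (i + s) ∣ (p : S) ^ i * x.coeff i ^ p ^ (i - i) :=
        (dvd_add_right hrest).mp hw
      rw [Nat.sub_self, pow_zero, pow_one] at hlast
      obtain ⟨y, hy⟩ := hlast
      refine ⟨y, ?_⟩
      have : (p : S) ^ i * (x.coeff i - (p : S) ^ s * y) = 0 := by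
        rw [mul_sub, hy, pow_add]; ring
      have := pow_mul_cancel p S hS i _ this
      exact sub_eq_zero.mp this

end Groth.Agent.S14856
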