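import Groth.Statements.S14857
import Mathlib.RingTheory.WittVector.Identities
import Mathlib.RingTheory.WittVector.Domain
-- import your own Groth.Agent.* helpers here

set_option autoImplicit false
open CAlg

namespace Groth.Agent.S14857


/-- In any ring of Witt vectors, `p ∣ [p]^p` (general coefficient ring). -/
theorem p_dvd_teichmuller_pow (p : ℕ) [hp : Fact p.Prime] (R : Type*) [CommRing R] :
    (p : WittVector p R) ∣ (WittVector.teichmuller p (p : R)) ^ p := by
  set d : WittVector p R := WittVector.teichmuller p (p : R) - (p : WittVector p R) with hd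
  have hd0 : ∀ i < 1, d.coeff i = 0 := by
    intro i hi
    obtain rfl : i = 0 := by omega
    have : WittVector.constantCoeff d = 0 := by
      rw [hd, map_sub, map_natCast (WittVector.constantCoeff : WittVector p R →+* R)]
      change (WittVector.teichmuller p (p : R)).coeff 0 - (p : R) = 0
      rw [WittVector.teichmuller_coeff_zero, sub_self]
    exact this
  have hdV := WittVector.eq_iterate_verschiebung hd0
  rw [Function.iterate_one] at hdV
  set z := d.shift 1 with hz
  have hT : WittVector.teichmuller p (p : R) = (p : WittVector p R) + WittVector.verschiebung z := by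
    rw [← hdV, hd]; ring
  rw [hT]
  set b := WittVector.verschiebung z with hb
  have h1 : (p : WittVector p R) ∣ ((p : WittVector p R) + b) ^ p - b ^ p := by
    have := sub_dvd_pow_sub_pow ((p : WittVector p R) + b) b p
    rwa [add_sub_cancel_right] at this
  have hb2 : b ^ 2 = (p : WittVector p R) * WittVector.verschiebung (z * z) := by
    rw [pow_two, hb, ← WittVector.verschiebung_mul_frobenius, WittVector.frobenius_verschiebung,
      ← mul_assoc, mul_comm (z * z) (p : WittVector p R), ← nsmul_eq_mul, map_nsmul, nsmul_eq_mul]
  have h2 : (p : WittVector p R) ∣ b ^ p := by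
    have hp2 : 2 ≤ p := hp.out.two_le
    rw [← pow_mul_pow_sub b hp2, hb2, mul_assoc]
    exact Dvd.intro _ rfl
  have := dvd_add h1 h2
  rwa [sub_add_cancel] at this

/-- For a prime p, the Teichmüller representative [p^p] of the element p^p of the p-adic integers is
divisible by p in the ring of p-typical Witt vectors W(ℤ_p). -/
theorem result (p : ℕ) [Fact p.Prime] :
    (p : WittVector p ℤ_[p]) ∣ WittVector.teichmuller p ((p : ℤ_[p]) ^ p) := by
  rw [map_pow]
  exact p_dvd_teichmuller_pow p ℤ_[p]

end Groth.Agent.S14857
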