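import Groth.Statements.S14858
import Groth.Statements.S14858
import Groth.Agent.S14855
import Groth.Agent.S16538
import Groth.Agent.Lib.Helper60.AdicProj

set_option autoImplicit false
set_option maxHeartbeats 400000
universe u v
open Disp

namespace Groth.Agent.S14858

open Groth.Agent.Lib.Helper60

/-- the abstract statement: normal decompositions from complements modulo a complete ideal -/
theorem normal_decomp {W : Type*} [CommRing W] (I : Ideal W) [IsAdicComplete I W]
    {P : Type*} [AddCommGroup P] [Module W P] [Module.Finite W P] [Module.Projective W P]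
    (Q C : Submodule W P) (hQC : Q ⊔ C = ⊤) (hQC' : Q ⊓ C = I • (⊤ : Submodule W P)) :
    ∃ L T : Submodule W P, IsCompl L T ∧ Q = L ⊔ I • T := by
  haveI : IsAdicComplete I P := AdicProj.isAdicComplete_of_finite_projective I
  have hIQ : I • (⊤ : Submodule W P) ≤ Q := hQC' ▸ inf_le_left
  let g : (Q × C) →ₗ[W] P := Q.subtype.coprod C.subtype
  have hg : Function.Surjective g := by
    rw [← LinearMap.range_eq_top, LinearMap.range_coprod, Submodule.range_subtype,
      Submodule.range_subtype]
    exact hQC
  obtain ⟨s, hs⟩ := Module.projective_lifting_property g LinearMap.id hg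
  let ε : Module.End W P := Q.subtype ∘ₗ (LinearMap.fst W Q C) ∘ₗ s
  let ε' : Module.End W P := C.subtype ∘ₗ (LinearMap.snd W Q C) ∘ₗ s
  have hsum : ∀ x, ε x + ε' x = x := by
    intro x
    have := LinearMap.congr_fun hs x
    simpa [g, ε, ε', LinearMap.coprod_apply] using this
  have hεQ : ∀ x, ε x ∈ Q := fun x => (s x).1.2
  have hε'C : ∀ x, ε' x ∈ C := fun x => (s x).2.2
  have hε' : ∀ x, ε' x = x - ε x := by
    intro x
    rw [eq_sub_iff_add_eq, add_comm]
    exact hsum x
  have h0 : ∀ x, ε (ε x) - ε x ∈ I • (⊤ : Submodule W P) := by
    intro x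
    have h1 : ε (ε x) - ε x = -ε' (ε x) := by
      rw [hε']
      abel
    rw [h1, neg_mem_iff, ← hQC']
    refine ⟨?_, hε'C _⟩
    rw [hε']
    exact sub_mem (hεQ _) (hεQ _)
  obtain ⟨e, he, heε⟩ := AdicProj.exists_idempotent_lift I ε h0
  have hidem : IsIdempotentElem e := LinearMap.ext (fun x => he x)
  refine ⟨LinearMap.range e, LinearMap.ker e, LinearMap.IsIdempotentElem.isCompl hidem, ?_⟩
  apply le_antisymm
  · intro q hq
    have hker : q - e q ∈ LinearMap.ker e := by
      rw [LinearMap.mem_ker, map_sub, he, sub_self]
    have hu : q - e q ∈ I • (⊤ : Submodule W P) := by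
      have h1 : q - ε q ∈ I • (⊤ : Submodule W P) := by
        rw [← hQC']
        refine ⟨sub_mem hq (hεQ _), ?_⟩
        rw [← hε']
        exact hε'C _
      have : q - e q = (q - ε q) - (e q - ε q) := by abel
      rw [this]
      exact sub_mem h1 (heε q)
    have hu2 : q - e q ∈ I • LinearMap.ker e := by
      have h2 : (1 - e) (q - e q) = q - e q := by
        rw [LinearMap.sub_apply, Module.End.one_apply, LinearMap.mem_ker.mp hker, sub_zero]
      have h3 : (I • (⊤ : Submodule W P)).map (1 - e) ≤ I • LinearMap.ker e := by
        rw [Submodule.map_smul'']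
        apply Submodule.smul_mono le_rfl
        rintro _ ⟨y, _, rfl⟩
        rw [LinearMap.mem_ker, LinearMap.sub_apply, Module.End.one_apply, map_sub, he, sub_self]
      rw [← h2]
      exact h3 ⟨_, hu, rfl⟩
    have : q = e q + (q - e q) := by abel
    rw [this]
    exact Submodule.add_mem_sup ⟨q, rfl⟩ hu2
  · apply sup_le
    · rintro _ ⟨x, rfl⟩
      have : e x = ε x + (e x - ε x) := by abel
      rw [this]
      exact add_mem (hεQ x) (hIQ (heε x))
    · exact le_trans (Submodule.smul_mono le_rfl le_top) hIQ

/-- Let p be a prime and R a commutative ring which is complete and separated for the p-adic topology;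
write W = W(R) for the p-typical Witt vectors and I for the ideal of W generated by the image of the
Verschiebung. Let P be a finitely generated projective W-module and Q a submodule of P which admits
a complement modulo I·P, that is a submodule C with Q + C = P and Q ∩ C = I·P (equivalently I·P ⊆ Q
and the graded pieces P/Q and Q/I·P of the filtration I·P ⊆ Q ⊆ P are finitely generated projective
R-modules). Then there is a direct sum decomposition P = L ⊕ T by submodules with Q = L + I·T, so
that together with any Frobenius-semilinear operators F and V⁻¹ satisfying the remaining axioms the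
pair (P, Q) underlies a 3n-display. -/
theorem result (p : ℕ) [Fact p.Prime] (R : Type u) [CommRing R]
    [IsAdicComplete (Ideal.span {(p : R)}) R]
    (P : Type v) [AddCommGroup P] [Module (WittVector p R) P]
    [Module.Finite (WittVector p R) P] [Module.Projective (WittVector p R) P]
    (Q : Submodule (WittVector p R) P)
    (hQ : ∃ C : Submodule (WittVector p R) P,
      Q ⊔ C = ⊤ ∧ Q ⊓ C = W4c1extbt610.IV p R • (⊤ : Submodule (WittVector p R) P)) :
    ∃ L T : Submodule (WittVector p R) P, IsCompl L T ∧ Q = L ⊔ W4c1extbt610.IV p R • T := by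
  obtain ⟨C, hQC, hQC'⟩ := hQ
  haveI : IsAdicComplete (W4c1extbt610.IV p R) (WittVector p R) := by
    have := (S14855.result p R).2
    rwa [S16538.ker_constantCoeff] at this
  exact normal_decomp (W4c1extbt610.IV p R) Q C hQC hQC'

end Groth.Agent.S14858
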