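import Groth.Statements.S14859
import Mathlib.RingTheory.OrzechProperty
import Mathlib.LinearAlgebra.Projection
import Mathlib.LinearAlgebra.Basis.Prod
-- import your own Groth.Agent.* helpers here

set_option autoImplicit false
universe u v w
open Disp

namespace Groth.Agent.S14859


section aux
variable (p : ℕ) [Fact p.Prime] (R : Type u) [CommRing R]

/-- Every element of the ideal `IV` is a Verschiebung. -/
theorem exists_verschiebung_of_mem_IV (a : WittVector p R) (ha : a ∈ W4c1extbt610.IV p R) :
    ∃ u : WittVector p R, a = WittVector.verschiebung u := by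
  unfold W4c1extbt610.IV at ha
  induction ha using Submodule.span_induction with
  | mem x hx => obtain ⟨u, rfl⟩ := hx; exact ⟨u, rfl⟩
  | zero => exact ⟨0, (map_zero _).symm⟩
  | add x y _ _ hx hy =>
    obtain ⟨u, rfl⟩ := hx
    obtain ⟨v, rfl⟩ := hy
    exact ⟨u + v, (map_add _ _ _).symm⟩
  | smul w x _ hx =>
    obtain ⟨u, rfl⟩ := hx
    refine ⟨u * WittVector.frobenius w, ?_⟩
    rw [WittVector.verschiebung_mul_frobenius, smul_eq_mul, mul_comm]

end aux

/-- Let p be a prime, R a commutative ring with p-typical Witt vectors W = W(R), and (P, Q, F, V⁻¹) a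
3n-display over R with a normal decomposition P = L ⊕ T, Q = L + I_R·T. Then V⁻¹ ⊕ F : L ⊕ T → P is
a Frobenius-linear isomorphism; stated here in the case where L and T are free with bases (l_i) and
(t_j): the family consisting of the V⁻¹(l_i) and the F(t_j) is a basis of the W-module P, i.e. it is
linearly independent over W and spans P. -/
theorem result (p : ℕ) [Fact p.Prime] (R : Type u) [CommRing R]
    (P : Type v) [AddCommGroup P] [Module (WittVector p R) P] (D : W4c1extbt610.Display3n p R P)
    (L T : Submodule (WittVector p R) P) (hLT : IsCompl L T)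
    (hQ : D.Q = L ⊔ W4c1extbt610.IV p R • T) (hLQ : L ≤ D.Q)
    (ιL ιT : Type w) (bL : Module.Basis ιL (WittVector p R) L) (bT : Module.Basis ιT (WittVector p R) T) :
    LinearIndependent (WittVector p R)
        (Sum.elim (fun i : ιL => D.Vinv ⟨(bL i : P), hLQ (bL i).2⟩) (fun j : ιT => D.F (bT j : P))) ∧
      Submodule.span (WittVector p R)
        (Set.range (Sum.elim (fun i : ιL => D.Vinv ⟨(bL i : P), hLQ (bL i).2⟩) (fun j : ιT => D.F (bT j : P)))) = ⊤ := by
  classical
  have : Module.Finite (WittVector p R) P := D.finite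
  set v : ιL ⊕ ιT → P :=
    Sum.elim (fun i : ιL => D.Vinv ⟨(bL i : P), hLQ (bL i).2⟩) (fun j : ιT => D.F (bT j : P)) with hv
  set S : Submodule (WittVector p R) P := Submodule.span (WittVector p R) (Set.range v) with hS
  -- `F t ∈ S` for `t ∈ T`
  have hF : ∀ t : T, D.F (t : P) ∈ S := by
    intro t
    have hle : (⊤ : Submodule (WittVector p R) T) ≤ S.comap (D.F.comp T.subtype) := by
      rw [← bT.span_eq, Submodule.span_le]
      rintro _ ⟨j, rfl⟩
      exact Submodule.subset_span ⟨Sum.inr j, rfl⟩
    exact hle (Submodule.mem_top (x := t))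
  -- `Vinv l ∈ S` for `l ∈ L`
  have hL : ∀ l : L, D.Vinv ⟨(l : P), hLQ l.2⟩ ∈ S := by
    intro l
    have hle : (⊤ : Submodule (WittVector p R) L) ≤ S.comap (D.Vinv.comp (Submodule.inclusion hLQ)) := by
      rw [← bL.span_eq, Submodule.span_le]
      rintro _ ⟨i, rfl⟩
      exact Submodule.subset_span ⟨Sum.inl i, rfl⟩
    exact hle (Submodule.mem_top (x := l))
  have hIT : W4c1extbt610.IV p R • T ≤ D.Q :=
    (Submodule.smul_mono le_rfl le_top).trans D.IV_smul_le
  -- `Vinv t' ∈ S` for `t' ∈ IV • T`
  have hT : ∀ (t' : P) (ht' : t' ∈ W4c1extbt610.IV p R • T), D.Vinv ⟨t', hIT ht'⟩ ∈ S := by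
    intro t' ht'
    induction ht' using Submodule.smul_induction_on' with
    | smul r hr n hn =>
      obtain ⟨u, rfl⟩ := exists_verschiebung_of_mem_IV p R r hr
      have := D.Vinv_verschiebung_smul u n
      rw [this]
      exact S.smul_mem u (hF ⟨n, hn⟩)
    | add x hx y hy ihx ihy =>
      have : (⟨x + y, hIT (add_mem hx hy)⟩ : D.Q) = ⟨x, hIT hx⟩ + ⟨y, hIT hy⟩ := rfl
      rw [this, map_add]
      exact S.add_mem ihx ihy
  have hspan : S = ⊤ := by
    rw [eq_top_iff, ← D.span_range_Vinv, Submodule.span_le]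
    rintro _ ⟨q, rfl⟩
    have hq : (q : P) ∈ L ⊔ W4c1extbt610.IV p R • T := hQ ▸ q.2
    obtain ⟨l, hl, t', ht', hlt⟩ := Submodule.mem_sup.mp hq
    have : q = ⟨l, hLQ hl⟩ + ⟨t', hIT ht'⟩ := Subtype.ext hlt.symm
    rw [this, map_add]
    exact S.add_mem (hL ⟨l, hl⟩) (hT t' ht')
  refine ⟨?_, hspan⟩
  -- linear independence via Orzech
  let b : Module.Basis (ιL ⊕ ιT) (WittVector p R) P :=
    (bL.prod bT).map (Submodule.prodEquivOfIsCompl L T hLT)
  let f : P →ₗ[WittVector p R] P := b.constr (WittVector p R) v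
  have hfsurj : Function.Surjective f := by
    rw [← LinearMap.range_eq_top, Module.Basis.constr_range, ← hS, hspan]
  have hfinj : Function.Injective f := OrzechProperty.injective_of_surjective_endomorphism f hfsurj
  have hfb : v = f ∘ b := by
    funext i
    exact (b.constr_basis (WittVector p R) v i).symm
  rw [hfb]
  exact b.linearIndependent.map' f (LinearMap.ker_eq_bot.mpr hfinj)

end Groth.Agent.S14859
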