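import Groth.Statements.S14860
import Groth.Statements.S14860
import Groth.Agent.S14855
import Groth.Agent.Lib.Helper60.AdicProj
import Groth.Agent.Lib.Helper60.DieuFibre

set_option autoImplicit false
set_option maxHeartbeats 400000
universe u v
open CAlg

namespace Groth.Agent.S14860

open Groth.Agent.Lib.Helper60 Groth.Agent.Lib.Helper60.AdicProj
open Groth.Agent.Lib.Helper60.WittComplete

section aux

variable {p : ℕ} [hp : Fact p.Prime] {R : Type u} [CommRing R]

/-- the ideal of Witt vectors whose first `n` components vanish -/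
noncomputable abbrev In (p : ℕ) [Fact p.Prime] (R : Type u) [CommRing R] (n : ℕ) :
    Ideal (WittVector p R) :=
  RingHom.ker (WittVector.truncate (p := p) (R := R) n)

theorem mem_In (n : ℕ) (x : WittVector p R) : x ∈ In p R n ↔ ∀ i < n, x.coeff i = 0 :=
  WittVector.mem_ker_truncate n x

theorem In_anti {m n : ℕ} (h : m ≤ n) : In p R n ≤ In p R m := by
  intro x hx
  rw [mem_In] at hx ⊢
  exact fun i hi => hx i (by omega)

theorem In_one : In p R 1 = RingHom.ker (WittVector.constantCoeff : WittVector p R →+* R) := by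
  ext x
  rw [mem_In, RingHom.mem_ker]
  constructor
  · intro h
    exact h 0 (by omega)
  · intro h i hi
    obtain rfl : i = 0 := by omega
    exact h

theorem eq_zero_of_forall_mem_In (x : WittVector p R) (h : ∀ n, x ∈ In p R n) : x = 0 := by
  ext i
  rw [WittVector.zero_coeff]
  exact (mem_In (i + 1) x).mp (h (i + 1)) i (by omega)

/-- congruence mod `I_n` means equal first `n` coefficients -/
theorem sub_mem_In_iff (n : ℕ) (x y : WittVector p R) :
    x - y ∈ In p R n ↔ ∀ i < n, x.coeff i = y.coeff i := by
  rw [In, RingHom.mem_ker, map_sub, sub_eq_zero, TruncatedWittVector.ext_iff]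
  constructor
  · intro h i hi
    have := h ⟨i, hi⟩
    simpa using this
  · intro h i
    simpa using h i i.2

variable (hpR : IsNilpotent (p : R))

include hpR in
theorem complete_In_one : IsAdicComplete (In p R 1) (WittVector p R) := by
  obtain ⟨N, hN⟩ := hpR
  haveI : IsAdicComplete (Ideal.span {(p : R)}) R :=
    isAdicComplete_of_nilpotent _ N (by
      rw [Ideal.span_singleton_pow, hN]
      exact Ideal.span_singleton_eq_bot.mpr rfl)
  rw [In_one]
  exact (S14855.result p R).2

include hpR in
/-- `I_1` is nilpotent modulo `I_n` -/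
theorem exists_pow_le (n : ℕ) : ∃ m, In p R 1 ^ m ≤ In p R n := by
  obtain ⟨c, hc⟩ := hpR
  refine ⟨n + c + 1, ?_⟩
  rw [In_one]
  refine le_trans (S14855.IR_pow_le p (n + c)) ?_
  refine le_trans Ideal.mul_le_left ?_
  rw [Ideal.span_le]
  rintro _ rfl
  rw [SetLike.mem_coe, mem_In]
  intro i hi
  have h1 := coeff_p_pow (R := R) p (n + c) i (by omega)
  have h2 : Ideal.span {(p : R) ^ (n + c - i)} = ⊥ := by
    rw [Ideal.span_singleton_eq_bot]
    have : n + c - i = c + (n - i) := by omega
    rw [this, pow_add, hc, zero_mul]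
  rw [h2, Ideal.mem_bot] at h1
  exact h1

end aux

section tools

variable {p : ℕ} [hp : Fact p.Prime] {R : Type u} [CommRing R]

theorem In_zero : In p R 0 = ⊤ := by
  rw [eq_top_iff]
  intro x _
  rw [mem_In]
  intro i hi
  omega

/-- completeness of `W^k` for the filtration by the `I_n` -/
theorem exists_limit (k : ℕ) (x : ℕ → (Fin k → WittVector p R))
    (hx : ∀ n, x (n + 1) - x n ∈
      In p R n • (⊤ : Submodule (WittVector p R) (Fin k → WittVector p R))) :
    ∃ y : Fin k → WittVector p R, ∀ n, y - x n ∈
      In p R n • (⊤ : Submodule (WittVector p R) (Fin k → WittVector p R)) := by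
  classical
  have h1 : ∀ n d a, x (n + d) a - x n a ∈ In p R n := by
    intro n d a
    induction d with
    | zero => simp
    | succ d ih =>
      have h2 := (pi_mem_smul_top_iff _ _).mp (hx (n + d)) a
      have h3 : x (n + (d + 1)) a - x n a =
          (x (n + d + 1) - x (n + d)) a + (x (n + d) a - x n a) := by
        simp only [Pi.sub_apply]
        rw [← add_assoc]
        ring
      rw [h3]
      exact add_mem (In_anti (by omega) h2) ih
  refine ⟨fun a => WittVector.mk p (fun i => (x (i + 1) a).coeff i), fun n => ?_⟩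
  rw [pi_mem_smul_top_iff]
  intro a
  rw [Pi.sub_apply, sub_mem_In_iff]
  intro i hi
  rw [WittVector.coeff_mk]
  obtain ⟨d, rfl⟩ := Nat.exists_eq_add_of_le (show i + 1 ≤ n by omega)
  exact ((sub_mem_In_iff (i + 1) _ _).mp (h1 (i + 1) d a) i (by omega)).symm

/-- nilpotent Nakayama -/
theorem sup_pow_smul_top {A M : Type*} [CommRing A] [AddCommGroup M] [Module A M] (I : Ideal A)
    (N : Submodule A M) (h : N ⊔ I • (⊤ : Submodule A M) = ⊤) (m : ℕ) :
    N ⊔ I ^ m • (⊤ : Submodule A M) = ⊤ := by
  induction m with
  | zero => simp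
  | succ m ih =>
    have h1 : I ^ m • (⊤ : Submodule A M) ≤ N ⊔ I ^ (m + 1) • (⊤ : Submodule A M) := by
      calc I ^ m • (⊤ : Submodule A M) = I ^ m • (N ⊔ I • (⊤ : Submodule A M)) := by rw [h]
        _ = I ^ m • N ⊔ I ^ m • (I • (⊤ : Submodule A M)) := Submodule.smul_sup _ _ _
        _ ≤ N ⊔ I ^ (m + 1) • (⊤ : Submodule A M) := by
          apply sup_le_sup Submodule.smul_le_right
          rw [← Submodule.mul_smul, ← pow_succ]
    rw [eq_top_iff]
    calc (⊤ : Submodule A M) = N ⊔ I ^ m • (⊤ : Submodule A M) := ih.symm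
      _ ≤ N ⊔ I ^ (m + 1) • (⊤ : Submodule A M) := sup_le le_sup_left h1

/-- reduction modulo an ideal on `A^k` -/
noncomputable def red {A : Type*} [CommRing A] (I : Ideal A) (k : ℕ) :
    (Fin k → A) →ₗ[A] (Fin k → A ⧸ I) :=
  LinearMap.pi (fun a => (Algebra.linearMap A (A ⧸ I)) ∘ₗ LinearMap.proj a)

theorem red_apply {A : Type*} [CommRing A] (I : Ideal A) (k : ℕ) (x : Fin k → A) (a : Fin k) :
    red I k x a = Ideal.Quotient.mk I (x a) := rfl

theorem red_surjective {A : Type*} [CommRing A] (I : Ideal A) (k : ℕ) :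
    Function.Surjective (red I k) := by
  intro y
  choose x hx using fun a => Ideal.Quotient.mk_surjective (y a)
  exact ⟨x, funext hx⟩

theorem red_eq_zero_iff {A : Type*} [CommRing A] (I : Ideal A) (k : ℕ) (x : Fin k → A) :
    red I k x = 0 ↔ x ∈ I • (⊤ : Submodule A (Fin k → A)) := by
  classical
  rw [pi_mem_smul_top_iff]
  constructor
  · intro h a
    have := congrFun h a
    rw [red_apply, Pi.zero_apply, Ideal.Quotient.eq_zero_iff_mem] at this
    exact this
  · intro h
    funext a
    rw [red_apply, Pi.zero_apply, Ideal.Quotient.eq_zero_iff_mem]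
    exact h a

end tools

section backward

variable {p : ℕ} [hp : Fact p.Prime] {R : Type u} [CommRing R]
variable {P : Type v} [AddCommGroup P] [Module (WittVector p R) P]

theorem backward (hpR : IsNilpotent (p : R))
    (hsep : (⨅ n : ℕ, (In p R n • (⊤ : Submodule (WittVector p R) P))) = ⊥)
    (hfin : ∀ n : ℕ, Module.Finite (WittVector p R ⧸ In p R n)
      (P ⧸ (In p R n • (⊤ : Submodule (WittVector p R) P))))
    (hproj : ∀ n : ℕ, Module.Projective (WittVector p R ⧸ In p R n)
      (P ⧸ (In p R n • (⊤ : Submodule (WittVector p R) P)))) :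
    Module.Finite (WittVector p R) P ∧ Module.Projective (WittVector p R) P := by
  classical
  haveI hcomp : IsAdicComplete (In p R 1) (WittVector p R) := complete_In_one hpR
  set I : Ideal (WittVector p R) := In p R 1 with hI
  set IP : Submodule (WittVector p R) P := I • (⊤ : Submodule (WittVector p R) P) with hIP
  haveI := hfin 1
  haveI := hproj 1
  -- generators of P / I P
  obtain ⟨k, rbar, hrbar⟩ := Module.Finite.exists_fin' (WittVector p R ⧸ I) (P ⧸ IP)
  obtain ⟨ibar, hibar⟩ := Module.projective_lifting_property rbar LinearMap.id hrbar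
  have hri : ∀ y, rbar (ibar y) = y := fun y => LinearMap.congr_fun hibar y
  set F := Fin k → WittVector p R with hF
  set rd : F →ₗ[WittVector p R] (Fin k → WittVector p R ⧸ I) := red I k with hrd
  set ebar : (Fin k → WittVector p R ⧸ I) →ₗ[WittVector p R] (Fin k → WittVector p R ⧸ I) :=
    (ibar ∘ₗ rbar).restrictScalars (WittVector p R) with hebar
  have hebar_apply : ∀ y, ebar y = ibar (rbar y) := fun y => rfl
  -- lift to ε
  obtain ⟨ε, hε⟩ := Module.projective_lifting_property rd (ebar ∘ₗ rd) (red_surjective I k)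
  have hε' : ∀ x, rd (ε x) = ibar (rbar (rd x)) := fun x => LinearMap.congr_fun hε x
  have h0 : ∀ x, ε (ε x) - ε x ∈ I • (⊤ : Submodule (WittVector p R) F) := by
    intro x
    rw [← red_eq_zero_iff, ← hrd, map_sub, hε', hε', hri, sub_self]
  haveI : IsAdicComplete I F := isAdicComplete_pi I (Fin k)
  obtain ⟨e, he, heε⟩ := exists_idempotent_lift I ε h0
  have hrde : ∀ x, rd (e x) = ibar (rbar (rd x)) := by
    intro x
    rw [← hε', ← sub_eq_zero, ← map_sub, hrd, red_eq_zero_iff]
    exact heε x
  -- the map ρ
  set q : P →ₗ[WittVector p R] (P ⧸ IP) := IP.mkQ with hq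
  obtain ⟨ρ₀, hρ₀⟩ := Module.projective_lifting_property q
    ((rbar.restrictScalars (WittVector p R)) ∘ₗ rd) (Submodule.mkQ_surjective IP)
  have hρ₀' : ∀ x, q (ρ₀ x) = rbar (rd x) := fun x => LinearMap.congr_fun hρ₀ x
  set ρ : F →ₗ[WittVector p R] P := ρ₀ ∘ₗ e with hρ
  have hρe : ∀ x, ρ (e x) = ρ x := by
    intro x
    rw [hρ, LinearMap.comp_apply, LinearMap.comp_apply, he]
  have hqρ : ∀ x, q (ρ x) = rbar (rd x) := by
    intro x
    rw [hρ, LinearMap.comp_apply, hρ₀', hrde, hri]
  -- Step 3
  have hS1 : LinearMap.range ρ ⊔ I • (⊤ : Submodule (WittVector p R) P) = ⊤ := by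
    rw [eq_top_iff]
    intro y _
    obtain ⟨x', hx'⟩ := hrbar (q y)
    obtain ⟨x, rfl⟩ := red_surjective I k x'
    have h1 : y - ρ x ∈ IP := by
      rw [← Submodule.ker_mkQ IP, LinearMap.mem_ker, map_sub, ← hq, hqρ, hx', sub_self]
    have h2 : y = ρ x + (y - ρ x) := by abel
    rw [h2]
    exact Submodule.add_mem_sup ⟨x, rfl⟩ h1
  -- Step 4
  have hSn : ∀ n, LinearMap.range ρ ⊔ In p R n • (⊤ : Submodule (WittVector p R) P) = ⊤ := by
    intro n
    obtain ⟨m, hm⟩ := exists_pow_le hpR n
    rw [eq_top_iff]
    calc (⊤ : Submodule (WittVector p R) P)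
        = LinearMap.range ρ ⊔ I ^ m • (⊤ : Submodule (WittVector p R) P) :=
          (sup_pow_smul_top I _ hS1 m).symm
      _ ≤ LinearMap.range ρ ⊔ In p R n • (⊤ : Submodule (WittVector p R) P) :=
          sup_le_sup le_rfl (Submodule.smul_mono hm le_rfl)
  -- Step 5: ρ is surjective
  have hstep : ∀ n, ∀ w ∈ In p R n • (⊤ : Submodule (WittVector p R) P),
      ∃ z ∈ In p R n • (⊤ : Submodule (WittVector p R) F),
        w - ρ z ∈ In p R (n + 1) • (⊤ : Submodule (WittVector p R) P) := by
    intro n w hw
    refine Submodule.smul_induction_on hw ?_ ?_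
    · intro c hc m _
      have hm : m ∈ LinearMap.range ρ ⊔
          In p R (n + 1) • (⊤ : Submodule (WittVector p R) P) := by
        rw [hSn (n + 1)]
        exact Submodule.mem_top
      obtain ⟨_, ⟨f, rfl⟩, w', hw', rfl⟩ := Submodule.mem_sup.mp hm
      refine ⟨c • f, Submodule.smul_mem_smul hc Submodule.mem_top, ?_⟩
      rw [map_smul, smul_add, add_sub_cancel_left]
      exact Submodule.smul_mem _ _ hw'
    · rintro a b ⟨za, hza, ha⟩ ⟨zb, hzb, hb⟩
      refine ⟨za + zb, add_mem hza hzb, ?_⟩
      have : a + b - ρ (za + zb) = (a - ρ za) + (b - ρ zb) := by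
        rw [map_add]
        abel
      rw [this]
      exact add_mem ha hb
  have hsurj : Function.Surjective ρ := by
    intro y
    have hstep' : ∀ n (x : F), y - ρ x ∈ In p R n • (⊤ : Submodule (WittVector p R) P) →
        ∃ z ∈ In p R n • (⊤ : Submodule (WittVector p R) F),
          y - ρ (x + z) ∈ In p R (n + 1) • (⊤ : Submodule (WittVector p R) P) := by
      intro n x hx
      obtain ⟨z, hz, hz'⟩ := hstep n _ hx
      refine ⟨z, hz, ?_⟩
      have : y - ρ (x + z) = y - ρ x - ρ z := by
        rw [map_add]
        abel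
      rw [this]
      exact hz'
    choose zf hzf hzf' using hstep'
    let sq : (n : ℕ) → {x : F // y - ρ x ∈ In p R n • (⊤ : Submodule (WittVector p R) P)} :=
      fun n => Nat.rec ⟨0, by rw [In_zero, Submodule.top_smul]; exact Submodule.mem_top⟩
        (fun n xn => ⟨xn.1 + zf n xn.1 xn.2, hzf' n xn.1 xn.2⟩) n
    have hsq : ∀ n, (sq (n + 1)).1 - (sq n).1 ∈
        In p R n • (⊤ : Submodule (WittVector p R) F) := by
      intro n
      show (sq n).1 + zf n (sq n).1 (sq n).2 - (sq n).1 ∈ _
      rw [add_sub_cancel_left]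
      exact hzf n _ _
    obtain ⟨x, hx⟩ := exists_limit k (fun n => (sq n).1) hsq
    refine ⟨x, ?_⟩
    have h1 : ρ x - y ∈ (⨅ n : ℕ, (In p R n • (⊤ : Submodule (WittVector p R) P))) := by
      rw [Submodule.mem_iInf]
      intro n
      have h2 : ρ x - y = ρ (x - (sq n).1) - (y - ρ (sq n).1) := by
        rw [map_sub]
        abel
      rw [h2]
      exact sub_mem (map_mem_smul_top _ ρ _ (hx n)) (sq n).2
    rw [hsep, Submodule.mem_bot, sub_eq_zero] at h1
    exact h1
  haveI hPfin : Module.Finite (WittVector p R) P := Module.Finite.of_surjective ρ hsurj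
  refine ⟨hPfin, ?_⟩
  -- Step 6a
  have h6a : ∀ x, e x = x → ρ x = 0 → x ∈ I • (⊤ : Submodule (WittVector p R) F) := by
    intro x hex hρx
    rw [← red_eq_zero_iff]
    have h1 : rbar (rd x) = 0 := by rw [← hqρ, hρx, map_zero]
    show rd x = 0
    rw [← hex, hrde, h1, map_zero]
  -- Step 6b
  have h6b : ∀ n x, e x = x → ρ x = 0 →
      x ∈ In p R n • (⊤ : Submodule (WittVector p R) F) := by
    intro n x hex hρx
    rcases n with _ | n
    · rw [In_zero, Submodule.top_smul]
      exact Submodule.mem_top
    set J : Ideal (WittVector p R) := In p R (n + 1) with hJ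
    set JF : Submodule (WittVector p R) F := J • (⊤ : Submodule (WittVector p R) F) with hJF
    set JP : Submodule (WittVector p R) P := J • (⊤ : Submodule (WittVector p R) P) with hJP
    haveI := hfin (n + 1)
    haveI := hproj (n + 1)
    have hle : JF ≤ JP.comap ρ := fun z hz => map_mem_smul_top J ρ z hz
    let g0 : (F ⧸ JF) →ₗ[WittVector p R] (P ⧸ JP) := Submodule.mapQ JF JP ρ hle
    let g : (F ⧸ JF) →ₗ[WittVector p R ⧸ J] (P ⧸ JP) :=
      LinearMap.extendScalarsOfSurjective Ideal.Quotient.mk_surjective g0
    have hg : ∀ z : F, g (JF.mkQ z) = JP.mkQ (ρ z) := fun z => rfl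
    have hgsurj : Function.Surjective g := by
      intro y
      obtain ⟨y, rfl⟩ := JP.mkQ_surjective y
      obtain ⟨z, rfl⟩ := hsurj y
      exact ⟨JF.mkQ z, rfl⟩
    obtain ⟨t, ht⟩ := Module.projective_lifting_property g LinearMap.id hgsurj
    have ht' : ∀ y, g (t y) = y := fun y => LinearMap.congr_fun ht y
    obtain ⟨u, hu⟩ := Module.projective_lifting_property JF.mkQ
      ((t.restrictScalars (WittVector p R)) ∘ₗ JP.mkQ ∘ₗ ρ) (JF.mkQ_surjective)
    have hu' : ∀ z, JF.mkQ (u z) = t (JP.mkQ (ρ z)) := fun z => LinearMap.congr_fun hu z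
    have hua : ∀ z, ρ z = 0 → u z ∈ JF := by
      intro z hz
      rw [← Submodule.ker_mkQ JF, LinearMap.mem_ker, hu', hz, map_zero, map_zero]
    have hub : ∀ z, ρ (z - u z) ∈ JP := by
      intro z
      rw [← Submodule.ker_mkQ JP, LinearMap.mem_ker, map_sub, map_sub, ← hg (u z), hu', ht',
        sub_self]
    set v : Module.End (WittVector p R) F := e ∘ₗ (LinearMap.id - u) with hv
    have hv_apply : ∀ y, v y = e (y - u y) := fun y => rfl
    have hv1 : ∀ y, v y ∈ I • (⊤ : Submodule (WittVector p R) F) := by
      intro y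
      have hw : ρ (y - u y) ∈ JP := hub y
      have hJPmap : JP = JF.map ρ := by
        rw [hJF, Submodule.map_smul'', Submodule.map_top, LinearMap.range_eq_top.mpr hsurj]
      rw [hJPmap] at hw
      obtain ⟨ι, hι, hιw⟩ := hw
      have hκ : ρ (y - u y - ι) = 0 := by rw [map_sub, hιw, sub_self]
      have h1 : e (y - u y - ι) ∈ I • (⊤ : Submodule (WittVector p R) F) :=
        h6a (e (y - u y - ι)) (he _) (by rw [hρe, hκ])
      have h2 : e ι ∈ I • (⊤ : Submodule (WittVector p R) F) :=
        Submodule.smul_mono (In_anti (by omega)) le_rfl (map_mem_smul_top J e ι hι)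
      have h3 : v y = e (y - u y - ι) + e ι := by
        rw [hv_apply, ← map_add, sub_add_cancel]
      rw [h3]
      exact add_mem h1 h2
    have hv2 : v x - x ∈ JF := by
      have h1 : v x - x = - e (u x) := by
        rw [hv_apply, map_sub, hex, sub_sub_cancel_left]
      rw [h1, neg_mem_iff]
      exact map_mem_smul_top J e _ (hua x hρx)
    have hiter1 : ∀ m : ℕ, (v ^ m) x - x ∈ JF := by
      intro m
      induction m with
      | zero =>
        rw [pow_zero, Module.End.one_apply, sub_self]
        exact zero_mem _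
      | succ m ih =>
        have h1 : (v ^ (m + 1)) x - x = v ((v ^ m) x - x) + (v x - x) := by
          rw [pow_succ', Module.End.mul_apply, map_sub, sub_add_sub_cancel]
        rw [h1]
        exact add_mem (map_mem_smul_top J v _ ih) hv2
    have hiter2 : ∀ (m : ℕ) (y : F), (v ^ m) y ∈
        I ^ m • (⊤ : Submodule (WittVector p R) F) := by
      intro m
      induction m with
      | zero =>
        intro y
        rw [pow_zero, Ideal.one_eq_top, Submodule.top_smul]
        exact Submodule.mem_top
      | succ m ih =>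
        intro y
        have hvs : (v ^ (m + 1)) y = v ((v ^ m) y) := by
          rw [pow_succ', Module.End.mul_apply]
        rw [hvs]
        have h1 := map_mem_smul_smul (I ^ m) I v hv1 _ (ih y)
        rwa [← pow_succ] at h1
    obtain ⟨m, hm⟩ := exists_pow_le hpR (n + 1)
    have h1 : x = (v ^ m) x - ((v ^ m) x - x) := (sub_sub_cancel _ _).symm
    rw [h1]
    exact sub_mem (Submodule.smul_mono hm le_rfl (hiter2 m x)) (hiter1 m)
  -- Step 6c
  have h6 : ∀ x, e x = x → ρ x = 0 → x = 0 := by
    intro x hex hρx
    funext a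
    apply eq_zero_of_forall_mem_In
    intro n
    exact (pi_mem_smul_top_iff _ _).mp (h6b n x hex hρx) a
  -- Step 7
  have hex : ∀ x : LinearMap.range e, e (x : F) = x := by
    rintro ⟨_, y, rfl⟩
    exact he y
  have hsplit : e.rangeRestrict ∘ₗ (LinearMap.range e).subtype = LinearMap.id := by
    apply LinearMap.ext
    intro x
    apply Subtype.ext
    exact hex x
  haveI : Module.Projective (WittVector p R) (LinearMap.range e) :=
    Module.Projective.of_split _ _ hsplit
  let φ : LinearMap.range e →ₗ[WittVector p R] P := ρ ∘ₗ (LinearMap.range e).subtype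
  have hφbij : Function.Bijective φ := by
    constructor
    · rw [injective_iff_map_eq_zero]
      intro x hx
      apply Subtype.ext
      exact h6 (x : F) (hex x) hx
    · intro y
      obtain ⟨x, rfl⟩ := hsurj y
      exact ⟨⟨e x, x, rfl⟩, hρe x⟩
  exact Module.Projective.of_equiv (LinearEquiv.ofBijective φ hφbij)

end backward

section forward

variable {p : ℕ} [hp : Fact p.Prime] {R : Type u} [CommRing R]
variable {P : Type v} [AddCommGroup P] [Module (WittVector p R) P]

theorem forward_sep [Module.Finite (WittVector p R) P] [Module.Projective (WittVector p R) P] :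
    (⨅ n : ℕ, (In p R n • (⊤ : Submodule (WittVector p R) P))) = ⊥ := by
  classical
  obtain ⟨k, r, hr⟩ := Module.Finite.exists_fin' (WittVector p R) P
  obtain ⟨i, hi⟩ := Module.projective_lifting_property r LinearMap.id hr
  have hri : ∀ y, r (i y) = y := fun y => LinearMap.congr_fun hi y
  rw [eq_bot_iff]
  intro x hx
  rw [Submodule.mem_iInf] at hx
  rw [Submodule.mem_bot, ← hri x]
  have : i x = 0 := by
    funext a
    apply eq_zero_of_forall_mem_In
    intro n
    exact (pi_mem_smul_top_iff _ _).mp (map_mem_smul_top _ i x (hx n)) a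
  rw [this, map_zero]

end forward

/-- Let p be a prime and R a commutative ring in which p is nilpotent; write W = W(R) for the p-typical
Witt vectors and, for n ≥ 0, I_n ⊆ W for the ideal of Witt vectors whose first n components vanish
(the kernel of the truncation W → W_n(R), so W/I_n = W_n(R)). For a W-module P conditions (i) and
(ii) below are equivalent: (i) P is a projective W-module of finite type; (ii) P is separated for
the filtration by the submodules I_n P, and for every n the W_n(R)-module P/I_n P is finitely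
generated and projective. (The published statement is made for every ℤ_(p)-algebra R, the section's
standing convention; over R = ℚ, where W(ℚ) ≅ ℚ^ℕ by the ghost map, the module ⊕_ℕ ℚ satisfies (ii)
but is not finitely generated, and the published proof uses that I_1 is nilpotent in each W_n(R),
which holds when p is nilpotent in R; so p is taken nilpotent here. The third equivalent condition
of the published statement, freeness Zariski-locally on R, is not rendered.) -/
theorem result (p : ℕ) [Fact p.Prime] (R : Type u) [CommRing R]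
    (hp : IsNilpotent (p : R))
    (P : Type v) [AddCommGroup P] [Module (WittVector p R) P] :
    (Module.Finite (WittVector p R) P ∧ Module.Projective (WittVector p R) P) ↔
      ((⨅ n : ℕ, (RingHom.ker (WittVector.truncate (p := p) (R := R) n) • (⊤ : Submodule (WittVector p R) P))) = ⊥ ∧
        ∀ n : ℕ, Module.Finite (WittVector p R ⧸ RingHom.ker (WittVector.truncate (p := p) (R := R) n))
              (P ⧸ (RingHom.ker (WittVector.truncate (p := p) (R := R) n) • (⊤ : Submodule (WittVector p R) P))) ∧
            Module.Projective (WittVector p R ⧸ RingHom.ker (WittVector.truncate (p := p) (R := R) n))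
              (P ⧸ (RingHom.ker (WittVector.truncate (p := p) (R := R) n) • (⊤ : Submodule (WittVector p R) P)))) := by
  constructor
  · rintro ⟨hfin, hproj⟩
    refine ⟨forward_sep, fun n => ⟨inferInstance, ?_⟩⟩
    exact DieuFibre.projective_quotient_smul_top _
  · rintro ⟨hsep, h⟩
    exact backward hp hsep (fun n => (h n).1) (fun n => (h n).2)

end Groth.Agent.S14860
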