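import Groth.Statements.S14861
import Mathlib

set_option autoImplicit false
universe u
open CAlg


namespace Groth.Agent.S14861

open WittVector

variable {p : ℕ} [hp : Fact p.Prime] {R : Type u} [CommRing R]

lemma ghost_eq (x : WittVector p R) (n : ℕ) :
    WittVector.ghostComponent n x =
      ∑ i ∈ Finset.range (n+1), (p:R)^i * x.coeff i ^ p^(n-i) := by
  rw [WittVector.ghostComponent_apply, aeval_wittPolynomial]

lemma tf_pow (hR : ∀ y : R, (p : R) * y = 0 → y = 0) (n : ℕ) (y : R)
    (h : (p:R)^n * y = 0) : y = 0 := by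
  induction n with
  | zero => simpa using h
  | succ n ih =>
    apply ih
    apply hR
    rw [← mul_assoc, ← pow_succ']; exact h

/-- Lemma C -/
lemma dvd_of_pow_mul_dvd (hR : ∀ y : R, (p : R) * y = 0 → y = 0) {u s : ℕ} (hus : u ≤ s) {w : R}
    (h : (p:R)^s ∣ (p:R)^u * w) : (p:R)^(s-u) ∣ w := by
  obtain ⟨c, hc⟩ := h
  refine ⟨c, ?_⟩
  have : (p:R)^u * (w - (p:R)^(s-u) * c) = 0 := by
    rw [mul_sub, hc, ← mul_assoc, ← pow_add, Nat.add_sub_cancel' hus, sub_self]
  exact sub_eq_zero.mp (tf_pow hR u _ this)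

/-- Lemma A -/
lemma ghost_dvd_of_coeff_dvd {x : WittVector p R} {n s : ℕ}
    (h : ∀ i ≤ n, (p:R)^s ∣ x.coeff i) : (p:R)^s ∣ WittVector.ghostComponent n x := by
  rw [ghost_eq]
  apply Finset.dvd_sum
  intro i hi
  have hi' : i ≤ n := Nat.lt_succ_iff.mp (Finset.mem_range.mp hi)
  apply Dvd.dvd.mul_left
  exact (h i hi').trans (dvd_pow_self _ (pow_ne_zero _ hp.out.ne_zero))

/-- Lemma B -/
lemma coeff_dvd_of_ghost_dvd (hR : ∀ y : R, (p : R) * y = 0 → y = 0) {y : WittVector p R}
    {m s : ℕ} (hs : 1 ≤ s)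
    (h : ∀ n < m, (p:R)^(s+n) ∣ WittVector.ghostComponent n y) :
    ∀ n < m, (p:R)^s ∣ y.coeff n := by
  intro n
  induction n using Nat.strong_induction_on with
  | _ n ih =>
  intro hn
  have h1 := h n hn
  rw [ghost_eq, Finset.sum_range_succ, Nat.sub_self, pow_zero, pow_one] at h1
  have h2 : (p:R)^(s+n) ∣ ∑ i ∈ Finset.range n, (p:R)^i * y.coeff i ^ p^(n-i) := by
    apply Finset.dvd_sum
    intro i hi
    have hi' := Finset.mem_range.mp hi
    obtain ⟨c, hc⟩ := ih i hi' (hi'.trans hn)
    rw [hc, mul_pow, ← pow_mul, ← mul_assoc, ← pow_add]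
    apply Dvd.dvd.mul_right
    apply pow_dvd_pow
    have h3 : n - i + 1 ≤ p^(n-i) := (n-i).lt_pow_self hp.out.one_lt
    obtain ⟨k, rfl⟩ : ∃ k, n = i + k := ⟨n - i, by omega⟩
    simp only [Nat.add_sub_cancel_left] at h3 ⊢
    have h4 : s * (k+1) ≤ s * p^k := Nat.mul_le_mul_left _ h3
    have h5 : k ≤ s * k := Nat.le_mul_of_pos_left _ hs
    rw [Nat.mul_add] at h4
    omega
  have h3 : (p:R)^(s+n) ∣ (p:R)^n * y.coeff n := (dvd_add_right h2).mp h1
  have := dvd_of_pow_mul_dvd hR (Nat.le_add_left n s) h3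
  simpa using this

/-- reduction mod `p^s` and truncation to length `m`. -/
noncomputable def phi (p : ℕ) [Fact p.Prime] (R : Type u) [CommRing R] (m s : ℕ) :
    WittVector p R →+* TruncatedWittVector p m (R ⧸ Ideal.span {(p:R)^s}) :=
  (WittVector.truncate m).comp (WittVector.map (Ideal.Quotient.mk _))

lemma phi_coeff {m s : ℕ} (x : WittVector p R) (i : Fin m) :
    (phi p R m s x).coeff i = Ideal.Quotient.mk _ (x.coeff i) := by
  simp [phi, WittVector.coeff_truncate, WittVector.map_coeff]

lemma phi_eq_zero_iff {m s : ℕ} (x : WittVector p R) :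
    phi p R m s x = 0 ↔ ∀ i < m, (p:R)^s ∣ x.coeff i := by
  rw [TruncatedWittVector.ext_iff]
  constructor
  · intro h i hi
    have := h ⟨i, hi⟩
    rw [phi_coeff, TruncatedWittVector.coeff_zero, Ideal.Quotient.eq_zero_iff_mem,
      Ideal.mem_span_singleton] at this
    exact this
  · intro h i
    rw [phi_coeff, TruncatedWittVector.coeff_zero, Ideal.Quotient.eq_zero_iff_mem,
      Ideal.mem_span_singleton]
    exact h i i.2

lemma phi_eq_iff {m s : ℕ} (x y : WittVector p R) :
    phi p R m s x = phi p R m s y ↔ ∀ i < m, (p:R)^s ∣ x.coeff i - y.coeff i := by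
  rw [TruncatedWittVector.ext_iff]
  constructor
  · intro h i hi
    have := h ⟨i, hi⟩
    rw [phi_coeff, phi_coeff, Ideal.Quotient.eq, Ideal.mem_span_singleton] at this
    exact this
  · intro h i
    rw [phi_coeff, phi_coeff, Ideal.Quotient.eq, Ideal.mem_span_singleton]
    exact h i i.2

lemma phi_eq_zero_mono {m s s' : ℕ} (h : s' ≤ s) (x : WittVector p R)
    (hx : phi p R m s x = 0) : phi p R m s' x = 0 := by
  rw [phi_eq_zero_iff] at hx ⊢
  intro i hi
  exact (pow_dvd_pow _ h).trans (hx i hi)

lemma haus [IsAdicComplete (Ideal.span {(p : R)}) R] (x : R) (h : ∀ t, (p:R)^t ∣ x) : x = 0 := by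
  apply IsHausdorff.haus' (I := Ideal.span {(p:R)}) x
  intro n
  rw [SModEq.zero, smul_eq_mul, Ideal.mul_top, Ideal.span_singleton_pow,
    Ideal.mem_span_singleton]
  exact h n

lemma prec [IsAdicComplete (Ideal.span {(p : R)}) R] (f : ℕ → R)
    (h : ∀ t, (p:R)^t ∣ f t - f (t+1)) : ∃ L, ∀ t, (p:R)^t ∣ f t - L := by
  have key : ∀ m n, m ≤ n → (p:R)^m ∣ f m - f n := by
    intro m n hmn
    induction n, hmn using Nat.le_induction with
    | base => simp
    | succ n hmn ih =>
      have := dvd_add ih ((pow_dvd_pow _ hmn).trans (h n))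
      simpa using this
  obtain ⟨L, hL⟩ := IsPrecomplete.prec' (I := Ideal.span {(p:R)}) f (by
    intro m n hmn
    rw [SModEq.sub_mem, smul_eq_mul, Ideal.mul_top, Ideal.span_singleton_pow,
      Ideal.mem_span_singleton]
    exact key m n hmn)
  refine ⟨L, fun t => ?_⟩
  have := hL t
  rw [SModEq.sub_mem, smul_eq_mul, Ideal.mul_top, Ideal.span_singleton_pow,
    Ideal.mem_span_singleton] at this
  exact this

/-- key step: if `p^u * y` vanishes in `W_m(R/p^(t+u+m))` then `y` vanishes in `W_m(R/p^t)`. -/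
lemma phi_of_mul (hR : ∀ y : R, (p : R) * y = 0 → y = 0) {m u t : ℕ} (ht : 1 ≤ t)
    (y : WittVector p R) (h : phi p R m (t+u+m) ((p : WittVector p R)^u * y) = 0) :
    phi p R m t y = 0 := by
  rw [phi_eq_zero_iff] at h ⊢
  apply coeff_dvd_of_ghost_dvd hR ht
  intro n hn
  have h1 : (p:R)^(t+u+m) ∣ WittVector.ghostComponent n ((p : WittVector p R)^u * y) :=
    ghost_dvd_of_coeff_dvd (fun i hi => h i (lt_of_le_of_lt hi hn))
  rw [map_mul, map_pow, map_natCast] at h1
  have h2 := dvd_of_pow_mul_dvd hR (by omega : u ≤ t+u+m) h1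
  exact (pow_dvd_pow _ (by omega)).trans h2

end Groth.Agent.S14861

namespace Groth.Agent.S14861

/-- Let p be a prime and R a commutative ring without p-torsion which is complete and separated for the
p-adic topology. Let a be a p-typical Witt vector over R and m, u natural numbers. Suppose that for
every s the equation p^u·x = a has a solution in the truncated Witt ring W_m(R/p^s R), i.e. there is
z ∈ W(R) such that the first m Witt components of p^u·z − a lie in p^s R. Then the equation has a
solution in W_m(R): there is x ∈ W(R) such that the first m Witt components of p^u·x − a vanish.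
(The published statement asks only that R have no p-torsion; R is moreover taken p-adically complete
and separated here, which is the standing situation of the surrounding argument and is what the
published proof uses when it passes to the limit over s.) -/
theorem result (p : ℕ) [Fact p.Prime] (R : Type u) [CommRing R]
    (hR : ∀ y : R, (p : R) * y = 0 → y = 0) [IsAdicComplete (Ideal.span {(p : R)}) R]
    (a : WittVector p R) (m u : ℕ)
    (h : ∀ s : ℕ, ∃ z : WittVector p R, ∀ i < m, ((p : WittVector p R) ^ u * z - a).coeff i ∈ Ideal.span {(p : R) ^ s}) :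
    ∃ x : WittVector p R, ∀ i < m, ((p : WittVector p R) ^ u * x - a).coeff i = 0 := by

  classical
  choose z hz using h
  -- z' t : solution mod p^(t+1+u+m)
  have hz' : ∀ s, phi p R m s ((p : WittVector p R) ^ u * z s - a) = 0 := by
    intro s
    rw [phi_eq_zero_iff]
    intro i hi
    have := hz s i hi
    rwa [Ideal.mem_span_singleton] at this
  set Z : ℕ → WittVector p R := fun t => z (t+1+u+m) with hZ
  have hcauchy : ∀ t, phi p R m (t+1) (Z t - Z (t+1)) = 0 := by
    intro t
    apply phi_of_mul hR (by omega)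
    have e : (p : WittVector p R)^u * (Z t - Z (t+1)) =
        ((p : WittVector p R) ^ u * z (t+1+u+m) - a) -
          ((p : WittVector p R) ^ u * z (t+1+1+u+m) - a) := by
      simp only [hZ]; ring
    rw [e, map_sub, hz', zero_sub, neg_eq_zero]
    exact phi_eq_zero_mono (by omega) _ (hz' _)
  -- limits of coefficients
  have hlim : ∀ i : ℕ, ∃ L : R, ∀ t, i < m → (p:R)^t ∣ (Z t).coeff i - L := by
    intro i
    by_cases hi : i < m
    · obtain ⟨L, hL⟩ := prec (p := p) (fun t => (Z t).coeff i) (by
        intro t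
        have := hcauchy t
        rw [map_sub, sub_eq_zero, phi_eq_iff] at this
        exact (pow_dvd_pow _ (Nat.le_succ t)).trans (this i hi))
      exact ⟨L, fun t _ => hL t⟩
    · exact ⟨0, fun t h => absurd h hi⟩
  choose L hL using hlim
  refine ⟨WittVector.mk p L, ?_⟩
  have hx : ∀ t, phi p R m t (WittVector.mk p L) = phi p R m t (Z t) := by
    intro t
    rw [phi_eq_iff]
    intro i hi
    have := hL i t hi
    rw [WittVector.coeff_mk]
    rw [← neg_sub]
    exact (dvd_neg).mpr this
  intro i hi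
  apply haus (p := p)
  intro t
  have h1 : phi p R m t ((p : WittVector p R) ^ u * WittVector.mk p L - a) = 0 := by
    rw [map_sub, map_mul, hx t, ← map_mul, ← map_sub]
    exact phi_eq_zero_mono (by omega) _ (hz' (t+1+u+m))
  rw [phi_eq_zero_iff] at h1
  exact h1 i hi

end Groth.Agent.S14861
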