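import Groth.Statements.S14862
import Mathlib
import Groth.Agent.S14861

set_option autoImplicit false
universe u
open CAlg


namespace Groth.Agent.S14862

open WittVector Groth.Agent.S14861

variable {p : ℕ} [hp : Fact p.Prime] {S : Type u} [CommRing S]

/-- uniqueness: multiplication by `p^u` is injective on truncated Witt vectors. -/
lemma trunc_of_mul (hS : ∀ y : S, (p : S) * y = 0 → y = 0)
    [IsAdicComplete (Ideal.span {(p : S)}) S] {r u : ℕ} (y : WittVector p S)
    (h : (p : WittVector p S)^u * y ∈ RingHom.ker (WittVector.truncate (p := p) (R := S) r)) :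
    y ∈ RingHom.ker (WittVector.truncate (p := p) (R := S) r) := by
  rw [WittVector.mem_ker_truncate] at h ⊢
  intro i hi
  apply haus (p := p)
  intro t
  rcases Nat.eq_zero_or_pos t with rfl | ht
  · simp
  have h1 : phi p S r (t+u+r) ((p : WittVector p S)^u * y) = 0 := by
    rw [phi_eq_zero_iff]
    intro j hj
    rw [h j hj]
    exact dvd_zero _
  have h2 := phi_of_mul hS ht y h1
  rw [phi_eq_zero_iff] at h2
  exact h2 i hi

end Groth.Agent.S14862

namespace Groth.Agent.S14862

/-- Let p be a prime and S a commutative ring without p-torsion which is complete and separated for the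
p-adic topology; write W = W(S) for the p-typical Witt vectors, I_r ⊆ W for the ideal of Witt
vectors whose first r components vanish (the image of the r-th iterate of the Verschiebung) and
W(p^s S) ⊆ W for the ideal of Witt vectors all of whose components lie in p^s S (the kernel of W(S)
→ W(S/p^s S)). Then for every natural number u the ideal p^u W is closed for the linear topology on
W in which the ideals I_r + W(p^s S) form a neighbourhood basis of zero: the intersection over all r
and s of p^u W + I_r + W(p^s S) equals p^u W. (The published statement asks only that S have no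
p-torsion; S is moreover taken p-adically complete and separated here, the case in which the result
is applied and through which the published proof goes.) -/
theorem result (p : ℕ) [Fact p.Prime] (S : Type u) [CommRing S]
    (hS : ∀ y : S, (p : S) * y = 0 → y = 0) [IsAdicComplete (Ideal.span {(p : S)}) S] (u : ℕ) :
    (⨅ r : ℕ, ⨅ s : ℕ,
        Ideal.span {(p : WittVector p S) ^ u} ⊔ RingHom.ker (WittVector.truncate (p := p) (R := S) r) ⊔
          RingHom.ker (WittVector.map (p := p) (Ideal.Quotient.mk (Ideal.span {(p : S) ^ s})))) =
      Ideal.span {(p : WittVector p S) ^ u} := by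

  classical
  apply le_antisymm
  swap
  · exact le_iInf fun r => le_iInf fun s => le_sup_of_le_left le_sup_left
  intro a ha
  simp only [Ideal.mem_iInf] at ha
  -- solutions in each truncation
  have hsol : ∀ r : ℕ, ∃ x : WittVector p S,
      ((p : WittVector p S) ^ u * x - a) ∈ RingHom.ker (WittVector.truncate (p := p) (R := S) r) := by
    intro r
    obtain ⟨x, hx⟩ := Groth.Agent.S14861.result p S hS a r u (by
      intro s
      have := ha r s
      obtain ⟨xb, hxb, c, hc, rfl⟩ := Submodule.mem_sup.mp this
      obtain ⟨x, hx, b, hb, rfl⟩ := Submodule.mem_sup.mp hxb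
      obtain ⟨z, rfl⟩ := Ideal.mem_span_singleton'.mp hx
      refine ⟨z, ?_⟩
      have h0 : Groth.Agent.S14861.phi p S r s
          ((p : WittVector p S) ^ u * z - (z * (p : WittVector p S) ^ u + b + c)) = 0 := by
        have e : (p : WittVector p S) ^ u * z - (z * (p : WittVector p S) ^ u + b + c) = -(b + c) := by
          ring
        rw [e, map_neg, neg_eq_zero, map_add]
        have hb' : Groth.Agent.S14861.phi p S r s b = 0 := by
          rw [Groth.Agent.S14861.phi_eq_zero_iff]
          intro i hi
          rw [WittVector.mem_ker_truncate] at hb
          rw [hb i hi]; exact dvd_zero _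
        have hc' : Groth.Agent.S14861.phi p S r s c = 0 := by
          rw [RingHom.mem_ker] at hc
          simp only [Groth.Agent.S14861.phi, RingHom.comp_apply]
          rw [hc, map_zero]
        rw [hb', hc', add_zero]
      rw [Groth.Agent.S14861.phi_eq_zero_iff] at h0
      intro i hi
      rw [Ideal.mem_span_singleton]
      exact h0 i hi)
    refine ⟨x, ?_⟩
    rw [WittVector.mem_ker_truncate]
    exact hx
  choose x hx using hsol
  -- compatibility
  have hcompat : ∀ r r', r ≤ r' → ∀ i < r, (x r).coeff i = (x r').coeff i := by
    intro r r' hrr' i hi
    have h1 : (p : WittVector p S)^u * (x r - x r') ∈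
        RingHom.ker (WittVector.truncate (p := p) (R := S) r) := by
      have e : (p : WittVector p S)^u * (x r - x r') =
          ((p : WittVector p S) ^ u * x r - a) - ((p : WittVector p S) ^ u * x r' - a) := by ring
      rw [e]
      refine Ideal.sub_mem _ (hx r) ?_
      have := hx r'
      rw [WittVector.mem_ker_truncate] at this ⊢
      intro j hj
      exact this j (lt_of_lt_of_le hj hrr')
    have h2 := trunc_of_mul hS _ h1
    rw [RingHom.mem_ker, map_sub, sub_eq_zero] at h2
    have := congrArg (fun w => TruncatedWittVector.coeff ⟨i, hi⟩ w) h2
    simpa [WittVector.coeff_truncate] using this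
  set X : WittVector p S := WittVector.mk p (fun i => (x (i+1)).coeff i) with hX
  have hXr : ∀ r, WittVector.truncate (p := p) (R := S) r X = WittVector.truncate r (x r) := by
    intro r
    apply TruncatedWittVector.ext
    intro i
    rw [WittVector.coeff_truncate, WittVector.coeff_truncate, hX, WittVector.coeff_mk]
    exact (hcompat (i+1) r (Nat.succ_le_of_lt i.2) i (Nat.lt_succ_self _)).symm ▸ rfl
  have hfin : (p : WittVector p S) ^ u * X = a := by
    rw [← sub_eq_zero]
    ext i
    have h1 : (p : WittVector p S) ^ u * X - a ∈
        RingHom.ker (WittVector.truncate (p := p) (R := S) (i+1)) := by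
      rw [RingHom.mem_ker, map_sub, map_mul, hXr, ← map_mul, ← map_sub]
      exact hx (i+1)
    rw [WittVector.mem_ker_truncate] at h1
    rw [h1 i (Nat.lt_succ_self _), WittVector.zero_coeff]
  rw [Ideal.mem_span_singleton']
  exact ⟨X, by rw [mul_comm]; exact hfin⟩

end Groth.Agent.S14862
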