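import Groth.Statements.S16222
import Groth.Statements.S16222
import Groth.Agent.Lib.Helper60.DieuFibre

set_option autoImplicit false
set_option maxHeartbeats 400000
universe u v
open Disp

namespace Groth.Agent.S16222

open Groth.Agent.Lib.Helper60.DieuFibre Groth.Agent.Lib.Helper60.WittSqZero

section aux

variable {p : ℕ} [hp : Fact p.Prime] {k : Type u} [CommRing k] [CharP k p] [PerfectRing k p]
variable {M : Type v} [AddCommGroup M] [Module (WittVector p k) M]

/-- projective modules over `W(k)` have no `p`-torsion -/
theorem tors_free [Module.Projective (WittVector p k) M] (z : M)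
    (hz : (p : WittVector p k) • z = 0) : z = 0 := by
  have h := tors_of_projective (W := WittVector p k) (A := WittVector p k) (M := M)
    (fun x => ⟨x, rfl⟩) ⊥ ⊥ (p : WittVector p k) (by
      intro a ha
      rw [Ideal.map_bot, Ideal.mem_bot] at ha ⊢
      rw [Algebra.algebraMap_self, RingHom.id_apply] at ha ⊢
      rw [mul_comm, ← WittVector.verschiebung_frobenius] at ha
      have h1 : WittVector.frobenius a = 0 :=
        (WittVector.verschiebung_injective p k) (ha.trans (map_zero _).symm)
      exact (WittVector.frobenius_bijective p k).1 (h1.trans (map_zero _).symm)) z (by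
      rw [hz]
      exact zero_mem _)
  rw [Submodule.bot_smul, Submodule.mem_bot] at h
  exact h

omit [CharP k p] [PerfectRing k p] in
/-- the abstract half of the exactness statement -/
theorem half (hM : ∀ z : M, (p : WittVector p k) • z = 0 → z = 0)
    (σ τ : WittVector p k →+* WittVector p k)
    (F : M →ₛₗ[σ] M) (V : M →ₛₗ[τ] M)
    (hFV : ∀ m : M, F (V m) = (p : WittVector p k) • m)
    (hVF : ∀ m : M, V (F m) = (p : WittVector p k) • m) :
    (Ideal.span {(p : WittVector p k)} • (⊤ : Submodule (WittVector p k) M)).comap F =
        Submodule.span (WittVector p k) (Set.range V) ⊔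
          Ideal.span {(p : WittVector p k)} • (⊤ : Submodule (WittVector p k) M) := by
  apply le_antisymm
  · intro x hx
    rw [Submodule.mem_comap, mem_span_p_smul_top] at hx
    obtain ⟨y, hy⟩ := hx
    have h1 : (p : WittVector p k) • (x - V y) = 0 := by
      rw [smul_sub, ← hVF x, ← hy, map_smulₛₗ, map_natCast, sub_self]
    have h2 := hM _ h1
    rw [sub_eq_zero] at h2
    rw [h2]
    exact Submodule.mem_sup_left (Submodule.subset_span ⟨y, rfl⟩)
  · apply sup_le
    · rw [Submodule.span_le]
      rintro _ ⟨m, rfl⟩
      rw [SetLike.mem_coe, Submodule.mem_comap, hFV]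
      exact (mem_span_p_smul_top p _).mpr ⟨m, rfl⟩
    · intro x hx
      obtain ⟨y, rfl⟩ := (mem_span_p_smul_top p x).mp hx
      rw [Submodule.mem_comap, map_smulₛₗ, map_natCast]
      exact (mem_span_p_smul_top p _).mpr ⟨F y, rfl⟩

end aux

/-- Let p be a prime and k a perfect ring of characteristic p, so that the Frobenius σ of W = W(k) is
bijective and W has no p-torsion. Let M be a projective Dieudonné module over k: a finitely
generated projective W-module with a σ-semilinear F : M → M and a σ⁻¹-semilinear V : M → M such that
FV = VF = p. Then the reduction M/pM satisfies the level-one conditions: the preimage of pM under F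
is VM + pM, the preimage of pM under V is FM + pM (so Ker F = Im V and Ker V = Im F on M/pM), and
M/VM, that is M/pM divided by the image of V, is a projective module over W/pW, which the first Witt
component identifies with k. -/
theorem result (p : ℕ) [Fact p.Prime] (k : Type u) [CommRing k]
    [CharP k p] [PerfectRing k p]
    (M : Type v) [AddCommGroup M] [Module (WittVector p k) M] [Module.Finite (WittVector p k) M] [Module.Projective (WittVector p k) M]
    (F : M →ₛₗ[(WittVector.frobenius : WittVector p k →+* WittVector p k)] M)
    (V : M →ₛₗ[((WittVector.frobeniusEquiv p k).symm : WittVector p k →+* WittVector p k)] M)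
    (hFV : ∀ m : M, F (V m) = (p : WittVector p k) • m) (hVF : ∀ m : M, V (F m) = (p : WittVector p k) • m) :
    ((Ideal.span {(p : WittVector p k)} • (⊤ : Submodule (WittVector p k) M)).comap F =
        Submodule.span (WittVector p k) (Set.range V) ⊔ Ideal.span {(p : WittVector p k)} • (⊤ : Submodule (WittVector p k) M) ∧
      (Ideal.span {(p : WittVector p k)} • (⊤ : Submodule (WittVector p k) M)).comap V =
        Submodule.span (WittVector p k) (Set.range F) ⊔ Ideal.span {(p : WittVector p k)} • (⊤ : Submodule (WittVector p k) M)) ∧
    Module.Projective (WittVector p k ⧸ Ideal.span {(p : WittVector p k)})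
      ((M ⧸ (Ideal.span {(p : WittVector p k)} • (⊤ : Submodule (WittVector p k) M))) ⧸
        Submodule.span (WittVector p k ⧸ Ideal.span {(p : WittVector p k)})
          (Set.range fun m : M => (Ideal.span {(p : WittVector p k)} • (⊤ : Submodule (WittVector p k) M)).mkQ (V m))) := by
  refine ⟨⟨half tors_free _ _ F V hFV hVF, half tors_free _ _ V F hVF hFV⟩, ?_⟩
  haveI := projective_quotient_smul_top (R := WittVector p k) (M := M)
    (Ideal.span {(p : WittVector p k)})
  apply projective_coker p F V hFV hVF
  intro 𝔞 h𝔞 z hz
  haveI := h𝔞
  have h := tors_of_projective (W := WittVector p k) (A := WittVector p k) (M := M)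
    (fun x => ⟨x, rfl⟩) (Jid p 𝔞) (Jid p 𝔞) (p : WittVector p k) (by
      intro a ha
      rw [Algebra.algebraMap_self, Ideal.map_id, RingHom.id_apply] at ha ⊢
      exact mem_Jid_of_p_mul_mem p 𝔞 a ha) z hz
  exact Submodule.smul_mono_left (Jid_le_nn p 𝔞) h

end Groth.Agent.S16222
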