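import Groth.Statements.S14863
import Groth.Statements.S14863
import Groth.Agent.S14858
import Groth.Agent.S16222

set_option autoImplicit false
set_option maxHeartbeats 400000
universe u v
open Disp

namespace Groth.Agent.S14863

open Groth.Agent.Lib.Helper60 Groth.Agent.Lib.Helper60.DieuFibre

section aux

variable {p : ℕ} [hp : Fact p.Prime] {k : Type u} [CommRing k] [CharP k p] [PerfectRing k p]
variable {M : Type v} [AddCommGroup M] [Module (WittVector p k) M]

variable (V : M →ₛₗ[((WittVector.frobeniusEquiv p k).symm : WittVector p k →+* WittVector p k)] M)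

/-- the image of `V` as a submodule -/
def QV : Submodule (WittVector p k) M where
  carrier := Set.range V
  add_mem' := by
    rintro _ _ ⟨a, rfl⟩ ⟨b, rfl⟩
    exact ⟨a + b, map_add V a b⟩
  zero_mem' := ⟨0, map_zero V⟩
  smul_mem' := by
    rintro w _ ⟨a, rfl⟩
    refine ⟨WittVector.frobenius w • a, ?_⟩
    rw [map_smulₛₗ]
    congr 1
    exact (WittVector.frobeniusEquiv p k).symm_apply_apply w

theorem mem_QV (x : M) : x ∈ QV V ↔ x ∈ Set.range V := Iff.rfl

theorem IV_eq : W4c1extbt610.IV p k = Ideal.span {(p : WittVector p k)} := by
  apply le_antisymm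
  · unfold W4c1extbt610.IV
    rw [Ideal.span_le]
    rintro _ ⟨w, rfl⟩
    rw [SetLike.mem_coe, verschiebung_eq p w]
    exact Ideal.mul_mem_right _ _ (Ideal.subset_span rfl)
  · rw [Ideal.span_le]
    rintro _ rfl
    have : (p : WittVector p k) = WittVector.verschiebung (WittVector.frobenius 1) := by
      rw [WittVector.verschiebung_frobenius, one_mul]
    rw [SetLike.mem_coe, this]
    exact W4c1extbt610.verschiebung_mem_IV p k _

end aux

/-- Let p be a prime and k a perfect commutative ring of characteristic p, so that the Frobenius σ of W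
= W(k) is an automorphism. Let M be a Dieudonné module over k, that is, a projective W-module of
finite type with a σ-semilinear operator F and a σ⁻¹-semilinear operator V such that FV = VF = p.
Then (M, VM, F, V⁻¹) is a 3n-display over k: there exists a 3n-display structure on the W-module M
whose distinguished submodule is exactly the image of V, whose Frobenius operator is F, and whose
operator V⁻¹ sends V m to m for every m. (The published statement is the equivalence of the category
of 3n-displays over k with that of Dieudonné modules, displays corresponding to topologically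
nilpotent V; this row is the passage from a Dieudonné module to a 3n-display.) -/
theorem result (p : ℕ) [Fact p.Prime] (k : Type u) [CommRing k]
    [CharP k p] [PerfectRing k p]
    (M : Type v) [AddCommGroup M] [Module (WittVector p k) M]
    [Module.Finite (WittVector p k) M] [Module.Projective (WittVector p k) M]
    (F : M →ₛₗ[(WittVector.frobenius : WittVector p k →+* WittVector p k)] M)
    (V : M →ₛₗ[((WittVector.frobeniusEquiv p k).symm : WittVector p k →+* WittVector p k)] M)
    (hFV : ∀ m : M, F (V m) = (p : WittVector p k) • m) (hVF : ∀ m : M, V (F m) = (p : WittVector p k) • m) :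
    ∃ D : W4c1extbt610.Display3n p k M,
      D.F = F ∧ (∀ x : M, x ∈ D.Q ↔ x ∈ Set.range V) ∧
        ∀ (m : M) (h : V m ∈ D.Q), D.Vinv ⟨V m, h⟩ = m := by
  classical
  -- V is injective
  have hVinj : Function.Injective V := by
    rw [injective_iff_map_eq_zero]
    intro x hx
    exact S16222.tors_free (p := p) (k := k) x (by rw [← hFV x, hx, map_zero])
  -- V (w • F x) = V(w) • x
  have hVw : ∀ (w : WittVector p k) (x : M),
      V (w • F x) = WittVector.verschiebung w • x := by
    intro w x
    rw [map_smulₛₗ, hVF, smul_smul, verschiebung_eq p w, mul_comm]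
    rfl
  -- the inverse of V
  have hex : ∀ q : QV V, ∃ m : M, V m = (q : M) := fun q => q.2
  choose vinv hvinv using hex
  have hvinv' : ∀ (m : M) (h : V m ∈ QV V), vinv ⟨V m, h⟩ = m := by
    intro m h
    apply hVinj
    rw [hvinv]
  let Vinv : QV V →ₛₗ[(WittVector.frobenius : WittVector p k →+* WittVector p k)] M :=
    { toFun := vinv
      map_add' := by
        intro a b
        apply hVinj
        rw [hvinv, map_add, hvinv, hvinv]
        rfl
      map_smul' := by
        intro w a
        apply hVinj
        rw [hvinv, map_smulₛₗ, hvinv]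
        show w • (a : M) = (WittVector.frobeniusEquiv p k).symm (WittVector.frobenius w) • (a : M)
        congr 1
        exact ((WittVector.frobeniusEquiv p k).symm_apply_apply w).symm }
  have hVinv : ∀ q : QV V, Vinv q = vinv q := fun q => rfl
  -- I • ⊤ ≤ Q
  have hIQ : W4c1extbt610.IV p k • (⊤ : Submodule (WittVector p k) M) ≤ QV V := by
    rw [Submodule.smul_le]
    intro r hr x _
    obtain ⟨u, rfl⟩ := S16535.exists_eq_verschiebung r hr
    exact ⟨u • F x, hVw u x⟩
  -- the normal decomposition
  have hnormal : ∃ L T : Submodule (WittVector p k) M, IsCompl L T ∧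
      QV V = L ⊔ W4c1extbt610.IV p k • T := by
    haveI : IsAdicComplete (Ideal.span {(p : k)}) k := by
      have : Ideal.span {(p : k)} = ⊥ := by
        rw [Ideal.span_singleton_eq_bot]
        exact CharP.cast_eq_zero k p
      rw [this]
      infer_instance
    haveI : IsAdicComplete (W4c1extbt610.IV p k) (WittVector p k) := by
      have := (S14855.result p k).2
      rwa [S16538.ker_constantCoeff] at this
    set Ip : Ideal (WittVector p k) := Ideal.span {(p : WittVector p k)} with hIp
    set pM : Submodule (WittVector p k) M := Ip • (⊤ : Submodule (WittVector p k) M) with hpM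
    set Y : Submodule (WittVector p k ⧸ Ip) (M ⧸ pM) :=
      Submodule.span (WittVector p k ⧸ Ip) (Set.range fun m : M => pM.mkQ (V m)) with hY
    haveI hproj : Module.Projective (WittVector p k ⧸ Ip) ((M ⧸ pM) ⧸ Y) :=
      (S16222.result p k M F V hFV hVF).2
    obtain ⟨t, ht⟩ := Module.projective_lifting_property Y.mkQ LinearMap.id
      (Submodule.mkQ_surjective Y)
    have hmk_smul : ∀ (w : WittVector p k) (y : M),
        pM.mkQ (w • y) = Ideal.Quotient.mk Ip w • pM.mkQ y := fun w y => rfl
    -- Y is the image of Q
    have hYmem : ∀ y ∈ Y, ∃ x : M, pM.mkQ (V x) = y := by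
      intro y hy
      induction hy using Submodule.span_induction with
      | mem x hx => exact hx
      | zero => exact ⟨0, by simp⟩
      | add a b _ _ ha hb =>
        obtain ⟨xa, rfl⟩ := ha
        obtain ⟨xb, rfl⟩ := hb
        exact ⟨xa + xb, by simp only [map_add]⟩
      | smul a b _ hb =>
        obtain ⟨xb, rfl⟩ := hb
        obtain ⟨w, rfl⟩ := Ideal.Quotient.mk_surjective a
        refine ⟨WittVector.frobenius w • xb, ?_⟩
        rw [map_smulₛₗ, ← hmk_smul]
        congr 2
        exact (WittVector.frobeniusEquiv p k).symm_apply_apply w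
    have hpMQ : pM ≤ QV V := by
      rw [hpM, hIp, ← IV_eq]
      exact hIQ
    -- the complement
    let C : Submodule (WittVector p k) M :=
      { carrier := {x | ∃ n, t n = pM.mkQ x}
        add_mem' := by
          rintro a b ⟨n, hn⟩ ⟨n', hn'⟩
          exact ⟨n + n', by rw [map_add, map_add, hn, hn']⟩
        zero_mem' := ⟨0, by rw [map_zero, map_zero]⟩
        smul_mem' := by
          rintro w a ⟨n, hn⟩
          exact ⟨Ideal.Quotient.mk Ip w • n, by rw [map_smul, hn, hmk_smul]⟩ }
    have hC : ∀ x, x ∈ C ↔ ∃ n, t n = pM.mkQ x := fun x => Iff.rfl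
    have key := S14858.normal_decomp (W4c1extbt610.IV p k) (QV V) C ?_ ?_
    · exact key
    · -- Q ⊔ C = ⊤
      rw [eq_top_iff]
      intro x _
      -- mkQ x - t (Y.mkQ (mkQ x)) ∈ Y
      have h1 : pM.mkQ x - t (Y.mkQ (pM.mkQ x)) ∈ Y := by
        apply (Submodule.Quotient.mk_eq_zero Y).mp
        show Y.mkQ (pM.mkQ x - t (Y.mkQ (pM.mkQ x))) = 0
        have := LinearMap.congr_fun ht (Y.mkQ (pM.mkQ x))
        rw [LinearMap.comp_apply, LinearMap.id_apply] at this
        rw [map_sub, this, sub_self]
      obtain ⟨q, hq⟩ := hYmem _ h1
      have h2 : x - V q ∈ C := by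
        rw [hC]
        refine ⟨Y.mkQ (pM.mkQ x), ?_⟩
        rw [map_sub, hq]
        abel
      have : x = V q + (x - V q) := by abel
      rw [this]
      exact Submodule.add_mem_sup ⟨q, rfl⟩ h2
    · -- Q ⊓ C = I • ⊤
      rw [IV_eq]
      apply le_antisymm
      · rintro x ⟨⟨q, rfl⟩, ⟨n, hn⟩⟩
        have h1 : pM.mkQ (V q) ∈ Y := Submodule.subset_span ⟨q, rfl⟩
        have h2 : n = 0 := by
          have := LinearMap.congr_fun ht n
          rw [LinearMap.comp_apply, LinearMap.id_apply, hn] at this
          rw [← this, Submodule.mkQ_apply, Submodule.Quotient.mk_eq_zero]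
          exact h1
        rw [h2, map_zero] at hn
        exact (Submodule.Quotient.mk_eq_zero _).mp hn.symm
      · apply le_inf hpMQ
        intro x hx
        rw [hC]
        refine ⟨0, ?_⟩
        rw [map_zero]
        exact ((Submodule.Quotient.mk_eq_zero _).mpr hx).symm
  refine ⟨{ Q := QV V
            F := F
            Vinv := Vinv
            finite := inferInstance
            projective := inferInstance
            IV_smul_le := hIQ
            exists_normal := hnormal
            span_range_Vinv := ?_
            Vinv_verschiebung_smul := ?_ }, rfl, fun x => Iff.rfl, ?_⟩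
  · rw [eq_top_iff]
    intro m _
    apply Submodule.subset_span
    exact ⟨⟨V m, ⟨m, rfl⟩⟩, hvinv' m _⟩
  · intro w x
    apply hVinj
    rw [hVinv, hvinv, hVw]
  · intro m h
    exact hvinv' m h

end Groth.Agent.S14863
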