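import Groth.Statements.S14864
import Mathlib.RingTheory.WittVector.Identities
import Mathlib.RingTheory.WittVector.Domain
-- import your own Groth.Agent.* helpers here

set_option autoImplicit false
universe u
open CAlg

namespace Groth.Agent.S14864


section aux
variable (p : ℕ) [Fact p.Prime] (R : Type u) [CommRing R]

/-- Elements of the kernel of `constantCoeff` are in the image of the Verschiebung. -/
theorem exists_verschiebung_of_mem_ker (x : WittVector p R)
    (hx : x ∈ RingHom.ker (WittVector.constantCoeff : WittVector p R →+* R)) :
    ∃ z : WittVector p R, x = WittVector.verschiebung z := by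
  have h0 : ∀ i < 1, x.coeff i = 0 := by
    intro i hi
    obtain rfl : i = 0 := by omega
    exact hx
  have := WittVector.eq_iterate_verschiebung h0
  rw [Function.iterate_one] at this
  exact ⟨_, this⟩

theorem verschiebung_mem_ker (z : WittVector p R) :
    WittVector.verschiebung z ∈ RingHom.ker (WittVector.constantCoeff : WittVector p R →+* R) :=
  WittVector.verschiebung_coeff_zero z

theorem verschiebung_mul_verschiebung (a b : WittVector p R) :
    WittVector.verschiebung a * WittVector.verschiebung b =
      (p : WittVector p R) * WittVector.verschiebung (a * b) := by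
  rw [← WittVector.verschiebung_mul_frobenius, WittVector.frobenius_verschiebung,
    ← mul_assoc, mul_comm (a * b) (p : WittVector p R), ← nsmul_eq_mul, map_nsmul, nsmul_eq_mul]

theorem ker_mul_ker_le :
    RingHom.ker (WittVector.constantCoeff : WittVector p R →+* R) *
      RingHom.ker (WittVector.constantCoeff : WittVector p R →+* R) ≤
    Ideal.span {(p : WittVector p R)} *
      RingHom.ker (WittVector.constantCoeff : WittVector p R →+* R) := by
  rw [Ideal.mul_le]
  intro x hx y hy
  obtain ⟨a, rfl⟩ := exists_verschiebung_of_mem_ker p R x hx
  obtain ⟨b, rfl⟩ := exists_verschiebung_of_mem_ker p R y hy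
  rw [verschiebung_mul_verschiebung]
  exact Ideal.mul_mem_mul (Ideal.mem_span_singleton_self _) (verschiebung_mem_ker p R _)

theorem ker_pow_succ_le (n : ℕ) :
    RingHom.ker (WittVector.constantCoeff : WittVector p R →+* R) ^ (n + 1) ≤
    Ideal.span {(p : WittVector p R)} ^ n *
      RingHom.ker (WittVector.constantCoeff : WittVector p R →+* R) := by
  induction n with
  | zero => simp
  | succ n ih =>
    calc RingHom.ker (WittVector.constantCoeff : WittVector p R →+* R) ^ (n + 1 + 1)
        = RingHom.ker (WittVector.constantCoeff : WittVector p R →+* R) ^ (n + 1) *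
          RingHom.ker (WittVector.constantCoeff : WittVector p R →+* R) := pow_succ _ _
      _ ≤ Ideal.span {(p : WittVector p R)} ^ n *
          RingHom.ker (WittVector.constantCoeff : WittVector p R →+* R) *
          RingHom.ker (WittVector.constantCoeff : WittVector p R →+* R) :=
            Ideal.mul_mono_left ih
      _ = Ideal.span {(p : WittVector p R)} ^ n *
          (RingHom.ker (WittVector.constantCoeff : WittVector p R →+* R) *
          RingHom.ker (WittVector.constantCoeff : WittVector p R →+* R)) := mul_assoc _ _ _
      _ ≤ Ideal.span {(p : WittVector p R)} ^ n * (Ideal.span {(p : WittVector p R)} *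
          RingHom.ker (WittVector.constantCoeff : WittVector p R →+* R)) :=
            Ideal.mul_mono_right (ker_mul_ker_le p R)
      _ = Ideal.span {(p : WittVector p R)} ^ (n + 1) *
          RingHom.ker (WittVector.constantCoeff : WittVector p R →+* R) := by
            rw [← mul_assoc, ← pow_succ]

theorem pow_mem_ker_truncate (N : ℕ) (hN : (p : R) ^ N = 0) (n : ℕ) :
    (p : WittVector p R) ^ (N * n) ∈ RingHom.ker (WittVector.truncate (p := p) (R := R) n) := by
  have hpN : (p : WittVector p R) ^ N ∈
      RingHom.ker (WittVector.constantCoeff : WittVector p R →+* R) := by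
    rw [RingHom.mem_ker, map_pow, map_natCast, hN]
  obtain ⟨z, hz⟩ := exists_verschiebung_of_mem_ker p R _ hpN
  induction n with
  | zero =>
    rw [WittVector.mem_ker_truncate]
    intro i hi
    omega
  | succ n ih =>
    have h1 : (p : WittVector p R) ^ (N * (n + 1)) =
        WittVector.verschiebung (z * (p : WittVector p R) ^ (N * n)) := by
      have hF : WittVector.frobenius ((p : WittVector p R) ^ (N * n)) = (p : WittVector p R) ^ (N * n) := by
        rw [map_pow, map_natCast]
      conv_rhs => rw [← hF, WittVector.verschiebung_mul_frobenius, ← hz]
      rw [← pow_add]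
      congr 1
      ring
    rw [h1, WittVector.mem_ker_truncate]
    intro i hi
    cases i with
    | zero => exact WittVector.verschiebung_coeff_zero _
    | succ i =>
      rw [WittVector.verschiebung_coeff_succ]
      have h2 : z * (p : WittVector p R) ^ (N * n) ∈
          RingHom.ker (WittVector.truncate (p := p) (R := R) n) := Ideal.mul_mem_left _ _ ih
      rw [WittVector.mem_ker_truncate] at h2
      exact h2 i (by omega)

end aux

/-- Let p be a prime and R a commutative ring in which p is nilpotent; write W = W(R) for the p-typical
Witt vectors, I ⊆ W for the kernel of the projection onto the zeroth component, and I_n ⊆ W for the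
kernel of the truncation W → W_n(R). The p-adic topology on W equals its I-adic topology — every
power of the ideal pW contains some power of I and every power of I contains some power of pW — and
this common topology is finer than the V-adic one: every I_n contains some power of pW. -/
theorem result (p : ℕ) [Fact p.Prime] (R : Type u) [CommRing R]
    (hp : IsNilpotent (p : R)) :
    (∀ n : ℕ, ∃ m : ℕ, (RingHom.ker (WittVector.constantCoeff : WittVector p R →+* R)) ^ m ≤ Ideal.span {(p : WittVector p R)} ^ n) ∧
      (∀ n : ℕ, ∃ m : ℕ, Ideal.span {(p : WittVector p R)} ^ m ≤ (RingHom.ker (WittVector.constantCoeff : WittVector p R →+* R)) ^ n) ∧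
        ∀ n : ℕ, ∃ m : ℕ, Ideal.span {(p : WittVector p R)} ^ m ≤ RingHom.ker (WittVector.truncate (p := p) (R := R) n) := by
  obtain ⟨N, hN⟩ := hp
  refine ⟨fun n => ⟨n + 1, ?_⟩, fun n => ⟨N * n, ?_⟩, fun n => ⟨N * n, ?_⟩⟩
  · exact (ker_pow_succ_le p R n).trans Ideal.mul_le_left
  · have hpN : (p : WittVector p R) ^ N ∈
        RingHom.ker (WittVector.constantCoeff : WittVector p R →+* R) := by
      rw [RingHom.mem_ker, map_pow, map_natCast, hN]
    rw [pow_mul]
    apply Ideal.pow_right_mono
    rw [Ideal.span_singleton_pow, Ideal.span_singleton_le_iff_mem]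
    exact hpN
  · rw [Ideal.span_singleton_pow, Ideal.span_singleton_le_iff_mem]
    exact pow_mem_ker_truncate p R N hN n

end Groth.Agent.S14864
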