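import Groth.Statements.S14867
import Groth.Statements.S14867
import Groth.Agent.S14855
import Groth.Agent.Lib.Helper60.AdicProj

set_option autoImplicit false
set_option maxHeartbeats 400000
universe u
open CAlg

namespace Groth.Agent.S14867

open Groth.Agent.Lib.Helper60 Groth.Agent.Lib.Helper60.AdicProj

section aux

variable {p : ℕ} [hp : Fact p.Prime]

/-- the augmentation ideal -/
noncomputable abbrev IS (S : Type u) [CommRing S] : Ideal (WittVector p S) :=
  RingHom.ker (WittVector.constantCoeff : WittVector p S →+* S)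

theorem complete_of_nilpotent {S : Type u} [CommRing S] (hpS : IsNilpotent (p : S)) :
    IsAdicComplete (IS (p := p) S) (WittVector p S) := by
  obtain ⟨N, hN⟩ := hpS
  haveI : IsAdicComplete (Ideal.span {(p : S)}) S :=
    isAdicComplete_of_nilpotent _ N (by
      rw [Ideal.span_singleton_pow, hN]
      exact Ideal.span_singleton_eq_bot.mpr rfl)
  exact (S14855.result p S).2

theorem isUnit_of_coeff_zero {S : Type u} [CommRing S]
    [IsAdicComplete (IS (p := p) S) (WittVector p S)] (w : WittVector p S)
    (h : IsUnit (w.coeff 0)) : IsUnit w := by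
  obtain ⟨u, hu⟩ := h.exists_right_inv
  set t : WittVector p S := w * WittVector.teichmuller p u - 1 with ht
  have htI : t ∈ IS (p := p) S := by
    rw [RingHom.mem_ker, ht, map_sub, map_mul, map_one]
    simp only [WittVector.constantCoeff_apply, WittVector.teichmuller_coeff_zero]
    rw [hu, sub_self]
  have hjac : t ∈ (⊥ : Ideal (WittVector p S)).jacobson :=
    IsAdicComplete.le_jacobson_bot (IS (p := p) S) htI
  have h1 : IsUnit (t * 1 + 1) := Ideal.mem_jacobson_bot.mp hjac 1
  have h2 : t * 1 + 1 = w * WittVector.teichmuller p u := by rw [ht]; ring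
  rw [h2] at h1
  exact isUnit_of_mul_isUnit_left h1

variable {S R : Type u} [CommRing S] [CommRing R] (φ : S →+* R)

theorem mem_ker_map_iff (x : WittVector p S) :
    x ∈ RingHom.ker (WittVector.map (p := p) φ) ↔ ∀ n, φ (x.coeff n) = 0 := by
  rw [RingHom.mem_ker, WittVector.ext_iff]
  simp only [WittVector.map_coeff, WittVector.zero_coeff]

theorem ker_le_jacobson (hnil : ∀ a : S, φ a = 0 → IsNilpotent a)
    [IsAdicComplete (IS (p := p) S) (WittVector p S)] :
    RingHom.ker (WittVector.map (p := p) φ) ≤ (⊥ : Ideal (WittVector p S)).jacobson := by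
  intro x hx
  rw [Ideal.mem_jacobson_bot]
  intro y
  apply isUnit_of_coeff_zero
  have h0 : (x * y + 1).coeff 0 = x.coeff 0 * y.coeff 0 + 1 := by
    have : WittVector.constantCoeff (x * y + 1) =
        WittVector.constantCoeff x * WittVector.constantCoeff y + 1 := by
      rw [map_add, map_mul, map_one]
    exact this
  rw [h0]
  have hn : IsNilpotent (x.coeff 0) := hnil _ ((mem_ker_map_iff φ x).mp hx 0)
  exact IsNilpotent.isUnit_add_one ((Commute.all _ _).isNilpotent_mul_right hn)

end aux

section uniq

/-- uniqueness of lifts of projective modules along a surjection with kernel in the radical -/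
theorem unique_lift {A B : Type*} [CommRing A] [CommRing B] (Φ : A →+* B)
    (hJ : RingHom.ker Φ ≤ (⊥ : Ideal A).jacobson)
    {P : Type*} [AddCommGroup P] [Module B P]
    {P₁ : Type*} [AddCommGroup P₁] [Module A P₁] [Module.Finite A P₁] [Module.Projective A P₁]
    {P₂ : Type*} [AddCommGroup P₂] [Module A P₂] [Module.Finite A P₂] [Module.Projective A P₂]
    (π₁ : P₁ →ₛₗ[Φ] P) (π₂ : P₂ →ₛₗ[Φ] P) (h₁ : Function.Surjective π₁)
    (hk₁ : LinearMap.ker π₁ = RingHom.ker Φ • (⊤ : Submodule A P₁))
    (h₂ : Function.Surjective π₂)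
    (hk₂ : LinearMap.ker π₂ = RingHom.ker Φ • (⊤ : Submodule A P₂)) :
    ∃ e : P₁ ≃ₗ[A] P₂, ∀ x : P₁, π₂ (e x) = π₁ x := by
  obtain ⟨ψ, hψ⟩ := exists_lift_semilinear Φ π₂ h₂ π₁
  have hsurj : LinearMap.range ψ = ⊤ := by
    apply top_le_iff.mp
    apply Submodule.le_of_le_smul_of_le_jacobson_bot Module.Finite.fg_top hJ
    intro y _
    obtain ⟨x, hx⟩ := h₁ (π₂ y)
    have h1 : y - ψ x ∈ LinearMap.ker π₂ := by
      rw [LinearMap.mem_ker, map_sub, hψ, hx, sub_self]
    rw [hk₂] at h1
    have h2 : y = ψ x + (y - ψ x) := by abel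
    rw [h2]
    exact Submodule.add_mem_sup ⟨x, rfl⟩ h1
  have hsurj' : Function.Surjective ψ := LinearMap.range_eq_top.mp hsurj
  obtain ⟨s, hs⟩ := Module.projective_lifting_property ψ LinearMap.id hsurj'
  have hs' : ∀ y, ψ (s y) = y := fun y => LinearMap.congr_fun hs y
  set c : P₁ →ₗ[A] P₁ := LinearMap.id - s ∘ₗ ψ with hc
  have hcker : ∀ x, c x ∈ LinearMap.ker ψ := by
    intro x
    rw [LinearMap.mem_ker, hc, LinearMap.sub_apply, LinearMap.id_apply, LinearMap.comp_apply,
      map_sub, hs', sub_self]
  have hcid : ∀ x ∈ LinearMap.ker ψ, c x = x := by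
    intro x hx
    rw [hc, LinearMap.sub_apply, LinearMap.id_apply, LinearMap.comp_apply,
      LinearMap.mem_ker.mp hx, map_zero, sub_zero]
  have hker : LinearMap.ker ψ = ⊥ := by
    apply Submodule.eq_bot_of_le_smul_of_le_jacobson_bot (RingHom.ker Φ) _ ?_ ?_ hJ
    · have : LinearMap.ker ψ = LinearMap.range c := by
        apply le_antisymm
        · intro x hx
          exact ⟨x, hcid x hx⟩
        · rintro _ ⟨x, rfl⟩
          exact hcker x
      rw [this, LinearMap.range_eq_map]
      exact Module.Finite.fg_top.map c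
    · intro x hx
      have h1 : x ∈ LinearMap.ker π₁ := by
        rw [LinearMap.mem_ker, ← hψ, LinearMap.mem_ker.mp hx, map_zero]
      rw [hk₁] at h1
      have h2 : (RingHom.ker Φ • (⊤ : Submodule A P₁)).map c ≤
          RingHom.ker Φ • LinearMap.ker ψ := by
        rw [Submodule.map_smul'']
        apply Submodule.smul_mono le_rfl
        rintro _ ⟨y, _, rfl⟩
        exact hcker y
      rw [← hcid x hx]
      exact h2 ⟨x, h1, rfl⟩
  exact ⟨LinearEquiv.ofBijective ψ ⟨LinearMap.ker_eq_bot.mp hker, hsurj'⟩, hψ⟩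

end uniq

section exist

variable {p : ℕ} [hp : Fact p.Prime] {S R : Type u} [CommRing S] [CommRing R] (φ : S →+* R)

/-- the coordinatewise map -/
noncomputable def Psi (k : ℕ) :
    (Fin k → WittVector p S) →ₛₗ[WittVector.map (p := p) φ] (Fin k → WittVector p R) where
  toFun x := fun a => WittVector.map φ (x a)
  map_add' x y := by
    funext a
    simp
  map_smul' w x := by
    funext a
    simp

theorem Psi_apply (k : ℕ) (x : Fin k → WittVector p S) (a : Fin k) :
    Psi (p := p) φ k x a = WittVector.map φ (x a) := rfl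

theorem exists_lift (hφ : Function.Surjective φ)
    (hnil : ∀ a : S, φ a = 0 → IsNilpotent a) (hpS : IsNilpotent (p : S))
    (P : Type u) [AddCommGroup P] [Module (WittVector p R) P]
    [Module.Finite (WittVector p R) P] [Module.Projective (WittVector p R) P] :
    ∃ (P' : Type u) (_ : AddCommGroup P') (_ : Module (WittVector p S) P'),
        Module.Finite (WittVector p S) P' ∧ Module.Projective (WittVector p S) P' ∧
          ∃ π : P' →ₛₗ[WittVector.map (p := p) φ] P, Function.Surjective π ∧
            LinearMap.ker π =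
              RingHom.ker (WittVector.map (p := p) φ) • (⊤ : Submodule (WittVector p S) P') := by
  classical
  set Φ : WittVector p S →+* WittVector p R := WittVector.map (p := p) φ with hΦ
  have hΦsurj : Function.Surjective Φ := WittVector.map_surjective φ hφ
  haveI hcS : IsAdicComplete (IS (p := p) S) (WittVector p S) := complete_of_nilpotent hpS
  have hpR : IsNilpotent (p : R) := by
    have := hpS.map φ
    rwa [map_natCast] at this
  haveI hcR : IsAdicComplete (IS (p := p) R) (WittVector p R) := complete_of_nilpotent hpR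
  obtain ⟨k, r, hr⟩ := Module.Finite.exists_fin' (WittVector p R) P
  obtain ⟨i, hi⟩ := Module.projective_lifting_property r LinearMap.id hr
  have hri : ∀ y, r (i y) = y := fun y => LinearMap.congr_fun hi y
  set ebar : Module.End (WittVector p R) (Fin k → WittVector p R) := i ∘ₗ r with hebar
  have hebar_idem : ∀ y, ebar (ebar y) = ebar y := by
    intro y
    simp [hebar, hri]
  set Ψ := Psi (p := p) φ k with hΨ
  have hΨsurj : Function.Surjective Ψ := by
    intro y
    choose x hx using fun a => hΦsurj (y a)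
    exact ⟨x, funext hx⟩
  obtain ⟨ε, hε⟩ := exists_lift_semilinear Φ Ψ hΨsurj (ebar.comp Ψ)
  have hε' : ∀ m, Ψ (ε m) = ebar (Ψ m) := hε
  -- basis vectors
  let bv : Fin k → (Fin k → WittVector p S) := fun b j => if b = j then 1 else 0
  let gen : Fin k × Fin k → WittVector p S :=
    fun ab => (ε (ε (bv ab.2)) - ε (bv ab.2)) ab.1
  let 𝔟 : Ideal (WittVector p S) := Ideal.span (Set.range gen)
  have h𝔟fg : 𝔟.FG := by
    refine ⟨(Set.finite_range gen).toFinset, ?_⟩
    rw [Set.Finite.coe_toFinset]
  have h𝔟J : 𝔟 ≤ RingHom.ker Φ := by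
    rw [Ideal.span_le]
    rintro _ ⟨⟨a, b⟩, rfl⟩
    rw [SetLike.mem_coe, RingHom.mem_ker]
    have : Ψ (ε (ε (bv b)) - ε (bv b)) = 0 := by
      rw [map_sub, hε', hε', hebar_idem, sub_self]
    exact congrFun this a
  have h0 : ∀ x, ε (ε x) - ε x ∈ 𝔟 • (⊤ : Submodule (WittVector p S) (Fin k → WittVector p S)) := by
    intro x
    have hx : x = ∑ b, x b • bv b := pi_eq_sum_univ x
    have : ε (ε x) - ε x = ∑ b, x b • (ε (ε (bv b)) - ε (bv b)) := by
      conv_lhs => rw [hx]
      simp only [map_sum, map_smul, smul_sub, Finset.sum_sub_distrib]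
    rw [this]
    apply Submodule.sum_mem
    intro b _
    apply Submodule.smul_mem
    rw [pi_mem_smul_top_iff]
    intro a
    exact Ideal.subset_span ⟨(a, b), rfl⟩
  -- nilpotency
  have h𝔞 : ∃ N, 𝔟 ^ N ≤ IS (p := p) S := by
    set 𝔞' : Ideal S := 𝔟.map (WittVector.constantCoeff : WittVector p S →+* S) with h𝔞'
    have hfg : 𝔞'.FG := h𝔟fg.map _
    have hle : 𝔞' ≤ nilradical S := by
      rw [h𝔞', Ideal.map_le_iff_le_comap]
      intro x hx
      rw [Ideal.mem_comap, mem_nilradical]
      exact hnil _ ((mem_ker_map_iff φ x).mp (h𝔟J hx) 0)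
    obtain ⟨N, hN⟩ := (Ideal.FG.isNilpotent_iff_le_nilradical hfg).mpr hle
    refine ⟨N, ?_⟩
    rw [← Ideal.map_eq_bot_iff_le_ker, Ideal.map_pow]
    exact hN
  obtain ⟨N, hN⟩ := h𝔞
  set ε₁ := seq ε N with hε₁
  have h1 : ∀ x, ε₁ (ε₁ x) - ε₁ x ∈
      IS (p := p) S • (⊤ : Submodule (WittVector p S) (Fin k → WittVector p S)) := by
    intro x
    have := seq_sq_sub_pow 𝔟 ε h0 N x
    rw [LinearMap.sub_apply, pow_two, Module.End.mul_apply] at this
    refine Submodule.smul_mono ?_ le_rfl this
    exact le_trans (Ideal.pow_le_pow_right (Nat.lt_two_pow_self).le) hN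
  haveI : IsAdicComplete (IS (p := p) S) (Fin k → WittVector p S) :=
    isAdicComplete_pi (IS (p := p) S) (Fin k)
  obtain ⟨e, he, hlim⟩ := exists_idempotent_lift' (IS (p := p) S) ε₁ h1
  -- the relation
  have hrel : ∀ j x, Ψ (seq ε j x) = ebar (Ψ x) := by
    intro j
    induction j with
    | zero => exact hε'
    | succ j ih =>
      intro x
      show Ψ (step (seq ε j) x) = _
      rw [step_apply, map_sub, map_nsmul, map_nsmul]
      simp only [ih, hebar_idem]
      abel
  have hΦI : ∀ n, ∀ c ∈ (IS (p := p) S) ^ n, Φ c ∈ (IS (p := p) R) ^ n := by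
    intro n c hc
    have h2 : (IS (p := p) S).map Φ ≤ IS (p := p) R := by
      rw [Ideal.map_le_iff_le_comap]
      intro w hw
      rw [Ideal.mem_comap, RingHom.mem_ker]
      have hw' : w.coeff 0 = 0 := hw
      show (Φ w).coeff 0 = 0
      rw [hΦ, WittVector.map_coeff, hw', map_zero]
    have := Ideal.mem_map_of_mem Φ hc
    rw [Ideal.map_pow] at this
    exact Ideal.pow_right_mono h2 n this
  have hΨmap : ∀ n y, y ∈ (IS (p := p) S) ^ n •
      (⊤ : Submodule (WittVector p S) (Fin k → WittVector p S)) →
      Ψ y ∈ (IS (p := p) R) ^ n • (⊤ : Submodule (WittVector p R) (Fin k → WittVector p R)) := by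
    intro n y hy
    refine Submodule.smul_induction_on hy ?_ ?_
    · intro c hc m _
      rw [map_smulₛₗ]
      exact Submodule.smul_mem_smul (hΦI n c hc) Submodule.mem_top
    · intro a b ha hb
      rw [map_add]
      exact add_mem ha hb
  have hΨe : ∀ x, Ψ (e x) = ebar (Ψ x) := by
    intro x
    haveI : IsAdicComplete (IS (p := p) R) (Fin k → WittVector p R) :=
      isAdicComplete_pi (IS (p := p) R) (Fin k)
    rw [← sub_eq_zero]
    apply IsHausdorff.haus (I := IS (p := p) R) inferInstance
    intro n
    rw [SModEq.zero]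
    have h2 : Ψ (e x) - ebar (Ψ x) = Ψ (e x - seq ε₁ n x) := by
      rw [map_sub, hε₁, seq_add, hrel]
    rw [h2]
    exact hΨmap n _ (hlim x n)
  -- the module
  have hex : ∀ x : LinearMap.range e, e (x : Fin k → WittVector p S) = x := by
    rintro ⟨_, y, rfl⟩
    exact he y
  have hsplit : e.rangeRestrict ∘ₗ (LinearMap.range e).subtype = LinearMap.id := by
    apply LinearMap.ext
    intro x
    apply Subtype.ext
    exact hex x
  let π : LinearMap.range e →ₛₗ[Φ] P := (r.comp Ψ).comp (LinearMap.range e).subtype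
  have hπ : ∀ x : LinearMap.range e, π x = r (Ψ (x : Fin k → WittVector p S)) := fun x => rfl
  refine ⟨LinearMap.range e, inferInstance, inferInstance, Module.Finite.range e,
    Module.Projective.of_split _ _ hsplit, π, ?_, ?_⟩
  · intro y
    obtain ⟨z, hz⟩ := hΨsurj (i y)
    refine ⟨⟨e z, z, rfl⟩, ?_⟩
    rw [hπ]
    show r (Ψ (e z)) = y
    rw [hΨe, hz]
    show r (i (r (i y))) = y
    rw [hri, hri]
  · apply le_antisymm
    · intro x hx
      rw [LinearMap.mem_ker, hπ] at hx
      have h2 : Ψ (x : Fin k → WittVector p S) = 0 := by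
        rw [← hex x, hΨe]
        show i (r (Ψ _)) = 0
        rw [hx, map_zero]
      have h3 : (x : Fin k → WittVector p S) ∈ RingHom.ker Φ •
          (⊤ : Submodule (WittVector p S) (Fin k → WittVector p S)) := by
        rw [pi_mem_smul_top_iff]
        intro a
        rw [RingHom.mem_ker]
        exact congrFun h2 a
      have h4 := map_mem_smul_top (RingHom.ker Φ) e.rangeRestrict _ h3
      have h5 : e.rangeRestrict (x : Fin k → WittVector p S) = x := Subtype.ext (hex x)
      rwa [h5] at h4
    · rw [Submodule.smul_le]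
      intro c hc m _
      rw [LinearMap.mem_ker, map_smulₛₗ, RingHom.mem_ker.mp hc, zero_smul]

end exist

/-- Let p be a prime and S → R a surjective homomorphism of commutative rings such that every element of
its kernel 𝔞 is nilpotent and p is nilpotent in S; write J = W(𝔞) for the kernel of the induced
surjection W(S) → W(R) of rings of p-typical Witt vectors. Then finitely generated projective
modules lift along W(S) → W(R), uniquely up to isomorphism: for every finitely generated projective
W(R)-module P there is a finitely generated projective W(S)-module P̃ together with a surjection P̃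
→ P, semilinear over W(S) → W(R), whose kernel is J·P̃ (that is, an isomorphism W(R) ⊗_{W(S)} P̃ ≅
P); and for any two such pairs (P̃_1, π_1), (P̃_2, π_2) there is a W(S)-linear isomorphism P̃_1 ≅
P̃_2 compatible with π_1 and π_2. -/
theorem result (p : ℕ) [Fact p.Prime] (S R : Type u)
    [CommRing S] [CommRing R] (φ : S →+* R) (hφ : Function.Surjective φ)
    (hnil : ∀ a : S, φ a = 0 → IsNilpotent a) (hp : IsNilpotent (p : S))
    (P : Type u) [AddCommGroup P] [Module (WittVector p R) P]
    [Module.Finite (WittVector p R) P] [Module.Projective (WittVector p R) P] :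
    (∃ (P' : Type u) (_ : AddCommGroup P') (_ : Module (WittVector p S) P'),
        Module.Finite (WittVector p S) P' ∧ Module.Projective (WittVector p S) P' ∧
          ∃ π : P' →ₛₗ[WittVector.map (p := p) φ] P, Function.Surjective π ∧
            LinearMap.ker π = RingHom.ker (WittVector.map (p := p) φ) • (⊤ : Submodule (WittVector p S) P')) ∧
      ∀ (P₁ : Type u) [AddCommGroup P₁] [Module (WittVector p S) P₁]
        [Module.Finite (WittVector p S) P₁] [Module.Projective (WittVector p S) P₁]
        (P₂ : Type u) [AddCommGroup P₂] [Module (WittVector p S) P₂]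
        [Module.Finite (WittVector p S) P₂] [Module.Projective (WittVector p S) P₂]
        (π₁ : P₁ →ₛₗ[WittVector.map (p := p) φ] P) (π₂ : P₂ →ₛₗ[WittVector.map (p := p) φ] P),
        Function.Surjective π₁ →
          LinearMap.ker π₁ = RingHom.ker (WittVector.map (p := p) φ) • (⊤ : Submodule (WittVector p S) P₁) →
        Function.Surjective π₂ →
          LinearMap.ker π₂ = RingHom.ker (WittVector.map (p := p) φ) • (⊤ : Submodule (WittVector p S) P₂) →
        ∃ e : P₁ ≃ₗ[WittVector p S] P₂, ∀ x : P₁, π₂ (e x) = π₁ x := by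
  refine ⟨exists_lift φ hφ hnil hp P, ?_⟩
  intro P₁ _ _ _ _ P₂ _ _ _ _ π₁ π₂ h₁ hk₁ h₂ hk₂
  haveI : IsAdicComplete (IS (p := p) S) (WittVector p S) := complete_of_nilpotent hp
  exact unique_lift (WittVector.map (p := p) φ) (ker_le_jacobson φ hnil) π₁ π₂ h₁ hk₁ h₂ hk₂

end Groth.Agent.S14867
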