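import Groth.Statements.S14869
import Mathlib.LinearAlgebra.TensorProduct.RightExactness
import Mathlib.Algebra.Module.Projective
import Mathlib.LinearAlgebra.TensorProduct.Tower
-- import your own Groth.Agent.* helpers here

set_option autoImplicit false
universe u v w
open CAlg

namespace Groth.Agent.S14869


open TensorProduct in
theorem exists_one_tmul {S R : Type u} [CommRing S] [CommRing R] [Algebra S R]
    (hSR : Function.Surjective (algebraMap S R)) {M : Type*} [AddCommGroup M] [Module S M]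
    (z : R ⊗[S] M) : ∃ m : M, z = (1 : R) ⊗ₜ[S] m := by
  induction z using TensorProduct.induction_on with
  | zero => exact ⟨0, (TensorProduct.tmul_zero _ _).symm⟩
  | tmul r m =>
    obtain ⟨s, rfl⟩ := hSR r
    refine ⟨s • m, ?_⟩
    rw [Algebra.algebraMap_eq_smul_one, TensorProduct.smul_tmul]
  | add a b ha hb =>
    obtain ⟨m, rfl⟩ := ha
    obtain ⟨n, rfl⟩ := hb
    exact ⟨m + n, (TensorProduct.tmul_add _ _ _).symm⟩

open TensorProduct in
/-- Let S → R be a surjective homomorphism of commutative rings, let π : P_1 → P_2 be a surjective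
homomorphism of S-modules with P_2 projective, and let π̄ : R ⊗_S P_1 → R ⊗_S P_2 be its base
change. Then every R-linear section σ̄ of π̄ lifts to a section of π: there is an S-linear map σ :
P_2 → P_1 with π ∘ σ = id whose base change R ⊗_S σ is σ̄. -/
theorem result (S R : Type u) [CommRing S] [CommRing R] [Algebra S R]
    (hSR : Function.Surjective (algebraMap S R))
    (P₁ : Type v) [AddCommGroup P₁] [Module S P₁]
    (P₂ : Type w) [AddCommGroup P₂] [Module S P₂] [Module.Projective S P₂]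
    (π : P₁ →ₗ[S] P₂) (hπ : Function.Surjective π)
    (σ' : R ⊗[S] P₂ →ₗ[R] R ⊗[S] P₁) (hσ' : (π.baseChange R).comp σ' = LinearMap.id) :
    ∃ σ : P₂ →ₗ[S] P₁, π.comp σ = LinearMap.id ∧ σ.baseChange R = σ' := by
  -- the fibre product `(R ⊗ P₁) ×_{R ⊗ P₂} P₂` as an `S`-submodule
  let g₁ : (R ⊗[S] P₁) × P₂ →ₗ[S] R ⊗[S] P₂ :=
    ((π.baseChange R).restrictScalars S).comp (LinearMap.fst S _ _)
  let g₂ : (R ⊗[S] P₁) × P₂ →ₗ[S] R ⊗[S] P₂ :=
    (TensorProduct.mk S R P₂ 1).comp (LinearMap.snd S _ _)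
  let N : Submodule S ((R ⊗[S] P₁) × P₂) := LinearMap.eqLocus g₁ g₂
  have hN : ∀ z : (R ⊗[S] P₁) × P₂, z ∈ N ↔ (π.baseChange R) z.1 = (1 : R) ⊗ₜ[S] z.2 := fun z => Iff.rfl
  let Φ : P₁ →ₗ[S] N := LinearMap.codRestrict N
    (LinearMap.prod (TensorProduct.mk S R P₁ 1) π) (fun x => by
      rw [hN]
      simp [LinearMap.baseChange_tmul])
  let g : P₂ →ₗ[S] N := LinearMap.codRestrict N
    (LinearMap.prod ((σ'.restrictScalars S).comp (TensorProduct.mk S R P₂ 1)) LinearMap.id) (fun x => by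
      rw [hN]
      have := LinearMap.congr_fun hσ' ((1 : R) ⊗ₜ[S] x)
      simpa using this)
  have hΦ : Function.Surjective Φ := by
    rintro ⟨⟨y, x⟩, hyx⟩
    rw [hN] at hyx
    simp only at hyx
    obtain ⟨x₁, rfl⟩ := hπ x
    have hker : (π.lTensor R) (y - (1 : R) ⊗ₜ[S] x₁) = 0 := by
      rw [map_sub, LinearMap.lTensor_tmul, sub_eq_zero]
      rw [← hyx]
      rfl
    have hex := lTensor_exact R (LinearMap.exact_subtype_ker_map π) hπ
    obtain ⟨w, hw⟩ := (hex _).mp hker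
    obtain ⟨k, rfl⟩ := exists_one_tmul hSR w
    rw [LinearMap.lTensor_tmul] at hw
    refine ⟨x₁ + (k : P₁), ?_⟩
    apply Subtype.ext
    apply Prod.ext
    · change (1 : R) ⊗ₜ[S] (x₁ + (k : P₁)) = y
      rw [TensorProduct.tmul_add]
      have : (1 : R) ⊗ₜ[S] (k : P₁) = y - (1 : R) ⊗ₜ[S] x₁ := hw
      rw [this]; abel
    · change π (x₁ + (k : P₁)) = π x₁
      have hk : π (k : P₁) = 0 := k.2
      rw [map_add, hk, add_zero]
  obtain ⟨σ, hσ⟩ := Module.projective_lifting_property Φ g hΦ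
  have h1 : ∀ x : P₂, (1 : R) ⊗ₜ[S] σ x = σ' ((1 : R) ⊗ₜ[S] x) := by
    intro x
    have := congrArg (fun z : N => (z : (R ⊗[S] P₁) × P₂).1) (LinearMap.congr_fun hσ x)
    exact this
  have h2 : ∀ x : P₂, π (σ x) = x := by
    intro x
    have := congrArg (fun z : N => (z : (R ⊗[S] P₁) × P₂).2) (LinearMap.congr_fun hσ x)
    exact this
  refine ⟨σ, LinearMap.ext h2, ?_⟩
  apply TensorProduct.AlgebraTensorModule.ext
  intro r x
  rw [LinearMap.baseChange_tmul]
  have hr : r ⊗ₜ[S] x = r • ((1 : R) ⊗ₜ[S] x) := by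
    rw [TensorProduct.smul_tmul', smul_eq_mul, mul_one]
  rw [hr, map_smul, ← h1, TensorProduct.smul_tmul', smul_eq_mul, mul_one]

end Groth.Agent.S14869
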