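import Groth.Statements.S14875
import Groth.Agent.Lib.Helper7.PLie
import Mathlib

set_option autoImplicit false
universe u v
open PLie

namespace Groth.Agent.S14875

/-- Let `L` be a finite-dimensional Lie algebra over a field of characteristic `p` equipped with a
`p`-mapping `φ`, whose Killing form is non-degenerate. Let `U` and `H` be Lie subalgebras of `L`
such that `H` is the normaliser of `U`, `U` is the set of elements of `H` that lie in the solvable
radical of `H` and are `p`-nilpotent, and the orthogonal of `U` for the Killing form is closed under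
the bracket. Then `U` is the orthogonal of `H` for the Killing form. (The published statement is for
the Lie algebra of a reductive group over a field of characteristic `p` with its canonical
`p`-structure; this row states it for any finite-dimensional Lie algebra with a `p`-mapping.) -/
theorem result
    (k : Type u) [Field k] (p : ℕ) [Fact p.Prime] [CharP k p]
    (L : Type v) [LieRing L] [LieAlgebra k L] [Module.Finite k L]
    (φ : PLie.PMap k p L) (hκ : (killingForm k L).Nondegenerate)
    (U H : LieSubalgebra k L) (hH : H = U.normalizer)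
    (hU : ∀ x : L, x ∈ U ↔ ∃ hx : x ∈ H, (⟨x, hx⟩ : ↥H) ∈ LieAlgebra.radical k ↥H ∧ PLie.IsPNilpotent φ x)
    (hperp : ∀ a b : L, (∀ y ∈ U, killingForm k L a y = 0) → (∀ y ∈ U, killingForm k L b y = 0) →
      ∀ y ∈ U, killingForm k L ⁅a, b⁆ y = 0) :
    ∀ x : L, x ∈ U ↔ ∀ h ∈ H, killingForm k L h x = 0 := by
  classical
  have hnorm : ∀ h ∈ H, ∀ u ∈ U, ⁅h, u⁆ ∈ U := by
    intro h hh u hu
    rw [hH] at hh
    exact (LieSubalgebra.mem_normalizer_iff U h).1 hh u hu
  have hadnil : ∀ u ∈ U, IsNilpotent (LieAlgebra.ad k L u) := by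
    intro u hu
    obtain ⟨_, _, hpn⟩ := (hU u).1 hu
    exact Groth.Agent.Lib.Helper7.PLieLib.isNilpotent_ad_of_isPNilpotent φ u hpn
  have hnilmod : LieModule.IsNilpotent ↥U L := by
    rw [LieModule.isNilpotent_iff_forall' (R := k)]
    intro x
    have hx : LieModule.toEnd k ↥U L x = LieAlgebra.ad k L (x : L) := by
      ext m
      rfl
    rw [hx]
    exact hadnil x x.2
  obtain ⟨r, hr⟩ := (LieModule.isNilpotent_iff k ↥U L).1 hnilmod
  have ha : ∀ i, ∀ u ∈ U, ∀ m ∈ LieModule.lowerCentralSeries k ↥U L i,
      ⁅u, m⁆ ∈ LieModule.lowerCentralSeries k ↥U L (i + 1) := by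
    intro i u hu m hm
    rw [LieModule.lowerCentralSeries_succ]
    exact LieSubmodule.lie_mem_lie (LieSubmodule.mem_top (⟨u, hu⟩ : ↥U)) hm
  have hb : ∀ i, ∀ h ∈ H, ∀ m ∈ LieModule.lowerCentralSeries k ↥U L i,
      ⁅h, m⁆ ∈ LieModule.lowerCentralSeries k ↥U L i := by
    intro i
    induction i with
    | zero =>
      intro h hh m hm
      exact LieSubmodule.mem_top _
    | succ i ih =>
      intro h hh m hm
      have hm' := hm
      rw [LieModule.lowerCentralSeries_succ, ← LieSubmodule.mem_toSubmodule,
        LieSubmodule.lieIdeal_oper_eq_linear_span] at hm'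
      clear hm
      induction hm' using Submodule.span_induction with
      | mem x hx =>
        obtain ⟨⟨u, -⟩, ⟨n, hn⟩, rfl⟩ := hx
        have h1 : ⁅h, ⁅(u : L), n⁆⁆ = ⁅⁅h, (u : L)⁆, n⁆ + ⁅(u : L), ⁅h, n⁆⁆ :=
          leibniz_lie h (u : L) n
        change ⁅h, ⁅(u : L), n⁆⁆ ∈ _
        rw [h1]
        refine add_mem ?_ ?_
        · exact ha i _ (hnorm h hh u u.2) n hn
        · exact ha i _ u.2 _ (ih h hh n hn)
      | zero =>
        rw [lie_zero]
        exact zero_mem _
      | add x y _ _ hx hy =>
        rw [lie_add]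
        exact add_mem hx hy
      | smul c x _ hx =>
        rw [lie_smul]
        exact (LieModule.lowerCentralSeries k ↥U L (i + 1)).smul_mem c hx
  have h1 : ∀ h ∈ H, ∀ x ∈ U, killingForm k L h x = 0 := by
    intro h hh x hx
    rw [killingForm_apply_apply]
    have hpow : ∀ j, ∀ m : L, ((LieAlgebra.ad k L h ∘ₗ LieAlgebra.ad k L x) ^ j) m ∈
        LieModule.lowerCentralSeries k ↥U L j := by
      intro j
      induction j with
      | zero =>
        intro m
        exact LieSubmodule.mem_top _
      | succ j ih =>
        intro m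
        rw [pow_succ', Module.End.mul_apply]
        exact hb (j + 1) h hh _ (ha j x hx _ (ih m))
    have hnil : IsNilpotent (LieAlgebra.ad k L h ∘ₗ LieAlgebra.ad k L x) := by
      refine ⟨r, ?_⟩
      ext m
      have := hpow r m
      rw [hr] at this
      simpa using this
    exact (LinearMap.isNilpotent_trace_of_isNilpotent hnil).eq_zero
  have hsymm : ∀ a b : L, killingForm k L a b = killingForm k L b a :=
    fun a b => LieModule.traceForm_comm k L L a b
  have hrefl : (killingForm k L).IsRefl := (LieModule.traceForm_isSymm k L L).isRefl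
  have hdd := LinearMap.BilinForm.orthogonal_orthogonal hκ hrefl U.toSubmodule
  have hmemU : ∀ x : L, x ∈ U ↔
      ∀ b : L, (∀ y ∈ U, killingForm k L b y = 0) → killingForm k L b x = 0 := by
    intro x
    rw [← LieSubalgebra.mem_toSubmodule, ← hdd, LinearMap.BilinForm.mem_orthogonal_iff]
    constructor
    · intro hx b hb
      apply hx b
      rw [LinearMap.BilinForm.mem_orthogonal_iff]
      intro y hy
      rw [hsymm]
      exact hb y hy
    · intro hx b hb
      apply hx b
      intro y hy
      rw [hsymm]
      exact (LinearMap.BilinForm.mem_orthogonal_iff.1 hb) y hy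
  have h2 : ∀ a : L, (∀ y ∈ U, killingForm k L a y = 0) → a ∈ H := by
    intro a haU
    rw [hH, LieSubalgebra.mem_normalizer_iff]
    intro u hu
    rw [hmemU]
    intro b hbU
    have h3 := hperp b a hbU haU u hu
    have h4 : killingForm k L ⁅b, a⁆ u = killingForm k L b ⁅a, u⁆ :=
      LieModule.traceForm_apply_lie_apply k L L b a u
    rw [← h4]
    exact h3
  intro x
  constructor
  · intro hx h hh
    exact h1 h hh x hx
  · intro hx
    rw [hmemU]
    intro b hbU
    exact hx b (h2 b hbU)

end Groth.Agent.S14875
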