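import Groth.Statements.S14877
-- import your own Groth.Agent.* helpers here
import Groth.Agent.Lib.Helper40.IsoTriv
import Groth.Agent.Lib.Helper40.FpqcLocal

set_option autoImplicit false
universe u
open CategoryTheory MonoidalCategory CartesianMonoidalCategory MonObj GrpObj AlgebraicGeometry CategoryTheory.Limits
open AlgGrp

namespace Groth.Agent.S14877

/-- Over an algebraically closed field k of characteristic zero, let G be an algebraic group (a smooth
k-group scheme of finite type) acting on a variety P (reduced, separated, of finite type over k),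
and let π : P → X be a geometric quotient by this action onto a variety X: π is invariant,
surjective and open, the map (g, p) ↦ (g·p, p) from G × P to P ×_X P is surjective on points, and
for every open U of X the sections of O_X over U are exactly the invariant sections of O_P over
π⁻¹U. Suppose the bundle is locally isotrivial: every point of X has an open neighbourhood U with a
finite étale surjective morphism U' → U and a morphism s : U' → P lifting U' → U → X such that (u,
g) ↦ g·s(u) exhibits U' × G as the fibre product U' ×_X P. Then the bundle is principal: (g, p) ↦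
(g·p, p) is an isomorphism of G × P onto P ×_X P, and π is flat. (The published definition of an
étale covering asks only for a finite étale morphism; this row also requires it to be surjective,
since an empty cover would make every bundle isotrivial.) -/
theorem result (k : Type u) [Field k] [IsAlgClosed k] [CharZero k]
    (G P X : Over (Spec (CommRingCat.of k))) [GrpObj G] [Smooth G.hom] [QuasiCompact G.hom]
    [LocallyOfFiniteType P.hom] [QuasiCompact P.hom] [IsSeparated P.hom] [IsReduced P.left]
    [LocallyOfFiniteType X.hom] [QuasiCompact X.hom] [IsSeparated X.hom] [IsReduced X.left]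
    (a : AlgGrp.Action G P) (π : P ⟶ X) (hinv : GIT.IsInvariant a π)
    (hq : Function.Surjective π.left.base ∧ IsOpenMap π.left.base ∧
      Function.Surjective (GIT.PsiY a π hinv).base ∧
      ∀ U : X.left.Opens, Function.Injective (π.left.app U) ∧
        Set.range (π.left.app U) = {f | GIT.IsInvSection a π U f})
    (hli : ∀ x : ↥X.left, ∃ (U : X.left.Opens) (_ : x ∈ U) (U' : Scheme.{u}) (φ : U' ⟶ ↑U)
      (_ : IsFinite φ) (_ : Etale φ) (_ : Surjective φ) (s : Over.mk (φ ≫ U.ι ≫ X.hom) ⟶ P),
      s.left ≫ π.left = φ ≫ U.ι ∧
      IsPullback (fst (Over.mk (φ ≫ U.ι ≫ X.hom)) G).left (lift (snd (Over.mk (φ ≫ U.ι ≫ X.hom)) G) (fst (Over.mk (φ ≫ U.ι ≫ X.hom)) G ≫ s) ≫ a.act).left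
        (φ ≫ U.ι) π.left) :
    IsIso (GIT.PsiY a π hinv) ∧ Flat π.left := by
  classical
  choose U hxU U' φ hfin het hsurj s hs hsq using hli
  have hψet : ∀ x, Etale (φ x ≫ (U x).ι) := fun x => by
    have := het x
    infer_instance
  have hψsurj : ∀ x : X.left, ∃ y : U' x, (φ x ≫ (U x).ι) y = x := by
    intro x
    obtain ⟨y, hy⟩ := (hsurj x).surj ⟨x, hxU x⟩
    refine ⟨y, ?_⟩
    rw [Scheme.Hom.comp_apply, hy]
    rfl
  constructor
  · -- `PsiY` is an isomorphism, fpqc-locally on the target
    have hcovZ : Presieve.ofArrows
        (fun x : X.left => pullback (pullback.fst π.left π.left ≫ π.left) (φ x ≫ (U x).ι))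
        (fun x => pullback.fst (pullback.fst π.left π.left ≫ π.left) (φ x ≫ (U x).ι)) ∈
        Scheme.fpqcPrecoverage (pullback π.left π.left) := by
      apply Scheme.fppfPrecoverage_le_fpqcPrecoverage
      rw [Scheme.fppfPrecoverage, Scheme.ofArrows_mem_precoverage_iff]
      refine ⟨fun z => ?_, fun x => ?_⟩
      · obtain ⟨y, hy⟩ := hψsurj ((pullback.fst π.left π.left ≫ π.left) z)
        obtain ⟨w, hw1, -⟩ := Scheme.Pullback.exists_preimage_pullback
          (f := pullback.fst π.left π.left ≫ π.left)
          (g := φ ((pullback.fst π.left π.left ≫ π.left) z) ≫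
            (U ((pullback.fst π.left π.left ≫ π.left) z)).ι) z y hy.symm
        exact ⟨_, w, hw1⟩
      · have := hψet x
        exact ⟨inferInstance, inferInstance⟩
    change (MorphismProperty.isomorphisms Scheme.{u}) (GIT.PsiY a π hinv)
    refine Groth.Agent.Lib.Helper40.FpqcLocal.of_fpqc_cover (MorphismProperty.isomorphisms Scheme.{u})
      (GIT.PsiY a π hinv) hcovZ ?_
    rintro _ _ ⟨x⟩
    exact Groth.Agent.Lib.Helper40.IsoTriv.isIso_snd_psiY a π (φ x ≫ (U x).ι) (s x) (hsq x) hinv
      (Category.assoc _ _ _)
  · -- flatness, fpqc-locally on the target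
    have ifl := Groth.Agent.Lib.Helper40.FpqcLocal.flat_descendsAlong_fpqc.{u}
    have hcovX : Presieve.ofArrows U' (fun x => φ x ≫ (U x).ι) ∈
        Scheme.fpqcPrecoverage X.left := by
      apply Scheme.fppfPrecoverage_le_fpqcPrecoverage
      rw [Scheme.fppfPrecoverage, Scheme.ofArrows_mem_precoverage_iff]
      refine ⟨fun x => ⟨x, ?_⟩, fun x => ?_⟩
      · obtain ⟨y, hy⟩ := hψsurj x
        exact ⟨y, hy⟩
      · have := hψet x
        exact ⟨inferInstance, inferInstance⟩
    refine Groth.Agent.Lib.Helper40.FpqcLocal.of_fpqc_cover @Flat π.left hcovX ?_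
    rintro _ _ ⟨x⟩
    have hfl : Flat (fst (Over.mk (φ x ≫ (U x).ι ≫ X.hom)) G).left := by
      rw [Over.fst_left]
      infer_instance
    rw [← (hsq x).flip.isoPullback_inv_snd]
    infer_instance

end Groth.Agent.S14877
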