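import Groth.Statements.S14879
import Mathlib
-- import your own Groth.Agent.* helpers here

set_option autoImplicit false
universe u
open Finset
open AlgGrp

namespace Groth.Agent.S14879

section helpers
open Equiv


private lemma inner {k : Type*} [Field k] (p r : ℕ) (M : Matrix (Fin (p + r)) (Fin (p + r)) k)
    (a : Fin p → Fin (p + r)) (b : Fin r → Fin (p + r)) (σ : Perm (Fin p)) (τ : Perm (Fin r)) :
    ∑ π : Equiv.Perm (Fin (p + r)), (((Equiv.Perm.sign π : ℤˣ) : ℤ) : k) *
      ((∏ i, M (a (σ i)) (π (Fin.castAdd r i))) * ∏ j, M (b (τ j)) (π (Fin.natAdd p j))) =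
    (((Equiv.Perm.sign σ : ℤˣ) : ℤ) : k) * (((Equiv.Perm.sign τ : ℤˣ) : ℤ) : k) *
      (M.submatrix (Fin.append a b) id).det := by
  set ρ : Perm (Fin (p + r)) := finSumFinEquiv.permCongr (Equiv.Perm.sumCongr σ τ) with hρ
  have hcc : ∀ t, Fin.append a b (ρ t) = Fin.append (a ∘ σ) (b ∘ τ) t := by
    intro t
    induction t using Fin.addCases with
    | left i => simp [hρ, Equiv.permCongr_apply]
    | right j => simp [hρ, Equiv.permCongr_apply]
  have hdet : (M.submatrix (Fin.append (a ∘ σ) (b ∘ τ)) id).det =
      (((Equiv.Perm.sign σ : ℤˣ) : ℤ) : k) * (((Equiv.Perm.sign τ : ℤˣ) : ℤ) : k) *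
      (M.submatrix (Fin.append a b) id).det := by
    have : M.submatrix (Fin.append (a ∘ σ) (b ∘ τ)) id =
        (M.submatrix (Fin.append a b) id).submatrix ρ id := by
      ext i j
      simp only [Matrix.submatrix_apply, id]
      rw [hcc]
    rw [this, Matrix.det_permute, hρ, Equiv.Perm.sign_permCongr, Equiv.Perm.sign_sumCongr]
    push_cast
    ring
  rw [← hdet, ← Matrix.det_transpose, Matrix.det_apply']
  apply Finset.sum_congr rfl
  intro π _
  congr 1
  rw [Fin.prod_univ_add]
  simp [Matrix.transpose_apply]



private lemma step123 {k : Type*} [Field k] (p r : ℕ) (M : Matrix (Fin (p + r)) (Fin (p + r)) k)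
    (a : Fin p → Fin (p + r)) (b : Fin r → Fin (p + r)) :
    ∑ π : Equiv.Perm (Fin (p + r)), (((Equiv.Perm.sign π : ℤˣ) : ℤ) : k) *
      ((M * π.permMatrix k).submatrix a (Fin.castAdd r)).det *
      ((M * π.permMatrix k).submatrix b (Fin.natAdd p)).det =
    ((p.factorial * r.factorial : ℕ) : k) * (M.submatrix (Fin.append a b) id).det := by
  have h1 : ∀ π : Equiv.Perm (Fin (p + r)), M * π.permMatrix k = M.submatrix id π.symm := by
    intro π
    exact PEquiv.mul_toMatrix_toPEquiv M π
  simp_rw [h1, Matrix.submatrix_submatrix]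
  -- reindex π ↦ π⁻¹
  rw [← Equiv.sum_comp (Equiv.inv (Perm (Fin (p + r))))]
  simp only [Equiv.inv_apply, Equiv.Perm.sign_inv, Function.id_comp]
  have h2 : ∀ π : Perm (Fin (p + r)),
      (((Equiv.Perm.sign π : ℤˣ) : ℤ) : k) *
        (M.submatrix a ((⇑(Equiv.symm π⁻¹)) ∘ Fin.castAdd r)).det *
        (M.submatrix b ((⇑(Equiv.symm π⁻¹)) ∘ Fin.natAdd p)).det =
      ∑ σ : Perm (Fin p), ∑ τ : Perm (Fin r),
        (((Equiv.Perm.sign σ : ℤˣ) : ℤ) : k) * (((Equiv.Perm.sign τ : ℤˣ) : ℤ) : k) *
        ((((Equiv.Perm.sign π : ℤˣ) : ℤ) : k) *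
        ((∏ i, M (a (σ i)) (π (Fin.castAdd r i))) * ∏ j, M (b (τ j)) (π (Fin.natAdd p j)))) := by
    intro π
    rw [Matrix.det_apply', Matrix.det_apply', mul_assoc, Finset.sum_mul_sum, Finset.mul_sum]
    apply Finset.sum_congr rfl
    intro σ _
    rw [Finset.mul_sum]
    apply Finset.sum_congr rfl
    intro τ _
    simp only [Matrix.submatrix_apply, Function.comp_apply]
    have e : (Equiv.symm π⁻¹) = π := rfl
    rw [e]
    ring
  simp_rw [h2]
  rw [Finset.sum_comm]
  simp_rw [Finset.sum_comm (s := (Finset.univ : Finset (Perm (Fin (p + r)))))]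
  simp_rw [← Finset.mul_sum, inner]
  have hsq : ∀ (σ : Perm (Fin p)) (τ : Perm (Fin r)),
      (((Equiv.Perm.sign σ : ℤˣ) : ℤ) : k) * (((Equiv.Perm.sign τ : ℤˣ) : ℤ) : k) *
        ((((Equiv.Perm.sign σ : ℤˣ) : ℤ) : k) * (((Equiv.Perm.sign τ : ℤˣ) : ℤ) : k) *
          (M.submatrix (Fin.append a b) id).det) = (M.submatrix (Fin.append a b) id).det := by
    intro σ τ
    have hs : (((Equiv.Perm.sign σ : ℤˣ) : ℤ) : k) * (((Equiv.Perm.sign σ : ℤˣ) : ℤ) : k) = 1 := by
      rw [← Int.cast_mul, Int.units_coe_mul_self, Int.cast_one]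
    have ht : (((Equiv.Perm.sign τ : ℤˣ) : ℤ) : k) * (((Equiv.Perm.sign τ : ℤˣ) : ℤ) : k) = 1 := by
      rw [← Int.cast_mul, Int.units_coe_mul_self, Int.cast_one]
    linear_combination ((((Equiv.Perm.sign τ : ℤˣ) : ℤ) : k) * (((Equiv.Perm.sign τ : ℤˣ) : ℤ) : k) *
      (M.submatrix (Fin.append a b) id).det) * hs + (M.submatrix (Fin.append a b) id).det * ht
  simp_rw [hsq]
  simp [Finset.sum_const, Finset.card_univ, Fintype.card_perm]
  ring




private lemma sign_shuffle (p r : ℕ) (A : Finset (Fin (p + r))) (hA : A.card = p) (hB : Aᶜ.card = r)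
    (γ : Perm (Fin (p + r)))
    (hγ : ∀ t, γ t = Fin.append (A.orderEmbOfFin hA) (Aᶜ.orderEmbOfFin hB) t) :
    Equiv.Perm.sign γ = (-1) ^ ((A ×ˢ Aᶜ).filter (fun ab => ab.2 < ab.1)).card := by
  have hl : ∀ i : Fin p, γ (Fin.castAdd r i) = A.orderEmbOfFin hA i := by
    intro i; rw [hγ, Fin.append_left]
  have hr : ∀ j : Fin r, γ (Fin.natAdd p j) = Aᶜ.orderEmbOfFin hB j := by
    intro j; rw [hγ, Fin.append_right]
  rw [Equiv.Perm.sign_eq_prod_prod_Iio, Finset.prod_sigma', Finset.prod_ite]
  simp only [Finset.prod_const_one, one_mul, Finset.prod_const]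
  congr 1
  apply Finset.card_nbij' (fun x => (γ x.2, γ x.1)) (fun ab => ⟨γ.symm ab.2, γ.symm ab.1⟩)
  · rintro ⟨x1, x2⟩ hx
    simp only [Finset.coe_filter, Finset.mem_sigma, Finset.mem_univ, Finset.mem_Iio, true_and,
      Set.mem_ofPred_eq] at hx
    obtain ⟨hlt, hnot⟩ := hx
    simp only [Finset.coe_filter, Finset.mem_product, Finset.mem_compl, Set.mem_ofPred_eq]
    induction x2 using Fin.addCases with
    | left i =>
      induction x1 using Fin.addCases with
      | left i' =>
        exfalso; apply hnot
        rw [hl, hl]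
        apply (A.orderEmbOfFin hA).strictMono
        have h0 := Fin.lt_def.mp hlt
        simp only [Fin.val_castAdd] at h0
        exact Fin.lt_def.mpr h0
      | right j =>
        rw [hl, hr]
        refine ⟨⟨Finset.orderEmbOfFin_mem _ _ _, ?_⟩, ?_⟩
        · have := Finset.orderEmbOfFin_mem Aᶜ hB j
          exact Finset.mem_compl.mp this
        · rw [hl, hr] at hnot
          have hne : (Aᶜ.orderEmbOfFin hB j) ≠ (A.orderEmbOfFin hA i) := by
            intro h
            have h1 := Finset.orderEmbOfFin_mem Aᶜ hB j
            rw [h] at h1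
            exact (Finset.mem_compl.mp h1) (Finset.orderEmbOfFin_mem _ _ _)
          exact lt_of_le_of_ne (not_lt.mp hnot) hne
    | right j =>
      induction x1 using Fin.addCases with
      | left i' =>
        exfalso
        have h0 := Fin.lt_def.mp hlt
        simp only [Fin.val_natAdd, Fin.val_castAdd] at h0
        omega
      | right j' =>
        exfalso; apply hnot
        rw [hr, hr]
        apply (Aᶜ.orderEmbOfFin hB).strictMono
        have h0 := Fin.lt_def.mp hlt
        simp only [Fin.val_natAdd] at h0
        exact Fin.lt_def.mpr (by omega)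
  · rintro ⟨a, b⟩ hab
    simp only [Finset.coe_filter, Finset.mem_product, Finset.mem_compl, Set.mem_ofPred_eq] at hab
    obtain ⟨⟨ha, hb⟩, hlt⟩ := hab
    simp only [Finset.coe_filter, Finset.mem_sigma, Finset.mem_univ, Finset.mem_Iio, true_and,
      Set.mem_ofPred_eq, Equiv.apply_symm_apply]
    refine ⟨?_, not_lt.mpr hlt.le⟩
    -- γ.symm a < γ.symm b
    have h1 : ∀ t, γ t ∈ A → (t : ℕ) < p := by
      intro t ht
      induction t using Fin.addCases with
      | left i => simp
      | right j =>
        exfalso
        rw [hr] at ht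
        exact (Finset.mem_compl.mp (Finset.orderEmbOfFin_mem Aᶜ hB j)) ht
    have h2 : ∀ t, γ t ∉ A → p ≤ (t : ℕ) := by
      intro t ht
      induction t using Fin.addCases with
      | left i =>
        exfalso
        rw [hl] at ht
        exact ht (Finset.orderEmbOfFin_mem _ _ _)
      | right j => simp
    have ha' := h1 (γ.symm a) (by rwa [Equiv.apply_symm_apply])
    have hb' := h2 (γ.symm b) (by rwa [Equiv.apply_symm_apply])
    rw [Fin.lt_def]
    omega
  · rintro ⟨x1, x2⟩ _
    simp
  · rintro ⟨a, b⟩ _
    simp


end helpers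

/-- Let k be a field of characteristic zero, n = p + r with p, r ≥ 1, M an n × n matrix over k, A a set
of p row indices and B a set of r row indices, both listed increasingly. For a permutation π of the
indices, with permutation matrix P_π, let Y_A(M·P_π) be the minor of M·P_π on the rows A and the
first p columns, and Z_B(M·P_π) the minor on the rows B and the last r columns. Then the sum over
all π of sign(π)·Y_A(M·P_π)·Z_B(M·P_π) equals p!·r!·(−1)^N·det M when B is the complement of A,
where N is the number of pairs (a, b) with a in A, b outside A and b < a, and equals 0 otherwise.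
Taking det M = 1 this says that the pairing (f, h) ↦ Σ_π sign(π) f(π) h(π) between the spans of the
left p-minors and of the right r-minors is invariant under left translation by matrices of
determinant one and pairs Y_A with the signed complementary minor to p!·r!. (The published statement
asserts that the two families of minors are dual bases for this pairing, that is, the value 1 in
place of p!·r!; the p!·r! permutations preserving the two column blocks each contribute the same
signed term, so this row carries that factor, which is 1 only for n = 2.) -/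
theorem result (k : Type u) [Field k] [CharZero k]
    (p r : ℕ) (hp : 1 ≤ p) (hr : 1 ≤ r) (M : Matrix (Fin (p + r)) (Fin (p + r)) k)
    (A : Finset (Fin (p + r))) (hA : A.card = p) (B : Finset (Fin (p + r))) (hB : B.card = r) :
    ∑ π : Equiv.Perm (Fin (p + r)), (((Equiv.Perm.sign π : ℤˣ) : ℤ) : k) *
      ((M * π.permMatrix k).submatrix (A.orderEmbOfFin hA) (Fin.castAdd r)).det *
      ((M * π.permMatrix k).submatrix (B.orderEmbOfFin hB) (Fin.natAdd p)).det =
    if B = Aᶜ then ((p.factorial * r.factorial : ℕ) : k) *
      (-1 : k) ^ ((A ×ˢ Aᶜ).filter (fun ab => ab.2 < ab.1)).card * M.det else 0 := by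
  rw [step123]
  have hmemA : ∀ i, A.orderEmbOfFin hA i ∈ A := fun i => Finset.orderEmbOfFin_mem _ _ _
  have hmemB : ∀ j, B.orderEmbOfFin hB j ∈ B := fun j => Finset.orderEmbOfFin_mem _ _ _
  split_ifs with hBA
  · subst hBA
    have hinj : Function.Injective (Fin.append (A.orderEmbOfFin hA) (Aᶜ.orderEmbOfFin hB)) := by
      intro t t' htt
      induction t using Fin.addCases with
      | left i =>
        induction t' using Fin.addCases with
        | left i' =>
          rw [Fin.append_left, Fin.append_left] at htt
          rw [(A.orderEmbOfFin hA).injective htt]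
        | right j =>
          exfalso
          rw [Fin.append_left, Fin.append_right] at htt
          have h1 := hmemB j
          rw [← htt] at h1
          exact (Finset.mem_compl.mp h1) (hmemA i)
      | right j =>
        induction t' using Fin.addCases with
        | left i' =>
          exfalso
          rw [Fin.append_left, Fin.append_right] at htt
          have h1 := hmemB j
          rw [htt] at h1
          exact (Finset.mem_compl.mp h1) (hmemA i')
        | right j' =>
          rw [Fin.append_right, Fin.append_right] at htt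
          rw [(Aᶜ.orderEmbOfFin hB).injective htt]
    set γ : Equiv.Perm (Fin (p + r)) :=
      Equiv.ofBijective _ (Finite.injective_iff_bijective.mp hinj) with hγdef
    have hγ : ∀ t, γ t = Fin.append (A.orderEmbOfFin hA) (Aᶜ.orderEmbOfFin hB) t := fun t => rfl
    have hsub : M.submatrix (Fin.append (A.orderEmbOfFin hA) (Aᶜ.orderEmbOfFin hB)) id =
        M.submatrix γ id := by
      ext i j
      simp only [Matrix.submatrix_apply, hγ]
    rw [hsub, Matrix.det_permute, sign_shuffle p r A hA hB γ hγ]
    push_cast
    ring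
  · -- A and B meet
    have hmeet : ∃ x, x ∈ A ∧ x ∈ B := by
      by_contra hno
      push Not at hno
      apply hBA
      apply Finset.eq_of_subset_of_card_le
      · intro x hx
        rw [Finset.mem_compl]
        intro hxA
        exact hno x hxA hx
      · rw [Finset.card_compl, Fintype.card_fin, hA, hB]
        omega
    obtain ⟨x, hxA, hxB⟩ := hmeet
    have hrA : x ∈ Set.range (A.orderEmbOfFin hA) := by
      rw [Finset.range_orderEmbOfFin]; exact hxA
    have hrB : x ∈ Set.range (B.orderEmbOfFin hB) := by
      rw [Finset.range_orderEmbOfFin]; exact hxB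
    obtain ⟨i, hi⟩ := hrA
    obtain ⟨j, hj⟩ := hrB
    have hne : Fin.castAdd r i ≠ Fin.natAdd p j := by
      intro h
      have := congrArg Fin.val h
      simp only [Fin.val_castAdd, Fin.val_natAdd] at this
      omega
    rw [Matrix.det_zero_of_row_eq hne, mul_zero]
    funext c
    simp only [Matrix.submatrix_apply, Fin.append_left, Fin.append_right, hi, hj]

end Groth.Agent.S14879
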