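import Groth.Statements.S1581
import Mathlib.AlgebraicGeometry.Morphisms.LocalFlatDescent
import Mathlib.AlgebraicGeometry.Morphisms.FlatDescent
import Mathlib.AlgebraicGeometry.Morphisms.Immersion

set_option autoImplicit false
universe u
open CategoryTheory CategoryTheory.Limits AlgebraicGeometry
open Variety

namespace Groth.Agent.S1581

theorem isSeparated_eq_diagonal_universallyClosed :
    @IsSeparated = MorphismProperty.diagonal @UniversallyClosed := by
  ext X Y f
  constructor
  · intro h
    change UniversallyClosed (pullback.diagonal f)
    infer_instance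
  · intro h
    have h' : UniversallyClosed (pullback.diagonal f) := h
    exact ⟨IsClosedImmersion.of_isPreimmersion _
      ((pullback.diagonal f).isClosedMap.isClosed_range)⟩

set_option backward.isDefEq.respectTransparency.types false in
instance isSeparated_descendsAlong :
    MorphismProperty.DescendsAlong @IsSeparated (@Surjective ⊓ @Flat ⊓ @QuasiCompact) := by
  rw [isSeparated_eq_diagonal_universallyClosed]
  infer_instance

/-- Let X be a scheme over a field k and K a field extension of k. If X_K is proper over K then X is
proper over k. -/
theorem result (k : Type u) [Field k] (X : Scheme.{u}) [X.Over (Spec (CommRingCat.of k))] (K : Type u) [Field K] [Algebra k K]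
    [IsProper (Curv2.bcSnd k X K)] : IsProper (X ↘ (Spec (CommRingCat.of k))) := by
  have hff : (CommRingCat.ofHom (algebraMap k K)).hom.FaithfullyFlat := by
    rw [CommRingCat.hom_ofHom, RingHom.faithfullyFlat_algebraMap_iff]
    infer_instance
  have hfs := (flat_and_surjective_SpecMap_iff (CommRingCat.ofHom (algebraMap k K))).2 hff
  have hg : (@Surjective ⊓ @Flat ⊓ @QuasiCompact : MorphismProperty Scheme)
      (Spec.map (CommRingCat.ofHom (algebraMap k K))) := ⟨⟨hfs.2, hfs.1⟩, inferInstance⟩
  have h : IsProper (Curv2.bcSnd k X K) := inferInstance
  have h1 : IsSeparated (X ↘ (Spec (CommRingCat.of k))) :=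
    MorphismProperty.of_pullback_snd_of_descendsAlong (P := @IsSeparated) hg h.toIsSeparated
  have h2 : UniversallyClosed (X ↘ (Spec (CommRingCat.of k))) :=
    MorphismProperty.of_pullback_snd_of_descendsAlong (P := @UniversallyClosed) hg
      h.toUniversallyClosed
  have h3 : LocallyOfFiniteType (X ↘ (Spec (CommRingCat.of k))) :=
    MorphismProperty.of_pullback_snd_of_descendsAlong (P := @LocallyOfFiniteType) hg
      h.toLocallyOfFiniteType
  exact { toIsSeparated := h1, toUniversallyClosed := h2, toLocallyOfFiniteType := h3 }

end Groth.Agent.S1581
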