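import Groth.Statements.S14885
import Mathlib

set_option autoImplicit false
universe u v
open CategoryTheory TopologicalSpace Opposite AlgebraicGeometry Topology
open AlgGrp

set_option linter.style.haveILetI false

namespace Groth.Agent.S14885

noncomputable def liftInj {A B C : CommRingCat.{u}} (ι : A ⟶ B) (hι : Function.Injective ι)
    (φ : C ⟶ B) (h : ∀ c, ∃ a, ι a = φ c) : C ⟶ A :=
  CommRingCat.ofHom
    { toFun := fun c => (h c).choose
      map_one' := hι (by rw [(h 1).choose_spec, map_one, map_one])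
      map_mul' := fun x y => hι (by
        rw [(h _).choose_spec, map_mul, map_mul, (h x).choose_spec, (h y).choose_spec])
      map_zero' := hι (by rw [(h 0).choose_spec, map_zero, map_zero])
      map_add' := fun x y => hι (by
        rw [(h _).choose_spec, map_add, map_add, (h x).choose_spec, (h y).choose_spec]) }

theorem liftInj_comp {A B C : CommRingCat.{u}} (ι : A ⟶ B) (hι : Function.Injective ι)
    (φ : C ⟶ B) (h : ∀ c, ∃ a, ι a = φ c) : liftInj ι hι φ h ≫ ι = φ := by
  ext c
  exact (h c).choose_spec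

end Groth.Agent.S14885

namespace Groth.Agent.S14885

variable {X Y Z : SheafedSpace CommRingCat.{u}}

/-- In a thin category, two composites through presheaf maps agree. -/
theorem thin_eq {A : CommRingCat.{u}} {U : (Opens X)ᵒᵖ} {V : (Opens X)ᵒᵖ}
    (a : A ⟶ X.presheaf.obj U) (i j : U ⟶ V) : a ≫ X.presheaf.map i = a ≫ X.presheaf.map j := by
  rw [Subsingleton.elim i j]

theorem epi_of (π : X ⟶ Y) (hs : Function.Surjective π.hom.base)
    (hinj : ∀ V : Opens Y, Function.Injective (π.hom.c.app (op V)))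
    (a b : Y ⟶ Z) (hab : π ≫ a = π ≫ b) : a = b := by
  have hbase : a.hom.base = b.hom.base := by
    have h1 : π.hom.base ≫ a.hom.base = π.hom.base ≫ b.hom.base := by
      rw [← SheafedSpace.comp_hom_base, ← SheafedSpace.comp_hom_base, hab]
    haveI : Epi π.hom.base := (TopCat.epi_iff_surjective _).2 hs
    exact (cancel_epi _).1 h1
  obtain ⟨⟨ab, ac⟩⟩ := a
  obtain ⟨⟨bb, bc⟩⟩ := b
  dsimp at hbase
  subst hbase
  have hc : ac = bc := by
    apply NatTrans.ext
    funext W
    induction W using Opposite.rec with | _ W => ?_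
    haveI : Mono (π.hom.c.app (op ((Opens.map ab).obj W))) :=
      ConcreteCategory.mono_of_injective _ (hinj _)
    rw [← cancel_mono (π.hom.c.app (op ((Opens.map ab).obj W)))]
    have h2 : ac.app (op W) ≫ π.hom.c.app (op ((Opens.map ab).obj W)) =
        (bc.app (op W) ≫ π.hom.c.app (op ((Opens.map ab).obj W))) ≫ X.presheaf.map (𝟙 _) :=
      SheafedSpace.congr_hom_app hab (op W)
    rw [h2, X.presheaf.map_id]
    exact Category.comp_id _
  rw [hc]

end Groth.Agent.S14885

namespace Groth.Agent.S14885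

variable {X Y Z : SheafedSpace CommRingCat.{u}}

theorem exists_lift (π : X ⟶ Y) (b : (Y : TopCat) ⟶ (Z : TopCat))
    (fc : Z.presheaf ⟶ (π.hom.base ≫ b) _* X.presheaf)
    (hinj : ∀ V : Opens Y, Function.Injective (π.hom.c.app (op V)))
    (hrange : ∀ (W : Opens Z) (z : Z.presheaf.obj (op W)),
      ∃ y : Y.presheaf.obj (op ((Opens.map b).obj W)),
        π.hom.c.app (op ((Opens.map b).obj W)) y = fc.app (op W) z) :
    ∃ fbar : Y ⟶ Z, π ≫ fbar = (⟨⟨π.hom.base ≫ b, fc⟩⟩ : X ⟶ Z) := by
  have hmono : ∀ V : Opens Y, Mono (π.hom.c.app (op V)) := fun V =>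
    ConcreteCategory.mono_of_injective _ (hinj V)
  let capp : ∀ W : (Opens Z)ᵒᵖ, Z.presheaf.obj W ⟶ (b _* Y.presheaf).obj W := fun W =>
    liftInj (π.hom.c.app (op ((Opens.map b).obj W.unop))) (hinj _) (fc.app W) (hrange W.unop)
  have hcapp : ∀ W : (Opens Z)ᵒᵖ,
      capp W ≫ π.hom.c.app (op ((Opens.map b).obj W.unop)) = fc.app W := fun W =>
    liftInj_comp _ _ _ _
  let c : Z.presheaf ⟶ b _* Y.presheaf :=
    { app := capp
      naturality := by
        intro W W' i
        haveI := hmono ((Opens.map b).obj W'.unop)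
        rw [← cancel_mono (π.hom.c.app (op ((Opens.map b).obj W'.unop))), Category.assoc,
          hcapp W', Category.assoc]
        have hn := π.hom.c.naturality ((Opens.map b).op.map i)
        have h1 : capp W ≫ (b _* Y.presheaf).map i ≫
            π.hom.c.app (op ((Opens.map b).obj W'.unop)) =
            capp W ≫ π.hom.c.app (op ((Opens.map b).obj W.unop)) ≫
              (π.hom.base _* X.presheaf).map ((Opens.map b).op.map i) :=
          congrArg (fun t => capp W ≫ t) hn
        rw [h1, ← Category.assoc, hcapp W]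
        exact fc.naturality i }
  have hc : c ≫ (TopCat.Presheaf.pushforward _ b).map π.hom.c = fc := by
    apply NatTrans.ext
    funext W
    exact hcapp W
  refine ⟨⟨⟨b, c⟩⟩, ?_⟩
  exact congrArg (fun t => (⟨⟨π.hom.base ≫ b, t⟩⟩ : X ⟶ Z)) hc

end Groth.Agent.S14885

namespace Groth.Agent.S14885

theorem main (X Y : SheafedSpace CommRingCat.{u}) (Γ : Type v) [Group Γ]
    (τ : Γ →* Aut X) (π : X ⟶ Y) (hτ : ∀ g : Γ, (τ g).hom ≫ π = π)
    (h1 : IsQuotientMap π.hom.base)
    (h2 : ∀ x x' : X, π.hom.base x = π.hom.base x' ↔ ∃ g : Γ, (τ g).hom.hom.base x = x')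
    (h3 : ∀ V : Opens Y, Function.Injective (π.hom.c.app (op V)) ∧
      Set.range (π.hom.c.app (op V)) =
        {s | ∀ g : Γ, (τ g).hom.hom.c.app (op ((Opens.map π.hom.base).obj V)) s =
          X.presheaf.map (eqToHom (congrArg (fun f : X ⟶ Y => op ((Opens.map f.hom.base).obj V)) (hτ g).symm)) s})
    (Z : SheafedSpace CommRingCat.{u}) (f : X ⟶ Z) (hf : ∀ g : Γ, (τ g).hom ≫ f = f) :
    ∃! fbar : Y ⟶ Z, π ≫ fbar = f := by
  have hfac : Function.FactorsThrough f.hom.base π.hom.base := by
    intro x x' hxx'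
    obtain ⟨g, rfl⟩ := (h2 x x').1 hxx'
    have := congrArg (fun k : X ⟶ Z => k.hom.base x) (hf g)
    exact this.symm
  obtain ⟨b, hb⟩ : ∃ b : (Y : TopCat) ⟶ (Z : TopCat), π.hom.base ≫ b = f.hom.base := by
    refine ⟨TopCat.ofHom (h1.lift f.hom.base.hom hfac), ?_⟩
    ext x
    exact congrArg (fun k : C(X, Z) => k x) (h1.lift_comp f.hom.base.hom hfac)
  obtain ⟨⟨fb, fc⟩⟩ := f
  dsimp at hb
  subst hb
  have hrange : ∀ (W : Opens Z) (z : Z.presheaf.obj (op W)),
      ∃ y : Y.presheaf.obj (op ((Opens.map b).obj W)),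
        π.hom.c.app (op ((Opens.map b).obj W)) y = fc.app (op W) z := by
    intro W z
    have hmem : fc.app (op W) z ∈ Set.range (π.hom.c.app (op ((Opens.map b).obj W))) := by
      rw [(h3 _).2]
      intro g
      have h4 := SheafedSpace.congr_hom_app (hf g) (op W)
      exact ConcreteCategory.congr_hom h4 z
    exact hmem
  obtain ⟨fbar, hfbar⟩ := exists_lift π b fc (fun V => (h3 V).1) hrange
  refine ⟨fbar, hfbar, ?_⟩
  intro fbar' hfbar'
  exact epi_of π h1.surjective (fun V => (h3 V).1) _ _ (hfbar'.trans hfbar.symm)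

end Groth.Agent.S14885

namespace Groth.Agent.S14885

/-- Let a group Γ act on a ringed space X (a topological space with a sheaf of rings) by automorphisms
τ_g, and let π : X → Y be a Γ-invariant morphism of ringed spaces which exhibits Y as the quotient
ringed space X/Γ: the underlying continuous map of π is a topological quotient map whose fibres are
exactly the Γ-orbits, and for every open subset V of Y the ring map O_Y(V) → O_X(π⁻¹V) is injective
with image the sections s satisfying τ_g^♯(s) = s for all g. Then (Y, π) is a categorical quotient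
for the action in the category of ringed spaces: every morphism of ringed spaces f : X → Z with f ∘
τ_g = f for all g (as morphisms of ringed spaces) factors uniquely as f = f̄ ∘ π. -/
theorem result (X Y : SheafedSpace CommRingCat.{u}) (Γ : Type v) [Group Γ]
    (τ : Γ →* Aut X) (π : X ⟶ Y) (hτ : ∀ g : Γ, (τ g).hom ≫ π = π)
    (h1 : IsQuotientMap π.hom.base)
    (h2 : ∀ x x' : X, π.hom.base x = π.hom.base x' ↔ ∃ g : Γ, (τ g).hom.hom.base x = x')
    (h3 : ∀ V : Opens Y, Function.Injective (π.hom.c.app (op V)) ∧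
      Set.range (π.hom.c.app (op V)) =
        {s | ∀ g : Γ, (τ g).hom.hom.c.app (op ((Opens.map π.hom.base).obj V)) s =
          X.presheaf.map (eqToHom (congrArg (fun f : X ⟶ Y => op ((Opens.map f.hom.base).obj V)) (hτ g).symm)) s})
    (Z : SheafedSpace CommRingCat.{u}) (f : X ⟶ Z) (hf : ∀ g : Γ, (τ g).hom ≫ f = f) :
    ∃! fbar : Y ⟶ Z, π ≫ fbar = f := by

  exact Groth.Agent.S14885.main X Y Γ τ π hτ h1 h2 h3 Z f hf

end Groth.Agent.S14885
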