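import Groth.Statements.S14888
import Mathlib

set_option autoImplicit false
universe u
open CategoryTheory AlgebraicGeometry
open CAlg

namespace Groth.Agent.S14888

/-- In a ring with finitely many primes, localizing at a prime is localizing at one element. -/
theorem exists_away {B : Type u} [CommRing B] [Finite (PrimeSpectrum B)] (q : Ideal B) [q.IsPrime]
    (S : Type u) [CommRing S] [Algebra B S] [IsLocalization.AtPrime S q] :
    ∃ t : B, IsLocalization.Away t S := by
  classical
  haveI := Fintype.ofFinite (PrimeSpectrum B)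
  have hch : ∀ p : PrimeSpectrum B, ∃ a : B, a ∉ q ∧ (¬ p.asIdeal ≤ q → a ∈ p.asIdeal) := by
    intro p
    by_cases hp : p.asIdeal ≤ q
    · exact ⟨1, fun h => (inferInstance : q.IsPrime).ne_top ((Ideal.eq_top_iff_one _).mpr h),
        fun h => absurd hp h⟩
    · obtain ⟨a, hap, haq⟩ := Set.not_subset.mp hp
      exact ⟨a, haq, fun _ => hap⟩
  choose a ha1 ha2 using hch
  set t : B := ∏ p, a p with ht
  have htq : t ∉ q := by
    rw [ht, Ideal.IsPrime.prod_mem_iff]
    rintro ⟨p, -, hp⟩
    exact ha1 p hp
  have htp : ∀ p : PrimeSpectrum B, ¬ p.asIdeal ≤ q → t ∈ p.asIdeal := by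
    intro p hp
    exact Ideal.mem_of_dvd _ (Finset.dvd_prod_of_mem a (Finset.mem_univ p)) (ha2 p hp)
  refine ⟨t, ?_⟩
  -- `Localization.Away t` is a localization at `q.primeCompl`
  have hunit : ∀ u : q.primeCompl, IsUnit (algebraMap B (Localization.Away t) u) := by
    rintro ⟨u, hu⟩
    by_contra hnu
    obtain ⟨M, hM, huM⟩ := exists_max_ideal_of_mem_nonunits hnu
    let p : PrimeSpectrum B := ⟨M.comap (algebraMap B (Localization.Away t)), inferInstance⟩
    have htM : t ∉ p.asIdeal := by
      intro h
      have : algebraMap B (Localization.Away t) t ∈ M := h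
      exact hM.ne_top (Ideal.eq_top_of_isUnit_mem _ this (IsLocalization.Away.algebraMap_isUnit t))
    have hpq : p.asIdeal ≤ q := by
      by_contra h
      exact htM (htp p h)
    exact hu (hpq huM)
  have hloc : IsLocalization q.primeCompl (Localization.Away t) := by
    refine ⟨hunit, ?_, ?_⟩
    · intro z
      obtain ⟨n, b, hz⟩ := IsLocalization.Away.surj t z
      refine ⟨⟨b, ⟨t ^ n, ?_⟩⟩, ?_⟩
      · exact fun h => htq ((inferInstance : q.IsPrime).mem_of_pow_mem n h)
      · simpa [map_pow] using hz
    · intro x y hxy
      obtain ⟨n, hn⟩ := IsLocalization.Away.exists_of_eq t hxy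
      exact ⟨⟨t ^ n, fun h => htq ((inferInstance : q.IsPrime).mem_of_pow_mem n h)⟩, hn⟩
  let e : Localization.Away t ≃ₐ[B] S := IsLocalization.algEquiv q.primeCompl _ _
  exact IsLocalization.isLocalization_of_algEquiv (Submonoid.powers t) e

/-- Let R be a valuation ring whose spectrum is finite (finite height) and let f : X → Spec R be locally
of finite type with locally quasi-finite fibres. For every x ∈ X the canonical morphism Spec O_{X,x}
→ X is an open immersion, and the composite Spec O_{X,x} → Spec R is locally of finite type; in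
particular O_{X,x} is finitely generated as an R-algebra. (The published statement takes X
quasi-finite over Spec R; the assertions are local at x, so this row assumes only that X is locally
of finite type with discrete fibres.) -/
theorem result
    (R : Type u) [CommRing R] [IsDomain R] [ValuationRing R] [Finite (PrimeSpectrum R)]
    {X : Scheme.{u}} (f : X ⟶ Spec (CommRingCat.of R)) [LocallyOfFiniteType f] [LocallyQuasiFinite f]
    (x : X) :
    IsOpenImmersion (X.fromSpecStalk x) ∧ LocallyOfFiniteType (X.fromSpecStalk x ≫ f) := by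
  obtain ⟨U, hU, hxU, -⟩ := exists_isAffineOpen_mem_and_subset (X := X) (x := x) (U := ⊤) trivial
  have hfinSpec : Finite (Spec (CommRingCat.of R)) := inferInstanceAs (Finite (PrimeSpectrum R))
  let g : (U : Scheme) ⟶ Spec (CommRingCat.of R) := U.ι ≫ f
  haveI : IsAffine U := hU
  have hqc : QuasiCompact g := by
    rw [quasiCompact_iff_compactSpace g]; infer_instance
  have hfinU : Finite U := by
    have := g.finite_preimage (s := Set.univ) Set.finite_univ
    rw [Set.preimage_univ] at this
    exact Set.finite_univ_iff.mp this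
  have hfinB : Finite (PrimeSpectrum Γ(X, U)) :=
    Finite.of_equiv _ (Scheme.homeoOfIso hU.isoSpec).toEquiv
  letI alg : Algebra Γ(X, U) (X.presheaf.stalk x) := X.presheaf.algebra_section_stalk ⟨x, hxU⟩
  have hloc := hU.isLocalization_stalk ⟨x, hxU⟩
  obtain ⟨t, ht⟩ := exists_away (hU.primeIdealOf ⟨x, hxU⟩).asIdeal (X.presheaf.stalk x)
  have h1 : IsOpenImmersion (Spec.map (X.presheaf.germ U x hxU)) :=
    IsOpenImmersion.of_isLocalization (R := Γ(X, U)) (S := X.presheaf.stalk x) t
  have h2 : IsOpenImmersion (X.fromSpecStalk x) := by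
    rw [← hU.fromSpecStalk_eq_fromSpecStalk hxU]
    unfold IsAffineOpen.fromSpecStalk
    infer_instance
  exact ⟨h2, inferInstance⟩

end Groth.Agent.S14888
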