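import Groth.Statements.S14891
import Mathlib
-- import your own Groth.Agent.* helpers here

set_option autoImplicit false
universe u
open CAlg

namespace Groth.Agent.S14891

open Valuation IsLocalRing

section ultrametric

variable {L Γ : Type*} [Field L] [LinearOrderedCommGroupWithZero Γ] (v : Valuation L Γ)

/-- a finite sum whose nonzero terms have pairwise distinct valuations vanishes only if all
terms vanish -/
lemma eq_zero_of_sum_eq_zero {ι : Type*} (s : Finset ι) (a : ι → L)
    (hd : ∀ i ∈ s, ∀ j ∈ s, a i ≠ 0 → a j ≠ 0 → v (a i) = v (a j) → i = j)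
    (hsum : ∑ i ∈ s, a i = 0) : ∀ i ∈ s, a i = 0 := by
  classical
  by_contra hne
  push Not at hne
  obtain ⟨i₀, hi₀, hai₀⟩ := hne
  obtain ⟨i₁, hi₁, hmax⟩ := s.exists_max_image (fun i => v (a i)) ⟨i₀, hi₀⟩
  have hpos : v (a i₁) ≠ 0 := by
    intro h0
    have := hmax i₀ hi₀
    rw [h0] at this
    exact hai₀ ((v.zero_iff).mp (le_antisymm this zero_le))
  have hai₁ : a i₁ ≠ 0 := fun h => hpos (by rw [h, map_zero])
  have hlt : ∀ j ∈ s.erase i₁, v (a j) < v (a i₁) := by
    intro j hj
    have hj' := Finset.mem_of_mem_erase hj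
    have hne : j ≠ i₁ := Finset.ne_of_mem_erase hj
    rcases eq_or_ne (a j) 0 with h | h
    · rw [h, map_zero]; exact zero_lt_iff.mpr hpos
    · exact lt_of_le_of_ne (hmax j hj') (fun heq => hne (hd j hj' i₁ hi₁ h hai₁ heq))
  have hsumlt : v (∑ j ∈ s.erase i₁, a j) < v (a i₁) := v.map_sum_lt hpos hlt
  rw [← Finset.add_sum_erase s a hi₁] at hsum
  have h2 : a i₁ = -∑ j ∈ s.erase i₁, a j := eq_neg_of_add_eq_zero_left hsum
  have h3 : v (a i₁) = v (∑ j ∈ s.erase i₁, a j) := by
    conv_lhs => rw [h2]
    exact Valuation.map_neg v _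
  rw [h3] at hsumlt
  exact lt_irrefl _ hsumlt

end ultrametric

section gauss

variable {K L Γ₀ Γ₁ : Type u} [Field K] [Field L] [Algebra K L]
  [LinearOrderedCommGroupWithZero Γ₀] [LinearOrderedCommGroupWithZero Γ₁]
  (vK : Valuation K Γ₀) (vL : Valuation L Γ₁) [vK.HasExtension vL]

lemma exists_val_eq {κ : Type*} (y : κ → vL.valuationSubring)
    (hy : AlgebraicIndependent (ResidueField vK.valuationSubring)
      (fun j => residue vL.valuationSubring (y j)))
    (q : MvPolynomial κ K) (hq : q ≠ 0) :
    ∃ c : K, c ≠ 0 ∧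
      vL (MvPolynomial.aeval (fun j => ((y j : vL.valuationSubring) : L)) q) =
        vL (algebraMap K L c) := by
  classical
  have hsupp : q.support.Nonempty := by
    rw [Finset.nonempty_iff_ne_empty, Ne, MvPolynomial.support_eq_empty]; exact hq
  obtain ⟨n₀, hn₀, hmax⟩ := q.support.exists_max_image (fun n => vK (q.coeff n)) hsupp
  set c := q.coeff n₀ with hc
  have hc0 : c ≠ 0 := MvPolynomial.mem_support_iff.mp hn₀
  refine ⟨c, hc0, ?_⟩
  -- the normalised polynomial
  set q₁ : MvPolynomial κ K := MvPolynomial.C c⁻¹ * q with hq₁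
  have hcoeff : ∀ n, vK (q₁.coeff n) ≤ 1 := by
    intro n
    rw [hq₁, MvPolynomial.coeff_C_mul, map_mul, map_inv₀]
    by_cases hn : n ∈ q.support
    · have := hmax n hn
      rw [inv_mul_le_iff₀ (zero_lt_iff.mpr ((vK.ne_zero_iff).mpr hc0)), mul_one]
      exact this
    · rw [MvPolynomial.notMem_support_iff.mp hn, map_zero, mul_zero]
      exact zero_le_one
  have hrange : q₁ ∈ Set.range (MvPolynomial.map (vK.valuationSubring.subtype)) := by
    rw [MvPolynomial.mem_range_map_iff_coeffs_subset]
    intro a ha
    obtain ⟨n, -, rfl⟩ := MvPolynomial.mem_coeffs_iff.mp ha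
    exact ⟨⟨q₁.coeff n, hcoeff n⟩, rfl⟩
  obtain ⟨q₀, hq₀⟩ := hrange
  have hq₀n : q₀.coeff n₀ = 1 := by
    apply Subtype.ext
    have := congrArg (MvPolynomial.coeff n₀) hq₀
    rw [MvPolynomial.coeff_map] at this
    rw [show ((q₀.coeff n₀ : vK.valuationSubring) : K) = vK.valuationSubring.subtype (q₀.coeff n₀)
      from rfl, this, hq₁, MvPolynomial.coeff_C_mul, ← hc, inv_mul_cancel₀ hc0]
    rfl
  -- the value in `L₀`
  set r : vL.valuationSubring :=
    MvPolynomial.eval₂ (algebraMap vK.valuationSubring vL.valuationSubring) y q₀ with hr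
  have hrL : ((r : vL.valuationSubring) : L) =
      MvPolynomial.aeval (fun j => ((y j : vL.valuationSubring) : L)) q₁ := by
    have h1 := MvPolynomial.eval₂_comp_left (vL.valuationSubring.subtype)
      (algebraMap vK.valuationSubring vL.valuationSubring) y q₀
    rw [MvPolynomial.aeval_def, ← hq₀, MvPolynomial.eval₂_map]
    exact h1
  have hres : residue vL.valuationSubring r ≠ 0 := by
    have h1 := MvPolynomial.eval₂_comp_left (residue vL.valuationSubring)
      (algebraMap vK.valuationSubring vL.valuationSubring) y q₀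
    have h2 : (residue vL.valuationSubring).comp
        (algebraMap vK.valuationSubring vL.valuationSubring) =
        (algebraMap (ResidueField vK.valuationSubring) (ResidueField vL.valuationSubring)).comp
          (residue vK.valuationSubring) := rfl
    rw [h2, ← MvPolynomial.eval₂_map] at h1
    rw [hr, h1]
    have h3 : MvPolynomial.map (residue vK.valuationSubring) q₀ ≠ 0 := by
      intro h0
      have := congrArg (MvPolynomial.coeff n₀) h0
      rw [MvPolynomial.coeff_map, hq₀n, map_one, MvPolynomial.coeff_zero] at this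
      exact one_ne_zero this
    intro h0
    exact h3 ((algebraicIndependent_iff.mp hy) _ (by rw [MvPolynomial.aeval_def]; exact h0))
  have hv1 : vL ((r : vL.valuationSubring) : L) = 1 := by
    have hle : vL ((r : vL.valuationSubring) : L) ≤ 1 := r.2
    refine le_antisymm hle (not_lt.mp fun hlt => hres ?_)
    rw [residue_eq_zero_iff]
    exact (Valuation.mem_maximalIdeal_iff (v := vL)).mpr hlt
  have hq' : q = MvPolynomial.C c * q₁ := by
    rw [hq₁, ← mul_assoc, ← map_mul, mul_inv_cancel₀ hc0, map_one, one_mul]
  conv_lhs => rw [hq', map_mul, MvPolynomial.aeval_C, ← hrL, map_mul, hv1, mul_one]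

end gauss

section main

variable {K L Γ₀ Γ₁ : Type u} [Field K] [Field L] [Algebra K L]
  [LinearOrderedCommGroupWithZero Γ₀] [LinearOrderedCommGroupWithZero Γ₁]
  (vK : Valuation K Γ₀) (vL : Valuation L Γ₁) [vK.HasExtension vL]

variable (K) in
/-- the subgroup generated by the units of the valuation ring and `K^×` -/
noncomputable abbrev HH : Subgroup Lˣ :=
  vL.valuationSubring.unitGroup ⊔ (Units.map (algebraMap K L).toMonoidHom).range

variable (K) in
/-- the quotient of value groups -/
abbrev QQ := Additive Lˣ ⧸ Subgroup.toAddSubgroup (HH K vL)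

variable {ι : Type*} (xu : ι → Lˣ)

/-- monomials in the `x_i` -/
noncomputable def mon (m : ι →₀ ℕ) : Lˣ := m.prod (fun i n => xu i ^ n)

lemma coe_mon (m : ι →₀ ℕ) :
    ((mon xu m : Lˣ) : L) = ∏ i ∈ m.support, ((xu i : Lˣ) : L) ^ m i := by
  unfold mon Finsupp.prod
  rw [Units.coe_prod]
  simp

lemma mk_mon (m : ι →₀ ℕ) :
    (QuotientAddGroup.mk (Additive.ofMul (mon xu m)) : QQ K vL) =
      Finsupp.linearCombination ℤ
        (fun i => (QuotientAddGroup.mk (Additive.ofMul (xu i)) : QQ K vL))
        (m.mapRange (Nat.cast : ℕ → ℤ) (by simp)) := by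
  rw [Finsupp.linearCombination_apply, Finsupp.sum_mapRange_index (by intro; simp)]
  unfold mon Finsupp.prod Finsupp.sum
  rw [ofMul_prod]
  change (QuotientAddGroup.mk' _) _ = _
  rw [map_sum]
  refine Finset.sum_congr rfl (fun i _ => ?_)
  rw [ofMul_pow, map_nsmul]
  exact (natCast_zsmul _ _).symm

lemma mon_injective
    (hx : LinearIndependent ℤ
      (fun i => (QuotientAddGroup.mk (Additive.ofMul (xu i)) : QQ K vL)))
    (m m' : ι →₀ ℕ)
    (h : (QuotientAddGroup.mk (Additive.ofMul (mon xu m)) : QQ K vL) =
      QuotientAddGroup.mk (Additive.ofMul (mon xu m'))) : m = m' := by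
  rw [mk_mon, mk_mon] at h
  have h2 := hx h
  exact Finsupp.mapRange_injective _ (by simp) Nat.cast_injective h2

theorem algebraicIndependent_sumElim {κ : Type*} (y : κ → vL.valuationSubring)
    (hx : LinearIndependent ℤ
      (fun i => (QuotientAddGroup.mk (Additive.ofMul (xu i)) : QQ K vL)))
    (hy : AlgebraicIndependent (ResidueField vK.valuationSubring)
      (fun j => residue vL.valuationSubring (y j))) :
    AlgebraicIndependent K (Sum.elim (fun i => ((xu i : Lˣ) : L))
      (fun j => ((y j : vL.valuationSubring) : L))) := by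
  classical
  rw [AlgebraicIndependent.sumElim_iff]
  have hinj : Function.Injective (algebraMap K L) := (algebraMap K L).injective
  have hvne : ∀ c : K, c ≠ 0 → vL (algebraMap K L c) ≠ 0 := fun c hc =>
    (vL.ne_zero_iff).mpr ((map_ne_zero_iff _ hinj).mpr hc)
  refine ⟨?_, ?_⟩
  · rw [algebraicIndependent_iff]
    intro q hq0
    by_contra hq
    obtain ⟨c, hc0, hv⟩ := exists_val_eq vK vL y hy q hq
    rw [hq0, map_zero] at hv
    exact hvne c hc0 hv.symm
  · rw [algebraicIndependent_iff]
    intro p hp0
    by_contra hp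
    have hsum : ∑ m ∈ p.support, algebraMap (Algebra.adjoin K (Set.range fun j => ((y j : vL.valuationSubring) : L))) L (p.coeff m) *
        ∏ i ∈ m.support, ((xu i : Lˣ) : L) ^ m i = 0 := by
      rw [← hp0, MvPolynomial.aeval_def, MvPolynomial.eval₂_eq]
    have key := eq_zero_of_sum_eq_zero vL p.support
      (fun m => algebraMap (Algebra.adjoin K (Set.range fun j => ((y j : vL.valuationSubring) : L))) L (p.coeff m) * ∏ i ∈ m.support, ((xu i : Lˣ) : L) ^ m i) ?_ hsum
    · have hsupp : p.support.Nonempty := by
        rw [Finset.nonempty_iff_ne_empty, Ne, MvPolynomial.support_eq_empty]; exact hp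
      obtain ⟨m, hm⟩ := hsupp
      have h0 := key m hm
      rw [← coe_mon] at h0
      rcases mul_eq_zero.mp h0 with h | h
      · have : p.coeff m = 0 := by
          apply Subtype.ext
          exact h
        exact MvPolynomial.mem_support_iff.mp hm this
      · exact (mon xu m).ne_zero h
    · intro m _ m' _ ha ha' hv
      rw [← coe_mon] at ha ha' hv
      rw [← coe_mon] at hv
      have hb : ∀ n : ι →₀ ℕ, algebraMap (Algebra.adjoin K (Set.range fun j => ((y j : vL.valuationSubring) : L))) L (p.coeff n) * ((mon xu n : Lˣ) : L) ≠ 0 →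
          ∃ c : K, c ≠ 0 ∧ vL (algebraMap (Algebra.adjoin K (Set.range fun j => ((y j : vL.valuationSubring) : L))) L (p.coeff n)) = vL (algebraMap K L c) := by
        intro n hn
        have hne : algebraMap (Algebra.adjoin K (Set.range fun j => ((y j : vL.valuationSubring) : L))) L (p.coeff n) ≠ 0 := left_ne_zero_of_mul hn
        have hrange : ∀ b : ↥(Algebra.adjoin K
            (Set.range fun j => ((y j : vL.valuationSubring) : L))),
            ∃ q : MvPolynomial κ K,
              MvPolynomial.aeval (fun j => ((y j : vL.valuationSubring) : L)) q = (b : L) := by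
          rintro ⟨b, hb⟩
          rw [Algebra.adjoin_range_eq_range_aeval] at hb
          exact hb
        obtain ⟨q, hq⟩ := hrange (p.coeff n)
        have hq0 : q ≠ 0 := by
          rintro rfl
          rw [map_zero] at hq
          exact hne hq.symm
        obtain ⟨c, hc0, hvc⟩ := exists_val_eq vK vL y hy q hq0
        refine ⟨c, hc0, ?_⟩
        rw [← hvc]
        congr 1
        exact hq.symm
      obtain ⟨c, hc0, hc⟩ := hb m ha
      obtain ⟨c', hc'0, hc'⟩ := hb m' ha'
      rw [map_mul, map_mul, hc, hc'] at hv
      apply mon_injective vL xu hx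
      rw [← sub_eq_zero, ← QuotientAddGroup.mk_sub, QuotientAddGroup.eq_zero_iff]
      change mon xu m / mon xu m' ∈ HH K vL
      -- the unit of valuation one
      let cu : Kˣ := Units.mk0 (c / c') (div_ne_zero hc0 hc'0)
      let w : Lˣ := mon xu m / mon xu m' * Units.map (algebraMap K L).toMonoidHom cu
      have hw : w ∈ vL.valuationSubring.unitGroup := by
        rw [Valuation.mem_unitGroup_iff]
        simp only [w, cu, Units.val_mul, Units.val_div_eq_div_val, Units.coe_map,
          RingHom.toMonoidHom_eq_coe, MonoidHom.coe_coe, Units.val_mk0, map_mul, map_div₀]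
        have h1 := hvne c hc0
        have h2 := hvne c' hc'0
        have h3 : vL ((mon xu m' : Lˣ) : L) ≠ 0 := (vL.ne_zero_iff).mpr (mon xu m').ne_zero
        field_simp
        rw [mul_comm, hv, mul_comm]
      have : mon xu m / mon xu m' = w * (Units.map (algebraMap K L).toMonoidHom cu)⁻¹ := by
        simp only [w]
        rw [mul_assoc, mul_inv_cancel, mul_one]
      rw [this]
      exact Subgroup.mul_mem_sup hw (Subgroup.inv_mem _ ⟨cu, rfl⟩)

end main

/-- Let L/K be an extension of valued fields, i.e. v_L is a valuation on L whose restriction to K is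
equivalent to v_K. Write E for the rational rank of the quotient of value groups |L^×|/|K^×| — here
the rank of the abelian group L^× modulo the subgroup generated by the units of the valuation ring
of v_L and the image of K^× — and F for the transcendence degree of the residue field of v_L over
that of v_K. Then E + F ≤ tr.deg(L/K) (an inequality of cardinals). -/
theorem result
    {K L Γ₀ Γ₁ : Type u} [Field K] [Field L] [Algebra K L]
    [LinearOrderedCommGroupWithZero Γ₀] [LinearOrderedCommGroupWithZero Γ₁]
    (vK : Valuation K Γ₀) (vL : Valuation L Γ₁) [vK.HasExtension vL] :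
    Module.rank ℤ (Additive Lˣ ⧸ Subgroup.toAddSubgroup
        (vL.valuationSubring.unitGroup ⊔ (Units.map (algebraMap K L).toMonoidHom).range)) +
      Algebra.trdeg (IsLocalRing.ResidueField vK.valuationSubring)
        (IsLocalRing.ResidueField vL.valuationSubring) ≤ Algebra.trdeg K L := by
  classical
  obtain ⟨s, hs, hsli⟩ := exists_set_linearIndependent_of_isDomain ℤ (QQ K vL)
  have hlift : ∀ a : s, ∃ x : Lˣ, (QuotientAddGroup.mk (Additive.ofMul x) : QQ K vL) = a.1 := by
    intro a
    obtain ⟨z, hz⟩ := QuotientAddGroup.mk_surjective a.1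
    exact ⟨Additive.toMul z, hz⟩
  choose xu hxu using hlift
  have hx : LinearIndependent ℤ
      (fun i : s => (QuotientAddGroup.mk (Additive.ofMul (xu i)) : QQ K vL)) := by
    have : (fun i : s => (QuotientAddGroup.mk (Additive.ofMul (xu i)) : QQ K vL)) =
        fun i : s => (i : QQ K vL) := funext hxu
    rw [this]
    exact hsli
  obtain ⟨t, ht⟩ := exists_isTranscendenceBasis (IsLocalRing.ResidueField vK.valuationSubring)
    (IsLocalRing.ResidueField vL.valuationSubring)
  have htc := ht.cardinalMk_eq_trdeg
  have hliftt : ∀ b : t, ∃ y : vL.valuationSubring,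
      IsLocalRing.residue vL.valuationSubring y = b.1 :=
    fun b => IsLocalRing.residue_surjective b.1
  choose y hy using hliftt
  have hyai : AlgebraicIndependent (IsLocalRing.ResidueField vK.valuationSubring)
      (fun j : t => IsLocalRing.residue vL.valuationSubring (y j)) := by
    have : (fun j : t => IsLocalRing.residue vL.valuationSubring (y j)) =
        ((↑) : t → IsLocalRing.ResidueField vL.valuationSubring) := funext hy
    rw [this]
    exact ht.1
  have hai := algebraicIndependent_sumElim vK vL xu y hx hyai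
  have hcard := hai.cardinalMk_le_trdeg
  rw [Cardinal.mk_sum, Cardinal.lift_id, Cardinal.lift_id] at hcard
  rw [← hs, ← htc]
  exact hcard



end Groth.Agent.S14891
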