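import Groth.Statements.S14892
import Mathlib
import Groth.Agent.S14891

set_option autoImplicit false
universe u
open CAlg


namespace Groth.Agent.S14892

section ordered
variable {Γ : Type*} [LinearOrderedCommGroupWithZero Γ]

/-- `t` is "infinitely larger" than `a`, two-sided -/
def Big (a t : Γ) : Prop := t ≠ 0 ∧ ∀ k : ℕ, a < t ^ k ∧ a < t⁻¹ ^ k

theorem Big.one {a : Γ} (ha : a < 1) : Big a 1 :=
  ⟨one_ne_zero, fun k => by simp [ha]⟩

theorem Big.inv {a t : Γ} (h : Big a t) : Big a t⁻¹ :=
  ⟨inv_ne_zero h.1, fun k => ⟨(h.2 k).2, by rw [inv_inv]; exact (h.2 k).1⟩⟩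

theorem Big.mul {a t s : Γ} (ht : Big a t) (hs : Big a s) : Big a (t * s) := by
  refine ⟨mul_ne_zero ht.1 hs.1, fun k => ⟨?_, ?_⟩⟩
  · rw [mul_pow]
    rcases le_total (t ^ k) (s ^ k) with h | h
    · calc a < t ^ (2 * k) := (ht.2 _).1
        _ = t ^ k * t ^ k := by rw [two_mul, pow_add]
        _ ≤ t ^ k * s ^ k := mul_le_mul_right h _
    · calc a < s ^ (2 * k) := (hs.2 _).1
        _ = s ^ k * s ^ k := by rw [two_mul, pow_add]
        _ ≤ t ^ k * s ^ k := mul_le_mul_left h _
  · rw [mul_inv, mul_pow]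
    rcases le_total (t⁻¹ ^ k) (s⁻¹ ^ k) with h | h
    · calc a < t⁻¹ ^ (2 * k) := (ht.2 _).2
        _ = t⁻¹ ^ k * t⁻¹ ^ k := by rw [two_mul, pow_add]
        _ ≤ t⁻¹ ^ k * s⁻¹ ^ k := mul_le_mul_right h _
    · calc a < s⁻¹ ^ (2 * k) := (hs.2 _).2
        _ = s⁻¹ ^ k * s⁻¹ ^ k := by rw [two_mul, pow_add]
        _ ≤ t⁻¹ ^ k * s⁻¹ ^ k := mul_le_mul_left h _

theorem Big.pow {a t : Γ} (ha : a < 1) (ht : Big a t) (n : ℕ) : Big a (t ^ n) := by
  induction n with
  | zero => rw [pow_zero]; exact Big.one ha
  | succ n ih => rw [pow_succ]; exact ih.mul ht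

theorem Big.zpow {a t : Γ} (ha : a < 1) (ht : Big a t) (n : ℤ) : Big a (t ^ n) := by
  cases n with
  | ofNat n => rw [Int.ofNat_eq_natCast, zpow_natCast]; exact ht.pow ha n
  | negSucc n => rw [zpow_negSucc]; exact (ht.pow ha _).inv

theorem Big.prod {a : Γ} (ha : a < 1) {ι : Type*} (s : Finset ι) (f : ι → Γ)
    (hf : ∀ i ∈ s, Big a (f i)) : Big a (∏ i ∈ s, f i) := by
  classical
  induction s using Finset.induction_on with
  | empty => rw [Finset.prod_empty]; exact Big.one ha
  | insert i s hi ih =>
    rw [Finset.prod_insert hi]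
    exact (hf i (Finset.mem_insert_self _ _)).mul
      (ih fun j hj => hf j (Finset.mem_insert_of_mem hj))

theorem big_of_lt {a t : Γ} (ht1 : t ≤ 1) (h : ∀ k : ℕ, a < t ^ k) : Big a t := by
  have ht0 : t ≠ 0 := by
    rintro rfl
    have := h 1
    simp at this
  refine ⟨ht0, fun k => ⟨h k, ?_⟩⟩
  have h1 : (1 : Γ) ≤ t⁻¹ ^ k := one_le_pow₀ ((one_le_inv₀ (zero_lt_iff.mpr ht0)).mpr ht1)
  have h2 : a < 1 := by simpa using h 0
  exact h2.trans_le h1

/-- pairwise archimedean-inequivalent elements `< 1` are `ℤ`-independent. -/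
theorem indep_of_pairwise {ι : Type*} (h : ι → Γ) (n : ι → ℤ) :
    ∀ (m : ℕ) (s : Finset ι), s.card = m → (∀ i ∈ s, h i ≠ 0) → (∀ i ∈ s, h i < 1) →
      (∀ i ∈ s, ∀ j ∈ s, i ≠ j → (∀ k : ℕ, h i < h j ^ k) ∨ (∀ k : ℕ, h j < h i ^ k)) →
      ∏ i ∈ s, h i ^ n i = 1 → ∀ i ∈ s, n i = 0 := by
  classical
  intro m
  induction m with
  | zero =>
    intro s hs _ _ _ _ i hi
    rw [Finset.card_eq_zero] at hs
    rw [hs] at hi
    exact absurd hi (Finset.notMem_empty i)
  | succ m ih =>
    intro s hs h0 h1 hp hn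
    have hne : s.Nonempty := by rw [← Finset.card_pos]; omega
    obtain ⟨i₀, hi₀, hmin⟩ := s.exists_min_image h hne
    set a := h i₀ with ha
    have ha1 : a < 1 := h1 i₀ hi₀
    have ha0 : a ≠ 0 := h0 i₀ hi₀
    have hbig : ∀ j ∈ s.erase i₀, Big a (h j ^ n j) := by
      intro j hj
      have hjs := Finset.mem_of_mem_erase hj
      have hji : j ≠ i₀ := Finset.ne_of_mem_erase hj
      refine Big.zpow ha1 (big_of_lt (h1 j hjs).le ?_) _
      rcases hp i₀ hi₀ j hjs hji.symm with h' | h'
      · exact h'
      · exact absurd (h' 1) (by rw [pow_one]; exact not_lt.mpr (hmin j hjs))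
    have hR := Big.prod ha1 (s.erase i₀) (fun j => h j ^ n j) hbig
    rw [← Finset.mul_prod_erase s _ hi₀] at hn
    set R := ∏ j ∈ s.erase i₀, h j ^ n j with hRdef
    have hn0 : n i₀ = 0 := by
      by_contra hne0
      rcases lt_or_gt_of_ne hne0 with hlt | hgt
      · -- n i₀ < 0 : R = a ^ (-n i₀) ≤ a
        have hR' : R = a ^ (-(n i₀)) := by
          rw [zpow_neg]
          exact (eq_inv_of_mul_eq_one_right hn)
        obtain ⟨k, hk⟩ : ∃ k : ℕ, -(n i₀) = (k + 1 : ℕ) := ⟨(-(n i₀)).toNat - 1, by omega⟩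
        have h3 : R ≤ a := by
          rw [hR', hk, zpow_natCast, pow_succ]
          exact mul_le_of_le_one_left' (pow_le_one' ha1.le k)
        have h4 := (hR.2 1).1
        rw [pow_one] at h4
        exact absurd h4 (not_lt.mpr h3)
      · obtain ⟨k, hk⟩ : ∃ k : ℕ, n i₀ = (k + 1 : ℕ) := ⟨(n i₀).toNat - 1, by omega⟩
        have hR' : R⁻¹ = a ^ (n i₀) := by rw [eq_inv_of_mul_eq_one_right hn, inv_inv]
        have h3 : R⁻¹ ≤ a := by
          rw [hR', hk, zpow_natCast, pow_succ]
          exact mul_le_of_le_one_left' (pow_le_one' ha1.le k)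
        have h4 := (hR.2 1).2
        rw [pow_one] at h4
        exact absurd h4 (not_lt.mpr h3)
    rw [hn0, zpow_zero, one_mul] at hn
    intro i hi
    by_cases hii : i = i₀
    · rw [hii]; exact hn0
    · refine ih (s.erase i₀) (by rw [Finset.card_erase_of_mem hi₀]; omega)
        (fun j hj => h0 j (Finset.mem_of_mem_erase hj))
        (fun j hj => h1 j (Finset.mem_of_mem_erase hj))
        (fun j hj j' hj' => hp j (Finset.mem_of_mem_erase hj) j' (Finset.mem_of_mem_erase hj'))
        hn i (Finset.mem_erase.mpr ⟨hii, hi⟩)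

end ordered

section primefield
variable {K : Type u} [Field K] {Γ : Type*} [LinearOrderedCommGroupWithZero Γ] (v : Valuation K Γ)

theorem exists_int_div (c : K) (hc : c ∈ (⊥ : Subfield K)) :
    ∃ a b : ℤ, (b : K) ≠ 0 ∧ c = a / b := by
  rw [← Subfield.closure_empty] at hc
  induction hc using Subfield.closure_induction with
  | mem x hx => exact absurd hx (Set.notMem_empty x)
  | one => exact ⟨1, 1, by simp, by simp⟩
  | add x y _ _ hx hy =>
    obtain ⟨a, b, hb, rfl⟩ := hx
    obtain ⟨a', b', hb', rfl⟩ := hy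
    refine ⟨a * b' + a' * b, b * b', by push_cast; exact mul_ne_zero hb hb', ?_⟩
    push_cast
    field_simp
  | neg x _ hx =>
    obtain ⟨a, b, hb, rfl⟩ := hx
    exact ⟨-a, b, hb, by push_cast; ring⟩
  | inv x _ hx =>
    obtain ⟨a, b, hb, rfl⟩ := hx
    by_cases ha : (a : K) = 0
    · exact ⟨0, 1, by simp, by simp [ha]⟩
    · exact ⟨b, a, ha, by rw [inv_div]⟩
  | mul x y _ _ hx hy =>
    obtain ⟨a, b, hb, rfl⟩ := hx
    obtain ⟨a', b', hb', rfl⟩ := hy
    refine ⟨a * a', b * b', by push_cast; exact mul_ne_zero hb hb', ?_⟩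
    push_cast
    rw [div_mul_div_comm]

theorem val_int_eq (a : ℤ) : v (a : K) = v ((a.natAbs : ℕ) : K) := by
  rcases Int.natAbs_eq a with h | h
  · conv_lhs => rw [h]
    simp
  · conv_lhs => rw [h]
    simp

theorem prime_field_val (hint : ∀ n : ℕ, v (n : K) ≤ 1) :
    (∀ c ∈ (⊥ : Subfield K), c ≠ 0 → v c = 1) ∨
      (∃ w : Γ, w ≠ 0 ∧ w < 1 ∧ ∀ c ∈ (⊥ : Subfield K), c ≠ 0 → ∃ e : ℤ, v c = w ^ e) := by
  classical
  by_cases hex : ∃ n : ℕ, (n : K) ≠ 0 ∧ v (n : K) < 1
  · right
    set l := Nat.find hex with hl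
    have hl0 : (l : K) ≠ 0 := (Nat.find_spec hex).1
    have hw1 : v (l : K) < 1 := (Nat.find_spec hex).2
    have hl2 : 2 ≤ l := by
      rcases Nat.lt_or_ge l 2 with h | h
      · interval_cases l
        · simp at hl0
        · simp at hw1
      · exact h
    have hnat : ∀ n : ℕ, (n : K) ≠ 0 → ∃ e : ℕ, v (n : K) = v (l : K) ^ e := by
      intro n
      induction n using Nat.strong_induction_on with
      | _ n ih =>
        intro hn0
        by_cases hvn : v (n : K) < 1
        · have hln : l ≤ n := Nat.find_min' hex ⟨hn0, hvn⟩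
          have hnqr : (n : K) = ((n / l : ℕ) : K) * (l : K) + ((n % l : ℕ) : K) := by
            have h := congrArg (Nat.cast : ℕ → K) (Nat.div_add_mod' n l).symm
            push_cast at h
            exact h
          have hrlt : n % l < l := Nat.mod_lt _ (by omega)
          have hq_lt : n / l < n := Nat.div_lt_self (by omega) hl2
          by_cases hr0 : ((n % l : ℕ) : K) = 0
          · have hq0 : ((n / l : ℕ) : K) ≠ 0 := by
              intro h
              apply hn0
              rw [hnqr, h, hr0]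
              simp
            obtain ⟨e, he⟩ := ih (n / l) hq_lt hq0
            exact ⟨e + 1, by rw [hnqr, hr0, add_zero, map_mul, he, pow_succ]⟩
          · have hvr : v ((n % l : ℕ) : K) = 1 :=
              le_antisymm (hint _) (not_lt.mp fun h => Nat.find_min hex hrlt ⟨hr0, h⟩)
            have h1 : v (n : K) = 1 := by
              rw [hnqr]
              have hlt : v (((n / l : ℕ) : K) * (l : K)) < v ((n % l : ℕ) : K) := by
                rw [map_mul, hvr]
                exact lt_of_le_of_lt (mul_le_of_le_one_left' (hint _)) hw1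
              rw [Valuation.map_add_eq_of_lt_right v hlt, hvr]
            exact absurd hvn (by rw [h1]; exact lt_irrefl 1)
        · exact ⟨0, by rw [pow_zero]; exact le_antisymm (hint n) (not_lt.mp hvn)⟩
    refine ⟨v (l : K), (v.ne_zero_iff).mpr hl0, hw1, ?_⟩
    intro c hc hc0
    obtain ⟨a, b, hb, rfl⟩ := exists_int_div c hc
    have ha : (a : K) ≠ 0 := by
      intro h
      apply hc0
      rw [h, zero_div]
    have ha' : ((a.natAbs : ℕ) : K) ≠ 0 := by
      intro h
      have := val_int_eq v a
      rw [h, map_zero] at this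
      exact ha ((v.zero_iff).mp this)
    have hb' : ((b.natAbs : ℕ) : K) ≠ 0 := by
      intro h
      have := val_int_eq v b
      rw [h, map_zero] at this
      exact hb ((v.zero_iff).mp this)
    obtain ⟨e1, he1⟩ := hnat _ ha'
    obtain ⟨e2, he2⟩ := hnat _ hb'
    refine ⟨(e1 : ℤ) - e2, ?_⟩
    rw [map_div₀, val_int_eq v a, val_int_eq v b, he1, he2,
      zpow_sub₀ ((v.ne_zero_iff).mpr hl0), zpow_natCast, zpow_natCast]
  · left
    push Not at hex
    have hnat : ∀ n : ℕ, (n : K) ≠ 0 → v (n : K) = 1 :=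
      fun n hn => le_antisymm (hint n) (hex n hn)
    intro c hc hc0
    obtain ⟨a, b, hb, rfl⟩ := exists_int_div c hc
    have ha : (a : K) ≠ 0 := by
      intro h
      apply hc0
      rw [h, zero_div]
    have ha' : ((a.natAbs : ℕ) : K) ≠ 0 := by
      intro h
      have := val_int_eq v a
      rw [h, map_zero] at this
      exact ha ((v.zero_iff).mp this)
    have hb' : ((b.natAbs : ℕ) : K) ≠ 0 := by
      intro h
      have := val_int_eq v b
      rw [h, map_zero] at this
      exact hb ((v.zero_iff).mp this)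
    rw [map_div₀, val_int_eq v a, val_int_eq v b, hnat _ ha', hnat _ hb', div_one]

end primefield

section valring
variable {K : Type u} [Field K]

theorem lt_pow_of_mem_prime (A : ValuationSubring K) (p : Ideal A) [hp : p.IsPrime] (x y : A)
    (hx : x ∈ p) (hy : y ∉ p) (k : ℕ) :
    A.valuation (x : K) < A.valuation (y : K) ^ k := by
  by_contra hle
  rw [not_lt] at hle
  by_cases hx0 : (x : K) = 0
  · rw [hx0, map_zero, le_zero_iff, pow_eq_zero_iff', (A.valuation).zero_iff] at hle
    apply hy
    have : y = 0 := Subtype.ext hle.1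
    rw [this]
    exact p.zero_mem
  · have hvx : A.valuation (x : K) ≠ 0 := (A.valuation.ne_zero_iff).mpr hx0
    have hc : (y : K) ^ k / (x : K) ∈ A := by
      rw [← A.valuation_le_one_iff, map_div₀, map_pow]
      exact (div_le_one₀ (zero_lt_iff.mpr hvx)).mpr hle
    have h1 : y ^ k = x * ⟨(y : K) ^ k / (x : K), hc⟩ := by
      apply Subtype.ext
      rw [SubmonoidClass.coe_pow, MulMemClass.coe_mul]
      field_simp
    exact hy (hp.mem_of_pow_mem k (h1 ▸ p.mul_mem_right _ hx))

end valring

section main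
variable {K : Type u} [Field K] (A : ValuationSubring K)

open Groth.Agent.S14891

/-- restriction of the valuation to the prime field -/
noncomputable abbrev v0 : Valuation (⊥ : Subfield K) A.ValueGroup :=
  A.valuation.comap (algebraMap (⊥ : Subfield K) K)

instance : (v0 A).HasExtension A.valuation := ⟨Valuation.IsEquiv.refl⟩

theorem rank_le (d : ℕ) (hd : Algebra.trdeg (⊥ : Subfield K) K = d) :
    Module.rank ℤ (QQ (⊥ : Subfield K) A.valuation) ≤ d := by
  have := Groth.Agent.S14891.result (v0 A) A.valuation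
  rw [hd] at this
  exact le_trans (self_le_add_right _ _) this

theorem card_le_of_li {ι : Type} [Fintype ι] {M : Type u} [AddCommGroup M] (f : ι → M)
    (hli : LinearIndependent ℤ f) (d : ℕ) (hr : Module.rank ℤ M ≤ d) : Fintype.card ι ≤ d := by
  have h1 := hli.cardinal_lift_le_rank
  rw [Cardinal.mk_fintype, Cardinal.lift_natCast] at h1
  have h2 : Cardinal.lift.{0} (Module.rank ℤ M) ≤ Cardinal.lift.{0} (d : Cardinal.{u}) :=
    Cardinal.lift_le.mpr hr
  rw [Cardinal.lift_natCast] at h2
  exact_mod_cast h1.trans h2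

theorem val_of_rel {ι : Type*} (xu : ι → Kˣ) (s : Finset ι) (n : ι → ℤ)
    (h : ∑ i ∈ s, n i • (QuotientAddGroup.mk (Additive.ofMul (xu i)) :
      QQ (⊥ : Subfield K) A.valuation) = 0) :
    ∃ c : (⊥ : Subfield K), c ≠ 0 ∧
      ∏ i ∈ s, A.valuation (xu i : K) ^ n i = A.valuation (c : K) := by
  have h1 : (QuotientAddGroup.mk (Additive.ofMul (∏ i ∈ s, xu i ^ n i)) :
      QQ (⊥ : Subfield K) A.valuation) = 0 := by
    rw [← h, ofMul_prod]
    change (QuotientAddGroup.mk' _) _ = _
    rw [map_sum]
    refine Finset.sum_congr rfl fun i _ => ?_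
    rw [ofMul_zpow, map_zsmul]
    rfl
  rw [QuotientAddGroup.eq_zero_iff] at h1
  change (∏ i ∈ s, xu i ^ n i) ∈ HH (⊥ : Subfield K) A.valuation at h1
  obtain ⟨u, hu, c', ⟨cu, rfl⟩, huc⟩ := Subgroup.mem_sup.mp h1
  refine ⟨cu.val, cu.ne_zero, ?_⟩
  have hu1 : A.valuation (u : K) = 1 := (Valuation.mem_unitGroup_iff _ A.valuation u).mp hu
  have h2 := congrArg (fun z : Kˣ => A.valuation (z : K)) huc
  simp only [Units.val_mul, map_mul, hu1, one_mul, Units.coe_map, RingHom.toMonoidHom_eq_coe,
    MonoidHom.coe_coe] at h2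
  refine Eq.trans ?_ h2.symm
  rw [Units.coe_prod, map_prod]
  refine Finset.prod_congr rfl fun i _ => ?_
  rw [Units.val_zpow_eq_zpow_val, map_zpow₀]

theorem chain_le (d : ℕ) (hd : Algebra.trdeg (⊥ : Subfield K) K = d)
    (p : LTSeries (PrimeSpectrum A)) : p.length ≤ d + 1 := by
  classical
  have hex : ∀ i : Fin p.length, ∃ x : A, x ∈ (p i.succ).asIdeal ∧ x ∉ (p i.castSucc).asIdeal := by
    intro i
    have hlt : p i.castSucc < p i.succ := p.strictMono (Fin.castSucc_lt_succ)
    have hlt' : (p i.castSucc).asIdeal < (p i.succ).asIdeal := hlt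
    exact SetLike.exists_of_lt hlt'
  choose x hx hx' using hex
  let g : Fin p.length → A.ValueGroup := fun i => A.valuation (x i : K)
  have hx0 : ∀ i, (x i : K) ≠ 0 := by
    intro i h
    apply hx' i
    have : x i = 0 := Subtype.ext h
    rw [this]
    exact Ideal.zero_mem _
  have hg0 : ∀ i, g i ≠ 0 := fun i => (A.valuation.ne_zero_iff).mpr (hx0 i)
  have hg1 : ∀ i, g i < 1 := by
    intro i
    rw [← A.valuation_lt_one_iff]
    exact IsLocalRing.le_maximalIdeal (p i.succ).isPrime.ne_top (hx i)
  have hier : ∀ i j, i < j → ∀ k : ℕ, g i < g j ^ k := by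
    intro i j hij k
    have hle : p i.succ ≤ p j.castSucc :=
      p.monotone (by rw [Fin.le_def]; simp only [Fin.val_succ, Fin.val_castSucc]; omega)
    have hmem : x i ∈ (p j.castSucc).asIdeal := hle (hx i)
    exact lt_pow_of_mem_prime A (p j.castSucc).asIdeal (x i) (x j) hmem (hx' j) k
  let xu : Fin p.length → Kˣ := fun i => Units.mk0 (x i : K) (hx0 i)
  have hrank := rank_le A d hd
  have hpair : ∀ i j : Fin p.length, i ≠ j →
      (∀ k : ℕ, g i < g j ^ k) ∨ (∀ k : ℕ, g j < g i ^ k) := by
    intro i j hij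
    rcases lt_or_gt_of_ne hij with h | h
    · exact Or.inl (hier i j h)
    · exact Or.inr (hier j i h)
  rcases prime_field_val A.valuation
    (fun n => (A.valuation_le_one_iff _).mpr (natCast_mem A n)) with hU | ⟨w, hw0, hw1, hW⟩
  · have hli : LinearIndependent ℤ (fun i : Fin p.length =>
        (QuotientAddGroup.mk (Additive.ofMul (xu i)) : QQ (⊥ : Subfield K) A.valuation)) := by
      rw [linearIndependent_iff']
      intro s n hn i hi
      obtain ⟨c, hc0, hc⟩ := val_of_rel A xu s n hn
      rw [hU c c.2 (by simpa using hc0)] at hc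
      exact indep_of_pairwise g n s.card s rfl (fun i _ => hg0 i) (fun i _ => hg1 i)
        (fun i _ j _ hij => hpair i j hij) hc i hi
    have := card_le_of_li _ hli d hrank
    rw [Fintype.card_fin] at this
    omega
  · let good : Fin p.length → Prop := fun i => (∀ k : ℕ, g i < w ^ k) ∨ (∀ k : ℕ, w < g i ^ k)
    have hbad : ∀ i j, ¬ good i → ¬ good j → i = j := by
      intro i j hi hj
      by_contra hij
      wlog h : i < j generalizing i j
      · exact this j i hj hi (Ne.symm hij) (lt_of_le_of_ne (not_lt.mp h) (Ne.symm hij))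
      simp only [good, not_or, not_forall, not_lt] at hi hj
      obtain ⟨⟨k1, hk1⟩, _⟩ := hi
      obtain ⟨_, ⟨k2, hk2⟩⟩ := hj
      have h3 := hier i j h (k2 * k1)
      exact absurd h3 (not_lt.mpr (by
        rw [pow_mul]; exact (pow_le_pow_left₀ zero_le hk2 k1).trans hk1))
    have hli : LinearIndependent ℤ (fun i : {i : Fin p.length // good i} =>
        (QuotientAddGroup.mk (Additive.ofMul (xu i.1)) : QQ (⊥ : Subfield K) A.valuation)) := by
      rw [linearIndependent_iff']
      intro s n hn i hi
      obtain ⟨c, hc0, hc⟩ := val_of_rel A (fun i : {i : Fin p.length // good i} => xu i.1) s n hn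
      obtain ⟨e, he⟩ := hW c c.2 (by simpa using hc0)
      rw [he] at hc
      let h' : Option {i : Fin p.length // good i} → A.ValueGroup :=
        fun o => o.elim w (fun i => g i.1)
      let n' : Option {i : Fin p.length // good i} → ℤ := fun o => o.elim (-e) n
      have hprod : ∏ o ∈ Finset.insertNone s, h' o ^ n' o = 1 := by
        rw [Finset.prod_insertNone]
        simp only [h', n', Option.elim]
        have : ∏ x ∈ s, g x.1 ^ n x = w ^ e := hc
        rw [this, ← zpow_add₀ hw0, neg_add_cancel, zpow_zero]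
      have h4 := indep_of_pairwise h' n' _ (Finset.insertNone s) rfl
        (by
          intro o _
          cases o with
          | none => exact hw0
          | some i => exact hg0 i.1)
        (by
          intro o _
          cases o with
          | none => exact hw1
          | some i => exact hg1 i.1)
        (by
          intro o _ o' _ hoo'
          cases o with
          | none =>
            cases o' with
            | none => exact absurd rfl hoo'
            | some j => exact j.2.symm
          | some i =>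
            cases o' with
            | none => exact i.2
            | some j =>
              exact hpair i.1 j.1 (fun h => hoo' (by rw [Subtype.ext h])))
        hprod (some i) (Finset.some_mem_insertNone.mpr hi)
      exact h4
    have hcard := card_le_of_li _ hli d hrank
    haveI : Subsingleton {i : Fin p.length // ¬ good i} :=
      ⟨fun a b => Subtype.ext (hbad a.1 b.1 a.2 b.2)⟩
    have h5 : Fintype.card {i : Fin p.length // ¬ good i} ≤ 1 :=
      Fintype.card_le_one_iff_subsingleton.mpr inferInstance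
    have h6 := Fintype.card_subtype_compl good
    rw [Fintype.card_fin] at h6
    omega

end main

end Groth.Agent.S14892

namespace Groth.Agent.S14892

/-- If the field K has finite transcendence degree d over its prime subfield, then every valuation
subring of K has height (Krull dimension) at most d + 1. -/
theorem result
    (K : Type u) [Field K] (A : ValuationSubring K) (d : ℕ)
    (hd : Algebra.trdeg (⊥ : Subfield K) K = d) :
    ringKrullDim A ≤ ((d + 1 : ℕ) : WithBot ℕ∞) := by
  rw [ringKrullDim, Order.krullDim]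
  refine iSup_le fun p => ?_
  have := chain_le A d hd p
  exact_mod_cast this

end Groth.Agent.S14892
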