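import Groth.Statements.S14893
import Mathlib
import Groth.Agent.S14892

set_option autoImplicit false
universe u
open CAlg


namespace Groth.Agent.S14893

theorem finite_primeSpectrum_of_krullDim_le (B : Type u) [CommRing B] [IsDomain B]
    [ValuationRing B] (N : ℕ) (h : ringKrullDim B ≤ N) : Finite (PrimeSpectrum B) := by
  have hh : ∀ p : PrimeSpectrum B, Order.height p ≤ (N : ℕ∞) := by
    intro p
    have := (Order.height_le_krullDim p).trans h
    exact_mod_cast this
  have hfin : ∀ p : PrimeSpectrum B, Order.height p < ⊤ :=
    fun p => lt_of_le_of_lt (hh p) (ENat.coe_lt_top N)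
  have htot : ∀ p q : PrimeSpectrum B, p ≤ q ∨ q ≤ p := fun p q =>
    (ValuationRing.le_total_ideal (A := B)).total p.asIdeal q.asIdeal
  have hinj : Function.Injective (fun p : PrimeSpectrum B => Order.height p) := by
    intro p q hpq
    by_contra hne
    rcases htot p q with h1 | h1
    · have hlt : p < q := lt_of_le_of_ne h1 hne
      exact absurd hpq (Order.height_strictMono hlt (hfin p)).ne
    · have hlt : q < p := lt_of_le_of_ne h1 (Ne.symm hne)
      exact absurd hpq.symm (Order.height_strictMono hlt (hfin q)).ne
  refine Finite.of_injective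
    (fun p => (⟨(Order.height p).toNat, ?_⟩ : Fin (N + 1))) ?_
  · have := hh p
    have h2 : ((Order.height p).toNat : ℕ∞) = Order.height p := ENat.coe_toNat (hfin p).ne
    rw [← h2] at this
    have h3 : (Order.height p).toNat ≤ N := by exact_mod_cast this
    omega
  · intro p q hpq
    apply hinj
    have h1 : (Order.height p).toNat = (Order.height q).toNat := by
      simpa using congrArg Fin.val hpq
    change Order.height p = Order.height q
    rw [← ENat.coe_toNat (hfin p).ne, ← ENat.coe_toNat (hfin q).ne, h1]

theorem fieldFG_closure {K : Type u} [Field K] (T : Finset K) :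
    Field.FG ↥(Subfield.closure (T : Set K)) := by
  classical
  refine ⟨⟨T.attach.image fun t => ⟨t.1, Subfield.subset_closure t.2⟩, ?_⟩⟩
  rw [eq_top_iff]
  rintro ⟨x, hx⟩ -
  induction hx using Subfield.closure_induction with
  | mem y hy =>
    refine Subfield.subset_closure ?_
    simp only [Finset.coe_image, Set.mem_image, Finset.mem_coe, Finset.mem_attach, true_and]
    exact ⟨⟨y, hy⟩, rfl⟩
  | one => exact Subfield.one_mem _
  | add y z _ _ hy hz => exact Subfield.add_mem _ hy hz
  | neg y _ hy => exact Subfield.neg_mem _ hy
  | inv y _ hy => exact Subfield.inv_mem _ hy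
  | mul y z _ _ hy hz => exact Subfield.mul_mem _ hy hz

theorem exists_trdeg_nat (L : Type u) [Field L] [Field.FG L] :
    ∃ d : ℕ, Algebra.trdeg (⊥ : Subfield L) L = d := by
  haveI : Algebra.EssFiniteType (⊥ : Subfield L) L := Field.fg_iff_essFiniteType.mp inferInstance
  have := trdeg_lt_aleph0 (⊥ : Subfield L) L
  obtain ⟨d, hd⟩ := Cardinal.lt_aleph0.mp this
  exact ⟨d, hd⟩

section main
variable (R : Type u) [CommRing R] [IsDomain R] [ValuationRing R]

open Classical in
/-- subfield generated by the image of `s` -/
noncomputable def Ks (s : Finset R) : Subfield (FractionRing R) :=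
  Subfield.closure ((s.image (algebraMap R (FractionRing R)) : Finset (FractionRing R)) :
    Set (FractionRing R))

instance (s : Finset R) : Field.FG ↥(Ks R s) := by
  classical
  exact fieldFG_closure _

/-- the subring `R ∩ K_s` -/
noncomputable def F (s : Finset R) : Subring R :=
  (Ks R s).toSubring.comap (algebraMap R (FractionRing R))

theorem mem_F (s : Finset R) (r : R) : r ∈ F R s ↔ algebraMap R (FractionRing R) r ∈ Ks R s :=
  Iff.rfl

theorem F_mono : Monotone (F R) := by
  classical
  intro s t hst r hr
  rw [mem_F] at hr ⊢
  refine Subfield.closure_mono ?_ hr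
  intro x hx
  simp only [Finset.coe_image, Set.mem_image, Finset.mem_coe] at hx ⊢
  obtain ⟨y, hy, rfl⟩ := hx
  exact ⟨y, hst hy, rfl⟩

theorem self_mem_F (r : R) : r ∈ F R {r} := by
  classical
  rw [mem_F]
  refine Subfield.subset_closure ?_
  simp

theorem valuationRing_F (s : Finset R) : ValuationRing (F R s) := by
  suffices hpre : PreValuationRing (F R s) from { toPreValuationRing := hpre }
  refine ⟨fun a b => ?_⟩
  obtain ⟨c, hc | hc⟩ := ValuationRing.cond (a : R) (b : R)
  · by_cases ha : (a : R) = 0
    · refine ⟨0, Or.inl ?_⟩
      apply Subtype.ext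
      rw [ha, zero_mul] at hc
      simp [← hc]
    · have hcm : c ∈ F R s := by
        rw [mem_F]
        have h1 : algebraMap R (FractionRing R) c =
            algebraMap R (FractionRing R) b / algebraMap R (FractionRing R) a := by
          rw [eq_div_iff ((map_ne_zero_iff _ (IsFractionRing.injective R _)).mpr ha), ← map_mul,
            mul_comm, hc]
        rw [h1]
        exact Subfield.div_mem _ b.2 a.2
      exact ⟨⟨c, hcm⟩, Or.inl (Subtype.ext hc)⟩
  · by_cases hb : (b : R) = 0
    · refine ⟨0, Or.inr ?_⟩
      apply Subtype.ext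
      rw [hb, zero_mul] at hc
      simp [← hc]
    · have hcm : c ∈ F R s := by
        rw [mem_F]
        have h1 : algebraMap R (FractionRing R) c =
            algebraMap R (FractionRing R) a / algebraMap R (FractionRing R) b := by
          rw [eq_div_iff ((map_ne_zero_iff _ (IsFractionRing.injective R _)).mpr hb), ← map_mul,
            mul_comm, hc]
        rw [h1]
        exact Subfield.div_mem _ a.2 b.2
      exact ⟨⟨c, hcm⟩, Or.inr (Subtype.ext hc)⟩

/-- valuation subring of `K_s` -/
noncomputable def As (s : Finset R) : ValuationSubring (Ks R s) where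
  toSubring := (algebraMap R (FractionRing R)).range.comap (Ks R s).subtype
  mem_or_inv_mem' := by
    intro x
    rcases ValuationRing.isInteger_or_isInteger R (x : FractionRing R) with ⟨r, hr⟩ | ⟨r, hr⟩
    · left; exact ⟨r, hr⟩
    · right; exact ⟨r, by simpa using hr⟩

/-- the comparison map -/
noncomputable def toAs (s : Finset R) : F R s →+* As R s :=
  RingHom.codRestrict
    (RingHom.codRestrict ((algebraMap R (FractionRing R)).comp (F R s).subtype) (Ks R s)
      (fun r => r.2)) (As R s) (fun r => ⟨r.1, rfl⟩)

theorem toAs_bijective (s : Finset R) : Function.Bijective (toAs R s) := by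
  constructor
  · intro a b hab
    have h1 : algebraMap R (FractionRing R) a = algebraMap R (FractionRing R) b :=
      congrArg (fun z : As R s => ((z : Ks R s) : FractionRing R)) hab
    exact Subtype.ext (IsFractionRing.injective R _ h1)
  · rintro ⟨⟨x, hx⟩, ⟨r, hr⟩⟩
    have hr' : algebraMap R (FractionRing R) r = x := hr
    refine ⟨⟨r, by rw [mem_F, hr']; exact hx⟩, ?_⟩
    apply Subtype.ext
    apply Subtype.ext
    exact hr'

end main

end Groth.Agent.S14893

namespace Groth.Agent.S14893

/-- Every valuation ring R is a filtered union of subrings which are valuation rings with finite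
spectrum (finite height): there is a nonempty directed index type and a monotone family of such
subrings of R whose supremum is R. -/
theorem result
    (R : Type u) [CommRing R] [IsDomain R] [ValuationRing R] :
    ∃ (ι : Type u) (_ : Preorder ι) (_ : IsDirected ι (fun a b ↦ a ≤ b)) (_ : Nonempty ι)
      (F : ι → Subring R), Monotone F ∧ (⨆ i, F i) = ⊤ ∧
        ∀ i, ValuationRing (F i) ∧ Finite (PrimeSpectrum (F i)) := by
  classical
  refine ⟨Finset R, inferInstance, inferInstance, inferInstance, F R, F_mono R, ?_,
    fun s => ⟨valuationRing_F R s, ?_⟩⟩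
  · rw [eq_top_iff]
    intro r _
    exact (le_iSup (F R) {r}) (self_mem_F R r)
  · obtain ⟨d, hd⟩ := exists_trdeg_nat (Ks R s)
    have h1 := Groth.Agent.S14892.result (Ks R s) (As R s) d hd
    have h2 : ringKrullDim (F R s) ≤ ((d + 1 : ℕ) : WithBot ℕ∞) := by
      rw [ringKrullDim_eq_of_ringEquiv (RingEquiv.ofBijective (toAs R s) (toAs_bijective R s))]
      exact h1
    haveI := valuationRing_F R s
    exact finite_primeSpectrum_of_krullDim_le _ (d + 1) h2

end Groth.Agent.S14893
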