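import Groth.Statements.S14896
import Mathlib.RingTheory.QuasiFinite.Basic
import Mathlib.RingTheory.Unramified.LocalStructure
import Mathlib.RingTheory.Localization.Away.Basic

set_option autoImplicit false
universe u
open CAlg

namespace Groth.Agent.S14896

/-- Let L/K be a finite extension of valued fields, v_L extending v_K, with K° = the valuation ring of
v_K having finite spectrum (finite height), and L° the valuation ring of v_L. If L° is local-étale
over K°, i.e. L° is the localization at a prime ideal of some étale K°-algebra B compatibly with the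
K°-algebra structures, then L° is étale over K°. (For valued fields of finite height 'unramified' in
the local-étale sense is thus the same as K° → L° étale; the published lemma phrases the hypothesis
as 'L/K unramified'.) -/
theorem result
    {K L Γ₀ Γ₁ : Type u} [Field K] [Field L] [Algebra K L] [FiniteDimensional K L]
    [LinearOrderedCommGroupWithZero Γ₀] [LinearOrderedCommGroupWithZero Γ₁]
    (vK : Valuation K Γ₀) (vL : Valuation L Γ₁) [vK.HasExtension vL]
    [Finite (PrimeSpectrum vK.valuationSubring)]
    (B : Type u) [CommRing B] [Algebra vK.valuationSubring B] [Algebra.Etale vK.valuationSubring B]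
    [Algebra B vL.valuationSubring] [IsScalarTower vK.valuationSubring B vL.valuationSubring]
    (P : Ideal B) [P.IsPrime] [IsLocalization.AtPrime vL.valuationSubring P] :
    Algebra.Etale vK.valuationSubring vL.valuationSubring := by
  classical
  have hfinB : Finite (PrimeSpectrum B) :=
    Algebra.QuasiFinite.finite_primeSpectrum vK.valuationSubring B
  -- an element `g ∉ P` such that every prime avoiding `g` is contained in `P`
  obtain ⟨g, hgP, hg⟩ : ∃ g : B, g ∉ P ∧ ∀ Q : Ideal B, Q.IsPrime → g ∉ Q → Q ≤ P := by
    have : Fintype (PrimeSpectrum B) := Fintype.ofFinite _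
    have hx : ∀ Q : PrimeSpectrum B, ∃ x : B, x ∉ P ∧ (¬ Q.asIdeal ≤ P → x ∈ Q.asIdeal) := by
      intro Q
      by_cases h : Q.asIdeal ≤ P
      · exact ⟨1, (Ideal.ne_top_iff_one P).1 Ideal.IsPrime.ne_top', fun h' => absurd h h'⟩
      · obtain ⟨x, hxQ, hxP⟩ := SetLike.not_le_iff_exists.1 h
        exact ⟨x, hxP, fun _ => hxQ⟩
    choose x hx1 hx2 using hx
    refine ⟨∏ Q, x Q, ?_, ?_⟩
    · intro h
      rw [Ideal.IsPrime.prod_mem_iff] at h
      obtain ⟨Q, -, hQ⟩ := h
      exact hx1 Q hQ
    · intro Q hQ hgQ
      by_contra hle
      apply hgQ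
      have h1 := hx2 ⟨Q, hQ⟩ hle
      exact Ideal.mem_of_dvd _ (Finset.dvd_prod_of_mem _ (Finset.mem_univ ⟨Q, hQ⟩)) h1
  -- `B_g` is also the localization at `P`
  have hloc : IsLocalization P.primeCompl (Localization.Away g) := by
    apply IsLocalization.of_le (Submonoid.powers g) P.primeCompl
    · rw [Submonoid.powers_le]
      exact hgP
    · intro r hr
      by_contra hu
      obtain ⟨m, hm, hrm⟩ := exists_max_ideal_of_mem_nonunits hu
      have hQ : (m.comap (algebraMap B (Localization.Away g))).IsPrime := inferInstance
      have hgQ : g ∉ m.comap (algebraMap B (Localization.Away g)) := by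
        intro h
        exact hm.ne_top (Ideal.eq_top_of_isUnit_mem _ h (IsLocalization.Away.algebraMap_isUnit g))
      have h2 := hg _ hQ hgQ
      exact hr (h2 hrm)
  let e : vL.valuationSubring ≃ₐ[B] Localization.Away g :=
    IsLocalization.algEquiv P.primeCompl _ _
  have : Algebra.Etale vK.valuationSubring (Localization.Away g) :=
    Algebra.Etale.comp vK.valuationSubring B _
  exact Algebra.Etale.of_equiv (e.symm.restrictScalars vK.valuationSubring)

end Groth.Agent.S14896
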