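import Groth.Statements.S14901
import Mathlib
import Groth.Agent.Lib.Helper21.ConstrDim
import Groth.Agent.Lib.Helper21.FibreTd
import Groth.Agent.Lib.Helper21.FlatFibreDimField
import Groth.Agent.Lib.Helper21.FieldDimPts
import Groth.Agent.S0402
-- import your own Groth.Agent.* helpers here

set_option autoImplicit false
universe u
open MovLem

namespace Groth.Agent.S14901

open AlgebraicGeometry CategoryTheory in
/-- Let k be a field, let S and X be separated k-schemes of finite type that are locally equidimensional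
(all irreducible components passing through a given point have the same dimension), let f : S → X be
a k-morphism and Z ⊆ X a closed subset. Let d be the dimension of the image f(S), as a subspace of
X. If every point s of S with f(s) ∈ Z satisfies dim O_{S,s} ≥ d + 1 (equivalently: the closed
subset f⁻¹(Z) of S has local codimension at least d + 1 at each of its points), then f⁻¹(Z) is
empty. -/
theorem result (k : Type u) [Field k] (S X : Scheme.{u})
    (pS : S ⟶ Spec (CommRingCat.of k)) (pX : X ⟶ Spec (CommRingCat.of k))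
    [IsSeparated pS] [LocallyOfFiniteType pS] [QuasiCompact pS]
    [IsSeparated pX] [LocallyOfFiniteType pX] [QuasiCompact pX]
    (hS : ∀ (s : S) (A B : Set S), A ∈ irreducibleComponents (S : Type u) → B ∈ irreducibleComponents (S : Type u) →
      s ∈ A → s ∈ B → topologicalKrullDim A = topologicalKrullDim B)
    (hX : ∀ (x : X) (A B : Set X), A ∈ irreducibleComponents (X : Type u) → B ∈ irreducibleComponents (X : Type u) →
      x ∈ A → x ∈ B → topologicalKrullDim A = topologicalKrullDim B)
    (f : S ⟶ X) (hf : f ≫ pX = pS) (Z : Set X) (hZ : IsClosed Z)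
    (h : ∀ s : S, f.base s ∈ Z →
      topologicalKrullDim (Set.range f.base) + 1 ≤ ringKrullDim (S.presheaf.stalk s)) :
    f.base ⁻¹' Z = ∅ := by
  by_contra hne
  obtain ⟨s, hs⟩ := Set.nonempty_iff_ne_empty.mpr hne
  have hlft : LocallyOfFiniteType f :=
    Groth.Agent.Lib.Helper21.FieldDim.locallyOfFiniteType_of_comp_eq pS pX f hf
  have hqc : QuasiCompact f := by
    have : QuasiCompact (f ≫ pX) := by rw [hf]; infer_instance
    exact QuasiCompact.of_comp f pX
  have hlnX : IsLocallyNoetherian X := LocallyOfFiniteType.isLocallyNoetherian pX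
  have hlnS : IsLocallyNoetherian S := LocallyOfFiniteType.isLocallyNoetherian pS
  have hcX : CompactSpace X := QuasiCompact.compactSpace_of_compactSpace pX
  have hconstr : Topology.IsConstructible (Set.range f.base) := by
    have := f.isConstructible_image (Topology.IsConstructible.univ (X := S))
    rwa [Set.image_univ] at this
  -- a generization of `s` maximal in its fibre
  obtain ⟨s', hs's, hfs', hmax⟩ := Groth.Agent.Lib.Helper73.SchemeDim.exists_maximal_in_fibre f s
  have hs'Z : f.base s' ∈ Z := by rw [hfs']; exact hs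
  have h1 := h s' hs'Z
  obtain ⟨-, ξ, hξ, hξeq⟩ := Groth.Agent.Lib.Helper21.FieldDim.coheight_add_td pS s'
  rw [AlgebraicGeometry.ringKrullDim_stalk_eq_coheight s'] at h1
  -- (i)
  have h2 : ((Groth.Agent.Lib.Helper21.FieldDim.td pX (f.base ξ) : ℕ) : WithBot ℕ∞) ≤
      topologicalKrullDim ↥(Set.range f.base) :=
    Groth.Agent.Lib.Helper21.FieldDim.td_le_dim_of_isConstructible pX hconstr ⟨ξ, rfl⟩
  have h3 : ((Groth.Agent.Lib.Helper21.FieldDim.td pX (f.base ξ) : ℕ) : WithBot ℕ∞) + 1 ≤
      ((Order.coheight s' : ℕ∞) : WithBot ℕ∞) := (add_le_add_left h2 1).trans h1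
  have h4 : ((Groth.Agent.Lib.Helper21.FieldDim.td pX (f.base ξ) + 1 : ℕ) : ℕ∞) ≤
      Order.coheight s' := by
    have : (((Groth.Agent.Lib.Helper21.FieldDim.td pX (f.base ξ) + 1 : ℕ) : ℕ∞) : WithBot ℕ∞) ≤
        ((Order.coheight s' : ℕ∞) : WithBot ℕ∞) := by
      push_cast
      exact h3
    exact WithBot.coe_le_coe.mp this
  have h5 : Groth.Agent.Lib.Helper21.FieldDim.td pX (f.base ξ) + 1 +
      Groth.Agent.Lib.Helper21.FieldDim.td pS s' ≤ Groth.Agent.Lib.Helper21.FieldDim.td pS ξ := by
    have : ((Groth.Agent.Lib.Helper21.FieldDim.td pX (f.base ξ) + 1 +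
        Groth.Agent.Lib.Helper21.FieldDim.td pS s' : ℕ) : ℕ∞) ≤
        (Groth.Agent.Lib.Helper21.FieldDim.td pS ξ : ℕ) := by
      rw [hξeq]
      push_cast
      exact add_le_add_left (by exact_mod_cast h4) _
    exact_mod_cast this
  -- (ii)
  have h6 : FlatMor.fibreDimAt f s' ≤
      ((Groth.Agent.Lib.Helper21.FieldDim.tdR f s' : ℕ) : WithBot ℕ∞) := by
    rw [Groth.Agent.Lib.Helper21.FieldDim.fibreDimAt_le_iff]
    intro ζ hζ hfζ
    rw [hmax ζ hζ hfζ]
  have hopen := Groth.Agent.S0402.result f (Groth.Agent.Lib.Helper21.FieldDim.tdR f s')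
  have h7 : FlatMor.fibreDimAt f ξ ≤
      ((Groth.Agent.Lib.Helper21.FieldDim.tdR f s' : ℕ) : WithBot ℕ∞) :=
    hξ.mem_open hopen h6
  have h8 : Groth.Agent.Lib.Helper21.FieldDim.tdR f ξ ≤
      Groth.Agent.Lib.Helper21.FieldDim.tdR f s' := by
    have := (Groth.Agent.Lib.Helper21.FieldDim.tdR_le_fibreDimAt f ξ).trans h7
    exact_mod_cast this
  have h9 := Groth.Agent.Lib.Helper21.FieldDim.td_eq_add_tdR pS pX f hf ξ
  have h10 := Groth.Agent.Lib.Helper21.FieldDim.td_eq_add_tdR pS pX f hf s'
  omega

end Groth.Agent.S14901
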