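import Groth.Statements.S14909
import Mathlib

set_option autoImplicit false
universe u
open Neron

namespace Groth.Agent.S14909

namespace W9

open MvPowerSeries

section target

variable {R : Type*} [CommRing R]

abbrev Q1 (R : Type*) [CommRing R] (d : R) := QuadraticAlgebra R d 0
abbrev Q2 (R : Type*) [CommRing R] (d : R) := QuadraticAlgebra (Q1 R d) 0 0

@[simp] lemma aM_re_re (d r : R) : (algebraMap R (Q2 R d) r).re.re = r := rfl
@[simp] lemma aM_re_im (d r : R) : (algebraMap R (Q2 R d) r).re.im = 0 := rfl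
@[simp] lemma aM_im_re (d r : R) : (algebraMap R (Q2 R d) r).im.re = 0 := rfl
@[simp] lemma aM_im_im (d r : R) : (algebraMap R (Q2 R d) r).im.im = 0 := rfl

/-- the ideal N -/
def NN (ϖ u : R) (v : ℕ) : Ideal (Q2 R (u * ϖ)) where
  carrier := {z | ϖ ^ (v+1) ∣ z.re.re ∧ ϖ ^ v ∣ z.re.im ∧ ϖ ^ v ∣ z.im.re ∧ ϖ ^ v ∣ z.im.im}
  add_mem' := by
    rintro a b ⟨h1, h2, h3, h4⟩ ⟨k1, k2, k3, k4⟩
    refine ⟨?_, ?_, ?_, ?_⟩ <;> simp only [QuadraticAlgebra.re_add, QuadraticAlgebra.im_add]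
    exacts [dvd_add h1 k1, dvd_add h2 k2, dvd_add h3 k3, dvd_add h4 k4]
  zero_mem' := by simp
  smul_mem' := by
    rintro c z ⟨h1, h2, h3, h4⟩
    have key : ∀ t s : R, ϖ ^ v ∣ t → ϖ ^ (v+1) ∣ u * ϖ * s * t := by
      rintro t s ⟨w, rfl⟩
      exact ⟨u * s * w, by ring⟩
    have h1' : ϖ ^ v ∣ z.re.re := (pow_dvd_pow ϖ (Nat.le_succ v)).trans h1
    refine ⟨?_, ?_, ?_, ?_⟩ <;> simp only [smul_eq_mul, QuadraticAlgebra.re_mul, QuadraticAlgebra.im_mul, QuadraticAlgebra.re_add, QuadraticAlgebra.im_add, zero_mul, add_zero]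
    · exact dvd_add (h1.mul_left _) (key _ _ h2)
    · exact dvd_add (h2.mul_left _) (h1'.mul_left _)
    · exact dvd_add (dvd_add (h3.mul_left _) (h4.mul_left _)) (dvd_add (h1'.mul_left _) (h2.mul_left _))
    · exact dvd_add (dvd_add (h4.mul_left _) (h3.mul_left _)) (dvd_add (h2.mul_left _) (h1'.mul_left _))

lemma mem_NN {ϖ u : R} {v : ℕ} {z : Q2 R (u * ϖ)} : z ∈ NN ϖ u v ↔
    ϖ ^ (v+1) ∣ z.re.re ∧ ϖ ^ v ∣ z.re.im ∧ ϖ ^ v ∣ z.im.re ∧ ϖ ^ v ∣ z.im.im := Iff.rfl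

def XX (d : R) : Q2 R d := ⟨0, 1⟩
def YY (d : R) : Q2 R d := ⟨⟨0, 1⟩, 0⟩

lemma XX_sq (d : R) : XX d ^ 2 = 0 := by
  ext <;> simp [XX, pow_two]

lemma YY_sq (d : R) : YY d ^ 2 = algebraMap R (Q2 R d) d := by
  ext <;> simp [YY, pow_two]

lemma piY_mem (ϖ u : R) (v : ℕ) : algebraMap R (Q2 R (u * ϖ)) (ϖ ^ v) * YY (u * ϖ) ∈ NN ϖ u v := by
  rw [mem_NN]
  generalize hr : ϖ ^ v = r
  have hd : ϖ ^ v ∣ r := by rw [hr]
  refine ⟨?_, ?_, ?_, ?_⟩ <;> simp [YY, hd]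

lemma piX_mem (ϖ u : R) (v : ℕ) : algebraMap R (Q2 R (u * ϖ)) (ϖ ^ v) * XX (u * ϖ) ∈ NN ϖ u v := by
  rw [mem_NN]
  generalize hr : ϖ ^ v = r
  have hd : ϖ ^ v ∣ r := by rw [hr]
  refine ⟨?_, ?_, ?_, ?_⟩ <;> simp [XX, hd]

lemma comp_lemma (d A B : R) :
    (algebraMap R (Q2 R d) A + algebraMap R (Q2 R d) B * (XX d * YY d)).re.re = A ∧
    (algebraMap R (Q2 R d) A + algebraMap R (Q2 R d) B * (XX d * YY d)).im.im = B := by
  constructor <;> simp [XX, YY]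

variable (ϖ u : R) (v : ℕ)

abbrev QQ := Q2 R (u * ϖ) ⧸ NN ϖ u v

def xb : QQ ϖ u v := Ideal.Quotient.mk _ (XX _)
def yb : QQ ϖ u v := Ideal.Quotient.mk _ (YY _)

lemma xb_sq : xb ϖ u v ^ 2 = 0 := by
  rw [xb, ← map_pow, XX_sq, map_zero]

lemma yb_sq : yb ϖ u v ^ 2 = algebraMap R (QQ ϖ u v) (u * ϖ) := by
  rw [yb, ← map_pow, YY_sq]; rfl

lemma pi_yb : algebraMap R (QQ ϖ u v) (ϖ ^ v) * yb ϖ u v = 0 := by
  have := piY_mem ϖ u v
  rw [← Ideal.Quotient.eq_zero_iff_mem, map_mul] at this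
  exact this

lemma pi_xb : algebraMap R (QQ ϖ u v) (ϖ ^ v) * xb ϖ u v = 0 := by
  have := piX_mem ϖ u v
  rw [← Ideal.Quotient.eq_zero_iff_mem, map_mul] at this
  exact this

lemma yb_pow : yb ϖ u v ^ (2 * v + 1) = 0 := by
  rw [pow_succ, pow_mul, yb_sq, ← map_pow, mul_pow, map_mul, mul_assoc, pi_yb, mul_zero]

/-- key detection lemma -/
lemma detect (a b : R) (w : ℕ) (hv : v = w + 1)
    (h : algebraMap R (QQ ϖ u v) a * yb ϖ u v ^ (2 * v) +
      algebraMap R (QQ ϖ u v) b * (xb ϖ u v * yb ϖ u v ^ (2 * v - 1)) = 0) :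
    ϖ ^ (v + 1) ∣ a * (u * ϖ) ^ v ∧ ϖ ^ v ∣ b * (u * ϖ) ^ w := by
  have e1 : yb ϖ u v ^ (2 * v) = algebraMap R (QQ ϖ u v) ((u * ϖ) ^ v) := by
    rw [pow_mul, yb_sq, map_pow]
  have e2 : yb ϖ u v ^ (2 * v - 1) = algebraMap R (QQ ϖ u v) ((u * ϖ) ^ w) * yb ϖ u v := by
    have : 2 * v - 1 = 2 * w + 1 := by omega
    rw [this, pow_succ, pow_mul, yb_sq, map_pow]
  rw [e1, e2] at h
  have h' : (Ideal.Quotient.mk (NN ϖ u v)) (algebraMap R (Q2 R (u * ϖ)) (a * (u * ϖ) ^ v) +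
      algebraMap R (Q2 R (u * ϖ)) (b * (u * ϖ) ^ w) * (XX (u * ϖ) * YY (u * ϖ))) = 0 := by
    rw [← h]
    rw [map_add, map_mul (Ideal.Quotient.mk (NN ϖ u v)), map_mul (Ideal.Quotient.mk (NN ϖ u v)),
      Ideal.Quotient.mk_algebraMap, Ideal.Quotient.mk_algebraMap, map_mul, map_mul]
    simp only [xb, yb]
    ring
  rw [Ideal.Quotient.eq_zero_iff_mem, mem_NN] at h'
  obtain ⟨h1, -, -, h4⟩ := h'
  obtain ⟨c1, c2⟩ := comp_lemma (u * ϖ) (a * (u * ϖ) ^ v) (b * (u * ϖ) ^ w)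
  rw [c1] at h1
  rw [c2] at h4
  exact ⟨h1, h4⟩

end target
section gen
variable {S : Type*} [CommRing S]

lemma mul_mem_aux {I M : Ideal S} {k j : ℕ} {a b : S} (ha : a ∈ I ⊔ M ^ k) (hb : b ∈ M ^ j) :
    a * b ∈ I ⊔ M ^ (k + j) := by
  obtain ⟨a1, ha1, a2, ha2, rfl⟩ := Submodule.mem_sup.mp ha
  rw [add_mul]
  refine Ideal.add_mem _ (Ideal.mem_sup_left (Ideal.mul_mem_right _ _ ha1)) (Ideal.mem_sup_right ?_)
  rw [pow_add]
  exact Ideal.mul_mem_mul ha2 hb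

lemma gen_step (p x y : S) (I M : Ideal S) (hM : M = Ideal.span {p, x, y})
    (hp : p ∈ I ⊔ M ^ 2) (hx2 : x ^ 2 ∈ I ⊔ M ^ 3) (j : ℕ) :
    M ^ (j + 1) ≤ (Ideal.span {y ^ (j + 1), x * y ^ j} ⊔ I) ⊔ M ^ (j + 2) := by
  have hpM : p ∈ M := by rw [hM]; exact Ideal.subset_span (by simp)
  have hxM : x ∈ M := by rw [hM]; exact Ideal.subset_span (by simp)
  have hyM : y ∈ M := by rw [hM]; exact Ideal.subset_span (by simp)
  induction j with
  | zero =>
    simp only [zero_add, pow_one, pow_zero, mul_one]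
    conv_lhs => rw [hM]
    rw [Ideal.span_le]
    rintro g (rfl | rfl | rfl)
    · exact (sup_le (le_sup_of_le_left le_sup_right) le_sup_right : I ⊔ M ^ 2 ≤ _) hp
    · exact Ideal.mem_sup_left (Ideal.mem_sup_left (Ideal.subset_span (by simp)))
    · exact Ideal.mem_sup_left (Ideal.mem_sup_left (Ideal.subset_span (by simp)))
  | succ j ih =>
    have hle : I ⊔ M ^ (j + 1 + 2) ≤ (Ideal.span {y ^ (j + 1 + 1), x * y ^ (j + 1)} ⊔ I) ⊔ M ^ (j + 1 + 2) :=
      sup_le (le_sup_of_le_left le_sup_right) le_sup_right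
    calc M ^ (j + 1 + 1) = M * M ^ (j + 1) := pow_succ' _ _
      _ ≤ M * ((Ideal.span {y ^ (j + 1), x * y ^ j} ⊔ I) ⊔ M ^ (j + 2)) := Ideal.mul_mono le_rfl ih
      _ = (M * Ideal.span {y ^ (j + 1), x * y ^ j} ⊔ M * I) ⊔ M * M ^ (j + 2) := by
        rw [Ideal.mul_sup, Ideal.mul_sup]
      _ ≤ _ := by
        have hI : M * I ≤ (Ideal.span {y ^ (j + 1 + 1), x * y ^ (j + 1)} ⊔ I) ⊔ M ^ (j + 1 + 2) :=
          (Ideal.mul_le_right : M * I ≤ I).trans (le_sup_of_le_left le_sup_right)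
        refine sup_le (sup_le ?_ hI) ?_
        · conv_lhs => rw [hM]
          rw [Ideal.span_mul_span', Ideal.span_le, Set.mul_subset_iff]
          have hyj : y ^ (j + 1) ∈ M ^ (j + 1) := Ideal.pow_mem_pow hyM _
          have hxyj : x * y ^ j ∈ M ^ (j + 1) := by
            rw [pow_succ']
            exact Ideal.mul_mem_mul hxM (Ideal.pow_mem_pow hyM _)
          rintro g (rfl | rfl | rfl) h (rfl | rfl)
          · apply hle
            have := mul_mem_aux hp hyj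
            rwa [show 2 + (j + 1) = j + 1 + 2 by ring] at this
          · apply hle
            have := mul_mem_aux hp hxyj
            rwa [show 2 + (j + 1) = j + 1 + 2 by ring] at this
          · exact Ideal.mem_sup_left (Ideal.mem_sup_left (Ideal.subset_span (by simp)))
          · apply hle
            have := mul_mem_aux hx2 (Ideal.pow_mem_pow hyM j)
            rw [show 3 + j = j + 1 + 2 by ring] at this
            rwa [show g * (g * y ^ j) = g ^ 2 * y ^ j by ring]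
          · refine Ideal.mem_sup_left (Ideal.mem_sup_left (Ideal.subset_span ?_))
            left; ring
          · refine Ideal.mem_sup_left (Ideal.mem_sup_left (Ideal.subset_span ?_))
            right; simp only [Set.mem_singleton_iff]; ring
        · rw [← pow_succ']
          exact le_sup_right

lemma gen_abstract [IsLocalRing S] (p x y : S) (I M : Ideal S) (hM : M = Ideal.span {p, x, y})
    (hMm : M ≤ IsLocalRing.maximalIdeal S)
    (hp : p ∈ I ⊔ M ^ 2) (hx2 : x ^ 2 ∈ I ⊔ M ^ 3) (i : ℕ) (hi : 1 ≤ i) :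
    M ^ i ⊔ I = Ideal.span {y ^ i, x * y ^ (i - 1)} ⊔ I := by
  obtain ⟨j, rfl⟩ : ∃ j, i = j + 1 := ⟨i - 1, by omega⟩
  rw [Nat.add_sub_cancel]
  have hxM : x ∈ M := by rw [hM]; exact Ideal.subset_span (by simp)
  have hyM : y ∈ M := by rw [hM]; exact Ideal.subset_span (by simp)
  have hfg : (M ^ (j + 1)).FG := by
    apply Ideal.FG.pow
    rw [hM]
    exact Submodule.fg_span (Set.toFinite _)
  have hnak : M ^ (j + 1) ≤ Ideal.span {y ^ (j + 1), x * y ^ j} ⊔ I := by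
    refine Submodule.le_of_le_smul_of_le_jacobson_bot hfg
      (I := M) ?_ ?_
    · rw [IsLocalRing.jacobson_eq_maximalIdeal ⊥ bot_ne_top]
      exact hMm
    · have := gen_step p x y I M hM hp hx2 j
      rwa [smul_eq_mul, ← pow_succ']
  apply le_antisymm
  · exact sup_le hnak le_sup_right
  · refine sup_le ?_ le_sup_right
    refine le_sup_of_le_left ?_
    rw [Ideal.span_le]
    rintro g (rfl | rfl)
    · exact Ideal.pow_mem_pow hyM _
    · rw [pow_succ']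
      exact Ideal.mul_mem_mul hxM (Ideal.pow_mem_pow hyM _)

end gen

section ps

variable {R : Type*} [CommRing R] (ϖ u : R) (v : ℕ)

noncomputable def aa : Fin 2 → MvPowerSeries Empty (QQ ϖ u v) :=
  fun i => MvPowerSeries.C (if i = 0 then xb ϖ u v else yb ϖ u v)

lemma haa : MvPowerSeries.HasSubst (aa ϖ u v) := by
  refine ⟨fun s => ?_, fun d => Set.toFinite _⟩
  simp only [aa, MvPowerSeries.constantCoeff_C]
  split_ifs
  · exact ⟨2, xb_sq ϖ u v⟩
  · exact ⟨2 * v + 1, yb_pow ϖ u v⟩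

noncomputable def phi : MvPowerSeries (Fin 2) R →+* QQ ϖ u v :=
  (MvPowerSeries.constantCoeff).comp (MvPowerSeries.substAlgHom (R := R) (haa ϖ u v)).toRingHom

lemma phi_X0 : phi ϖ u v (MvPowerSeries.X 0) = xb ϖ u v := by
  simp only [phi, RingHom.coe_comp, Function.comp_apply, AlgHom.toRingHom_eq_coe, RingHom.coe_coe]
  rw [MvPowerSeries.substAlgHom_X]
  simp [aa]

lemma phi_X1 : phi ϖ u v (MvPowerSeries.X 1) = yb ϖ u v := by
  simp only [phi, RingHom.coe_comp, Function.comp_apply, AlgHom.toRingHom_eq_coe, RingHom.coe_coe]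
  rw [MvPowerSeries.substAlgHom_X]
  simp [aa]

lemma phi_C (r : R) : phi ϖ u v (algebraMap R _ r) = algebraMap R (QQ ϖ u v) r := by
  simp only [phi, RingHom.coe_comp, Function.comp_apply, AlgHom.toRingHom_eq_coe, RingHom.coe_coe,
    AlgHom.commutes]
  rw [MvPowerSeries.algebraMap_apply, MvPowerSeries.constantCoeff_C]

end ps


theorem main (R : Type*) [CommRing R] [IsDomain R] [IsDiscreteValuationRing R]
    (ϖ a₁ a₆ : R) (hϖ : Irreducible ϖ) (v : ℕ) (hv : 1 ≤ v) (u₁ u₆ : Rˣ) (ha₁ : a₁ = u₁ * ϖ ^ v) (ha₆ : a₆ = u₆ * ϖ)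
    (h2 : (2 : R) ∈ IsLocalRing.maximalIdeal R ^ v)
    (x y : MvPowerSeries (Fin 2) R) (hx : x = MvPowerSeries.X 0) (hy : y = MvPowerSeries.X 1)
    (I M : Ideal (MvPowerSeries (Fin 2) R))
    (hI : I = Ideal.span {y ^ 2 + a₁ • (x * y) - x ^ 3 - algebraMap R (MvPowerSeries (Fin 2) R) a₆,
      2 * y + a₁ • x, 3 * x ^ 2 - a₁ • y})
    (hM : M = Ideal.span {algebraMap R (MvPowerSeries (Fin 2) R) ϖ, x, y}) :
    M ^ (2 * v) ⊔ I = Ideal.span {y ^ (2 * v), x * y ^ (2 * v - 1)} ⊔ I ∧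
      ∀ a b : R, a • y ^ (2 * v) + b • (x * y ^ (2 * v - 1)) ∈ M ^ (2 * v + 1) ⊔ I →
        a ∈ IsLocalRing.maximalIdeal R ∧ b ∈ IsLocalRing.maximalIdeal R := by
  classical
  obtain ⟨c, hc⟩ : ∃ c : R, c * ϖ ^ v = 2 := by
    rw [hϖ.maximalIdeal_eq, Ideal.span_singleton_pow] at h2
    exact Ideal.mem_span_singleton'.mp h2
  have h2m : (2 : R) ∈ IsLocalRing.maximalIdeal R := Ideal.pow_le_self (by omega) h2
  have h3 : IsUnit (3 : R) := by
    by_contra h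
    have h3m : (3 : R) ∈ IsLocalRing.maximalIdeal R := h
    have : (1 : R) ∈ IsLocalRing.maximalIdeal R := by
      have e : (1 : R) = 3 - 2 := by norm_num
      rw [e]
      exact Ideal.sub_mem _ h3m h2m
    exact (IsLocalRing.maximalIdeal.isMaximal R).ne_top ((Ideal.eq_top_iff_one _).mpr this)
  obtain ⟨w3, hw3⟩ := h3.exists_left_inv
  have hxM : x ∈ M := by rw [hM]; exact Ideal.subset_span (by simp)
  have hyM : y ∈ M := by rw [hM]; exact Ideal.subset_span (by simp)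
  have hFI : y ^ 2 + a₁ • (x * y) - x ^ 3 - (algebraMap R (MvPowerSeries (Fin 2) R)) a₆ ∈ I := by rw [hI]; exact Ideal.subset_span (by simp)
  have hG1I : 2 * y + a₁ • x ∈ I := by rw [hI]; exact Ideal.subset_span (by simp)
  have hG2I : 3 * x ^ 2 - a₁ • y ∈ I := by rw [hI]; exact Ideal.subset_span (by simp)
  have hp : (algebraMap R (MvPowerSeries (Fin 2) R)) ϖ ∈ I ⊔ M ^ 2 := by
    have e : (algebraMap R (MvPowerSeries (Fin 2) R)) ϖ = (algebraMap R (MvPowerSeries (Fin 2) R)) (↑u₆⁻¹) * ((y ^ 2 + a₁ • (x * y) - x ^ 3) -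
        (y ^ 2 + a₁ • (x * y) - x ^ 3 - (algebraMap R (MvPowerSeries (Fin 2) R)) a₆)) := by
      rw [ha₆, map_mul]
      have : (algebraMap R (MvPowerSeries (Fin 2) R)) (↑u₆⁻¹) * (algebraMap R (MvPowerSeries (Fin 2) R)) ↑u₆ = 1 := by rw [← map_mul]; simp
      linear_combination (-((algebraMap R (MvPowerSeries (Fin 2) R)) ϖ)) * this
    rw [e]
    apply Ideal.mul_mem_left
    apply Ideal.sub_mem
    · apply Ideal.mem_sup_right
      refine Ideal.sub_mem _ (Ideal.add_mem _ (Ideal.pow_mem_pow hyM 2) ?_) ?_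
      · rw [Algebra.smul_def]; apply Ideal.mul_mem_left; rw [pow_two]; exact Ideal.mul_mem_mul hxM hyM
      · exact Ideal.pow_le_pow_right (by norm_num : 2 ≤ 3) (Ideal.pow_mem_pow hxM 3)
    · exact Ideal.mem_sup_left hFI
  have hx2 : x ^ 2 ∈ I ⊔ M ^ 3 := by
    have e : x ^ 2 = (algebraMap R (MvPowerSeries (Fin 2) R)) w3 * ((3 * x ^ 2 - a₁ • y) + a₁ • y) := by
      have : (algebraMap R (MvPowerSeries (Fin 2) R)) w3 * 3 = 1 := by rw [← map_ofNat (algebraMap R (MvPowerSeries (Fin 2) R)) 3, ← map_mul, hw3, map_one]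
      linear_combination (-(x^2)) * this
    rw [e]
    apply Ideal.mul_mem_left
    apply Ideal.add_mem _ (Ideal.mem_sup_left hG2I)
    obtain ⟨w, rfl⟩ : ∃ w, v = w + 1 := ⟨v - 1, by omega⟩
    have e2 : a₁ • y = ((algebraMap R (MvPowerSeries (Fin 2) R)) ↑u₁ * (algebraMap R (MvPowerSeries (Fin 2) R)) ϖ ^ w) * ((algebraMap R (MvPowerSeries (Fin 2) R)) ϖ * y) := by
      rw [Algebra.smul_def, ha₁, map_mul, map_pow]
      ring
    have := mul_mem_aux hp (show y ∈ M ^ 1 by rwa [pow_one])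
    rw [e2]
    exact Ideal.mul_mem_left _ _ this
  have hMm : M ≤ IsLocalRing.maximalIdeal (MvPowerSeries (Fin 2) R) := by
    rw [hM, Ideal.span_le]
    rintro g (rfl | rfl | rfl)
    · simp only [SetLike.mem_coe, IsLocalRing.mem_maximalIdeal, mem_nonunits_iff,
        MvPowerSeries.isUnit_iff_constantCoeff]
      rw [MvPowerSeries.algebraMap_apply, MvPowerSeries.constantCoeff_C]
      exact hϖ.not_isUnit
    · simp only [SetLike.mem_coe, IsLocalRing.mem_maximalIdeal, mem_nonunits_iff,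
        MvPowerSeries.isUnit_iff_constantCoeff]
      rw [hx, MvPowerSeries.constantCoeff_X]
      exact not_isUnit_zero
    · simp only [SetLike.mem_coe, IsLocalRing.mem_maximalIdeal, mem_nonunits_iff,
        MvPowerSeries.isUnit_iff_constantCoeff]
      rw [hy, MvPowerSeries.constantCoeff_X]
      exact not_isUnit_zero
  have gen := fun i hi => gen_abstract ((algebraMap R (MvPowerSeries (Fin 2) R)) ϖ) x y I M hM hMm hp hx2 i hi
  refine ⟨gen (2 * v) (by omega), ?_⟩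
  intro a b hab
  rw [gen (2 * v + 1) (by omega), Nat.add_sub_cancel] at hab
  obtain ⟨w, hw⟩ : ∃ w, v = w + 1 := ⟨v - 1, by omega⟩
  set φ := phi ϖ (u₆ : R) v with hφ
  have hφx : φ x = xb ϖ (u₆ : R) v := by rw [hx]; exact phi_X0 _ _ _
  have hφy : φ y = yb ϖ (u₆ : R) v := by rw [hy]; exact phi_X1 _ _ _
  have hφC : ∀ r, φ ((algebraMap R (MvPowerSeries (Fin 2) R)) r) = (algebraMap R (QQ ϖ (u₆ : R) v)) r := fun r => phi_C _ _ _ r
  have hpx : (algebraMap R (QQ ϖ (u₆ : R) v)) ϖ ^ v * xb ϖ (u₆ : R) v = 0 := by rw [← map_pow]; exact pi_xb _ _ _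
  have hpy : (algebraMap R (QQ ϖ (u₆ : R) v)) ϖ ^ v * yb ϖ (u₆ : R) v = 0 := by rw [← map_pow]; exact pi_yb _ _ _
  have hy2 : yb ϖ (u₆ : R) v ^ 2 = (algebraMap R (QQ ϖ (u₆ : R) v)) u₆ * (algebraMap R (QQ ϖ (u₆ : R) v)) ϖ := by rw [yb_sq, map_mul]
  have hxx : xb ϖ (u₆ : R) v ^ 2 = 0 := xb_sq _ _ _
  have h2Q : (2 : QQ ϖ (u₆ : R) v) = (algebraMap R (QQ ϖ (u₆ : R) v)) c * (algebraMap R (QQ ϖ (u₆ : R) v)) ϖ ^ v := by
    rw [← map_pow, ← map_mul, hc, map_ofNat]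
  have hker : Ideal.span {y ^ (2 * v + 1), x * y ^ (2 * v)} ⊔ I ≤ RingHom.ker φ := by
    refine sup_le ?_ ?_
    · rw [Ideal.span_le]
      rintro g (rfl | rfl)
      · simp only [SetLike.mem_coe, RingHom.mem_ker, map_pow, hφy]
        exact yb_pow _ _ _
      · simp only [SetLike.mem_coe, RingHom.mem_ker, map_pow, map_mul, hφy, hφx]
        rw [pow_mul, hy2, mul_pow]
        linear_combination ((algebraMap R (QQ ϖ (u₆ : R) v)) ↑u₆ ^ v) * hpx
    · rw [hI, Ideal.span_le]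
      rintro g (rfl | rfl | rfl)
      · simp only [SetLike.mem_coe, RingHom.mem_ker, map_sub, map_add, map_mul, map_pow,
          Algebra.smul_def, hφx, hφy, hφC]
        rw [ha₁, ha₆]
        simp only [map_mul, map_pow]
        linear_combination ((algebraMap R (QQ ϖ (u₆ : R) v)) ↑u₁ * yb ϖ (u₆ : R) v) * hpx - xb ϖ (u₆ : R) v * hxx + hy2
      · simp only [SetLike.mem_coe, RingHom.mem_ker, map_add, map_mul,
          Algebra.smul_def, hφx, hφy, hφC, map_ofNat]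
        rw [ha₁]
        simp only [map_mul, map_pow]
        linear_combination ((algebraMap R (QQ ϖ (u₆ : R) v)) c) * hpy + ((algebraMap R (QQ ϖ (u₆ : R) v)) ↑u₁) * hpx + yb ϖ (u₆ : R) v * h2Q
      · simp only [SetLike.mem_coe, RingHom.mem_ker, map_sub, map_mul, map_pow,
          Algebra.smul_def, hφx, hφy, hφC, map_ofNat]
        rw [ha₁]
        simp only [map_mul, map_pow]
        linear_combination 3 * hxx - ((algebraMap R (QQ ϖ (u₆ : R) v)) ↑u₁) * hpy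
  have h0 := hker hab
  rw [RingHom.mem_ker] at h0
  simp only [map_add, map_mul, map_pow, Algebra.smul_def, hφx, hφy, hφC] at h0
  obtain ⟨d1, d2⟩ := detect ϖ (u₆ : R) v a b w hw h0
  have hϖ0 : ϖ ≠ 0 := hϖ.ne_zero
  rw [hϖ.maximalIdeal_eq, Ideal.mem_span_singleton, Ideal.mem_span_singleton]
  constructor
  · rw [mul_pow, pow_succ', ← mul_assoc, mul_dvd_mul_iff_right (pow_ne_zero v hϖ0)] at d1
    exact (IsUnit.dvd_mul_right (u₆.isUnit.pow v)).mp d1
  · rw [hw, mul_pow, pow_succ', ← mul_assoc, mul_dvd_mul_iff_right (pow_ne_zero w hϖ0)] at d2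
    exact (IsUnit.dvd_mul_right (u₆.isUnit.pow w)).mp d2

end W9


/-- Let R be a discrete valuation ring with uniformizer ϖ, let a₁, a₆ ∈ R with a₁ of valuation v ≥ 1, a₆
of valuation 1, and 2 of valuation at least v (so the residue characteristic is 2; 2 = 0 is
allowed). In the power series ring S = R[[x, y]] let M = (ϖ, x, y) be the maximal ideal and I the
ideal generated by y² + a₁xy − x³ − a₆, 2y + a₁x and 3x² − a₁y, so that S/I is a local ring with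
maximal ideal m = M/I. Then the classes of y^(2v) and x·y^(2v−1) form a basis of the vector space
m^(2v)/m^(2v+1) over the residue field: M^(2v) + I = (y^(2v), x·y^(2v−1)) + I, and whenever a·y^(2v)
+ b·x·y^(2v−1) ∈ M^(2v+1) + I with a, b ∈ R, both a and b lie in the maximal ideal of R. (Generation
holds with any exponent i ≥ 1 in place of 2v: M^i + I = (y^i, x·y^(i−1)) + I.) -/
theorem result (R : Type u) [CommRing R] [IsDomain R] [IsDiscreteValuationRing R]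
    (ϖ a₁ a₆ : R) (hϖ : Irreducible ϖ) (v : ℕ) (hv : 1 ≤ v) (u₁ u₆ : Rˣ) (ha₁ : a₁ = u₁ * ϖ ^ v) (ha₆ : a₆ = u₆ * ϖ)
    (h2 : (2 : R) ∈ IsLocalRing.maximalIdeal R ^ v)
    (x y : MvPowerSeries (Fin 2) R) (hx : x = MvPowerSeries.X 0) (hy : y = MvPowerSeries.X 1)
    (I M : Ideal (MvPowerSeries (Fin 2) R))
    (hI : I = Ideal.span {y ^ 2 + a₁ • (x * y) - x ^ 3 - algebraMap R (MvPowerSeries (Fin 2) R) a₆,
      2 * y + a₁ • x, 3 * x ^ 2 - a₁ • y})
    (hM : M = Ideal.span {algebraMap R (MvPowerSeries (Fin 2) R) ϖ, x, y}) :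
    M ^ (2 * v) ⊔ I = Ideal.span {y ^ (2 * v), x * y ^ (2 * v - 1)} ⊔ I ∧
      ∀ a b : R, a • y ^ (2 * v) + b • (x * y ^ (2 * v - 1)) ∈ M ^ (2 * v + 1) ⊔ I →
        a ∈ IsLocalRing.maximalIdeal R ∧ b ∈ IsLocalRing.maximalIdeal R :=
  W9.main R ϖ a₁ a₆ hϖ v hv u₁ u₆ ha₁ ha₆ h2 x y hx hy I M hI hM

end Groth.Agent.S14909
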