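import Groth.Statements.S1491
import Groth.Agent.Lib.Helper9.LCICover
-- import your own Groth.Agent.* helpers here

set_option autoImplicit false
universe u
attribute [local instance] HasDerivedCategory.standard
open FlatMor

namespace Groth.Agent.S1491

open AlgebraicGeometry CategoryTheory Limits in
/-- Let f : X → Y and g : Y → Z be local complete intersection morphisms, in the affine-local sense that
all ring maps between affine opens are local complete intersection homomorphisms. Then f ≫ g is a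
local complete intersection morphism. -/
theorem result {X Y Z : Scheme.{u}} (f : X ⟶ Y) (g : Y ⟶ Z)
    (hf : (∀ (U : X.Opens) (V : Y.Opens) (hU : IsAffineOpen U) (hV : IsAffineOpen V) (hUV : U ≤ f ⁻¹ᵁ V),
        letI := (f.appLE V U hUV).hom.toAlgebra
        LCI.IsLCI Γ(Y, V) Γ(X, U)))
    (hg : (∀ (U : Y.Opens) (V : Z.Opens) (hU : IsAffineOpen U) (hV : IsAffineOpen V) (hUV : U ≤ g ⁻¹ᵁ V),
        letI := (g.appLE V U hUV).hom.toAlgebra
        LCI.IsLCI Γ(Z, V) Γ(Y, U))) :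
    (∀ (U : X.Opens) (V : Z.Opens) (hU : IsAffineOpen U) (hV : IsAffineOpen V) (hUV : U ≤ (f ≫ g) ⁻¹ᵁ V),
        letI := ((f ≫ g).appLE V U hUV).hom.toAlgebra
        LCI.IsLCI Γ(Z, V) Γ(X, U)) := by
  intro U V hU hV hUV
  refine Groth.Agent.Lib.Helper9.LCICover.isLCI_of_cover ((f ≫ g).appLE V U hUV).hom
    {h : Γ(X, U) | ∃ W : Y.Opens, IsAffineOpen W ∧ W ≤ g ⁻¹ᵁ V ∧ X.basicOpen h ≤ f ⁻¹ᵁ W} ?_ ?_
  · rw [← hU.self_le_iSup_basicOpen_iff]
    intro x hx
    have hy : f x ∈ g ⁻¹ᵁ V := hUV hx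
    obtain ⟨W, hW, hyW, hWV⟩ := TopologicalSpace.Opens.isBasis_iff_nbhd.mp Y.isBasis_affineOpens hy
    obtain ⟨h, hh1, hh2⟩ := hU.exists_basicOpen_le (V := f ⁻¹ᵁ W) ⟨x, hyW⟩ hx
    rw [TopologicalSpace.Opens.mem_iSup]
    exact ⟨⟨h, W, hW, hWV, hh1⟩, hh2⟩
  · rintro h ⟨W, hW, hWV, hhW⟩
    have hD : IsAffineOpen (X.basicOpen h) := hU.basicOpen h
    refine ⟨Γ(Y, W), Γ(X, X.basicOpen h), inferInstance, inferInstance, (g.appLE V W hWV).hom,
      (f.appLE W (X.basicOpen h) hhW).hom,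
      (X.presheaf.map (homOfLE (X.basicOpen_le h)).op).hom, ?_, ?_, ?_, ?_⟩
    · rw [← CommRingCat.hom_comp, ← CommRingCat.hom_comp, Scheme.Hom.appLE_map,
        Scheme.Hom.appLE_comp_appLE]
    · exact hU.isLocalization_basicOpen h
    · exact hg W V hW hV hWV
    · exact hf (X.basicOpen h) W hD hW hhW

end Groth.Agent.S1491
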