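import Groth.Statements.S14913
import Groth.Agent.Lib.Helper25.PerfScheme2

set_option autoImplicit false
universe u
open CategoryTheory AlgebraicGeometry
open PerfSch

namespace Groth.Agent.S14913

/-- Let p be a prime and let X, Y, X', Y' be schemes of characteristic p (p = 0 in the structure sheaf).
Let π_X : X' ⟶ X and π_Y : Y' ⟶ Y be perfections: X' is perfect (its absolute Frobenius is an
isomorphism) and every morphism from a perfect scheme of characteristic p to X factors uniquely
through π_X, and likewise for π_Y. Let f : X ⟶ Y be a morphism and f' : X' ⟶ Y' the induced morphism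
of perfections, the one with f' ≫ π_Y = π_X ≫ f. Then f is quasi-compact if and only if f' is
quasi-compact. -/
theorem result (p : ℕ) [Fact p.Prime] {X Y XP YP : Scheme.{u}}
    [FrobSch.IsCharP X p] [FrobSch.IsCharP Y p] [FrobSch.IsCharP XP p] [FrobSch.IsCharP YP p]
    (πX : XP ⟶ X) (πY : YP ⟶ Y) (hX : FrobSch.IsPerfection πX p) (hY : FrobSch.IsPerfection πY p)
    (f : X ⟶ Y) (fP : XP ⟶ YP) (w : fP ≫ πY = πX ≫ f) :
    AlgebraicGeometry.QuasiCompact f ↔ AlgebraicGeometry.QuasiCompact fP := by
  let eX := Lib.Helper25.IsPerfection.homeomorph hX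
  let eY := Lib.Helper25.IsPerfection.homeomorph hY
  have hw : ∀ x : XP, πY (fP x) = f (πX x) := fun x => by
    rw [← Scheme.Hom.comp_apply, w, Scheme.Hom.comp_apply]
  constructor
  · intro hf
    constructor
    intro U' hU' hU'c
    have h1 : IsCompact (f ⁻¹' (eY '' U')) :=
      hf.isCompact_preimage _ (eY.isOpen_image.mpr hU') (eY.isCompact_image.mpr hU'c)
    have h2 : fP ⁻¹' U' = eX ⁻¹' (f ⁻¹' (eY '' U')) := by
      ext x
      simp only [Set.mem_preimage, Set.mem_image]
      constructor
      · intro hx
        exact ⟨fP x, hx, hw x⟩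
      · rintro ⟨y, hy, hyx⟩
        have : y = fP x := eY.injective (hyx.trans (hw x).symm)
        rwa [← this]
    rw [h2]
    exact eX.isCompact_preimage.mpr h1
  · intro hf
    constructor
    intro U hU hUc
    have h1 : IsCompact (fP ⁻¹' (eY ⁻¹' U)) :=
      hf.isCompact_preimage _ (hU.preimage eY.continuous) (eY.isCompact_preimage.mpr hUc)
    have h2 : f ⁻¹' U = eX '' (fP ⁻¹' (eY ⁻¹' U)) := by
      ext x
      simp only [Set.mem_preimage, Set.mem_image]
      constructor
      · intro hx
        obtain ⟨x', rfl⟩ := eX.surjective x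
        refine ⟨x', ?_, rfl⟩
        change πY (fP x') ∈ U
        rw [hw]
        exact hx
      · rintro ⟨x', hx', rfl⟩
        change f (πX x') ∈ U
        rw [← hw]
        exact hx'
    rw [h2]
    exact eX.isCompact_image.mpr h1

end Groth.Agent.S14913
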