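import Groth.Statements.S14914
import Groth.Agent.Lib.Helper25.PerfScheme4

set_option autoImplicit false
universe u
open CategoryTheory AlgebraicGeometry
open PerfSch

namespace Groth.Agent.S14914

/-- Let p be a prime and let X, Y, X', Y' be schemes of characteristic p (p = 0 in the structure sheaf).
Let π_X : X' ⟶ X and π_Y : Y' ⟶ Y be perfections: X' is perfect (its absolute Frobenius is an
isomorphism) and every morphism from a perfect scheme of characteristic p to X factors uniquely
through π_X, and likewise for π_Y. Let f : X ⟶ Y be a morphism and f' : X' ⟶ Y' the induced morphism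
of perfections, the one with f' ≫ π_Y = π_X ≫ f. Then f is quasi-separated if and only if f' is
quasi-separated. -/
theorem result (p : ℕ) [Fact p.Prime] {X Y XP YP : Scheme.{u}}
    [FrobSch.IsCharP X p] [FrobSch.IsCharP Y p] [FrobSch.IsCharP XP p] [FrobSch.IsCharP YP p]
    (πX : XP ⟶ X) (πY : YP ⟶ Y) (hX : FrobSch.IsPerfection πX p) (hY : FrobSch.IsPerfection πY p)
    (f : X ⟶ Y) (fP : XP ⟶ YP) (w : fP ≫ πY = πX ≫ f) :
    AlgebraicGeometry.QuasiSeparated f ↔ AlgebraicGeometry.QuasiSeparated fP := by
  have hiff : ∀ V : Y.affineOpens, QuasiSeparatedSpace ↥(fP ⁻¹ᵁ (πY ⁻¹ᵁ V.1)) ↔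
      QuasiSeparatedSpace ↥(f ⁻¹ᵁ V.1) := by
    intro V
    rw [Lib.Helper25.preimage_perf_eq w]
    exact Lib.Helper25.IsPerfection.quasiSeparatedSpace_preimage_iff hX _
  rw [Lib.Helper25.quasiSeparated_iff_of_iSup_eq_top f (fun V : Y.affineOpens => V)
      (iSup_affineOpens_eq_top Y),
    Lib.Helper25.quasiSeparated_iff_of_iSup_eq_top fP
      (fun V : Y.affineOpens => (⟨πY ⁻¹ᵁ V.1,
        Lib.Helper25.IsPerfection.isAffineOpen_preimage hY V.2⟩ : YP.affineOpens))
      (by
        dsimp only
        rw [← Scheme.Hom.preimage_iSup, iSup_affineOpens_eq_top, Scheme.Hom.preimage_top])]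
  exact forall_congr' fun V => (hiff V).symm

end Groth.Agent.S14914
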