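import Groth.Statements.S14915
import Groth.Agent.Lib.Helper25.PerfAffine

set_option autoImplicit false
universe u
open CategoryTheory AlgebraicGeometry
open PerfSch

namespace Groth.Agent.S14915

/-- Let p be a prime and let X, Y, X', Y' be schemes of characteristic p (p = 0 in the structure sheaf).
Let π_X : X' ⟶ X and π_Y : Y' ⟶ Y be perfections: X' is perfect (its absolute Frobenius is an
isomorphism) and every morphism from a perfect scheme of characteristic p to X factors uniquely
through π_X, and likewise for π_Y. Let f : X ⟶ Y be a morphism and f' : X' ⟶ Y' the induced morphism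
of perfections, the one with f' ≫ π_Y = π_X ≫ f. Then f is affine if and only if f' is affine. -/
theorem result (p : ℕ) [Fact p.Prime] {X Y XP YP : Scheme.{u}}
    [FrobSch.IsCharP X p] [FrobSch.IsCharP Y p] [FrobSch.IsCharP XP p] [FrobSch.IsCharP YP p]
    (πX : XP ⟶ X) (πY : YP ⟶ Y) (hX : FrobSch.IsPerfection πX p) (hY : FrobSch.IsPerfection πY p)
    (f : X ⟶ Y) (fP : XP ⟶ YP) (w : fP ≫ πY = πX ≫ f) :
    AlgebraicGeometry.IsAffineHom f ↔ AlgebraicGeometry.IsAffineHom fP := by
  constructor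
  · intro hf
    apply isAffineHom_of_forall_exists_isAffineOpen
    intro y'
    obtain ⟨V, hV, hyV, -⟩ := TopologicalSpace.Opens.isBasis_iff_nbhd.mp Y.isBasis_affineOpens
      (TopologicalSpace.Opens.mem_top (πY y'))
    refine ⟨πY ⁻¹ᵁ V, hyV, Lib.Helper25.IsPerfection.isAffineOpen_preimage hY hV, ?_⟩
    rw [Lib.Helper25.preimage_perf_eq w]
    exact Lib.Helper25.IsPerfection.isAffineOpen_preimage hX (hV.preimage f)
  · intro hfP
    apply isAffineHom_of_forall_exists_isAffineOpen
    intro y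
    obtain ⟨V, hV, hyV, -⟩ := TopologicalSpace.Opens.isBasis_iff_nbhd.mp Y.isBasis_affineOpens
      (TopologicalSpace.Opens.mem_top y)
    refine ⟨V, hyV, hV, ?_⟩
    have h1 : IsAffineOpen (πX ⁻¹ᵁ (f ⁻¹ᵁ V)) := by
      rw [← Lib.Helper25.preimage_perf_eq w]
      exact (Lib.Helper25.IsPerfection.isAffineOpen_preimage hY hV).preimage fP
    have h2 : FrobSch.IsPerfection (πX ∣_ (f ⁻¹ᵁ V)) p :=
      Lib.Helper25.IsPerfection.restrict hX (f ⁻¹ᵁ V)
    have h3 : IsAffine ((πX ⁻¹ᵁ (f ⁻¹ᵁ V) : XP.Opens) : Scheme.{u}) := h1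
    exact Lib.Helper25.IsPerfection.isAffine_of_isAffine h2

end Groth.Agent.S14915
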