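import Groth.Statements.S14919
import Groth.Agent.Lib.Helper25.PerfScheme3

set_option autoImplicit false
universe u
open CategoryTheory AlgebraicGeometry
open PerfSch

namespace Groth.Agent.S14919

/-- Let p be a prime and let X, Y, X', Y' be schemes of characteristic p (p = 0 in the structure sheaf).
Let π_X : X' ⟶ X and π_Y : Y' ⟶ Y be perfections: X' is perfect (its absolute Frobenius is an
isomorphism) and every morphism from a perfect scheme of characteristic p to X factors uniquely
through π_X, and likewise for π_Y. Let f : X ⟶ Y be a morphism and f' : X' ⟶ Y' the induced morphism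
of perfections, the one with f' ≫ π_Y = π_X ≫ f. If f is a closed immersion, then so is f'. -/
theorem result (p : ℕ) [Fact p.Prime] {X Y XP YP : Scheme.{u}}
    [FrobSch.IsCharP X p] [FrobSch.IsCharP Y p] [FrobSch.IsCharP XP p] [FrobSch.IsCharP YP p]
    (πX : XP ⟶ X) (πY : YP ⟶ Y) (hX : FrobSch.IsPerfection πX p) (hY : FrobSch.IsPerfection πY p)
    (f : X ⟶ Y) (fP : XP ⟶ YP) (w : fP ≫ πY = πX ≫ f)
    [AlgebraicGeometry.IsClosedImmersion f] : AlgebraicGeometry.IsClosedImmersion fP := by
  have hfaff : IsAffineHom f := inferInstance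
  refine Lib.Helper25.isClosedImmersion_of_iSup_eq_top fP
    (fun V : Y.affineOpens => (⟨πY ⁻¹ᵁ V.1,
      Lib.Helper25.IsPerfection.isAffineOpen_preimage hY V.2⟩ : YP.affineOpens)) ?_ ?_
  · dsimp only
    rw [← Scheme.Hom.preimage_iSup, iSup_affineOpens_eq_top, Scheme.Hom.preimage_top]
  · intro V
    dsimp only
    have hU : IsAffineOpen (f ⁻¹ᵁ V.1) := V.2.preimage f
    have hU' : IsAffineOpen (πX ⁻¹ᵁ (f ⁻¹ᵁ V.1)) :=
      Lib.Helper25.IsPerfection.isAffineOpen_preimage hX hU
    have heq : fP ⁻¹ᵁ (πY ⁻¹ᵁ V.1) = πX ⁻¹ᵁ (f ⁻¹ᵁ V.1) := Lib.Helper25.preimage_perf_eq w V.1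
    refine ⟨?_, ?_⟩
    · rw [heq]
      exact hU'
    · have hsurj : Function.Surjective (f.appLE V.1 (f ⁻¹ᵁ V.1) le_rfl) := by
        rw [Scheme.Hom.appLE_eq_app]
        exact f.app_surjective V.1 V.2
      have h1 := Lib.Helper25.surjective_appLE_perf hX hY w hU le_rfl hsurj
      rw [Scheme.Hom.appTop, morphismRestrict_app']
      refine (Scheme.Hom.appLE_congr fP _ ?_ ?_ (fun φ => Function.Surjective φ)).mpr h1
      · simp
      · simp [heq]

end Groth.Agent.S14919
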