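import Groth.Statements.S14916
import Groth.Agent.Lib.Helper25.PerfScheme5
import Groth.Agent.S14919

set_option autoImplicit false
universe u
open CategoryTheory AlgebraicGeometry
open PerfSch

namespace Groth.Agent.S14916

/-- Let p be a prime and let X, Y, X', Y' be schemes of characteristic p (p = 0 in the structure sheaf).
Let π_X : X' ⟶ X and π_Y : Y' ⟶ Y be perfections: X' is perfect (its absolute Frobenius is an
isomorphism) and every morphism from a perfect scheme of characteristic p to X factors uniquely
through π_X, and likewise for π_Y. Let f : X ⟶ Y be a morphism and f' : X' ⟶ Y' the induced morphism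
of perfections, the one with f' ≫ π_Y = π_X ≫ f. Then f is separated if and only if f' is separated. -/
theorem result (p : ℕ) [Fact p.Prime] {X Y XP YP : Scheme.{u}}
    [FrobSch.IsCharP X p] [FrobSch.IsCharP Y p] [FrobSch.IsCharP XP p] [FrobSch.IsCharP YP p]
    (πX : XP ⟶ X) (πY : YP ⟶ Y) (hX : FrobSch.IsPerfection πX p) (hY : FrobSch.IsPerfection πY p)
    (f : X ⟶ Y) (fP : XP ⟶ YP) (w : fP ≫ πY = πX ≫ f) :
    AlgebraicGeometry.IsSeparated f ↔ AlgebraicGeometry.IsSeparated fP := by
  have : FrobSch.IsCharP (Limits.pullback fP fP) p :=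
    FrobSch.IsCharP.of_hom (Limits.pullback.fst fP fP) p
  have : FrobSch.IsCharP (Limits.pullback f f) p :=
    FrobSch.IsCharP.of_hom (Limits.pullback.fst f f) p
  let ρ : Limits.pullback fP fP ⟶ Limits.pullback f f :=
    Limits.pullback.map fP fP f f πX πX πY w w
  have hρ : FrobSch.IsPerfection ρ p :=
    Lib.Helper25.IsPerfection.pullback_map hX hX hY f f fP fP w w
  have hdiag : Limits.pullback.diagonal fP ≫ ρ = πX ≫ Limits.pullback.diagonal f :=
    Lib.Helper25.diagonal_comp_pullback_map πX πY f fP w
  constructor
  · intro hf
    have : IsClosedImmersion (Limits.pullback.diagonal f) := hf.isClosedImmersion_diagonal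
    exact ⟨Groth.Agent.S14919.result p πX ρ hX hρ (Limits.pullback.diagonal f)
      (Limits.pullback.diagonal fP) hdiag⟩
  · intro hfP
    have hcl : IsClosedImmersion (Limits.pullback.diagonal fP) := hfP.isClosedImmersion_diagonal
    have hsX : Surjective πX := Lib.Helper25.IsPerfection.surjective hX
    have hhomeo : IsHomeomorph ρ := Lib.Helper25.IsPerfection.isHomeomorph hρ
    refine ⟨IsClosedImmersion.of_isPreimmersion _ ?_⟩
    have hrange : Set.range (Limits.pullback.diagonal f) =
        ρ '' Set.range (Limits.pullback.diagonal fP) := by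
      rw [← Set.range_comp]
      have h1 : (ρ : _ → _) ∘ (Limits.pullback.diagonal fP : _ → _) =
          (Limits.pullback.diagonal f : _ → _) ∘ (πX : _ → _) := by
        funext x
        simp only [Function.comp_apply]
        rw [← Scheme.Hom.comp_apply, hdiag, Scheme.Hom.comp_apply]
      rw [h1, Set.range_comp, Set.range_eq_univ.mpr hsX.surj, Set.image_univ]
    rw [hrange]
    exact hhomeo.isClosedMap _ (Limits.pullback.diagonal fP).isClosedEmbedding.isClosed_range

end Groth.Agent.S14916
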