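import Groth.Statements.S14920
import Groth.Agent.Lib.Helper25.PerfScheme2

set_option autoImplicit false
universe u
open CategoryTheory AlgebraicGeometry
open PerfSch

namespace Groth.Agent.S14920

/-- Let p be a prime and let X, Y, X', Y' be schemes of characteristic p (p = 0 in the structure sheaf).
Let π_X : X' ⟶ X and π_Y : Y' ⟶ Y be perfections: X' is perfect (its absolute Frobenius is an
isomorphism) and every morphism from a perfect scheme of characteristic p to X factors uniquely
through π_X, and likewise for π_Y. Let f : X ⟶ Y be a morphism and f' : X' ⟶ Y' the induced morphism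
of perfections, the one with f' ≫ π_Y = π_X ≫ f. If f is an open immersion, then so is f'. -/
theorem result (p : ℕ) [Fact p.Prime] {X Y XP YP : Scheme.{u}}
    [FrobSch.IsCharP X p] [FrobSch.IsCharP Y p] [FrobSch.IsCharP XP p] [FrobSch.IsCharP YP p]
    (πX : XP ⟶ X) (πY : YP ⟶ Y) (hX : FrobSch.IsPerfection πX p) (hY : FrobSch.IsPerfection πY p)
    (f : X ⟶ Y) (fP : XP ⟶ YP) (w : fP ≫ πY = πX ≫ f)
    [AlgebraicGeometry.IsOpenImmersion f] : AlgebraicGeometry.IsOpenImmersion fP := by
  let U : Y.Opens := f.opensRange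
  have h1 : FrobSch.IsPerfection (πY ∣_ U) p := Lib.Helper25.IsPerfection.restrict hY U
  have h2 : FrobSch.IsPerfection (πX ≫ f.isoOpensRange.hom) p :=
    Lib.Helper25.IsPerfection.comp_iso hX f.isoOpensRange
  obtain ⟨a, ha⟩ := Lib.Helper25.IsPerfection.exists_iso h2 h1
  have hfP : fP = a.hom ≫ (πY ⁻¹ᵁ U).ι := by
    apply (hY.2 XP hX.1).1
    dsimp only
    rw [w, Category.assoc, ← morphismRestrict_ι, ← Category.assoc, ha, Category.assoc,
      Scheme.Hom.isoOpensRange_hom_ι]
  rw [hfP]
  infer_instance

end Groth.Agent.S14920
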