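import Groth.Statements.S14921
import Groth.Agent.S14919
import Mathlib.AlgebraicGeometry.Morphisms.Immersion

set_option autoImplicit false
universe u
open CategoryTheory AlgebraicGeometry
open PerfSch

namespace Groth.Agent.S14921

/-- Let p be a prime and let X, Y, X', Y' be schemes of characteristic p (p = 0 in the structure sheaf).
Let π_X : X' ⟶ X and π_Y : Y' ⟶ Y be perfections: X' is perfect (its absolute Frobenius is an
isomorphism) and every morphism from a perfect scheme of characteristic p to X factors uniquely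
through π_X, and likewise for π_Y. Let f : X ⟶ Y be a morphism and f' : X' ⟶ Y' the induced morphism
of perfections, the one with f' ≫ π_Y = π_X ≫ f. If f is an immersion (a closed immersion into an
open subscheme), then so is f'. -/
theorem result (p : ℕ) [Fact p.Prime] {X Y XP YP : Scheme.{u}}
    [FrobSch.IsCharP X p] [FrobSch.IsCharP Y p] [FrobSch.IsCharP XP p] [FrobSch.IsCharP YP p]
    (πX : XP ⟶ X) (πY : YP ⟶ Y) (hX : FrobSch.IsPerfection πX p) (hY : FrobSch.IsPerfection πY p)
    (f : X ⟶ Y) (fP : XP ⟶ YP) (w : fP ≫ πY = πX ≫ f)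
    [AlgebraicGeometry.IsImmersion f] : AlgebraicGeometry.IsImmersion fP := by
  let U : Y.Opens := f.coborderRange
  have h1 : FrobSch.IsPerfection (πY ∣_ U) p := Lib.Helper25.IsPerfection.restrict hY U
  obtain ⟨gP, hgP⟩ := (h1.2 XP hX.1).2 (πX ≫ f.liftCoborder)
  dsimp only at hgP
  have hcl : IsClosedImmersion gP :=
    Groth.Agent.S14919.result p πX (πY ∣_ U) hX h1 f.liftCoborder gP hgP
  have hfP : fP = gP ≫ (πY ⁻¹ᵁ U).ι := by
    apply (hY.2 XP hX.1).1
    dsimp only
    rw [w, Category.assoc, ← morphismRestrict_ι, ← Category.assoc, hgP, Category.assoc,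
      Scheme.Hom.liftCoborder_ι]
  rw [hfP]
  infer_instance

end Groth.Agent.S14921
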