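import Groth.Statements.S14955
import Groth.Agent.Lib.Helper56.Milnor

set_option autoImplicit false
universe u
open TensorProduct
open EtAlg

namespace Groth.Agent.S14955

/-- Let B' = B ×_A A' be a fibre product of commutative rings with A' → A surjective. Then the square is
also a pushout of commutative rings: the canonical map B ⊗_{B'} A' → A is an isomorphism. -/
theorem result (B' B A' A : Type u) [CommRing B'] [CommRing B] [CommRing A'] [CommRing A]
    [Algebra B' B] [Algebra B' A'] [Algebra B A] [Algebra A' A] [Algebra B' A] [IsScalarTower B' B A] [IsScalarTower B' A' A]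
    (hsq : EtMil.IsFibreSquare B' B A' A) : Algebra.IsPushout B' B A' A := by
  constructor
  apply IsBaseChange.of_lift_unique
  intro Q _ _ _ _ g
  set f : A' →ₗ[B'] A := (IsScalarTower.toAlgHom B' A' A).toLinearMap with hfdef
  have hfapp : ∀ x, f x = algebraMap A' A x := fun x => rfl
  have hf : Function.Surjective f := hsq.1
  have hker : ∀ d : A', f d = 0 → g d = 0 := by
    intro d hd
    rw [hfapp] at hd
    have h0 : algebraMap B A 0 = algebraMap A' A d := by rw [map_zero, hd]
    obtain ⟨j, ⟨hj1, hj2⟩, -⟩ := hsq.2 0 d h0
    have : d = j • (1 : A') := by rw [Algebra.smul_def, mul_one, hj2]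
    rw [this, map_smul, ← algebraMap_smul B j (g 1), hj1, zero_smul]
  have key : ∀ x y : A', f x = f y → g x = g y := by
    intro x y hxy
    have : x = y + (x - y) := by ring
    rw [this, map_add, hker (x - y) (by rw [map_sub, hxy, sub_self]), add_zero]
  have hg₀ : ∀ x, g (hf (f x)).choose = g x := fun x => key _ _ (hf (f x)).choose_spec
  let g' : A →ₗ[B] Q :=
    { toFun := fun a => g (hf a).choose
      map_add' := by
        intro a b
        rw [← map_add]
        apply key
        rw [(hf (a + b)).choose_spec, map_add, (hf a).choose_spec, (hf b).choose_spec]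
      map_smul' := by
        intro b a
        obtain ⟨b', rfl⟩ := Groth.Agent.Lib.Helper56.Milnor.surjB hsq b
        rw [RingHom.id_apply, algebraMap_smul, algebraMap_smul, ← map_smul]
        apply key
        rw [(hf (b' • a)).choose_spec, map_smul, (hf a).choose_spec] }
  refine ⟨g', ?_, ?_⟩
  · ext x
    exact hg₀ x
  · intro g'' hg''
    ext a
    obtain ⟨x, rfl⟩ := hf a
    have := congrArg (fun φ => φ x) hg''
    simp only [LinearMap.comp_apply, LinearMap.restrictScalars_apply] at this
    rw [this]
    exact (hg₀ x).symm

end Groth.Agent.S14955
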