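import Groth.Statements.S14958
import Groth.Agent.Lib.Helper46.TorLES2
import Groth.Agent.Lib.Helper56.MilnorBase

set_option autoImplicit false
set_option linter.style.haveILetI false
universe u
open TensorProduct CategoryTheory CategoryTheory.Limits
open EtAlg

namespace Groth.Agent.S14958

open MonoidalCategory
open Groth.Agent.Lib.Helper46 Groth.Agent.Lib.Helper46.TorBalance Groth.Agent.Lib.Helper46.TorLES2
open Groth.Agent.Lib.Helper56.Milnor

section additive
variable {R : Type u} [CommRing R]

instance tensK_additive (K : ChainComplex (ModuleCat.{u} R) ℕ) : (tensK K).Additive where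
  map_add := by
    intro X Y f g
    ext i : 1
    change K.X i ◁ (f + g) = K.X i ◁ f + K.X i ◁ g
    exact MonoidalPreadditive.whiskerLeft_add _ _

theorem tor_additive (M : ModuleCat.{u} R) (n : ℕ) :
    ((Tor (ModuleCat.{u} R) n).obj M).Additive := by
  haveI : (Hfun (resK M) n).Additive := by unfold Hfun; infer_instance
  exact Functor.additive_of_iso (torIsoHfun M n).symm

end additive

section inj
variable {B' B A' A : Type u} [CommRing B'] [CommRing B] [CommRing A'] [CommRing A]
    [Algebra B' B] [Algebra B' A'] [Algebra B A] [Algebra A' A] [Algebra B' A]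
    [IsScalarTower B' B A] [IsScalarTower B' A' A]
    (L' : Type u) [AddCommGroup L'] [Module B' L']

theorem lTensor_iR_tmul_one (l : L') :
    (iR B' B' B A').lTensor L' (l ⊗ₜ[B'] (1 : B')) = l ⊗ₜ[B'] ((1 : B), (1 : A')) := by
  rw [LinearMap.lTensor_tmul, iR_apply, map_one, map_one]

theorem injective_lTensor_iR_iff :
    Function.Injective ((iR B' B' B A').lTensor L') ↔
    (∀ l : L', ((1 : B) ⊗ₜ[B'] l : B ⊗[B'] L') = 0 → ((1 : A') ⊗ₜ[B'] l : A' ⊗[B'] L') = 0 →
      l = 0) := by
  constructor
  · intro hinj l h1 h2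
    have h1' : l ⊗ₜ[B'] (1 : B) = 0 := by
      have := congrArg (TensorProduct.comm B' B L') h1
      simpa using this
    have h2' : l ⊗ₜ[B'] (1 : A') = 0 := by
      have := congrArg (TensorProduct.comm B' A' L') h2
      simpa using this
    have h3 : l ⊗ₜ[B'] ((1 : B), (1 : A')) = 0 := by
      have e : ((1 : B), (1 : A')) = LinearMap.inl B' B A' 1 + LinearMap.inr B' B A' 1 := by
        simp
      rw [e, TensorProduct.tmul_add, ← LinearMap.lTensor_tmul, ← LinearMap.lTensor_tmul, h1', h2',
        map_zero, map_zero, add_zero]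
    have h4 : l ⊗ₜ[B'] (1 : B') = 0 := by
      apply hinj
      rw [lTensor_iR_tmul_one, h3, map_zero]
    have := congrArg (TensorProduct.rid B' L') h4
    simpa using this
  · intro h
    rw [injective_iff_map_eq_zero]
    intro x hx
    obtain ⟨l, rfl⟩ : ∃ l : L', l ⊗ₜ[B'] (1 : B') = x :=
      ⟨TensorProduct.rid B' L' x, by
        rw [← TensorProduct.rid_symm_apply, LinearEquiv.symm_apply_apply]⟩
    rw [lTensor_iR_tmul_one] at hx
    have h1 : ((1 : B) ⊗ₜ[B'] l : B ⊗[B'] L') = 0 := by
      have := congrArg (fun z => TensorProduct.comm B' L' B ((LinearMap.fst B' B A').lTensor L' z)) hx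
      simpa using this
    have h2 : ((1 : A') ⊗ₜ[B'] l : A' ⊗[B'] L') = 0 := by
      have := congrArg (fun z => TensorProduct.comm B' L' A' ((LinearMap.snd B' B A').lTensor L' z)) hx
      simpa using this
    rw [h l h1 h2, TensorProduct.zero_tmul]

end inj

/-- Let B' = B ×_A A' be a fibre product of commutative rings with A' → A surjective and L' a B'-module.
Then L' is a fixed point of the glueing adjunction, i.e. the canonical map from L' to the compatible
pairs in (B ⊗_{B'} L') × (A' ⊗_{B'} L') is injective (it is always surjective), if and only if the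
map Tor_1(L', B) ⊕ Tor_1(L', A') → Tor_1(L', A) over B' induced by B → A and A' → A is surjective.
Here Tor_1(L', –) is the first left derived functor of L' ⊗_{B'} – on B'-modules. -/
theorem result (B' B A' A : Type u) [CommRing B'] [CommRing B] [CommRing A'] [CommRing A]
    [Algebra B' B] [Algebra B' A'] [Algebra B A] [Algebra A' A] [Algebra B' A] [IsScalarTower B' B A] [IsScalarTower B' A' A]
    (hsq : EtMil.IsFibreSquare B' B A' A)
    (L' : Type u) [AddCommGroup L'] [Module B' L'] :
    (∀ l : L', ((1 : B) ⊗ₜ[B'] l : B ⊗[B'] L') = 0 → ((1 : A') ⊗ₜ[B'] l : A' ⊗[B'] L') = 0 → l = 0) ↔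
    Epi (biprod.desc
      (((Tor (ModuleCat.{u} B') 1).obj (ModuleCat.of B' L')).map
        (ModuleCat.ofHom (IsScalarTower.toAlgHom B' B A).toLinearMap))
      (((Tor (ModuleCat.{u} B') 1).obj (ModuleCat.of B' L')).map
        (ModuleCat.ofHom (IsScalarTower.toAlgHom B' A' A).toLinearMap))) := by
  haveI := tor_additive (ModuleCat.of B' L')
  -- the short exact sequence `0 → B' → B × A' → A → 0`
  let S : ShortComplex (ModuleCat.{u} B') :=
    ShortComplex.mk (ModuleCat.ofHom (iR B' B' B A')) (ModuleCat.ofHom (qR B' B A' A))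
      (ModuleCat.hom_ext (LinearMap.ext fun x => (exact_iR_qR hsq).apply_apply_eq_zero x))
  have hS : S.ShortExact :=
    ModuleCat.shortComplex_shortExact S (exact_iR_qR hsq) (iR_injective hsq) (qR_surjective hsq)
  let L : ModuleCat.{u} B' := ModuleCat.of B' L'
  -- Step A
  have hA : Mono (((Tor (ModuleCat.{u} B') 0).obj L).map S.f) ↔
      Function.Injective ((iR B' B' B A').lTensor L') := by
    have nat := (TorLES.torZeroIso L).hom.naturality S.f
    have e1 : (tensorLeft L).map S.f = (TorLES.torZeroIso L).inv.app S.X₁ ≫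
        ((Tor (ModuleCat.{u} B') 0).obj L).map S.f ≫ (TorLES.torZeroIso L).hom.app S.X₂ := by
      rw [nat, Iso.inv_hom_id_app_assoc]
    have e2 : ((Tor (ModuleCat.{u} B') 0).obj L).map S.f = (TorLES.torZeroIso L).hom.app S.X₁ ≫
        (tensorLeft L).map S.f ≫ (TorLES.torZeroIso L).inv.app S.X₂ := by
      rw [← reassoc_of% nat, Iso.hom_inv_id_app, Category.comp_id]
    have hmono : Mono (((Tor (ModuleCat.{u} B') 0).obj L).map S.f) ↔ Mono ((tensorLeft L).map S.f) := by
      constructor
      · intro h
        rw [e1]; infer_instance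
      · intro h
        rw [e2]; infer_instance
    rw [hmono, ModuleCat.mono_iff_injective]
    rfl
  -- Steps B, C
  have hB : Mono (((Tor (ModuleCat.{u} B') 0).obj L).map S.f) ↔ δ₂ L S hS 0 = 0 := by
    constructor
    · intro h
      rw [← cancel_mono (((Tor (ModuleCat.{u} B') 0).obj L).map S.f), δ₂_map_f, zero_comp]
    · intro h
      exact (exact₁₂ L S hS 0).mono_g h
  rw [← injective_lTensor_iR_iff, ← hA, hB]
  -- the maps
  let T := (Tor (ModuleCat.{u} B') 1).obj L
  let fB : ModuleCat.of B' B ⟶ ModuleCat.of B' A :=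
    ModuleCat.ofHom (IsScalarTower.toAlgHom B' B A).toLinearMap
  let fA : ModuleCat.of B' A' ⟶ ModuleCat.of B' A :=
    ModuleCat.ofHom (IsScalarTower.toAlgHom B' A' A).toLinearMap
  let pB : S.X₂ ⟶ ModuleCat.of B' B := ModuleCat.ofHom (LinearMap.fst B' B A')
  let pA : S.X₂ ⟶ ModuleCat.of B' A' := ModuleCat.ofHom (LinearMap.snd B' B A')
  let jB : ModuleCat.of B' B ⟶ S.X₂ := ModuleCat.ofHom (LinearMap.inl B' B A')
  let jA : ModuleCat.of B' A' ⟶ S.X₂ := ModuleCat.ofHom (LinearMap.inr B' B A')
  have hg : S.g = pB ≫ fB - pA ≫ fA := by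
    refine ModuleCat.hom_ext (LinearMap.ext fun x => ?_)
    exact qR_apply x
  have hjB : jB ≫ S.g = fB := by
    refine ModuleCat.hom_ext (LinearMap.ext fun x => ?_)
    change qR B' B A' A (x, 0) = algebraMap B A x
    rw [qR_apply]; simp
  have hjA : jA ≫ S.g = -fA := by
    refine ModuleCat.hom_ext (LinearMap.ext fun x => ?_)
    change qR B' B A' A (0, x) = -algebraMap A' A x
    rw [qR_apply]; simp
  change δ₂ L S hS 0 = 0 ↔ Epi (biprod.desc (T.map fB) (T.map fA))
  constructor
  · intro h
    haveI : Epi (T.map S.g) := (exact₃₂ L S hS 0).epi_f h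
    have hfac : T.map S.g = biprod.lift (T.map pB) (-T.map pA) ≫ biprod.desc (T.map fB) (T.map fA) := by
      rw [biprod.lift_desc, hg, Functor.map_sub, Functor.map_comp, Functor.map_comp,
        Preadditive.neg_comp, sub_eq_add_neg]
    rw [hfac] at this
    exact epi_of_epi (biprod.lift (T.map pB) (-T.map pA)) _
  · intro h
    rw [← cancel_epi (biprod.desc (T.map fB) (T.map fA)), comp_zero]
    apply biprod.hom_ext'
    · rw [biprod.inl_desc_assoc, comp_zero, ← hjB, Functor.map_comp, Category.assoc, map_g_δ₂,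
        comp_zero]
    · have : fA = -(jA ≫ S.g) := by rw [hjA, neg_neg]
      rw [biprod.inr_desc_assoc, comp_zero, this, Functor.map_neg, Functor.map_comp,
        Preadditive.neg_comp, Category.assoc, map_g_δ₂, comp_zero, neg_zero]

end Groth.Agent.S14958
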