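import Groth.Statements.S14967
import Groth.Agent.Lib.Helper65.FFDescent
import Groth.Agent.Lib.Helper46.Azumaya
import Mathlib.RingTheory.Flat.FaithfullyFlat.Descent
import Mathlib.Algebra.Module.Equiv.Opposite

set_option autoImplicit false
universe u v w
open TensorProduct
open Brauer

namespace Groth.Agent.S14967

open TensorProduct MulOpposite
open Groth.Agent.Lib.Helper46.Azumaya

section bc

variable (R : Type*) [CommRing R] (S : Type*) [CommRing S] [Algebra R S]
  (A : Type*) [Ring A] [Algebra R A]

/-- `S ⊗ Aᵐᵒᵖ ≃ (S ⊗ A)ᵐᵒᵖ` -/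
noncomputable def opEquiv : S ⊗[R] Aᵐᵒᵖ ≃ₗ[S] (S ⊗[R] A)ᵐᵒᵖ :=
  (AlgebraTensorModule.congr (LinearEquiv.refl S S) (opLinearEquiv R (M := A)).symm) ≪≫ₗ
    (opLinearEquiv S)

/-- the comparison map as an equivalence -/
noncomputable def bcEquiv : S ⊗[R] (A ⊗[R] Aᵐᵒᵖ) ≃ₗ[S] (S ⊗[R] A) ⊗[S] (S ⊗[R] A)ᵐᵒᵖ :=
  (AlgebraTensorModule.distribBaseChange R S A Aᵐᵒᵖ) ≪≫ₗ
    (TensorProduct.congr (LinearEquiv.refl S (S ⊗[R] A)) (opEquiv R S A))

theorem bcPsi_eq : bcPsi R S A = (bcEquiv R S A).toLinearMap := by
  ext a a'
  simp [bcPsi_tmul, bcEquiv, opEquiv]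

theorem bcPsi_bijective : Function.Bijective (bcPsi R S A) := by
  rw [bcPsi_eq]
  exact (bcEquiv R S A).bijective

end bc

/-- Let R → S be a faithfully flat homomorphism of commutative rings and B an R-algebra, with no
finiteness assumption. If S ⊗_R B is an Azumaya S-algebra then B is an Azumaya R-algebra. (The
published statement is for a flat surjective morphism of schemes X → Y and a quasi-coherent
O_Y-algebra; this row is the case of affine X and Y, where flat and surjective means faithfully
flat. The converse, base change, is omitted.) -/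
theorem result (R : Type u) [CommRing R]
    (S : Type v) [CommRing S] [Algebra R S] [Module.FaithfullyFlat R S]
    (B : Type w) [Ring B] [Algebra R B] [IsAzumaya S (S ⊗[R] B)] : IsAzumaya R B := by
  haveI : Module.Finite R B := Module.Finite.of_finite_tensorProduct_of_faithfullyFlat S
  haveI : Module.Projective R B :=
    Groth.Agent.Lib.Helper65.FFDescent.projective_of_tensorProduct R S B
  haveI : FaithfulSMul R B := by
    rw [faithfulSMul_iff_algebraMap_injective]
    have H : Function.Injective (algebraMap S (S ⊗[R] B)) :=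
      FaithfulSMul.algebraMap_injective S (S ⊗[R] B)
    have hl : LinearMap.lTensor S (Algebra.linearMap R B) =
        (Algebra.linearMap S (S ⊗[R] B)).restrictScalars R ∘ₗ
          ((AlgebraTensorModule.rid R S S).toLinearMap.restrictScalars R) := by
      ext; simp
    apply (Module.FaithfullyFlat.lTensor_injective_iff_injective R S (Algebra.linearMap R B)).mp
    rw [hl]
    exact H.comp (AlgebraTensorModule.rid R S S).injective
  refine { bij := ?_ }
  have hAz : Function.Bijective (AlgHom.mulLeftRight S (S ⊗[R] B)) := IsAzumaya.bij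
  have hend := endBC_bijective R S B
  have hpsi := bcPsi_bijective R S B
  have hcomp : ∀ z, endBC R S B ((AlgHom.mulLeftRight R B).toLinearMap.baseChange S z) =
      AlgHom.mulLeftRight S (S ⊗[R] B) (bcPsi R S B z) := fun z => (mulLeftRight_bcPsi R S B z).symm
  have hbc : Function.Bijective ((AlgHom.mulLeftRight R B).toLinearMap.baseChange S) := by
    have h1 : Function.Bijective (fun z => endBC R S B
        ((AlgHom.mulLeftRight R B).toLinearMap.baseChange S z)) := by
      have : (fun z => endBC R S B ((AlgHom.mulLeftRight R B).toLinearMap.baseChange S z)) =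
          (AlgHom.mulLeftRight S (S ⊗[R] B)) ∘ (bcPsi R S B) := funext hcomp
      rw [this]
      exact hAz.comp hpsi
    exact (Function.Bijective.of_comp_iff' hend _).mp h1
  have hl : Function.Bijective ((AlgHom.mulLeftRight R B).toLinearMap.lTensor S) := hbc
  exact (Module.FaithfullyFlat.lTensor_bijective_iff_bijective R S _).mp hl

end Groth.Agent.S14967
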