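import Groth.Statements.S14963
import Groth.Agent.Lib.Helper65.SpecSurj
import Groth.Agent.Lib.Helper46.Azumaya
import Groth.Agent.S14967

set_option autoImplicit false
universe u v w
open TensorProduct
open Brauer

namespace Groth.Agent.S14963

open TensorProduct MulOpposite
open Groth.Agent.Lib.Helper46.Azumaya Groth.Agent.Lib.Helper65.SpecSurj

section faithful

variable (R : Type*) [CommRing R] (S : Type*) [CommRing S] [Algebra R S]
  (hS : Function.Surjective (PrimeSpectrum.comap (algebraMap R S)))
  (B : Type*) [AddCommGroup B] [Module R B] [Module.Finite R B] [Module.Projective R B]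

include hS in
/-- faithfulness descends along maps surjective on spectra, for finite projective modules -/
theorem faithfulSMul_of_tensor [FaithfulSMul S (S ⊗[R] B)] : FaithfulSMul R B := by
  classical
  let T : Ideal R := Ideal.span {r | ∃ (f : Module.Dual R B) (b : B), f b = r}
  have hTB : ∀ b : B, b ∈ T • (⊤ : Submodule R B) := by
    intro b
    obtain ⟨s, hs⟩ := Module.projective_def'.1 (inferInstance : Module.Projective R B)
    have hb : b = Finsupp.linearCombination R id (s b) := (LinearMap.congr_fun hs b).symm
    rw [hb, Finsupp.linearCombination_apply]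
    refine Submodule.sum_mem _ (fun p _ => ?_)
    apply Submodule.smul_mem_smul _ Submodule.mem_top
    exact Ideal.subset_span ⟨(Finsupp.lapply p) ∘ₗ s, b, rfl⟩
  have htop : (⊤ : Submodule S (S ⊗[R] B)) ≤ (T.map (algebraMap R S)) • ⊤ := by
    intro w hw
    clear hw
    induction w using TensorProduct.induction_on with
    | zero => exact zero_mem _
    | add x y hx hy => exact add_mem hx hy
    | tmul s b =>
      refine Submodule.smul_induction_on (hTB b) ?_ ?_
      · intro t ht b' _
        have : s ⊗ₜ[R] (t • b') = (algebraMap R S t) • (s ⊗ₜ[R] b') := by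
          rw [TensorProduct.tmul_smul, algebraMap_smul]
        rw [this]
        exact Submodule.smul_mem_smul (Ideal.mem_map_of_mem _ ht) Submodule.mem_top
      · intro x y hx hy
        rw [TensorProduct.tmul_add]
        exact add_mem hx hy
  obtain ⟨r, hr1, hr2⟩ := Submodule.exists_sub_one_mem_and_smul_eq_zero_of_fg_of_le_smul
    (T.map (algebraMap R S)) ⊤ Module.Finite.fg_top htop
  have hr0 : r = 0 := by
    apply FaithfulSMul.eq_of_smul_eq_smul (α := S ⊗[R] B)
    intro w
    rw [hr2 w Submodule.mem_top, zero_smul]
  have hmap : T.map (algebraMap R S) = ⊤ := by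
    rw [Ideal.eq_top_iff_one]
    rw [hr0, zero_sub] at hr1
    exact (Ideal.neg_mem_iff _).mp hr1
  haveI : Subsingleton (S ⊗[R] (R ⧸ T)) := by
    haveI : Subsingleton (S ⧸ T.map (algebraMap R S)) := Ideal.Quotient.subsingleton_iff.mpr hmap
    exact (Algebra.TensorProduct.quotIdealMapEquivTensorQuot S T).symm.toEquiv.subsingleton
  haveI := subsingleton_of_tensor R S hS (R ⧸ T)
  have hT : T = ⊤ := Ideal.Quotient.subsingleton_iff.mp inferInstance
  refine ⟨fun {r₁ r₂} h => ?_⟩
  have hkill : ∀ t ∈ T, (r₁ - r₂) * t = 0 := by
    intro t ht
    induction ht using Submodule.span_induction with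
    | mem x hx =>
      obtain ⟨f, b, rfl⟩ := hx
      rw [← smul_eq_mul, ← map_smul, sub_smul, h b, sub_self, map_zero]
    | zero => simp
    | add x y _ _ hx hy => rw [mul_add, hx, hy, add_zero]
    | smul a x _ hx => rw [smul_eq_mul, mul_left_comm, hx, mul_zero]
  have := hkill 1 (hT ▸ Submodule.mem_top)
  rwa [mul_one, sub_eq_zero] at this

end faithful

/-- Let R → S be a ring homomorphism with Spec S → Spec R surjective and B an R-algebra which is
finitely generated and projective as an R-module. If S ⊗_R B is an Azumaya S-algebra, then B is an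
Azumaya R-algebra. (The published statement is for a surjective morphism of schemes X → Y and a
finite locally free O_Y-algebra; this row is the case of affine X and Y. The converse direction,
base change, is omitted.) -/
theorem result (R : Type u) [CommRing R]
    (S : Type v) [CommRing S] [Algebra R S]
    (hS : Function.Surjective (PrimeSpectrum.comap (algebraMap R S)))
    (B : Type w) [Ring B] [Algebra R B] [Module.Finite R B] [Module.Projective R B]
    [IsAzumaya S (S ⊗[R] B)] : IsAzumaya R B := by
  haveI : FaithfulSMul R B := faithfulSMul_of_tensor R S hS B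
  haveI : Module.Finite R Bᵐᵒᵖ := Module.Finite.equiv (opLinearEquiv R (M := B))
  refine { bij := ?_ }
  have hAz : Function.Bijective (AlgHom.mulLeftRight S (S ⊗[R] B)) := IsAzumaya.bij
  have hend := endBC_bijective R S B
  have hpsi := Groth.Agent.S14967.bcPsi_bijective R S B
  have hcomp : ∀ z, endBC R S B ((AlgHom.mulLeftRight R B).toLinearMap.baseChange S z) =
      AlgHom.mulLeftRight S (S ⊗[R] B) (bcPsi R S B z) := fun z => (mulLeftRight_bcPsi R S B z).symm
  have hbc : Function.Bijective ((AlgHom.mulLeftRight R B).toLinearMap.baseChange S) := by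
    have h1 : Function.Bijective (fun z => endBC R S B
        ((AlgHom.mulLeftRight R B).toLinearMap.baseChange S z)) := by
      have : (fun z => endBC R S B ((AlgHom.mulLeftRight R B).toLinearMap.baseChange S z)) =
          (AlgHom.mulLeftRight S (S ⊗[R] B)) ∘ (bcPsi R S B) := funext hcomp
      rw [this]
      exact hAz.comp hpsi
    exact (Function.Bijective.of_comp_iff' hend _).mp h1
  have hl : Function.Bijective ((AlgHom.mulLeftRight R B).toLinearMap.lTensor S) := hbc
  exact bijective_of_lTensor R S hS (AlgHom.mulLeftRight R B).toLinearMap hl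

end Groth.Agent.S14963
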