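import Groth.Statements.S14965
import Groth.Agent.Lib.Helper56.MilnorAzumaya
import Groth.Agent.Lib.Helper56.MilnorGlue

set_option autoImplicit false
universe u
open TensorProduct
open Brauer

namespace Groth.Agent.S14965

/-- Let B' = B ×_A A' be a fibre product of commutative rings with A' → A surjective, N an Azumaya
B-algebra, M' an Azumaya A'-algebra and φ : A ⊗_B N ≅ A ⊗_{A'} M' an isomorphism of A-algebras. If a
B'-algebra D' with B'-algebra homomorphisms π₁ : D' → N and π₂ : D' → M' is the glued algebra N ×_φ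
M', in the sense that (π₁, π₂) is injective with image the pairs (n, m') satisfying φ(1 ⊗ n) = 1 ⊗
m', then D' is an Azumaya B'-algebra. (The published statement is for Azumaya algebras on the
pushout scheme of a closed immersion and an affine morphism, glued as u_*B' ×_{h_*} f_*A; this row
is the case of an affine pushout.) -/
theorem result (B' B A' A : Type u) [CommRing B'] [CommRing B] [CommRing A'] [CommRing A]
    [Algebra B' B] [Algebra B' A'] [Algebra B A] [Algebra A' A] [Algebra B' A] [IsScalarTower B' B A] [IsScalarTower B' A' A]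
    (hsq : EtMil.IsFibreSquare B' B A' A)
    (N : Type u) [Ring N] [Algebra B N] [Algebra B' N] [IsScalarTower B' B N] [IsAzumaya B N]
    (M' : Type u) [Ring M'] [Algebra A' M'] [Algebra B' M'] [IsScalarTower B' A' M'] [IsAzumaya A' M']
    (φ : A ⊗[B] N ≃ₐ[A] A ⊗[A'] M')
    (D' : Type u) [Ring D'] [Algebra B' D'] (π₁ : D' →ₐ[B'] N) (π₂ : D' →ₐ[B'] M')
    (hinj : ∀ d : D', π₁ d = 0 → π₂ d = 0 → d = 0)
    (himg : ∀ (n : N) (m' : M'), φ ((1 : A) ⊗ₜ[B] n) = (1 : A) ⊗ₜ[A'] m' ↔ ∃ d : D', π₁ d = n ∧ π₂ d = m') :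
    IsAzumaya B' D' := by
  classical
  let φl : A ⊗[B] N ≃ₗ[A] A ⊗[A'] M' := φ.toLinearEquiv
  have hφl : ∀ x, φl x = φ x := fun _ => rfl
  let e₀ : D' →ₗ[B'] EtMil.glue B' φl :=
    LinearMap.codRestrict (EtMil.glue B' φl) (π₁.toLinearMap.prod π₂.toLinearMap)
      (fun d => (Groth.Agent.Lib.Helper56.Milnor.mem_glue_iff φl _).mpr
        ((himg _ _).mpr ⟨d, rfl, rfl⟩))
  have he₀ : Function.Bijective e₀ := by
    constructor
    · rw [injective_iff_map_eq_zero]
      intro d hd
      have h1 : π₁ d = 0 := congrArg (fun g : EtMil.glue B' φl => g.1.1) hd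
      have h2 : π₂ d = 0 := congrArg (fun g : EtMil.glue B' φl => g.1.2) hd
      exact hinj d h1 h2
    · rintro ⟨⟨n, m'⟩, hg⟩
      obtain ⟨d, hd1, hd2⟩ := (himg n m').mp
        ((Groth.Agent.Lib.Helper56.Milnor.mem_glue_iff φl _).mp hg)
      refine ⟨d, Subtype.ext ?_⟩
      exact Prod.ext hd1 hd2
  let e : D' ≃ₗ[B'] EtMil.glue B' φl := LinearEquiv.ofBijective e₀ he₀
  have he1 : ∀ d, (e d).1.1 = π₁ d := fun _ => rfl
  have he2 : ∀ d, (e d).1.2 = π₂ d := fun _ => rfl
  -- base change to `B`
  let fB : B ⊗[B'] D' →ₐ[B] N :=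
    Algebra.TensorProduct.lift (Algebra.ofId B N) π₁ (fun b d => Algebra.commutes b (π₁ d))
  have hfB : ∀ z, fB z = LinearMap.liftBaseChange B (EtMil.glueFst B' φl)
      ((LinearEquiv.lTensor B e) z) := by
    intro z
    induction z using TensorProduct.induction_on with
    | zero => simp
    | add x y hx hy => simp only [map_add, hx, hy]
    | tmul b d =>
      rw [LinearEquiv.lTensor_tmul, LinearMap.liftBaseChange_tmul]
      simp only [fB, Algebra.TensorProduct.lift_tmul, Algebra.ofId_apply]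
      rw [Algebra.smul_def]
      rfl
  have hfBbij : Function.Bijective fB := by
    have : ⇑fB = ⇑(LinearMap.liftBaseChange B (EtMil.glueFst B' φl)) ∘ ⇑(LinearEquiv.lTensor B e) :=
      funext hfB
    rw [this]
    exact (Groth.Agent.Lib.Helper56.Milnor.glueFst_bijective φl hsq).comp
      (LinearEquiv.lTensor B e).bijective
  have : IsAzumaya B (B ⊗[B'] D') :=
    IsAzumaya.of_AlgEquiv _ _ _ (AlgEquiv.ofBijective fB hfBbij).symm
  -- base change to `A'`
  let fA : A' ⊗[B'] D' →ₐ[A'] M' :=
    Algebra.TensorProduct.lift (Algebra.ofId A' M') π₂ (fun b d => Algebra.commutes b (π₂ d))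
  have hfA : ∀ z, fA z = LinearMap.liftBaseChange A' (EtMil.glueSnd B' φl)
      ((LinearEquiv.lTensor A' e) z) := by
    intro z
    induction z using TensorProduct.induction_on with
    | zero => simp
    | add x y hx hy => simp only [map_add, hx, hy]
    | tmul b d =>
      rw [LinearEquiv.lTensor_tmul, LinearMap.liftBaseChange_tmul]
      simp only [fA, Algebra.TensorProduct.lift_tmul, Algebra.ofId_apply]
      rw [Algebra.smul_def]
      rfl
  have hfAbij : Function.Bijective fA := by
    have : ⇑fA = ⇑(LinearMap.liftBaseChange A' (EtMil.glueSnd B' φl)) ∘ ⇑(LinearEquiv.lTensor A' e) :=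
      funext hfA
    rw [this]
    exact (Groth.Agent.Lib.Helper56.Milnor.glueSnd_bijective φl hsq).comp
      (LinearEquiv.lTensor A' e).bijective
  have : IsAzumaya A' (A' ⊗[B'] D') :=
    IsAzumaya.of_AlgEquiv _ _ _ (AlgEquiv.ofBijective fA hfAbij).symm
  exact Groth.Agent.Lib.Helper56.Milnor.isAzumaya_of_isAzumaya hsq D'

end Groth.Agent.S14965
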