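import Groth.Statements.S14966
-- import your own Groth.Agent.* helpers here

set_option autoImplicit false
universe u
open EtAlg

namespace Groth.Agent.S14966

/-- Let A → A' be an injective homomorphism of commutative rings and let I ⊆ A be the conductor, i.e.
the annihilator of the A-module A'/A. Then the conductor square formed by A → A/I, A → A', A/I →
A'/IA' and A' → A'/IA' is a fibre product square of rings with A' → A'/IA' surjective: A = A/I
×_{A'/IA'} A'. (The published Lemma is for the conductor square of a finite modification of schemes;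
this row is the underlying statement for one injective ring map, which needs no finiteness.) -/
theorem result (A A' : Type u) [CommRing A] [CommRing A'] [Algebra A A']
    (hinj : Function.Injective (algebraMap A A')) :
    EtMil.IsFibreSquare A (A ⧸ Module.annihilator A (A' ⧸ LinearMap.range (Algebra.linearMap A A'))) A'
      (A' ⧸ Ideal.map (algebraMap A A') (Module.annihilator A (A' ⧸ LinearMap.range (Algebra.linearMap A A')))) := by
  set I := Module.annihilator A (A' ⧸ LinearMap.range (Algebra.linearMap A A')) with hIdef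
  have hI : ∀ i : A, i ∈ I ↔ ∀ a' : A', ∃ c : A, algebraMap A A' c = algebraMap A A' i * a' := by
    intro i
    rw [hIdef, Module.mem_annihilator]
    constructor
    · intro h a'
      have := h (Submodule.Quotient.mk a')
      rw [← Submodule.Quotient.mk_smul, Submodule.Quotient.mk_eq_zero, LinearMap.mem_range] at this
      obtain ⟨c, hc⟩ := this
      exact ⟨c, by rw [← Algebra.smul_def, ← hc]; rfl⟩
    · intro h y
      obtain ⟨a', rfl⟩ := Submodule.Quotient.mk_surjective _ y
      rw [← Submodule.Quotient.mk_smul, Submodule.Quotient.mk_eq_zero, LinearMap.mem_range]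
      obtain ⟨c, hc⟩ := h a'
      exact ⟨c, by rw [Algebra.smul_def, ← hc]; rfl⟩
  have hmap : ∀ z ∈ Ideal.map (algebraMap A A') I, ∃ i ∈ I, algebraMap A A' i = z := by
    intro z hz
    unfold Ideal.map at hz
    induction hz using Submodule.span_induction with
    | mem x hx =>
      obtain ⟨i, hi, rfl⟩ := hx
      exact ⟨i, hi, rfl⟩
    | zero => exact ⟨0, I.zero_mem, map_zero _⟩
    | add x y _ _ hx hy =>
      obtain ⟨i, hi, rfl⟩ := hx
      obtain ⟨j, hj, rfl⟩ := hy
      exact ⟨i + j, I.add_mem hi hj, map_add _ _ _⟩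
    | smul a' x _ hx =>
      obtain ⟨i, hi, rfl⟩ := hx
      obtain ⟨c, hc⟩ := (hI i).1 hi a'
      refine ⟨c, (hI c).2 fun a'' => ?_, by rw [hc, smul_eq_mul, mul_comm]⟩
      obtain ⟨c', hc'⟩ := (hI i).1 hi (a' * a'')
      exact ⟨c', by rw [hc', hc, mul_assoc]⟩
  refine ⟨Ideal.Quotient.mk_surjective, ?_⟩
  intro b a' hba
  obtain ⟨x₀, rfl⟩ := Ideal.Quotient.mk_surjective b
  have h1 : algebraMap (A ⧸ I) (A' ⧸ Ideal.map (algebraMap A A') I) (Ideal.Quotient.mk I x₀) =
      Ideal.Quotient.mk _ (algebraMap A A' x₀) := rfl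
  have h2 : algebraMap A' (A' ⧸ Ideal.map (algebraMap A A') I) a' = Ideal.Quotient.mk _ a' := rfl
  rw [h1, h2, Ideal.Quotient.eq] at hba
  obtain ⟨i, hi, hi'⟩ := hmap _ hba
  refine ⟨x₀ - i, ⟨?_, ?_⟩, ?_⟩
  · change Ideal.Quotient.mk I (x₀ - i) = Ideal.Quotient.mk I x₀
    rw [Ideal.Quotient.eq]
    have : x₀ - i - x₀ = -i := by ring
    rw [this]
    exact I.neg_mem hi
  · rw [map_sub, hi']; ring
  · rintro y ⟨_, hy⟩
    apply hinj
    rw [hy, map_sub, hi']; ring

end Groth.Agent.S14966
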