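import Groth.Statements.S14973
import Mathlib
-- import your own Groth.Agent.* helpers here

set_option autoImplicit false
universe u v
open Diff16

namespace Groth.Agent.S14973

/-- In ring form. Let B be a commutative ring, L a ring with a ring homomorphism f from B, and L_0, L_1,
L_2, … additive subgroups of L exhausting L such that for every b in B, f(b) commutes with every
element of L_0 and, for each i, the commutator f(b) x - x f(b) of f(b) with an element x of L_(i+1)
lies in L_i. Let M be a multiplicative subset of B. Then M acts invertibly on the right of the left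
localisation of L at M (L viewed as a B-module through left multiplication): in elementwise terms,
(a) if x is in L and m, u are in M with f(u) x f(m) = 0, then f(u') x = 0 for some u' in M; (b) for
every x in L and m in M there are e in M and y in L with f(e) x = y f(m). (The published statement
assumes a filtration satisfying all the axioms of a filtered ring of differential operators on an
affine scheme; this row assumes only an exhaustive family of additive subgroups on which commutators
with the image of B lower the index.) -/
theorem result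
    {B : Type u} [CommRing B] {L : Type v} [Ring L] (f : B →+* L) (F : ℕ → AddSubgroup L)
    (hex : ∀ x : L, ∃ i : ℕ, x ∈ F i)
    (h0 : ∀ x ∈ F 0, ∀ b : B, f b * x = x * f b)
    (hS : ∀ (i : ℕ), ∀ x ∈ F (i + 1), ∀ b : B, f b * x - x * f b ∈ F i)
    (M : Submonoid B) :
    (∀ (x : L) (m u : B), m ∈ M → u ∈ M → f u * x * f m = 0 → ∃ u' ∈ M, f u' * x = 0) ∧
    (∀ (x : L) (m : B), m ∈ M → ∃ e ∈ M, ∃ y : L, f e * x = y * f m) := by
  have Q : ∀ i : ℕ, ∀ x ∈ F i, ∀ u m : B, f u * x * f m = 0 →
      ∃ N : ℕ, f (m ^ N * u) * x = 0 := by
    intro i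
    induction i with
    | zero =>
      intro x hx u m h
      refine ⟨1, ?_⟩
      rw [pow_one, mul_comm m u, map_mul, mul_assoc, h0 x hx m, ← mul_assoc]
      exact h
    | succ i ih =>
      intro x hx u m h
      have hcomm : f u * f m = f m * f u := by rw [← map_mul, ← map_mul, mul_comm]
      have e1 : f u * (f m * x - x * f m) * f m =
          f m * (f u * x * f m) - (f u * x * f m) * f m := by
        rw [mul_sub, sub_mul, ← mul_assoc (f u) (f m) x, hcomm]
        simp only [mul_assoc]
      have hc : f u * (f m * x - x * f m) * f m = 0 := by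
        rw [e1, h, mul_zero, zero_mul, sub_zero]
      obtain ⟨N, hN⟩ := ih _ (hS i x hx m) u m hc
      refine ⟨N + 1, ?_⟩
      have e2 : f (m ^ (N + 1) * u) * x = f (m ^ N * u) * f m * x := by
        rw [← map_mul]
        congr 2
        ring
      have e3 : f (m ^ N * u) * f m * x =
          f (m ^ N * u) * (f m * x - x * f m) + f (m ^ N * u) * x * f m := by
        noncomm_ring
      have e4 : f (m ^ N * u) * x * f m = f (m ^ N) * (f u * x * f m) := by
        rw [map_mul]; simp only [mul_assoc]
      rw [e2, e3, hN, zero_add, e4, h, mul_zero]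
  have P : ∀ m : B, ∀ i : ℕ, ∀ x ∈ F i, ∃ y : L, f (m ^ (i + 1)) * x = y * f m := by
    intro m i
    induction i with
    | zero =>
      intro x hx
      exact ⟨x, by rw [zero_add, pow_one]; exact h0 x hx m⟩
    | succ i ih =>
      intro x hx
      obtain ⟨yc, hyc⟩ := ih _ (hS i x hx m)
      refine ⟨yc + f (m ^ (i + 1)) * x, ?_⟩
      have e : f (m ^ (i + 1 + 1)) * x =
          f (m ^ (i + 1)) * (f m * x - x * f m) + f (m ^ (i + 1)) * x * f m := by
        rw [pow_succ m (i + 1), map_mul]; noncomm_ring
      rw [e, hyc, add_mul]
  constructor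
  · intro x m u hm hu h
    obtain ⟨i, hi⟩ := hex x
    obtain ⟨N, hN⟩ := Q i x hi u m h
    exact ⟨m ^ N * u, M.mul_mem (M.pow_mem hm N) hu, hN⟩
  · intro x m hm
    obtain ⟨i, hi⟩ := hex x
    obtain ⟨y, hy⟩ := P m i x hi
    exact ⟨m ^ (i + 1), M.pow_mem hm (i + 1), y, hy⟩

end Groth.Agent.S14973
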