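import Groth.Statements.S14984
-- import your own Groth.Agent.* helpers here

set_option autoImplicit false
universe u v w
open HopfRep

namespace Groth.Agent.S14984


open TensorProduct in
theorem aux (R : Type u) (A : Type v) (B : Type w) (C : Type w)
    [CommRing R] [CommRing A] [HopfAlgebra R A]
    [CommRing B] [Algebra R B] [HopfRep.Comod R A B] [GLin.IsCoactAlg R A B]
    [CommRing C] [Algebra R C] [Algebra C B] [IsScalarTower R C B]
    (hinv : ∀ c : C, HopfRep.Comod.coact (k := R) (A := A) (algebraMap C B c) = algebraMap C B c ⊗ₜ[R] (1 : A))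
    (β : C ⊗[R] A →ₗ[C] C ⊗[R] B)
    (hβ : @Hoch.IsComodHom C _ (C ⊗[R] A) _ _ _ (C ⊗[R] A) _ _
        (HopfRep.Comod.regular C (C ⊗[R] A)) (C ⊗[R] B) _ _
        (CoactBr.Comod.baseChange R C A B) β) (hβ1 : β 1 = 1) :
    ∃ α : A →ₗ[R] B, Hoch.IsComodHom A α ∧ α 1 = 1 := by
  let m : C ⊗[R] B →ₐ[C] B :=
    Algebra.TensorProduct.lift (Algebra.ofId C B) (AlgHom.id R B) (fun _ _ => Commute.all _ _)
  have hm : ∀ (c : C) (b : B), m (c ⊗ₜ[R] b) = algebraMap C B c * b := by
    intro c b
    simp [m, Algebra.ofId_apply]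
  let M : (C ⊗[R] B) ⊗[C] (C ⊗[R] A) →ₗ[C] B ⊗[R] A :=
    (TensorProduct.AlgebraTensorModule.cancelBaseChange R C C B A).toLinearMap ∘ₗ
      (m.toLinearMap.rTensor (C ⊗[R] A))
  have hM : ∀ (y : C ⊗[R] B) (c : C) (a : A), M (y ⊗ₜ[C] (c ⊗ₜ[R] a)) = (c • m y) ⊗ₜ[R] a := by
    intro y c a
    simp [M]
  let α : A →ₗ[R] B := (m.toLinearMap.restrictScalars R) ∘ₗ (β.restrictScalars R) ∘ₗ
    (TensorProduct.mk R C A 1)
  have hα : ∀ a, α a = m (β ((1 : C) ⊗ₜ[R] a)) := fun a => rfl
  have L1 : ∀ y : C ⊗[R] B,
      M ((CoactBr.Comod.baseChange R C A B).coact y) =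
        HopfRep.Comod.coact (k := R) (A := A) (m y) := by
    intro y
    induction y using TensorProduct.induction_on with
    | zero => simp
    | add x y hx hy => simp only [map_add, hx, hy]
    | tmul c b =>
      rw [CoactBr.baseChange_coact_tmul, hm, GLin.IsCoactAlg.coact_mul, hinv]
      induction HopfRep.Comod.coact (k := R) (A := A) b using TensorProduct.induction_on with
      | zero => simp
      | add x y hx hy => simp only [map_add, TensorProduct.tmul_add, mul_add, hx, hy]
      | tmul b0 b1 =>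
        rw [Algebra.TensorProduct.tmul_mul_tmul, one_mul]
        change M (((1 : C) ⊗ₜ[R] b0) ⊗ₜ[C] (c ⊗ₜ[R] b1)) = _
        rw [hM, hm, map_one, one_mul, Algebra.smul_def]
  have L2 : ∀ z : A ⊗[R] A,
      M ((β.rTensor (C ⊗[R] A))
        (TensorProduct.AlgebraTensorModule.tensorTensorTensorComm R C R C C C A A
          (((1 : C) ⊗ₜ[C] (1 : C)) ⊗ₜ[R] z))) =
        (α.rTensor A) z := by
    intro z
    induction z using TensorProduct.induction_on with
    | zero => simp
    | add x y hx hy => simp only [map_add, TensorProduct.tmul_add, hx, hy]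
    | tmul a1 a2 =>
      change M ((β.rTensor (C ⊗[R] A)) (((1 : C) ⊗ₜ[R] a1) ⊗ₜ[C] ((1 : C) ⊗ₜ[R] a2))) = _
      rw [LinearMap.rTensor_tmul, hM, one_smul, LinearMap.rTensor_tmul, hα]
  refine ⟨α, ?_, ?_⟩
  · unfold Hoch.IsComodHom
    ext a
    have h1 := LinearMap.congr_fun hβ ((1 : C) ⊗ₜ[R] a)
    simp only [LinearMap.comp_apply] at h1 ⊢
    rw [hα, ← L1, h1]
    exact L2 _
  · rw [hα]
    have : ((1 : C) ⊗ₜ[R] (1 : A)) = (1 : C ⊗[R] A) := rfl
    rw [this, hβ1, map_one]

/-- Let `R` be a commutative ring, `A` a commutative Hopf algebra over `R`, flat as an `R`-module, `B` a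
commutative `R`-algebra with a coaction of `A` that is an algebra map (an action of `G = Spec A` on
`X = Spec B`), and `C = B^A` the ring of invariants. If the action base-changed along `R → C` — the
`C`-Hopf algebra `C ⊗ A` coacting on `C ⊗ B` — is tame, i.e. there is a `C`-linear comodule map `β :
C ⊗ A → C ⊗ B` (regular coaction on the source, base-changed coaction on the target) with `β 1 = 1`,
then the original action is tame: there is an `R`-linear comodule map `α : A → B` with `α 1 = 1`.
(The converse is the case `S = C` of stability of tameness under base change. The published lemma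
also lists, as a third equivalent condition, tameness of the action of `C ⊗ A` on `B` itself over
`C`; that condition is not stated here.) -/
theorem result
    (R : Type u) (A : Type v) (B : Type w)
    [CommRing R] [CommRing A] [HopfAlgebra R A] [Module.Flat R A]
    [CommRing B] [Algebra R B] [HopfRep.Comod R A B] [GLin.IsCoactAlg R A B]
    (h : ∃ β : TensorProduct R ↥(GLin.invariants R A B) A →ₗ[↥(GLin.invariants R A B)]
        TensorProduct R ↥(GLin.invariants R A B) B,
      @Hoch.IsComodHom ↥(GLin.invariants R A B) _ (TensorProduct R ↥(GLin.invariants R A B) A) _ _ _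
        (TensorProduct R ↥(GLin.invariants R A B) A) _ _
        (HopfRep.Comod.regular ↥(GLin.invariants R A B) (TensorProduct R ↥(GLin.invariants R A B) A))
        (TensorProduct R ↥(GLin.invariants R A B) B) _ _
        (CoactBr.Comod.baseChange R ↥(GLin.invariants R A B) A B) β ∧ β 1 = 1) :
    ∃ α : A →ₗ[R] B, Hoch.IsComodHom A α ∧ α 1 = 1 := by
  obtain ⟨β, hβ, hβ1⟩ := h
  exact aux R A B ↥(GLin.invariants R A B) (fun c => c.2) β hβ hβ1

end Groth.Agent.S14984
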