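import Groth.Statements.S1499
import Groth.Agent.Lib.Helper56.TwistExt
import Groth.Agent.Lib.Ample.Pullback
import Groth.Agent.S9691

set_option autoImplicit false
universe u
attribute [local instance] HasDerivedCategory.standard
open FlatMor

namespace Groth.Agent.S1499

open AlgebraicGeometry CategoryTheory Limits
open Groth.Agent.Lib.Ample Groth.Agent.Lib.QCoh CohB1 AlgebraicGeometry.Scheme.Modules TopologicalSpace
open Groth.Agent.Lib.Helper56.TwistExt

set_option maxHeartbeats 400000 in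
open AlgebraicGeometry CategoryTheory Limits in
/-- Let f : X → Y with Y having an ample family of invertible modules, and suppose some O_X-module is
ample relative to f. Then X has an ample family of invertible modules. -/
theorem result {X Y : Scheme.{u}} (f : X ⟶ Y)
    (hY : MoreMor.HasAmpleFamily Y) (L : X.Modules) (hL : RelAmple.IsRelAmple f L) :
    MoreMor.HasAmpleFamily X := by
  obtain ⟨hcY, hfam⟩ := hY
  have hqc : QuasiCompact f := hL.1
  have hsep : IsSeparated f := Groth.Agent.S9691.result f L hL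
  have hcX : CompactSpace X := QuasiCompact.compactSpace_of_compactSpace f
  have hqsY : QuasiSeparatedSpace Y := by
    choose N n t hN hn hy haff using hfam
    refine QuasiSeparatedSpace.of_isOpenCover (U := fun y => genLocus _ (t y))
      (eq_top_iff.mpr fun y _ => Opens.mem_iSup.mpr ⟨y, hy y⟩) (fun y => ?_)
      (fun y => (haff y).isQuasiSeparated)
    have := isAffineHom_genLocus_ι (isInvertible_tensorPow (hN y) (n y)) (t y)
    exact IsRetrocompact_iff_isSpectralMap_subtypeVal.mpr (genLocus _ (t y)).ι.isSpectralMap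
  have hqsX : QuasiSeparatedSpace X := quasiSeparatedSpace_of_quasiSeparated f
  have hLinv : PicF.IsInvertible L := fun x' => by
    obtain ⟨V, hV, hxV, -⟩ := Opens.isBasis_iff_nbhd.1 Y.isBasis_affineOpens (U := ⊤)
      (x := f.base x') trivial
    exact exists_iso_unit_of_isInvertible_restrict (f ⁻¹ᵁ V) (hL.2 ⟨V, hV⟩).1 x' hxV
  refine ⟨hcX, fun x => ?_⟩
  obtain ⟨NY, n, t, hNY, hn, hy, haff⟩ := hfam (f.base x)
  have hNYn := isInvertible_tensorPow hNY n
  obtain ⟨W, hWdef⟩ : ∃ W : X.Opens, W = f ⁻¹ᵁ genLocus _ t := ⟨_, rfl⟩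
  obtain ⟨M, τ, hM, hτ⟩ : ∃ (M : X.Modules) (τ : Coh.structureModule X ⟶ M),
      PicF.IsInvertible M ∧ genLocus M τ = W :=
    ⟨_, pullHom f t, isInvertible_pullback f hNYn, (genLocus_pullHom f hNYn t).trans hWdef.symm⟩
  have hamp : IsAmple (L.restrict W.ι) := by
    rw [hWdef]; exact hL.2 ⟨_, haff⟩
  have hxW : x ∈ W := by rw [hWdef]; exact hy
  obtain ⟨k, σ, hxσ, hσaff⟩ := hamp.2.2 ⟨x, hxW⟩
  have hLk := isInvertible_tensorPow hLinv (k + 1)
  obtain ⟨τ', hτ'⟩ : ∃ τ' : Coh.structureModule (↑W : Scheme.{u}) ⟶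
      (tensorPow L (k + 1)).restrict W.ι, genLocus _ τ' = genLocus _ σ :=
    ⟨σ ≫ (restrictTensorPowIso W.ι L (k + 1)).inv,
      genLocus_comp_iso σ (restrictTensorPowIso W.ι L (k + 1)).symm⟩
  obtain ⟨k₀, hk₀⟩ := exists_genLocus_eq_image_twist hLk hM τ W hτ τ'
  obtain ⟨s, hs⟩ := hk₀ k₀ le_rfl
  have hL' := isInvertible_twistIter hLk hM (k₀ + 1)
  have hg : genLocus (tensorPow (twistIter (tensorPow L (k + 1)) M (k₀ + 1)) 1)
      (s ≫ (tensorModLeftUnitor (twistIter (tensorPow L (k + 1)) M (k₀ + 1))).inv) =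
      W.ι ''ᵁ genLocus _ σ := by
    rw [← hτ']
    exact (genLocus_comp_iso s
      (tensorModLeftUnitor (twistIter (tensorPow L (k + 1)) M (k₀ + 1))).symm).trans hs
  refine ⟨twistIter (tensorPow L (k + 1)) M (k₀ + 1), 1,
    s ≫ (tensorModLeftUnitor (twistIter (tensorPow L (k + 1)) M (k₀ + 1))).inv, hL', le_rfl, ?_, ?_⟩
  · rw [hg]; exact ⟨⟨x, hxW⟩, hxσ, rfl⟩
  · rw [hg]; exact hσaff.image_of_isOpenImmersion W.ι

end Groth.Agent.S1499
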