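import Groth.Statements.S14994
import Mathlib.LinearAlgebra.Dual.Lemmas
-- import your own Groth.Agent.* helpers here

set_option autoImplicit false
universe u
open CAlg

namespace Groth.Agent.S14994


open nonZeroDivisors in
theorem exists_dual_ne_zero (A : Type u) [CommRing A] [IsDomain A]
    (Q : Type u) [AddCommGroup Q] [Module A Q] [Module.Finite A Q] (x : Q)
    (hx : x ∉ Submodule.torsion A Q) : ∃ φ : Q →ₗ[A] A, φ x ≠ 0 := by
  classical
  let K := FractionRing A
  let Q' := LocalizedModule A⁰ Q
  let ι : Q →ₗ[A] Q' := LocalizedModule.mkLinearMap A⁰ Q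
  have hx' : ι x ≠ 0 := by
    intro h0
    rw [IsLocalizedModule.eq_zero_iff A⁰] at h0
    obtain ⟨c, hc⟩ := h0
    exact hx ((Submodule.mem_torsion_iff x).2 ⟨c, hc⟩)
  obtain ⟨ψ, hψ⟩ : ∃ ψ : Module.Dual K Q', ψ (ι x) ≠ 0 := by
    by_contra hcon
    push Not at hcon
    exact hx' ((Module.forall_dual_apply_eq_zero_iff K (ι x)).1 hcon)
  obtain ⟨n, s, hs⟩ := Module.Finite.exists_fin (R := A) (M := Q)
  obtain ⟨b, hb⟩ := IsLocalization.exist_integer_multiples_of_finite A⁰ (fun i => ψ (ι (s i)))
  let φ' : Q →ₗ[A] K := (b : A) • ((ψ.restrictScalars A) ∘ₗ ι)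
  have hφ' : ∀ q, φ' q = (b : A) • ψ (ι q) := fun q => rfl
  have hrange : LinearMap.range φ' ≤ LinearMap.range (Algebra.linearMap A K) := by
    rw [LinearMap.range_eq_map, ← hs, Submodule.map_span, Submodule.span_le]
    rintro _ ⟨_, ⟨i, rfl⟩, rfl⟩
    obtain ⟨a, ha⟩ := hb i
    exact ⟨a, by rw [hφ']; exact ha⟩
  have hinj : Function.Injective (Algebra.linearMap A K) := IsFractionRing.injective A K
  let e := LinearEquiv.ofInjective (Algebra.linearMap A K) hinj
  let φ : Q →ₗ[A] A := e.symm.toLinearMap ∘ₗ
    (LinearMap.codRestrict (LinearMap.range (Algebra.linearMap A K)) φ' (fun q => hrange ⟨q, rfl⟩))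
  refine ⟨φ, ?_⟩
  intro h0
  have h1 : e (φ x) = ⟨φ' x, hrange ⟨x, rfl⟩⟩ := by
    simp only [φ, LinearMap.comp_apply, LinearEquiv.coe_coe, LinearEquiv.apply_symm_apply]
    rfl
  rw [h0, map_zero] at h1
  have h2 : φ' x = 0 := by
    have := congrArg Subtype.val h1
    simpa using this.symm
  rw [hφ', Algebra.smul_def, mul_eq_zero] at h2
  rcases h2 with h2 | h2
  · have : (b : A) = 0 := by
      apply hinj
      simpa using h2
    exact (nonZeroDivisors.ne_zero b.2) this
  · exact hψ h2

/-- Let A be a Noetherian integrally closed domain, M a finitely generated torsion-free A-module, N a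
submodule of M and ι : M → M** the canonical map to the double dual. Write N** → M** for the double
dual of the inclusion N → M. Then every m ∈ M whose image ι(m) lies in the image of N** is a torsion
element modulo N: some nonzero a ∈ A satisfies a·m ∈ N. In other words the preimage of N** under ι
is contained in the saturation of N in M (the preimage of the torsion submodule of M/N), and the two
coincide when M/N is torsion-free. (The published statement asserts equality of the preimage with
the saturation for every N; for N = xA inside M = A = k[x] the saturation is all of M while N** has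
image xA = N under the identification M** = M, so only the inclusion stated here holds, and it is
the inclusion later used, for saturated N, where the two sides agree.) -/
theorem result (A : Type u) [CommRing A] [IsDomain A]
    [IsNoetherianRing A] [IsIntegrallyClosed A]
    (M : Type u) [AddCommGroup M] [Module A M] [Module.Finite A M] [NoZeroSMulDivisors A M]
    (N : Submodule A M) :
    (LinearMap.range N.subtype.dualMap.dualMap).comap (Module.Dual.eval A M) ≤
      (Submodule.torsion A (M ⧸ N)).comap N.mkQ := by
  intro m hm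
  rw [Submodule.mem_comap] at hm ⊢
  obtain ⟨ξ, hξ⟩ := hm
  by_contra hcon
  obtain ⟨φ, hφ⟩ := exists_dual_ne_zero A (M ⧸ N) (N.mkQ m) hcon
  apply hφ
  have h1 := LinearMap.congr_fun hξ (φ ∘ₗ N.mkQ)
  rw [Module.Dual.eval_apply, LinearMap.dualMap_apply] at h1
  have h2 : N.subtype.dualMap (φ ∘ₗ N.mkQ) = 0 := by
    ext n
    simp only [LinearMap.dualMap_apply, LinearMap.comp_apply, Submodule.subtype_apply,
      Submodule.mkQ_apply, LinearMap.zero_apply]
    rw [(Submodule.Quotient.mk_eq_zero N).2 n.2, map_zero]
  rw [h2, map_zero] at h1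
  exact h1.symm

end Groth.Agent.S14994
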