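import Groth.Statements.S1500
import Groth.Agent.Lib.Helper56.TwistExt
import Groth.Agent.Lib.Helper48.CartierSection
import Groth.Agent.Lib.Ample.Helper50_Basis
import Groth.Agent.Lib.QCoh.TensorPic
-- import your own Groth.Agent.* helpers here

set_option autoImplicit false
universe u
open FlatMor

namespace Groth.Agent.S1500

open AlgebraicGeometry CategoryTheory Limits
open Groth.Agent.Lib.Ample Groth.Agent.Lib.QCoh CohB1 AlgebraicGeometry.Scheme.Modules
  TopologicalSpace
open Groth.Agent.Lib.Helper56.TwistExt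

set_option maxHeartbeats 400000 in
open AlgebraicGeometry CategoryTheory Limits in
/-- Let D_1, …, D_m be effective Cartier divisors on X (ideal sheaves locally generated by a
nonzerodivisor) with empty common support, and L_1, …, L_m invertible O_X-modules with L_i ample on
the open complement of D_i. Then X has an ample family of invertible modules. -/
theorem result {X : Scheme.{u}} {m : ℕ} (D : Fin m → X.IdealSheafData)
    (hD : ∀ i, BlowUp.IsEffCartierIdeal (D i)) (hcap : ⋂ i, ((D i).support : Set ↑X) = ∅)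
    (L : Fin m → X.Modules) (hL : ∀ i, PicF.IsInvertible (L i)) (hamp : ∀ i, CohB1.IsAmple ((L i).restrict (Scheme.Opens.ι (D i).support.compl))) :
    MoreMor.HasAmpleFamily X := by
  classical
  have hsec : ∀ i, ∃ (M : X.Modules) (τ : Coh.structureModule X ⟶ M),
      PicF.IsInvertible M ∧ genLocus M τ = (D i).support.compl :=
    fun i => Groth.Agent.Lib.Helper48.CartierSection.exists_section_genLocus_eq_compl (D i) (hD i)
  choose M τ hM hτ using hsec
  have hcov : ∀ x : X, ∃ i, x ∈ (D i).support.compl := by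
    intro x
    by_contra hcon
    simp only [not_exists] at hcon
    have hmem : x ∈ ⋂ i, ((D i).support : Set X) := Set.mem_iInter.2 (fun i => by
      by_contra h
      exact hcon i h)
    rw [hcap] at hmem
    exact hmem
  have hcX : CompactSpace X := by
    rw [← isCompact_univ_iff]
    have h1 : IsCompact (⋃ i, (((D i).support.compl : X.Opens) : Set X)) :=
      isCompact_iUnion (fun i => isCompact_iff_compactSpace.2 (hamp i).2.1)
    have h2 : (Set.univ : Set X) = ⋃ i, (((D i).support.compl : X.Opens) : Set X) :=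
      (Set.eq_univ_of_forall fun x => by
        obtain ⟨i, hi⟩ := hcov x
        exact Set.mem_iUnion.2 ⟨i, hi⟩).symm
    rw [h2]
    exact h1
  have hqsX : QuasiSeparatedSpace X := by
    refine QuasiSeparatedSpace.of_isOpenCover (U := fun i => (D i).support.compl)
      (eq_top_iff.mpr fun x _ => ?_) (fun i => ?_) (fun i => ?_)
    · obtain ⟨i, hi⟩ := hcov x
      exact Opens.mem_iSup.mpr ⟨i, hi⟩
    · show IsRetrocompact (((D i).support.compl : X.Opens) : Set X)
      rw [← hτ i]
      exact isRetrocompact_genLocus (hM i) (τ i)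
    · have hq : QuasiSeparatedSpace ↥((D i).support.compl : X.Opens) :=
        quasiSeparatedSpace_of_isAmple (hamp i)
      exact (isQuasiSeparated_iff_quasiSeparatedSpace _ ((D i).support.compl).isOpen).2 hq
  refine ⟨hcX, fun x => ?_⟩
  obtain ⟨i, hxW₀⟩ := hcov x
  obtain ⟨W, hWdef⟩ : ∃ W : X.Opens, W = (D i).support.compl := ⟨_, rfl⟩
  have hτW : genLocus (M i) (τ i) = W := (hτ i).trans hWdef.symm
  have hampW : IsAmple ((L i).restrict W.ι) := by
    rw [hWdef]; exact hamp i
  have hxW : x ∈ W := by rw [hWdef]; exact hxW₀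
  obtain ⟨k, σ, hxσ, hσaff⟩ := hampW.2.2 ⟨x, hxW⟩
  have hLk := isInvertible_tensorPow (hL i) (k + 1)
  obtain ⟨τ', hτ'⟩ : ∃ τ' : Coh.structureModule (↑W : Scheme.{u}) ⟶
      (tensorPow (L i) (k + 1)).restrict W.ι, genLocus _ τ' = genLocus _ σ :=
    ⟨σ ≫ (restrictTensorPowIso W.ι (L i) (k + 1)).inv,
      genLocus_comp_iso σ (restrictTensorPowIso W.ι (L i) (k + 1)).symm⟩
  obtain ⟨k₀, hk₀⟩ := exists_genLocus_eq_image_twist hLk (hM i) (τ i) W hτW τ'
  obtain ⟨s, hs⟩ := hk₀ k₀ le_rfl
  have hL' := isInvertible_twistIter hLk (hM i) (k₀ + 1)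
  have hg : genLocus (tensorPow (twistIter (tensorPow (L i) (k + 1)) (M i) (k₀ + 1)) 1)
      (s ≫ (tensorModLeftUnitor (twistIter (tensorPow (L i) (k + 1)) (M i) (k₀ + 1))).inv) =
      W.ι ''ᵁ genLocus _ σ := by
    rw [← hτ']
    exact (genLocus_comp_iso s
      (tensorModLeftUnitor (twistIter (tensorPow (L i) (k + 1)) (M i) (k₀ + 1))).symm).trans hs
  refine ⟨twistIter (tensorPow (L i) (k + 1)) (M i) (k₀ + 1), 1,
    s ≫ (tensorModLeftUnitor (twistIter (tensorPow (L i) (k + 1)) (M i) (k₀ + 1))).inv,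
    hL', le_rfl, ?_, ?_⟩
  · rw [hg]; exact ⟨⟨x, hxW⟩, hxσ, rfl⟩
  · rw [hg]; exact hσaff.image_of_isOpenImmersion W.ι

end Groth.Agent.S1500
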