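import Groth.Statements.S15004
import Mathlib

set_option autoImplicit false
universe u v
open Harb

namespace Groth.Agent.S15004

/-- Let C be a finite family of d curves, recorded as an incidence relation between a type of points and
a finite index type, such that any two distinct curves of the family meet in exactly h points; for a
point p write r_p for the number of curves of the family through p. Then for every curve C_i of the
family, Σ_{p ∈ C_i} (r_p − 1) = h (d − 1), the sum being finitely supported. (The published
statement is for a transversal arrangement of curves on a geometrically ruled surface with invariant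
e, all numerically equivalent to a C₀ + b f, where any two of the curves meet transversally in h =
2ab − a²e points; only this common pairwise intersection count enters the proof, and this row states
the identity for an abstract incidence relation.) -/
theorem result (P : Type u) (ι : Type v) [Fintype ι]
    (inc : P → ι → Prop) (h : ℕ)
    (hfin : ∀ i j : ι, i ≠ j → {p : P | inc p i ∧ inc p j}.Finite)
    (hcount : ∀ i j : ι, i ≠ j → {p : P | inc p i ∧ inc p j}.ncard = h) (i : ι) :
    ∑ᶠ p ∈ {p : P | inc p i}, (Nat.card {j : ι // inc p j} - 1) = h * (Fintype.card ι - 1) := by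
  classical
  let Tj : ι → Finset P := fun j => if hj : i ≠ j then (hfin i j hj).toFinset else ∅
  have hTj : ∀ j p, p ∈ Tj j ↔ i ≠ j ∧ inc p i ∧ inc p j := by
    intro j p
    simp only [Tj]
    split_ifs with hj
    · simp [hj]
    · simp [hj]
  have hcard : ∀ j, (Tj j).card = if i ≠ j then h else 0 := by
    intro j
    simp only [Tj]
    split_ifs with hj
    · rw [← Set.ncard_eq_toFinset_card _ (hfin i j hj)]
      exact hcount i j hj
    · simp
  let T : Finset P := Finset.univ.biUnion Tj
  have hf : ∀ p, inc p i → Nat.card {j : ι // inc p j} - 1 = ∑ j, (if p ∈ Tj j then 1 else 0) := by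
    intro p hp
    rw [Nat.card_eq_fintype_card, Fintype.card_subtype, Finset.sum_boole]
    have h1 : Finset.univ.filter (fun j => inc p j) =
        insert i (Finset.univ.filter (fun j => p ∈ Tj j)) := by
      ext j
      simp only [Finset.mem_filter, Finset.mem_univ, true_and, Finset.mem_insert, hTj]
      constructor
      · intro hj
        by_cases hij : j = i
        · exact Or.inl hij
        · exact Or.inr ⟨fun h => hij h.symm, hp, hj⟩
      · rintro (rfl | ⟨-, -, hj⟩)
        · exact hp
        · exact hj
    rw [h1, Finset.card_insert_of_notMem]
    · simp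
    · simp [hTj]
  have hsupp : {p : P | inc p i} ∩ Function.support (fun p => Nat.card {j : ι // inc p j} - 1) =
      ↑T ∩ Function.support (fun p => Nat.card {j : ι // inc p j} - 1) := by
    ext p
    simp only [Set.mem_inter_iff, Set.mem_setOf_eq, Function.mem_support, Finset.mem_coe]
    constructor
    · rintro ⟨hp, hne⟩
      refine ⟨?_, hne⟩
      rw [hf p hp] at hne
      obtain ⟨j, -, hj⟩ := Finset.exists_ne_zero_of_sum_ne_zero hne
      simp only [T, Finset.mem_biUnion, Finset.mem_univ, true_and]
      refine ⟨j, ?_⟩
      by_contra hcon
      simp [hcon] at hj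
    · rintro ⟨hp, hne⟩
      refine ⟨?_, hne⟩
      simp only [T, Finset.mem_biUnion, Finset.mem_univ, true_and] at hp
      obtain ⟨j, hj⟩ := hp
      exact ((hTj j p).mp hj).2.1
  rw [finsum_mem_eq_sum_of_inter_support_eq _ hsupp]
  have hT : ∀ p ∈ T, inc p i := by
    intro p hp
    simp only [T, Finset.mem_biUnion, Finset.mem_univ, true_and] at hp
    obtain ⟨j, hj⟩ := hp
    exact ((hTj j p).mp hj).2.1
  rw [Finset.sum_congr rfl (fun p hp => hf p (hT p hp)), Finset.sum_comm]
  have h2 : ∀ j, ∑ p ∈ T, (if p ∈ Tj j then 1 else 0) = (Tj j).card := by
    intro j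
    rw [Finset.sum_boole]
    have : T.filter (fun p => p ∈ Tj j) = Tj j := by
      ext p
      simp only [Finset.mem_filter, T, Finset.mem_biUnion, Finset.mem_univ, true_and]
      constructor
      · exact fun h => h.2
      · exact fun h => ⟨⟨j, h⟩, h⟩
    rw [this]
    simp
  rw [Finset.sum_congr rfl (fun j _ => h2 j), Finset.sum_congr rfl (fun j _ => hcard j)]
  rw [Finset.sum_ite, Finset.sum_const_zero, add_zero, Finset.sum_const, smul_eq_mul, mul_comm]
  congr 1
  have : Finset.univ.filter (fun j => i ≠ j) = Finset.univ.erase i := by
    ext j
    simp [eq_comm]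
  rw [this, Finset.card_erase_of_mem (Finset.mem_univ _), Finset.card_univ]

end Groth.Agent.S15004
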