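import Groth.Statements.S15005
import Groth.Agent.Lib.Helper71.Incidence

set_option autoImplicit false
universe u v
open Harb

namespace Groth.Agent.S15005

open Groth.Agent.Lib.Helper71.Incidence in
open Classical in
/-- Let C be a finite family of d curves, recorded as an incidence relation between a type of points and
a finite index type, such that any two distinct curves of the family meet in exactly h points; let
t_k be the number of k-fold points (points lying on exactly k curves of the family). Then f₂ − f₁ =
Σ_{k ≥ 2} k(k − 1) t_k equals h d(d − 1), where f_i = Σ_{k ≥ 2} k^i t_k. (The published statement is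
for a transversal arrangement of curves on a geometrically ruled surface with invariant e, all
numerically equivalent to a C₀ + b f, where any two of the curves meet transversally in h = 2ab −
a²e points; only this common pairwise intersection count enters the proof, and this row states the
identity for an abstract incidence relation.) -/
theorem result (P : Type u) (ι : Type v) [Fintype ι]
    (inc : P → ι → Prop) (h : ℕ)
    (hfin : ∀ i j : ι, i ≠ j → {p : P | inc p i ∧ inc p j}.Finite)
    (hcount : ∀ i j : ι, i ≠ j → {p : P | inc p i ∧ inc p j}.ncard = h) :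
    ∑ k ∈ Finset.Icc 2 (Fintype.card ι), k * (k - 1) * Nat.card {p : P // Nat.card {j : ι // inc p j} = k} =
      h * (Fintype.card ι * (Fintype.card ι - 1)) := by
  set S := M inc hfin with hS
  -- double counting
  have key1 : ∑ x ∈ (Finset.univ.offDiag : Finset (ι × ι)),
      ∑ p ∈ S, (if inc p x.1 ∧ inc p x.2 then 1 else 0) =
      h * (Fintype.card ι * (Fintype.card ι - 1)) := by
    have : ∀ x ∈ (Finset.univ.offDiag : Finset (ι × ι)),
        ∑ p ∈ S, (if inc p x.1 ∧ inc p x.2 then 1 else 0) = h := by
      rintro ⟨i, j⟩ hx
      have hij : i ≠ j := (Finset.mem_offDiag.1 hx).2.2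
      rw [← Finset.card_filter, card_filter_inter inc hfin i j hij, hcount i j hij]
    rw [Finset.sum_congr rfl this, Finset.sum_const, Finset.offDiag_card, Finset.card_univ,
      smul_eq_mul, mul_comm, Nat.mul_sub_one]
  have key2 : ∀ p ∈ S, ∑ x ∈ (Finset.univ.offDiag : Finset (ι × ι)),
      (if inc p x.1 ∧ inc p x.2 then 1 else 0) = deg inc p * (deg inc p - 1) := by
    intro p _
    rw [← Finset.card_filter, deg_eq_card_filter, Nat.mul_sub_one, ← Finset.offDiag_card]
    congr 1
    ext ⟨i, j⟩
    simp only [Finset.mem_filter, Finset.mem_offDiag, Finset.mem_univ, true_and]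
    tauto
  rw [Finset.sum_comm, Finset.sum_congr rfl key2] at key1
  rw [← key1]
  have hmaps : ∀ p ∈ S, deg inc p ∈ Finset.Icc 2 (Fintype.card ι) := by
    intro p hp
    exact Finset.mem_Icc.2 ⟨(mem_M inc hfin p).1 hp, deg_le inc p⟩
  rw [← Finset.sum_fiberwise_of_maps_to hmaps]
  refine Finset.sum_congr rfl fun k hk => ?_
  have hk2 : 2 ≤ k := (Finset.mem_Icc.1 hk).1
  have hcard : Nat.card {p : P // Nat.card {j : ι // inc p j} = k} =
      (S.filter fun p => deg inc p = k).card := by
    rw [← Set.ncard_coe_finset]
    show Nat.card ↥{p : P | deg inc p = k} = _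
    rw [Nat.card_coe_set_eq]
    congr 1
    ext p
    simp only [Set.mem_setOf_eq, Finset.coe_filter, hS, mem_M]
    constructor
    · intro hp; exact ⟨hp ▸ hk2, hp⟩
    · exact fun hp => hp.2
  rw [hcard, Finset.card_eq_sum_ones, Finset.mul_sum]
  refine Finset.sum_congr rfl fun p hp => ?_
  rw [(Finset.mem_filter.1 hp).2, mul_one]

end Groth.Agent.S15005
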