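import Groth.Statements.S15006
import Groth.Agent.Lib.Helper71.Incidence

set_option autoImplicit false
universe u v
open Harb

namespace Groth.Agent.S15006

open Groth.Agent.Lib.Helper71.Incidence in
open Classical in
/-- Let C be a finite family of d ≥ 2 curves, recorded as an incidence relation between a type of points
and a finite index type, such that any two distinct curves of the family meet in exactly h ≥ 1
points and no point lies on every curve of the family. Then f₀ ≥ d: the number of multiple points
(points lying on at least two of the curves) is at least the number of curves. (The published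
statement is for a transversal arrangement of d ≥ 4 curves on a geometrically ruled surface with
invariant e ≥ 4, all numerically equivalent to a C₀ + b f with a ≥ 1 and b ≥ ae and with no point
common to all of them, satisfying in addition either a ≥ 2, or a = 1 with some four of the curves
having no point in common, where any two of the curves meet transversally in h = 2ab − a²e ≥ 1
points; only d ≥ 2, h ≥ 1 and the absence of a common point enter the proof, and this row states the
bound for an abstract incidence relation.) -/
theorem result (P : Type u) (ι : Type v) [Fintype ι]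
    (inc : P → ι → Prop) (h : ℕ) (hh : 0 < h) (hd : 2 ≤ Fintype.card ι)
    (hfin : ∀ i j : ι, i ≠ j → {p : P | inc p i ∧ inc p j}.Finite)
    (hcount : ∀ i j : ι, i ≠ j → {p : P | inc p i ∧ inc p j}.ncard = h)
    (hnone : ∀ p : P, ∃ i : ι, ¬ inc p i) :
    Fintype.card ι ≤ Nat.card {p : P // 2 ≤ Nat.card {j : ι // inc p j}} := by
  show Fintype.card ι ≤ Nat.card {p : P // 2 ≤ deg inc p}
  rw [natCard_multiple inc hfin]
  set S := M inc hfin with hS
  let v : ι → (S → ℚ) := fun i p => if inc p.1 i then 1 else 0
  have hG : ∀ i j, ∑ p : S, v i p * v j p =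
      if i = j then ((Mi inc hfin i).card : ℚ) else (h : ℚ) := by
    intro i j
    have h1 : ∑ p : S, v i p * v j p = ∑ p ∈ S, (if inc p i ∧ inc p j then (1 : ℚ) else 0) := by
      rw [← Finset.sum_coe_sort S]
      refine Finset.sum_congr rfl fun p _ => ?_
      simp only [v]
      by_cases h1 : inc p.1 i <;> by_cases h2 : inc p.1 j <;> simp [h1, h2]
    rw [h1, Finset.sum_boole]
    split_ifs with hij
    · subst hij
      congr 2
      ext p
      simp [Mi, hS]
    · rw [card_inter inc hfin h hcount i j hij]
  have hli : LinearIndependent ℚ v := by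
    rw [Fintype.linearIndependent_iff]
    intro c hc
    have h0 : ∑ p : S, (∑ i, c i * v i p) ^ 2 = 0 := by
      refine Finset.sum_eq_zero fun p _ => ?_
      have := congrFun hc p
      simp only [Finset.sum_apply, Pi.smul_apply, smul_eq_mul, Pi.zero_apply] at this
      rw [this]; ring
    have hexp : ∑ p : S, (∑ i, c i * v i p) ^ 2 =
        ∑ i, ∑ j, c i * c j * ∑ p : S, v i p * v j p := by
      calc ∑ p : S, (∑ i, c i * v i p) ^ 2
          = ∑ p : S, ∑ i, ∑ j, (c i * v i p) * (c j * v j p) := by
            simp only [sq, Finset.sum_mul_sum]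
        _ = ∑ i, ∑ p : S, ∑ j, (c i * v i p) * (c j * v j p) := Finset.sum_comm
        _ = ∑ i, ∑ j, ∑ p : S, (c i * v i p) * (c j * v j p) :=
            Finset.sum_congr rfl fun i _ => Finset.sum_comm
        _ = ∑ i, ∑ j, c i * c j * ∑ p : S, v i p * v j p := by
            refine Finset.sum_congr rfl fun i _ => Finset.sum_congr rfl fun j _ => ?_
            rw [Finset.mul_sum]
            refine Finset.sum_congr rfl fun p _ => ?_
            ring
    rw [hexp] at h0
    simp only [hG] at h0
    have hsplit : ∑ i, ∑ j, c i * c j * (if i = j then ((Mi inc hfin i).card : ℚ) else (h : ℚ)) =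
        (h : ℚ) * (∑ i, c i) ^ 2 + ∑ i, (((Mi inc hfin i).card : ℚ) - h) * c i ^ 2 := by
      have e1 : ∀ i j, c i * c j * (if i = j then ((Mi inc hfin i).card : ℚ) else (h : ℚ)) =
          (h : ℚ) * (c i * c j) +
            (if i = j then (((Mi inc hfin i).card : ℚ) - h) * c i ^ 2 else 0) := by
        intro i j
        split_ifs with hij
        · subst hij; ring
        · ring
      simp only [e1, Finset.sum_add_distrib, Finset.sum_ite_eq, Finset.mem_univ, if_true]
      congr 1
      rw [sq, Finset.sum_mul_sum, Finset.mul_sum]
      refine Finset.sum_congr rfl fun i _ => ?_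
      rw [Finset.mul_sum]
    rw [hsplit] at h0
    have hnn : ∀ i, 0 ≤ (((Mi inc hfin i).card : ℚ) - h) * c i ^ 2 := by
      intro i
      have := succ_le_card_Mi inc hfin h hcount hh hd hnone i
      have h1 : (h : ℚ) + 1 ≤ ((Mi inc hfin i).card : ℚ) := by exact_mod_cast this
      have : 0 ≤ ((Mi inc hfin i).card : ℚ) - h := by linarith
      positivity
    have hq : 0 ≤ (h : ℚ) * (∑ i, c i) ^ 2 := by positivity
    have hsum0 : ∑ i, (((Mi inc hfin i).card : ℚ) - h) * c i ^ 2 = 0 := by
      have := Finset.sum_nonneg fun i (_ : i ∈ Finset.univ) => hnn i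
      linarith
    intro i
    have hi := (Finset.sum_eq_zero_iff_of_nonneg fun i _ => hnn i).1 hsum0 i (Finset.mem_univ i)
    have := succ_le_card_Mi inc hfin h hcount hh hd hnone i
    have h1 : (h : ℚ) + 1 ≤ ((Mi inc hfin i).card : ℚ) := by exact_mod_cast this
    have hpos : ((Mi inc hfin i).card : ℚ) - h ≠ 0 := by linarith
    rcases mul_eq_zero.1 hi with h2 | h2
    · exact absurd h2 hpos
    · exact pow_eq_zero_iff (two_ne_zero) |>.1 h2
  have := hli.fintype_card_le_finrank
  rw [Module.finrank_fintype_fun_eq_card, Fintype.card_coe] at this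
  exact this

end Groth.Agent.S15006
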