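import Groth.Statements.S15007
import Groth.Agent.Lib.Helper71.Incidence

set_option autoImplicit false
universe u v
open Harb

namespace Groth.Agent.S15007

open Groth.Agent.Lib.Helper71.Incidence in
open Classical in
/-- Let C be a finite family of d ≥ 2 curves, recorded as an incidence relation between a type of points
and a finite index type, such that any two distinct curves of the family meet in exactly h ≥ 1
points and no point lies on every curve of the family. Then f₀ ≥ h + 2: the number of multiple
points (points lying on at least two of the curves) is at least h + 2. (The published claim reads f₀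
≥ 2ab − a²e + 2 for a transversal arrangement of d ≥ 4 curves on a geometrically ruled surface with
invariant e ≥ 4, all numerically equivalent to a C₀ + b f with a ≥ 1 and b ≥ ae and with no point
common to all of them, satisfying in addition either a ≥ 2, or a = 1 with some four of the curves
having no point in common, where any two of the curves meet transversally in h = 2ab − a²e ≥ 1
points; only d ≥ 2, h ≥ 1 and the absence of a common point enter the proof, and this row states the
bound for an abstract incidence relation.) -/
theorem result (P : Type u) (ι : Type v) [Fintype ι]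
    (inc : P → ι → Prop) (h : ℕ) (hh : 0 < h) (hd : 2 ≤ Fintype.card ι)
    (hfin : ∀ i j : ι, i ≠ j → {p : P | inc p i ∧ inc p j}.Finite)
    (hcount : ∀ i j : ι, i ≠ j → {p : P | inc p i ∧ inc p j}.ncard = h)
    (hnone : ∀ p : P, ∃ i : ι, ¬ inc p i) :
    h + 2 ≤ Nat.card {p : P // 2 ≤ Nat.card {j : ι // inc p j}} := by
  show h + 2 ≤ Nat.card {p : P // 2 ≤ deg inc p}
  rw [natCard_multiple inc hfin]
  have hpos : 0 < Fintype.card ι := by omega
  obtain ⟨i⟩ := Fintype.card_pos_iff.1 hpos
  obtain ⟨j, hj⟩ := Fintype.exists_ne_of_one_lt_card (Nat.lt_of_lt_of_le one_lt_two hd) i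
  have h1 := succ_le_card_Mi inc hfin h hcount hh hd hnone i
  have h2 := succ_le_card_Mi inc hfin h hcount hh hd hnone j
  -- a multiple point on `j` off `i`
  have hex : ∃ q ∈ Mi inc hfin j, ¬ inc q i := by
    by_contra hcon
    push Not at hcon
    have hsub : Mi inc hfin j ⊆ (M inc hfin).filter fun p => inc p j ∧ inc p i := by
      intro p hp
      rw [Finset.mem_filter]
      exact ⟨(Finset.mem_filter.1 hp).1, (Finset.mem_filter.1 hp).2, hcon p hp⟩
    have := Finset.card_le_card hsub
    rw [card_inter inc hfin h hcount j i hj] at this
    omega
  obtain ⟨q, hq, hqi⟩ := hex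
  have hqM : q ∈ M inc hfin := (Finset.mem_filter.1 hq).1
  have hqn : q ∉ Mi inc hfin i := fun hc => hqi (Finset.mem_filter.1 hc).2
  have hsub : insert q (Mi inc hfin i) ⊆ M inc hfin := by
    intro p hp
    rcases Finset.mem_insert.1 hp with rfl | hp
    · exact hqM
    · exact (Finset.mem_filter.1 hp).1
  have := Finset.card_le_card hsub
  rw [Finset.card_insert_of_notMem hqn] at this
  omega

end Groth.Agent.S15007
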