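import Groth.Statements.S15010
import Mathlib

set_option autoImplicit false
universe u
open TFCurv

namespace Groth.Agent.S15010

theorem single_mem {O K : Type u} [CommRing O] [Field K] [Algebra O K] (n : ℕ) (j : Fin n) :
    (Pi.single j (1 : K) : Fin n → K) ∈
      Submodule.pi Set.univ (fun _ : Fin n => (1 : Submodule O K)) := by
  classical
  rw [Submodule.mem_pi]
  intro i _
  rw [Submodule.mem_one]
  by_cases h : i = j
  · subst h
    exact ⟨1, by simp⟩
  · exact ⟨0, by simp [Pi.single_eq_of_ne h]⟩

/-- an `O`-linear map between lattices is given by a matrix with entries in the integral closure -/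
theorem exists_matrix {O K : Type u} [CommRing O] [IsDomain O] [Field K] [Algebra O K]
    [IsFractionRing O K] (n : ℕ) (M N : Submodule O (Fin n → K))
    (hM1 : Submodule.pi Set.univ (fun _ : Fin n => (1 : Submodule O K)) ≤ M)
    (hN2 : N ≤ Submodule.pi Set.univ
      (fun _ : Fin n => (Subalgebra.toSubmodule (integralClosure O K))))
    (φ : ↥M →ₗ[O] ↥N) :
    ∃ A : Matrix (Fin n) (Fin n) ↥(integralClosure O K), ∀ x : ↥M,
      ((φ x : ↥N) : Fin n → K) =
        (A.map (algebraMap ↥(integralClosure O K) K)).mulVec (x : Fin n → K) := by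
  classical
  let e : Fin n → ↥M := fun j => ⟨Pi.single j (1 : K), hM1 (single_mem n j)⟩
  have hmemN : ∀ (y : ↥N) (i : Fin n), (y : Fin n → K) i ∈ integralClosure O K := by
    intro y i
    have := hN2 y.2
    rw [Submodule.mem_pi] at this
    exact this i trivial
  refine ⟨Matrix.of fun i j => ⟨((φ (e j) : ↥N) : Fin n → K) i, hmemN _ i⟩, fun x => ?_⟩
  obtain ⟨s, hs⟩ := IsLocalization.exist_integer_multiples (nonZeroDivisors O)
    (Finset.univ : Finset (Fin n)) (fun i => (x : Fin n → K) i)
  choose a ha using fun i => hs i (Finset.mem_univ i)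
  have hs0 : algebraMap O K (s : O) ≠ 0 := by
    rw [Ne, map_eq_zero_iff _ (IsFractionRing.injective O K)]
    exact nonZeroDivisors.ne_zero s.2
  have hsx : (s : O) • x = ∑ j, a j • e j := by
    apply Subtype.ext
    funext i
    rw [Submodule.coe_smul, Pi.smul_apply, Submodule.coe_sum, Finset.sum_apply]
    simp only [Submodule.coe_smul, Pi.smul_apply, e]
    rw [← ha i, Finset.sum_eq_single i]
    · rw [Pi.single_eq_same, Algebra.smul_def, mul_one]
    · intro j _ hj
      rw [Pi.single_eq_of_ne (Ne.symm hj), smul_zero]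
    · intro h
      exact absurd (Finset.mem_univ i) h
  have hφ : (s : O) • φ x = ∑ j, a j • φ (e j) := by
    rw [← map_smul, hsx, map_sum]
    simp only [map_smul]
  funext i
  have h1 := congrArg (fun y : ↥N => (y : Fin n → K) i) hφ
  simp only [Submodule.coe_smul, Pi.smul_apply, Submodule.coe_sum, Finset.sum_apply] at h1
  have h2 : (s : O) • (Matrix.mulVec (Matrix.map (Matrix.of fun i j => (⟨((φ (e j) : ↥N) : Fin n → K) i,
      hmemN _ i⟩ : ↥(integralClosure O K))) (algebraMap ↥(integralClosure O K) K))
      (x : Fin n → K)) i = ∑ j, a j • ((φ (e j) : ↥N) : Fin n → K) i := by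
    rw [Matrix.mulVec, dotProduct, Finset.smul_sum]
    apply Finset.sum_congr rfl
    intro j _
    rw [Matrix.map_apply, Matrix.of_apply]
    change (s : O) • (((φ (e j) : ↥N) : Fin n → K) i * (x : Fin n → K) j) = _
    rw [Algebra.smul_def, Algebra.smul_def, ha j, Algebra.smul_def]
    ring
  rw [← h2, Algebra.smul_def, Algebra.smul_def] at h1
  exact mul_left_cancel₀ hs0 h1

/-- Let O be a one-dimensional Noetherian local domain with algebraically closed residue field whose
integral closure O~ in its fraction field K is a finite O-module. If M and N are O-submodules of K^n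
with O^n ⊆ M ⊆ O~^n and O^n ⊆ N ⊆ O~^n, then every O-linear isomorphism M → N is the restriction of
x ↦ A·x for an invertible n × n matrix A with entries in O~. -/
theorem result (O : Type u) [CommRing O] [IsDomain O] [IsNoetherianRing O] [IsLocalRing O] (hdim : ringKrullDim O = 1) [IsAlgClosed (IsLocalRing.ResidueField O)] (K : Type u) [Field K] [Algebra O K] [IsFractionRing O K] (hfin : Module.Finite O ↥(integralClosure O K)) (n : ℕ) (M N : Submodule O (Fin n → K)) (hM1 : Submodule.pi Set.univ (fun _ : Fin n => (1 : Submodule O K)) ≤ M) (hM2 : M ≤ Submodule.pi Set.univ (fun _ : Fin n => (Subalgebra.toSubmodule (integralClosure O K)))) (hN1 : Submodule.pi Set.univ (fun _ : Fin n => (1 : Submodule O K)) ≤ N) (hN2 : N ≤ Submodule.pi Set.univ (fun _ : Fin n => (Subalgebra.toSubmodule (integralClosure O K)))) (φ : ↥M ≃ₗ[O] ↥N) : ∃ A : Matrix (Fin n) (Fin n) ↥(integralClosure O K), IsUnit A ∧ ∀ x : ↥M, ((φ x : ↥N) : Fin n → K) = (A.map (algebraMap ↥(integralClosure O K) K)).mulVec (x : Fin n → K) := by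
  classical
  obtain ⟨A, hA⟩ := exists_matrix n M N hM1 hN2 φ.toLinearMap
  obtain ⟨B, hB⟩ := exists_matrix n N M hN1 hM2 φ.symm.toLinearMap
  have hinj : Function.Injective (algebraMap ↥(integralClosure O K) K) := Subtype.val_injective
  have key : ∀ (P Q : Matrix (Fin n) (Fin n) ↥(integralClosure O K)),
      (∀ j, (P.map (algebraMap ↥(integralClosure O K) K)).mulVec
        ((Q.map (algebraMap ↥(integralClosure O K) K)).mulVec (Pi.single j 1)) = Pi.single j 1) →
      P * Q = 1 := by
    intro P Q h
    apply Matrix.map_injective hinj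
    beta_reduce
    rw [Matrix.map_mul, Matrix.map_one _ (map_zero _) (map_one _)]
    ext i j
    have := congrFun (h j) i
    rw [Matrix.mulVec_mulVec, Matrix.mulVec_single_one] at this
    rw [Matrix.one_apply]
    rw [Matrix.col_apply] at this
    rw [this, Pi.single_apply]
  refine ⟨A, ⟨⟨A, B, ?_, ?_⟩, rfl⟩, fun x => hA x⟩
  · apply key
    intro j
    have h1 := hB ⟨Pi.single j (1 : K), hN1 (single_mem n j)⟩
    rw [← h1]
    have h2 := hA (φ.symm ⟨Pi.single j (1 : K), hN1 (single_mem n j)⟩)
    rw [LinearEquiv.coe_coe] at h1 h2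
    rw [LinearEquiv.coe_coe, ← h2, LinearEquiv.apply_symm_apply]
  · apply key
    intro j
    have h1 := hA ⟨Pi.single j (1 : K), hM1 (single_mem n j)⟩
    rw [← h1]
    have h2 := hB (φ ⟨Pi.single j (1 : K), hM1 (single_mem n j)⟩)
    rw [LinearEquiv.coe_coe] at h1 h2
    rw [LinearEquiv.coe_coe, ← h2, LinearEquiv.symm_apply_apply]

end Groth.Agent.S15010
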