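import Groth.Statements.S17756
import Groth.Agent.S5170
import Mathlib.Algebra.Module.SpanRankOperations
-- import your own Groth.Agent.* helpers here

set_option autoImplicit false
universe u
open Matlis

namespace Groth.Agent.S17756

open IsLocalRing in
/-- `length (M/mM) = μ(M)` for a finite module over a local ring. -/
theorem length_quotient_smul_top (R : Type u) [CommRing R] [IsLocalRing R] (M : Type u)
    [AddCommGroup M] [Module R M] [Module.Finite R M] :
    Module.length R (M ⧸ (maximalIdeal R • (⊤ : Submodule R M))) =
      ((⊤ : Submodule R M).spanFinrank : ℕ∞) := by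
  have h1 := IsLocalRing.spanFinrank_eq_finrank_quotient (⊤ : Submodule R M)
    (Module.Finite.fg_top)
  letI : Field (R ⧸ maximalIdeal R) := Ideal.Quotient.field _
  haveI : Module.Finite (R ⧸ maximalIdeal R)
      (↥(⊤ : Submodule R M) ⧸ maximalIdeal R • (⊤ : Submodule R ↥(⊤ : Submodule R M))) :=
    Module.Finite.of_restrictScalars_finite R _ _
  have h2 : Module.length R
      (↥(⊤ : Submodule R M) ⧸ maximalIdeal R • (⊤ : Submodule R ↥(⊤ : Submodule R M))) =
      ((⊤ : Submodule R M).spanFinrank : ℕ∞) := by
    rw [Module.length_eq_of_surjective (S := R) (R := R ⧸ maximalIdeal R)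
      Ideal.Quotient.mk_surjective, Module.length_eq_finrank, h1]
  rw [← h2]
  refine (LinearEquiv.length_eq ?_).symm
  refine Submodule.Quotient.equiv _ _ (Submodule.topEquiv : ↥(⊤ : Submodule R M) ≃ₗ[R] M) ?_
  rw [Submodule.map_smul'', Submodule.map_top, LinearMap.range_eq_top.mpr (LinearEquiv.surjective _)]

open IsLocalRing in
/-- The socle of the dual is the dual of `M/mM`. -/
noncomputable def socleDualEquiv (R : Type u) [CommRing R] [IsLocalRing R] (E : Type u)
    [AddCommGroup E] [Module R E] (M : Type u) [AddCommGroup M] [Module R M] :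
    ((M ⧸ (maximalIdeal R • (⊤ : Submodule R M))) →ₗ[R] E) ≃ₗ[R]
      ↥(LocCoh.torsionBy (maximalIdeal R) (M →ₗ[R] E)) := by
  refine LinearEquiv.ofBijective
    (LinearMap.codRestrict _ (LinearMap.lcomp R E (maximalIdeal R • (⊤ : Submodule R M)).mkQ) ?_)
    ⟨?_, ?_⟩
  · intro ψ
    rw [Submodule.mem_torsionBySet_iff]
    rintro ⟨a, ha⟩
    ext x
    change a • ψ (Submodule.Quotient.mk x) = 0
    rw [← map_smul, ← Submodule.Quotient.mk_smul]
    have : Submodule.Quotient.mk (p := maximalIdeal R • (⊤ : Submodule R M)) (a • x) = 0 :=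
      (Submodule.Quotient.mk_eq_zero _).mpr (Submodule.smul_mem_smul ha Submodule.mem_top)
    rw [this, map_zero]
  · intro ψ ψ' h
    have h' := congrArg Subtype.val h
    ext x
    exact LinearMap.congr_fun h' x
  · rintro ⟨φ, hφ⟩
    have hle : maximalIdeal R • (⊤ : Submodule R M) ≤ LinearMap.ker φ := by
      rw [Submodule.smul_le]
      intro a ha x _
      rw [LinearMap.mem_ker, map_smul]
      have := (Submodule.mem_torsionBySet_iff _ _).mp hφ ⟨a, ha⟩
      exact LinearMap.congr_fun this x
    refine ⟨Submodule.liftQ _ φ hle, ?_⟩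
    apply Subtype.ext
    ext x
    rfl

/-- Let R be a Noetherian local ring with maximal ideal m and residue field k, E an injective hull of k,
and M a finitely generated R-module with Matlis dual M^v = Hom_R(M, E). Then the minimal number of
generators of M equals the k-dimension of the socle of M^v, the submodule of elements of M^v killed
by m (stated as its length as an R-module). -/
theorem result (R : Type u) [CommRing R] [IsNoetherianRing R] [IsLocalRing R] (E : Type u) [AddCommGroup E] [Module R E] (f : IsLocalRing.ResidueField R →ₗ[R] E) (hf : InjHull.IsInjectiveHull f) (M : Type u) [AddCommGroup M] [Module R M] [Module.Finite R M] : ((⊤ : Submodule R M).spanFinrank : ℕ∞) = Module.length R (LocCoh.torsionBy (IsLocalRing.maximalIdeal R) (M →ₗ[R] E)) := by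
  have h1 := length_quotient_smul_top R M
  have hfin : IsFiniteLength R (M ⧸ (IsLocalRing.maximalIdeal R • (⊤ : Submodule R M))) := by
    rw [← Module.length_ne_top_iff, h1]
    exact ENat.coe_ne_top _
  rw [← (socleDualEquiv R E M).length_eq, Groth.Agent.S5170.result R E f hf _ hfin, h1]

end Groth.Agent.S17756
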