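import Groth.Statements.S15011
import Mathlib
import Groth.Agent.Lib.Helper39.DimOneSemilocal
import Groth.Agent.Lib.Helper39.KrullAkizuki
import Groth.Agent.S17756

set_option autoImplicit false
universe u
open TFCurv

namespace Groth.Agent.S15011

set_option linter.unusedSectionVars false
set_option linter.style.haveILetI false
open Groth.Agent.Lib.Helper39

theorem avoid {O : Type*} [CommRing O] [IsLocalRing O] [Infinite (IsLocalRing.ResidueField O)]
    {N : Type*} [AddCommGroup N] [Module O N] {ι : Type*} [Finite ι] (p : ι → Submodule O N)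
    (hm : ∀ i, IsLocalRing.maximalIdeal O • (⊤ : Submodule O N) ≤ p i) (h : ∀ i, p i ≠ ⊤) :
    ∃ x, ∀ i, x ∉ p i := by
  classical
  let m := IsLocalRing.maximalIdeal O
  letI : Field (O ⧸ m) := Ideal.Quotient.field m
  have : Infinite (O ⧸ m) := inferInstanceAs (Infinite (IsLocalRing.ResidueField O))
  let q : ι → Submodule (O ⧸ m) (N ⧸ (m • ⊤ : Submodule O N)) := fun i =>
    { carrier := ((p i).map (m • ⊤ : Submodule O N).mkQ : Set (N ⧸ (m • ⊤ : Submodule O N)))
      add_mem' := fun ha hb => add_mem ha hb
      zero_mem' := zero_mem _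
      smul_mem' := by
        intro c v hv
        obtain ⟨r, rfl⟩ := Ideal.Quotient.mk_surjective c
        have h1 : (Ideal.Quotient.mk m r) • v = r • v := by
          induction v using Submodule.Quotient.induction_on with
          | _ n => rfl
        rw [h1]
        exact Submodule.smul_mem _ r hv }
  have hq : ∀ i, q i ≠ ⊤ := by
    intro i hi
    apply h i
    rw [eq_top_iff]
    intro n _
    have h1 : (m • ⊤ : Submodule O N).mkQ n ∈ q i := by rw [hi]; trivial
    obtain ⟨n', hn', hnn'⟩ := h1
    have h2 : n' - n ∈ (m • ⊤ : Submodule O N) := by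
      rw [← Submodule.Quotient.eq]; exact hnn'
    have h3 := hm i h2
    have : n = n' - (n' - n) := by abel
    rw [this]
    exact sub_mem hn' h3
  obtain ⟨v, hv⟩ := Submodule.exists_forall_notMem_of_forall_ne_top q hq
  obtain ⟨x, rfl⟩ := Submodule.mkQ_surjective _ v
  exact ⟨x, fun i hx => hv i ⟨x, hx, rfl⟩⟩


theorem exists_x (O : Type u) [CommRing O] [IsDomain O] [IsNoetherianRing O] [IsLocalRing O]
    (hdim : ringKrullDim O = 1) [Infinite (IsLocalRing.ResidueField O)]
    (K : Type u) [Field K] [Algebra O K] [IsFractionRing O K] :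
    ∃ x : O, x ≠ 0 ∧ x ∈ IsLocalRing.maximalIdeal O ∧
      Ideal.span {algebraMap O ↥(integralClosure O K) x} =
        (IsLocalRing.maximalIdeal O).map (algebraMap O ↥(integralClosure O K)) := by
  classical
  have hK1 : Ring.KrullDimLE 1 O := KA.krullDimLE_one_of_eq hdim
  have hOnf : ¬ IsField O := by
    intro hf
    have := ringKrullDim_eq_zero_of_isField hf
    rw [hdim] at this
    exact one_ne_zero this
  let m := IsLocalRing.maximalIdeal O
  let B := ↥(integralClosure O K)
  have hDed : IsDedekindDomain B := KA.isDedekindDomain_of_isIntegralClosure O K K B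
  have : Finite (MaximalSpectrum O) := by
    have : Unique (MaximalSpectrum O) :=
      ⟨⟨⟨m, IsLocalRing.maximalIdeal.isMaximal O⟩⟩, fun p => MaximalSpectrum.ext
        (IsLocalRing.eq_maximalIdeal p.isMaximal)⟩
    infer_instance
  have hFin : Finite (IsDedekindDomain.HeightOneSpectrum B) :=
    KA.finite_heightOneSpectrum_of_isIntegralClosure O K K B hOnf
  have hOB : Function.Injective (algebraMap O B) :=
    KA.algebraMap_injective_of_isIntegralClosure O K K B
  have hint : Algebra.IsIntegral O B := IsIntegralClosure.isIntegral_algebra O K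
  have hBnf : ¬ IsField B := fun hf => hOnf (isField_of_isIntegral_of_isField hOB hf)
  let I : Ideal B := m.map (algebraMap O B)
  have hm0 : m ≠ ⊥ := fun h => hOnf (IsLocalRing.isField_iff_maximalIdeal_eq.2 h)
  have hI0 : I ≠ ⊥ := by
    intro h
    apply hm0
    rw [eq_bot_iff]
    intro a ha
    have : algebraMap O B a ∈ I := Ideal.mem_map_of_mem _ ha
    rw [h, Ideal.mem_bot, map_eq_zero_iff _ hOB] at this
    exact this
  have hIv : ∀ v : IsDedekindDomain.HeightOneSpectrum B, I ≤ v.asIdeal := by
    intro v
    have hp : (v.asIdeal.comap (algebraMap O B)).IsPrime := Ideal.comap_isPrime _ _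
    have hp0 : v.asIdeal.comap (algebraMap O B) ≠ ⊥ := fun h =>
      v.ne_bot (Ideal.eq_bot_of_comap_eq_bot (R := O) h)
    have hmax : (v.asIdeal.comap (algebraMap O B)).IsMaximal :=
      Ring.krullDimLE_one_iff_of_noZeroDivisors.mp hK1 _ hp0 hp
    have := IsLocalRing.eq_maximalIdeal hmax
    rw [Ideal.map_le_iff_le_comap, this]
  -- the submodules to avoid
  let φ : ↥m →ₗ[O] B := (Algebra.linearMap O B).comp m.subtype
  let p : IsDedekindDomain.HeightOneSpectrum B → Submodule O ↥m := fun v =>
    Submodule.comap φ ((v.asIdeal * I).restrictScalars O)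
  have hp1 : ∀ v, m • (⊤ : Submodule O ↥m) ≤ p v := by
    intro v
    rw [Submodule.smul_le]
    intro r hr b _
    show φ (r • b) ∈ v.asIdeal * I
    rw [map_smul, Algebra.smul_def]
    exact Ideal.mul_mem_mul (hIv v (Ideal.mem_map_of_mem _ hr)) (Ideal.mem_map_of_mem _ b.2)
  have hp2 : ∀ v, p v ≠ ⊤ := by
    intro v hv
    have h1 : I ≤ v.asIdeal * I := by
      rw [Ideal.map_le_iff_le_comap]
      intro a ha
      have : (⟨a, ha⟩ : ↥m) ∈ p v := by rw [hv]; trivial
      exact this
    have h2 : v.asIdeal * I = I := le_antisymm Ideal.mul_le_right h1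
    have h3 : v.asIdeal * I = 1 * I := by rw [h2, one_mul]
    have h4 : v.asIdeal = 1 := mul_right_cancel₀ hI0 h3
    exact v.isPrime.ne_top (by rw [h4, Ideal.one_eq_top])
  obtain ⟨a, ha⟩ := avoid p hp1 hp2
  have hJI : Ideal.span {algebraMap O B (a : O)} ≤ I := by
    rw [Ideal.span_singleton_le_iff_mem]
    exact Ideal.mem_map_of_mem _ a.2
  have hEq : Ideal.span {algebraMap O B (a : O)} = I := by
    obtain ⟨J', hJ'⟩ := Ideal.dvd_iff_le.2 hJI
    by_cases hJ1 : J' = ⊤
    · rw [hJ', hJ1, Ideal.mul_top]
    exfalso
    obtain ⟨P, hPmax, hJP⟩ := Ideal.exists_le_maximal J' hJ1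
    let v : IsDedekindDomain.HeightOneSpectrum B :=
      ⟨P, hPmax.isPrime, Ring.ne_bot_of_isMaximal_of_not_isField hPmax hBnf⟩
    apply ha v
    show algebraMap O B (a : O) ∈ P * I
    have : algebraMap O B (a : O) ∈ Ideal.span {algebraMap O B (a : O)} :=
      Ideal.mem_span_singleton_self _
    rw [hJ'] at this
    rw [mul_comm]
    exact Ideal.mul_mono_right hJP this
  refine ⟨a, ?_, a.2, hEq⟩
  intro h0
  apply hI0
  rw [← hEq, h0, map_zero, Ideal.span_singleton_eq_bot]


open Pointwise in
theorem main (O : Type u) [CommRing O] [IsDomain O] [IsNoetherianRing O] [IsLocalRing O] (hdim : ringKrullDim O = 1) [IsAlgClosed (IsLocalRing.ResidueField O)] (K : Type u) [Field K] [Algebra O K] [IsFractionRing O K] (hfin : Module.Finite O ↥(integralClosure O K)) (M : Type u) [AddCommGroup M] [Module O M] [Module.Finite O M] [NoZeroSMulDivisors O M] (n : ℕ) (hn : Module.finrank K (TensorProduct O K M) = n) : ((⊤ : Submodule O M).spanFinrank : ℕ∞) ≤ (n : ℕ∞) * Module.length O (↥(integralClosure O K) ⧸ (IsLocalRing.maximalIdeal O) • (⊤ : Submodule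 O ↥(integralClosure O K))) := by
  have hK1 : Ring.KrullDimLE 1 O := KA.krullDimLE_one_of_eq hdim
  obtain ⟨x, hx0, hxm, hx⟩ := exists_x O hdim K
  rw [← Groth.Agent.S17756.length_quotient_smul_top O M]
  have h2 : Module.length O (M ⧸ IsLocalRing.maximalIdeal O • (⊤ : Submodule O M)) ≤
      Module.length O (M ⧸ (x • ⊤ : Submodule O M)) := by
    have hle : (x • ⊤ : Submodule O M) ≤ IsLocalRing.maximalIdeal O • ⊤ := by
      rw [← Submodule.ideal_span_singleton_smul]
      exact Submodule.smul_mono_left ((Ideal.span_singleton_le_iff_mem _).2 hxm)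
    exact Module.length_le_of_surjective (Submodule.factor hle) (Submodule.factor_surjective hle)
  have h3 := KA.length_quotient_smul_of_finite M x
    (fun m hm => (smul_eq_zero.1 hm).resolve_left hx0)
  have hrk : Module.finrank O M = n := by
    rw [← hn]
    exact ((TensorProduct.isBaseChange O M K).finrank_eq).symm
  have h4 := KA.length_quotient_smul_of_finite (↥(integralClosure O K)) x
    (fun m hm => (smul_eq_zero.1 hm).resolve_left hx0)
  have h5 : (x • ⊤ : Submodule O ↥(integralClosure O K)) =
      IsLocalRing.maximalIdeal O • ⊤ := by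
    rw [← Submodule.ideal_span_singleton_smul, Ideal.smul_top_eq_map, Ideal.smul_top_eq_map,
      Ideal.map_span, Set.image_singleton, hx]
  have hOB : Function.Injective (algebraMap O ↥(integralClosure O K)) :=
    KA.algebraMap_injective_of_isIntegralClosure O K K _
  have h6 : 1 ≤ Module.finrank O ↥(integralClosure O K) := by
    have h := LinearMap.rank_le_of_injective (Algebra.linearMap O ↥(integralClosure O K)) hOB
    rw [Module.rank_self] at h
    have h' := Cardinal.toNat_le_toNat h (Module.rank_lt_aleph0 O _)
    simpa [Module.finrank] using h'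
  rw [h5] at h4
  calc Module.length O (M ⧸ IsLocalRing.maximalIdeal O • (⊤ : Submodule O M))
      ≤ Module.length O (M ⧸ (x • ⊤ : Submodule O M)) := h2
    _ = (n : ℕ∞) * Module.length O (O ⧸ Ideal.span {x}) := by rw [h3, hrk]
    _ ≤ (n : ℕ∞) * ((Module.finrank O ↥(integralClosure O K) : ℕ∞) *
          Module.length O (O ⧸ Ideal.span {x})) := by
        gcongr
        calc Module.length O (O ⧸ Ideal.span {x}) = 1 * Module.length O (O ⧸ Ideal.span {x}) :=
              (one_mul _).symm
          _ ≤ _ := by
            gcongr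
            exact_mod_cast h6
    _ = _ := by rw [h4]


/-- Let O be a one-dimensional Noetherian local domain with maximal ideal m and algebraically closed
residue field, whose integral closure O~ in its fraction field K is a finite O-module; put e =
length(O~/m O~), the multiplicity of O. Then a finitely generated torsion-free O-module of rank n
can be generated by at most n·e elements. -/
theorem result (O : Type u) [CommRing O] [IsDomain O] [IsNoetherianRing O] [IsLocalRing O] (hdim : ringKrullDim O = 1) [IsAlgClosed (IsLocalRing.ResidueField O)] (K : Type u) [Field K] [Algebra O K] [IsFractionRing O K] (hfin : Module.Finite O ↥(integralClosure O K)) (M : Type u) [AddCommGroup M] [Module O M] [Module.Finite O M] [NoZeroSMulDivisors O M] (n : ℕ) (hn : Module.finrank K (TensorProduct O K M) = n) : ((⊤ : Submodule O M).spanFinrank : ℕ∞) ≤ (n : ℕ∞) * Module.length O (↥(integralClosure O K) ⧸ (IsLocalRing.maximalIdeal O) • (⊤ : Submodule O ↥(integralClosure O K))) :=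
  main O hdim K hfin M n hn

end Groth.Agent.S15011
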