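import Groth.Statements.S15013
import Mathlib
import Groth.Agent.Lib.Helper39.KrullAkizuki

set_option autoImplicit false
universe u
open CategoryTheory
open TFCurv

namespace Groth.Agent.S15013

set_option linter.unusedSectionVars false
open Groth.Agent.Lib.Helper39 CategoryTheory

/-- a f.g. torsion-free module over a domain embeds in a finite free module -/
theorem exists_embedding (R : Type u) [CommRing R] [IsDomain R] (M : Type u) [AddCommGroup M]
    [Module R M] [Module.Finite R M] [NoZeroSMulDivisors R M] :
    ∃ (ι : Type u) (_ : Fintype ι) (ψ : M →ₗ[R] (ι → R)), Function.Injective ψ := by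
  classical
  obtain ⟨s, hs, hli⟩ := exists_set_linearIndependent R M
  have hsfin : s.Finite := by
    rw [← Cardinal.lt_aleph0_iff_set_finite, hs]
    exact Module.rank_lt_aleph0 R M
  let _ : Fintype s := hsfin.fintype
  have hli' : LinearIndependent R (Subtype.val : s → M) := hli
  let φ : (s → R) →ₗ[R] M :=
    Finsupp.linearCombination R (Subtype.val : s → M) ∘ₗ
      (Finsupp.linearEquivFunOnFinite R R s).symm.toLinearMap
  have hφ : Function.Injective φ := by
    have : Function.Injective (Finsupp.linearCombination R (Subtype.val : s → M)) := hli'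
    exact this.comp (Finsupp.linearEquivFunOnFinite R R s).symm.injective
  have hrange : LinearMap.range φ = Submodule.span R s := by
    rw [LinearMap.range_comp_of_range_eq_top _ (LinearEquiv.range _), Finsupp.range_linearCombination]
    simp
  have hrk : Module.rank R (M ⧸ LinearMap.range φ) = 0 := by
    have h1 := Submodule.rank_quotient_add_rank (LinearMap.range φ)
    have h2 : Module.rank R (LinearMap.range φ) = Module.rank R M := by
      rw [hrange, rank_span_set hli, hs]
    rw [h2] at h1
    have h3 : Module.rank R (M ⧸ LinearMap.range φ) + Module.rank R M = 0 + Module.rank R M := by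
      rw [h1, zero_add]
    exact Cardinal.eq_of_add_eq_add_right h3 (Module.rank_lt_aleph0 R M)
  obtain ⟨d, hd, hdQ⟩ := KA.exists_ne_zero_smul_eq_zero_of_rank_eq_zero _ hrk
  have hdM : ∀ m : M, d • m ∈ LinearMap.range φ := by
    intro m
    have := hdQ (Submodule.Quotient.mk m)
    rwa [← Submodule.Quotient.mk_smul, Submodule.Quotient.mk_eq_zero] at this
  let g : M →ₗ[R] LinearMap.range φ :=
    LinearMap.codRestrict _ (LinearMap.lsmul R M d) hdM
  have hg : Function.Injective g := by
    intro a b hab
    have : d • a = d • b := congrArg Subtype.val hab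
    exact smul_right_injective M hd this
  let e : (↥(LinearMap.range φ)) ≃ₗ[R] (s → R) := (LinearEquiv.ofInjective φ hφ).symm
  refine ⟨s, inferInstance, e.toLinearMap ∘ₗ g, ?_⟩
  exact e.injective.comp hg

theorem ext_vanish (O : Type u) [CommRing O] [IsDomain O]
    (W : Type u) [AddCommGroup W] [Module O W]
    (hωinj : HasInjectiveDimensionLT (ModuleCat.of O W) 2)
    (M : Type u) [AddCommGroup M] [Module O M] [Module.Finite O M] [NoZeroSMulDivisors O M]
    (i : ℕ) (hi : 1 ≤ i) :
    Subsingleton (Abelian.Ext (ModuleCat.of O M) (ModuleCat.of O W) i) := by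
  obtain ⟨ι, _, ψ, hψ⟩ := exists_embedding O M
  let S : ShortComplex (ModuleCat.{u} O) :=
    ShortComplex.mk (ModuleCat.ofHom ψ) (ModuleCat.ofHom (LinearMap.range ψ).mkQ) (by
      rw [← ModuleCat.ofHom_comp, LinearMap.range_mkQ_comp]
      rfl)
  have hS : S.ShortExact := by
    have hex : S.Exact := by
      rw [ShortComplex.moduleCat_exact_iff]
      intro y hy
      have hy' : (LinearMap.range ψ).mkQ y = 0 := hy
      rw [Submodule.mkQ_apply, Submodule.Quotient.mk_eq_zero] at hy'
      exact hy'
    have : Mono S.f := (ModuleCat.mono_iff_injective _).2 hψ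
    have : Epi S.g := (ModuleCat.epi_iff_surjective _).2 (Submodule.mkQ_surjective _)
    exact ShortComplex.ShortExact.mk hex
  refine ⟨fun a b => ?_⟩
  suffices h : ∀ x : Abelian.Ext (ModuleCat.of O M) (ModuleCat.of O W) i, x = 0 by
    rw [h a, h b]
  intro x
  have h1 : hS.extClass.comp x (rfl : 1 + i = 1 + i) = 0 := by
    have := HasInjectiveDimensionLT.subsingleton (ModuleCat.of O W) 2 (1 + i) (by omega) S.X₃
    exact Subsingleton.elim _ _
  obtain ⟨x₂, hx₂⟩ := Abelian.Ext.contravariant_sequence_exact₁ hS (ModuleCat.of O W) x rfl h1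
  have : Projective S.X₂ := by
    show Projective (ModuleCat.of O (ι → O))
    exact ModuleCat.projective_of_free (Pi.basisFun O ι)
  obtain ⟨j, rfl⟩ : ∃ j, i = j + 1 := ⟨i - 1, by omega⟩
  have h2 : x₂ = 0 := Abelian.Ext.eq_zero_of_projective x₂
  rw [← hx₂, h2, Abelian.Ext.comp_zero]


/-- Let O be a one-dimensional Noetherian local domain with algebraically closed residue field whose
integral closure O~ in its fraction field K is a finite O-module, and let w be a canonical ideal of
O, taken here as a nonzero finitely generated O-submodule of K whose injective dimension as an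
O-module is at most one. Then Ext^i_O(M, w) vanishes for all i ≥ 1 and every finitely generated
torsion-free O-module M. -/
theorem result (O : Type u) [CommRing O] [IsDomain O] [IsNoetherianRing O] [IsLocalRing O] (hdim : ringKrullDim O = 1) [IsAlgClosed (IsLocalRing.ResidueField O)] (K : Type u) [Field K] [Algebra O K] [IsFractionRing O K] (hfin : Module.Finite O ↥(integralClosure O K)) (ω : Submodule O K) (hω0 : ω ≠ ⊥) (hωfg : ω.FG) (hωinj : HasInjectiveDimensionLT (ModuleCat.of O ↥ω) 2) (M : Type u) [AddCommGroup M] [Module O M] [Module.Finite O M] [NoZeroSMulDivisors O M] (i : ℕ) (hi : 1 ≤ i) : Subsingleton (Abelian.Ext (ModuleCat.of O M) (ModuleCat.of O ↥ω) i) :=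
  ext_vanish O ↥ω hωinj M i hi

end Groth.Agent.S15013
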