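import Groth.Statements.S15015
import Mathlib

set_option autoImplicit false
universe u
open TFCurv

namespace Groth.Agent.S15015

/-- Let k be an algebraically closed field and A ≠ k[[t]] a k-subalgebra of k[[t]] that is closed in the
t-adic topology, over which k[[t]] is a finite module, and such that every power series is carried
into A by multiplication with some nonzero element of A (so k[[t]] lies in the fraction field of A
and is its normalisation, as for the complete local ring of a unibranch curve singularity), and let
Γ ⊆ ℕ be the set of t-orders of the nonzero elements of A (its value semigroup). Then ℕ ∖ Γ is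
finite and the k-dimension of k[[t]]/A equals the number of gaps of Γ. -/
theorem result (k : Type u) [Field k] [IsAlgClosed k] (A : Subalgebra k (PowerSeries k)) (hA : Module.Finite ↥A (PowerSeries k)) (hcl : ∀ f : PowerSeries k, (∀ n : ℕ, ∃ g ∈ A, (n : ℕ∞) ≤ PowerSeries.order (f - g)) → f ∈ A) (hsing : A ≠ ⊤) (hbir : ∀ f : PowerSeries k, ∃ a ∈ A, a ≠ 0 ∧ a * f ∈ A) (Γ : Set ℕ) (hΓ : ∀ n : ℕ, n ∈ Γ ↔ ∃ f ∈ A, PowerSeries.order f = n) : Γᶜ.Finite ∧ Module.finrank k (PowerSeries k ⧸ Subalgebra.toSubmodule A) = Γᶜ.ncard := by
  classical
  -- Step 1: the conductor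
  obtain ⟨S, hS⟩ := (Module.Finite.fg_top : (⊤ : Submodule ↥A (PowerSeries k)).FG)
  choose a haA ha0 haf using hbir
  set c : PowerSeries k := ∏ s ∈ S, a s with hc
  have hcA : c ∈ A := Subalgebra.prod_mem A (fun s _ => haA s)
  have hc0 : c ≠ 0 := Finset.prod_ne_zero_iff.2 (fun s _ => ha0 s)
  have hcond : ∀ f : PowerSeries k, c * f ∈ A := by
    intro f
    have hf : f ∈ Submodule.span ↥A (S : Set (PowerSeries k)) := by rw [hS]; trivial
    induction hf using Submodule.span_induction with
    | mem s hs =>
      have hs' : s ∈ S := hs
      rw [hc, ← Finset.mul_prod_erase S a hs', mul_comm (a s), mul_assoc]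
      exact A.mul_mem (Subalgebra.prod_mem A (fun t _ => haA t)) (haf s)
    | zero => rw [mul_zero]; exact A.zero_mem
    | add x y _ _ hx hy => rw [mul_add]; exact A.add_mem hx hy
    | smul r x _ hx =>
      have : c * (r • x) = (r : PowerSeries k) * (c * x) := by
        rw [Algebra.smul_def]
        show c * ((r : PowerSeries k) * x) = _
        ring
      rw [this]
      exact A.mul_mem r.2 hx
  set m : ℕ := c.order.toNat with hm
  have hbig : ∀ f : PowerSeries k, (m : ℕ∞) ≤ PowerSeries.order f → f ∈ A := by
    intro f hf
    have hdvd : (PowerSeries.X : PowerSeries k) ^ m ∣ f := by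
      rw [PowerSeries.X_pow_dvd_iff]
      intro i hi
      apply PowerSeries.coeff_of_lt_order
      exact lt_of_lt_of_le (by exact_mod_cast hi) hf
    obtain ⟨g, rfl⟩ := hdvd
    obtain ⟨u, hu⟩ := PowerSeries.isUnit_divided_by_X_pow_order hc0
    have hcu : c = PowerSeries.X ^ m * (u : PowerSeries k) := by
      rw [hu, hm, PowerSeries.X_pow_order_mul_divXPowOrder]
    have : (PowerSeries.X : PowerSeries k) ^ m * g = c * ((↑u⁻¹ : PowerSeries k) * g) := by
      rw [hcu]
      have := u.mul_inv
      calc (PowerSeries.X : PowerSeries k) ^ m * g
          = PowerSeries.X ^ m * ((u : PowerSeries k) * (↑u⁻¹ : PowerSeries k)) * g := by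
            rw [this, mul_one]
        _ = _ := by ring
    rw [this]
    exact hcond _
  -- Step 2: the gaps are finite
  have hsub : Γᶜ ⊆ (Finset.range m : Set ℕ) := by
    intro n hn
    by_contra hnm
    apply hn
    rw [hΓ]
    have hmn : m ≤ n := by
      simpa using hnm
    refine ⟨PowerSeries.X ^ n, hbig _ ?_, PowerSeries.order_X_pow n⟩
    rw [PowerSeries.order_X_pow]
    exact_mod_cast hmn
  have hfin : Γᶜ.Finite := (Finset.finite_toSet _).subset hsub
  refine ⟨hfin, ?_⟩
  -- Step 3: the classes of `X ^ n`, `n` a gap, form a basis of the quotient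
  set G : Finset ℕ := hfin.toFinset with hG
  have hGmem : ∀ n, n ∈ G ↔ n ∉ Γ := by
    intro n
    rw [hG, Set.Finite.mem_toFinset]
    rfl
  let v : G → (PowerSeries k ⧸ Subalgebra.toSubmodule A) :=
    fun n => Submodule.Quotient.mk ((PowerSeries.X : PowerSeries k) ^ (n : ℕ))
  -- linear independence
  have hli : LinearIndependent k v := by
    rw [Fintype.linearIndependent_iff]
    intro g hg
    by_contra hne
    push Not at hne
    -- the smallest index with nonzero coefficient
    have hex : ∃ n : ℕ, ∃ h : n ∈ G, g ⟨n, h⟩ ≠ 0 := by
      obtain ⟨i, hi⟩ := hne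
      exact ⟨i.1, i.2, hi⟩
    let n0 := Nat.find hex
    obtain ⟨hn0G, hn0⟩ := Nat.find_spec hex
    have hmin : ∀ j < n0, ∀ h : j ∈ G, g ⟨j, h⟩ = 0 := by
      intro j hj h
      by_contra hne'
      exact Nat.find_min hex hj ⟨h, hne'⟩
    set F : PowerSeries k := ∑ i : G, g i • (PowerSeries.X : PowerSeries k) ^ (i : ℕ) with hF
    have hFA : F ∈ A := by
      have : (Submodule.mkQ (Subalgebra.toSubmodule A)) F = 0 := by
        rw [hF, map_sum, ← hg]
        refine Finset.sum_congr rfl fun i _ => ?_
        rw [map_smul]
        rfl
      rw [Submodule.mkQ_apply, Submodule.Quotient.mk_eq_zero] at this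
      exact this
    have hcoeff : ∀ j : ℕ, PowerSeries.coeff j F = if h : j ∈ G then g ⟨j, h⟩ else 0 := by
      intro j
      rw [hF, map_sum]
      simp only [PowerSeries.coeff_smul, PowerSeries.coeff_X_pow, smul_eq_mul, mul_ite, mul_one, mul_zero]
      split_ifs with h
      · rw [Finset.sum_eq_single ⟨j, h⟩]
        · simp
        · intro b _ hb
          rw [if_neg]
          intro hjb
          apply hb
          exact Subtype.ext hjb.symm
        · intro h'
          exact absurd (Finset.mem_univ _) h'
      · apply Finset.sum_eq_zero
        intro b _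
        rw [if_neg]
        intro hjb
        apply h
        rw [hjb]
        exact b.2
    have hord : PowerSeries.order F = n0 := by
      rw [PowerSeries.order_eq_nat]
      refine ⟨?_, ?_⟩
      · rw [hcoeff, dif_pos hn0G]
        exact hn0
      · intro i hi
        rw [hcoeff]
        split_ifs with h
        · exact hmin i hi h
        · rfl
    have : n0 ∈ Γ := (hΓ n0).2 ⟨F, hFA, hord⟩
    exact (hGmem n0).1 hn0G this
  -- spanning
  have hspan : ⊤ ≤ Submodule.span k (Set.range v) := by
    have key : ∀ j : ℕ, ∀ f : PowerSeries k, ((m - j : ℕ) : ℕ∞) ≤ PowerSeries.order f →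
        (Submodule.Quotient.mk f : PowerSeries k ⧸ Subalgebra.toSubmodule A) ∈
          Submodule.span k (Set.range v) := by
      intro j
      induction j with
      | zero =>
        intro f hf
        have : f ∈ Subalgebra.toSubmodule A := hbig f (by simpa using hf)
        rw [(Submodule.Quotient.mk_eq_zero _).2 this]
        exact Submodule.zero_mem _
      | succ j ih =>
        intro f hf
        by_cases hlt : ((m - j : ℕ) : ℕ∞) ≤ PowerSeries.order f
        · exact ih f hlt
        · -- the order of `f` is exactly `n = m - (j+1)`
          set n := m - (j + 1) with hn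
          have hnlt : n < m - j := by
            by_contra hcon
            apply hlt
            have : m - j = n := by omega
            rw [this]
            exact hf
          have hsucc : m - j = n + 1 := by omega
          have hordf : PowerSeries.order f = n := by
            apply le_antisymm
            · by_contra hcon
              apply hlt
              rw [hsucc]
              have h1 : (n : ℕ∞) < PowerSeries.order f := lt_of_not_ge hcon
              exact Order.add_one_le_of_lt h1
            · exact hf
          have hcoef : PowerSeries.coeff n f ≠ 0 := (PowerSeries.order_eq_nat.1 hordf).1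
          have hlow : ∀ i < n, PowerSeries.coeff i f = 0 := (PowerSeries.order_eq_nat.1 hordf).2
          by_cases hnΓ : n ∈ Γ
          · obtain ⟨g, hgA, hgord⟩ := (hΓ n).1 hnΓ
            have hgcoef : PowerSeries.coeff n g ≠ 0 := (PowerSeries.order_eq_nat.1 hgord).1
            have hglow : ∀ i < n, PowerSeries.coeff i g = 0 := (PowerSeries.order_eq_nat.1 hgord).2
            set r : k := PowerSeries.coeff n f / PowerSeries.coeff n g with hr
            have hf' : ((m - j : ℕ) : ℕ∞) ≤ PowerSeries.order (f - r • g) := by
              rw [hsucc]
              apply PowerSeries.nat_le_order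
              intro i hi
              rw [map_sub, PowerSeries.coeff_smul]
              rcases Nat.lt_succ_iff_lt_or_eq.1 hi with h | h
              · rw [hlow i h, hglow i h, smul_zero, sub_zero]
              · rw [h, hr, smul_eq_mul, div_mul_cancel₀ _ hgcoef, sub_self]
            have h1 := ih _ hf'
            have h2 : (Submodule.Quotient.mk f : PowerSeries k ⧸ Subalgebra.toSubmodule A) =
                Submodule.Quotient.mk (f - r • g) := by
              rw [Submodule.Quotient.eq]
              have : f - (f - r • g) = r • g := by abel
              rw [this]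
              exact (Subalgebra.toSubmodule A).smul_mem r hgA
            rw [h2]
            exact h1
          · have hnG : n ∈ G := (hGmem n).2 hnΓ
            set r : k := PowerSeries.coeff n f with hr
            have hf' : ((m - j : ℕ) : ℕ∞) ≤
                PowerSeries.order (f - r • (PowerSeries.X : PowerSeries k) ^ n) := by
              rw [hsucc]
              apply PowerSeries.nat_le_order
              intro i hi
              rw [map_sub, PowerSeries.coeff_smul, PowerSeries.coeff_X_pow]
              rcases Nat.lt_succ_iff_lt_or_eq.1 hi with h | h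
              · rw [hlow i h, if_neg (by omega), smul_zero, sub_zero]
              · rw [h, if_pos rfl, hr, smul_eq_mul, mul_one, sub_self]
            have h1 := ih _ hf'
            have h2 : (Submodule.Quotient.mk f : PowerSeries k ⧸ Subalgebra.toSubmodule A) =
                Submodule.Quotient.mk (f - r • (PowerSeries.X : PowerSeries k) ^ n) + r • v ⟨n, hnG⟩ := by
              rw [← Submodule.Quotient.mk_smul, ← Submodule.Quotient.mk_add]
              congr 1
              abel
            rw [h2]
            exact Submodule.add_mem _ h1
              (Submodule.smul_mem _ _ (Submodule.subset_span ⟨⟨n, hnG⟩, rfl⟩))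
    intro q _
    obtain ⟨f, rfl⟩ := Submodule.Quotient.mk_surjective _ q
    exact key m f (by simp)
  let b : Module.Basis G k (PowerSeries k ⧸ Subalgebra.toSubmodule A) := Module.Basis.mk hli hspan
  rw [Module.finrank_eq_card_basis b, Set.ncard_eq_toFinset_card Γᶜ hfin, Fintype.card_coe]

end Groth.Agent.S15015
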