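import Groth.Statements.S15016
-- import your own Groth.Agent.* helpers here

set_option autoImplicit false
universe u
open TFCurv

namespace Groth.Agent.S15016

open PowerSeries in
theorem mem_of_le_order {k : Type u} [Field k] (A : Subalgebra k (PowerSeries k))
    (hcl : ∀ f : PowerSeries k, (∀ n : ℕ, ∃ g ∈ A, (n : ℕ∞) ≤ PowerSeries.order (f - g)) → f ∈ A)
    (Γ : Set ℕ) (hΓ : ∀ n : ℕ, n ∈ Γ ↔ ∃ f ∈ A, PowerSeries.order f = n) (c : ℕ)
    (hc : ∀ n : ℕ, c ≤ n → n ∈ Γ) (h : PowerSeries k) (hh : (c : ℕ∞) ≤ PowerSeries.order h) :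
    h ∈ A := by
  apply hcl
  have key : ∀ n : ℕ, ∃ g ∈ A, ((c + n : ℕ) : ℕ∞) ≤ order (h - g) := by
    intro n
    induction n with
    | zero => exact ⟨0, A.zero_mem, by simpa using hh⟩
    | succ n ih =>
      obtain ⟨g, hg, hle⟩ := ih
      obtain ⟨p, hp, hpord⟩ := (hΓ (c + n)).mp (hc _ (Nat.le_add_right _ _))
      have hb : coeff (c + n) p ≠ 0 := (order_eq_nat.mp hpord).1
      refine ⟨g + (coeff (c + n) (h - g) / coeff (c + n) p) • p,
        A.add_mem hg (A.smul_mem hp _), ?_⟩
      apply nat_le_order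
      intro i hi
      rcases Nat.lt_succ_iff_lt_or_eq.mp hi with hlt | heq
      · have h1 : coeff i (h - g) = 0 :=
          coeff_of_lt_order i (lt_of_lt_of_le (by exact_mod_cast hlt) hle)
        have h2 : coeff i p = 0 :=
          coeff_of_lt_order i (by rw [hpord]; exact_mod_cast hlt)
        have : h - (g + (coeff (c + n) (h - g) / coeff (c + n) p) • p) =
            (h - g) - (coeff (c + n) (h - g) / coeff (c + n) p) • p := by ring
        rw [this, map_sub, h1, coeff_smul, h2]
        simp
      · have : h - (g + (coeff (c + n) (h - g) / coeff (c + n) p) • p) =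
            (h - g) - (coeff (c + n) (h - g) / coeff (c + n) p) • p := by ring
        have heq' : i = c + n := heq
        rw [heq', this, map_sub, coeff_smul, smul_eq_mul, div_mul_cancel₀ _ hb, sub_self]
  intro n
  obtain ⟨g, hg, hle⟩ := key n
  exact ⟨g, hg, le_trans (by exact_mod_cast Nat.le_add_left n c) hle⟩


/-- Let k be an algebraically closed field and A ≠ k[[t]] a k-subalgebra of k[[t]] that is closed in the
t-adic topology and over which k[[t]] is a finite module (as for the complete local ring of a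
unibranch curve singularity inside its normalisation), and let Γ ⊆ ℕ be the set of t-orders of the
nonzero elements of A (its value semigroup); let c be the conductor of Γ, so that every n ≥ c lies
in Γ and c − 1 does not. Then for a power series f, f · k[[t]] ⊆ A holds exactly when the order of f
is at least c: the conductor of A in k[[t]] is t^c · k[[t]], of codimension c. -/
theorem result (k : Type u) [Field k] [IsAlgClosed k] (A : Subalgebra k (PowerSeries k)) (hA : Module.Finite ↥A (PowerSeries k)) (hcl : ∀ f : PowerSeries k, (∀ n : ℕ, ∃ g ∈ A, (n : ℕ∞) ≤ PowerSeries.order (f - g)) → f ∈ A) (hsing : A ≠ ⊤) (Γ : Set ℕ) (hΓ : ∀ n : ℕ, n ∈ Γ ↔ ∃ f ∈ A, PowerSeries.order f = n) (c : ℕ) (hc : ∀ n : ℕ, c ≤ n → n ∈ Γ) (hc0 : c ≠ 0) (hc1 : c - 1 ∉ Γ) (f : PowerSeries k) : (∀ g : PowerSeries k, g * f ∈ A) ↔ (c : ℕ∞) ≤ PowerSeries.order f := by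
  constructor
  · intro h
    by_contra hlt
    rw [not_le] at hlt
    have hf0 : f ≠ 0 := by
      rintro rfl
      simp at hlt
    obtain ⟨m, hm⟩ : ∃ m : ℕ, PowerSeries.order f = m :=
      ⟨(PowerSeries.order f).toNat, (PowerSeries.coe_toNat_order hf0).symm⟩
    rw [hm] at hlt
    have hmc : m < c := by exact_mod_cast hlt
    apply hc1
    rw [hΓ]
    refine ⟨PowerSeries.X ^ (c - 1 - m) * f, h _, ?_⟩
    rw [PowerSeries.order_mul, PowerSeries.order_X_pow, hm]
    have : c - 1 - m + m = c - 1 := by omega
    exact_mod_cast this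
  · intro h g
    apply mem_of_le_order A hcl Γ hΓ c hc
    rw [PowerSeries.order_mul]
    exact le_trans h le_add_self

end Groth.Agent.S15016
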