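import Groth.Statements.S15017
-- import your own Groth.Agent.* helpers here

set_option autoImplicit false
open TFCurv

namespace Groth.Agent.S15017

/-- Let Γ be a numerical semigroup (a submonoid of (ℕ, +) with finite complement), Γ ≠ ℕ, with conductor
c (every n ≥ c lies in Γ, c − 1 does not). If Γ is symmetric (for x < c, x is a gap exactly when c −
1 − x ∈ Γ) and has multiplicity greater than 2 (neither 1 nor 2 lies in Γ), then Γ is generated by
its elements smaller than c: every minimal generator of Γ is less than the conductor. -/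
theorem result (Γ : AddSubmonoid ℕ) (c : ℕ) (hc : ∀ n : ℕ, c ≤ n → n ∈ Γ) (hc0 : c ≠ 0) (hc1 : c - 1 ∉ Γ) (hsymm : ∀ x : ℕ, x < c → (x ∉ Γ ↔ c - 1 - x ∈ Γ)) (he : (1 : ℕ) ∉ Γ ∧ (2 : ℕ) ∉ Γ) : AddSubmonoid.closure {γ : ℕ | γ ∈ Γ ∧ γ < c} = Γ := by
  classical
  apply le_antisymm
  · rw [AddSubmonoid.closure_le]
    rintro γ ⟨hγ, -⟩
    exact hγ
  · set Γ' := AddSubmonoid.closure {γ : ℕ | γ ∈ Γ ∧ γ < c} with hΓ'
    have hsmall : ∀ γ, γ ∈ Γ → γ < c → γ ∈ Γ' := fun γ h1 h2 =>
      AddSubmonoid.subset_closure ⟨h1, h2⟩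
    have hcΓ : c ∈ Γ := hc c le_rfl
    have hc3 : 3 ≤ c := by
      have h1 : c ≠ 1 := fun h => he.1 (h ▸ hcΓ)
      have h2 : c ≠ 2 := fun h => he.2 (h ▸ hcΓ)
      omega
    have hc2Γ : c - 2 ∈ Γ := by
      have := (hsymm 1 (by omega)).mp he.1
      have e' : c - 1 - 1 = c - 2 := by omega
      rwa [e'] at this
    have hc3Γ : c - 3 ∈ Γ := by
      have := (hsymm 2 (by omega)).mp he.2
      have e' : c - 1 - 2 = c - 3 := by omega
      rwa [e'] at this
    -- multiplicity
    have hex : ∃ γ, γ ∈ Γ ∧ γ ≠ 0 := ⟨c, hcΓ, hc0⟩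
    set e := Nat.find hex with he_def
    have heΓ : e ∈ Γ := (Nat.find_spec hex).1
    have he0 : e ≠ 0 := (Nat.find_spec hex).2
    have hemin : ∀ γ, γ ∈ Γ → γ ≠ 0 → e ≤ γ := fun γ h1 h2 => Nat.find_min' hex ⟨h1, h2⟩
    have he1 : e ≠ 1 := fun h => he.1 (h ▸ heΓ)
    have hec : e ≤ c - 2 := hemin _ hc2Γ (by omega)
    -- an element not divisible by e
    have hex2 : ∃ y, y ∈ Γ ∧ ¬ e ∣ y := by
      by_cases h : e ∣ c - 2
      · refine ⟨c - 3, hc3Γ, fun h' => ?_⟩
        have : e ∣ (c - 2) - (c - 3) := Nat.dvd_sub h h'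
        have e' : (c - 2) - (c - 3) = 1 := by omega
        rw [e'] at this
        exact he1 (Nat.dvd_one.mp this)
      · exact ⟨c - 2, hc2Γ, h⟩
    set g := Nat.find hex2 with hg_def
    have hgΓ : g ∈ Γ := (Nat.find_spec hex2).1
    have hgnd : ¬ e ∣ g := (Nat.find_spec hex2).2
    have hgmin : ∀ y, y ∈ Γ → ¬ e ∣ y → g ≤ y := fun y h1 h2 => Nat.find_min' hex2 ⟨h1, h2⟩
    have hgc : g ≤ c - 2 := by
      by_cases h : e ∣ c - 2
      · have h3 : ¬ e ∣ c - 3 := fun h' => by
          have : e ∣ (c - 2) - (c - 3) := Nat.dvd_sub h h'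
          have e' : (c - 2) - (c - 3) = 1 := by omega
          rw [e'] at this
          exact he1 (Nat.dvd_one.mp this)
        have := hgmin _ hc3Γ h3
        omega
      · exact hgmin _ hc2Γ h
    have hg0 : g ≠ 0 := fun h => hgnd (h ▸ dvd_zero e)
    have hge : e < g := by
      have h1 : e ≤ g := hemin g hgΓ hg0
      have h2 : e ≠ g := fun h => hgnd (h ▸ dvd_rfl)
      omega
    have hgap : g - e ∉ Γ := by
      intro h
      have hnd : ¬ e ∣ g - e := fun h' => by
        apply hgnd
        have := Nat.dvd_add h' (dvd_refl e)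
        have e' : g - e + e = g := by omega
        rwa [e'] at this
      have := hgmin _ h hnd
      omega
    have hbig : ∀ n, c ≤ n → n ∈ Γ' := by
      intro n
      induction n using Nat.strong_induction_on with
      | _ n ih =>
        intro hn
        by_cases h1 : c + e ≤ n
        · have h2 := ih (n - e) (by omega) (by omega)
          have h3 := Γ'.add_mem h2 (hsmall e heΓ (by omega))
          have e' : n - e + e = n := by omega
          rwa [e'] at h3
        · rw [not_le] at h1
          by_cases h2 : n = c + e - 1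
          · -- use g
            have hx : c - 1 - (g - e) ∈ Γ := (hsymm (g - e) (by omega)).mp hgap
            have h3 := Γ'.add_mem (hsmall _ hx (by omega)) (hsmall g hgΓ (by omega))
            have e' : c - 1 - (g - e) + g = n := by omega
            rwa [e'] at h3
          · -- use e
            have hxgap : e - (n - c + 1) ∉ Γ := by
              intro h
              have := hemin _ h (by omega)
              omega
            have hx : c - 1 - (e - (n - c + 1)) ∈ Γ :=
              (hsymm (e - (n - c + 1)) (by omega)).mp hxgap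
            have h3 := Γ'.add_mem (hsmall _ hx (by omega)) (hsmall e heΓ (by omega))
            have e' : c - 1 - (e - (n - c + 1)) + e = n := by omega
            rwa [e'] at h3
    intro n hn
    by_cases h : n < c
    · exact hsmall n hn h
    · exact hbig n (not_lt.mp h)

end Groth.Agent.S15017
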