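import Groth.Statements.S15018
-- import your own Groth.Agent.* helpers here

set_option autoImplicit false
open TFCurv

namespace Groth.Agent.S15018

/-- Let Γ be a numerical semigroup (a submonoid of (ℕ, +) with finite complement), Γ ≠ ℕ, with conductor
c (every n ≥ c lies in Γ, c − 1 does not). Then Γ is symmetric (for x < c, x is a gap exactly when c
− 1 − x ∈ Γ) if and only if there is exactly one gap n of Γ such that Γ ∪ {n} is again stable under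
adding elements of Γ, i.e. n + γ ∈ Γ for every nonzero γ ∈ Γ. -/
theorem result (Γ : AddSubmonoid ℕ) (c : ℕ) (hc : ∀ n : ℕ, c ≤ n → n ∈ Γ) (hc0 : c ≠ 0) (hc1 : c - 1 ∉ Γ) : (∀ x : ℕ, x < c → (x ∉ Γ ↔ c - 1 - x ∈ Γ)) ↔ ∃! n : ℕ, n ∉ Γ ∧ ∀ γ : ℕ, γ ∈ Γ → γ ≠ 0 → n + γ ∈ Γ := by
  have hgap : ∀ n, n ∉ Γ → n < c := fun n hn => by
    by_contra h
    exact hn (hc n (not_lt.mp h))
  have hPF : c - 1 ∉ Γ ∧ ∀ γ : ℕ, γ ∈ Γ → γ ≠ 0 → c - 1 + γ ∈ Γ :=
    ⟨hc1, fun γ _ hγ0 => hc _ (by omega)⟩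
  constructor
  · intro hsymm
    refine ⟨c - 1, hPF, ?_⟩
    rintro n ⟨hn, hn'⟩
    by_contra hne
    have hlt : n < c := hgap n hn
    have h1 : c - 1 - n ∈ Γ := (hsymm n hlt).mp hn
    have h2 := hn' _ h1 (by omega)
    have e : n + (c - 1 - n) = c - 1 := by omega
    rw [e] at h2
    exact hc1 h2
  · rintro ⟨n₀, -, huniq⟩ x hx
    have hn₀ : c - 1 = n₀ := huniq _ hPF
    constructor
    · intro hxΓ
      classical
      let T : Set ℕ := {m | m ∉ Γ ∧ ∃ γ ∈ Γ, m = x + γ}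
      have hTfin : T.Finite := (Set.finite_lt_nat c).subset fun m hm => hgap m hm.1
      have hTne : T.Nonempty := ⟨x, hxΓ, 0, Γ.zero_mem, by simp⟩
      obtain ⟨m, ⟨hmΓ, γ₀, hγ₀, hmeq⟩, hmax⟩ := hTfin.exists_maximal hTne
      have hmPF : m ∉ Γ ∧ ∀ γ : ℕ, γ ∈ Γ → γ ≠ 0 → m + γ ∈ Γ := by
        refine ⟨hmΓ, fun γ hγ hγ0 => ?_⟩
        by_contra h
        have hT : m + γ ∈ T := ⟨h, γ₀ + γ, Γ.add_mem hγ₀ hγ, by omega⟩
        have := hmax hT (by omega)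
        omega
      have hm : m = n₀ := huniq _ hmPF
      have e : c - 1 - x = γ₀ := by omega
      rw [e]
      exact hγ₀
    · intro h hxΓ
      have h2 := Γ.add_mem hxΓ h
      have e : x + (c - 1 - x) = c - 1 := by omega
      rw [e] at h2
      exact hc1 h2

end Groth.Agent.S15018
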