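import Groth.Statements.S15019
import Mathlib.Order.Interval.Finset.Nat
import Mathlib.Tactic.Positivity
-- import your own Groth.Agent.* helpers here

set_option autoImplicit false
open TFCurv

namespace Groth.Agent.S15019

/-- Let Γ be a numerical semigroup (a submonoid of (ℕ, +) with finite complement), Γ ≠ ℕ, with conductor
c (every n ≥ c lies in Γ, c − 1 does not), let e be its multiplicity (the least nonzero element of
Γ), and let S ⊆ ℕ be a Γ-module in normal form: 0 ∈ S and γ + s ∈ S for all γ ∈ Γ, s ∈ S. Then the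
set of gaps n of S with S ∪ {n} again a Γ-module (n + γ ∈ S for every nonzero γ ∈ Γ) has at most e −
1 elements, and so does the set of nonzero s ∈ S with S ∖ {s} again a Γ-module (s − γ ∉ S for every
nonzero γ ∈ Γ with γ ≤ s). -/
theorem result (Γ : AddSubmonoid ℕ) (c : ℕ) (hc : ∀ n : ℕ, c ≤ n → n ∈ Γ) (hc0 : c ≠ 0) (hc1 : c - 1 ∉ Γ) (e : ℕ) (he : e ∈ Γ) (he0 : e ≠ 0) (hemin : ∀ γ : ℕ, γ ∈ Γ → γ ≠ 0 → e ≤ γ) (S : Set ℕ) (hS0 : (0 : ℕ) ∈ S) (hS : ∀ γ : ℕ, γ ∈ Γ → ∀ s : ℕ, s ∈ S → γ + s ∈ S) : {n : ℕ | n ∉ S ∧ ∀ γ : ℕ, γ ∈ Γ → γ ≠ 0 → n + γ ∈ S}.encard ≤ ((e - 1 : ℕ) : ℕ∞) ∧ {s : ℕ | s ∈ S ∧ s ≠ 0 ∧ ∀ γ : ℕ, γ ∈ Γ → γ ≠ 0 → γ ≤ s → s - γ ∉ S}.encard ≤ ((e - 1 : ℕ) : ℕ∞) := by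
  have hΓS : ∀ n, n ∈ Γ → n ∈ S := fun n hn => by simpa using hS n hn 0 hS0
  have hke : ∀ k : ℕ, k * e ∈ Γ := fun k => by
    have := Γ.nsmul_mem he k
    simpa [smul_eq_mul] using this
  have hepos : 0 < e := Nat.pos_of_ne_zero he0
  have hcard : ((Finset.Ico 1 e : Finset ℕ) : Set ℕ).encard = ((e - 1 : ℕ) : ℕ∞) := by
    rw [Set.encard_coe_eq_coe_finsetCard, Nat.card_Ico]
  -- key arithmetic fact
  have hdiv : ∀ a b : ℕ, a < b → a % e = b % e → ∃ k : ℕ, k ≠ 0 ∧ b = a + k * e := by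
    intro a b hab hmod
    have h1 : (b - a) % e = 0 := Nat.sub_mod_eq_zero_of_mod_eq hmod.symm
    obtain ⟨k, hk⟩ := Nat.dvd_of_mod_eq_zero h1
    refine ⟨k, ?_, ?_⟩
    · rintro rfl
      simp at hk
      omega
    · rw [mul_comm] at hk
      omega
  constructor
  · rw [← hcard]
    apply Set.encard_le_encard_of_injOn (f := fun n => n % e)
    · rintro n ⟨hn, -⟩
      simp only [Finset.coe_Ico, Set.mem_Ico]
      refine ⟨?_, Nat.mod_lt _ hepos⟩
      by_contra h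
      have h0 : n % e = 0 := by omega
      obtain ⟨k, hk⟩ := Nat.dvd_of_mod_eq_zero h0
      apply hn
      rw [hk, mul_comm]
      exact hΓS _ (hke k)
    · rintro n₁ ⟨hn₁, hn₁'⟩ n₂ ⟨hn₂, hn₂'⟩ hmod
      simp only at hmod
      by_contra hne
      rcases Nat.lt_or_gt_of_ne hne with hlt | hlt
      · obtain ⟨k, hk0, hk⟩ := hdiv n₁ n₂ hlt hmod
        apply hn₂
        rw [hk]
        exact hn₁' _ (hke k) (by positivity)
      · obtain ⟨k, hk0, hk⟩ := hdiv n₂ n₁ hlt hmod.symm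
        apply hn₁
        rw [hk]
        exact hn₂' _ (hke k) (by positivity)
  · rw [← hcard]
    apply Set.encard_le_encard_of_injOn (f := fun n => n % e)
    · rintro s ⟨hs, hs0, hs'⟩
      simp only [Finset.coe_Ico, Set.mem_Ico]
      refine ⟨?_, Nat.mod_lt _ hepos⟩
      by_contra h
      have h0 : s % e = 0 := by omega
      obtain ⟨k, hk⟩ := Nat.dvd_of_mod_eq_zero h0
      have hsΓ : s ∈ Γ := by
        rw [hk, mul_comm]
        exact hke k
      have := hs' s hsΓ hs0 le_rfl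
      simp only [Nat.sub_self] at this
      exact this hS0
    · rintro s₁ ⟨hs₁, -, hs₁'⟩ s₂ ⟨hs₂, -, hs₂'⟩ hmod
      simp only at hmod
      by_contra hne
      rcases Nat.lt_or_gt_of_ne hne with hlt | hlt
      · obtain ⟨k, hk0, hk⟩ := hdiv s₁ s₂ hlt hmod
        have := hs₂' _ (hke k) (by positivity) (by omega)
        apply this
        have e' : s₂ - k * e = s₁ := by omega
        rw [e']
        exact hs₁
      · obtain ⟨k, hk0, hk⟩ := hdiv s₂ s₁ hlt hmod.symm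
        have := hs₁' _ (hke k) (by positivity) (by omega)
        apply this
        have e' : s₁ - k * e = s₂ := by omega
        rw [e']
        exact hs₂

end Groth.Agent.S15019
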