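import Groth.Statements.S15024
import Groth.Agent.Lib.Helper46.TorLES2
import Mathlib

set_option backward.isDefEq.respectTransparency false
set_option backward.defeqAttrib.useBackward true

set_option autoImplicit false
universe u
open CategoryTheory
open TFCurv

namespace Groth.Agent.S15024

open Groth.Agent.Lib.Helper46 MonoidalCategory CategoryTheory.Limits

/-- If `N ↪ K` with `K` flat and `F` flat, then `N ⊗ f` is injective for injective `f : F → M`. -/
lemma lTensor_injective_of_subK {O : Type u} [CommRing O] {K : Type u} [CommRing K] [Algebra O K]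
    [Module.Flat O K] {N : Type u} [AddCommGroup N] [Module O N] (ι : N →ₗ[O] K)
    (hι : Function.Injective ι) {F M : Type u} [AddCommGroup F] [Module O F] [Module.Flat O F]
    [AddCommGroup M] [Module O M] (f : F →ₗ[O] M) (hf : Function.Injective f) :
    Function.Injective (LinearMap.lTensor N f) := by
  have h1 : Function.Injective (LinearMap.rTensor F ι) :=
    Module.Flat.rTensor_preserves_injective_linearMap ι hι
  have h2 : Function.Injective (LinearMap.lTensor K f) :=
    Module.Flat.lTensor_preserves_injective_linearMap f hf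
  have h3 : (LinearMap.rTensor M ι) ∘ₗ (LinearMap.lTensor N f) =
      (LinearMap.lTensor K f) ∘ₗ (LinearMap.rTensor F ι) := by
    rw [LinearMap.rTensor_comp_lTensor, LinearMap.lTensor_comp_rTensor]
  have h4 : Function.Injective ((LinearMap.rTensor M ι) ∘ (LinearMap.lTensor N f)) := by
    rw [← LinearMap.coe_comp, h3, LinearMap.coe_comp]
    exact h2.comp h1
  exact Function.Injective.of_comp h4


/-- Let O be a one-dimensional Noetherian local domain with algebraically closed residue field whose
integral closure O~ in its fraction field K is a finite O-module, M a finitely generated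
torsion-free O-module and f : O^n → M an injective O-linear map whose cokernel T has finite length.
Then Tor_1^O(O~, M) and Tor_1^O(O~, T) are isomorphic (existence of an isomorphism only), and O~ ⊗_O
f : O~ ⊗ O^n → O~ ⊗ M is injective, so that 0 → O~^n → O~ ⊗ M → O~ ⊗ T → 0 is exact. -/
theorem result (O : Type u) [CommRing O] [IsDomain O] [IsNoetherianRing O] [IsLocalRing O] (hdim : ringKrullDim O = 1) [IsAlgClosed (IsLocalRing.ResidueField O)] (K : Type u) [Field K] [Algebra O K] [IsFractionRing O K] (hfin : Module.Finite O ↥(integralClosure O K)) (M : Type u) [AddCommGroup M] [Module O M] [Module.Finite O M] [NoZeroSMulDivisors O M] (n : ℕ) (f : (Fin n → O) →ₗ[O] M) (hf : Function.Injective f) (hT : IsFiniteLength O (M ⧸ LinearMap.range f)) : Nonempty (((Tor (ModuleCat.{u} O) 1).obj (ModuleCat.of O ↥(integralClosure O K))).obj (ModuleCat.of O M) ≅ ((Tor (ModuleCat.{u} O) 1).obj (ModuleCat.of O ↥(integralClosure O K))).obj (ModuleCat.of O (M ⧸ LinearMap.range f))) ∧ Function.Injective (LinearMap.lTensor ↥(integralClosure O K) f)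 := by
  have hinj : Function.Injective (LinearMap.lTensor ↥(integralClosure O K) f) := by
    haveI : Module.Flat O K := IsLocalization.flat K (nonZeroDivisors O)
    exact lTensor_injective_of_subK (integralClosure O K).val.toLinearMap Subtype.val_injective f hf
  refine ⟨?_, hinj⟩
  let S : ShortComplex (ModuleCat.{u} O) :=
    ModuleCat.shortComplexOfCompEqZero f (LinearMap.range f).mkQ
      f.exact_map_mkQ_range.linearMap_comp_eq_zero
  have hS : S.ShortExact := ModuleCat.shortComplex_shortExact S f.exact_map_mkQ_range hf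
    (Submodule.mkQ_surjective _)
  let N : ModuleCat.{u} O := ModuleCat.of O ↥(integralClosure O K)
  haveI : Module.Flat O S.X₁ := (inferInstance : Module.Flat O (Fin n → O))
  have hP : IsZero (((Tor (ModuleCat.{u} O) 1).obj N).obj S.X₁) :=
    TorLES.isZero_tor_succ_of_flat_right S.X₁ 0 N
  have e2 := TorLES2.exact₂₂ N S hS 1
  have e3 := TorLES2.exact₃₂ N S hS 0
  haveI hmono : Mono (((Tor (ModuleCat.{u} O) 1).obj N).map S.g) := e2.mono_g (hP.eq_of_src _ _)
  have hnat : ((Tor (ModuleCat.{u} O) 0).obj N).map S.f ≫ (TorLES.torZeroIso N).hom.app S.X₂ =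
      (TorLES.torZeroIso N).hom.app S.X₁ ≫ N ◁ S.f := (TorLES.torZeroIso N).hom.naturality S.f
  have hm : Mono (N ◁ S.f) := by
    rw [ModuleCat.mono_iff_injective]
    exact hinj
  have hm0 : Mono (((Tor (ModuleCat.{u} O) 0).obj N).map S.f) := by
    have : ((Tor (ModuleCat.{u} O) 0).obj N).map S.f = (TorLES.torZeroIso N).hom.app S.X₁ ≫
        N ◁ S.f ≫ (TorLES.torZeroIso N).inv.app S.X₂ := by
      rw [← reassoc_of% hnat, Iso.hom_inv_id_app, Category.comp_id]
    rw [this]
    have m1 : Mono ((TorLES.torZeroIso N).hom.app S.X₁) :=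
      @IsIso.mono_of_iso _ _ _ _ _ (((TorLES.torZeroIso N).app S.X₁).isIso_hom)
    have m3 : Mono ((TorLES.torZeroIso N).inv.app S.X₂) :=
      @IsIso.mono_of_iso _ _ _ _ _ (((TorLES.torZeroIso N).app S.X₂).isIso_inv)
    exact @mono_comp _ _ _ _ _ _ m1 _ (@mono_comp _ _ _ _ _ _ hm _ m3)
  have hz : TorLES2.δ₂ N S hS 0 = 0 := by
    rw [← cancel_mono (((Tor (ModuleCat.{u} O) 0).obj N).map S.f), TorLES2.δ₂_map_f, zero_comp]
  haveI hepi : Epi (((Tor (ModuleCat.{u} O) 1).obj N).map S.g) := e3.epi_f hz
  haveI : IsIso (((Tor (ModuleCat.{u} O) 1).obj N).map S.g) := isIso_of_mono_of_epi _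
  exact ⟨asIso (((Tor (ModuleCat.{u} O) 1).obj N).map S.g)⟩

end Groth.Agent.S15024
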