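import Groth.Statements.S15025
import Groth.Agent.Lib.Helper46.TorLES2
import Mathlib

set_option backward.isDefEq.respectTransparency false
set_option backward.defeqAttrib.useBackward true

set_option autoImplicit false
universe u
open CategoryTheory
open TFCurv

namespace Groth.Agent.S15025

open Groth.Agent.Lib.Helper46 MonoidalCategory CategoryTheory.Limits

/-- For `N ↪ K = Frac O` and `g : M → F` injective with `F` flat, the kernel of `N ⊗ g` is the
torsion submodule of `N ⊗ M`. -/
lemma ker_lTensor_eq_torsion {O : Type u} [CommRing O] [IsDomain O] {K : Type u} [Field K]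
    [Algebra O K] [IsFractionRing O K] {N : Type u} [AddCommGroup N] [Module O N] (ι : N →ₗ[O] K)
    (hι : Function.Injective ι) {M F : Type u} [AddCommGroup M] [Module O M] [AddCommGroup F]
    [Module O F] [Module.Flat O F] (g : M →ₗ[O] F) (hg : Function.Injective g) :
    LinearMap.ker (LinearMap.lTensor N g) = Submodule.torsion O (TensorProduct O N M) := by
  haveI : Module.Flat O K := IsLocalization.flat K (nonZeroDivisors O)
  apply le_antisymm
  · intro x hx
    rw [LinearMap.mem_ker] at hx
    haveI : Module.Flat O (TensorProduct O K N) := Module.Flat.trans O K _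
    have h1 : Function.Injective (LinearMap.lTensor (TensorProduct O K N) g) :=
      Module.Flat.lTensor_preserves_injective_linearMap g hg
    have h2 : Function.Injective (LinearMap.lTensor K (LinearMap.lTensor N g)) := by
      have h := LinearMap.lTensor_tensor (R := O) K (N := N) g
      have h' : (LinearMap.lTensor K (LinearMap.lTensor N g)) =
          (TensorProduct.assoc O K N F).toLinearMap ∘ₗ
            (LinearMap.lTensor (TensorProduct O K N) g) ∘ₗ
              (TensorProduct.assoc O K N M).symm.toLinearMap := by
        rw [h]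
        ext
        simp
      rw [h']
      exact (TensorProduct.assoc O K N F).injective.comp
        (h1.comp (TensorProduct.assoc O K N M).symm.injective)
    have h3 : (TensorProduct.mk O K (TensorProduct O N M) 1) x = 0 := by
      apply h2
      rw [map_zero, TensorProduct.mk_apply, LinearMap.lTensor_tmul, hx, TensorProduct.tmul_zero]
    rw [Submodule.mem_torsion_iff]
    exact (IsLocalizedModule.eq_zero_iff (nonZeroDivisors O)
      (TensorProduct.mk O K (TensorProduct O N M) 1)).mp h3
  · intro x hx
    rw [Submodule.mem_torsion_iff] at hx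
    obtain ⟨a, ha⟩ := hx
    rw [LinearMap.mem_ker]
    have h1 : Function.Injective (LinearMap.rTensor F ι) :=
      Module.Flat.rTensor_preserves_injective_linearMap ι hι
    apply h1
    rw [map_zero]
    have hay : (a : O) • (LinearMap.rTensor F ι (LinearMap.lTensor N g x)) = 0 := by
      rw [← map_smul, ← map_smul, ← Submonoid.smul_def, ha, map_zero, map_zero]
    rw [← algebraMap_smul K] at hay
    have hne : algebraMap O K (a : O) ≠ 0 := by
      intro h
      exact (nonZeroDivisors.ne_zero a.2) ((IsFractionRing.injective O K) (by rw [h, map_zero]))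
    exact (IsUnit.mk0 _ hne).smul_eq_zero.mp hay


/-- Let O be a one-dimensional Noetherian local domain with algebraically closed residue field whose
integral closure O~ in its fraction field K is a finite O-module, M a finitely generated
torsion-free O-module and g : M → O^n an injective O-linear map whose cokernel T' has finite length.
Then the torsion submodule of O~ ⊗_O M is O-linearly isomorphic to Tor_1^O(O~, T') (existence of an
isomorphism only). -/
theorem result (O : Type u) [CommRing O] [IsDomain O] [IsNoetherianRing O] [IsLocalRing O] (hdim : ringKrullDim O = 1) [IsAlgClosed (IsLocalRing.ResidueField O)] (K : Type u) [Field K] [Algebra O K] [IsFractionRing O K] (hfin : Module.Finite O ↥(integralClosure O K)) (M : Type u) [AddCommGroup M] [Module O M] [Module.Finite O M] [NoZeroSMulDivisors O M] (n : ℕ) (g : M →ₗ[O] (Fin n → O)) (hg : Function.Injective g) (hT : IsFiniteLength O ((Fin n → O) ⧸ LinearMap.range g)) : Nonempty (↥(Submodule.torsion O (TensorProduct O ↥(integralClosure O K) M)) ≃ₗ[O] ↑(((Tor (ModuleCat.{u} O) 1).obj (ModuleCat.of O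 ↥(integralClosure O K))).obj (ModuleCat.of O ((Fin n → O) ⧸ LinearMap.range g)))) := by
  let S : ShortComplex (ModuleCat.{u} O) :=
    ModuleCat.shortComplexOfCompEqZero g (LinearMap.range g).mkQ
      g.exact_map_mkQ_range.linearMap_comp_eq_zero
  have hS : S.ShortExact := ModuleCat.shortComplex_shortExact S g.exact_map_mkQ_range hg
    (Submodule.mkQ_surjective _)
  let N : ModuleCat.{u} O := ModuleCat.of O ↥(integralClosure O K)
  haveI : Module.Flat O S.X₂ := (inferInstance : Module.Flat O (Fin n → O))
  have hP : IsZero (((Tor (ModuleCat.{u} O) 1).obj N).obj S.X₂) :=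
    TorLES.isZero_tor_succ_of_flat_right S.X₂ 0 N
  have e3 := TorLES2.exact₃₂ N S hS 0
  have e1 := TorLES2.exact₁₂ N S hS 0
  haveI hmono : Mono (TorLES2.δ₂ N S hS 0) := e3.mono_g (hP.eq_of_src _ _)
  have hnat : ((Tor (ModuleCat.{u} O) 0).obj N).map S.f ≫ (TorLES.torZeroIso N).hom.app S.X₂ =
      (TorLES.torZeroIso N).hom.app S.X₁ ≫ N ◁ S.f := (TorLES.torZeroIso N).hom.naturality S.f
  obtain ⟨φ, hφ⟩ : ∃ φ : ((Tor (ModuleCat.{u} O) 1).obj N).obj S.X₃ ⟶ N ⊗ S.X₁,
      φ = TorLES2.δ₂ N S hS 0 ≫ (TorLES.torZeroIso N).hom.app S.X₁ := ⟨_, rfl⟩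
  have hφmono : Mono φ := by
    rw [hφ]
    have m1 : Mono ((TorLES.torZeroIso N).hom.app S.X₁) :=
      @IsIso.mono_of_iso _ _ _ _ _ (((TorLES.torZeroIso N).app S.X₁).isIso_hom)
    exact @mono_comp _ _ _ _ _ _ hmono _ m1
  have hφinj : Function.Injective φ.hom := (ModuleCat.mono_iff_injective φ).mp hφmono
  have hw : φ ≫ N ◁ S.f = 0 := by
    rw [hφ, Category.assoc, ← hnat, TorLES2.δ₂_map_f_assoc, zero_comp]
  have hex : (ShortComplex.mk φ (N ◁ S.f) hw).Exact := by
    refine ShortComplex.exact_of_iso ?_ e1
    refine ShortComplex.isoMk (Iso.refl _) ((TorLES.torZeroIso N).app S.X₁)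
      ((TorLES.torZeroIso N).app S.X₂) ?_ ?_
    · simp [hφ]
    · exact hnat.symm
  have hrange : LinearMap.range φ.hom = LinearMap.ker (N ◁ S.f).hom :=
    (ShortComplex.moduleCat_exact_iff_range_eq_ker _).mp hex
  have hker : LinearMap.ker (N ◁ S.f).hom =
      Submodule.torsion O (TensorProduct O ↥(integralClosure O K) M) :=
    ker_lTensor_eq_torsion (integralClosure O K).val.toLinearMap Subtype.val_injective g hg
  exact ⟨((LinearEquiv.ofInjective φ.hom hφinj).trans
    (LinearEquiv.ofEq _ _ (hrange.trans hker))).symm⟩

end Groth.Agent.S15025
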