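import Groth.Statements.S15034
import Mathlib

set_option autoImplicit false
universe u
open TFCurv

namespace Groth.Agent.S15034

/-- Let k be an algebraically closed field and A ≠ k[[t]] a k-subalgebra of k[[t]] that is closed in the
t-adic topology and over which k[[t]] is a finite module (as for the complete local ring of a
unibranch curve singularity inside its normalisation), and let Γ ⊆ ℕ be the set of t-orders of the
nonzero elements of A (its value semigroup). Let M, N be finitely generated A-submodules of k[[t]]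
containing 1 (rank-one torsion-free modules in normal form), with value sets Γ(M), Γ(N) (orders of
their nonzero elements); the A-linear maps M → N are the multiplications by power series u with uM ⊆
N. Then the order of every such nonzero u satisfies n + Γ(M) ⊆ Γ(N), and although the set of these
orders can be smaller than S = {n | n + Γ(M) ⊆ Γ(N)}, the two sets have the same conductor: for
every c', all integers n ≥ c' are orders of multipliers exactly when all n ≥ c' lie in S. -/
theorem result (k : Type u) [Field k] [IsAlgClosed k] (A : Subalgebra k (PowerSeries k)) (hA : Module.Finite ↥A (PowerSeries k)) (hcl : ∀ f : PowerSeries k, (∀ n : ℕ, ∃ g ∈ A, (n : ℕ∞) ≤ PowerSeries.order (f - g)) → f ∈ A) (hsing : A ≠ ⊤) (Γ : Set ℕ) (hΓ : ∀ n : ℕ, n ∈ Γ ↔ ∃ f ∈ A, PowerSeries.order f = n) (M N : Submodule ↥A (PowerSeries k)) (hMfg : M.FG) (hNfg : N.FG) (hM1 : (1 : PowerSeries k) ∈ M) (hN1 : (1 : PowerSeries k) ∈ N) (ΓM ΓN : Set ℕ) (hΓM : ∀ n : ℕ, n ∈ ΓM ↔ ∃ f ∈ M, PowerSeries.order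 f = n) (hΓN : ∀ n : ℕ, n ∈ ΓN ↔ ∃ f ∈ N, PowerSeries.order f = n) : (∀ n : ℕ, (∃ u : PowerSeries k, PowerSeries.order u = n ∧ ∀ m ∈ M, u * m ∈ N) → ∀ a ∈ ΓM, n + a ∈ ΓN) ∧ ∀ c' : ℕ, (∀ n : ℕ, c' ≤ n → ∃ u : PowerSeries k, PowerSeries.order u = n ∧ ∀ m ∈ M, u * m ∈ N) ↔ (∀ n : ℕ, c' ≤ n → ∀ a ∈ ΓM, n + a ∈ ΓN) := by
  classical
  have P1 : ∀ n : ℕ, (∃ u : PowerSeries k, PowerSeries.order u = n ∧ ∀ m ∈ M, u * m ∈ N) →
      ∀ a ∈ ΓM, n + a ∈ ΓN := by
    rintro n ⟨u, hu, huM⟩ a ha
    obtain ⟨f, hfM, hf⟩ := (hΓM a).mp ha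
    refine (hΓN _).mpr ⟨u * f, huM f hfM, ?_⟩
    rw [PowerSeries.order_mul, hu, hf]
    exact (Nat.cast_add n a).symm
  refine ⟨P1, fun c' => ⟨fun h n hn => P1 n (h n hn), fun hS => ?_⟩⟩
  have h0M : (0 : ℕ) ∈ ΓM := (hΓM 0).mpr ⟨1, hM1, by simp⟩
  have hΓN' : ∀ n, c' ≤ n → n ∈ ΓN := fun n hn => by simpa using hS n hn 0 h0M
  suffices hmain : ∀ h : PowerSeries k, (c' : ℕ∞) ≤ PowerSeries.order h → h ∈ N by
    intro n hn
    refine ⟨PowerSeries.X ^ n, PowerSeries.order_X_pow n, fun m _ => hmain _ ?_⟩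
    rw [PowerSeries.order_mul, PowerSeries.order_X_pow]
    exact le_trans (by exact_mod_cast hn) le_self_add
  -- geometric series inside `A`
  have hgeom : ∀ z : PowerSeries k, z ∈ A → PowerSeries.constantCoeff z = 0 →
      ∃ w ∈ A, (1 - z) * w = 1 := by
    intro z hzA hz0
    have hu : IsUnit (1 - z) := by
      rw [PowerSeries.isUnit_iff_constantCoeff, map_sub, map_one, hz0, sub_zero]
      exact isUnit_one
    obtain ⟨w, hw⟩ := hu.exists_right_inv
    refine ⟨w, ?_, hw⟩
    apply hcl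
    intro n
    refine ⟨∑ i ∈ Finset.range n, z ^ i, A.sum_mem (fun i _ => A.pow_mem hzA i), ?_⟩
    have h1 : w - ∑ i ∈ Finset.range n, z ^ i = z ^ n * w := by
      have h2 : (∑ i ∈ Finset.range n, z ^ i) * (1 - z) = 1 - z ^ n := geom_sum_mul_neg z n
      calc w - ∑ i ∈ Finset.range n, z ^ i
          = w - (∑ i ∈ Finset.range n, z ^ i) * ((1 - z) * w) := by rw [hw, mul_one]
        _ = w - ((∑ i ∈ Finset.range n, z ^ i) * (1 - z)) * w := by ring
        _ = z ^ n * w := by rw [h2]; ring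
    obtain ⟨z', rfl⟩ : PowerSeries.X ∣ z := PowerSeries.X_dvd_iff.mpr hz0
    rw [h1, mul_pow, mul_assoc, PowerSeries.order_mul, PowerSeries.order_X_pow]
    exact le_self_add
  -- the ideal of elements of `A` without constant term
  let φ : ↥A →+* k := (PowerSeries.constantCoeff (R := k)).comp A.val.toRingHom
  have hφ : ∀ a : ↥A, φ a = PowerSeries.constantCoeff (a : PowerSeries k) := fun a => rfl
  have hI_jac : RingHom.ker φ ≤ Ideal.jacobson ⊥ := by
    intro a ha
    rw [Ideal.mem_jacobson_bot]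
    intro b
    have ha0 : PowerSeries.constantCoeff (a : PowerSeries k) = 0 := by
      rw [← hφ]
      exact ha
    obtain ⟨w, hwA, hw⟩ := hgeom (-((a : PowerSeries k) * (b : PowerSeries k)))
      (A.neg_mem (A.mul_mem a.2 b.2)) (by rw [map_neg, map_mul, ha0, zero_mul, neg_zero])
    rw [isUnit_iff_exists_inv]
    refine ⟨⟨w, hwA⟩, Subtype.ext ?_⟩
    show ((a : PowerSeries k) * (b : PowerSeries k) + 1) * w = 1
    have h9 : ((a : PowerSeries k) * (b : PowerSeries k) + 1) * w =
        (1 - -((a : PowerSeries k) * (b : PowerSeries k))) * w := by ring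
    rw [h9, hw]
  -- a nonzero element without constant term
  obtain ⟨g, hgI, hg0⟩ : ∃ g : ↥A, g ∈ RingHom.ker φ ∧ g ≠ 0 := by
    by_contra hcon
    have hfield : IsField ↥A := by
      refine ⟨⟨0, 1, zero_ne_one⟩, mul_comm, ?_⟩
      intro a ha
      have haI : a ∉ RingHom.ker φ := fun h => hcon ⟨a, h, ha⟩
      have hc : PowerSeries.constantCoeff (a : PowerSeries k) ≠ 0 := by
        rw [← hφ]
        exact haI
      obtain ⟨c, hcdef⟩ : ∃ c : k, c = PowerSeries.constantCoeff (a : PowerSeries k) := ⟨_, rfl⟩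
      rw [← hcdef] at hc
      obtain ⟨w, hwA, hw⟩ := hgeom (1 - c⁻¹ • (a : PowerSeries k))
        (A.sub_mem A.one_mem (A.smul_mem a.2 _))
        (by rw [map_sub, map_one, PowerSeries.constantCoeff_smul, ← hcdef, smul_eq_mul,
          inv_mul_cancel₀ hc, sub_self])
      refine ⟨⟨c⁻¹ • w, A.smul_mem hwA _⟩, Subtype.ext ?_⟩
      show (a : PowerSeries k) * (c⁻¹ • w) = 1
      have h9 : (a : PowerSeries k) * (c⁻¹ • w) = (1 - (1 - c⁻¹ • (a : PowerSeries k))) * w := by
        simp only [Algebra.smul_def]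
        ring
      rw [h9, hw]
    haveI : Module.Finite ↥A (PowerSeries k) := hA
    haveI : Algebra.IsIntegral ↥A (PowerSeries k) := Algebra.IsIntegral.of_finite ↥A (PowerSeries k)
    have hF : IsField (PowerSeries k) := isField_of_isIntegral_of_isField' hfield
    obtain ⟨y, hy⟩ := hF.mul_inv_cancel (PowerSeries.X_ne_zero (R := k))
    have h1 := congrArg PowerSeries.constantCoeff hy
    simp at h1
  have hgne : (g : PowerSeries k) ≠ 0 := fun h => hg0 (Subtype.ext h)
  have hg00 : PowerSeries.constantCoeff (g : PowerSeries k) = 0 := by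
    rw [← hφ]
    exact hgI
  obtain ⟨e, he⟩ : ∃ e : ℕ, (e : ℕ∞) = PowerSeries.order (g : PowerSeries k) :=
    ENat.ne_top_iff_exists.mp (mt PowerSeries.order_eq_top.mp hgne)
  obtain ⟨γ, hγ⟩ : PowerSeries.X ^ e ∣ (g : PowerSeries k) :=
    PowerSeries.X_pow_dvd_iff.mpr (fun m hm => PowerSeries.coeff_of_lt_order m (by
      rw [← he]
      exact_mod_cast hm))
  have hγu : IsUnit γ := by
    rw [PowerSeries.isUnit_iff_constantCoeff]
    apply IsUnit.mk0
    have h1 : PowerSeries.coeff e (g : PowerSeries k) ≠ 0 :=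
      (PowerSeries.order_eq_nat.mp he.symm).1
    have h2 := PowerSeries.coeff_X_pow_mul γ e 0
    rw [zero_add, ← hγ, PowerSeries.coeff_zero_eq_constantCoeff_apply] at h2
    rw [← h2]
    exact h1
  obtain ⟨γ', hγ'⟩ := hγu.exists_right_inv
  -- the Nakayama argument
  intro h hh
  let μ : PowerSeries k →ₗ[↥A] PowerSeries k := LinearMap.mulLeft ↥A (PowerSeries.X ^ c')
  have hμ : ∀ r, μ r = PowerSeries.X ^ c' * r := fun r => rfl
  have hPfg : (Submodule.map μ ⊤).FG := Submodule.FG.map μ (Module.finite_def.mp hA)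
  have hPle : Submodule.map μ ⊤ ≤ N := by
    apply Submodule.le_of_le_smul_of_le_jacobson_bot hPfg hI_jac
    rintro _ ⟨r, -, rfl⟩
    rw [hμ]
    have key : ∀ j : ℕ, ∃ y ∈ N, ((c' + j : ℕ) : ℕ∞) ≤
        PowerSeries.order (PowerSeries.X ^ c' * r - y) := by
      intro j
      induction j with
      | zero =>
        refine ⟨0, N.zero_mem, ?_⟩
        rw [sub_zero, PowerSeries.order_mul, PowerSeries.order_X_pow]
        exact le_self_add
      | succ j ih =>
        obtain ⟨y, hy, hle⟩ := ih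
        obtain ⟨p, hp, hpord⟩ := (hΓN (c' + j)).mp (hΓN' _ (Nat.le_add_right _ _))
        have hb : PowerSeries.coeff (c' + j) p ≠ 0 := (PowerSeries.order_eq_nat.mp hpord).1
        obtain ⟨D, hD⟩ : ∃ D, D = PowerSeries.X ^ c' * r - y := ⟨_, rfl⟩
        rw [← hD] at hle
        obtain ⟨t, ht⟩ : ∃ t : k, t = PowerSeries.coeff (c' + j) D / PowerSeries.coeff (c' + j) p :=
          ⟨_, rfl⟩
        have hsm : t • p ∈ N := by
          have h1 : t • p = (algebraMap k ↥A t) • p := (algebraMap_smul ↥A t p).symm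
          rw [h1]
          exact N.smul_mem _ hp
        refine ⟨y + t • p, N.add_mem hy hsm, ?_⟩
        have h2 : PowerSeries.X ^ c' * r - (y + t • p) = D - t • p := by
          rw [hD]
          ring
        rw [h2]
        apply PowerSeries.nat_le_order
        intro i hi
        rcases Nat.lt_succ_iff_lt_or_eq.mp hi with hlt | heq
        · have h3 : PowerSeries.coeff i D = 0 :=
            PowerSeries.coeff_of_lt_order i (lt_of_lt_of_le (by exact_mod_cast hlt) hle)
          have h4 : PowerSeries.coeff i p = 0 :=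
            PowerSeries.coeff_of_lt_order i (by rw [hpord]; exact_mod_cast hlt)
          rw [map_sub, h3, PowerSeries.coeff_smul, h4]
          simp
        · have heq' : i = c' + j := heq
          rw [heq', map_sub, PowerSeries.coeff_smul, smul_eq_mul, ht, div_mul_cancel₀ _ hb,
            sub_self]
    obtain ⟨y, hy, hle⟩ := key e
    obtain ⟨d, hd⟩ : PowerSeries.X ^ (c' + e) ∣ (PowerSeries.X ^ c' * r - y) :=
      PowerSeries.X_pow_dvd_iff.mpr (fun m hm => PowerSeries.coeff_of_lt_order m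
        (lt_of_lt_of_le (by exact_mod_cast hm) hle))
    have h5 : PowerSeries.X ^ c' * r = y + g • (μ (γ' * d)) := by
      have h6 : g • (μ (γ' * d)) = (g : PowerSeries k) * (PowerSeries.X ^ c' * (γ' * d)) := rfl
      rw [h6, hγ]
      have h7 : PowerSeries.X ^ e * γ * (PowerSeries.X ^ c' * (γ' * d)) =
          PowerSeries.X ^ (c' + e) * d * (γ * γ') := by
        rw [pow_add]
        ring
      rw [h7, hγ', mul_one, ← hd]
      ring
    rw [h5]
    exact Submodule.add_mem_sup hy
      (Submodule.smul_mem_smul hgI ⟨γ' * d, trivial, rfl⟩)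
  apply hPle
  obtain ⟨r, rfl⟩ : PowerSeries.X ^ c' ∣ h :=
    PowerSeries.X_pow_dvd_iff.mpr (fun m hm => PowerSeries.coeff_of_lt_order m
      (lt_of_lt_of_le (by exact_mod_cast hm) hh))
  exact ⟨r, trivial, rfl⟩

end Groth.Agent.S15034
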