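import Groth.Statements.S15036
import Mathlib.Tactic
-- import your own Groth.Agent.* helpers here

set_option autoImplicit false
open TFCurv

namespace Groth.Agent.S15036

/-- Let Γ be a numerical semigroup (a submonoid of (ℕ, +) with finite complement), Γ ≠ ℕ, with conductor
c (every n ≥ c lies in Γ, c − 1 does not); let S ⊆ ℕ be a Γ-module in normal form (0 ∈ S, γ + s ∈ S
for γ ∈ Γ, s ∈ S) with conductor c(S) (all n ≥ c(S) in S, c(S) − 1 ∉ S), and let s be a gap of S
such that S ∪ {s} is again a Γ-module. Enumerate S increasingly as s_0 < s_1 < ⋯ and put τ_i(S) =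
s_i + ℓ(S), where ℓ counts the gaps of Γ filled; since ℓ(S ∪ {s}) = ℓ(S) + 1, the termwise
comparison τ(S) ≤ τ(S ∪ {s}) says that the i-th element of S is at most one more than the i-th
element of S ∪ {s} for every i. This holds if and only if s = c(S) − 1, the largest gap of S. -/
theorem result (Γ : AddSubmonoid ℕ) (c : ℕ) (hc : ∀ n : ℕ, c ≤ n → n ∈ Γ) (hc0 : c ≠ 0) (hc1 : c - 1 ∉ Γ) (S : Set ℕ) (hS0 : (0 : ℕ) ∈ S) (hS : ∀ γ : ℕ, γ ∈ Γ → ∀ s : ℕ, s ∈ S → γ + s ∈ S) (cS : ℕ) (hcS : ∀ n : ℕ, cS ≤ n → n ∈ S) (hcS0 : cS ≠ 0) (hcS1 : cS - 1 ∉ S) (s : ℕ) (hs : s ∉ S) (hs' : ∀ γ : ℕ, γ ∈ Γ → γ ≠ 0 → s + γ ∈ S) : (∀ i : ℕ, Nat.nth (fun m => m ∈ S) i ≤ Nat.nth (fun m => m ∈ insert s S) i + 1) ↔ s + 1 = cS := by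
  classical
  set pS : ℕ → Prop := fun m => m ∈ S with hpS
  set pT : ℕ → Prop := fun m => m ∈ insert s S with hpT
  have hinfS : (Set.ofPred pS).Infinite := by
    apply Set.Infinite.mono (s := Set.Ici cS)
    · intro n hn
      exact hcS n hn
    · exact Set.Ici_infinite cS
  have hinfT : (Set.ofPred pT).Infinite := by
    apply Set.Infinite.mono (s := Set.ofPred pS) _ hinfS
    intro n hn
    exact Set.mem_insert_of_mem s hn
  -- relation between the two counting functions
  have hcount : ∀ n : ℕ, Nat.count pT n = Nat.count pS n + if s < n then 1 else 0 := by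
    intro n
    induction n with
    | zero => simp
    | succ n ih =>
      rw [Nat.count_succ, Nat.count_succ, ih]
      by_cases hns : n = s
      · subst hns
        have h1 : pT n := Set.mem_insert n S
        have h2 : ¬ pS n := hs
        simp [h1, h2]
      · have h1 : pT n ↔ pS n := by
          simp only [hpT, hpS, Set.mem_insert_iff]
          constructor
          · rintro (h | h)
            · exact absurd h hns
            · exact h
          · exact fun h => Or.inr h
        by_cases hn : pS n
        · have hn' : pT n := h1.mpr hn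
          simp only [hn, hn', if_true]
          by_cases hlt : s < n
          · have : s < n + 1 := by omega
            simp [hlt, this]
          · have : ¬ s < n + 1 := by omega
            simp [hlt, this]
        · have hn' : ¬ pT n := fun h => hn (h1.mp h)
          simp only [hn, hn', if_false]
          by_cases hlt : s < n
          · have : s < n + 1 := by omega
            simp [hlt, this]
          · have : ¬ s < n + 1 := by omega
            simp [hlt, this]
  have hscS : s < cS := by
    by_contra h
    exact hs (hcS s (not_lt.mp h))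
  constructor
  · intro hall
    by_contra hne
    have hlt : s + 1 < cS := by omega
    -- i := count of S below cS
    set i := Nat.count pS cS with hi
    have hcSmem : pS cS := hcS cS le_rfl
    have hnthS : Nat.nth pS i = cS := Nat.nth_count hcSmem
    have hi' : Nat.count pS (cS - 1) = i := by
      have : cS = (cS - 1) + 1 := by omega
      rw [hi]
      conv_rhs => rw [this, Nat.count_succ]
      have : ¬ pS (cS - 1) := hcS1
      simp [this]
    have hcT : i < Nat.count pT (cS - 1) := by
      rw [hcount, hi']
      have : s < cS - 1 := by omega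
      simp [this]
    have hnthT : Nat.nth pT i < cS - 1 := Nat.nth_lt_of_lt_count hcT
    have := hall i
    change Nat.nth pS i ≤ Nat.nth pT i + 1 at this
    rw [hnthS] at this
    omega
  · intro hsc i
    change Nat.nth pS i ≤ Nat.nth pT i + 1
    set y := Nat.nth pT i with hy
    have hyT : pT y := Nat.nth_mem_of_infinite hinfT i
    have hcy : Nat.count pT y = i := Nat.count_nth_of_infinite hinfT i
    have hlt : i < Nat.count pS (y + 2) := by
      have e : y + 2 = (y + 1) + 1 := rfl
      rw [e, Nat.count_succ, Nat.count_succ, ← hcy, hcount]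
      have hyT' : y = s ∨ y ∈ S := hyT
      rcases hyT' with hys | hyS
      · have h1 : ¬ s < y := by omega
        have h2 : pS (y + 1) := hcS _ (by omega)
        simp [h1, h2]
      · have h1 : pS y := hyS
        by_cases hsy : s < y
        · have h2 : pS (y + 1) := hcS _ (by omega)
          simp [h1, h2, hsy]
        · simp [h1, hsy]
          omega
    have := Nat.nth_lt_of_lt_count hlt
    omega

end Groth.Agent.S15036
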