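import Groth.Statements.S15037
import Mathlib.Tactic
-- import your own Groth.Agent.* helpers here

set_option autoImplicit false
open TFCurv

namespace Groth.Agent.S15037

theorem facts (S : Set ℕ) (cS : ℕ) (hcS : ∀ n : ℕ, cS ≤ n → n ∈ S) (hcS1 : cS = 0 ∨ cS - 1 ∉ S) :
    (∀ i : ℕ, Nat.nth (fun m => m ∈ S) i ≤ i + Sᶜ.ncard) ∧
    (∀ i : ℕ, (S ∩ Set.Iio cS).ncard ≤ i → Nat.nth (fun m => m ∈ S) i = i + Sᶜ.ncard) ∧
    (∀ i : ℕ, i < (S ∩ Set.Iio cS).ncard → Nat.nth (fun m => m ∈ S) i + 1 ≤ i + Sᶜ.ncard) := by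
  classical
  set p : ℕ → Prop := fun m => m ∈ S with hp
  set r := (S ∩ Set.Iio cS).ncard with hr
  set δ := Sᶜ.ncard with hδ
  have hinf : (Set.ofPred p).Infinite := by
    apply Set.Infinite.mono (s := Set.Ici cS)
    · intro n hn
      exact hcS n hn
    · exact Set.Ici_infinite cS
  -- r = count below cS
  have hrc : r = Nat.count p cS := by
    rw [Nat.count_eq_card_filter_range, hr, ← Set.ncard_coe_finset]
    congr 1
    ext x
    simp [hp, and_comm]
  have hδc : r + δ = cS := by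
    have h1 : δ = ((Finset.range cS).filter (fun x => ¬ p x)).card := by
      rw [hδ, ← Set.ncard_coe_finset]
      congr 1
      ext x
      simp only [Set.mem_compl_iff, Finset.coe_filter, Finset.mem_range, Set.mem_ofPred_eq, hp]
      constructor
      · intro hx
        refine ⟨?_, hx⟩
        by_contra h
        exact hx (hcS x (not_lt.mp h))
      · exact fun h => h.2
    have h2 := Finset.card_filter_add_card_filter_not (s := Finset.range cS) (p := p)
    rw [Finset.card_range, ← Nat.count_eq_card_filter_range, ← hrc, ← h1] at h2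
    exact h2
  -- growth of count
  have hgrow : ∀ a k : ℕ, Nat.count p (a + k) ≤ Nat.count p a + k := by
    intro a k
    rw [Nat.count_add]
    exact Nat.add_le_add_left (Nat.count_le _) _
  have habove : ∀ k : ℕ, Nat.count p (cS + k) = r + k := by
    intro k
    rw [Nat.count_add, ← hrc]
    congr 1
    rw [Nat.count_iff_forall]
    intro n' _
    exact hcS _ (by omega)
  have hgen : ∀ n : ℕ, n ≤ Nat.count p n + δ := by
    intro n
    rcases le_total n cS with h | h
    · obtain ⟨k, rfl⟩ := Nat.exists_eq_add_of_le h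
      have := hgrow n k
      rw [← hrc] at this
      omega
    · obtain ⟨k, rfl⟩ := Nat.exists_eq_add_of_le h
      rw [habove]
      omega
  refine ⟨?_, ?_, ?_⟩
  · intro i
    have h1 := hgen (Nat.nth p i)
    rw [Nat.count_nth_of_infinite hinf] at h1
    exact h1
  · intro i hi
    obtain ⟨k, rfl⟩ := Nat.exists_eq_add_of_le hi
    have hmem : p (cS + k) := hcS _ (by omega)
    have := Nat.nth_count hmem
    rw [habove] at this
    rw [this]
    omega
  · intro i hi
    set x := Nat.nth p i with hx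
    have hxm : p x := Nat.nth_mem_of_infinite hinf i
    have hcx : Nat.count p x = i := Nat.count_nth_of_infinite hinf i
    have hxlt : x < cS := by
      apply Nat.lt_of_count_lt_count (p := p)
      rw [hcx, ← hrc]
      exact hi
    have hc0 : cS ≠ 0 := by omega
    have hgap : ¬ p (cS - 1) := by
      rcases hcS1 with h | h
      · exact absurd h hc0
      · exact h
    have hx1 : x < cS - 1 := by
      have : x ≠ cS - 1 := by
        rintro h
        rw [h] at hxm
        exact hgap hxm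
      omega
    have hcc : Nat.count p cS = Nat.count p (cS - 1) := by
      have : cS = (cS - 1) + 1 := by omega
      conv_lhs => rw [this, Nat.count_succ]
      simp [hgap]
    obtain ⟨k, hk⟩ := Nat.exists_eq_add_of_le hx1.le
    have := hgrow x k
    rw [← hk, ← hcc, ← hrc, hcx] at this
    omega

/-- Let Γ be a numerical semigroup (a submonoid of (ℕ, +) with finite complement), Γ ≠ ℕ, with conductor
c (every n ≥ c lies in Γ, c − 1 does not); let S and S' ⊆ ℕ be Γ-modules in normal form with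
conductors c(S), c(S'), let δ(S), δ(S') be their numbers of gaps and r(S), r(S') their numbers of
elements below the conductor, and enumerate them increasingly as s_i, s'_i (i ≥ 0). With τ_i(S) =
s_i + ℓ(S) and ℓ(S) = δ(Γ) − δ(S), the termwise order τ(S) ≤ τ(S') reads s_i + δ(S') ≤ s'_i + δ(S)
for all i. It holds if and only if r(S') ≤ r(S) and s_i + δ(S') ≤ s'_i + δ(S) for all i < r(S')
(beyond r(S) the entries τ_i(S) = i + δ(Γ) are the largest possible). -/
theorem result (Γ : AddSubmonoid ℕ) (c : ℕ) (hc : ∀ n : ℕ, c ≤ n → n ∈ Γ) (hc0 : c ≠ 0) (hc1 : c - 1 ∉ Γ) (S : Set ℕ) (hS0 : (0 : ℕ) ∈ S) (hS : ∀ γ : ℕ, γ ∈ Γ → ∀ s : ℕ, s ∈ S → γ + s ∈ S) (cS : ℕ) (hcS : ∀ n : ℕ, cS ≤ n → n ∈ S) (hcS1 : cS = 0 ∨ cS - 1 ∉ S) (S' : Set ℕ) (hS'0 : (0 : ℕ) ∈ S') (hS' : ∀ γ : ℕ, γ ∈ Γ → ∀ s : ℕ, s ∈ S' → γ + s ∈ S') (cS' : ℕ) (hcS' : ∀ n : ℕ, cS' ≤ n → n ∈ S') (hcS'1 : cS' = 0 ∨ cS' - 1 ∉ S') : (∀ i : ℕ, Nat.nth (fun m => m ∈ S) i + S'ᶜ.ncard ≤ Nat.nth (fun m => m ∈ S') i +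 Sᶜ.ncard) ↔ ((S' ∩ Set.Iio cS').ncard ≤ (S ∩ Set.Iio cS).ncard ∧ ∀ i : ℕ, i < (S' ∩ Set.Iio cS').ncard → Nat.nth (fun m => m ∈ S) i + S'ᶜ.ncard ≤ Nat.nth (fun m => m ∈ S') i + Sᶜ.ncard) := by
  obtain ⟨a1, a2, a3⟩ := facts S cS hcS hcS1
  obtain ⟨b1, b2, b3⟩ := facts S' cS' hcS' hcS'1
  constructor
  · intro hall
    refine ⟨?_, fun i _ => hall i⟩
    by_contra hlt
    push Not at hlt
    have h1 := a2 _ le_rfl
    have h2 := b3 _ hlt
    have h3 := hall (S ∩ Set.Iio cS).ncard
    omega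
  · rintro ⟨hle, hlow⟩ i
    rcases Nat.lt_or_ge i (S' ∩ Set.Iio cS').ncard with hi | hi
    · exact hlow i hi
    · have h1 := b2 i hi
      have h2 := a1 i
      omega

end Groth.Agent.S15037
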