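import Groth.Statements.S15038
import Mathlib.Tactic
-- import your own Groth.Agent.* helpers here

set_option autoImplicit false
open TFCurv

namespace Groth.Agent.S15038

/-- Let Γ be a numerical semigroup (a submonoid of (ℕ, +) with finite complement), Γ ≠ ℕ, with conductor
c (every n ≥ c lies in Γ, c − 1 does not). If Γ is symmetric (for x < c, x is a gap exactly when c −
1 − x ∈ Γ) and its multiplicity e, the least nonzero element of Γ, is greater than 2, then Γ is
generated as an additive monoid by at most e − 1 elements. -/
theorem result (Γ : AddSubmonoid ℕ) (c : ℕ) (hc : ∀ n : ℕ, c ≤ n → n ∈ Γ) (hc0 : c ≠ 0) (hc1 : c - 1 ∉ Γ) (hsymm : ∀ x : ℕ, x < c → (x ∉ Γ ↔ c - 1 - x ∈ Γ)) (e : ℕ) (he : e ∈ Γ) (he0 : e ≠ 0) (hemin : ∀ γ : ℕ, γ ∈ Γ → γ ≠ 0 → e ≤ γ) (he2 : 2 < e) : ∃ G : Finset ℕ, G.card ≤ e - 1 ∧ AddSubmonoid.closure (↑G : Set ℕ) = Γ := by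
  classical
  -- basic facts
  have hmul : ∀ k : ℕ, k * e ∈ Γ := by
    intro k
    have := AddSubmonoid.nsmul_mem Γ he k
    simpa [smul_eq_mul] using this
  have hadd : ∀ w k : ℕ, w ∈ Γ → w + k * e ∈ Γ := fun w k hw => Γ.add_mem hw (hmul k)
  have hec : e ≤ c := hemin c (hc c le_rfl) hc0
  have hgap_lt : ∀ x : ℕ, x ∉ Γ → x < c := by
    intro x hx
    by_contra h
    exact hx (hc x (not_lt.mp h))
  -- Apery injectivity
  have hinj : ∀ w w' : ℕ, w ∈ Γ → e ≤ w' → w' - e ∉ Γ → w < w' → w % e = w' % e → False := by
    intro w w' hw hew' hw' hlt hmod
    have hdvd : e ∣ w' - w := (Nat.modEq_iff_dvd' hlt.le).mp hmod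
    obtain ⟨k, hk⟩ := hdvd
    have hk1 : 1 ≤ k := by
      rcases Nat.eq_zero_or_pos k with h0 | h0
      · subst h0
        omega
      · exact h0
    apply hw'
    have : w' - e = w + (k - 1) * e := by
      have : w' = w + e * k := by omega
      rw [this]
      obtain ⟨k', rfl⟩ : ∃ k', k = k' + 1 := ⟨k - 1, by omega⟩
      simp only [Nat.add_sub_cancel]
      ring_nf
      omega
    rw [this]
    exact hadd w _ hw
  -- the top Apery element
  set wmax := c - 1 + e with hwmax
  have hwmaxΓ : wmax ∈ Γ := hc _ (by omega)
  have hwmax_e : wmax - e ∉ Γ := by
    have : wmax - e = c - 1 := by omega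
    rw [this]
    exact hc1
  -- generating set
  set Ap : Finset ℕ := (Finset.range (c + e)).filter
    (fun w => w ∈ Γ ∧ w ≠ 0 ∧ w - e ∉ Γ ∧ w ≠ wmax) with hAp
  have hApmem : ∀ w, w ∈ Ap ↔ w ∈ Γ ∧ w ≠ 0 ∧ w - e ∉ Γ ∧ w ≠ wmax := by
    intro w
    rw [hAp, Finset.mem_filter, Finset.mem_range]
    constructor
    · exact fun h => h.2
    · intro h
      refine ⟨?_, h⟩
      have := hgap_lt _ h.2.2.1
      omega
  refine ⟨insert e Ap, ?_, ?_⟩
  · -- cardinality
    have hcm : (c - 1) % e ≠ 0 := by
      intro h
      apply hc1
      have : c - 1 = ((c - 1) / e) * e := by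
        have := Nat.div_add_mod (c - 1) e
        rw [h, add_zero] at this
        rw [mul_comm]
        exact this.symm
      rw [this]
      exact hmul _
    have hcard : Ap.card ≤ (((Finset.range e).erase 0).erase ((c - 1) % e)).card := by
      apply Finset.card_le_card_of_injOn (fun w => w % e)
      · intro w hw
        have hw' := (hApmem w).mp (Finset.mem_coe.mp hw)
        obtain ⟨hwΓ, hw0, hwe, hwm⟩ := hw'
        have hew : e ≤ w := hemin w hwΓ hw0
        simp only [Finset.coe_erase, Finset.coe_range, Set.mem_sdiff, Set.mem_Iio,
          Set.mem_singleton_iff]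
        refine ⟨⟨Nat.mod_lt _ (by omega), ?_⟩, ?_⟩
        · intro h
          exact hinj 0 w Γ.zero_mem hew hwe (by omega) (by simpa using h.symm)
        · intro h
          have hmod : w % e = wmax % e := by
            rw [h, hwmax, Nat.add_mod_right]
          rcases lt_trichotomy w wmax with hlt | heq | hgt
          · exact hinj w wmax hwΓ (by omega) hwmax_e hlt hmod
          · exact hwm heq
          · exact hinj wmax w hwmaxΓ hew hwe hgt hmod.symm
      · intro w hw w' hw' hmod
        have h1 := (hApmem w).mp (Finset.mem_coe.mp hw)
        have h2 := (hApmem w').mp (Finset.mem_coe.mp hw')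
        simp only at hmod
        rcases lt_trichotomy w w' with hlt | heq | hgt
        · exact (hinj w w' h1.1 (hemin w' h2.1 h2.2.1) h2.2.2.1 hlt hmod).elim
        · exact heq
        · exact (hinj w' w h2.1 (hemin w h1.1 h1.2.1) h1.2.2.1 hgt hmod.symm).elim
    have hcard2 : (((Finset.range e).erase 0).erase ((c - 1) % e)).card = e - 2 := by
      rw [Finset.card_erase_of_mem, Finset.card_erase_of_mem, Finset.card_range]
      · omega
      · rw [Finset.mem_range]; omega
      · rw [Finset.mem_erase, Finset.mem_range]
        exact ⟨hcm, Nat.mod_lt _ (by omega)⟩
    calc (insert e Ap).card ≤ Ap.card + 1 := Finset.card_insert_le _ _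
      _ ≤ (e - 2) + 1 := by omega
      _ = e - 1 := by omega
  · -- generation
    apply le_antisymm
    · rw [AddSubmonoid.closure_le]
      intro w hw
      rw [Finset.coe_insert, Set.mem_insert_iff] at hw
      rcases hw with rfl | hw
      · exact he
      · exact ((hApmem w).mp (Finset.mem_coe.mp hw)).1
    · have key : ∀ n : ℕ, n ∈ Γ → n ∈ AddSubmonoid.closure (↑(insert e Ap) : Set ℕ) := by
        intro n
        induction n using Nat.strong_induction_on with
        | _ n ih =>
          intro hn
          have heG : e ∈ AddSubmonoid.closure (↑(insert e Ap) : Set ℕ) :=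
            AddSubmonoid.subset_closure (by simp)
          rcases Nat.eq_zero_or_pos n with h0 | hpos
          · subst h0
            exact AddSubmonoid.zero_mem _
          · have hen : e ≤ n := hemin n hn (by omega)
            by_cases hne : n - e ∈ Γ
            · have := ih (n - e) (by omega) hne
              have h2 := AddSubmonoid.add_mem _ this heG
              have e1 : n - e + e = n := by omega
              rwa [e1] at h2
            · by_cases hnm : n = wmax
              · -- decompose wmax
                -- choose n₀ ∈ {c, c+1} not divisible by e
                obtain ⟨n₀, hn₀c, hn₀e⟩ : ∃ n₀, (n₀ = c ∨ n₀ = c + 1) ∧ ¬ e ∣ n₀ := by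
                  by_cases h : e ∣ c
                  · refine ⟨c + 1, Or.inr rfl, ?_⟩
                    intro h'
                    have : e ∣ 1 := (Nat.dvd_add_right h).mp h'
                    have := Nat.le_of_dvd (by norm_num) this
                    omega
                  · exact ⟨c, Or.inl rfl, h⟩
                have hn₀Γ : n₀ ∈ Γ := by
                  rcases hn₀c with h | h
                  · exact hc _ (by omega)
                  · exact hc _ (by omega)
                have hex : ∃ m, m ∈ Γ ∧ m % e = n₀ % e := ⟨n₀, hn₀Γ, rfl⟩
                set a := Nat.find hex with ha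
                obtain ⟨haΓ, hamod⟩ : a ∈ Γ ∧ a % e = n₀ % e := Nat.find_spec hex
                have ha0 : a ≠ 0 := by
                  intro h
                  rw [h] at hamod
                  apply hn₀e
                  exact Nat.dvd_of_mod_eq_zero (by simpa using hamod.symm)
                have hea : e ≤ a := hemin a haΓ ha0
                have hae : a - e ∉ Γ := by
                  intro h
                  have hm : (a - e) % e = n₀ % e := by
                    rw [← hamod]
                    conv_rhs => rw [← Nat.sub_add_cancel hea]
                    rw [Nat.add_mod_right]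
                  have := Nat.find_min' hex ⟨h, hm⟩
                  omega
                have hlt := hgap_lt _ hae
                have hb := (hsymm (a - e) hlt).mp hae
                set b := c - 1 - (a - e) with hbdef
                have hab : a + b = wmax := by omega
                have hb0 : b ≠ 0 := by
                  intro hb0
                  have hawm : a = wmax := by omega
                  have h1 : wmax % e = n₀ % e := by rw [← hawm]; exact hamod
                  have h2 : wmax % e = (c - 1) % e := by rw [hwmax, Nat.add_mod_right]
                  rw [h2] at h1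
                  rcases hn₀c with h | h
                  · -- (c-1) % e = c % e
                    rw [h] at h1
                    have : e ∣ c - (c - 1) := (Nat.modEq_iff_dvd' (by omega)).mp h1
                    have h3 : c - (c - 1) = 1 := by omega
                    rw [h3] at this
                    have := Nat.le_of_dvd (by norm_num) this
                    omega
                  · rw [h] at h1
                    have : e ∣ c + 1 - (c - 1) := (Nat.modEq_iff_dvd' (by omega)).mp h1
                    have h3 : c + 1 - (c - 1) = 2 := by omega
                    rw [h3] at this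
                    have := Nat.le_of_dvd (by norm_num) this
                    omega
                have iha := ih a (by omega) haΓ
                have ihb := ih b (by omega) hb
                have := AddSubmonoid.add_mem _ iha ihb
                rw [hab, ← hnm] at this
                exact this
              · apply AddSubmonoid.subset_closure
                rw [Finset.coe_insert]
                right
                rw [Finset.mem_coe, hApmem]
                exact ⟨hn, by omega, hne, hnm⟩
      intro n hn
      exact key n hn

end Groth.Agent.S15038
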