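import Groth.Statements.S15047
import Mathlib.Tactic
-- import your own Groth.Agent.* helpers here

set_option autoImplicit false
universe u
open TensorProduct
open Desc

namespace Groth.Agent.S15047

section
variable (A A' : Type u) [CommRing A] [CommRing A'] [Algebra A A']
variable (N : Type u) [AddCommGroup N] [Module A N]

/-- `n ↦ 1 ⊗ n` -/
noncomputable def iota : N →ₗ[A] A' ⊗[A] N := TensorProduct.mk A A' N 1

/-- the difference of the two coface maps -/
noncomputable def dd : A' ⊗[A] N →ₗ[A] (A' ⊗[A] A') ⊗[A] N :=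
  LinearMap.rTensor N (Algebra.TensorProduct.includeLeft : A' →ₐ[A] A' ⊗[A] A').toLinearMap -
    LinearMap.rTensor N (Algebra.TensorProduct.includeRight : A' →ₐ[A] A' ⊗[A] A').toLinearMap

/-- multiplication `b ⊗ (a ⊗ n) ↦ ba ⊗ n` -/
noncomputable def rr : A' ⊗[A] (A' ⊗[A] N) →ₗ[A] A' ⊗[A] N :=
  (LinearMap.rTensor N (LinearMap.mul' A A')) ∘ₗ (TensorProduct.assoc A A' A' N).symm.toLinearMap

/-- contraction `b ⊗ ((a ⊗ a') ⊗ n) ↦ ba ⊗ (a' ⊗ n)` -/
noncomputable def ss : A' ⊗[A] ((A' ⊗[A] A') ⊗[A] N) →ₗ[A] A' ⊗[A] (A' ⊗[A] N) :=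
  (LinearMap.rTensor (A' ⊗[A] N) (LinearMap.mul' A A')) ∘ₗ
    (TensorProduct.assoc A A' A' (A' ⊗[A] N)).symm.toLinearMap ∘ₗ
      (LinearMap.lTensor A' (TensorProduct.assoc A A' A' N).toLinearMap)

theorem dd_comp_iota : dd A A' N ∘ₗ iota A A' N = 0 := by
  ext n
  simp [dd, iota]

theorem homotopy_id :
    ss A A' N ∘ₗ (LinearMap.lTensor A' (dd A A' N)) + LinearMap.id =
      (LinearMap.lTensor A' (iota A A' N)) ∘ₗ rr A A' N := by
  ext b a n
  simp [ss, dd, iota, rr]

theorem exact_iota_dd [Module.FaithfullyFlat A A'] :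
    Function.Exact (iota A A' N) (dd A A' N) := by
  apply Module.FaithfullyFlat.lTensor_reflects_exact A A'
  intro y
  constructor
  · intro hy
    have := congrArg (fun φ => φ y) (homotopy_id A A' N)
    simp only [LinearMap.add_apply, LinearMap.comp_apply, hy, map_zero, zero_add,
      LinearMap.id_apply] at this
    exact ⟨_, this.symm⟩
  · rintro ⟨z, rfl⟩
    rw [← LinearMap.comp_apply, ← LinearMap.lTensor_comp, dd_comp_iota, LinearMap.lTensor_zero,
      LinearMap.zero_apply]

end

/-- Let A → A' be a faithfully flat homomorphism of commutative rings and M, N any A-modules. An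
A'-linear map f : A' ⊗_A M → A' ⊗_A N whose two base changes to A' ⊗_A A' (along a ↦ a ⊗ 1 and a ↦ 1
⊗ a) coincide is the base change of a unique A-linear map h : M → N. Since (A' ⊗_A A') ⊗_A M is
generated over A' ⊗_A A' by the elements 1 ⊗ m, the agreement of the two base changes is stated on
these generators: for every m, the two images of f (1 ⊗ m) in (A' ⊗_A A') ⊗_A N agree. Equivalently,
the sequence Hom_A(M, N) → Hom_{A'}(A' ⊗ M, A' ⊗ N) ⇉ Hom_{A' ⊗ A'}(A' ⊗ A' ⊗ M, A' ⊗ A' ⊗ N) is an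
equalizer diagram. -/
theorem result (A A' : Type u) [CommRing A] [CommRing A'] [Algebra A A']
    [Module.FaithfullyFlat A A'] (M N : Type u) [AddCommGroup M] [Module A M] [AddCommGroup N] [Module A N]
    (f : A' ⊗[A] M →ₗ[A'] A' ⊗[A] N)
    (hf : ∀ m : M,
      LinearMap.rTensor N (Algebra.TensorProduct.includeLeft : A' →ₐ[A] A' ⊗[A] A').toLinearMap (f (1 ⊗ₜ[A] m)) =
        LinearMap.rTensor N (Algebra.TensorProduct.includeRight : A' →ₐ[A] A' ⊗[A] A').toLinearMap (f (1 ⊗ₜ[A] m))) :
    ∃! h : M →ₗ[A] N, h.baseChange A' = f := by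
  have hinj : Function.Injective (iota A A' N) := by
    rw [injective_iff_map_eq_zero]
    intro n hn
    exact (Module.FaithfullyFlat.one_tmul_eq_zero_iff A N n).mp hn
  let g : M →ₗ[A] A' ⊗[A] N := (f.restrictScalars A) ∘ₗ (TensorProduct.mk A A' M 1)
  have hg : ∀ m, g m ∈ LinearMap.range (iota A A' N) := by
    intro m
    have h0 : dd A A' N (g m) = 0 := by
      simp only [dd, LinearMap.sub_apply, sub_eq_zero]
      exact hf m
    exact (exact_iota_dd A A' N (g m)).mp h0
  let e := LinearEquiv.ofInjective (iota A A' N) hinj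
  let h : M →ₗ[A] N := e.symm.toLinearMap ∘ₗ (LinearMap.codRestrict (LinearMap.range (iota A A' N)) g hg)
  have hh : ∀ m, (1 : A') ⊗ₜ[A] h m = f (1 ⊗ₜ[A] m) := by
    intro m
    have h1 : (e (h m) : A' ⊗[A] N) = g m := by
      simp only [h, LinearMap.comp_apply, LinearEquiv.coe_coe, LinearEquiv.apply_symm_apply,
        LinearMap.codRestrict_apply]
    rw [LinearEquiv.ofInjective_apply] at h1
    exact h1
  refine ⟨h, ?_, ?_⟩
  · apply TensorProduct.AlgebraTensorModule.curry_injective
    ext m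
    simp only [TensorProduct.AlgebraTensorModule.curry_apply,
      TensorProduct.curry_apply]
    exact hh m
  · intro h' hh'
    ext m
    apply hinj
    show (1 : A') ⊗ₜ[A] h' m = (1 : A') ⊗ₜ[A] h m
    rw [hh m, ← hh', LinearMap.baseChange_tmul]

end Groth.Agent.S15047
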