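import Groth.Statements.S15049
import Groth.Agent.Lib.Helper76.LTMain

set_option autoImplicit false
universe u
open LubinTate
open Groth.Agent.Lib.Helper76.LT

namespace Groth.Agent.S15049

/-- Let O be a discrete valuation ring with finite residue field of cardinality q, π a uniformizer of O,
and f = πT + T^q ∈ O[[T]]. Then there is a one-dimensional commutative formal group law F(X,Y) over
O for which f is an endomorphism, f(F(X,Y)) = F(f(X), f(Y)); and F is the unique power series in
O[[X,Y]] with zero constant term and linear part X + Y satisfying this identity. (The published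
statement is for the ring of integers of a finite extension of ℚ_p or of 𝔽_q((X)); completeness is
not used and any discrete valuation ring with finite residue field is allowed here.) -/
theorem result (O : Type u) [CommRing O] [IsDomain O] [IsDiscreteValuationRing O]
    [Finite (IsLocalRing.ResidueField O)] (π : O) (hπ : Irreducible π) (f : PowerSeries O)
    (hf : f = π • PowerSeries.X + PowerSeries.X ^ Nat.card (IsLocalRing.ResidueField O)) :
    ∃ F : FormalGroup O, F.IsComm ∧
      PowerSeries.subst F.toPowerSeries f =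
        MvPowerSeries.subst (fun i : Fin 2 => PowerSeries.subst (MvPowerSeries.X i : MvPowerSeries (Fin 2) O) f) F.toPowerSeries ∧
      ∀ G : MvPowerSeries (Fin 2) O, G.constantCoeff = 0 → G.coeff (Finsupp.single 0 1) = 1 →
        G.coeff (Finsupp.single 1 1) = 1 →
        PowerSeries.subst G f =
        MvPowerSeries.subst (fun i : Fin 2 => PowerSeries.subst (MvPowerSeries.X i : MvPowerSeries (Fin 2) O) f) G →
        G = F.toPowerSeries := by
  have hf' : f = fO π := hf
  subst hf'
  have hf0 := constantCoeff_fO π
  obtain ⟨H, h0, h1, hI⟩ := inter_exists (σ := Fin 2) hπ (fun _ => (1 : O))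
  -- generic facts about pairs
  have pair0 : ∀ {τ : Type} [Finite τ] (A B : MvPowerSeries τ O),
      MvPowerSeries.constantCoeff A = 0 → MvPowerSeries.constantCoeff B = 0 →
      ∀ s : Fin 2, MvPowerSeries.constantCoeff ((![A, B] : Fin 2 → MvPowerSeries τ O) s) = 0 := by
    intro τ _ A B hA hB s
    fin_cases s
    · exact hA
    · exact hB
  have pairI : ∀ {τ : Type} [Finite τ] (A B : MvPowerSeries τ O),
      Inter (fO π) (fO π) A → Inter (fO π) (fO π) B →
      ∀ s : Fin 2, Inter (fO π) (fO π) ((![A, B] : Fin 2 → MvPowerSeries τ O) s) := by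
    intro τ _ A B hA hB s
    fin_cases s
    · exact hA
    · exact hB
  have pairH0 : ∀ {τ : Type} [Finite τ] (A B : MvPowerSeries τ O),
      MvPowerSeries.constantCoeff A = 0 → MvPowerSeries.constantCoeff B = 0 →
      MvPowerSeries.constantCoeff (MvPowerSeries.subst ![A, B] H) = 0 :=
    fun A B hA hB => constantCoeff_subst_zero (pair0 A B hA hB) h0
  have pairHI : ∀ {τ : Type} [Finite τ] (A B : MvPowerSeries τ O),
      MvPowerSeries.constantCoeff A = 0 → MvPowerSeries.constantCoeff B = 0 →
      Inter (fO π) (fO π) A → Inter (fO π) (fO π) B →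
      Inter (fO π) (fO π) (MvPowerSeries.subst ![A, B] H) :=
    fun A B hA hB hIA hIB => Inter.comp hf0 hf0 h0 hI (pair0 A B hA hB) (pairI A B hIA hIB)
  have pairlin : ∀ {τ : Type} [Finite τ] (A B : MvPowerSeries τ O),
      MvPowerSeries.constantCoeff A = 0 → MvPowerSeries.constantCoeff B = 0 → ∀ t : τ,
      MvPowerSeries.coeff (Finsupp.single t 1) (MvPowerSeries.subst ![A, B] H) =
        MvPowerSeries.coeff (Finsupp.single t 1) A + MvPowerSeries.coeff (Finsupp.single t 1) B := by
    intro τ _ A B hA hB t
    rw [coeff_single_subst (pair0 A B hA hB) h0, Fin.sum_univ_two, h1 0, h1 1, one_mul, one_mul]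
    rfl
  have cX : ∀ {τ : Type} (i : τ), MvPowerSeries.constantCoeff (MvPowerSeries.X i :
      MvPowerSeries τ O) = 0 := fun i => MvPowerSeries.constantCoeff_X i
  have iX : ∀ {τ : Type} [Finite τ] (i : τ), Inter (fO π) (fO π) (MvPowerSeries.X i :
      MvPowerSeries τ O) := fun i => inter_X hf0 i
  let F : FormalGroup O :=
    { toPowerSeries := H
      zero_constantCoeff := h0
      lin_coeff_X := h1 0
      lin_coeff_Y := h1 1
      assoc := by
        refine inter_unique hπ
          (pairH0 _ _ (pairH0 _ _ (cX _) (cX _)) (cX _))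
          (pairH0 _ _ (cX _) (pairH0 _ _ (cX _) (cX _))) ?_
          (pairHI _ _ (pairH0 _ _ (cX _) (cX _)) (cX _) (pairHI _ _ (cX _) (cX _) (iX _) (iX _))
            (iX _))
          (pairHI _ _ (cX _) (pairH0 _ _ (cX _) (cX _)) (iX _)
            (pairHI _ _ (cX _) (cX _) (iX _) (iX _)))
        intro t
        rw [pairlin _ _ (pairH0 _ _ (cX _) (cX _)) (cX _), pairlin _ _ (cX _) (cX _),
          pairlin _ _ (cX _) (pairH0 _ _ (cX _) (cX _)), pairlin _ _ (cX _) (cX _), add_assoc] }
  refine ⟨F, ⟨?_⟩, hI, ?_⟩
  · show H = MvPowerSeries.subst ![MvPowerSeries.X 1, MvPowerSeries.X 0] H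
    refine inter_unique hπ h0 (pairH0 _ _ (cX _) (cX _)) ?_ hI
      (pairHI _ _ (cX _) (cX _) (iX _) (iX _))
    intro t
    rw [pairlin _ _ (cX _) (cX _), h1 t]
    fin_cases t <;> simp [MvPowerSeries.coeff_index_single_X]
  · intro G hG0 hGX hGY hG
    refine inter_unique hπ hG0 h0 ?_ hG hI
    intro t
    rw [h1 t]
    fin_cases t
    · exact hGX
    · exact hGY

end Groth.Agent.S15049
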