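import Groth.Statements.S15051
import Groth.Agent.Lib.Helper76.LTMain

set_option autoImplicit false
universe u
open LubinTate
open Groth.Agent.Lib.Helper76.LT

namespace Groth.Agent.S15051

/-- Let O be a discrete valuation ring with finite residue field of cardinality q, π a uniformizer of O,
and f = πT + T^q ∈ O[[T]]; let F be a one-dimensional formal group law over O for which f is an
endomorphism, f(F(X,Y)) = F(f(X), f(Y)), and g ∈ O[[T]] a power series with zero constant term which
commutes with f, g(f(T)) = f(g(T)). Then g is an endomorphism of F, that is g(F(X,Y)) = F(g(X),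
g(Y)); so α ↦ [α] maps O into the endomorphisms of the Lubin–Tate formal group. (The published
statement is for the ring of integers of a finite extension of ℚ_p or of 𝔽_q((X)); completeness is
not used and any discrete valuation ring with finite residue field is allowed here.) -/
theorem result (O : Type u) [CommRing O] [IsDomain O] [IsDiscreteValuationRing O]
    [Finite (IsLocalRing.ResidueField O)] (π : O) (hπ : Irreducible π) (f : PowerSeries O)
    (hf : f = π • PowerSeries.X + PowerSeries.X ^ Nat.card (IsLocalRing.ResidueField O))
    (F : FormalGroup O)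
    (hF : PowerSeries.subst F.toPowerSeries f =
        MvPowerSeries.subst (fun i : Fin 2 => PowerSeries.subst (MvPowerSeries.X i : MvPowerSeries (Fin 2) O) f) F.toPowerSeries)
    (g : PowerSeries O) (hg0 : g.constantCoeff = 0)
    (hgf : PowerSeries.subst g f = PowerSeries.subst f g) :
    PowerSeries.subst F.toPowerSeries g =
      MvPowerSeries.subst (fun i : Fin 2 => PowerSeries.subst (MvPowerSeries.X i : MvPowerSeries (Fin 2) O) g)
        F.toPowerSeries := by
  have hf' : f = fO π := hf
  subst hf'
  have hf0 := constantCoeff_fO π
  have hFI : Inter (fO π) (fO π) F.toPowerSeries := hF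
  have hF0 := F.zero_constantCoeff
  have hb0 : ∀ i : Fin 2, MvPowerSeries.constantCoeff
      (PowerSeries.subst (MvPowerSeries.X i : MvPowerSeries (Fin 2) O) g) = 0 :=
    fun i => constantCoeff_pssubst (MvPowerSeries.constantCoeff_X i) hg0
  have hb : ∀ i : Fin 2, Inter (fO π) (fO π)
      (PowerSeries.subst (MvPowerSeries.X i : MvPowerSeries (Fin 2) O) g) :=
    fun i => Inter.pscomp hf0 hf0 hg0 hgf (MvPowerSeries.constantCoeff_X i) (inter_X hf0 i)
  refine inter_unique hπ (constantCoeff_pssubst hF0 hg0) (constantCoeff_subst_zero hb0 hF0) ?_
    (Inter.pscomp hf0 hf0 hg0 hgf hF0 hFI) (Inter.comp hf0 hf0 hF0 hFI hb0 hb)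
  intro t
  rw [coeff_single_pssubst hF0 hg0, coeff_single_subst_fam hF0 hg0, mul_comm]

end Groth.Agent.S15051
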