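import Groth.Statements.S15052
import Groth.Agent.Lib.Helper76.LTLog

set_option autoImplicit false
universe u
open LubinTate
open Groth.Agent.Lib.Helper76.LT

namespace Groth.Agent.S15052

/-- Let O be a discrete valuation ring with finite residue field of cardinality q, π a uniformizer of O,
and f = πT + T^q ∈ O[[T]]; let K be the fraction field of O and F a one-dimensional formal group law
over O for which f is an endomorphism, f(F(X,Y)) = F(f(X), f(Y)). Then there is a unique power
series ℓ ∈ K[[T]] with zero constant term and linear coefficient 1 such that ℓ(f(T)) = π·ℓ(T); this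
logarithm is a homomorphism to the additive formal group, ℓ(F(T,S)) = ℓ(T) + ℓ(S), and it is
O-linear in the sense that ℓ(g(T)) = α·ℓ(T) for every α ∈ O and every series g ∈ O[[T]] with zero
constant term and linear coefficient α commuting with f. (The published statement is for the ring of
integers of a finite extension of ℚ_p; completeness is not used and any discrete valuation ring with
finite residue field is allowed here.) -/
theorem result (O : Type u) [CommRing O] [IsDomain O] [IsDiscreteValuationRing O]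
    [Finite (IsLocalRing.ResidueField O)] (K : Type u) [Field K] [Algebra O K] [IsFractionRing O K]
    (π : O) (hπ : Irreducible π) (f : PowerSeries O)
    (hf : f = π • PowerSeries.X + PowerSeries.X ^ Nat.card (IsLocalRing.ResidueField O))
    (F : FormalGroup O)
    (hF : PowerSeries.subst F.toPowerSeries f =
        MvPowerSeries.subst (fun i : Fin 2 => PowerSeries.subst (MvPowerSeries.X i : MvPowerSeries (Fin 2) O) f) F.toPowerSeries) :
    ∃ ℓ : PowerSeries K, (ℓ.constantCoeff = 0 ∧ ℓ.coeff 1 = 1 ∧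
      PowerSeries.subst (PowerSeries.map (algebraMap O K) f) ℓ = algebraMap O K π • ℓ) ∧
      (∀ ℓ' : PowerSeries K, ℓ'.constantCoeff = 0 → ℓ'.coeff 1 = 1 →
        PowerSeries.subst (PowerSeries.map (algebraMap O K) f) ℓ' = algebraMap O K π • ℓ' → ℓ' = ℓ) ∧
      PowerSeries.subst ((F.toPowerSeries).map (algebraMap O K)) ℓ =
        PowerSeries.subst (MvPowerSeries.X (0 : Fin 2) : MvPowerSeries (Fin 2) K) ℓ +
          PowerSeries.subst (MvPowerSeries.X (1 : Fin 2) : MvPowerSeries (Fin 2) K) ℓ ∧
      (∀ (α : O) (g : PowerSeries O), g.constantCoeff = 0 → g.coeff 1 = α →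
        PowerSeries.subst g f = PowerSeries.subst f g →
        PowerSeries.subst (PowerSeries.map (algebraMap O K) g) ℓ = algebraMap O K α • ℓ) := by
  have hf' : f = fO π := hf
  subst hf'
  have hf0 := constantCoeff_fO π
  have hq := two_le_qO (O := O)
  set ϖ : K := algebraMap O K π with hϖdef
  have hmapf : PowerSeries.map (algebraMap O K) (fO π) = fLT ϖ (qO O) := map_fLT _ _ _
  rw [hmapf]
  have hft0 : PowerSeries.constantCoeff (fLT ϖ (qO O)) = 0 := constantCoeff_fLT ϖ (by omega)
  have hϖ : ∀ m, 2 ≤ m → ϖ ^ m - ϖ ≠ 0 := by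
    intro m hm h
    have h1 : algebraMap O K (π ^ m - π) = 0 := by rw [map_sub, map_pow]; exact h
    have h2 := (IsFractionRing.injective O K) (h1.trans (map_zero _).symm)
    exact pow_sub_ne_zero hπ hm h2
  have hFI : Inter (fLT ϖ (qO O)) (fLT ϖ (qO O)) (MvPowerSeries.map (algebraMap O K) F.toPowerSeries) := by
    have := Inter.map (algebraMap O K) hf0 F.zero_constantCoeff (show Inter (fO π) (fO π) _ from hF)
    rwa [hmapf] at this
  have hFt0 : MvPowerSeries.constantCoeff (MvPowerSeries.map (algebraMap O K) F.toPowerSeries) = 0 := by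
    rw [MvPowerSeries.constantCoeff_map, F.zero_constantCoeff, map_zero]
  obtain ⟨ℓ, hℓ0, hℓ1, hℓI⟩ := interK_exists (σ := Unit) hq hϖ (fun _ => (1 : K))
  have hℓeq : PowerSeries.subst ℓ (ϖ • PowerSeries.X) = PowerSeries.subst (fLT ϖ (qO O)) ℓ :=
    inter_one_iff.mp hℓI
  have hℓeq' : PowerSeries.subst (fLT ϖ (qO O)) ℓ = ϖ • ℓ := by
    rw [← hℓeq, PowerSeries.subst_smul (hasSubst_ps hℓ0), PowerSeries.subst_X (hasSubst_ps hℓ0)]
  have hℓ1' : PowerSeries.coeff 1 ℓ = 1 := hℓ1 ()
  refine ⟨ℓ, ⟨hℓ0, hℓ1', hℓeq'⟩, ?_, ?_, ?_⟩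
  · intro ℓ' h0' h1' he'
    have hI' : Inter (ϖ • PowerSeries.X) (fLT ϖ (qO O)) (ℓ' : MvPowerSeries Unit K) := by
      rw [inter_one_iff, he', PowerSeries.subst_smul (hasSubst_ps h0'),
        PowerSeries.subst_X (hasSubst_ps h0')]
    refine interK_unique hq hϖ h0' hℓ0 ?_ hI' hℓI
    intro s
    rw [hℓ1 s]
    exact h1'
  · have hX : ∀ i : Fin 2, Inter (ϖ • PowerSeries.X) (fLT ϖ (qO O))
        (PowerSeries.subst (MvPowerSeries.X i : MvPowerSeries (Fin 2) K) ℓ) :=
      fun i => Inter.pscomp hft0 hft0 hℓ0 hℓeq (MvPowerSeries.constantCoeff_X i) (inter_X hft0 i)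
    have hX0 : ∀ i : Fin 2, MvPowerSeries.constantCoeff
        (PowerSeries.subst (MvPowerSeries.X i : MvPowerSeries (Fin 2) K) ℓ) = 0 :=
      fun i => constantCoeff_pssubst (MvPowerSeries.constantCoeff_X i) hℓ0
    refine interK_unique hq hϖ (constantCoeff_pssubst hFt0 hℓ0)
      (by rw [map_add, hX0 0, hX0 1, add_zero]) ?_
      (Inter.pscomp hft0 hft0 hℓ0 hℓeq hFt0 hFI)
      (Inter.add_lin hft0 (hX0 0) (hX0 1) (hX 0) (hX 1))
    intro t
    rw [coeff_single_pssubst hFt0 hℓ0, map_add,
      coeff_single_pssubst (MvPowerSeries.constantCoeff_X _) hℓ0,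
      coeff_single_pssubst (MvPowerSeries.constantCoeff_X _) hℓ0, hℓ1', MvPowerSeries.coeff_map]
    fin_cases t
    · simp [MvPowerSeries.coeff_index_single_X, F.lin_coeff_X]
    · simp [MvPowerSeries.coeff_index_single_X, F.lin_coeff_Y]
  · intro α g hg0 hg1 hgf
    have hgI : Inter (fLT ϖ (qO O)) (fLT ϖ (qO O))
        (PowerSeries.map (algebraMap O K) g : MvPowerSeries Unit K) := by
      have := Inter.map (σ := Unit) (algebraMap O K) hf0 hg0
        (show Inter (fO π) (fO π) (g : MvPowerSeries Unit O) from inter_one_iff.mpr hgf)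
      rwa [hmapf] at this
    have hgt0 : MvPowerSeries.constantCoeff
        (PowerSeries.map (algebraMap O K) g : MvPowerSeries Unit K) = 0 := by
      have : PowerSeries.constantCoeff (PowerSeries.map (algebraMap O K) g) = 0 := by
        rw [← PowerSeries.coeff_zero_eq_constantCoeff_apply, PowerSeries.coeff_map,
          PowerSeries.coeff_zero_eq_constantCoeff_apply, hg0, map_zero]
      exact this
    have hsm0 : MvPowerSeries.constantCoeff ((algebraMap O K α) • ℓ : MvPowerSeries Unit K) = 0 := by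
      rw [MvPowerSeries.smul_eq_C_mul, map_mul, hℓ0, mul_zero]
    refine interK_unique (σ := Unit) hq hϖ (constantCoeff_pssubst hgt0 hℓ0) hsm0 ?_
      (Inter.pscomp hft0 hft0 hℓ0 hℓeq hgt0 hgI) (Inter.smul_lin hft0 hℓ0 _ hℓI)
    intro t
    rw [coeff_single_pssubst hgt0 hℓ0, hℓ1', one_mul, map_smul, hℓ1 t, smul_eq_mul, mul_one]
    have : PowerSeries.coeff 1 (PowerSeries.map (algebraMap O K) g) = algebraMap O K α := by
      rw [PowerSeries.coeff_map, hg1]
    exact this

end Groth.Agent.S15052
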