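import Groth.Statements.S15054
-- import your own Groth.Agent.* helpers here

set_option autoImplicit false
universe u
open CategoryTheory CategoryTheory.Limits MonoidalCategory CartesianMonoidalCategory MonObj GrpObj AlgebraicGeometry
open BTGrp

namespace Groth.Agent.S15054

theorem isKernel_comp {S : Scheme.{u}} {N G H : Over S} [GrpObj G] [GrpObj H] (i : N ⟶ G) (j : G ⟶ H)
    [IsMonHom j] (ℓ m k : ℕ) (hm : m = ℓ * k)
    (hi : AlgGrp.IsKernel i ((𝟙 G) ^ ℓ)) (hj : AlgGrp.IsKernel j ((𝟙 H) ^ m)) :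
    AlgGrp.IsKernel (i ≫ j) ((𝟙 H) ^ ℓ) := by
  unfold AlgGrp.IsKernel at *
  have hjmono : Mono j := hj.mono_fst_of_mono
  have himono : Mono i := hi.mono_fst_of_mono
  have hw : (i ≫ j) ≫ (𝟙 H) ^ ℓ = toUnit N ≫ η[H] := by
    rw [MonObj.comp_pow, Category.comp_id, ← MonObj.pow_comp]
    have h1 : i ^ ℓ = toUnit N ≫ η[G] := by
      have := hi.w
      rw [MonObj.comp_pow, Category.comp_id] at this
      exact this
    rw [h1, Category.assoc, IsMonHom.one_hom]
  refine IsPullback.of_isLimit' ⟨hw⟩ ?_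
  refine PullbackCone.IsLimit.mk _ (fun s => ?_) (fun s => ?_) (fun s => ?_) (fun s m h1 h2 => ?_)
  · -- the lift
    have hs := s.condition
    rw [MonObj.comp_pow, Category.comp_id] at hs
    have hsm : s.fst ≫ (𝟙 H) ^ m = toUnit s.pt ≫ η[H] := by
      rw [MonObj.comp_pow, Category.comp_id, hm, pow_mul, hs, ← Hom.one_def]
      have : s.snd ≫ η[H] = 1 := by
        rw [Hom.one_def]
        congr 1
        exact toUnit_unique _ _
      rw [this, one_pow]
    let y : s.pt ⟶ G := hj.lift s.fst (toUnit s.pt) hsm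
    have hy : y ≫ j = s.fst := hj.lift_fst _ _ _
    have hyℓ : y ≫ (𝟙 G) ^ ℓ = toUnit s.pt ≫ η[G] := by
      rw [MonObj.comp_pow, Category.comp_id, ← cancel_mono j, MonObj.pow_comp, hy, hs,
        Category.assoc, IsMonHom.one_hom]
      congr 1
      exact toUnit_unique _ _
    exact hi.lift y (toUnit s.pt) hyℓ
  · rw [← Category.assoc, hi.lift_fst, hj.lift_fst]
  · exact toUnit_unique _ _
  · have : Mono (i ≫ j) := mono_comp i j
    rw [← cancel_mono (i ≫ j), h1]
    rw [← Category.assoc, hi.lift_fst, hj.lift_fst]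

/-- Let ℓ be a prime and G = (G_ν)_ν an ℓ-divisible (Barsotti–Tate) group of height h over a scheme S,
given as the system of its finite locally free layers G_ν of order ℓ^{νh} with inclusions G_ν →
G_{ν+1} exhibiting G_ν as the ℓ^ν-torsion of G_{ν+1} and projections G_{ν+1} → G_ν (multiplication
by ℓ). Let i_t : G_1 → G_{t+1} denote the iterated inclusions, pinned by i_0 = id and i_{t+1} = i_t
followed by G_{t+1} → G_{t+2}. Then for every t, i_t identifies G_1 with the kernel of
multiplication by ℓ on G_{t+1}: the ℓ-torsion of every layer is the first layer. (The published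
statement identifies G_v with the ℓ^v-torsion of G_{v+t} for all v; this row is its case v = 1. The
published base is the spectrum of a Noetherian ring; the argument is formal and any base scheme is
allowed here.) -/
theorem result {S : Scheme.{u}} (ℓ h : ℕ) [Fact ℓ.Prime] (G : BTGrp.ProBT ℓ S h)
    (i : (t : ℕ) → (G.G 1 ⟶ G.G (t + 1))) (hi0 : i 0 = 𝟙 (G.G 1))
    (hi : ∀ t : ℕ, i (t + 1) = i t ≫ G.incl (t + 1)) (t : ℕ) :
    AlgGrp.IsKernel (i t) ((𝟙 (G.G (t + 1))) ^ ℓ) := by
  induction t with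
  | zero =>
    rw [hi0]
    -- multiplication by ℓ on G 1 is trivial
    have hk := G.isKernel 1
    unfold AlgGrp.IsKernel at hk ⊢
    have hmono : Mono (G.incl 1) := hk.mono_fst_of_mono
    have hone : (𝟙 (G.G 1)) ^ ℓ = toUnit (G.G 1) ≫ η[G.G 1] := by
      rw [← cancel_mono (G.incl 1), MonObj.pow_comp, Category.id_comp, Category.assoc, IsMonHom.one_hom]
      have := hk.w
      rw [MonObj.comp_pow, Category.comp_id, pow_one] at this
      rw [this]
    rw [hone]
    have hw : 𝟙 (G.G 1) ≫ toUnit (G.G 1) ≫ η[G.G 1] = toUnit (G.G 1) ≫ η[G.G 1] := Category.id_comp _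
    refine IsPullback.of_isLimit' ⟨hw⟩ ?_
    refine PullbackCone.IsLimit.mk _ (fun s => s.fst) (fun s => Category.comp_id _)
      (fun s => toUnit_unique _ _) (fun s m h1 h2 => ?_)
    rw [← h1, Category.comp_id]
  | succ t ih =>
    rw [hi]
    exact isKernel_comp (i t) (G.incl (t + 1)) ℓ (ℓ ^ (t + 1)) (ℓ ^ t) (by rw [pow_succ, mul_comm]) ih
      (G.isKernel (t + 1))

end Groth.Agent.S15054
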