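import Groth.Statements.S15056
import Mathlib
-- import your own Groth.Agent.* helpers here

set_option autoImplicit false
universe u
open scoped TensorProduct
open FrobAlg

namespace Groth.Agent.S15056

section
open TensorProduct

variable {R : Type u} [CommRing R] {A : Type u} [CommRing A] [Algebra R A]
  (ε : A →ₐ[R] R) (K : Type u) [Field K] [Algebra R K]

/-- the base-changed augmentation `K ⊗ A → K`. -/
noncomputable def epsK : K ⊗[R] A →ₐ[K] K :=
  Algebra.TensorProduct.lift (AlgHom.id K K) ((Algebra.ofId R K).comp ε)
    (fun _ _ => Commute.all _ _)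

theorem epsK_tmul (c : K) (a : A) : epsK ε K (c ⊗ₜ a) = c * algebraMap R K (ε a) := by
  simp [epsK, Algebra.ofId_apply]

variable {ε} in
/-- if the augmentation ideal is nil, elements of `K ⊗ A` are constants plus nilpotents. -/
theorem isNilpotent_sub_epsK (hnil : ∀ a : A, ε a = 0 → IsNilpotent a) (x : K ⊗[R] A) :
    IsNilpotent (x - algebraMap K (K ⊗[R] A) (epsK ε K x)) := by
  induction x using TensorProduct.induction_on with
  | zero => simp
  | tmul c a =>
    have hb : IsNilpotent (a - algebraMap R A (ε a)) := by
      apply hnil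
      rw [map_sub, AlgHom.commutes, Algebra.algebraMap_self_apply, sub_self]
    have h : c ⊗ₜ[R] (algebraMap R A (ε a)) = (c * algebraMap R K (ε a)) ⊗ₜ[R] (1 : A) := by
      rw [Algebra.algebraMap_eq_smul_one (A := A), TensorProduct.tmul_smul,
        TensorProduct.smul_tmul', Algebra.smul_def, mul_comm]
    have : c ⊗ₜ[R] a - algebraMap K (K ⊗[R] A) (epsK ε K (c ⊗ₜ a)) =
        c ⊗ₜ[R] (a - algebraMap R A (ε a)) := by
      rw [epsK_tmul, Algebra.TensorProduct.algebraMap_apply, Algebra.algebraMap_self_apply,
        TensorProduct.tmul_sub, h]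
    rw [this]
    obtain ⟨n, hn⟩ := hb
    refine ⟨n, ?_⟩
    rw [Algebra.TensorProduct.tmul_pow, hn, TensorProduct.tmul_zero]
  | add x y hx hy =>
    have : x + y - algebraMap K (K ⊗[R] A) (epsK ε K (x + y)) =
        (x - algebraMap K (K ⊗[R] A) (epsK ε K x)) + (y - algebraMap K (K ⊗[R] A) (epsK ε K y)) := by
      rw [map_add, map_add]; ring
    rw [this]
    exact (Commute.all _ _).isNilpotent_add hx hy

variable {ε} in
theorem isLocalRing_tensor (hnil : ∀ a : A, ε a = 0 → IsNilpotent a) :
    IsLocalRing (K ⊗[R] A) := by
  have hnt : Nontrivial (K ⊗[R] A) := by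
    refine ⟨⟨0, 1, fun h => ?_⟩⟩
    have := congrArg (epsK ε K) h
    rw [map_zero, map_one] at this
    exact zero_ne_one this
  have hunit : ∀ y : K ⊗[R] A, epsK ε K y ≠ 0 → IsUnit y := by
    intro y hy
    have h1 : IsUnit (algebraMap K (K ⊗[R] A) (epsK ε K y)) := (IsUnit.mk0 _ hy).map _
    have h2 := isNilpotent_sub_epsK K hnil y
    have := h2.isUnit_add_left_of_commute h1 (Commute.all _ _)
    simpa using this
  refine IsLocalRing.of_isUnit_or_isUnit_one_sub_self fun a => ?_
  by_cases ha : epsK ε K a = 0
  · right
    apply hunit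
    rw [map_sub, map_one, ha, sub_zero]
    exact one_ne_zero
  · left
    exact hunit a ha

end

/-- Let p be a prime number, R a Noetherian ring of characteristic p and A a finitely generated
commutative Hopf algebra over R (an affine algebraic R-group G = Spec A). The n-fold relative
Frobenius of G is the trivial homomorphism exactly when a^(p^n) = 0 for every a in the augmentation
ideal; G has finite Frobenius height when this holds for some n. Then G has finite Frobenius height
if and only if A is a finite R-module and, for every algebraically closed field K and every ring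
homomorphism R → K, the base change K ⊗_R A is a local ring (G is finite over R with connected
geometric fibres). -/
theorem result (p : ℕ) [Fact p.Prime] (R : Type u) [CommRing R] [CharP R p]
    [IsNoetherianRing R] (A : Type u) [CommRing A] [HopfAlgebra R A] [Algebra.FiniteType R A] :
    (∃ n : ℕ, ∀ a : A, Bialgebra.counitAlgHom R A a = 0 → a ^ p ^ n = 0) ↔
      (Module.Finite R A ∧ ∀ (K : Type u) [Field K] [IsAlgClosed K] [Algebra R K], IsLocalRing (K ⊗[R] A)) := by
  set ε := Bialgebra.counitAlgHom R A with hε
  constructor
  · rintro ⟨n, hn⟩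
    have hnil : ∀ a : A, ε a = 0 → IsNilpotent a := fun a ha => ⟨p ^ n, hn a ha⟩
    refine ⟨?_, fun K _ _ _ => isLocalRing_tensor K hnil⟩
    have hint : Algebra.IsIntegral R A := by
      refine ⟨fun a => ?_⟩
      have hb : IsNilpotent (a - algebraMap R A (ε a)) := by
        apply hnil
        rw [map_sub, AlgHom.commutes, Algebra.algebraMap_self_apply, sub_self]
      have h1 : IsIntegral R (a - algebraMap R A (ε a)) := by
        obtain ⟨m, hm⟩ := hb
        exact IsIntegral.of_pow (Nat.succ_pos m) (by rw [pow_succ, hm, zero_mul]; exact isIntegral_zero)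
      have h2 : IsIntegral R (algebraMap R A (ε a)) := isIntegral_algebraMap
      have := h1.add h2
      simpa using this
    exact Algebra.IsIntegral.finite
  · rintro ⟨-, hloc⟩
    have hnoeth : IsNoetherianRing A := Algebra.FiniteType.isNoetherianRing R A
    obtain ⟨N, hN⟩ := IsNoetherianRing.isNilpotent_nilradical A
    have hmem : ∀ a : A, ε a = 0 → a ∈ nilradical A := by
      intro a ha
      rw [nilradical_eq_sInf, Ideal.mem_sInf]
      intro q hq
      have hqp : q.IsPrime := hq
      let K := AlgebraicClosure q.ResidueField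
      let φr : A →+* K := (algebraMap q.ResidueField K).comp (algebraMap A q.ResidueField)
      let _ : Algebra R K := (φr.comp (algebraMap R A)).toAlgebra
      let φ : A →ₐ[R] K := { toRingHom := φr, commutes' := fun r => rfl }
      have hl := hloc K
      let ψ : TensorProduct R K A →ₐ[K] K :=
        Algebra.TensorProduct.lift (AlgHom.id K K) φ (fun _ _ => Commute.all _ _)
      have hψ : ψ (1 ⊗ₜ a) = φr a := by
        simp [ψ, φ]
      have hεK : epsK ε K (1 ⊗ₜ a) = 0 := by
        rw [epsK_tmul, ha, map_zero, mul_zero]
      -- both kernels are the maximal ideal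
      have hker1 : RingHom.ker (epsK ε K).toRingHom = IsLocalRing.maximalIdeal _ := by
        have : (RingHom.ker (epsK ε K).toRingHom).IsMaximal :=
          RingHom.ker_isMaximal_of_surjective _ (fun c => ⟨c ⊗ₜ 1, by simp [epsK_tmul]⟩)
        exact IsLocalRing.eq_maximalIdeal this
      have hker2 : RingHom.ker ψ.toRingHom = IsLocalRing.maximalIdeal _ := by
        have : (RingHom.ker ψ.toRingHom).IsMaximal :=
          RingHom.ker_isMaximal_of_surjective _ (fun c => ⟨c ⊗ₜ 1, by simp [ψ]⟩)
        exact IsLocalRing.eq_maximalIdeal this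
      have h1 : (1 : K) ⊗ₜ[R] a ∈ RingHom.ker ψ.toRingHom := by
        rw [hker2, ← hker1]
        exact hεK
      have h2 : φr a = 0 := by rw [← hψ]; exact h1
      have h3 : algebraMap A q.ResidueField a = 0 := by
        apply (algebraMap q.ResidueField K).injective
        rw [map_zero]
        exact h2
      exact Ideal.algebraMap_residueField_eq_zero.1 h3
    refine ⟨N, fun a ha => ?_⟩
    have h1 : a ^ N ∈ nilradical A ^ N := Ideal.pow_mem_pow (hmem a ha) N
    rw [hN] at h1
    have h2 : a ^ N = 0 := h1
    have hle : N ≤ p ^ N := (Nat.lt_pow_self (Fact.out : p.Prime).one_lt).le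
    rw [← Nat.sub_add_cancel hle, pow_add, h2, mul_zero]

end Groth.Agent.S15056
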