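import Groth.Statements.S15057
import Mathlib

set_option autoImplicit false
universe u
open CategoryTheory CategoryTheory.Limits
open Desc

namespace Groth.Agent.S15057

open scoped TensorProduct Simplicial

namespace Am

variable (R A : Type u) [CommRing R] [CommRing A] [Algebra R A]

noncomputable abbrev f : Arrow CommRingCat.{u} := Arrow.mk (CommRingCat.ofHom (algebraMap R A))

noncomputable abbrev X : CosimplicialObject CommRingCat.{u} := (f R A).cechConerve

/-- the (m+1)-fold coproduct -/
noncomputable abbrev P (m : ℕ) : CommRingCat.{u} := (X R A).obj ⦋m⦌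

noncomputable def ι (m : ℕ) (j : Fin (m+1)) : A →+* P R A m :=
  (WidePushout.ι (fun _ : Fin (m+1) => (f R A).hom) j).hom

noncomputable def hd (m : ℕ) : R →+* P R A m :=
  (WidePushout.head (fun _ : Fin (m+1) => (f R A).hom)).hom

lemma ι_algebraMap (m : ℕ) (j : Fin (m+1)) (r : R) : ι R A m j (algebraMap R A r) = hd R A m r := by
  have := WidePushout.arrow_ι (fun _ : Fin (m+1) => (f R A).hom) j
  have h2 := congrArg (fun g => g.hom r) this
  exact h2

noncomputable def δ (m : ℕ) (i : Fin (m+2)) : P R A m →+* P R A (m+1) :=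
  ((X R A).δ i).hom

lemma δ_ι (m : ℕ) (i : Fin (m+2)) (j : Fin (m+1)) (a : A) :
    δ R A m i (ι R A m j a) = ι R A (m+1) (i.succAbove j) a := by
  have : WidePushout.ι (fun _ : Fin (m+1) => (f R A).hom) j ≫ (X R A).δ i
      = WidePushout.ι (fun _ : Fin (m+2) => (f R A).hom) (i.succAbove j) := by
    dsimp [CosimplicialObject.δ, X, Arrow.cechConerve]
    rw [WidePushout.ι_desc]
    rfl
  exact congrArg (fun g => g.hom a) this

lemma δ_hd (m : ℕ) (i : Fin (m+2)) (r : R) :
    δ R A m i (hd R A m r) = hd R A (m+1) r := by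
  rw [← ι_algebraMap R A m 0, δ_ι, ι_algebraMap]

lemma ringHom_ext {S : Type u} [CommRing S] (m : ℕ) (g1 g2 : P R A m →+* S)
    (h : ∀ j a, g1 (ι R A m j a) = g2 (ι R A m j a)) : g1 = g2 := by
  have : CommRingCat.ofHom g1 = CommRingCat.ofHom g2 := by
    apply WidePushout.hom_ext
    · intro j
      ext a
      exact h j a
    · ext r
      have := h 0 (algebraMap R A r)
      rw [ι_algebraMap] at this
      exact this
  exact congrArg CommRingCat.Hom.hom this

noncomputable instance algP (m : ℕ) : Algebra R (P R A m) := (hd R A m).toAlgebra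

lemma algebraMap_P (m : ℕ) (r : R) : algebraMap R (P R A m) r = hd R A m r := rfl

noncomputable def δA (m : ℕ) (i : Fin (m+2)) : P R A m →ₐ[R] P R A (m+1) :=
  { δ R A m i with
    commutes' := fun r => δ_hd R A m i r }

@[simp] lemma δA_apply (m : ℕ) (i : Fin (m+2)) (x : P R A m) : δA R A m i x = δ R A m i x := rfl

noncomputable def D (m : ℕ) : P R A m →ₗ[R] P R A (m+1) :=
  ∑ i : Fin (m+2), ((-1 : ℤ) ^ (i : ℕ)) • (δA R A m i).toLinearMap

/-- the map `X_{m+1} → A ⊗ X_m` -/
noncomputable def ψ (m : ℕ) : P R A (m+1) →+* A ⊗[R] P R A m :=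
  (WidePushout.desc (f := (CommRingCat.ofHom (algebraMap R (A ⊗[R] P R A m)) :
      (f R A).left ⟶ CommRingCat.of (A ⊗[R] P R A m)))
    (fun j : Fin (m+2) => Fin.cases
      (motive := fun _ => ((f R A).right ⟶ CommRingCat.of (A ⊗[R] P R A m)))
      (CommRingCat.ofHom (Algebra.TensorProduct.includeLeft (R := R) (S := R) (A := A) (B := P R A m)).toRingHom)
      (fun j' => CommRingCat.ofHom
        ((Algebra.TensorProduct.includeRight (R := R) (A := A) (B := P R A m)).toRingHom.comp (ι R A m j'))) j)
    (by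
      intro j
      ext r
      refine Fin.cases ?_ (fun j' => ?_) j
      · simp
      · simp [ι_algebraMap, ← algebraMap_P])).hom


lemma ψ_ι_zero (m : ℕ) (a : A) : ψ R A m (ι R A (m+1) 0 a) = a ⊗ₜ[R] (1 : P R A m) := by
  have := WidePushout.ι_desc (arrows := fun _ : Fin (m+2) => (f R A).hom)
    (f := (CommRingCat.ofHom (algebraMap R (A ⊗[R] P R A m)) :
      (f R A).left ⟶ CommRingCat.of (A ⊗[R] P R A m)))
    (fs := (fun j : Fin (m+2) => Fin.cases
      (motive := fun _ => ((f R A).right ⟶ CommRingCat.of (A ⊗[R] P R A m)))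
      (CommRingCat.ofHom (Algebra.TensorProduct.includeLeft (R := R) (S := R) (A := A) (B := P R A m)).toRingHom)
      (fun j' => CommRingCat.ofHom
        ((Algebra.TensorProduct.includeRight (R := R) (A := A) (B := P R A m)).toRingHom.comp (ι R A m j'))) j))
    (by
      intro j
      ext r
      refine Fin.cases ?_ (fun j' => ?_) j
      · simp
      · simp [ι_algebraMap, ← algebraMap_P]) 0
  exact congrArg (fun g => g.hom a) this

lemma ψ_ι_succ (m : ℕ) (j : Fin (m+1)) (a : A) :
    ψ R A m (ι R A (m+1) j.succ a) = (1 : A) ⊗ₜ[R] (ι R A m j a) := by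
  have := WidePushout.ι_desc (arrows := fun _ : Fin (m+2) => (f R A).hom)
    (f := (CommRingCat.ofHom (algebraMap R (A ⊗[R] P R A m)) :
      (f R A).left ⟶ CommRingCat.of (A ⊗[R] P R A m)))
    (fs := (fun j : Fin (m+2) => Fin.cases
      (motive := fun _ => ((f R A).right ⟶ CommRingCat.of (A ⊗[R] P R A m)))
      (CommRingCat.ofHom (Algebra.TensorProduct.includeLeft (R := R) (S := R) (A := A) (B := P R A m)).toRingHom)
      (fun j' => CommRingCat.ofHom
        ((Algebra.TensorProduct.includeRight (R := R) (A := A) (B := P R A m)).toRingHom.comp (ι R A m j'))) j))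
    (by
      intro j
      ext r
      refine Fin.cases ?_ (fun j' => ?_) j
      · simp
      · simp [ι_algebraMap, ← algebraMap_P]) j.succ
  exact congrArg (fun g => g.hom a) this

lemma ψ_hd (m : ℕ) (r : R) :
    ψ R A m (hd R A (m+1) r) = algebraMap R (A ⊗[R] P R A m) r := by
  rw [← ι_algebraMap R A (m+1) 0, ψ_ι_zero, Algebra.TensorProduct.algebraMap_apply]

noncomputable def ψA (m : ℕ) : P R A (m+1) →ₐ[R] A ⊗[R] P R A m :=
  { ψ R A m with
    commutes' := fun r => ψ_hd R A m r }

@[simp] lemma ψA_apply (m : ℕ) (x : P R A (m+1)) : ψA R A m x = ψ R A m x := rfl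

/-- (I1) -/
lemma ψ_δ_zero (m : ℕ) (x : P R A m) : ψ R A m (δ R A m 0 x) = (1 : A) ⊗ₜ[R] x := by
  have : (ψ R A m).comp (δ R A m 0) =
      (Algebra.TensorProduct.includeRight (R := R) (A := A) (B := P R A m)).toRingHom := by
    apply ringHom_ext
    intro j a
    simp only [RingHom.comp_apply]
    rw [δ_ι, Fin.succAbove_zero, ψ_ι_succ]
    rfl
  exact congrArg (fun g => g x) this

/-- (I2) -/
lemma ψ_δ_succ (m : ℕ) (i : Fin (m+2)) (x : P R A (m+1)) :
    ψ R A (m+1) (δ R A (m+1) i.succ x) =
      Algebra.TensorProduct.map (AlgHom.id R A) (δA R A m i) (ψ R A m x) := by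
  have : (ψ R A (m+1)).comp (δ R A (m+1) i.succ) =
      (Algebra.TensorProduct.map (AlgHom.id R A) (δA R A m i)).toRingHom.comp (ψ R A m) := by
    apply ringHom_ext
    intro j a
    simp only [RingHom.comp_apply]
    rw [δ_ι]
    refine Fin.cases ?_ (fun j' => ?_) j
    · rw [Fin.succ_succAbove_zero, ψ_ι_zero, ψ_ι_zero]
      simp
    · rw [Fin.succ_succAbove_succ, ψ_ι_succ, ψ_ι_succ]
      simp [δ_ι]
  exact congrArg (fun g => g x) this


noncomputable def h (m : ℕ) : A ⊗[R] P R A (m+1) →ₗ[R] A ⊗[R] P R A m :=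
  (Algebra.TensorProduct.productMap
    (Algebra.TensorProduct.includeLeft (R := R) (S := R) (A := A) (B := P R A m))
    (ψA R A m)).toLinearMap

lemma h_tmul (m : ℕ) (a : A) (x : P R A (m+1)) :
    h R A m (a ⊗ₜ[R] x) = (a ⊗ₜ[R] (1 : P R A m)) * ψ R A m x := by
  simp [h]

lemma map_eq_lTensor (m : ℕ) (i : Fin (m+2)) :
    (Algebra.TensorProduct.map (AlgHom.id R A) (δA R A m i)).toLinearMap =
      (δA R A m i).toLinearMap.lTensor A := by
  apply TensorProduct.ext'
  intro a x
  simp

lemma lTensor_zsmul' {M N Q : Type*} [AddCommGroup M] [AddCommGroup N] [AddCommGroup Q]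
    [Module R M] [Module R N] [Module R Q] (n : ℤ) (g : N →ₗ[R] Q) :
    (n • g).lTensor M = n • g.lTensor M := by
  apply TensorProduct.ext'
  intro b x
  rw [LinearMap.lTensor_tmul, LinearMap.smul_apply, LinearMap.smul_apply, LinearMap.lTensor_tmul,
    TensorProduct.tmul_smul]

lemma lTensor_D (m : ℕ) :
    (D R A m).lTensor A = ∑ i : Fin (m+2), ((-1 : ℤ) ^ (i : ℕ)) •
      (Algebra.TensorProduct.map (AlgHom.id R A) (δA R A m i)).toLinearMap := by
  unfold D
  have : ∀ (s : Finset (Fin (m+2))),
      (∑ i ∈ s, ((-1 : ℤ) ^ (i : ℕ)) • (δA R A m i).toLinearMap).lTensor A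
        = ∑ i ∈ s, ((-1 : ℤ) ^ (i : ℕ)) •
      (Algebra.TensorProduct.map (AlgHom.id R A) (δA R A m i)).toLinearMap := by
    intro s
    induction s using Finset.induction_on with
    | empty => simp
    | insert a s ha ih =>
      rw [Finset.sum_insert ha, Finset.sum_insert ha, LinearMap.lTensor_add, ih, map_eq_lTensor,
        lTensor_zsmul']
  exact this _

lemma homotopy (m : ℕ) (y : A ⊗[R] P R A (m+1)) :
    (D R A m).lTensor A (h R A m y) + h R A (m+1) ((D R A (m+1)).lTensor A y) = y := by
  induction y using TensorProduct.induction_on with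
  | zero => simp
  | add y z hy hz =>
    simp only [map_add]
    rw [add_add_add_comm, hy, hz]
  | tmul a x =>
    rw [h_tmul, LinearMap.lTensor_tmul, lTensor_D]
    have h1 : h R A (m+1) (a ⊗ₜ[R] (D R A (m+1) x)) =
        a ⊗ₜ[R] x + ∑ i : Fin (m+2), ((-1 : ℤ) ^ ((i : ℕ) + 1)) •
          ((a ⊗ₜ[R] (1 : P R A (m+1))) *
            Algebra.TensorProduct.map (AlgHom.id R A) (δA R A m i) (ψ R A m x)) := by
      unfold D
      rw [LinearMap.sum_apply, TensorProduct.tmul_sum, map_sum, Fin.sum_univ_succ]
      congr 1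
      · rw [LinearMap.smul_apply, Fin.val_zero, pow_zero, one_smul, AlgHom.toLinearMap_apply,
          δA_apply, h_tmul, ψ_δ_zero, Algebra.TensorProduct.tmul_mul_tmul, mul_one, one_mul]
      · refine Finset.sum_congr rfl (fun i _ => ?_)
        rw [LinearMap.smul_apply, TensorProduct.tmul_smul, map_zsmul, AlgHom.toLinearMap_apply,
          δA_apply, h_tmul, ψ_δ_succ, Fin.val_succ]
    have h2 : (∑ i : Fin (m+2), ((-1 : ℤ) ^ (i : ℕ)) •
        (Algebra.TensorProduct.map (AlgHom.id R A) (δA R A m i)).toLinearMap)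
          ((a ⊗ₜ[R] (1 : P R A m)) * ψ R A m x) =
        ∑ i : Fin (m+2), ((-1 : ℤ) ^ (i : ℕ)) •
          ((a ⊗ₜ[R] (1 : P R A (m+1))) *
            Algebra.TensorProduct.map (AlgHom.id R A) (δA R A m i) (ψ R A m x)) := by
      rw [LinearMap.sum_apply]
      refine Finset.sum_congr rfl (fun i _ => ?_)
      rw [LinearMap.smul_apply, AlgHom.toLinearMap_apply, map_mul,
        Algebra.TensorProduct.map_tmul, map_one, AlgHom.id_apply]
    rw [h1, h2, add_left_comm, ← Finset.sum_add_distrib]
    rw [Finset.sum_eq_zero, add_zero]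
    intro i _
    rw [← add_smul, pow_succ]
    simp


noncomputable abbrev F : CommRingCat.{u} ⥤ AddCommGrpCat.{u} :=
  forget₂ CommRingCat RingCat ⋙ forget₂ RingCat AddCommGrpCat

noncomputable abbrev K : CochainComplex AddCommGrpCat.{u} ℕ :=
  AlgebraicTopology.AlternatingCofaceMapComplex.obj
    ((Arrow.mk (CommRingCat.ofHom (algebraMap R A))).cechConerve ⋙ forget₂ CommRingCat RingCat ⋙
        forget₂ RingCat AddCommGrpCat)

lemma sum_zsmul_hom_apply {M N : AddCommGrpCat.{u}} {ι' : Type*} (s : Finset ι') (c : ι' → ℤ)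
    (g : ι' → (M ⟶ N)) (x : M) :
    (∑ i ∈ s, c i • g i).hom x = ∑ i ∈ s, c i • (g i).hom x := by
  classical
  induction s using Finset.induction_on with
  | empty => simp
  | insert a s ha ih =>
    rw [Finset.sum_insert ha, Finset.sum_insert ha, AddCommGrpCat.hom_add, AddMonoidHom.add_apply, ih,
      AddCommGrpCat.hom_zsmul, AddMonoidHom.smul_apply]

lemma K_d_apply (m : ℕ) (x : P R A m) :
    ((K R A).d m (m+1)).hom x = D R A m x := by
  have h1 : (K R A).d m (m+1) = AlgebraicTopology.AlternatingCofaceMapComplex.objD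
      ((Arrow.mk (CommRingCat.ofHom (algebraMap R A))).cechConerve ⋙ forget₂ CommRingCat RingCat ⋙
        forget₂ RingCat AddCommGrpCat) m := by
    dsimp only [K, AlgebraicTopology.AlternatingCofaceMapComplex.obj]
    exact CochainComplex.of_d _ _ _
  have h2 : D R A m x = ∑ i : Fin (m+2), ((-1 : ℤ) ^ (i : ℕ)) • δ R A m i x := by
    unfold D
    rw [LinearMap.sum_apply]
    refine Finset.sum_congr rfl (fun i _ => ?_)
    rw [LinearMap.smul_apply]
    rfl
  rw [h1, h2]
  exact sum_zsmul_hom_apply Finset.univ (fun i : Fin (m+2) => (-1:ℤ)^(i:ℕ))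
    (fun i => CosimplicialObject.δ ((Arrow.mk (CommRingCat.ofHom (algebraMap R A))).cechConerve ⋙ forget₂ CommRingCat RingCat ⋙
        forget₂ RingCat AddCommGrpCat) i) x


lemma D_comp_D (m : ℕ) (x : P R A m) : D R A (m+1) (D R A m x) = 0 := by
  have := (K R A).d_comp_d m (m+1) (m+2)
  have h2 := congrArg (fun g => g.hom x) this
  simp only [AddCommGrpCat.hom_comp] at h2
  rw [← K_d_apply, ← K_d_apply]
  exact h2

lemma exact_lTensor (m : ℕ) :
    Function.Exact ((D R A m).lTensor A) ((D R A (m+1)).lTensor A) := by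
  intro y
  constructor
  · intro hy
    refine ⟨h R A m y, ?_⟩
    have := homotopy R A m y
    rw [hy, map_zero, add_zero] at this
    exact this
  · rintro ⟨z, rfl⟩
    rw [← LinearMap.comp_apply, ← LinearMap.lTensor_comp]
    have : (D R A (m+1)) ∘ₗ (D R A m) = 0 := by
      ext x
      exact D_comp_D R A m x
    rw [this, LinearMap.lTensor_zero, LinearMap.zero_apply]

theorem main [Module.FaithfullyFlat R A] (n : ℕ) (hn : 0 < n) : (K R A).ExactAt n := by
  obtain ⟨m, rfl⟩ : ∃ m, n = m + 1 := ⟨n - 1, by omega⟩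
  rw [HomologicalComplex.exactAt_iff' _ m (m+1) (m+2) (by simp) (by simp),
    ShortComplex.ab_exact_iff_function_exact]
  have hex : Function.Exact (D R A m) (D R A (m+1)) :=
    (Module.FaithfullyFlat.lTensor_exact_iff_exact R A _ _).mp (exact_lTensor R A m)
  intro y
  constructor
  · intro hy
    have hy' : D R A (m+1) y = 0 := (K_d_apply R A (m+1) y).symm.trans hy
    obtain ⟨z, hz⟩ := (hex y).mp hy'
    exact ⟨z, (K_d_apply R A m z).trans hz⟩
  · rintro ⟨z, rfl⟩
    exact ((K_d_apply R A (m+1) _).trans (congrArg (D R A (m+1)) (K_d_apply R A m z))).trans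
      (D_comp_D R A m z)

end Am


/-- Let R → A be a faithfully flat homomorphism of commutative rings. The Amitsur complex A → A ⊗_R A →
A ⊗_R A ⊗_R A → ⋯, whose differential is the alternating sum of the maps inserting a unit in each
tensor slot, is realised here as the alternating coface complex (of underlying abelian groups) of
the Čech conerve of R → A in the category of commutative rings, whose degree-n term is the
(n+1)-fold coproduct of A under R, i.e. the (n+1)-fold tensor power over R. Then this complex is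
exact in every degree n ≥ 1. (Exactness at the start, namely that R → A is injective with image the
equaliser of the two maps A → A ⊗_R A, is the degree-0 statement and is not part of this row.) -/
theorem result (R A : Type u) [CommRing R] [CommRing A] [Algebra R A] [Module.FaithfullyFlat R A]
    (n : ℕ) (hn : 0 < n) :
    (AlgebraicTopology.AlternatingCofaceMapComplex.obj
      ((Arrow.mk (CommRingCat.ofHom (algebraMap R A))).cechConerve ⋙ forget₂ CommRingCat RingCat ⋙
        forget₂ RingCat AddCommGrpCat)).ExactAt n :=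
  Am.main R A n hn

end Groth.Agent.S15057
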