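import Groth.Statements.S15058
import Groth.Agent.Lib.Helper76.PSInv

set_option autoImplicit false
universe u
open FmlGrp

open Groth.Agent.Lib.Helper76.PSInv Groth.Agent.Lib.Helper76.LT

namespace Groth.Agent.S15058

open MvPowerSeries in
lemma pair_constantCoeff {R : Type u} [CommRing R] {τ : Type} (a b : MvPowerSeries τ R)
    (ha : constantCoeff a = 0) (hb : constantCoeff b = 0) :
    ∀ s : Fin 2, constantCoeff ((![a, b] : Fin 2 → MvPowerSeries τ R) s) = 0 := by
  intro s
  fin_cases s
  · exact ha
  · exact hb

open MvPowerSeries in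
/-- solving `G(X, g(X)) = 0` when `G = X₀ + X₁ + (order ≥ 2)` -/
lemma exists_right_zero {R : Type u} [CommRing R] (G : MvPowerSeries (Fin 2) R)
    (hG : Ord 2 (G - X 0 - X 1)) :
    ∃ g : PowerSeries R, constantCoeff g = 0 ∧
      subst (![PowerSeries.X, g] : Fin 2 → PowerSeries R) G = (0 : PowerSeries R) := by
  set G₂ := G - X 0 - X 1 with hG₂
  have hGeq : G = X 0 + X 1 + G₂ := by rw [hG₂]; ring
  have hX0 : constantCoeff (PowerSeries.X : PowerSeries R) = 0 := PowerSeries.constantCoeff_X
  have hsub : ∀ g : PowerSeries R, constantCoeff g = 0 →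
      subst (![PowerSeries.X, g] : Fin 2 → PowerSeries R) G =
        PowerSeries.X + g + subst (![PowerSeries.X, g] : Fin 2 → PowerSeries R) G₂ := by
    intro g hg
    have hs : HasSubst (![PowerSeries.X, g] : Fin 2 → PowerSeries R) :=
      hasSubst_of_constantCoeff_zero (pair_constantCoeff _ _ hX0 hg)
    rw [hGeq, subst_add hs, subst_add hs, subst_X hs, subst_X hs]
    simp
  let T : MvPowerSeries Unit R → MvPowerSeries Unit R :=
    fun g => subst (![PowerSeries.X, g] : Fin 2 → PowerSeries R) G
  have hdiff : ∀ (k : ℕ) (H Δ : MvPowerSeries Unit R), constantCoeff H = 0 → Ord (k + 1) Δ →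
      Ord (2 + k) (T (H + Δ) - T H - Δ) := by
    intro k H Δ hH hΔ
    have hΔ0 : constantCoeff Δ = 0 := hΔ.constantCoeff_eq_zero (by omega)
    have hHΔ : constantCoeff (H + Δ) = 0 := by rw [map_add, hH, hΔ0, add_zero]
    have e : T (H + Δ) - T H - Δ =
        subst (![PowerSeries.X, H + Δ] : Fin 2 → PowerSeries R) G₂ -
          subst (![PowerSeries.X, H] : Fin 2 → PowerSeries R) G₂ := by
      simp only [T]
      rw [hsub _ hHΔ, hsub _ hH]; ring
    rw [e]
    refine ord_subst_sub_subst (pair_constantCoeff _ _ hX0 hHΔ) (pair_constantCoeff _ _ hX0 hH)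
      (k := k) (fun s => ?_) hG
    fin_cases s
    · simpa using ord_zero _
    · simpa using hΔ
  have hcont : ∀ (m : ℕ) (H Δ : MvPowerSeries Unit R), constantCoeff H = 0 → 1 ≤ m → Ord m Δ →
      Ord m (T (H + Δ) - T H) := by
    intro m H Δ hH hm hΔ
    obtain ⟨k, rfl⟩ : ∃ k, m = k + 1 := ⟨m - 1, by omega⟩
    have := (hdiff k H Δ hH hΔ).mono (by omega : k + 1 ≤ 2 + k)
    have e : T (H + Δ) - T H = (T (H + Δ) - T H - Δ) + Δ := by ring
    rw [e]
    exact this.add hΔ
  have hstep : ∀ (r : ℕ) (H : MvPowerSeries Unit R), 1 ≤ r → constantCoeff H = 0 →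
      Ord (r + 1) (T H) → ∃ Δ, Ord (r + 1) Δ ∧ Ord (r + 2) (T (H + Δ)) := by
    intro r H _ hH hTH
    refine ⟨-T H, hTH.neg, ?_⟩
    have := hdiff r H (-T H) hH hTH.neg
    have e : T (H + -T H) = T (H + -T H) - T H - -T H := by ring
    rw [e]
    exact this.mono (by omega)
  have hH₀ : constantCoeff (-(PowerSeries.X : PowerSeries R)) = 0 := by rw [map_neg, hX0, neg_zero]
  have h0 : Ord 2 (T (-(PowerSeries.X : PowerSeries R))) := by
    simp only [T]
    rw [hsub _ hH₀]
    have : (PowerSeries.X : PowerSeries R) + -PowerSeries.X = 0 := by ring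
    rw [this, zero_add]
    exact ord_subst (pair_constantCoeff _ _ hX0 hH₀) hG
  obtain ⟨g, hg0, _, hTg⟩ := exists_limit T hcont hstep _ hH₀ h0
  exact ⟨g, hg0, hTg⟩

/-- Let R be a commutative ring and F(X,Y) ∈ R[[X,Y]] a one-dimensional formal group law (zero constant
term, linear part X + Y, associative). Then there is a power series g(X) ∈ R[[X]] with zero constant
term which is a two-sided inverse for F, F(X, g(X)) = 0 = F(g(X), X), and it is unique: every power
series with zero constant term which is a right inverse or a left inverse equals g. (The published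
text proves this for formal group laws of any finite dimension with coefficients in a complete
Noetherian local ring; the argument is a formal degree-by-degree construction, and this row states
the one-dimensional case over an arbitrary commutative ring.) -/
theorem result (R : Type u) [CommRing R] (F : FormalGroup R) :
    ∃ g : PowerSeries R, g.constantCoeff = 0 ∧
      F.toPowerSeries.subst ![PowerSeries.X, g] = (0 : PowerSeries R) ∧
      F.toPowerSeries.subst ![g, PowerSeries.X] = (0 : PowerSeries R) ∧
      ∀ k : PowerSeries R, k.constantCoeff = 0 →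
        (F.toPowerSeries.subst ![PowerSeries.X, k] = (0 : PowerSeries R) ∨
          F.toPowerSeries.subst ![k, PowerSeries.X] = (0 : PowerSeries R)) → k = g := by
  classical
  have hX0 : MvPowerSeries.constantCoeff (PowerSeries.X : PowerSeries R) = 0 :=
    PowerSeries.constantCoeff_X
  have hXs : PowerSeries.HasSubst (PowerSeries.X : PowerSeries R) :=
    PowerSeries.HasSubst.of_constantCoeff_zero hX0
  have h0s : PowerSeries.HasSubst (0 : PowerSeries R) := PowerSeries.HasSubst.zero
  -- F = X₀ + X₁ + order ≥ 2
  have hF2 : Ord 2 (F.toPowerSeries - MvPowerSeries.X 0 - MvPowerSeries.X 1) := by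
    rw [ord_two_iff]
    refine ⟨by simp [F.zero_constantCoeff], fun s => ?_⟩
    fin_cases s
    · simp [F.lin_coeff_X, MvPowerSeries.coeff_index_single_X]
    · simp [F.lin_coeff_Y, MvPowerSeries.coeff_index_single_X]
  -- right inverse
  obtain ⟨g, hg0, hg⟩ := exists_right_zero F.toPowerSeries hF2
  -- left inverse through the opposite group law
  have hsw : MvPowerSeries.HasSubst (![MvPowerSeries.X 1, MvPowerSeries.X 0] :
      Fin 2 → MvPowerSeries (Fin 2) R) := MvPowerSeries.HasSubst.X_X
  have hswc := pair_constantCoeff (MvPowerSeries.X (1 : Fin 2) : MvPowerSeries (Fin 2) R)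
    (MvPowerSeries.X 0) (MvPowerSeries.constantCoeff_X _) (MvPowerSeries.constantCoeff_X _)
  have hF2' : Ord 2 (MvPowerSeries.subst (![MvPowerSeries.X 1, MvPowerSeries.X 0] :
      Fin 2 → MvPowerSeries (Fin 2) R) F.toPowerSeries - MvPowerSeries.X 0 - MvPowerSeries.X 1) := by
    have e : F.toPowerSeries = MvPowerSeries.X 0 + MvPowerSeries.X 1 +
        (F.toPowerSeries - MvPowerSeries.X 0 - MvPowerSeries.X 1) := by ring
    have := ord_subst hswc hF2
    rw [e, MvPowerSeries.subst_add hsw, MvPowerSeries.subst_add hsw, MvPowerSeries.subst_X hsw,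
      MvPowerSeries.subst_X hsw]
    simp only [Matrix.cons_val_zero, Matrix.cons_val_one]
    have e2 : MvPowerSeries.X (1 : Fin 2) + MvPowerSeries.X 0 +
        MvPowerSeries.subst (![MvPowerSeries.X 1, MvPowerSeries.X 0] :
          Fin 2 → MvPowerSeries (Fin 2) R)
          (F.toPowerSeries - MvPowerSeries.X 0 - MvPowerSeries.X 1) -
        MvPowerSeries.X 0 - MvPowerSeries.X 1 =
        MvPowerSeries.subst (![MvPowerSeries.X 1, MvPowerSeries.X 0] :
          Fin 2 → MvPowerSeries (Fin 2) R)
          (F.toPowerSeries - MvPowerSeries.X 0 - MvPowerSeries.X 1) := by ring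
    rw [e2]
    exact this
  obtain ⟨g', hg'0, hg'⟩ := exists_right_zero _ hF2'
  have hgs : PowerSeries.HasSubst g := PowerSeries.HasSubst.of_constantCoeff_zero hg0
  have hg's : PowerSeries.HasSubst g' := PowerSeries.HasSubst.of_constantCoeff_zero hg'0
  have hg'L : MvPowerSeries.subst (![g', PowerSeries.X] : Fin 2 → PowerSeries R) F.toPowerSeries
      = 0 := by
    have hs : MvPowerSeries.HasSubst (![PowerSeries.X, g'] : Fin 2 → PowerSeries R) :=
      MvPowerSeries.hasSubst_of_constantCoeff_zero (pair_constantCoeff _ _ hX0 hg'0)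
    rw [MvPowerSeries.subst_comp_subst_apply hsw hs] at hg'
    rw [← hg']
    congr 1
    funext s
    fin_cases s
    · simp [MvPowerSeries.subst_X hs]
    · simp [MvPowerSeries.subst_X hs]
  -- the two inverses agree
  have hgg' : g' = g := by
    calc g' = MvPowerSeries.subst (![g', 0] : Fin 2 → PowerSeries R) F.toPowerSeries :=
          (F.add_zero hg's).symm
      _ = MvPowerSeries.subst (![g', MvPowerSeries.subst (![PowerSeries.X, g] :
            Fin 2 → PowerSeries R) F.toPowerSeries] : Fin 2 → PowerSeries R) F.toPowerSeries := by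
          rw [hg]
      _ = MvPowerSeries.subst (![MvPowerSeries.subst (![g', PowerSeries.X] :
            Fin 2 → PowerSeries R) F.toPowerSeries, g] : Fin 2 → PowerSeries R) F.toPowerSeries :=
          (F.assoc' hg's hXs hgs).symm
      _ = MvPowerSeries.subst (![0, g] : Fin 2 → PowerSeries R) F.toPowerSeries := by rw [hg'L]
      _ = g := F.zero_add hgs
  rw [hgg'] at hg'L
  refine ⟨g, hg0, hg, hg'L, ?_⟩
  intro k hk0 hk
  have hks : PowerSeries.HasSubst k := PowerSeries.HasSubst.of_constantCoeff_zero hk0
  rcases hk with hk | hk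
  · calc k = MvPowerSeries.subst (![0, k] : Fin 2 → PowerSeries R) F.toPowerSeries :=
          (F.zero_add hks).symm
      _ = MvPowerSeries.subst (![MvPowerSeries.subst (![g, PowerSeries.X] :
            Fin 2 → PowerSeries R) F.toPowerSeries, k] : Fin 2 → PowerSeries R) F.toPowerSeries := by
          rw [hg'L]
      _ = MvPowerSeries.subst (![g, MvPowerSeries.subst (![PowerSeries.X, k] :
            Fin 2 → PowerSeries R) F.toPowerSeries] : Fin 2 → PowerSeries R) F.toPowerSeries :=
          F.assoc' hgs hXs hks
      _ = MvPowerSeries.subst (![g, 0] : Fin 2 → PowerSeries R) F.toPowerSeries := by rw [hk]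
      _ = g := F.add_zero hgs
  · calc k = MvPowerSeries.subst (![k, 0] : Fin 2 → PowerSeries R) F.toPowerSeries :=
          (F.add_zero hks).symm
      _ = MvPowerSeries.subst (![k, MvPowerSeries.subst (![PowerSeries.X, g] :
            Fin 2 → PowerSeries R) F.toPowerSeries] : Fin 2 → PowerSeries R) F.toPowerSeries := by
          rw [hg]
      _ = MvPowerSeries.subst (![MvPowerSeries.subst (![k, PowerSeries.X] :
            Fin 2 → PowerSeries R) F.toPowerSeries, g] : Fin 2 → PowerSeries R) F.toPowerSeries :=
          (F.assoc' hks hXs hgs).symm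
      _ = MvPowerSeries.subst (![0, g] : Fin 2 → PowerSeries R) F.toPowerSeries := by rw [hk]
      _ = g := F.zero_add hgs

end Groth.Agent.S15058
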