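import Groth.Statements.S15060
import Groth.Agent.Lib.Helper76.LTMain

set_option autoImplicit false
universe u
open LubinTate
open Groth.Agent.Lib.Helper76.LT

namespace Groth.Agent.S15060

/-- Let O be a discrete valuation ring with finite residue field of cardinality q, π a uniformizer of O,
f = πT + T^q ∈ O[[T]], and F a one-dimensional formal group law over O for which f is an
endomorphism, f(F(X,Y)) = F(f(X), f(Y)). For α ∈ O write [α] for a power series with zero constant
term and linear coefficient α commuting with f (it is unique). Then for all α, β ∈ O and all such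
series [α], [β], [αβ], [α+β] one has [α]([β](T)) = [αβ](T) and F([α](T), [β](T)) = [α+β](T): the map
α ↦ [α] is a ring homomorphism from O to the endomorphisms of F with their formal-group addition and
composition. (The published statement is for the ring of integers of a finite extension of ℚ_p or of
𝔽_q((X)); completeness is not used and any discrete valuation ring with finite residue field is
allowed here.) -/
theorem result (O : Type u) [CommRing O] [IsDomain O] [IsDiscreteValuationRing O]
    [Finite (IsLocalRing.ResidueField O)] (π : O) (hπ : Irreducible π) (f : PowerSeries O)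
    (hf : f = π • PowerSeries.X + PowerSeries.X ^ Nat.card (IsLocalRing.ResidueField O))
    (F : FormalGroup O)
    (hF : PowerSeries.subst F.toPowerSeries f =
        MvPowerSeries.subst (fun i : Fin 2 => PowerSeries.subst (MvPowerSeries.X i : MvPowerSeries (Fin 2) O) f)
          F.toPowerSeries)
    (α β : O) (gα gβ gαβ gs : PowerSeries O)
    (hα0 : gα.constantCoeff = 0) (hα1 : gα.coeff 1 = α) (hαf : PowerSeries.subst gα f = PowerSeries.subst f gα)
    (hβ0 : gβ.constantCoeff = 0) (hβ1 : gβ.coeff 1 = β) (hβf : PowerSeries.subst gβ f = PowerSeries.subst f gβ)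
    (hαβ0 : gαβ.constantCoeff = 0) (hαβ1 : gαβ.coeff 1 = α * β)
    (hαβf : PowerSeries.subst gαβ f = PowerSeries.subst f gαβ)
    (hs0 : gs.constantCoeff = 0) (hs1 : gs.coeff 1 = α + β) (hsf : PowerSeries.subst gs f = PowerSeries.subst f gs) :
    PowerSeries.subst gβ gα = gαβ ∧ F.toPowerSeries.subst ![gα, gβ] = gs := by
  have hf' : f = fO π := hf
  subst hf'
  have hf0 := constantCoeff_fO π
  have hFI : Inter (fO π) (fO π) F.toPowerSeries := hF
  have hF0 := F.zero_constantCoeff
  have hIα : Inter (fO π) (fO π) (gα : MvPowerSeries Unit O) := inter_one_iff.mpr hαf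
  have hIβ : Inter (fO π) (fO π) (gβ : MvPowerSeries Unit O) := inter_one_iff.mpr hβf
  have hIαβ : Inter (fO π) (fO π) (gαβ : MvPowerSeries Unit O) := inter_one_iff.mpr hαβf
  have hIs : Inter (fO π) (fO π) (gs : MvPowerSeries Unit O) := inter_one_iff.mpr hsf
  constructor
  · refine inter_unique hπ (constantCoeff_pssubst hβ0 hα0) hαβ0 ?_
      (Inter.pscomp hf0 hf0 hα0 hαf hβ0 hIβ) hIαβ
    intro t
    rw [coeff_single_pssubst hβ0 hα0, hα1]
    have e1 : MvPowerSeries.coeff (Finsupp.single t 1) (gβ : MvPowerSeries Unit O) = β := hβ1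
    have e2 : MvPowerSeries.coeff (Finsupp.single t 1) (gαβ : MvPowerSeries Unit O) = α * β :=
      hαβ1
    rw [e1, e2]
  · have hb0 : ∀ s : Fin 2, MvPowerSeries.constantCoeff
        ((![gα, gβ] : Fin 2 → MvPowerSeries Unit O) s) = 0 := by
      intro s; fin_cases s
      · exact hα0
      · exact hβ0
    have hb : ∀ s : Fin 2, Inter (fO π) (fO π) ((![gα, gβ] : Fin 2 → MvPowerSeries Unit O) s) := by
      intro s; fin_cases s
      · exact hIα
      · exact hIβ
    refine inter_unique hπ (constantCoeff_subst_zero hb0 hF0) hs0 ?_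
      (Inter.comp hf0 hf0 hF0 hFI hb0 hb) hIs
    intro t
    rw [coeff_single_subst hb0 hF0, Fin.sum_univ_two, F.lin_coeff_X, F.lin_coeff_Y, one_mul,
      one_mul]
    have e1 : MvPowerSeries.coeff (Finsupp.single t 1) (gα : MvPowerSeries Unit O) = α := hα1
    have e2 : MvPowerSeries.coeff (Finsupp.single t 1) (gβ : MvPowerSeries Unit O) = β := hβ1
    have e3 : MvPowerSeries.coeff (Finsupp.single t 1) (gs : MvPowerSeries Unit O) = α + β := hs1
    simp only [Matrix.cons_val_zero, Matrix.cons_val_one]
    rw [e3]
    exact congrArg₂ (· + ·) e1 e2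

end Groth.Agent.S15060
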