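import Groth.Statements.S15063
import Groth.Agent.Lib.Helper17.DynGroup

set_option autoImplicit false
universe u
open Hopf

namespace Groth.Agent.S15063

section aux

open Groth.Agent.Lib.Helper17.DynG WithConv
open scoped TensorProduct
attribute [local instance] ptGroup

variable {R : Type u} [CommRing R] [Nontrivial R] {A : Type u} [CommRing A] [HopfAlgebra R A]
  [Module.Finite R A] (e : A)

lemma counit_mem (hε : Bialgebra.counitAlgHom R A e = 1) :
    ∀ a ∈ Ideal.span ({1 - e} : Set A), Bialgebra.counitAlgHom R A a = 0 := by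
  intro a ha
  obtain ⟨c, rfl⟩ := Ideal.mem_span_singleton'.mp ha
  rw [map_mul, map_sub, map_one, hε, sub_self, mul_zero]

noncomputable def eps0 (hε : Bialgebra.counitAlgHom R A e = 1) :
    (A ⧸ Ideal.span ({1 - e} : Set A)) →ₐ[R] R :=
  Ideal.Quotient.liftₐ _ (Bialgebra.counitAlgHom R A) (counit_mem e hε)

noncomputable def rho (hε : Bialgebra.counitAlgHom R A e = 1) :
    (A ⧸ Ideal.span ({1 - e} : Set A)) ⊗[R] A →ₐ[R] A :=
  Algebra.TensorProduct.lift ((Algebra.ofId R A).comp (eps0 e hε)) (AlgHom.id R A)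
    (fun _ _ => Commute.all _ _)

noncomputable def j1 : A →ₐ[R] (A ⧸ Ideal.span ({1 - e} : Set A)) ⊗[R] A :=
  Algebra.TensorProduct.includeRight

noncomputable def j2 :
    (A ⧸ Ideal.span ({1 - e} : Set A)) →ₐ[R] (A ⧸ Ideal.span ({1 - e} : Set A)) ⊗[R] A :=
  Algebra.TensorProduct.includeLeft

lemma rho_tmul (hε : Bialgebra.counitAlgHom R A e = 1) (b : A ⧸ Ideal.span ({1 - e} : Set A))
    (a : A) : rho e hε (b ⊗ₜ[R] a) = algebraMap R A (eps0 e hε b) * a := by
  simp [rho, Algebra.ofId_apply]

lemma sub_mem_of_isMaximal [IsLocalRing (A ⧸ Ideal.span ({1 - e} : Set A))]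
    (hε : Bialgebra.counitAlgHom R A e = 1)
    (M : Ideal ((A ⧸ Ideal.span ({1 - e} : Set A)) ⊗[R] A)) [M.IsMaximal]
    (s : (A ⧸ Ideal.span ({1 - e} : Set A)) ⊗[R] A) : s - j1 e (rho e hε s) ∈ M := by
  have hP : M.comap (algebraMap (A ⧸ Ideal.span ({1 - e} : Set A))
      ((A ⧸ Ideal.span ({1 - e} : Set A)) ⊗[R] A)) = IsLocalRing.maximalIdeal _ :=
    IsLocalRing.eq_maximalIdeal (Ideal.isMaximal_comap_of_isIntegral_of_isMaximal M)
  have hk : RingHom.ker (eps0 e hε) ≤ IsLocalRing.maximalIdeal _ :=
    IsLocalRing.le_maximalIdeal (RingHom.ker_ne_top _)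
  have h1 : ∀ b : A ⧸ Ideal.span ({1 - e} : Set A), eps0 e hε b = 0 → b ⊗ₜ[R] (1 : A) ∈ M := by
    intro b hb
    have h2 : b ∈ M.comap (algebraMap (A ⧸ Ideal.span ({1 - e} : Set A))
        ((A ⧸ Ideal.span ({1 - e} : Set A)) ⊗[R] A)) := by
      rw [hP]; exact hk ((RingHom.mem_ker).mpr hb)
    simpa [Algebra.TensorProduct.algebraMap_apply] using h2
  induction s using TensorProduct.induction_on with
  | zero => simp
  | add s s' h h' =>
    have h3 := M.add_mem h h'
    have h4 : s + s' - j1 e (rho e hε (s + s')) =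
        (s - j1 e (rho e hε s)) + (s' - j1 e (rho e hε s')) := by
      simp only [map_add]; abel
    rw [h4]; exact h3
  | tmul b a =>
    have h2 : b ⊗ₜ[R] a - j1 e (rho e hε (b ⊗ₜ a)) =
        ((b - algebraMap R _ (eps0 e hε b)) ⊗ₜ[R] (1 : A)) *
          ((1 : A ⧸ Ideal.span ({1 - e} : Set A)) ⊗ₜ[R] a) := by
      rw [rho_tmul, Algebra.TensorProduct.tmul_mul_tmul, mul_one, one_mul, TensorProduct.sub_tmul]
      congr 1
      simp [j1, Algebra.algebraMap_eq_smul_one, TensorProduct.smul_tmul']
    rw [h2]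
    apply Ideal.mul_mem_right
    apply h1
    rw [map_sub, AlgHom.commutes]
    simp

lemma idem_eq_zero [IsLocalRing (A ⧸ Ideal.span ({1 - e} : Set A))]
    (hε : Bialgebra.counitAlgHom R A e = 1)
    (w : (A ⧸ Ideal.span ({1 - e} : Set A)) ⊗[R] A) (hw : IsIdempotentElem w)
    (hρ : rho e hε w = 0) : w = 0 := by
  have hu : IsUnit (1 - w) := by
    by_contra hnu
    obtain ⟨M, hM, hmem⟩ := exists_max_ideal_of_mem_nonunits hnu
    have h1 := sub_mem_of_isMaximal e hε M w
    rw [hρ, map_zero, sub_zero] at h1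
    apply hM.ne_top
    rw [Ideal.eq_top_iff_one]
    have := M.add_mem hmem h1
    simpa using this
  have h2 : (1 - w) * w = (1 - w) * 0 := by rw [mul_zero, sub_mul, one_mul, hw.eq, sub_self]
  exact hu.mul_left_cancel h2

noncomputable def Uni : WithConv (A →ₐ[R] (A ⧸ Ideal.span ({1 - e} : Set A)) ⊗[R] A) :=
  toConv (j1 (R := R) e) * toConv ((j2 (R := R) e).comp (Ideal.Quotient.mkₐ R _)) *
    (toConv (j1 (R := R) e))⁻¹

lemma rho_Uni (hε : Bialgebra.counitAlgHom R A e = 1) : push (rho e hε) (Uni e) = 1 := by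
  have h1 : push (rho e hε) (toConv ((j2 e).comp (Ideal.Quotient.mkₐ R _))) = 1 := by
    apply WithConv.ofConv_injective
    apply AlgHom.ext; intro a
    simp [rho, j2, eps0, AlgHom.convOne_def, Algebra.ofId_apply]
  rw [Uni, map_mul, map_mul, map_inv, h1, mul_one, mul_inv_cancel]

theorem core [IsLocalRing (A ⧸ Ideal.span ({1 - e} : Set A))] (he : IsIdempotentElem e)
    (hε : Bialgebra.counitAlgHom R A e = 1) :
    SGA3.IsNormalHopfIdeal R A (Ideal.span ({1 - e} : Set A)) := by
  intro T _ _ g h hh a ha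
  rw [conv3_eq_mul]
  let hbar : (A ⧸ Ideal.span ({1 - e} : Set A)) →ₐ[R] T := Ideal.Quotient.liftₐ _ h hh
  let F : (A ⧸ Ideal.span ({1 - e} : Set A)) ⊗[R] A →ₐ[R] T :=
    Algebra.TensorProduct.lift hbar g (fun _ _ => Commute.all _ _)
  have hF : toConv g * toConv h * toConv (g.comp (HopfAlgebra.antipodeAlgHom R A)) =
      push F (Uni e) := by
    rw [Uni, map_mul, map_mul, map_inv]
    have h1 : push F (toConv (j1 e)) = toConv g := by
      apply WithConv.ofConv_injective; apply AlgHom.ext; intro a; simp [F, j1]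
    have h2 : push F (toConv ((j2 e).comp (Ideal.Quotient.mkₐ R _))) = toConv h := by
      apply WithConv.ofConv_injective; apply AlgHom.ext; intro a; simp [F, j2, hbar]
    rw [h1, h2]; rfl
  rw [hF]
  show F ((Uni (R := R) e).ofConv a) = 0
  have hw : (Uni (R := R) e).ofConv (1 - e) = 0 := by
    apply idem_eq_zero e hε
    · show (Uni (R := R) e).ofConv (1 - e) * (Uni (R := R) e).ofConv (1 - e) = (Uni (R := R) e).ofConv (1 - e)
      rw [← map_mul, (he.one_sub).eq]
    · have h3 := congrArg (fun f : WithConv (A →ₐ[R] A) => f.ofConv (1 - e)) (rho_Uni e hε)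
      have hε' : Coalgebra.counit (R := R) e = 1 := hε
      simpa [AlgHom.convOne_def, Algebra.ofId_apply, hε'] using h3
  obtain ⟨c, rfl⟩ := Ideal.mem_span_singleton'.mp ha
  rw [map_mul, hw, mul_zero, map_zero]

end aux

/-- Let R be a henselian Noetherian local ring and A a commutative Hopf algebra over R which is finite
and flat as an R-module (a finite flat R-group G = Spec A, not assumed commutative); let e ∈ A be an
idempotent with ε(e) = 1 such that A/(1 − e) is a local ring, so that Spec A/(1 − e) is the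
connected component G⁰ of G containing the unit section. Then G⁰ is normal in G: for every
commutative R-algebra T, every T-valued point g of G and every T-valued point h of G killing the
ideal (1 − e), the conjugate g·h·g⁻¹ again kills (1 − e). (The published statement is for a flat
affine algebraic R-group and also asserts that G⁰ is an open and closed flat subgroup; this row
states the normality clause for finite flat G.) -/
theorem result (R : Type u) [CommRing R] [HenselianLocalRing R] [IsNoetherianRing R]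
    (A : Type u) [CommRing A] [HopfAlgebra R A] [Module.Finite R A] [Module.Flat R A]
    (e : A) (he : IsIdempotentElem e) (hε : Bialgebra.counitAlgHom R A e = 1)
    [IsLocalRing (A ⧸ Ideal.span ({1 - e} : Set A))] :
    SGA3.IsNormalHopfIdeal R A (Ideal.span ({1 - e} : Set A)) := by
  exact core e he hε

end Groth.Agent.S15063
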