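import Groth.Statements.S16079

set_option autoImplicit false
universe u
open scoped TensorProduct
open Hopf

namespace Groth.Agent.S16079

section aux

lemma eq_one_of_idem {S : Type*} [CommRing S] [IsLocalRing S] {R : Type*} [CommRing R]
    [Nontrivial R] (ε : S →+* R) (u : S) (hu : IsIdempotentElem u) (h : ε u = 1) : u = 1 := by
  rcases IsLocalRing.isUnit_or_isUnit_one_sub_self u with h1 | h1
  · have h2 : u * u = u * 1 := by rw [mul_one]; exact hu
    exact h1.mul_left_cancel h2
  · exfalso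
    have h2 : (1 - u) * u = (1 - u) * 0 := by
      rw [mul_zero, sub_mul, one_mul, hu.eq, sub_self]
    have h3 : u = 0 := h1.mul_left_cancel h2
    rw [h3, map_zero] at h
    exact zero_ne_one h

lemma mul_eq_of_local_quot {S : Type*} [CommRing S] {R : Type*} [CommRing R] [Nontrivial R]
    (ε : S →+* R) (f : S) (hf : IsIdempotentElem f) (hfε : ε f = 1)
    [IsLocalRing (S ⧸ Ideal.span ({1 - f} : Set S))]
    (u : S) (hu : IsIdempotentElem u) (huε : ε u = 1) : f * u = f := by
  have hker : ∀ a ∈ Ideal.span ({1 - f} : Set S), ε a = 0 := by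
    intro a ha
    obtain ⟨c, rfl⟩ := Ideal.mem_span_singleton'.mp ha
    rw [map_mul, map_sub, map_one, hfε, sub_self, mul_zero]
  let ε' : S ⧸ Ideal.span ({1 - f} : Set S) →+* R := Ideal.Quotient.lift _ ε hker
  have hv : Ideal.Quotient.mk (Ideal.span ({1 - f} : Set S)) u = 1 := by
    apply eq_one_of_idem ε'
    · show Ideal.Quotient.mk _ u * Ideal.Quotient.mk _ u = Ideal.Quotient.mk _ u
      rw [← map_mul, hu.eq]
    · show ε' (Ideal.Quotient.mk _ u) = 1
      rw [Ideal.Quotient.lift_mk]; exact huε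
  have h2 : u - 1 ∈ Ideal.span ({1 - f} : Set S) := by
    rw [← Ideal.Quotient.eq_zero_iff_mem, map_sub, hv, map_one, sub_self]
  obtain ⟨c, hc⟩ := Ideal.mem_span_singleton'.mp h2
  have h3 : f * u = f + c * (f - f * f) := by
    have : u = 1 + c * (1 - f) := by rw [hc]; ring
    rw [this]; ring
  rw [h3, hf.eq, sub_self, mul_zero, add_zero]

variable {R : Type u} [CommRing R] {A B : Type u} [CommRing A] [HopfAlgebra R A]
  [CommRing B] [HopfAlgebra R B]

/-- the bialgebra map induced on quotients by Hopf ideals -/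
noncomputable def quotMap (ψ : B →ₐc[R] A) (I : Ideal B) [I.IsHopfIdeal R] (J : Ideal A)
    [J.IsHopfIdeal R] (h : ∀ b ∈ I, ψ b ∈ J) : B ⧸ I →ₐc[R] A ⧸ J :=
  BialgHom.ofAlgHom
    (Ideal.Quotient.liftₐ I ((Ideal.Quotient.mkₐ R J).comp (ψ : B →ₐ[R] A))
      (fun b hb => by
        show Ideal.Quotient.mk J (ψ b) = 0
        exact Ideal.Quotient.eq_zero_iff_mem.mpr (h b hb)))
    (by
      apply Ideal.Quotient.algHom_ext R
      apply AlgHom.ext; intro b
      show Coalgebra.counit (R := R) (Ideal.Quotient.mk J (ψ b)) =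
        Coalgebra.counit (R := R) (Ideal.Quotient.mk I b)
      rw [Bialgebra.Quotient.counit_mk, Bialgebra.Quotient.counit_mk,
        CoalgHomClass.counit_comp_apply])
    (by
      apply Ideal.Quotient.algHom_ext R
      apply AlgHom.ext; intro b
      show TensorProduct.map _ _ (Coalgebra.comul (R := R) (Ideal.Quotient.mk I b)) =
        Coalgebra.comul (R := R) (Ideal.Quotient.mk J (ψ b))
      rw [Bialgebra.Quotient.comul_mk, Bialgebra.Quotient.comul_mk,
        ← CoalgHomClass.map_comp_comul_apply ψ b]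
      generalize Coalgebra.comul (R := R) b = t
      induction t using TensorProduct.induction_on with
      | zero => simp only [map_zero]
      | tmul b1 b2 => rfl
      | add t t' h h' => simp only [map_add, h, h'])

lemma quotMap_mk (ψ : B →ₐc[R] A) (I : Ideal B) [I.IsHopfIdeal R] (J : Ideal A)
    [J.IsHopfIdeal R] (h : ∀ b ∈ I, ψ b ∈ J) (b : B) :
    quotMap ψ I J h (Ideal.Quotient.mk I b) = Ideal.Quotient.mk J (ψ b) := rfl

theorem core [Nontrivial R] (ψ : B →ₐc[R] A) (I : Ideal B) [I.IsHopfIdeal R] (J : Ideal A)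
    [J.IsHopfIdeal R] (h : ∀ b ∈ I, ψ b ∈ J)
    [Module.Finite R A] [Module.Finite R B]
    [Module.Projective R (A ⧸ J)] [Coalgebra.IsCocomm R (A ⧸ J)]
    [Module.Projective R (B ⧸ I)] [Coalgebra.IsCocomm R (B ⧸ I)]
    (fA : CartDual.D R (A ⧸ J)) (hfA : IsIdempotentElem fA)
    (hfAε : Bialgebra.counitAlgHom R (CartDual.D R (A ⧸ J)) fA = 1)
    (fB : CartDual.D R (B ⧸ I)) (hfB : IsIdempotentElem fB)
    (hfBε : Bialgebra.counitAlgHom R (CartDual.D R (B ⧸ I)) fB = 1)
    [IsLocalRing (CartDual.D R (B ⧸ I) ⧸ Ideal.span ({1 - fB} : Set (CartDual.D R (B ⧸ I))))]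
    (b : B)
    (hb : ∀ y : CartDual.D R (B ⧸ I),
      LinearMap.lTensor (CartDual.D R (B ⧸ I)) (LinearMap.mulLeft R fB)
        (Coalgebra.comul (R := R) y) = y ⊗ₜ[R] fB → y (Ideal.Quotient.mk I b) = 0)
    (x : CartDual.D R (A ⧸ J))
    (hx : LinearMap.lTensor (CartDual.D R (A ⧸ J)) (LinearMap.mulLeft R fA)
      (Coalgebra.comul (R := R) x) = x ⊗ₜ[R] fA) :
    x (Ideal.Quotient.mk J (ψ b)) = 0 := by
  let T : CartDual.D R (A ⧸ J) →ₐc[R] CartDual.D R (B ⧸ I) :=
    CartDual.transpose R (quotMap ψ I J h)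
  have hT : fB * T fA = fB := by
    apply mul_eq_of_local_quot (Bialgebra.counitAlgHom R (CartDual.D R (B ⧸ I))).toRingHom fB hfB
      hfBε (T fA)
    · show T fA * T fA = T fA
      rw [← map_mul, hfA.eq]
    · show Coalgebra.counit (R := R) (T fA) = 1
      rw [CoalgHomClass.counit_comp_apply]
      exact hfAε
  have key : ∀ t : CartDual.D R (A ⧸ J) ⊗[R] CartDual.D R (A ⧸ J),
      TensorProduct.map (T : CartDual.D R (A ⧸ J) →ₗ[R] CartDual.D R (B ⧸ I))
        ((LinearMap.mulLeft R fB) ∘ₗ (T : CartDual.D R (A ⧸ J) →ₗ[R] CartDual.D R (B ⧸ I)))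
        (LinearMap.lTensor (CartDual.D R (A ⧸ J)) (LinearMap.mulLeft R fA) t) =
      LinearMap.lTensor (CartDual.D R (B ⧸ I)) (LinearMap.mulLeft R fB)
        (TensorProduct.map (T : CartDual.D R (A ⧸ J) →ₗ[R] CartDual.D R (B ⧸ I))
          (T : CartDual.D R (A ⧸ J) →ₗ[R] CartDual.D R (B ⧸ I)) t) := by
    intro t
    induction t using TensorProduct.induction_on with
    | zero => simp only [map_zero]
    | add t t' h h' => simp only [map_add, h, h']
    | tmul x1 x2 =>
      simp only [LinearMap.lTensor_tmul, TensorProduct.map_tmul, LinearMap.comp_apply,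
        LinearMap.mulLeft_apply]
      congr 1
      show fB * T (fA * x2) = fB * T x2
      rw [map_mul, ← mul_assoc, hT]
  have hinv : LinearMap.lTensor (CartDual.D R (B ⧸ I)) (LinearMap.mulLeft R fB)
      (Coalgebra.comul (R := R) (T x)) = T x ⊗ₜ[R] fB := by
    rw [← CoalgHomClass.map_comp_comul_apply T x]
    have := key (Coalgebra.comul (R := R) x)
    rw [hx] at this
    rw [← this, TensorProduct.map_tmul]
    congr 1
  exact hb (T x) hinv

end aux

/-- Let R be a henselian Noetherian local ring, A and B commutative and cocommutative Hopf algebras over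
R which are finitely generated and projective as R-modules (finite flat commutative R-groups G =
Spec A and H = Spec B), and ψ : B → A an R-bialgebra homomorphism (a homomorphism φ : G → H). Let
e_A ∈ A be an idempotent with ε(e_A) = 1 such that (1 − e_A) is a Hopf ideal and A⁰ = A/(1 − e_A) is
local, R-projective and cocommutative (the unit component G⁰), and let e'_A be an idempotent of the
dual Hopf algebra Hom_R(A⁰, R) with ε(e'_A) = 1 and local quotient by (1 − e'_A) (the unit component
of the Cartier dual (G⁰)^D); similarly e_B, B⁰ = B/(1 − e_B) and e'_B for H. Call a linear form x on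
A⁰ invariant when (id ⊗ multiplication by e'_A)(Δx) = x ⊗ e'_A, i.e. x is invariant under
translation by the unit component of (G⁰)^D and so lies in the Hopf algebra of its étale quotient;
the elements of A⁰ annihilated by all invariant x form the ideal of G_μ ⊆ G⁰ ⊆ G, the largest
connected multiplicative closed subgroup of G; likewise for B and H_μ. Then the filtration G_μ ⊆ G⁰
⊆ G is respected by φ at the G_μ step: φ maps G_μ into H_μ, i.e. for every b ∈ B whose image in B⁰
is annihilated by all invariant linear forms on B⁰ (b in the ideal of H_μ), the image of ψ(b) in A⁰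
is annihilated by all invariant linear forms on A⁰ (ψ(b) in the ideal of G_μ). (That φ maps G⁰ into
H⁰ is the universal property of the unit component and is not restated.) -/
theorem result (R : Type u) [CommRing R]
    [HenselianLocalRing R] [IsNoetherianRing R] (A B : Type u) [CommRing A] [HopfAlgebra R A] [Coalgebra.IsCocomm R A]
    [Module.Finite R A] [Module.Projective R A] [CommRing B] [HopfAlgebra R B] [Coalgebra.IsCocomm R B]
    [Module.Finite R B] [Module.Projective R B] (ψ : B →ₐc[R] A)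
    (eA : A) (heA : IsIdempotentElem eA) (heAε : Bialgebra.counitAlgHom R A eA = 1)
    [(Ideal.span ({1 - eA} : Set A)).IsHopfIdeal R] [IsLocalRing (A ⧸ Ideal.span ({1 - eA} : Set A))] [Module.Projective R (A ⧸ Ideal.span ({1 - eA} : Set A))] [Coalgebra.IsCocomm R (A ⧸ Ideal.span ({1 - eA} : Set A))]
    (fA : CartDual.D R (A ⧸ Ideal.span ({1 - eA} : Set A))) (hfA : IsIdempotentElem fA)
    (hfAε : Bialgebra.counitAlgHom R (CartDual.D R (A ⧸ Ideal.span ({1 - eA} : Set A))) fA = 1)
    [IsLocalRing (CartDual.D R (A ⧸ Ideal.span ({1 - eA} : Set A)) ⧸ Ideal.span ({1 - fA} : Set (CartDual.D R (A ⧸ Ideal.span ({1 - eA} : Set A)))))]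
    (eB : B) (heB : IsIdempotentElem eB) (heBε : Bialgebra.counitAlgHom R B eB = 1)
    [(Ideal.span ({1 - eB} : Set B)).IsHopfIdeal R] [IsLocalRing (B ⧸ Ideal.span ({1 - eB} : Set B))] [Module.Projective R (B ⧸ Ideal.span ({1 - eB} : Set B))] [Coalgebra.IsCocomm R (B ⧸ Ideal.span ({1 - eB} : Set B))]
    (fB : CartDual.D R (B ⧸ Ideal.span ({1 - eB} : Set B))) (hfB : IsIdempotentElem fB)
    (hfBε : Bialgebra.counitAlgHom R (CartDual.D R (B ⧸ Ideal.span ({1 - eB} : Set B))) fB = 1)
    [IsLocalRing (CartDual.D R (B ⧸ Ideal.span ({1 - eB} : Set B)) ⧸ Ideal.span ({1 - fB} : Set (CartDual.D R (B ⧸ Ideal.span ({1 - eB} : Set B)))))]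
    (b : B) (hb : ∀ y : CartDual.D R (B ⧸ Ideal.span ({1 - eB} : Set B)), LinearMap.lTensor (CartDual.D R (B ⧸ Ideal.span ({1 - eB} : Set B))) (LinearMap.mulLeft R fB) (Coalgebra.comul (R := R) y) = y ⊗ₜ[R] fB → y (Ideal.Quotient.mk (Ideal.span ({1 - eB} : Set B)) b) = 0)
    (x : CartDual.D R (A ⧸ Ideal.span ({1 - eA} : Set A))) (hx : LinearMap.lTensor (CartDual.D R (A ⧸ Ideal.span ({1 - eA} : Set A))) (LinearMap.mulLeft R fA) (Coalgebra.comul (R := R) x) = x ⊗ₜ[R] fA) :
    x (Ideal.Quotient.mk (Ideal.span ({1 - eA} : Set A)) (ψ b)) = 0 := by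
  have h1 : ∀ b ∈ Ideal.span ({1 - eB} : Set B), ψ b ∈ Ideal.span ({1 - eA} : Set A) := by
    intro b hb
    obtain ⟨c, rfl⟩ := Ideal.mem_span_singleton'.mp hb
    have h2 : eA * ψ eB = eA := by
      apply mul_eq_of_local_quot (Bialgebra.counitAlgHom R A).toRingHom eA heA heAε (ψ eB)
      · show ψ eB * ψ eB = ψ eB
        rw [← map_mul, heB.eq]
      · show Coalgebra.counit (R := R) (ψ eB) = 1
        rw [CoalgHomClass.counit_comp_apply]
        exact heBε
    rw [map_mul, map_sub, map_one]
    apply Ideal.mul_mem_left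
    have h3 : 1 - ψ eB = (1 - ψ eB) * (1 - eA) := by
      have : (1 - ψ eB) * (1 - eA) = 1 - ψ eB - eA + eA * ψ eB := by ring
      rw [this, h2]; ring
    rw [h3]
    exact Ideal.mul_mem_left _ _ (Ideal.mem_span_singleton_self _)
  exact core ψ _ _ h1 fA hfA hfAε fB hfB hfBε b hb x hx

end Groth.Agent.S16079
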