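import Groth.Statements.S15062
import Groth.Agent.S15063
import Groth.Agent.S16079
import Mathlib.RingTheory.Filtration
import Mathlib.RingTheory.Unramified.Basic
import Mathlib.RingTheory.Etale.Basic

set_option autoImplicit false
universe u
open scoped TensorProduct
open Hopf

namespace Groth.Agent.S15062

section aux

open scoped TensorProduct
open Groth.Agent.S15063 (eps0 counit_mem)

variable {R : Type u} [CommRing R] [IsNoetherianRing R] [Nontrivial R] {A : Type u} [CommRing A]
  [HopfAlgebra R A] [Module.Finite R A] (e : A)

lemma proj_eq [IsLocalRing (A ⧸ Ideal.span ({1 - e} : Set A))]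
    (hε : Bialgebra.counitAlgHom R A e = 1)
    (C : Type u) [CommRing C] [HopfAlgebra R C] [Algebra.FormallyUnramified R C]
    (φ : C →ₐc[R] A) (x : C) :
    Ideal.Quotient.mk (Ideal.span ({1 - e} : Set A)) (φ x) =
      algebraMap R (A ⧸ Ideal.span ({1 - e} : Set A)) (Coalgebra.counit (R := R) x) := by
  have : IsNoetherianRing A := IsNoetherianRing.of_finite R A
  let f1 : C →ₐ[R] (A ⧸ Ideal.span ({1 - e} : Set A)) :=
    (Ideal.Quotient.mkₐ R _).comp (φ : C →ₐ[R] A)
  let f2 : C →ₐ[R] (A ⧸ Ideal.span ({1 - e} : Set A)) :=
    (Algebra.ofId R _).comp (Bialgebra.counitAlgHom R C)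
  have hk : RingHom.ker (eps0 e hε) ≤ IsLocalRing.maximalIdeal _ :=
    IsLocalRing.le_maximalIdeal (RingHom.ker_ne_top _)
  have h12 : f1 = f2 := by
    apply Algebra.FormallyUnramified.ext_of_iInf
      (I := IsLocalRing.maximalIdeal (A ⧸ Ideal.span ({1 - e} : Set A)))
      (Ideal.iInf_pow_eq_bot_of_isLocalRing _ Ideal.IsPrime.ne_top')
    intro y
    rw [Ideal.Quotient.eq]
    apply hk
    rw [RingHom.mem_ker, map_sub]
    have h1 : eps0 e hε (f1 y) = Coalgebra.counit (R := R) y := by
      show Coalgebra.counit (R := R) (φ y) = _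
      exact CoalgHomClass.counit_comp_apply φ y
    have h2 : eps0 e hε (f2 y) = Coalgebra.counit (R := R) y := by
      show eps0 e hε (algebraMap R _ (Coalgebra.counit (R := R) y)) = _
      rw [AlgHom.commutes]; rfl
    rw [h1, h2, sub_self]
  exact AlgHom.congr_fun h12 x

lemma key_map {C : Type u} [CommRing C] [HopfAlgebra R C] (L : C →ₗ[R] A)
    (hL : ∀ x, Ideal.Quotient.mk (Ideal.span ({1 - e} : Set A)) (L x) =
      algebraMap R (A ⧸ Ideal.span ({1 - e} : Set A)) (Coalgebra.counit (R := R) x))
    (t : C ⊗[R] C) :
    Algebra.TensorProduct.map (AlgHom.id R A)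
        (Ideal.Quotient.mkₐ R (Ideal.span ({1 - e} : Set A))) (TensorProduct.map L L t) =
      TensorProduct.map L (Algebra.linearMap R (A ⧸ Ideal.span ({1 - e} : Set A)))
        (LinearMap.lTensor C (Coalgebra.counit (R := R)) t) := by
  induction t using TensorProduct.induction_on with
  | zero => simp only [map_zero]
  | add t t' h h' => simp only [map_add, h, h']
  | tmul a b =>
    simp only [TensorProduct.map_tmul, Algebra.TensorProduct.map_tmul, LinearMap.lTensor_tmul,
      AlgHom.id_apply, Ideal.Quotient.mkₐ_eq_mk, Algebra.linearMap_apply]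
    rw [hL]

end aux

/-- Let R be a henselian Noetherian local ring and A a commutative Hopf algebra over R which is finite
and flat as an R-module (a finite flat R-group G = Spec A, not assumed commutative); let e ∈ A be an
idempotent with ε(e) = 1 such that A/(1 − e) is a local ring, so that G⁰ = Spec A/(1 − e) is the
connected component of the unit section, and let B ⊆ A be the subalgebra of functions invariant
under right translation by G⁰: the equaliser of a ↦ (id ⊗ π)(Δ a) and a ↦ a ⊗ 1 into A ⊗_R A/(1 − e)
(so Spec B = G^ét). Then: (2) for every commutative Hopf algebra C over R which is finite étale over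
R (a finite étale R-group H) and every bialgebra homomorphism φ : C → A (a homomorphism G → H), the
image of φ lies in B — the homomorphism factors (necessarily uniquely, A being faithfully flat over
B) through G → G^ét; (3) for every commutative Hopf algebra D over R which is finite and flat over R
and a local ring (a connected finite flat R-group H) and every bialgebra homomorphism ψ : A → D (a
homomorphism H → G), ψ(e) = 1, i.e. ψ kills the ideal (1 − e) and the homomorphism factors
(uniquely) through G⁰ → G. -/
theorem result (R : Type u) [CommRing R] [HenselianLocalRing R] [IsNoetherianRing R]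
    (A : Type u) [CommRing A] [HopfAlgebra R A] [Module.Finite R A] [Module.Flat R A]
    (e : A) (he : IsIdempotentElem e) (hε : Bialgebra.counitAlgHom R A e = 1)
    [IsLocalRing (A ⧸ Ideal.span ({1 - e} : Set A))] :
    (∀ (C : Type u) [CommRing C] [HopfAlgebra R C] [Module.Finite R C] [Algebra.Etale R C] (φ : C →ₐc[R] A) (c : C),
        φ c ∈ (AlgHom.equalizer
          ((Algebra.TensorProduct.map (AlgHom.id R A) (Ideal.Quotient.mkₐ R (Ideal.span ({1 - e} : Set A)))).comp
            (Bialgebra.comulAlgHom R A))
          (Algebra.TensorProduct.includeLeft : A →ₐ[R] A ⊗[R] (A ⧸ Ideal.span ({1 - e} : Set A))))) ∧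
      ∀ (D : Type u) [CommRing D] [HopfAlgebra R D] [Module.Finite R D] [Module.Flat R D] [IsLocalRing D]
        (ψ : A →ₐc[R] D), ψ e = 1 := by
  constructor
  · intro C _ _ _ _ φ c
    rw [AlgHom.mem_equalizer]
    show Algebra.TensorProduct.map (AlgHom.id R A)
      (Ideal.Quotient.mkₐ R (Ideal.span ({1 - e} : Set A))) (Coalgebra.comul (R := R) (φ c)) =
      φ c ⊗ₜ[R] 1
    rw [← CoalgHomClass.map_comp_comul_apply φ c]
    refine (key_map e _ (fun x => proj_eq e hε C φ x) _).trans ?_
    rw [Coalgebra.lTensor_counit_comul, TensorProduct.map_tmul]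
    simp only [Algebra.linearMap_apply, map_one]
    rfl
  · intro D _ _ _ _ _ ψ
    apply Groth.Agent.S16079.eq_one_of_idem (Bialgebra.counitAlgHom R D).toRingHom (ψ e)
    · show ψ e * ψ e = ψ e
      rw [← map_mul, he.eq]
    · show Coalgebra.counit (R := R) (ψ e) = 1
      rw [CoalgHomClass.counit_comp_apply]
      exact hε

end Groth.Agent.S15062
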