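import Groth.Statements.S15064
import Groth.Agent.Lib.Helper16.FinHopfSimple

set_option autoImplicit false
universe u
open scoped TensorProduct
open Hopf

namespace Groth.Agent.S15064

/-- Let k be a field of characteristic p > 0 and A a finite-dimensional commutative and cocommutative
Hopf algebra over k (a finite commutative k-group G = Spec A) which is bi-infinitesimal — A is a
local ring and so is the dual algebra Hom_k(A, k) with the convolution product (G and its Cartier
dual are connected) — with dim_k A > 1, and assume G is simple: every Hopf ideal of A is either zero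
or the augmentation ideal (G has no closed subgroup schemes other than G and 1). Then G is
isomorphic to α_p: A has a primitive element x (Δ(x) = x ⊗ 1 + 1 ⊗ x) with x^p = 0 whose powers 1,
x, …, x^(p−1) are linearly independent over k, and dim_k A = p (so A = k[x]/(x^p) with x primitive). -/
theorem result (k : Type u) [Field k] (p : ℕ) [Fact p.Prime] [CharP k p]
    (A : Type u) [CommRing A] [HopfAlgebra k A] [Coalgebra.IsCocomm k A] [FiniteDimensional k A] [IsLocalRing A]
    (hdual : IsLocalRing (WithConv (A →ₗ[k] k))) (hA : 1 < Module.finrank k A)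
    (hsimple : ∀ I : Ideal A, I.IsHopfIdeal k → I = ⊥ ∨ I = RingHom.ker (Bialgebra.counitAlgHom k A)) :
    ∃ x : A, Coalgebra.comul x = x ⊗ₜ[k] (1 : A) + (1 : A) ⊗ₜ[k] x ∧ x ^ p = 0 ∧
      LinearIndependent k (fun i : Fin p => x ^ (i : ℕ)) ∧ Module.finrank k A = p := by
  open Groth.Agent.Lib.Helper16.FinHopf in
  obtain ⟨x, hx0, hx⟩ := exists_primitive_of_isLocalRing_dual hdual hA
  have hp := pow_eq_zero_of_simple p hA hsimple
  have hxI : Bialgebra.counitAlgHom k A x = 0 := counit_eq_zero_of_primitive x hx
  have hspan : RingHom.ker (Bialgebra.counitAlgHom k A) = Ideal.span {x} := by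
    rcases hsimple _ (isHopfIdeal_span_primitive x hx) with h | h
    · exfalso
      apply hx0
      have h1 := Ideal.mem_span_singleton_self x
      rw [h] at h1
      exact h1
    · exact h.symm
  obtain ⟨hfin, hli⟩ := finrank_eq_prime_of_span_singleton p hA hp x hspan
  exact ⟨x, hx, hp x hxI, hli, hfin⟩

end Groth.Agent.S15064
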