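import Groth.Statements.S15065
import Groth.Agent.Lib.Helper16.FinHopfPoints
import Groth.Agent.S7974

set_option autoImplicit false
universe u
open Hopf

namespace Groth.Agent.S15065

/-- Let k be an algebraically closed field and A a finite-dimensional commutative and cocommutative Hopf
algebra over k which is reduced (a finite étale commutative k-group G = Spec A), with dim_k A > 1,
and assume G is simple: every Hopf ideal of A is either zero or the augmentation ideal (no closed
subgroup schemes other than G and 1). Then the order dim_k A is a prime number ℓ, so that G is the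
constant group ℤ/ℓℤ. (The published statement lists the simple finite commutative groups over an
algebraically closed field of characteristic p > 0; the étale case does not use the characteristic
and is stated here for any algebraically closed field.) -/
theorem result (k : Type u) [Field k] [IsAlgClosed k] (A : Type u) [CommRing A] [HopfAlgebra k A]
    [Coalgebra.IsCocomm k A] [FiniteDimensional k A] [IsReduced A] (hA : 1 < Module.finrank k A)
    (hsimple : ∀ I : Ideal A, I.IsHopfIdeal k → I = ⊥ ∨ I = RingHom.ker (Bialgebra.counitAlgHom k A)) :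
    (Module.finrank k A).Prime := by
  open Groth.Agent.Lib.Helper16.FinHopf in
  classical
  -- number of points = dimension
  haveI : IsArtinianRing A := IsArtinianRing.of_finite k A
  have hjac : (Ideal.jacobson (⊥ : Ideal A)) ^ 1 = ⊥ := by
    rw [pow_one, IsArtinianRing.jacobson_eq_radical]
    exact nilradical_eq_zero A
  have hcard := finrank_eq_card_mul (k := k) (A := A) 1 hjac
  have hquot : Module.finrank k (A ⧸ (RingHom.ker (Bialgebra.counitAlgHom k A)) ^ 1) = 1 := by
    have hsurj : Function.Surjective (Bialgebra.counitAlgHom k A) :=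
      fun c => ⟨algebraMap k A c, by simp⟩
    have e1 : (A ⧸ (RingHom.ker (Bialgebra.counitAlgHom k A)) ^ 1) ≃ₗ[k] k :=
      ((Ideal.quotientEquivAlgOfEq k (pow_one _)).trans
        (Ideal.quotientKerAlgEquivOfSurjective hsurj)).toLinearEquiv
    rw [e1.finrank_eq, Module.finrank_self]
  rw [hquot, mul_one] at hcard
  rw [hcard]
  haveI : Finite (A →ₐ[k] k) := inferInstance
  haveI : Finite (WithConv (A →ₐ[k] k)) := Finite.of_equiv _ (WithConv.equiv _).symm
  haveI : Nontrivial (WithConv (A →ₐ[k] k)) := by
    rw [← Finite.one_lt_card_iff_nontrivial, ← hcard]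
    exact hA
  -- kernels of points
  have hker_eq : ∀ g h : WithConv (A →ₐ[k] k),
      RingHom.ker g.ofConv ≤ RingHom.ker h.ofConv → g = h := by
    intro g h hle
    haveI := ker_isMaximal g.ofConv
    have hne : RingHom.ker h.ofConv ≠ ⊤ := (ker_isMaximal h.ofConv).ne_top
    have heq := (ker_isMaximal g.ofConv).eq_of_le hne hle
    exact WithConv.ofConv_injective (algHom_eq_of_ker_eq _ _ heq)
  cases nonempty_fintype (WithConv (A →ₐ[k] k))
  have hsimp : ∀ H : Subgroup (WithConv (A →ₐ[k] k)), H = ⊥ ∨ H = ⊤ := by
    intro H
    have hH := Groth.Agent.S7974.result k A H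
    have hfin : (⨅ g ∈ H, RingHom.ker (WithConv.ofConv g : A →ₐ[k] k)) =
        (Finset.univ.filter (· ∈ H)).inf fun g : WithConv (A →ₐ[k] k) => RingHom.ker g.ofConv := by
      rw [Finset.inf_eq_iInf]
      simp
    rcases hsimple _ hH with h | h
    · right
      rw [Subgroup.eq_top_iff']
      intro γ
      have hle : (Finset.univ.filter (· ∈ H)).inf
          (fun g : WithConv (A →ₐ[k] k) => RingHom.ker g.ofConv) ≤ RingHom.ker γ.ofConv := by
        rw [← hfin, h]; exact bot_le
      obtain ⟨g, hg, hgle⟩ := ((ker_isMaximal γ.ofConv).isPrime.inf_le').1 hle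
      rw [← hker_eq g γ hgle]
      exact (Finset.mem_filter.1 hg).2
    · left
      rw [Subgroup.eq_bot_iff_forall]
      intro g hg
      have hle : RingHom.ker (1 : WithConv (A →ₐ[k] k)).ofConv ≤ RingHom.ker g.ofConv := by
        have h1 : RingHom.ker (1 : WithConv (A →ₐ[k] k)).ofConv =
            RingHom.ker (Bialgebra.counitAlgHom k A) := by
          ext a
          simp [RingHom.mem_ker, AlgHom.convOne_def]
        rw [h1, ← h]
        exact iInf₂_le g hg
      exact (hker_eq 1 g hle).symm
  haveI : IsSimpleGroup (WithConv (A →ₐ[k] k)) :=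
    { exists_pair_ne := exists_pair_ne _
      eq_bot_or_eq_top_of_normal := fun H _ => hsimp H }
  exact IsSimpleGroup.prime_card

end Groth.Agent.S15065
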