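import Groth.Statements.S15066
import Groth.Agent.Lib.Helper16.FinHopfSimple

set_option autoImplicit false
universe u
open Hopf

namespace Groth.Agent.S15066

/-- Let k be an algebraically closed field of characteristic p > 0 and A a finite-dimensional
commutative and cocommutative Hopf algebra over k (a finite commutative k-group G = Spec A) which is
a local ring (G connected) and whose dual algebra Hom_k(A, k) with the convolution product is
reduced (the Cartier dual of G is étale, i.e. G is multiplicative), with dim_k A > 1, and assume G
is simple: every Hopf ideal of A is either zero or the augmentation ideal (no closed subgroup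
schemes other than G and 1). Then G is isomorphic to μ_p: A has a group-like element g (Δ(g) = g ⊗
g, ε(g) = 1) with g^p = 1 whose powers 1, g, …, g^(p−1) are linearly independent over k, and dim_k A
= p (so A = k[g]/(g^p − 1)). -/
theorem result (k : Type u) [Field k] [IsAlgClosed k] (p : ℕ) [Fact p.Prime]
    [CharP k p] (A : Type u) [CommRing A] [HopfAlgebra k A] [Coalgebra.IsCocomm k A] [FiniteDimensional k A]
    [IsLocalRing A] (hdual : IsReduced (WithConv (A →ₗ[k] k))) (hA : 1 < Module.finrank k A)
    (hsimple : ∀ I : Ideal A, I.IsHopfIdeal k → I = ⊥ ∨ I = RingHom.ker (Bialgebra.counitAlgHom k A)) :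
    ∃ g : A, IsGroupLikeElem k g ∧ g ^ p = 1 ∧ LinearIndependent k (fun i : Fin p => g ^ (i : ℕ)) ∧
      Module.finrank k A = p := by
  open Groth.Agent.Lib.Helper16.FinHopf in
  obtain ⟨g, hg1, hg⟩ := exists_groupLike_of_isReduced_dual hdual hA
  have hp := pow_eq_zero_of_simple p hA hsimple
  have hgI : Bialgebra.counitAlgHom k A (g - 1) = 0 := by
    rw [map_sub, map_one, Bialgebra.counitAlgHom_apply, hg.counit_eq_one, sub_self]
  have hspan : RingHom.ker (Bialgebra.counitAlgHom k A) = Ideal.span {g - 1} := by
    rcases hsimple _ (isHopfIdeal_span_groupLike_sub_one g hg) with h | h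
    · exfalso
      apply hg1
      have h1 := Ideal.mem_span_singleton_self (g - 1)
      rw [h] at h1
      exact sub_eq_zero.1 h1
    · exact h.symm
  obtain ⟨hfin, -⟩ := finrank_eq_prime_of_span_singleton p hA hp (g - 1) hspan
  haveI : Nontrivial A := nontrivial_of_counit k A
  haveI : CharP A p := charP_of_nontrivial_algebra (k := k) (p := p) A
  have hgp : g ^ p = 1 := by
    have h1 := hp (g - 1) hgI
    rw [sub_pow_char, one_pow, sub_eq_zero] at h1
    exact h1
  have horder : orderOf g = p := orderOf_eq_prime hgp hg1
  refine ⟨g, hg, hgp, ?_, hfin⟩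
  have hli := (linearIndepOn_isGroupLikeElem (R := k) (A := A)).linearIndependent
  have hcomp := hli.comp (fun i : Fin p => (⟨g ^ (i : ℕ), hg.pow⟩ : {a : A | IsGroupLikeElem k a}))
    (by
      intro i j hij
      have h1 : g ^ (i : ℕ) = g ^ (j : ℕ) := congrArg Subtype.val hij
      apply Fin.ext
      exact pow_injOn_Iio_orderOf (by rw [horder]; exact i.2) (by rw [horder]; exact j.2) h1)
  exact hcomp

end Groth.Agent.S15066
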