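import Groth.Statements.S15067
import Mathlib.RingTheory.Etale.Descent
import Mathlib.RingTheory.HopfAlgebra.Convolution
import Mathlib.RingTheory.Smooth.Fiber
import Mathlib.RingTheory.Ideal.GoingUp

set_option autoImplicit false
universe u
open scoped TensorProduct
open Hopf

namespace Groth.Agent.S15067

section aux

open scoped TensorProduct

variable {R : Type u} [CommRing R] {A A'' : Type u} [CommRing A] [HopfAlgebra R A] [CommRing A'']
  [HopfAlgebra R A''] [Algebra A'' A] [IsScalarTower R A'' A]

lemma J_le_of_isMaximal [Module.Finite R A] [IsLocalRing A''] (I : Ideal A'') (hI : I ≠ ⊤)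
    (M : Ideal A) [M.IsMaximal] : I.map (algebraMap A'' A) ≤ M := by
  have : Module.Finite A'' A := Module.Finite.of_restrictScalars_finite R A'' A
  have h1 : (M.comap (algebraMap A'' A)).IsMaximal :=
    Ideal.isMaximal_comap_of_isIntegral_of_isMaximal M
  have h2 : M.comap (algebraMap A'' A) = IsLocalRing.maximalIdeal A'' :=
    IsLocalRing.eq_maximalIdeal h1
  rw [Ideal.map_le_iff_le_comap, h2]
  exact IsLocalRing.le_maximalIdeal hI

lemma isLocalRing_of_quot [Module.Finite R A] [IsLocalRing A''] (I : Ideal A'') (hI : I ≠ ⊤)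
    [IsLocalRing (A ⧸ I.map (algebraMap A'' A))] : IsLocalRing A := by
  have : Nontrivial A := (Ideal.Quotient.mk (I.map (algebraMap A'' A))).domain_nontrivial
  have hunit : ∀ a : A, IsUnit (Ideal.Quotient.mk (I.map (algebraMap A'' A)) a) → IsUnit a := by
    intro a ha
    by_contra hna
    obtain ⟨M, hM, haM⟩ := exists_max_ideal_of_mem_nonunits hna
    have hJM : I.map (algebraMap A'' A) ≤ M := J_le_of_isMaximal (R := R) I hI M
    obtain ⟨b, hb⟩ := ha.exists_right_inv
    obtain ⟨b', rfl⟩ := Ideal.Quotient.mk_surjective b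
    have h0 : a * b' - 1 ∈ I.map (algebraMap A'' A) := by
      rw [← Ideal.Quotient.eq_zero_iff_mem, map_sub, map_mul, hb, map_one, sub_self]
    have h1 : (1 : A) ∈ M := by
      have h2 := M.sub_mem (M.mul_mem_right b' haM) (hJM h0)
      simpa using h2
    exact hM.ne_top ((Ideal.eq_top_iff_one _).mpr h1)
  apply IsLocalRing.of_isUnit_or_isUnit_one_sub_self
  intro a
  rcases IsLocalRing.isUnit_or_isUnit_one_sub_self
    (Ideal.Quotient.mk (I.map (algebraMap A'' A)) a) with h | h
  · exact Or.inl (hunit a h)
  · right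
    apply hunit
    rw [map_sub, map_one]
    exact h

/-- the canonical map `A ⊗[R] A → A ⊗[A''] A` -/
noncomputable def can : A ⊗[R] A →ₐ[R] A ⊗[A''] A :=
  Algebra.TensorProduct.lift
    ((Algebra.TensorProduct.includeLeft : A →ₐ[A''] A ⊗[A''] A).restrictScalars R)
    ((Algebra.TensorProduct.includeRight : A →ₐ[A''] A ⊗[A''] A).restrictScalars R)
    (fun _ _ => Commute.all _ _)

lemma can_tmul (x y : A) : can (R := R) (A'' := A'') (x ⊗ₜ[R] y) = x ⊗ₜ[A''] y := by
  simp [can, Algebra.TensorProduct.tmul_mul_tmul]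

/-- `b ↦ Σ S(b₁) ⊗ b₂` into `A ⊗[A''] A` -/
noncomputable def g0 : A →ₐ[R] A ⊗[A''] A :=
  (can (R := R) (A'' := A'')).comp
    ((Algebra.TensorProduct.map (HopfAlgebra.antipodeAlgHom R A) (AlgHom.id R A)).comp
      (Bialgebra.comulAlgHom R A))

lemma atmap_eq_rTensor (s : A ⊗[R] A) :
    Algebra.TensorProduct.map (HopfAlgebra.antipodeAlgHom R A) (AlgHom.id R A) s =
      LinearMap.rTensor A (HopfAlgebra.antipode R (A := A)) s := by
  induction s using TensorProduct.induction_on with
  | zero => simp only [map_zero]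
  | add t t' h h' => simp only [map_add, h, h']
  | tmul a b => rfl

lemma g0_algebraMap
    (hΔ : (Bialgebra.comulAlgHom R A).comp (IsScalarTower.toAlgHom R A'' A) =
      (Algebra.TensorProduct.map (IsScalarTower.toAlgHom R A'' A)
        (IsScalarTower.toAlgHom R A'' A)).comp (Bialgebra.comulAlgHom R A''))
    (hε : (Bialgebra.counitAlgHom R A).comp (IsScalarTower.toAlgHom R A'' A) =
      Bialgebra.counitAlgHom R A'') (x : A'') :
    g0 (R := R) (A'' := A'') (algebraMap A'' A x) =
      (algebraMap R A (Coalgebra.counit (R := R) x)) ⊗ₜ[A''] (1 : A) := by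
  have h1 : Coalgebra.comul (R := R) (algebraMap A'' A x) =
      Algebra.TensorProduct.map (IsScalarTower.toAlgHom R A'' A)
        (IsScalarTower.toAlgHom R A'' A) (Coalgebra.comul (R := R) x) := AlgHom.congr_fun hΔ x
  have h2 : Coalgebra.counit (R := R) (algebraMap A'' A x) = Coalgebra.counit (R := R) x :=
    AlgHom.congr_fun hε x
  have key : ∀ t : A'' ⊗[R] A'',
      can (R := R) (A'' := A'') (Algebra.TensorProduct.map (HopfAlgebra.antipodeAlgHom R A)
        (AlgHom.id R A) (Algebra.TensorProduct.map (IsScalarTower.toAlgHom R A'' A)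
        (IsScalarTower.toAlgHom R A'' A) t)) =
      (LinearMap.mul' R A (Algebra.TensorProduct.map (HopfAlgebra.antipodeAlgHom R A)
        (AlgHom.id R A) (Algebra.TensorProduct.map (IsScalarTower.toAlgHom R A'' A)
        (IsScalarTower.toAlgHom R A'' A) t))) ⊗ₜ[A''] (1 : A) := by
    intro t
    induction t using TensorProduct.induction_on with
    | zero => simp only [map_zero, TensorProduct.zero_tmul]
    | add t t' h h' => simp only [map_add, h, h', TensorProduct.add_tmul]
    | tmul y z =>
      simp only [Algebra.TensorProduct.map_tmul, can_tmul, LinearMap.mul'_apply,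
        IsScalarTower.coe_toAlgHom', AlgHom.id_apply]
      rw [Algebra.algebraMap_eq_smul_one z, TensorProduct.tmul_smul, TensorProduct.smul_tmul',
        mul_smul_comm, mul_one]
  show can (R := R) (A'' := A'') (Algebra.TensorProduct.map (HopfAlgebra.antipodeAlgHom R A)
    (AlgHom.id R A) (Coalgebra.comul (R := R) (algebraMap A'' A x))) = _
  rw [h1, key, ← h1, atmap_eq_rTensor, HopfAlgebra.mul_antipode_rTensor_comul_apply, h2]

variable (R A A'') in
/-- the ideal of the kernel -/
abbrev JJ : Ideal A := (RingHom.ker (Bialgebra.counitAlgHom R A'')).map (algebraMap A'' A)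

lemma g0_mem
    (hΔ : (Bialgebra.comulAlgHom R A).comp (IsScalarTower.toAlgHom R A'' A) =
      (Algebra.TensorProduct.map (IsScalarTower.toAlgHom R A'' A)
        (IsScalarTower.toAlgHom R A'' A)).comp (Bialgebra.comulAlgHom R A''))
    (hε : (Bialgebra.counitAlgHom R A).comp (IsScalarTower.toAlgHom R A'' A) =
      Bialgebra.counitAlgHom R A'') :
    ∀ a ∈ JJ R A A'', g0 (R := R) (A'' := A'') a = 0 := by
  have hle : JJ R A A'' ≤ RingHom.ker (g0 (R := R) (A'' := A'')) := by
    rw [Ideal.map_le_iff_le_comap]
    intro x hx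
    rw [Ideal.mem_comap, RingHom.mem_ker, g0_algebraMap hΔ hε]
    have : Coalgebra.counit (R := R) x = 0 := hx
    rw [this, map_zero, TensorProduct.zero_tmul]
  intro a ha
  exact hle ha

noncomputable def gbar
    (hΔ : (Bialgebra.comulAlgHom R A).comp (IsScalarTower.toAlgHom R A'' A) =
      (Algebra.TensorProduct.map (IsScalarTower.toAlgHom R A'' A)
        (IsScalarTower.toAlgHom R A'' A)).comp (Bialgebra.comulAlgHom R A''))
    (hε : (Bialgebra.counitAlgHom R A).comp (IsScalarTower.toAlgHom R A'' A) =
      Bialgebra.counitAlgHom R A'') : (A ⧸ JJ R A A'') →ₐ[R] A ⊗[A''] A :=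
  Ideal.Quotient.liftₐ (JJ R A A'') (g0 (R := R) (A'' := A'')) (g0_mem hΔ hε)

noncomputable def zeta
    (hΔ : (Bialgebra.comulAlgHom R A).comp (IsScalarTower.toAlgHom R A'' A) =
      (Algebra.TensorProduct.map (IsScalarTower.toAlgHom R A'' A)
        (IsScalarTower.toAlgHom R A'' A)).comp (Bialgebra.comulAlgHom R A''))
    (hε : (Bialgebra.counitAlgHom R A).comp (IsScalarTower.toAlgHom R A'' A) =
      Bialgebra.counitAlgHom R A'') : A ⊗[R] (A ⧸ JJ R A A'') →ₐ[A] A ⊗[A''] A :=
  Algebra.TensorProduct.lift (Algebra.ofId A (A ⊗[A''] A)) (gbar hΔ hε)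
    (fun _ _ => Commute.all _ _)

lemma zeta_tmul
    (hΔ : (Bialgebra.comulAlgHom R A).comp (IsScalarTower.toAlgHom R A'' A) =
      (Algebra.TensorProduct.map (IsScalarTower.toAlgHom R A'' A)
        (IsScalarTower.toAlgHom R A'' A)).comp (Bialgebra.comulAlgHom R A''))
    (hε : (Bialgebra.counitAlgHom R A).comp (IsScalarTower.toAlgHom R A'' A) =
      Bialgebra.counitAlgHom R A'') (x y : A) :
    zeta hΔ hε (x ⊗ₜ[R] Ideal.Quotient.mk (JJ R A A'') y) =
      (x ⊗ₜ[A''] (1 : A)) * g0 (R := R) (A'' := A'') y := by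
  simp only [zeta, Algebra.TensorProduct.lift_tmul, Algebra.ofId_apply,
    Algebra.TensorProduct.algebraMap_apply, Algebra.algebraMap_self, RingHom.id_apply]
  rfl

/-- the inverse shear map on `A ⊗ A` -/
noncomputable def Theta : A ⊗[R] A →ₗ[R] A ⊗[R] A :=
  (LinearMap.rTensor A (LinearMap.mul' R A ∘ₗ LinearMap.lTensor A (HopfAlgebra.antipode R (A := A))))
    ∘ₗ (TensorProduct.assoc R A A A).symm.toLinearMap ∘ₗ LinearMap.lTensor A (Coalgebra.comul (R := R))

lemma Theta_comul (b : A) : Theta (R := R) (Coalgebra.comul (R := R) b) = (1 : A) ⊗ₜ[R] b := by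
  simp only [Theta, LinearMap.comp_apply, LinearEquiv.coe_coe]
  rw [Coalgebra.coassoc_symm_apply, ← LinearMap.rTensor_comp_apply, LinearMap.comp_assoc,
    HopfAlgebra.mul_antipode_lTensor_comul, LinearMap.rTensor_comp_apply,
    Coalgebra.rTensor_counit_comul, LinearMap.rTensor_tmul, Algebra.linearMap_apply, map_one]

lemma zeta_map
    (hΔ : (Bialgebra.comulAlgHom R A).comp (IsScalarTower.toAlgHom R A'' A) =
      (Algebra.TensorProduct.map (IsScalarTower.toAlgHom R A'' A)
        (IsScalarTower.toAlgHom R A'' A)).comp (Bialgebra.comulAlgHom R A''))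
    (hε : (Bialgebra.counitAlgHom R A).comp (IsScalarTower.toAlgHom R A'' A) =
      Bialgebra.counitAlgHom R A'') (s : A ⊗[R] A) :
    zeta hΔ hε (Algebra.TensorProduct.map (AlgHom.id R A) (Ideal.Quotient.mkₐ R (JJ R A A'')) s) =
      can (R := R) (A'' := A'') (Theta (R := R) s) := by
  induction s using TensorProduct.induction_on with
  | zero => simp only [map_zero]
  | add t t' h h' => simp only [map_add, h, h']
  | tmul x y =>
    rw [Algebra.TensorProduct.map_tmul, AlgHom.id_apply, Ideal.Quotient.mkₐ_eq_mk, zeta_tmul]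
    simp only [Theta, LinearMap.comp_apply, LinearEquiv.coe_coe, LinearMap.lTensor_tmul]
    show (x ⊗ₜ[A''] (1 : A)) * can (R := R) (A'' := A'')
      (Algebra.TensorProduct.map (HopfAlgebra.antipodeAlgHom R A)
        (AlgHom.id R A) (Coalgebra.comul (R := R) y)) = _
    generalize Coalgebra.comul (R := R) y = u
    induction u using TensorProduct.induction_on with
    | zero => simp only [map_zero, mul_zero, TensorProduct.tmul_zero]
    | add t t' h h' => simp only [map_add, mul_add, TensorProduct.tmul_add, h, h']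
    | tmul y1 y2 =>
      simp only [Algebra.TensorProduct.map_tmul, can_tmul, TensorProduct.assoc_symm_tmul,
        LinearMap.rTensor_tmul, LinearMap.comp_apply, LinearMap.lTensor_tmul,
        LinearMap.mul'_apply, Algebra.TensorProduct.tmul_mul_tmul, one_mul, AlgHom.id_apply]
      rfl

lemma zeta_surjective
    (hΔ : (Bialgebra.comulAlgHom R A).comp (IsScalarTower.toAlgHom R A'' A) =
      (Algebra.TensorProduct.map (IsScalarTower.toAlgHom R A'' A)
        (IsScalarTower.toAlgHom R A'' A)).comp (Bialgebra.comulAlgHom R A''))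
    (hε : (Bialgebra.counitAlgHom R A).comp (IsScalarTower.toAlgHom R A'' A) =
      Bialgebra.counitAlgHom R A'') : Function.Surjective (zeta hΔ hε) := by
  intro c
  induction c using TensorProduct.induction_on with
  | zero => exact ⟨0, map_zero _⟩
  | add c c' h h' =>
    obtain ⟨p, hp⟩ := h
    obtain ⟨p', hp'⟩ := h'
    exact ⟨p + p', by rw [map_add, hp, hp']⟩
  | tmul a b =>
    refine ⟨(a ⊗ₜ[R] (1 : A ⧸ JJ R A A'')) *
      Algebra.TensorProduct.map (AlgHom.id R A) (Ideal.Quotient.mkₐ R (JJ R A A''))
        (Coalgebra.comul (R := R) b), ?_⟩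
    rw [map_mul, zeta_map, Theta_comul, can_tmul]
    have h1 : zeta hΔ hε (a ⊗ₜ[R] (1 : A ⧸ JJ R A A'')) = a ⊗ₜ[A''] (1 : A) := by
      have := zeta_tmul hΔ hε a 1
      rw [map_one, map_one, mul_one] at this
      exact this
    rw [h1, Algebra.TensorProduct.tmul_mul_tmul, mul_one, one_mul]

theorem etale_of_etale [IsNoetherianRing R] [Module.Finite R A] [Module.Flat R A]
    [Module.FaithfullyFlat A'' A]
    (hΔ : (Bialgebra.comulAlgHom R A).comp (IsScalarTower.toAlgHom R A'' A) =
      (Algebra.TensorProduct.map (IsScalarTower.toAlgHom R A'' A)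
        (IsScalarTower.toAlgHom R A'' A)).comp (Bialgebra.comulAlgHom R A''))
    (hε : (Bialgebra.counitAlgHom R A).comp (IsScalarTower.toAlgHom R A'' A) =
      Bialgebra.counitAlgHom R A'')
    [Algebra.Etale R A''] [Algebra.Etale R (A ⧸ JJ R A A'')] : Algebra.Etale R A := by
  have h1 : Algebra.FormallyUnramified A (A ⊗[R] (A ⧸ JJ R A A'')) := inferInstance
  have h2 : Algebra.FormallyUnramified A (A ⊗[A''] A) :=
    Algebra.FormallyUnramified.of_surjective (zeta hΔ hε) (zeta_surjective hΔ hε)
  have h3 : Algebra.FormallyUnramified A'' A :=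
    Algebra.FormallyUnramified.of_formallyUnramified_tensorProduct_of_faithfullyFlat A
  have h4 : Algebra.FormallyUnramified R A := Algebra.FormallyUnramified.comp R A'' A
  have h5 : Algebra.FinitePresentation R A :=
    Algebra.FinitePresentation.of_finiteType.mp inferInstance
  exact Algebra.Etale.of_formallyUnramified_of_flat

end aux

/-- Let R be a henselian Noetherian local ring, A and A'' commutative Hopf algebras over R which are
finite and flat as R-modules (finite flat R-groups G = Spec A, G'' = Spec A''), and A'' → A an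
R-algebra homomorphism compatible with the comultiplications and counits (a homomorphism π : G →
G'') making A a faithfully flat A''-module (π faithfully flat). Let J ⊆ A be the ideal generated by
the image of the augmentation ideal of A'', so that G' = Spec A/J is the kernel of π and 1 → G' → G
→ G'' → 1 is an exact sequence of finite flat R-groups. Then: (2) if A'' and A/J are local rings
(G'' and G' connected), A is a local ring (G is connected); (3) if A'' and A/J are étale over R (G''
and G' finite étale), A is étale over R (G is finite étale). -/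
theorem result (R : Type u) [CommRing R] [HenselianLocalRing R] [IsNoetherianRing R]
    (A A'' : Type u) [CommRing A] [HopfAlgebra R A] [Module.Finite R A] [Module.Flat R A]
    [CommRing A''] [HopfAlgebra R A''] [Module.Finite R A''] [Module.Flat R A'']
    [Algebra A'' A] [IsScalarTower R A'' A] [Module.FaithfullyFlat A'' A]
    (hΔ : (Bialgebra.comulAlgHom R A).comp (IsScalarTower.toAlgHom R A'' A) =
      (Algebra.TensorProduct.map (IsScalarTower.toAlgHom R A'' A) (IsScalarTower.toAlgHom R A'' A)).comp
        (Bialgebra.comulAlgHom R A''))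
    (hε : (Bialgebra.counitAlgHom R A).comp (IsScalarTower.toAlgHom R A'' A) = Bialgebra.counitAlgHom R A'') :
    ((IsLocalRing A'' ∧
        IsLocalRing (A ⧸ (RingHom.ker (Bialgebra.counitAlgHom R A'')).map (algebraMap A'' A))) → IsLocalRing A) ∧
      ((Algebra.Etale R A'' ∧
        Algebra.Etale R (A ⧸ (RingHom.ker (Bialgebra.counitAlgHom R A'')).map (algebraMap A'' A))) →
        Algebra.Etale R A) := by
  constructor
  · rintro ⟨h1, h2⟩
    have := h1
    have := h2
    exact isLocalRing_of_quot (R := R) (RingHom.ker (Bialgebra.counitAlgHom R A''))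
      (RingHom.ker_ne_top _)
  · rintro ⟨h1, h2⟩
    have := h1
    have := h2
    exact etale_of_etale hΔ hε

end Groth.Agent.S15067
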