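import Groth.Statements.S16078
import Groth.Agent.S16079
import Mathlib.RingTheory.Flat.Localization
import Mathlib.RingTheory.Flat.FaithfullyFlat.Algebra
import Mathlib.RingTheory.Localization.Away.Basic
import Mathlib.RingTheory.RingHom.FaithfullyFlat
import Mathlib.RingTheory.Ideal.GoingUp
import Mathlib.RingTheory.IntegralClosure.IsIntegralClosure.Basic

set_option autoImplicit false
universe u
open scoped TensorProduct
open Hopf

namespace Groth.Agent.S16078

section aux

lemma mul_sub_mem {S : Type*} [CommRing S] {R : Type*} [CommRing R] [Nontrivial R]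
    (ε : S →+* R) (K : Ideal S) (hK : ∀ a ∈ K, ε a = 0) (f : S) (hf : f * f - f ∈ K)
    (hfε : ε f = 1) [IsLocalRing (S ⧸ (K ⊔ Ideal.span ({1 - f} : Set S)))]
    (u : S) (hu : u * u - u ∈ K) (huε : ε u = 1) : f * u - f ∈ K := by
  have hker : ∀ a ∈ K ⊔ Ideal.span ({1 - f} : Set S), ε a = 0 := by
    intro a ha
    obtain ⟨k, hk, c, hc, rfl⟩ := Submodule.mem_sup.mp ha
    obtain ⟨d, rfl⟩ := Ideal.mem_span_singleton'.mp hc
    rw [map_add, hK k hk, map_mul, map_sub, map_one, hfε, sub_self, mul_zero, add_zero]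
  let ε' : S ⧸ (K ⊔ Ideal.span ({1 - f} : Set S)) →+* R := Ideal.Quotient.lift _ ε hker
  have hv : Ideal.Quotient.mk (K ⊔ Ideal.span ({1 - f} : Set S)) u = 1 := by
    apply Groth.Agent.S16079.eq_one_of_idem ε'
    · show Ideal.Quotient.mk _ u * Ideal.Quotient.mk _ u = Ideal.Quotient.mk _ u
      rw [← map_mul, Ideal.Quotient.eq]
      exact Ideal.mem_sup_left hu
    · show ε' (Ideal.Quotient.mk _ u) = 1
      rw [Ideal.Quotient.lift_mk]; exact huε
  have h2 : u - 1 ∈ K ⊔ Ideal.span ({1 - f} : Set S) := by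
    rw [← Ideal.Quotient.eq_zero_iff_mem, map_sub, hv, map_one, sub_self]
  obtain ⟨k, hk, c, hc, hkc⟩ := Submodule.mem_sup.mp h2
  obtain ⟨d, rfl⟩ := Ideal.mem_span_singleton'.mp hc
  have h3 : f * u - f = f * k - d * (f * f - f) := by
    have : u = 1 + (k + d * (1 - f)) := by rw [hkc]; ring
    rw [this]; ring
  rw [h3]
  exact K.sub_mem (K.mul_mem_left _ hk) (K.mul_mem_left _ hf)

lemma isLocalRing_quot_sup {A : Type*} [CommRing A] (K : Ideal A) (e : A)
    [IsLocalRing (A ⧸ Ideal.span ({1 - e} : Set A))]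
    (hne : K ⊔ Ideal.span ({1 - e} : Set A) ≠ ⊤) :
    IsLocalRing (A ⧸ (K ⊔ Ideal.span ({1 - e} : Set A))) := by
  have : Nontrivial (A ⧸ (K ⊔ Ideal.span ({1 - e} : Set A))) :=
    Ideal.Quotient.nontrivial_iff.mpr hne
  exact IsLocalRing.of_surjective' (Ideal.Quotient.factor (le_sup_right))
    (Ideal.Quotient.factor_surjective _)

lemma flat_quot_idem {A : Type*} [CommRing A] (e : A) (he : IsIdempotentElem e) :
    IsLocalization.Away e (A ⧸ Ideal.span ({1 - e} : Set A)) := by
  apply IsLocalization.away_of_isIdempotentElem he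
  · rw [Ideal.Quotient.algebraMap_eq, Ideal.mk_ker]
  · rw [Ideal.Quotient.algebraMap_eq]; exact Ideal.Quotient.mk_surjective

theorem ff_core {R : Type u} [CommRing R] {A A'' : Type u} [CommRing A] [Algebra R A]
    [Module.Finite R A] [CommRing A''] [Algebra R A''] [Algebra A'' A] [IsScalarTower R A'' A]
    [Module.Flat A'' A]
    (e : A) (he : IsIdempotentElem e) [IsLocalRing (A ⧸ Ideal.span ({1 - e} : Set A))]
    (e'' : A'') (he'' : IsIdempotentElem e'')
    [IsLocalRing (A'' ⧸ Ideal.span ({1 - e''} : Set A''))]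
    (g : (A'' ⧸ Ideal.span ({1 - e''} : Set A'')) →+* (A ⧸ Ideal.span ({1 - e} : Set A)))
    (hg : g.comp (Ideal.Quotient.mk (Ideal.span ({1 - e''} : Set A''))) =
      (Ideal.Quotient.mk (Ideal.span ({1 - e} : Set A))).comp (algebraMap A'' A)) :
    g.FaithfullyFlat := by
  let _ : Algebra (A'' ⧸ Ideal.span ({1 - e''} : Set A'')) (A ⧸ Ideal.span ({1 - e} : Set A)) :=
    g.toAlgebra
  have : IsScalarTower A'' (A'' ⧸ Ideal.span ({1 - e''} : Set A''))
      (A ⧸ Ideal.span ({1 - e} : Set A)) := by
    apply IsScalarTower.of_algebraMap_eq'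
    exact hg.symm
  have h1 : IsLocalization.Away e (A ⧸ Ideal.span ({1 - e} : Set A)) := flat_quot_idem e he
  have h1'' : IsLocalization.Away e'' (A'' ⧸ Ideal.span ({1 - e''} : Set A'')) :=
    flat_quot_idem e'' he''
  have h2 : Module.Flat A (A ⧸ Ideal.span ({1 - e} : Set A)) :=
    IsLocalization.flat _ (Submonoid.powers e)
  have h3 : Module.Flat A'' (A ⧸ Ideal.span ({1 - e} : Set A)) :=
    Module.Flat.trans A'' A _
  have h4 : Module.Flat (A'' ⧸ Ideal.span ({1 - e''} : Set A''))
      (A ⧸ Ideal.span ({1 - e} : Set A)) :=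
    (Module.flat_iff_of_isLocalization (A'' ⧸ Ideal.span ({1 - e''} : Set A''))
      (Submonoid.powers e'') _).mpr h3
  have hint : g.IsIntegral := by
    apply RingHom.IsIntegral.tower_top (algebraMap R (A'' ⧸ Ideal.span ({1 - e''} : Set A''))) g
    have h5 : g.comp (algebraMap R (A'' ⧸ Ideal.span ({1 - e''} : Set A''))) =
        algebraMap R (A ⧸ Ideal.span ({1 - e} : Set A)) := by
      ext r
      have := RingHom.congr_fun hg (algebraMap R A'' r)
      simp only [RingHom.comp_apply] at this ⊢
      rw [← IsScalarTower.algebraMap_apply R A'' A] at this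
      exact this
    rw [h5]
    exact algebraMap_isIntegral_iff.mpr inferInstance
  have h6 : IsLocalHom (algebraMap (A'' ⧸ Ideal.span ({1 - e''} : Set A''))
      (A ⧸ Ideal.span ({1 - e} : Set A))) := by
    show IsLocalHom g
    apply ((IsLocalRing.local_hom_TFAE g).out 0 4).mpr
    exact (IsLocalRing.eq_maximalIdeal
      (Ideal.isMaximal_comap_of_isIntegral_of_isMaximal' g hint _))
  exact Module.FaithfullyFlat.of_flat_of_isLocalHom

end aux

/-- Let R be a henselian Noetherian local ring, A and A'' commutative Hopf algebras over R which are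
finite and flat as R-modules, and A'' → A an R-algebra homomorphism compatible with
comultiplications and counits making A faithfully flat over A'' (a faithfully flat homomorphism π :
G → G'' of finite flat R-groups); let J ⊆ A be the ideal generated by the image of the augmentation
ideal of A'' (G' = Spec A/J = ker π, so that 1 → G' → G → G'' → 1 is exact). Let e ∈ A and e'' ∈ A''
be idempotents with ε(e) = 1, ε(e'') = 1 and A/(1 − e), A''/(1 − e'') local rings (the unit
components G⁰ and G''⁰), and let e' ∈ A be an element whose image in A/J is an idempotent, with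
ε(e') = 1 and A/(J + (1 − e')) local (so G'⁰ = Spec (A/J)/(1 − e') is the unit component of G').
Suppose g : A''/(1 − e'') → A/(1 − e) is the ring homomorphism induced by A'' → A (the restriction
π⁰ : G⁰ → G''⁰ of π, which exists because G⁰ is connected). Then g is faithfully flat, and e ≡ e'
modulo J, i.e. J + (1 − e) = J + (1 − e') and the kernel of π⁰, which is cut out in G⁰ by J, is
exactly G'⁰: the sequence 1 → G'⁰ → G⁰ → G''⁰ → 1 is exact. (The published statement also asserts
exactness of the maximal étale quotient G ↦ G^ét, not stated here.) -/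
theorem result (R : Type u) [CommRing R] [HenselianLocalRing R]
    [IsNoetherianRing R] (A A'' : Type u) [CommRing A] [HopfAlgebra R A] [Module.Finite R A] [Module.Flat R A]
    [CommRing A''] [HopfAlgebra R A''] [Module.Finite R A''] [Module.Flat R A'']
    [Algebra A'' A] [IsScalarTower R A'' A] [Module.FaithfullyFlat A'' A]
    (hΔ : (Bialgebra.comulAlgHom R A).comp (IsScalarTower.toAlgHom R A'' A) =
      (Algebra.TensorProduct.map (IsScalarTower.toAlgHom R A'' A) (IsScalarTower.toAlgHom R A'' A)).comp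
        (Bialgebra.comulAlgHom R A''))
    (hε : (Bialgebra.counitAlgHom R A).comp (IsScalarTower.toAlgHom R A'' A) = Bialgebra.counitAlgHom R A'')
    (e : A) (he : IsIdempotentElem e) (heε : Bialgebra.counitAlgHom R A e = 1)
    [IsLocalRing (A ⧸ Ideal.span ({1 - e} : Set A))]
    (e'' : A'') (he'' : IsIdempotentElem e'') (he''ε : Bialgebra.counitAlgHom R A'' e'' = 1)
    [IsLocalRing (A'' ⧸ Ideal.span ({1 - e''} : Set A''))]
    (e' : A) (he' : IsIdempotentElem (Ideal.Quotient.mk ((RingHom.ker (Bialgebra.counitAlgHom R A'')).map (algebraMap A'' A)) e'))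
    (he'ε : Bialgebra.counitAlgHom R A e' = 1)
    [IsLocalRing (A ⧸ (((RingHom.ker (Bialgebra.counitAlgHom R A'')).map (algebraMap A'' A)) ⊔ Ideal.span ({1 - e'} : Set A)))]
    (g : (A'' ⧸ Ideal.span ({1 - e''} : Set A'')) →+* (A ⧸ Ideal.span ({1 - e} : Set A)))
    (hg : g.comp (Ideal.Quotient.mk (Ideal.span ({1 - e''} : Set A''))) =
      (Ideal.Quotient.mk (Ideal.span ({1 - e} : Set A))).comp (algebraMap A'' A)) :
    g.FaithfullyFlat ∧
      Ideal.Quotient.mk ((RingHom.ker (Bialgebra.counitAlgHom R A'')).map (algebraMap A'' A)) e = Ideal.Quotient.mk ((RingHom.ker (Bialgebra.counitAlgHom R A'')).map (algebraMap A'' A)) e' := by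
  refine ⟨ff_core (R := R) e he e'' he'' g hg, ?_⟩
  have hKε : ∀ a ∈ (RingHom.ker (Bialgebra.counitAlgHom R A'')).map (algebraMap A'' A),
      (Bialgebra.counitAlgHom R A).toRingHom a = 0 := by
    have hle : (RingHom.ker (Bialgebra.counitAlgHom R A'')).map (algebraMap A'' A) ≤
        RingHom.ker (Bialgebra.counitAlgHom R A).toRingHom := by
      rw [Ideal.map_le_iff_le_comap]
      intro x hx
      rw [Ideal.mem_comap, RingHom.mem_ker]
      have h1 := AlgHom.congr_fun hε x
      exact h1.trans hx
    exact fun a ha => hle ha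
  have hne : (RingHom.ker (Bialgebra.counitAlgHom R A'')).map (algebraMap A'' A) ⊔
      Ideal.span ({1 - e} : Set A) ≠ ⊤ := by
    intro htop
    have h1 : (1 : A) ∈ (RingHom.ker (Bialgebra.counitAlgHom R A'')).map (algebraMap A'' A) ⊔
      Ideal.span ({1 - e} : Set A) := by rw [htop]; trivial
    obtain ⟨k, hk, c, hc, hkc⟩ := Submodule.mem_sup.mp h1
    obtain ⟨d, rfl⟩ := Ideal.mem_span_singleton'.mp hc
    have h2 := congrArg (Bialgebra.counitAlgHom R A).toRingHom hkc
    rw [map_add, hKε k hk, map_mul, map_sub, map_one] at h2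
    have h3 : (Bialgebra.counitAlgHom R A).toRingHom e = 1 := heε
    rw [h3, sub_self, mul_zero, add_zero] at h2
    exact zero_ne_one h2
  have := isLocalRing_quot_sup
    ((RingHom.ker (Bialgebra.counitAlgHom R A'')).map (algebraMap A'' A)) e hne
  have he'2 : e' * e' - e' ∈ (RingHom.ker (Bialgebra.counitAlgHom R A'')).map (algebraMap A'' A) := by
    rw [← Ideal.Quotient.eq, map_mul]
    exact he'
  have he2 : e * e - e ∈ (RingHom.ker (Bialgebra.counitAlgHom R A'')).map (algebraMap A'' A) := by
    rw [he.eq, sub_self]; exact Ideal.zero_mem _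
  have h1 := mul_sub_mem (Bialgebra.counitAlgHom R A).toRingHom _ hKε e' he'2 he'ε e he2 heε
  have h2 := mul_sub_mem (Bialgebra.counitAlgHom R A).toRingHom _ hKε e he2 heε e' he'2 he'ε
  rw [Ideal.Quotient.eq]
  have h3 : e - e' = (e' * e - e') - (e * e' - e) := by ring
  rw [h3]
  exact Ideal.sub_mem _ h1 h2

end Groth.Agent.S16078
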