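import Groth.Statements.S15068
import Groth.Agent.S16078
import Mathlib.RingTheory.Filtration
import Mathlib.RingTheory.Unramified.Basic
import Mathlib.RingTheory.Nakayama

set_option autoImplicit false
universe u
open scoped TensorProduct
open Hopf

namespace Groth.Agent.S15068

section aux

open Groth.Agent.S16078 (isLocalRing_quot_sup flat_quot_idem)

lemma algHom_eq_of_local {R C Q : Type u} [CommRing R] [Nontrivial R] [CommRing C] [Algebra R C]
    [Algebra.FormallyUnramified R C] [CommRing Q] [Algebra R Q] [IsLocalRing Q]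
    [IsNoetherianRing Q] (εQ : Q →ₐ[R] R) (f1 f2 : C →ₐ[R] Q)
    (h : ∀ x, εQ (f1 x) = εQ (f2 x)) : f1 = f2 := by
  have hk : RingHom.ker εQ ≤ IsLocalRing.maximalIdeal Q :=
    IsLocalRing.le_maximalIdeal (RingHom.ker_ne_top _)
  apply Algebra.FormallyUnramified.ext_of_iInf (I := IsLocalRing.maximalIdeal Q)
    (Ideal.iInf_pow_eq_bot_of_isLocalRing _ Ideal.IsPrime.ne_top')
  intro y
  rw [Ideal.Quotient.eq]
  apply hk
  rw [RingHom.mem_ker, map_sub, h, sub_self]

theorem core {R : Type u} [CommRing R] [Nontrivial R] [IsNoetherianRing R] {A A'' : Type u}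
    [CommRing A] [CommRing A''] [Algebra R A] [Algebra R A''] [Algebra A'' A]
    [IsScalarTower R A'' A] [Module.Finite R A] [Module.Flat A'' A] [IsLocalRing A'']
    (εA : A →ₐ[R] R) (εA'' : A'' →ₐ[R] R)
    (hε : εA.comp (IsScalarTower.toAlgHom R A'' A) = εA'')
    [Algebra.FormallyUnramified R (A ⧸ (RingHom.ker εA'').map (algebraMap A'' A))]
    (e : A) (he : IsIdempotentElem e) (heε : εA e = 1)
    [IsLocalRing (A ⧸ Ideal.span ({1 - e} : Set A))] :
    Function.Bijective ((Ideal.Quotient.mkₐ R (Ideal.span ({1 - e} : Set A))).comp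
      (IsScalarTower.toAlgHom R A'' A)) := by
  have hJε : ∀ a ∈ (RingHom.ker εA'').map (algebraMap A'' A), εA a = 0 := by
    have hle : (RingHom.ker εA'').map (algebraMap A'' A) ≤ RingHom.ker εA := by
      rw [Ideal.map_le_iff_le_comap]
      intro x hx
      rw [Ideal.mem_comap, RingHom.mem_ker]
      have h1 := AlgHom.congr_fun hε x
      exact h1.trans hx
    exact fun a ha => hle ha
  have hLε : ∀ a ∈ (RingHom.ker εA'').map (algebraMap A'' A) ⊔ Ideal.span ({1 - e} : Set A),
      εA a = 0 := by
    intro a ha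
    obtain ⟨k, hk, c, hc, rfl⟩ := Submodule.mem_sup.mp ha
    obtain ⟨d, rfl⟩ := Ideal.mem_span_singleton'.mp hc
    rw [map_add, hJε k hk, map_mul, map_sub, map_one, heε, sub_self, mul_zero, add_zero]
  have hne : (RingHom.ker εA'').map (algebraMap A'' A) ⊔ Ideal.span ({1 - e} : Set A) ≠ ⊤ := by
    intro htop
    have h1 : (1 : A) ∈ (RingHom.ker εA'').map (algebraMap A'' A) ⊔
      Ideal.span ({1 - e} : Set A) := by rw [htop]; trivial
    have h2 := hLε 1 h1
    rw [map_one] at h2
    exact one_ne_zero h2
  have : IsLocalRing (A ⧸ ((RingHom.ker εA'').map (algebraMap A'' A) ⊔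
      Ideal.span ({1 - e} : Set A))) := isLocalRing_quot_sup _ e hne
  have : IsNoetherianRing A := IsNoetherianRing.of_finite R A
  -- the counits on quotients
  let εQ : (A ⧸ ((RingHom.ker εA'').map (algebraMap A'' A) ⊔ Ideal.span ({1 - e} : Set A)))
      →ₐ[R] R := Ideal.Quotient.liftₐ _ εA hLε
  let εC : (A ⧸ (RingHom.ker εA'').map (algebraMap A'' A)) →ₐ[R] R :=
    Ideal.Quotient.liftₐ _ εA hJε
  let f1 : (A ⧸ (RingHom.ker εA'').map (algebraMap A'' A)) →ₐ[R]
      (A ⧸ ((RingHom.ker εA'').map (algebraMap A'' A) ⊔ Ideal.span ({1 - e} : Set A))) :=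
    Ideal.Quotient.factorₐ R le_sup_left
  let f2 : (A ⧸ (RingHom.ker εA'').map (algebraMap A'' A)) →ₐ[R]
      (A ⧸ ((RingHom.ker εA'').map (algebraMap A'' A) ⊔ Ideal.span ({1 - e} : Set A))) :=
    (Algebra.ofId R _).comp εC
  have h12 : f1 = f2 := by
    apply algHom_eq_of_local εQ
    intro x
    obtain ⟨a, rfl⟩ := Ideal.Quotient.mk_surjective x
    show εA a = εQ (algebraMap R _ (εA a))
    rw [AlgHom.commutes]
    rfl
  have hmem : ∀ a : A, a - algebraMap R A (εA a) ∈
      (RingHom.ker εA'').map (algebraMap A'' A) ⊔ Ideal.span ({1 - e} : Set A) := by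
    intro a
    rw [← Ideal.Quotient.eq_zero_iff_mem, map_sub, sub_eq_zero]
    exact AlgHom.congr_fun h12 (Ideal.Quotient.mk _ a)
  have hfin : Module.Finite A'' (A ⧸ Ideal.span ({1 - e} : Set A)) :=
    Module.Finite.of_restrictScalars_finite R A'' _
  constructor
  · -- injectivity via faithful flatness
    have h1 : IsLocalization.Away e (A ⧸ Ideal.span ({1 - e} : Set A)) := flat_quot_idem e he
    have h2 : Module.Flat A (A ⧸ Ideal.span ({1 - e} : Set A)) :=
      IsLocalization.flat _ (Submonoid.powers e)
    have h3 : Module.Flat A'' (A ⧸ Ideal.span ({1 - e} : Set A)) := Module.Flat.trans A'' A _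
    have h6 : IsLocalHom (algebraMap A'' (A ⧸ Ideal.span ({1 - e} : Set A))) := by
      apply ((IsLocalRing.local_hom_TFAE _).out 0 4).mpr
      exact (IsLocalRing.eq_maximalIdeal
        (Ideal.isMaximal_comap_of_isIntegral_of_isMaximal (R := A'') _))
    have h7 : Module.FaithfullyFlat A'' (A ⧸ Ideal.span ({1 - e} : Set A)) :=
      Module.FaithfullyFlat.of_flat_of_isLocalHom
    exact FaithfulSMul.algebraMap_injective A'' (A ⧸ Ideal.span ({1 - e} : Set A))
  · -- surjectivity via Nakayama
    have hN : (⊤ : Submodule A'' (A ⧸ Ideal.span ({1 - e} : Set A))) ≤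
        LinearMap.range (Algebra.linearMap A'' (A ⧸ Ideal.span ({1 - e} : Set A))) := by
      apply Submodule.le_of_le_smul_of_le_jacobson_bot (I := IsLocalRing.maximalIdeal A'')
        Module.Finite.fg_top (IsLocalRing.maximalIdeal_le_jacobson _)
      intro y _
      obtain ⟨a, rfl⟩ := Ideal.Quotient.mk_surjective y
      obtain ⟨j, hj, c, hc, hjc⟩ := Submodule.mem_sup.mp (hmem a)
      have hc0 : Ideal.Quotient.mk (Ideal.span ({1 - e} : Set A)) c = 0 :=
        Ideal.Quotient.eq_zero_iff_mem.mpr hc
      have ha : Ideal.Quotient.mk (Ideal.span ({1 - e} : Set A)) a =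
          Ideal.Quotient.mk _ (algebraMap R A (εA a)) + Ideal.Quotient.mk _ j := by
        have : a = algebraMap R A (εA a) + (j + c) := by rw [hjc]; ring
        conv_lhs => rw [this]
        rw [map_add, map_add, hc0, add_zero]
      rw [ha]
      apply Submodule.add_mem_sup
      · refine ⟨algebraMap R A'' (εA a), ?_⟩
        show Ideal.Quotient.mk _ (algebraMap A'' A (algebraMap R A'' (εA a))) = _
        rw [← IsScalarTower.algebraMap_apply R A'' A]
      · rw [Ideal.smul_top_eq_map]
        show Ideal.Quotient.mk _ j ∈ Ideal.map (algebraMap A'' (A ⧸ Ideal.span ({1 - e} : Set A)))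
          (IsLocalRing.maximalIdeal A'')
        have hk : RingHom.ker εA'' ≤ IsLocalRing.maximalIdeal A'' :=
          IsLocalRing.le_maximalIdeal (RingHom.ker_ne_top _)
        have h8 : Ideal.map (Ideal.Quotient.mk (Ideal.span ({1 - e} : Set A)))
            ((RingHom.ker εA'').map (algebraMap A'' A)) ≤
            Ideal.map (algebraMap A'' (A ⧸ Ideal.span ({1 - e} : Set A)))
              (IsLocalRing.maximalIdeal A'') := by
          rw [Ideal.map_map]
          exact Ideal.map_mono hk
        exact h8 (Ideal.mem_map_of_mem _ hj)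
    intro y
    obtain ⟨x, hx⟩ := hN (Submodule.mem_top (x := y))
    exact ⟨x, hx⟩

end aux

/-- Let R be a henselian Noetherian local ring, A and A'' commutative Hopf algebras over R which are
finite and flat as R-modules, and A'' → A an R-algebra homomorphism compatible with
comultiplications and counits making A faithfully flat over A'' (a faithfully flat homomorphism π :
G → G'' of finite flat R-groups); let J ⊆ A be the ideal generated by the image of the augmentation
ideal of A'' (G' = Spec A/J = ker π, so 1 → G' → G → G'' → 1 is exact). Assume A'' is a local ring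
(G'' connected) and A/J is étale over R (G' finite étale), and let e ∈ A be an idempotent with ε(e)
= 1 such that A/(1 − e) is local (G⁰ = Spec A/(1 − e), the unit component of G). Then the composite
A'' → A → A/(1 − e) is bijective: the restriction G⁰ → G'' of π is an isomorphism, whose inverse
splits the extension, G ≅ G' × G''. -/
theorem result (R : Type u) [CommRing R] [HenselianLocalRing R]
    [IsNoetherianRing R] (A A'' : Type u) [CommRing A] [HopfAlgebra R A] [Module.Finite R A] [Module.Flat R A]
    [CommRing A''] [HopfAlgebra R A''] [Module.Finite R A''] [Module.Flat R A'']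
    [Algebra A'' A] [IsScalarTower R A'' A] [Module.FaithfullyFlat A'' A]
    (hΔ : (Bialgebra.comulAlgHom R A).comp (IsScalarTower.toAlgHom R A'' A) =
      (Algebra.TensorProduct.map (IsScalarTower.toAlgHom R A'' A) (IsScalarTower.toAlgHom R A'' A)).comp
        (Bialgebra.comulAlgHom R A''))
    (hε : (Bialgebra.counitAlgHom R A).comp (IsScalarTower.toAlgHom R A'' A) = Bialgebra.counitAlgHom R A'')
    [IsLocalRing A''] [Algebra.Etale R (A ⧸ (RingHom.ker (Bialgebra.counitAlgHom R A'')).map (algebraMap A'' A))]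
    (e : A) (he : IsIdempotentElem e) (heε : Bialgebra.counitAlgHom R A e = 1)
    [IsLocalRing (A ⧸ Ideal.span ({1 - e} : Set A))] :
    Function.Bijective ((Ideal.Quotient.mkₐ R (Ideal.span ({1 - e} : Set A))).comp (IsScalarTower.toAlgHom R A'' A)) := by
  exact core (Bialgebra.counitAlgHom R A) (Bialgebra.counitAlgHom R A'') hε e he heε

end Groth.Agent.S15068
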