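import Groth.Statements.S1507
import Groth.Agent.Lib.Helper8.PCoh2

set_option autoImplicit false
universe u
attribute [local instance] HasDerivedCategory.standard
open FlatMor

namespace Groth.Agent.S1507

open Groth.Agent.Lib.Helper12 DRing Groth.Agent.Lib.Helper8.PCoh

/-- Let A → B be flat and of finite presentation and I an ideal of B. Then A → B/I is a pseudo-coherent
ring map if and only if I is a pseudo-coherent B-module. -/
theorem result {A B : Type u} [CommRing A] [CommRing B] [Algebra A B] [Module.Flat A B] [Algebra.FinitePresentation A B] (I : Ideal B) :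
    MoreMor.IsPseudoCoherentHom A (B ⧸ I) ↔ DRing.IsPseudoCoherentModule' B ↥I := by
  have H : Groth.Agent.Lib.Helper8.FlatRes.Descent9456.{u} :=
    fun R _ S _ _ _ M _ _ _ _ _ _ => Groth.Agent.S9456.result R S M
  obtain ⟨n, φ, hφ, hres⟩ :=
    exists_resPC_of_isPseudoCoherentHom (isPerfectHom_of_flat_fp H A B).1
  let q : B →+* B ⧸ I := algebraMap B (B ⧸ I)
  let ψ : MvPolynomial (Fin n) A →ₐ[A] B ⧸ I := (IsScalarTower.toAlgHom A B (B ⧸ I)).comp φ
  have hψ : Function.Surjective ψ := by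
    intro x
    obtain ⟨b, rfl⟩ := Ideal.Quotient.mk_surjective x
    obtain ⟨p, rfl⟩ := hφ b
    exact ⟨p, rfl⟩
  have hcomp : (ψ : MvPolynomial (Fin n) A →+* B ⧸ I) =
      q.comp (φ : MvPolynomial (Fin n) A →+* B) := rfl
  rw [isPseudoCoherentHom_iff_resPC ψ hψ, resPC_iff_via]
  unfold DerCA.IsRelPseudoCoherentVia
  rw [hcomp]
  simp only [isPseudoCoherent_restrictD_comp_iff' hres]
  unfold DRing.IsPseudoCoherentModule'
  rw [← isPseudoCoherent'_iff_forall, ← isPseudoCoherent_quotient_iff]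
  refine forall_congr' fun m => ?_
  have e : (restrictD q).obj (Dual.inD (B ⧸ I) (B ⧸ I)) ≅ Dual.inD B (B ⧸ I) :=
    restrictD_inD q (ModuleCat.of (B ⧸ I) (B ⧸ I)) ≪≫
      inDMapIso (Groth.Agent.S6940.resScSelfIso B (B ⧸ I))
  exact ⟨isPseudoCoherent_of_iso' e, isPseudoCoherent_of_iso' e.symm⟩

end Groth.Agent.S1507
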