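import Groth.Statements.S15079
-- import your own Groth.Agent.* helpers here
import Mathlib
import Groth.Agent.Lib.Helper72.MovLem

set_option autoImplicit false
universe u v
open MovLem

namespace Groth.Agent.S15079

/-- Let k be an infinite perfect field, r, m ≥ 1, and let f be an irreducible polynomial in t over
k[x_1, …, x_r] whose constant term in t is a unit of k[x_1, …, x_r], so that the hypersurface Z : f
= 0 in affine (r+1)-space with coordinates x_1, …, x_r, t is integral and does not meet the divisor
t = 0 (the modulus condition in cubical degree one). Then there are a nonzero polynomial h in k[x_1,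
…, x_r] and an integer s₀ such that for every s ≥ s₀, every field K over k and every point g of K^r
with h(g) ≠ 0, the translate of Z_K by the automorphism x_i ↦ x_i + t^{s(m+1)} g_i, t ↦ t is finite
and surjective over affine r-space over K: the quotient of K[x_1, …, x_r][t] by the translated
equation is a finitely generated K[x_1, …, x_r]-module and K[x_1, …, x_r] maps injectively into it.
(The published statement allows every nonzero point g of affine r-space; for r = 2 and f = x_1 t − 1
the point g = (0, 1) translates Z to itself, which is not finite over the affine plane, so the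
conclusion is stated here for g in a nonempty open subset h ≠ 0, which is what the published proof
establishes.) -/
theorem result
    {k : Type u} [Field k] [Infinite k] [PerfectField k] (r m : ℕ) (hr : 1 ≤ r) (hm : 1 ≤ m)
    (f : Polynomial (MvPolynomial (Fin r) k)) (hirr : Irreducible f) (h0 : IsUnit (f.coeff 0)) :
    ∃ h : MvPolynomial (Fin r) k, h ≠ 0 ∧ ∃ s₀ : ℕ, ∀ s : ℕ, s₀ ≤ s →
      ∀ (K : Type v) [Field K] [Algebra k K] (g : Fin r → K), MvPolynomial.aeval g h ≠ 0 →
        ∀ F : Polynomial (MvPolynomial (Fin r) K),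
          F = Polynomial.eval₂ (MvPolynomial.aeval (fun i : Fin r => Polynomial.C (MvPolynomial.X i) + Polynomial.C (MvPolynomial.C (g i)) * Polynomial.X ^ (s * (m + 1))) : MvPolynomial (Fin r) k →ₐ[k] Polynomial (MvPolynomial (Fin r) K)).toRingHom Polynomial.X f →
          Module.Finite (MvPolynomial (Fin r) K) (Polynomial (MvPolynomial (Fin r) K) ⧸ Ideal.span {F}) ∧
          Function.Injective ((Ideal.Quotient.mk (Ideal.span {F})).comp (algebraMap (MvPolynomial (Fin r) K) (Polynomial (MvPolynomial (Fin r) K)))) := by
  have hf : f ≠ 0 := hirr.ne_zero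
  obtain ⟨h, hh, D, J, hunit, hkey⟩ := Groth.Agent.Lib.Helper72.MovLem.key.{u, v} f hf
  refine ⟨h, hh, f.natDegree + 1, ?_⟩
  intro s hs K _ _ g hg F hF
  have hN : f.natDegree < s * (m + 1) := by nlinarith
  obtain ⟨h1, h2⟩ := hkey (s * (m + 1)) hN K g
  have hF' : F = Polynomial.eval₂
      (Groth.Agent.Lib.Helper72.MovLem.Phi (k := k) (s * (m + 1)) g).toRingHom Polynomial.X f := hF
  rw [← hF'] at h1 h2
  have hne : F.coeff (s * (m + 1) * D + J) ≠ 0 := by
    rw [h2]
    intro h0
    exact hg (MvPolynomial.C_injective (Fin r) K (by rw [h0, map_zero]))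
  have hnat := Polynomial.natDegree_eq_of_le_of_coeff_ne_zero h1 hne
  have hlead : F.leadingCoeff = MvPolynomial.C (MvPolynomial.aeval g h) := by
    rw [Polynomial.leadingCoeff, hnat]; exact h2
  have hpos : 0 < s * (m + 1) * D + J := by
    by_contra hcon
    have hz : s * (m + 1) * D + J = 0 := by omega
    have hJ0 : J = 0 := by omega
    have hD0 : D = 0 := by
      have h3 : s * (m + 1) * D = 0 := by omega
      rcases Nat.mul_eq_zero.mp h3 with h4 | h4
      · omega
      · exact h4
    obtain ⟨a, ha, hfa⟩ := hunit ⟨hD0, hJ0⟩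
    apply hirr.not_isUnit
    rw [hfa]
    exact (Polynomial.isUnit_C.mpr ((isUnit_iff_ne_zero.mpr ha).map MvPolynomial.C))
  obtain ⟨c, hc⟩ : ∃ c : K, c = MvPolynomial.aeval g h := ⟨_, rfl⟩
  rw [← hc] at hlead hg
  have hcu : (Polynomial.C (MvPolynomial.C c⁻¹) : Polynomial (MvPolynomial (Fin r) K)) ≠ 0 := by
    rw [Ne, Polynomial.C_eq_zero, MvPolynomial.C_eq_zero]
    exact inv_ne_zero hg
  have hmonic : (Polynomial.C (MvPolynomial.C c⁻¹) * F).Monic := by
    rw [Polynomial.Monic, Polynomial.leadingCoeff_mul, Polynomial.leadingCoeff_C, hlead, ← map_mul,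
      inv_mul_cancel₀ hg, map_one]
  have hspan : Ideal.span {F} = Ideal.span {Polynomial.C (MvPolynomial.C c⁻¹) * F} := by
    rw [Ideal.span_singleton_eq_span_singleton]
    refine ⟨(Polynomial.isUnit_C.mpr ((isUnit_iff_ne_zero.mpr (inv_ne_zero hg)).map MvPolynomial.C)).unit, ?_⟩
    rw [IsUnit.unit_spec, mul_comm]
  rw [hspan]
  refine ⟨hmonic.finite_quotient, ?_⟩
  rw [injective_iff_map_eq_zero]
  intro a ha
  rw [RingHom.comp_apply, Ideal.Quotient.eq_zero_iff_mem, Ideal.mem_span_singleton] at ha
  by_contra ha0
  have hle := Polynomial.natDegree_le_of_dvd ha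
    (by rw [Polynomial.algebraMap_apply, Algebra.algebraMap_self_apply]; exact Polynomial.C_ne_zero.mpr ha0)
  rw [Polynomial.algebraMap_apply, Algebra.algebraMap_self_apply, Polynomial.natDegree_C,
    Polynomial.natDegree_C_mul (by
      rw [Ne, MvPolynomial.C_eq_zero]; exact inv_ne_zero hg), hnat] at hle
  omega

end Groth.Agent.S15079
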