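import Groth.Statements.S15084
import Mathlib.RingTheory.Ideal.AssociatedPrime.Basic
import Mathlib.RingTheory.IntegralClosure.Algebra.Basic
import Mathlib.Tactic
-- import your own Groth.Agent.* helpers here

set_option autoImplicit false
universe u
open MovLem

namespace Groth.Agent.S15084

/-- Let A be a Noetherian integrally closed domain with fraction field K, let B be a domain with
fraction field L, and let A → B be an injective ring homomorphism, with K → L the induced map of
fraction fields, such that Spec B → Spec A is surjective (every prime ideal of A is the contraction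
of a prime ideal of B). If a ∈ K is such that its image in L lies in B, then a ∈ A. (The published
statement: for a surjective morphism f : Y → X of normal integral separated schemes of finite type
over a perfect field and a Cartier divisor D on X, if f^*D is effective then D is effective; a
Cartier divisor is locally the divisor of a nonzero rational function a, effectivity of div(a) on a
normal scheme means that a is a regular function, and this row is that local statement, which is
what the published proof establishes.) -/
theorem result
    (A B K L : Type u) [CommRing A] [IsDomain A] [IsNoetherianRing A] [IsIntegrallyClosed A]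
    [CommRing B] [IsDomain B] [Field K] [Field L]
    [Algebra A B] [Algebra A K] [IsFractionRing A K] [Algebra B L] [IsFractionRing B L]
    [Algebra K L] [Algebra A L] [IsScalarTower A K L] [IsScalarTower A B L]
    (hinj : Function.Injective (algebraMap A B))
    (hsurj : ∀ p : Ideal A, p.IsPrime → ∃ q : Ideal B, q.IsPrime ∧ q.comap (algebraMap A B) = p)
    (a : K) (ha : algebraMap K L a ∈ (algebraMap B L).range) :
    a ∈ (algebraMap A K).range := by
  classical
  by_contra hnot
  -- the quotient module K / A and the cyclic submodule spanned by the class of `a`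
  let Q := K ⧸ (1 : Submodule A K)
  let abar : Q := Submodule.Quotient.mk a
  have habar : abar ≠ 0 := by
    intro h0
    rw [Submodule.Quotient.mk_eq_zero, Submodule.mem_one] at h0
    obtain ⟨r, hr⟩ := h0
    exact hnot ⟨r, hr⟩
  let M' := ↥(Submodule.span A {abar})
  let x0 : M' := ⟨abar, Submodule.mem_span_singleton_self abar⟩
  have hx0 : x0 ≠ 0 := by
    intro h0
    exact habar (congrArg Subtype.val h0)
  obtain ⟨P, hP, -⟩ := exists_le_isAssociatedPrime_of_isNoetherianRing A x0 hx0
  rw [isAssociatedPrime_iff] at hP
  obtain ⟨hPprime, ⟨w, hw⟩, hPeq⟩ := hP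
  obtain ⟨c, rfl⟩ := Submodule.mem_span_singleton.mp hw
  -- the element z = c • a
  set z : K := c • a with hz
  have hmemP : ∀ t : A, t ∈ P ↔ ∃ r : A, algebraMap A K r = t • z := by
    intro t
    rw [hPeq, Submodule.mem_colon_singleton, Submodule.mem_bot]
    rw [← Subtype.coe_inj]
    change t • (c • (Submodule.Quotient.mk a : K ⧸ (1 : Submodule A K))) = 0 ↔ _
    rw [← Submodule.Quotient.mk_smul, ← Submodule.Quotient.mk_smul,
      Submodule.Quotient.mk_eq_zero, Submodule.mem_one]
  have hzA : ¬ ∃ r : A, algebraMap A K r = z := by
    rintro ⟨r, hr⟩
    apply hPprime.ne_top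
    rw [Ideal.eq_top_iff_one, hmemP]
    exact ⟨r, by rw [one_smul, hr]⟩
  -- z comes from B
  obtain ⟨β, hβ⟩ := ha
  have hzB : algebraMap K L z = algebraMap B L (algebraMap A B c * β) := by
    rw [hz, Algebra.smul_def, map_mul, map_mul, hβ, ← IsScalarTower.algebraMap_apply A K L,
      ← IsScalarTower.algebraMap_apply A B L]
  by_cases hcase : ∀ t ∈ P, ∃ r ∈ P, algebraMap A K r = t • z
  · -- z is integral
    apply hzA
    rw [← IsIntegrallyClosed.isIntegral_iff]
    have hPne : P ≠ ⊥ := by
      obtain ⟨x, y, hy, hxy⟩ := IsFractionRing.div_surjective (A := A) a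
      have hy0 : y ≠ 0 := nonZeroDivisors.ne_zero hy
      have hyP : y ∈ P := by
        rw [hmemP]
        refine ⟨c * x, ?_⟩
        rw [hz, ← hxy, Algebra.smul_def, Algebra.smul_def, map_mul]
        have : algebraMap A K y ≠ 0 := by
          intro h
          exact hy0 ((IsFractionRing.injective A K) (by rw [h, map_zero]))
        field_simp
      intro hbot
      rw [hbot, Ideal.mem_bot] at hyP
      exact hy0 hyP
    refine isIntegral_of_smul_mem_submodule (R := A) (A := K) (M := K)
      (Submodule.map (Algebra.linearMap A K) P) ?_ ?_ z ?_
    · intro hbot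
      apply hPne
      rw [Submodule.eq_bot_iff] at hbot ⊢
      intro t ht
      have := hbot (algebraMap A K t) ⟨t, ht, rfl⟩
      exact (IsFractionRing.injective A K) (by rw [this, map_zero])
    · exact Submodule.FG.map _ (IsNoetherian.noetherian P)
    · rintro _ ⟨t, ht, rfl⟩
      obtain ⟨r, hrP, hr⟩ := hcase t ht
      refine ⟨r, hrP, ?_⟩
      rw [Algebra.linearMap_apply, hr, Algebra.linearMap_apply, Algebra.smul_def, smul_eq_mul, mul_comm]
  · push Not at hcase
    obtain ⟨t, htP, ht⟩ := hcase
    obtain ⟨r, hr⟩ := (hmemP t).mp htP
    have hrP : r ∉ P := fun h => ht r h hr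
    obtain ⟨q, hq, hqP⟩ := hsurj P hPprime
    apply hrP
    rw [← hqP, Ideal.mem_comap]
    have : algebraMap A B r = algebraMap A B t * (algebraMap A B c * β) := by
      apply IsFractionRing.injective B L
      rw [map_mul, ← hzB, ← IsScalarTower.algebraMap_apply A B L, ← IsScalarTower.algebraMap_apply A B L,
        IsScalarTower.algebraMap_apply A K L, IsScalarTower.algebraMap_apply A K L, hr, Algebra.smul_def,
        map_mul]
    rw [this]
    apply Ideal.mul_mem_right
    rw [← Ideal.mem_comap, hqP]
    exact htP

end Groth.Agent.S15084
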