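import Groth.Statements.S15086
import Groth.Agent.Lib.Helper69.GeomPts

set_option linter.style.haveILetI false

set_option autoImplicit false
universe u
open CategoryTheory CategoryTheory.Limits AlgebraicGeometry
open MovLem

namespace Groth.Agent.S15086

/-- Let k be an infinite perfect field with algebraic closure k̄, let φ : X → Y be a finite morphism of
k-schemes locally of finite type, let x be a closed point of X and y = φ(x). Let π_X : X_{k̄} → X
and π_Y : Y_{k̄} → Y be the base-change projections and φ_{k̄} : X_{k̄} → Y_{k̄} the induced
morphism. Then the number of points of π_Y⁻¹(y) is at most the number of points of π_X⁻¹(x);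
equality holds if and only if the residue field extension k(y) → k(x) is an isomorphism; and
equality holds whenever φ_{k̄} is injective on π_X⁻¹(x). (Cardinalities are taken in ℕ ∪ {∞}; both
fibres are in fact finite.) -/
theorem result
    {k : Type u} [Field k] [Infinite k] [PerfectField k] {X Y : Scheme.{u}}
    (sX : X ⟶ Spec (CommRingCat.of k)) (sY : Y ⟶ Spec (CommRingCat.of k))
    [LocallyOfFiniteType sX] [LocallyOfFiniteType sY]
    (φ : X ⟶ Y) (hφ : φ ≫ sY = sX) [IsFinite φ]
    (i : Spec (CommRingCat.of (AlgebraicClosure k)) ⟶ Spec (CommRingCat.of k))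
    (hi : i = Spec.map (CommRingCat.ofHom (algebraMap k (AlgebraicClosure k))))
    (φbar : pullback sX i ⟶ pullback sY i)
    (h1 : φbar ≫ pullback.fst sY i = pullback.fst sX i ≫ φ)
    (h2 : φbar ≫ pullback.snd sY i = pullback.snd sX i)
    (x : X) (hx : IsClosed ({x} : Set X)) :
    ((pullback.fst sY i).base ⁻¹' {φ.base x}).encard ≤ ((pullback.fst sX i).base ⁻¹' {x}).encard ∧
      (((pullback.fst sY i).base ⁻¹' {φ.base x}).encard = ((pullback.fst sX i).base ⁻¹' {x}).encard ↔
          Function.Bijective (φ.residueFieldMap x).hom) ∧
      (Set.InjOn φbar.base ((pullback.fst sX i).base ⁻¹' {x}) →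
        ((pullback.fst sY i).base ⁻¹' {φ.base x}).encard = ((pullback.fst sX i).base ⁻¹' {x}).encard) := by
  subst hi
  classical
  -- the point y is closed
  have hy : IsClosed ({φ.base x} : Set Y) := by
    have h := φ.isClosedMap _ hx
    rwa [Set.image_singleton] at h
  -- algebra structures on the residue fields
  let ψx : k →+* X.residueField x := (Spec.preimage (X.fromSpecResidueField x ≫ sX)).hom
  let ψy : k →+* Y.residueField (φ.base x) :=
    (Spec.preimage (Y.fromSpecResidueField (φ.base x) ≫ sY)).hom
  letI : Algebra k (X.residueField x) := ψx.toAlgebra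
  letI : Algebra k (Y.residueField (φ.base x)) := ψy.toAlgebra
  letI : Algebra (Y.residueField (φ.base x)) (X.residueField x) :=
    (φ.residueFieldMap x).hom.toAlgebra
  have hψx : X.fromSpecResidueField x ≫ sX =
      Spec.map (CommRingCat.ofHom (algebraMap k (X.residueField x))) :=
    (Spec.map_preimage _).symm
  have hψy : Y.fromSpecResidueField (φ.base x) ≫ sY =
      Spec.map (CommRingCat.ofHom (algebraMap k (Y.residueField (φ.base x)))) :=
    (Spec.map_preimage _).symm
  have hcomp : algebraMap k (X.residueField x) =
      (algebraMap (Y.residueField (φ.base x)) (X.residueField x)).comp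
        (algebraMap k (Y.residueField (φ.base x))) := by
    have h3 : Spec.map (CommRingCat.ofHom (algebraMap k (X.residueField x))) =
        Spec.map (CommRingCat.ofHom ((algebraMap (Y.residueField (φ.base x))
          (X.residueField x)).comp (algebraMap k (Y.residueField (φ.base x))))) := by
      rw [← hψx, ← hφ, ← Scheme.Hom.SpecMap_residueFieldMap_fromSpecResidueField_assoc, hψy,
        ← Spec.map_comp]
      rfl
    have h4 := Spec.map_injective h3
    exact congrArg CommRingCat.Hom.hom h4
  haveI : IsScalarTower k (Y.residueField (φ.base x)) (X.residueField x) :=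
    IsScalarTower.of_algebraMap_eq' hcomp
  -- finiteness
  haveI : FiniteDimensional k (X.residueField x) := by
    have hfin : IsFinite (X.fromSpecResidueField x ≫ sX) := by
      have := isClosed_singleton_iff_isClosedImmersion.mp hx
      rw [isFinite_iff_locallyOfFiniteType_of_jacobsonSpace]
      infer_instance
    rw [hψx, IsFinite.SpecMap_iff] at hfin
    exact hfin
  haveI : FiniteDimensional k (Y.residueField (φ.base x)) := by
    have hfin : IsFinite (Y.fromSpecResidueField (φ.base x) ≫ sY) := by
      have := isClosed_singleton_iff_isClosedImmersion.mp hy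
      rw [isFinite_iff_locallyOfFiniteType_of_jacobsonSpace]
      infer_instance
    rw [hψy, IsFinite.SpecMap_iff] at hfin
    exact hfin
  haveI : FiniteDimensional (Y.residueField (φ.base x)) (X.residueField x) :=
    FiniteDimensional.right k _ _
  have cx := Groth.Agent.Lib.Helper69.GeomPts.encard_preimage_eq_finSepDegree k
    (AlgebraicClosure k) sX x hψx
  have cy := Groth.Agent.Lib.Helper69.GeomPts.encard_preimage_eq_finSepDegree k
    (AlgebraicClosure k) sY (φ.base x) hψy
  rw [Field.finSepDegree_eq_finrank_of_isSeparable] at cx cy
  have htower := Module.finrank_mul_finrank k (Y.residueField (φ.base x)) (X.residueField x)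
  have hpos : 0 < Module.finrank k (Y.residueField (φ.base x)) := Module.finrank_pos
  have hpos2 : 0 < Module.finrank (Y.residueField (φ.base x)) (X.residueField x) :=
    Module.finrank_pos
  have hle : ((pullback.fst sY (Spec.map (CommRingCat.ofHom (algebraMap k
      (AlgebraicClosure k))))).base ⁻¹' {φ.base x}).encard ≤
      ((pullback.fst sX (Spec.map (CommRingCat.ofHom (algebraMap k
      (AlgebraicClosure k))))).base ⁻¹' {x}).encard := by
    rw [cx, cy, ← htower]
    exact_mod_cast Nat.le_mul_of_pos_right _ hpos2
  refine ⟨hle, ?_, ?_⟩
  · rw [cx, cy, ← htower]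
    have : Function.Bijective (φ.residueFieldMap x).hom ↔
        Module.finrank (Y.residueField (φ.base x)) (X.residueField x) = 1 :=
      (Algebra.finrank_eq_one_iff_bijective_algebraMap).symm
    rw [this]
    constructor
    · intro h
      have h' : Module.finrank k (Y.residueField (φ.base x)) * 1 =
          Module.finrank k (Y.residueField (φ.base x)) *
            Module.finrank (Y.residueField (φ.base x)) (X.residueField x) := by
        rw [mul_one]; exact_mod_cast h
      exact (Nat.eq_of_mul_eq_mul_left hpos h').symm
    · intro h
      rw [h, mul_one]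
  · intro hinj
    refine le_antisymm hle ?_
    refine Set.encard_le_encard_of_injOn ?_ hinj
    intro x' hx'
    simp only [Set.mem_preimage, Set.mem_singleton_iff] at hx' ⊢
    have := congrArg (fun g => g.base x') h1
    simp only [Scheme.Hom.comp_base, TopCat.comp_app] at this
    rw [this, hx']

end Groth.Agent.S15086
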