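import Groth.Statements.S15100
import Mathlib
-- import your own Groth.Agent.* helpers here

set_option autoImplicit false
universe u
open TensorProduct
open CAlg

namespace Groth.Agent.S15100

section abstract

variable {A : Type*} [CommRing A] [IsDomain A]
  {F₁ F₂ Ω : Type*} [AddCommGroup F₁] [Module A F₁] [AddCommGroup F₂] [Module A F₂]
  [AddCommGroup Ω] [Module A Ω]
  (α : F₁ →ₗ[A] F₂) (β : F₂ →ₗ[A] Ω) (hex : Function.Exact α β) (hβ : Function.Surjective β)
  (e : F₁) (he : ∀ z : F₁, ∃ c : A, z = c • e) (b : Module.Basis (Fin 2) A F₂)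

include hex hβ he in
/-- the localisation of the cokernel at a prime containing the coordinates of the relation
is not free (unless the relation vanishes) -/
theorem not_free_localized (Q : Ideal A) [Q.IsPrime] (hQ : ∀ i, b.repr (α e) i ∈ Q)
    (hx : α e ≠ 0) :
    ¬ Module.Free (Localization.AtPrime Q) (LocalizedModule Q.primeCompl Ω) := by
  intro hfree
  have : Module.Free A F₂ := Module.Free.of_basis b
  set S := Q.primeCompl with hS
  set Lβ := LocalizedModule.map S β with hLβ
  have hsurj : Function.Surjective Lβ := LocalizedModule.map_surjective S β hβ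
  obtain ⟨s, hs⟩ := Lβ.exists_rightInverse_of_surjective (LinearMap.range_eq_top.mpr hsurj)
  set xb : LocalizedModule S F₂ := LocalizedModule.mk (α e) (1 : S) with hxb
  -- kernel elements
  have hker : ∀ y : LocalizedModule S F₂, Lβ y = 0 →
      ∃ a : Localization.AtPrime Q, y = a • xb := by
    intro y
    induction y using LocalizedModule.induction_on with
    | h m t =>
      intro hy
      rw [hLβ, LocalizedModule.map_mk, ← LocalizedModule.zero_mk t, LocalizedModule.mk_eq] at hy
      obtain ⟨u, hu⟩ := hy
      rw [smul_zero, smul_zero, ← mul_smul] at hu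
      have h1 : β ((u * t) • m) = 0 := by
        rw [← hu]
        exact map_smul β ((u * t : S) : A) m
      obtain ⟨z, hz⟩ := (hex _).mp h1
      obtain ⟨c, rfl⟩ := he z
      refine ⟨Localization.mk c (u * t * t), ?_⟩
      rw [hxb, LocalizedModule.mk_smul_mk, mul_one, ← map_smul, hz,
        LocalizedModule.mk_cancel_common_left]
  -- the idempotent argument
  have hxb0 : Lβ xb = 0 := by
    rw [hxb, hLβ, LocalizedModule.map_mk, hex.apply_apply_eq_zero, LocalizedModule.zero_mk]
  have hproj : ∀ v : LocalizedModule S F₂, Lβ (v - s (Lβ v)) = 0 := by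
    intro v
    rw [map_sub, ← LinearMap.comp_apply, hs, LinearMap.id_apply, sub_self]
  choose a ha using fun i : Fin 2 => hker _ (hproj (LocalizedModule.mk (b i) (1 : S)))
  have hsum : xb = ∑ i, (b.repr (α e) i) • LocalizedModule.mk (b i) (1 : S) := by
    have h1 : xb = LocalizedModule.mkLinearMap S F₂ (α e) := rfl
    rw [h1]
    conv_lhs => rw [← b.sum_repr (α e)]
    rw [map_sum]
    apply Finset.sum_congr rfl
    intro i _
    rw [map_smul]
    rfl
  -- apply `id - s ∘ Lβ`
  have hfix : xb = xb - s (Lβ xb) := by rw [hxb0, map_zero, sub_zero]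
  have hcomb : xb = ∑ i, (algebraMap A (Localization.AtPrime Q) (b.repr (α e) i) * a i) • xb := by
    conv_lhs => rw [hfix]
    conv_lhs => rw [hsum]
    rw [map_sum, map_sum, ← Finset.sum_sub_distrib]
    apply Finset.sum_congr rfl
    intro i _
    have h2 : Lβ ((b.repr (α e) i) • LocalizedModule.mk (b i) (1 : S)) =
        (b.repr (α e) i) • Lβ (LocalizedModule.mk (b i) (1 : S)) := by
      rw [← algebraMap_smul (Localization.AtPrime Q), map_smul, algebraMap_smul]
    have h3 : s ((b.repr (α e) i) • Lβ (LocalizedModule.mk (b i) (1 : S))) =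
        (b.repr (α e) i) • s (Lβ (LocalizedModule.mk (b i) (1 : S))) := by
      rw [← algebraMap_smul (Localization.AtPrime Q), map_smul, algebraMap_smul]
    rw [h2, h3, ← smul_sub, ha i, mul_smul, algebraMap_smul]
  rw [← Finset.sum_smul] at hcomb
  set w := ∑ i, (algebraMap A (Localization.AtPrime Q) (b.repr (α e) i) * a i) with hw
  have hwm : w ∈ IsLocalRing.maximalIdeal (Localization.AtPrime Q) := by
    apply Ideal.sum_mem
    intro i _
    apply Ideal.mul_mem_right
    exact (IsLocalization.AtPrime.to_map_mem_maximal_iff (Localization.AtPrime Q) Q _).mpr (hQ i)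
  have hunit : IsUnit (1 - w) := by
    have := IsLocalRing.isUnit_one_sub_self_of_mem_nonunits w hwm
    exact this
  have hzero : (1 - w) • xb = 0 := by
    rw [sub_smul, one_smul, ← hcomb, sub_self]
  have hxb_zero : xb = 0 := by
    have := congrArg (fun y => (hunit.unit⁻¹ : (Localization.AtPrime Q)ˣ) • y) hzero
    simpa [Units.smul_def, smul_smul] using this
  rw [hxb, ← LocalizedModule.zero_mk (1 : S), LocalizedModule.mk_eq] at hxb_zero
  obtain ⟨u, hu⟩ := hxb_zero
  rw [smul_zero, smul_zero, one_smul] at hu
  have hu' : ((u : A)) • α e = 0 := hu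
  rcases smul_eq_zero.mp hu' with h | h
  · have := u.2
    rw [h] at this
    exact this (Q.zero_mem)
  · exact hx h

include hex hβ he b in
/-- if the relation vanishes the cokernel is the free module `F₂` -/
theorem free_of_eq_zero (hx : α e = 0) : Module.Free A Ω := by
  have hinj : Function.Injective β := by
    rw [← LinearMap.ker_eq_bot, LinearMap.ker_eq_bot']
    intro v hv
    obtain ⟨z, rfl⟩ := (hex v).mp hv
    obtain ⟨c, rfl⟩ := he z
    rw [map_smul, hx, smul_zero]
  exact Module.Free.of_equiv' (Module.Free.of_basis b) (LinearEquiv.ofBijective β ⟨hinj, hβ⟩)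

include hex hβ he in
/-- if a coordinate of the relation is a unit, the cokernel is free of rank one -/
theorem free_of_unit (i j : Fin 2) (hij : i ≠ j) (hall : ∀ k : Fin 2, k = i ∨ k = j)
    (hu : IsUnit (b.repr (α e) i)) : Module.Free A Ω := by
  classical
  have huniv : (Finset.univ : Finset (Fin 2)) = {i, j} := by
    ext k
    simp only [Finset.mem_univ, Finset.mem_insert, Finset.mem_singleton, true_iff]
    exact hall k
  have hrel : (b.repr (α e) i) • β (b i) + (b.repr (α e) j) • β (b j) = 0 := by
    have h1 : β (α e) = 0 := hex.apply_apply_eq_zero e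
    rw [← b.sum_repr (α e), huniv, Finset.sum_pair hij, map_add, map_smul, map_smul] at h1
    exact h1
  obtain ⟨ui, hui⟩ := hu
  have hbi : β (b i) = (-(↑ui⁻¹ * b.repr (α e) j)) • β (b j) := by
    have h2 : (↑ui⁻¹ : A) • ((b.repr (α e) i) • β (b i) + (b.repr (α e) j) • β (b j)) = 0 := by
      rw [hrel, smul_zero]
    rw [smul_add, smul_smul, smul_smul, ← hui, Units.inv_mul, one_smul] at h2
    rw [neg_smul, eq_neg_iff_add_eq_zero]
    exact h2
  let ψ : A →ₗ[A] Ω := LinearMap.toSpanSingleton A Ω (β (b j))
  have hψinj : Function.Injective ψ := by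
    rw [← LinearMap.ker_eq_bot, LinearMap.ker_eq_bot']
    intro a ha
    have h1 : β (a • b j) = 0 := by rw [map_smul]; exact ha
    obtain ⟨z, hz⟩ := (hex _).mp h1
    obtain ⟨c, rfl⟩ := he z
    rw [map_smul] at hz
    have h2 := congrArg (fun v => b.repr v i) hz
    simp only [map_smul, Finsupp.smul_apply, Module.Basis.repr_self, smul_eq_mul,
      Finsupp.single_apply, if_neg (Ne.symm hij), mul_zero] at h2
    have hc : c = 0 := by
      rw [← hui] at h2
      exact (Units.mul_left_eq_zero ui).mp h2
    have h3 := congrArg (fun v => b.repr v j) hz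
    simp only [map_smul, Finsupp.smul_apply, Module.Basis.repr_self, smul_eq_mul,
      Finsupp.single_apply, hc, zero_mul] at h3
    simpa using h3.symm
  have hψsurj : Function.Surjective ψ := by
    intro ω
    obtain ⟨v, rfl⟩ := hβ ω
    refine ⟨b.repr v i * (-(↑ui⁻¹ * b.repr (α e) j)) + b.repr v j, ?_⟩
    conv_rhs => rw [← b.sum_repr v, huniv, Finset.sum_pair hij, map_add, map_smul, map_smul, hbi]
    simp only [ψ, LinearMap.toSpanSingleton_apply, add_smul, mul_smul]
  exact Module.Free.of_equiv' (Module.Free.self A) (LinearEquiv.ofBijective ψ ⟨hψinj, hψsurj⟩)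

end abstract

/-- Let V be a discrete valuation ring with uniformizer u and V → R → A commutative V-algebras with A an
R-algebra compatibly; assume A is a Noetherian local domain of Krull dimension 3 with u in its
maximal ideal, that Ω_{A/V} is a free A-module of rank 2 and that A ⊗_R Ω_{R/V} is a free A-module
of rank 1. Suppose that on the special fibre Ω_{A/R} is locally free exactly away from the closed
point: for every prime P of A containing u other than the maximal ideal the localization (Ω_{A/R})_P
is free over A_P, while Ω_{A/R} is not free over A. Then Ω_{A/R} is not locally free on the generic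
fibre: there is a prime Q of A not containing u with (Ω_{A/R})_Q not free over A_Q. (In the
published statement R is a regular local ring of dimension 2 and A a local ring of dimension 3, both
smooth over V, which yields the two freeness hypotheses used here, and the hypothesis is phrased as
local freeness of Ω of the special fibre of A over that of R away from the closed point.) -/
theorem result
    (V R A : Type u) [CommRing V] [IsDomain V] [IsDiscreteValuationRing V] [CommRing R] [CommRing A]
    [IsDomain A] [IsNoetherianRing A] [IsLocalRing A]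
    [Algebra V R] [Algebra V A] [Algebra R A] [IsScalarTower V R A]
    (u : V) (hu : Irreducible u) (huA : algebraMap V A u ∈ IsLocalRing.maximalIdeal A)
    (hdimA : ringKrullDim A = 3)
    (hΩA : Module.Free A (Ω[A⁄V])) (hrkA : Module.finrank A (Ω[A⁄V]) = 2)
    (hΩR : Module.Free A (A ⊗[R] Ω[R⁄V])) (hrkR : Module.finrank A (A ⊗[R] Ω[R⁄V]) = 1)
    (h0 : ∀ P : PrimeSpectrum A, algebraMap V A u ∈ P.asIdeal → P.asIdeal ≠ IsLocalRing.maximalIdeal A →
      Module.Free (Localization.AtPrime P.asIdeal) (LocalizedModule P.asIdeal.primeCompl (Ω[A⁄R])))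
    (hm : ¬ Module.Free A (Ω[A⁄R])) :
    ∃ Q : PrimeSpectrum A, algebraMap V A u ∉ Q.asIdeal ∧
      ¬ Module.Free (Localization.AtPrime Q.asIdeal) (LocalizedModule Q.asIdeal.primeCompl (Ω[A⁄R])) := by
  classical
  set α := KaehlerDifferential.mapBaseChange V R A with hα
  set β := KaehlerDifferential.map V R A A with hβdef
  have hex : Function.Exact α β := KaehlerDifferential.exact_mapBaseChange_map V R A
  have hβ : Function.Surjective β := KaehlerDifferential.map_surjective V R A
  haveI := hΩA
  haveI := hΩR
  haveI : Module.Finite A (A ⊗[R] Ω[R⁄V]) :=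
    Module.finite_of_finrank_pos (by rw [hrkR]; exact Nat.one_pos)
  haveI : Module.Finite A (Ω[A⁄V]) :=
    Module.finite_of_finrank_pos (by rw [hrkA]; exact Nat.succ_pos 1)
  let b₁ : Module.Basis (Fin 1) A (A ⊗[R] Ω[R⁄V]) := Module.finBasisOfFinrankEq A _ hrkR
  let b : Module.Basis (Fin 2) A (Ω[A⁄V]) := Module.finBasisOfFinrankEq A _ hrkA
  set e := b₁ 0 with he0
  have he : ∀ z : A ⊗[R] Ω[R⁄V], ∃ c : A, z = c • e := by
    intro z
    refine ⟨b₁.repr z 0, ?_⟩
    conv_lhs => rw [← b₁.sum_repr z]
    simp [he0]
  -- the relation does not vanish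
  have hx : α e ≠ 0 := fun h => hm (free_of_eq_zero α β hex hβ e he b h)
  -- its coordinates lie in the maximal ideal
  have hr0 : b.repr (α e) 0 ∈ IsLocalRing.maximalIdeal A := by
    by_contra h
    have hu : IsUnit (b.repr (α e) 0) := by
      by_contra hnu
      exact h ((IsLocalRing.mem_maximalIdeal _).mpr hnu)
    exact hm (free_of_unit α β hex hβ e he b 0 1 (by decide) (by decide) hu)
  have hr1 : b.repr (α e) 1 ∈ IsLocalRing.maximalIdeal A := by
    by_contra h
    have hu : IsUnit (b.repr (α e) 1) := by
      by_contra hnu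
      exact h ((IsLocalRing.mem_maximalIdeal _).mpr hnu)
    exact hm (free_of_unit α β hex hβ e he b 1 0 (by decide) (by decide) hu)
  set s : Finset A := {b.repr (α e) 0, b.repr (α e) 1} with hs
  have hIle : Ideal.span (s : Set A) ≤ IsLocalRing.maximalIdeal A := by
    rw [Ideal.span_le]
    intro y hy
    simp only [hs, Finset.coe_insert, Finset.coe_singleton, Set.mem_insert_iff,
      Set.mem_singleton_iff] at hy
    rcases hy with rfl | rfl
    · exact hr0
    · exact hr1
  have hIne : Ideal.span (s : Set A) ≠ ⊤ := fun h =>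
    (IsLocalRing.maximalIdeal.isMaximal A).ne_top (top_le_iff.mp (h ▸ hIle))
  obtain ⟨Q, hQ⟩ := Ideal.nonempty_minimalPrimes hIne
  have hQprime : Q.IsPrime := hQ.1.1
  have hQle : Ideal.span (s : Set A) ≤ Q := hQ.1.2
  have hht : Q.height ≤ 2 := by
    refine (Ideal.height_le_card_of_mem_minimalPrimes_span_finset hQ).trans ?_
    exact_mod_cast Finset.card_le_two
  have hQne : Q ≠ IsLocalRing.maximalIdeal A := by
    intro h
    have h3 : ((IsLocalRing.maximalIdeal A).height : WithBot ℕ∞) = 3 := by
      rw [IsLocalRing.maximalIdeal_height_eq_ringKrullDim, hdimA]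
    rw [← h] at h3
    have h4 : Q.height = 3 := by
      have : ((Q.height : ℕ∞) : WithBot ℕ∞) = ((3 : ℕ∞) : WithBot ℕ∞) := h3
      exact WithBot.coe_injective this
    rw [h4] at hht
    exact absurd hht (by decide)
  have hQmem : ∀ i, b.repr (α e) i ∈ Q := by
    intro i
    apply hQle
    apply Ideal.subset_span
    fin_cases i
    · simp [hs]
    · simp [hs]
  have hnf := not_free_localized α β hex hβ e he b Q hQmem hx
  refine ⟨⟨Q, hQprime⟩, ?_, hnf⟩
  intro hu
  exact hnf (h0 ⟨Q, hQprime⟩ hu hQne)

end Groth.Agent.S15100
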