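import Groth.Statements.S15115
import Groth.Agent.Lib.Helper34.Reynolds
-- import your own Groth.Agent.* helpers here

set_option autoImplicit false
universe u
open HopfRep

namespace Groth.Agent.S15115

open TensorProduct in
/-- Let k be an algebraically closed field, H a finite-dimensional commutative Hopf algebra over k all
of whose finite-dimensional comodules are semisimple (a finite linearly reductive group scheme G
over k), A a commutative k-algebra, and M an A-module with an H-coaction that is A-linear (G acts on
M by A-module maps, A carrying the trivial action). Let A' be a commutative A-algebra and N = A' ⊗_A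
M its base change, exhibited by an A-linear map φ : M → N, with the induced coaction: A'-linear and
compatible with φ. Then invariants commute with this base change: writing M^G for the A-submodule of
coinvariant elements of M, the natural map A' ⊗_A M^G → N, a' ⊗ m ↦ a' φ(m), is injective and its
image is exactly the set of coinvariant elements of N. (The published statement is the isomorphism
ρ^* π_* F → π'_* σ^* F for a tame Deligne–Mumford stack with coarse moduli space π and any base
change ρ of the coarse space; this row is the statement about invariants to which its proof reduces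
it, for modules that need not be finitely generated.) -/
theorem result (k : Type u) [Field k] [IsAlgClosed k]
    (H : Type u) [CommRing H] [HopfAlgebra k H] [Module.Finite k H] (hred : HopfRep.IsLinearlyReductive k H)
    (A : Type u) [CommRing A] [Algebra k A]
    (M : Type u) [AddCommGroup M] [Module k M] [Module A M] [IsScalarTower k A M] [HopfRep.Comod k H M]
    (hlin : ∀ (a : A) (m : M), HopfRep.Comod.coact (k := k) (A := H) (a • m) = a • HopfRep.Comod.coact (k := k) (A := H) m)
    (A' : Type u) [CommRing A'] [Algebra k A'] [Algebra A A'] [IsScalarTower k A A']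
    (N : Type u) [AddCommGroup N] [Module k N] [Module A N] [Module A' N]
    [IsScalarTower k A N] [IsScalarTower A A' N] [IsScalarTower k A' N] [HopfRep.Comod k H N]
    (φ : M →ₗ[A] N) (hφ : IsBaseChange A' φ)
    (hcomp : ∀ m : M, HopfRep.Comod.coact (k := k) (A := H) (φ m) =
      LinearMap.rTensor H (φ.restrictScalars k) (HopfRep.Comod.coact (k := k) (A := H) m))
    (hlinN : ∀ (a' : A') (n : N), HopfRep.Comod.coact (k := k) (A := H) (a' • n) = a' • HopfRep.Comod.coact (k := k) (A := H) n)
    (P : Submodule A M) (hP : (P : Set M) = (HopfRep.fixedPts k H M : Set M)) :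
    Function.Injective (TensorProduct.lift (((Algebra.lsmul A A N : A' →ₐ[A] Module.End A N).toLinearMap).compl₂ (φ ∘ₗ P.subtype))) ∧
      Set.range (TensorProduct.lift (((Algebra.lsmul A A N : A' →ₐ[A] Module.End A N).toLinearMap).compl₂ (φ ∘ₗ P.subtype))) =
        (HopfRep.fixedPts k H N : Set N) := by
  classical
  open Groth.Agent.Lib.Helper75 Groth.Agent.Lib.Helper34.Reynolds in
  -- the normalised integral
  obtain ⟨l, hl1, hl⟩ := exists_integral (k := k) (H := H) (hred H inferInstance)
  -- contraction commutes with scalars from A / A'
  have hcA : ∀ (f : H →ₗ[k] k) (a : A) (x : M ⊗[k] H), contractR M f (a • x) = a • contractR M f x := by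
    intro f a x
    induction x using TensorProduct.induction_on with
    | zero => simp
    | tmul m h => rw [TensorProduct.smul_tmul', contractR_tmul, contractR_tmul, smul_comm]
    | add x y hx hy => rw [smul_add, map_add, map_add, hx, hy, smul_add]
  have hcA' : ∀ (f : H →ₗ[k] k) (a : A') (x : N ⊗[k] H), contractR N f (a • x) = a • contractR N f x := by
    intro f a x
    induction x using TensorProduct.induction_on with
    | zero => simp
    | tmul m h => rw [TensorProduct.smul_tmul', contractR_tmul, contractR_tmul, smul_comm]
    | add x y hx hy => rw [smul_add, map_add, map_add, hx, hy, smul_add]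
  -- Reynolds operators
  have hEM : ∀ (a : A) (m : M), act (A := H) l (a • m) = a • act (A := H) l m := by
    intro a m
    rw [act_apply, act_apply]
    show contractR M l (HopfRep.Comod.coact (k := k) (A := H) (a • m)) = _
    rw [hlin, hcA]
  have hEN : ∀ (a : A') (n : N), act (A := H) l (a • n) = a • act (A := H) l n := by
    intro a n
    rw [act_apply, act_apply]
    show contractR N l (HopfRep.Comod.coact (k := k) (A := H) (a • n)) = _
    rw [hlinN, hcA']
  have hEφ : ∀ m : M, act (A := H) l (φ m) = φ (act (A := H) l m) := by
    intro m
    rw [act_apply, act_apply]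
    show contractR N l (HopfRep.Comod.coact (k := k) (A := H) (φ m)) = _
    rw [hcomp, contractR_rTensor]
    rfl
  have hPmem : ∀ m : M, m ∈ P ↔ m ∈ HopfRep.fixedPts k H M := by
    intro m
    rw [← SetLike.mem_coe, hP, SetLike.mem_coe]
  -- the retraction M → P
  let r : M →ₗ[A] P :=
    { toFun := fun m => ⟨act (A := H) l m, (hPmem _).mpr (act_mem_fixedPts l hl m)⟩
      map_add' := fun x y => by
        apply Subtype.ext
        simp
      map_smul' := fun a x => by
        apply Subtype.ext
        simp [hEM] }
  have hr : r ∘ₗ P.subtype = LinearMap.id := by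
    apply LinearMap.ext
    intro p
    apply Subtype.ext
    exact act_of_mem_fixedPts l hl1 p.1 ((hPmem _).mp p.2)
  set ψ := TensorProduct.lift (((Algebra.lsmul A A N : A' →ₐ[A] Module.End A N).toLinearMap).compl₂ (φ ∘ₗ P.subtype)) with hψ
  have hψt : ∀ (a' : A') (p : P), ψ (a' ⊗ₜ[A] p) = a' • φ p.1 := by
    intro a' p
    simp [hψ]
  have hψeq : ∀ x, ψ x = hφ.equiv (LinearMap.lTensor A' P.subtype x) := by
    intro x
    induction x using TensorProduct.induction_on with
    | zero => simp
    | tmul a' p => rw [hψt, LinearMap.lTensor_tmul, IsBaseChange.equiv_tmul]; rfl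
    | add x y hx hy => rw [map_add, map_add, map_add, hx, hy]
  have hψsmul : ∀ (a' : A') (x : A' ⊗[A] P), ψ (a' • x) = a' • ψ x := by
    intro a' x
    induction x using TensorProduct.induction_on with
    | zero => simp
    | tmul b p => rw [TensorProduct.smul_tmul', hψt, hψt, smul_eq_mul, mul_smul]
    | add x y hx hy => rw [smul_add, map_add, map_add, hx, hy, smul_add]
  constructor
  · -- injectivity
    have hinj : Function.Injective (LinearMap.lTensor A' P.subtype) := by
      apply Function.LeftInverse.injective (g := LinearMap.lTensor A' r)
      intro x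
      rw [← LinearMap.comp_apply, ← LinearMap.lTensor_comp, hr, LinearMap.lTensor_id,
        LinearMap.id_apply]
    intro x y hxy
    rw [hψeq, hψeq] at hxy
    exact hinj (hφ.equiv.injective hxy)
  · -- range
    apply Set.eq_of_subset_of_subset
    · rintro _ ⟨x, rfl⟩
      show ψ x ∈ HopfRep.fixedPts k H N
      induction x using TensorProduct.induction_on with
      | zero => rw [map_zero]; exact Submodule.zero_mem _
      | tmul a' p =>
        rw [hψt]
        show HopfRep.Comod.coact (k := k) (A := H) (a' • φ p.1) = (a' • φ p.1) ⊗ₜ[k] (1 : H)
        have hp : HopfRep.Comod.coact (k := k) (A := H) p.1 = p.1 ⊗ₜ[k] (1 : H) := (hPmem _).mp p.2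
        rw [hlinN, hcomp, hp, LinearMap.rTensor_tmul, TensorProduct.smul_tmul']
        rfl
      | add x y hx hy => rw [map_add]; exact Submodule.add_mem _ hx hy
    · intro n hn
      have hn' : act (A := H) l n = n := act_of_mem_fixedPts l hl1 n hn
      -- n is a combination of a' • φ m
      have key : ∀ n : N, act (A := H) l n ∈ Set.range ψ := by
        intro n
        induction n using hφ.inductionOn with
        | zero => rw [map_zero]; exact ⟨0, map_zero _⟩
        | tmul m => exact ⟨(1 : A') ⊗ₜ[A] r m, by rw [hψt, one_smul, hEφ]; rfl⟩
        | smul a' n hn =>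
          obtain ⟨x, hx⟩ := hn
          refine ⟨a' • x, ?_⟩
          rw [hEN, ← hx, hψsmul]
        | add n₁ n₂ h₁ h₂ =>
          obtain ⟨x₁, hx₁⟩ := h₁
          obtain ⟨x₂, hx₂⟩ := h₂
          exact ⟨x₁ + x₂, by rw [map_add, map_add, hx₁, hx₂]⟩
      rw [← hn']
      exact key n

end Groth.Agent.S15115
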