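import Groth.Statements.S15116
import Mathlib.Tactic
-- import your own Groth.Agent.* helpers here

set_option autoImplicit false
universe u v
open NRGIT

namespace Groth.Agent.S15116

/-- Let k be a characteristic-zero field and A a commutative k-algebra, graded by the integers with all
pieces of positive degree zero, and D a k-derivation of A that raises degrees by a fixed positive
integer l. If no maximal ideal of A contains both every piece of negative degree and the image of D,
then there is f with D f = 1. (The published statement is for an affine variety with an action of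
the semidirect product of the additive and multiplicative groups, the multiplicative group acting on
the coordinate ring with non-positive weights and on the Lie algebra of the additive group with
positive weight: the derivation is a generator of that Lie algebra, the maximal ideals containing
the pieces of negative degree are the limit points under the multiplicative group, and a limit point
has trivial additive stabiliser exactly when the image of D is not contained in its ideal; this row
keeps only this algebraic content, for any such graded algebra. The first assertion of the published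
lemma, that every point has a limit in the variety under the multiplicative group as t → 0, is not
part of this row.) -/
theorem result (k : Type u) [Field k] [CharZero k]
    (A : Type v) [CommRing A] [Algebra k A] (𝒜 : ℤ → Submodule k A) [GradedAlgebra 𝒜]
    (hpos : ∀ i : ℤ, 0 < i → 𝒜 i = ⊥)
    (D : Derivation k A A) (l : ℤ) (hl : 0 < l)
    (hD : ∀ (i : ℤ) (a : A), a ∈ 𝒜 i → D a ∈ 𝒜 (i + l))
    (hfree : ∀ m : Ideal A, m.IsMaximal → (∀ i : ℤ, i < 0 → (𝒜 i : Set A) ⊆ m) → ∃ a : A, D a ∉ m) :
    ∃ f : A, D f = 1 := by
  classical
  set S' : Set A := {s | ∃ j : ℤ, s ∈ 𝒜 j ∧ (j < 0 ∨ ∃ c : A, s = D c)} with hS'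
  have htop : Ideal.span S' = ⊤ := by
    by_contra hne
    obtain ⟨m, hm, hle⟩ := Ideal.exists_le_maximal _ hne
    have h1 : ∀ i : ℤ, i < 0 → (𝒜 i : Set A) ⊆ m := by
      intro i hi s hs
      exact hle (Ideal.subset_span ⟨i, hs, Or.inl hi⟩)
    obtain ⟨a, ha⟩ := hfree m hm h1
    apply ha
    rw [← DirectSum.sum_support_decompose 𝒜 a, map_sum]
    apply Ideal.sum_mem
    intro i _
    apply hle
    apply Ideal.subset_span
    exact ⟨i + l, hD i _ (SetLike.coe_mem _), Or.inr ⟨_, rfl⟩⟩
  have hz : ∀ i : ℤ, 0 < i → ∀ y ∈ 𝒜 i, y = 0 := by
    intro i hi y hy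
    have h' : y ∈ (⊥ : Submodule k A) := by
      rw [← hpos i hi]
      exact hy
    exact (Submodule.mem_bot k).mp h'
  have key : ∀ x ∈ Ideal.span S', ∀ a : A, ∃ f : A, D f = (DirectSum.decompose 𝒜 (a * x) 0 : A) := by
    intro x hx
    induction hx using Submodule.span_induction with
    | mem s hs =>
      obtain ⟨j, hsj, hcase⟩ := hs
      intro a
      have hdec : (DirectSum.decompose 𝒜 (a * s) 0 : A) = (DirectSum.decompose 𝒜 a (-j) : A) * s := by
        have := DirectSum.coe_decompose_mul_add_of_right_mem 𝒜 (i := -j) (a := a) hsj
        rwa [neg_add_cancel] at this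
      rw [hdec]
      rcases lt_trichotomy j 0 with hj | hj | hj
      · refine ⟨0, ?_⟩
        have : (DirectSum.decompose 𝒜 a (-j) : A) = 0 :=
          hz (-j) (by omega) _ (DirectSum.decompose 𝒜 a (-j)).2
        rw [this, zero_mul, map_zero]
      · subst hj
        rcases hcase with h | ⟨c, rfl⟩
        · exact absurd h (lt_irrefl _)
        · refine ⟨(DirectSum.decompose 𝒜 a (-0) : A) * c, ?_⟩
          rw [Derivation.leibniz]
          have : D (DirectSum.decompose 𝒜 a (-0) : A) = 0 :=
            hz (-0 + l) (by omega) _ (hD (-0) _ (DirectSum.decompose 𝒜 a (-0)).2)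
          rw [this, smul_zero, add_zero, smul_eq_mul]
      · refine ⟨0, ?_⟩
        have : s = 0 := hz j hj s hsj
        rw [this, mul_zero, map_zero]
    | zero => intro a; exact ⟨0, by simp⟩
    | add x y _ _ hx hy =>
      intro a
      obtain ⟨f, hf⟩ := hx a
      obtain ⟨g, hg⟩ := hy a
      refine ⟨f + g, ?_⟩
      rw [map_add, hf, hg, mul_add, DirectSum.decompose_add, DirectSum.add_apply, Submodule.coe_add]
    | smul b x _ hx =>
      intro a
      obtain ⟨f, hf⟩ := hx (a * b)
      refine ⟨f, ?_⟩
      rw [hf, smul_eq_mul, mul_assoc]
  have h1mem : (1 : A) ∈ Ideal.span S' := by rw [htop]; trivial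
  obtain ⟨f, hf⟩ := key 1 h1mem 1
  refine ⟨f, ?_⟩
  rw [hf, mul_one, DirectSum.decompose_of_mem_same 𝒜 (SetLike.GradedOne.one_mem)]

end Groth.Agent.S15116
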