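import Groth.Statements.S15117
import Groth.Agent.Lib.Helper75.ComodField

set_option autoImplicit false
universe u v w
open TensorProduct
open NRGIT

namespace Groth.Agent.S15117

/-- Let k be a field, π : A → B a map of commutative bialgebras over k, W a right A-comodule and V ⊆ W a
subcomodule all of whose elements are coinvariant for the B-coaction induced through π. Then the
coaction of every v ∈ V lies in V ⊗ A' ⊆ W ⊗ A, where A' ⊆ A is the set of elements a with (π ⊗
id)(Δ a) = 1 ⊗ a, i.e. coinvariant for the coaction of B on A through π on the left factor; the row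
states membership in the span of the pure tensors w ⊗ a with w ∈ V and a ∈ A'. (The published
statement is for a linear algebraic group H over an algebraically closed field of characteristic
zero, a normal subgroup N and an H-stable space V of N-invariant sections of a linearised line
bundle, with the coaction landing in O(H)^N ⊗ V, where O(H)^N is the ring of functions on H
invariant under N acting by right multiplication; this row is the comodule form, for any bialgebra
map over a field, where normality of N is not needed.) -/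
theorem result (k : Type u) [Field k]
    (A B : Type v) [CommRing A] [CommRing B] [Bialgebra k A] [Bialgebra k B] (π : A →ₐc[k] B)
    (W : Type w) [AddCommGroup W] [Module k W] [HopfRep.Comod k A W]
    (V : Submodule k W) (hV : HopfRep.IsSubcomod (k := k) (A := A) V)
    (hfix : ∀ v ∈ V, (π.toLinearMap.lTensor W) (HopfRep.Comod.coact (k := k) (A := A) v) = v ⊗ₜ[k] (1 : B))
    (v : W) (hv : v ∈ V) :
    HopfRep.Comod.coact (k := k) (A := A) v ∈
      Submodule.span k {x : W ⊗[k] A | ∃ w ∈ V, ∃ a : A,
        (π.toLinearMap.rTensor A) (Coalgebra.comul (R := k) a) = (1 : B) ⊗ₜ[k] a ∧ x = w ⊗ₜ[k] a} := by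
  classical
  obtain ⟨z, hz⟩ := hV v hv
  let b := Module.Free.chooseBasis k V
  -- general fact: (η ∘ ψ) ⊗ id = 1 ⊗ contraction
  have hgen : ∀ (ψ : V →ₗ[k] k) (y : V ⊗[k] A),
      ((Algebra.linearMap k B ∘ₗ ψ).rTensor A) y =
        (1 : B) ⊗ₜ[k] Groth.Agent.Lib.Helper75.contractL A ψ y := by
    intro ψ y
    induction y using TensorProduct.induction_on with
    | zero => simp
    | add x y hx hy => simp only [map_add, TensorProduct.tmul_add, hx, hy]
    | tmul w a =>
      simp only [LinearMap.rTensor_tmul, LinearMap.coe_comp, Function.comp_apply,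
        Algebra.linearMap_apply, Groth.Agent.Lib.Helper75.contractL_tmul,
        Algebra.algebraMap_eq_smul_one, TensorProduct.smul_tmul]
  -- the key property of matrix coefficients
  have hkey : ∀ φ : W →ₗ[k] k,
      (π.toLinearMap.rTensor A) (Coalgebra.comul (R := k)
        (Groth.Agent.Lib.Helper75.cf (A := A) φ v)) =
        (1 : B) ⊗ₜ[k] Groth.Agent.Lib.Helper75.cf (A := A) φ v := by
    intro φ
    have hπ : ∀ w ∈ V, π.toLinearMap (Groth.Agent.Lib.Helper75.cf (A := A) φ w) =
        (Algebra.linearMap k B ∘ₗ φ) w := by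
      intro w hw
      rw [Groth.Agent.Lib.Helper75.cf_apply, ← Groth.Agent.Lib.Helper75.contractL_lTensor]
      show Groth.Agent.Lib.Helper75.contractL B φ
        (π.toLinearMap.lTensor W (HopfRep.Comod.coact (k := k) (A := A) w)) = _
      rw [hfix w hw, Groth.Agent.Lib.Helper75.contractL_tmul]
      simp [Algebra.algebraMap_eq_smul_one]
    have h1 : Coalgebra.comul (R := k) (Groth.Agent.Lib.Helper75.cf (A := A) φ v) =
        (Groth.Agent.Lib.Helper75.cf (A := A) φ).rTensor A
          (HopfRep.Comod.coact (k := k) (A := A) v) :=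
      Groth.Agent.Lib.Helper75.comul_cf φ v
    rw [h1, ← hz, ← LinearMap.rTensor_comp_apply, ← LinearMap.rTensor_comp_apply]
    have h2 : (π.toLinearMap ∘ₗ Groth.Agent.Lib.Helper75.cf (A := A) φ) ∘ₗ V.subtype =
        Algebra.linearMap k B ∘ₗ (φ ∘ₗ V.subtype) := by
      apply LinearMap.ext
      intro w
      exact hπ w w.2
    rw [h2, hgen, Groth.Agent.Lib.Helper75.cf_apply]
    show _ = (1 : B) ⊗ₜ[k] Groth.Agent.Lib.Helper75.contractL A φ
      (HopfRep.Comod.coact (k := k) (A := A) v)
    rw [← hz, Groth.Agent.Lib.Helper75.contractL_rTensor]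
  -- expansion along the basis
  have hexp : z = ((TensorProduct.equivFinsuppOfBasisLeft b) z).sum fun i a => b i ⊗ₜ[k] a := by
    rw [← TensorProduct.equivFinsuppOfBasisLeft_symm_apply, LinearEquiv.symm_apply_apply]
  rw [← hz, hexp, Finsupp.sum, map_sum]
  refine Submodule.sum_mem _ fun i _ => ?_
  apply Submodule.subset_span
  obtain ⟨φ, hφ⟩ := Groth.Agent.Lib.Helper75.exists_extend_functional V (b.coord i)
  refine ⟨(b i : W), (b i).2, (TensorProduct.equivFinsuppOfBasisLeft b) z i, ?_, ?_⟩
  · have h3 : (TensorProduct.equivFinsuppOfBasisLeft b) z i =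
        Groth.Agent.Lib.Helper75.cf (A := A) φ v := by
      rw [Groth.Agent.Lib.Helper75.equivFinsuppOfBasisLeft_eq_contractL,
        Groth.Agent.Lib.Helper75.cf_apply]
      show _ = Groth.Agent.Lib.Helper75.contractL A φ (HopfRep.Comod.coact (k := k) (A := A) v)
      rw [← hz, Groth.Agent.Lib.Helper75.contractL_rTensor, hφ]
    rw [h3]
    exact hkey φ
  · rw [LinearMap.rTensor_tmul]
    rfl

end Groth.Agent.S15117
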