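import Groth.Statements.S15121
import Mathlib.Tactic
-- import your own Groth.Agent.* helpers here

set_option autoImplicit false
universe u v w
open InvQ

namespace Groth.Agent.S15121

/-- Let k be a field of characteristic zero and A a commutative k-algebra graded by a finitely generated
free abelian group Λ (the character group of a torus acting on Spec A) whose grading monoid is
positive: if the pieces of degrees w and −w are both non-zero then w = 0. Let δ be a locally
nilpotent k-derivation of A (an action of the additive group) that is homogeneous of degree d, with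
the piece of degree d equal to zero (the graded condition on the Lie algebra weight). Suppose that
no maximal ideal of A contains both all graded pieces of non-zero degree and the image of δ (every
torus-fixed closed point has trivial stabiliser under the additive group). Then δ has a homogeneous
slice: some s of degree −d with δ s = 1. (The published statement is for the coordinate ring of an
affine variety over an algebraically closed field of characteristic zero and concludes moreover that
the quotient map by the additive group is a trivial principal bundle, which follows from the slice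
by a standard argument not restated here; this row keeps the algebraic content, for any such graded
algebra.) -/
theorem result
    (k : Type u) [Field k] [CharZero k]
    (A : Type v) [CommRing A] [Algebra k A]
    (Λ : Type w) [AddCommGroup Λ] [DecidableEq Λ] [Module.Free ℤ Λ] [Module.Finite ℤ Λ]
    (𝒜 : Λ → Submodule k A) [GradedAlgebra 𝒜]
    (hpos : ∀ w : Λ, 𝒜 w ≠ ⊥ → 𝒜 (-w) ≠ ⊥ → w = 0)
    (δ : Derivation k A A) (hnil : ∀ a : A, ∃ n : ℕ, ((δ : A →ₗ[k] A) ^ n) a = 0)
    (d : Λ) (hhom : ∀ (w : Λ) (a : A), a ∈ 𝒜 w → δ a ∈ 𝒜 (w + d)) (hd : 𝒜 d = ⊥)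
    (hfix : ∀ m : Ideal A, m.IsMaximal → (∀ w : Λ, w ≠ 0 → (𝒜 w : Set A) ⊆ m) → ¬ (Set.range δ ⊆ m)) :
    ∃ s ∈ 𝒜 (-d), δ s = 1 := by
  set S' : Set A := {s | ∃ j : Λ, s ∈ 𝒜 j ∧ (j ≠ 0 ∨ ∃ c ∈ 𝒜 (j - d), s = δ c)} with hS'
  have htop : Ideal.span S' = ⊤ := by
    classical
    by_contra hne
    obtain ⟨m, hm, hle⟩ := Ideal.exists_le_maximal _ hne
    have h1 : ∀ w : Λ, w ≠ 0 → (𝒜 w : Set A) ⊆ m := by
      intro i hi s hs
      exact hle (Ideal.subset_span ⟨i, hs, Or.inl hi⟩)
    apply hfix m hm h1
    rintro _ ⟨a, rfl⟩
    show δ a ∈ m
    rw [← DirectSum.sum_support_decompose 𝒜 a, map_sum]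
    apply Ideal.sum_mem
    intro i _
    apply hle
    apply Ideal.subset_span
    refine ⟨i + d, hhom i _ (SetLike.coe_mem _), Or.inr ⟨_, ?_, rfl⟩⟩
    rw [add_sub_cancel_right]
    exact SetLike.coe_mem _
  have hz : ∀ y ∈ 𝒜 d, y = 0 := by
    intro y hy
    have h' : y ∈ (⊥ : Submodule k A) := by
      rw [← hd]
      exact hy
    exact (Submodule.mem_bot k).mp h'
  have key : ∀ x ∈ Ideal.span S', ∀ a : A, ∃ f ∈ 𝒜 (-d), δ f = (DirectSum.decompose 𝒜 (a * x) 0 : A) := by
    intro x hx
    induction hx using Submodule.span_induction with
    | mem s hs =>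
      obtain ⟨j, hsj, hcase⟩ := hs
      intro a
      have hdec : (DirectSum.decompose 𝒜 (a * s) 0 : A) = (DirectSum.decompose 𝒜 a (-j) : A) * s := by
        have := DirectSum.coe_decompose_mul_add_of_right_mem 𝒜 (i := -j) (a := a) hsj
        rwa [neg_add_cancel] at this
      rw [hdec]
      by_cases hj : j = 0
      · subst hj
        rcases hcase with h | ⟨c, hc, rfl⟩
        · exact absurd rfl h
        · refine ⟨(DirectSum.decompose 𝒜 a (-0) : A) * c, ?_, ?_⟩
          · have h1 := SetLike.GradedMul.mul_mem (DirectSum.decompose 𝒜 a (-0)).2 hc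
            have e : (-0 : Λ) + (0 - d) = -d := by abel
            rw [e] at h1
            exact h1
          · rw [Derivation.leibniz]
            have : δ (DirectSum.decompose 𝒜 a (-0) : A) = 0 := by
              apply hz
              have := hhom (-0) _ (DirectSum.decompose 𝒜 a (-0)).2
              have e : (-0 : Λ) + d = d := by abel
              rw [e] at this
              exact this
            rw [this, smul_zero, add_zero, smul_eq_mul]
      · refine ⟨0, Submodule.zero_mem _, ?_⟩
        rw [map_zero]
        by_contra hne
        have hne' : (DirectSum.decompose 𝒜 a (-j) : A) * s ≠ 0 := fun h => hne h.symm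
        have ha0 : (DirectSum.decompose 𝒜 a (-j) : A) ≠ 0 := left_ne_zero_of_mul hne'
        have hs0 : s ≠ 0 := right_ne_zero_of_mul hne'
        apply hj
        apply hpos j
        · intro hbot
          apply hs0
          have h' : s ∈ (⊥ : Submodule k A) := by
            rw [← hbot]
            exact hsj
          exact (Submodule.mem_bot k).mp h'
        · intro hbot
          apply ha0
          have h' : (DirectSum.decompose 𝒜 a (-j) : A) ∈ (⊥ : Submodule k A) := by
            rw [← hbot]
            exact (DirectSum.decompose 𝒜 a (-j)).2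
          exact (Submodule.mem_bot k).mp h'
    | zero => intro a; exact ⟨0, Submodule.zero_mem _, by simp⟩
    | add x y _ _ hx hy =>
      intro a
      obtain ⟨f, hfm, hf⟩ := hx a
      obtain ⟨g, hgm, hg⟩ := hy a
      refine ⟨f + g, Submodule.add_mem _ hfm hgm, ?_⟩
      rw [map_add, hf, hg, mul_add, DirectSum.decompose_add, DirectSum.add_apply, Submodule.coe_add]
    | smul b x _ hx =>
      intro a
      obtain ⟨f, hfm, hf⟩ := hx (a * b)
      refine ⟨f, hfm, ?_⟩
      rw [hf, smul_eq_mul, mul_assoc]
  have h1mem : (1 : A) ∈ Ideal.span S' := by rw [htop]; trivial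
  obtain ⟨f, hfm, hf⟩ := key 1 h1mem 1
  refine ⟨f, hfm, ?_⟩
  rw [hf, mul_one, DirectSum.decompose_of_mem_same 𝒜 (SetLike.GradedOne.one_mem)]

end Groth.Agent.S15121
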