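import Groth.Statements.S15122
import Mathlib.Tactic
-- import your own Groth.Agent.* helpers here

set_option autoImplicit false
universe u v w
open GIT

namespace Groth.Agent.S15122

/-- Let R be a commutative ring, A a commutative R-algebra graded by the natural numbers, σ a
homogeneous element of degree zero, and B the localisation of A away from σ, equipped with a grading
by the natural numbers for which the localisation map ι : A → B is a graded ring homomorphism (such
a grading is necessarily the one induced from A). Then the homogeneous ideal of B generated by the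
image of the irrelevant ideal of A is the whole irrelevant ideal of B; in other words the induced
rational map from Proj B to Proj A is defined everywhere. (The published statement also assumes σ a
non-zero-divisor, which this step does not use, and goes on to conclude that Proj B → Proj A is an
open immersion onto the basic open set of σ.) -/
theorem result
    (R : Type u) (A : Type v) (B : Type w) [CommRing R] [CommRing A] [CommRing B] [Algebra R A] [Algebra R B]
    [Algebra A B] [IsScalarTower R A B]
    (𝒜 : ℕ → Submodule R A) [GradedAlgebra 𝒜] (ℬ : ℕ → Submodule R B) [GradedAlgebra ℬ]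
    (σ : A) (hσ0 : σ ∈ 𝒜 0) [IsLocalization.Away σ B]
    (ι : 𝒜 →+*ᵍ ℬ) (hι : ∀ a : A, ι a = algebraMap A B a) :
    (HomogeneousIdeal.irrelevant 𝒜).map ι = HomogeneousIdeal.irrelevant ℬ := by
  apply le_antisymm
  · rw [HomogeneousIdeal.map_le_iff_le_comap, HomogeneousIdeal.irrelevant_le]
    intro i hi x hx
    exact HomogeneousIdeal.mem_irrelevant_of_mem ℬ hi (ι.map_mem hx)
  · rw [HomogeneousIdeal.irrelevant_le]
    intro i hi y hy
    change y ∈ ℬ i at hy
    change y ∈ Ideal.map ι (HomogeneousIdeal.irrelevant 𝒜).toIdeal
    obtain ⟨n, a, hna⟩ := IsLocalization.Away.surj σ y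
    have hunit : IsUnit (algebraMap A B σ) := IsLocalization.Away.algebraMap_isUnit σ
    have hσB : algebraMap A B σ ∈ ℬ 0 := by
      rw [← hι]
      exact ι.map_mem hσ0
    have hpowB : (algebraMap A B σ) ^ n ∈ ℬ 0 := by
      have := SetLike.pow_mem_graded n hσB
      simpa using this
    have hprod : y * (algebraMap A B σ) ^ n ∈ ℬ i := by
      have := SetLike.GradedMul.mul_mem hy hpowB
      simpa using this
    -- the degree `i` component of `a`
    have hai : ι (DirectSum.decompose 𝒜 a i : A) = y * (algebraMap A B σ) ^ n := by
      rw [GradedRingHom.map_directSumDecompose, hι, ← hna, DirectSum.decompose_of_mem_same ℬ hprod]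
    have hmem : ι (DirectSum.decompose 𝒜 a i : A) ∈ Ideal.map ι (HomogeneousIdeal.irrelevant 𝒜).toIdeal := by
      apply Ideal.mem_map_of_mem
      exact HomogeneousIdeal.mem_irrelevant_of_mem 𝒜 hi (DirectSum.decompose 𝒜 a i).2
    rw [hai] at hmem
    obtain ⟨u, hu⟩ := hunit.pow n
    have : y = (y * (algebraMap A B σ) ^ n) * ((u⁻¹ : Bˣ) : B) := by
      rw [← hu, mul_assoc, Units.mul_inv, mul_one]
    rw [this]
    exact Ideal.mul_mem_right _ _ hmem

end Groth.Agent.S15122
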