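import Groth.Statements.S15124
import Groth.Agent.Lib.Helper75.TorusGradingB

set_option autoImplicit false
universe u v w
open InvQ

namespace Groth.Agent.S15124

/-- Let k be an algebraically closed field of characteristic zero, Λ a finitely generated free abelian
group with group algebra k[Λ] (the coordinate Hopf algebra of a torus T), and R a reduced finitely
generated commutative k-algebra with a multiplicative coaction of k[Λ] (an action of T on the affine
variety X = Spec R) whose grading monoid is positive: if R has non-zero eigenvectors of weights w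
and −w then w = 0. Let I be the ideal of R generated by all eigenvectors of non-zero weight (the
ideal of the fixed-point subscheme X^T). Then the composite of the inclusion of the ring of
invariants R^T into R with the projection R → R/I is bijective: the fixed-point subscheme maps
isomorphically onto the affine quotient Spec R^T. (The published statement phrases this as: X^T is
affine and X → X^T is a good quotient; the good-quotient property itself is not restated here.) -/
theorem result
    (k : Type u) [Field k] [IsAlgClosed k] [CharZero k]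
    (Λ : Type v) [AddCommGroup Λ] [Module.Free ℤ Λ] [Module.Finite ℤ Λ]
    (R : Type w) [CommRing R] [Algebra k R] [Algebra.FiniteType k R] [IsReduced R]
    [HopfRep.Comod k (AddMonoidAlgebra k Λ) R] [GLin.IsCoactAlg k (AddMonoidAlgebra k Λ) R]
    (hpos : ∀ w : Λ, HopfRep.eigenspace k (AddMonoidAlgebra k Λ) R (AddMonoidAlgebra.single w 1) ≠ ⊥ →
      HopfRep.eigenspace k (AddMonoidAlgebra k Λ) R (AddMonoidAlgebra.single (-w) 1) ≠ ⊥ → w = 0) :
    Function.Bijective
      ((Ideal.Quotient.mkₐ k (Ideal.span {f : R | ∃ w : Λ, w ≠ 0 ∧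
          f ∈ HopfRep.eigenspace k (AddMonoidAlgebra k Λ) R (AddMonoidAlgebra.single w 1)})).comp
        (GLin.invariants k (AddMonoidAlgebra k Λ) R).val) := by
  classical
  constructor
  · rw [injective_iff_map_eq_zero]
    intro f hf
    have hfI : (f : R) ∈ Ideal.span {f : R | ∃ w : Λ, w ≠ 0 ∧
          f ∈ HopfRep.eigenspace k (AddMonoidAlgebra k Λ) R (AddMonoidAlgebra.single w 1)} :=
      Ideal.Quotient.eq_zero_iff_mem.1 hf
    have h0 := Groth.Agent.Lib.Helper75.TorusGr.pw_zero_eq_zero_of_mem_span hpos (f : R) hfI
    have h1 : Groth.Agent.Lib.Helper75.TorusGr.pw k (0 : Λ) (f : R) = f := by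
      rw [Groth.Agent.Lib.Helper75.TorusGr.pw_of_mem 0 0 _ f.2, if_pos rfl]
    apply Subtype.ext
    rw [← h1, h0]
    rfl
  · intro q
    obtain ⟨f, rfl⟩ := Ideal.Quotient.mk_surjective q
    obtain ⟨s, hs⟩ := Groth.Agent.Lib.Helper75.TorusGr.exists_sum_pw (k := k) (Λ := Λ) f
    refine ⟨⟨Groth.Agent.Lib.Helper75.TorusGr.pw k (0 : Λ) f,
      Groth.Agent.Lib.Helper75.TorusGr.pw_mem 0 f⟩, ?_⟩
    show Ideal.Quotient.mk _ (Groth.Agent.Lib.Helper75.TorusGr.pw k (0 : Λ) f) = Ideal.Quotient.mk _ f
    rw [Ideal.Quotient.eq]
    have hf := hs (s ∪ {0}) Finset.subset_union_left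
    have h0 : (0 : Λ) ∈ s ∪ {0} := Finset.mem_union_right _ (Finset.mem_singleton_self _)
    rw [← Finset.add_sum_erase _ _ h0] at hf
    have h2 : Groth.Agent.Lib.Helper75.TorusGr.pw k (0 : Λ) f - f =
        - ∑ w ∈ (s ∪ {0}).erase 0, Groth.Agent.Lib.Helper75.TorusGr.pw k w f := by
      linear_combination hf
    rw [h2]
    apply (Ideal.neg_mem_iff _).2
    apply Ideal.sum_mem
    intro w hw
    apply Ideal.subset_span
    exact ⟨w, Finset.ne_of_mem_erase hw, Groth.Agent.Lib.Helper75.TorusGr.pw_mem w f⟩

end Groth.Agent.S15124
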