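import Groth.Statements.S15125
import Mathlib
-- import your own Groth.Agent.* helpers here

set_option autoImplicit false
universe u
open scoped TensorProduct
open Fields

namespace Groth.Agent.S15125


section Aux

variable (K L : Type u) [Field K] [Field L] [Algebra K L]

/-- equality in the completion iff the difference lies in all powers -/
lemma of_eq_iff (a b : L ⊗[K] L) :
    AdicCompletion.of (KaehlerDifferential.ideal K L) (L ⊗[K] L) a =
      AdicCompletion.of (KaehlerDifferential.ideal K L) (L ⊗[K] L) b ↔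
    a - b ∈ (⨅ n : ℕ, ((KaehlerDifferential.ideal K L) ^ n • ⊤ : Submodule (L ⊗[K] L) (L ⊗[K] L))) := by
  rw [Submodule.mem_iInf]
  constructor
  · intro h n
    have h1 := congrArg (AdicCompletion.eval (KaehlerDifferential.ideal K L) (L ⊗[K] L) n) h
    rw [AdicCompletion.eval_of, AdicCompletion.eval_of] at h1
    rw [← Submodule.Quotient.mk_eq_zero, Submodule.Quotient.mk_sub, sub_eq_zero]
    exact h1
  · intro h
    apply AdicCompletion.ext
    intro n
    have h1 := h n
    rw [← Submodule.Quotient.mk_eq_zero, Submodule.Quotient.mk_sub, sub_eq_zero] at h1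
    exact h1


lemma pow_smul_top_eq (n : ℕ) :
    ((KaehlerDifferential.ideal K L) ^ n • ⊤ : Submodule (L ⊗[K] L) (L ⊗[K] L)) =
      ((KaehlerDifferential.ideal K L) ^ n : Ideal (L ⊗[K] L)) := by
  simp

lemma sep_imp (x : L) (hx : IsSeparable K x) (n : ℕ) :
    x ⊗ₜ[K] (1 : L) - (1 : L) ⊗ₜ[K] x ∈ (KaehlerDifferential.ideal K L) ^ n := by
  set I := KaehlerDifferential.ideal K L
  set a : L ⊗[K] L := x ⊗ₜ[K] (1 : L)
  set b : L ⊗[K] L := (1 : L) ⊗ₜ[K] x
  set δ := a - b with hδ
  have hδI : δ ∈ I := by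
    have := KaehlerDifferential.one_smul_sub_smul_one_mem_ideal K x
    rw [hδ, ← neg_sub]
    exact I.neg_mem this
  let f := minpoly K x
  have hfa : Polynomial.aeval a f = 0 := by
    have : a = (Algebra.TensorProduct.includeLeft : L →ₐ[K] L ⊗[K] L) x := rfl
    rw [this, Polynomial.aeval_algHom_apply, minpoly.aeval, map_zero]
  have hfb : Polynomial.aeval b f = 0 := by
    have : b = (Algebra.TensorProduct.includeRight : L →ₐ[K] L ⊗[K] L) x := rfl
    rw [this, Polynomial.aeval_algHom_apply, minpoly.aeval, map_zero]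
  have hd : Polynomial.aeval x (Polynomial.derivative f) ≠ 0 :=
    hx.aeval_derivative_ne_zero (minpoly.aeval K x)
  set c := Polynomial.aeval x (Polynomial.derivative f) with hc
  have hfb' : Polynomial.aeval b (Polynomial.derivative f) = (1 : L) ⊗ₜ[K] c := by
    have : b = (Algebra.TensorProduct.includeRight : L →ₐ[K] L ⊗[K] L) x := rfl
    rw [this, Polynomial.aeval_algHom_apply]
    rfl
  obtain ⟨k, hk⟩ := Polynomial.binomExpansion (f.map (algebraMap K (L ⊗[K] L))) b δ
  have hab : b + δ = a := by rw [hδ]; ring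
  rw [hab, Polynomial.eval_map_algebraMap, Polynomial.eval_map_algebraMap,
    Polynomial.derivative_map, Polynomial.eval_map_algebraMap, hfa, hfb, hfb', zero_add] at hk
  -- δ = e * δ^2
  have hu : ((1 : L) ⊗ₜ[K] c⁻¹ : L ⊗[K] L) * ((1 : L) ⊗ₜ[K] c) = 1 := by
    rw [Algebra.TensorProduct.tmul_mul_tmul, mul_one, inv_mul_cancel₀ hd]
    rfl
  have hδ2 : δ = (-(((1 : L) ⊗ₜ[K] c⁻¹ : L ⊗[K] L) * k)) * δ ^ 2 := by
    have h1 : ((1 : L) ⊗ₜ[K] c : L ⊗[K] L) * δ = -(k * δ ^ 2) := by
      linear_combination -hk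
    calc δ = (((1 : L) ⊗ₜ[K] c⁻¹ : L ⊗[K] L) * ((1 : L) ⊗ₜ[K] c)) * δ := by rw [hu, one_mul]
      _ = ((1 : L) ⊗ₜ[K] c⁻¹ : L ⊗[K] L) * (((1 : L) ⊗ₜ[K] c) * δ) := by ring
      _ = _ := by rw [h1]; ring
  induction n with
  | zero => simp
  | succ n ih =>
    rw [hδ2, pow_succ, sq, ← mul_assoc]
    exact Ideal.mul_mem_mul (Ideal.mul_mem_left _ _ ih) hδI

section transfer
variable {K L}
variable (F : IntermediateField K L)

/-- the K-linear map induced by two F-linear functionals -/
noncomputable def tmap (ρ ρ' : L →ₗ[F] F) : L ⊗[K] L →ₗ[K] F ⊗[K] F :=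
  TensorProduct.map (ρ.restrictScalars K) (ρ'.restrictScalars K)

noncomputable def incl : F ⊗[K] F →ₐ[K] L ⊗[K] L := Algebra.TensorProduct.map F.val F.val

lemma tmap_mul (ρ ρ' : L →ₗ[F] F) (r : F ⊗[K] F) (w : L ⊗[K] L) :
    tmap F ρ ρ' (incl F r * w) = r * tmap F ρ ρ' w := by
  induction r using TensorProduct.induction_on with
  | zero => simp
  | add r r' h h' => rw [map_add, add_mul, map_add, h, h', add_mul]
  | tmul f f' =>
    induction w using TensorProduct.induction_on with
    | zero => simp
    | add w w' h h' => rw [mul_add, map_add, h, h', map_add, mul_add]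
    | tmul l l' =>
      simp only [incl, tmap, Algebra.TensorProduct.map_tmul, Algebra.TensorProduct.tmul_mul_tmul,
        TensorProduct.map_tmul, LinearMap.coe_restrictScalars, IntermediateField.coe_val]
      have h1 : ρ ((f : L) * l) = f * ρ l := by
        have : (f : L) * l = f • l := rfl
        rw [this, map_smul, smul_eq_mul]
      have h2 : ρ' ((f' : L) * l') = f' * ρ' l' := by
        have : (f' : L) * l' = f' • l' := rfl
        rw [this, map_smul, smul_eq_mul]
      rw [h1, h2]

lemma lmul_eq_zero_of_forall (w : L ⊗[K] L)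
    (h : ∀ ρ ρ' : L →ₗ[F] F, Algebra.TensorProduct.lmul' K (S := F) (tmap F ρ ρ' w) = 0) :
    Algebra.TensorProduct.lmul' K (S := L) w = 0 := by
  classical
  let b := Module.Free.chooseBasis F L
  let B := b.tensorProduct b
  let q : L ⊗[K] L →ₗ[K] L ⊗[F] L := TensorProduct.mapOfCompatibleSMul F K K L L
  have hq : ∀ w : L ⊗[K] L, Algebra.TensorProduct.lmul' K (S := L) w =
      Algebra.TensorProduct.lmul' F (S := L) (q w) := by
    intro w
    induction w using TensorProduct.induction_on with
    | zero => simp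
    | add w w' h h' => rw [map_add, map_add, map_add, h, h']
    | tmul l l' => simp [q]
  have hrepr : ∀ (w : L ⊗[K] L) (j k), B.repr (q w) (j, k) =
      Algebra.TensorProduct.lmul' K (S := F) (tmap F (b.coord j) (b.coord k) w) := by
    intro w j k
    induction w using TensorProduct.induction_on with
    | zero => simp
    | add w w' h h' => simp only [map_add, Finsupp.add_apply, h, h']
    | tmul l l' =>
      simp only [q, B, tmap, TensorProduct.mapOfCompatibleSMul_tmul,
        Module.Basis.tensorProduct_repr_tmul_apply, TensorProduct.map_tmul,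
        LinearMap.coe_restrictScalars, Algebra.TensorProduct.lmul'_apply_tmul,
        Module.Basis.coord_apply, smul_eq_mul]
      ring
  have hqw : q w = 0 := by
    apply B.repr.injective
    ext ⟨j, k⟩
    rw [hrepr, h]
    simp
  rw [hq, hqw, map_zero]

lemma transfer (z : F ⊗[K] F) (i : L ⊗[K] L) (hi : i ∈ KaehlerDifferential.ideal K L)
    (h : (1 - i) * incl F z = 0) :
    ∃ i0 ∈ KaehlerDifferential.ideal K F, (1 - i0) * z = 0 := by
  by_cases hex : ∃ a0 : F ⊗[K] F, a0 * z = 0 ∧ Algebra.TensorProduct.lmul' K (S := F) a0 ≠ 0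
  · obtain ⟨a0, ha0, hc⟩ := hex
    set c := Algebra.TensorProduct.lmul' K (S := F) a0 with hcdef
    refine ⟨1 - (c⁻¹ ⊗ₜ[K] (1 : F)) * a0, ?_, ?_⟩
    · rw [KaehlerDifferential.ideal, RingHom.mem_ker, map_sub, map_one, map_mul,
        Algebra.TensorProduct.lmul'_apply_tmul, mul_one, ← hcdef, inv_mul_cancel₀ hc, sub_self]
    · rw [sub_sub_cancel, mul_assoc, ha0, mul_zero]
  · exfalso
    push Not at hex
    have h1 : ∀ ρ ρ' : L →ₗ[F] F,
        Algebra.TensorProduct.lmul' K (S := F) (tmap F ρ ρ' (1 - i)) = 0 := by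
      intro ρ ρ'
      apply hex
      have h5 := tmap_mul F ρ ρ' z (1 - i)
      rw [mul_comm (incl F z), h, map_zero] at h5
      exact (mul_comm (tmap F ρ ρ' (1 - i)) z).trans h5.symm
    have h2 := lmul_eq_zero_of_forall F (1 - i) h1
    rw [map_sub, map_one] at h2
    have h3 : Algebra.TensorProduct.lmul' K (S := L) i = 0 := hi
    rw [h3, sub_zero] at h2
    exact one_ne_zero h2

end transfer

open IntermediateField in
lemma imp_sep (hfg : (⊤ : IntermediateField K L).FG) (x : L)
    (h : x ⊗ₜ[K] (1 : L) - (1 : L) ⊗ₜ[K] x ∈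
      (⨅ n : ℕ, ((KaehlerDifferential.ideal K L) ^ n • ⊤ : Submodule (L ⊗[K] L) (L ⊗[K] L)))) :
    IsSeparable K x := by
  have e1 : Algebra.EssFiniteType K L := IntermediateField.fg_top_iff.mp hfg
  have e2 : Algebra.EssFiniteType L (L ⊗[K] L) := inferInstance
  have e3 : IsNoetherianRing (L ⊗[K] L) := Algebra.EssFiniteType.isNoetherianRing L _
  obtain ⟨r, hr⟩ := (Ideal.mem_iInf_smul_pow_eq_bot_iff _ _).mp h
  let F : IntermediateField K L := K⟮x⟯
  let g : F := IntermediateField.AdjoinSimple.gen K x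
  have hgx : (g : L) = x := IntermediateField.AdjoinSimple.coe_gen K x
  let z : F ⊗[K] F := g ⊗ₜ[K] (1 : F) - (1 : F) ⊗ₜ[K] g
  have hz : incl F z = x ⊗ₜ[K] (1 : L) - (1 : L) ⊗ₜ[K] x := by
    simp only [incl, z, map_sub, Algebra.TensorProduct.map_tmul, map_one, IntermediateField.coe_val, hgx]
  have h0 : (1 - (r : L ⊗[K] L)) * incl F z = 0 := by
    rw [hz, sub_mul, one_mul, ← smul_eq_mul (r : L ⊗[K] L), hr, sub_self]
  obtain ⟨i0, hi0, hz0⟩ := transfer F z r r.2 h0
  have hzI : z ∈ KaehlerDifferential.ideal K F := by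
    have := KaehlerDifferential.one_smul_sub_smul_one_mem_ideal K g
    have h2 : z = -((1 : F) ⊗ₜ[K] g - g ⊗ₜ[K] (1 : F)) := by simp only [z]; ring
    rw [h2]
    exact neg_mem this
  have hz2 : z ∈ (KaehlerDifferential.ideal K F) ^ 2 := by
    have : z = i0 * z := by linear_combination hz0
    rw [this, sq]; exact Ideal.mul_mem_mul hi0 hzI
  have hDg : KaehlerDifferential.D K F g = 0 := by
    show KaehlerDifferential.DLinearMap K F g = 0
    rw [KaehlerDifferential.DLinearMap_apply]
    have h2 : (1 : F) ⊗ₜ[K] g - g ⊗ₜ[K] (1 : F) = -z := by simp only [z]; ring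
    have h3 : (1 : F) ⊗ₜ[K] g - g ⊗ₜ[K] (1 : F) ∈ (KaehlerDifferential.ideal K F) ^ 2 := by
      rw [h2]
      exact neg_mem hz2
    exact (Ideal.toCotangent_eq_zero _ _).mpr h3
  have hD : ∀ (y : L) (hy : y ∈ K⟮x⟯), KaehlerDifferential.D K F ⟨y, hy⟩ = 0 := by
    intro y hy
    induction hy using IntermediateField.adjoin_induction with
    | mem y hy =>
      have : y = x := hy
      subst this
      exact hDg
    | algebraMap c =>
      have : (⟨algebraMap K L c, F.algebraMap_mem c⟩ : F) = algebraMap K F c := rfl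
      rw [this, Derivation.map_algebraMap]
    | add a b ha hb iha ihb =>
      have : (⟨a + b, add_mem ha hb⟩ : F) = ⟨a, ha⟩ + ⟨b, hb⟩ := rfl
      rw [this, map_add, iha, ihb, add_zero]
    | inv a ha iha =>
      have : (⟨a⁻¹, inv_mem ha⟩ : F) = (⟨a, ha⟩ : F)⁻¹ := rfl
      rw [this, Derivation.leibniz_inv, iha, smul_zero]
    | mul a b ha hb iha ihb =>
      have : (⟨a * b, mul_mem ha hb⟩ : F) = ⟨a, ha⟩ * ⟨b, hb⟩ := rfl
      rw [this, Derivation.leibniz, iha, ihb, smul_zero, smul_zero, add_zero]
  have hsub : Subsingleton (Ω[F⁄K]) := by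
    rw [← Submodule.subsingleton_iff F, ← subsingleton_iff_bot_eq_top,
      ← KaehlerDifferential.span_range_derivation, eq_comm, Submodule.span_eq_bot]
    rintro _ ⟨y, rfl⟩
    exact hD y.1 y.2
  have e4 : Algebra.FormallyUnramified K F := ⟨hsub⟩
  have e5 : Algebra.EssFiniteType K F :=
    IntermediateField.essFiniteType_iff.mpr (IntermediateField.fg_adjoin_of_finite (Set.finite_singleton x))
  have e6 : Algebra.IsSeparable K F := Algebra.FormallyUnramified.isSeparable K F
  have hg : IsSeparable K g := Algebra.IsSeparable.isSeparable K g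
  have : minpoly K g = minpoly K x := by
    rw [← hgx]
    exact (minpoly.algebraMap_eq (algebraMap F L).injective g).symm
  unfold IsSeparable at hg ⊢
  rwa [this] at hg

end Aux

/-- Let L be a finitely generated field extension of K, and I ⊆ L ⊗_K L the kernel of multiplication L
⊗_K L → L. An element x of L has the property that x ⊗ 1 and 1 ⊗ x have the same image in the I-adic
completion of L ⊗_K L if and only if x is separable algebraic over K. Equivalently, the equaliser of
the two natural maps from L to that completion is the separable algebraic closure of K in L. -/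
theorem result
    (K L : Type u) [Field K] [Field L] [Algebra K L]
    (hfg : (⊤ : IntermediateField K L).FG) (x : L) :
    AdicCompletion.of (KaehlerDifferential.ideal K L) (L ⊗[K] L) (x ⊗ₜ[K] (1 : L)) =
        AdicCompletion.of (KaehlerDifferential.ideal K L) (L ⊗[K] L) ((1 : L) ⊗ₜ[K] x) ↔
      x ∈ separableClosure K L := by
  rw [of_eq_iff, mem_separableClosure_iff]
  constructor
  · intro h
    exact imp_sep K L hfg x h
  · intro hx
    rw [Submodule.mem_iInf]
    intro n
    rw [pow_smul_top_eq]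
    exact sep_imp K L x hx n

end Groth.Agent.S15125
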