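import Groth.Statements.S15126
import Mathlib
-- import your own Groth.Agent.* helpers here

set_option autoImplicit false
universe u

namespace Groth.Agent.S15126

section constr

variable (k : Type u) [Field k] (n : ℕ) (R : Type u) [CommRing R]
  [Algebra (MvPowerSeries (Fin n) k) R]

/-- the polynomial ring on symbols for the coefficients -/
abbrev WW := MvPolynomial (R × (Fin n →₀ ℕ)) k

/-- the tautological series -/
noncomputable def U0 (r : R) : MvPowerSeries (Fin n) (WW k n R) :=
  fun α => MvPolynomial.X (r, α)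

lemma coeff_U0 (r : R) (α : Fin n →₀ ℕ) :
    MvPowerSeries.coeff α (U0 k n R r) = MvPolynomial.X (r, α) := rfl

/-- the relations -/
def rels : Set (WW k n R) :=
  {w | ∃ (r r' : R) (α : Fin n →₀ ℕ),
      w = MvPowerSeries.coeff α (U0 k n R (r + r') - U0 k n R r - U0 k n R r')} ∪
  {w | ∃ (r r' : R) (α : Fin n →₀ ℕ),
      w = MvPowerSeries.coeff α (U0 k n R (r * r') - U0 k n R r * U0 k n R r')} ∪
  {w | ∃ (c : MvPowerSeries (Fin n) k) (α : Fin n →₀ ℕ),
      w = MvPowerSeries.coeff α (U0 k n R (algebraMap _ R c) -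
        MvPowerSeries.map (algebraMap k (WW k n R)) c)}

/-- the ideal of relations -/
noncomputable def JJ : Ideal (WW k n R) := Ideal.span (rels k n R)

/-- the corepresenting algebra -/
abbrev PP := WW k n R ⧸ JJ k n R

/-- the universal map, as a function -/
noncomputable def uFun (r : R) : MvPowerSeries (Fin n) (PP k n R) :=
  MvPowerSeries.map (Ideal.Quotient.mk (JJ k n R)) (U0 k n R r)

lemma map_mk_eq_zero (φ : MvPowerSeries (Fin n) (WW k n R))
    (h : ∀ α, MvPowerSeries.coeff α φ ∈ JJ k n R) :
    MvPowerSeries.map (Ideal.Quotient.mk (JJ k n R)) φ = 0 := by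
  ext α
  rw [MvPowerSeries.coeff_map, map_zero, Ideal.Quotient.eq_zero_iff_mem]
  exact h α

lemma uFun_add (r r' : R) : uFun k n R (r + r') = uFun k n R r + uFun k n R r' := by
  have := map_mk_eq_zero k n R (U0 k n R (r + r') - U0 k n R r - U0 k n R r') (fun α =>
    Ideal.subset_span (Or.inl (Or.inl ⟨r, r', α, rfl⟩)))
  rw [map_sub, map_sub, sub_sub, sub_eq_zero] at this
  exact this

lemma uFun_mul (r r' : R) : uFun k n R (r * r') = uFun k n R r * uFun k n R r' := by
  have := map_mk_eq_zero k n R (U0 k n R (r * r') - U0 k n R r * U0 k n R r') (fun α =>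
    Ideal.subset_span (Or.inl (Or.inr ⟨r, r', α, rfl⟩)))
  rw [map_sub, map_mul, sub_eq_zero] at this
  exact this

lemma uFun_algebraMap (c : MvPowerSeries (Fin n) k) :
    uFun k n R (algebraMap _ R c) = algebraMap _ (MvPowerSeries (Fin n) (PP k n R)) c := by
  have := map_mk_eq_zero k n R (U0 k n R (algebraMap _ R c) -
    MvPowerSeries.map (algebraMap k (WW k n R)) c) (fun α =>
    Ideal.subset_span (Or.inr ⟨c, α, rfl⟩))
  rw [map_sub, sub_eq_zero] at this
  rw [MvPowerSeries.algebraMap_apply'']
  unfold uFun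
  rw [this, ← RingHom.comp_apply, ← MvPowerSeries.map_comp]
  rfl

/-- the universal map -/
noncomputable def uHom : R →ₐ[MvPowerSeries (Fin n) k] MvPowerSeries (Fin n) (PP k n R) where
  toFun := uFun k n R
  map_one' := by
    have := uFun_algebraMap k n R 1
    rwa [map_one, map_one] at this
  map_mul' := uFun_mul k n R
  map_zero' := by
    have := uFun_add k n R 0 0
    rw [add_zero] at this
    simpa using this
  map_add' := uFun_add k n R
  commutes' := uFun_algebraMap k n R

lemma uHom_apply (r : R) : uHom k n R r = uFun k n R r := rfl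

end constr

section univ

variable {k : Type u} [Field k] {n : ℕ} {R : Type u} [CommRing R]
  [Algebra (MvPowerSeries (Fin n) k) R] (Q : Type u) [CommRing Q] [Algebra k Q]
  (f : R →ₐ[MvPowerSeries (Fin n) k] MvPowerSeries (Fin n) Q)

/-- the classifying map on symbols -/
noncomputable def g0 : WW k n R →ₐ[k] Q :=
  MvPolynomial.aeval (fun x : R × (Fin n →₀ ℕ) => MvPowerSeries.coeff x.2 (f x.1))

lemma map_g0_U0 (r : R) :
    MvPowerSeries.map ((g0 Q f : WW k n R →ₐ[k] Q) : WW k n R →+* Q) (U0 k n R r) = f r := by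
  ext α
  rw [MvPowerSeries.coeff_map, coeff_U0]
  simp [g0]

lemma g0_JJ : ∀ w ∈ JJ k n R, g0 Q f w = 0 := by
  intro w hw
  have key : ∀ (α : Fin n →₀ ℕ) (φ : MvPowerSeries (Fin n) (WW k n R)),
      g0 Q f (MvPowerSeries.coeff α φ) =
        MvPowerSeries.coeff α (MvPowerSeries.map ((g0 Q f : WW k n R →ₐ[k] Q) : WW k n R →+* Q) φ) :=
    fun α φ => (MvPowerSeries.coeff_map _ α φ).symm
  refine Submodule.span_induction ?_ ?_ ?_ ?_ hw
  · rintro w ((⟨r, r', α, rfl⟩ | ⟨r, r', α, rfl⟩) | ⟨c, α, rfl⟩)
    · have h0 : MvPowerSeries.map ((g0 Q f : WW k n R →ₐ[k] Q) : WW k n R →+* Q)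
          (U0 k n R (r + r') - U0 k n R r - U0 k n R r') = 0 := by
        rw [map_sub, map_sub, map_g0_U0, map_g0_U0, map_g0_U0, map_add]
        abel
      rw [key, h0, map_zero]
    · have h0 : MvPowerSeries.map ((g0 Q f : WW k n R →ₐ[k] Q) : WW k n R →+* Q)
          (U0 k n R (r * r') - U0 k n R r * U0 k n R r') = 0 := by
        rw [map_sub, map_mul, map_g0_U0, map_g0_U0, map_g0_U0, map_mul, sub_self]
      rw [key, h0, map_zero]
    · have h0 : MvPowerSeries.map ((g0 Q f : WW k n R →ₐ[k] Q) : WW k n R →+* Q)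
          (U0 k n R (algebraMap _ R c) - MvPowerSeries.map (algebraMap k (WW k n R)) c) = 0 := by
        rw [map_sub, map_g0_U0, AlgHom.commutes, MvPowerSeries.algebraMap_apply'',
          ← RingHom.comp_apply, ← MvPowerSeries.map_comp]
        have : ((g0 Q f : WW k n R →ₐ[k] Q) : WW k n R →+* Q).comp (algebraMap k (WW k n R)) =
            algebraMap k Q := (g0 Q f).comp_algebraMap
        rw [this, sub_self]
      rw [key, h0, map_zero]
  · exact map_zero _
  · intro x y _ _ hx hy
    rw [map_add, hx, hy, add_zero]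
  · intro a x _ hx
    rw [smul_eq_mul, map_mul, hx, mul_zero]

/-- the classifying map -/
noncomputable def gHom : PP k n R →ₐ[k] Q :=
  Ideal.Quotient.liftₐ (JJ k n R) (g0 Q f) (g0_JJ Q f)

lemma gHom_mk (w : WW k n R) : gHom Q f (Ideal.Quotient.mk (JJ k n R) w) = g0 Q f w := rfl

lemma map_gHom_uHom (r : R) :
    MvPowerSeries.map ((gHom Q f : PP k n R →ₐ[k] Q) : PP k n R →+* Q) (uHom k n R r) = f r := by
  rw [uHom_apply]
  unfold uFun
  rw [← RingHom.comp_apply, ← MvPowerSeries.map_comp, ← map_g0_U0 Q f r]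
  rfl

lemma gHom_unique (g' : PP k n R →ₐ[k] Q)
    (h : ∀ r, MvPowerSeries.map ((g' : PP k n R →ₐ[k] Q) : PP k n R →+* Q) (uHom k n R r) = f r) :
    g' = gHom Q f := by
  apply Ideal.Quotient.algHom_ext
  apply MvPolynomial.algHom_ext
  rintro ⟨r, α⟩
  have h1 := congrArg (MvPowerSeries.coeff α) (h r)
  have h2 := congrArg (MvPowerSeries.coeff α) (map_gHom_uHom Q f r)
  rw [MvPowerSeries.coeff_map] at h1 h2
  have h3 : MvPowerSeries.coeff α (uHom k n R r) =
      Ideal.Quotient.mk (JJ k n R) (MvPolynomial.X (r, α)) := by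
    rw [uHom_apply]; unfold uFun
    rw [MvPowerSeries.coeff_map, coeff_U0]
  rw [h3] at h1 h2
  exact h1.trans h2.symm

end univ

section count

variable (k : Type u) [Field k] (n : ℕ) (R : Type u) [CommRing R]
  [Algebra (MvPowerSeries (Fin n) k) R]

lemma coeff_uHom (r : R) (α : Fin n →₀ ℕ) : MvPowerSeries.coeff α (uHom k n R r) =
    Ideal.Quotient.mk (JJ k n R) (MvPolynomial.X (r, α)) := by
  rw [uHom_apply]; unfold uFun
  rw [MvPowerSeries.coeff_map, coeff_U0]

/-- the countable generating set -/
def tt (s : Set R) : Set (PP k n R) :=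
  (fun x : R × (Fin n →₀ ℕ) => (Ideal.Quotient.mk (JJ k n R) (MvPolynomial.X x))) ''
    (s ×ˢ Set.univ)

lemma coeff_uHom_mem (s : Set R) (hs : Algebra.adjoin (MvPowerSeries (Fin n) k) s = ⊤) (r : R) :
    ∀ α : Fin n →₀ ℕ, MvPowerSeries.coeff α (uHom k n R r) ∈ Algebra.adjoin k (tt k n R s) := by
  classical
  have hr : r ∈ Algebra.adjoin (MvPowerSeries (Fin n) k) s := by rw [hs]; trivial
  induction hr using Algebra.adjoin_induction with
  | mem x hx =>
    intro α
    apply Algebra.subset_adjoin
    exact ⟨(x, α), ⟨hx, trivial⟩, (coeff_uHom k n R x α).symm⟩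
  | algebraMap c =>
    intro α
    rw [AlgHom.commutes, MvPowerSeries.algebraMap_apply'', MvPowerSeries.coeff_map]
    exact Subalgebra.algebraMap_mem _ _
  | add x y _ _ hx hy =>
    intro α
    rw [map_add, map_add]
    exact Subalgebra.add_mem _ (hx α) (hy α)
  | mul x y _ _ hx hy =>
    intro α
    rw [map_mul, MvPowerSeries.coeff_mul]
    exact Subalgebra.sum_mem _ (fun p _ => Subalgebra.mul_mem _ (hx p.1) (hy p.2))

lemma adjoin_tt (s : Set R) (hs : Algebra.adjoin (MvPowerSeries (Fin n) k) s = ⊤) :
    Algebra.adjoin k (tt k n R s) = ⊤ := by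
  rw [eq_top_iff]
  intro x _
  obtain ⟨w, rfl⟩ := Ideal.Quotient.mk_surjective x
  induction w using MvPolynomial.induction_on with
  | C a => exact Subalgebra.algebraMap_mem _ a
  | add p q hp hq =>
    rw [map_add]
    exact Subalgebra.add_mem _ (hp trivial) (hq trivial)
  | mul_X p x hp =>
    rw [map_mul]
    refine Subalgebra.mul_mem _ (hp trivial) ?_
    obtain ⟨r, α⟩ := x
    rw [← coeff_uHom]
    exact coeff_uHom_mem k n R s hs r α

lemma tt_countable (s : Set R) (hs : s.Countable) : (tt k n R s).Countable :=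
  (hs.prod Set.countable_univ).image _

end count

/-- Affine case. Let k be a field, n > 0, and R a commutative algebra over the power series ring
k[[z_1,…,z_n]]; for a commutative k-algebra Q regard Q[[z_1,…,z_n]] as a k[[z]]-algebra
coefficientwise. Then the functor Q ↦ Hom_{k[[z]]-alg}(R, Q[[z]]) on commutative k-algebras is
corepresentable: there exist a commutative k-algebra P and a k[[z]]-algebra homomorphism u : R →
P[[z]] such that every k[[z]]-algebra homomorphism R → Q[[z]] arises from u by applying a unique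
k-algebra homomorphism P → Q coefficientwise. If moreover R is countably generated as a
k[[z]]-algebra, P may be taken countably generated over k. (The published statement is for an adic
formal scheme Y over the formal disc Spf k[[z]], asserting that the sheaf of sections of Y over the
disc is a scheme, affine over the fibre of Y at the origin, and of pro-finite type when Y is; this
row is the case Y = Spf R, to which the published argument reduces, stated for the underlying
algebra R; k is algebraically closed there, which is not used.) -/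
theorem result
    (k : Type u) [Field k] (n : ℕ) (hn : 0 < n)
    (R : Type u) [CommRing R] [Algebra (MvPowerSeries (Fin n) k) R] :
    ∃ (P : Type u) (_ : CommRing P) (_ : Algebra k P)
      (u : R →ₐ[MvPowerSeries (Fin n) k] MvPowerSeries (Fin n) P),
      (∀ (Q : Type u) [CommRing Q] [Algebra k Q]
          (f : R →ₐ[MvPowerSeries (Fin n) k] MvPowerSeries (Fin n) Q),
          ∃! g : P →ₐ[k] Q,
            (MvPowerSeries.map (σ := Fin n) (g : P →+* Q)).comp (u : R →+* MvPowerSeries (Fin n) P) =
              (f : R →+* MvPowerSeries (Fin n) Q)) ∧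
      ((∃ s : Set R, s.Countable ∧ Algebra.adjoin (MvPowerSeries (Fin n) k) s = ⊤) →
        ∃ t : Set P, t.Countable ∧ Algebra.adjoin k t = ⊤) := by
  refine ⟨PP k n R, inferInstance, inferInstance, uHom k n R, ?_, ?_⟩
  · intro Q _ _ f
    refine ⟨gHom Q f, ?_, ?_⟩
    · ext1 r
      exact map_gHom_uHom Q f r
    · intro g' hg'
      apply gHom_unique Q f g'
      intro r
      exact congrArg (fun φ : R →+* MvPowerSeries (Fin n) Q => φ r) hg'
  · rintro ⟨s, hs, hs'⟩
    exact ⟨tt k n R s, tt_countable k n R s hs, adjoin_tt k n R s hs'⟩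



end Groth.Agent.S15126
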