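import Groth.Statements.S15130
import Mathlib
import Groth.Agent.Lib.Helper83.ArtinFlat

set_option autoImplicit false
universe u v
open CAlg

namespace Groth.Agent.S15130

/-- Let A be an Artinian local ring with residue field k and P → Q → R → M → 0 a complex of A-modules
with P, Q, R flat which is exact at R and at M. If the reduced complex k ⊗ P → k ⊗ Q → k ⊗ R is
exact (the rest of the reduced sequence is then automatically exact), then M is flat and the
original complex is exact at Q as well. (The published statement is for local Artinian algebras over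
an algebraically closed field of characteristic zero having that field as residue field; this row
allows any Artinian local ring.) -/
theorem result
    (A : Type u) [CommRing A] [IsLocalRing A] [IsArtinianRing A]
    (P Q R M : Type v) [AddCommGroup P] [Module A P] [AddCommGroup Q] [Module A Q]
    [AddCommGroup R] [Module A R] [AddCommGroup M] [Module A M]
    [Module.Flat A P] [Module.Flat A Q] [Module.Flat A R]
    (f : P →ₗ[A] Q) (g : Q →ₗ[A] R) (h : R →ₗ[A] M)
    (hfg : g ∘ₗ f = 0) (hgh : Function.Exact g h) (hh : Function.Surjective h)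
    (hred : Function.Exact (f.lTensor (IsLocalRing.ResidueField A)) (g.lTensor (IsLocalRing.ResidueField A))) :
    Module.Flat A M ∧ Function.Exact f g := by
  classical
  -- `Z = im g = ker h`
  let Z : Submodule A R := LinearMap.range g
  let gZ : Q →ₗ[A] Z := g.rangeRestrict
  have hgZ : Function.Surjective gZ := LinearMap.surjective_rangeRestrict g
  have hιZ : Function.Injective Z.subtype := Z.subtype_injective
  have hcomp : Z.subtype ∘ₗ gZ = g := LinearMap.subtype_comp_codRestrict _ _ _
  have hexZ : Function.Exact Z.subtype h := by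
    intro r
    rw [hgh r]
    constructor
    · rintro ⟨q, rfl⟩
      exact ⟨⟨g q, q, rfl⟩, rfl⟩
    · rintro ⟨⟨z, q, rfl⟩, rfl⟩
      exact ⟨q, rfl⟩
  have hgZf : gZ ∘ₗ f = 0 := by
    ext p
    change g (f p) = 0
    rw [← LinearMap.comp_apply, hfg, LinearMap.zero_apply]
  -- (a) `k ⊗ Z → k ⊗ R` is injective
  have ha : Function.Injective (Z.subtype.lTensor (IsLocalRing.ResidueField A)) := by
    rw [injective_iff_map_eq_zero]
    intro z hz
    obtain ⟨q, rfl⟩ := LinearMap.lTensor_surjective (IsLocalRing.ResidueField A) hgZ z
    rw [← LinearMap.comp_apply, ← LinearMap.lTensor_comp, hcomp] at hz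
    obtain ⟨p, rfl⟩ := (hred q).mp hz
    rw [← LinearMap.comp_apply, ← LinearMap.lTensor_comp, hgZf, LinearMap.lTensor_zero,
      LinearMap.zero_apply]
  -- (b) `M` is flat
  have hM : Module.Flat A M :=
    Groth.Agent.Lib.Helper83.ArtinFlat.flat_of_lTensor_residueField_injective Z.subtype h
      hexZ hh ha
  -- (c) `Z` is flat
  have hZ : Module.Flat A Z :=
    Groth.Agent.Lib.Helper83.ArtinFlat.flat_of_exact_of_flat Z.subtype h hιZ hexZ hh
  refine ⟨hM, ?_⟩
  -- (d) `K = ker g`
  let K : Submodule A Q := LinearMap.ker g
  have hexK : Function.Exact K.subtype gZ := by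
    intro q
    constructor
    · intro hq
      have : g q = 0 := congrArg Subtype.val hq
      exact ⟨⟨q, this⟩, rfl⟩
    · rintro ⟨⟨q, hq⟩, rfl⟩
      apply hιZ
      exact hq
  have hd : Function.Injective (K.subtype.lTensor (IsLocalRing.ResidueField A)) :=
    LinearMap.lTensor_injective_of_exact_of_flat gZ hgZ K.subtype K.subtype_injective hexK _
  -- (e) `f' : P → K`
  let f' : P →ₗ[A] K := f.codRestrict K (fun p => by
    change g (f p) = 0
    rw [← LinearMap.comp_apply, hfg, LinearMap.zero_apply])
  have hf' : K.subtype ∘ₗ f' = f := LinearMap.subtype_comp_codRestrict _ _ _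
  have hgK : g ∘ₗ K.subtype = 0 := by
    ext x
    exact x.2
  have he : Function.Surjective (f'.lTensor (IsLocalRing.ResidueField A)) := by
    intro x
    have h1 : (g.lTensor (IsLocalRing.ResidueField A))
        ((K.subtype.lTensor (IsLocalRing.ResidueField A)) x) = 0 := by
      rw [← LinearMap.comp_apply, ← LinearMap.lTensor_comp, hgK, LinearMap.lTensor_zero,
        LinearMap.zero_apply]
    obtain ⟨p, hp⟩ := (hred _).mp h1
    refine ⟨p, ?_⟩
    apply hd
    rw [← hp, ← LinearMap.comp_apply, ← LinearMap.lTensor_comp, hf']
  have hsurj : Function.Surjective f' :=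
    Groth.Agent.Lib.Helper83.ArtinFlat.surjective_of_lTensor_residueField f' he
  intro q
  constructor
  · intro hq
    obtain ⟨p, hp⟩ := hsurj ⟨q, hq⟩
    exact ⟨p, congrArg Subtype.val hp⟩
  · rintro ⟨p, rfl⟩
    rw [← LinearMap.comp_apply, hfg, LinearMap.zero_apply]

end Groth.Agent.S15130
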