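import Groth.Statements.S15131
import Groth.Agent.Lib.Helper9.ArtPaste
-- import your own Groth.Agent.* helpers here

set_option autoImplicit false
universe u v
open CategoryTheory
open ArtFun

namespace Groth.Agent.S15131

/-- Let k be a field and F a functor on local Artinian k-algebras with residue field k with F(k) a
single point, satisfying (H1) (the comparison map of A₁ ×_A A₂ is surjective when A₂ → A is a small
extension) and (H2) (it is bijective when A = k and A₂ = k[ε]). If the tangent space F(k[ε]) is a
single point then F is the one-point functor: every F(A) has exactly one element. (The converse is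
clear.) -/
theorem result
    {k : Type u} [Field k] (F : ArtFun.Art k k ⥤ Type v)
    (h0 : ArtFun.H0 F) (h1 : ArtFun.Hbar F) (h2 : ArtFun.Heps F)
    (ht : Subsingleton (ArtFun.TangentSpace F)) (A : ArtFun.Art k k) :
    Nonempty (F.obj A) ∧ Subsingleton (F.obj A) := by
  obtain ⟨x₀⟩ := h0.1
  let oB : ArtFun.Art.base k k ⟶ A :=
    ⟨Algebra.ofId k A, AlgHom.ext fun c => A.res.commutes c⟩
  refine ⟨⟨F.map oB x₀⟩, ?_⟩
  let ψ : F ⟶ (Functor.const (ArtFun.Art k k)).obj PUnit.{v + 1} :=
    { app := fun _ => ↾fun _ => PUnit.unit
      naturality := fun _ _ _ => rfl }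
  have hinj := Groth.Agent.Lib.Helper9.app_injective_of_tangent_injective ψ h0.2 h1 h2
    (fun B A A' A'' p' p'' f' f'' h hs z z' _ => Subsingleton.elim (α := PUnit.{v + 1}) z z')
    (fun a b _ => @Subsingleton.elim _ ht a b) A
  exact ⟨fun a b => hinj (Subsingleton.elim (α := PUnit.{v + 1}) _ _)⟩

end Groth.Agent.S15131
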