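import Groth.Statements.S15133
import Mathlib
import Groth.Agent.Lib.Helper83.ArtinFlat

set_option autoImplicit false
universe u
open CategoryTheory
open CAlg

namespace Groth.Agent.S15133

open CategoryTheory in
/-- Translation of exactness of the reduced complex into exactness of `lTensor` maps. -/
theorem exact_lTensor_of_exactAt (A : Type u) [CommRing A] [IsLocalRing A]
    (C : CochainComplex (ModuleCat.{u} A) ℕ) (i j k : ℕ)
    (hi : (ComplexShape.up ℕ).prev j = i) (hk : (ComplexShape.up ℕ).next j = k)
    (h : (((MonoidalCategory.tensorLeft (ModuleCat.of A (IsLocalRing.ResidueField A))).mapHomologicalComplex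
        (ComplexShape.up ℕ)).obj C).ExactAt j) :
    Function.Exact ((C.d i j).hom.lTensor (IsLocalRing.ResidueField A))
      ((C.d j k).hom.lTensor (IsLocalRing.ResidueField A)) := by
  rw [HomologicalComplex.exactAt_iff' _ i j k hi hk] at h
  rw [ShortComplex.moduleCat_exact_iff_range_eq_ker] at h
  intro x
  have : x ∈ LinearMap.ker ((C.d j k).hom.lTensor (IsLocalRing.ResidueField A)) ↔
      x ∈ LinearMap.range ((C.d i j).hom.lTensor (IsLocalRing.ResidueField A)) :=
    Iff.of_eq (congrArg (fun S : Submodule A _ => x ∈ S) h.symm)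
  exact this

/-- Let A be an Artinian local ring with residue field k, n ≥ 1, and 0 → I → P₀ → P₁ → ⋯ → Pₙ a complex
of A-modules with P₀, …, Pₙ flat whose reduction 0 → k ⊗ I → k ⊗ P₀ → ⋯ → k ⊗ Pₙ is exact. Then I
and coker(Pₙ₋₁ → Pₙ) are flat. The complex is written as a cochain complex C indexed by ℕ with C⁰ =
I and Cⁱ⁺¹ = Pᵢ; its terms in degrees above n + 1 play no role. (The published statement adds that I
maps onto the kernel of k ⊗ P₀ → k ⊗ P₁, which is already part of the exactness hypothesis, and is
for local Artinian algebras over an algebraically closed field of characteristic zero having that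
field as residue field; this row allows any Artinian local ring.) -/
theorem result
    (A : Type u) [CommRing A] [IsLocalRing A] [IsArtinianRing A] (n : ℕ) (hn : 0 < n)
    (C : CochainComplex (ModuleCat.{u} A) ℕ)
    (hflat : ∀ i, i ≤ n → Module.Flat A (C.X (i + 1)))
    (hred : ∀ j, j ≤ n →
      (((MonoidalCategory.tensorLeft (ModuleCat.of A (IsLocalRing.ResidueField A))).mapHomologicalComplex
        (ComplexShape.up ℕ)).obj C).ExactAt j) :
    Module.Flat A (C.X 0) ∧ Module.Flat A (C.X (n + 1) ⧸ LinearMap.range (C.d n (n + 1)).hom) := by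
  constructor
  · have h0 := exact_lTensor_of_exactAt A C 0 0 1 (by simp) (by simp) (hred 0 (Nat.zero_le n))
    have hd00 : C.d 0 0 = 0 := C.shape 0 0 (by simp)
    have hP0 : Module.Flat A (C.X 1) := hflat 0 (Nat.zero_le n)
    rw [hd00, ModuleCat.hom_zero] at h0
    obtain ⟨hMflat, hex⟩ :=
      Groth.Agent.Lib.Helper83.ArtinFlat.flat_and_exact_of_lTensor_exact
        (0 : C.X 0 →ₗ[A] C.X 0) (C.d 0 1).hom (LinearMap.range (C.d 0 1).hom).mkQ
        (LinearMap.comp_zero _) (LinearMap.exact_map_mkQ_range _) (Submodule.mkQ_surjective _) h0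
    have hinj : Function.Injective (C.d 0 1).hom := by
      rw [injective_iff_map_eq_zero]
      intro x hx
      obtain ⟨y, hy⟩ := (hex x).mp hx
      rw [← hy, LinearMap.zero_apply]
    exact Groth.Agent.Lib.Helper83.ArtinFlat.flat_of_exact_of_flat (C.d 0 1).hom
      (LinearMap.range (C.d 0 1).hom).mkQ hinj (LinearMap.exact_map_mkQ_range _)
      (Submodule.mkQ_surjective _)
  · obtain ⟨m, rfl⟩ : ∃ m, n = m + 1 := ⟨n - 1, by omega⟩
    have h0 := exact_lTensor_of_exactAt A C m (m + 1) (m + 1 + 1) (by simp) (by simp)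
      (hred (m + 1) le_rfl)
    have hP : Module.Flat A (C.X (m + 1 + 1)) := hflat (m + 1) le_rfl
    have hcomp : (C.d (m + 1) (m + 1 + 1)).hom ∘ₗ (C.d m (m + 1)).hom = 0 := by
      rw [← ModuleCat.hom_comp, C.d_comp_d, ModuleCat.hom_zero]
    exact (Groth.Agent.Lib.Helper83.ArtinFlat.flat_and_exact_of_lTensor_exact
      (C.d m (m + 1)).hom (C.d (m + 1) (m + 1 + 1)).hom
      (LinearMap.range (C.d (m + 1) (m + 1 + 1)).hom).mkQ hcomp
      (LinearMap.exact_map_mkQ_range _) (Submodule.mkQ_surjective _) h0).1

end Groth.Agent.S15133
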