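import Groth.Statements.S7066
import Groth.Agent.Lib.Helper8.TorDimPoly
import Groth.Agent.Lib.Helper12.DRingTorAmpClosure
import Groth.Agent.S6946
import Groth.Agent.S6954

set_option autoImplicit false
universe u
attribute [local instance] HasDerivedCategory.standard
open MoreMor

namespace Groth.Agent.S7066

open CategoryTheory CategoryTheory.Limits Groth.Agent.Lib.Helper8.TorDimPoly
open Groth.Agent.Lib.Helper12

lemma td_iff (R : Type u) [CommRing R] (M : Type u) [AddCommGroup M] [Module R M] (d : ℕ) :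
    DRing.HasTorDimLE R d M ↔ TD R d M := by
  constructor
  · intro h N _ _ p hp
    have := h N p hp
    exact ModuleCat.isZero_of_subsingleton _
  · intro h N _ _ p hp
    exact ModuleCat.subsingleton_of_isZero (h N p hp)

/-- a module of finite tor amplitude has finite Tor dimension -/
lemma exists_td_of_amp (R : Type u) [CommRing R] (M : Type u) [AddCommGroup M] [Module R M]
    (h : DRing.HasFiniteTorDimCx R (Dual.inD R M)) : ∃ d : ℕ, TD R d M := by
  obtain ⟨a, b, hamp⟩ := h
  obtain ⟨Q, hQb, hQp, ⟨e⟩⟩ := exists_projective_rep (Dual.inD R M) 0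
    (fun i hi => isZero_HF_single_zero (ModuleCat.of R M) i (by omega))
  obtain ⟨h1, h2, h3⟩ := truncGE_rep_of_hasTorAmplitudeIn hamp Q 0 hQb hQp e
  have h4 : DRing.HasTorAmplitudeIn R a 0 (Dual.inD R M) :=
    ⟨Q.truncGE a, h1, h2, ⟨(asIso (DerivedCategory.Q.map (Q.πTruncGE a))).symm ≪≫ e⟩⟩
  refine ⟨(-a).toNat, (td_iff R M _).1 ((Groth.Agent.S6946.result R M (-a).toNat).1.2 ?_)⟩
  exact hasTorAmplitudeIn_mono' h4 (by omega) le_rfl

/-- A homomorphism of commutative rings A → B is perfect, i.e. pseudo-coherent with B of finite tor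
dimension as an A-module, if and only if B is a quotient of a polynomial ring A[x_1, …, x_n] over
which B is a perfect module, i.e. B placed in degree 0 is isomorphic in the derived category of the
polynomial ring to a bounded complex of finite projective modules. -/
theorem result (A B : Type u) [CommRing A] [CommRing B] [Algebra A B] :
    MoreMor.IsPerfectHom A B ↔
      ∃ (n : ℕ) (φ : MvPolynomial (Fin n) A →ₐ[A] B), Function.Surjective φ ∧
        letI := φ.toRingHom.toAlgebra
        DRing.IsPerfectModule (MvPolynomial (Fin n) A) B := by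
  constructor
  · rintro ⟨⟨n, φ, hφ, hpc⟩, ⟨d, hd⟩⟩
    refine ⟨n, φ, hφ, ?_⟩
    letI := φ.toRingHom.toAlgebra
    haveI : IsScalarTower A (MvPolynomial (Fin n) A) B :=
      IsScalarTower.of_algebraMap_eq (fun a => (φ.commutes a).symm)
    have h1 : TD (MvPolynomial (Fin n) A) (d + n) B :=
      td_mvPolynomial A d n B ((td_iff A B d).1 hd)
    have h2 := (Groth.Agent.S6946.result (MvPolynomial (Fin n) A) B (d + n)).1.1
      ((td_iff _ B _).2 h1)
    exact (Groth.Agent.S6954.result (MvPolynomial (Fin n) A) _).2 ⟨hpc, ⟨_, _, h2⟩⟩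
  · rintro ⟨n, φ, hφ, hperf⟩
    have h0 := (Groth.Agent.S6954.result (MvPolynomial (Fin n) A) _).1 hperf
    refine ⟨⟨n, φ, hφ, h0.1⟩, ?_⟩
    letI := φ.toRingHom.toAlgebra
    haveI : IsScalarTower A (MvPolynomial (Fin n) A) B :=
      IsScalarTower.of_algebraMap_eq (fun a => (φ.commutes a).symm)
    obtain ⟨d, hd⟩ := exists_td_of_amp (MvPolynomial (Fin n) A) B h0.2
    exact ⟨d, (td_iff A B d).2 (td_restrict A (MvPolynomial (Fin n) A) d B hd)⟩

end Groth.Agent.S7066
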