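import Groth.Statements.S7070
import Groth.Agent.S7066
import Groth.Agent.Lib.Helper8.KoszulPerfect

set_option autoImplicit false
set_option linter.style.haveILetI false
universe u
attribute [local instance] HasDerivedCategory.standard
open MoreMor

namespace Groth.Agent.S7070

/-- A local complete intersection homomorphism of commutative rings A → B (finite type, with some
polynomial presentation whose kernel is a Koszul-regular ideal) is perfect: pseudo-coherent with B
of finite tor dimension over A. -/
theorem result (A B : Type u) [CommRing A] [CommRing B] [Algebra A B]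
    (h : LCI.IsLCI A B) : MoreMor.IsPerfectHom A B := by
  obtain ⟨_, n, f, hsurj, hI⟩ := h
  rw [Groth.Agent.S7066.result]
  refine ⟨n, f, hsurj, ?_⟩
  letI := f.toRingHom.toAlgebra
  have h1 := Groth.Agent.Lib.Helper8.KoszulPerfect.isPerfectModule_quot_of_koszulRegularIdeal _ hI
  refine Groth.Agent.Lib.Helper8.KoszulPerfect.isPerfectModule_of_linearEquiv ?_ h1
  let e : (MvPolynomial (Fin n) A ⧸ RingHom.ker f.toRingHom) ≃+* B :=
    RingHom.quotientKerEquivOfSurjective (f := f.toRingHom) hsurj
  exact
    { e with
      map_smul' := fun p x => by
        obtain ⟨q, rfl⟩ := Ideal.Quotient.mk_surjective x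
        show e (p • Ideal.Quotient.mk _ q) = p • e (Ideal.Quotient.mk _ q)
        rw [Algebra.smul_def, map_mul, Algebra.smul_def]
        rfl }

end Groth.Agent.S7070
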