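import Groth.Statements.S16551
import Mathlib
import Groth.Agent.Lib.Helper89.NormalFEt
import Groth.Agent.Lib.QCoh.Helper18_IntegralSpec
-- import your own Groth.Agent.* helpers here

set_option autoImplicit false
set_option linter.style.haveILetI false
set_option linter.unusedSectionVars false
set_option linter.unusedVariables false
universe u
open CategoryTheory CategoryTheory.Limits AlgebraicGeometry
open Models

namespace Groth.Agent.S16551

open CategoryTheory CategoryTheory.Limits AlgebraicGeometry Topology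

section Helpers


/-- going-down for a finite surjective morphism of integral schemes onto a normal one. -/
theorem exists_generization_of_finite {W Z : Scheme.{u}} [IsIntegral W] [IsIntegral Z]
    (hZn : Pi1.IsNormalScheme Z) (ψ : W ⟶ Z) [IsFinite ψ] [Surjective ψ]
    (w : W) (δ : Z) (hδ : δ ⤳ ψ w) : ∃ γ : W, γ ⤳ w ∧ ψ γ = δ := by
  obtain ⟨_, ⟨V, hV : IsAffineOpen V, rfl⟩, hzV, -⟩ :=
    (Z.isBasis_affineOpens).exists_subset_of_mem_open (Set.mem_univ (ψ w)) isOpen_univ
  have hδV : δ ∈ V := hδ.mem_open V.isOpen hzV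
  have hU : IsAffineOpen (ψ ⁻¹ᵁ V) := hV.preimage ψ
  have hwU : w ∈ ψ ⁻¹ᵁ V := hzV
  haveI : Nonempty V := ⟨⟨_, hzV⟩⟩
  haveI : Nonempty (ψ ⁻¹ᵁ V : W.Opens) := ⟨⟨_, hwU⟩⟩
  let φ : Γ(Z, V) ⟶ Γ(W, ψ ⁻¹ᵁ V) := ψ.app V
  have hsq : Spec.map φ ≫ hV.fromSpec = hU.fromSpec ≫ ψ := by
    have := IsAffineOpen.SpecMap_appLE_fromSpec ψ hV hU le_rfl
    rwa [← Scheme.Hom.app_eq_appLE] at this
  -- points
  obtain ⟨qw, hqw⟩ : w ∈ Set.range hU.fromSpec := by rw [hU.range_fromSpec]; exact hwU
  obtain ⟨pδ, hpδ⟩ : δ ∈ Set.range hV.fromSpec := by rw [hV.range_fromSpec]; exact hδV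
  have hcomm : ∀ q, ψ (hU.fromSpec q) = hV.fromSpec (Spec.map φ q) := by
    intro q
    rw [← Scheme.Hom.comp_apply, ← hsq, Scheme.Hom.comp_apply]
  have hspec : pδ ⤳ Spec.map φ qw := by
    rw [← hV.fromSpec.isOpenEmbedding.isInducing.specializes_iff, hpδ, ← hcomm, hqw]
    exact hδ
  -- algebra
  letI : Algebra Γ(Z, V) Γ(W, ψ ⁻¹ᵁ V) := φ.hom.toAlgebra
  haveI : IsIntegrallyClosed Γ(Z, V) :=
    Groth.Agent.Lib.Helper89.NormalFEt.isIntegrallyClosed_of_isNormalScheme hZn hV
  haveI : Algebra.IsIntegral Γ(Z, V) Γ(W, ψ ⁻¹ᵁ V) := by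
    have hfin : φ.hom.Finite := IsFinite.finite_app ψ V hV
    haveI : Module.Finite Γ(Z, V) Γ(W, ψ ⁻¹ᵁ V) := hfin
    exact Algebra.IsIntegral.of_finite _ _
  have hinj : Function.Injective (algebraMap Γ(Z, V) Γ(W, ψ ⁻¹ᵁ V)) := by
    haveI : IsDominant ψ := inferInstance
    haveI : IsSchemeTheoreticallyDominant ψ := IsSchemeTheoreticallyDominant.of_isDominant ψ
    exact ψ.app_injective V
  haveI : FaithfulSMul Γ(Z, V) Γ(W, ψ ⁻¹ᵁ V) :=
    (faithfulSMul_iff_algebraMap_injective _ _).mpr hinj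
  have hgd : GeneralizingMap (PrimeSpectrum.comap (algebraMap Γ(Z, V) Γ(W, ψ ⁻¹ᵁ V))) :=
    Algebra.HasGoingDown.iff_generalizingMap_primeSpectrumComap.mp inferInstance
  obtain ⟨q, hq1, hq2⟩ := hgd (show (pδ : PrimeSpectrum Γ(Z, V)) ⤳
    PrimeSpectrum.comap (algebraMap Γ(Z, V) Γ(W, ψ ⁻¹ᵁ V)) qw from hspec)
  let q' : ↥(Spec Γ(W, ψ ⁻¹ᵁ V)) := q
  have hq1' : q' ⤳ qw := hq1
  have hq2' : Spec.map φ q' = pδ := hq2
  refine ⟨hU.fromSpec q', ?_, ?_⟩
  · rw [← hqw]
    exact hq1'.map hU.fromSpec.continuous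
  · rw [hcomm q', hq2', hpδ]

end Helpers

/-- Let R be a discrete valuation ring, W and Z integral normal schemes which are flat, of finite type
and of dimension 2 over Spec R, and ψ : W -> Z a finite surjective R-morphism. Let z be a closed
point of Z lying in the special fibre, w a point of W with ψ(w) = z, and Δ an irreducible component
of the special fibre of Z with z ∈ Δ. Then some irreducible component Γ of the special fibre of W
contains w and satisfies ψ(Γ) = Δ. (The published statement asks W and Z only to be normal; they are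
taken integral as well here.) -/
theorem result
    (R : Type u) [CommRing R] [IsDomain R] [IsDiscreteValuationRing R]
    (W Z : Over (Spec (CommRingCat.of R))) [IsIntegral W.left] [IsIntegral Z.left]
    (hWn : Pi1.IsNormalScheme W.left) (hZn : Pi1.IsNormalScheme Z.left)
    [Flat W.hom] [LocallyOfFiniteType W.hom] [QuasiCompact W.hom]
    [Flat Z.hom] [LocallyOfFiniteType Z.hom] [QuasiCompact Z.hom]
    (hdW : topologicalKrullDim W.left = 2) (hdZ : topologicalKrullDim Z.left = 2)
    (ψ : W ⟶ Z) [IsFinite ψ.left] [Surjective ψ.left]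
    (z : Z.left) (hzc : IsClosed ({z} : Set Z.left)) (hz : z ∈ Models.specialFibreSet R Z)
    (w : W.left) (hw : ψ.left.base w = z)
    (Δ : Set Z.left) (hΔ : Δ ∈ Models.fibreComponents R Z) (hzΔ : z ∈ Δ) :
    ∃ Γ ∈ Models.fibreComponents R W, w ∈ Γ ∧ ψ.left.base '' Γ = Δ := by
  have hZs : IsClosed (Models.specialFibreSet R Z) := Models.isClosed_specialFibreSet R Z
  have hWs : IsClosed (Models.specialFibreSet R W) := Models.isClosed_specialFibreSet R W
  -- Δ is closed irreducible with generic point δ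
  have hΔirr : IsIrreducible Δ := hΔ.1.1
  have hΔsub : Δ ⊆ Models.specialFibreSet R Z := hΔ.1.2
  have hΔcl : IsClosed Δ := by
    have h1 : closure Δ ⊆ Δ := hΔ.2 ⟨hΔirr.closure, hZs.closure_subset_iff.mpr hΔsub⟩ subset_closure
    exact closure_subset_iff_isClosed.mp h1
  obtain ⟨δ, hδ⟩ := QuasiSober.sober hΔirr hΔcl
  have hδz : δ ⤳ z := by
    rw [specializes_iff_mem_closure, hδ.def]; exact hzΔ
  have hδΔ : δ ∈ Δ := by rw [← hδ.def]; exact subset_closure rfl
  -- going down
  obtain ⟨γ, hγw, hγδ⟩ := exists_generization_of_finite hZn ψ.left w δ (hw ▸ hδz)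
  have hmapW : ∀ t : W.left, W.hom t = Z.hom (ψ.left t) := by
    intro t
    rw [← Scheme.Hom.comp_apply, Over.w ψ]
  have hγs : γ ∈ Models.specialFibreSet R W := by
    change W.hom γ = _
    rw [hmapW, hγδ]
    exact hΔsub hδΔ
  refine ⟨closure {γ}, ⟨⟨isIrreducible_singleton.closure, hWs.closure_subset_iff.mpr
    (Set.singleton_subset_iff.mpr hγs)⟩, ?_⟩, hγw.mem_closure, ?_⟩
  · -- maximality
    rintro T ⟨hTirr, hTsub⟩ hΓT
    have hTcl : closure T ⊆ Models.specialFibreSet R W := hWs.closure_subset_iff.mpr hTsub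
    obtain ⟨τ, hτ⟩ := QuasiSober.sober hTirr.closure isClosed_closure
    have hτT : τ ∈ closure T := by rw [← hτ.def]; exact subset_closure rfl
    have hγT : γ ∈ closure T := subset_closure (hΓT (subset_closure rfl))
    have hτγ : τ ⤳ γ := by rw [specializes_iff_mem_closure, hτ.def]; exact hγT
    have hψτδ : ψ.left τ ⤳ δ := by
      rw [← hγδ]; exact hτγ.map ψ.left.continuous
    have hψτs : ψ.left τ ∈ Models.specialFibreSet R Z := by
      change Z.hom (ψ.left τ) = _
      rw [← hmapW]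
      exact hTcl hτT
    have h1 : closure {ψ.left τ} ⊆ Δ := by
      apply hΔ.2 ⟨isIrreducible_singleton.closure, hZs.closure_subset_iff.mpr
        (Set.singleton_subset_iff.mpr hψτs)⟩
      rw [← hδ.def]
      exact closure_minimal (Set.singleton_subset_iff.mpr hψτδ.mem_closure) isClosed_closure
    have hδψτ : δ ⤳ ψ.left τ := by
      rw [specializes_iff_mem_closure, hδ.def]
      exact h1 (subset_closure rfl)
    have heq : ψ.left τ = δ := (hψτδ.antisymm hδψτ).eq
    have hτeq : γ = τ := Groth.Agent.Lib.QCoh.eq_of_specializes_of_isIntegralHom ψ.left hτγ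
      (by rw [hγδ, heq])
    rw [hτeq, hτ.def]
    exact subset_closure
  · -- image
    have hcl : IsClosedMap ψ.left.base := ψ.left.isClosedMap
    rw [← hcl.closure_image_eq_of_continuous ψ.left.continuous, Set.image_singleton]
    change closure {ψ.left γ} = Δ
    rw [hγδ, hδ.def]

end Groth.Agent.S16551
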