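import Groth.Statements.S15140
import Mathlib
import Groth.Agent.S16551
import Groth.Agent.S0386
import Groth.Agent.Lib.Helper61.DimOneFib
import Groth.Agent.Lib.Helper91.FlatDedekind
-- import your own Groth.Agent.* helpers here

set_option autoImplicit false
set_option linter.style.haveILetI false
set_option linter.unusedSectionVars false
set_option linter.unusedVariables false
universe u
open CategoryTheory CategoryTheory.Limits AlgebraicGeometry
open Models

namespace Groth.Agent.S15140

open CategoryTheory CategoryTheory.Limits AlgebraicGeometry Topology TopologicalSpace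

section Helpers


theorem stalkMap_injective {X Y : Scheme.{u}} [IsIntegral X] [IsIntegral Y] (f : X ⟶ Y)
    [IsDominant f] [QuasiCompact f] (x : X) :
    Function.Injective (f.stalkMap x).hom := by
  have : IsSchemeTheoreticallyDominant f := .of_isDominant f
  obtain ⟨_, ⟨U, hU, rfl⟩, hxU, -⟩ :=
    Y.isBasis_affineOpens.exists_subset_of_mem_open (Set.mem_univ (f x)) isOpen_univ
  apply IsAffineOpen.stalkMap_injective f hU x hxU
  intro g hg
  rw [Scheme.Hom.germ_stalkMap_apply] at hg
  have h1 : f.app U g = 0 := by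
    apply germ_injective_of_isIntegral X x hxU
    rw [hg, map_zero]
  have h2 : g = 0 := f.app_injective U (by rw [h1, map_zero])
  rw [h2, map_zero]

theorem flat_stalkMap_of_coheight_le_one {X Y : Scheme.{u}} [IsIntegral X] [IsIntegral Y]
    [IsLocallyNoetherian Y] (f : X ⟶ Y) [IsDominant f] [QuasiCompact f]
    (x : X) (hic : IsIntegrallyClosed (Y.presheaf.stalk (f x)))
    (hd : Order.coheight (f x) ≤ ((1 : ℕ) : ℕ∞)) : (f.stalkMap x).hom.Flat := by
  have hK : Ring.KrullDimLE 1 (Y.presheaf.stalk (f x)) := krullDimLE_of_coheight_le hd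
  have hD : Ring.DimensionLEOne (Y.presheaf.stalk (f x)) :=
    ⟨fun {p} hp hpp => Ring.krullDimLE_one_iff_of_noZeroDivisors.mp hK p hp hpp⟩
  haveI : IsDedekindDomain (Y.presheaf.stalk (f x)) :=
    { toIsDomain := inferInstance, toIsDedekindRing := { } }
  exact Groth.Agent.Lib.Helper91.FlatDedekind.flat_of_injective_of_isDedekindDomain _
    (stalkMap_injective f x)

theorem coheight_le_two (X : Scheme.{u}) (h : topologicalKrullDim X = 2) (x : X) :
    Order.coheight x ≤ 2 := by
  have h1 := Groth.Agent.Lib.Helper91.FlatDedekind.coheight_le_topologicalKrullDim X x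
  rw [h] at h1
  have h2 : ((Order.coheight x : ℕ∞) : WithBot ℕ∞) ≤ ((2 : ℕ∞) : WithBot ℕ∞) := h1
  exact WithBot.coe_le_coe.mp h2

end Helpers

/-- Let R be a discrete valuation ring whose fraction field has characteristic zero and let X and Y be
relative curves over R: flat, of finite type and separated over Spec R, normal and integral, of
dimension two (pure relative dimension one; properness is not assumed). Let f : X → Y be a finite
surjective morphism over R. Then there is an open subset V ⊆ Y such that the complement of V in Y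
and the complement of f⁻¹(V) in X are finite sets of points at which the local rings have Krull
dimension two (closed points of the closed fibres), and f is flat over V. -/
theorem result (R : Type u) [CommRing R] [IsDomain R]
    [IsDiscreteValuationRing R] [CharZero (FractionRing R)]
    (X Y : Scheme.{u}) (pX : X ⟶ Spec (CommRingCat.of R)) (pY : Y ⟶ Spec (CommRingCat.of R))
    [Flat pX] [LocallyOfFiniteType pX] [QuasiCompact pX] [IsSeparated pX]
    [Flat pY] [LocallyOfFiniteType pY] [QuasiCompact pY] [IsSeparated pY]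
    [IsIntegral X] [IsIntegral Y] (hnX : Pi1.IsNormalScheme X) (hnY : Pi1.IsNormalScheme Y)
    (hdX : topologicalKrullDim X = 2) (hdY : topologicalKrullDim Y = 2)
    (f : X ⟶ Y) [IsFinite f] [Surjective f] (hf : f ≫ pY = pX) :
    ∃ V : Y.Opens, ((V : Set Y)ᶜ).Finite ∧ (∀ y : Y, y ∉ V → ringKrullDim (Y.presheaf.stalk y) = 2) ∧
      (((f ⁻¹ᵁ V : X.Opens) : Set X)ᶜ).Finite ∧ (∀ x : X, x ∉ f ⁻¹ᵁ V → ringKrullDim (X.presheaf.stalk x) = 2) ∧
      Flat (f ∣_ V) := by
  haveI : IsNoetherianRing (CommRingCat.of R) := inferInstanceAs (IsNoetherianRing R)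
  haveI : IsLocallyNoetherian Y := LocallyOfFiniteType.isLocallyNoetherian pY
  haveI : CompactSpace Y := QuasiCompact.compactSpace_of_compactSpace pY
  haveI : IsNoetherian Y := {}
  haveI : LocallyOfFinitePresentation f :=
    LocallyOfFinitePresentation.iff_locallyOfFiniteType.mpr inferInstance
  have hW : IsOpen {x : X | (f.stalkMap x).hom.Flat} := Groth.Agent.S0386.result f
  have hC : IsClosed ({x : X | (f.stalkMap x).hom.Flat}ᶜ) := hW.isClosed_compl
  have hZcl : IsClosed (f '' ({x : X | (f.stalkMap x).hom.Flat}ᶜ)) := f.isClosedMap _ hC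
  -- points of Z have coheight 2
  have hZ2 : ∀ y ∈ f '' ({x : X | (f.stalkMap x).hom.Flat}ᶜ), Order.coheight y = 2 := by
    rintro y ⟨x, hx, rfl⟩
    apply le_antisymm (coheight_le_two Y hdY _)
    by_contra hlt
    apply hx
    apply flat_stalkMap_of_coheight_le_one f x (hnY _).2
    have h2 : Order.coheight (f x) < (1 : ℕ∞) + 1 := by
      rw [one_add_one_eq_two]; exact lt_of_not_ge hlt
    exact_mod_cast Order.le_of_lt_add_one h2
  have hZclosedpts : ∀ y ∈ f '' ({x : X | (f.stalkMap x).hom.Flat}ᶜ), IsClosed ({y} : Set Y) := by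
    intro y hy
    rw [← closure_subset_iff_isClosed]
    intro y' hy'
    have hspec : y ⤳ y' := specializes_iff_mem_closure.mpr hy'
    by_contra hne
    have hle' : y' ≤ y := hspec
    have hlt : y' < y := lt_of_le_not_ge hle' (fun (h : y ≤ y') => hne (by
      have h' : y' ⤳ y := h
      rw [(hspec.antisymm h').eq]; rfl))
    have h1 := Order.coheight_add_one_le hlt
    rw [hZ2 y hy] at h1
    have h2 := coheight_le_two Y hdY y'
    have : (2 : ℕ∞) + 1 ≤ 2 := h1.trans h2
    exact absurd this (by decide)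
  have hZfin : (f '' ({x : X | (f.stalkMap x).hom.Flat}ᶜ)).Finite :=
    Groth.Agent.Lib.Helper61.DimOneFib.finite_of_isClosed_of_forall_isClosed_singleton _ hZcl
      hZclosedpts
  refine ⟨⟨(f '' ({x : X | (f.stalkMap x).hom.Flat}ᶜ))ᶜ, hZcl.isOpen_compl⟩, ?_, ?_, ?_, ?_, ?_⟩
  · simpa using hZfin
  · intro y hy
    have hy' : y ∈ f '' ({x : X | (f.stalkMap x).hom.Flat}ᶜ) := by
      by_contra h; exact hy h
    rw [ringKrullDim_stalk_eq_coheight, hZ2 y hy']; rfl
  · have : (((f ⁻¹ᵁ (⟨(f '' ({x : X | (f.stalkMap x).hom.Flat}ᶜ))ᶜ, hZcl.isOpen_compl⟩ : Y.Opens) :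
        X.Opens) : Set X)ᶜ) = ⋃ y ∈ f '' ({x : X | (f.stalkMap x).hom.Flat}ᶜ), f ⁻¹' {y} := by
      ext x
      simp only [Set.mem_compl_iff, Set.mem_iUnion, Set.mem_preimage, Set.mem_singleton_iff,
        exists_prop, exists_eq_right']
      change ¬ (f x ∈ (f '' ({x : X | (f.stalkMap x).hom.Flat}ᶜ))ᶜ) ↔ _
      rw [Set.notMem_compl_iff]
    rw [this]
    exact hZfin.biUnion (fun y _ => f.finite_preimage_singleton y)
  · intro x hx
    have hfx : f x ∈ f '' ({x : X | (f.stalkMap x).hom.Flat}ᶜ) := by
      by_contra h; exact hx h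
    rw [ringKrullDim_stalk_eq_coheight]
    have hle := coheight_le_two X hdX x
    have hge : (2 : ℕ∞) ≤ Order.coheight x := by
      obtain ⟨p, hp0, hpl⟩ := Order.exists_series_of_le_coheight (f x) (n := 2)
        (by rw [hZ2 _ hfx]; rfl)
      -- chain f x = p 0 < p 1 < p 2
      have h01 : p ⟨0, by omega⟩ < p ⟨1, by omega⟩ := p.strictMono (by simp [Fin.lt_def])
      have h12 : p ⟨1, by omega⟩ < p ⟨2, by omega⟩ := p.strictMono (by simp [Fin.lt_def])
      have hp0' : p ⟨0, by omega⟩ = f x := hp0
      obtain ⟨x1, hx1, hfx1⟩ := Groth.Agent.S16551.exists_generization_of_finite hnY f x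
        (p ⟨1, by omega⟩) (hp0' ▸ h01.le)
      obtain ⟨x2, hx2, hfx2⟩ := Groth.Agent.S16551.exists_generization_of_finite hnY f x1
        (p ⟨2, by omega⟩) (hfx1 ▸ h12.le)
      have hle1 : x ≤ x1 := hx1
      have hle2 : x1 ≤ x2 := hx2
      have hlt1 : x < x1 := lt_of_le_not_ge hle1 (fun (h : x1 ≤ x) => by
        have h' : x ⤳ x1 := h
        have : f x = f x1 := by rw [(hx1.antisymm h').eq]
        rw [hfx1, ← hp0'] at this
        exact h01.ne this)
      have hlt2 : x1 < x2 := lt_of_le_not_ge hle2 (fun (h : x2 ≤ x1) => by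
        have h' : x1 ⤳ x2 := h
        have : f x1 = f x2 := by rw [(hx2.antisymm h').eq]
        rw [hfx1, hfx2] at this
        exact h12.ne this)
      have e1 := Order.coheight_add_one_le hlt2
      have e2 := Order.coheight_add_one_le hlt1
      calc (2 : ℕ∞) = 0 + 1 + 1 := by norm_num
        _ ≤ Order.coheight x2 + 1 + 1 := by gcongr; simp
        _ ≤ Order.coheight x1 + 1 := by gcongr
        _ ≤ Order.coheight x := e2
    rw [le_antisymm hle hge]; rfl
  · rw [Flat.iff_flat_stalkMap]
    intro x
    refine (RingHom.Flat.respectsIso.arrow_mk_iso_iff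
      (AlgebraicGeometry.morphismRestrictStalkMap f _ x)).mpr ?_
    have hx : f x.1 ∈ (f '' ({x : X | (f.stalkMap x).hom.Flat}ᶜ))ᶜ := x.2
    by_contra hnf
    exact hx ⟨x.1, hnf, rfl⟩

end Groth.Agent.S15140
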