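import Groth.Statements.S15148
import Groth.Agent.S15147
import Mathlib
-- import your own Groth.Agent.* helpers here

set_option autoImplicit false
universe u
open HilbZeta

namespace Groth.Agent.S15148

section helpers
open PowerSeries Groth.Agent.Lib.Helper7.HilbZetaLib

variable {k : Type u} [Field k] {s : ℕ}

/-- coefficient map -/
noncomputable def coefMap (b : Fin s → ℕ) :
    (Fin s → PowerSeries k) →ₗ[k] ((i : Fin s) → Fin (b i) → k) where
  toFun f := fun i j => PowerSeries.coeff (j : ℕ) (f i)
  map_add' f g := by funext i j; simp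
  map_smul' r f := by funext i j; simp

/-- the filtration piece -/
noncomputable def Fil (b : Fin s → ℕ) : Submodule k (Fin s → PowerSeries k) :=
  LinearMap.ker (coefMap b)

theorem mem_Fil_iff (b : Fin s → ℕ) (f : Fin s → PowerSeries k) :
    f ∈ Fil b ↔ ∀ i, ((b i : ℕ) : ℕ∞) ≤ (f i).order := by
  unfold Fil
  rw [LinearMap.mem_ker]
  constructor
  · intro h i
    apply PowerSeries.nat_le_order
    intro j hj
    have := congrFun (congrFun h i) ⟨j, hj⟩
    simpa [coefMap] using this
  · intro h
    funext i j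
    change PowerSeries.coeff (j : ℕ) (f i) = 0
    apply PowerSeries.coeff_of_lt_order
    exact lt_of_lt_of_le (by exact_mod_cast j.2) (h i)

theorem coefMap_surjective (b : Fin s → ℕ) : Function.Surjective (coefMap (k := k) b) := by
  intro t
  refine ⟨fun i => PowerSeries.mk (fun j => if h : j < b i then t i ⟨j, h⟩ else 0), ?_⟩
  funext i j
  simp only [coefMap, LinearMap.coe_mk, AddHom.coe_mk, PowerSeries.coeff_mk]
  rw [dif_pos j.2]

theorem finite_quot_Fil (b : Fin s → ℕ) :
    Module.Finite k ((Fin s → PowerSeries k) ⧸ Fil (k := k) b) :=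
  Module.Finite.equiv ((coefMap (k := k) b).quotKerEquivOfSurjective (coefMap_surjective b)).symm

theorem finrank_quot_Fil (b : Fin s → ℕ) :
    Module.finrank k ((Fin s → PowerSeries k) ⧸ Fil (k := k) b) = ∑ i, b i := by
  have e := (coefMap (k := k) b).quotKerEquivOfSurjective (coefMap_surjective b)
  have h1 : Module.finrank k ((Fin s → PowerSeries k) ⧸ Fil (k := k) b) =
      Module.finrank k ((i : Fin s) → Fin (b i) → k) := e.finrank_eq
  rw [h1, Module.finrank_pi_fintype]
  simp

theorem chain {V : Type*} [AddCommGroup V] [Module k V] (K L : Submodule k V) (h : K ≤ L)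
    [Module.Finite k (V ⧸ K)] :
    Module.finrank k (V ⧸ K) = Module.finrank k (V ⧸ L) + Module.finrank k ↥(L.map K.mkQ) := by
  have h1 := Submodule.finrank_quotient_add_finrank (L.map K.mkQ)
  have e := Submodule.quotientQuotientEquivQuotient K L h
  rw [e.finrank_eq] at h1
  omega

theorem abstract_count {V : Type*} [AddCommGroup V] [Module k V] (Fac IP Fa Rs : Submodule k V)
    (h1 : Fac ≤ IP) (h2 : IP ≤ Fa) (h3 : IP ≤ Rs) [Module.Finite k (V ⧸ Fac)]
    (d : ℕ) (hd : Module.finrank k ↥(Rs.map IP.mkQ) = d) :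
    Module.finrank k (V ⧸ Fa) ≤ d + Module.finrank k (V ⧸ Rs) ∧
    d + Module.finrank k (V ⧸ Rs) ≤ Module.finrank k (V ⧸ Fac) ∧
    (d + Module.finrank k (V ⧸ Rs) = Module.finrank k (V ⧸ Fac) → IP ≤ Fac) := by
  have hfinIP : Module.Finite k (V ⧸ IP) := by
    refine Module.Finite.of_surjective (Submodule.mapQ Fac IP LinearMap.id (by simpa using h1)) ?_
    intro y
    obtain ⟨x, rfl⟩ := Submodule.Quotient.mk_surjective _ y
    exact ⟨Submodule.Quotient.mk x, rfl⟩
  have c1 := chain IP Rs h3
  have c2 := chain IP Fa h2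
  have c3 := chain Fac IP h1
  rw [hd] at c1
  refine ⟨by omega, by omega, ?_⟩
  intro heq
  have hz : Module.finrank k ↥(IP.map Fac.mkQ) = 0 := by omega
  have hbot : IP.map Fac.mkQ = ⊥ := Submodule.finrank_eq_zero.mp hz
  intro x hx
  have hmem : Fac.mkQ x ∈ IP.map Fac.mkQ := Submodule.mem_map_of_mem hx
  rw [hbot, Submodule.mem_bot, Submodule.mkQ_apply, Submodule.Quotient.mk_eq_zero] at hmem
  exact hmem

end helpers

/-- Let k be a field, s a natural number and R a k-subalgebra of the product of s copies of the power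
series ring k[[x]], of finite codimension δ over k and local with residue field k (all components of
an element of R have the same constant term); write v_i for the x-adic order of the i-th component
of an s-tuple, and let c = (c_1, …, c_s) be the conductor exponents, so that an s-tuple f satisfies
f·g ∈ R for every s-tuple g exactly when v_i(f) ≥ c_i for all i (over an algebraically closed field
such an R is precisely the completed local ring of a reduced curve singularity having s branches
sitting inside its normalisation, δ is its delta invariant and the conductor ideal is generated by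
the x_i^{c_i}), and put C = c_1 + ⋯ + c_s. Let I be an ideal of R of finite colength d with
branch-length vector a (for every i the ideal of k[[x]] generated by the i-th components of the
elements of I is (x^{a_i})). Then −δ ≤ d − Σ a_i ≤ C − δ, and the second inequality is strict when R
is not the whole product (the singularity is not smooth). (The published statement is over an
algebraically closed field; this row allows any field.) -/
theorem result (k : Type u) [Field k] (s : ℕ)
    (R : Subalgebra k (Fin s → PowerSeries k))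
    (hfin : Module.Finite k ((Fin s → PowerSeries k) ⧸ Subalgebra.toSubmodule R))
    (hloc : ∀ f ∈ R, ∀ i j : Fin s, PowerSeries.constantCoeff (f i) = PowerSeries.constantCoeff (f j))
    (c : Fin s → ℕ)
    (hc : ∀ f : Fin s → PowerSeries k,
      (∀ g : Fin s → PowerSeries k, g * f ∈ R) ↔ ∀ i, ((c i : ℕ) : ℕ∞) ≤ (f i).order)
    (I : Ideal ↥R) (hI : Module.Finite k (↥R ⧸ I)) (a : Fin s → ℕ)
    (ha : (∀ i : Fin s, Ideal.map ((Pi.evalAlgHom k (fun _ : Fin s => PowerSeries k) i).comp R.val) I = Ideal.span {PowerSeries.X ^ (a i)})) :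
    (∑ i, a i) ≤ Module.finrank k (↥R ⧸ I) + Module.finrank k ((Fin s → PowerSeries k) ⧸ Subalgebra.toSubmodule R) ∧
    Module.finrank k (↥R ⧸ I) + Module.finrank k ((Fin s → PowerSeries k) ⧸ Subalgebra.toSubmodule R) ≤ (∑ i, a i) + ∑ i, c i ∧
    (R ≠ ⊤ → Module.finrank k (↥R ⧸ I) + Module.finrank k ((Fin s → PowerSeries k) ⧸ Subalgebra.toSubmodule R) < (∑ i, a i) + ∑ i, c i) := by
  classical
  obtain ⟨hup, hlow⟩ := Groth.Agent.S15147.result k s R hfin hloc c hc I hI a ha
  obtain ⟨IP, hIP⟩ : ∃ IP : Submodule k (Fin s → PowerSeries k),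
      ∀ x, x ∈ IP ↔ ∃ y : ↥R, y ∈ I ∧ (y : Fin s → PowerSeries k) = x := by
    refine ⟨(I.restrictScalars k).map R.val.toLinearMap, fun x => ?_⟩
    rw [Submodule.mem_map]
    constructor
    · rintro ⟨y, hy, rfl⟩
      exact ⟨y, hy, rfl⟩
    · rintro ⟨y, hy, rfl⟩
      exact ⟨y, hy, rfl⟩
  have h3 : IP ≤ Subalgebra.toSubmodule R := by
    intro x hx
    obtain ⟨y, _, rfl⟩ := (hIP x).mp hx
    exact y.2
  have h2 : IP ≤ Fil a := by
    intro x hx
    obtain ⟨y, hy, rfl⟩ := (hIP x).mp hx
    rw [mem_Fil_iff]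
    exact hlow y hy
  have h1 : Fil (fun i => a i + c i) ≤ IP := by
    intro g hg
    rw [mem_Fil_iff] at hg
    obtain ⟨hgR, hgI⟩ := hup g hg
    exact (hIP g).mpr ⟨⟨g, hgR⟩, hgI, rfl⟩
  have hfinFac := finite_quot_Fil (k := k) (fun i => a i + c i)
  -- the image of R in P / IP is R / I
  let φ : ↥R →ₗ[k] ((Fin s → PowerSeries k) ⧸ IP) := IP.mkQ ∘ₗ R.val.toLinearMap
  have hker : LinearMap.ker φ = I.restrictScalars k := by
    ext x
    rw [LinearMap.mem_ker, LinearMap.comp_apply, Submodule.mkQ_apply, Submodule.Quotient.mk_eq_zero,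
      hIP]
    constructor
    · rintro ⟨y, hy, hyx⟩
      have hyx' : y = x := Subtype.ext hyx
      rw [← hyx']
      exact hy
    · intro hx
      exact ⟨x, hx, rfl⟩
  have hrange : LinearMap.range φ = (Subalgebra.toSubmodule R).map IP.mkQ := by
    rw [LinearMap.range_comp]
    congr 1
    ext x
    constructor
    · rintro ⟨y, rfl⟩
      exact y.2
    · intro hx
      exact ⟨⟨x, hx⟩, rfl⟩
  let e1 : (↥R ⧸ I) ≃ₗ[k] ↥((Subalgebra.toSubmodule R).map IP.mkQ) :=
    (Submodule.Quotient.restrictScalarsEquiv k I).symm ≪≫ₗ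
      (Submodule.quotEquivOfEq _ _ hker.symm) ≪≫ₗ φ.quotKerEquivRange ≪≫ₗ
      (LinearEquiv.ofEq _ _ hrange)
  have hd : Module.finrank k ↥((Subalgebra.toSubmodule R).map IP.mkQ) = Module.finrank k (↥R ⧸ I) :=
    e1.finrank_eq.symm
  obtain ⟨r1, r2, r3⟩ := abstract_count (Fil (fun i => a i + c i)) IP (Fil a)
    (Subalgebra.toSubmodule R) h1 h2 h3 _ hd
  rw [finrank_quot_Fil] at r1
  rw [finrank_quot_Fil, Finset.sum_add_distrib] at r2 r3
  refine ⟨r1, r2, ?_⟩
  intro hRtop
  rcases lt_or_eq_of_le r2 with hlt | heq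
  · exact hlt
  exfalso
  have hIPle := r3 heq
  have hczero : ∀ i, c i = 0 := by
    intro i
    obtain ⟨f, hfI, hford⟩ := (Groth.Agent.Lib.Helper7.HilbZetaLib.branchLength_facts R I a ha).2 i
    have hmem : (f : Fin s → PowerSeries k) ∈ Fil (k := k) (fun i => a i + c i) :=
      hIPle ((hIP _).mpr ⟨f, hfI, rfl⟩)
    rw [mem_Fil_iff] at hmem
    have h4 := hmem i
    rw [hford] at h4
    have h5 : a i + c i ≤ a i := by exact_mod_cast h4
    omega
  apply hRtop
  rw [Algebra.eq_top_iff]
  intro g
  have h6 : ∀ g' : Fin s → PowerSeries k, g' * (1 : Fin s → PowerSeries k) ∈ R := by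
    rw [hc]
    intro i
    rw [hczero i]
    simp
  simpa using h6 g

end Groth.Agent.S15148
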