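import Groth.Statements.S15149
import Groth.Agent.S15148
import Mathlib
-- import your own Groth.Agent.* helpers here

set_option autoImplicit false
universe u
open HilbZeta

namespace Groth.Agent.S15149

section helpers
open PowerSeries Groth.Agent.Lib.Helper7.HilbZetaLib Groth.Agent.S15148

variable {k : Type u} [Field k] {s : ℕ}

theorem xi_apply_same (j : Fin s) (f : Fin s → PowerSeries k) :
    (Pi.mulSingle j (PowerSeries.X : PowerSeries k) * f : Fin s → PowerSeries k) j =
      PowerSeries.X * f j := by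
  rw [Pi.mul_apply, Pi.mulSingle_eq_same]

theorem xi_apply_ne (j : Fin s) (f : Fin s → PowerSeries k) {i : Fin s} (h : i ≠ j) :
    (Pi.mulSingle j (PowerSeries.X : PowerSeries k) * f : Fin s → PowerSeries k) i = f i := by
  rw [Pi.mul_apply, Pi.mulSingle_eq_of_ne h, one_mul]

/-- multiplication by `ξ` as a `k`-linear map -/
noncomputable def mxi (j : Fin s) : (Fin s → PowerSeries k) →ₗ[k] (Fin s → PowerSeries k) :=
  LinearMap.mulLeft k (Pi.mulSingle j (PowerSeries.X : PowerSeries k))

theorem mxi_apply (j : Fin s) (f : Fin s → PowerSeries k) :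
    mxi j f = Pi.mulSingle j (PowerSeries.X : PowerSeries k) * f := rfl

theorem xi_injective (j : Fin s) (f g : Fin s → PowerSeries k)
    (h : Pi.mulSingle j (PowerSeries.X : PowerSeries k) * f =
      Pi.mulSingle j (PowerSeries.X : PowerSeries k) * g) : f = g := by
  funext i
  have hi := congrFun h i
  by_cases hij : i = j
  · subst hij
    rw [xi_apply_same, xi_apply_same] at hi
    exact mul_left_cancel₀ PowerSeries.X_ne_zero hi
  · rw [xi_apply_ne j f hij, xi_apply_ne j g hij] at hi
    exact hi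

theorem mxi_injective (j : Fin s) : Function.Injective (mxi (k := k) j) :=
  fun f g h => xi_injective j f g h

theorem range_mxi (j : Fin s) :
    LinearMap.range (mxi (k := k) j) = Fil (k := k) (Pi.single j 1) := by
  ext f
  rw [mem_Fil_iff]
  constructor
  · rintro ⟨g, rfl⟩ i
    rw [mxi_apply]
    by_cases hij : i = j
    · subst hij
      rw [xi_apply_same, Pi.single_eq_same, PowerSeries.order_mul, PowerSeries.order_X]
      exact le_self_add
    · rw [Pi.single_eq_of_ne hij]
      simp
  · intro h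
    have hj := h j
    rw [Pi.single_eq_same] at hj
    obtain ⟨w, hw⟩ := X_pow_dvd_of_le_order (f j) 1 hj
    rw [pow_one] at hw
    refine ⟨Function.update f j w, ?_⟩
    rw [mxi_apply]
    funext i
    by_cases hij : i = j
    · subst hij
      rw [xi_apply_same, Function.update_self, hw]
    · rw [xi_apply_ne j _ hij, Function.update_of_ne hij]

theorem finite_quot_range (j : Fin s) :
    Module.Finite k ((Fin s → PowerSeries k) ⧸ LinearMap.range (mxi (k := k) j)) := by
  rw [range_mxi]
  exact finite_quot_Fil _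

theorem finrank_quot_range (j : Fin s) :
    Module.finrank k ((Fin s → PowerSeries k) ⧸ LinearMap.range (mxi (k := k) j)) = 1 := by
  rw [range_mxi, finrank_quot_Fil]
  simp

/-- L1 -/
noncomputable def e2 (j : Fin s) (IP JP : Submodule k (Fin s → PowerSeries k))
    (h : JP = IP.map (mxi j)) :
    ((Fin s → PowerSeries k) ⧸ IP) ≃ₗ[k] ↥((LinearMap.range (mxi (k := k) j)).map JP.mkQ) := by
  have hker : LinearMap.ker (JP.mkQ ∘ₗ mxi j) = IP := by
    ext x
    rw [LinearMap.mem_ker, LinearMap.comp_apply, Submodule.mkQ_apply, Submodule.Quotient.mk_eq_zero,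
      h, Submodule.mem_map]
    constructor
    · rintro ⟨y, hy, hyx⟩
      rw [← mxi_injective j hyx]
      exact hy
    · intro hx
      exact ⟨x, hx, rfl⟩
  have hrange : LinearMap.range (JP.mkQ ∘ₗ mxi j) = (LinearMap.range (mxi (k := k) j)).map JP.mkQ :=
    LinearMap.range_comp _ _
  exact (Submodule.quotEquivOfEq _ _ hker.symm) ≪≫ₗ (JP.mkQ ∘ₗ mxi j).quotKerEquivRange ≪≫ₗ
    (LinearEquiv.ofEq _ _ hrange)

theorem L2 (j : Fin s) (IP JP : Submodule k (Fin s → PowerSeries k)) (h : JP = IP.map (mxi j))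
    [Module.Finite k ((Fin s → PowerSeries k) ⧸ JP)] :
    Module.finrank k ((Fin s → PowerSeries k) ⧸ JP) =
      1 + Module.finrank k ((Fin s → PowerSeries k) ⧸ IP) := by
  have hle : JP ≤ LinearMap.range (mxi (k := k) j) := by
    rw [h]
    rintro _ ⟨y, _, rfl⟩
    exact ⟨y, rfl⟩
  have c1 := chain JP (LinearMap.range (mxi (k := k) j)) hle
  rw [finrank_quot_range, ← (e2 j IP JP h).finrank_eq] at c1
  exact c1

theorem L3 (j : Fin s) (IP JP : Submodule k (Fin s → PowerSeries k)) (h : JP = IP.map (mxi j))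
    [Module.Finite k ((Fin s → PowerSeries k) ⧸ IP)] :
    Module.Finite k ((Fin s → PowerSeries k) ⧸ JP) := by
  have hle : JP ≤ LinearMap.range (mxi (k := k) j) := by
    rw [h]
    rintro _ ⟨y, _, rfl⟩
    exact ⟨y, rfl⟩
  have hN : Module.Finite k ↥((LinearMap.range (mxi (k := k) j)).map JP.mkQ) :=
    Module.Finite.equiv (e2 j IP JP h)
  have hfr := finite_quot_range (k := k) j
  have hQ : Module.Finite k (((Fin s → PowerSeries k) ⧸ JP) ⧸
      (LinearMap.range (mxi (k := k) j)).map JP.mkQ) :=
    Module.Finite.equiv (Submodule.quotientQuotientEquivQuotient JP _ hle).symm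
  exact Module.Finite.of_submodule_quotient ((LinearMap.range (mxi (k := k) j)).map JP.mkQ)

theorem L3' (j : Fin s) (IP JP : Submodule k (Fin s → PowerSeries k)) (h : JP = IP.map (mxi j))
    [Module.Finite k ((Fin s → PowerSeries k) ⧸ JP)] :
    Module.Finite k ((Fin s → PowerSeries k) ⧸ IP) :=
  Module.Finite.equiv (e2 j IP JP h).symm

variable (R : Subalgebra k (Fin s → PowerSeries k))

/-- the `k`-subspace of the product underlying an ideal of `R` -/
noncomputable def IPof (I : Ideal ↥R) : Submodule k (Fin s → PowerSeries k) :=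
  (I.restrictScalars k).map R.val.toLinearMap

theorem mem_IPof (I : Ideal ↥R) (x : Fin s → PowerSeries k) :
    x ∈ IPof R I ↔ ∃ y : ↥R, y ∈ I ∧ (y : Fin s → PowerSeries k) = x := by
  unfold IPof
  rw [Submodule.mem_map]
  constructor
  · rintro ⟨y, hy, rfl⟩
    exact ⟨y, hy, rfl⟩
  · rintro ⟨y, hy, rfl⟩
    exact ⟨y, hy, rfl⟩

theorem IPof_le (I : Ideal ↥R) : IPof R I ≤ Subalgebra.toSubmodule R := by
  intro x hx
  obtain ⟨y, _, rfl⟩ := (mem_IPof R I x).mp hx
  exact y.2

/-- `R / I` as the image of `R` in `P / I_P` -/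
noncomputable def e1 (I : Ideal ↥R) :
    (↥R ⧸ I) ≃ₗ[k] ↥((Subalgebra.toSubmodule R).map (IPof R I).mkQ) := by
  have hker : LinearMap.ker ((IPof R I).mkQ ∘ₗ R.val.toLinearMap) = I.restrictScalars k := by
    ext x
    rw [LinearMap.mem_ker, LinearMap.comp_apply, Submodule.mkQ_apply, Submodule.Quotient.mk_eq_zero,
      mem_IPof]
    constructor
    · rintro ⟨y, hy, hyx⟩
      have hyx' : y = x := Subtype.ext hyx
      rw [← hyx']
      exact hy
    · intro hx
      exact ⟨x, hx, rfl⟩
  have hrange : LinearMap.range ((IPof R I).mkQ ∘ₗ R.val.toLinearMap) =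
      (Subalgebra.toSubmodule R).map (IPof R I).mkQ := by
    rw [LinearMap.range_comp]
    congr 1
    ext x
    constructor
    · rintro ⟨y, rfl⟩
      exact y.2
    · intro hx
      exact ⟨⟨x, hx⟩, rfl⟩
  exact (Submodule.Quotient.restrictScalarsEquiv k I).symm ≪≫ₗ
      (Submodule.quotEquivOfEq _ _ hker.symm) ≪≫ₗ
      ((IPof R I).mkQ ∘ₗ R.val.toLinearMap).quotKerEquivRange ≪≫ₗ
      (LinearEquiv.ofEq _ _ hrange)

theorem L4a (hfin : Module.Finite k ((Fin s → PowerSeries k) ⧸ Subalgebra.toSubmodule R))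
    (I : Ideal ↥R) [Module.Finite k (↥R ⧸ I)] :
    Module.Finite k ((Fin s → PowerSeries k) ⧸ IPof R I) := by
  have hN : Module.Finite k ↥((Subalgebra.toSubmodule R).map (IPof R I).mkQ) :=
    Module.Finite.equiv (e1 R I)
  have hQ : Module.Finite k (((Fin s → PowerSeries k) ⧸ IPof R I) ⧸
      (Subalgebra.toSubmodule R).map (IPof R I).mkQ) :=
    Module.Finite.equiv (Submodule.quotientQuotientEquivQuotient (IPof R I) _ (IPof_le R I)).symm
  exact Module.Finite.of_submodule_quotient ((Subalgebra.toSubmodule R).map (IPof R I).mkQ)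

theorem L4b (I : Ideal ↥R) [Module.Finite k ((Fin s → PowerSeries k) ⧸ IPof R I)] :
    Module.Finite k (↥R ⧸ I) :=
  Module.Finite.equiv (e1 R I).symm

theorem L4c (I : Ideal ↥R) [Module.Finite k ((Fin s → PowerSeries k) ⧸ IPof R I)] :
    Module.finrank k ((Fin s → PowerSeries k) ⧸ IPof R I) =
      Module.finrank k ((Fin s → PowerSeries k) ⧸ Subalgebra.toSubmodule R) +
        Module.finrank k (↥R ⧸ I) := by
  have c1 := chain (IPof R I) (Subalgebra.toSubmodule R) (IPof_le R I)
  rw [← (e1 R I).finrank_eq] at c1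
  exact c1

/-- the branch maps -/
noncomputable abbrev br (i : Fin s) : ↥R →ₐ[k] PowerSeries k :=
  (Pi.evalAlgHom k (fun _ : Fin s => PowerSeries k) i).comp R.val

theorem br_apply (i : Fin s) (r : ↥R) : br R i r = (r : Fin s → PowerSeries k) i := rfl

/-- the pair lemma -/
theorem pair (hfin : Module.Finite k ((Fin s → PowerSeries k) ⧸ Subalgebra.toSubmodule R))
    (j : Fin s) (I J : Ideal ↥R)
    (hIJ : ∀ x : Fin s → PowerSeries k, (∃ g : ↥R, g ∈ J ∧ (g : Fin s → PowerSeries k) = x) ↔
      ∃ f : ↥R, f ∈ I ∧ Pi.mulSingle j (PowerSeries.X : PowerSeries k) * (f : Fin s → PowerSeries k) = x) :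
    (∀ i, i ≠ j → Ideal.map (br R i) J = Ideal.map (br R i) I) ∧
    (Ideal.map (br R j) J = Ideal.span {(PowerSeries.X : PowerSeries k)} * Ideal.map (br R j) I) ∧
    (Module.Finite k (↥R ⧸ I) ↔ Module.Finite k (↥R ⧸ J)) ∧
    (Module.Finite k (↥R ⧸ I) → Module.finrank k (↥R ⧸ J) = Module.finrank k (↥R ⧸ I) + 1) := by
  have hP : IPof R J = (IPof R I).map (mxi j) := by
    ext x
    rw [mem_IPof, Submodule.mem_map, hIJ]
    constructor
    · rintro ⟨f, hf, rfl⟩
      exact ⟨f, (mem_IPof R I _).mpr ⟨f, hf, rfl⟩, rfl⟩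
    · rintro ⟨y, hy, rfl⟩
      obtain ⟨f, hf, rfl⟩ := (mem_IPof R I y).mp hy
      exact ⟨f, hf, rfl⟩
  refine ⟨?_, ?_, ?_, ?_⟩
  · intro i hij
    change Ideal.span (br R i '' (J : Set ↥R)) = Ideal.span (br R i '' (I : Set ↥R))
    congr 1
    ext x
    constructor
    · rintro ⟨g, hg, rfl⟩
      obtain ⟨f, hf, hfg⟩ := (hIJ _).mp ⟨g, hg, rfl⟩
      refine ⟨f, hf, ?_⟩
      rw [br_apply, br_apply, ← hfg, xi_apply_ne j _ hij]
    · rintro ⟨f, hf, rfl⟩
      obtain ⟨g, hg, hgf⟩ := (hIJ _).mpr ⟨f, hf, rfl⟩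
      refine ⟨g, hg, ?_⟩
      rw [br_apply, br_apply, hgf, xi_apply_ne j _ hij]
  · change Ideal.span (br R j '' (J : Set ↥R)) = Ideal.span {(PowerSeries.X : PowerSeries k)} *
      Ideal.span (br R j '' (I : Set ↥R))
    rw [Ideal.span_mul_span', Set.singleton_mul]
    congr 1
    ext x
    constructor
    · rintro ⟨g, hg, rfl⟩
      obtain ⟨f, hf, hfg⟩ := (hIJ _).mp ⟨g, hg, rfl⟩
      refine ⟨br R j f, ⟨f, hf, rfl⟩, ?_⟩
      rw [br_apply, br_apply, ← hfg, xi_apply_same]
    · rintro ⟨_, ⟨f, hf, rfl⟩, rfl⟩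
      obtain ⟨g, hg, hgf⟩ := (hIJ _).mpr ⟨f, hf, rfl⟩
      refine ⟨g, hg, ?_⟩
      rw [br_apply, br_apply, hgf, xi_apply_same]
  · constructor
    · intro hI
      have h1 := L4a R hfin I
      have h2 := L3 j (IPof R I) (IPof R J) hP
      exact L4b R J
    · intro hJ
      have h1 := L4a R hfin J
      have h2 := L3' j (IPof R I) (IPof R J) hP
      exact L4b R I
  · intro hI
    have h1 := L4a R hfin I
    have h2 := L3 j (IPof R I) (IPof R J) hP
    have a1 := L4c R I
    have a2 := L4c R J
    have a3 := L2 j (IPof R I) (IPof R J) hP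
    omega

/-- conductor membership -/
theorem mem_R_of_order (c : Fin s → ℕ)
    (hc : ∀ f : Fin s → PowerSeries k,
      (∀ g : Fin s → PowerSeries k, g * f ∈ R) ↔ ∀ i, ((c i : ℕ) : ℕ∞) ≤ (f i).order)
    (f : Fin s → PowerSeries k) (hf : ∀ i, ((c i : ℕ) : ℕ∞) ≤ (f i).order) : f ∈ R := by
  have := (hc f).mpr hf 1
  rwa [one_mul] at this

theorem single_mem_R (c : Fin s → ℕ)
    (hc : ∀ f : Fin s → PowerSeries k,
      (∀ g : Fin s → PowerSeries k, g * f ∈ R) ↔ ∀ i, ((c i : ℕ) : ℕ∞) ≤ (f i).order)
    (j : Fin s) (w : PowerSeries k) (hw : ((c j : ℕ) : ℕ∞) ≤ w.order) :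
    (Pi.single j w : Fin s → PowerSeries k) ∈ R := by
  apply mem_R_of_order R c hc
  intro i
  by_cases hij : i = j
  · subst hij
    rw [Pi.single_eq_same]
    exact hw
  · rw [Pi.single_eq_of_ne hij, PowerSeries.order_zero]
    exact le_top

theorem xi_mul_eq (j : Fin s) (f : Fin s → PowerSeries k) :
    Pi.mulSingle j (PowerSeries.X : PowerSeries k) * f =
      f + Pi.single j ((PowerSeries.X - 1) * f j) := by
  funext i
  by_cases hij : i = j
  · subst hij
    rw [xi_apply_same, Pi.add_apply, Pi.single_eq_same]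
    ring
  · rw [xi_apply_ne j f hij, Pi.add_apply, Pi.single_eq_of_ne hij, add_zero]

end helpers

open Groth.Agent.S15148

/-- Let k be a field, s a natural number and R a k-subalgebra of the product of s copies of the power
series ring k[[x]], of finite codimension δ over k and local with residue field k (all components of
an element of R have the same constant term); write v_i for the x-adic order of the i-th component
of an s-tuple, and let c = (c_1, …, c_s) be the conductor exponents, so that an s-tuple f satisfies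
f·g ∈ R for every s-tuple g exactly when v_i(f) ≥ c_i for all i (over an algebraically closed field
such an R is precisely the completed local ring of a reduced curve singularity having s branches
sitting inside its normalisation, δ is its delta invariant and the conductor ideal is generated by
the x_i^{c_i}). Fix a branch j, a colength d and a branch-length vector a = (a_1, …, a_s) with a_j ≥
c_j, and let ξ be the s-tuple with x in the j-th place and 1 elsewhere. Call an ideal I of R of type
(d, a) when it has colength d and, for every i, the ideal of k[[x]] generated by the i-th components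
of its elements is (x^{a_i}). Then multiplication by ξ is a bijection from the ideals of type (d, a)
onto the ideals of type (d + 1, a + e_j), where a + e_j is a with its j-th entry raised by one: for
every ideal I of type (d, a) the set ξ·I is (the image of) an ideal of type (d + 1, a + e_j), and
every ideal of type (d + 1, a + e_j) is ξ·I for some ideal I of type (d, a). (The published
statement is the equality, in the Grothendieck ring of varieties, of the classes of the two
corresponding branch-length strata of the punctual Hilbert scheme; this row states the bijection on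
ideals underlying it, which is what the argument establishes; the published statement is over an
algebraically closed field, and this row allows any field.) -/
theorem result (k : Type u) [Field k] (s : ℕ)
    (R : Subalgebra k (Fin s → PowerSeries k))
    (hfin : Module.Finite k ((Fin s → PowerSeries k) ⧸ Subalgebra.toSubmodule R))
    (hloc : ∀ f ∈ R, ∀ i j : Fin s, PowerSeries.constantCoeff (f i) = PowerSeries.constantCoeff (f j))
    (c : Fin s → ℕ)
    (hc : ∀ f : Fin s → PowerSeries k,
      (∀ g : Fin s → PowerSeries k, g * f ∈ R) ↔ ∀ i, ((c i : ℕ) : ℕ∞) ≤ (f i).order)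
    (j : Fin s) (d : ℕ) (a : Fin s → ℕ) (hj : c j ≤ a j) :
    (∀ I ∈ {I : Ideal ↥R | Module.Finite k (↥R ⧸ I) ∧ Module.finrank k (↥R ⧸ I) = d ∧ (∀ i : Fin s, Ideal.map ((Pi.evalAlgHom k (fun _ : Fin s => PowerSeries k) i).comp R.val) I = Ideal.span {PowerSeries.X ^ (a i)})},
      ∃ J ∈ {I : Ideal ↥R | Module.Finite k (↥R ⧸ I) ∧ Module.finrank k (↥R ⧸ I) = d + 1 ∧ (∀ i : Fin s, Ideal.map ((Pi.evalAlgHom k (fun _ : Fin s => PowerSeries k) i).comp R.val) I = Ideal.span {PowerSeries.X ^ ((Function.update a j (a j + 1)) i)})},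
        (Subtype.val '' (J : Set ↥R)) = (fun f => Pi.mulSingle j PowerSeries.X * f) '' (Subtype.val '' (I : Set ↥R))) ∧
    (∀ J ∈ {I : Ideal ↥R | Module.Finite k (↥R ⧸ I) ∧ Module.finrank k (↥R ⧸ I) = d + 1 ∧ (∀ i : Fin s, Ideal.map ((Pi.evalAlgHom k (fun _ : Fin s => PowerSeries k) i).comp R.val) I = Ideal.span {PowerSeries.X ^ ((Function.update a j (a j + 1)) i)})},
      ∃ I ∈ {I : Ideal ↥R | Module.Finite k (↥R ⧸ I) ∧ Module.finrank k (↥R ⧸ I) = d ∧ (∀ i : Fin s, Ideal.map ((Pi.evalAlgHom k (fun _ : Fin s => PowerSeries k) i).comp R.val) I = Ideal.span {PowerSeries.X ^ (a i)})},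
        (Subtype.val '' (J : Set ↥R)) = (fun f => Pi.mulSingle j PowerSeries.X * f) '' (Subtype.val '' (I : Set ↥R))) := by
  classical
  have hset : ∀ (I J : Ideal ↥R),
      (∀ x : Fin s → PowerSeries k, (∃ g : ↥R, g ∈ J ∧ (g : Fin s → PowerSeries k) = x) ↔
        ∃ f : ↥R, f ∈ I ∧ Pi.mulSingle j (PowerSeries.X : PowerSeries k) *
          (f : Fin s → PowerSeries k) = x) →
      (Subtype.val '' (J : Set ↥R)) = (fun f => Pi.mulSingle j PowerSeries.X * f) ''
        (Subtype.val '' (I : Set ↥R)) := by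
    intro I J hIJ
    ext x
    constructor
    · rintro ⟨g, hg, rfl⟩
      obtain ⟨f, hf, hfg⟩ := (hIJ _).mp ⟨g, hg, rfl⟩
      exact ⟨f, ⟨f, hf, rfl⟩, hfg⟩
    · rintro ⟨_, ⟨f, hf, rfl⟩, rfl⟩
      obtain ⟨g, hg, hgx⟩ := (hIJ _).mpr ⟨f, hf, rfl⟩
      exact ⟨g, hg, hgx⟩
  refine ⟨?_, ?_⟩
  · -- forward
    rintro I ⟨hIfin, hId, hIa⟩
    have hbl := (Groth.Agent.Lib.Helper7.HilbZetaLib.branchLength_facts R I a hIa).1
    have hxiR : ∀ f : ↥R, f ∈ I →
        Pi.mulSingle j (PowerSeries.X : PowerSeries k) * (f : Fin s → PowerSeries k) ∈ R := by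
      intro f hf
      rw [xi_mul_eq]
      refine R.add_mem f.2 (single_mem_R R c hc j _ ?_)
      rw [PowerSeries.order_mul]
      exact le_trans (le_trans (by exact_mod_cast hj) (hbl f hf j)) le_add_self
    let J : Ideal ↥R :=
      { carrier := {r | ∃ f : ↥R, f ∈ I ∧ Pi.mulSingle j (PowerSeries.X : PowerSeries k) *
          (f : Fin s → PowerSeries k) = (r : Fin s → PowerSeries k)}
        zero_mem' := ⟨0, I.zero_mem, by simp⟩
        add_mem' := by
          rintro r r' ⟨f, hf, hfr⟩ ⟨f', hf', hfr'⟩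
          refine ⟨f + f', I.add_mem hf hf', ?_⟩
          rw [Subalgebra.coe_add, Subalgebra.coe_add, mul_add, hfr, hfr']
        smul_mem' := by
          rintro t r ⟨f, hf, hfr⟩
          refine ⟨t * f, I.mul_mem_left t hf, ?_⟩
          rw [smul_eq_mul, Subalgebra.coe_mul, Subalgebra.coe_mul, ← hfr]
          ring }
    have hIJ : ∀ x : Fin s → PowerSeries k, (∃ g : ↥R, g ∈ J ∧ (g : Fin s → PowerSeries k) = x) ↔
        ∃ f : ↥R, f ∈ I ∧ Pi.mulSingle j (PowerSeries.X : PowerSeries k) *
          (f : Fin s → PowerSeries k) = x := by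
      intro x
      constructor
      · rintro ⟨g, ⟨f, hf, hfg⟩, rfl⟩
        exact ⟨f, hf, hfg⟩
      · rintro ⟨f, hf, rfl⟩
        exact ⟨⟨_, hxiR f hf⟩, ⟨f, hf, rfl⟩, rfl⟩
    obtain ⟨p1, p2, p3, p4⟩ := pair R hfin j I J hIJ
    refine ⟨J, ⟨p3.mp hIfin, by rw [p4 hIfin, hId], ?_⟩, hset I J hIJ⟩
    intro i
    by_cases hij : i = j
    · subst hij
      rw [Function.update_self]
      change Ideal.map (br R i) J = _
      rw [p2, show Ideal.map (br R i) I = _ from hIa i, Ideal.span_singleton_mul_span_singleton,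
        pow_succ']
    · rw [Function.update_of_ne hij]
      exact (p1 i hij).trans (hIa i)
  · -- backward
    rintro J ⟨hJfin, hJd, hJa⟩
    have hblJ := (Groth.Agent.Lib.Helper7.HilbZetaLib.branchLength_facts R J
      (Function.update a j (a j + 1)) hJa).1
    let I : Ideal ↥R :=
      { carrier := {r | ∃ g : ↥R, g ∈ J ∧ Pi.mulSingle j (PowerSeries.X : PowerSeries k) *
          (r : Fin s → PowerSeries k) = (g : Fin s → PowerSeries k)}
        zero_mem' := ⟨0, J.zero_mem, by simp⟩
        add_mem' := by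
          rintro r r' ⟨g, hg, hgr⟩ ⟨g', hg', hgr'⟩
          refine ⟨g + g', J.add_mem hg hg', ?_⟩
          rw [Subalgebra.coe_add, Subalgebra.coe_add, mul_add, hgr, hgr']
        smul_mem' := by
          rintro t r ⟨g, hg, hgr⟩
          refine ⟨t * g, J.mul_mem_left t hg, ?_⟩
          rw [smul_eq_mul, Subalgebra.coe_mul, Subalgebra.coe_mul, ← hgr]
          ring }
    have hdiv : ∀ g : ↥R, g ∈ J → ∃ f : ↥R, Pi.mulSingle j (PowerSeries.X : PowerSeries k) *
        (f : Fin s → PowerSeries k) = (g : Fin s → PowerSeries k) := by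
      intro g hg
      have h1 := hblJ g hg j
      rw [Function.update_self] at h1
      obtain ⟨w, hw⟩ := Groth.Agent.Lib.Helper7.HilbZetaLib.X_pow_dvd_of_le_order _ _ h1
      have hmem : (Pi.single j ((PowerSeries.X : PowerSeries k) ^ (a j) * w -
          (g : Fin s → PowerSeries k) j) : Fin s → PowerSeries k) ∈ R := by
        apply single_mem_R R c hc
        have hd : (PowerSeries.X : PowerSeries k) ^ (a j) ∣
            ((PowerSeries.X : PowerSeries k) ^ (a j) * w - (g : Fin s → PowerSeries k) j) := by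
          rw [hw, pow_succ, mul_assoc]
          exact dvd_sub (dvd_mul_right _ _) (dvd_mul_right _ _)
        exact le_trans (by exact_mod_cast hj)
          (Groth.Agent.Lib.Helper7.HilbZetaLib.le_order_of_X_pow_dvd _ _ hd)
      refine ⟨⟨(g : Fin s → PowerSeries k) + Pi.single j ((PowerSeries.X : PowerSeries k) ^ (a j) * w -
          (g : Fin s → PowerSeries k) j), R.add_mem g.2 hmem⟩, ?_⟩
      funext i
      by_cases hij : i = j
      · subst hij
        rw [xi_apply_same]
        simp only [Pi.add_apply, Pi.single_eq_same]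
        rw [hw]
        ring
      · rw [xi_apply_ne j _ hij]
        simp [Pi.single_eq_of_ne hij]
    have hIJ : ∀ x : Fin s → PowerSeries k, (∃ g : ↥R, g ∈ J ∧ (g : Fin s → PowerSeries k) = x) ↔
        ∃ f : ↥R, f ∈ I ∧ Pi.mulSingle j (PowerSeries.X : PowerSeries k) *
          (f : Fin s → PowerSeries k) = x := by
      intro x
      constructor
      · rintro ⟨g, hg, rfl⟩
        obtain ⟨f, hf⟩ := hdiv g hg
        exact ⟨f, ⟨g, hg, hf⟩, hf⟩
      · rintro ⟨f, ⟨g, hg, hfg⟩, rfl⟩
        exact ⟨g, hg, hfg.symm⟩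
    obtain ⟨p1, p2, p3, p4⟩ := pair R hfin j I J hIJ
    have hIfin := p3.mpr hJfin
    have hfr := p4 hIfin
    refine ⟨I, ⟨hIfin, by omega, ?_⟩, hset I J hIJ⟩
    intro i
    by_cases hij : i = j
    · subst hij
      have hJi := hJa i
      rw [Function.update_self] at hJi
      change Ideal.map (br R i) J = _ at hJi
      rw [p2, pow_succ', ← Ideal.span_singleton_mul_span_singleton] at hJi
      exact (Ideal.span_singleton_mul_right_inj PowerSeries.X_ne_zero).mp hJi
    · have hJi := hJa i
      rw [Function.update_of_ne hij] at hJi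
      exact (p1 i hij).symm.trans hJi

end Groth.Agent.S15149
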