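import Groth.Statements.S15150
import Mathlib
import Groth.Agent.Lib.Helper45.FibreDim

set_option autoImplicit false
universe u
open HilbZeta

namespace Groth.Agent.S15150

open TensorProduct

/-- in a commutative algebra of dimension `≤ d` over a field, the `d`-th power of a nil ideal vanishes -/
theorem nil_pow_eq_bot {K B : Type*} [Field K] [CommRing B] [Algebra K B] [Module.Finite K B] (d : ℕ)
    (hd : Module.finrank K B ≤ d) (J : Ideal B) (hJ : J ≤ nilradical B) : J ^ d = ⊥ := by
  have hnoeth : IsNoetherianRing B := IsNoetherianRing.of_finite K B
  obtain ⟨N, hN⟩ : IsNilpotent J :=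
    (Ideal.FG.isNilpotent_iff_le_nilradical (IsNoetherian.noetherian J)).mpr hJ
  have hstab : ∀ k, J ^ (k + 1) = J ^ k → J ^ k = ⊥ := by
    intro k hk
    have h1 : ∀ n, J ^ (k + n) = J ^ k := by
      intro n
      induction n with
      | zero => rfl
      | succ n ih => rw [← add_assoc, pow_succ, ih, ← pow_succ, hk]
    rw [← h1 N, pow_add]
    change J ^ k * J ^ N = ⊥
    rw [hN]
    change J ^ k * ⊥ = ⊥
    exact Ideal.mul_bot _
  have key : ∀ k, J ^ k = ⊥ ∨ Module.finrank K ((J ^ k).restrictScalars K) + k ≤ d := by
    intro k
    induction k with
    | zero =>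
      right
      rw [pow_zero, Ideal.one_eq_top, add_zero]
      have : Module.finrank K ((⊤ : Ideal B).restrictScalars K) = Module.finrank K B := by
        rw [Submodule.restrictScalars_top]; exact finrank_top K B
      rw [this]; exact hd
    | succ k ih =>
      rcases ih with h0 | hk
      · left; rw [pow_succ, h0]; exact Ideal.bot_mul _
      · by_cases h1 : J ^ (k + 1) = ⊥
        · exact Or.inl h1
        · right
          have hle : J ^ (k + 1) ≤ J ^ k := Ideal.pow_le_pow_right (Nat.le_succ k)
          have hne : J ^ (k + 1) ≠ J ^ k := fun h => h1 (by rw [h]; exact hstab k h)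
          have hlt : (J ^ (k + 1)).restrictScalars K < (J ^ k).restrictScalars K := by
            refine lt_of_le_of_ne (fun x hx => hle hx) fun h => hne ?_
            exact Submodule.restrictScalars_injective K B B h
          have := Submodule.finrank_lt_finrank_of_lt hlt
          omega
  rcases key d with h | h
  · exact h
  · have h0 : Module.finrank K ((J ^ d).restrictScalars K) = 0 := by omega
    have := Submodule.finrank_eq_zero.mp h0
    exact Submodule.restrictScalars_injective K B B (by rw [this]; rfl)

end Groth.Agent.S15150

namespace Groth.Agent.S15150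

open TensorProduct

/-- Let A be a reduced commutative ring, S an A-algebra together with an A-algebra homomorphism π : S →
A (a section of Spec S → Spec A), with kernel m, and I an ideal of S such that S/I is a finite
projective A-module of constant rank d and m is contained in the radical of I (the finite flat
subscheme Spec S/I of degree d lies, as a set, on the section). Then m^d ⊆ I: the subscheme lies in
the (d−1)-st infinitesimal neighbourhood of the section. (The published statement is for a closed
subscheme, flat and proper of degree d over a Noetherian base, of a family of reduced curve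
singularities with a section, with no reducedness assumption on the base; over the dual numbers k[ε]
the ideal (x − ε) of k[ε][x] has quotient free of rank one and radical containing x but does not
contain x, so the base is taken reduced here, and the statement is given in its affine form, to
which the argument reduces at once; the curve hypotheses play no role and are dropped; the condition
that Spec S/I lies set-theoretically on the section, which the published argument deduces from
properness of Z inside the germ, is a hypothesis here.) -/
theorem result (A : Type u) [CommRing A] [IsReduced A]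
    (S : Type u) [CommRing S] [Algebra A S] (π : S →ₐ[A] A) (I : Ideal S) (d : ℕ)
    [Module.Finite A (S ⧸ I)] [Module.Projective A (S ⧸ I)]
    (hrank : ∀ p : PrimeSpectrum A, Module.rankAtStalk (R := A) (S ⧸ I) p = d)
    (hsupp : RingHom.ker π ≤ I.radical) :
    RingHom.ker π ^ d ≤ I := by
  classical
  intro z hz
  set T := S ⧸ I with hT
  rw [← Ideal.Quotient.eq_zero_iff_mem]
  -- dual basis
  obtain ⟨n, f, g, -, hginj, -⟩ := Module.Finite.exists_comp_eq_id_of_projective A T
  apply hginj
  rw [map_zero]
  ext i
  rw [Pi.zero_apply]
  -- the coordinate lies in every prime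
  have hnil : IsNilpotent (g (Ideal.Quotient.mk I z) i) := by
    rw [← mem_nilradical, nilradical_eq_sInf, Ideal.mem_sInf]
    intro p hp
    have hpp : p.IsPrime := hp
    let pp : PrimeSpectrum A := ⟨p, hpp⟩
    set κ := p.ResidueField with hκ
    -- the ring hom S → κ ⊗ T
    let ψ : S →+* κ ⊗[A] T :=
      (Algebra.TensorProduct.includeRight : T →ₐ[A] κ ⊗[A] T).toRingHom.comp (Ideal.Quotient.mk I)
    have hψ : ∀ x, ψ x = (1 : κ) ⊗ₜ[A] (Ideal.Quotient.mk I x) := fun x => rfl
    have hJ : (RingHom.ker π).map ψ ≤ nilradical (κ ⊗[A] T) := by
      rw [Ideal.map_le_iff_le_comap]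
      intro x hx
      obtain ⟨m, hm⟩ := hsupp hx
      rw [Ideal.mem_comap, mem_nilradical]
      refine ⟨m, ?_⟩
      rw [← map_pow, hψ, Ideal.Quotient.eq_zero_iff_mem.mpr hm, TensorProduct.tmul_zero]
    have hdim : Module.finrank κ (κ ⊗[A] T) ≤ d := by
      have h1 := Groth.Agent.Lib.Helper45.Fitting.fibreDim_eq_rankAtStalk (R := A) (M := T) pp
      rw [hrank pp] at h1
      exact h1.le
    have hpow := nil_pow_eq_bot (K := κ) d hdim _ hJ
    have hz0 : ψ z = 0 := by
      have : ψ z ∈ ((RingHom.ker π).map ψ) ^ d := by
        rw [← Ideal.map_pow]
        exact Ideal.mem_map_of_mem ψ hz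
      rw [hpow] at this
      exact this
    -- apply the functional
    let φ : T →ₗ[A] A := (LinearMap.proj i) ∘ₗ g
    have h2 : (φ.baseChange κ) ((1 : κ) ⊗ₜ[A] (Ideal.Quotient.mk I z)) = 0 := by
      rw [← hψ, hz0, map_zero]
    rw [LinearMap.baseChange_tmul] at h2
    have h3 : algebraMap A κ (φ (Ideal.Quotient.mk I z)) = 0 := by
      have := congrArg (TensorProduct.rid A κ) h2
      rw [TensorProduct.rid_tmul, map_zero] at this
      rw [Algebra.algebraMap_eq_smul_one]
      exact this
    exact Ideal.algebraMap_residueField_eq_zero.mp h3
  exact hnil.eq_zero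

end Groth.Agent.S15150
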