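import Groth.Statements.S15151
import Mathlib
-- import your own Groth.Agent.* helpers here

set_option autoImplicit false
universe u
open CategoryTheory AlgebraicGeometry
open HilbZeta

namespace Groth.Agent.S15151
open CategoryTheory AlgebraicGeometry Limits TopologicalSpace Topology Opposite


open scoped nonZeroDivisors in
lemma key {X Y S : Scheme.{u}} (f : X ⟶ Y) (g : Y ⟶ S) [QuasiCompact f] (hker : f.ker = ⊥)
    [Flat (f ≫ g)] (V : Y.affineOpens) (r : Γ(S, ⊤)) (hr : r ∈ Γ(S, ⊤)⁰) (b : Γ(Y, V.1))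
    (hrb : (g.appLE ⊤ V.1 le_top).hom r * b = 0) (hS : IsAffineOpen (⊤ : S.Opens)) : b = 0 := by
  have hinj : Function.Injective (f.app V.1).hom := by
    rw [RingHom.injective_iff_ker_eq_bot, ← Scheme.Hom.ker_apply, hker]
    rfl
  apply hinj
  rw [map_zero]
  apply X.IsSheaf.section_ext
  intro x hx
  obtain ⟨W, hW, hxW, hWV⟩ := Opens.isBasis_iff_nbhd.mp X.isBasis_affineOpens
    (show x ∈ f ⁻¹ᵁ V.1 from hx)
  refine ⟨W, hWV, hxW, ?_⟩
  rw [map_zero]
  have hflat : ((f ≫ g).appLE ⊤ W le_top).hom.Flat :=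
    Scheme.Hom.flat_appLE (f ≫ g) hS hW le_top
  have hres : X.presheaf.map (homOfLE hWV).op ((f.app V.1).hom b) = (f.appLE V.1 W hWV).hom b := by
    simp [Scheme.Hom.appLE]
  have hcomp : ((f ≫ g).appLE ⊤ W le_top).hom r = (f.appLE V.1 W hWV).hom ((g.appLE ⊤ V.1 le_top).hom r) := by
    rw [← Scheme.Hom.appLE_comp_appLE f g ⊤ V.1 W le_top hWV]
    rfl
  have h1 : ((f ≫ g).appLE ⊤ W le_top).hom r * (f.appLE V.1 W hWV).hom b = 0 := by
    rw [hcomp, ← map_mul, hrb, map_zero]
  rw [hres]
  algebraize [((f ≫ g).appLE ⊤ W le_top).hom]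
  have hreg : IsSMulRegular Γ(X, W) r := Module.Flat.isSMulRegular_of_nonZeroDivisors hr
  apply hreg
  show r • _ = r • (0 : Γ(X, W))
  rw [smul_zero, Algebra.smul_def]
  exact h1



/-- Let k be a field, and let f : X → Y and g : Y → Spec k[t] be morphisms of schemes with f
quasi-compact and with zero kernel ideal sheaf (Y is the scheme-theoretic image of f), such that the
composite X → Spec k[t] is flat. Then g is flat; in particular a k[t]-subalgebra of a flat
k[t]-algebra is flat. (The published statement has no quasi-compactness hypothesis on f and is over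
an algebraically closed field; this row assumes f quasi-compact and allows any field.) -/
theorem result (k : Type u) [Field k]
    (X Y : Scheme.{u}) (f : X ⟶ Y) (g : Y ⟶ Spec (CommRingCat.of (Polynomial k)))
    [QuasiCompact f] (hker : f.ker = ⊥) [Flat (f ≫ g)] : Flat g := by
  let e₀ : Γ(Spec (CommRingCat.of (Polynomial k)), ⊤) ≃+* Polynomial k :=
    (Scheme.ΓSpecIso (CommRingCat.of (Polynomial k))).commRingCatIsoToRingEquiv
  haveI : IsDomain Γ(Spec (CommRingCat.of (Polynomial k)), ⊤) := e₀.toMulEquiv.isDomain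
  haveI : IsPrincipalIdealRing Γ(Spec (CommRingCat.of (Polynomial k)), ⊤) :=
    IsPrincipalIdealRing.of_surjective e₀.symm.toRingHom e₀.symm.surjective
  rw [HasRingHomProperty.iff_of_iSup_eq_top (P := @Flat) (fun V : Y.affineOpens => V)
    (iSup_affineOpens_eq_top Y)]
  intro V
  algebraize [(g.appLE ⊤ V.1 le_top).hom]
  show Module.Flat Γ(Spec (CommRingCat.of (Polynomial k)), ⊤) Γ(Y, V.1)
  rw [Module.Flat.flat_iff_torsion_eq_bot_of_isBezout, eq_bot_iff]
  rintro b ⟨⟨r, hr⟩, hrb⟩
  rw [Submodule.mem_bot]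
  refine key f g hker V r hr b ?_ (isAffineOpen_top _)
  have h2 : r • b = 0 := hrb
  rw [Algebra.smul_def] at h2
  exact h2

end Groth.Agent.S15151
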