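import Groth.Statements.S15153
import Mathlib
import Groth.Agent.Lib.Helper45.FibreDim

set_option autoImplicit false
universe u
open TensorProduct
open HilbZeta

namespace Groth.Agent.S15153


open TensorProduct

/-- the range of a base change is spanned by the elements `1 ⊗ f s` -/
lemma range_baseChange_eq_span {A : Type*} [CommRing A] (κ : Type*) [CommRing κ] [Algebra A κ]
    {K K' : Type*} [AddCommGroup K] [Module A K] [AddCommGroup K'] [Module A K'] (f : K →ₗ[A] K') :
    LinearMap.range (f.baseChange κ) = Submodule.span κ (Set.range fun s : K => (1 : κ) ⊗ₜ[A] f s) := by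
  apply le_antisymm
  · rintro _ ⟨x, rfl⟩
    induction x using TensorProduct.induction_on with
    | zero => simp
    | tmul c s =>
      rw [LinearMap.baseChange_tmul]
      have : c ⊗ₜ[A] f s = c • ((1 : κ) ⊗ₜ[A] f s) := by rw [TensorProduct.smul_tmul', smul_eq_mul, mul_one]
      rw [this]
      exact Submodule.smul_mem _ _ (Submodule.subset_span ⟨s, rfl⟩)
    | add x y hx hy =>
      rw [map_add]
      exact Submodule.add_mem _ hx hy
  · rw [Submodule.span_le]
    rintro _ ⟨s, rfl⟩
    exact ⟨(1 : κ) ⊗ₜ[A] s, by rw [LinearMap.baseChange_tmul]⟩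

/-- key comparison over one field: the span of the endomorphisms of the fibre has the same dimension as the range
of the base change of `ψ : S → End(A^m)`, `ψ s = i ∘ (s•) ∘ r`. -/
lemma finrank_span_eq {A : Type*} [CommRing A] {S Q : Type*} [AddCommGroup S] [Module A S] [AddCommGroup Q] [Module A Q]
    (κ : Type*) [Field κ] [Algebra A κ] {m : ℕ}
    (μ : S →ₗ[A] (Q →ₗ[A] Q))
    (r : (Fin m → A) →ₗ[A] Q) (i : Q →ₗ[A] (Fin m → A)) (hri : r ∘ₗ i = LinearMap.id)
    (ψ : S →ₗ[A] ((Fin m → A) →ₗ[A] (Fin m → A))) (hψ : ∀ s, ψ s = i ∘ₗ μ s ∘ₗ r) :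
    Module.finrank κ (Submodule.span κ (Set.range fun s : S => LinearMap.baseChange κ (μ s))) =
      Module.finrank κ (LinearMap.range (ψ.baseChange κ)) := by
  have ib := Module.isBaseChange_map_of_finite_free (R := A) (Fin m → A) κ (Fin m)
  let e := ib.equiv
  let iκ := i.baseChange κ
  let rκ := r.baseChange κ
  have hriκ : rκ ∘ₗ iκ = LinearMap.id := by
    rw [← LinearMap.baseChange_comp, hri, LinearMap.baseChange_id]
  let T : (κ ⊗[A] Q →ₗ[κ] κ ⊗[A] Q) →ₗ[κ] ((κ ⊗[A] (Fin m → A)) →ₗ[κ] (κ ⊗[A] (Fin m → A))) :=
    { toFun := fun f => iκ ∘ₗ f ∘ₗ rκ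
      map_add' := fun f g => by rw [LinearMap.add_comp, LinearMap.comp_add]
      map_smul' := fun c f => by
        rw [LinearMap.smul_comp, LinearMap.comp_smul]; rfl }
  have hT : Function.Injective T := by
    intro f g hfg
    have h1 : iκ ∘ₗ f ∘ₗ rκ = iκ ∘ₗ g ∘ₗ rκ := hfg
    have h2 : rκ ∘ₗ (iκ ∘ₗ f ∘ₗ rκ) ∘ₗ iκ = rκ ∘ₗ (iκ ∘ₗ g ∘ₗ rκ) ∘ₗ iκ := by rw [h1]
    have e1 : ∀ f' : κ ⊗[A] Q →ₗ[κ] κ ⊗[A] Q, rκ ∘ₗ (iκ ∘ₗ f' ∘ₗ rκ) ∘ₗ iκ = f' := by
      intro f'
      have : rκ ∘ₗ (iκ ∘ₗ f' ∘ₗ rκ) ∘ₗ iκ = (rκ ∘ₗ iκ) ∘ₗ f' ∘ₗ (rκ ∘ₗ iκ) := by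
        simp only [LinearMap.comp_assoc]
      rw [this, hriκ, LinearMap.id_comp, LinearMap.comp_id]
    rwa [e1, e1] at h2
  have hmap : Submodule.map T (Submodule.span κ (Set.range fun s : S => LinearMap.baseChange κ (μ s))) =
      Submodule.map e.toLinearMap (LinearMap.range (ψ.baseChange κ)) := by
    rw [range_baseChange_eq_span, Submodule.map_span, Submodule.map_span, ← Set.range_comp, ← Set.range_comp]
    congr 2
    funext s
    simp only [Function.comp_apply]
    have h1 : e ((1 : κ) ⊗ₜ[A] ψ s) = (1 : κ) • LinearMap.baseChangeHom A κ _ _ (ψ s) := ib.equiv_tmul _ _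
    change iκ ∘ₗ LinearMap.baseChange κ (μ s) ∘ₗ rκ = e ((1 : κ) ⊗ₜ[A] ψ s)
    rw [h1, one_smul, LinearMap.baseChangeHom_apply, hψ, LinearMap.baseChange_comp, LinearMap.baseChange_comp]
  have h1 := (Submodule.equivMapOfInjective T hT
    (Submodule.span κ (Set.range fun s : S => LinearMap.baseChange κ (μ s)))).finrank_eq
  have h2 := (Submodule.equivMapOfInjective e.toLinearMap e.injective
    (LinearMap.range (ψ.baseChange κ))).finrank_eq
  rw [h1, h2, hmap]

/-- Let A be a Noetherian commutative ring, S a commutative A-algebra and Q an S-module which is finite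
and flat as an A-module. For a prime p of A with residue field κ(p), multiplication by an element of
S induces a κ(p)-linear endomorphism of the fibre κ(p) ⊗_A Q; let φ(p) be the κ(p)-dimension of the
span of these endomorphisms, which is the colength of the annihilator of the fibre module κ(p) ⊗_A Q
in the fibre algebra κ(p) ⊗_A S (the length of the smallest subscheme of the fibre carrying it).
Then p ↦ φ(p) is a constructible function: for every n the primes with φ(p) = n form a constructible
subset of Spec A. (The published statement is for a coherent sheaf, flat and finite over a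
Noetherian base, on a family of reduced curve singularities with a section, and its function of the
base point is this colength; the curve hypotheses play no role and the row is the affine form over
any Noetherian ring.) -/
theorem result (A : Type u) [CommRing A] [IsNoetherianRing A]
    (S : Type u) [CommRing S] [Algebra A S]
    (Q : Type u) [AddCommGroup Q] [Module A Q] [Module S Q] [IsScalarTower A S Q]
    [Module.Finite A Q] [Module.Flat A Q] (n : ℕ) :
    Topology.IsConstructible {p : PrimeSpectrum A |
      Module.finrank p.asIdeal.ResidueField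
        (Submodule.span p.asIdeal.ResidueField
          (Set.range fun s : S =>
            LinearMap.baseChange p.asIdeal.ResidueField (DistribSMul.toLinearMap A Q s))) = n} := by
  classical
  open Groth.Agent.Lib.Helper45.Fitting in
  have hfp : Module.FinitePresentation A Q := Module.finitePresentation_of_finite A Q
  have hproj : Module.Projective A Q := Module.Flat.projective_of_finitePresentation
  obtain ⟨m, r, hr⟩ := Module.Finite.exists_fin' A Q
  obtain ⟨i, hi⟩ := Module.projective_lifting_property r LinearMap.id hr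
  let μ : S →ₗ[A] (Q →ₗ[A] Q) :=
    { toFun := fun s => DistribSMul.toLinearMap A Q s
      map_add' := fun s t => by ext q; simp [add_smul]
      map_smul' := fun a s => by ext q; simp }
  let ψ : S →ₗ[A] ((Fin m → A) →ₗ[A] (Fin m → A)) :=
    { toFun := fun s => i ∘ₗ μ s ∘ₗ r
      map_add' := fun s t => by rw [map_add, LinearMap.add_comp, LinearMap.comp_add]
      map_smul' := fun a s => by rw [map_smul, LinearMap.smul_comp, LinearMap.comp_smul]; rfl }
  let ρ : PrimeSpectrum A → ℕ := fun p =>
    Module.finrank p.asIdeal.ResidueField (LinearMap.range (ψ.baseChange p.asIdeal.ResidueField))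
  have hset : {p : PrimeSpectrum A |
      Module.finrank p.asIdeal.ResidueField
        (Submodule.span p.asIdeal.ResidueField
          (Set.range fun s : S =>
            LinearMap.baseChange p.asIdeal.ResidueField (DistribSMul.toLinearMap A Q s))) = n} =
      {p | ρ p = n} := by
    ext p
    simp only [Set.mem_setOf_eq, ρ]
    rw [← finrank_span_eq p.asIdeal.ResidueField μ r i hi ψ (fun s => rfl)]
    rfl
  rw [hset]
  have hconst : IsLocallyConstant (fibreDim A ((Fin m → A) →ₗ[A] (Fin m → A))) := by
    have : fibreDim A ((Fin m → A) →ₗ[A] (Fin m → A)) = fun _ => Module.finrank A ((Fin m → A) →ₗ[A] (Fin m → A)) :=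
      funext fun p => fibreDim_of_free p
    rw [this]
    exact IsLocallyConstant.const _
  have hlsc : LowerSemicontinuous ρ := lowerSemicontinuous_finrank_range ψ hconst
  rw [lowerSemicontinuous_iff_isOpen_preimage] at hlsc
  have hretro : ∀ U : Set (PrimeSpectrum A), IsRetrocompact U := fun U V _ _ =>
    TopologicalSpace.NoetherianSpace.isCompact _
  have hge : ∀ c : ℕ, Topology.IsConstructible {p | c ≤ ρ p} := by
    intro c
    rcases Nat.eq_zero_or_pos c with rfl | hc
    · simp
    · have : {p | c ≤ ρ p} = ρ ⁻¹' Set.Ioi (c - 1) := by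
        ext p
        simp only [Set.mem_setOf_eq, Set.mem_preimage, Set.mem_Ioi]
        omega
      rw [this]
      exact (hretro _).isConstructible (hlsc _)
  have : {p | ρ p = n} = {p | n ≤ ρ p} \ {p | n + 1 ≤ ρ p} := by
    ext p
    simp only [Set.mem_setOf_eq, Set.mem_diff]
    omega
  rw [this]
  exact (hge n).sdiff (hge (n + 1))

end Groth.Agent.S15153
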