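import Groth.Statements.S15159
import Mathlib
-- import your own Groth.Agent.* helpers here

set_option autoImplicit false
open CAlg

namespace Groth.Agent.S15159

section PRE
open Finset

lemma clamp_sum (m : ℤ) (M : ℕ) :
    ∑ t ∈ Finset.range M, ((if m ≤ -(t:ℤ) - 1 then (1:ℤ) else 0) + (if m ≤ (t:ℤ) then 1 else 0))
      = (M:ℤ) - max (-(M:ℤ)) (min m M) := by
  induction M with
  | zero => simp
  | succ k ih =>
    rw [Finset.sum_range_succ, ih]
    push_cast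
    split_ifs <;> omega

lemma layer (ι : Type) [Fintype ι] (d : ι → ℕ) (m : ι → ℤ)
    (h : ∀ t : ℕ, (∑ i ∈ Finset.univ.filter (fun i => m i ≤ -(t:ℤ) - 1), d i) +
      (∑ i ∈ Finset.univ.filter (fun i => m i ≤ (t:ℤ)), d i) ≤ ∑ i, d i) :
    ((∑ i, d i : ℕ) : ℤ) ≤ ∑ i, m i * (d i : ℤ) +
      (((∑ i ∈ Finset.univ.filter (fun i => m i ≤ -((0:ℕ):ℤ) - 1), d i) +
        (∑ i ∈ Finset.univ.filter (fun i => m i ≤ ((0:ℕ):ℤ)), d i) : ℕ) : ℤ) := by
  classical
  obtain ⟨M', hM'⟩ : ∃ M' : ℕ, ∀ i, -((M' : ℤ) + 1) ≤ m i ∧ m i ≤ (M' : ℤ) + 1 := by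
    refine ⟨∑ i, (m i).natAbs, fun i => ?_⟩
    have : (m i).natAbs ≤ ∑ j, (m j).natAbs :=
      Finset.single_le_sum (f := fun j => (m j).natAbs) (fun j _ => Nat.zero_le _) (Finset.mem_univ i)
    have h2 : ((m i).natAbs : ℤ) ≤ ((∑ j, (m j).natAbs : ℕ) : ℤ) := by exact_mod_cast this
    constructor <;> omega
  obtain ⟨f, hf⟩ : ∃ f : ℕ → ℕ, f = fun t : ℕ => (∑ i ∈ univ.filter (fun i => m i ≤ -(t:ℤ) - 1), d i) +
      (∑ i ∈ univ.filter (fun i => m i ≤ (t:ℤ)), d i) := ⟨_, rfl⟩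
  obtain ⟨n, hn⟩ : ∃ n : ℕ, n = ∑ i, d i := ⟨_, rfl⟩
  have hfn : ∀ t, f t ≤ n := by intro t; rw [hf, hn]; exact h t
  have hft : ∀ t : ℕ, (f t : ℤ) = ∑ i, (d i : ℤ) * ((if m i ≤ -(t:ℤ) - 1 then (1:ℤ) else 0) +
      (if m i ≤ (t:ℤ) then 1 else 0)) := by
    intro t
    rw [hf]
    push_cast
    rw [Finset.sum_filter, Finset.sum_filter, ← Finset.sum_add_distrib]
    refine Finset.sum_congr rfl (fun i _ => ?_)
    split_ifs <;> ring
  have htot : ∑ t ∈ Finset.range (M' + 1), (f t : ℤ) =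
      ((M' : ℤ) + 1) * n - ∑ i, m i * (d i : ℤ) := by
    simp_rw [hft]
    rw [Finset.sum_comm]
    simp_rw [← Finset.mul_sum, clamp_sum]
    rw [hn]
    push_cast
    rw [Finset.mul_sum, ← Finset.sum_sub_distrib]
    refine Finset.sum_congr rfl (fun i _ => ?_)
    have h1 := (hM' i).1
    have h2 := (hM' i).2
    have : max (-((M' : ℤ) + 1)) (min (m i) ((M' : ℤ) + 1)) = m i := by
      rw [min_eq_left h2, max_eq_right h1]
    rw [this]; ring
  have hle : ∑ t ∈ Finset.range (M' + 1), (f t : ℤ) ≤ (f 0 : ℤ) + M' * n := by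
    rw [Finset.sum_range_succ']
    have : ∑ t ∈ Finset.range M', (f (t+1) : ℤ) ≤ ∑ t ∈ Finset.range M', (n : ℤ) :=
      Finset.sum_le_sum (fun t _ => by exact_mod_cast hfn (t+1))
    rw [Finset.sum_const, Finset.card_range, nsmul_eq_mul] at this
    linarith
  have hf0 : (f 0 : ℤ) = (((∑ i ∈ Finset.univ.filter (fun i => m i ≤ -((0:ℕ):ℤ) - 1), d i) +
        (∑ i ∈ Finset.univ.filter (fun i => m i ≤ ((0:ℕ):ℤ)), d i) : ℕ) : ℤ) := by
    rw [hf]
  rw [← hn, ← hf0]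
  linarith


section lin
variable {W : Type} [AddCommGroup W] [Module ℂ W]
  {H : Type} [AddCommGroup H] [Module ℂ H] [FiniteDimensional ℂ H]
  (q : H →ₗ[ℂ] H →ₗ[ℂ] W)

/-- orthogonal of a subspace with respect to `q` -/
def perp (V : Submodule ℂ H) : Submodule ℂ H := ⨅ (y : H) (_ : y ∈ V), LinearMap.ker (q.flip y)

lemma mem_perp (V : Submodule ℂ H) (x : H) : x ∈ perp q V ↔ ∀ y ∈ V, q x y = 0 := by
  simp [perp, Submodule.mem_iInf]

variable {ι : Type} [Fintype ι] [DecidableEq ι] (Hs : ι → Submodule ℂ H)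

lemma fr (hind : iSupIndep Hs) (S : Finset ι) :
    Module.finrank ℂ ↥(⨆ i ∈ S, Hs i) = ∑ i ∈ S, Module.finrank ℂ (Hs i) := by
  classical
  induction S using Finset.induction_on with
  | empty => simp
  | insert a S ha ih =>
    rw [Finset.iSup_insert, Finset.sum_insert ha, ← ih]
    have hdis : Disjoint (Hs a) (⨆ i ∈ S, Hs i) := by
      have := hind.disjoint_biSup (x := a) (y := (S : Set ι)) (by simpa using ha)
      simpa using this
    have := Submodule.finrank_sup_add_finrank_inf_eq (Hs a) (⨆ i ∈ S, Hs i)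
    rw [hdis.eq_bot, finrank_bot, add_zero] at this
    exact this

lemma vanish (S T : Finset ι)
    (h : ∀ i ∈ S, ∀ j ∈ T, ∀ x ∈ Hs i, ∀ y ∈ Hs j, q x y = 0) :
    (⨆ i ∈ S, Hs i) ≤ perp q (⨆ j ∈ T, Hs j) := by
  refine iSup₂_le (fun i hi x hx => ?_)
  rw [mem_perp]
  intro y hy
  have : (⨆ j ∈ T, Hs j) ≤ LinearMap.ker (q x) :=
    iSup₂_le (fun j hj y hy => LinearMap.mem_ker.2 (h i hi j hj x hx y hy))
  exact LinearMap.mem_ker.1 (this hy)

lemma sum_eq (hint : DirectSum.IsInternal Hs) :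
    ∑ i, Module.finrank ℂ (Hs i) = Module.finrank ℂ H := by
  rw [← fr Hs hint.submodule_iSupIndep Finset.univ]
  have : (⨆ i ∈ (Finset.univ : Finset ι), Hs i) = ⊤ := by
    simpa using hint.submodule_iSup_eq_top
  rw [this, finrank_top]

lemma term_aux (hint : DirectSum.IsInternal Hs) (m : ι → ℤ)
    (hvan : ∀ i j, m i + m j < 0 → ∀ x ∈ Hs i, ∀ y ∈ Hs j, q x y = 0) (t : ℕ) :
    (∀ x ∈ (⨆ i ∈ Finset.univ.filter (fun i => m i ≤ -(t:ℤ) - 1), Hs i),
      ∀ y ∈ (⨆ i ∈ Finset.univ.filter (fun i => m i ≤ -(t:ℤ) - 1), Hs i), q x y = 0) ∧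
    (∑ i ∈ Finset.univ.filter (fun i => m i ≤ -(t:ℤ) - 1), Module.finrank ℂ (Hs i)) +
      (∑ i ∈ Finset.univ.filter (fun i => m i ≤ (t:ℤ)), Module.finrank ℂ (Hs i)) ≤
      Module.finrank ℂ ↥(⨆ i ∈ Finset.univ.filter (fun i => m i ≤ -(t:ℤ) - 1), Hs i) +
      Module.finrank ℂ ↥(perp q (⨆ i ∈ Finset.univ.filter (fun i => m i ≤ -(t:ℤ) - 1), Hs i)) := by
  have hind := hint.submodule_iSupIndep
  constructor
  · intro x hx y hy
    have h1 := vanish q Hs (Finset.univ.filter (fun i => m i ≤ -(t:ℤ) - 1))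
      (Finset.univ.filter (fun i => m i ≤ -(t:ℤ) - 1)) (by
        intro i hi j hj
        rw [Finset.mem_filter] at hi hj
        exact hvan i j (by have := hi.2; have := hj.2; omega))
    exact (mem_perp q _ x).1 (h1 hx) y hy
  · rw [← fr Hs hind, ← fr Hs hind]
    have h1 := vanish q Hs (Finset.univ.filter (fun i => m i ≤ (t:ℤ)))
      (Finset.univ.filter (fun i => m i ≤ -(t:ℤ) - 1)) (by
        intro i hi j hj
        rw [Finset.mem_filter] at hi hj
        exact hvan i j (by have := hi.2; have := hj.2; omega))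
    have := Submodule.finrank_mono h1
    omega

lemma term_le (hint : DirectSum.IsInternal Hs) (m : ι → ℤ)
    (hvan : ∀ i j, m i + m j < 0 → ∀ x ∈ Hs i, ∀ y ∈ Hs j, q x y = 0)
    (hL : ∀ V : Submodule ℂ H, V ≠ ⊥ → (∀ x ∈ V, ∀ y ∈ V, q x y = 0) →
        Module.finrank ℂ V + Module.finrank ℂ ↥(perp q V) ≤ Module.finrank ℂ H) (t : ℕ) :
    (∑ i ∈ Finset.univ.filter (fun i => m i ≤ -(t:ℤ) - 1), Module.finrank ℂ (Hs i)) +
      (∑ i ∈ Finset.univ.filter (fun i => m i ≤ (t:ℤ)), Module.finrank ℂ (Hs i)) ≤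
      ∑ i, Module.finrank ℂ (Hs i) := by
  obtain ⟨h1, h2⟩ := term_aux q Hs hint m hvan t
  by_cases hbot : (⨆ i ∈ Finset.univ.filter (fun i => m i ≤ -(t:ℤ) - 1), Hs i) = ⊥
  · have h3 := fr Hs hint.submodule_iSupIndep (Finset.univ.filter (fun i => m i ≤ -(t:ℤ) - 1))
    rw [hbot, finrank_bot] at h3
    rw [← h3, zero_add]
    exact Finset.sum_le_sum_of_subset (Finset.filter_subset _ _)
  · have := hL _ hbot h1
    rw [sum_eq Hs hint]
    omega


lemma fwd_semi (hq0 : q ≠ 0)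
    (hL : ∀ V : Submodule ℂ H, V ≠ ⊥ → (∀ x ∈ V, ∀ y ∈ V, q x y = 0) →
        Module.finrank ℂ V + Module.finrank ℂ ↥(perp q V) ≤ Module.finrank ℂ H)
    (m : ι → ℤ) (hint : DirectSum.IsInternal Hs)
    (hsum : (∑ i, m i * (Module.finrank ℂ (Hs i) : ℤ)) = 0) :
    ∃ i j, (∃ x ∈ Hs i, ∃ y ∈ Hs j, q x y ≠ 0) ∧ m i + m j ≤ 0 := by
  by_contra hcon
  have hcon' : ∀ i j, (∃ x ∈ Hs i, ∃ y ∈ Hs j, q x y ≠ 0) → 0 < m i + m j := by
    intro i j hP
    by_contra hle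
    exact hcon ⟨i, j, hP, by omega⟩
  have hvan : ∀ i j, (2 * m i - 1) + (2 * m j - 1) < 0 → ∀ x ∈ Hs i, ∀ y ∈ Hs j, q x y = 0 := by
    intro i j hij x hx y hy
    by_contra hne
    have := hcon' i j ⟨x, hx, y, hy, hne⟩
    omega
  have hlay := layer ι (fun i => Module.finrank ℂ (Hs i)) (fun i => 2 * m i - 1)
    (term_le q Hs hint (fun i => 2 * m i - 1) hvan hL)
  have h0 := term_le q Hs hint (fun i => 2 * m i - 1) hvan hL 0
  have hs : ∑ i, (2 * m i - 1) * (Module.finrank ℂ (Hs i) : ℤ) =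
      - ((∑ i, Module.finrank ℂ (Hs i) : ℕ) : ℤ) := by
    push_cast
    simp_rw [sub_mul, mul_assoc]
    rw [Finset.sum_sub_distrib, ← Finset.mul_sum, hsum]
    simp
  have hn0 : ∑ i, Module.finrank ℂ (Hs i) = 0 := by
    have h0' : (((∑ i ∈ Finset.univ.filter (fun i => 2 * m i - 1 ≤ -((0:ℕ):ℤ) - 1),
        Module.finrank ℂ (Hs i)) +
        (∑ i ∈ Finset.univ.filter (fun i => 2 * m i - 1 ≤ ((0:ℕ):ℤ)), Module.finrank ℂ (Hs i)) : ℕ) : ℤ)
        ≤ ((∑ i, Module.finrank ℂ (Hs i) : ℕ) : ℤ) := by exact_mod_cast h0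
    rw [hs] at hlay
    have : ((∑ i, Module.finrank ℂ (Hs i) : ℕ) : ℤ) ≤ 0 := by linarith
    exact_mod_cast le_antisymm this (by positivity)
  rw [sum_eq Hs hint] at hn0
  haveI : Subsingleton H := Module.finrank_zero_iff.1 hn0
  apply hq0
  ext x y
  rw [Subsingleton.elim x 0]
  simp

lemma fwd_stab
    (hL : ∀ V : Submodule ℂ H, V ≠ ⊥ → (∀ x ∈ V, ∀ y ∈ V, q x y = 0) →
        Module.finrank ℂ V + Module.finrank ℂ ↥(perp q V) < Module.finrank ℂ H)
    (m : ι → ℤ) (hint : DirectSum.IsInternal Hs)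
    (hsum : (∑ i, m i * (Module.finrank ℂ (Hs i) : ℤ)) = 0)
    (hex : ∃ i, m i ≠ 0 ∧ Hs i ≠ ⊥) :
    ∃ i j, (∃ x ∈ Hs i, ∃ y ∈ Hs j, q x y ≠ 0) ∧ m i + m j < 0 := by
  by_contra hcon
  have hcon' : ∀ i j, (∃ x ∈ Hs i, ∃ y ∈ Hs j, q x y ≠ 0) → 0 ≤ m i + m j := by
    intro i j hP
    by_contra hle
    exact hcon ⟨i, j, hP, by omega⟩
  have hvan : ∀ i j, m i + m j < 0 → ∀ x ∈ Hs i, ∀ y ∈ Hs j, q x y = 0 := by
    intro i j hij x hx y hy
    by_contra hne
    have := hcon' i j ⟨x, hx, y, hy, hne⟩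
    omega
  have hLw : ∀ V : Submodule ℂ H, V ≠ ⊥ → (∀ x ∈ V, ∀ y ∈ V, q x y = 0) →
      Module.finrank ℂ V + Module.finrank ℂ ↥(perp q V) ≤ Module.finrank ℂ H :=
    fun V h1 h2 => (hL V h1 h2).le
  have hlay := layer ι (fun i => Module.finrank ℂ (Hs i)) m (term_le q Hs hint m hvan hLw)
  rw [hsum, zero_add] at hlay
  have hlay' : ∑ i, Module.finrank ℂ (Hs i) ≤
      (∑ i ∈ Finset.univ.filter (fun i => m i ≤ -((0:ℕ):ℤ) - 1), Module.finrank ℂ (Hs i)) +
        (∑ i ∈ Finset.univ.filter (fun i => m i ≤ ((0:ℕ):ℤ)), Module.finrank ℂ (Hs i)) := by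
    exact_mod_cast hlay
  obtain ⟨h1, h2⟩ := term_aux q Hs hint m hvan 0
  have hind := hint.submodule_iSupIndep
  have hbot : (⨆ i ∈ Finset.univ.filter (fun i => m i ≤ -((0:ℕ):ℤ) - 1), Hs i) = ⊥ := by
    by_contra hne
    have := hL _ hne h1
    rw [← sum_eq Hs hint] at this
    omega
  obtain ⟨i, hmi, hHi⟩ := hex
  rcases lt_or_gt_of_ne hmi with hneg | hpos
  · apply hHi
    have : Hs i ≤ ⨆ i ∈ Finset.univ.filter (fun i => m i ≤ -((0:ℕ):ℤ) - 1), Hs i :=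
      le_biSup Hs (Finset.mem_filter.2 ⟨Finset.mem_univ _, by push_cast; omega⟩)
    rw [hbot] at this
    exact le_bot_iff.1 this
  · have h3 : ∑ i ∈ Finset.univ.filter (fun i => m i ≤ -((0:ℕ):ℤ) - 1), Module.finrank ℂ (Hs i) = 0 := by
      rw [← fr Hs hind, hbot, finrank_bot]
    have h5 := Finset.sum_filter_add_sum_filter_not Finset.univ (fun i => m i ≤ ((0:ℕ):ℤ))
      (fun i => Module.finrank ℂ (Hs i))
    have h6 : ∑ i ∈ Finset.univ.filter (fun i => ¬ m i ≤ ((0:ℕ):ℤ)), Module.finrank ℂ (Hs i) = 0 := by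
      omega
    have h7 := (Finset.sum_eq_zero_iff.1 h6) i
      (Finset.mem_filter.2 ⟨Finset.mem_univ _, by push_cast; omega⟩)
    exact hHi (Submodule.finrank_eq_zero.1 h7)

end lin

section bwd
variable {W : Type} [AddCommGroup W] [Module ℂ W]
  {H : Type} [AddCommGroup H] [Module ℂ H] [FiniteDimensional ℂ H]
  (s : W →ₗ[ℂ] W)
  (q : H →ₗ[ℂ] H →ₗ[ℂ] W) (hq : ∀ x y : H, q x y = s (q y x))

lemma three_internal (V V' V'' U : Submodule ℂ H) (h1 : Disjoint V V') (h2 : V ⊔ V' = U)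
    (h3 : Disjoint U V'') (h4 : U ⊔ V'' = ⊤) :
    DirectSum.IsInternal ![V, V', V''] := by
  apply DirectSum.isInternal_submodule_of_iSupIndep_of_iSup_eq_top
  · rw [iSupIndep_def]
    intro i
    fin_cases i
    · have : (⨆ (j : Fin 3) (_ : j ≠ 0), ![V, V', V''] j) ≤ V' ⊔ V'' := by
        refine iSup₂_le (fun j hj => ?_)
        fin_cases j
        · exact absurd rfl hj
        · exact le_sup_left
        · exact le_sup_right
      exact (Disjoint.disjoint_sup_right_of_disjoint_sup_left h1 (h2 ▸ h3)).mono_right this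
    · have : (⨆ (j : Fin 3) (_ : j ≠ 1), ![V, V', V''] j) ≤ V ⊔ V'' := by
        refine iSup₂_le (fun j hj => ?_)
        fin_cases j
        · exact le_sup_left
        · exact absurd rfl hj
        · exact le_sup_right
      have h3' : Disjoint (V' ⊔ V) V'' := by rw [sup_comm, h2]; exact h3
      exact (Disjoint.disjoint_sup_right_of_disjoint_sup_left h1.symm h3').mono_right this
    · have : (⨆ (j : Fin 3) (_ : j ≠ 2), ![V, V', V''] j) ≤ V ⊔ V' := by
        refine iSup₂_le (fun j hj => ?_)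
        fin_cases j
        · exact le_sup_left
        · exact le_sup_right
        · exact absurd rfl hj
      rw [h2] at this
      exact h3.symm.mono_right this
  · rw [iSup_fin_three]
    show V ⊔ V' ⊔ V'' = ⊤
    rw [h2, h4]

include hq in
lemma Pfacts (V V' V'' : Submodule ℂ H) (hiso : ∀ x ∈ V, ∀ y ∈ V, q x y = 0)
    (hV' : V' ≤ perp q V) (i j : Fin 3)
    (hP : ∃ x ∈ ![V, V', V''] i, ∃ y ∈ ![V, V', V''] j, q x y ≠ 0) :
    (i = 0 → j = 2) ∧ (j = 0 → i = 2) := by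
  obtain ⟨x, hx, y, hy, hxy⟩ := hP
  constructor
  · rintro rfl
    change x ∈ V at hx
    fin_cases j
    · change y ∈ V at hy
      exact absurd (hiso x hx y hy) hxy
    · change y ∈ V' at hy
      exfalso; apply hxy
      rw [hq, (mem_perp q V y).1 (hV' hy) x hx, map_zero]
    · rfl
  · rintro rfl
    change y ∈ V at hy
    fin_cases i
    · change x ∈ V at hx
      exact absurd (hiso x hx y hy) hxy
    · change x ∈ V' at hx
      exfalso; exact hxy ((mem_perp q V x).1 (hV' hx) y hy)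
    · rfl


lemma dims (V V' V'' : Submodule ℂ H) (U : Submodule ℂ H) (h1 : Disjoint V V') (h2 : V ⊔ V' = U)
    (h3 : Disjoint U V'') (h4 : U ⊔ V'' = ⊤) :
    Module.finrank ℂ V + Module.finrank ℂ V' = Module.finrank ℂ U ∧
    Module.finrank ℂ U + Module.finrank ℂ V'' = Module.finrank ℂ H := by
  constructor
  · have := Submodule.finrank_sup_add_finrank_inf_eq V V'
    rw [h1.eq_bot, finrank_bot, add_zero, h2] at this
    exact this.symm
  · have := Submodule.finrank_sup_add_finrank_inf_eq U V''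
    rw [h3.eq_bot, finrank_bot, add_zero, h4, finrank_top] at this
    exact this.symm

include hq in
lemma top_iso_zero (V : Submodule ℂ H) (hiso : ∀ x ∈ V, ∀ y ∈ V, q x y = 0)
    (h : Module.finrank ℂ V = Module.finrank ℂ H) : q = 0 := by
  have hV : V = ⊤ := Submodule.eq_top_of_finrank_eq h
  ext x y
  exact hiso x (hV ▸ Submodule.mem_top) y (hV ▸ Submodule.mem_top)

include hq in
lemma bwd_semi (hq0 : q ≠ 0)
    (hR : ∀ (ι : Type) [Fintype ι] [DecidableEq ι] (Hs : ι → Submodule ℂ H) (m : ι → ℤ),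
        DirectSum.IsInternal Hs → (∑ i, m i * (Module.finrank ℂ (Hs i) : ℤ)) = 0 →
        (∃ i, m i ≠ 0 ∧ Hs i ≠ ⊥) →
        ∃ i j, (∃ x ∈ Hs i, ∃ y ∈ Hs j, q x y ≠ 0) ∧ m i + m j ≤ 0)
    (V : Submodule ℂ H) (hV : V ≠ ⊥) (hiso : ∀ x ∈ V, ∀ y ∈ V, q x y = 0) :
    Module.finrank ℂ V + Module.finrank ℂ ↥(perp q V) ≤ Module.finrank ℂ H := by
  by_contra hlt
  have hVU : V ≤ perp q V := fun x hx => (mem_perp q V x).2 (fun y hy => hiso x hx y hy)
  obtain ⟨V', h1, h2⟩ := IsModularLattice.exists_disjoint_and_sup_eq hVU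
  obtain ⟨V'', h3, h4⟩ := IsModularLattice.exists_disjoint_and_sup_eq (le_top : perp q V ≤ ⊤)
  have hint := three_internal V V' V'' (perp q V) h1 h2 h3 h4
  obtain ⟨hab, huc⟩ := dims V V' V'' (perp q V) h1 h2 h3 h4
  have hV'U : V' ≤ perp q V := h2 ▸ le_sup_right
  obtain ⟨a, ha⟩ : ∃ a, a = Module.finrank ℂ V := ⟨_, rfl⟩
  obtain ⟨b, hb⟩ : ∃ b, b = Module.finrank ℂ V' := ⟨_, rfl⟩
  obtain ⟨c, hc⟩ : ∃ c, c = Module.finrank ℂ V'' := ⟨_, rfl⟩
  rw [← ha, ← hb] at hab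
  rw [← hc] at huc
  rw [← ha] at hlt
  have hapos : 0 < a := by
    rw [ha]; exact Nat.pos_of_ne_zero (fun h0 => hV (Submodule.finrank_eq_zero.1 h0))
  have hac : c < a := by omega
  have hbc : b + c * (b + 1) ≠ 0 := by
    intro h0
    have hb0 : b = 0 := by omega
    have hc0 : c = 0 := by
      rcases Nat.eq_zero_or_pos c with h | h
      · exact h
      · have : 0 < c * (b + 1) := Nat.mul_pos h (Nat.succ_pos _)
        omega
    exact hq0 (top_iso_zero s q hq V hiso (by omega))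
  have hN : (a:ℤ) - c ≥ 1 := by omega
  have hkey : (0:ℤ) < -((b:ℤ) + c * (b + 1)) + (a:ℤ) * (b + 1) := by nlinarith
  have ha' : (0:ℤ) < a := by exact_mod_cast hapos
  have hb' : (0:ℤ) ≤ b := by positivity
  have hc' : (0:ℤ) ≤ c := by positivity
  have hpos : ∀ i j : Fin 3, ((i = 0 → j = 2) ∧ (j = 0 → i = 2)) →
      0 < (![-((b:ℤ) + c * (b + 1)), (a:ℤ), (a:ℤ) * (b + 1)] : Fin 3 → ℤ) i +
        (![-((b:ℤ) + c * (b + 1)), (a:ℤ), (a:ℤ) * (b + 1)] : Fin 3 → ℤ) j := by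
    intro i j hij
    obtain ⟨g1, g2⟩ := hij
    fin_cases i <;> fin_cases j <;> simp at g1 g2 ⊢ <;> nlinarith
  have hsum0 : ∑ i, (![-((b:ℤ) + c * (b + 1)), (a:ℤ), (a:ℤ) * (b + 1)] : Fin 3 → ℤ) i *
      (Module.finrank ℂ ↥((![V, V', V''] : Fin 3 → Submodule ℂ H) i) : ℤ) = 0 := by
    rw [Fin.sum_univ_three]
    show -((b:ℤ) + c * (b + 1)) * (Module.finrank ℂ V : ℤ) + (a:ℤ) * (Module.finrank ℂ V' : ℤ) +
      (a:ℤ) * (b + 1) * (Module.finrank ℂ V'' : ℤ) = 0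
    rw [← ha, ← hb, ← hc]; ring
  obtain ⟨i, j, hP, hm⟩ := hR (Fin 3) ![V, V', V'']
    ![-((b:ℤ) + c * (b + 1)), (a:ℤ), (a:ℤ) * (b + 1)] hint hsum0
    ⟨0, by
      show -((b:ℤ) + c * (b + 1)) ≠ 0
      intro h0
      apply hbc
      have : ((b + c * (b + 1) : ℕ) : ℤ) = 0 := by push_cast; linarith
      exact_mod_cast this, hV⟩
  have := hpos i j (Pfacts s q hq V V' V'' hiso hV'U i j hP)
  omega


include hq in
lemma bwd_stab (hq0 : q ≠ 0)
    (hR : ∀ (ι : Type) [Fintype ι] [DecidableEq ι] (Hs : ι → Submodule ℂ H) (m : ι → ℤ),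
        DirectSum.IsInternal Hs → (∑ i, m i * (Module.finrank ℂ (Hs i) : ℤ)) = 0 →
        (∃ i, m i ≠ 0 ∧ Hs i ≠ ⊥) →
        ∃ i j, (∃ x ∈ Hs i, ∃ y ∈ Hs j, q x y ≠ 0) ∧ m i + m j < 0)
    (V : Submodule ℂ H) (hV : V ≠ ⊥) (hiso : ∀ x ∈ V, ∀ y ∈ V, q x y = 0) :
    Module.finrank ℂ V + Module.finrank ℂ ↥(perp q V) < Module.finrank ℂ H := by
  by_contra hlt
  have hVU : V ≤ perp q V := fun x hx => (mem_perp q V x).2 (fun y hy => hiso x hx y hy)
  obtain ⟨V', h1, h2⟩ := IsModularLattice.exists_disjoint_and_sup_eq hVU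
  obtain ⟨V'', h3, h4⟩ := IsModularLattice.exists_disjoint_and_sup_eq (le_top : perp q V ≤ ⊤)
  have hint := three_internal V V' V'' (perp q V) h1 h2 h3 h4
  obtain ⟨hab, huc⟩ := dims V V' V'' (perp q V) h1 h2 h3 h4
  have hV'U : V' ≤ perp q V := h2 ▸ le_sup_right
  obtain ⟨a, ha⟩ : ∃ a, a = Module.finrank ℂ V := ⟨_, rfl⟩
  obtain ⟨b, hb⟩ : ∃ b, b = Module.finrank ℂ V' := ⟨_, rfl⟩
  obtain ⟨c, hc⟩ : ∃ c, c = Module.finrank ℂ V'' := ⟨_, rfl⟩
  rw [← ha, ← hb] at hab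
  rw [← hc] at huc
  rw [← ha] at hlt
  have hapos : 0 < a := by
    rw [ha]; exact Nat.pos_of_ne_zero (fun h0 => hV (Submodule.finrank_eq_zero.1 h0))
  have hac : c ≤ a := by omega
  have ha' : (0:ℤ) < a := by exact_mod_cast hapos
  have hb' : (0:ℤ) ≤ b := by positivity
  have hc' : (0:ℤ) ≤ c := by positivity
  have hac' : (c:ℤ) ≤ a := by exact_mod_cast hac
  by_cases hc0 : c = 0
  · have hb0 : b ≠ 0 := by
      intro hb0
      exact hq0 (top_iso_zero s q hq V hiso (by omega))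
    have hV''bot : V'' = ⊥ := Submodule.finrank_eq_zero.1 (by omega)
    have hpos : ∀ i j : Fin 3, ((i = 0 → j = 2) ∧ (j = 0 → i = 2)) → (i ≠ 2 ∧ j ≠ 2) →
        0 ≤ (![-(b:ℤ), (a:ℤ), 0] : Fin 3 → ℤ) i + (![-(b:ℤ), (a:ℤ), 0] : Fin 3 → ℤ) j := by
      intro i j hij hij2
      obtain ⟨g1, g2⟩ := hij
      obtain ⟨g3, g4⟩ := hij2
      fin_cases i <;> fin_cases j <;> simp at g1 g2 g3 g4 ⊢ <;> nlinarith
    have hsum0 : ∑ i, (![-(b:ℤ), (a:ℤ), 0] : Fin 3 → ℤ) i *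
        (Module.finrank ℂ ↥((![V, V', V''] : Fin 3 → Submodule ℂ H) i) : ℤ) = 0 := by
      rw [Fin.sum_univ_three]
      show -(b:ℤ) * (Module.finrank ℂ V : ℤ) + (a:ℤ) * (Module.finrank ℂ V' : ℤ) +
        0 * (Module.finrank ℂ V'' : ℤ) = 0
      rw [← ha, ← hb]; ring
    obtain ⟨i, j, hP, hm⟩ := hR (Fin 3) ![V, V', V''] ![-(b:ℤ), (a:ℤ), 0] hint hsum0
      ⟨0, by
        show -(b:ℤ) ≠ 0
        intro h0
        apply hb0
        have : (b:ℤ) = 0 := by linarith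
        exact_mod_cast this, hV⟩
    have hij2 : i ≠ 2 ∧ j ≠ 2 := by
      obtain ⟨x, hx, y, hy, hxy⟩ := hP
      constructor
      · rintro rfl
        change x ∈ V'' at hx
        rw [hV''bot, Submodule.mem_bot] at hx
        apply hxy; rw [hx]; simp
      · rintro rfl
        change y ∈ V'' at hy
        rw [hV''bot, Submodule.mem_bot] at hy
        apply hxy; rw [hy]; simp
    have := hpos i j (Pfacts s q hq V V' V'' hiso hV'U i j hP) hij2
    omega
  · have hpos : ∀ i j : Fin 3, ((i = 0 → j = 2) ∧ (j = 0 → i = 2)) →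
        0 ≤ (![-(c:ℤ), 0, (a:ℤ)] : Fin 3 → ℤ) i + (![-(c:ℤ), 0, (a:ℤ)] : Fin 3 → ℤ) j := by
      intro i j hij
      obtain ⟨g1, g2⟩ := hij
      fin_cases i <;> fin_cases j <;> simp at g1 g2 ⊢ <;> nlinarith
    have hsum0 : ∑ i, (![-(c:ℤ), 0, (a:ℤ)] : Fin 3 → ℤ) i *
        (Module.finrank ℂ ↥((![V, V', V''] : Fin 3 → Submodule ℂ H) i) : ℤ) = 0 := by
      rw [Fin.sum_univ_three]
      show -(c:ℤ) * (Module.finrank ℂ V : ℤ) + 0 * (Module.finrank ℂ V' : ℤ) +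
        (a:ℤ) * (Module.finrank ℂ V'' : ℤ) = 0
      rw [← ha, ← hc]; ring
    obtain ⟨i, j, hP, hm⟩ := hR (Fin 3) ![V, V', V''] ![-(c:ℤ), 0, (a:ℤ)] hint hsum0
      ⟨0, by
        show -(c:ℤ) ≠ 0
        intro h0
        apply hc0
        have : (c:ℤ) = 0 := by linarith
        exact_mod_cast this, hV⟩
    have := hpos i j (Pfacts s q hq V V' V'' hiso hV'U i j hP)
    omega

end bwd
end PRE

/-- Let W be a finite-dimensional complex vector space with an involution s, H a finite-dimensional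
complex vector space and q : H → H → W a nonzero bilinear map with q(x)(y) = s(q(y)(x)). Write V^⊥ =
{x | q(x)(y) = 0 for all y ∈ V} and call V totally isotropic when q vanishes on V × V. The pair (H,
q) is semistable (dim V + dim V^⊥ ≤ dim H for every nonzero totally isotropic subspace V),
respectively stable (strict inequality), if and only if the line of q is semistable, respectively
stable, for the action of SL(H), the latter being expressed through one-parameter subgroups: for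
every decomposition H = ⊕_i H_i into subspaces with integer weights m_i such that Σ_i m_i dim H_i =
0 and some nonzero H_i has nonzero weight, there are indices i, j with q(H_i, H_j) ≠ 0 and m_i + m_j
≤ 0, respectively m_i + m_j < 0. (The published statement speaks of semistability and stability of
the point of the projective space of such forms under SL(H); this row states the numerical condition
on one-parameter subgroups to which that is equivalent and which the published argument verifies.) -/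
theorem result
    (W : Type) [AddCommGroup W] [Module ℂ W] [FiniteDimensional ℂ W]
    (s : W →ₗ[ℂ] W) (hs : s ∘ₗ s = LinearMap.id)
    (H : Type) [AddCommGroup H] [Module ℂ H] [FiniteDimensional ℂ H]
    (q : H →ₗ[ℂ] H →ₗ[ℂ] W) (hq : ∀ x y : H, q x y = s (q y x)) (hq0 : q ≠ 0) :
    ((∀ V : Submodule ℂ H, V ≠ ⊥ → (∀ x ∈ V, ∀ y ∈ V, q x y = 0) →
        Module.finrank ℂ V + Module.finrank ℂ ↥(⨅ (y : H) (_ : y ∈ V), LinearMap.ker (q.flip y) : Submodule ℂ H) ≤ Module.finrank ℂ H) ↔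
      (∀ (ι : Type) [Fintype ι] [DecidableEq ι] (Hs : ι → Submodule ℂ H) (m : ι → ℤ),
        DirectSum.IsInternal Hs → (∑ i, m i * (Module.finrank ℂ (Hs i) : ℤ)) = 0 →
        (∃ i, m i ≠ 0 ∧ Hs i ≠ ⊥) →
        ∃ i j, (∃ x ∈ Hs i, ∃ y ∈ Hs j, q x y ≠ 0) ∧ m i + m j ≤ 0)) ∧
    ((∀ V : Submodule ℂ H, V ≠ ⊥ → (∀ x ∈ V, ∀ y ∈ V, q x y = 0) →
        Module.finrank ℂ V + Module.finrank ℂ ↥(⨅ (y : H) (_ : y ∈ V), LinearMap.ker (q.flip y) : Submodule ℂ H) < Module.finrank ℂ H) ↔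
      (∀ (ι : Type) [Fintype ι] [DecidableEq ι] (Hs : ι → Submodule ℂ H) (m : ι → ℤ),
        DirectSum.IsInternal Hs → (∑ i, m i * (Module.finrank ℂ (Hs i) : ℤ)) = 0 →
        (∃ i, m i ≠ 0 ∧ Hs i ≠ ⊥) →
        ∃ i j, (∃ x ∈ Hs i, ∃ y ∈ Hs j, q x y ≠ 0) ∧ m i + m j < 0)) := by
  refine ⟨⟨fun hL ι _ _ Hs m hint hsum _ => ?_, fun hR V hV hiso => ?_⟩,
    ⟨fun hL ι _ _ Hs m hint hsum hex => ?_, fun hR V hV hiso => ?_⟩⟩
  · exact fwd_semi q Hs hq0 hL m hint hsum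
  · exact bwd_semi s q hq hq0 hR V hV hiso
  · exact fwd_stab q Hs hL m hint hsum hex
  · exact bwd_stab s q hq hq0 hR V hV hiso

end Groth.Agent.S15159
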