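import Groth.Statements.S15162
import Mathlib.LinearAlgebra.Matrix.ToLinearEquiv
import Mathlib.LinearAlgebra.Matrix.Determinant.Basic
import Mathlib.GroupTheory.OrderOfElement
import Mathlib.Tactic.Ring
import Mathlib.Tactic.LinearCombination
import Mathlib.Tactic.FinCases
import Mathlib.Tactic.NormNum
import Mathlib.Algebra.Ring.Int.Units

set_option autoImplicit false
open Matrix
open BddFin

namespace Groth.Agent.S15162

/-- A `2 × 2` integer matrix with a nonzero fixed vector satisfies `det (M - 1) = 0`. -/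
lemma det_sub_one_eq_zero (M : Matrix (Fin 2) (Fin 2) ℤ)
    (hfix : ∃ v : Fin 2 → ℤ, v ≠ 0 ∧ M *ᵥ v = v) : (M - 1).det = 0 := by
  obtain ⟨v, hv, hMv⟩ := hfix
  rw [← Matrix.exists_mulVec_eq_zero_iff]
  refine ⟨v, hv, ?_⟩
  rw [Matrix.sub_mulVec, hMv, Matrix.one_mulVec, sub_self]

/-- If `det M = 1` and `det (M - 1) = 0` then `(M - 1)^2 = 0`. -/
lemma sq_sub_one_eq_zero (M : Matrix (Fin 2) (Fin 2) ℤ) (hdet : M.det = 1)
    (h1 : (M - 1).det = 0) : (M - 1) * (M - 1) = 0 := by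
  have e00 : (M - 1) 0 0 = M 0 0 - 1 := by simp
  have e01 : (M - 1) 0 1 = M 0 1 := by simp
  have e10 : (M - 1) 1 0 = M 1 0 := by simp
  have e11 : (M - 1) 1 1 = M 1 1 - 1 := by simp
  rw [Matrix.det_fin_two] at hdet h1
  rw [e00, e01, e10, e11] at h1
  have htr : M 0 0 + M 1 1 = 2 := by linear_combination hdet - h1
  ext i j
  fin_cases i <;> fin_cases j <;>
    simp only [Matrix.mul_apply, Fin.sum_univ_two, Matrix.zero_apply, Fin.zero_eta, Fin.mk_one,
      e00, e01, e10, e11]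
  · linear_combination (M 0 0 - 1) * htr - h1
  · linear_combination (M 0 1) * htr
  · linear_combination (M 1 0) * htr
  · linear_combination (M 1 1 - 1) * htr - h1

/-- If `N^2 = 0` then `(1 + N)^n = 1 + n N`. -/
lemma one_add_pow_of_sq_zero (N : Matrix (Fin 2) (Fin 2) ℤ) (hN : N * N = 0) (n : ℕ) :
    (1 + N) ^ n = 1 + (n : ℤ) • N := by
  induction n with
  | zero => simp
  | succ n ih =>
    rw [pow_succ, ih]
    simp only [add_mul, mul_add, smul_mul_assoc, hN, smul_zero, add_zero, one_mul, mul_one]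
    push_cast
    rw [add_smul, one_smul]
    abel

/-- If `(M-1)^2 = 0` then `M^n = 1 + n (M - 1)`. -/
lemma pow_eq_of_sq_zero (M : Matrix (Fin 2) (Fin 2) ℤ) (hN : (M - 1) * (M - 1) = 0) (n : ℕ) :
    M ^ n = 1 + (n : ℤ) • (M - 1) := by
  have := one_add_pow_of_sq_zero (M - 1) hN n
  rwa [add_sub_cancel] at this

/-- A finite-order element of `GL₂(ℤ)` with determinant one and a nonzero fixed vector is `1`. -/
lemma eq_one_of_det_one (γ : Matrix.GeneralLinearGroup (Fin 2) ℤ) (hfin : IsOfFinOrder γ)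
    (hdet : (γ : Matrix (Fin 2) (Fin 2) ℤ).det = 1)
    (hfix : ∃ v : Fin 2 → ℤ, v ≠ 0 ∧ (γ : Matrix (Fin 2) (Fin 2) ℤ) *ᵥ v = v) : γ = 1 := by
  have hN := sq_sub_one_eq_zero _ hdet (det_sub_one_eq_zero _ hfix)
  obtain ⟨n, hn, hpow⟩ := hfin.exists_pow_eq_one
  have h1 : ((γ : Matrix (Fin 2) (Fin 2) ℤ)) ^ n = 1 := by
    rw [← Units.val_pow_eq_pow_val, hpow]; rfl
  rw [pow_eq_of_sq_zero _ hN n] at h1
  have h2 : (n : ℤ) • ((γ : Matrix (Fin 2) (Fin 2) ℤ) - 1) = 0 := by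
    have := h1
    rwa [add_eq_left] at this
  have h3 : (γ : Matrix (Fin 2) (Fin 2) ℤ) - 1 = 0 := by
    ext i j
    have := congrFun (congrFun h2 i) j
    simp only [Matrix.smul_apply, smul_eq_mul, Matrix.zero_apply, mul_eq_zero] at this
    rcases this with h | h
    · exfalso; omega
    · exact h
  apply Units.ext
  rw [sub_eq_zero] at h3
  exact h3

/-- Let Γ be a finite subgroup of GL_2(ℤ) acting on ℤ² by matrix multiplication. If every element of Γ
has a non-zero fixed vector in ℤ², then there is a non-zero vector of ℤ² fixed by all of Γ. -/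
theorem result
    (Γ : Subgroup (Matrix.GeneralLinearGroup (Fin 2) ℤ)) [Finite Γ]
    (h : ∀ γ ∈ Γ, ∃ v : Fin 2 → ℤ, v ≠ 0 ∧ (γ : Matrix (Fin 2) (Fin 2) ℤ) *ᵥ v = v) :
    ∃ v : Fin 2 → ℤ, v ≠ 0 ∧ ∀ γ ∈ Γ, (γ : Matrix (Fin 2) (Fin 2) ℤ) *ᵥ v = v := by
  have hfinord : ∀ γ ∈ Γ, IsOfFinOrder γ := by
    intro γ hγ
    have : IsOfFinOrder (⟨γ, hγ⟩ : Γ) := isOfFinOrder_of_finite _
    rw [← Submonoid.isOfFinOrder_coe] at this
    exact this
  have hdetcases : ∀ γ : Matrix.GeneralLinearGroup (Fin 2) ℤ,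
      (γ : Matrix (Fin 2) (Fin 2) ℤ).det = 1 ∨ (γ : Matrix (Fin 2) (Fin 2) ℤ).det = -1 := by
    intro γ
    have hu : IsUnit (γ : Matrix (Fin 2) (Fin 2) ℤ).det :=
      (Matrix.isUnit_iff_isUnit_det _).mp γ.isUnit
    exact Int.isUnit_iff.mp hu
  by_cases hex : ∃ γ₁ ∈ Γ, (γ₁ : Matrix (Fin 2) (Fin 2) ℤ).det = -1
  · obtain ⟨γ₁, hγ₁, hd₁⟩ := hex
    obtain ⟨v, hv, hfixv⟩ := h γ₁ hγ₁
    refine ⟨v, hv, ?_⟩
    have hall : ∀ γ ∈ Γ, (γ : Matrix (Fin 2) (Fin 2) ℤ).det = -1 → γ = γ₁⁻¹ := by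
      intro γ hγ hd
      have hmem : γ₁ * γ ∈ Γ := Γ.mul_mem hγ₁ hγ
      have hdet : ((γ₁ * γ : Matrix.GeneralLinearGroup (Fin 2) ℤ) :
          Matrix (Fin 2) (Fin 2) ℤ).det = 1 := by
        rw [Units.val_mul, Matrix.det_mul, hd₁, hd]; norm_num
      have := eq_one_of_det_one (γ₁ * γ) (hfinord _ hmem) hdet (h _ hmem)
      exact (eq_inv_of_mul_eq_one_right this)
    have hself : γ₁ = γ₁⁻¹ := hall γ₁ hγ₁ hd₁
    intro γ hγ
    rcases hdetcases γ with hd | hd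
    · have := eq_one_of_det_one γ (hfinord _ hγ) hd (h _ hγ)
      rw [this]; simp
    · have := hall γ hγ hd
      rw [this, ← hself]; exact hfixv
  · push Not at hex
    refine ⟨![1, 0], by simp, ?_⟩
    intro γ hγ
    rcases hdetcases γ with hd | hd
    · have := eq_one_of_det_one γ (hfinord _ hγ) hd (h _ hγ)
      rw [this]; simp
    · exact absurd hd (hex γ hγ)

end Groth.Agent.S15162
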