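import Groth.Statements.S15163
import Groth.Agent.S15162
import Mathlib.LinearAlgebra.Matrix.Trace
import Mathlib.LinearAlgebra.Matrix.Adjugate
import Mathlib.Tactic.Linarith
import Mathlib.Data.ZMod.Basic

set_option autoImplicit false
open Matrix
open BddFin

namespace Groth.Agent.S15163

/-- Cayley–Hamilton for `2 × 2` integer matrices. -/
lemma cayley_two (M : Matrix (Fin 2) (Fin 2) ℤ) :
    M * M = M.trace • M - M.det • (1 : Matrix (Fin 2) (Fin 2) ℤ) := by
  rw [Matrix.det_fin_two, Matrix.trace_fin_two]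
  have o00 : (1 : Matrix (Fin 2) (Fin 2) ℤ) 0 0 = 1 := by simp
  have o01 : (1 : Matrix (Fin 2) (Fin 2) ℤ) 0 1 = 0 := by simp
  have o10 : (1 : Matrix (Fin 2) (Fin 2) ℤ) 1 0 = 0 := by simp
  have o11 : (1 : Matrix (Fin 2) (Fin 2) ℤ) 1 1 = 1 := by simp
  ext i j
  fin_cases i <;> fin_cases j <;>
    simp only [Matrix.mul_apply, Fin.sum_univ_two, Matrix.sub_apply, Matrix.smul_apply,
      smul_eq_mul, Fin.zero_eta, Fin.mk_one, o00, o01, o10, o11] <;> ring

/-- Trace recurrence. -/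
lemma trace_pow_rec (M : Matrix (Fin 2) (Fin 2) ℤ) (hdet : M.det = 1) (k : ℕ) :
    (M ^ (k + 2)).trace = M.trace * (M ^ (k + 1)).trace - (M ^ k).trace := by
  have h : M ^ (k + 2) = M.trace • M ^ (k + 1) - M ^ k := by
    rw [pow_add, pow_two, cayley_two, hdet, one_smul, mul_sub, mul_one, Matrix.mul_smul,
      ← pow_succ]
  rw [h, Matrix.trace_sub, Matrix.trace_smul, smul_eq_mul]

/-- A finite-order integer matrix of determinant one has trace at most `2`. -/
lemma trace_le_two (M : Matrix (Fin 2) (Fin 2) ℤ) (hdet : M.det = 1) (n : ℕ) (hn : 0 < n)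
    (hpow : M ^ n = 1) : M.trace ≤ 2 := by
  by_contra hlt
  push Not at hlt
  have key : ∀ k : ℕ, (M ^ k).trace + 1 ≤ (M ^ (k + 1)).trace ∧ 2 ≤ (M ^ k).trace := by
    intro k
    induction k with
    | zero =>
      simp only [pow_zero, zero_add, pow_one, Matrix.trace_one, Fintype.card_fin, Nat.cast_ofNat]
      constructor <;> [omega; norm_num]
    | succ k ih =>
      obtain ⟨h1, h2⟩ := ih
      refine ⟨?_, by linarith⟩
      rw [trace_pow_rec M hdet k]
      nlinarith
  have hge : ∀ k : ℕ, 2 + (k : ℤ) ≤ (M ^ k).trace := by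
    intro k
    induction k with
    | zero => simp
    | succ k ih => have := (key k).1; push_cast; linarith
  have := hge n
  rw [hpow, Matrix.trace_one] at this
  simp only [Fintype.card_fin, Nat.cast_ofNat] at this
  omega

/-- A finite-order element of `GL₂(ℤ)` satisfies `0 ≤ det (M - 1) ≤ 4`. -/
lemma det_sub_one_bounds (M : Matrix (Fin 2) (Fin 2) ℤ) (hdet : M.det = 1 ∨ M.det = -1)
    (n : ℕ) (hn : 0 < n) (hpow : M ^ n = 1) : 0 ≤ (M - 1).det ∧ (M - 1).det ≤ 4 := by
  have e00 : (M - 1) 0 0 = M 0 0 - 1 := by simp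
  have e01 : (M - 1) 0 1 = M 0 1 := by simp
  have e10 : (M - 1) 1 0 = M 1 0 := by simp
  have e11 : (M - 1) 1 1 = M 1 1 - 1 := by simp
  have hD : (M - 1).det = M.det - M.trace + 1 := by
    rw [Matrix.det_fin_two, Matrix.det_fin_two, Matrix.trace_fin_two, e00, e01, e10, e11]
    ring
  have hpow2 : (M * M) ^ n = 1 := by
    rw [← pow_two, ← pow_mul, mul_comm, pow_mul, hpow, one_pow]
  have hdet2 : (M * M).det = 1 := by
    rw [Matrix.det_mul]
    rcases hdet with h | h <;> rw [h] <;> norm_num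
  have htr2 := trace_le_two (M * M) hdet2 n hn hpow2
  have htrsq : (M * M).trace = M.trace * M.trace - 2 * M.det := by
    rw [cayley_two, Matrix.trace_sub, Matrix.trace_smul, Matrix.trace_smul, Matrix.trace_one]
    simp only [Fintype.card_fin, smul_eq_mul]
    push_cast
    ring
  rw [htrsq] at htr2
  rw [hD]
  rcases hdet with h | h
  · rw [h] at htr2 ⊢
    constructor <;> nlinarith
  · rw [h] at htr2 ⊢
    have : M.trace = 0 := by nlinarith
    rw [this]; norm_num

/-- Let Γ be a finite subgroup of GL_2(ℤ) and d > 6 an integer. Suppose some vector w of (ℤ/dℤ)², with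
m·w ≠ 0 for all 0 < m < d, is fixed by the reduction modulo d of every element of Γ. Then some
non-zero vector of ℤ² is fixed by all of Γ. -/
theorem result
    (Γ : Subgroup (Matrix.GeneralLinearGroup (Fin 2) ℤ)) [Finite Γ] (d : ℕ) (hd : 6 < d)
    (w : Fin 2 → ZMod d) (hw : ∀ m : ℕ, 0 < m → m < d → m • w ≠ 0)
    (hfix : ∀ γ ∈ Γ, ((γ : Matrix (Fin 2) (Fin 2) ℤ).map (Int.castRingHom (ZMod d))) *ᵥ w = w) :
    ∃ v : Fin 2 → ℤ, v ≠ 0 ∧ ∀ γ ∈ Γ, (γ : Matrix (Fin 2) (Fin 2) ℤ) *ᵥ v = v := by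
  apply Groth.Agent.S15162.result Γ
  intro γ hγ
  set M : Matrix (Fin 2) (Fin 2) ℤ := (γ : Matrix (Fin 2) (Fin 2) ℤ) with hM
  have hfin : IsOfFinOrder γ := by
    have : IsOfFinOrder (⟨γ, hγ⟩ : Γ) := isOfFinOrder_of_finite _
    rw [← Submonoid.isOfFinOrder_coe] at this
    exact this
  obtain ⟨n, hn, hpowγ⟩ := hfin.exists_pow_eq_one
  have hpow : M ^ n = 1 := by
    rw [hM, ← Units.val_pow_eq_pow_val, hpowγ]; rfl
  have hdet : M.det = 1 ∨ M.det = -1 := by
    have hu : IsUnit M.det := (Matrix.isUnit_iff_isUnit_det _).mp γ.isUnit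
    exact Int.isUnit_iff.mp hu
  obtain ⟨hD0, hD4⟩ := det_sub_one_bounds M hdet n hn hpow
  -- reduction mod d
  have hmod : ((M - 1).det : ZMod d) • w = 0 := by
    set A : Matrix (Fin 2) (Fin 2) (ZMod d) := (M - 1).map (Int.castRingHom (ZMod d)) with hA
    have hA' : A = M.map (Int.castRingHom (ZMod d)) - 1 := by
      rw [hA]
      ext i j
      simp [Matrix.map_apply, Matrix.one_apply]
    have hAw : A *ᵥ w = 0 := by
      rw [hA', Matrix.sub_mulVec, hfix γ hγ, Matrix.one_mulVec, sub_self]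
    have h1 : (A.adjugate * A) *ᵥ w = 0 := by
      rw [← Matrix.mulVec_mulVec, hAw, Matrix.mulVec_zero]
    rw [Matrix.adjugate_mul, Matrix.smul_mulVec, Matrix.one_mulVec] at h1
    have hdetA : A.det = (((M - 1).det : ℤ) : ZMod d) := by
      rw [hA]
      exact ((Int.castRingHom (ZMod d)).map_det (M - 1)).symm
    rw [hdetA] at h1
    exact h1
  have hDz : (M - 1).det = 0 := by
    by_contra hne
    have hpos : 0 < (M - 1).det := lt_of_le_of_ne hD0 (Ne.symm hne)
    obtain ⟨m, hm⟩ := Int.eq_ofNat_of_zero_le hD0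
    rw [hm] at hmod hpos hD4
    have hm0 : 0 < m := by exact_mod_cast hpos
    have hmd : m < d := by
      have : m ≤ 4 := by exact_mod_cast hD4
      omega
    apply hw m hm0 hmd
    rw [← hmod]
    simp [Nat.cast_smul_eq_nsmul]
  obtain ⟨v, hv, hvz⟩ := Matrix.exists_mulVec_eq_zero_iff.mpr hDz
  refine ⟨v, hv, ?_⟩
  rw [Matrix.sub_mulVec, Matrix.one_mulVec, sub_eq_zero] at hvz
  exact hvz

end Groth.Agent.S15163
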