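import Groth.Statements.S15164
import Mathlib.Algebra.CharP.Lemmas
import Mathlib.Algebra.Polynomial.AlgebraMap
import Mathlib.Algebra.CharP.Algebra
import Mathlib.Tactic.LinearCombination
import Mathlib.Tactic.Ring

set_option autoImplicit false
universe u v
open BddFin

namespace Groth.Agent.S15164

open Polynomial in
/-- Key step: if `g x = x + v` and `g v = v` for an isometry `g` of an anisotropic form in
characteristic `≠ 2`, then `v = 0`. -/
lemma key_step {K : Type u} [Field K] (h2 : (2 : K) ≠ 0)
    {V : Type v} [AddCommGroup V] [Module K V]
    (q : QuadraticForm K V) (hq : q.Anisotropic)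
    (g : V →ₗ[K] V) (hg : ∀ x : V, q (g x) = q x) (x w : V) (hx : g x = x + w) (hw : g w = w) :
    w = 0 := by
  apply hq
  have h1 : q (x + w) = q x := by rw [← hx, hg]
  have h2' : q (x + w + w) = q x := by
    have : g (x + w) = x + w + w := by rw [map_add, hx, hw]
    rw [← this, hg, h1]
  have e1 : q (x + w) = q x + q w + QuadraticMap.polar q x w := by
    simp [QuadraticMap.polar]
  have e2 : q (x + w + w) = q (x + w) + q w + QuadraticMap.polar q (x + w) w := by
    simp [QuadraticMap.polar]
  have e3 : QuadraticMap.polar q (x + w) w = QuadraticMap.polar q x w + QuadraticMap.polar q w w :=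
    QuadraticMap.polar_add_left q x w w
  have e4 : QuadraticMap.polar q w w = 2 * q w := by
    rw [QuadraticMap.polar_self]; simp [two_mul]
  rw [e1] at h1
  rw [e2, e3, e4, e1] at h2'
  have h7 : 2 * q w = 2 * 0 := by linear_combination h2' - 2 * h1
  exact mul_left_cancel₀ h2 h7

/-- Let K be a field of characteristic p > 2, V a finite-dimensional K-vector space and q a quadratic
form on V that does not represent zero (q x = 0 only for x = 0). Then the group of K-linear
automorphisms of V preserving q has no element of order p: if g preserves q and g ^ p = 1 then g =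
1. (Non-degeneracy of q, also assumed in the published statement, follows from anisotropy since 2 is
invertible, so it is not repeated here.) -/
theorem result
    (K : Type u) [Field K] (p : ℕ) [Fact p.Prime] [CharP K p] (hp : p ≠ 2)
    (V : Type v) [AddCommGroup V] [Module K V] [FiniteDimensional K V]
    (q : QuadraticForm K V) (hq : q.Anisotropic)
    (g : V ≃ₗ[K] V) (hg : ∀ x : V, q (g x) = q x) (hgp : g ^ p = 1) : g = 1 := by
  have h2 : (2 : K) ≠ 0 := by
    intro h
    have : ((2 : ℕ) : K) = 0 := by exact_mod_cast h
    rw [CharP.cast_eq_zero_iff K p] at this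
    have hp' := (Nat.prime_dvd_prime_iff_eq Fact.out Nat.prime_two).mp this
    exact hp hp'
  set G : Module.End K V := g.toLinearMap with hG
  have hGp : G ^ p = 1 := by
    have := congrArg (LinearEquiv.automorphismGroup.toLinearMapMonoidHom (R := K) (M := V)) hgp
    rw [map_pow, map_one] at this
    exact this
  have hN : (G - 1) ^ p = 0 := by
    have hpoly : ((Polynomial.X : Polynomial K) - 1) ^ p = Polynomial.X ^ p - 1 := by
      rw [sub_pow_char, one_pow]
    have := congrArg (Polynomial.aeval G) hpoly
    simpa [hGp] using this
  -- descending induction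
  have hdesc : ∀ j : ℕ, (G - 1) ^ (j + 1) = 0 := by
    intro j
    have : ∀ k : ℕ, (G - 1) ^ (j + 1 + k) = 0 → (G - 1) ^ (j + 1) = 0 := by
      intro k
      induction k with
      | zero => intro h; simpa using h
      | succ k ih =>
        intro h
        apply ih
        -- show (G-1)^(j+1+k) = 0 from (G-1)^(j+1+k+1) = 0
        ext y
        set x := ((G - 1) ^ (j + k)) y with hx
        have hw0 : ((G - 1) ^ (j + 1 + k)) y = (G - 1) x := by
          rw [hx, ← Module.End.mul_apply, ← pow_succ']
          congr 2; omega
        have hNw : (G - 1) (((G - 1) ^ (j + 1 + k)) y) = 0 := by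
          rw [← Module.End.mul_apply, ← pow_succ']
          have : j + 1 + k + 1 = j + 1 + (k + 1) := by omega
          rw [this, h]; rfl
        have hgx : G x = x + ((G - 1) ^ (j + 1 + k)) y := by
          rw [hw0]; simp
        have hgw : G (((G - 1) ^ (j + 1 + k)) y) = ((G - 1) ^ (j + 1 + k)) y := by
          have := hNw
          simp only [LinearMap.sub_apply, Module.End.one_apply, sub_eq_zero] at this
          exact this
        have := key_step h2 q hq G (fun z => hg z) x _ hgx hgw
        simpa using this
    by_cases hjp : j + 1 ≤ p
    · obtain ⟨k, hk⟩ := Nat.exists_eq_add_of_le hjp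
      apply this k
      rw [← hk, hN]
    · have : p ≤ j + 1 := by omega
      obtain ⟨k, hk⟩ := Nat.exists_eq_add_of_le this
      rw [hk, pow_add, hN, zero_mul]
  have h1 := hdesc 0
  simp only [zero_add, pow_one, sub_eq_zero] at h1
  ext y
  have := congrArg (fun f : Module.End K V => f y) h1
  simpa [hG] using this

end Groth.Agent.S15164
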