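import Groth.Statements.S15165
import Groth.Agent.S15164
import Mathlib.Algebra.Polynomial.Roots
import Mathlib.Algebra.Polynomial.Monic

set_option autoImplicit false
universe u v
open Polynomial
open BddFin

namespace Groth.Agent.S15165

variable {K : Type u} [Field K] {V : Type v} [AddCommGroup V] [Module K V]

/-- `ker (G - 1)^2 = ker (G - 1)` for an isometry of an anisotropic form, char `≠ 2`. -/
lemma ker_sq (h2 : (2 : K) ≠ 0) (q : QuadraticForm K V) (hq : q.Anisotropic)
    (G : Module.End K V) (hG : ∀ x : V, q (G x) = q x) (y : V)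
    (h : (G - 1) ((G - 1) y) = 0) : (G - 1) y = 0 := by
  refine Groth.Agent.S15164.key_step h2 q hq G hG y ((G - 1) y) (by simp) ?_
  have := h
  simp only [LinearMap.sub_apply, Module.End.one_apply, sub_eq_zero] at this ⊢
  exact this

/-- `ker (G + 1)^2 = ker (G + 1)`. -/
lemma ker_sq' (h2 : (2 : K) ≠ 0) (q : QuadraticForm K V) (hq : q.Anisotropic)
    (G : Module.End K V) (hG : ∀ x : V, q (G x) = q x) (y : V)
    (h : (G + 1) ((G + 1) y) = 0) : (G + 1) y = 0 := by
  have hG' : ∀ x : V, q ((-G) x) = q x := by
    intro x
    rw [LinearMap.neg_apply, QuadraticMap.map_neg, hG]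
  have e : ∀ z : V, (-G - 1) z = -((G + 1) z) := by
    intro z; simp; abel
  have := ker_sq h2 q hq (-G) hG' y (by rw [e, e, map_neg, neg_neg, h])
  rw [e, neg_eq_zero] at this
  exact this

lemma ev_mul_apply (G : Module.End K V) (P Q : K[X]) (y : V) :
    aeval G (P * Q) y = aeval G P (aeval G Q y) := by
  rw [map_mul]; rfl

/-- Main induction over the roots. -/
lemma main (h2 : (2 : K) ≠ 0) (q : QuadraticForm K V) (hq : q.Anisotropic)
    (G : Module.End K V) (hG : ∀ x : V, q (G x) = q x) (l : Multiset K) :
    ∀ y : V, aeval G (l.map (fun ζ => X - C ζ)).prod y = 0 → aeval G (X ^ 2 - 1 : K[X]) y = 0 := by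
  induction l using Multiset.induction_on with
  | empty =>
    intro y hy
    simp only [Multiset.map_zero, Multiset.prod_zero, map_one, Module.End.one_apply] at hy
    rw [hy, map_zero]
  | cons ζ l ih =>
    intro y hy
    rw [Multiset.map_cons, Multiset.prod_cons] at hy
    set P' : K[X] := (l.map (fun ζ => X - C ζ)).prod with hP'
    by_cases hζ : ζ * ζ = 1
    · have hζ' : ζ = 1 ∨ ζ = -1 := by
        have : (ζ - 1) * (ζ + 1) = 0 := by ring_nf; rw [sq, hζ]; ring
        rcases mul_eq_zero.mp this with h | h
        · left; exact sub_eq_zero.mp h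
        · right; exact eq_neg_of_add_eq_zero_left h
      rcases hζ' with rfl | rfl
      · -- ζ = 1
        have h1 : aeval G P' (aeval G (X - 1 : K[X]) y) = 0 := by
          rw [← ev_mul_apply, mul_comm]
          simpa using hy
        have h3 := ih _ h1
        rw [← ev_mul_apply] at h3
        have e1 : ((X ^ 2 - 1 : K[X]) * (X - 1)) = (X - 1) * ((X - 1) * (X + 1)) := by ring
        rw [e1, ev_mul_apply, ev_mul_apply] at h3
        have e2 : aeval G (X - 1 : K[X]) = G - 1 := by simp
        rw [e2] at h3
        have h4 := ker_sq h2 q hq G hG _ h3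
        rw [← e2, ← ev_mul_apply] at h4
        have e3 : ((X - 1 : K[X]) * (X + 1)) = X ^ 2 - 1 := by ring
        rw [e3] at h4
        exact h4
      · -- ζ = -1
        have h1 : aeval G P' (aeval G (X + 1 : K[X]) y) = 0 := by
          rw [← ev_mul_apply, mul_comm]
          simpa using hy
        have h3 := ih _ h1
        rw [← ev_mul_apply] at h3
        have e1 : ((X ^ 2 - 1 : K[X]) * (X + 1)) = (X + 1) * ((X + 1) * (X - 1)) := by ring
        rw [e1, ev_mul_apply, ev_mul_apply] at h3
        have e2 : aeval G (X + 1 : K[X]) = G + 1 := by simp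
        rw [e2] at h3
        have h4 := ker_sq' h2 q hq G hG _ h3
        rw [← e2, ← ev_mul_apply] at h4
        have e3 : ((X + 1 : K[X]) * (X - 1)) = X ^ 2 - 1 := by ring
        rw [e3] at h4
        exact h4
    · -- ζ² ≠ 1: `G - ζ` is injective
      rw [ev_mul_apply] at hy
      set z := aeval G P' y with hz
      have hGz : G z = ζ • z := by
        have := hy
        simp only [map_sub, aeval_X, aeval_C, LinearMap.sub_apply, Module.algebraMap_end_apply,
          sub_eq_zero] at this
        exact this
      have hq1 : q z = (ζ * ζ) * q z := by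
        conv_lhs => rw [← hG z, hGz, QuadraticMap.map_smul, smul_eq_mul]
      have hq0 : q z = 0 := by
        have : (1 - ζ * ζ) * q z = 0 := by linear_combination hq1
        rcases mul_eq_zero.mp this with h | h
        · exact absurd (sub_eq_zero.mp h).symm hζ
        · exact h
      have hz0 : z = 0 := hq z hq0
      exact ih y hz0

/-- Let K be a field of characteristic different from 2 such that K contains all roots of unity (for
every n ≥ 1 the polynomial X^n − 1 splits into linear factors over K), V a finite-dimensional
K-vector space and q a quadratic form on V that does not represent zero. If a K-linear automorphism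
g of V preserves q and has finite order (g ^ d = 1 for some d ≥ 1), then g ^ 2 = 1. (The published
statement also covers perfect fields of characteristic 2; this row is the case of characteristic ≠
2.) -/
theorem result
    (K : Type u) [Field K] (hK : ∀ n : ℕ, 0 < n → (X ^ n - 1 : K[X]).Splits) (h2 : (2 : K) ≠ 0)
    (V : Type v) [AddCommGroup V] [Module K V] [FiniteDimensional K V]
    (q : QuadraticForm K V) (hq : q.Anisotropic)
    (g : V ≃ₗ[K] V) (hg : ∀ x : V, q (g x) = q x) (d : ℕ) (hd : 0 < d) (hgd : g ^ d = 1) :
    g ^ 2 = 1 := by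
  set G : Module.End K V := g.toLinearMap with hGdef
  have hGd : G ^ d = 1 := by
    have := congrArg (LinearEquiv.automorphismGroup.toLinearMapMonoidHom (R := K) (M := V)) hgd
    rw [map_pow, map_one] at this
    exact this
  have hG : ∀ x : V, q (G x) = q x := fun x => hg x
  have hsp := hK d hd
  have hmonic : (X ^ d - 1 : K[X]).Monic := monic_X_pow_sub_C 1 (Nat.pos_iff_ne_zero.mp hd)
  have hprod := hsp.eq_prod_roots_of_monic hmonic
  have hzero : aeval G (X ^ d - 1 : K[X]) = 0 := by
    simp [hGd]
  have hmain : ∀ y : V, aeval G (X ^ 2 - 1 : K[X]) y = 0 := by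
    intro y
    apply main h2 q hq G hG (X ^ d - 1 : K[X]).roots y
    rw [← hprod, hzero]; rfl
  have hG2 : G ^ 2 = 1 := by
    ext y
    have := hmain y
    simp only [map_sub, map_pow, aeval_X, map_one, LinearMap.sub_apply, Module.End.one_apply,
      sub_eq_zero] at this
    simpa using this
  ext y
  have := congrArg (fun f : Module.End K V => f y) hG2
  simpa [hGdef, pow_two] using this

end Groth.Agent.S15165
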