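import Groth.Statements.S15166
import Groth.Agent.Lib.Helper76.AnisoCard
-- import your own Groth.Agent.* helpers here

set_option autoImplicit false
universe u v
open Polynomial
open BddFin

namespace Groth.Agent.S15166

/-- Let K be a field of characteristic different from 2 such that K contains all roots of unity (for
every n ≥ 1 the polynomial X^n − 1 splits into linear factors over K), V a finite-dimensional
K-vector space and q a quadratic form on V that does not represent zero. Then every finite subgroup
of the group of K-linear automorphisms of V preserving q is abelian and has order at most 2 ^ (dim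
V). (The published statement also covers perfect fields of characteristic 2; this row is the case of
characteristic ≠ 2.) -/
theorem result
    (K : Type u) [Field K] (hK : ∀ n : ℕ, 0 < n → (X ^ n - 1 : K[X]).Splits) (h2 : (2 : K) ≠ 0)
    (V : Type v) [AddCommGroup V] [Module K V] [FiniteDimensional K V]
    (q : QuadraticForm K V) (hq : q.Anisotropic)
    (G : Subgroup (V ≃ₗ[K] V)) [Finite G] (hG : ∀ g ∈ G, ∀ x : V, q (g x) = q x) :
    (∀ g ∈ G, ∀ h ∈ G, g * h = h * g) ∧ Nat.card G ≤ 2 ^ Module.finrank K V := by
  have hsq : ∀ g ∈ G, g ^ 2 = 1 := by
    intro g hgG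
    have hd : 0 < Nat.card G := Nat.card_pos
    have hgd : g ^ Nat.card G = 1 := by
      have h0 : (⟨g, hgG⟩ : G) ^ Nat.card G = 1 := pow_card_eq_one'
      have h1 := congrArg Subtype.val h0
      rw [Subgroup.coe_pow, Subgroup.coe_one] at h1
      exact h1
    have hGd : (g.toLinearMap : Module.End K V) ^ Nat.card G = 1 := by
      have := congrArg (LinearEquiv.automorphismGroup.toLinearMapMonoidHom (R := K) (M := V)) hgd
      rw [map_pow, map_one] at this
      exact this
    have h := Groth.Agent.Lib.Helper76.isometry_sq_eq_one hK h2 q hq (g.toLinearMap : Module.End K V)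
      (fun x => hG g hgG x) (Nat.card G) hd hGd
    ext x
    have := LinearMap.congr_fun h x
    simpa [pow_two] using this
  have hcomm : ∀ g ∈ G, ∀ h ∈ G, g * h = h * g := by
    intro g hgG h hhG
    have h1 := hsq g hgG
    have h2' := hsq h hhG
    have h3 := hsq (g * h) (G.mul_mem hgG hhG)
    rw [pow_two] at h1 h2' h3
    calc g * h = g * (g * h * (g * h)) * h := by rw [h3, mul_one]
      _ = (g * g) * h * g * (h * h) := by simp only [mul_assoc]
      _ = h * g := by rw [h1, h2', one_mul, mul_one]
  refine ⟨hcomm, ?_⟩
  apply Groth.Agent.Lib.Helper76.card_le_two_pow G h2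
  · intro g hgG x
    have := hsq g hgG
    rw [pow_two] at this
    have := congrArg (fun e : V ≃ₗ[K] V => e x) this
    simpa using this
  · intro g hgG h hhG x
    have := hcomm g hgG h hhG
    have := congrArg (fun e : V ≃ₗ[K] V => e x) this
    simpa using this

end Groth.Agent.S15166
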