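import Groth.Statements.S15167
import Mathlib
import Groth.Agent.S0201
import Groth.Agent.Lib.Helper52.RedCharpoly
import Groth.Agent.Lib.Helper52.CSASubfield

set_option autoImplicit false
universe u v
open Polynomial
open BddFin

namespace Groth.Agent.S15167

open Groth.Agent.Lib.Helper52.CSASubfield in
/-- Over a field containing all roots of unity, any two monic irreducible factors of `X ^ m - a`,
`a ≠ 0`, have the same degree. -/
theorem natDegree_le_of_dvd_binomial {K : Type u} [Field K]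
    (hK : ∀ n : ℕ, 0 < n → (X ^ n - 1 : K[X]).Splits)
    {g₁ g₂ : K[X]} (h₁ : Irreducible g₁) (hm₁ : g₁.Monic) (h₂ : Irreducible g₂) (hm₂ : g₂.Monic)
    {m : ℕ} (hm : 0 < m) {a : K} (ha : a ≠ 0)
    (hd₁ : g₁ ∣ X ^ m - C a) (hd₂ : g₂ ∣ X ^ m - C a) : g₂.natDegree ≤ g₁.natDegree := by
  classical
  obtain ⟨b₁, hb₁⟩ := eq_X_pow_sub_C_of_dvd hK h₁ hm₁ hm ha hd₁
  let Ω := AlgebraicClosure K
  let i : K →+* Ω := algebraMap K Ω
  have hr₁ : 0 < g₁.natDegree := h₁.natDegree_pos
  obtain ⟨y₁, hy₁⟩ := IsAlgClosed.exists_aeval_eq_zero Ω g₁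
    (Polynomial.degree_pos_of_irreducible h₁).ne'
  obtain ⟨y₂, hy₂⟩ := IsAlgClosed.exists_aeval_eq_zero Ω g₂
    (Polynomial.degree_pos_of_irreducible h₂).ne'
  have hpow : ∀ (g : K[X]) (y : Ω), g ∣ X ^ m - C a → aeval y g = 0 → y ^ m = i a := by
    intro g y hg hy
    obtain ⟨q, hq⟩ := hg
    have := congrArg (aeval y) hq
    rw [map_mul, hy, zero_mul] at this
    simpa [sub_eq_zero] using this
  have hy₁m := hpow g₁ y₁ hd₁ hy₁
  have hy₂m := hpow g₂ y₂ hd₂ hy₂
  have hia : i a ≠ 0 := (map_ne_zero i).mpr ha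
  have hy₁0 : y₁ ≠ 0 := by
    rintro rfl
    rw [zero_pow hm.ne'] at hy₁m
    exact hia hy₁m.symm
  obtain ⟨ζ, hζ⟩ : ∃ ζ : K, y₂ = i ζ * y₁ := by
    have h1 : (y₂ / y₁) ^ m = 1 := by
      rw [div_pow, hy₁m, hy₂m, div_self hia]
    have h2 : y₂ / y₁ ∈ ((X ^ m - 1 : K[X]).map i).roots := by
      rw [mem_roots']
      refine ⟨?_, ?_⟩
      · have : (X ^ m - 1 : K[X]).map i = X ^ m - 1 := by simp
        rw [this]
        have h3 : (X ^ m - 1 : Polynomial Ω) = X ^ m - C 1 := by rw [map_one]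
        rw [h3]
        exact (monic_X_pow_sub_C (1 : Ω) hm.ne').ne_zero
      · simp [h1]
    rw [(hK m hm).roots_map i, Multiset.mem_map] at h2
    obtain ⟨ζ, -, hζ⟩ := h2
    exact ⟨ζ, by rw [hζ, div_mul_cancel₀ _ hy₁0]⟩
  have hy₁r : y₁ ^ g₁.natDegree = i b₁ := by
    rw [hb₁] at hy₁
    simp only [map_sub, map_pow, aeval_X, aeval_C] at hy₁
    exact sub_eq_zero.mp hy₁
  have hq0 : aeval y₂ (X ^ g₁.natDegree - C (ζ ^ g₁.natDegree * b₁) : K[X]) = 0 := by
    simp only [map_sub, map_pow, aeval_X, aeval_C, map_mul]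
    rw [hζ, mul_pow, hy₁r]
    exact sub_self _
  have hg₂ : g₂ = minpoly K y₂ := minpoly.eq_of_irreducible_of_monic h₂ hy₂ hm₂
  have hdvd : g₂ ∣ X ^ g₁.natDegree - C (ζ ^ g₁.natDegree * b₁) := by
    rw [hg₂]; exact minpoly.dvd K y₂ hq0
  have := natDegree_le_of_dvd hdvd (monic_X_pow_sub_C _ hr₁.ne').ne_zero
  rwa [natDegree_X_pow_sub_C] at this

/-- Let K be a field such that K contains all roots of unity (for every n ≥ 1 the polynomial X^n − 1
splits into linear factors over K), A a central simple K-algebra of dimension n ^ 2, and x an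
invertible element of A some power x ^ m (m ≥ 1) of which lies in K. Then there are a positive
integer r dividing n and elements a_i of K such that the minimal polynomial of x over K is the
product of the polynomials X ^ r − a_i. -/
theorem result
    (K : Type u) [Field K] (hK : ∀ n : ℕ, 0 < n → (X ^ n - 1 : K[X]).Splits)
    (A : Type v) [Ring A] [Algebra K A] [Algebra.IsCentral K A] [IsSimpleRing A] [FiniteDimensional K A]
    (n : ℕ) (hn : Module.finrank K A = n ^ 2)
    (x : A) (hx : IsUnit x) (hxm : ∃ m : ℕ, 0 < m ∧ x ^ m ∈ (algebraMap K A).range) :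
    ∃ r : ℕ, 0 < r ∧ r ∣ n ∧ ∃ s : Multiset K, minpoly K x = (s.map fun a : K => X ^ r - C a).prod := by
  classical
  obtain ⟨m, hm, a, ha⟩ := hxm
  have ha0 : a ≠ 0 := by
    rintro rfl
    rw [map_zero] at ha
    have h0 : IsUnit (x ^ m) := hx.pow m
    rw [← ha] at h0
    exact not_isUnit_zero h0
  -- a Galois splitting field
  obtain ⟨L, _, _, hfin, hgal, n', hn', ⟨e⟩⟩ := Groth.Agent.S0201.result K A
  have hnn : n' = n := by
    have h1 : Module.finrank L (TensorProduct K L A) = Module.finrank K A :=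
      Module.finrank_baseChange
    have h2 : Module.finrank L (TensorProduct K L A) =
        Module.finrank L (Matrix (Fin n') (Fin n') L) := e.toLinearEquiv.finrank_eq
    rw [h1, hn, Module.finrank_matrix, Module.finrank_self, mul_one, Fintype.card_fin,
      ← pow_two] at h2
    exact (Nat.pow_left_injective (by norm_num : 2 ≠ 0) h2).symm
  subst hnn
  -- the reduced characteristic polynomial
  obtain ⟨P, hPmon, hPdeg, hPmap⟩ :=
    Groth.Agent.Lib.Helper52.RedCharpoly.exists_redCharpoly e x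
  have hint : IsIntegral K x := IsIntegral.of_finite K x
  obtain ⟨μ, hμ⟩ : ∃ μ, μ = minpoly K x := ⟨_, rfl⟩
  rw [← hμ]
  have hμmon : μ.Monic := hμ ▸ minpoly.monic hint
  have hμ0 : μ ≠ 0 := hμmon.ne_zero
  have hμunit : ¬ IsUnit μ := hμ ▸ minpoly.not_isUnit K x
  have hμdvd : μ ∣ X ^ m - C a := by
    rw [hμ]
    apply minpoly.dvd
    simp only [map_sub, map_pow, aeval_X, aeval_C]
    rw [← ha]; exact sub_self _
  have hPdvd : P ∣ μ ^ n' :=
    Groth.Agent.Lib.Helper52.RedCharpoly.dvd_pow_of_aeval_eq_zero e x P hPmap μ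
      (hμ ▸ minpoly.aeval K x)
  -- properties of normalized factors
  have hfac : ∀ g : K[X], g ∣ μ → Irreducible g → normalize g = g →
      g.Monic ∧ g ∣ X ^ m - C a := by
    intro g hgμ hgirr hgnorm
    refine ⟨?_, hgμ.trans hμdvd⟩
    rw [← hgnorm]
    exact Polynomial.monic_normalize hgirr.ne_zero
  have hfacμ : ∀ g ∈ UniqueFactorizationMonoid.normalizedFactors μ,
      Irreducible g ∧ g.Monic ∧ g ∣ X ^ m - C a := by
    intro g hg
    have hirr := UniqueFactorizationMonoid.irreducible_of_normalized_factor g hg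
    exact ⟨hirr, hfac g (UniqueFactorizationMonoid.dvd_of_mem_normalizedFactors hg) hirr
      (UniqueFactorizationMonoid.normalize_normalized_factor g hg)⟩
  have hfacP : ∀ g ∈ UniqueFactorizationMonoid.normalizedFactors P,
      Irreducible g ∧ g.Monic ∧ g ∣ X ^ m - C a := by
    intro g hg
    have hirr := UniqueFactorizationMonoid.irreducible_of_normalized_factor g hg
    have hgP := UniqueFactorizationMonoid.dvd_of_mem_normalizedFactors hg
    have hgμ : g ∣ μ := hirr.prime.dvd_of_dvd_pow (hgP.trans hPdvd)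
    exact ⟨hirr, hfac g hgμ hirr (UniqueFactorizationMonoid.normalize_normalized_factor g hg)⟩
  -- a first factor
  obtain ⟨g₀, hg₀⟩ : ∃ g₀, g₀ ∈ UniqueFactorizationMonoid.normalizedFactors μ := by
    obtain ⟨q, hq⟩ := UniqueFactorizationMonoid.exists_mem_normalizedFactors hμ0 hμunit
    exact ⟨q, hq⟩
  obtain ⟨hg₀irr, hg₀mon, hg₀dvd⟩ := hfacμ g₀ hg₀
  refine ⟨g₀.natDegree, hg₀irr.natDegree_pos, ?_, ?_⟩
  · -- `r ∣ n`
    have hPprod : (UniqueFactorizationMonoid.normalizedFactors P).prod = P := by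
      apply Polynomial.eq_of_monic_of_associated _ hPmon
        (UniqueFactorizationMonoid.prod_normalizedFactors hPmon.ne_zero)
      have := Polynomial.monic_multiset_prod_of_monic
        (UniqueFactorizationMonoid.normalizedFactors P) id (fun g hg => (hfacP g hg).2.1)
      rwa [Multiset.map_id] at this
    rw [← hPdeg, ← hPprod, Polynomial.natDegree_multiset_prod_of_monic _
      (fun g hg => (hfacP g hg).2.1)]
    apply Multiset.dvd_sum
    intro d hd
    obtain ⟨g, hg, rfl⟩ := Multiset.mem_map.mp hd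
    obtain ⟨hgirr, hgmon, hgdvd⟩ := hfacP g hg
    rw [le_antisymm (natDegree_le_of_dvd_binomial hK hg₀irr hg₀mon hgirr hgmon hm ha0 hg₀dvd hgdvd)
      (natDegree_le_of_dvd_binomial hK hgirr hgmon hg₀irr hg₀mon hm ha0 hgdvd hg₀dvd)]
  · refine ⟨(UniqueFactorizationMonoid.normalizedFactors μ).map (fun g => -g.coeff 0), ?_⟩
    have hμprod : (UniqueFactorizationMonoid.normalizedFactors μ).prod = μ := by
      apply Polynomial.eq_of_monic_of_associated _ hμmon
        (UniqueFactorizationMonoid.prod_normalizedFactors hμ0)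
      have := Polynomial.monic_multiset_prod_of_monic
        (UniqueFactorizationMonoid.normalizedFactors μ) id (fun g hg => (hfacμ g hg).2.1)
      rwa [Multiset.map_id] at this
    rw [Multiset.map_map]
    conv_lhs => rw [← hμprod]
    congr 1
    conv_lhs => rw [← Multiset.map_id (UniqueFactorizationMonoid.normalizedFactors μ)]
    apply Multiset.map_congr rfl
    intro g hg
    obtain ⟨hgirr, hgmon, hgdvd⟩ := hfacμ g hg
    obtain ⟨b, hb⟩ :=
      Groth.Agent.Lib.Helper52.CSASubfield.eq_X_pow_sub_C_of_dvd hK hgirr hgmon hm ha0 hgdvd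
    have hdeg : g.natDegree = g₀.natDegree :=
      le_antisymm (natDegree_le_of_dvd_binomial hK hg₀irr hg₀mon hgirr hgmon hm ha0 hg₀dvd hgdvd)
        (natDegree_le_of_dvd_binomial hK hgirr hgmon hg₀irr hg₀mon hm ha0 hgdvd hg₀dvd)
    have hcoeff : g.coeff 0 = -b := by
      rw [hb, coeff_sub, coeff_X_pow, coeff_C_zero, if_neg hgirr.natDegree_pos.ne, zero_sub]
    simp only [id_eq, Function.comp_apply]
    rw [hcoeff, neg_neg, ← hdeg, ← hb]

end Groth.Agent.S15167
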