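import Groth.Statements.S15168
import Groth.Agent.Lib.Helper52.CSASubfield

set_option autoImplicit false
universe u v
open Polynomial
open BddFin

namespace Groth.Agent.S15168


open Groth.Agent.Lib.Helper52.CSASubfield in
/-- In a central division algebra of dimension `n ^ 2`, the degree of the minimal polynomial of any
element divides `n`. -/
theorem natDegree_minpoly_dvd (K : Type u) [Field K]
    (A : Type v) [DivisionRing A] [Algebra K A] [Algebra.IsCentral K A] [FiniteDimensional K A]
    (n : ℕ) (hn : Module.finrank K A = n ^ 2) (x : A) :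
    (minpoly K x).natDegree ∣ n := by
  have hint : IsIntegral K x := IsIntegral.of_finite K x
  set f := minpoly K x with hf
  have hirr : Irreducible f := minpoly.irreducible hint
  have : Fact (Irreducible f) := ⟨hirr⟩
  have hf0 : f ≠ 0 := hirr.ne_zero
  -- the map `K[X]/(f) → A`
  let ψ : AdjoinRoot f →ₐ[K] A :=
    Ideal.Quotient.liftₐ (Ideal.span {f}) (aeval x) (by
      intro g hg
      obtain ⟨q, rfl⟩ := Ideal.mem_span_singleton.mp hg
      rw [map_mul, hf, minpoly.aeval, zero_mul])
  have hψinj : Function.Injective ψ :=
    (IsSimpleRing.injective_ringHom_or_subsingleton_codomain ψ.toRingHom).resolve_right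
      (not_subsingleton A)
  have hrank : Module.finrank K ψ.range = f.natDegree := by
    rw [← (AlgEquiv.ofInjective ψ hψinj).toLinearEquiv.finrank_eq,
      (AdjoinRoot.powerBasis hf0).finrank, AdjoinRoot.powerBasis_dim]
  rw [← hrank]
  apply finrank_dvd_of_commutative ψ.range _ n hn
  rintro _ ⟨u, rfl⟩ _ ⟨v, rfl⟩
  simp only [AlgHom.toRingHom_eq_coe, RingHom.coe_coe]
  rw [← map_mul, ← map_mul, mul_comm]

/-- Let K be a field such that K contains all roots of unity (for every n ≥ 1 the polynomial X^n − 1
splits into linear factors over K), A a central division algebra of dimension n ^ 2 over K, and x an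
element of A some power x ^ m (m ≥ 1) of which lies in K. Then x ^ n lies in K; that is, the order
of the class of x in the quotient of the unit group of A by that of K divides n. -/
theorem result
    (K : Type u) [Field K] (hK : ∀ n : ℕ, 0 < n → (X ^ n - 1 : K[X]).Splits)
    (A : Type v) [DivisionRing A] [Algebra K A] [Algebra.IsCentral K A] [FiniteDimensional K A]
    (n : ℕ) (hn : Module.finrank K A = n ^ 2)
    (x : A) (hxm : ∃ m : ℕ, 0 < m ∧ x ^ m ∈ (algebraMap K A).range) :
    x ^ n ∈ (algebraMap K A).range := by
  obtain ⟨m, hm, a, ha⟩ := hxm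
  have hn0 : n ≠ 0 := by
    rintro rfl
    have : 0 < Module.finrank K A := Module.finrank_pos
    rw [hn] at this
    simp at this
  by_cases hx0 : x = 0
  · rw [hx0, zero_pow hn0]; exact ⟨0, map_zero _⟩
  have ha0 : a ≠ 0 := by
    rintro rfl
    rw [map_zero] at ha
    exact hx0 (pow_eq_zero_iff hm.ne' |>.mp ha.symm)
  have hint : IsIntegral K x := IsIntegral.of_finite K x
  have hirr : Irreducible (minpoly K x) := minpoly.irreducible hint
  have hmon : (minpoly K x).Monic := minpoly.monic hint
  have hdvd : minpoly K x ∣ X ^ m - C a := by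
    apply minpoly.dvd
    simp only [map_sub, map_pow, aeval_X, aeval_C]
    rw [← ha]; exact sub_self _
  obtain ⟨b, hb⟩ := Groth.Agent.Lib.Helper52.CSASubfield.eq_X_pow_sub_C_of_dvd hK hirr hmon hm ha0 hdvd
  have hxr : x ^ (minpoly K x).natDegree = algebraMap K A b := by
    have := minpoly.aeval K x
    rw [hb] at this
    simp only [map_sub, map_pow, aeval_X, aeval_C] at this
    exact sub_eq_zero.mp this
  obtain ⟨q, hq⟩ := natDegree_minpoly_dvd K A n hn x
  refine ⟨b ^ q, ?_⟩
  rw [map_pow, ← hxr, ← pow_mul, ← hq]

end Groth.Agent.S15168
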