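import Groth.Statements.S1517
import Mathlib.RingTheory.TwoSidedIdeal.Operations
import Mathlib.RingTheory.SimpleRing.Defs

set_option autoImplicit false
universe u
open Brauer

namespace Groth.Agent.S1517

open scoped Pointwise

section
variable {A : Type u} [Ring A] (M : Submodule Aᵐᵒᵖ A)

/-- Left multiplication by an element of the right ideal `M`, as an endomorphism of `M`. -/
def lmul (x : M) : Module.End Aᵐᵒᵖ M where
  toFun m := ⟨(x : A) * (m : A), by
    have := M.smul_mem (MulOpposite.op (m : A)) x.2
    simpa using this⟩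
  map_add' m m' := by
    ext
    simp [mul_add]
  map_smul' r m := by
    ext
    simp [mul_assoc]

@[simp] lemma lmul_apply_coe (x m : M) : ((lmul M x m : M) : A) = (x : A) * (m : A) := rfl

lemma one_mem_closure [IsSimpleRing A] (hM : M ≠ ⊥) :
    (1 : A) ∈ AddSubgroup.closure ((Set.univ : Set A) * (M : Set A) * (Set.univ : Set A)) := by
  rw [← TwoSidedIdeal.mem_span_iff_mem_addSubgroup_closure]
  rcases eq_bot_or_eq_top (TwoSidedIdeal.span (M : Set A)) with h | h
  · exfalso
    apply hM
    rw [eq_bot_iff]
    intro x hx
    have : x ∈ TwoSidedIdeal.span (M : Set A) := TwoSidedIdeal.subset_span hx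
    rw [h] at this
    simpa using this
  · rw [h]
    trivial

end

/-- Let A be a ring with no nontrivial two-sided ideals and M a nonzero right ideal, viewed as a right
A-module with endomorphism ring A'. Then every A'-linear endomorphism of M is right multiplication
by exactly one element of A; that is, the natural map from A to the bicommutant of M is a bijection. -/
theorem result (A : Type u) [Ring A] [IsSimpleRing A]
    (M : Submodule Aᵐᵒᵖ A) (hM : M ≠ ⊥)
    (g : Module.End (Module.End Aᵐᵒᵖ M) M) :
    ∃! a : A, ∀ m : M, (g m : A) = (m : A) * a := by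
  have h1 := one_mem_closure M hM
  -- existence
  have hP : ∀ z ∈ AddSubgroup.closure ((Set.univ : Set A) * (M : Set A) * (Set.univ : Set A)),
      ∃ c : A, ∀ m : M, ((g (MulOpposite.op z • m) : M) : A) = (m : A) * c := by
    intro z hz
    induction hz using AddSubgroup.closure_induction with
    | mem z hz =>
      obtain ⟨_, ⟨x, -, s, hs, rfl⟩, y, -, rfl⟩ := hz
      refine ⟨x * ((g (MulOpposite.op y • ⟨s, hs⟩) : M) : A), fun m => ?_⟩
      have e1 : MulOpposite.op (x * s * y) • m =
          (lmul M (MulOpposite.op x • m)) • (MulOpposite.op y • (⟨s, hs⟩ : M)) := by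
        ext
        simp [mul_assoc]
      rw [e1, map_smul]
      simp [mul_assoc]
    | zero => exact ⟨0, fun m => by simp⟩
    | add z z' _ _ hz hz' =>
      obtain ⟨c, hc⟩ := hz
      obtain ⟨c', hc'⟩ := hz'
      refine ⟨c + c', fun m => ?_⟩
      rw [MulOpposite.op_add, add_smul, map_add, Submodule.coe_add, hc, hc', mul_add]
    | neg z _ hz =>
      obtain ⟨c, hc⟩ := hz
      refine ⟨-c, fun m => ?_⟩
      have e2 : MulOpposite.op (-z) • m = -(MulOpposite.op z • m) := by
        ext
        simp
      rw [e2, map_neg, Submodule.coe_neg, hc, mul_neg]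
  -- uniqueness helper
  have hQ : ∀ d : A, (∀ m : M, (m : A) * d = 0) →
      ∀ z ∈ AddSubgroup.closure ((Set.univ : Set A) * (M : Set A) * (Set.univ : Set A)), z * d = 0 := by
    intro d hd z hz
    induction hz using AddSubgroup.closure_induction with
    | mem z hz =>
      obtain ⟨_, ⟨x, -, s, hs, rfl⟩, y, -, rfl⟩ := hz
      have := hd (MulOpposite.op y • ⟨s, hs⟩)
      simp only [Submodule.coe_smul, MulOpposite.smul_eq_mul_unop, MulOpposite.unop_op] at this
      rw [mul_assoc, mul_assoc, ← mul_assoc s, this, mul_zero]
    | zero => simp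
    | add z z' _ _ hz hz' => rw [add_mul, hz, hz', add_zero]
    | neg z _ hz => rw [neg_mul, hz, neg_zero]
  obtain ⟨a, ha⟩ := hP 1 h1
  refine ⟨a, fun m => ?_, fun a' ha' => ?_⟩
  · simpa using ha m
  · have hd : ∀ m : M, (m : A) * (a' - a) = 0 := by
      intro m
      have := ha m
      simp only [MulOpposite.op_one, one_smul] at this
      rw [mul_sub, ← ha' m, ← this, sub_self]
    have := hQ (a' - a) hd 1 h1
    rw [one_mul] at this
    exact sub_eq_zero.mp this

end Groth.Agent.S1517
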