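import Groth.Statements.S15172
import Mathlib.Algebra.Polynomial.Roots
import Mathlib.Algebra.Polynomial.Monic
import Mathlib.Algebra.CharP.Lemmas
import Mathlib.Algebra.Polynomial.Eval.Degree
import Mathlib.Tactic.Ring
import Mathlib.Tactic.LinearCombination
import Mathlib.Tactic.NormNum

set_option autoImplicit false
universe u v
open Polynomial
open BddFin

namespace Groth.Agent.S15172

variable {L : Type u} [Field L]

/-- closure under negation for a finite additive submonoid in characteristic `p`. -/
lemma neg_mem_of (p : ℕ) [Fact p.Prime] [CharP L p] (s : Finset L) (h0 : (0 : L) ∈ s)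
    (hadd : ∀ a ∈ s, ∀ b ∈ s, a + b ∈ s) (b : L) (hb : b ∈ s) : -b ∈ s := by
  have hn : ∀ n : ℕ, (n : L) * b ∈ s := by
    intro n
    induction n with
    | zero => simpa using h0
    | succ n ih =>
      have : ((n + 1 : ℕ) : L) * b = (n : L) * b + b := by push_cast; ring
      rw [this]
      exact hadd _ ih _ hb
  have hp1 : ((p - 1 : ℕ) : L) = -1 := by
    have hp : 1 ≤ p := (Fact.out : p.Prime).one_lt.le
    rw [Nat.cast_sub hp, CharP.cast_eq_zero L p]
    simp
  have := hn (p - 1)
  rw [hp1] at this
  simpa using this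

/-- translation invariance of the product. -/
lemma comp_translate (s : Finset L)
    (hadd : ∀ a ∈ s, ∀ b ∈ s, a + b ∈ s) (hneg : ∀ b ∈ s, -b ∈ s) (b : L) (hb : b ∈ s) :
    (∏ a ∈ s, (X - C a)).comp (X + C b) = ∏ a ∈ s, (X - C a) := by
  rw [prod_comp]
  refine Finset.prod_nbij' (fun a => a - b) (fun a => a + b) ?_ ?_ ?_ ?_ ?_
  · intro a ha
    rw [sub_eq_add_neg]
    exact hadd a ha _ (hneg b hb)
  · intro a ha
    exact hadd a ha b hb
  · intro a _; simp
  · intro a _; simp
  · intro a _
    simp only [sub_comp, X_comp, C_comp, C_sub]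
    ring

/-- The two-variable polynomial identity, with inner variable `X : L[X]` and outer variable `Y`. -/
lemma twoVar (p : ℕ) [Fact p.Prime] [CharP L p] (s : Finset L) (h0 : (0 : L) ∈ s)
    (hadd : ∀ a ∈ s, ∀ b ∈ s, a + b ∈ s) :
    ((∏ a ∈ s, (X - C a)).map (C : L →+* L[X])).comp (X + C (X : L[X]))
      - (∏ a ∈ s, (X - C a)).map (C : L →+* L[X]) - C (∏ a ∈ s, (X - C a)) = 0 := by
  classical
  set F : L[X] := ∏ a ∈ s, (X - C a) with hF
  have hneg := neg_mem_of p s h0 hadd
  have hFm : F.Monic := monic_prod_of_monic _ _ (fun a _ => monic_X_sub_C a)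
  have hFd : F.natDegree = s.card := by
    rw [hF, natDegree_prod_of_monic _ _ (fun a _ => monic_X_sub_C a)]
    simp
  have hcard : 0 < s.card := Finset.card_pos.mpr ⟨0, h0⟩
  set FA : L[X][X] := F.map (C : L →+* L[X]) with hFA
  have hFAm : FA.Monic := hFm.map _
  have hFAd : FA.natDegree = s.card := by rw [hFA, natDegree_map_eq_of_injective C_injective, hFd]
  have hlin : (X + C (X : L[X]) : L[X][X]).Monic := monic_X_add_C _
  have hcompm : (FA.comp (X + C (X : L[X]))).Monic := hFAm.comp hlin (by
    rw [natDegree_X_add_C]; exact one_ne_zero)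
  have hcompd : (FA.comp (X + C (X : L[X]))).natDegree = s.card := by
    rw [natDegree_comp, natDegree_X_add_C, mul_one, hFAd]
  apply eq_zero_of_natDegree_lt_card_of_eval_eq_zero' _ (s.image (C : L → L[X]))
  · intro i hi
    obtain ⟨b, hb, rfl⟩ := Finset.mem_image.mp hi
    have e1 : (FA.comp (X + C (X : L[X]))).eval (C b) = F := by
      rw [eval_comp, eval_add, eval_X, eval_C, hFA, eval_map, add_comm]
      exact comp_translate s hadd hneg b hb
    have e2 : FA.eval (C b) = 0 := by
      rw [hFA, eval_map, eval₂_at_apply]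
      have : F.eval b = 0 := by
        rw [hF, eval_prod]
        exact Finset.prod_eq_zero hb (by simp)
      rw [this, map_zero]
    rw [eval_sub, eval_sub, e1, e2, eval_C]
    ring
  · rw [Finset.card_image_of_injective _ C_injective]
    have h1 : (FA.comp (X + C (X : L[X])) - FA).degree < (s.card : WithBot ℕ) := by
      have hd : (FA.comp (X + C (X : L[X]))).degree = FA.degree := by
        rw [degree_eq_natDegree hcompm.ne_zero, degree_eq_natDegree hFAm.ne_zero, hcompd, hFAd]
      have := degree_sub_lt_left hd hcompm.ne_zero (by rw [hcompm.leadingCoeff, hFAm.leadingCoeff])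
      rwa [degree_eq_natDegree hcompm.ne_zero, hcompd] at this
    have h2 : (C F : L[X][X]).degree < (s.card : WithBot ℕ) :=
      lt_of_le_of_lt degree_C_le (by exact_mod_cast hcard)
    have h3 : (FA.comp (X + C (X : L[X])) - FA - C F).degree < (s.card : WithBot ℕ) :=
      lt_of_le_of_lt (degree_sub_le _ _) (max_lt h1 h2)
    by_cases hz : FA.comp (X + C (X : L[X])) - FA - C F = 0
    · rw [hz]; simpa using hcard
    · rw [degree_eq_natDegree hz] at h3
      exact_mod_cast h3

/-- Let L be a field of characteristic p > 0 and s a finite subset of L containing 0 and closed under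
addition (a finite additive subgroup). Then the polynomial f = ∏_{a ∈ s} (X - a) is additive: f (x +
y) = f x + f y for all x, y in any commutative L-algebra (equivalently, as an identity of
polynomials in two variables). -/
theorem result
    (L : Type u) [Field L] (p : ℕ) [Fact p.Prime] [CharP L p] (s : Finset L) (h0 : (0 : L) ∈ s)
    (hadd : ∀ a ∈ s, ∀ b ∈ s, a + b ∈ s) (R : Type v) [CommRing R] [Algebra L R] (x y : R) :
    aeval (x + y) (∏ a ∈ s, (X - C a)) = aeval x (∏ a ∈ s, (X - C a)) + aeval y (∏ a ∈ s, (X - C a)) := by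
  have key := twoVar p s h0 hadd
  have := congrArg (eval₂ ((aeval x : L[X] →ₐ[L] R) : L[X] →+* R) y) key
  simp only [eval₂_sub, eval₂_zero, eval₂_C, eval₂_comp, eval₂_add, eval₂_X, eval₂_map] at this
  have hc : ((aeval x : L[X] →ₐ[L] R) : L[X] →+* R).comp (C : L →+* L[X]) = algebraMap L R := by
    ext a; simp
  rw [hc] at this
  simp only [RingHom.coe_coe, aeval_X] at this
  have e : ∀ z : R, eval₂ (algebraMap L R) z (∏ a ∈ s, (X - C a)) = aeval z (∏ a ∈ s, (X - C a)) :=
    fun z => rfl
  rw [e, e] at this
  rw [add_comm x y]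
  linear_combination this

end Groth.Agent.S15172
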