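import Groth.Statements.S15173
import Mathlib

set_option autoImplicit false
universe u v
open Polynomial
open BddFin

namespace Groth.Agent.S15173

section aux

variable {G : Type*} [Group G]

/-- finite index of a central-like subgroup in a commutative closure generated with finitely many
elements of finite order modulo it -/
lemma relIndex_ne_zero_aux (Z : Subgroup G) (T : Set G) (hT : T.Finite)
    (hcomm : ∀ x ∈ (Z : Set G) ∪ T, ∀ y ∈ (Z : Set G) ∪ T, x * y = y * x)
    (p : ℕ) (hp : 0 < p) (hpow : ∀ t ∈ T, t ^ p ∈ Z) :
    Z.relIndex (Subgroup.closure ((Z : Set G) ∪ T)) ≠ 0 := by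
  classical
  set H : Subgroup G := Subgroup.closure ((Z : Set G) ∪ T) with hH
  let _ : CommGroup H := Subgroup.closureCommGroupOfComm hcomm
  set Z' : Subgroup H := Z.subgroupOf H with hZ'
  have hZH : Z ≤ H := fun z hz => Subgroup.subset_closure (Or.inl hz)
  have hTH : ∀ t ∈ T, t ∈ H := fun t ht => Subgroup.subset_closure (Or.inr ht)
  -- generators of the quotient
  let S : Set (H ⧸ Z') := (fun t : T => (QuotientGroup.mk (⟨t.1, hTH t.1 t.2⟩ : H) : H ⧸ Z')) '' Set.univ
  have hSfin : S.Finite := by
    have : Finite T := hT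
    exact Set.toFinite _
  have hgen : ∀ x (hx : x ∈ H), (QuotientGroup.mk (⟨x, hx⟩ : H) : H ⧸ Z') ∈ Subgroup.closure S := by
    intro x hx
    induction hx using Subgroup.closure_induction with
    | mem x hx =>
      rcases hx with hx | hx
      · have : (QuotientGroup.mk (⟨x, hZH hx⟩ : H) : H ⧸ Z') = 1 := by
          rw [QuotientGroup.eq_one_iff]
          exact hx
        rw [this]; exact one_mem _
      · exact Subgroup.subset_closure ⟨⟨x, hx⟩, trivial, rfl⟩
    | one => exact one_mem _
    | mul x y hx hy ihx ihy =>
      have : (QuotientGroup.mk (⟨x * y, mul_mem hx hy⟩ : H) : H ⧸ Z')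
          = QuotientGroup.mk (⟨x, hx⟩ : H) * QuotientGroup.mk (⟨y, hy⟩ : H) := rfl
      rw [this]; exact mul_mem ihx ihy
    | inv x hx ihx =>
      have : (QuotientGroup.mk (⟨x⁻¹, inv_mem hx⟩ : H) : H ⧸ Z')
          = (QuotientGroup.mk (⟨x, hx⟩ : H))⁻¹ := rfl
      rw [this]; exact inv_mem ihx
  have : Group.FG (H ⧸ Z') := by
    rw [Group.fg_iff]
    refine ⟨S, ?_, hSfin⟩
    rw [eq_top_iff]
    rintro q -
    obtain ⟨⟨x, hx⟩, rfl⟩ := QuotientGroup.mk_surjective q
    exact hgen x hx
  have hpowH : ∀ x (hx : x ∈ H), x ^ p ∈ Z := by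
    intro x hx
    induction hx using Subgroup.closure_induction with
    | mem x hx =>
      rcases hx with hx | hx
      · exact pow_mem hx p
      · exact hpow x hx
    | one => rw [one_pow]; exact one_mem _
    | mul x y hx hy ihx ihy =>
      have hc : Commute x y := by
        have := mul_comm (⟨x, hx⟩ : H) ⟨y, hy⟩
        exact congrArg Subtype.val this
      rw [hc.mul_pow]; exact mul_mem ihx ihy
    | inv x hx ihx => rw [inv_pow]; exact inv_mem ihx
  have htors : IsMulTorsion (H ⧸ Z') := by
    intro q
    obtain ⟨⟨x, hx⟩, rfl⟩ := QuotientGroup.mk_surjective q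
    rw [isOfFinOrder_iff_pow_eq_one]
    refine ⟨p, hp, ?_⟩
    rw [← QuotientGroup.mk_pow, QuotientGroup.eq_one_iff]
    exact hpowH x hx
  have : Finite (H ⧸ Z') := CommGroup.finite_of_fg_isMulTorsion _ htors
  rw [Subgroup.relIndex, Subgroup.index]
  exact Nat.card_pos.ne'

lemma lt_relIndex_aux (Z H : Subgroup G) (h0 : Z.relIndex H ≠ 0) (N : ℕ) (f : Fin (N + 1) → G)
    (hf : ∀ i, f i ∈ H) (hinj : ∀ i j, (f i)⁻¹ * f j ∈ Z → i = j) : N < Z.relIndex H := by
  rw [Subgroup.relIndex, Subgroup.index] at h0 ⊢
  have : Finite (H ⧸ Z.subgroupOf H) := Nat.finite_of_card_ne_zero h0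
  let g : Fin (N + 1) → H ⧸ Z.subgroupOf H := fun i => QuotientGroup.mk (⟨f i, hf i⟩ : H)
  have hg : Function.Injective g := by
    intro i j hij
    apply hinj
    have := QuotientGroup.eq.mp hij
    exact this
  have := Nat.card_le_card_of_injective g hg
  rw [Nat.card_fin] at this
  omega

end aux

/-- Let K be a field of characteristic p > 0 such that K contains all roots of unity (for every n ≥ 1
the polynomial X^n − 1 splits into linear factors over K), and A a finite-dimensional central
division algebra over K. If A contains an element w not in K with w ^ p in K, then the quotient of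
the unit group of A by that of K has unbounded finite subgroups: for every N there is a subgroup H
of the units of A containing the units of K as a subgroup of finite index greater than N. (The
published statement assumes only that some element of A is inseparable over K and passes at once to
a purely inseparable subfield of degree p; this row assumes an element generating such a subfield
directly, which is what the rest of the printed argument uses.) -/
theorem result
    (K : Type u) [Field K] (p : ℕ) [Fact p.Prime] [CharP K p] (hK : ∀ n : ℕ, 0 < n → (X ^ n - 1 : K[X]).Splits)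
    (A : Type v) [DivisionRing A] [Algebra K A] [Algebra.IsCentral K A] [FiniteDimensional K A]
    (w : A) (hw : w ^ p ∈ (algebraMap K A).range) (hwK : w ∉ (algebraMap K A).range) (N : ℕ) :
    ∃ H : Subgroup Aˣ, (Units.map (algebraMap K A : K →* A)).range ≤ H ∧
      N < ((Units.map (algebraMap K A : K →* A)).range).relIndex H := by
  classical
  obtain ⟨k₀, hk₀⟩ := hw
  -- `K` is infinite
  have hinf : Infinite K := by
    by_contra hfin
    rw [not_infinite_iff_finite] at hfin
    have hsurj : Function.Surjective (frobenius K p) := by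
      have hinj : Function.Injective (frobenius K p) := (frobenius K p).injective
      exact Finite.surjective_of_injective hinj
    obtain ⟨l, hl⟩ := hsurj k₀
    apply hwK
    refine ⟨l, ?_⟩
    have hcomm : Commute w (algebraMap K A l) := (Algebra.commutes l w).symm
    have : CharP A p := charP_of_injective_algebraMap (algebraMap K A).injective p
    have h0 : (w - algebraMap K A l) ^ p = 0 := by
      rw [sub_pow_char_of_commute p hcomm, ← map_pow, ← hk₀]
      have : l ^ p = k₀ := hl
      rw [this, sub_self]
    have := pow_eq_zero_iff (Fact.out : p.Prime).ne_zero |>.mp h0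
    exact (sub_eq_zero.mp this).symm
  have : CharP A p := charP_of_injective_algebraMap (algebraMap K A).injective p
  have hp : p.Prime := Fact.out
  let a : Fin (N + 1) → K := fun i => Infinite.natEmbedding K i
  have ha : Function.Injective a := fun i j hij =>
    Fin.ext ((Infinite.natEmbedding K).injective hij)
  have hne : ∀ c : K, (1 + c • w : A) ≠ 0 := by
    intro c hc
    apply hwK
    by_cases hc0 : c = 0
    · rw [hc0, zero_smul, add_zero] at hc; exact absurd hc one_ne_zero
    · refine ⟨-c⁻¹, ?_⟩
      have h1 : c • w = -1 := eq_neg_of_add_eq_zero_right hc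
      have h2 : w = c⁻¹ • (c • w) := by rw [smul_smul, inv_mul_cancel₀ hc0, one_smul]
      rw [h2, h1, Algebra.algebraMap_eq_smul_one, smul_neg, neg_smul]
  let u : Fin (N + 1) → Aˣ := fun i => Units.mk0 (1 + a i • w) (hne _)
  set Z : Subgroup Aˣ := (Units.map (algebraMap K A : K →* A)).range with hZ
  let T : Set Aˣ := Set.range u
  have hTfin : T.Finite := Set.finite_range u
  have hZcomm : ∀ z ∈ Z, ∀ x : Aˣ, z * x = x * z := by
    rintro z ⟨k, rfl⟩ x
    ext
    simp only [Units.val_mul, Units.coe_map, MonoidHom.coe_coe]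
    exact Algebra.commutes _ _
  have hucomm : ∀ i j, u i * u j = u j * u i := by
    intro i j
    ext
    simp only [Units.val_mul, u, Units.val_mk0]
    have hc : Commute (a i • w) (a j • w) := ((Commute.refl w).smul_left _).smul_right _
    have : Commute (1 + a i • w) (1 + a j • w) :=
      ((Commute.one_left _).add_left ((Commute.one_right _).add_right hc))
    exact this
  have hcomm : ∀ x ∈ (Z : Set Aˣ) ∪ T, ∀ y ∈ (Z : Set Aˣ) ∪ T, x * y = y * x := by
    rintro x (hx | ⟨i, rfl⟩) y (hy | ⟨j, rfl⟩)
    · exact hZcomm x hx y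
    · exact hZcomm x hx _
    · exact (hZcomm y hy _).symm
    · exact hucomm i j
  have hpow : ∀ t ∈ T, t ^ p ∈ Z := by
    rintro _ ⟨i, rfl⟩
    have h1 : ((u i : Aˣ) : A) ^ p = algebraMap K A (1 + a i ^ p * k₀) := by
      simp only [u, Units.val_mk0]
      rw [add_pow_char_of_commute p (Commute.one_left _), one_pow, _root_.smul_pow, ← hk₀, map_add,
        map_one, map_mul, Algebra.smul_def, map_pow]
    have h2 : (1 + a i ^ p * k₀ : K) ≠ 0 := by
      intro h
      rw [h, map_zero] at h1
      exact (pow_ne_zero p (u i).ne_zero) h1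
    refine ⟨Units.mk0 _ h2, ?_⟩
    ext
    simp only [Units.coe_map, MonoidHom.coe_coe, Units.val_mk0, Units.val_pow_eq_pow_val]
    exact h1.symm
  have h0 := relIndex_ne_zero_aux Z T hTfin hcomm p hp.pos hpow
  refine ⟨Subgroup.closure ((Z : Set Aˣ) ∪ T), fun z hz => Subgroup.subset_closure (Or.inl hz), ?_⟩
  apply lt_relIndex_aux Z _ h0 N u (fun i => Subgroup.subset_closure (Or.inr ⟨i, rfl⟩))
  rintro i j ⟨k, hk⟩
  apply ha
  -- `u j = u i * k`
  have h1 : ((u j : Aˣ) : A) = (u i : A) * algebraMap K A (k : K) := by
    have : u j = u i * Units.map (algebraMap K A : K →* A) k := by rw [hk]; group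
    rw [this]; rfl
  simp only [u, Units.val_mk0] at h1
  -- compare coefficients
  have h2 : algebraMap K A (1 - (k : K)) = (a i * (k : K) - a j) • w := by
    rw [map_sub, map_one, sub_smul, mul_smul]
    have : (1 + a i • w) * algebraMap K A (k : K) = algebraMap K A (k : K) + a i • ((k : K) • w) := by
      rw [add_mul, one_mul, smul_mul_assoc, ← Algebra.commutes, ← Algebra.smul_def]
    rw [this] at h1
    rw [sub_eq_sub_iff_add_eq_add, h1, add_comm]
  by_cases hd : a i * (k : K) - a j = 0
  · rw [hd, zero_smul] at h2
    have hk1 : (1 : K) - k = 0 := (algebraMap K A).injective (by rw [h2, map_zero])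
    have : (k : K) = 1 := (sub_eq_zero.mp hk1).symm
    rw [this, mul_one] at hd
    exact sub_eq_zero.mp hd
  · exfalso
    apply hwK
    refine ⟨(a i * (k : K) - a j)⁻¹ * (1 - k), ?_⟩
    rw [map_mul, h2, ← Algebra.smul_def, smul_smul, inv_mul_cancel₀ hd, one_smul]

end Groth.Agent.S15173
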