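import Groth.Statements.S15177
import Groth.Agent.Lib.Helper75.ComodModule
import Groth.Prelude.Def_ComodSub

set_option autoImplicit false
universe u v
open BddFin

namespace Groth.Agent.S15177

open Groth.Agent.Lib.Helper75 TensorProduct

section aux

variable {K : Type u} [Field K] {A : Type v} [CommRing A] [HopfAlgebra K A]

/-- action of a dual algebra element on a comodule with explicit structure -/
noncomputable def actC {V : Type v} [AddCommGroup V] [Module K V] (c : HopfRep.Comod K A V)
    (r : DualAlg K A) : V →ₗ[K] V :=
  @act K _ A _ _ _ V _ _ c r.ofConv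

theorem actC_mul {V : Type v} [AddCommGroup V] [Module K V] (c : HopfRep.Comod K A V)
    (r s : DualAlg K A) (v : V) : actC c (r * s) v = actC c r (actC c s v) := by
  letI := c
  show act (r * s).ofConv v = act r.ofConv (act s.ofConv v)
  rw [act_act]
  rfl

theorem actC_one {V : Type v} [AddCommGroup V] [Module K V] (c : HopfRep.Comod K A V)
    (v : V) : actC c (1 : DualAlg K A) v = v := by
  letI := c
  show act (1 : DualAlg K A).ofConv v = v
  rw [one_ofConv]
  exact act_counit v

/-- the monoid hom from points to the dual algebra -/
noncomputable def toDual : WithConv (A →ₐ[K] K) →* DualAlg K A where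
  toFun g := WithConv.toConv g.ofConv.toLinearMap
  map_one' := AlgHom.toLinearMap_convOne
  map_mul' := AlgHom.toLinearMap_convMul

theorem actC_fixed {V : Type v} [AddCommGroup V] [Module K V] (c : HopfRep.Comod K A V)
    (g : WithConv (A →ₐ[K] K)) (v : V) (hv : v ∈ @HopfRep.fixedPts K A _ _ _ V _ _ c) :
    actC c (toDual g) v = v := by
  letI := c
  show act (toDual g).ofConv v = v
  rw [act_apply]
  have : coactMap K A V v = v ⊗ₜ[K] (1 : A) := hv
  rw [this, contractR_tmul]
  show g.ofConv (1 : A) • v = v
  rw [map_one, one_smul]

theorem fixedPts_isSubcomod {V : Type v} [AddCommGroup V] [Module K V] (c : HopfRep.Comod K A V) :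
    @HopfRep.IsSubcomod K A _ _ _ _ V _ _ c (@HopfRep.fixedPts K A _ _ _ V _ _ c) := by
  letI := c
  intro w hw
  refine ⟨(⟨w, hw⟩ : HopfRep.fixedPts K A V) ⊗ₜ[K] (1 : A), ?_⟩
  rw [LinearMap.rTensor_tmul]
  exact hw.symm

/-- key induction: points of finite order prime to the characteristic act trivially -/
theorem act_trivial (hU : HopfRep.IsUnipotent K A) (g : WithConv (A →ₐ[K] K)) (n : ℕ)
    (hgn : g ^ n = 1) (hn : (n : K) ≠ 0) :
    ∀ (d : ℕ) (V : Type v) [AddCommGroup V] [Module K V] (c : HopfRep.Comod K A V),
      Module.Finite K V → Module.finrank K V = d → ∀ v : V, actC c (toDual g) v = v := by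
  intro d
  induction d using Nat.strong_induction_on with
  | _ d ih =>
    intro V _ _ c hfin hd v
    by_cases hnt : Nontrivial V
    · letI := c
      have hF : HopfRep.fixedPts K A V ≠ ⊥ := hU V hfin hnt
      set F := HopfRep.fixedPts K A V with hFdef
      have hFsub := fixedPts_isSubcomod c
      let cQ : HopfRep.Comod K A (V ⧸ F) := ComodSub.Comod.quot c F hFsub
      have hπ := ComodSub.isComodHom_mkQ c F hFsub
      have hlt : Module.finrank K (V ⧸ F) < d := by
        have h1 := Submodule.finrank_quotient_add_finrank F
        have h2 : 0 < Module.finrank K F := by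
          rw [Module.finrank_pos_iff]
          exact (Submodule.nontrivial_iff_ne_bot).mpr hF
        omega
      have hQ : ∀ q : V ⧸ F, actC cQ (toDual g) q = q :=
        ih _ hlt (V ⧸ F) cQ inferInstance rfl
      -- N v ∈ F
      have hcomm : ∀ (r : DualAlg K A) (w : V), F.mkQ (actC c r w) = actC cQ r (F.mkQ w) := by
        intro r w
        exact (@isComodHom_iff K _ A _ _ _ V _ _ c (V ⧸ F) _ _ cQ F.mkQ).mp hπ r.ofConv w
      have hN : ∀ w : V, actC c (toDual g) w - w ∈ F := by
        intro w
        rw [← Submodule.Quotient.mk_eq_zero, Submodule.Quotient.mk_sub]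
        have := hcomm (toDual g) w
        rw [hQ] at this
        show F.mkQ (actC c (toDual g) w) - F.mkQ w = 0
        rw [this, sub_self]
      -- powers
      have hpow : ∀ k : ℕ, actC c (toDual g ^ k) v = v + k • (actC c (toDual g) v - v) := by
        intro k
        induction k with
        | zero => simp [actC_one]
        | succ k ihk =>
          rw [pow_succ, actC_mul]
          have h1 : actC c (toDual g) v = v + (actC c (toDual g) v - v) := by abel
          conv_lhs => rw [h1]
          rw [map_add, ihk]
          have h2 : actC c (toDual g ^ k) (actC c (toDual g) v - v) = actC c (toDual g) v - v := by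
            rw [← map_pow]
            exact actC_fixed c (g ^ k) _ (hN v)
          rw [h2, succ_nsmul]
          abel
      have hfinal := hpow n
      rw [← map_pow, hgn, map_one, actC_one] at hfinal
      have h3 : n • (actC c (toDual g) v - v) = 0 := by
        have : v = v + n • (actC c (toDual g) v - v) := hfinal
        exact (left_eq_add.mp this)
      rw [← Nat.cast_smul_eq_nsmul K] at h3
      rcases smul_eq_zero.mp h3 with h | h
      · exact absurd h hn
      · exact sub_eq_zero.mp h
    · rw [not_nontrivial_iff_subsingleton] at hnt
      exact Subsingleton.elim _ _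

end aux

/-- Let K be a field and Γ a unipotent linear algebraic group over K, given here by its coordinate Hopf
algebra A (a finitely generated, formally smooth commutative Hopf algebra over K all of whose
non-zero finite-dimensional comodules have a non-zero fixed vector). Then the group Γ(K) of K-points
(K-algebra maps A → K under convolution) has no non-trivial element of finite order coprime to the
characteristic of K: an element of finite order whose order is non-zero in K is the identity. -/
theorem result
    (K : Type u) [Field K] (A : Type v) [CommRing A] [HopfAlgebra K A] [Algebra.FiniteType K A]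
    [Algebra.FormallySmooth K A] (hU : HopfRep.IsUnipotent K A)
    (g : WithConv (A →ₐ[K] K)) (hg : IsOfFinOrder g) (hcop : ((orderOf g : ℕ) : K) ≠ 0) : g = 1 := by
  have hgn : g ^ orderOf g = 1 := pow_orderOf_eq_one g
  have key := act_trivial hU g (orderOf g) hgn hcop
  -- apply to finite-dimensional subcomodules of the regular comodule
  have hreg : ∀ a : A, g.ofConv a = CoalgebraStruct.counit (R := K) a := by
    intro a
    obtain ⟨W, hW, hWfin, haW⟩ := exists_finite_subcomod_mem (K := K) (A := A) (V := A) a
    let cW : HopfRep.Comod K A W := ComodSub.Comod.restr (HopfRep.Comod.regular K A) W hW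
    have hι := ComodSub.isComodHom_subtype (HopfRep.Comod.regular K A) W hW
    have h1 := key _ W cW hWfin rfl ⟨a, haW⟩
    have h2 := (@isComodHom_iff K _ A _ _ _ W _ _ cW A _ _ (HopfRep.Comod.regular K A) W.subtype).mp hι
      (toDual g).ofConv ⟨a, haW⟩
    have h3 : act (toDual g).ofConv a = a := by
      have h5 : W.subtype (actC cW (toDual g) ⟨a, haW⟩) = a := by rw [h1]; rfl
      have h6 : act (toDual g).ofConv (W.subtype ⟨a, haW⟩) = a :=
        h2.symm.trans h5
      exact h6
    -- apply counit
    have h4 : CoalgebraStruct.counit (R := K) (act (V := A) (toDual g).ofConv a) =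
        g.ofConv a := by
      have := LinearMap.congr_fun (comp_hitR (CoalgebraStruct.counit (R := K) (A := A))
        (toDual g).ofConv) a
      simp only [LinearMap.coe_comp, Function.comp_apply] at this
      have e : hitR (toDual g).ofConv a = act (V := A) (toDual g).ofConv a := rfl
      rw [e] at this
      rw [this]
      show (WithConv.toConv (CoalgebraStruct.counit (R := K) (A := A)) * toDual g).ofConv a = _
      rw [← one_ofConv, WithConv.toConv_ofConv, one_mul]
      rfl
    rw [← h4, h3]
  apply WithConv.ofConv_injective
  apply AlgHom.ext
  intro a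
  rw [hreg a]
  rfl

end Groth.Agent.S15177
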