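import Groth.Statements.S15180
import Groth.Agent.Lib.Helper16.GaSub
import Groth.Agent.Lib.Helper16.GmSub

set_option autoImplicit false
universe u
open CategoryTheory MonoidalCategory CartesianMonoidalCategory MonObj GrpObj AlgebraicGeometry
open BddFin

namespace Groth.Agent.S15180

/-- Let K be an arbitrary field, G a K-group scheme isomorphic (as a group scheme) to 𝔾_a (additive) or
to 𝔾_m (multiplicative), and H a finite subgroup scheme of G (a monomorphic homomorphism H → G with
H finite over K). Then the quotient G/H is isomorphic to G; equivalently, there is a homomorphism of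
K-group schemes G → G which is flat and surjective and whose kernel is H. -/
theorem result
    (K : Type u) [Field K] (G H : Over (Spec (CommRingCat.of K))) [GrpObj G] [GrpObj H]
    (hG : Nonempty (Grp.mk G ≅ Grp.mk (Red.Ga (Spec (CommRingCat.of K)))) ∨
      Nonempty (Grp.mk G ≅ Grp.mk (Red.Gm (Spec (CommRingCat.of K)))))
    (i : H ⟶ G) [IsMonHom i] [Mono i] [IsFinite H.hom] :
    ∃ φ : G ⟶ G, IsMonHom φ ∧ AlgGrp.IsKernel i φ ∧ Flat φ.left ∧ Surjective φ.left := by
  -- transport along a group isomorphism `G ≅ G'`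
  have key : ∀ (G' : Over (Spec (CommRingCat.of K))) [GrpObj G'] (e : Grp.mk G ≅ Grp.mk G'),
      (∀ (j : H ⟶ G') [IsMonHom j] [Mono j], ∃ φ' : G' ⟶ G', IsMonHom φ' ∧ AlgGrp.IsKernel j φ' ∧
        Flat φ'.left ∧ Surjective φ'.left) →
      ∃ φ : G ⟶ G, IsMonHom φ ∧ AlgGrp.IsKernel i φ ∧ Flat φ.left ∧ Surjective φ.left := by
    intro G' _ e hG'
    let a : G ≅ G' := (Grp.forget _).mapIso e
    haveI ha1 : IsMonHom a.hom := inferInstanceAs (IsMonHom e.hom.hom.hom)
    haveI ha2 : IsMonHom a.inv := inferInstanceAs (IsMonHom e.inv.hom.hom)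
    haveI : Mono (i ≫ a.hom) := mono_comp _ _
    obtain ⟨φ', hφ', hk, hflat, hsurj⟩ := hG' (i ≫ a.hom)
    haveI : IsIso a.hom.left := (Over.forget _).map_isIso a.hom
    haveI : IsIso a.inv.left := (Over.forget _).map_isIso a.inv
    refine ⟨a.hom ≫ φ' ≫ a.inv, inferInstance, ?_, ?_, ?_⟩
    · refine IsPullback.of_iso hk (Iso.refl _) a.symm (Iso.refl _) a.symm ?_ ?_ ?_ ?_
      · simp
      · simp
      · simp
      · simp [IsMonHom.one_hom]
    · rw [Over.comp_left, Over.comp_left]
      infer_instance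
    · rw [Over.comp_left, Over.comp_left]
      infer_instance
  rcases hG with ⟨⟨e⟩⟩ | ⟨⟨e⟩⟩
  · exact key _ e (fun j _ _ => Lib.Helper16.GaSub.exists_endo H j)
  · exact key _ e (fun j _ _ => Lib.Helper16.GmSub.exists_endo H j)

end Groth.Agent.S15180
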