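import Groth.Statements.S15183
import Mathlib.RingTheory.SimpleModule.WedderburnArtin
import Mathlib.RingTheory.Polynomial.Cyclotomic.Roots
import Mathlib.RingTheory.Artinian.Module
import Mathlib.RingTheory.Artinian.Algebra

set_option autoImplicit false
universe u v
open Polynomial
open BddFin

namespace Groth.Agent.S15183

theorem exists_primitiveRoot (K : Type u) [Field K] (d : ℕ) (hd : 0 < d) (hdK : (d : K) ≠ 0)
    (hs : (X ^ d - 1 : K[X]).Splits) : ∃ ζ : K, IsPrimitiveRoot ζ d := by
  haveI : NeZero (d : K) := ⟨hdK⟩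
  have hne : (X ^ d - 1 : K[X]) ≠ 0 := by
    have := Polynomial.X_pow_sub_C_ne_zero hd (1 : K)
    simpa using this
  have hsp : (cyclotomic d K).Splits := Splits.of_dvd hs hne (cyclotomic.dvd_X_pow_sub_one d K)
  have hdeg : (cyclotomic d K).degree ≠ 0 := by
    rw [degree_cyclotomic]
    exact_mod_cast (Nat.totient_pos.mpr hd).ne'
  obtain ⟨ζ, hζ⟩ := hsp.exists_eval_eq_zero hdeg
  exact ⟨ζ, (isRoot_cyclotomic_iff).mp hζ⟩

/-- nontrivial idempotent in a semisimple ring that has a nonzero nonunit -/
theorem exists_idempotent (A : Type v) [Ring A] [IsSemisimpleRing A] [IsDedekindFiniteMonoid A]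
    (y : A) (hy0 : y ≠ 0) (hyu : ¬ IsUnit y) :
    ∃ e : A, e * e = e ∧ e ≠ 0 ∧ e ≠ 1 := by
  let I : Submodule A A := Ideal.span {y}
  have hI0 : I ≠ ⊥ := by
    intro h
    have : y ∈ I := Ideal.subset_span rfl
    rw [h] at this
    exact hy0 (by simpa using this)
  have hI1 : I ≠ ⊤ := by
    intro h
    have : (1 : A) ∈ I := by rw [h]; trivial
    obtain ⟨z, hz⟩ := Ideal.mem_span_singleton'.mp this
    exact hyu (IsUnit.of_mul_eq_one_right z hz)
  obtain ⟨J, hJ⟩ := exists_isCompl I
  have h1 : (1 : A) ∈ I ⊔ J := by rw [hJ.sup_eq_top]; trivial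
  obtain ⟨e, he, f, hf, hef⟩ := Submodule.mem_sup.mp h1
  have hee : e * e = e := by
    have h2 : e - e * e ∈ I := I.sub_mem he (I.smul_mem e he)
    have h3 : e - e * e = e * f := by
      have : e * 1 = e * (e + f) := by rw [hef]
      rw [mul_one, mul_add] at this
      rw [sub_eq_iff_eq_add']
      exact this
    have h4 : e * f ∈ J := J.smul_mem e hf
    have h5 : e - e * e ∈ I ⊓ J := ⟨h2, h3 ▸ h4⟩
    rw [hJ.inf_eq_bot] at h5
    have h6 : e - e * e = 0 := by simpa using h5
    exact (sub_eq_zero.mp h6).symm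
  refine ⟨e, hee, ?_, ?_⟩
  · rintro rfl
    rw [zero_add] at hef
    have hJtop : J = ⊤ := by
      rw [Submodule.eq_top_iff']
      intro x
      have := J.smul_mem x hf
      rwa [hef, smul_eq_mul, mul_one] at this
    have := hJ.inf_eq_bot
    rw [hJtop, inf_top_eq] at this
    exact hI0 this
  · rintro rfl
    apply hI1
    rw [Submodule.eq_top_iff']
    intro x
    have := I.smul_mem x he
    rwa [smul_eq_mul, mul_one] at this

/-- Let K be a field such that K contains all roots of unity (for every n ≥ 1 the polynomial X^n − 1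
splits into linear factors over K), and A a finite-dimensional central simple K-algebra which is not
a division algebra (some non-zero element is not a unit). Then the quotient of the unit group of A
by that of K has elements of every finite order invertible in K: for every d ≥ 1 with d ≠ 0 in K
there is a unit x of A with x ^ d in K and x ^ k not in K for 0 < k < d. (The published assertion is
phrased for the automorphism group of the Severi–Brauer variety of A, which is isomorphic to the
units of A modulo those of K; this row is the algebra-side statement its proof establishes.) -/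
theorem result
    (K : Type u) [Field K] (hK : ∀ n : ℕ, 0 < n → (X ^ n - 1 : K[X]).Splits)
    (A : Type v) [Ring A] [Algebra K A] [Algebra.IsCentral K A] [IsSimpleRing A] [FiniteDimensional K A]
    (hA : ∃ y : A, y ≠ 0 ∧ ¬ IsUnit y) (d : ℕ) (hd : 0 < d) (hdK : (d : K) ≠ 0) :
    ∃ x : A, IsUnit x ∧ x ^ d ∈ (algebraMap K A).range ∧
      ∀ k : ℕ, 0 < k → k < d → x ^ k ∉ (algebraMap K A).range := by
  obtain ⟨ζ, hζ⟩ := exists_primitiveRoot K d hd hdK (hK d hd)
  haveI : IsArtinianRing A := IsArtinianRing.of_finite K A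
  obtain ⟨y, hy0, hyu⟩ := hA
  obtain ⟨e, hee, he0, he1⟩ := exists_idempotent A y hy0 hyu
  have hζ0 : ζ ≠ 0 := hζ.ne_zero hd.ne'
  have hpow : ∀ k : ℕ, (ζ • e + (1 - e)) ^ k = ζ ^ k • e + (1 - e) := by
    intro k
    induction k with
    | zero => simp
    | succ k ih =>
      rw [pow_succ, ih]
      have h1 : e * (1 - e) = 0 := by rw [mul_sub, mul_one, hee, sub_self]
      have h2 : (1 - e) * e = 0 := by rw [sub_mul, one_mul, hee, sub_self]
      have h3 : (1 - e) * (1 - e) = 1 - e := by
        rw [mul_sub, mul_one, h2, sub_zero]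
      rw [add_mul, mul_add, mul_add, smul_mul_smul_comm, hee, smul_mul_assoc, h1, mul_smul_comm, h2,
        h3, smul_zero, smul_zero, add_zero, zero_add, ← pow_succ]
  refine ⟨ζ • e + (1 - e), ?_, ?_, ?_⟩
  · have h1 : e * (1 - e) = 0 := by rw [mul_sub, mul_one, hee, sub_self]
    have h2 : (1 - e) * e = 0 := by rw [sub_mul, one_mul, hee, sub_self]
    have h3 : (1 - e) * (1 - e) = 1 - e := by
      rw [mul_sub, mul_one, h2, sub_zero]
    refine IsUnit.of_mul_eq_one (ζ⁻¹ • e + (1 - e)) ?_
    rw [add_mul, mul_add, mul_add, smul_mul_smul_comm, hee, smul_mul_assoc, h1, mul_smul_comm, h2,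
      h3, smul_zero, smul_zero, add_zero, zero_add, mul_inv_cancel₀ hζ0, one_smul]
    abel
  · rw [hpow, hζ.pow_eq_one, one_smul]
    refine ⟨1, ?_⟩
    rw [map_one]; abel
  · intro k hk0 hkd hmem
    obtain ⟨c, hc⟩ := hmem
    rw [hpow] at hc
    -- multiply by (1 - e): c • (1 - e) = 1 - e
    have h1 : e * (1 - e) = 0 := by rw [mul_sub, mul_one, hee, sub_self]
    have h3 : (1 - e) * (1 - e) = 1 - e := by
      rw [mul_sub, mul_one, sub_mul, one_mul, hee, sub_self, sub_zero]
    have hc1 : c • (1 - e) = 1 - e := by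
      have := congrArg (· * (1 - e)) hc
      simp only [add_mul, smul_mul_assoc, h1, smul_zero, zero_add, h3] at this
      rw [Algebra.smul_def]
      exact this
    have hc2 : c • e = ζ ^ k • e := by
      have := congrArg (· * e) hc
      simp only [add_mul, smul_mul_assoc, hee, sub_mul, one_mul, sub_self, add_zero] at this
      rw [Algebra.smul_def]
      exact this
    have hne1 : (1 : A) - e ≠ 0 := fun h => he1 (sub_eq_zero.mp h).symm
    have hc_one : c = 1 := by
      by_contra hcn
      have : (c - 1) • (1 - e) = 0 := by rw [sub_smul, hc1, one_smul, sub_self]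
      rcases smul_eq_zero.mp this with h | h
      · exact hcn (sub_eq_zero.mp h)
      · exact hne1 h
    have hζk : ζ ^ k = 1 := by
      by_contra hcn
      have : (ζ ^ k - c) • e = 0 := by rw [sub_smul, hc2, sub_self]
      rcases smul_eq_zero.mp this with h | h
      · exact hcn (by rw [sub_eq_zero.mp h, hc_one])
      · exact he0 h
    exact (hζ.pow_ne_one_of_pos_of_lt hk0.ne' hkd) hζk

end Groth.Agent.S15183
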