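import Groth.Statements.S15184
import Mathlib
import Groth.Agent.S15168
import Groth.Agent.Lib.Helper87.DivAlgSubfield

set_option autoImplicit false
universe u v
open BddFin

namespace Groth.Agent.S15184

section Identities

variable {K : Type u} [Field K] {D : Type v} [Ring D] [Algebra K D]

/-- The cubic `t ↦ t³ - a₁ t² + a₂ t - a₃`. -/
def cub (a₁ a₂ a₃ : K) (t : D) : D := t * t * t - a₁ • (t * t) + a₂ • t - a₃ • (1 : D)

/-- The divided-difference relation between two roots. -/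
def rel (a₁ a₂ : K) (x₁ x₂ : D) : D :=
  x₁ * x₁ + x₂ * x₂ + x₁ * x₂ - a₁ • (x₁ + x₂) + a₂ • (1 : D)

theorem claim1 (x₁ x₂ : D) (a₁ a₂ a₃ : K) :
    (x₁ * x₂ - x₂ * x₁) * x₁ - x₂ * (x₁ * x₂ - x₂ * x₁) =
      rel a₁ a₂ x₁ x₂ * x₁ - x₂ * rel a₁ a₂ x₁ x₂ - cub a₁ a₂ a₃ x₁ + cub a₁ a₂ a₃ x₂ := by
  simp only [rel, cub, mul_add, add_mul, mul_sub, sub_mul, smul_mul_assoc, mul_smul_comm,
    smul_add, mul_one, one_mul, mul_assoc]
  abel

theorem claim2 (x₁ x₂ : D) (a₁ a₂ : K) :
    (x₁ * x₂ - x₂ * x₁) * x₂ + x₂ * (x₁ * x₂ - x₂ * x₁) + x₁ * (x₁ * x₂ - x₂ * x₁)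
      - a₁ • (x₁ * x₂ - x₂ * x₁) =
      x₁ * rel a₁ a₂ x₁ x₂ - rel a₁ a₂ x₁ x₂ * x₁ := by
  simp only [rel, mul_add, add_mul, mul_sub, sub_mul, smul_mul_assoc, mul_smul_comm,
    smul_add, smul_sub, mul_one, one_mul, mul_assoc]
  abel

/-- Wedderburn: the commutator `c` of two roots of a cubic related by `rel` permutes the three
"roots" cyclically, so `c ^ 3` commutes with both. -/
theorem wedderburn_commute (x₁ x₂ : D) (a₁ a₂ a₃ : K)
    (h₁ : cub a₁ a₂ a₃ x₁ = 0) (h₂ : cub a₁ a₂ a₃ x₂ = 0) (hR : rel a₁ a₂ x₁ x₂ = 0) :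
    (x₁ * x₂ - x₂ * x₁) * x₁ = x₂ * (x₁ * x₂ - x₂ * x₁) ∧
    (x₁ * x₂ - x₂ * x₁) ^ 3 * x₁ = x₁ * (x₁ * x₂ - x₂ * x₁) ^ 3 ∧
    (x₁ * x₂ - x₂ * x₁) ^ 3 * x₂ = x₂ * (x₁ * x₂ - x₂ * x₁) ^ 3 := by
  obtain ⟨c, hc⟩ : ∃ c, c = x₁ * x₂ - x₂ * x₁ := ⟨_, rfl⟩
  rw [← hc]
  obtain ⟨x₃, hx₃⟩ : ∃ x₃, x₃ = a₁ • (1 : D) - x₁ - x₂ := ⟨_, rfl⟩
  have e1 : c * x₁ = x₂ * c := by
    have := claim1 x₁ x₂ a₁ a₂ a₃
    rw [h₁, h₂, hR, ← hc] at this
    simpa [sub_eq_zero] using this
  have e2 : c * x₂ = x₃ * c := by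
    have := claim2 x₁ x₂ a₁ a₂
    rw [hR, ← hc] at this
    simp only [mul_zero, zero_mul, sub_zero] at this
    rw [hx₃, sub_mul, sub_mul, smul_mul_assoc, one_mul]
    rw [← sub_eq_zero] at this ⊢
    rw [← this]
    abel
  have e3 : c * x₃ = x₁ * c := by
    rw [hx₃, mul_sub, mul_sub, e1, e2, hx₃, mul_smul_comm, mul_one, sub_mul, sub_mul,
      smul_mul_assoc, one_mul]
    abel
  refine ⟨e1, ?_, ?_⟩
  · calc c ^ 3 * x₁ = c * (c * (c * x₁)) := by rw [pow_succ, pow_two]; simp only [mul_assoc]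
      _ = c * (c * x₂) * c := by rw [e1]; simp only [mul_assoc]
      _ = c * x₃ * c * c := by rw [e2]; simp only [mul_assoc]
      _ = x₁ * c ^ 3 := by rw [e3, pow_succ, pow_two]; simp only [mul_assoc]
  · calc c ^ 3 * x₂ = c * (c * (c * x₂)) := by rw [pow_succ, pow_two]; simp only [mul_assoc]
      _ = c * (c * x₃) * c := by rw [e2]; simp only [mul_assoc]
      _ = c * x₁ * c * c := by rw [e3]; simp only [mul_assoc]
      _ = x₂ * c ^ 3 := by rw [e1, pow_succ, pow_two]; simp only [mul_assoc]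

end Identities

section Division

open Polynomial

variable {K : Type u} [Field K] {A : Type v} [DivisionRing A] [Algebra K A]

/-- Wedderburn's conjugation trick gives the divided-difference relation. -/
theorem rel_of_conj (x₁ z : A) (a₁ a₂ a₃ : K) (h₁ : cub a₁ a₂ a₃ x₁ = 0)
    (hz : cub a₁ a₂ a₃ z = 0) (hd : z - x₁ ≠ 0) :
    rel a₁ a₂ x₁ ((z - x₁) * z * (z - x₁)⁻¹) = 0 := by
  obtain ⟨d, hdd⟩ : ∃ d, d = z - x₁ := ⟨_, rfl⟩
  rw [← hdd] at hd ⊢
  obtain ⟨x₂, hx₂⟩ : ∃ x₂, x₂ = d * z * d⁻¹ := ⟨_, rfl⟩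
  rw [← hx₂]
  have h : x₂ * d = d * z := by rw [hx₂, mul_assoc, inv_mul_cancel₀ hd, mul_one]
  have key : rel a₁ a₂ x₁ x₂ * d = cub a₁ a₂ a₃ z - cub a₁ a₂ a₃ x₁ := by
    have h2 : x₂ * x₂ * d = d * z * z := by rw [mul_assoc, h, ← mul_assoc, h]
    have h3 : x₁ * x₂ * d = x₁ * (d * z) := by rw [mul_assoc, h]
    calc rel a₁ a₂ x₁ x₂ * d
        = x₁ * x₁ * d + x₂ * x₂ * d + x₁ * x₂ * d - a₁ • (x₁ * d + x₂ * d) + a₂ • d := by
          simp only [rel, add_mul, sub_mul, smul_mul_assoc, one_mul]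
      _ = x₁ * x₁ * d + d * z * z + x₁ * (d * z) - a₁ • (x₁ * d + d * z) + a₂ • d := by
          rw [h2, h3, h]
      _ = cub a₁ a₂ a₃ z - cub a₁ a₂ a₃ x₁ := by
          rw [hdd]
          simp only [cub, mul_add, add_mul, mul_sub, sub_mul, smul_add, smul_sub, mul_assoc]
          abel
  rw [h₁, hz, sub_zero] at key
  exact (mul_eq_zero.mp key).resolve_right hd

/-- Evaluation of a monic cubic. -/
theorem aeval_eq_cub (f : K[X]) (hf : f.Monic) (hdeg : f.natDegree = 3) (t : A) :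
    aeval t f = cub (-f.coeff 2) (f.coeff 1) (-f.coeff 0) t := by
  have h3 : f.coeff 3 = 1 := by rw [← hdeg]; exact hf.coeff_natDegree
  rw [aeval_eq_sum_range, hdeg]
  simp only [Finset.sum_range_succ, Finset.sum_range_zero, zero_add, h3, cub, pow_zero, pow_one,
    one_smul, neg_smul, pow_succ, one_mul]
  abel

/-- Evaluation of the derivative of a monic cubic at a point, in terms of `rel`. -/
theorem aeval_derivative_eq_rel (f : K[X]) (hf : f.Monic) (hdeg : f.natDegree = 3) (t : A) :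
    aeval t (derivative f) = rel (-f.coeff 2) (f.coeff 1) t t := by
  have h3 : f.coeff 3 = 1 := by rw [← hdeg]; exact hf.coeff_natDegree
  have hlt : (derivative f).natDegree < 3 := by
    have := natDegree_derivative_lt (p := f) (by rw [hdeg]; norm_num)
    omega
  rw [aeval_eq_sum_range' hlt]
  simp only [Finset.sum_range_succ, Finset.sum_range_zero, zero_add, coeff_derivative, h3, rel,
    pow_zero, pow_one, pow_succ, one_mul, neg_smul, Nat.cast_zero, Nat.cast_one, Nat.cast_ofNat]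
  simp only [one_add_one_eq_two, mul_one, add_smul, one_smul, mul_smul, two_smul, smul_add,
    sub_neg_eq_add]
  abel

theorem adjoin_comm (s : Set A) (hs : ∀ a ∈ s, ∀ b ∈ s, a * b = b * a) :
    ∀ a ∈ Algebra.adjoin K s, ∀ b ∈ Algebra.adjoin K s, a * b = b * a := by
  have h1 : Algebra.adjoin K s ≤ Subalgebra.centralizer K s :=
    Algebra.adjoin_le (fun a ha => by
      rw [SetLike.mem_coe, Subalgebra.mem_centralizer_iff]
      intro b hb
      exact hs b hb a ha)
  have h2 : Algebra.adjoin K s ≤ Subalgebra.centralizer K (Subalgebra.centralizer K s : Set A) :=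
    Algebra.adjoin_le_centralizer_centralizer K s
  intro a ha b hb
  exact (Subalgebra.mem_centralizer_iff (R := K)).mp (h2 hb) a (h1 ha)

open Groth.Agent.Lib.Helper52.CSASubfield in
/-- In a central division algebra of dimension `p ^ 2` (`p` prime), every element commuting with a
non-central element `t` lies in `K[t]`. -/
theorem mem_adjoin_of_commute [Algebra.IsCentral K A] [FiniteDimensional K A] (p : ℕ)
    (hp : p.Prime) (hA : Module.finrank K A = p ^ 2) (t : A)
    (ht : t ∉ Set.range (algebraMap K A)) (x : A) (hx : t * x = x * t) :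
    x ∈ Algebra.adjoin K ({t} : Set A) := by
  obtain ⟨B, hB⟩ : ∃ B, B = Algebra.adjoin K ({t} : Set A) := ⟨_, rfl⟩
  obtain ⟨C, hC⟩ : ∃ C, C = Algebra.adjoin K ({t, x} : Set A) := ⟨_, rfl⟩
  rw [← hB]
  have hBC : B ≤ C := by rw [hB, hC]; exact Algebra.adjoin_mono (by simp)
  have hBcomm : ∀ a ∈ B, ∀ b ∈ B, a * b = b * a := by
    rw [hB]; apply adjoin_comm
    intro a ha b hb
    rw [Set.mem_singleton_iff] at ha hb
    rw [ha, hb]
  have hCcomm : ∀ a ∈ C, ∀ b ∈ C, a * b = b * a := by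
    rw [hC]; apply adjoin_comm
    intro a ha b hb
    simp only [Set.mem_insert_iff, Set.mem_singleton_iff] at ha hb
    rcases ha with rfl | rfl <;> rcases hb with rfl | rfl <;> first | rfl | exact hx | exact hx.symm
  have h1 : Module.finrank K B ∣ p := finrank_dvd_of_commutative B hBcomm p hA
  have h2 : Module.finrank K C ∣ p := finrank_dvd_of_commutative C hCcomm p hA
  have htB : t ∈ B := by rw [hB]; exact Algebra.subset_adjoin (Set.mem_singleton t)
  have hB1 : Module.finrank K B ≠ 1 := by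
    intro h
    have := Subalgebra.eq_bot_of_finrank_one h
    rw [this] at htB
    exact ht (Algebra.mem_bot.mp htB)
  have hBp : Module.finrank K B = p := ((Nat.dvd_prime hp).mp h1).resolve_left hB1
  have hCp : Module.finrank K C = p := by
    rcases (Nat.dvd_prime hp).mp h2 with h | h
    · exfalso
      have := Subalgebra.eq_bot_of_finrank_one h
      rw [this] at hBC
      exact ht (Algebra.mem_bot.mp (hBC htB))
    · exact h
  have hBCeq : B = C := by
    apply Subalgebra.toSubmodule_injective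
    apply Submodule.eq_of_le_of_finrank_eq (Subalgebra.toSubmodule.monotone hBC)
    show Module.finrank K B = Module.finrank K C
    rw [hBp, hCp]
  rw [hBCeq, hC]
  exact Algebra.subset_adjoin (by simp)

theorem isGalois_adjoinRoot_of_splits (f : K[X]) [Fact (Irreducible f)] (hsep : f.Separable)
    (hs : (f.map (algebraMap K (AdjoinRoot f))).Splits) : IsGalois K (AdjoinRoot f) := by
  have hf0 : f ≠ 0 := (Fact.out : Irreducible f).ne_zero
  have : f.IsSplittingField K (AdjoinRoot f) := ⟨hs, by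
    rw [eq_top_iff, ← AdjoinRoot.adjoinRoot_eq_top]
    apply Algebra.adjoin_mono
    rw [Set.singleton_subset_iff, mem_rootSet]
    exact ⟨hf0, AdjoinRoot.aeval_eq f ▸ AdjoinRoot.mk_self⟩⟩
  exact IsGalois.of_separable_splitting_field hsep

end Division

/-- Let K be a field with char K = p > 0 and A a central division K-algebra with dim_K A = p ^ 2. If p =
2 or p = 3, then some element of A is not separable over K. -/
theorem result
    (K : Type u) [Field K] (p : ℕ) [Fact p.Prime] [CharP K p]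
    (A : Type v) [DivisionRing A] [Algebra K A] [Algebra.IsCentral K A] [FiniteDimensional K A]
    (hA : Module.finrank K A = p ^ 2) (hp : p = 2 ∨ p = 3) :
    ∃ v : A, ¬ IsSeparable K v := by
  classical
  by_contra hcon
  push Not at hcon
  have hpp : p.Prime := Fact.out
  -- a non-central element
  obtain ⟨x₁, hx₁⟩ : ∃ x₁ : A, x₁ ∉ Set.range (algebraMap K A) := by
    by_contra h
    push Not at h
    have h1 : (⊥ : Subalgebra K A) = ⊤ := by
      rw [eq_top_iff]
      intro x _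
      exact Algebra.mem_bot.mpr (h x)
    have h2 := Subalgebra.bot_eq_top_iff_finrank_eq_one.mp h1
    rw [hA] at h2
    have := hpp.one_lt
    nlinarith
  have hint : IsIntegral K x₁ := IsIntegral.of_finite K x₁
  obtain ⟨f, hf⟩ : ∃ f, f = minpoly K x₁ := ⟨_, rfl⟩
  have hirr : Irreducible f := hf ▸ minpoly.irreducible hint
  have hmon : f.Monic := hf ▸ minpoly.monic hint
  have hsepf : f.Separable := hf ▸ hcon x₁
  have hfx₁ : Polynomial.aeval x₁ f = 0 := hf ▸ minpoly.aeval K x₁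
  have : Fact (Irreducible f) := ⟨hirr⟩
  have hf0 : f ≠ 0 := hirr.ne_zero
  have hdeg : f.natDegree = p := by
    have hdvd := Groth.Agent.S15168.natDegree_minpoly_dvd K A p hA x₁
    rw [← hf] at hdvd
    rcases (Nat.dvd_prime hpp).mp hdvd with h | h
    · exfalso
      apply hx₁
      have h1 : (minpoly K x₁).degree = 1 := by
        rw [← hf, Polynomial.degree_eq_natDegree hf0, h]; rfl
      exact minpoly.mem_range_of_degree_eq_one K x₁ h1
    · exact h
  -- the subfield `L = K[X]/(f)`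
  let ψ : AdjoinRoot f →ₐ[K] A :=
    Ideal.Quotient.liftₐ (Ideal.span {f}) (Polynomial.aeval x₁) (by
      intro g hg
      obtain ⟨q, rfl⟩ := Ideal.mem_span_singleton.mp hg
      rw [map_mul, hfx₁, zero_mul])
  have hψmk : ∀ P : Polynomial K, ψ (AdjoinRoot.mk f P) = Polynomial.aeval x₁ P := fun P => rfl
  have hψinj : Function.Injective ψ := ψ.toRingHom.injective
  have hL : Module.finrank K (AdjoinRoot f) = p := by
    rw [(AdjoinRoot.powerBasis hf0).finrank, AdjoinRoot.powerBasis_dim, hdeg]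
  -- it suffices to show that `f` splits in `L`
  suffices hs : (f.map (algebraMap K (AdjoinRoot f))).Splits by
    have := isGalois_adjoinRoot_of_splits f hsepf hs
    obtain ⟨v, hv⟩ :=
      Groth.Agent.Lib.Helper87.DivAlgInsep.exists_not_isSeparable p hA hL ψ
    exact hv (hcon v)
  have hroot : (f.map (algebraMap K (AdjoinRoot f))).eval (AdjoinRoot.root f) = 0 := by
    rw [Polynomial.eval_map_algebraMap, AdjoinRoot.aeval_eq, AdjoinRoot.mk_self]
  rcases hp with rfl | rfl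
  · -- `p = 2`
    exact Polynomial.Splits.of_natDegree_eq_two (by rw [Polynomial.natDegree_map, hdeg]) hroot
  -- `p = 3`
  obtain ⟨a₁, ha₁⟩ : ∃ a₁, a₁ = -f.coeff 2 := ⟨_, rfl⟩
  obtain ⟨a₂, ha₂⟩ : ∃ a₂, a₂ = f.coeff 1 := ⟨_, rfl⟩
  obtain ⟨a₃, ha₃⟩ : ∃ a₃, a₃ = -f.coeff 0 := ⟨_, rfl⟩
  have hcub : ∀ t : A, Polynomial.aeval t f = cub a₁ a₂ a₃ t := by
    intro t; rw [ha₁, ha₂, ha₃]; exact aeval_eq_cub f hmon hdeg t
  -- a conjugate `z ≠ x₁`
  obtain ⟨y, hy⟩ : ∃ y : A, y * x₁ ≠ x₁ * y := by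
    by_contra h
    push Not at h
    have hcen : x₁ ∈ Subalgebra.center K A := Subalgebra.mem_center_iff.mpr h
    rw [Algebra.IsCentral.center_eq_bot] at hcen
    exact hx₁ (Algebra.mem_bot.mp hcen)
  have hy0 : y ≠ 0 := by
    rintro rfl
    simp at hy
  obtain ⟨z, hz⟩ : ∃ z, z = y * x₁ * y⁻¹ := ⟨_, rfl⟩
  have hzx : z - x₁ ≠ 0 := by
    intro h
    apply hy
    have h1 : z = x₁ := sub_eq_zero.mp h
    rw [hz] at h1
    calc y * x₁ = y * x₁ * y⁻¹ * y := by rw [mul_assoc _ y⁻¹, inv_mul_cancel₀ hy0, mul_one]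
      _ = x₁ * y := by rw [h1]
  have hfz : Polynomial.aeval z f = 0 := by
    have := Polynomial.aeval_algHom_apply
      (Groth.Agent.Lib.Helper87.DivAlgSubfield.conj (K := K) y hy0) x₁ f
    rw [hfx₁, map_zero] at this
    rw [hz]; exact this
  obtain ⟨d, hd⟩ : ∃ d, d = z - x₁ := ⟨_, rfl⟩
  obtain ⟨x₂, hx₂⟩ : ∃ x₂, x₂ = d * z * d⁻¹ := ⟨_, rfl⟩
  have hd0 : d ≠ 0 := hd ▸ hzx
  have hfx₂ : Polynomial.aeval x₂ f = 0 := by
    have := Polynomial.aeval_algHom_apply
      (Groth.Agent.Lib.Helper87.DivAlgSubfield.conj (K := K) d hd0) z f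
    rw [hfz, map_zero] at this
    rw [hx₂]; exact this
  have hR : rel a₁ a₂ x₁ x₂ = 0 := by
    rw [hx₂, hd]
    exact rel_of_conj x₁ z a₁ a₂ a₃ (by rw [← hcub, hfx₁]) (by rw [← hcub, hfz]) hzx
  obtain ⟨e1, e3₁, e3₂⟩ := wedderburn_commute x₁ x₂ a₁ a₂ a₃ (by rw [← hcub, hfx₁])
    (by rw [← hcub, hfx₂]) hR
  obtain ⟨c, hc⟩ : ∃ c, c = x₁ * x₂ - x₂ * x₁ := ⟨_, rfl⟩
  rw [← hc] at e1 e3₁ e3₂
  by_cases hc0 : c = 0
  · -- `x₁` and `x₂` commute: the cubic has a second root in `L`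
    have hcomm : x₁ * x₂ = x₂ * x₁ := by rw [hc0] at hc; exact sub_eq_zero.mp hc.symm
    have hmem := mem_adjoin_of_commute 3 hpp hA x₁ hx₁ x₂ hcomm
    rw [Algebra.adjoin_singleton_eq_range_aeval] at hmem
    obtain ⟨P, hP⟩ := hmem
    obtain ⟨r₂, hr₂⟩ : ∃ r₂, r₂ = AdjoinRoot.mk f P := ⟨_, rfl⟩
    have hψr₂ : ψ r₂ = x₂ := by rw [hr₂, hψmk]; exact hP
    have hfr₂ : Polynomial.aeval r₂ f = 0 := by
      apply hψinj
      rw [← Polynomial.aeval_algHom_apply, hψr₂, hfx₂, map_zero]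
    have hr₂root : (f.map (algebraMap K (AdjoinRoot f))).eval r₂ = 0 := by
      rw [Polynomial.eval_map_algebraMap]; exact hfr₂
    by_cases hr : r₂ = AdjoinRoot.root f
    · -- a double root contradicts separability
      exfalso
      have hx₂x₁ : x₂ = x₁ := by
        rw [← hψr₂, hr]
        exact hψmk Polynomial.X ▸ Polynomial.aeval_X x₁
      have hder : Polynomial.aeval x₁ (Polynomial.derivative f) = 0 := by
        rw [aeval_derivative_eq_rel f hmon hdeg, ← ha₁, ← ha₂]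
        rw [hx₂x₁] at hR
        exact hR
      have hdvd : f ∣ Polynomial.derivative f := by
        have := minpoly.dvd K x₁ hder
        rwa [← hf] at this
      have hder0 : Polynomial.derivative f = 0 := by
        apply Polynomial.eq_zero_of_dvd_of_natDegree_lt hdvd
        exact Polynomial.natDegree_derivative_lt (by rw [hdeg]; norm_num)
      have := hsepf
      rw [Polynomial.separable_def, hder0, isCoprime_zero_right] at this
      exact hirr.not_isUnit this
    · -- two distinct roots: the cubic splits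
      have hmul := Polynomial.mul_divByMonic_eq_iff_isRoot.mpr hroot
      obtain ⟨q, hq⟩ : ∃ q, q = f.map (algebraMap K (AdjoinRoot f)) /ₘ
        (Polynomial.X - Polynomial.C (AdjoinRoot.root f)) := ⟨_, rfl⟩
      rw [← hq] at hmul
      have hqdeg : q.natDegree = 2 := by
        rw [hq, Polynomial.natDegree_divByMonic _ (Polynomial.monic_X_sub_C _),
          Polynomial.natDegree_map, hdeg, Polynomial.natDegree_X_sub_C]
      have hqroot : q.eval r₂ = 0 := by
        have h1 := hr₂root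
        rw [← hmul, Polynomial.eval_mul, Polynomial.eval_sub, Polynomial.eval_X,
          Polynomial.eval_C] at h1
        exact (mul_eq_zero.mp h1).resolve_left (sub_ne_zero.mpr hr)
      rw [← hmul]
      exact (Polynomial.Splits.X_sub_C _).mul (Polynomial.Splits.of_natDegree_eq_two hqdeg hqroot)
  · -- `c ≠ 0`: then `c ^ 3 ∈ K` but `c ∉ K`
    exfalso
    have hc3 : c ^ 3 ∈ Set.range (algebraMap K A) := by
      by_contra ht
      have h1 := mem_adjoin_of_commute 3 hpp hA (c ^ 3) ht x₁ e3₁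
      have h2 := mem_adjoin_of_commute 3 hpp hA (c ^ 3) ht x₂ e3₂
      have h3 := adjoin_comm (K := K) ({c ^ 3} : Set A) (by
        intro a ha b hb
        rw [Set.mem_singleton_iff] at ha hb
        rw [ha, hb]) x₁ h1 x₂ h2
      apply hc0
      rw [hc, h3, sub_self]
    obtain ⟨b, hb⟩ := hc3
    have hcK : c ∉ Set.range (algebraMap K A) := by
      rintro ⟨k, hk⟩
      have hk0 : k ≠ 0 := by
        rintro rfl
        rw [map_zero] at hk
        exact hc0 hk.symm
      rw [← hk, ← Algebra.commutes k x₂, ← Algebra.smul_def, ← Algebra.smul_def] at e1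
      have h12 : x₁ = x₂ := smul_right_injective A hk0 e1
      apply hc0
      rw [hc, h12, sub_self]
    exact Groth.Agent.Lib.Helper87.DivAlgInsep.not_isSeparable_of_pow_char 3 c b hb.symm hcK
      (hcon c)

end Groth.Agent.S15184
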