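import Groth.Statements.S15185
import Mathlib
import Groth.Agent.S15168
import Groth.Agent.Lib.Helper59.RedNorm

set_option autoImplicit false
universe u v
open Polynomial
open BddFin

namespace Groth.Agent.S15185

open scoped TensorProduct in
/-- The determinant of left multiplication is the `n`-th power of the reduced norm. -/
theorem det_mulLeft_eq_pow (k : Type u) [Field k] (A : Type v) [Ring A] [Algebra k A]
    [FiniteDimensional k A]
    (n : ℕ) (hn : Module.finrank k A = n ^ 2)
    (N : A →* k) (hN : CSAGal.IsRedNorm k A N) (a : A) :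
    LinearMap.det (LinearMap.mulLeft k a) = N a ^ n := by
  classical
  obtain ⟨K, _, _, _, m, φ, hφ⟩ := hN
  have hm : m = n := by
    have h1 : Module.finrank K (K ⊗[k] A) = n ^ 2 := by rw [Module.finrank_baseChange, hn]
    rw [φ.toLinearEquiv.finrank_eq, Module.finrank_matrix, Module.finrank_self, mul_one,
      Fintype.card_fin, ← pow_two] at h1
    exact Nat.pow_left_injective (by norm_num : 2 ≠ 0) h1
  subst hm
  apply (algebraMap k K).injective
  rw [map_pow, hφ]
  rw [← Groth.Agent.Lib.Helper59.RedNorm.det_mulLeft_baseChange K a,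
    ← Groth.Agent.Lib.Helper59.RedNorm.det_mulLeft_algEquiv φ,
    Groth.Agent.Lib.Helper59.RedNorm.det_mulLeft]

/-- The determinant of left multiplication by `x` on a division algebra in terms of the constant
coefficient of the minimal polynomial. -/
theorem det_mulLeft_eq_coeff_pow (K : Type u) [Field K] (A : Type v) [DivisionRing A] [Algebra K A]
    [FiniteDimensional K A] (x : A) :
    ∃ d : ℕ, (minpoly K x).natDegree * d = Module.finrank K A ∧
      LinearMap.det (LinearMap.mulLeft K x) =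
        ((-1) ^ (minpoly K x).natDegree * (minpoly K x).coeff 0) ^ d := by
  classical
  have hint : IsIntegral K x := IsIntegral.of_finite K x
  obtain ⟨f, hf⟩ : ∃ f, f = minpoly K x := ⟨_, rfl⟩
  rw [← hf]
  have hirr : Irreducible f := hf ▸ minpoly.irreducible hint
  have hmon : f.Monic := hf ▸ minpoly.monic hint
  have : Fact (Irreducible f) := ⟨hirr⟩
  have hf0 : f ≠ 0 := hirr.ne_zero
  let L := AdjoinRoot f
  let ψ : L →ₐ[K] A :=
    Ideal.Quotient.liftₐ (Ideal.span {f}) (aeval x) (by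
      intro g hg
      obtain ⟨q, rfl⟩ := Ideal.mem_span_singleton.mp hg
      rw [map_mul, hf, minpoly.aeval, zero_mul])
  have hψroot : ψ (AdjoinRoot.root f) = x := by
    show (aeval x) (X : K[X]) = x
    exact aeval_X x
  let _ : Module L A := Module.compHom A ψ.toRingHom
  have hsmul : ∀ (l : L) (a : A), l • a = ψ l * a := fun _ _ => rfl
  have : IsScalarTower K L A := ⟨fun k l a => by
    rw [hsmul, hsmul, map_smul, smul_mul_assoc]⟩
  have h1 : LinearMap.mulLeft K x =
      ((AdjoinRoot.root f • (LinearMap.id : A →ₗ[L] A))).restrictScalars K := by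
    ext a
    show x * a = ψ (AdjoinRoot.root f) * a
    rw [hψroot]
  refine ⟨Module.finrank L A, ?_, ?_⟩
  · rw [← Module.finrank_mul_finrank K L A, (AdjoinRoot.powerBasis hf0).finrank,
      AdjoinRoot.powerBasis_dim]
  · rw [h1, LinearMap.det_restrictScalars, LinearMap.det_smul, LinearMap.det_id, mul_one, map_pow]
    congr 1
    have h2 := Algebra.PowerBasis.norm_gen_eq_coeff_zero_minpoly (AdjoinRoot.powerBasis hf0)
    rw [AdjoinRoot.minpoly_powerBasis_gen_of_monic hmon, AdjoinRoot.powerBasis_gen,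
      AdjoinRoot.powerBasis_dim] at h2
    exact h2

/-- In characteristic `p`: if `c ^ d` is a `p ^ M`-th power and `v_p(d) < M`, then `c` is a
`p`-th power. -/
theorem exists_eq_pow_p {K : Type u} [Field K] (p : ℕ) [hp : Fact p.Prime] [CharP K p]
    (c e : K) (hc : c ≠ 0) (d' t M : ℕ) (hd' : ¬ p ∣ d') (htM : t < M)
    (h : c ^ (d' * p ^ t) = e ^ (p ^ M)) : ∃ g : K, c = g ^ p := by
  have h1 : (c ^ d') ^ (p ^ t) = (e ^ (p ^ (M - t))) ^ (p ^ t) := by
    rw [← pow_mul, h, ← pow_mul, ← pow_add, Nat.sub_add_cancel htM.le]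
  have h2 : c ^ d' = e ^ (p ^ (M - t)) := by
    have hinj := iterateFrobenius_inj K p t
    apply hinj
    simpa [iterateFrobenius_def] using h1
  obtain ⟨s, hs⟩ : ∃ s, M - t = s + 1 := ⟨M - t - 1, by omega⟩
  have h3 : c ^ d' = (e ^ (p ^ s)) ^ p := by
    rw [h2, hs, pow_succ, pow_mul]
  have hcop : Nat.Coprime d' p := ((Nat.Prime.coprime_iff_not_dvd hp.out).mpr hd').symm
  obtain ⟨u, -, hu⟩ := Nat.exists_mul_mod_eq_one_of_coprime hcop hp.out.one_lt
  have hdu : d' * u = p * (d' * u / p) + 1 := by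
    have := Nat.div_add_mod (d' * u) p
    omega
  set v := d' * u / p
  have h4 : (c ^ v) ^ p * c = ((e ^ (p ^ s)) ^ u) ^ p := by
    calc (c ^ v) ^ p * c = c ^ (p * v + 1) := by rw [pow_succ, ← pow_mul, mul_comm v p]
      _ = (c ^ d') ^ u := by rw [← hdu, pow_mul]
      _ = ((e ^ (p ^ s)) ^ u) ^ p := by
        rw [h3, ← pow_mul (e ^ p ^ s) p u, ← pow_mul (e ^ p ^ s) u p, mul_comm]
  refine ⟨(e ^ (p ^ s)) ^ u / c ^ v, ?_⟩
  rw [div_pow, ← h4, mul_div_cancel_left₀]
  exact pow_ne_zero _ (pow_ne_zero _ hc)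

/-- Let K be a field of characteristic p > 0 such that K contains all roots of unity (for every n ≥ 1
the polynomial X^n − 1 splits into linear factors over K), A a central division algebra of dimension
n ^ 2 over K, and write n = n' · p ^ m with n' prime to p; let N be the reduced norm of A. Consider
the kernel of the homomorphism from the units of A modulo those of K to Kˣ/(Kˣ)^(p^m) induced by N.
Every element of finite order of that kernel has order dividing n': if x ≠ 0 in A has x ^ r in K for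
some r ≥ 1 and N x is a (p ^ m)-th power of a non-zero element of K, then x ^ n' lies in K. -/
theorem result
    (K : Type u) [Field K] (p : ℕ) [Fact p.Prime] [CharP K p] (hK : ∀ n : ℕ, 0 < n → (X ^ n - 1 : K[X]).Splits)
    (A : Type v) [DivisionRing A] [Algebra K A] [Algebra.IsCentral K A] [FiniteDimensional K A]
    (n n' m : ℕ) (hA : Module.finrank K A = n ^ 2) (hn : n = n' * p ^ m) (hn' : ¬ p ∣ n')
    (N : A →* K) (hN : CSAGal.IsRedNorm K A N)
    (x : A) (hx : x ≠ 0) (hxr : ∃ r : ℕ, 0 < r ∧ x ^ r ∈ (algebraMap K A).range)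
    (hNx : ∃ b : K, b ≠ 0 ∧ N x = b ^ (p ^ m)) :
    x ^ n' ∈ (algebraMap K A).range := by
  classical
  have hp := (Fact.out : p.Prime)
  obtain ⟨r, hr, a, ha⟩ := hxr
  obtain ⟨b, hb0, hNb⟩ := hNx
  have ha0 : a ≠ 0 := by
    rintro rfl
    rw [map_zero] at ha
    exact hx (pow_eq_zero_iff hr.ne' |>.mp ha.symm)
  have hint : IsIntegral K x := IsIntegral.of_finite K x
  have hirr : Irreducible (minpoly K x) := minpoly.irreducible hint
  have hmon : (minpoly K x).Monic := minpoly.monic hint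
  have hdvd : minpoly K x ∣ X ^ r - C a := by
    apply minpoly.dvd
    simp only [map_sub, map_pow, aeval_X, aeval_C]
    rw [← ha]; exact sub_self _
  obtain ⟨c, hc⟩ :=
    Groth.Agent.Lib.Helper52.CSASubfield.eq_X_pow_sub_C_of_dvd hK hirr hmon hr ha0 hdvd
  obtain ⟨f, hf⟩ : ∃ f, f = (minpoly K x).natDegree := ⟨_, rfl⟩
  rw [← hf] at hc
  have hfpos : 0 < f := hf ▸ minpoly.natDegree_pos hint
  have hxf : x ^ f = algebraMap K A c := by
    have := minpoly.aeval K x
    rw [hc] at this
    simp only [map_sub, map_pow, aeval_X, aeval_C] at this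
    exact sub_eq_zero.mp this
  have hc0 : c ≠ 0 := by
    rintro rfl
    rw [map_zero] at hxf
    exact hx (pow_eq_zero_iff hfpos.ne' |>.mp hxf)
  have hfn : f ∣ n := hf ▸ Groth.Agent.S15168.natDegree_minpoly_dvd K A n hA x
  -- it suffices to show that `p ∤ f`
  suffices hpf : ¬ p ∣ f by
    have hcop : Nat.Coprime f (p ^ m) :=
      Nat.Coprime.pow_right m ((Nat.Prime.coprime_iff_not_dvd hp).mpr hpf).symm
    rw [hn] at hfn
    obtain ⟨q, hq⟩ := hcop.dvd_of_dvd_mul_right hfn
    refine ⟨c ^ q, ?_⟩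
    rw [map_pow, ← hxf, ← pow_mul, ← hq]
  intro hpf
  obtain ⟨f₁, hf₁⟩ := hpf
  have hn0 : n ≠ 0 := by
    rintro rfl
    have : 0 < Module.finrank K A := Module.finrank_pos
    rw [hA] at this
    simp at this
  -- the determinant of left multiplication, computed in two ways
  obtain ⟨d, hfd, hdet⟩ := det_mulLeft_eq_coeff_pow K A x
  rw [← hf, hA] at hfd
  rw [← hf, hc, det_mulLeft_eq_pow K A n hA N hN x, hNb] at hdet
  have hcoeff : (X ^ f - C c : K[X]).coeff 0 = -c := by
    rw [coeff_sub, coeff_X_pow, coeff_C_zero, if_neg hfpos.ne, zero_sub]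
  rw [hcoeff] at hdet
  have hd0 : d ≠ 0 := by
    rintro rfl
    rw [mul_zero] at hfd
    exact hn0 (pow_eq_zero_iff (by norm_num) |>.mp hfd.symm)
  obtain ⟨t, d', hd', hdd⟩ := Nat.exists_eq_pow_mul_and_not_dvd hd0 p hp.ne_one
  have ht : t < m + m := by
    have h1 : p ^ (t + 1) ∣ n' ^ 2 * p ^ (m + m) := by
      refine ⟨f₁ * d', ?_⟩
      have : n ^ 2 = n' ^ 2 * p ^ (m + m) := by rw [hn, mul_pow, ← pow_mul, mul_two]
      rw [← this, ← hfd, hf₁, hdd, pow_succ]
      ring
    have hcop : Nat.Coprime (p ^ (t + 1)) (n' ^ 2) :=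
      Nat.Coprime.pow _ _ ((Nat.Prime.coprime_iff_not_dvd hp).mpr hn')
    have h2 := hcop.dvd_of_dvd_mul_left h1
    have := (Nat.pow_dvd_pow_iff_le_right hp.one_lt).mp h2
    omega
  have hpow : ((-1) ^ f * -c) ^ (d' * p ^ t) = (b ^ n') ^ (p ^ (m + m)) := by
    rw [mul_comm d', ← hdd, ← hdet, ← pow_mul, ← pow_mul, hn, pow_add]
    ring_nf
  have hc'0 : ((-1 : K) ^ f * -c) ≠ 0 :=
    mul_ne_zero (pow_ne_zero _ (neg_ne_zero.mpr one_ne_zero)) (neg_ne_zero.mpr hc0)
  obtain ⟨g, hg⟩ := exists_eq_pow_p p _ (b ^ n') hc'0 d' t (m + m) hd' ht hpow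
  -- hence `c` is a `p`-th power
  have hcg : c = ((-1) ^ (f + 1) * g) ^ p := by
    have h1 : ((-1 : K) ^ (f + 1)) ^ p = (-1) ^ (f + 1) := by
      rw [← pow_mul, mul_comm, pow_mul, neg_one_pow_char K p]
    have h2 : (-1 : K) ^ (f + 1) * (-1) ^ f = -1 := by
      rw [← pow_add, show f + 1 + f = 2 * f + 1 by ring, pow_succ, pow_mul]; simp
    rw [mul_pow, h1, ← hg, ← mul_assoc, h2]; ring
  -- so the minimal polynomial is a `p`-th power, contradicting irreducibility
  have hpoly : minpoly K x = (X ^ f₁ - C ((-1) ^ (f + 1) * g)) ^ p := by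
    rw [hc, sub_pow_char, ← pow_mul, ← C_pow, ← hcg, hf₁, mul_comm]
  rw [hpoly] at hirr
  exact not_irreducible_pow hp.ne_one hirr

end Groth.Agent.S15185
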