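import Groth.Statements.S15224
import Mathlib.Data.Nat.Choose.Sum
import Mathlib.Tactic
-- import your own Groth.Agent.* helpers here

set_option autoImplicit false
open Finset
open W4c2rk2extmaps

namespace Groth.Agent.S15224

theorem aux_rat (n : ℕ) :
    (∑ j ∈ Finset.range (n + 1), (-1 : ℚ) ^ j * (((j + 1).factorial : ℚ)⁻¹ * ((n - j).factorial : ℚ)⁻¹))
      = ((n + 1).factorial : ℚ)⁻¹ := by
  have h0 := Int.alternating_sum_range_choose (n := n + 1)
  simp only [Nat.succ_ne_zero, if_false] at h0
  rw [Finset.sum_range_succ'] at h0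
  simp only [pow_zero, Nat.choose_zero_right, Nat.cast_one, mul_one] at h0
  have h1 : (∑ j ∈ Finset.range (n + 1), (-1 : ℚ) ^ j * ((n + 1).choose (j + 1) : ℚ)) = 1 := by
    have h2 : (∑ j ∈ Finset.range (n + 1), (-1 : ℤ) ^ j * ((n + 1).choose (j + 1) : ℤ)) = 1 := by
      have : (∑ j ∈ Finset.range (n + 1), (-1 : ℤ) ^ (j + 1) * ((n + 1).choose (j + 1) : ℤ))
          = - ∑ j ∈ Finset.range (n + 1), (-1 : ℤ) ^ j * ((n + 1).choose (j + 1) : ℤ) := by
        rw [← Finset.sum_neg_distrib]
        apply Finset.sum_congr rfl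
        intro j _
        ring
      rw [this] at h0
      linarith
    have := congrArg (Int.cast : ℤ → ℚ) h2
    push_cast at this
    exact this
  have hfac : ((n + 1).factorial : ℚ) ≠ 0 := by positivity
  rw [← mul_right_inj' hfac, mul_inv_cancel₀ hfac, Finset.mul_sum]
  refine Eq.trans ?_ h1
  apply Finset.sum_congr rfl
  intro j hj
  have hj' : j + 1 ≤ n + 1 := by
    have := Finset.mem_range.mp hj
    omega
  rw [Nat.cast_choose ℚ hj']
  have : n + 1 - (j + 1) = n - j := by omega
  rw [this]
  have h3 : ((j + 1).factorial : ℚ) ≠ 0 := by positivity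
  have h4 : ((n - j).factorial : ℚ) ≠ 0 := by positivity
  field_simp

/-- In a commutative ℚ-algebra R let y be an element and put c_k = y^k / k! for every k. Then for k ≥ 2,
Σ_{i=1}^{k-1} (-1)^(i-1) c_i c_(k-i) + (-1)^(k-1) c_k = c_k. (The published statement concerns the
Chern classes of a specific vector bundle on a Jacobian, which are of the form c_k = (4θ)^k / k!;
the printed argument establishes the identity for every sequence of this form in a commutative
ℚ-algebra, which is the form stated here.) -/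
theorem result (R : Type*) [CommRing R] [Algebra ℚ R] (y : R)
    (c : ℕ → R) (hc : ∀ k : ℕ, c k = ((Nat.factorial k : ℚ)⁻¹) • y ^ k)
    (k : ℕ) (hk : 2 ≤ k) :
    (∑ i ∈ Finset.Ico 1 k, (-1 : R) ^ (i - 1) * c i * c (k - i)) + (-1 : R) ^ (k - 1) * c k = c k := by
  obtain ⟨n, rfl⟩ : ∃ n, k = n + 1 := ⟨k - 1, by omega⟩
  rw [Finset.sum_Ico_eq_sum_range]
  simp only [Nat.add_sub_cancel]
  have hterm : ∀ j ∈ Finset.range (n + 1),
      (-1 : R) ^ j * c (j + 1) * c (n - j) =
        ((-1 : ℚ) ^ j * (((j + 1).factorial : ℚ)⁻¹ * ((n - j).factorial : ℚ)⁻¹)) • y ^ (n + 1) := by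
    intro j hj
    have hj' : j ≤ n := by
      have := Finset.mem_range.mp hj
      omega
    rw [hc, hc]
    have hy : y ^ (n + 1) = y ^ (j + 1) * y ^ (n - j) := by
      rw [← pow_add]
      congr 1
      omega
    rw [hy]
    simp only [Algebra.smul_def, map_mul, map_pow, map_neg, map_one]
    ring
  have hsum : (∑ j ∈ Finset.range (n + 1), (-1 : R) ^ j * c (j + 1) * c (n - j)) = c (n + 1) := by
    rw [Finset.sum_congr rfl hterm, ← Finset.sum_smul, aux_rat, hc]
  rw [Finset.sum_range_succ] at hsum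
  have hc0 : c 0 = 1 := by
    rw [hc]
    simp
  rw [Nat.sub_self, hc0, mul_one] at hsum
  refine Eq.trans ?_ hsum
  congr 1
  apply Finset.sum_congr rfl
  intro j hj
  have h1 : 1 + j - 1 = j := by omega
  have h2 : n + 1 - (1 + j) = n - j := by omega
  have h3 : 1 + j = j + 1 := by omega
  rw [h1, h2, h3]

end Groth.Agent.S15224
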