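import Groth.Statements.S15229
import Mathlib.Tactic.Ring
import Mathlib.Tactic.Linarith
import Mathlib.Tactic.FieldSimp
import Mathlib.Tactic.Positivity
import Mathlib.Data.Nat.Choose.Sum
import Mathlib.Algebra.Module.BigOperators

set_option autoImplicit false
open Finset
open W4c2rk2extmaps

namespace Groth.Agent.S15229

/-- In a commutative ℚ-algebra R let θ, η be elements and g a natural number, and put c_k = (4θ)^k / k!.
Suppose θ^(g+1) = 0 and that η satisfies the relation η^(g+1) = Σ_{i=1}^{g+1} (-1)^(i-1) c_i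
η^(g+1-i). Then η^(g+k) θ^(g-k) = c_k η^g θ^(g-k) for every 1 ≤ k ≤ g. (The published statement
concerns the first Chern class η of the tautological line bundle on a projective bundle P(U) over a
g-dimensional Jacobian, with c_k the Chern classes of U, which are (4θ)^k / k!; there θ^(g+1)
vanishes for dimension reasons and the displayed relation is the projective-bundle relation, and the
printed argument derives the identity from exactly these three inputs, which is the form stated
here.) -/
theorem result (R : Type*) [CommRing R] [Algebra ℚ R]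
    (θ η : R) (g : ℕ) (c : ℕ → R) (hc : ∀ k : ℕ, c k = ((Nat.factorial k : ℚ)⁻¹) • ((4 : R) * θ) ^ k)
    (hθ : θ ^ (g + 1) = 0)
    (hrel : η ^ (g + 1) = ∑ i ∈ Finset.Ico 1 (g + 2), (-1 : R) ^ (i - 1) * c i * η ^ (g + 1 - i))
    (k : ℕ) (hk1 : 1 ≤ k) (hkg : k ≤ g) :
    η ^ (g + k) * θ ^ (g - k) = c k * η ^ g * θ ^ (g - k) := by
  have hbin : ∀ k : ℕ, 1 ≤ k → ∑ i ∈ Finset.Ico 1 (k + 1), (-1 : ℚ) ^ (i - 1) *
      ((Nat.factorial i : ℚ)⁻¹ * (Nat.factorial (k - i) : ℚ)⁻¹) = (Nat.factorial k : ℚ)⁻¹ := by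
    intro k hk
    have h0 := Int.alternating_sum_range_choose_of_ne (n := k) (by omega)
    have h1 : (∑ m ∈ Finset.range (k + 1), ((-1 : ℚ) ^ m * (k.choose m : ℚ))) = 0 := by
      have := congrArg (Int.cast : ℤ → ℚ) h0
      push_cast at this
      exact this
    rw [Finset.range_eq_Ico, Finset.sum_eq_sum_Ico_succ_bot (by omega)] at h1
    simp only [pow_zero, Nat.choose_zero_right, Nat.cast_one, mul_one, zero_add] at h1
    have h2 : ∀ i ∈ Finset.Ico 1 (k + 1), (-1 : ℚ) ^ (i - 1) *
        ((Nat.factorial i : ℚ)⁻¹ * (Nat.factorial (k - i) : ℚ)⁻¹) =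
        -((Nat.factorial k : ℚ)⁻¹) * ((-1) ^ i * (k.choose i : ℚ)) := by
      intro i hi
      rw [Finset.mem_Ico] at hi
      obtain ⟨i', rfl⟩ : ∃ i', i = i' + 1 := ⟨i - 1, by omega⟩
      have hch := Nat.choose_mul_factorial_mul_factorial (show i' + 1 ≤ k by omega)
      have hch' : (k.choose (i' + 1) : ℚ) * (Nat.factorial (i' + 1) : ℚ) *
          (Nat.factorial (k - (i' + 1)) : ℚ) = (Nat.factorial k : ℚ) := by exact_mod_cast hch
      have hk0 : (Nat.factorial k : ℚ) ≠ 0 := by positivity
      have hi0 : (Nat.factorial (i' + 1) : ℚ) ≠ 0 := by positivity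
      have hj0 : (Nat.factorial (k - (i' + 1)) : ℚ) ≠ 0 := by positivity
      have hc0 : (k.choose (i' + 1) : ℚ) ≠ 0 := by
        have := Nat.choose_pos (show i' + 1 ≤ k by omega)
        positivity
      rw [Nat.add_sub_cancel, pow_succ, ← hch']
      field_simp
    rw [Finset.sum_congr rfl h2, ← Finset.mul_sum]
    have : ∑ i ∈ Finset.Ico 1 (k + 1), ((-1 : ℚ) ^ i * (k.choose i : ℚ)) = -1 := by linarith
    rw [this]; ring
  have hvan : ∀ m n, g + 1 ≤ m + n → ((4 : R) * θ) ^ m * θ ^ n = 0 := by
    intro m n h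
    obtain ⟨d, hd⟩ := Nat.exists_eq_add_of_le h
    rw [mul_pow, mul_assoc, ← pow_add, hd, pow_add, hθ, zero_mul, mul_zero]
  have main : ∀ k, k ≤ g → η ^ (g + k) * θ ^ (g - k) =
      ((Nat.factorial k : ℚ)⁻¹) • (((4 : R) * θ) ^ k * η ^ g * θ ^ (g - k)) := by
    intro k
    induction k using Nat.strong_induction_on with
    | _ k ih =>
      intro hk
      rcases Nat.eq_zero_or_pos k with rfl | hkpos
      · simp
      · obtain ⟨m, rfl⟩ : ∃ m, g = k + m := ⟨g - k, by omega⟩
        have e0 : k + m - k = m := by omega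
        rw [e0]
        have e1 : η ^ (k + m + k) = η ^ (k - 1) * η ^ (k + m + 1) := by
          rw [← pow_add]; congr 1; omega
        rw [e1, hrel, Finset.mul_sum, Finset.sum_mul]
        rw [← Finset.sum_Ico_consecutive _ (show 1 ≤ k + 1 by omega)
          (show k + 1 ≤ k + m + 2 by omega)]
        have hsecond : ∑ i ∈ Finset.Ico (k + 1) (k + m + 2),
            η ^ (k - 1) * ((-1 : R) ^ (i - 1) * c i * η ^ (k + m + 1 - i)) * θ ^ m = 0 := by
          apply Finset.sum_eq_zero
          intro i hi
          rw [Finset.mem_Ico] at hi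
          have : c i * θ ^ m = 0 := by
            rw [hc, smul_mul_assoc, hvan i m (by omega), smul_zero]
          calc η ^ (k - 1) * ((-1 : R) ^ (i - 1) * c i * η ^ (k + m + 1 - i)) * θ ^ m
              = η ^ (k - 1) * (-1 : R) ^ (i - 1) * η ^ (k + m + 1 - i) * (c i * θ ^ m) := by ring
            _ = 0 := by rw [this, mul_zero]
        rw [hsecond, add_zero]
        have hfirst : ∀ i ∈ Finset.Ico 1 (k + 1),
            η ^ (k - 1) * ((-1 : R) ^ (i - 1) * c i * η ^ (k + m + 1 - i)) * θ ^ m =
            ((-1 : ℚ) ^ (i - 1) * ((Nat.factorial i : ℚ)⁻¹ * (Nat.factorial (k - i) : ℚ)⁻¹)) •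
              (((4 : R) * θ) ^ k * η ^ (k + m) * θ ^ m) := by
          intro i hi
          rw [Finset.mem_Ico] at hi
          obtain ⟨j, rfl⟩ : ∃ j, k = i + j := ⟨k - i, by omega⟩
          have ihj := ih j (by omega) (by omega)
          have e2 : i + j + m - j = i + m := by omega
          rw [e2] at ihj
          have e3 : i + j - i = j := by omega
          rw [e3]
          have e4 : η ^ (i + j - 1) * η ^ (i + j + m + 1 - i) = η ^ (i + j + m + j) := by
            rw [← pow_add]; congr 1; omega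
          have hsign : (-1 : R) ^ (i - 1) = algebraMap ℚ R ((-1) ^ (i - 1)) := by simp
          calc η ^ (i + j - 1) * ((-1 : R) ^ (i - 1) * c i * η ^ (i + j + m + 1 - i)) * θ ^ m
              = (-1 : R) ^ (i - 1) * (c i * θ ^ m * (η ^ (i + j - 1) * η ^ (i + j + m + 1 - i))) := by
                ring
            _ = (-1 : R) ^ (i - 1) * (algebraMap ℚ R ((Nat.factorial i : ℚ)⁻¹) *
                  (4 ^ i * (η ^ (i + j + m + j) * θ ^ (i + m)))) := by
                rw [e4, hc, Algebra.smul_def]; ring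
            _ = _ := by
                rw [ihj, hsign, Algebra.smul_def, Algebra.smul_def, map_mul, map_mul]
                ring
        rw [Finset.sum_congr rfl hfirst, ← Finset.sum_smul, hbin k hkpos]
  rw [main k hkg, hc, smul_mul_assoc, smul_mul_assoc]

end Groth.Agent.S15229
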