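import Groth.Statements.S15231
import Mathlib
import Groth.Agent.Lib.Helper12.TensorCx
import Groth.Agent.Lib.Helper36.LeftDerivedCompute

set_option autoImplicit false
universe u
open CategoryTheory CategoryTheory.Limits
attribute [local instance] HasDerivedCategory.standard
open DRing

namespace Groth.Agent.S15231

open Groth.Agent.Lib.Helper12 Groth.Agent.Lib.Helper36 MonoidalCategory

/-- the residue field as an `R`-module, in its two guises -/
noncomputable def baIso (R : Type u) [CommRing R] [IsLocalRing R] :
    BA (IsLocalRing.residue R) ≅ ModuleCat.of R (IsLocalRing.ResidueField R) :=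
  LinearEquiv.toModuleIso
    { toFun := fun x => x
      invFun := fun x => x
      left_inv := fun _ => rfl
      right_inv := fun _ => rfl
      map_add' := fun _ _ => rfl
      map_smul' := fun r (x : IsLocalRing.ResidueField R) => (Algebra.smul_def r x).symm }

lemma finiteLength_aux (R : Type u) [CommRing R] [IsLocalRing R] (F : DRing.Cx R)
    (hF : ∀ i, Module.Flat R (F.X i)) (i : ℤ)
    (hκ : IsZero ((tcCx F (ModuleCat.of R (IsLocalRing.ResidueField R))).homology i))
    (N : Type u) [AddCommGroup N] [Module R N] (hN : IsFiniteLength R N) :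
    IsZero ((tcCx F (ModuleCat.of R N)).homology i) := by
  induction hN with
  | of_subsingleton =>
    exact isZero_homology_tcCx_of_isZero F (ModuleCat.isZero_of_subsingleton _) i
  | @of_simple_quotient M _ _ N' _ _ ih =>
    obtain ⟨I, hI, ⟨e⟩⟩ := (isSimpleModule_iff_quot_maximal (R := R) (M := M ⧸ N')).mp inferInstance
    have hI' : I = IsLocalRing.maximalIdeal R := IsLocalRing.eq_maximalIdeal hI
    subst hI'
    let S : ShortComplex (ModuleCat.{u} R) :=
      ShortComplex.mk (ModuleCat.ofHom N'.subtype) (ModuleCat.ofHom N'.mkQ) (by
        ext x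
        simp)
    have hS : S.ShortExact :=
      ModuleCat.shortComplex_shortExact S (LinearMap.exact_subtype_mkQ N') N'.injective_subtype
        N'.mkQ_surjective
    have h3 : IsZero ((tcCx F S.X₃).homology i) :=
      isZero_homology_tcCx_of_iso F (e.toModuleIso).symm i hκ
    exact isZero_homology_tcCx_of_shortExact F hF S hS i ih h3

/-- Let R be a Noetherian local commutative ring with residue field κ, let P be any object of D(R) and
a, b integers. Suppose that H^i(P ⊗^L_R κ) = 0 for every i outside [a, b] (over the field κ this
says exactly that P ⊗^L_R κ has tor amplitude in [a, b] as an object of D(κ)). Then for every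
R-module N of finite length, H^i(P ⊗^L_R N) = 0 for every i outside [a, b]. The derived base change
to κ and the derived tensor products with R-modules are the total left derived functors on D(R),
assumed to exist for every R-module (as they do). -/
theorem result (R : Type u) [CommRing R] [IsNoetherianRing R]
    [IsLocalRing R] [DRing.HasLBaseChange (IsLocalRing.residue R)] [∀ M : ModuleCat.{u} R, DRing.HasLTensor R M]
    (P : Dual.D R) (a b : ℤ)
    (h : ∀ i : ℤ, (i < a ∨ b < i) →
      Subsingleton (Dual.HD (IsLocalRing.ResidueField R) ((DRing.LBaseChange (IsLocalRing.residue R)).obj P) i))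
    (N : Type u) [AddCommGroup N] [Module R N] (hN : IsFiniteLength R N) (i : ℤ) (hi : i < a ∨ b < i) :
    Subsingleton (Dual.HD R ((DRing.LTensor R (ModuleCat.of R N)).obj P) i) := by
  let X : DRing.Cx R := DerivedCategory.Q.objPreimage P
  let e : DRing.toD X ≅ P := DerivedCategory.Q.objObjPreimageIso P
  obtain ⟨F, f, hf, hFK, hFp⟩ := KP.exists_resolution X
  have eP : DRing.toD F ≅ P := asIso (DerivedCategory.Q.map f) ≪≫ e
  have hFl : ∀ j, Module.Flat R (F.X j) := fun j => by
    have := hFp j
    exact Module.Flat.of_projective
  -- the residue field computation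
  have e1 : (DRing.LBaseChange (IsLocalRing.residue R)).obj P ≅
      DRing.toD (bcCx (IsLocalRing.residue R) F) :=
    (DRing.LBaseChange (IsLocalRing.residue R)).mapIso eP.symm ≪≫
      LBaseChangeIso (IsLocalRing.residue R) F
  have hκ : IsZero ((tcCx F (ModuleCat.of R (IsLocalRing.ResidueField R))).homology i) := by
    apply isZero_homology_tcCx_of_iso F (baIso R) i
    rw [isZero_homology_tcCx_BA_iff]
    have := h i hi
    have h2 : IsZero ((HF (IsLocalRing.ResidueField R) i).obj
        ((DRing.LBaseChange (IsLocalRing.residue R)).obj P)) := ModuleCat.isZero_of_subsingleton _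
    exact (h2.of_iso ((HF _ i).mapIso e1.symm)).of_iso (HFQIso i _).symm
  have hN' := finiteLength_aux R F hFl i hκ N hN
  have e2 : (DRing.LTensor R (ModuleCat.of R N)).obj P ≅
      DRing.toD (tcCx F (ModuleCat.of R N)) :=
    (DRing.LTensor R (ModuleCat.of R N)).mapIso eP.symm ≪≫ LT.lTensorObjIso (ModuleCat.of R N) F
  have h3 : IsZero ((HF R i).obj ((DRing.LTensor R (ModuleCat.of R N)).obj P)) :=
    (hN'.of_iso (HFQIso i _)).of_iso ((HF R i).mapIso e2)
  exact ModuleCat.subsingleton_of_isZero h3

end Groth.Agent.S15231
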