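import Groth.Statements.S15232
import Mathlib
import Groth.Agent.Lib.Helper12.JacobsonAmp
import Groth.Agent.Lib.Helper12.FlatConn
import Groth.Agent.Lib.Helper12.FlatExtendPerfect
import Groth.Agent.Lib.Helper12.DRingTorAmpClosure

set_option autoImplicit false
universe u
open CategoryTheory CategoryTheory.Limits
attribute [local instance] HasDerivedCategory.standard
open DRing

namespace Groth.Agent.S15232

open Groth.Agent.Lib.Helper12

/-- Let R be a Noetherian commutative ring and I an ideal contained in the Jacobson radical of R, and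
assume the derived base change D(R) → D(R/I) exists. Let P be a pseudo-coherent object of D(R) and
a, b integers. If P ⊗^L_R R/I has tor amplitude in [a, b] as an object of D(R/I), then P has tor
amplitude in [a, b] as an object of D(R). Tor amplitude is taken in the flat-representative form
(isomorphic in the derived category to a complex of flat modules vanishing outside [a, b]). -/
theorem result (R : Type u) [CommRing R] [IsNoetherianRing R]
    (I : Ideal R) (hI : I ≤ Ideal.jacobson (⊥ : Ideal R)) [DRing.HasLBaseChange (Ideal.Quotient.mk I)]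
    (P : Dual.D R) (hP : DRing.IsPseudoCoherent' R P) (a b : ℤ)
    (h : DRing.HasTorAmplitudeIn (R ⧸ I) a b ((DRing.LBaseChange (Ideal.Quotient.mk I)).obj P)) :
    DRing.HasTorAmplitudeIn R a b P := by
  obtain ⟨F, t, hFb, hFff, ⟨e⟩⟩ := hP
  have hFfp : TermwiseFiniteProjective F := termwiseFiniteProjective_of_termwiseFiniteFree hFff
  have hFproj : ∀ i, Module.Projective R (F.X i) := fun i => (hFfp i).2
  have hFfl : ∀ i, Module.Flat R (F.X i) := fun i => by
    have := hFproj i
    infer_instance
  have : F.IsKProjective := isKProjective_of_vanishesAbove F t hFb hFproj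
  let _ : Algebra R (R ⧸ I) := (Ideal.Quotient.mk I).toAlgebra
  have e1 : (LBaseChange (Ideal.Quotient.mk I)).obj P ≅ toD (bcCx (Ideal.Quotient.mk I) F) :=
    (LBaseChange (Ideal.Quotient.mk I)).mapIso e.symm ≪≫ LBaseChangeIso (Ideal.Quotient.mk I) F
  have hamp : HasTorAmplitudeIn (R ⧸ I) a b (toD (bcCx (Ideal.Quotient.mk I) F)) :=
    hasTorAmplitudeIn_of_iso e1 h
  have hbF : VanishesAbove (bcCx (Ideal.Quotient.mk I) F) t := fun i hi =>
    extSc_isZero (A := R) (B := R ⧸ I) _ (hFb i hi)
  have hbfp : TermwiseFiniteProjective (bcCx (Ideal.Quotient.mk I) F) := fun i => by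
    have := (hFfp i).1
    have := (hFfp i).2
    exact extSc_finite_projective (A := R) (B := R ⧸ I) (F.X i)
  have hexb : ∀ i : ℤ, (i < a ∨ b < i) → (bcCx (Ideal.Quotient.mk I) F).ExactAt i := fun i hi =>
    exactAt_of_isZero_HF _ i (isZero_HF_of_hasTorAmplitudeIn hamp i hi)
  have hop : ∀ i : ℤ, i ≤ a → Projective ((bcCx (Ideal.Quotient.mk I) F).opcycles i) := by
    intro i hi
    have hamp' : HasTorAmplitudeIn (R ⧸ I) i b (toD (bcCx (Ideal.Quotient.mk I) F)) :=
      hasTorAmplitudeIn_mono' hamp hi le_rfl
    have hfl := flat_opcycles_of_hasTorAmplitudeIn (bcCx (Ideal.Quotient.mk I) F) t hbF i b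
      (fun j _ => by
        have := (hbfp j).2
        infer_instance) hamp'
    have h3 := finiteProjective_opcycles (bcCx (Ideal.Quotient.mk I) F) i (hbfp _).1 (hbfp _).1
      (hbfp _).2 hfl
    exact (IsProjective.iff_projective _).mp h3.2
  obtain ⟨hlow, hopa⟩ := exactAt_below_of_bc hI F hFfp a (fun i hi => hexb i (Or.inl hi)) hop
  have hup := exactAt_above_of_bc hI b (t - b).toNat F (fun i hi => hFb i (by omega)) hFfp
    (fun i hi => hexb i (Or.inr hi))
  obtain ⟨G, hG, hGt, ⟨eG⟩⟩ := exists_rep_of_quasiIsoAt (flatP R) flatP_kerClosed (𝟙 F) a t b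
    (fun i _ => inferInstance) hFb (fun j _ => hFfl j) (by
      show Module.Flat R (F.opcycles a)
      infer_instance)
    (fun i hi => by
      rw [← exactAt_iff_isZero_HF]
      rcases hi with hi | hi
      · exact hlow i hi
      · exact hup i hi)
  exact ⟨G, hG, hGt, ⟨eG ≪≫ e⟩⟩

end Groth.Agent.S15232
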