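import Groth.Statements.S15233
import Mathlib.Algebra.Category.Grp.Zero
-- import your own Groth.Agent.* helpers here

set_option autoImplicit false
universe u
open CategoryTheory CategoryTheory.Limits Opposite
open CohSite

namespace Groth.Agent.S15233

/-- Let C be a small category with a Grothendieck topology J, and let B be a class of objects forming a
prebasis: for every object V and every covering sieve S of V, the arrows of S whose domain lies in B
generate a covering sieve of V. If F is a presheaf of abelian groups on C such that F(U) = 0 for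
every object U in B, then the sheafification of F is zero. -/
theorem result {C : Type u} [SmallCategory C] (J : GrothendieckTopology C)
    (B : ObjectProperty C)
    (hB : ∀ (V : C) (S : Sieve V), S ∈ J V →
      Sieve.generate (fun (U : C) => {g : U ⟶ V | S.arrows g ∧ B U}) ∈ J V)
    (F : Cᵒᵖ ⥤ AddCommGrpCat.{u}) (hF : ∀ U : C, B U → IsZero (F.obj (op U))) :
    IsZero ((presheafToSheaf J AddCommGrpCat.{u}).obj F) := by
  have key : ∀ (G : Sheaf J AddCommGrpCat.{u}) (φ ψ : F ⟶ G.obj), φ = ψ := by
    intro G φ ψ
    ext U x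
    obtain ⟨U⟩ := U
    have hsh : Presieve.IsSheaf J (G.obj ⋙ forget AddCommGrpCat.{u}) := by
      have := (Presheaf.isSheaf_iff_isSheaf_forget J G.obj (forget AddCommGrpCat.{u})).mp G.property
      exact (isSheaf_iff_isSheaf_of_type J _).mp this
    have hT : Sieve.generate (fun (W : C) => {g : W ⟶ U | (⊤ : Sieve U).arrows g ∧ B W}) ∈ J U :=
      hB U ⊤ (J.top_mem U)
    have hsep := (hsh _ hT).isSeparatedFor
    apply hsep.ext
    rintro Y f ⟨W, h, g, ⟨-, hW⟩, rfl⟩
    have aux : ∀ θ : F ⟶ G.obj,
        (ConcreteCategory.hom ((G.obj ⋙ forget AddCommGrpCat.{u}).map (h ≫ g).op))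
          ((AddCommGrpCat.Hom.hom (θ.app (op U))) x) = (0 : ↑(G.obj.obj (op Y))) := by
      intro θ
      have hnat := θ.naturality (h ≫ g).op
      have h1 : (ConcreteCategory.hom ((G.obj ⋙ forget AddCommGrpCat.{u}).map (h ≫ g).op))
          ((AddCommGrpCat.Hom.hom (θ.app (op U))) x) =
          (AddCommGrpCat.Hom.hom (F.map (h ≫ g).op ≫ θ.app (op Y))) x := by
        rw [hnat]
        rfl
      rw [h1, op_comp, F.map_comp]
      have hz : (AddCommGrpCat.Hom.hom (F.map g.op)) x = 0 :=
        (AddCommGrpCat.subsingleton_of_isZero (hF W hW)).elim _ _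
      change (AddCommGrpCat.Hom.hom (θ.app (op Y))) ((AddCommGrpCat.Hom.hom (F.map h.op))
        ((AddCommGrpCat.Hom.hom (F.map g.op)) x)) = 0
      rw [hz, map_zero, map_zero]
    exact (aux φ).trans (aux ψ).symm
  rw [IsZero.iff_id_eq_zero]
  apply ((sheafificationAdjunction J AddCommGrpCat.{u}).homEquiv F _).injective
  exact key _ _ _

end Groth.Agent.S15233
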