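import Groth.Statements.S15235
import Mathlib.Tactic
-- import your own Groth.Agent.* helpers here

set_option autoImplicit false
universe u
open CategoryTheory Opposite
open HomAlg3

namespace Groth.Agent.S15235

section
variable (F : ℕᵒᵖ ⥤ Type u)

/-- transition map from level `n` to level `m ≤ n` -/
def tr {m n : ℕ} (h : m ≤ n) : F.obj (op n) → F.obj (op m) := F.map (homOfLE h).op

theorem tr_refl (m : ℕ) (x : F.obj (op m)) : tr F (le_refl m) x = x := by
  unfold tr
  have : (homOfLE (le_refl m)).op = 𝟙 (op m) := Subsingleton.elim _ _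
  rw [this, F.map_id]
  rfl

theorem tr_tr {l m n : ℕ} (h1 : l ≤ m) (h2 : m ≤ n) (x : F.obj (op n)) :
    tr F h1 (tr F h2 x) = tr F (h1.trans h2) x := by
  unfold tr
  have : (homOfLE (h1.trans h2)).op = (homOfLE h2).op ≫ (homOfLE h1).op := Subsingleton.elim _ _
  rw [this, F.map_comp]
  rfl

theorem map_eq_tr {m n : ℕ} (f : op n ⟶ op m) : ∃ h : m ≤ n, F.map f = tr F h := by
  have h : m ≤ n := leOfHom f.unop
  refine ⟨h, ?_⟩
  unfold tr
  congr 1

theorem tr_surj (j₀ : ℕ) (hs : ∀ j : ℕ, j₀ ≤ j → Function.Surjective (tr F (Nat.le_succ j)))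
    {m n : ℕ} (h : m ≤ n) (hm : j₀ ≤ m) : Function.Surjective (tr F h) := by
  induction n, h using Nat.le_induction with
  | base => intro x; exact ⟨x, tr_refl F m x⟩
  | succ n hmn ih =>
    intro x
    obtain ⟨y, hy⟩ := ih x
    obtain ⟨z, hz⟩ := hs n (hm.trans hmn) y
    refine ⟨z, ?_⟩
    rw [← hy, ← hz, tr_tr]

theorem tr_inj (j₀ : ℕ) (hs : ∀ j : ℕ, j₀ ≤ j → Function.Injective (tr F (Nat.le_succ j)))
    {m n : ℕ} (h : m ≤ n) (hm : j₀ ≤ m) : Function.Injective (tr F h) := by
  induction n, h using Nat.le_induction with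
  | base => intro x y hxy; rwa [tr_refl, tr_refl] at hxy
  | succ n hmn ih =>
    intro x y hxy
    rw [← tr_tr F hmn (Nat.le_succ n), ← tr_tr F hmn (Nat.le_succ n)] at hxy
    exact hs n (hm.trans hmn) (ih hxy)

/-- a compatible lift sequence above `j₀` -/
noncomputable def liftSeq (j₀ : ℕ)
    (hs : ∀ j : ℕ, j₀ ≤ j → Function.Surjective (tr F (Nat.le_succ j)))
    (x : F.obj (op j₀)) : (n : ℕ) → F.obj (op (j₀ + n))
  | 0 => x
  | n + 1 => (hs (j₀ + n) (Nat.le_add_right _ _) (liftSeq j₀ hs x n)).choose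

theorem liftSeq_succ (j₀ : ℕ)
    (hs : ∀ j : ℕ, j₀ ≤ j → Function.Surjective (tr F (Nat.le_succ j)))
    (x : F.obj (op j₀)) (n : ℕ) :
    tr F (Nat.le_succ (j₀ + n)) (liftSeq F j₀ hs x (n + 1)) = liftSeq F j₀ hs x n :=
  (hs (j₀ + n) (Nat.le_add_right _ _) (liftSeq F j₀ hs x n)).choose_spec

theorem liftSeq_compat (j₀ : ℕ)
    (hs : ∀ j : ℕ, j₀ ≤ j → Function.Surjective (tr F (Nat.le_succ j)))
    (x : F.obj (op j₀)) {b a : ℕ} (h : b ≤ a) :
    tr F (Nat.add_le_add_left h j₀) (liftSeq F j₀ hs x a) = liftSeq F j₀ hs x b := by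
  induction a, h using Nat.le_induction with
  | base => exact tr_refl F _ _
  | succ a hba ih =>
    rw [← ih, ← liftSeq_succ F j₀ hs x a, tr_tr]

theorem main (j₀ : ℕ) (hs : ∀ j : ℕ, j₀ ≤ j → Function.Surjective (tr F (Nat.le_succ j))) :
    F.IsMittagLeffler ∧
      Function.Surjective (fun s : F.sections => s.1 (op j₀)) ∧
      ((∀ j : ℕ, j₀ ≤ j → Function.Injective (tr F (Nat.le_succ j))) →
        Function.Bijective (fun s : F.sections => s.1 (op j₀))) := by
  have hsurj : Function.Surjective (fun s : F.sections => s.1 (op j₀)) := by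
    intro x
    refine ⟨⟨fun j => tr F (Nat.le_add_left j.unop j₀) (liftSeq F j₀ hs x j.unop), ?_⟩, ?_⟩
    · intro a b f
      obtain ⟨a⟩ := a
      obtain ⟨b⟩ := b
      obtain ⟨h, hf⟩ := map_eq_tr F f
      rw [hf]
      simp only [unop_op]
      rw [tr_tr, ← liftSeq_compat F j₀ hs x h, tr_tr]
    · simp only [unop_op]
      have h0 : liftSeq F j₀ hs x 0 = x := rfl
      have := liftSeq_compat F j₀ hs x (Nat.zero_le j₀)
      rw [h0] at this
      conv_rhs => rw [← this]
  refine ⟨?_, hsurj, ?_⟩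
  · intro j
    obtain ⟨a⟩ := j
    refine ⟨op (max a j₀), (homOfLE (le_max_left a j₀)).op, ?_⟩
    intro k g
    obtain ⟨b⟩ := k
    obtain ⟨hab, hg⟩ := map_eq_tr F g
    rw [hg]
    rintro _ ⟨y, rfl⟩
    change tr F (le_max_left a j₀) y ∈ _
    obtain ⟨z, hz⟩ := tr_surj F j₀ hs (le_max_left (max a j₀) b) (le_max_right a j₀) y
    refine ⟨tr F (le_max_right (max a j₀) b) z, ?_⟩
    rw [tr_tr, ← hz, tr_tr]
  · intro hinj
    refine ⟨?_, hsurj⟩
    intro s s' hss
    simp only at hss
    apply Subtype.ext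
    funext j
    obtain ⟨j⟩ := j
    have hsec : ∀ (t : F.sections) {m n : ℕ} (h : m ≤ n), tr F h (t.1 (op n)) = t.1 (op m) := by
      intro t m n h
      exact t.2 (homOfLE h).op
    rcases le_total j₀ j with hj | hj
    · apply tr_inj F j₀ hinj hj (le_refl _)
      rw [hsec, hsec, hss]
    · rw [← hsec s hj, ← hsec s' hj, hss]

end

/-- Let (G_j) be an inverse system of abelian groups indexed by the natural numbers, with transition
maps G_{j+1} → G_j, and let j₀ be a natural number such that the transition map G_{j+1} → G_j is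
surjective for every j ≥ j₀. Then: (a) the system satisfies the Mittag-Leffler condition; (b) the
evaluation map from the inverse limit (realised as the set of compatible families) to G_{j₀} is
surjective; (c) if in addition the transition maps G_{j+1} → G_j are injective for every j ≥ j₀,
that evaluation map is bijective. (The published statement indexes the system by the negative
integers and assumes j₀ ≥ 1; this row indexes it by the natural numbers and allows j₀ = 0, which
changes nothing.) -/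
theorem result (G : ℕᵒᵖ ⥤ AddCommGrpCat.{u})
    (j₀ : ℕ) (hs : ∀ j : ℕ, j₀ ≤ j → Function.Surjective (G.map (homOfLE (Nat.le_succ j)).op).hom) :
    (G ⋙ forget AddCommGrpCat.{u}).IsMittagLeffler ∧
      Function.Surjective (fun s : (G ⋙ forget AddCommGrpCat.{u}).sections => s.1 (op j₀)) ∧
      ((∀ j : ℕ, j₀ ≤ j → Function.Injective (G.map (homOfLE (Nat.le_succ j)).op).hom) →
        Function.Bijective (fun s : (G ⋙ forget AddCommGrpCat.{u}).sections => s.1 (op j₀))) := by
  exact main (G ⋙ forget AddCommGrpCat.{u}) j₀ hs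

end Groth.Agent.S15235
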