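import Groth.Statements.S15237
import Mathlib
-- import your own Groth.Agent.* helpers here

set_option autoImplicit false
open CategoryTheory AlgebraicGeometry
universe u
open Variety

namespace Groth.Agent.S15237

open Cardinal in
theorem isAlgebraic_of_rank_le_aleph0 (k K : Type u) [Field k] [Uncountable k] [Field K] [Algebra k K]
    (h : Module.rank k K ≤ ℵ₀) : Algebra.IsAlgebraic k K := by
  by_contra hna
  rw [← Algebra.transcendental_iff_not_isAlgebraic] at hna
  have h1 := Algebra.Transcendental.rank_eq_cardinalMk k K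
  have h2 : #k ≤ #K := Cardinal.mk_le_of_injective (algebraMap k K).injective
  have h3 : ℵ₀ < #k := Cardinal.aleph0_lt_mk
  exact absurd (h3.trans_le (h2.trans (h1 ▸ h))) (lt_irrefl _)

open Cardinal in
theorem rank_mvPolynomial_countable (k : Type u) [Field k] (σ : Type) [Countable σ] :
    Module.rank k (MvPolynomial σ k) ≤ ℵ₀ := by
  rw [MvPolynomial.rank_eq_lift]
  simp

open Cardinal in
/-- rank of `MvPolynomial ℕ R` over `k` is countable if `R` is a finite type `k`-algebra. -/
theorem rank_mvPolynomial_nat_le (k R : Type u) [Field k] [CommRing R] [Algebra k R]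
    [Algebra.FiniteType k R] : Module.rank k (MvPolynomial ℕ R) ≤ ℵ₀ := by
  obtain ⟨n, f, hf⟩ := Algebra.FiniteType.iff_quotient_mvPolynomial''.mp ‹Algebra.FiniteType k R›
  let g : MvPolynomial (ℕ ⊕ Fin n) k →ₐ[k] MvPolynomial ℕ R :=
    (MvPolynomial.mapAlgHom f).comp (MvPolynomial.sumAlgEquiv k ℕ (Fin n)).toAlgHom
  have hg : Function.Surjective g := by
    have h1 : Function.Surjective (MvPolynomial.mapAlgHom (σ := ℕ) f) :=
      MvPolynomial.map_surjective f.toRingHom hf
    exact h1.comp (MvPolynomial.sumAlgEquiv k ℕ (Fin n)).surjective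
  exact (LinearMap.rank_le_of_surjective g.toLinearMap hg).trans
    (rank_mvPolynomial_countable k _)

theorem isMaximal_comap_C_of_isAlgebraic (k R : Type u) [Field k] [CommRing R] [Algebra k R]
    (M : Ideal (MvPolynomial ℕ R)) [hM : M.IsMaximal]
    (halg : Algebra.IsAlgebraic k (MvPolynomial ℕ R ⧸ M)) :
    (M.comap (MvPolynomial.C : R →+* MvPolynomial ℕ R)).IsMaximal := by
  let q : Ideal R := M.comap (MvPolynomial.C : R →+* MvPolynomial ℕ R)
  have hqprime : q.IsPrime := Ideal.comap_isPrime _ _
  let g : R →ₐ[k] MvPolynomial ℕ R := IsScalarTower.toAlgHom k R (MvPolynomial ℕ R)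
  have hg : q ≤ M.comap g := le_rfl
  let ψ : (R ⧸ q) →ₐ[k] (MvPolynomial ℕ R ⧸ M) := Ideal.quotientMapₐ M g hg
  have hinj : Function.Injective ψ := by
    have : Function.Injective (Ideal.quotientMap M (MvPolynomial.C : R →+* MvPolynomial ℕ R) le_rfl) :=
      Ideal.quotientMap_injective
    exact this
  have : Algebra.IsIntegral k (MvPolynomial ℕ R ⧸ M) := inferInstance
  have hint : Algebra.IsIntegral k (R ⧸ q) := Algebra.IsIntegral.of_injective ψ hinj
  have : IsDomain (R ⧸ q) := Ideal.Quotient.isDomain q
  exact Ideal.Quotient.maximal_of_isField q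
    (isField_of_isIntegral_of_isField' (R := k) (Field.toIsField k))

open Cardinal in
/-- Over an uncountable field `k`, in a finite type `k`-algebra, given countably many elements
outside a prime ideal, there is a maximal ideal containing none of them. -/
theorem exists_maximal_not_mem (k R : Type u) [Field k] [Uncountable k] [CommRing R] [Algebra k R]
    [Algebra.FiniteType k R] (p : Ideal R) [p.IsPrime] (f : ℕ → R) (hf : ∀ n, f n ∉ p) :
    ∃ q : Ideal R, q.IsMaximal ∧ ∀ n, f n ∉ q := by
  classical
  let A := MvPolynomial ℕ R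
  let J : Ideal A := Ideal.span (Set.range fun n : ℕ => MvPolynomial.X n * MvPolynomial.C (f n) - 1)
  let L := FractionRing (R ⧸ p)
  let φ : A →+* L := MvPolynomial.eval₂Hom (algebraMap R L) (fun n => (algebraMap R L (f n))⁻¹)
  have hne : ∀ n, algebraMap R L (f n) ≠ 0 := by
    intro n h
    rw [IsScalarTower.algebraMap_apply R (R ⧸ p) L] at h
    have := (IsFractionRing.injective (R ⧸ p) L) (h.trans (map_zero _).symm)
    rw [Ideal.Quotient.algebraMap_eq, Ideal.Quotient.eq_zero_iff_mem] at this
    exact hf n this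
  have hJ : J ≤ RingHom.ker φ := by
    rw [Ideal.span_le]
    rintro _ ⟨n, rfl⟩
    simp only [SetLike.mem_coe, RingHom.mem_ker, map_sub, map_mul, map_one, φ]
    rw [MvPolynomial.eval₂Hom_X', MvPolynomial.eval₂Hom_C, inv_mul_cancel₀ (hne n), sub_self]
  have hJtop : J ≠ ⊤ := by
    intro h
    have : (1 : A) ∈ RingHom.ker φ := hJ (h ▸ Submodule.mem_top)
    simp [RingHom.mem_ker] at this
  obtain ⟨M, hM, hJM⟩ := Ideal.exists_le_maximal J hJtop
  let K := A ⧸ M
  let _ : Field K := Ideal.Quotient.field M
  have hrank : Module.rank k K ≤ ℵ₀ :=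
    (LinearMap.rank_le_of_surjective (Ideal.Quotient.mkₐ k M).toLinearMap
      (Ideal.Quotient.mkₐ_surjective k M)).trans (rank_mvPolynomial_nat_le k R)
  have halg : Algebra.IsAlgebraic k K := isAlgebraic_of_rank_le_aleph0 k K hrank
  refine ⟨M.comap (MvPolynomial.C : R →+* A), isMaximal_comap_C_of_isAlgebraic k R M halg, ?_⟩
  intro n hn
  have h1 : MvPolynomial.X n * MvPolynomial.C (f n) - 1 ∈ M := hJM (Ideal.subset_span ⟨n, rfl⟩)
  have h2 : MvPolynomial.X n * MvPolynomial.C (f n) ∈ M := M.mul_mem_left _ hn
  have h3 : (1 : A) ∈ M := by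
    have := M.sub_mem h2 h1
    simpa using this
  exact hM.ne_top ((Ideal.eq_top_iff_one M).mpr h3)


/-- Let k be an uncountable field and X an irreducible k-scheme of finite type. Then the closed points
of X are not covered by countably many closed subsets of X different from X: for every sequence Z₀,
Z₁, … of closed subsets of X with Zₙ ≠ X for all n there is a closed point of X lying in no Zₙ. (The
published statement is for an irreducible quasi-projective variety and says that the variety is not
a countable union of closed subsets different from it, a variety being read through its closed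
points; with the generic point of the scheme that assertion would be immediate, so this row asks for
a closed point, and it assumes only finite type over k.) -/
theorem result (k : Type u) [Field k] [Uncountable k]
    (X : Scheme.{u}) (sX : X ⟶ Spec (CommRingCat.of k)) [IrreducibleSpace X]
    [LocallyOfFiniteType sX] [QuasiCompact sX]
    (Z : ℕ → TopologicalSpace.Closeds X) (hZ : ∀ n, (Z n : Set X) ≠ Set.univ) :
    ∃ x : X, IsClosed ({x} : Set X) ∧ ∀ n, x ∉ Z n := by
  have hJac : JacobsonSpace X := LocallyOfFiniteType.jacobsonSpace sX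
  let η := genericPoint X
  have hη : ∀ n, η ∉ Z n := by
    intro n hn
    apply hZ n
    have h1 : closure ({η} : Set X) = Set.univ := (genericPoint_spec X)
    have h2 : closure ({η} : Set X) ⊆ (Z n : Set X) :=
      (Z n).isClosed.closure_subset_iff.mpr (Set.singleton_subset_iff.mpr hn)
    exact Set.eq_univ_of_univ_subset (h1 ▸ h2)
  let 𝒰 := X.affineOpenCover
  obtain ⟨y, hy⟩ := 𝒰.covers η
  let R : CommRingCat := 𝒰.X (𝒰.idx η)
  let j : Spec R ⟶ X := 𝒰.f (𝒰.idx η)
  have hjoe : Topology.IsOpenEmbedding j := j.isOpenEmbedding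
  have hlft : LocallyOfFiniteType (j ≫ sX) := inferInstance
  obtain ⟨φ, hφ⟩ := Spec.homEquiv.symm.surjective (j ≫ sX)
  have hφ' : Spec.map φ = j ≫ sX := hφ
  rw [← hφ'] at hlft
  have hft : φ.hom.FiniteType := HasRingHomProperty.Spec_iff.mp hlft
  let _ : Algebra k R := RingHom.toAlgebra φ.hom
  have : Algebra.FiniteType k R := hft
  -- the closed subsets pulled back
  have hI : ∀ n, ∃ g : R, g ∉ y.asIdeal ∧ ∀ z : Spec R, j z ∈ Z n → g ∈ z.asIdeal := by
    intro n
    have hcl : IsClosed (j ⁻¹' (Z n : Set X)) := (Z n).isClosed.preimage j.continuous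
    obtain ⟨I, hI⟩ := (PrimeSpectrum.isClosed_iff_zeroLocus_ideal _).mp hcl
    have hy' : y ∉ PrimeSpectrum.zeroLocus (I : Set R) := by
      rw [← hI]
      change j y ∉ Z n
      rw [hy]
      exact hη n
    have hy'' : ¬ (I ≤ y.asIdeal) := fun hle => hy' ((PrimeSpectrum.mem_zeroLocus y _).mpr hle)
    obtain ⟨g, hgI, hgy⟩ := SetLike.not_le_iff_exists.mp hy''
    refine ⟨g, hgy, fun z hz => ?_⟩
    have hz' : z ∈ PrimeSpectrum.zeroLocus (I : Set R) := by
      rw [← hI]; exact hz
    exact hz' hgI
  choose g hg1 hg2 using hI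
  have : y.asIdeal.IsPrime := y.isPrime
  obtain ⟨q, hq, hgq⟩ := exists_maximal_not_mem k R y.asIdeal g hg1
  let z : Spec R := ⟨q, hq.isPrime⟩
  have hzcl : z ∈ closedPoints (Spec R) := by
    rw [mem_closedPoints_iff]
    exact (PrimeSpectrum.isClosed_singleton_iff_isMaximal z).mpr hq
  rw [← hjoe.preimage_closedPoints] at hzcl
  refine ⟨j z, hzcl, fun n hn => hgq n (hg2 n z hn)⟩

end Groth.Agent.S15237
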