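import Groth.Statements.S15245
import Mathlib
-- import your own Groth.Agent.* helpers here

set_option autoImplicit false
universe u
open CategoryTheory AlgebraicGeometry
open RedSub

namespace Groth.Agent.S15245

section helpers
variable {idx M N : Type} [AddCommGroup M] [AddCommGroup N] [Finite idx]
variable (P : RootPairing idx ℤ M N) (b : P.Base)

theorem exists_ht : ∃ ht : (P.rootSpan ℤ) →ₗ[ℤ] ℤ,
    ∀ i : idx, ht (P.rootSpanMem ℤ i) = b.height i := by
  classical
  let B : Module.Basis b.support ℤ (P.rootSpan ℤ) := b.toWeightBasisInt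
  have hB : ∀ j : b.support, B j = P.rootSpanMem ℤ j := fun j => Module.Basis.mk_apply _ _ j
  let ht : (P.rootSpan ℤ) →ₗ[ℤ] ℤ := B.constr ℤ (fun _ => (1:ℤ))
  have hht : ∀ j : b.support, ht (P.rootSpanMem ℤ j) = 1 := by
    intro j
    rw [← hB j]
    exact B.constr_basis ℤ _ j
  refine ⟨ht, ?_⟩
  intro i
  obtain ⟨f, -, -, hf⟩ := b.exists_root_eq_sum_int i
  rw [RootPairing.Base.height_eq_sum hf]
  have h1 : P.rootSpanMem ℤ i = ∑ j ∈ b.support.attach, f j • P.rootSpanMem ℤ (j : idx) := by
    apply Subtype.ext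
    rw [Submodule.coe_sum]
    exact hf.trans (Finset.sum_attach b.support (fun j => f j • P.root j)).symm
  rw [h1, map_sum]
  simp only [map_smul, hht, smul_eq_mul, mul_one]
  exact Finset.sum_attach b.support (fun j => f j)

theorem closure_ht (ht : (P.rootSpan ℤ) →ₗ[ℤ] ℤ)
    (hht : ∀ i : idx, ht (P.rootSpanMem ℤ i) = b.height i)
    (m : M) (hm : m ∈ AddSubmonoid.closure (P.root '' (b.support : Set idx))) :
    ∃ hm' : m ∈ P.rootSpan ℤ, 0 ≤ ht ⟨m, hm'⟩ := by
  induction hm using AddSubmonoid.closure_induction with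
  | mem x hx =>
    obtain ⟨j, hj, rfl⟩ := hx
    refine ⟨Submodule.subset_span (Set.mem_range_self j), ?_⟩
    have h1 : ht (P.rootSpanMem ℤ j) = 1 := by
      rw [hht, RootPairing.Base.height_one_of_mem_support (Finset.mem_coe.mp hj)]
    show 0 ≤ ht (P.rootSpanMem ℤ j)
    rw [h1]
    norm_num
  | zero =>
    refine ⟨Submodule.zero_mem _, ?_⟩
    have h1 : (⟨0, Submodule.zero_mem _⟩ : P.rootSpan ℤ) = 0 := rfl
    rw [h1, map_zero]
  | add x y hx hy ihx ihy =>
    obtain ⟨hx', hx''⟩ := ihx
    obtain ⟨hy', hy''⟩ := ihy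
    refine ⟨Submodule.add_mem _ hx' hy', ?_⟩
    have h1 : (⟨x + y, Submodule.add_mem _ hx' hy'⟩ : P.rootSpan ℤ) = ⟨x, hx'⟩ + ⟨y, hy'⟩ := rfl
    rw [h1, map_add]
    exact add_nonneg hx'' hy''

theorem pos_height {a : idx} (ha : a ∈ RedSub.posRoots P b) : 0 < b.height a := by
  obtain ⟨ht, hht⟩ := exists_ht P b
  have ha' : P.root a ∈ AddSubmonoid.closure (P.root '' (b.support : Set idx)) := ha
  obtain ⟨hm', h0⟩ := closure_ht P b ht hht _ ha'
  have h1 : ht ⟨P.root a, hm'⟩ = b.height a := hht a
  rw [h1] at h0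
  exact lt_of_le_of_ne h0 (b.height_ne_zero a).symm

theorem neg_height {a : idx} (ha : a ∈ RedSub.negRoots P b) : b.height a < 0 := by
  obtain ⟨ht, hht⟩ := exists_ht P b
  have ha' : -P.root a ∈ AddSubmonoid.closure (P.root '' (b.support : Set idx)) := ha
  obtain ⟨hm', h0⟩ := closure_ht P b ht hht _ ha'
  have h1 : (⟨-P.root a, hm'⟩ : P.rootSpan ℤ) = - P.rootSpanMem ℤ a := rfl
  rw [h1, map_neg, hht] at h0
  have h2 := b.height_ne_zero a
  omega

theorem pos_iff {a : idx} : a ∈ RedSub.posRoots P b ↔ 0 < b.height a := by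
  constructor
  · exact pos_height P b
  · intro h
    rcases b.root_mem_or_neg_mem a with h1 | h1
    · exact h1
    · have h2 := neg_height P b (a := a) h1
      omega

theorem neg_iff {a : idx} : a ∈ RedSub.negRoots P b ↔ b.height a < 0 := by
  constructor
  · exact neg_height P b
  · intro h
    rcases b.root_mem_or_neg_mem a with h1 | h1
    · have h2 := pos_height P b (a := a) h1
      omega
    · exact h1

theorem word_linear (l : List idx) :
    ∃ W : M ≃ₗ[ℤ] M, ∀ a, P.root (RedSub.wordPerm P l a) = W (P.root a) := by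
  induction l with
  | nil => exact ⟨LinearEquiv.refl ℤ M, fun a => by simp [RedSub.wordPerm]⟩
  | cons i l ih =>
    obtain ⟨W, hW⟩ := ih
    refine ⟨W.trans (P.reflection i), fun a => ?_⟩
    have h1 : RedSub.wordPerm P (i :: l) a = P.reflectionPerm i (RedSub.wordPerm P l a) := by
      simp [RedSub.wordPerm]
    rw [h1, P.root_reflectionPerm, hW]
    rfl

theorem root_refl (c x : idx) :
    P.root (P.reflectionPerm c x) = P.root x + (-(P.pairing x c)) • P.root c := by
  rw [← P.reflectionPerm_root c x, neg_smul, sub_eq_add_neg]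
  rfl

theorem height_refl (c x : idx) :
    b.height (P.reflectionPerm c x) = b.height x - P.pairing x c * b.height c := by
  rw [b.height_add_zsmul (root_refl P c x), smul_eq_mul]
  ring

theorem height_tau (w : Equiv.Perm idx) (W : M ≃ₗ[ℤ] M)
    (hW : ∀ a, P.root (w a) = W (P.root a))
    (c δ : idx) (hδ : w δ = c) (a : idx) :
    b.height (w⁻¹ (P.reflectionPerm c (w a))) =
      b.height a - P.pairing (w a) c * b.height δ := by
  have h : P.root (w⁻¹ (P.reflectionPerm c (w a))) =
      P.root a + (-(P.pairing (w a) c)) • P.root δ := by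
    apply W.injective
    rw [← hW, map_add, map_smul, ← hW, ← hW, hδ]
    have h1 : w (w⁻¹ (P.reflectionPerm c (w a))) = P.reflectionPerm c (w a) := by simp
    rw [h1]
    exact root_refl P c (w a)
  rw [b.height_add_zsmul h, smul_eq_mul]
  ring

theorem key (w : Equiv.Perm idx) (W : M ≃ₗ[ℤ] M) (hW : ∀ a, P.root (w a) = W (P.root a))
    (c : idx) (hc : 0 < b.height c) (hδ : 0 < b.height (w⁻¹ c)) :
    Set.ncard {a : idx | 0 < b.height a ∧ b.height (w a) < 0} <
      Set.ncard {a : idx | 0 < b.height a ∧ b.height (P.reflectionPerm c (w a)) < 0} := by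
  classical
  obtain ⟨δ, hδdef⟩ : ∃ δ, δ = w⁻¹ c := ⟨_, rfl⟩
  rw [← hδdef] at hδ
  have hwδ : w δ = c := by rw [hδdef]; simp
  let τ : idx → idx := fun a => w⁻¹ (P.reflectionPerm c (w a))
  have hττ : ∀ a, τ (τ a) = a := by
    intro a
    simp [τ]
  have hwτ : ∀ a, w (τ a) = P.reflectionPerm c (w a) := by
    intro a
    simp [τ]
  have hτh : ∀ a, b.height (τ a) = b.height a - P.pairing (w a) c * b.height δ :=
    fun a => height_tau P b w W hW c δ hwδ a
  have hσh : ∀ x, b.height (P.reflectionPerm c x) = b.height x - P.pairing x c * b.height c :=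
    fun x => height_refl P b c x
  let φ : idx → idx := fun a => if 0 < b.height (τ a) then τ a else a
  have hne : ∀ x, b.height x ≠ 0 := b.height_ne_zero
  have hδN' : δ ∈ {a : idx | 0 < b.height a ∧ b.height (P.reflectionPerm c (w a)) < 0} := by
    refine ⟨hδ, ?_⟩
    rw [hwδ, hσh, P.pairing_same]
    linarith
  have hmaps : ∀ a ∈ {a : idx | 0 < b.height a ∧ b.height (w a) < 0},
      φ a ∈ {a : idx | 0 < b.height a ∧ b.height (P.reflectionPerm c (w a)) < 0} ∧ φ a ≠ δ := by
    rintro a ⟨ha1, ha2⟩
    by_cases hcase : 0 < b.height (τ a)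
    · have hφ : φ a = τ a := if_pos hcase
      rw [hφ]
      refine ⟨⟨hcase, ?_⟩, ?_⟩
      · rw [hwτ, P.reflectionPerm_self]
        exact ha2
      · intro hEq
        have h1 : τ δ = a := by rw [← hEq, hττ]
        have h2 := hτh δ
        rw [h1, hwδ, P.pairing_same] at h2
        linarith
    · have hφ : φ a = a := if_neg hcase
      rw [hφ]
      have hneg : b.height (τ a) < 0 := lt_of_le_of_ne (not_lt.mp hcase) (hne _)
      have hm : 0 < P.pairing (w a) c := by
        by_contra hm
        have hm' : P.pairing (w a) c ≤ 0 := not_lt.mp hm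
        have h3 : P.pairing (w a) c * b.height δ ≤ 0 :=
          mul_nonpos_of_nonpos_of_nonneg hm' hδ.le
        rw [hτh] at hneg
        linarith
      refine ⟨⟨ha1, ?_⟩, ?_⟩
      · rw [hσh]
        have h3 : 0 < P.pairing (w a) c * b.height c := mul_pos hm hc
        linarith
      · intro hEq
        rw [hEq, hwδ] at ha2
        linarith
  have hinj : Set.InjOn φ {a : idx | 0 < b.height a ∧ b.height (w a) < 0} := by
    rintro a₁ ⟨h11, h12⟩ a₂ ⟨h21, h22⟩ hEq
    by_cases hc1 : 0 < b.height (τ a₁) <;> by_cases hc2 : 0 < b.height (τ a₂)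
    · have e1 : φ a₁ = τ a₁ := if_pos hc1
      have e2 : φ a₂ = τ a₂ := if_pos hc2
      rw [e1, e2] at hEq
      have h3 := congrArg τ hEq
      rwa [hττ, hττ] at h3
    · have e1 : φ a₁ = τ a₁ := if_pos hc1
      have e2 : φ a₂ = a₂ := if_neg hc2
      rw [e1, e2] at hEq
      exfalso
      apply hc2
      rw [← hEq, hττ]
      exact h11
    · have e1 : φ a₁ = a₁ := if_neg hc1
      have e2 : φ a₂ = τ a₂ := if_pos hc2
      rw [e1, e2] at hEq
      exfalso
      apply hc1
      rw [hEq, hττ]
      exact h21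
    · have e1 : φ a₁ = a₁ := if_neg hc1
      have e2 : φ a₂ = a₂ := if_neg hc2
      rw [e1, e2] at hEq
      exact hEq
  rw [← Set.ncard_image_of_injOn hinj]
  refine Set.ncard_lt_ncard ⟨?_, ?_⟩ (Set.toFinite _)
  · rintro _ ⟨a, ha, rfl⟩
    exact (hmaps a ha).1
  · intro hsub
    obtain ⟨a, ha, hEq⟩ := hsub hδN'
    exact (hmaps a ha).2 hEq

end helpers

/-- Let Φ be a finite reduced root system (a reduced root pairing over ℤ on a finite index set) with a
base b, w an element of its Weyl group, given as the product of the reflections along a word l and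
acting on the roots, and γ a positive root. Writing ℓ(u) for the number of positive roots a with
u(a) negative, one has ℓ(w) < ℓ(σ_γ w) if and only if w⁻¹(γ) is positive. (Here the length is taken
as the number of inverted positive roots.) -/
theorem result {idx M N : Type}
    [AddCommGroup M] [AddCommGroup N] [Finite idx]
    (P : RootPairing idx ℤ M N) [P.IsReduced] (b : P.Base) (l : List idx) (c : idx)
    (hc : c ∈ RedSub.posRoots P b) :
    Set.ncard {a : idx | a ∈ RedSub.posRoots P b ∧ RedSub.wordPerm P l a ∈ RedSub.negRoots P b} <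
        Set.ncard {a : idx | a ∈ RedSub.posRoots P b ∧
          (P.reflectionPerm c * RedSub.wordPerm P l) a ∈ RedSub.negRoots P b} ↔
      (RedSub.wordPerm P l)⁻¹ c ∈ RedSub.posRoots P b := by
  have hposiff : ∀ a, a ∈ RedSub.posRoots P b ↔ 0 < b.height a := fun a => pos_iff P b
  have hnegiff : ∀ a, a ∈ RedSub.negRoots P b ↔ b.height a < 0 := fun a => neg_iff P b
  obtain ⟨W, hW⟩ := word_linear P l
  obtain ⟨w, hw⟩ : ∃ w, w = RedSub.wordPerm P l := ⟨_, rfl⟩
  rw [← hw] at hW ⊢
  have hset1 : {a : idx | a ∈ RedSub.posRoots P b ∧ w a ∈ RedSub.negRoots P b} =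
      {a : idx | 0 < b.height a ∧ b.height (w a) < 0} := by
    ext a
    simp only [Set.mem_setOf_eq, hposiff, hnegiff]
  have hset2 : {a : idx | a ∈ RedSub.posRoots P b ∧
      (P.reflectionPerm c * w) a ∈ RedSub.negRoots P b} =
      {a : idx | 0 < b.height a ∧ b.height (P.reflectionPerm c (w a)) < 0} := by
    ext a
    simp only [Set.mem_setOf_eq, hposiff, hnegiff, Equiv.Perm.mul_apply]
  rw [hset1, hset2, hposiff]
  have hc' : 0 < b.height c := (hposiff c).mp hc
  constructor
  · intro hlt
    by_contra hδ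
    have hδ' : b.height (w⁻¹ c) < 0 := lt_of_le_of_ne (not_lt.mp hδ) (b.height_ne_zero _)
    have hW' : ∀ a, P.root ((P.reflectionPerm c * w) a) =
        (W.trans (P.reflection c)) (P.root a) := by
      intro a
      show P.root (P.reflectionPerm c (w a)) = _
      rw [P.root_reflectionPerm, hW]
      rfl
    have hinv : (P.reflectionPerm c * w)⁻¹ c = w⁻¹ (P.reflectionPerm c c) := by
      rw [mul_inv_rev, P.reflectionPerm_inv]
      rfl
    have hh : b.height (w⁻¹ (P.reflectionPerm c c)) = - b.height (w⁻¹ c) := by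
      have h : P.root (w⁻¹ (P.reflectionPerm c c)) =
          P.root (w⁻¹ c) + (-2 : ℤ) • P.root (w⁻¹ c) := by
        apply W.injective
        rw [← hW, map_add, map_smul, ← hW]
        rw [show w (w⁻¹ (P.reflectionPerm c c)) = P.reflectionPerm c c by simp,
          show w (w⁻¹ c) = c by simp]
        rw [root_refl P c c, P.pairing_same]
      rw [b.height_add_zsmul h, smul_eq_mul]
      ring
    have hk := key P b (P.reflectionPerm c * w) (W.trans (P.reflection c)) hW' c hc'
      (by rw [hinv, hh]; linarith)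
    have hsimp : ∀ a, P.reflectionPerm c ((P.reflectionPerm c * w) a) = w a := by
      intro a
      simp
    simp only [hsimp] at hk
    simp only [Equiv.Perm.mul_apply] at hk
    exact lt_asymm hlt hk
  · intro hδ
    exact key P b w W hW c hc' hδ

end Groth.Agent.S15245
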