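import Groth.Statements.S15247
import Mathlib
-- import your own Groth.Agent.* helpers here

set_option autoImplicit false
open Fano

namespace Groth.Agent.S15247

open MvPolynomial Module Cardinal

theorem finrank_homog (k : Type*) [Field k] (r m : ℕ) :
    finrank k (homogeneousSubmodule (Fin r) k m) = (r + m - 1).choose m := by
  classical
  rw [homogeneousSubmodule_eq_finsupp_supported]
  rw [(AddMonoidAlgebra.supportedEquivFinsupp (R := k) (S := k)
    {d : Fin r →₀ ℕ | d.degree = m}).finrank_eq]
  have hcard : ∀ d : Fin r →₀ ℕ, Multiset.card (Finsupp.toMultiset d) = d.degree := by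
    intro d
    rw [Finsupp.card_toMultiset, Finsupp.degree_apply, Finsupp.sum]
    rfl
  let e : {d : Fin r →₀ ℕ | d.degree = m} ≃ Sym (Fin r) m :=
    { toFun := fun d => ⟨Finsupp.toMultiset d.1, (hcard d.1).trans d.2⟩
      invFun := fun s => ⟨Multiset.toFinsupp s.1, by
        show (Multiset.toFinsupp s.1).degree = m
        rw [← hcard, Multiset.toFinsupp_toMultiset]
        exact s.2⟩
      left_inv := fun d => by
        apply Subtype.ext
        simp
      right_inv := fun s => by
        apply Subtype.ext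
        simp }
  letI : Fintype {d : Fin r →₀ ℕ | d.degree = m} := Fintype.ofEquiv _ e.symm
  rw [Module.finrank_finsupp_self, Fintype.card_congr e, Sym.card_sym_eq_choose, Fintype.card_fin]

section IntegralDim

variable {R S : Type*} [CommRing R] [CommRing S] [Algebra R S]

lemma ringKrullDim_le_of_isIntegral [Algebra.IsIntegral R S] :
    ringKrullDim S ≤ ringKrullDim R := by
  refine Order.krullDim_le_of_strictMono (PrimeSpectrum.comap (algebraMap R S)) ?_
  intro q q' hlt
  have hle : q.asIdeal ≤ q'.asIdeal := hlt.le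
  have hne : q.asIdeal ≠ q'.asIdeal := fun h => hlt.ne (PrimeSpectrum.ext h)
  obtain ⟨x, hxq', hxq⟩ := SetLike.exists_of_lt (lt_of_le_of_ne hle hne)
  exact Ideal.comap_lt_comap_of_integral_mem_sdiff hle ⟨hxq', hxq⟩ (Algebra.IsIntegral.isIntegral x)

lemma ringKrullDim_ge_of_isIntegral_of_injective [Algebra.IsIntegral R S]
    (hinj : Function.Injective (algebraMap R S)) :
    ringKrullDim R ≤ ringKrullDim S := by
  unfold ringKrullDim Order.krullDim
  refine iSup_le fun l => ?_
  obtain ⟨P, -, hP, hPl⟩ := Ideal.exists_ideal_over_prime_of_isIntegral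
    (R := R) (S := S) l.head.asIdeal ⊥ (by
      rw [← RingHom.ker_eq_comap_bot, (RingHom.injective_iff_ker_eq_bot _).1 hinj]; exact bot_le)
  haveI := hP
  haveI : P.LiesOver l.head.asIdeal := ⟨hPl.symm⟩
  obtain ⟨L, hlen, -, -⟩ := Ideal.exists_ltSeries_of_hasGoingUp l P
  rw [← hlen]
  exact le_iSup (fun L : LTSeries (PrimeSpectrum S) => (L.length : WithBot ℕ∞)) L

lemma ringKrullDim_eq_of_isIntegral_of_injective [Algebra.IsIntegral R S]
    (hinj : Function.Injective (algebraMap R S)) :
    ringKrullDim S = ringKrullDim R :=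
  le_antisymm ringKrullDim_le_of_isIntegral (ringKrullDim_ge_of_isIntegral_of_injective hinj)

end IntegralDim

lemma dim_eq_of_ringHom {R S : Type*} [CommRing R] [CommRing S] (f : R →+* S) (hf : f.IsIntegral)
    (hinj : Function.Injective f) : ringKrullDim S = ringKrullDim R := by
  letI := f.toAlgebra
  haveI : Algebra.IsIntegral R S := ⟨hf⟩
  exact ringKrullDim_eq_of_isIntegral_of_injective hinj

lemma choose_ge : ∀ (N k : ℕ), 1 ≤ k → k + 1 ≤ N → N ≤ N.choose k := by
  intro N
  induction N with
  | zero => intro k _ h2; omega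
  | succ N ih =>
    intro k h1 h2
    obtain ⟨j, rfl⟩ : ∃ j, k = j + 1 := ⟨k - 1, by omega⟩
    rw [Nat.choose_succ_succ']
    rcases Nat.eq_zero_or_pos j with hj | hj
    · subst hj
      simp only [Nat.choose_zero_right, Nat.zero_add, Nat.choose_one_right]
      omega
    · by_cases hjN : j + 1 = N
      · subst hjN
        rw [Nat.choose_succ_self_right, Nat.choose_self]
      · have a1 := ih j hj (by omega)
        have a2 := ih (j + 1) (by omega) (by omega)
        omega

/-- Over ℂ, let Y be an irreducible closed subscheme of projective m-space of dimension m − d, where 1 ≤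
d and d + 1 ≤ m. Then the hypersurfaces of degree d + 1 containing Y form a linear family of
codimension at least m + 1 (that is, greater than m) in the projective space of all hypersurfaces of
degree d + 1. Here Y is given by a homogeneous ideal I of ℂ[x_0, …, x_m] whose radical is prime and
with dim ℂ[x_0, …, x_m]/I = m + 1 − d, a hypersurface contains Y when its form lies in I, and the
conclusion reads: the forms of degree d + 1 in I span a subspace of codimension at least m + 1 in
the space of all forms of degree d + 1. -/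
theorem result (m d : ℕ) (hd : 1 ≤ d) (hdm : d + 1 ≤ m)
    (I : Ideal (MvPolynomial (Fin (m + 1)) ℂ))
    (hI : I.IsHomogeneous (CohB1.polyGrading m ℂ))
    (hirr : I.radical.IsPrime)
    (hdim : ringKrullDim (MvPolynomial (Fin (m + 1)) ℂ ⧸ I) = ((m + 1 - d : ℕ) : WithBot ℕ∞)) :
    m + 1 + Module.finrank ℂ ↥(CohB1.polyGrading m ℂ (d + 1) ⊓ Submodule.restrictScalars ℂ I)
      ≤ Module.finrank ℂ (LefPen.Form m ℂ (d + 1)) := by
  classical
  haveI hPprime : I.radical.IsPrime := hirr
  have hdimP : ringKrullDim (MvPolynomial (Fin (m + 1)) ℂ ⧸ I.radical) =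
      ((m + 1 - d : ℕ) : WithBot ℕ∞) := by
    rw [← hdim, ringKrullDim_quotient, ringKrullDim_quotient, PrimeSpectrum.zeroLocus_radical]
  haveI : Algebra.FiniteType ℂ (MvPolynomial (Fin (m + 1)) ℂ ⧸ I.radical) :=
    Algebra.FiniteType.of_surjective (Ideal.Quotient.mkₐ ℂ I.radical)
      (Ideal.Quotient.mkₐ_surjective ℂ I.radical)
  obtain ⟨s, g, hginj, hgint⟩ :=
    exists_integral_inj_algHom_of_fg ℂ (MvPolynomial (Fin (m + 1)) ℂ ⧸ I.radical)
  have hs : s = m + 1 - d := by
    have h1 := dim_eq_of_ringHom g.toRingHom hgint hginj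
    rw [hdimP, MvPolynomial.ringKrullDim_of_isNoetherianRing, ringKrullDim_eq_zero_of_field ℂ,
      zero_add, Nat.card_eq_fintype_card, Fintype.card_fin] at h1
    exact_mod_cast h1.symm
  have hindep : AlgebraicIndependent ℂ (fun j : Fin s => g (X j)) := by
    rw [algebraicIndependent_iff_injective_aeval]
    have h1 : (aeval (fun j : Fin s => g (X j)) : MvPolynomial (Fin s) ℂ →ₐ[ℂ] _) = g := by
      apply MvPolynomial.algHom_ext
      intro j
      simp
    rw [h1]
    exact hginj
  have hle := hindep.cardinalMk_le_trdeg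
  let xb : Fin (m + 1) → (MvPolynomial (Fin (m + 1)) ℂ ⧸ I.radical) :=
    fun i => Ideal.Quotient.mkₐ ℂ I.radical (X i)
  have htop : Algebra.adjoin ℂ (Set.range xb) = ⊤ := by
    have h1 : Set.range xb = (Ideal.Quotient.mkₐ ℂ I.radical) ''
        (Set.range (X : Fin (m + 1) → MvPolynomial (Fin (m + 1)) ℂ)) := by
      rw [← Set.range_comp]; rfl
    rw [h1, ← AlgHom.map_adjoin, MvPolynomial.adjoin_range_X, Algebra.map_top,
      AlgHom.range_eq_top]
    exact Ideal.Quotient.mkₐ_surjective ℂ I.radical
  haveI : Algebra.IsAlgebraic (Algebra.adjoin ℂ (Set.range xb))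
      (MvPolynomial (Fin (m + 1)) ℂ ⧸ I.radical) := by
    constructor
    intro a
    have ha : a ∈ Algebra.adjoin ℂ (Set.range xb) := by rw [htop]; trivial
    exact isAlgebraic_algebraMap (⟨a, ha⟩ : Algebra.adjoin ℂ (Set.range xb))
  obtain ⟨u, hu_sub, hu⟩ := exists_isTranscendenceBasis_subset (R := ℂ) (Set.range xb)
  have hcard := hu.cardinalMk_eq_trdeg
  rw [← hcard] at hle
  obtain ⟨e⟩ := (Cardinal.le_def _ _).mp hle
  have hex : ∀ j : Fin s, ∃ i : Fin (m + 1), xb i = ((e j : u) : _) := fun j => hu_sub (e j).2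
  choose ι hι using hex
  have hz : AlgebraicIndependent ℂ (fun j : Fin s => xb (ι j)) := by
    have h1 := hu.1.comp e e.injective
    have h2 : (fun j : Fin s => xb (ι j)) = ((↑) : u → _) ∘ e := by
      funext j; exact hι j
    rw [h2]; exact h1
  have hψ : ∀ p : MvPolynomial (Fin s) ℂ, rename ι p ∈ I.radical → p = 0 := by
    intro p hp
    have h2 : (aeval (fun j : Fin s => xb (ι j)) : MvPolynomial (Fin s) ℂ →ₐ[ℂ] _) =
        (Ideal.Quotient.mkₐ ℂ I.radical).comp (rename ι) := by
      apply MvPolynomial.algHom_ext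
      intro j
      simp [xb]
    have h1 : aeval (fun j : Fin s => xb (ι j)) p = 0 := by
      rw [h2]
      exact Ideal.Quotient.eq_zero_iff_mem.mpr hp
    have hinj := algebraicIndependent_iff_injective_aeval.mp hz
    exact hinj (by rw [h1, map_zero])
  let ρ : homogeneousSubmodule (Fin s) ℂ (d + 1) →ₗ[ℂ]
      homogeneousSubmodule (Fin (m + 1)) ℂ (d + 1) :=
    { toFun := fun p => ⟨rename ι p.1, (mem_homogeneousSubmodule _ _).mpr
        (((mem_homogeneousSubmodule _ _).mp p.2).rename_isHomogeneous)⟩
      map_add' := fun a b => Subtype.ext (by simp)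
      map_smul' := fun c a => Subtype.ext (by simp) }
  let J : Submodule ℂ (MvPolynomial (Fin (m + 1)) ℂ) :=
    CohB1.polyGrading m ℂ (d + 1) ⊓ Submodule.restrictScalars ℂ I
  let Φ : (↥J × ↥(homogeneousSubmodule (Fin s) ℂ (d + 1))) →ₗ[ℂ]
      ↥(homogeneousSubmodule (Fin (m + 1)) ℂ (d + 1)) :=
    (Submodule.inclusion (inf_le_left : J ≤ homogeneousSubmodule (Fin (m + 1)) ℂ (d + 1))).coprod ρ
  have hΦ : Function.Injective Φ := by
    rw [← LinearMap.ker_eq_bot, LinearMap.ker_eq_bot']
    rintro ⟨a, p⟩ h0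
    have h1 : (a : MvPolynomial (Fin (m + 1)) ℂ) + rename ι p.1 = 0 := by
      have h3 := congrArg Subtype.val h0
      simpa [Φ, ρ] using h3
    have h2 : rename ι p.1 ∈ I.radical := by
      have h3 : rename ι p.1 = -(a : MvPolynomial (Fin (m + 1)) ℂ) := by
        linear_combination h1
      rw [h3]
      exact Ideal.le_radical (I.neg_mem (a.2.2))
    have hp0 : p.1 = 0 := hψ p.1 h2
    have ha0 : (a : MvPolynomial (Fin (m + 1)) ℂ) = 0 := by
      rw [hp0, map_zero, add_zero] at h1; exact h1
    exact Prod.ext (Subtype.ext ha0) (Subtype.ext hp0)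
  haveI : Module.Finite ℂ (homogeneousSubmodule (Fin (m + 1)) ℂ (d + 1)) :=
    Module.finite_of_finrank_pos (by rw [finrank_homog]; exact Nat.choose_pos (by omega))
  haveI : Module.Finite ℂ (homogeneousSubmodule (Fin s) ℂ (d + 1)) :=
    Module.finite_of_finrank_pos (by rw [finrank_homog]; exact Nat.choose_pos (by omega))
  haveI : Module.Finite ℂ ↥J := Submodule.finiteDimensional_inf_left _ _
  have hfin := LinearMap.finrank_le_finrank_of_injective hΦ
  rw [Module.finrank_prod, finrank_homog, finrank_homog] at hfin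
  show m + 1 + finrank ℂ ↥J ≤ finrank ℂ ↥(homogeneousSubmodule (Fin (m + 1)) ℂ (d + 1))
  rw [finrank_homog]
  have h5 : s + (d + 1) - 1 = m + 1 := by omega
  have h6 := choose_ge (m + 1) (d + 1) (by omega) (by omega)
  rw [h5] at hfin
  omega

end Groth.Agent.S15247
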