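import Groth.Statements.S15252
-- import your own Groth.Agent.* helpers here
import Mathlib
import Groth.Agent.S14372
import Groth.Agent.Lib.Helper72.CubicFormD

set_option autoImplicit false
open Fano

namespace Groth.Agent.S15252

/-- Let X be a smooth cubic hypersurface in projective 4-space over ℂ and let L₁, L₂ be two distinct
lines on X which meet. Then there is a finite set G of points of L₁ such that every line on X
meeting both L₁ and L₂ passes through a point of G. Here X is given by a cubic form f in five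
variables satisfying the Jacobian smoothness condition at every nonzero zero, a line on X is a
2-dimensional subspace of ℂ^5 on which f vanishes, two lines meet when the subspaces intersect
non-trivially, and a point of L₁ is a 1-dimensional subspace of it. (The published statement also
covers two disjoint lines; this row assumes that L₁ and L₂ meet.) -/
theorem result
    (f : MvPolynomial (Fin 5) ℂ) (hf : f.IsHomogeneous 3)
    (hsm : ∀ u : Fin 5 → ℂ, u ≠ 0 → MvPolynomial.eval u f = 0 →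
      ∃ i : Fin 5, MvPolynomial.eval u (MvPolynomial.pderiv i f) ≠ 0)
    (L₁ L₂ : Submodule ℂ (Fin 5 → ℂ)) (h₁ : Module.finrank ℂ ↥L₁ = 2) (h₂ : Module.finrank ℂ ↥L₂ = 2)
    (hf₁ : ∀ u ∈ L₁, MvPolynomial.eval u f = 0) (hf₂ : ∀ u ∈ L₂, MvPolynomial.eval u f = 0)
    (hne : L₁ ≠ L₂) (hmeet : L₁ ⊓ L₂ ≠ ⊥) :
    ∃ G : Set (Submodule ℂ (Fin 5 → ℂ)), G.Finite ∧ (∀ g ∈ G, Module.finrank ℂ ↥g = 1 ∧ g ≤ L₁) ∧
      ∀ L : Submodule ℂ (Fin 5 → ℂ), Module.finrank ℂ ↥L = 2 → (∀ u ∈ L, MvPolynomial.eval u f = 0) →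
        L ⊓ L₁ ≠ ⊥ → L ⊓ L₂ ≠ ⊥ → ∃ g ∈ G, g ≤ L := by
  classical
  obtain ⟨p, hpmem, hp0⟩ := Submodule.exists_mem_ne_zero_of_ne_bot hmeet
  obtain ⟨hp1, hp2⟩ := Submodule.mem_inf.1 hpmem
  obtain ⟨u, hu, hL₁⟩ := Groth.Agent.Lib.Helper72.CubicForm.exists_dir L₁ h₁ hp0 hp1
  obtain ⟨v, hv, hL₂⟩ := Groth.Agent.Lib.Helper72.CubicForm.exists_dir L₂ h₂ hp0 hp2
  have hline₁ := Groth.Agent.Lib.Helper72.CubicForm.onLine_of_span (hL₁ ▸ hf₁)
  have hline₂ := Groth.Agent.Lib.Helper72.CubicForm.onLine_of_span (hL₂ ▸ hf₂)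
  obtain ⟨hfp, hDpu, hDup, hfu⟩ :=
    (Groth.Agent.Lib.Helper72.CubicForm.onLine_iff hf p u).1 hline₁
  obtain ⟨-, hDpv, hDvp, hfv⟩ :=
    (Groth.Agent.Lib.Helper72.CubicForm.onLine_iff hf p v).1 hline₂
  have huL₁ : u ∈ L₁ := by
    rw [hL₁, Groth.Agent.Lib.Helper72.CubicForm.mem_span_pair_range]
    exact ⟨0, 1, by simp⟩
  have hvL₂ : v ∈ L₂ := by
    rw [hL₂, Groth.Agent.Lib.Helper72.CubicForm.mem_span_pair_range]
    exact ⟨0, 1, by simp⟩
  -- `v` is not in `L₁`
  have hvL₁ : v ∉ L₁ := by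
    intro hv1
    apply hne
    have hle : L₂ ≤ L₁ := by
      rw [hL₂, Submodule.span_le]
      rintro _ ⟨i, rfl⟩
      fin_cases i
      · exact hp1
      · exact hv1
    exact (Submodule.eq_of_le_of_finrank_eq hle (by rw [h₁, h₂])).symm
  obtain ⟨α, hα⟩ : ∃ α, α = Groth.Agent.Lib.Helper72.CubicForm.T f u v p := ⟨_, rfl⟩
  obtain ⟨β, hβ⟩ : ∃ β, β = Groth.Agent.Lib.Helper72.CubicForm.D f u v := ⟨_, rfl⟩
  obtain ⟨γ, hγ⟩ : ∃ γ, γ = Groth.Agent.Lib.Helper72.CubicForm.D f v u := ⟨_, rfl⟩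
  have hkey : ∀ x y z : ℂ, MvPolynomial.eval (x • p + (y • u + z • v)) f =
      y * z * (α * x + β * y + γ * z) := by
    intro x y z
    have h1 := Groth.Agent.Lib.Helper72.CubicForm.expand hf x 1 p (y • u + z • v)
    rw [one_smul] at h1
    rw [h1, Groth.Agent.Lib.Helper72.CubicForm.expand hf y z u v, hfp, hfu, hfv,
      Groth.Agent.Lib.Helper72.CubicForm.D_add_right,
      Groth.Agent.Lib.Helper72.CubicForm.D_smul_right,
      Groth.Agent.Lib.Helper72.CubicForm.D_smul_right, hDpu, hDpv,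
      Groth.Agent.Lib.Helper72.CubicForm.D_add_left hf,
      Groth.Agent.Lib.Helper72.CubicForm.D_smul_left hf,
      Groth.Agent.Lib.Helper72.CubicForm.D_smul_left hf, hDup, hDvp,
      Groth.Agent.Lib.Helper72.CubicForm.T_smul_left,
      Groth.Agent.Lib.Helper72.CubicForm.T_smul_mid, ← hα, ← hβ, ← hγ]
    ring
  -- linear independence of `p, u, v`
  have hli : LinearIndependent ℂ ![p, u, v] := by
    have hpu := Groth.Agent.Lib.Helper72.CubicForm.linearIndependent_pair_of_not_mem hp0 hu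
    rw [LinearIndependent.pair_iff] at hpu
    rw [Fintype.linearIndependent_iff]
    intro c hc
    rw [Fin.sum_univ_three] at hc
    simp only [Matrix.cons_val_zero, Matrix.cons_val_one, Matrix.cons_val_two, Matrix.head_cons,
      Matrix.tail_cons] at hc
    have hc2 : c 2 = 0 := by
      by_contra h2
      apply hvL₁
      have : v = (-(c 2)⁻¹ * c 0) • p + (-(c 2)⁻¹ * c 1) • u := by
        have h3 : c 2 • v = -(c 0 • p + c 1 • u) := by
          rw [eq_neg_iff_add_eq_zero, add_comm]; exact hc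
        calc v = (c 2)⁻¹ • (c 2 • v) := by rw [smul_smul, inv_mul_cancel₀ h2, one_smul]
          _ = _ := by
            rw [h3, smul_neg, smul_add, smul_smul, smul_smul, neg_add, ← neg_smul, ← neg_smul]
            congr 2 <;> ring
      rw [this]
      exact L₁.add_mem (L₁.smul_mem _ hp1) (L₁.smul_mem _ huL₁)
    rw [hc2, zero_smul, add_zero] at hc
    obtain ⟨h0, h1⟩ := hpu (c 0) (c 1) hc
    intro i
    fin_cases i
    · exact h0
    · exact h1
    · exact hc2
  obtain ⟨q, hq⟩ : ∃ q, q = β • p - α • u := ⟨_, rfl⟩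
  have hqL₁ : q ∈ L₁ := by
    rw [hq]
    exact L₁.sub_mem (L₁.smul_mem _ hp1) (L₁.smul_mem _ huL₁)
  refine ⟨{g | g = Submodule.span ℂ {p} ∨ (q ≠ 0 ∧ g = Submodule.span ℂ {q})}, ?_, ?_, ?_⟩
  · apply Set.Finite.subset (Set.toFinite {Submodule.span ℂ {p}, Submodule.span ℂ {q}})
    rintro g (rfl | ⟨-, rfl⟩)
    · exact Or.inl rfl
    · exact Or.inr rfl
  · rintro g (rfl | ⟨hq0, rfl⟩)
    · exact ⟨finrank_span_singleton hp0, (Submodule.span_singleton_le_iff_mem _ _).2 hp1⟩
    · exact ⟨finrank_span_singleton hq0, (Submodule.span_singleton_le_iff_mem _ _).2 hqL₁⟩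
  · intro L hL hfL hm₁ hm₂
    obtain ⟨a, hamem, ha0⟩ := Submodule.exists_mem_ne_zero_of_ne_bot hm₁
    obtain ⟨b, hbmem, hb0⟩ := Submodule.exists_mem_ne_zero_of_ne_bot hm₂
    obtain ⟨haL, haL₁⟩ := Submodule.mem_inf.1 hamem
    obtain ⟨hbL, hbL₂⟩ := Submodule.mem_inf.1 hbmem
    rw [hL₁, Groth.Agent.Lib.Helper72.CubicForm.mem_span_pair_range] at haL₁
    rw [hL₂, Groth.Agent.Lib.Helper72.CubicForm.mem_span_pair_range] at hbL₂
    obtain ⟨a₁, a₂, rfl⟩ := haL₁
    obtain ⟨b₁, b₃, rfl⟩ := hbL₂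
    have hpL : ∀ (c : ℂ) (w : Fin 5 → ℂ), c • p + (0 : ℂ) • w ∈ L → c • p + (0 : ℂ) • w ≠ 0 →
        p ∈ L := by
      intro c w hw hw0
      rw [zero_smul, add_zero] at hw hw0
      have hc : c ≠ 0 := by
        intro h
        apply hw0
        rw [h, zero_smul]
      have := L.smul_mem c⁻¹ hw
      rwa [smul_smul, inv_mul_cancel₀ hc, one_smul] at this
    by_cases ha₂ : a₂ = 0
    · subst ha₂
      exact ⟨_, Or.inl rfl, (Submodule.span_singleton_le_iff_mem _ _).2 (hpL a₁ u haL ha0)⟩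
    by_cases hb₃ : b₃ = 0
    · subst hb₃
      exact ⟨_, Or.inl rfl, (Submodule.span_singleton_le_iff_mem _ _).2 (hpL b₁ v hbL hb0)⟩
    -- the generic case
    have hst : ∀ s t : ℂ, (s * a₂) * (t * b₃) *
        (α * (s * a₁ + t * b₁) + β * (s * a₂) + γ * (t * b₃)) = 0 := by
      intro s t
      rw [← hkey]
      have h1 : (s * a₁ + t * b₁) • p + ((s * a₂) • u + (t * b₃) • v) =
          s • (a₁ • p + a₂ • u) + t • (b₁ • p + b₃ • v) := by
        simp only [smul_add, smul_smul, add_smul]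
        abel
      rw [h1]
      exact hfL _ (L.add_mem (L.smul_mem s haL) (L.smul_mem t hbL))
    have e1 := hst 1 1
    have e2 := hst 1 (-1)
    have e1' : α * (a₁ + b₁) + β * a₂ + γ * b₃ = 0 := by
      have h : a₂ * b₃ ≠ 0 := mul_ne_zero ha₂ hb₃
      have : a₂ * b₃ * (α * (a₁ + b₁) + β * a₂ + γ * b₃) = 0 := by linear_combination e1
      exact (mul_eq_zero.1 this).resolve_left h
    have e2' : α * (a₁ - b₁) + β * a₂ - γ * b₃ = 0 := by
      have h : a₂ * b₃ ≠ 0 := mul_ne_zero ha₂ hb₃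
      have : a₂ * b₃ * (α * (a₁ - b₁) + β * a₂ - γ * b₃) = 0 := by linear_combination -e2
      exact (mul_eq_zero.1 this).resolve_left h
    have e3 : α * a₁ + β * a₂ = 0 := by linear_combination (1 / 2 : ℂ) * e1' + (1 / 2 : ℂ) * e2'
    have e4 : α * b₁ + γ * b₃ = 0 := by linear_combination (1 / 2 : ℂ) * e1' - (1 / 2 : ℂ) * e2'
    have hα0 : α ≠ 0 := by
      intro hα0
      rw [hα0, zero_mul, zero_add] at e3 e4
      have hβ0 : β = 0 := (mul_eq_zero.1 e3).resolve_right ha₂
      have hγ0 : γ = 0 := (mul_eq_zero.1 e4).resolve_right hb₃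
      -- the plane lies on the hypersurface
      have hplane : ∀ w ∈ Submodule.span ℂ (Set.range ![p, u, v]), MvPolynomial.eval w f = 0 := by
        intro w hw
        rw [Submodule.mem_span_range_iff_exists_fun] at hw
        obtain ⟨c, rfl⟩ := hw
        rw [Fin.sum_univ_three]
        simp only [Matrix.cons_val_zero, Matrix.cons_val_one, Matrix.cons_val_two,
          Matrix.head_cons, Matrix.tail_cons]
        rw [add_assoc, hkey, hα0, hβ0, hγ0]
        ring
      have hfr : Module.finrank ℂ (Submodule.span ℂ (Set.range ![p, u, v])) = 3 := by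
        rw [finrank_span_eq_card hli]
        simp
      have := Groth.Agent.S14372.result ℂ 4 3 (by norm_num) f hf _ hplane
        (fun w hw hw0 => hsm w hw0 (hplane w hw))
      rw [hfr] at this
      omega
    have hq0 : q ≠ 0 := by
      intro h0
      rw [hq] at h0
      have hpu := Groth.Agent.Lib.Helper72.CubicForm.linearIndependent_pair_of_not_mem hp0 hu
      rw [LinearIndependent.pair_iff] at hpu
      have := hpu β (-α) (by rw [neg_smul, ← sub_eq_add_neg]; exact h0)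
      exact hα0 (neg_eq_zero.1 this.2)
    refine ⟨_, Or.inr ⟨hq0, rfl⟩, (Submodule.span_singleton_le_iff_mem _ _).2 ?_⟩
    have hqa : q = (-(α / a₂)) • (a₁ • p + a₂ • u) := by
      rw [hq, smul_add, smul_smul, smul_smul]
      have h1 : -(α / a₂) * a₁ = β := by
        field_simp
        linear_combination -e3
      have h2 : -(α / a₂) * a₂ = -α := by
        field_simp
      rw [h1, h2, neg_smul, sub_eq_add_neg]
    rw [hqa]
    exact L.smul_mem _ haL

end Groth.Agent.S15252
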