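import Groth.Statements.S15259
import Mathlib
import Groth.Agent.Lib.Helper81.EssFT
-- import your own Groth.Agent.* helpers here

set_option autoImplicit false
universe u
open CategoryTheory CategoryTheory.Limits AlgebraicGeometry TopologicalSpace
open W4c2seshadripos

namespace Groth.Agent.S15259
open AlgebraicGeometry CategoryTheory Limits TopologicalSpace


open Groth.Agent.Lib.Helper81.EssFT


/-- Call f : X → Y locally essentially of finite type when Y has a cover by affine opens U = Spec A such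
that each f⁻¹(U) has a cover by affine opens Spec B with A → B essentially of finite type (a
localization of a finite-type A-algebra; Mathlib's RingHom.EssFiniteType), and essentially of finite
type when moreover f is quasi-compact. Then f is essentially of finite type exactly when every
affine open U = Spec A of Y has f⁻¹(U) covered by finitely many affine opens V = Spec B of X with A
→ B essentially of finite type. -/
theorem result {X Y : Scheme.{u}} (f : X ⟶ Y) :
    ((∃ S : Set Y.affineOpens, (⋃ U ∈ S, ((U : Y.Opens) : Set ↥Y)) = Set.univ ∧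
      ∀ U ∈ S, ∃ T : Set X.affineOpens, (⋃ V ∈ T, ((V : X.Opens) : Set ↥X)) = ((f ⁻¹ᵁ (U : Y.Opens)) : Set ↥X) ∧
        ∀ V ∈ T, ∃ e : (V : X.Opens) ≤ f ⁻¹ᵁ (U : Y.Opens), (f.appLE (U : Y.Opens) (V : X.Opens) e).hom.EssFiniteType) ∧ QuasiCompact f) ↔
    ∀ U : Y.affineOpens, ∃ T : Set X.affineOpens, T.Finite ∧ (⋃ V ∈ T, ((V : X.Opens) : Set ↥X)) = ((f ⁻¹ᵁ (U : Y.Opens)) : Set ↥X) ∧
        ∀ V ∈ T, ∃ e : (V : X.Opens) ≤ f ⁻¹ᵁ (U : Y.Opens), (f.appLE (U : Y.Opens) (V : X.Opens) e).hom.EssFiniteType := by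
  constructor
  · rintro ⟨h, hqc⟩ U
    have hcomp : IsCompact ((f ⁻¹ᵁ U.1 : X.Opens) : Set X) :=
      quasiCompact_iff_forall_isAffineOpen.mp hqc U.1 U.2
    -- family indexed by points
    have hpt := fun x (hx : f x ∈ U.1) => pointwise_of_cover f h U x hx
    let ι := {W : X.affineOpens // ∃ e : W.1 ≤ f ⁻¹ᵁ U.1, (f.appLE U.1 W.1 e).hom.EssFiniteType}
    obtain ⟨t, ht⟩ := hcomp.elim_finite_subcover (fun W : ι => ((W.1.1 : X.Opens) : Set X))
      (fun W => W.1.1.2) (by
        intro x hx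
        obtain ⟨V, hV, e, hxV, hft⟩ := hpt x hx
        simp only [Set.mem_iUnion]
        exact ⟨⟨⟨V, hV⟩, e, hft⟩, hxV⟩)
    refine ⟨(fun W : ι => W.1) '' (t : Set ι), (t.finite_toSet).image _, ?_, ?_⟩
    · apply Set.Subset.antisymm
      · intro x hx
        simp only [Set.mem_iUnion] at hx
        obtain ⟨W, ⟨W', -, rfl⟩, hxW⟩ := hx
        exact W'.2.choose hxW
      · intro x hx
        have := ht hx
        simp only [Set.mem_iUnion] at this ⊢
        obtain ⟨W, hWt, hxW⟩ := this
        exact ⟨W.1, ⟨W, hWt, rfl⟩, hxW⟩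
    · rintro W ⟨W', -, rfl⟩
      exact W'.2
  · intro h
    refine ⟨⟨Set.univ, ?_, fun U _ => ?_⟩, ?_⟩
    · apply Set.eq_univ_of_forall
      intro y
      obtain ⟨U, hU, hy, -⟩ := Opens.isBasis_iff_nbhd.mp Y.isBasis_affineOpens (Opens.mem_top y)
      simp only [Set.mem_iUnion]
      exact ⟨⟨U, hU⟩, Set.mem_univ _, hy⟩
    · obtain ⟨T, -, hT, hT'⟩ := h U
      exact ⟨T, hT, hT'⟩
    · rw [quasiCompact_iff_forall_isAffineOpen]
      intro U hU
      obtain ⟨T, hfin, hT, -⟩ := h ⟨U, hU⟩
      rw [← hT]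
      exact hfin.isCompact_biUnion (fun W _ => W.2.isCompact)

end Groth.Agent.S15259
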