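import Groth.Statements.S15260
import Mathlib
-- import your own Groth.Agent.* helpers here

set_option autoImplicit false
universe u
open CategoryTheory CategoryTheory.Limits AlgebraicGeometry TopologicalSpace
open W4c2seshadripos

namespace Groth.Agent.S15260
open AlgebraicGeometry CategoryTheory Limits TopologicalSpace



/-- Say a morphism of schemes h : S → T is locally essentially of finite type when for every affine open
U = Spec A of T the preimage h⁻¹(U) is covered by affine opens V = Spec B of S with A → B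
essentially of finite type (a localization of a finite-type A-algebra; this is the every-affine-open
form of the notion). If f : X → Y and g : Y → Z are locally essentially of finite type then so is f
≫ g. (The published statement also covers the quasi-compact variant, essentially of finite type;
that case follows since quasi-compact morphisms are stable under composition.) -/
theorem result {X Y Z : Scheme.{u}} (f : X ⟶ Y) (g : Y ⟶ Z)
    (hf : ∀ U : Y.affineOpens, ∃ T : Set X.affineOpens, (⋃ V ∈ T, ((V : X.Opens) : Set ↥X)) = ((f ⁻¹ᵁ (U : Y.Opens)) : Set ↥X) ∧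
        ∀ V ∈ T, ∃ e : (V : X.Opens) ≤ f ⁻¹ᵁ (U : Y.Opens), (f.appLE (U : Y.Opens) (V : X.Opens) e).hom.EssFiniteType)
    (hg : ∀ U : Z.affineOpens, ∃ T : Set Y.affineOpens, (⋃ V ∈ T, ((V : Y.Opens) : Set ↥Y)) = ((g ⁻¹ᵁ (U : Z.Opens)) : Set ↥Y) ∧
        ∀ V ∈ T, ∃ e : (V : Y.Opens) ≤ g ⁻¹ᵁ (U : Z.Opens), (g.appLE (U : Z.Opens) (V : Y.Opens) e).hom.EssFiniteType)
    (U : Z.affineOpens) :
    ∃ T : Set X.affineOpens, (⋃ V ∈ T, ((V : X.Opens) : Set ↥X)) = (((f ≫ g) ⁻¹ᵁ (U : Z.Opens)) : Set ↥X) ∧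
        ∀ V ∈ T, ∃ e : (V : X.Opens) ≤ (f ≫ g) ⁻¹ᵁ (U : Z.Opens), ((f ≫ g).appLE (U : Z.Opens) (V : X.Opens) e).hom.EssFiniteType := by
  refine ⟨{W | ∃ e : W.1 ≤ (f ≫ g) ⁻¹ᵁ U.1, ((f ≫ g).appLE U.1 W.1 e).hom.EssFiniteType}, ?_,
    fun W hW => hW⟩
  apply Set.Subset.antisymm
  · intro x hx
    simp only [Set.mem_iUnion] at hx
    obtain ⟨W, ⟨e, -⟩, hxW⟩ := hx
    exact e hxW
  · intro x hx
    obtain ⟨Tg, hTg, hTg'⟩ := hg U
    have hfx : f x ∈ ((g ⁻¹ᵁ U.1 : Y.Opens) : Set Y) := hx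
    rw [← hTg] at hfx
    simp only [Set.mem_iUnion] at hfx
    obtain ⟨V, hV, hfxV⟩ := hfx
    obtain ⟨eV, hVft⟩ := hTg' V hV
    obtain ⟨Tf, hTf, hTf'⟩ := hf V
    have hxV : x ∈ ((f ⁻¹ᵁ V.1 : X.Opens) : Set X) := hfxV
    rw [← hTf] at hxV
    simp only [Set.mem_iUnion] at hxV
    obtain ⟨W, hW, hxW⟩ := hxV
    obtain ⟨eW, hWft⟩ := hTf' W hW
    simp only [Set.mem_iUnion]
    have e : W.1 ≤ (f ≫ g) ⁻¹ᵁ U.1 := fun y hy => eV (eW hy)
    refine ⟨W, ⟨e, ?_⟩, hxW⟩
    rw [← Scheme.Hom.appLE_comp_appLE f g U.1 V.1 W.1 eV eW]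
    exact hVft.comp hWft

end Groth.Agent.S15260
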