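import Groth.Statements.S15261
import Mathlib
import Groth.Agent.Lib.Helper81.EssFT
-- import your own Groth.Agent.* helpers here

set_option autoImplicit false
universe u
open CategoryTheory CategoryTheory.Limits AlgebraicGeometry TopologicalSpace
open W4c2seshadripos

namespace Groth.Agent.S15261
open AlgebraicGeometry CategoryTheory Limits TopologicalSpace


open Groth.Agent.Lib.Helper81.EssFT

lemma pullback_snd_appTop {X Y S : Scheme.{u}} [IsAffine X] [IsAffine Y] [IsAffine S]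
    (f : X ⟶ S) (g : Y ⟶ S) (H : f.appTop.hom.EssFiniteType) :
    (pullback.snd f g).appTop.hom.EssFiniteType := by
  have h1 := RingHom.EssFiniteType.isStableUnderBaseChange.pullback_fst_appTop _
    RingHom.EssFiniteType.respectsIso g f H
  rw [← pullbackSymmetry_hom_comp_fst f g, Scheme.Hom.comp_appTop, CommRingCat.hom_comp]
  haveI : IsIso (Scheme.Hom.appTop (pullbackSymmetry f g).hom) :=
    inferInstanceAs (IsIso (Scheme.Γ.map (pullbackSymmetry f g).hom.op))
  exact (RingHom.EssFiniteType.respectsIso.cancel_right_isIso _ _).mpr h1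

lemma appLE_congr' {X Y : Scheme.{u}} {φ ψ : X ⟶ Y} (h : φ = ψ) (U : Y.Opens) (V : X.Opens)
    (e₁ : V ≤ φ ⁻¹ᵁ U) (e₂ : V ≤ ψ ⁻¹ᵁ U) : φ.appLE U V e₁ = ψ.appLE U V e₂ := by
  subst h; rfl

lemma isIso_map_of_eq {X : Scheme.{u}} {U V : X.Opens} (h : U = V) (i : U ⟶ V) :
    Function.Bijective (X.presheaf.map i.op).hom := by
  subst h
  have : i = 𝟙 _ := Subsingleton.elim _ _
  rw [this]
  simp only [op_id, CategoryTheory.Functor.map_id]
  exact Function.bijective_id


/-- Say a morphism of schemes h : S → T is locally essentially of finite type when for every affine open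
U = Spec A of T the preimage h⁻¹(U) is covered by affine opens V = Spec B of S with A → B
essentially of finite type (the every-affine-open form of the notion). If f : X → Y is locally
essentially of finite type and g : Y' → Y is any morphism of schemes, then the base change X ×_Y Y'
→ Y' is locally essentially of finite type. (The quasi-compact variant, essentially of finite type,
follows since quasi-compactness is stable under base change.) -/
theorem result {X Y Y' : Scheme.{u}} (f : X ⟶ Y) (g : Y' ⟶ Y)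
    (hf : ∀ U : Y.affineOpens, ∃ T : Set X.affineOpens, (⋃ V ∈ T, ((V : X.Opens) : Set ↥X)) = ((f ⁻¹ᵁ (U : Y.Opens)) : Set ↥X) ∧
        ∀ V ∈ T, ∃ e : (V : X.Opens) ≤ f ⁻¹ᵁ (U : Y.Opens), (f.appLE (U : Y.Opens) (V : X.Opens) e).hom.EssFiniteType)
    (U : Y'.affineOpens) :
    ∃ T : Set (pullback f g).affineOpens, (⋃ V ∈ T, ((V : (pullback f g).Opens) : Set ↥(pullback f g))) = (((pullback.snd f g) ⁻¹ᵁ (U : Y'.Opens)) : Set ↥(pullback f g)) ∧
        ∀ V ∈ T, ∃ e : (V : (pullback f g).Opens) ≤ (pullback.snd f g) ⁻¹ᵁ (U : Y'.Opens), ((pullback.snd f g).appLE (U : Y'.Opens) (V : (pullback f g).Opens) e).hom.EssFiniteType := by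
  apply cover_of_pointwise (pullback.snd f g) U
  intro z hz
  obtain ⟨(U₀ : Y.Opens), hU₀, hzU₀, -⟩ := Opens.isBasis_iff_nbhd.mp Y.isBasis_affineOpens
    (Opens.mem_top (g (pullback.snd f g z)))
  have hx : f (pullback.fst f g z) ∈ U₀ := by
    rw [← Scheme.Hom.comp_apply, pullback.condition]; exact hzU₀
  obtain ⟨T, hT, hT'⟩ := hf ⟨U₀, hU₀⟩
  have hx' : pullback.fst f g z ∈ ((f ⁻¹ᵁ U₀ : X.Opens) : Set X) := hx
  rw [← hT] at hx'
  simp only [Set.mem_iUnion] at hx'
  obtain ⟨V, hV, hxV⟩ := hx'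
  obtain ⟨eV, hVft⟩ := hT' V hV
  obtain ⟨a, haU', hza⟩ := U.2.exists_basicOpen_le (V := U.1 ⊓ g ⁻¹ᵁ U₀)
    ⟨pullback.snd f g z, ⟨hz, hzU₀⟩⟩ hz
  set U' := Y'.basicOpen a with hU'def
  have hU' : IsAffineOpen U' := U.2.basicOpen a
  have eU' : U' ≤ g ⁻¹ᵁ U₀ := haU'.trans inf_le_right
  haveI : IsAffine V.1.toScheme := V.2
  haveI : IsAffine U'.toScheme := hU'
  haveI : IsAffine U₀.toScheme := hU₀
  let f' := f.resLE U₀ V.1 eV
  let g' := g.resLE U₀ U' eU'
  let j := pullback.map f' g' f g V.1.ι U'.ι U₀.ι (Scheme.Hom.resLE_comp_ι _ _)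
    (Scheme.Hom.resLE_comp_ι _ _)
  have hj : j ≫ pullback.snd f g = pullback.snd f' g' ≫ U'.ι := pullback.lift_snd _ _ _
  have hW : IsAffineOpen (j ''ᵁ ⊤) := (isAffineOpen_top _).image_of_isOpenImmersion j
  have hWU' : j ''ᵁ ⊤ ≤ pullback.snd f g ⁻¹ᵁ U' := by
    rintro _ ⟨q, -, rfl⟩
    show (pullback.snd f g) (j q) ∈ U'
    rw [← Scheme.Hom.comp_apply, hj]
    exact (pullback.snd f' g' q).2
  have hzW : z ∈ j ''ᵁ ⊤ := by
    have : z ∈ Set.range j := by
      rw [Scheme.Pullback.range_map]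
      exact ⟨⟨⟨pullback.fst f g z, hxV⟩, rfl⟩, ⟨⟨pullback.snd f g z, hza⟩, rfl⟩⟩
    obtain ⟨q, rfl⟩ := this
    exact ⟨q, trivial, rfl⟩
  refine ⟨j ''ᵁ ⊤, hW, hWU'.trans ((pullback.snd f g).preimage_mono (Y'.basicOpen_le a)), hzW, ?_⟩
  rw [← Scheme.Hom.map_appLE (pullback.snd f g) hWU' (homOfLE (Y'.basicOpen_le a)).op]
  refine (essFiniteType_res U.2 a rfl _).comp ?_
  -- base change
  have hf' : f'.appTop.hom.EssFiniteType := by
    have := (RingHom.EssFiniteType.respectsIso.arrow_mk_iso_iff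
      (arrowResLEAppIso f U₀ V.1 eV)).mpr hVft
    exact this
  have h1 := pullback_snd_appTop f' g' hf'
  have eι : (⊤ : U'.toScheme.Opens) ≤ U'.ι ⁻¹ᵁ U' := fun p _ => p.2
  have key : (pullback.snd f g).appLE U' (j ''ᵁ ⊤) hWU' ≫ (j.appIso ⊤).hom =
      U'.ι.appLE U' ⊤ eι ≫ (pullback.snd f' g').appTop := by
    rw [Scheme.Hom.appIso_hom', Scheme.Hom.appLE_comp_appLE]
    have h2 : (pullback.snd f' g').appTop = (pullback.snd f' g').appLE ⊤ ⊤ le_top := by
      rw [Scheme.Hom.appTop, Scheme.Hom.app_eq_appLE]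
      rfl
    rw [h2, Scheme.Hom.appLE_comp_appLE]
    exact appLE_congr' hj _ _ _ _
  have h3 : (U'.ι.appLE U' ⊤ eι).hom.EssFiniteType := by
    rw [Scheme.Opens.ι_appLE]
    apply RingHom.FiniteType.essFiniteType
    apply RingHom.FiniteType.of_surjective
    exact (isIso_map_of_eq (by simp) _).2
  have h4 := h3.comp h1
  rw [← CommRingCat.hom_comp, ← key, CommRingCat.hom_comp] at h4
  exact (RingHom.EssFiniteType.respectsIso.cancel_right_isIso _ _).mp h4

end Groth.Agent.S15261
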