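import Groth.Statements.S1527
import Groth.Agent.S1526
import Groth.Agent.Lib.QCoh.Helper18_GlobGen

set_option autoImplicit false
universe u
open CategoryTheory CategoryTheory.Limits AlgebraicGeometry
open Variety

namespace Groth.Agent.S1527

/-- On a proper scheme over a field, a coherent module whose support has dimension at most zero is
globally generated (a quotient of a free module). -/
theorem result (k : Type u) [Field k] (X : Scheme.{u}) [X.Over (Spec (CommRingCat.of k))] [IsProper (X ↘ (Spec (CommRingCat.of k)))]
    (F : X.Modules) (hF : Coh.IsCoh F) (hsupp : topologicalKrullDim (CohB1.support F) ≤ 0) :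
    Curv2.IsGloballyGenerated F := by
  have : IsLocallyNoetherian X :=
    LocallyOfFiniteType.isLocallyNoetherian (X ↘ (Spec (CommRingCat.of k)))
  have hZ : IsClosed (CohB1.support F) := Groth.Agent.S0020.result X F hF.2
  have h0 : ∀ x ∈ CohB1.support F, IsClosed ({x} : Set X) := fun x hx =>
    Groth.Agent.S1526.isClosed_singleton_of_dim_le_zero _ hZ hsupp x hx
  have hfl : TopCat.Sheaf.IsFlasque (Coh.toAb F) := by
    apply Groth.Agent.Lib.Cohomology.isFlasque_of_forall_subset_support_isClosed
    intro S hS
    exact Groth.Agent.Lib.Cohomology.isClosed_of_subset_of_closedPoints X hZ h0 hS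
  apply Groth.Agent.Lib.QCoh.isGloballyGenerated_of_forall_exists
  intro x m
  obtain ⟨W, hxW, t, rfl⟩ := F.presheaf.exists_germ_eq m
  have hsurj : Function.Surjective ((Coh.toAb F).obj.map (homOfLE (le_top : W ≤ ⊤)).op) :=
    (AddCommGrpCat.epi_iff_surjective _).1 (hfl.epi _)
  obtain ⟨s, hs⟩ := hsurj t
  refine ⟨1, s, ?_⟩
  rw [one_smul, ← hs]
  exact (TopCat.Presheaf.germ_res_apply F.presheaf (homOfLE (le_top : W ≤ ⊤)) x hxW s)

end Groth.Agent.S1527
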