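import Groth.Statements.S15285
import Mathlib

set_option autoImplicit false
universe v v' u u'
open PicCat

namespace Groth.Agent.S15285

open CategoryTheory MonoidalCategory

section
variable {C : Type u} [Category.{v} C] [MonoidalCategory C]

/-- the action of `End 𝟙` on an object. -/
def act (X : C) (φ : 𝟙_ C ⟶ 𝟙_ C) : X ⟶ X := (λ_ X).inv ≫ (φ ▷ X) ≫ (λ_ X).hom

theorem act_bijective (X : C) (hX : (tensorRight X).IsEquivalence) :
    Function.Bijective (act X) := by
  have _ := hX
  constructor
  · intro φ ψ h
    apply (tensorRight X).map_injective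
    simp only [act] at h
    have h2 := congrArg (fun t => (λ_ X).hom ≫ t ≫ (λ_ X).inv) h
    simpa using h2
  · intro e
    obtain ⟨φ, hφ⟩ := (tensorRight X).map_surjective ((λ_ X).hom ≫ e ≫ (λ_ X).inv)
    refine ⟨φ, ?_⟩
    simp only [act]
    have : φ ▷ X = (λ_ X).hom ≫ e ≫ (λ_ X).inv := hφ
    rw [this]
    simp

end

open CategoryTheory MonoidalCategory in
/-- Let C and D be Picard categories (monoidal groupoids in which tensoring on either side with any
object is an equivalence of categories) and F : C ⥤ D a lax monoidal functor. If F induces a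
bijection on isomorphism classes of objects (it is essentially surjective, and F X ≅ F Y only when X
≅ Y) and a bijection on endomorphisms of the unit object, then F is an equivalence of categories. -/
theorem result
    {C : Type u} [Category.{v} C] [MonoidalCategory C] [IsGroupoid C]
    {D : Type u'} [Category.{v'} D] [MonoidalCategory D] [IsGroupoid D]
    (hC : ∀ X : C, (tensorLeft X).IsEquivalence ∧ (tensorRight X).IsEquivalence)
    (hD : ∀ X : D, (tensorLeft X).IsEquivalence ∧ (tensorRight X).IsEquivalence)
    (F : C ⥤ D) [F.LaxMonoidal] [F.EssSurj]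
    (h0 : ∀ X Y : C, Nonempty (F.obj X ≅ F.obj Y) → Nonempty (X ≅ Y))
    (h1 : Function.Bijective (fun φ : 𝟙_ C ⟶ 𝟙_ C => F.map φ)) :
    F.IsEquivalence := by
  have hε : IsIso (Functor.LaxMonoidal.ε F) := IsGroupoid.all_isIso _
  have hμ : ∀ X Y : C, IsIso (Functor.LaxMonoidal.μ F X Y) := fun X Y => IsGroupoid.all_isIso _
  -- compatibility of `F` with the actions
  have hcomp : ∀ (X : C) (φ : 𝟙_ C ⟶ 𝟙_ C),
      F.map (act X φ) = act (F.obj X)
        (Functor.LaxMonoidal.ε F ≫ F.map φ ≫ inv (Functor.LaxMonoidal.ε F)) := by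
    intro X φ
    simp only [act, F.map_comp]
    rw [← Functor.LaxMonoidal.left_unitality_inv, Functor.LaxMonoidal.left_unitality]
    simp only [Category.assoc, comp_whiskerRight]
    rw [← Functor.LaxMonoidal.μ_natural_left_assoc]
    congr 2
    rw [← comp_whiskerRight_assoc, ← comp_whiskerRight_assoc]
    simp
  -- `F` is bijective on endomorphisms
  have hend : ∀ X : C, Function.Bijective (fun e : X ⟶ X => F.map e) := by
    intro X
    have h2 : Function.Bijective ((fun e : X ⟶ X => F.map e) ∘ act X) := by
      have : (fun e : X ⟶ X => F.map e) ∘ act X = act (F.obj X) ∘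
          (fun ψ : F.obj (𝟙_ C) ⟶ F.obj (𝟙_ C) =>
            Functor.LaxMonoidal.ε F ≫ ψ ≫ inv (Functor.LaxMonoidal.ε F)) ∘
          (fun φ : 𝟙_ C ⟶ 𝟙_ C => F.map φ) := by
        funext φ
        exact hcomp X φ
      rw [this]
      refine (act_bijective _ (hD _).2).comp (Function.Bijective.comp ?_ h1)
      refine Function.bijective_iff_has_inverse.2
        ⟨fun ψ => inv (Functor.LaxMonoidal.ε F) ≫ ψ ≫ Functor.LaxMonoidal.ε F, ?_, ?_⟩
      · intro ψ; simp
      · intro ψ; simp
    exact (Function.Bijective.of_comp_iff _ (act_bijective X (hC X).2)).1 h2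
  have hfaith : F.Faithful := by
    refine ⟨fun {X Y} f g h => ?_⟩
    have hg : IsIso g := IsGroupoid.all_isIso _
    have : f ≫ inv g = 𝟙 X := by
      apply (hend X).1
      simp only [F.map_comp, F.map_id, Functor.map_inv]
      rw [h]
      simp
    calc f = (f ≫ inv g) ≫ g := by simp
      _ = g := by rw [this, Category.id_comp]
  have hfull : F.Full := by
    refine ⟨fun {X Y} h => ?_⟩
    have hh : IsIso h := IsGroupoid.all_isIso _
    obtain ⟨u⟩ := h0 X Y ⟨asIso h⟩
    obtain ⟨e, he⟩ := (hend X).2 (h ≫ F.map u.inv)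
    refine ⟨e ≫ u.hom, ?_⟩
    simp only [F.map_comp]
    have he' : F.map e = h ≫ F.map u.inv := he
    rw [he', Category.assoc, ← F.map_comp, u.inv_hom_id, F.map_id, Category.comp_id]
  exact { faithful := hfaith, full := hfull, essSurj := inferInstance }

end Groth.Agent.S15285
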