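import Groth.Statements.S15286
import Mathlib

set_option autoImplicit false
universe v v' u u'
open PicCat

namespace Groth.Agent.S15286

open CategoryTheory MonoidalCategory

section
variable {D : Type u'} [Category.{v'} D] [MonoidalCategory D]

/-- the action of `End 𝟙` on an object. -/
def act (X : D) (φ : 𝟙_ D ⟶ 𝟙_ D) : X ⟶ X := (λ_ X).inv ≫ (φ ▷ X) ≫ (λ_ X).hom

theorem act_bijective (X : D) (hX : (tensorRight X).IsEquivalence) :
    Function.Bijective (act X) := by
  have _ := hX
  constructor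
  · intro φ ψ h
    apply (tensorRight X).map_injective
    simp only [act] at h
    have h2 := congrArg (fun t => (λ_ X).hom ≫ t ≫ (λ_ X).inv) h
    simpa using h2
  · intro e
    obtain ⟨φ, hφ⟩ := (tensorRight X).map_surjective ((λ_ X).hom ≫ e ≫ (λ_ X).inv)
    refine ⟨φ, ?_⟩
    simp only [act]
    have : φ ▷ X = (λ_ X).hom ≫ e ≫ (λ_ X).inv := hφ
    rw [this]
    simp

lemma act_id (X : D) : act X (𝟙 _) = 𝟙 X := by simp [act]

lemma act_comp (X : D) (φ ψ : 𝟙_ D ⟶ 𝟙_ D) : act X (φ ≫ ψ) = act X φ ≫ act X ψ := by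
  simp [act]

lemma act_natural {X Y : D} (g : X ⟶ Y) (φ : 𝟙_ D ⟶ 𝟙_ D) : act X φ ≫ g = g ≫ act Y φ := by
  simp only [act, Category.assoc]
  rw [← leftUnitor_naturality g, ← whisker_exchange_assoc, leftUnitor_inv_naturality_assoc]

lemma act_whiskerRight (A B : D) (φ : 𝟙_ D ⟶ 𝟙_ D) : act A φ ▷ B = act (A ⊗ B) φ := by
  simp only [act]
  monoidal

variable [BraidedCategory D]

lemma act_whiskerLeft (A B : D) (ψ : 𝟙_ D ⟶ 𝟙_ D) : A ◁ act B ψ = act (A ⊗ B) ψ := by
  have h1 : A ◁ act B ψ = (β_ A B).hom ≫ (act B ψ ▷ A) ≫ (β_ A B).inv := by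
    rw [← BraidedCategory.braiding_naturality_right_assoc]; simp
  rw [h1, act_whiskerRight, act_natural, Iso.hom_inv_id_assoc]

lemma act_tensor (A B : D) (φ ψ : 𝟙_ D ⟶ 𝟙_ D) :
    act A φ ⊗ₘ act B ψ = act (A ⊗ B) (ψ ≫ φ) := by
  rw [tensorHom_def', act_whiskerLeft, act_whiskerRight, ← act_comp]

end

section
variable {C : Type u} [Category.{v} C] [MonoidalCategory C] [IsGroupoid C]
    {D : Type u'} [Category.{v'} D] [MonoidalCategory D] [BraidedCategory D] [IsGroupoid D]
    (F G : C ⥤ D) [F.LaxMonoidal] [G.LaxMonoidal]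

open Functor.LaxMonoidal

/-- key computation: the "difference" of two monoidal transformations is multiplicative -/
lemma diff_tensor (θ₀ θ : F ⟶ G) [NatTrans.IsMonoidal θ₀] [NatTrans.IsMonoidal θ] (X Y : C) :
    μ G X Y ≫ inv (θ₀.app (X ⊗ Y)) ≫ θ.app (X ⊗ Y) =
      ((inv (θ₀.app X) ≫ θ.app X) ⊗ₘ (inv (θ₀.app Y) ≫ θ.app Y)) ≫ μ G X Y := by
  have hμF : IsIso (μ F X Y) := IsGroupoid.all_isIso _
  have h1 : μ G X Y ≫ inv (θ₀.app (X ⊗ Y)) = (inv (θ₀.app X) ⊗ₘ inv (θ₀.app Y)) ≫ μ F X Y := by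
    rw [IsIso.comp_inv_eq, Category.assoc, NatTrans.IsMonoidal.tensor, ← Category.assoc,
      tensorHom_comp_tensorHom]
    simp
  rw [← Category.assoc, h1, Category.assoc, NatTrans.IsMonoidal.tensor, ← Category.assoc,
    tensorHom_comp_tensorHom]

end

open CategoryTheory MonoidalCategory in
/-- Let C be a Picard category, D a commutative (braided) Picard category, F, G : C ⥤ D lax monoidal
functors and θ₀ : F ⟶ G a monoidal natural transformation. Identify an endomorphism φ of the unit of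
D with the automorphism λ⁻¹ ≫ (φ ▷ Z) ≫ λ of any object Z. Then the monoidal natural transformations
F ⟶ G form a torsor under the monoid homomorphisms χ from the monoid of isomorphism classes of C to
End(𝟙_D): every monoidal θ : F ⟶ G is X ↦ θ₀_X ≫ (action of χ[X] on G X) for a unique such χ, and
for every χ this formula defines a monoidal natural transformation. (The published statement allows
D non-commutative; for a non-braided monoidal groupoid the classes so obtained are crossed rather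
than plain homomorphisms, so D is taken braided here.) -/
theorem result
    {C : Type u} [Category.{v} C] [MonoidalCategory C] [IsGroupoid C]
    {D : Type u'} [Category.{v'} D] [MonoidalCategory D] [BraidedCategory D] [IsGroupoid D]
    (hC : ∀ X : C, (tensorLeft X).IsEquivalence ∧ (tensorRight X).IsEquivalence)
    (hD : ∀ X : D, (tensorLeft X).IsEquivalence ∧ (tensorRight X).IsEquivalence)
    (F G : C ⥤ D) [F.LaxMonoidal] [G.LaxMonoidal] (θ₀ : F ⟶ G) [NatTrans.IsMonoidal θ₀] :
    (∀ θ : F ⟶ G, NatTrans.IsMonoidal θ →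
      ∃! χ : Skeleton C →* End (𝟙_ D), ∀ X : C,
        θ.app X = θ₀.app X ≫ (λ_ (G.obj X)).inv ≫
          ((χ (toSkeleton X) : 𝟙_ D ⟶ 𝟙_ D) ▷ G.obj X) ≫ (λ_ (G.obj X)).hom) ∧
    (∀ χ : Skeleton C →* End (𝟙_ D), ∃ θ : F ⟶ G, NatTrans.IsMonoidal θ ∧ ∀ X : C,
        θ.app X = θ₀.app X ≫ (λ_ (G.obj X)).inv ≫
          ((χ (toSkeleton X) : 𝟙_ D ⟶ 𝟙_ D) ▷ G.obj X) ≫ (λ_ (G.obj X)).hom) := by
  have hbij : ∀ Z : D, Function.Bijective (act Z) := fun Z => act_bijective Z (hD Z).2
  have hμG : ∀ X Y : C, IsIso (Functor.LaxMonoidal.μ G X Y) := fun X Y => IsGroupoid.all_isIso _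
  have hεF : IsIso (Functor.LaxMonoidal.ε F) := IsGroupoid.all_isIso _
  constructor
  · intro θ hθ
    choose χ₀ hχ₀ using fun X : C => (hbij (G.obj X)).2 (inv (θ₀.app X) ≫ θ.app X)
    have hinv : ∀ X Y : C, (X ≅ Y) → χ₀ X = χ₀ Y := by
      intro X Y e
      apply (hbij (G.obj Y)).1
      rw [hχ₀ Y]
      have h1 := act_natural (G.map e.hom) (χ₀ X)
      rw [hχ₀ X] at h1
      rw [← cancel_epi (G.map e.hom), ← h1, Category.assoc, ← θ.naturality, ← Category.assoc,
        ← Category.assoc]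
      congr 1
      rw [IsIso.inv_comp_eq, ← Category.assoc, ← θ₀.naturality, Category.assoc, IsIso.hom_inv_id,
        Category.comp_id]
    have hone : χ₀ (𝟙_ C) = 𝟙 _ := by
      apply (hbij (G.obj (𝟙_ C))).1
      rw [hχ₀, act_id, IsIso.inv_comp_eq, Category.comp_id]
      rw [← cancel_epi (Functor.LaxMonoidal.ε F), NatTrans.IsMonoidal.unit,
        NatTrans.IsMonoidal.unit]
    have hmul : ∀ X Y : C, χ₀ (X ⊗ Y) = χ₀ Y ≫ χ₀ X := by
      intro X Y
      apply (hbij (G.obj (X ⊗ Y))).1
      rw [hχ₀, ← cancel_epi (Functor.LaxMonoidal.μ G X Y), diff_tensor F G θ₀ θ X Y, ← hχ₀ X,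
        ← hχ₀ Y, act_tensor, act_natural]
    let χfun : Skeleton C → End (𝟙_ D) :=
      Quotient.lift χ₀ (fun X Y h => hinv X Y (Classical.choice h))
    let χ : Skeleton C →* End (𝟙_ D) :=
      { toFun := χfun
        map_one' := hone
        map_mul' := by
          intro s t
          induction s using Quotient.inductionOn with
          | h X =>
            induction t using Quotient.inductionOn with
            | h Y =>
              show χfun (toSkeleton X * toSkeleton Y) = χfun (toSkeleton X) * χfun (toSkeleton Y)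
              rw [← Skeleton.toSkeleton_tensorObj]
              exact hmul X Y }
    refine ⟨χ, ?_, ?_⟩
    · intro X
      show θ.app X = θ₀.app X ≫ act (G.obj X) (χ₀ X)
      rw [hχ₀ X, IsIso.hom_inv_id_assoc]
    · intro χ' hχ'
      ext s
      induction s using Quotient.inductionOn with
      | h X =>
        show χ' (toSkeleton X) = χ₀ X
        apply (hbij (G.obj X)).1
        rw [hχ₀ X, IsIso.eq_inv_comp]
        exact (hχ' X).symm
  · intro χ
    have hnat : ∀ {X Y : C} (f : X ⟶ Y), χ (toSkeleton X) = χ (toSkeleton Y) := by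
      intro X Y f
      have : toSkeleton X = toSkeleton Y := Quotient.sound ⟨asIso f⟩
      rw [this]
    let θ : F ⟶ G :=
      { app := fun X => θ₀.app X ≫ act (G.obj X) (χ (toSkeleton X))
        naturality := by
          intro X Y f
          rw [← Category.assoc, θ₀.naturality, Category.assoc, Category.assoc, hnat f, act_natural] }
    refine ⟨θ, ?_, fun X => rfl⟩
    refine ⟨?_, ?_⟩
    · show Functor.LaxMonoidal.ε F ≫ θ₀.app (𝟙_ C) ≫ act _ (χ (toSkeleton (𝟙_ C))) = _
      have : χ (toSkeleton (𝟙_ C)) = 𝟙 _ := by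
        rw [← Skeleton.one_eq, map_one]; rfl
      rw [this, act_id, Category.comp_id, NatTrans.IsMonoidal.unit]
    · intro X Y
      show Functor.LaxMonoidal.μ F X Y ≫ θ₀.app (X ⊗ Y) ≫ act _ (χ (toSkeleton (X ⊗ Y))) =
        ((θ₀.app X ≫ act _ (χ (toSkeleton X))) ⊗ₘ (θ₀.app Y ≫ act _ (χ (toSkeleton Y)))) ≫
          Functor.LaxMonoidal.μ G X Y
      have hm : χ (toSkeleton (X ⊗ Y)) = χ (toSkeleton Y) ≫ χ (toSkeleton X) := by
        rw [Skeleton.toSkeleton_tensorObj, map_mul]; rfl
      rw [← tensorHom_comp_tensorHom, act_tensor, Category.assoc, act_natural,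
        NatTrans.IsMonoidal.tensor_assoc, hm]

end Groth.Agent.S15286
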