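import Groth.Statements.S15291
import Groth.Agent.Lib.Helper53.FreePicardNat

set_option autoImplicit false
universe v v' u u'
open PicCat

namespace Groth.Agent.S15291

open CategoryTheory MonoidalCategory in
/-- Every symmetric monoidal groupoid A has a Picardification: a commutative Picard category V (a
symmetric monoidal groupoid in which tensoring with any object on either side is an equivalence of
categories) with a symmetric lax monoidal functor i : A ⥤ V such that, for every commutative Picard
category P, (a) every symmetric lax monoidal functor Φ : A ⥤ P is isomorphic through a monoidal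
natural isomorphism to i ⋙ Ψ for some symmetric lax monoidal Ψ : V ⥤ P, and (b) for symmetric lax
monoidal Ψ, Ψ' : V ⥤ P, whiskering with i is a bijection from the monoidal natural transformations Ψ
⟶ Ψ' onto the monoidal natural transformations i ⋙ Ψ ⟶ i ⋙ Ψ'. Here V has its objects in the
universe of the objects of A and its morphisms in the larger of A's two universe levels, and P
ranges over one arbitrary pair of universe levels. -/
theorem result
    (A : Type u) [Category.{v} A] [MonoidalCategory A] [SymmetricCategory A] [IsGroupoid A] :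
    ∃ (V : Type u) (_ : Category.{max u v} V) (_ : MonoidalCategory V) (_ : SymmetricCategory V)
      (i : A ⥤ V) (_ : i.LaxBraided),
      IsGroupoid V ∧ (∀ X : V, (tensorLeft X).IsEquivalence ∧ (tensorRight X).IsEquivalence) ∧
      ∀ (P : Type u') [Category.{v'} P] [MonoidalCategory P] [SymmetricCategory P] [IsGroupoid P],
        (∀ X : P, (tensorLeft X).IsEquivalence ∧ (tensorRight X).IsEquivalence) →
        (∀ (Φ : A ⥤ P) [Φ.LaxBraided], ∃ (Ψ : V ⥤ P) (_ : Ψ.LaxBraided) (η : i ⋙ Ψ ≅ Φ),
            NatTrans.IsMonoidal η.hom) ∧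
        (∀ (Ψ Ψ' : V ⥤ P) [Ψ.LaxBraided] [Ψ'.LaxBraided] (τ : i ⋙ Ψ ⟶ i ⋙ Ψ'),
            NatTrans.IsMonoidal τ →
              ∃! θ : Ψ ⟶ Ψ', NatTrans.IsMonoidal θ ∧ Functor.whiskerLeft i θ = τ) := by
  open Groth.Agent.Helper53.FreePic in
  refine ⟨W A, category, monoidal, symmetric, ι, ιLaxBraided, isGroupoid, ?_, ?_⟩
  · intro X
    exact ⟨isEquivalence_tensorLeft X, isEquivalence_tensorRight X⟩
  · intro P _ _ _ _ hP
    have hP' : ∀ X : P, (tensorLeft X).IsEquivalence := fun X => (hP X).1
    refine ⟨?_, ?_⟩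
    · intro Φ _
      exact ⟨lift hP' Φ, (liftBraided hP' Φ).toLaxBraided, liftIso hP' Φ,
        liftIso_isMonoidal hP' Φ⟩
    · intro Ψ Ψ' _ _ τ hτ
      have := hτ
      refine ⟨θNat hP' Ψ Ψ' τ, ⟨θNat_isMonoidal hP' Ψ Ψ' τ, whiskerLeft_θNat hP' Ψ Ψ' τ⟩, ?_⟩
      rintro φ ⟨hφ, h⟩
      have := hφ
      exact θNat_unique hP' Ψ Ψ' τ φ h

end Groth.Agent.S15291
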