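import Groth.Statements.S15292
import Mathlib
import Groth.Agent.Lib.Helper77.DeRhamGen

set_option autoImplicit false
universe u
open DeRham

namespace Groth.Agent.S15292

open exteriorPower in
/-- Let R → A be a ring map and d a family of R-linear maps from p-forms to (p+1)-forms on the exterior
powers of the Kähler differentials of A over R, p ≥ 0, satisfying the de Rham rule d(b₀ db₁ ∧ … ∧
db_p) = db₀ ∧ db₁ ∧ … ∧ db_p for all p and all bᵢ in A. Then the composite of two consecutive d is
zero in every degree; together with the rule this says that d is a de Rham differential of the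
Kähler differentials. -/
theorem result (R A : Type u) [CommRing R] [CommRing A] [Algebra R A]
    (d : ∀ p : ℕ, ↥(⋀[A]^p (Ω[A⁄R])) →ₗ[R] ↥(⋀[A]^(p + 1) (Ω[A⁄R])))
    (hd : DeRham.IsRule (KaehlerDifferential.D R A) d) :
    DeRham.IsDiff (KaehlerDifferential.D R A) d := by
  refine ⟨hd, fun p => ?_⟩
  refine LinearMap.ext fun x => ?_
  simp only [LinearMap.coe_comp, Function.comp_apply, LinearMap.zero_apply]
  refine Groth.Agent.Lib.Helper77.DeRhamGen.gen_induction_kaehler R A p
    (fun x => d (p + 1) (d p x) = 0) (by simp) (fun x y hx hy => by simp [map_add, hx, hy])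
    (fun b₀ b => ?_) x
  show d (p + 1) (d p (DeRham.gen (KaehlerDifferential.D R A) p b₀ b)) = 0
  rw [hd p b₀ b, Groth.Agent.Lib.Helper77.DeRhamGen.ιMulti_cons_eq_gen, hd (p + 1)]
  apply AlternatingMap.map_coord_zero _ (i := 0)
  simp

end Groth.Agent.S15292
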