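import Groth.Statements.S15295
import Mathlib
import Groth.Agent.Lib.Helper77.DeRhamGen
import Groth.Agent.Lib.Helper77.ExtPowBaseChange

set_option autoImplicit false
universe u
open DeRham

namespace Groth.Agent.S15295

open Groth.Agent.Lib.Helper77 in
/-- `Ω[B⁄S]` is the base change of `Ω[A⁄R]` along `A → B` for a pushout square. -/
theorem kaehler_isBaseChange (R S A B : Type u) [CommRing R] [CommRing S] [CommRing A] [CommRing B]
    [Algebra R S] [Algebra R A] [Algebra R B] [Algebra A B] [Algebra S B]
    [IsScalarTower R A B] [IsScalarTower R S B] [Algebra.IsPushout R S A B] :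
    IsBaseChange B (KaehlerDifferential.map R S A B) := by
  refine IsBaseChange.of_equiv (KaehlerDifferential.tensorKaehlerEquiv R S A B) ?_
  intro x
  have h : ((KaehlerDifferential.tensorKaehlerEquiv R S A B).toLinearMap.restrictScalars A).comp
      (TensorProduct.mk A B (Ω[A⁄R]) 1) = KaehlerDifferential.map R S A B := by
    apply Derivation.liftKaehlerDifferential_unique
    ext a
    simp [KaehlerDifferential.map_D]
  exact DFunLike.congr_fun h x

open exteriorPower TensorProduct in
/-- The de Rham complex commutes with base change. Let R → A and R → S be ring maps and B = S ⊗_R A (an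
R-algebra over A and S with the pushout property), and let ψ be the induced map of de Rham complexes
from the p-forms of A over R to the p-forms of B over S (additive maps sending b₀ db₁ ∧ … ∧ db_p to
g(b₀) d(g b₁) ∧ … ∧ d(g b_p), g : A → B the structure map). Then in each degree p the S-linear
extension S ⊗_R ⋀^p Ω_{A/R} → ⋀^p Ω_{B/S}, s ⊗ x ↦ s · ψ_p(x), is bijective. (This row states the
degreewise bijectivity, with the base change written S ⊗_R − rather than − ⊗_R S; the compatibility
of ψ with the differentials, which makes this an isomorphism of complexes, holds for any square of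
ring maps.) -/
theorem result (R S A B : Type u) [CommRing R] [CommRing S] [CommRing A] [CommRing B]
    [Algebra R S] [Algebra R A] [Algebra R B] [Algebra A B] [Algebra S B]
    [IsScalarTower R A B] [IsScalarTower R S B] [Algebra.IsPushout R S A B]
    (ψ : ∀ p : ℕ, ↥(⋀[A]^p (Ω[A⁄R])) →+ ↥(⋀[B]^p (Ω[B⁄S])))
    (hψ : DeRham.IsCxMap (KaehlerDifferential.D R A) (KaehlerDifferential.D S B) (algebraMap A B) ψ)
    (p : ℕ) (Φ : S ⊗[R] ↥(⋀[A]^p (Ω[A⁄R])) →+ ↥(⋀[B]^p (Ω[B⁄S])))
    (hΦ : ∀ (s : S) (x : ↥(⋀[A]^p (Ω[A⁄R]))), Φ (s ⊗ₜ[R] x) = s • ψ p x) :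
    Function.Bijective Φ := by
  classical
  let f := KaehlerDifferential.map R S A B
  have hf : IsBaseChange B f := kaehler_isBaseChange R S A B
  have hψ' : ∀ x, ψ p x = Groth.Agent.Lib.Helper77.ExtPowBaseChange.extMap (B := B) f p x := by
    intro x
    refine Groth.Agent.Lib.Helper77.DeRhamGen.gen_induction_kaehler R A p
      (fun x => ψ p x = Groth.Agent.Lib.Helper77.ExtPowBaseChange.extMap (B := B) f p x)
      (by simp) (fun x y hx hy => by simp only [map_add, hx, hy]) (fun b₀ b => ?_) x
    show ψ p (DeRham.gen (KaehlerDifferential.D R A) p b₀ b) =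
      Groth.Agent.Lib.Helper77.ExtPowBaseChange.extMap (B := B) f p
        (DeRham.gen (KaehlerDifferential.D R A) p b₀ b)
    rw [hψ p b₀ b]
    unfold DeRham.gen
    rw [map_smul, Groth.Agent.Lib.Helper77.ExtPowBaseChange.extMap_ιMulti, algebraMap_smul]
    simp [f, KaehlerDifferential.map_D]
  have hΦ' : ∀ t, Φ t = Groth.Agent.Lib.Helper77.ExtPowBaseChange.PhiP (B := B) f p
      ((Algebra.IsPushout.cancelBaseChange R S A B ↥(⋀[A]^p (Ω[A⁄R]))).symm t) := by
    intro t
    induction t using TensorProduct.induction_on with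
    | zero => simp
    | tmul s x =>
      rw [hΦ, hψ', Algebra.IsPushout.cancelBaseChange_symm_tmul,
        Groth.Agent.Lib.Helper77.ExtPowBaseChange.PhiP_tmul, algebraMap_smul]
    | add x y hx hy => simp only [map_add, hx, hy]
  have hfun : ⇑Φ = ⇑(Groth.Agent.Lib.Helper77.ExtPowBaseChange.PhiP (B := B) f p) ∘
      ⇑(Algebra.IsPushout.cancelBaseChange R S A B ↥(⋀[A]^p (Ω[A⁄R]))).symm := by
    funext t
    exact hΦ' t
  rw [hfun]
  exact (Groth.Agent.Lib.Helper77.ExtPowBaseChange.PhiP_bijective hf p).comp
    (LinearEquiv.bijective _)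

end Groth.Agent.S15295
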