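import Groth.Statements.S15296
import Mathlib.Tactic
-- import your own Groth.Agent.* helpers here

set_option autoImplicit false
universe u
open DeRham

namespace Groth.Agent.S15296

open exteriorPower

section Ker
variable {A : Type u} [CommRing A] {M M' : Type u} [AddCommGroup M] [Module A M]
  [AddCommGroup M'] [Module A M'] (π : M →ₗ[A] M') (p : ℕ)

/-- the submodule generated by wedges with one factor in `ker π`. -/
def Nsub : Submodule A (⋀[A]^p M) :=
  Submodule.span A {x | ∃ (u : Fin p → M) (i : Fin p), π (u i) = 0 ∧ x = ιMulti A p u}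

theorem update_mem [DecidableEq (Fin p)] (v : Fin p → M) (i : Fin p) (k : M) (hk : π k = 0) :
    ιMulti A p (Function.update v i k) ∈ Nsub π p :=
  Submodule.subset_span ⟨_, i, by simp [hk], rfl⟩

theorem replace_mem (v v' : Fin p → M) (h : ∀ i, π (v i) = π (v' i)) :
    ιMulti A p v - ιMulti A p v' ∈ Nsub π p := by
  classical
  have key : ∀ S : Finset (Fin p),
      ιMulti A p v - ιMulti A p (fun i => if i ∈ S then v' i else v i) ∈ Nsub π p := by
    intro S
    induction S using Finset.induction_on with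
    | empty => simp
    | insert a S ha ih =>
      set w : Fin p → M := fun i => if i ∈ S then v' i else v i with hw
      have hw' : (fun i => if i ∈ insert a S then v' i else v i) = Function.update w a (v' a) := by
        ext i
        by_cases hia : i = a
        · subst hia; simp
        · simp [hw, Finset.mem_insert, hia]
      rw [hw']
      have hwa : w a = v a := by simp [hw, ha]
      have e : ιMulti A p w - ιMulti A p (Function.update w a (v' a)) =
          ιMulti A p (Function.update w a (w a - v' a)) := by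
        rw [AlternatingMap.map_update_sub, Function.update_eq_self]
      have hmem : ιMulti A p w - ιMulti A p (Function.update w a (v' a)) ∈ Nsub π p := by
        rw [e]
        apply update_mem
        rw [map_sub, hwa, h a, sub_self]
      have := Submodule.add_mem _ ih hmem
      convert this using 1
      abel
  have := key Finset.univ
  simpa using this

variable {π} (hπ : Function.Surjective π)

/-- the alternating map defining the inverse. -/
noncomputable def invAlt : M' [⋀^Fin p]→ₗ[A] (⋀[A]^p M ⧸ Nsub π p) :=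
  { toFun := fun w => Submodule.Quotient.mk (ιMulti A p (fun i => Function.surjInv hπ (w i)))
    map_update_add' := by
      intro _ m i x y
      have hs : ∀ z, (fun j => Function.surjInv hπ (Function.update m i z j)) =
          Function.update (fun j => Function.surjInv hπ (m j)) i (Function.surjInv hπ z) := by
        intro z; ext j
        by_cases hj : j = i
        · subst hj; simp
        · simp [Function.update_of_ne hj]
      rw [hs, hs, hs, ← Submodule.Quotient.mk_add, Submodule.Quotient.eq,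
        ← AlternatingMap.map_update_add, ← AlternatingMap.map_update_sub]
      apply update_mem
      simp [Function.surjInv_eq hπ]
    map_update_smul' := by
      intro _ m i c x
      have hs : ∀ z, (fun j => Function.surjInv hπ (Function.update m i z j)) =
          Function.update (fun j => Function.surjInv hπ (m j)) i (Function.surjInv hπ z) := by
        intro z; ext j
        by_cases hj : j = i
        · subst hj; simp
        · simp [Function.update_of_ne hj]
      rw [hs, hs, ← Submodule.Quotient.mk_smul, Submodule.Quotient.eq,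
        ← AlternatingMap.map_update_smul, ← AlternatingMap.map_update_sub]
      apply update_mem
      simp [Function.surjInv_eq hπ]
    map_eq_zero_of_eq' := by
      intro v i j hij hne
      have : ιMulti A p (fun i => Function.surjInv hπ (v i)) = 0 :=
        (ιMulti A p).map_eq_zero_of_eq _ (by simp [hij]) hne
      rw [this, Submodule.Quotient.mk_zero] }

include hπ in
theorem ker_le : LinearMap.ker (exteriorPower.map p π) ≤ Nsub π p := by
  intro x hx
  let L : ⋀[A]^p M' →ₗ[A] (⋀[A]^p M ⧸ Nsub π p) := alternatingMapLinearEquiv (invAlt p hπ)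
  have hL : L ∘ₗ exteriorPower.map p π = (Nsub π p).mkQ := by
    apply exteriorPower.linearMap_ext
    ext v
    simp only [LinearMap.compAlternatingMap_apply, LinearMap.coe_comp, Function.comp_apply,
      exteriorPower.map_apply_ιMulti, L, alternatingMapLinearEquiv_apply_ιMulti,
      Submodule.mkQ_apply]
    change Submodule.Quotient.mk (ιMulti A p (fun i => Function.surjInv hπ ((π ∘ v) i))) = _
    rw [Submodule.Quotient.eq]
    apply replace_mem
    intro i
    simp [Function.surjInv_eq hπ]
  have h1 : (Nsub π p).mkQ x = 0 := by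
    rw [← hL, LinearMap.comp_apply, LinearMap.mem_ker.1 hx, map_zero]
  simpa using h1

theorem coe_map (n : ℕ) (x : ⋀[A]^n M) :
    ((exteriorPower.map n π x : ⋀[A]^n M') : ExteriorAlgebra A M') =
      ExteriorAlgebra.map π (x : ExteriorAlgebra A M) := by
  have : (Submodule.subtype _) ∘ₗ exteriorPower.map n π =
      (ExteriorAlgebra.map π).toLinearMap ∘ₗ (Submodule.subtype (⋀[A]^n M)) := by
    apply exteriorPower.linearMap_ext
    ext v
    simp [ExteriorAlgebra.map_apply_ιMulti]
  exact LinearMap.congr_fun this x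

end Ker

section Main

variable {R A Ω' : Type u} [CommRing R] [CommRing A] [Algebra R A]
    [AddCommGroup Ω'] [Module A Ω'] [Module R Ω'] [IsScalarTower R A Ω']
    (π : Ω[A⁄R] →ₗ[A] Ω')
    (dA : ∀ p : ℕ, ↥(⋀[A]^p (Ω[A⁄R])) →ₗ[R] ↥(⋀[A]^(p + 1) (Ω[A⁄R])))

/-- the composite `⋀^{p+1}π ∘ dA p`. -/
noncomputable def F (p : ℕ) : ↥(⋀[A]^p (Ω[A⁄R])) →ₗ[R] ↥(⋀[A]^(p + 1) Ω') :=
  (exteriorPower.map (p + 1) π).restrictScalars R ∘ₗ dA p

/-- the submodule of elements all of whose `A`-multiples are killed by `F p`. -/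
def P (p : ℕ) : Submodule A ↥(⋀[A]^p (Ω[A⁄R])) where
  carrier := {x | ∀ a : A, F π dA p (a • x) = 0}
  add_mem' := by
    intro x y hx hy a
    rw [smul_add, map_add, hx a, hy a, add_zero]
  zero_mem' := by
    intro a
    simp
  smul_mem' := by
    intro c x hx a
    rw [← mul_smul]
    exact hx _

variable {π dA}

theorem coe_gen (q : ℕ) (a₀ e : A) (b : Fin q → A) :
    ((DeRham.gen (KaehlerDifferential.D R A) (q + 1) a₀ (Fin.cons e b) : ⋀[A]^(q+1) (Ω[A⁄R])) :
      ExteriorAlgebra A (Ω[A⁄R])) =
    a₀ • (ExteriorAlgebra.ι A (KaehlerDifferential.D R A e) *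
      ((ιMulti A q (fun i => KaehlerDifferential.D R A (b i)) : ⋀[A]^q (Ω[A⁄R])) :
        ExteriorAlgebra A (Ω[A⁄R]))) := by
  unfold DeRham.gen
  rw [Submodule.coe_smul, ιMulti_apply_coe, ιMulti_apply_coe, ExteriorAlgebra.ιMulti_succ_apply]
  congr 2

theorem coe_cons {N : Type u} [AddCommGroup N] [Module A N] (q : ℕ) (g : N) (v : Fin q → N) :
    ((ιMulti A (q + 1) (Fin.cons g v) : ⋀[A]^(q+1) N) : ExteriorAlgebra A N) =
      ExteriorAlgebra.ι A g * ((ιMulti A q v : ⋀[A]^q N) : ExteriorAlgebra A N) := by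
  rw [ιMulti_apply_coe, ιMulti_apply_coe, ExteriorAlgebra.ιMulti_succ_apply]
  congr 2

theorem cons_comp (q : ℕ) (e : A) (b : Fin q → A) :
    (fun i => KaehlerDifferential.D R A ((Fin.cons e b : Fin (q+1) → A) i)) =
      Fin.cons (KaehlerDifferential.D R A e) (fun i => KaehlerDifferential.D R A (b i)) := by
  funext i
  refine Fin.cases ?_ (fun j => ?_) i <;> simp

variable (hdA : DeRham.IsRule (KaehlerDifferential.D R A) dA)
include hdA

theorem coe_rule (q : ℕ) (a₀ e : A) (b : Fin q → A) :
    ((dA (q + 1) (DeRham.gen (KaehlerDifferential.D R A) (q + 1) a₀ (Fin.cons e b)) :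
      ⋀[A]^(q+2) (Ω[A⁄R])) : ExteriorAlgebra A (Ω[A⁄R])) =
    ExteriorAlgebra.ι A (KaehlerDifferential.D R A a₀) *
      (ExteriorAlgebra.ι A (KaehlerDifferential.D R A e) *
      ((ιMulti A q (fun i => KaehlerDifferential.D R A (b i)) : ⋀[A]^q (Ω[A⁄R])) :
        ExteriorAlgebra A (Ω[A⁄R]))) := by
  rw [hdA, cons_comp, coe_cons, coe_cons]

theorem comp_mem (q : ℕ) (g : Ω[A⁄R]) (hg1 : π g = 0)
    (hg2 : exteriorPower.map 2 π (dA 1 ((exteriorPower.oneEquiv A (Ω[A⁄R])).symm g)) = 0)
    (b : Fin q → A) :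
    ιMulti A (q+1) (Fin.cons g (fun i => KaehlerDifferential.D R A (b i))) ∈ P π dA (q+1) := by
  classical
  intro a
  obtain ⟨c, hc⟩ : ∃ c : A →₀ A, c.sum (fun e a => a • KaehlerDifferential.D R A e) = g := by
    have : g ∈ Submodule.span A (Set.range (KaehlerDifferential.D R A)) := by
      rw [KaehlerDifferential.span_range_derivation]; trivial
    exact (Finsupp.mem_span_range_iff_exists_finsupp).1 this
  have hιg : ExteriorAlgebra.ι A g =
      ∑ e ∈ c.support, c e • ExteriorAlgebra.ι A (KaehlerDifferential.D R A e) := by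
    rw [← hc, Finsupp.sum, map_sum]
    simp
  -- x as a sum of gens
  have hx : a • ιMulti A (q+1) (Fin.cons g (fun i => KaehlerDifferential.D R A (b i))) =
      ∑ e ∈ c.support, DeRham.gen (KaehlerDifferential.D R A) (q+1) (a * c e) (Fin.cons e b) := by
    apply Subtype.ext
    rw [Submodule.coe_smul, coe_cons, AddSubmonoidClass.coe_finsetSum]
    simp only [coe_gen]
    rw [hιg, Finset.sum_mul, Finset.smul_sum]
    apply Finset.sum_congr rfl
    intro e _
    rw [smul_mul_assoc, smul_smul]
  -- oneEquiv.symm g as a sum of gens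
  have hg' : (exteriorPower.oneEquiv A (Ω[A⁄R])).symm g =
      ∑ e ∈ c.support, DeRham.gen (KaehlerDifferential.D R A) 1 (c e) (Fin.cons e Fin.elim0) := by
    apply Subtype.ext
    rw [exteriorPower.oneEquiv_symm_apply, AddSubmonoidClass.coe_finsetSum]
    simp only [coe_gen]
    have : (fun _ : Fin 1 => g) = Fin.cons g Fin.elim0 := by
      funext i; fin_cases i; rfl
    rw [this, coe_cons, hιg, Finset.sum_mul]
    apply Finset.sum_congr rfl
    intro e _
    rw [smul_mul_assoc]
    congr 2
  -- the 2-form θ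
  set mb : ExteriorAlgebra A (Ω[A⁄R]) :=
    ((ιMulti A q (fun i => KaehlerDifferential.D R A (b i)) : ⋀[A]^q (Ω[A⁄R])) :
        ExteriorAlgebra A (Ω[A⁄R])) with hmb
  set θ : ExteriorAlgebra A (Ω[A⁄R]) :=
    ∑ e ∈ c.support, ExteriorAlgebra.ι A (KaehlerDifferential.D R A (c e)) *
      ExteriorAlgebra.ι A (KaehlerDifferential.D R A e) with hθ
  have hθ1 : ((dA 1 ((exteriorPower.oneEquiv A (Ω[A⁄R])).symm g) : ⋀[A]^2 (Ω[A⁄R])) :
      ExteriorAlgebra A (Ω[A⁄R])) = θ := by
    rw [hg', map_sum, AddSubmonoidClass.coe_finsetSum]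
    apply Finset.sum_congr rfl
    intro e _
    rw [coe_rule hdA 0 (c e) e Fin.elim0]
    simp
  have hΦθ : ExteriorAlgebra.map π θ = 0 := by
    rw [← hθ1, ← coe_map, hg2]
    rfl
  have hcoe : ((dA (q+1) (a • ιMulti A (q+1) (Fin.cons g (fun i => KaehlerDifferential.D R A (b i)))) :
      ⋀[A]^(q+2) (Ω[A⁄R])) : ExteriorAlgebra A (Ω[A⁄R])) =
      a • (θ * mb) + ExteriorAlgebra.ι A (KaehlerDifferential.D R A a) *
        (ExteriorAlgebra.ι A g * mb) := by
    rw [hx, map_sum, AddSubmonoidClass.coe_finsetSum]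
    simp only [coe_rule hdA]
    have e1 : θ * mb = ∑ e ∈ c.support, ExteriorAlgebra.ι A (KaehlerDifferential.D R A (c e)) *
      ExteriorAlgebra.ι A (KaehlerDifferential.D R A e) * mb := by
      rw [hθ, Finset.sum_mul]
    have e2 : ExteriorAlgebra.ι A g * mb =
        ∑ e ∈ c.support, c e • (ExteriorAlgebra.ι A (KaehlerDifferential.D R A e) * mb) := by
      rw [hιg, Finset.sum_mul]
      simp only [smul_mul_assoc]
    rw [e1, e2, Finset.smul_sum, Finset.mul_sum, ← Finset.sum_add_distrib]
    apply Finset.sum_congr rfl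
    intro e _
    rw [Derivation.leibniz, map_add, map_smul, map_smul, add_mul]
    simp only [smul_mul_assoc, mul_smul_comm, mul_assoc]
    abel
  unfold F
  rw [LinearMap.comp_apply]
  apply Subtype.ext
  change ((exteriorPower.map (q + 1 + 1) π (dA (q+1) _) : ⋀[A]^(q+2) Ω') :
    ExteriorAlgebra A Ω') = 0
  rw [coe_map, hcoe, map_add, map_smul, map_mul, map_mul, map_mul, hΦθ,
    ExteriorAlgebra.map_apply_ι, ExteriorAlgebra.map_apply_ι, hg1]
  simp

theorem kill_zero
    (hker : LinearMap.ker π ≤ Submodule.span A {ω : Ω[A⁄R] | π ω = 0 ∧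
      exteriorPower.map 2 π (dA 1 ((exteriorPower.oneEquiv A (Ω[A⁄R])).symm ω)) = 0})
    (q : ℕ) (k : Ω[A⁄R]) (hk : π k = 0) (u' : Fin q → Ω[A⁄R]) :
    ιMulti A (q+1) (Fin.cons k u') ∈ P π dA (q+1) := by
  -- linear in k
  let S₁ : Submodule A (Ω[A⁄R]) :=
    { carrier := {k | ∀ u' : Fin q → Ω[A⁄R], ιMulti A (q+1) (Fin.cons k u') ∈ P π dA (q+1)}
      add_mem' := by
        intro x y hx hy u'
        have : ιMulti A (q+1) (Fin.cons (x + y) u') =
            ιMulti A (q+1) (Fin.cons x u') + ιMulti A (q+1) (Fin.cons y u') :=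
          (ιMulti A (q+1)).map_vecCons_add u' x y
        rw [this]
        exact Submodule.add_mem _ (hx u') (hy u')
      zero_mem' := by
        intro u'
        have : ιMulti A (q+1) (Fin.cons (0 : Ω[A⁄R]) u') = 0 := by
          have := (ιMulti A (q+1)).map_vecCons_smul u' (0 : A) (0 : Ω[A⁄R])
          simpa [Matrix.vecCons] using this
        rw [this]
        exact Submodule.zero_mem _
      smul_mem' := by
        intro c x hx u'
        have : ιMulti A (q+1) (Fin.cons (c • x) u') = c • ιMulti A (q+1) (Fin.cons x u') :=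
          (ιMulti A (q+1)).map_vecCons_smul u' c x
        rw [this]
        exact Submodule.smul_mem _ _ (hx u') }
  suffices h : k ∈ S₁ from h u'
  refine (hker.trans (Submodule.span_le.2 ?_)) hk
  rintro g ⟨hg1, hg2⟩
  intro v
  -- linear in the rest
  let Λ : ⋀[A]^q (Ω[A⁄R]) →ₗ[A] ⋀[A]^(q+1) (Ω[A⁄R]) :=
    alternatingMapLinearEquiv ((ιMulti A (q+1)).curryLeft g)
  have hΛ : ∀ w : Fin q → Ω[A⁄R], Λ (ιMulti A q w) = ιMulti A (q+1) (Fin.cons g w) := by
    intro w
    simp only [Λ, alternatingMapLinearEquiv_apply_ιMulti, AlternatingMap.curryLeft_apply_apply]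
    rfl
  have htop : (P π dA (q+1)).comap Λ = ⊤ := by
    rw [eq_top_iff, ← ιMulti_span_of_span A q (Ω[A⁄R])
      (KaehlerDifferential.span_range_derivation R A), Submodule.span_le]
    rintro _ ⟨w, hw, rfl⟩
    have : ∃ b : Fin q → A, w = fun i => KaehlerDifferential.D R A (b i) := by
      have : ∀ i, ∃ bi, KaehlerDifferential.D R A bi = w i := fun i => hw ⟨i, rfl⟩
      choose b hb using this
      exact ⟨b, funext fun i => (hb i).symm⟩
    obtain ⟨b, rfl⟩ := this
    change Λ _ ∈ P π dA (q+1)
    rw [hΛ]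
    exact comp_mem hdA q g hg1 hg2 b
  have : ιMulti A q v ∈ (P π dA (q+1)).comap Λ := by rw [htop]; trivial
  have h2 : Λ (ιMulti A q v) ∈ P π dA (q+1) := this
  rwa [hΛ] at h2

theorem kill
    (hker : LinearMap.ker π ≤ Submodule.span A {ω : Ω[A⁄R] | π ω = 0 ∧
      exteriorPower.map 2 π (dA 1 ((exteriorPower.oneEquiv A (Ω[A⁄R])).symm ω)) = 0})
    (p : ℕ) : Nsub π p ≤ P π dA p := by
  unfold Nsub
  rw [Submodule.span_le]
  rintro _ ⟨u, i, hi, rfl⟩
  obtain ⟨q, rfl⟩ : ∃ q, p = q + 1 := by
    cases p with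
    | zero => exact i.elim0
    | succ q => exact ⟨q, rfl⟩
  by_cases hi0 : i = 0
  · subst hi0
    have : u = Fin.cons (u 0) (Fin.tail u) := (Fin.cons_self_tail u).symm
    rw [this]
    exact kill_zero hdA hker q (u 0) hi _
  · have hswap : ιMulti A (q+1) (u ∘ Equiv.swap 0 i) = - ιMulti A (q+1) u :=
      (ιMulti A (q+1)).map_swap u (Ne.symm hi0)
    have hu : ιMulti A (q+1) u = - ιMulti A (q+1) (u ∘ Equiv.swap 0 i) := by
      rw [hswap, neg_neg]
    rw [SetLike.mem_coe, hu]
    apply Submodule.neg_mem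
    have : (u ∘ Equiv.swap 0 i) = Fin.cons ((u ∘ Equiv.swap 0 i) 0) (Fin.tail (u ∘ Equiv.swap 0 i)) :=
      (Fin.cons_self_tail _).symm
    rw [this]
    apply kill_zero hdA hker q
    simp [hi]

end Main

open exteriorPower in
/-- Let R → A be a ring map, π a surjective A-linear map from the Kähler differentials of A over R onto
an A-module Ω', δ = π ∘ d the induced derivation A → Ω', and d_A a de Rham differential of the
Kähler differentials. Suppose the kernel of π is generated over A by elements ω with π(ω) = 0 whose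
differential d_A(ω) is killed by the second exterior power of π. Then the exterior powers of Ω' over
A carry a de Rham differential for δ: a family of R-linear maps d from p-forms to (p+1)-forms with
d(f₀ δf₁ ∧ … ∧ δf_p) = δf₀ ∧ δf₁ ∧ … ∧ δf_p and d ∘ d = 0; moreover d is compatible with d_A through
the exterior powers of π. -/
theorem result (R A Ω' : Type u) [CommRing R] [CommRing A] [Algebra R A]
    [AddCommGroup Ω'] [Module A Ω'] [Module R Ω'] [IsScalarTower R A Ω']
    (π : Ω[A⁄R] →ₗ[A] Ω') (hπ : Function.Surjective π)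
    (dA : ∀ p : ℕ, ↥(⋀[A]^p (Ω[A⁄R])) →ₗ[R] ↥(⋀[A]^(p + 1) (Ω[A⁄R])))
    (hdA : DeRham.IsDiff (KaehlerDifferential.D R A) dA)
    (hker : LinearMap.ker π ≤ Submodule.span A {ω : Ω[A⁄R] | π ω = 0 ∧
      exteriorPower.map 2 π (dA 1 ((exteriorPower.oneEquiv A (Ω[A⁄R])).symm ω)) = 0}) :
    ∃ d : ∀ p : ℕ, ↥(⋀[A]^p Ω') →ₗ[R] ↥(⋀[A]^(p + 1) Ω'),
      DeRham.IsDiff (π.compDer (KaehlerDifferential.D R A)) d ∧
        ∀ (p : ℕ) (x : ↥(⋀[A]^p (Ω[A⁄R]))),
          d p (exteriorPower.map p π x) = exteriorPower.map (p + 1) π (dA p x) := by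
  classical
  -- F p kills the kernel of ⋀^p π
  have hkill : ∀ (p : ℕ) (x : ↥(⋀[A]^p (Ω[A⁄R]))), exteriorPower.map p π x = 0 →
      F π dA p x = 0 := by
    intro p x hx
    have h1 : x ∈ Nsub π p := ker_le p hπ (LinearMap.mem_ker.2 hx)
    have h2 : x ∈ P π dA p := kill hdA.1 hker p h1
    have := h2 1
    rwa [one_smul] at this
  have hsurj : ∀ p, Function.Surjective ((exteriorPower.map p π).restrictScalars R) :=
    fun p => exteriorPower.map_surjective (n := p) hπ
  have hle : ∀ p, LinearMap.ker ((exteriorPower.map p π).restrictScalars R) ≤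
      LinearMap.ker (F π dA p) := fun p x hx => hkill p x hx
  let d : ∀ p : ℕ, ↥(⋀[A]^p Ω') →ₗ[R] ↥(⋀[A]^(p + 1) Ω') := fun p =>
    ((LinearMap.ker ((exteriorPower.map p π).restrictScalars R)).liftQ (F π dA p) (hle p)) ∘ₗ
      (((exteriorPower.map p π).restrictScalars R).quotKerEquivOfSurjective (hsurj p)).symm.toLinearMap
  have hd : ∀ (p : ℕ) (x : ↥(⋀[A]^p (Ω[A⁄R]))),
      d p (exteriorPower.map p π x) = exteriorPower.map (p + 1) π (dA p x) := by
    intro p x
    have : (((exteriorPower.map p π).restrictScalars R).quotKerEquivOfSurjective (hsurj p)).symm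
        (exteriorPower.map p π x) = Submodule.Quotient.mk x := by
      rw [LinearEquiv.symm_apply_eq]
      rfl
    simp only [d, LinearMap.coe_comp, LinearEquiv.coe_coe, Function.comp_apply, this]
    rfl
  refine ⟨d, ⟨?_, ?_⟩, hd⟩
  · -- the rule
    intro p b₀ b
    have hgen : DeRham.gen (π.compDer (KaehlerDifferential.D R A)) p b₀ b =
        exteriorPower.map p π (DeRham.gen (KaehlerDifferential.D R A) p b₀ b) := by
      unfold DeRham.gen
      rw [map_smul, exteriorPower.map_apply_ιMulti]
      rfl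
    rw [hgen, hd, hdA.1, exteriorPower.map_apply_ιMulti]
    congr 1
    funext i
    refine Fin.cases ?_ (fun j => ?_) i <;> simp
  · -- d ∘ d = 0
    intro p
    apply LinearMap.ext
    intro y
    obtain ⟨x, rfl⟩ := exteriorPower.map_surjective (n := p) hπ y
    rw [LinearMap.comp_apply, hd, hd]
    have := LinearMap.congr_fun (hdA.2 p) x
    rw [LinearMap.comp_apply] at this
    rw [this]
    simp

end Groth.Agent.S15296
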