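import Groth.Statements.S15297
import Mathlib.Tactic
-- import your own Groth.Agent.* helpers here

set_option autoImplicit false
universe u
open DeRham

namespace Groth.Agent.S15297

open exteriorPower in
/-- Let R → A be a ring map and d a de Rham differential of the Kähler differentials of A over R. Then
each d from p-forms to (p+1)-forms, an R-linear map between A-modules, is a differential operator of
order at most 1 relative to R → A: every commutator of d with multiplication by an element of A is
A-linear. -/
theorem result (R A : Type u) [CommRing R] [CommRing A] [Algebra R A]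
    (d : ∀ p : ℕ, ↥(⋀[A]^p (Ω[A⁄R])) →ₗ[R] ↥(⋀[A]^(p + 1) (Ω[A⁄R])))
    (hd : DeRham.IsDiff (KaehlerDifferential.D R A) d) (p : ℕ) :
    Diff16.IsDiffOpLE R A ↥(⋀[A]^p (Ω[A⁄R])) ↥(⋀[A]^(p + 1) (Ω[A⁄R])) 1 (d p) := by
  intro a
  -- the commutator
  set C := Diff16.commutator R A ↥(⋀[A]^p (Ω[A⁄R])) ↥(⋀[A]^(p + 1) (Ω[A⁄R])) (d p) a with hC
  have hCapp : ∀ m, C m = d p (a • m) - a • d p m := by
    intro m
    simp [hC, Diff16.commutator]
  -- value on generators
  have hgen : ∀ (b₀ : A) (b : Fin p → A),
      C (DeRham.gen (KaehlerDifferential.D R A) p b₀ b) =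
        b₀ • ιMulti A (p + 1) (Fin.cons (KaehlerDifferential.D R A a)
          (fun i => KaehlerDifferential.D R A (b i))) := by
    intro b₀ b
    rw [hCapp]
    have h1 : a • DeRham.gen (KaehlerDifferential.D R A) p b₀ b =
        DeRham.gen (KaehlerDifferential.D R A) p (a * b₀) b := by
      simp [DeRham.gen, mul_smul]
    rw [h1, hd.1, hd.1]
    have h2 : (Fin.cons (KaehlerDifferential.D R A (a * b₀))
        (fun i => KaehlerDifferential.D R A (b i)) : Fin (p+1) → Ω[A⁄R]) =
        Function.update (Fin.cons (KaehlerDifferential.D R A b₀)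
        (fun i => KaehlerDifferential.D R A (b i)) : Fin (p+1) → Ω[A⁄R]) 0
          (a • KaehlerDifferential.D R A b₀ + b₀ • KaehlerDifferential.D R A a) := by
      rw [Fin.update_cons_zero, Derivation.leibniz]
    rw [h2, AlternatingMap.map_update_add, AlternatingMap.map_update_smul,
      AlternatingMap.map_update_smul]
    simp only [Fin.update_cons_zero]
    abel
  -- the submodule of good elements
  let S : Submodule A ↥(⋀[A]^p (Ω[A⁄R])) :=
    { carrier := {m | ∀ a' : A, C (a' • m) = a' • C m}
      add_mem' := by
        intro x y hx hy a'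
        simp only [Set.mem_ofPred_eq] at hx hy
        rw [smul_add, map_add, map_add, hx, hy, smul_add]
      zero_mem' := by
        intro a'
        simp
      smul_mem' := by
        intro c x hx a'
        simp only [Set.mem_ofPred_eq] at hx
        rw [← mul_smul, hx, hx, mul_smul] }
  have hS : S = ⊤ := by
    rw [eq_top_iff, ← ιMulti_span_of_span A p (Ω[A⁄R])
      (KaehlerDifferential.span_range_derivation R A), Submodule.span_le]
    rintro _ ⟨v, hv, rfl⟩
    have : ∃ b : Fin p → A, v = fun i => KaehlerDifferential.D R A (b i) := by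
      have : ∀ i, ∃ bi, KaehlerDifferential.D R A bi = v i := fun i => hv ⟨i, rfl⟩
      choose b hb using this
      exact ⟨b, funext fun i => (hb i).symm⟩
    obtain ⟨b, rfl⟩ := this
    intro a'
    have e1 : ιMulti A p (fun i => KaehlerDifferential.D R A (b i)) =
        DeRham.gen (KaehlerDifferential.D R A) p 1 b := by
      simp [DeRham.gen]
    have e2 : a' • ιMulti A p (fun i => KaehlerDifferential.D R A (b i)) =
        DeRham.gen (KaehlerDifferential.D R A) p a' b := by
      simp [DeRham.gen]
    rw [e2, e1, hgen, hgen, one_smul]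
  intro a' m
  have : m ∈ S := by rw [hS]; trivial
  exact this a'

end Groth.Agent.S15297
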