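import Groth.Statements.S15298
import Groth.Agent.Lib.Helper76.PSComplete
import Mathlib.RingTheory.Smooth.AdicCompletion

set_option autoImplicit false
universe u
open CAlg

open Groth.Agent.Lib.Helper76.PSComplete

namespace Groth.Agent.S15298

/-- Let k be a field, A a Noetherian k-algebra and x a non-zero-divisor of A such that A is separated
and complete for the (x)-adic topology, and assume that B = A/xA is formally smooth over k. Then A
is a power series ring over B in the variable x: there is a k-algebra isomorphism e : B[[T]] ≅ A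
with e(T) = x whose reduction modulo x is the constant-coefficient map, i.e. e(f) ≡ f(0) mod x for
every power series f. -/
theorem result (k A : Type u) [Field k]
    [CommRing A] [Algebra k A] [IsNoetherianRing A] (x : A) (hx : x ∈ nonZeroDivisors A)
    [IsAdicComplete (Ideal.span {x}) A] [Algebra.FormallySmooth k (A ⧸ Ideal.span {x})] :
    ∃ e : PowerSeries (A ⧸ Ideal.span {x}) ≃ₐ[k] A,
      e PowerSeries.X = x ∧
      ∀ f : PowerSeries (A ⧸ Ideal.span {x}),
        Ideal.Quotient.mk (Ideal.span {x}) (e f) = PowerSeries.constantCoeff f := by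
  classical
  set I : Ideal A := Ideal.span {x} with hI
  obtain ⟨g, hg⟩ := Algebra.FormallySmooth.exists_mkₐ_comp_eq_of_isAdicComplete (R := k)
    (A := A ⧸ I) (S := A) (I := I) (AlgHom.id k (A ⧸ I))
  have hg' : ∀ y : A ⧸ I, Ideal.Quotient.mk I (g y) = y := fun y => by
    have := DFunLike.congr_fun hg y
    simpa using this
  let _ : Algebra (A ⧸ I) A := g.toRingHom.toAlgebra
  have : IsScalarTower k (A ⧸ I) A := IsScalarTower.of_algebraMap_eq fun r => (g.commutes r).symm
  have halg : ∀ y : A ⧸ I, algebraMap (A ⧸ I) A y = g y := fun _ => rfl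
  have hxI : x ∈ I := Ideal.mem_span_singleton_self x
  have hb : ∀ _ : Unit, (fun _ : Unit => x) () ∈ I := fun _ => hxI
  let ψ : PowerSeries (A ⧸ I) →ₐ[A ⧸ I] A := evC I (fun _ : Unit => x) hb
  have hX : ψ PowerSeries.X = x := evC_X I (fun _ : Unit => x) hb ()
  have hC : ∀ y : A ⧸ I, ψ (PowerSeries.C y) = g y := fun y => by
    have := ψ.commutes y
    rwa [PowerSeries.algebraMap_apply, Algebra.algebraMap_self, RingHom.id_apply, halg] at this
  have hsurj : Function.Surjective ψ := by
    refine evC_surjective I (fun _ : Unit => x) hb ?_ ?_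
    · rw [hI]
      congr 1
      ext y
      simp
    · intro y
      exact ⟨y, by rw [RingHom.comp_apply, halg, hg']⟩
  have hmk : ∀ f : PowerSeries (A ⧸ I), Ideal.Quotient.mk I (ψ f) = PowerSeries.constantCoeff f := by
    intro f
    have h1 : PowerSeries.X ∣ f - PowerSeries.C (PowerSeries.constantCoeff f) := by
      rw [PowerSeries.X_dvd_iff]
      simp
    obtain ⟨h, hh⟩ := h1
    have h2 : f = PowerSeries.C (PowerSeries.constantCoeff f) + PowerSeries.X * h := by
      rw [← hh]; ring
    conv_lhs => rw [h2, map_add, map_mul, hX, hC, map_add, hg']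
    rw [Ideal.Quotient.eq_zero_iff_mem.mpr (Ideal.mul_mem_right _ _ hxI), add_zero]
  have hinj : Function.Injective ψ := by
    rw [injective_iff_map_eq_zero]
    intro f hf
    by_contra hne
    have h1 : PowerSeries.X ^ f.order.toNat * PowerSeries.divXPowOrder f = f :=
      PowerSeries.X_pow_order_mul_divXPowOrder
    rw [← h1, map_mul, map_pow, hX] at hf
    have h2 : ψ (PowerSeries.divXPowOrder f) = 0 := by
      have hxn : x ^ f.order.toNat ∈ nonZeroDivisors A := pow_mem hx _
      exact (mul_left_mem_nonZeroDivisors_eq_zero_iff hxn).mp hf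
    have h3 := hmk (PowerSeries.divXPowOrder f)
    rw [h2, map_zero] at h3
    exact hne (PowerSeries.constantCoeff_divXPowOrder_eq_zero_iff.mp h3.symm)
  refine ⟨AlgEquiv.ofBijective (ψ.restrictScalars k) ⟨hinj, hsurj⟩, hX, hmk⟩

end Groth.Agent.S15298
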