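import Groth.Statements.S15299
import Groth.Agent.Lib.Helper85.DRWeight
import Groth.Agent.Lib.Helper85.DRPoly

set_option autoImplicit false
universe u
open Omega

namespace Groth.Agent.S15299

section helpers

open exteriorPower Groth.Agent.Lib.Helper85.DRCont Groth.Agent.Lib.Helper85.DRWeight

variable {k : Type u} [Field k] {n : ℕ}


/-- the Euler functional. -/
noncomputable def eulMv : (KaehlerDifferential k (MvPolynomial (Fin n) k)) →ₗ[MvPolynomial (Fin n) k] (MvPolynomial (Fin n) k) :=
  (MvPolynomial.mkDerivation k (fun i : Fin n => (MvPolynomial.X i : (MvPolynomial (Fin n) k)))).liftKaehlerDifferential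

theorem eulMv_D (f : (MvPolynomial (Fin n) k)) :
    eulMv (KaehlerDifferential.D k (MvPolynomial (Fin n) k) f) =
      MvPolynomial.mkDerivation k (fun i : Fin n => (MvPolynomial.X i : (MvPolynomial (Fin n) k))) f := by
  rw [eulMv, Derivation.liftKaehlerDifferential_comp_D]

theorem eulMv_D_monomial (s : Fin n →₀ ℕ) (c : k) :
    eulMv (KaehlerDifferential.D k (MvPolynomial (Fin n) k) (MvPolynomial.monomial s c)) =
      (s.sum fun _ j => j) • MvPolynomial.monomial s c := by
  classical
  rw [eulMv_D, MvPolynomial.mkDerivation_monomial]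
  have h : ∀ i ∈ s.support, (MvPolynomial.monomial (s - Finsupp.single i 1) ((s i : ℕ) : k) : (MvPolynomial (Fin n) k)) •
      (MvPolynomial.X i : (MvPolynomial (Fin n) k)) = (s i) • MvPolynomial.monomial s (1 : k) := by
    intro i hi
    have hi' : 1 ≤ s i := Nat.one_le_iff_ne_zero.mpr (Finsupp.mem_support_iff.mp hi)
    rw [smul_eq_mul, MvPolynomial.X, MvPolynomial.monomial_mul, mul_one]
    have : s - Finsupp.single i 1 + Finsupp.single i 1 = s := by
      ext j
      by_cases hj : j = i
      · subst hj; simp; omega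
      · simp [Finsupp.single_apply, Ne.symm hj]
    rw [this, MvPolynomial.smul_monomial, nsmul_eq_mul, mul_one]
  rw [Finsupp.sum, Finset.sum_congr rfl h, ← Finset.sum_smul, Finsupp.sum, smul_comm,
    MvPolynomial.smul_monomial, smul_eq_mul, mul_one]

variable (d : (ExteriorAlgebra (MvPolynomial (Fin n) k) (KaehlerDifferential k (MvPolynomial (Fin n) k))) →ₗ[k] (ExteriorAlgebra (MvPolynomial (Fin n) k) (KaehlerDifferential k (MvPolynomial (Fin n) k))))
    (hdeg : ∀ (p : ℕ) (ω : (ExteriorAlgebra (MvPolynomial (Fin n) k) (KaehlerDifferential k (MvPolynomial (Fin n) k)))), ω ∈ ExteriorAlgebra.exteriorPower (MvPolynomial (Fin n) k) p (KaehlerDifferential k (MvPolynomial (Fin n) k)) →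
        d ω ∈ ExteriorAlgebra.exteriorPower (MvPolynomial (Fin n) k) (p + 1) (KaehlerDifferential k (MvPolynomial (Fin n) k)))

/-- the degreewise family. -/
noncomputable def dp (p : ℕ) : ↥(⋀[MvPolynomial (Fin n) k]^p (KaehlerDifferential k (MvPolynomial (Fin n) k))) →ₗ[k] ↥(⋀[MvPolynomial (Fin n) k]^(p + 1) (KaehlerDifferential k (MvPolynomial (Fin n) k))) where
  toFun x := ⟨d x.1, hdeg p x.1 x.2⟩
  map_add' x y := by
    apply Subtype.ext
    simp
  map_smul' c x := by
    apply Subtype.ext
    simp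

theorem dp_coe (p : ℕ) (x : ↥(⋀[MvPolynomial (Fin n) k]^p (KaehlerDifferential k (MvPolynomial (Fin n) k)))) : ((dp d hdeg p x : ↥(⋀[MvPolynomial (Fin n) k]^(p + 1) (KaehlerDifferential k (MvPolynomial (Fin n) k)))) : (ExteriorAlgebra (MvPolynomial (Fin n) k) (KaehlerDifferential k (MvPolynomial (Fin n) k)))) = d x.1 := rfl

variable (h0 : ∀ a : (MvPolynomial (Fin n) k), d (algebraMap (MvPolynomial (Fin n) k) _ a) = ExteriorAlgebra.ι (MvPolynomial (Fin n) k) (KaehlerDifferential.D k (MvPolynomial (Fin n) k) a))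
    (hder : ∀ (p : ℕ) (ω η : (ExteriorAlgebra (MvPolynomial (Fin n) k) (KaehlerDifferential k (MvPolynomial (Fin n) k)))), ω ∈ ExteriorAlgebra.exteriorPower (MvPolynomial (Fin n) k) p (KaehlerDifferential k (MvPolynomial (Fin n) k)) →
        d (ω * η) = d ω * η + (-1) ^ p * ω * d η)
    (hdd : ∀ ω, d (d ω) = 0)

include h0 hder hdd in
theorem d_ιMulti (p : ℕ) (b : Fin p → (MvPolynomial (Fin n) k)) :
    d (ExteriorAlgebra.ιMulti (MvPolynomial (Fin n) k) p (fun i => KaehlerDifferential.D k (MvPolynomial (Fin n) k) (b i))) = 0 := by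
  induction p with
  | zero =>
    rw [ExteriorAlgebra.ιMulti_zero_apply]
    have : (1 : (ExteriorAlgebra (MvPolynomial (Fin n) k) (KaehlerDifferential k (MvPolynomial (Fin n) k)))) = algebraMap (MvPolynomial (Fin n) k) (ExteriorAlgebra (MvPolynomial (Fin n) k) (KaehlerDifferential k (MvPolynomial (Fin n) k))) 1 := (map_one _).symm
    rw [this, h0, Derivation.map_one_eq_zero, map_zero]
  | succ p ih =>
    rw [ExteriorAlgebra.ιMulti_succ_apply]
    have h1 : ExteriorAlgebra.ι (MvPolynomial (Fin n) k) (KaehlerDifferential.D k (MvPolynomial (Fin n) k) (b 0)) ∈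
        ExteriorAlgebra.exteriorPower (MvPolynomial (Fin n) k) 1 (KaehlerDifferential k (MvPolynomial (Fin n) k)) := by
      rw [ExteriorAlgebra.exteriorPower, pow_one]
      exact ⟨_, rfl⟩
    rw [hder 1 _ _ h1]
    have h2 : d (ExteriorAlgebra.ι (MvPolynomial (Fin n) k) (KaehlerDifferential.D k (MvPolynomial (Fin n) k) (b 0))) = 0 := by
      rw [← h0, hdd]
    have h3 : d (ExteriorAlgebra.ιMulti (MvPolynomial (Fin n) k) p (Matrix.vecTail fun i => KaehlerDifferential.D k (MvPolynomial (Fin n) k) (b i))) = 0 :=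
      ih (fun i => b i.succ)
    rw [h2, h3, zero_mul, mul_zero, add_zero]

include h0 hder hdd in
theorem dp_isRule : DeRham.IsRule (KaehlerDifferential.D k (MvPolynomial (Fin n) k)) (dp d hdeg) := by
  intro p b₀ b
  apply Subtype.ext
  rw [dp_coe, exteriorPower.ιMulti_apply_coe, ExteriorAlgebra.ιMulti_succ_apply]
  unfold DeRham.gen
  rw [Submodule.coe_smul, exteriorPower.ιMulti_apply_coe, Algebra.smul_def]
  have hz : algebraMap (MvPolynomial (Fin n) k) (ExteriorAlgebra (MvPolynomial (Fin n) k) (KaehlerDifferential k (MvPolynomial (Fin n) k))) b₀ ∈ ExteriorAlgebra.exteriorPower (MvPolynomial (Fin n) k) 0 (KaehlerDifferential k (MvPolynomial (Fin n) k)) := by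
    rw [ExteriorAlgebra.exteriorPower, pow_zero, Submodule.mem_one]
    exact ⟨b₀, rfl⟩
  rw [hder 0 _ _ hz, h0, d_ιMulti d h0 hder hdd, mul_zero, add_zero]
  rfl

include hdd in
theorem dp_dd (p : ℕ) : dp d hdeg (p + 1) ∘ₗ dp d hdeg p = 0 := by
  ext x
  simp only [LinearMap.comp_apply, LinearMap.zero_apply, dp_coe, ZeroMemClass.coe_zero]
  exact hdd _

variable [CharZero k]

include h0 hder hdd in
theorem decompMv (p : ℕ) (x : ↥(⋀[MvPolynomial (Fin n) k]^(p + 1) (KaehlerDifferential k (MvPolynomial (Fin n) k)))) :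
    ∃ f : ℕ →₀ ↥(⋀[MvPolynomial (Fin n) k]^(p + 1) (KaehlerDifferential k (MvPolynomial (Fin n) k))), f 0 = 0 ∧
      (∀ w, Nop (dp d hdeg) eulMv (p + 1) (f w) = (w : k) • f w) ∧ x = f.sum (fun _ v => v) := by
  classical
  have hR := dp_isRule d hdeg h0 hder hdd
  refine span_gen_induction (KaehlerDifferential.D k (MvPolynomial (Fin n) k)) (KaehlerDifferential.span_range_derivation k (MvPolynomial (Fin n) k))
    (fun b => ∃ (s : Fin n →₀ ℕ) (c : k), b = MvPolynomial.monomial s c)
    (fun Q hQ hadd b => MvPolynomial.induction_on' b (fun s c => hQ _ ⟨s, c, rfl⟩) hadd)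
    (p + 1) (fun x => ∃ f : ℕ →₀ ↥(⋀[MvPolynomial (Fin n) k]^(p + 1) (KaehlerDifferential k (MvPolynomial (Fin n) k))), f 0 = 0 ∧
      (∀ w, Nop (dp d hdeg) eulMv (p + 1) (f w) = (w : k) • f w) ∧ x = f.sum (fun _ v => v)) ?_ ?_ ?_ x
  · exact ⟨0, by simp, by simp, by simp⟩
  · intro x y hx hy
    obtain ⟨f, hf0, hfN, hx⟩ := hx
    obtain ⟨g, hg0, hgN, hy⟩ := hy
    refine ⟨f + g, by simp [hf0, hg0], fun w => ?_, ?_⟩
    · rw [Finsupp.add_apply, map_add, hfN, hgN, smul_add]
    · rw [Finsupp.sum_add_index' (fun _ => rfl) (fun _ _ _ => rfl), hx, hy]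
  · intro b₀ b hb₀ hb
    obtain ⟨s₀, c₀, rfl⟩ := hb₀
    choose s c hsc using hb
    set g := DeRham.gen (KaehlerDifferential.D k (MvPolynomial (Fin n) k)) (p + 1) (MvPolynomial.monomial s₀ c₀) b with hg
    set w := (s₀.sum fun _ j => j) + ∑ i, ((s i).sum fun _ j => j) with hw
    have hN : Nop (dp d hdeg) eulMv (p + 1) g = (w : k) • g := by
      rw [hg, Nop_gen_eig (KaehlerDifferential.D k (MvPolynomial (Fin n) k)) (dp d hdeg) eulMv hR (p + 1) _ _
        (s₀.sum fun _ j => j) (fun i => (s i).sum fun _ j => j) (eulMv_D_monomial s₀ c₀)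
        (fun i => by rw [hsc i, eulMv_D_monomial]), Nat.cast_smul_eq_nsmul]
    by_cases hw0 : w = 0
    · -- then `b 0` is constant, so the generator vanishes
      have h1 : ((s 0).sum fun _ j => j) = 0 := by
        have h2 : ∑ i, ((s i).sum fun _ j => j) = 0 := by omega
        exact (Finset.sum_eq_zero_iff.mp h2) 0 (Finset.mem_univ 0)
      have h3 : s 0 = 0 := by
        ext j
        by_contra hj
        have hj' : j ∈ (s 0).support := Finsupp.mem_support_iff.mpr hj
        have := (Finset.sum_eq_zero_iff.mp h1) j hj'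
        exact hj this
      have h4 : KaehlerDifferential.D k (MvPolynomial (Fin n) k) (b 0) = 0 := by
        rw [hsc 0, h3]
        have : (MvPolynomial.monomial (0 : Fin n →₀ ℕ) (c 0) : (MvPolynomial (Fin n) k)) = algebraMap k (MvPolynomial (Fin n) k) (c 0) := rfl
        rw [this, Derivation.map_algebraMap]
      have hg0 : g = 0 := by
        rw [hg]
        unfold DeRham.gen
        rw [AlternatingMap.map_coord_zero _ 0 h4, smul_zero]
      exact ⟨0, by simp, by simp, by simp [hg0]⟩
    · refine ⟨Finsupp.single w g, ?_, fun v => ?_, ?_⟩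
      · rw [Finsupp.single_apply, if_neg hw0]
      · by_cases hwe : w = v
        · subst hwe
          rw [Finsupp.single_eq_same, hN]
        · rw [Finsupp.single_apply, if_neg hwe, map_zero, smul_zero]
      · rw [Finsupp.sum_single_index rfl]

end helpers

/-- Let k be a field of characteristic zero, A = k[x_1, …, x_n] and Ω = Ω_{A/k}. Let d be a k-linear
endomorphism of the exterior algebra ⋀_A Ω which agrees with the universal derivation on A, sends
⋀^p Ω into ⋀^(p+1) Ω, is a graded derivation and satisfies d ∘ d = 0 (these properties characterise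
the de Rham differential). Then the de Rham complex 0 → k → A → Ω → ⋀^2 Ω → ⋯ → ⋀^n Ω → 0 is exact:
an element of A with d a = 0 is a constant, and every d-closed element of ⋀^(p+1) Ω is d of some
element of ⋀^p Ω. -/
theorem result (k : Type u) [Field k] [CharZero k] (n : ℕ)
    (d : ExteriorAlgebra (MvPolynomial (Fin n) k) (KaehlerDifferential k (MvPolynomial (Fin n) k)) →ₗ[k]
      ExteriorAlgebra (MvPolynomial (Fin n) k) (KaehlerDifferential k (MvPolynomial (Fin n) k)))
    (h0 : ∀ a : MvPolynomial (Fin n) k,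
      d (algebraMap (MvPolynomial (Fin n) k) _ a) =
        ExteriorAlgebra.ι (MvPolynomial (Fin n) k) (KaehlerDifferential.D k (MvPolynomial (Fin n) k) a))
    (hdeg : ∀ (p : ℕ) (ω : ExteriorAlgebra (MvPolynomial (Fin n) k) (KaehlerDifferential k (MvPolynomial (Fin n) k))),
      ω ∈ ExteriorAlgebra.exteriorPower (MvPolynomial (Fin n) k) p (KaehlerDifferential k (MvPolynomial (Fin n) k)) →
        d ω ∈ ExteriorAlgebra.exteriorPower (MvPolynomial (Fin n) k) (p + 1) (KaehlerDifferential k (MvPolynomial (Fin n) k)))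
    (hder : ∀ (p : ℕ) (ω η : ExteriorAlgebra (MvPolynomial (Fin n) k) (KaehlerDifferential k (MvPolynomial (Fin n) k))),
      ω ∈ ExteriorAlgebra.exteriorPower (MvPolynomial (Fin n) k) p (KaehlerDifferential k (MvPolynomial (Fin n) k)) →
        d (ω * η) = d ω * η + (-1) ^ p * ω * d η)
    (hdd : ∀ ω, d (d ω) = 0) :
    (∀ a : MvPolynomial (Fin n) k, d (algebraMap (MvPolynomial (Fin n) k) _ a) = 0 →
        ∃ c : k, a = MvPolynomial.C c) ∧
    ∀ (p : ℕ) (ω : ExteriorAlgebra (MvPolynomial (Fin n) k) (KaehlerDifferential k (MvPolynomial (Fin n) k))),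
      ω ∈ ExteriorAlgebra.exteriorPower (MvPolynomial (Fin n) k) (p + 1) (KaehlerDifferential k (MvPolynomial (Fin n) k)) →
        d ω = 0 →
          ∃ θ ∈ ExteriorAlgebra.exteriorPower (MvPolynomial (Fin n) k) p (KaehlerDifferential k (MvPolynomial (Fin n) k)),
            d θ = ω := by
  classical
  refine ⟨?_, ?_⟩
  · intro a ha
    rw [h0] at ha
    have hD : KaehlerDifferential.D k (MvPolynomial (Fin n) k) a = 0 := by
      exact (ExteriorAlgebra.ι_inj (MvPolynomial (Fin n) k)
        (KaehlerDifferential.D k (MvPolynomial (Fin n) k) a) 0).mp (by rw [ha, map_zero])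
    have hE : MvPolynomial.mkDerivation k (fun i : Fin n => (MvPolynomial.X i : MvPolynomial (Fin n) k)) a = 0 := by
      rw [← eulMv_D, hD, map_zero]
    refine ⟨MvPolynomial.coeff 0 a, ?_⟩
    ext m
    rw [MvPolynomial.coeff_C]
    by_cases hm : 0 = m
    · subst hm; simp
    · rw [if_neg hm]
      -- coefficient of E a at m is |m| * coeff m a
      have hsum : MvPolynomial.mkDerivation k (fun i : Fin n => (MvPolynomial.X i : MvPolynomial (Fin n) k)) a =
          ∑ v ∈ a.support, (v.sum fun _ j => j) • MvPolynomial.monomial v (MvPolynomial.coeff v a) := by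
        conv_lhs => rw [a.as_sum]
        rw [map_sum]
        apply Finset.sum_congr rfl
        intro v _
        rw [← eulMv_D, eulMv_D_monomial]
      have hc := congrArg (MvPolynomial.coeff m) hE
      rw [hsum, MvPolynomial.coeff_sum, MvPolynomial.coeff_zero] at hc
      by_cases hms : m ∈ a.support
      · rw [Finset.sum_eq_single m] at hc
        · rw [MvPolynomial.coeff_smul, MvPolynomial.coeff_monomial, if_pos rfl, nsmul_eq_mul] at hc
          rcases mul_eq_zero.mp hc with h | h
          · exfalso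
            have h' : (m.sum fun _ j => j) = 0 := by exact_mod_cast h
            apply hm
            ext j
            by_contra hj
            have hj' : j ∈ m.support := Finsupp.mem_support_iff.mpr (Ne.symm hj)
            exact (Ne.symm hj) ((Finset.sum_eq_zero_iff.mp h') j hj')
          · exact h
        · intro v _ hv
          rw [MvPolynomial.coeff_smul, MvPolynomial.coeff_monomial, if_neg hv, smul_zero]
        · intro h; exact absurd hms h
      · exact MvPolynomial.notMem_support_iff.mp hms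
  · intro p ω hω hdω
    set y : ↥(⋀[MvPolynomial (Fin n) k]^(p + 1) (KaehlerDifferential k (MvPolynomial (Fin n) k))) :=
      ⟨ω, hω⟩ with hy
    obtain ⟨f, hf0, hfN, hyf⟩ := decompMv d hdeg h0 hder hdd p y
    have hddp := dp_dd d hdeg hdd
    obtain ⟨P, hP⟩ := Groth.Agent.Lib.Helper85.DRPoly.poly_trick
      (Groth.Agent.Lib.Helper85.DRWeight.Nop (dp d hdeg) eulMv (p + 1)) f.support (fun w hw => by
        rw [Finsupp.mem_support_iff] at hw
        rcases w with _ | w
        · exact absurd hf0 hw
        · omega)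
    have h := hP 0 (fun w => f w) (map_zero _) (fun w _ => hfN w)
    have hs : f.sum (fun _ v => v) = ∑ w ∈ f.support, f w := rfl
    rw [zero_add, ← hs, ← hyf] at h
    set y' := Polynomial.aeval (Groth.Agent.Lib.Helper85.DRWeight.Nop (dp d hdeg) eulMv (p + 1)) P y
      with hy'
    have hdy : dp d hdeg (p + 1) y = 0 := by
      apply Subtype.ext
      rw [dp_coe]
      exact hdω
    have hdy' : dp d hdeg (p + 1) y' = 0 := by
      rw [hy', Groth.Agent.Lib.Helper85.DRPoly.aeval_intertwine _
        (Groth.Agent.Lib.Helper85.DRWeight.Nop (dp d hdeg) eulMv (p + 2)) (dp d hdeg (p + 1))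
        (fun v => Groth.Agent.Lib.Helper85.DRWeight.d_Nop (dp d hdeg) eulMv hddp (p + 1) v) P y,
        hdy, map_zero]
    rw [Groth.Agent.Lib.Helper85.DRWeight.Nop_succ_apply, hdy', map_zero, add_zero] at h
    refine ⟨(Groth.Agent.Lib.Helper85.DRCont.cont eulMv p y').1,
      (Groth.Agent.Lib.Helper85.DRCont.cont eulMv p y').2, ?_⟩
    have := congrArg Subtype.val h
    rw [dp_coe] at this
    exact this.symm

end Groth.Agent.S15299
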