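import Groth.Statements.S15301
import Groth.Agent.Lib.Helper68.HLimSeq
import Groth.Agent.Lib.Helper68.RlimMilnor3
import Groth.Agent.Lib.Helper68.DerProdGroth
import Groth.Agent.Lib.Helper68.TruncRlim2
import Groth.Agent.Lib.Helper6.DerSmall

set_option autoImplicit false
universe u
open HomAlg3

namespace Groth.Agent.S15301

open CategoryTheory CategoryTheory.Limits TopologicalSpace Opposite in
/-- For the functor of sections over an open U, let (F_n)_n be a tower of sheaves of abelian groups on a
topological space X, indexed by the natural numbers, with limit sheaf lim F_n, and let B be a basis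
of opens of X such that for every V in B (a) every transition map F_{n+1}(V) → F_n(V) is surjective
and (b) every H^i(V, F_n) with i > 0 vanishes. Then for every open U and every i = j + 1 ≥ 1 there
is a short exact sequence 0 → lim¹_n H^j(U, F_n) → H^i(U, lim F_n) → lim_n H^i(U, F_n) → 0: every
family of classes in the H^i(U, F_n) compatible under the transition maps comes from a class on lim
F_n, and the kernel of H^i(U, lim F_n) → ∏_n H^i(U, F_n) is isomorphic to lim¹ of the tower (H^j(U,
F_n))_n (existence of an isomorphism only). In particular the comparison map is injective as soon as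
that lim¹ vanishes. (The published statement is for any functor T on abelian sheaves commuting with
products, such as Γ, Γ_Y, f_*; this row is the case T = Γ(U, −).) -/
theorem result {X : TopCat.{u}} (F : ℕᵒᵖ ⥤ CohTop.Ab X)
    (B : Set (Opens X)) (hB : Opens.IsBasis B)
    (hsurj : ∀ V ∈ B, ∀ n : ℕ,
      Function.Surjective ((F.map (homOfLE (Nat.le_succ n)).op).hom.app (op V)).hom)
    (hvan : ∀ V ∈ B, ∀ (n i : ℕ), 0 < i → Subsingleton (CohTop.HU (F.obj (op n)) i V))
    (U : Opens X) (i j : ℕ) (hij : j + 1 = i) :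
    (∀ ξ : ∀ n : ℕ, CohTop.HU (F.obj (op n)) i U,
      (∀ n, CohTop.HUmap (F.map (homOfLE (Nat.le_succ n)).op) i U (ξ (n + 1)) = ξ n) →
        ∃ η : CohTop.HU (limit F) i U, ∀ n, CohTop.HUmap (limit.π F (op n)) i U η = ξ n) ∧
    Nonempty ((AddMonoidHom.pi fun n : ℕ => CohTop.HUmap (limit.π F (op n)) i U).ker ≃+
      Formal2.limOne (fun n : ℕ => CohTop.HU (F.obj (op n)) j U)
        (fun n : ℕ => CohTop.HUmap (F.map (homOfLE (Nat.le_succ n)).op) j U)) := by
  classical
  let _ : HasDerivedCategory.{u} (CohTop.Ab X) :=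
    Groth.Agent.Lib.Helper6.DerSmall.hasDerivedCategory _
  let Fn : ℕ → CohTop.Ab X := fun n => F.obj (op n)
  let t : ∀ n, Fn (n + 1) ⟶ Fn n := fun n => F.map (homOfLE (Nat.le_succ n)).op
  have : HasProduct (Groth.Agent.Lib.Helper68.DerLimSh.KK Fn) :=
    Groth.Agent.Lib.Helper68.DerProd.hasProduct _
  -- the comparison of diagrams
  let α : F ⟶ CohCx.opSequence Fn t := NatTrans.ofOpSequence (fun n => 𝟙 _) (fun n => by
    have h1 : (CohCx.opSequence Fn t).map (homOfLE (n.le_add_right 1)).op = t n :=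
      Functor.ofOpSequence_map_homOfLE_succ t n
    exact (Category.comp_id _).trans (h1.symm.trans (Category.id_comp _).symm))
  have : IsIso α := by
    have : ∀ k, IsIso (α.app k) := fun k => by
      change IsIso (𝟙 _)
      infer_instance
    exact NatIso.isIso_of_isIso_app α
  let e : limit F ≅ Groth.Agent.Lib.Helper68.DerLimSh.Flim Fn t :=
    HasLimit.isoOfNatIso (asIso α)
  have he : ∀ n, e.hom ≫ Groth.Agent.Lib.Helper68.DerLimSh.proj Fn t n = limit.π F (op n) := by
    intro n
    have h := HasLimit.isoOfNatIso_hom_π (asIso α) (op n)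
    refine h.trans ?_
    exact Category.comp_id _
  have hL := Groth.Agent.Lib.Helper68.HLimSeq.isRlimVia_of_iso_Flim Fn t B
    (Groth.Agent.Lib.Helper68.DerLimSh.hB_site B hB)
    (fun V hV p n => hvan V hV n (p + 1) (by omega))
    (fun V hV => Groth.Agent.Lib.Helper68.TruncRlim.limOneIsZero_of_surjective _ _
      (fun k => hsurj V hV k))
    (fun n => limit.π F (op n)) e he
  let A : CohTop.Ab X := CohCx.freeSheaf (Opens.grothendieckTopology X) U
  refine ⟨?_, ?_⟩
  · intro ξ hξ
    exact Groth.Agent.Lib.Helper68.HLimSeq.exists_ext Fn t _ hL A i ξ hξ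
  · let SA := (DerivedCategory.singleFunctor (CohTop.Ab X) 0).obj A
    let eG : ∀ n : ℕ, CohTop.HU (F.obj (op n)) j U ≃+
        (SA ⟶ ((DerivedCategory.singleFunctor (CohTop.Ab X) 0).obj (Fn n))⟦(j : ℤ)⟧) :=
      fun n => Abelian.Ext.homAddEquiv (X := A) (Y := Fn n) (n := j)
    let eM : CohTop.HU (limit F) i U ≃+
        (SA ⟶ ((DerivedCategory.singleFunctor (CohTop.Ab X) 0).obj (limit F))⟦(i : ℤ)⟧) :=
      Abelian.Ext.homAddEquiv (X := A) (Y := limit F) (n := i)
    let eN : ∀ n : ℕ, CohTop.HU (F.obj (op n)) i U ≃+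
        (SA ⟶ ((DerivedCategory.singleFunctor (CohTop.Ab X) 0).obj (Fn n))⟦(i : ℤ)⟧) :=
      fun n => Abelian.Ext.homAddEquiv (X := A) (Y := Fn n) (n := i)
    have hG : ∀ (n : ℕ) (x : CohTop.HU (F.obj (op (n + 1))) j U),
        eG n (CohTop.HUmap (F.map (homOfLE (Nat.le_succ n)).op) j U x) =
          eG (n + 1) x ≫ (Groth.Agent.Lib.Helper68.DerLimSh.tt Fn t n)⟦(j : ℤ)⟧' :=
      fun n x => Groth.Agent.Lib.Helper68.HLimSeq.hom_comp_mk₀ j (t n) x
    have hM : ∀ (n : ℕ) (y : CohTop.HU (limit F) i U),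
        eN n (CohTop.HUmap (limit.π F (op n)) i U y) =
          eM y ≫ ((DerivedCategory.singleFunctor (CohTop.Ab X) 0).map (limit.π F (op n)))⟦(i : ℤ)⟧' :=
      fun n y => Groth.Agent.Lib.Helper68.HLimSeq.hom_comp_mk₀ i (limit.π F (op n)) y
    exact Groth.Agent.Lib.Helper68.RlimMilnor.nonempty_ker_equiv_limOne
      (Groth.Agent.Lib.Helper68.DerLimSh.KK Fn) (Groth.Agent.Lib.Helper68.DerLimSh.tt Fn t)
      ((DerivedCategory.singleFunctor (CohTop.Ab X) 0).obj (limit F))
      (fun n => (DerivedCategory.singleFunctor (CohTop.Ab X) 0).map (limit.π F (op n))) hL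
      SA (j : ℤ) (i : ℤ) (by omega)
      (G := fun n : ℕ => CohTop.HU (F.obj (op n)) j U)
      (M := CohTop.HU (limit F) i U)
      (N := fun n : ℕ => CohTop.HU (F.obj (op n)) i U)
      (fun n : ℕ => CohTop.HUmap (F.map (homOfLE (Nat.le_succ n)).op) j U)
      (fun n : ℕ => CohTop.HUmap (limit.π F (op n)) i U)
      eG eM (fun n => (eN n).toAddMonoidHom)
      (fun n => (eN n).injective) hG hM

end Groth.Agent.S15301
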