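import Groth.Statements.S15307
import Groth.Agent.Lib.Helper6.TowerLim
import Groth.Agent.Lib.Helper6.DimShift

set_option autoImplicit false
universe u
open HomAlg3

namespace Groth.Agent.S15307

open CategoryTheory CategoryTheory.Limits in
/-- For abelian groups, for an inverse system (A_n) of abelian groups indexed by the natural numbers,
the right derived functors lim^(i) A_n of the inverse limit vanish for every i ≥ 2. (The two
instance hypotheses, enough injectives in the category of towers of abelian groups and additivity of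
the limit functor, always hold. The published statement is made in an axiomatic setting that also
covers quasi-coherent sheaves; this row is the case of abelian groups.) -/
theorem result
    [EnoughInjectives (ℕᵒᵖ ⥤ AddCommGrpCat.{u})]
    [(lim : (ℕᵒᵖ ⥤ AddCommGrpCat.{u}) ⥤ AddCommGrpCat.{u}).Additive]
    (A : ℕᵒᵖ ⥤ AddCommGrpCat.{u}) (i : ℕ) (hi : 2 ≤ i) :
    IsZero (((lim : (ℕᵒᵖ ⥤ AddCommGrpCat.{u}) ⥤ AddCommGrpCat.{u}).rightDerived i).obj A) := by
  open Groth.Agent.Lib.Helper6 in
  have hlim : PreservesFiniteLimits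
      (lim : (ℕᵒᵖ ⥤ AddCommGrpCat.{u}) ⥤ AddCommGrpCat.{u}) := by
    have : (lim : (ℕᵒᵖ ⥤ AddCommGrpCat.{u}) ⥤ AddCommGrpCat.{u}).IsRightAdjoint :=
      ⟨_, ⟨constLimAdj⟩⟩
    infer_instance
  exact DimShift.isZero_rightDerived_of_two_le
    (lim : (ℕᵒᵖ ⥤ AddCommGrpCat.{u}) ⥤ AddCommGrpCat.{u}) TowerLim.SurjTrans
    (fun S hS hI => TowerLim.surjTrans_X₃ S hS (@TowerLim.surjTrans_of_injective S.X₂ hI))
    (fun S hS hP => TowerLim.epi_lim_map_g S hS hP) i hi A

end Groth.Agent.S15307
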