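import Groth.Statements.S15315
-- import your own Groth.Agent.* helpers here

set_option autoImplicit false
universe u
open ArLef

namespace Groth.Agent.S15315

/-- For a Noetherian commutative ring A, elements a, b with a a non-zero-divisor on A/(b), and an ideal
I, one has length(A/(aI + bA)) = length(A/(a, b)) + length(A/(I + bA)) as extended natural numbers;
in particular when two of the three quotients have finite length so does the third. -/
theorem result (A : Type u) [CommRing A] [IsNoetherianRing A] (a b : A) (I : Ideal A)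
    (ha : IsSMulRegular (A ⧸ Ideal.span ({b} : Set A)) a) :
    Module.length A (A ⧸ (Ideal.span {a} * I ⊔ Ideal.span {b})) =
      Module.length A (A ⧸ Ideal.span ({a, b} : Set A)) + Module.length A (A ⧸ (I ⊔ Ideal.span {b})) := by
  -- abbreviations
  have hbJ : b ∈ Ideal.span {a} * I ⊔ Ideal.span {b} :=
    Ideal.mem_sup_right (Ideal.subset_span rfl)
  have hKJ : (I ⊔ Ideal.span {b}) ≤
      Submodule.comap (LinearMap.lsmul A A a) (Ideal.span {a} * I ⊔ Ideal.span {b}) := by
    intro x hx
    obtain ⟨i, hi, y, hy, rfl⟩ := Submodule.mem_sup.1 hx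
    rw [Submodule.mem_comap, LinearMap.lsmul_apply, smul_eq_mul, mul_add]
    refine add_mem (Ideal.mem_sup_left (Ideal.mul_mem_mul (Ideal.subset_span rfl) hi)) ?_
    exact Ideal.mem_sup_right (Ideal.mul_mem_left _ _ hy)
  have hJJ' : (Ideal.span {a} * I ⊔ Ideal.span {b}) ≤
      Submodule.comap (LinearMap.id : A →ₗ[A] A) (Ideal.span ({a, b} : Set A)) := by
    rw [Submodule.comap_id]
    refine sup_le ?_ ?_
    · have h1 : Ideal.span ({a} : Set A) ≤ Ideal.span ({a, b} : Set A) :=
        Ideal.span_mono (Set.singleton_subset_iff.2 (Set.mem_insert _ _))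
      exact (Ideal.mul_le_left (I := Ideal.span ({a} : Set A)) (J := I)).trans h1
    · exact Ideal.span_mono (Set.singleton_subset_iff.2 (Set.mem_insert_of_mem _ rfl))
  let f : (A ⧸ (I ⊔ Ideal.span {b})) →ₗ[A] (A ⧸ (Ideal.span {a} * I ⊔ Ideal.span {b})) :=
    Submodule.mapQ _ _ (LinearMap.lsmul A A a) hKJ
  let g : (A ⧸ (Ideal.span {a} * I ⊔ Ideal.span {b})) →ₗ[A] (A ⧸ Ideal.span ({a, b} : Set A)) :=
    Submodule.mapQ _ _ LinearMap.id hJJ'
  have hf : Function.Injective f := by
    rw [← LinearMap.ker_eq_bot, LinearMap.ker_eq_bot']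
    intro x hx
    obtain ⟨x, rfl⟩ := Submodule.Quotient.mk_surjective _ x
    change Submodule.Quotient.mk (a • x) = 0 at hx
    rw [Submodule.Quotient.mk_eq_zero, smul_eq_mul] at hx
    rw [Submodule.Quotient.mk_eq_zero]
    obtain ⟨u, hu, v, hv, huv⟩ := Submodule.mem_sup.1 hx
    -- u ∈ (a) * I : u = a * i with i ∈ I
    have hu' : ∃ i ∈ I, u = a * i := by
      rw [Ideal.mem_span_singleton_mul] at hu
      obtain ⟨i, hi, rfl⟩ := hu
      exact ⟨i, hi, rfl⟩
    obtain ⟨i, hi, rfl⟩ := hu'
    obtain ⟨y, rfl⟩ := Ideal.mem_span_singleton'.1 hv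
    -- a * (x - i) = y * b
    have h1 : a * (x - i) ∈ Ideal.span ({b} : Set A) := by
      have : a * (x - i) = y * b := by rw [mul_sub, ← huv]; ring
      rw [this]
      exact Ideal.mul_mem_left _ _ (Ideal.subset_span rfl)
    have h2 : (Ideal.Quotient.mk (Ideal.span ({b} : Set A)) (x - i)) = 0 := by
      apply ha
      change a • (Ideal.Quotient.mk (Ideal.span ({b} : Set A)) (x - i)) = a • 0
      rw [smul_zero, ← Ideal.Quotient.mk_eq_mk, ← Submodule.Quotient.mk_smul, smul_eq_mul]
      exact (Submodule.Quotient.mk_eq_zero _).2 h1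
    rw [Ideal.Quotient.eq_zero_iff_mem] at h2
    have : x = i + (x - i) := by ring
    rw [this]
    exact add_mem (Ideal.mem_sup_left hi) (Ideal.mem_sup_right h2)
  have hg : Function.Surjective g := by
    intro y
    obtain ⟨y, rfl⟩ := Submodule.Quotient.mk_surjective _ y
    exact ⟨Submodule.Quotient.mk y, rfl⟩
  have H : Function.Exact f g := by
    intro y
    obtain ⟨y, rfl⟩ := Submodule.Quotient.mk_surjective _ y
    change Submodule.Quotient.mk y = 0 ↔ _
    rw [Submodule.Quotient.mk_eq_zero]
    constructor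
    · intro hy
      obtain ⟨u, v, rfl⟩ := Ideal.mem_span_pair.1 hy
      refine ⟨Submodule.Quotient.mk u, ?_⟩
      change Submodule.Quotient.mk (a • u) = _
      rw [Submodule.Quotient.eq, smul_eq_mul]
      have : a * u - (u * a + v * b) = -(v * b) := by ring
      rw [this]
      exact neg_mem (Ideal.mul_mem_left _ _ hbJ)
    · rintro ⟨x, hx⟩
      obtain ⟨x, rfl⟩ := Submodule.Quotient.mk_surjective _ x
      change Submodule.Quotient.mk (a • x) = _ at hx
      rw [Submodule.Quotient.eq] at hx
      have h1 : a • x - y ∈ Ideal.span ({a, b} : Set A) := by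
        have := hJJ' hx
        rwa [Submodule.comap_id] at this
      have h2 : a • x ∈ Ideal.span ({a, b} : Set A) := by
        rw [smul_eq_mul, mul_comm]
        exact Ideal.mul_mem_left _ _ (Ideal.subset_span (by simp))
      have : y = a • x - (a • x - y) := by ring
      rw [this]
      exact sub_mem h2 h1
  rw [Module.length_eq_add_of_exact f g hf hg H, add_comm]

end Groth.Agent.S15315
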