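import Groth.Statements.S15316
import Groth.Agent.Lib.Helper76.ArLefNode

set_option autoImplicit false
universe u
open ArLef ArLef.NodeAlg

namespace Groth.Agent.S15316

/-- Let B be a discrete valuation ring with uniformizer π and N = B[[t, e]]/(te - π) the complete local
ring of a semi-stable arithmetic surface at a singular point of the closed fibre. A ring
automorphism σ of N with σ(π) associated to π (for instance a B-algebra automorphism, or one lying
over an automorphism of B) either stabilizes the two branches, σ(t) = α t and σ(e) = β e for units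
α, β, or switches them, σ(t) = α e and σ(e) = β t for units α, β. (The published setting has B
complete with algebraically closed residue field and σ linear over B or over an automorphism of B;
the argument uses only that σ(π) generates (π).) -/
theorem result (B : Type u) [CommRing B] [IsDomain B] [IsDiscreteValuationRing B] (π : B) (hπ : Irreducible π)
    (σ : ArLef.NodeAlg B π ≃+* ArLef.NodeAlg B π)
    (hσ : Associated (σ (algebraMap B (ArLef.NodeAlg B π) π)) (algebraMap B (ArLef.NodeAlg B π) π)) :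
    (∃ α β : (ArLef.NodeAlg B π)ˣ, σ (ArLef.NodeAlg.t π) = (α : ArLef.NodeAlg B π) * ArLef.NodeAlg.t π ∧ σ (ArLef.NodeAlg.e π) = (β : ArLef.NodeAlg B π) * ArLef.NodeAlg.e π) ∨
      (∃ α β : (ArLef.NodeAlg B π)ˣ, σ (ArLef.NodeAlg.t π) = (α : ArLef.NodeAlg B π) * ArLef.NodeAlg.e π ∧ σ (ArLef.NodeAlg.e π) = (β : ArLef.NodeAlg B π) * ArLef.NodeAlg.t π) := by
  haveI := Groth.Agent.Lib.Helper76.ArLefNode.isDomain_node hπ
  have ht : Prime (ArLef.NodeAlg.t π) := Groth.Agent.Lib.Helper76.ArLefNode.prime_t hπ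
  have he : Prime (ArLef.NodeAlg.e π) := Groth.Agent.Lib.Helper76.ArLefNode.prime_e hπ
  have hte : ArLef.NodeAlg.t π * ArLef.NodeAlg.e π = algebraMap B (ArLef.NodeAlg B π) π :=
    Groth.Agent.Lib.Helper76.ArLefNode.t_mul_e
  obtain ⟨u, hu⟩ := hσ
  have hprod : σ (ArLef.NodeAlg.t π) * σ (ArLef.NodeAlg.e π) * ↑u =
      ArLef.NodeAlg.t π * ArLef.NodeAlg.e π := by
    rw [← map_mul, hte, hu]
  have hσt : Prime (σ (ArLef.NodeAlg.t π)) := (MulEquiv.prime_iff σ).mpr ht
  have hσe : Prime (σ (ArLef.NodeAlg.e π)) := (MulEquiv.prime_iff σ).mpr he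
  have h1 : ArLef.NodeAlg.t π ∣ σ (ArLef.NodeAlg.t π) * σ (ArLef.NodeAlg.e π) * ↑u :=
    ⟨_, hprod⟩
  rcases ht.dvd_or_dvd h1 with h2 | h2
  · rcases ht.dvd_or_dvd h2 with h3 | h3
    · left
      obtain ⟨α, hα⟩ := ht.associated_of_dvd hσt h3
      refine ⟨α, (α * u)⁻¹, by rw [← hα, mul_comm], ?_⟩
      rw [Units.eq_inv_mul_iff_mul_eq]
      apply mul_left_cancel₀ ht.ne_zero
      rw [← hprod, ← hα]
      push_cast
      ring
    · right
      obtain ⟨β, hβ⟩ := ht.associated_of_dvd hσe h3
      refine ⟨(β * u)⁻¹, β, ?_, by rw [← hβ, mul_comm]⟩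
      rw [Units.eq_inv_mul_iff_mul_eq]
      apply mul_left_cancel₀ ht.ne_zero
      rw [← hprod, ← hβ]
      push_cast
      ring
  · exact absurd (isUnit_of_dvd_unit h2 u.isUnit) ht.not_unit

end Groth.Agent.S15316
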