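import Groth.Statements.S15317
import Groth.Agent.Lib.Helper76.ArLefNode

set_option autoImplicit false
universe u
open ArLef ArLef.NodeAlg

namespace Groth.Agent.S15317

/-- Let B be a discrete valuation ring with uniformizer π, N = B[[t, e]]/(te - π), and σ a non-trivial
B-algebra automorphism of N stabilizing both branches of the closed fibre (σ(t) associated to t,
σ(e) associated to e). Then the fixed-point ideal of σ, generated by all σ(r) - r, is g·(t, e) for a
non-zero g: the divisorial part of the fixed locus is cut out by g and its residual part is the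
reduced closed point, of multiplicity one. (Stated in the complete local ring, where the published
argument takes place; the published setting has B complete with algebraically closed residue field.) -/
theorem result (B : Type u) [CommRing B] [IsDomain B] [IsDiscreteValuationRing B] (π : B) (hπ : Irreducible π)
    (σ : ArLef.NodeAlg B π ≃ₐ[B] ArLef.NodeAlg B π) (hσ : σ ≠ AlgEquiv.refl)
    (ht : Associated (σ (ArLef.NodeAlg.t π)) (ArLef.NodeAlg.t π))
    (he : Associated (σ (ArLef.NodeAlg.e π)) (ArLef.NodeAlg.e π)) :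
    ∃ g : ArLef.NodeAlg B π, g ≠ 0 ∧
      ArLef.fixIdeal σ = Ideal.span {g} * Ideal.span ({ArLef.NodeAlg.t π, ArLef.NodeAlg.e π} : Set (ArLef.NodeAlg B π)) := by
  haveI := Groth.Agent.Lib.Helper76.ArLefNode.isDomain_node hπ
  have htp : Prime (ArLef.NodeAlg.t π) := Groth.Agent.Lib.Helper76.ArLefNode.prime_t hπ
  have hep : Prime (ArLef.NodeAlg.e π) := Groth.Agent.Lib.Helper76.ArLefNode.prime_e hπ
  have hte : ArLef.NodeAlg.t π * ArLef.NodeAlg.e π = algebraMap B (ArLef.NodeAlg B π) π :=
    Groth.Agent.Lib.Helper76.ArLefNode.t_mul_e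
  obtain ⟨α', hα'⟩ := ht.symm
  obtain ⟨β', hβ'⟩ := he.symm
  have hab : (α' : ArLef.NodeAlg B π) * β' = 1 := by
    have h1 : σ (ArLef.NodeAlg.t π * ArLef.NodeAlg.e π) =
        ArLef.NodeAlg.t π * ArLef.NodeAlg.e π := by
      rw [hte]
      exact σ.commutes π
    rw [map_mul, ← hα', ← hβ'] at h1
    have hte0 : ArLef.NodeAlg.t π * ArLef.NodeAlg.e π ≠ 0 :=
      mul_ne_zero htp.ne_zero hep.ne_zero
    apply mul_left_cancel₀ hte0
    rw [mul_one]
    linear_combination h1
  have hσt : σ (ArLef.NodeAlg.t π) - ArLef.NodeAlg.t π =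
      ((α' : ArLef.NodeAlg B π) - 1) * ArLef.NodeAlg.t π := by
    rw [← hα']
    ring
  have hσe : σ (ArLef.NodeAlg.e π) - ArLef.NodeAlg.e π =
      -(β' : ArLef.NodeAlg B π) * (((α' : ArLef.NodeAlg B π) - 1) * ArLef.NodeAlg.e π) := by
    rw [← hβ']
    linear_combination ArLef.NodeAlg.e π * hab
  have hge : ((α' : ArLef.NodeAlg B π) - 1) * ArLef.NodeAlg.e π =
      -(α' : ArLef.NodeAlg B π) * (σ (ArLef.NodeAlg.e π) - ArLef.NodeAlg.e π) := by
    rw [← hβ']
    linear_combination ArLef.NodeAlg.e π * hab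
  refine ⟨(α' : ArLef.NodeAlg B π) - 1, ?_, ?_⟩
  · intro hg0
    apply hσ
    have hα1 : (α' : ArLef.NodeAlg B π) = 1 := sub_eq_zero.mp hg0
    have hβ1 : (β' : ArLef.NodeAlg B π) = 1 := by
      rw [hα1, one_mul] at hab
      exact hab
    have key := Groth.Agent.Lib.Helper76.ArLefNode.sub_mem_node hπ σ.toRingEquiv ⊥
      (fun b => by
        show σ (algebraMap B (ArLef.NodeAlg B π) b) - algebraMap B (ArLef.NodeAlg B π) b ∈ _
        rw [σ.commutes, sub_self]
        exact zero_mem _)
      (by
        show σ (ArLef.NodeAlg.t π) - ArLef.NodeAlg.t π ∈ _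
        rw [← hα', hα1, mul_one, sub_self]
        exact zero_mem _)
      (by
        show σ (ArLef.NodeAlg.e π) - ArLef.NodeAlg.e π ∈ _
        rw [← hβ', hβ1, mul_one, sub_self]
        exact zero_mem _)
    ext r
    have := key r
    rw [Ideal.mem_bot, sub_eq_zero] at this
    exact this
  · apply le_antisymm
    · unfold ArLef.fixIdeal
      rw [Ideal.span_le]
      rintro _ ⟨r, rfl⟩
      exact Groth.Agent.Lib.Helper76.ArLefNode.sub_mem_node hπ σ.toRingEquiv _
        (fun b => by
          show σ (algebraMap B (ArLef.NodeAlg B π) b) - algebraMap B (ArLef.NodeAlg B π) b ∈ _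
          rw [σ.commutes, sub_self]
          exact zero_mem _)
        (by
          show σ (ArLef.NodeAlg.t π) - ArLef.NodeAlg.t π ∈ _
          rw [hσt]
          exact Ideal.mul_mem_mul (Ideal.mem_span_singleton_self _)
            (Ideal.subset_span (by simp)))
        (by
          show σ (ArLef.NodeAlg.e π) - ArLef.NodeAlg.e π ∈ _
          rw [hσe]
          exact Ideal.mul_mem_left _ _ (Ideal.mul_mem_mul (Ideal.mem_span_singleton_self _)
            (Ideal.subset_span (by simp))))
        r
    · rw [Ideal.mul_le]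
      intro x hx y hy
      obtain ⟨c, rfl⟩ := Ideal.mem_span_singleton'.mp hx
      obtain ⟨u, v, rfl⟩ := Ideal.mem_span_pair.mp hy
      have h1 : ((α' : ArLef.NodeAlg B π) - 1) * ArLef.NodeAlg.t π ∈ ArLef.fixIdeal σ := by
        rw [← hσt]
        exact Ideal.subset_span ⟨_, rfl⟩
      have h2 : ((α' : ArLef.NodeAlg B π) - 1) * ArLef.NodeAlg.e π ∈ ArLef.fixIdeal σ := by
        rw [hge]
        exact Ideal.mul_mem_left _ _ (Ideal.subset_span ⟨_, rfl⟩)
      have : c * ((α' : ArLef.NodeAlg B π) - 1) * (u * ArLef.NodeAlg.t π + v * ArLef.NodeAlg.e π) =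
          (c * u) * (((α' : ArLef.NodeAlg B π) - 1) * ArLef.NodeAlg.t π) +
            (c * v) * (((α' : ArLef.NodeAlg B π) - 1) * ArLef.NodeAlg.e π) := by ring
      rw [this]
      exact Ideal.add_mem _ (Ideal.mul_mem_left _ _ h1) (Ideal.mul_mem_left _ _ h2)

end Groth.Agent.S15317
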