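import Groth.Statements.S15318
import Groth.Agent.Lib.Helper76.ArLefNode

set_option autoImplicit false
universe u
open ArLef ArLef.NodeAlg

namespace Groth.Agent.S15318

/-- Let B be a discrete valuation ring with uniformizer π, N = B[[t, e]]/(te - π), and σ a B-algebra
automorphism of N switching the two branches of the closed fibre (σ(t) associated to e, σ(e)
associated to t). Then the fixed-point ideal of σ is principal, generated by an element h of order
one (h is not in (t, e)²), and π is a non-zero-divisor modulo h: the fixed locus is a horizontal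
regular divisor through the point with empty residual part. (Stated in the complete local ring,
where the published argument takes place; the published setting has B complete with algebraically
closed residue field.) -/
theorem result (B : Type u) [CommRing B] [IsDomain B] [IsDiscreteValuationRing B] (π : B) (hπ : Irreducible π)
    (σ : ArLef.NodeAlg B π ≃ₐ[B] ArLef.NodeAlg B π)
    (ht : Associated (σ (ArLef.NodeAlg.t π)) (ArLef.NodeAlg.e π))
    (he : Associated (σ (ArLef.NodeAlg.e π)) (ArLef.NodeAlg.t π)) :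
    ∃ h : ArLef.NodeAlg B π, ArLef.fixIdeal σ = Ideal.span {h} ∧
      h ∉ (Ideal.span ({ArLef.NodeAlg.t π, ArLef.NodeAlg.e π} : Set (ArLef.NodeAlg B π))) ^ 2 ∧
      IsSMulRegular (ArLef.NodeAlg B π ⧸ Ideal.span ({h} : Set (ArLef.NodeAlg B π))) π := by
  haveI := Groth.Agent.Lib.Helper76.ArLefNode.isDomain_node hπ
  have htp : Prime (ArLef.NodeAlg.t π) := Groth.Agent.Lib.Helper76.ArLefNode.prime_t hπ
  have hep : Prime (ArLef.NodeAlg.e π) := Groth.Agent.Lib.Helper76.ArLefNode.prime_e hπ
  have hte : ArLef.NodeAlg.t π * ArLef.NodeAlg.e π = algebraMap B (ArLef.NodeAlg B π) π :=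
    Groth.Agent.Lib.Helper76.ArLefNode.t_mul_e
  obtain ⟨α', hα'⟩ := ht.symm
  obtain ⟨β', hβ'⟩ := he.symm
  have hab : (α' : ArLef.NodeAlg B π) * β' = 1 := by
    have h1 : σ (ArLef.NodeAlg.t π * ArLef.NodeAlg.e π) =
        ArLef.NodeAlg.t π * ArLef.NodeAlg.e π := by
      rw [hte]
      exact σ.commutes π
    rw [map_mul, ← hα', ← hβ'] at h1
    have hte0 : ArLef.NodeAlg.t π * ArLef.NodeAlg.e π ≠ 0 :=
      mul_ne_zero htp.ne_zero hep.ne_zero
    apply mul_left_cancel₀ hte0
    rw [mul_one]
    linear_combination h1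
  have hσe : σ (ArLef.NodeAlg.e π) - ArLef.NodeAlg.e π =
      -(β' : ArLef.NodeAlg B π) * (ArLef.NodeAlg.e π * α' - ArLef.NodeAlg.t π) := by
    rw [← hβ']
    linear_combination ArLef.NodeAlg.e π * hab
  have hnt : ¬ ArLef.NodeAlg.t π ∣ ArLef.NodeAlg.e π * α' - ArLef.NodeAlg.t π := by
    intro hd
    have h1 : ArLef.NodeAlg.t π ∣ ArLef.NodeAlg.e π * α' := by
      have := dvd_add hd (dvd_refl (ArLef.NodeAlg.t π))
      simpa using this
    rcases htp.dvd_or_dvd h1 with h2 | h2
    · exact Groth.Agent.Lib.Helper76.ArLefNode.not_t_dvd_e hπ h2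
    · exact htp.not_unit (isUnit_of_dvd_unit h2 α'.isUnit)
  have hne : ¬ ArLef.NodeAlg.e π ∣ ArLef.NodeAlg.e π * α' - ArLef.NodeAlg.t π := by
    intro hd
    have h1 : ArLef.NodeAlg.e π ∣ ArLef.NodeAlg.t π := by
      have := dvd_sub (dvd_mul_right (ArLef.NodeAlg.e π) (α' : ArLef.NodeAlg B π)) hd
      simpa using this
    exact Groth.Agent.Lib.Helper76.ArLefNode.not_e_dvd_t hπ h1
  refine ⟨ArLef.NodeAlg.e π * α' - ArLef.NodeAlg.t π, ?_, ?_, ?_⟩
  · apply le_antisymm
    · unfold ArLef.fixIdeal
      rw [Ideal.span_le]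
      rintro _ ⟨r, rfl⟩
      exact Groth.Agent.Lib.Helper76.ArLefNode.sub_mem_node hπ σ.toRingEquiv _
        (fun b => by
          show σ (algebraMap B (ArLef.NodeAlg B π) b) - algebraMap B (ArLef.NodeAlg B π) b ∈ _
          rw [σ.commutes, sub_self]
          exact zero_mem _)
        (by
          show σ (ArLef.NodeAlg.t π) - ArLef.NodeAlg.t π ∈ _
          rw [← hα']
          exact Ideal.mem_span_singleton_self _)
        (by
          show σ (ArLef.NodeAlg.e π) - ArLef.NodeAlg.e π ∈ _
          rw [hσe]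
          exact Ideal.mul_mem_left _ _ (Ideal.mem_span_singleton_self _))
        r
    · rw [Ideal.span_le, Set.singleton_subset_iff, hα']
      exact Ideal.subset_span ⟨_, rfl⟩
  · exact Groth.Agent.Lib.Helper76.ArLefNode.not_mem_sq hπ _
  · intro x y hxy
    have h0 : π • (x - y) = 0 := by
      rw [smul_sub]
      exact sub_eq_zero.mpr hxy
    obtain ⟨z, hz⟩ := Ideal.Quotient.mk_surjective (x - y)
    have h1 : Ideal.Quotient.mk
        (Ideal.span {ArLef.NodeAlg.e π * (α' : ArLef.NodeAlg B π) - ArLef.NodeAlg.t π})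
        (algebraMap B (ArLef.NodeAlg B π) π * z) = 0 := by
      rw [map_mul, hz, ← h0]
      exact (Algebra.smul_def π (x - y)).symm
    rw [Ideal.Quotient.eq_zero_iff_mem, Ideal.mem_span_singleton, ← hte] at h1
    have h2 : ArLef.NodeAlg.e π * (α' : ArLef.NodeAlg B π) - ArLef.NodeAlg.t π ∣
        z * ArLef.NodeAlg.e π := by
      apply Groth.Agent.Lib.Helper76.ArLefNode.dvd_of_dvd_mul_prime htp hnt
      have : z * ArLef.NodeAlg.e π * ArLef.NodeAlg.t π =
          ArLef.NodeAlg.t π * ArLef.NodeAlg.e π * z := by ring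
      rw [this]
      exact h1
    have h3 := Groth.Agent.Lib.Helper76.ArLefNode.dvd_of_dvd_mul_prime hep hne h2
    have h4 : x - y = 0 := by
      rw [← hz, Ideal.Quotient.eq_zero_iff_mem, Ideal.mem_span_singleton]
      exact h3
    exact sub_eq_zero.mp h4

end Groth.Agent.S15318
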