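import Groth.Statements.S15319
import Mathlib

set_option autoImplicit false
universe u
open ArLef ArLef.NodeAlg

namespace Groth.Agent.S15319

section
variable {B : Type u} [CommRing B] [IsDomain B] (π : B)

local notation "RR" => MvPowerSeries (Fin 2) B
local notation "II" => Ideal.span {(MvPowerSeries.X 0 * MvPowerSeries.X 1 - MvPowerSeries.C π : MvPowerSeries (Fin 2) B)}

lemma algebraMap_eq (b : B) :
    algebraMap B (ArLef.NodeAlg B π) b = Ideal.Quotient.mk II (MvPowerSeries.C b) := rfl

lemma t_mul_e : ArLef.NodeAlg.t π * ArLef.NodeAlg.e π = algebraMap B (ArLef.NodeAlg B π) π := by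
  rw [algebraMap_eq, ← map_mul, Ideal.Quotient.eq]
  exact Ideal.mem_span_singleton_self _

lemma XX_eq : (MvPowerSeries.X 0 * MvPowerSeries.X 1 : RR) =
    MvPowerSeries.monomial (Finsupp.single 0 1 + Finsupp.single 1 1) (1 : B) := by
  rw [MvPowerSeries.X, MvPowerSeries.X, MvPowerSeries.monomial_mul_monomial, one_mul]

lemma pi_regular (hπ : π ≠ 0) (x : ArLef.NodeAlg B π)
    (hx : algebraMap B (ArLef.NodeAlg B π) π * x = 0) : x = 0 := by
  obtain ⟨f, rfl⟩ := Ideal.Quotient.mk_surjective x
  rw [algebraMap_eq, ← map_mul, Ideal.Quotient.eq_zero_iff_mem] at hx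
  obtain ⟨g, hg⟩ := Ideal.mem_span_singleton'.1 hx
  -- X0 X1 g = C π (f + g)
  have h1 : MvPowerSeries.X 0 * MvPowerSeries.X 1 * g = MvPowerSeries.C π * (f + g) := by
    have : g * (MvPowerSeries.X 0 * MvPowerSeries.X 1 - MvPowerSeries.C π) =
      MvPowerSeries.C π * f := hg
    linear_combination this
  have h2 : ∀ m, π ∣ MvPowerSeries.coeff m g := by
    intro m
    have := congrArg (MvPowerSeries.coeff ((Finsupp.single 0 1 + Finsupp.single 1 1) + m)) h1
    rw [XX_eq, MvPowerSeries.coeff_add_monomial_mul, one_mul, MvPowerSeries.coeff_C_mul] at this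
    exact ⟨_, this⟩
  choose g' hg' using h2
  let G' : MvPowerSeries (Fin 2) B := fun m => g' m
  have h3 : g = MvPowerSeries.C π * G' := by
    ext m
    rw [MvPowerSeries.coeff_C_mul, hg' m]
    rfl
  have h4 : MvPowerSeries.C π * f = MvPowerSeries.C π *
      (G' * (MvPowerSeries.X 0 * MvPowerSeries.X 1 - MvPowerSeries.C π)) := by
    rw [← hg, h3]; ring
  have hC : (MvPowerSeries.C π : RR) ≠ 0 := by
    intro h
    have := congrArg (MvPowerSeries.coeff 0) h
    simp at this
    exact hπ this
  have h5 := mul_left_cancel₀ hC h4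
  rw [Ideal.Quotient.eq_zero_iff_mem, h5]
  exact Ideal.mul_mem_left _ _ (Ideal.mem_span_singleton_self _)

/-- the augmentation `N → B/(π)` killing `t` and `e` -/
noncomputable def aug : ArLef.NodeAlg B π →+* B ⧸ Ideal.span {π} :=
  Ideal.Quotient.lift II
    ((Ideal.Quotient.mk (Ideal.span {π})).comp (MvPowerSeries.constantCoeff (σ := Fin 2) (R := B)))
    (by
      intro a ha
      have hle : II ≤ RingHom.ker ((Ideal.Quotient.mk (Ideal.span {π})).comp
          (MvPowerSeries.constantCoeff (σ := Fin 2) (R := B))) := by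
        rw [Ideal.span_le, Set.singleton_subset_iff, SetLike.mem_coe, RingHom.mem_ker]
        simp [Ideal.Quotient.eq_zero_iff_mem, Ideal.mem_span_singleton_self]
      exact RingHom.mem_ker.1 (hle ha))

lemma aug_t : aug π (ArLef.NodeAlg.t π) = 0 := by
  unfold aug ArLef.NodeAlg.t
  rw [Ideal.Quotient.lift_mk]
  simp

lemma aug_e : aug π (ArLef.NodeAlg.e π) = 0 := by
  unfold aug ArLef.NodeAlg.e
  rw [Ideal.Quotient.lift_mk]
  simp

lemma aug_algebraMap (b : B) :
    aug π (algebraMap B (ArLef.NodeAlg B π) b) = Ideal.Quotient.mk (Ideal.span {π}) b := by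
  rw [algebraMap_eq]
  unfold aug
  rw [Ideal.Quotient.lift_mk]
  simp

theorem main (hπ : Irreducible π) (j : ℕ) (hj : 1 ≤ j) (γ : B) (hγ : IsUnit γ)
    (σ : ArLef.NodeAlg B π ≃+* ArLef.NodeAlg B π)
    (hσ : σ (algebraMap B (ArLef.NodeAlg B π) π) = algebraMap B (ArLef.NodeAlg B π) (π + γ * π ^ j)) :
    ¬ ArLef.fixIdeal σ ≤ Ideal.span ({algebraMap B (ArLef.NodeAlg B π) (π ^ j)} : Set (ArLef.NodeAlg B π)) := by
  intro hle
  set P := algebraMap B (ArLef.NodeAlg B π) (π ^ j) with hP
  have hmem : ∀ r : ArLef.NodeAlg B π, ∃ a, σ r - r = a * P := by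
    intro r
    have : σ r - r ∈ ArLef.fixIdeal σ := Ideal.subset_span ⟨r, rfl⟩
    obtain ⟨a, ha⟩ := Ideal.mem_span_singleton'.1 (hle this)
    exact ⟨a, ha.symm⟩
  obtain ⟨a, ha⟩ := hmem (ArLef.NodeAlg.t π)
  obtain ⟨b, hb⟩ := hmem (ArLef.NodeAlg.e π)
  have hst : σ (ArLef.NodeAlg.t π) = ArLef.NodeAlg.t π + a * P := by rw [← ha]; ring
  have hse : σ (ArLef.NodeAlg.e π) = ArLef.NodeAlg.e π + b * P := by rw [← hb]; ring
  have h1 : σ (algebraMap B (ArLef.NodeAlg B π) π) =
      (ArLef.NodeAlg.t π + a * P) * (ArLef.NodeAlg.e π + b * P) := by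
    rw [← t_mul_e, map_mul, hst, hse]
  have h2 : algebraMap B (ArLef.NodeAlg B π) (π + γ * π ^ j) =
      ArLef.NodeAlg.t π * ArLef.NodeAlg.e π + algebraMap B (ArLef.NodeAlg B π) γ * P := by
    rw [map_add, map_mul, t_mul_e]
  have h3 : P * (a * ArLef.NodeAlg.e π + b * ArLef.NodeAlg.t π + a * b * P
      - algebraMap B (ArLef.NodeAlg B π) γ) = 0 := by
    have := h1.symm.trans (hσ.trans h2)
    linear_combination this
  have hreg : ∀ (n : ℕ) (x : ArLef.NodeAlg B π),
      algebraMap B (ArLef.NodeAlg B π) (π ^ n) * x = 0 → x = 0 := by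
    intro n
    induction n with
    | zero => intro x hx; simpa using hx
    | succ n ih =>
      intro x hx
      apply ih
      apply pi_regular π hπ.ne_zero
      rw [← mul_assoc, ← map_mul, ← pow_succ']
      exact hx
  have h4 := hreg j _ h3
  have h5 := congrArg (aug π) h4
  have hPaug : aug π P = 0 := by
    rw [hP, aug_algebraMap, Ideal.Quotient.eq_zero_iff_mem, Ideal.mem_span_singleton]
    exact dvd_pow_self π (by omega)
  rw [map_zero, map_sub, map_add, map_add, map_mul, map_mul, map_mul, map_mul, aug_t, aug_e, hPaug,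
    aug_algebraMap] at h5
  simp only [mul_zero, add_zero, zero_sub, neg_eq_zero] at h5
  rw [Ideal.Quotient.eq_zero_iff_mem, Ideal.mem_span_singleton] at h5
  exact hπ.not_isUnit (isUnit_of_dvd_unit h5 hγ)

end


/-- Let B be a discrete valuation ring with uniformizer π, N = B[[t, e]]/(te - π) the complete local
ring of a semi-stable arithmetic surface over B at a singular point of the closed fibre, and σ a
ring automorphism of N sending π to π + γ π^j with γ a unit of B and j ≥ 1 (σ lies over an
automorphism τ of B with v(τ(π) - π) = j). Then the fixed-point ideal of σ is not contained in (π^j)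
= (t^j e^j): the two branches through the point cannot both occur with multiplicity j in the
divisorial part of the fixed locus. (The published setting has B complete with algebraically closed
residue field.) -/
theorem result (B : Type u) [CommRing B] [IsDomain B] [IsDiscreteValuationRing B] (π : B) (hπ : Irreducible π)
    (j : ℕ) (hj : 1 ≤ j) (γ : B) (hγ : IsUnit γ)
    (σ : ArLef.NodeAlg B π ≃+* ArLef.NodeAlg B π)
    (hσ : σ (algebraMap B (ArLef.NodeAlg B π) π) = algebraMap B (ArLef.NodeAlg B π) (π + γ * π ^ j)) :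
    ¬ ArLef.fixIdeal σ ≤ Ideal.span ({algebraMap B (ArLef.NodeAlg B π) (π ^ j)} : Set (ArLef.NodeAlg B π)) := by
  exact main π hπ j hj γ hγ σ hσ

end Groth.Agent.S15319
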