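import Groth.Statements.S15320
import Groth.Agent.Lib.Helper76.ArLefNode

set_option autoImplicit false
universe u
open ArLef ArLef.NodeAlg

namespace Groth.Agent.S15320

/-- Let B be a discrete valuation ring with uniformizer π, N = B[[t, e]]/(te - π) the complete local
ring of a semi-stable arithmetic surface over B at a singular point x of the closed fibre, and σ a
ring automorphism of N over an automorphism τ of B with v(τ(π) - π) = j ≥ 1, that is σ(π) = π + γ
π^j with γ a unit of B, and with σ(b) - b ∈ π^j N for every b ∈ B (automatic when B is totally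
ramified over the fixed ring of τ, as in the published setting, where the residue field is
algebraically closed). If σ switches the two branches through x (σ(t) associated to e and σ(e) to
t), then the fixed-point ideal I of σ is contained in no proper principal ideal (x is not on the
divisorial part of the fixed locus) and N/I has length 2j - 1 (the multiplicity of x in the residual
fixed-point scheme). -/
theorem result (B : Type u) [CommRing B] [IsDomain B] [IsDiscreteValuationRing B] (π : B) (hπ : Irreducible π)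
    (j : ℕ) (hj : 1 ≤ j) (γ : B) (hγ : IsUnit γ)
    (σ : ArLef.NodeAlg B π ≃+* ArLef.NodeAlg B π)
    (hσB : ∀ b : B, σ (algebraMap B (ArLef.NodeAlg B π) b) - algebraMap B (ArLef.NodeAlg B π) b ∈
      Ideal.span ({algebraMap B (ArLef.NodeAlg B π) (π ^ j)} : Set (ArLef.NodeAlg B π)))
    (hσπ : σ (algebraMap B (ArLef.NodeAlg B π) π) = algebraMap B (ArLef.NodeAlg B π) (π + γ * π ^ j))
    (ht : Associated (σ (ArLef.NodeAlg.t π)) (ArLef.NodeAlg.e π)) (he : Associated (σ (ArLef.NodeAlg.e π)) (ArLef.NodeAlg.t π)) :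
    (∀ g : ArLef.NodeAlg B π, ArLef.fixIdeal σ ≤ Ideal.span ({g} : Set (ArLef.NodeAlg B π)) → IsUnit g) ∧
      Module.length (ArLef.NodeAlg B π) (ArLef.NodeAlg B π ⧸ ArLef.fixIdeal σ) = ((2 * j - 1 : ℕ) : ℕ∞) := by
  haveI := Groth.Agent.Lib.Helper76.ArLefNode.isDomain_node hπ
  have htp : Prime (ArLef.NodeAlg.t π) := Groth.Agent.Lib.Helper76.ArLefNode.prime_t hπ
  have hep : Prime (ArLef.NodeAlg.e π) := Groth.Agent.Lib.Helper76.ArLefNode.prime_e hπ
  have hte : ArLef.NodeAlg.t π * ArLef.NodeAlg.e π = algebraMap B (ArLef.NodeAlg B π) π :=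
    Groth.Agent.Lib.Helper76.ArLefNode.t_mul_e
  obtain ⟨j', rfl⟩ : ∃ j', j = j' + 1 := ⟨j - 1, by omega⟩
  obtain ⟨α', hα'⟩ := ht.symm
  obtain ⟨β', hβ'⟩ := he.symm
  obtain ⟨γ', hγ'⟩ := hγ.exists_left_inv
  -- notation
  obtain ⟨p, hp⟩ : ∃ p : ArLef.NodeAlg B π, p = algebraMap B (ArLef.NodeAlg B π) π := ⟨_, rfl⟩
  obtain ⟨g₀, hg₀⟩ : ∃ g₀ : ArLef.NodeAlg B π, g₀ = algebraMap B (ArLef.NodeAlg B π) γ := ⟨_, rfl⟩
  obtain ⟨g₁, hg₁⟩ : ∃ g₁ : ArLef.NodeAlg B π, g₁ = algebraMap B (ArLef.NodeAlg B π) γ' := ⟨_, rfl⟩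
  have hgg : g₁ * g₀ = 1 := by rw [hg₀, hg₁, ← map_mul, hγ', map_one]
  have hte' : ArLef.NodeAlg.t π * ArLef.NodeAlg.e π = p := by rw [hp, hte]
  have hab : (α' : ArLef.NodeAlg B π) * β' = 1 + g₀ * p ^ j' := by
    have h1 : σ (ArLef.NodeAlg.t π * ArLef.NodeAlg.e π) = p + g₀ * p ^ (j' + 1) := by
      rw [hte, hσπ, map_add, map_mul, map_pow, hp, hg₀]
    rw [map_mul, ← hα', ← hβ'] at h1
    have hte0 : ArLef.NodeAlg.t π * ArLef.NodeAlg.e π ≠ 0 :=
      mul_ne_zero htp.ne_zero hep.ne_zero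
    apply mul_left_cancel₀ hte0
    linear_combination h1 - (1 + g₀ * p ^ j') * hte'
  -- the generator `h` and the basic congruence
  obtain ⟨h, hh⟩ : ∃ h : ArLef.NodeAlg B π,
      h = ArLef.NodeAlg.e π * α' - ArLef.NodeAlg.t π := ⟨_, rfl⟩
  have hσt : σ (ArLef.NodeAlg.t π) - ArLef.NodeAlg.t π = h := by rw [hh, hα']
  have hpcong : p - (α' : ArLef.NodeAlg B π) * ArLef.NodeAlg.e π ^ 2 = -h * ArLef.NodeAlg.e π := by
    rw [hh, ← hte']
    ring
  obtain ⟨c, hc⟩ : ∃ c, p ^ j' = (α' : ArLef.NodeAlg B π) ^ j' * ArLef.NodeAlg.e π ^ (2 * j') + h * c := by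
    obtain ⟨d, hd⟩ := sub_dvd_pow_sub_pow p ((α' : ArLef.NodeAlg B π) * ArLef.NodeAlg.e π ^ 2) j'
    rw [hpcong] at hd
    refine ⟨-ArLef.NodeAlg.e π * d, ?_⟩
    rw [mul_pow, ← pow_mul] at hd
    linear_combination hd
  have hσe : σ (ArLef.NodeAlg.e π) - ArLef.NodeAlg.e π =
      g₀ * (α' : ArLef.NodeAlg B π) ^ j' * ArLef.NodeAlg.e π ^ (2 * j' + 1) +
        h * (g₀ * ArLef.NodeAlg.e π * c - β') := by
    rw [← hβ']
    have ht' : ArLef.NodeAlg.t π = ArLef.NodeAlg.e π * α' - h := by rw [hh]; ring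
    rw [ht']
    linear_combination ArLef.NodeAlg.e π * hab + (g₀ * ArLef.NodeAlg.e π) * hc
  have hnt : ¬ ArLef.NodeAlg.e π ∣ h := by
    intro hd
    have h1 : ArLef.NodeAlg.e π ∣ ArLef.NodeAlg.t π := by
      have := dvd_sub (dvd_mul_right (ArLef.NodeAlg.e π) (α' : ArLef.NodeAlg B π)) hd
      rw [hh] at this
      simpa using this
    exact Groth.Agent.Lib.Helper76.ArLefNode.not_e_dvd_t hπ h1
  have hfix : ArLef.fixIdeal σ = Ideal.span {h, ArLef.NodeAlg.e π ^ (2 * j' + 1)} := by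
    apply le_antisymm
    · unfold ArLef.fixIdeal
      rw [Ideal.span_le]
      rintro _ ⟨r, rfl⟩
      refine Groth.Agent.Lib.Helper76.ArLefNode.sub_mem_node hπ σ _ (fun b => ?_) ?_ ?_ r
      · have hpj : algebraMap B (ArLef.NodeAlg B π) (π ^ (j' + 1)) ∈
            Ideal.span {h, ArLef.NodeAlg.e π ^ (2 * j' + 1)} := by
          rw [map_pow, ← hp, Ideal.mem_span_pair]
          exact ⟨c * ArLef.NodeAlg.t π * ArLef.NodeAlg.e π,
            (α' : ArLef.NodeAlg B π) ^ j' * ArLef.NodeAlg.t π, by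
              linear_combination (h * c + (α' : ArLef.NodeAlg B π) ^ j' *
                ArLef.NodeAlg.e π ^ (2 * j')) * hte' - p * hc⟩
        exact (Ideal.span_le.mpr (Set.singleton_subset_iff.mpr hpj)) (hσB b)
      · rw [hσt]
        exact Ideal.subset_span (by simp)
      · rw [hσe, Ideal.mem_span_pair]
        exact ⟨g₀ * ArLef.NodeAlg.e π * c - β', g₀ * (α' : ArLef.NodeAlg B π) ^ j', by ring⟩
    · rw [Ideal.span_le]
      intro z hz
      simp only [Set.mem_insert_iff, Set.mem_singleton_iff] at hz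
      have hhI : h ∈ ArLef.fixIdeal σ := by
        rw [← hσt]
        exact Ideal.subset_span ⟨_, rfl⟩
      rcases hz with rfl | rfl
      · exact hhI
      · have h1 : σ (ArLef.NodeAlg.e π) - ArLef.NodeAlg.e π ∈ ArLef.fixIdeal σ :=
          Ideal.subset_span ⟨_, rfl⟩
        have h2 : g₀ * (α' : ArLef.NodeAlg B π) ^ j' * ArLef.NodeAlg.e π ^ (2 * j' + 1) ∈
            ArLef.fixIdeal σ := by
          have : g₀ * (α' : ArLef.NodeAlg B π) ^ j' * ArLef.NodeAlg.e π ^ (2 * j' + 1) =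
              (σ (ArLef.NodeAlg.e π) - ArLef.NodeAlg.e π) -
                h * (g₀ * ArLef.NodeAlg.e π * c - β') := by rw [hσe]; ring
          rw [this]
          exact Ideal.sub_mem _ h1 (Ideal.mul_mem_right _ _ hhI)
        have h3 := Ideal.mul_mem_left _ (g₁ * ((α'⁻¹ : (ArLef.NodeAlg B π)ˣ) : ArLef.NodeAlg B π) ^ j') h2
        have h4 : g₁ * ((α'⁻¹ : (ArLef.NodeAlg B π)ˣ) : ArLef.NodeAlg B π) ^ j' *
            (g₀ * (α' : ArLef.NodeAlg B π) ^ j' * ArLef.NodeAlg.e π ^ (2 * j' + 1)) =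
            ArLef.NodeAlg.e π ^ (2 * j' + 1) := by
          have h5 : ((α'⁻¹ : (ArLef.NodeAlg B π)ˣ) : ArLef.NodeAlg B π) ^ j' *
              (α' : ArLef.NodeAlg B π) ^ j' = 1 := by
            rw [← mul_pow, Units.inv_mul, one_pow]
          linear_combination (((α'⁻¹ : (ArLef.NodeAlg B π)ˣ) : ArLef.NodeAlg B π) ^ j' *
            (α' : ArLef.NodeAlg B π) ^ j' * ArLef.NodeAlg.e π ^ (2 * j' + 1)) * hgg +
            ArLef.NodeAlg.e π ^ (2 * j' + 1) * h5
        rwa [h4] at h3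
  have hspan : (Ideal.span {h, ArLef.NodeAlg.e π} : Ideal (ArLef.NodeAlg B π)) =
      Ideal.span {ArLef.NodeAlg.t π, ArLef.NodeAlg.e π} := by
    apply le_antisymm
    · rw [Ideal.span_le]
      intro z hz
      simp only [Set.mem_insert_iff, Set.mem_singleton_iff] at hz
      rcases hz with rfl | rfl
      · rw [SetLike.mem_coe, hh, Ideal.mem_span_pair]
        exact ⟨-1, α', by ring⟩
      · exact Ideal.subset_span (by simp)
    · rw [Ideal.span_le]
      intro z hz
      simp only [Set.mem_insert_iff, Set.mem_singleton_iff] at hz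
      rcases hz with rfl | rfl
      · rw [SetLike.mem_coe, Ideal.mem_span_pair]
        exact ⟨-1, α', by rw [hh]; ring⟩
      · exact Ideal.subset_span (by simp)
  constructor
  · intro g hg
    have h1 : g ∣ h := by
      rw [← Ideal.mem_span_singleton]
      exact hg (hfix ▸ Ideal.subset_span (by simp))
    have h2 : g ∣ ArLef.NodeAlg.e π ^ (2 * j' + 1) := by
      rw [← Ideal.mem_span_singleton]
      exact hg (hfix ▸ Ideal.subset_span (by simp))
    obtain ⟨i, _, hi⟩ := (dvd_prime_pow hep _).mp h2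
    rcases Nat.eq_zero_or_pos i with rfl | hipos
    · rw [pow_zero] at hi
      exact (associated_one_iff_isUnit).mp hi
    · exfalso
      apply hnt
      have h3 : ArLef.NodeAlg.e π ∣ g :=
        (dvd_pow_self (ArLef.NodeAlg.e π) (by omega)).trans hi.symm.dvd
      exact h3.trans h1
  · haveI := Groth.Agent.Lib.Helper76.ArLefNode.isMaximal_span_t_e hπ
    rw [hfix, Groth.Agent.Lib.Helper76.ArLefNode.length_span_pair_pow hep hnt, hspan,
      Groth.Agent.Lib.Helper76.ArNF.length_quot_of_isMaximal, mul_one]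
    congr 1

end Groth.Agent.S15320
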