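import Groth.Statements.S15322
import Mathlib.AlgebraicGeometry.Morphisms.FormallyUnramified

set_option autoImplicit false
universe u
open CategoryTheory AlgebraicGeometry
open ArLef

namespace Groth.Agent.S15322

set_option backward.isDefEq.respectTransparency false in
/-- Let f : D → C be a morphism, τ an automorphism of C and σ an automorphism of D with σ f = f τ; call
σ a good lifting of τ when the fixed-point scheme of σ is the full preimage of that of τ, i.e. every
morphism z : Z → D with z f τ = z f has z σ = z. If f is etale, separated and surjective with D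
connected and the fixed-point scheme of τ is non-empty (some point of C, with its residue field, is
fixed by τ), then τ has at most one good lifting. (The published statement is for a finite etale
cover of smooth projective irreducible curves over a field and a non-trivial τ; the argument uses
only the hypotheses stated here.) -/
theorem result {C D : Scheme.{u}} (f : D ⟶ C) [Etale f] [IsSeparated f] [Surjective f]
    [ConnectedSpace D] (τ : C ≅ C) (σ σ' : D ≅ D)
    (hσ : σ.hom ≫ f = f ≫ τ.hom) (hσ' : σ'.hom ≫ f = f ≫ τ.hom)
    (good : ∀ (Z : Scheme.{u}) (z : Z ⟶ D), z ≫ f ≫ τ.hom = z ≫ f → z ≫ σ.hom = z)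
    (good' : ∀ (Z : Scheme.{u}) (z : Z ⟶ D), z ≫ f ≫ τ.hom = z ≫ f → z ≫ σ'.hom = z)
    (x : C) (hx : C.fromSpecResidueField x ≫ τ.hom = C.fromSpecResidueField x) :
    σ = σ' := by
  classical
  have hff : σ'.hom ≫ f = σ.hom ≫ f := by rw [hσ, hσ']
  let X' : Over C := Over.mk (σ.hom ≫ f)
  let Y' : Over C := Over.mk f
  let f' : X' ⟶ Y' := Over.homMk σ.hom rfl
  let g' : X' ⟶ Y' := Over.homMk σ'.hom hff
  have hYsep : IsSeparated Y'.hom := ‹IsSeparated f›
  have hcl : IsClosedImmersion (Limits.equalizer.ι f' g').left := inferInstance
  have hop : IsOpenImmersion (Limits.equalizer.ι f' g').left := by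
    refine MorphismProperty.of_isPullback
      ((Limits.isPullback_equalizer_prod f' g').map (Over.forget _)).flip ?_
    rw [← MorphismProperty.cancel_right_of_respectsIso @IsOpenImmersion _
      (Over.prodLeftIsoPullback Y' Y').hom]
    have hd : IsOpenImmersion (Limits.pullback.diagonal Y'.hom) :=
      AlgebraicGeometry.FormallyUnramified.isOpenImmersion_diagonal (f := f)
    convert! hd
    ext1 <;> simp [← Over.comp_left]
  -- a point of `D` over `x` gives a point of the equalizer
  obtain ⟨d, rfl⟩ := f.surjective x
  have hz : D.fromSpecResidueField d ≫ f ≫ τ.hom = D.fromSpecResidueField d ≫ f := by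
    have e := (Scheme.Hom.SpecMap_residueFieldMap_fromSpecResidueField f d).symm
    rw [← Category.assoc, e, Category.assoc, hx]
  have h1 := good _ _ hz
  have h2 := good' _ _ hz
  let Z' : Over C := Over.mk (D.fromSpecResidueField d ≫ σ.hom ≫ f)
  let z' : Z' ⟶ X' := Over.homMk (D.fromSpecResidueField d) rfl
  have hzeq : z' ≫ f' = z' ≫ g' := by
    ext1
    change D.fromSpecResidueField d ≫ σ.hom = D.fromSpecResidueField d ≫ σ'.hom
    rw [h1, h2]
  let ι := (Limits.equalizer.ι f' g').left
  have : Nonempty ↥Z'.left := by
    change Nonempty ↥(Spec (D.residueField d))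
    infer_instance
  have : ConnectedSpace ↥X'.left := ‹ConnectedSpace D›
  have hne : (Set.range ι.base).Nonempty := by
    refine ⟨ι.base ((Limits.equalizer.lift z' hzeq).left.base (Classical.arbitrary _)), ⟨_, rfl⟩⟩
  have hclopen : IsClopen (Set.range ι.base) :=
    ⟨ι.isClosedEmbedding.isClosed_range, ι.isOpenEmbedding.isOpen_range⟩
  have huniv : Set.range ι.base = Set.univ := hclopen.eq_univ hne
  have hsurj : Function.Surjective ι.base := Set.range_eq_univ.1 huniv
  have : Epi ι.base := (TopCat.epi_iff_surjective _).2 hsurj
  have : IsIso ι := IsOpenImmersion.isIso ι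
  have hfinal : σ.hom = σ'.hom := by
    rw [← cancel_epi ι]
    exact congr($(Limits.equalizer.condition f' g').left)
  exact Iso.ext hfinal

end Groth.Agent.S15322
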