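import Groth.Statements.S15323
import Groth.Agent.Lib.Helper76.ArLefNode

set_option autoImplicit false
universe u
open ArLef ArLef.NodeAlg

namespace Groth.Agent.S15323

/-- In the cases where the branches through the point do not lie in the divisorial part of the fixed
locus, let B be a discrete valuation ring with uniformizer π, N = B[[t, e]]/(te - π) the complete
local ring of a semi-stable arithmetic surface over B at a singular point x of the closed fibre, and
σ a ring automorphism of N with σ(π) = π + γ π^j (γ a unit of B, j ≥ 1) and σ(b) - b ∈ π^j N for all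
b ∈ B (σ lies over an automorphism τ of B with v(τ(π) - π) = j, B totally ramified over the fixed
ring as in the published setting). Suppose σ fixes the branches, σ(t) = α t and σ(e) = β e with
units α, β, and that t does not divide β - 1 and e does not divide α - 1. Then the length of N
modulo the fixed-point ideal of σ (the multiplicity of x in the residual fixed-point scheme) is j
(s₁ + s₂) + 1, where s₁ = length N/(t, β - 1) and s₂ = length N/(e, α - 1) are the fixed-point
multiplicities of σ at x along the two branches, each lowered by one. -/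
theorem result (B : Type u) [CommRing B] [IsDomain B] [IsDiscreteValuationRing B] (π : B) (hπ : Irreducible π)
    (j : ℕ) (hj : 1 ≤ j) (γ : B) (hγ : IsUnit γ)
    (σ : ArLef.NodeAlg B π ≃+* ArLef.NodeAlg B π)
    (hσB : ∀ b : B, σ (algebraMap B (ArLef.NodeAlg B π) b) - algebraMap B (ArLef.NodeAlg B π) b ∈
      Ideal.span ({algebraMap B (ArLef.NodeAlg B π) (π ^ j)} : Set (ArLef.NodeAlg B π)))
    (hσπ : σ (algebraMap B (ArLef.NodeAlg B π) π) = algebraMap B (ArLef.NodeAlg B π) (π + γ * π ^ j))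
    (α β : (ArLef.NodeAlg B π)ˣ) (ht : σ (ArLef.NodeAlg.t π) = (α : ArLef.NodeAlg B π) * ArLef.NodeAlg.t π) (he : σ (ArLef.NodeAlg.e π) = (β : ArLef.NodeAlg B π) * ArLef.NodeAlg.e π)
    (htb : ¬ (ArLef.NodeAlg.t π ∣ (β : ArLef.NodeAlg B π) - 1)) (hea : ¬ (ArLef.NodeAlg.e π ∣ (α : ArLef.NodeAlg B π) - 1)) :
    Module.length (ArLef.NodeAlg B π) (ArLef.NodeAlg B π ⧸ ArLef.fixIdeal σ) =
      (j : ℕ∞) * (Module.length (ArLef.NodeAlg B π) (ArLef.NodeAlg B π ⧸ Ideal.span ({ArLef.NodeAlg.t π, (β : ArLef.NodeAlg B π) - 1} : Set (ArLef.NodeAlg B π))) +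
        Module.length (ArLef.NodeAlg B π) (ArLef.NodeAlg B π ⧸ Ideal.span ({ArLef.NodeAlg.e π, (α : ArLef.NodeAlg B π) - 1} : Set (ArLef.NodeAlg B π)))) + 1 := by
  haveI := Groth.Agent.Lib.Helper76.ArLefNode.isDomain_node hπ
  have htp : Prime (ArLef.NodeAlg.t π) := Groth.Agent.Lib.Helper76.ArLefNode.prime_t hπ
  have hep : Prime (ArLef.NodeAlg.e π) := Groth.Agent.Lib.Helper76.ArLefNode.prime_e hπ
  have hnte := Groth.Agent.Lib.Helper76.ArLefNode.not_t_dvd_e hπ
  have hnet := Groth.Agent.Lib.Helper76.ArLefNode.not_e_dvd_t hπ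
  have hte : ArLef.NodeAlg.t π * ArLef.NodeAlg.e π = algebraMap B (ArLef.NodeAlg B π) π :=
    Groth.Agent.Lib.Helper76.ArLefNode.t_mul_e
  obtain ⟨j', rfl⟩ : ∃ j', j = j' + 1 := ⟨j - 1, by omega⟩
  obtain ⟨γ', hγ'⟩ := hγ.exists_left_inv
  obtain ⟨p, hp⟩ : ∃ p : ArLef.NodeAlg B π, p = algebraMap B (ArLef.NodeAlg B π) π := ⟨_, rfl⟩
  obtain ⟨g₀, hg₀⟩ : ∃ g₀ : ArLef.NodeAlg B π, g₀ = algebraMap B (ArLef.NodeAlg B π) γ := ⟨_, rfl⟩
  obtain ⟨g₁, hg₁⟩ : ∃ g₁ : ArLef.NodeAlg B π, g₁ = algebraMap B (ArLef.NodeAlg B π) γ' := ⟨_, rfl⟩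
  have hgg : g₁ * g₀ = 1 := by rw [hg₀, hg₁, ← map_mul, hγ', map_one]
  have hte' : ArLef.NodeAlg.t π * ArLef.NodeAlg.e π = p := by rw [hp, hte]
  -- the elements `a = α - 1`, `b = β - 1`
  obtain ⟨a, ha⟩ : ∃ a : ArLef.NodeAlg B π, a = (α : ArLef.NodeAlg B π) - 1 := ⟨_, rfl⟩
  obtain ⟨b, hb⟩ : ∃ b : ArLef.NodeAlg B π, b = (β : ArLef.NodeAlg B π) - 1 := ⟨_, rfl⟩
  obtain ⟨ai, hai⟩ : ∃ ai : ArLef.NodeAlg B π, ai * (1 + a) = 1 :=
    ⟨((α⁻¹ : (ArLef.NodeAlg B π)ˣ) : ArLef.NodeAlg B π), by rw [ha]; simp⟩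
  rw [← ha] at hea
  rw [← hb] at htb
  have hα : (α : ArLef.NodeAlg B π) = 1 + a := by rw [ha]; ring
  have hβ : (β : ArLef.NodeAlg B π) = 1 + b := by rw [hb]; ring
  rw [hα] at ht
  rw [hβ] at he
  have hstar : a + b + a * b = g₀ * p ^ j' := by
    have h1 : σ (ArLef.NodeAlg.t π * ArLef.NodeAlg.e π) = p + g₀ * p ^ (j' + 1) := by
      rw [hte, hσπ, map_add, map_mul, map_pow, hp, hg₀]
    rw [map_mul, ht, he] at h1
    have hte0 : ArLef.NodeAlg.t π * ArLef.NodeAlg.e π ≠ 0 :=
      mul_ne_zero htp.ne_zero hep.ne_zero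
    apply mul_left_cancel₀ hte0
    linear_combination h1 - (1 + g₀ * p ^ j') * hte'
  have hσt : σ (ArLef.NodeAlg.t π) - ArLef.NodeAlg.t π = a * ArLef.NodeAlg.t π := by
    rw [ht]; ring
  have hσe : σ (ArLef.NodeAlg.e π) - ArLef.NodeAlg.e π = b * ArLef.NodeAlg.e π := by
    rw [he]; ring
  have hfix : ArLef.fixIdeal σ =
      Ideal.span {a * ArLef.NodeAlg.t π, b * ArLef.NodeAlg.e π} := by
    apply le_antisymm
    · unfold ArLef.fixIdeal
      rw [Ideal.span_le]
      rintro _ ⟨r, rfl⟩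
      refine Groth.Agent.Lib.Helper76.ArLefNode.sub_mem_node hπ σ _ (fun c => ?_) ?_ ?_ r
      · have hpj : algebraMap B (ArLef.NodeAlg B π) (π ^ (j' + 1)) ∈
            Ideal.span {a * ArLef.NodeAlg.t π, b * ArLef.NodeAlg.e π} := by
          rw [map_pow, ← hp, Ideal.mem_span_pair]
          exact ⟨g₁ * ArLef.NodeAlg.e π, g₁ * (ArLef.NodeAlg.t π + a * ArLef.NodeAlg.t π), by
            linear_combination (g₁ * (a + b + a * b)) * hte' + (g₁ * p) * hstar +
              p ^ (j' + 1) * hgg⟩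
        exact (Ideal.span_le.mpr (Set.singleton_subset_iff.mpr hpj)) (hσB c)
      · rw [hσt]
        exact Ideal.subset_span (by simp)
      · rw [hσe]
        exact Ideal.subset_span (by simp)
    · rw [Ideal.span_le]
      intro z hz
      simp only [Set.mem_insert_iff, Set.mem_singleton_iff] at hz
      rcases hz with rfl | rfl
      · rw [← hσt]
        exact Ideal.subset_span ⟨_, rfl⟩
      · rw [← hσe]
        exact Ideal.subset_span ⟨_, rfl⟩
  -- regularity facts
  have hreg₁ : ∀ v, b * ArLef.NodeAlg.e π ∣ ArLef.NodeAlg.t π * v → b * ArLef.NodeAlg.e π ∣ v := by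
    rintro v ⟨d, hd⟩
    have h1 : ArLef.NodeAlg.e π ∣ ArLef.NodeAlg.t π * v := ⟨b * d, by rw [hd]; ring⟩
    rcases hep.dvd_or_dvd h1 with h2 | h2
    · exact absurd h2 hnet
    · obtain ⟨v₁, rfl⟩ := h2
      have h3 : ArLef.NodeAlg.t π * v₁ = b * d := by
        apply mul_left_cancel₀ hep.ne_zero
        linear_combination hd
      have h4 : ArLef.NodeAlg.t π ∣ b * d := ⟨v₁, h3.symm⟩
      rcases htp.dvd_or_dvd h4 with h5 | h5
      · exact absurd h5 htb
      · obtain ⟨d₁, rfl⟩ := h5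
        refine ⟨d₁, ?_⟩
        have h6 : v₁ = b * d₁ := by
          apply mul_left_cancel₀ htp.ne_zero
          linear_combination h3
        rw [h6]
        ring
  have hreg₂ : ∀ v, ArLef.NodeAlg.t π ∣ ArLef.NodeAlg.e π * v → ArLef.NodeAlg.t π ∣ v := by
    intro v hv
    rcases htp.dvd_or_dvd hv with h | h
    · exact absurd h hnte
    · exact h
  have hreg₃ : ∀ v, a ∣ ArLef.NodeAlg.e π * v → a ∣ v := by
    rintro v ⟨d, hd⟩
    have h1 : ArLef.NodeAlg.e π ∣ a * d := ⟨v, hd.symm⟩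
    rcases hep.dvd_or_dvd h1 with h2 | h2
    · exact absurd h2 hea
    · obtain ⟨d₁, rfl⟩ := h2
      refine ⟨d₁, ?_⟩
      apply mul_left_cancel₀ hep.ne_zero
      linear_combination hd
  -- the three splittings
  have hs1 := Groth.Agent.Lib.Helper76.ArLefNode.length_mul_pair (ArLef.NodeAlg.t π) a
    (b * ArLef.NodeAlg.e π) hreg₁
  have hs2 := Groth.Agent.Lib.Helper76.ArLefNode.length_mul_pair (ArLef.NodeAlg.e π) b
    (ArLef.NodeAlg.t π) hreg₂
  have hs3 := Groth.Agent.Lib.Helper76.ArLefNode.length_mul_pair (ArLef.NodeAlg.e π) b a hreg₃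
  haveI := Groth.Agent.Lib.Helper76.ArLefNode.isMaximal_span_t_e hπ
  have hmax : Module.length (ArLef.NodeAlg B π) (ArLef.NodeAlg B π ⧸
      Ideal.span {ArLef.NodeAlg.e π, ArLef.NodeAlg.t π}) = 1 := by
    rw [Set.pair_comm]
    exact Groth.Agent.Lib.Helper76.ArNF.length_quot_of_isMaximal _
  -- the ideal (a, b)
  have hspab : (Ideal.span {b, a} : Ideal (ArLef.NodeAlg B π)) = Ideal.span {p ^ j', a} := by
    apply le_antisymm
    · rw [Ideal.span_le]
      intro z hz
      simp only [Set.mem_insert_iff, Set.mem_singleton_iff] at hz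
      rcases hz with rfl | rfl
      · rw [SetLike.mem_coe, Ideal.mem_span_pair]
        exact ⟨ai * g₀, -ai, by linear_combination (-ai) * hstar + z * hai⟩
      · exact Ideal.subset_span (by simp)
    · rw [Ideal.span_le]
      intro z hz
      simp only [Set.mem_insert_iff, Set.mem_singleton_iff] at hz
      rcases hz with rfl | rfl
      · rw [SetLike.mem_coe, Ideal.mem_span_pair]
        exact ⟨g₁ * (1 + a), g₁, by linear_combination g₁ * hstar + p ^ j' * hgg⟩
      · exact Ideal.subset_span (by simp)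
  have hab : Module.length (ArLef.NodeAlg B π) (ArLef.NodeAlg B π ⧸ Ideal.span {b, a}) =
      (j' : ℕ∞) * (Module.length (ArLef.NodeAlg B π) (ArLef.NodeAlg B π ⧸
          Ideal.span {ArLef.NodeAlg.t π, b}) +
        Module.length (ArLef.NodeAlg B π) (ArLef.NodeAlg B π ⧸
          Ideal.span {ArLef.NodeAlg.e π, a})) := by
    rw [hspab]
    rcases Nat.eq_zero_or_pos j' with rfl | hj'
    · have : (Ideal.span {p ^ 0, a} : Ideal (ArLef.NodeAlg B π)) = ⊤ := by
        rw [Ideal.eq_top_iff_one, pow_zero]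
        exact Ideal.subset_span (by simp)
      rw [this, Nat.cast_zero, zero_mul]
      exact Module.length_eq_zero_iff.mpr (Ideal.Quotient.subsingleton_iff.mpr rfl)
    · obtain ⟨j'', rfl⟩ : ∃ j'', j' = j'' + 1 := ⟨j' - 1, by omega⟩
      have hnta : ¬ ArLef.NodeAlg.t π ∣ a := by
        intro hd
        apply htb
        have h1 : ArLef.NodeAlg.t π ∣ g₀ * p ^ (j'' + 1) - a - a * b := by
          refine dvd_sub (dvd_sub ?_ hd) (hd.mul_right _)
          rw [← hte', pow_succ]
          exact ⟨g₀ * (ArLef.NodeAlg.t π * ArLef.NodeAlg.e π) ^ j'' * ArLef.NodeAlg.e π, by ring⟩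
        have h2 : g₀ * p ^ (j'' + 1) - a - a * b = b := by linear_combination -hstar
        rwa [h2] at h1
      have hreg₄ : ∀ v, a ∣ ArLef.NodeAlg.t π ^ (j'' + 1) * v → a ∣ v := by
        rintro v ⟨d, hd⟩
        have h1 : ArLef.NodeAlg.t π ^ (j'' + 1) ∣ a * d := ⟨v, hd.symm⟩
        obtain ⟨d₁, rfl⟩ := htp.pow_dvd_of_dvd_mul_left _ hnta h1
        refine ⟨d₁, ?_⟩
        apply mul_left_cancel₀ (pow_ne_zero (j'' + 1) htp.ne_zero)
        linear_combination hd
      have hs4 := Groth.Agent.Lib.Helper76.ArLefNode.length_mul_pair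
        (ArLef.NodeAlg.t π ^ (j'' + 1)) (ArLef.NodeAlg.e π ^ (j'' + 1)) a hreg₄
      have hpp : p ^ (j'' + 1) = ArLef.NodeAlg.t π ^ (j'' + 1) * ArLef.NodeAlg.e π ^ (j'' + 1) := by
        rw [← hte', mul_pow]
      have hspat : (Ideal.span {a, ArLef.NodeAlg.t π} : Ideal (ArLef.NodeAlg B π)) =
          Ideal.span {ArLef.NodeAlg.t π, b} := by
        apply le_antisymm
        · rw [Ideal.span_le]
          intro z hz
          simp only [Set.mem_insert_iff, Set.mem_singleton_iff] at hz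
          rcases hz with rfl | rfl
          · rw [SetLike.mem_coe, Ideal.mem_span_pair]
            exact ⟨g₀ * p ^ j'' * ArLef.NodeAlg.e π, -(1 + z), by
              linear_combination -hstar + (g₀ * p ^ j'') * hte'⟩
          · exact Ideal.subset_span (by simp)
        · rw [Ideal.span_le]
          intro z hz
          simp only [Set.mem_insert_iff, Set.mem_singleton_iff] at hz
          rcases hz with rfl | rfl
          · exact Ideal.subset_span (by simp)
          · rw [SetLike.mem_coe, Ideal.mem_span_pair]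
            exact ⟨-ai, ai * g₀ * p ^ j'' * ArLef.NodeAlg.e π, by
              linear_combination (-ai) * hstar + z * hai + (ai * g₀ * p ^ j'') * hte'⟩
      rw [hpp, hs4, Set.pair_comm (ArLef.NodeAlg.e π ^ (j'' + 1)) a,
        Set.pair_comm (ArLef.NodeAlg.t π ^ (j'' + 1)) a,
        Groth.Agent.Lib.Helper76.ArLefNode.length_span_pair_pow hep hea,
        Groth.Agent.Lib.Helper76.ArLefNode.length_span_pair_pow htp hnta, hspat,
        Set.pair_comm a (ArLef.NodeAlg.e π)]
      ring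
  -- assemble
  rw [← ha, ← hb, hfix, mul_comm a (ArLef.NodeAlg.t π), hs1,
    Set.pair_comm (ArLef.NodeAlg.t π) (b * ArLef.NodeAlg.e π), mul_comm b (ArLef.NodeAlg.e π), hs2,
    Set.pair_comm a (ArLef.NodeAlg.e π * b), hs3, hab, hmax,
    Set.pair_comm b (ArLef.NodeAlg.t π)]
  push_cast
  ring

end Groth.Agent.S15323
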