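import Groth.Statements.S15325
import Groth.Agent.Lib.Helper76.ArLefNode

set_option autoImplicit false
universe u
open ArLef ArLef.NodeAlg

namespace Groth.Agent.S15325

section aux

open MvPowerSeries
open Groth.Agent.Lib.Helper76.LT Groth.Agent.Lib.Helper76.PSInv
open Groth.Agent.Lib.Helper76.PSComplete Groth.Agent.Lib.Helper76.ArNF
open Groth.Agent.Lib.Helper76

variable {k : Type u} [Field k]

local notation "P" => MvPowerSeries (Fin 2) k

/-- the quotient map onto the node over a field -/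
noncomputable abbrev mk0 : P →+* NodeAlg k 0 := Ideal.Quotient.mk _

lemma rel_eq : (X 0 * X 1 - C (0 : k) : P) = X 0 * X 1 := by rw [map_zero, sub_zero]

lemma mk0_eq_zero_iff {F : P} : mk0 F = 0 ↔ ∃ H : P, F = X 0 * X 1 * H := by
  rw [Ideal.Quotient.eq_zero_iff_mem, rel_eq, Ideal.mem_span_singleton]
  rfl

lemma t_mul_e0 : t (0 : k) * e (0 : k) = 0 := by
  show mk0 (X 0) * mk0 (X 1) = 0
  rw [← map_mul, mk0_eq_zero_iff]
  exact ⟨1, by rw [mul_one]⟩

lemma t_mul_eq_e_mul {x y : NodeAlg k 0} (h : t (0 : k) * x = e (0 : k) * y) :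
    t (0 : k) * x = 0 := by
  obtain ⟨F, rfl⟩ := Ideal.Quotient.mk_surjective x
  obtain ⟨G, rfl⟩ := Ideal.Quotient.mk_surjective y
  have h0 : mk0 (X 0 * F - X 1 * G) = 0 := by
    rw [map_sub, map_mul, map_mul, sub_eq_zero]
    exact h
  obtain ⟨H, hH⟩ := mk0_eq_zero_iff.mp h0
  have hdvd : (X 1 : P) ∣ X 0 * F := ⟨G + X 0 * H, by linear_combination hH⟩
  rcases (ArLefNode.X_prime_two (D := k) 1).dvd_or_dvd hdvd with h1 | h1
  · exact absurd h1 (ArLefNode.X_not_dvd_X (D := k) (by decide))
  · obtain ⟨F', rfl⟩ := h1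
    show mk0 (X 0) * mk0 (X 1 * F') = 0
    rw [map_mul, ← mul_assoc]
    have := t_mul_e0 (k := k)
    change mk0 (X 0) * mk0 (X 1) = 0 at this
    rw [this, zero_mul]

lemma e_dvd_of_t_mul_eq_zero {x : NodeAlg k 0} (h : t (0 : k) * x = 0) : e (0 : k) ∣ x := by
  obtain ⟨F, rfl⟩ := Ideal.Quotient.mk_surjective x
  have h0 : mk0 (X 0 * F) = 0 := by
    rw [map_mul]
    exact h
  obtain ⟨H, hH⟩ := mk0_eq_zero_iff.mp h0
  have hF : F = X 1 * H := by
    have hX0 : (X 0 : P) ≠ 0 := (ArLefNode.X_prime_two (D := k) 0).ne_zero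
    apply mul_left_cancel₀ hX0
    linear_combination hH
  refine ⟨mk0 H, ?_⟩
  show mk0 F = mk0 (X 1) * mk0 H
  rw [hF, map_mul]

lemma mem_span_t_e_iff0 (F : P) :
    mk0 F ∈ Ideal.span {t (0 : k), e (0 : k)} ↔ constantCoeff F = 0 := by
  constructor
  · intro h
    obtain ⟨u, v, huv⟩ := Ideal.mem_span_pair.mp h
    obtain ⟨U, rfl⟩ := Ideal.Quotient.mk_surjective u
    obtain ⟨V, rfl⟩ := Ideal.Quotient.mk_surjective v
    have h0 : mk0 (F - (U * X 0 + V * X 1)) = 0 := by
      rw [map_sub, map_add, map_mul, map_mul, sub_eq_zero]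
      exact huv.symm
    obtain ⟨H, hH⟩ := mk0_eq_zero_iff.mp h0
    have hc := congrArg constantCoeff hH
    simpa using hc
  · intro h
    have hG : Ord (0 + 1) F := ord_one_iff.mpr h
    obtain ⟨gs, _, hgs⟩ := exists_eq_sum_X_mul hG
    rw [Fin.sum_univ_two] at hgs
    rw [hgs, map_add, map_mul, map_mul]
    exact Ideal.add_mem _ (Ideal.mul_mem_right _ _ (Ideal.subset_span (by simp)))
      (Ideal.mul_mem_right _ _ (Ideal.subset_span (by simp)))

lemma isMaximal_span_t_e0 :
    (Ideal.span {t (0 : k), e (0 : k)} : Ideal (NodeAlg k 0)).IsMaximal := by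
  rw [Ideal.isMaximal_iff]
  constructor
  · intro h1
    have : mk0 (1 : P) ∈ Ideal.span {t (0 : k), e (0 : k)} := by
      rw [map_one]
      exact h1
    rw [mem_span_t_e_iff0, map_one] at this
    exact one_ne_zero this
  · intro J x _ hx hxJ
    obtain ⟨F, rfl⟩ := Ideal.Quotient.mk_surjective x
    rw [mem_span_t_e_iff0] at hx
    have hF : IsUnit F :=
      MvPowerSeries.isUnit_iff_constantCoeff.mpr (isUnit_iff_ne_zero.mpr hx)
    have := hF.map mk0
    rw [Ideal.eq_top_of_isUnit_mem J hxJ this]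
    exact Submodule.mem_top

lemma not_isUnit_mk0 {F : P} (hF : constantCoeff F = 0) : ¬ IsUnit (mk0 F) := by
  intro hu
  obtain ⟨w, hw⟩ := hu.exists_right_inv
  obtain ⟨W, rfl⟩ := Ideal.Quotient.mk_surjective w
  have h0 : mk0 (F * W - 1) = 0 := by rw [map_sub, map_mul, hw, map_one, sub_self]
  obtain ⟨H, hH⟩ := mk0_eq_zero_iff.mp h0
  have hc := congrArg constantCoeff hH
  simp [hF] at hc

theorem nontrivial0 : Nontrivial (NodeAlg k 0) := by
  refine ⟨⟨0, 1, fun h => ?_⟩⟩
  refine not_isUnit_mk0 (k := k) (F := 0) (by simp) ?_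
  have h2 : mk0 (0 : P) = 0 := map_zero _
  rw [h2]
  exact isUnit_iff_exists_inv.mpr ⟨1, (zero_mul 1).trans h⟩

theorem isLocalRing0 : IsLocalRing (NodeAlg k 0) := by
  haveI := nontrivial0 (k := k)
  exact IsLocalRing.of_surjective' (mk0 (k := k)) Ideal.Quotient.mk_surjective

theorem sub_mem0 (σ : NodeAlg k 0 ≃ₐ[k] NodeAlg k 0) (J : Ideal (NodeAlg k 0))
    (ht : σ (t (0 : k)) - t (0 : k) ∈ J) (he : σ (e (0 : k)) - e (0 : k) ∈ J)
    (r : NodeAlg k 0) : σ r - r ∈ J := by
  haveI := isLocalRing0 (k := k)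
  have hmul : ∀ r s : NodeAlg k 0, σ r - r ∈ J → σ s - s ∈ J → σ (r * s) - r * s ∈ J := by
    intro r s hr hs
    have : σ (r * s) - r * s = σ r * (σ s - s) + s * (σ r - r) := by
      rw [map_mul]
      ring
    rw [this]
    exact J.add_mem (J.mul_mem_left _ hs) (J.mul_mem_left _ hr)
  have hadd : ∀ r s : NodeAlg k 0, σ r - r ∈ J → σ s - s ∈ J →
      σ (r + s) - (r + s) ∈ J := by
    intro r s hr hs
    have : σ (r + s) - (r + s) = (σ r - r) + (σ s - s) := by
      rw [map_add]
      ring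
    rw [this]
    exact J.add_mem hr hs
  have hpoly : ∀ p : MvPolynomial (Fin 2) k, σ (mk0 (p : P)) - mk0 (p : P) ∈ J := by
    intro p
    induction p using MvPolynomial.induction_on with
    | C c =>
      rw [MvPolynomial.coe_C]
      have h1 : mk0 (C c : P) = algebraMap k (NodeAlg k 0) c := rfl
      rw [h1, σ.commutes, sub_self]
      exact J.zero_mem
    | add p q hp hq =>
      rw [MvPolynomial.coe_add, map_add]
      exact hadd _ _ hp hq
    | mul_X p s hp =>
      rw [MvPolynomial.coe_mul, MvPolynomial.coe_X, map_mul]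
      refine hmul _ _ hp ?_
      fin_cases s
      · exact ht
      · exact he
  have hXm : ∀ s : Fin 2, mk0 (X s) ∈ IsLocalRing.maximalIdeal (NodeAlg k 0) :=
    fun s => by
      rw [IsLocalRing.mem_maximalIdeal, mem_nonunits_iff]
      exact not_isUnit_mk0 (by rw [constantCoeff_X])
  have hpow : ∀ (n : ℕ) (G : P), Ord n G →
      mk0 G ∈ IsLocalRing.maximalIdeal (NodeAlg k 0) ^ n := by
    intro n G hG
    have h1 : G ∈ varIdeal (Fin 2) k ^ n := mem_varIdeal_pow_iff.mpr hG
    have h2 : mk0 G ∈ (varIdeal (Fin 2) k ^ n).map mk0 := Ideal.mem_map_of_mem _ h1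
    rw [Ideal.map_pow] at h2
    refine Ideal.pow_right_mono ?_ n h2
    unfold varIdeal
    rw [Ideal.map_span, Ideal.span_le]
    rintro _ ⟨_, ⟨s, rfl⟩, rfl⟩
    exact hXm s
  apply ArLefPS.mem_of_forall_mem_sup_pow
  intro n
  obtain ⟨F, rfl⟩ := Ideal.Quotient.mk_surjective r
  have hG : Ord n (F - ((MvPowerSeries.truncTotal n F : MvPolynomial (Fin 2) k) : P)) := by
    intro d hd
    rw [map_sub, MvPolynomial.coeff_coe, coeff_truncTotal_eq_ite, if_pos hd, sub_self]
  have hdec : mk0 F = mk0 ((MvPowerSeries.truncTotal n F : MvPolynomial (Fin 2) k) : P) +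
      mk0 (F - ((MvPowerSeries.truncTotal n F : MvPolynomial (Fin 2) k) : P)) := by
    rw [← map_add]
    congr 1
    ring
  have : σ (mk0 F) - mk0 F =
      (σ (mk0 ((MvPowerSeries.truncTotal n F : MvPolynomial (Fin 2) k) : P)) -
        mk0 ((MvPowerSeries.truncTotal n F : MvPolynomial (Fin 2) k) : P)) +
      (σ (mk0 (F - ((MvPowerSeries.truncTotal n F : MvPolynomial (Fin 2) k) : P))) -
        mk0 (F - ((MvPowerSeries.truncTotal n F : MvPolynomial (Fin 2) k) : P))) := by
    conv_lhs => rw [hdec, map_add]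
    ring
  rw [this]
  exact Submodule.add_mem_sup (hpoly _)
    (Ideal.sub_mem _ (ArLefNode.sigma_mem_pow (σ : NodeAlg k 0 ≃+* NodeAlg k 0) (hpow n _ hG))
      (hpow n _ hG))

end aux

/-- Let k be a field, A = k[[t, e]]/(te) the complete local ring of a nodal curve at a node x, and σ a
k-algebra automorphism of A fixing the two branches, σ(t) = α t and σ(e) = β e with units α, β.
Writing I for the fixed-point ideal of σ (generated by all σ(r) - r), the fixed-point multiplicity
length(A/I) of σ at x and the fixed-point multiplicities length(A/(I + (t))), length(A/(I + (e))) of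
the automorphisms induced on the two branches satisfy length(A/I) + 1 = length(A/(I + (t))) +
length(A/(I + (e))), as extended natural numbers (both sides are infinite when σ fixes a branch
pointwise). (The published setting has k algebraically closed.) -/
theorem result (k : Type u) [Field k]
    (σ : ArLef.NodeAlg k 0 ≃ₐ[k] ArLef.NodeAlg k 0) (α β : (ArLef.NodeAlg k 0)ˣ)
    (ht : σ (ArLef.NodeAlg.t (0 : k)) = (α : ArLef.NodeAlg k 0) * ArLef.NodeAlg.t (0 : k)) (he : σ (ArLef.NodeAlg.e (0 : k)) = (β : ArLef.NodeAlg k 0) * ArLef.NodeAlg.e (0 : k)) :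
    Module.length (ArLef.NodeAlg k 0) (ArLef.NodeAlg k 0 ⧸ ArLef.fixIdeal σ) + 1 =
      Module.length (ArLef.NodeAlg k 0) (ArLef.NodeAlg k 0 ⧸ (ArLef.fixIdeal σ ⊔ Ideal.span ({ArLef.NodeAlg.t (0 : k)} : Set (ArLef.NodeAlg k 0)))) +
        Module.length (ArLef.NodeAlg k 0) (ArLef.NodeAlg k 0 ⧸ (ArLef.fixIdeal σ ⊔ Ideal.span ({ArLef.NodeAlg.e (0 : k)} : Set (ArLef.NodeAlg k 0)))) := by
  haveI := isLocalRing0 (k := k)
  obtain ⟨a, ha⟩ : ∃ a : NodeAlg k 0, a = (α : NodeAlg k 0) - 1 := ⟨_, rfl⟩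
  obtain ⟨b, hb⟩ : ∃ b : NodeAlg k 0, b = (β : NodeAlg k 0) - 1 := ⟨_, rfl⟩
  have hσt : σ (t (0 : k)) - t (0 : k) = a * t (0 : k) := by
    rw [ht, ha]; ring
  have hσe : σ (e (0 : k)) - e (0 : k) = b * e (0 : k) := by
    rw [he, hb]; ring
  have hte : t (0 : k) * e (0 : k) = 0 := t_mul_e0
  have hfix : ArLef.fixIdeal σ = Ideal.span {a * t (0 : k), b * e (0 : k)} := by
    apply le_antisymm
    · unfold ArLef.fixIdeal
      rw [Ideal.span_le]
      rintro _ ⟨r, rfl⟩
      refine sub_mem0 σ _ ?_ ?_ r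
      · rw [hσt]
        exact Ideal.subset_span (by simp)
      · rw [hσe]
        exact Ideal.subset_span (by simp)
    · rw [Ideal.span_le]
      intro z hz
      simp only [Set.mem_insert_iff, Set.mem_singleton_iff] at hz
      rcases hz with rfl | rfl
      · rw [← hσt]
        exact Ideal.subset_span ⟨_, rfl⟩
      · rw [← hσe]
        exact Ideal.subset_span ⟨_, rfl⟩
  have hkey : ∀ x u v : NodeAlg k 0, x * t (0 : k) = u * (a * t (0 : k)) + v * e (0 : k) →
      x ∈ Ideal.span {a, e (0 : k)} := by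
    intro x u v h
    have h1 : t (0 : k) * (x - u * a) = e (0 : k) * v := by linear_combination h
    have h2 := t_mul_eq_e_mul h1
    obtain ⟨w, hw⟩ := e_dvd_of_t_mul_eq_zero h2
    rw [Ideal.mem_span_pair]
    exact ⟨u, w, by linear_combination -hw⟩
  have hback : ∀ x : NodeAlg k 0, x ∈ Ideal.span {a, e (0 : k)} →
      ∃ u : NodeAlg k 0, u * (a * t (0 : k)) = x * t (0 : k) := by
    intro x h
    obtain ⟨u, w, huw⟩ := Ideal.mem_span_pair.mp h
    exact ⟨u, by linear_combination t (0 : k) * huw - w * hte⟩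
  have hkerA : ∀ x, x * t (0 : k) ∈ ArLef.fixIdeal σ ↔ x ∈ Ideal.span {a, e (0 : k)} := by
    intro x
    rw [hfix]
    constructor
    · intro h
      obtain ⟨u, v, huv⟩ := Ideal.mem_span_pair.mp h
      exact hkey x u (v * b) (by linear_combination -huv)
    · intro h
      obtain ⟨u, hu⟩ := hback x h
      rw [Ideal.mem_span_pair]
      exact ⟨u, 0, by linear_combination hu⟩
  have hIe : ArLef.fixIdeal σ ⊔ Ideal.span {e (0 : k)} =
      Ideal.span {a * t (0 : k), e (0 : k)} := by
    rw [hfix]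
    apply le_antisymm
    · apply sup_le
      · rw [Ideal.span_le]
        intro z hz
        simp only [Set.mem_insert_iff, Set.mem_singleton_iff] at hz
        rcases hz with rfl | rfl
        · exact Ideal.subset_span (by simp)
        · exact Ideal.mul_mem_left _ _ (Ideal.subset_span (by simp))
      · rw [Ideal.span_le]
        intro z hz
        rw [Set.mem_singleton_iff] at hz
        rw [hz]
        exact Ideal.subset_span (by simp)
    · rw [Ideal.span_le]
      intro z hz
      simp only [Set.mem_insert_iff, Set.mem_singleton_iff] at hz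
      rcases hz with rfl | rfl
      · exact Ideal.mem_sup_left (Ideal.subset_span (by simp))
      · exact Ideal.mem_sup_right (Ideal.subset_span (by simp))
  have hkerB : ∀ x, x * t (0 : k) ∈ ArLef.fixIdeal σ ⊔ Ideal.span {e (0 : k)} ↔
      x ∈ Ideal.span {a, e (0 : k)} := by
    intro x
    rw [hIe]
    constructor
    · intro h
      obtain ⟨u, v, huv⟩ := Ideal.mem_span_pair.mp h
      exact hkey x u v huv.symm
    · intro h
      obtain ⟨u, hu⟩ := hback x h
      rw [Ideal.mem_span_pair]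
      exact ⟨u, 0, by linear_combination hu⟩
  have hsup : (ArLef.fixIdeal σ ⊔ Ideal.span {e (0 : k)}) ⊔ Ideal.span {t (0 : k)} =
      Ideal.span {t (0 : k), e (0 : k)} := by
    rw [hIe]
    apply le_antisymm
    · apply sup_le
      · rw [Ideal.span_le]
        intro z hz
        simp only [Set.mem_insert_iff, Set.mem_singleton_iff] at hz
        rcases hz with rfl | rfl
        · exact Ideal.mul_mem_left _ _ (Ideal.subset_span (by simp))
        · exact Ideal.subset_span (by simp)
      · rw [Ideal.span_le]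
        intro z hz
        rw [Set.mem_singleton_iff] at hz
        rw [hz]
        exact Ideal.subset_span (by simp)
    · rw [Ideal.span_le]
      intro z hz
      simp only [Set.mem_insert_iff, Set.mem_singleton_iff] at hz
      rcases hz with rfl | rfl
      · exact Ideal.mem_sup_right (Ideal.subset_span (by simp))
      · exact Ideal.mem_sup_left (Ideal.subset_span (by simp))
  haveI := isMaximal_span_t_e0 (k := k)
  have hmax : Module.length (NodeAlg k 0) (NodeAlg k 0 ⧸
      Ideal.span {t (0 : k), e (0 : k)}) = 1 :=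
    Groth.Agent.Lib.Helper76.ArNF.length_quot_of_isMaximal _
  have hA := Groth.Agent.Lib.Helper76.ArLefPS.length_exact_mul
    (Ideal.span {a, e (0 : k)}) (ArLef.fixIdeal σ) (t (0 : k)) hkerA
  have hB := Groth.Agent.Lib.Helper76.ArLefPS.length_exact_mul
    (Ideal.span {a, e (0 : k)}) (ArLef.fixIdeal σ ⊔ Ideal.span {e (0 : k)}) (t (0 : k)) hkerB
  rw [hA, hB, hsup, hmax]
  ring

end Groth.Agent.S15325
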