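import Groth.Statements.S15344
import Mathlib
-- import your own Groth.Agent.* helpers here

set_option autoImplicit false
universe u
open CategoryTheory CategoryTheory.Limits AlgebraicGeometry
open Mor
open TensorProduct IsLocalRing

namespace Groth.Agent.S15344

theorem surjective_algebraMap_of_isEpi_field (k C : Type*) [Field k] [CommRing C] [Nontrivial C]
    [Algebra k C] [Algebra.IsEpi k C] : Function.Surjective (algebraMap k C) := by
  have hinj : LinearMap.ker (Algebra.linearMap k C) = ⊥ :=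
    LinearMap.ker_eq_bot.mpr (algebraMap k C).injective
  obtain ⟨l, hl⟩ := (Algebra.linearMap k C).exists_leftInverse_of_injective hinj
  have hl1 : l 1 = 1 := by
    have := congr($hl 1)
    simpa using this
  let g : C ⊗[k] C →ₗ[k] C := TensorProduct.lift ((LinearMap.lsmul k C).comp l)
  intro c
  have h := (Algebra.isEpi_iff_forall_one_tmul_eq k C).mp inferInstance c
  have h2 := congr(g $h)
  simp only [g, TensorProduct.lift.tmul, LinearMap.comp_apply, LinearMap.lsmul_apply, hl1,
    one_smul] at h2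
  exact ⟨l c, by rw [Algebra.algebraMap_eq_smul_one]; exact h2.symm⟩

theorem exists_section_of_mono_field {k : Type u} [Field k] {W : Scheme.{u}}
    (q : W ⟶ Spec (CommRingCat.of k)) [Mono q] [Nonempty W] :
    ∃ s : Spec (CommRingCat.of k) ⟶ W, s ≫ q = 𝟙 _ := by
  obtain ⟨w⟩ := ‹Nonempty W›
  obtain ⟨_, ⟨U, hU, rfl⟩, hwU, -⟩ :=
    W.isBasis_affineOpens.exists_subset_of_mem_open (Set.mem_univ w) isOpen_univ
  let φ : CommRingCat.of k ⟶ Γ(W, U) := Spec.preimage (hU.fromSpec ≫ q)
  have hφ : Spec.map φ = hU.fromSpec ≫ q := Spec.map_preimage _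
  have hmono : Mono (Spec.map φ) := by rw [hφ]; infer_instance
  have hepi : Epi φ := by
    have : Mono (Scheme.Spec.map φ.op) := hmono
    have := Scheme.Spec.mono_of_mono_map this
    exact unop_epi_of_mono φ.op
  letI : Algebra k Γ(W, U) := φ.hom.toAlgebra
  have hφ' : φ = CommRingCat.ofHom (algebraMap k Γ(W, U)) := rfl
  have : Algebra.IsEpi k Γ(W, U) := CommRingCat.epi_iff_epi.mp (hφ' ▸ hepi)
  have : Nonempty U := ⟨⟨w, hwU⟩⟩
  have : Nontrivial Γ(W, U) := inferInstance
  have hsurj := surjective_algebraMap_of_isEpi_field k Γ(W, U)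
  have hbij : Function.Bijective φ.hom := ⟨(algebraMap k Γ(W, U)).injective, hsurj⟩
  have : IsIso φ := (ConcreteCategory.isIso_iff_bijective φ).mpr hbij
  refine ⟨Spec.map (inv φ) ≫ hU.fromSpec, ?_⟩
  rw [Category.assoc, ← hφ, ← Spec.map_comp, IsIso.hom_inv_id, Spec.map_id]

set_option backward.isDefEq.respectTransparency false in
theorem lift_of_specializes {X Y : Scheme.{u}} (f : Y ⟶ X) (S : ValuativeCommSq f)
    (x : ↥(pullback f S.i₂))
    (h₁ : (pullback.lift S.i₁ (Spec.map (CommRingCat.ofHom (algebraMap S.R S.K))) S.commSq.w)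
      (closedPoint S.K) ⤳ x)
    (h₂ : (pullback.snd f S.i₂) x = closedPoint S.R) :
    S.commSq.HasLift := by
  obtain ⟨R, K, i₁, i₂, ⟨w⟩⟩ := S
  dsimp only at x h₁ h₂ ⊢
  have : IsDomain (CommRingCat.of R) := ‹_›
  have : ValuationRing (CommRingCat.of R) := ‹_›
  let : Field (CommRingCat.of K) := ‹_›
  let lft := pullback.lift i₁ (Spec.map (CommRingCat.ofHom (algebraMap R K))) w
  let e : CommRingCat.of R ≅ (Spec <| .of R).presheaf.stalk (pullback.snd f i₂ x) :=
    (stalkClosedPointIso (.of R)).symm ≪≫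
      (Spec <| .of R).presheaf.stalkCongr (.of_eq h₂.symm)
  let α := e.hom ≫ (pullback.snd f i₂).stalkMap x
  have : IsLocalHom e.hom.hom := isLocalHom_of_isIso e.hom
  have : IsLocalHom α.hom := inferInstanceAs
    (IsLocalHom (((pullback.snd f i₂).stalkMap x).hom.comp e.hom.hom))
  let β := (pullback f i₂).presheaf.stalkSpecializes h₁ ≫ Scheme.stalkClosedPointTo lft
  have hαβ : α ≫ β = CommRingCat.ofHom (algebraMap R K) := by
    simp only [CommRingCat.coe_of, Iso.trans_hom, Iso.symm_hom, TopCat.Presheaf.stalkCongr_hom,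
      Category.assoc, α, e, β, stalkClosedPointIso_inv, StructureSheaf.toStalk]
    change (Scheme.ΓSpecIso (.of R)).inv ≫ (Spec <| .of R).presheaf.germ _ _ _ ≫ _ = _
    simp only [TopCat.Presheaf.germ_stalkSpecializes_assoc, Scheme.Hom.germ_stalkMap_assoc]
    simp only [TopologicalSpace.Opens.map_top]
    rw [Scheme.germ_stalkClosedPointTo lft ⊤ trivial]
    erw [← Scheme.Hom.comp_app_assoc lft (pullback.snd f i₂)]
    rw [pullback.lift_snd]
    simp
  have hbij := (bijective_rangeRestrict_comp_of_valuationRing (R := R) (K := K) α.hom β.hom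
    (CommRingCat.hom_ext_iff.mp hαβ))
  let φ : (pullback f i₂).presheaf.stalk x ⟶ CommRingCat.of R := CommRingCat.ofHom <|
    (RingEquiv.ofBijective _ hbij).symm.toRingHom.comp β.hom.rangeRestrict
  have hαφ : α ≫ φ = 𝟙 _ := by ext x; exact (RingEquiv.ofBijective _ hbij).symm_apply_apply x
  have hαφ' : (pullback.snd f i₂).stalkMap x ≫ φ = e.inv := by
    rw [← cancel_epi e.hom, ← Category.assoc, hαφ, e.hom_inv_id]
  have hφβ : φ ≫ CommRingCat.ofHom (algebraMap R K) = β :=
    hαβ ▸ CommRingCat.hom_ext (RingHom.ext fun x ↦ congr_arg Subtype.val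
      ((RingEquiv.ofBijective _ hbij).apply_symm_apply (β.hom.rangeRestrict x)))
  refine ⟨⟨⟨Spec.map ((pullback.fst f i₂).stalkMap x ≫ φ) ≫ Y.fromSpecStalk _, ?_, ?_⟩⟩⟩
  · simp only [← Spec.map_comp_assoc, Category.assoc, hφβ]
    simp only [Spec.map_comp, Category.assoc, Scheme.SpecMap_stalkMap_fromSpecStalk,
      Scheme.SpecMap_stalkSpecializes_fromSpecStalk_assoc, β]
    rw [Scheme.Spec_stalkClosedPointTo_fromSpecStalk_assoc]
    simp [lft]
  · simp only [Spec.map_comp, Category.assoc, Scheme.SpecMap_stalkMap_fromSpecStalk,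
      pullback.condition]
    rw [← Scheme.SpecMap_stalkMap_fromSpecStalk_assoc, ← Spec.map_comp_assoc, hαφ']
    simp only [Iso.trans_inv, TopCat.Presheaf.stalkCongr_inv, Iso.symm_inv, Spec.map_comp,
      Category.assoc, Scheme.SpecMap_stalkSpecializes_fromSpecStalk_assoc, e]
    rw [← Spec_stalkClosedPointIso, ← Spec.map_comp_assoc,
      Iso.inv_hom_id, Spec.map_id, Category.id_comp]

theorem forward {X Y : Scheme.{u}} (f : Y ⟶ X)
    (H : ∀ (X' : Scheme.{u}) (g : X' ⟶ X) (y₀ y₁ : ↥(pullback f g)),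
        (pullback.snd f g).base y₁ ⤳ (pullback.snd f g).base y₀ → y₁ ⤳ y₀)
    (S : ValuativeCommSq f)
    (hl : ∃ l₀ : Spec (CommRingCat.of (IsLocalRing.ResidueField S.R)) ⟶ Y,
            l₀ ≫ f = Spec.map (CommRingCat.ofHom (IsLocalRing.residue S.R)) ≫ S.i₂) :
    S.commSq.HasLift := by
  obtain ⟨l₀, hl₀⟩ := hl
  let j₀ := pullback.lift l₀ (Spec.map (CommRingCat.ofHom (IsLocalRing.residue S.R))) hl₀
  let y₀ := j₀ (closedPoint (IsLocalRing.ResidueField S.R))
  have h₂ : (pullback.snd f S.i₂) y₀ = closedPoint S.R := by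
    simp only [y₀, j₀]
    rw [← Scheme.Hom.comp_apply, pullback.lift_snd]
    exact comap_closedPoint (IsLocalRing.residue S.R)
  refine lift_of_specializes f S y₀ ?_ h₂
  apply H
  rw [h₂]
  exact specializes_closedPoint _

set_option backward.isDefEq.respectTransparency.types false in
theorem backward {X Y : Scheme.{u}} (f : Y ⟶ X) [Mono f]
    (H : ∀ S : ValuativeCommSq f,
        (∃ l₀ : Spec (CommRingCat.of (IsLocalRing.ResidueField S.R)) ⟶ Y,
            l₀ ≫ f = Spec.map (CommRingCat.ofHom (IsLocalRing.residue S.R)) ≫ S.i₂) →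
          S.commSq.HasLift)
    (X' : Scheme.{u}) (g : X' ⟶ X) (y₀ y₁ : ↥(pullback f g))
    (hspec : (pullback.snd f g).base y₁ ⤳ (pullback.snd f g).base y₀) : y₁ ⤳ y₀ := by
  let Y' := pullback f g
  let p : Y' ⟶ X' := pullback.snd f g
  let q : Y' ⟶ Y := pullback.fst f g
  let φ₀ : X'.presheaf.stalk (p y₀) ⟶ Y'.residueField y₁ :=
    X'.presheaf.stalkSpecializes hspec ≫ p.stalkMap y₁ ≫ Y'.residue y₁
  obtain ⟨A, hA, hA_local⟩ := exists_factor_valuationRing φ₀.hom
  let stalk_to_A : X'.presheaf.stalk (p y₀) ⟶ .of A :=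
    CommRingCat.ofHom (φ₀.hom.codRestrict _ hA)
  have w : Y'.fromSpecResidueField y₁ ≫ p =
      Spec.map (CommRingCat.ofHom (algebraMap A (Y'.residueField y₁))) ≫
        Spec.map stalk_to_A ≫ X'.fromSpecStalk (p y₀) := by
    rw [Scheme.fromSpecResidueField, Category.assoc, ← Scheme.SpecMap_stalkMap_fromSpecStalk,
      ← Scheme.SpecMap_stalkSpecializes_fromSpecStalk hspec]
    simp_rw [← Spec.map_comp_assoc]
    rfl
  let t₀ : Spec (.of A) ⟶ X' := Spec.map stalk_to_A ≫ X'.fromSpecStalk (p y₀)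
  have ht₀ : t₀ (closedPoint A) = p y₀ := by
    simp only [t₀, Scheme.Hom.comp_base, TopCat.coe_comp, Function.comp_apply]
    have : Spec.map stalk_to_A (closedPoint A) = closedPoint (X'.presheaf.stalk (p y₀)) :=
      comap_closedPoint (S := A) (φ₀.hom.codRestrict A.toSubring hA)
    rw [this, X'.fromSpecStalk_closedPoint]
  have w' : (Y'.fromSpecResidueField y₁ ≫ q) ≫ f =
      Spec.map (CommRingCat.ofHom (algebraMap A (Y'.residueField y₁))) ≫ t₀ ≫ g := by
    rw [Category.assoc, pullback.condition, reassoc_of% w]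
    simp only [t₀, Category.assoc]
  let S : ValuativeCommSq f :=
    { R := A, K := Y'.residueField y₁, i₁ := Y'.fromSpecResidueField y₁ ≫ q, i₂ := t₀ ≫ g,
      commSq := ⟨w'⟩ }
  -- residue field lift
  let k := IsLocalRing.ResidueField A
  let t : Spec (.of k) ⟶ X' := Spec.map (CommRingCat.ofHom (IsLocalRing.residue A)) ≫ t₀
  have ht : t (closedPoint k) = p y₀ := by
    simp only [t, Scheme.Hom.comp_base, TopCat.coe_comp, Function.comp_apply]
    have : Spec.map (CommRingCat.ofHom (IsLocalRing.residue A)) (closedPoint k) = closedPoint A :=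
      comap_closedPoint (IsLocalRing.residue A)
    rw [this]; exact ht₀
  obtain ⟨z, hz₁, hz₂⟩ := Scheme.Pullback.exists_preimage_pullback (f := p) (g := t) y₀ (closedPoint k) ht.symm
  have : Nonempty ↥(pullback p t) := ⟨z⟩
  obtain ⟨s, hs⟩ := exists_section_of_mono_field (pullback.snd p t)
  have hl₀ : ∃ l₀ : Spec (CommRingCat.of (IsLocalRing.ResidueField S.R)) ⟶ Y,
            l₀ ≫ f = Spec.map (CommRingCat.ofHom (IsLocalRing.residue S.R)) ≫ S.i₂ := by
    refine ⟨s ≫ pullback.fst p t ≫ q, ?_⟩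
    simp only [Category.assoc]
    rw [pullback.condition, pullback.condition_assoc, reassoc_of% hs]
    rfl
  obtain ⟨⟨⟨l, hl₁, hl₂⟩⟩⟩ := H S hl₀
  let L : Spec (.of A) ⟶ Y' := pullback.lift l t₀ hl₂
  have hinj : Function.Injective p := Scheme.Hom.injective p
  have hL₀ : L (closedPoint A) = y₀ := by
    apply hinj
    rw [← Scheme.Hom.comp_apply, pullback.lift_snd, ht₀]
  have hL₁ : Spec.map (CommRingCat.ofHom (algebraMap A (Y'.residueField y₁))) ≫ L =
      Y'.fromSpecResidueField y₁ := by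
    apply pullback.hom_ext
    · rw [Category.assoc, pullback.lift_fst, hl₁]
    · rw [Category.assoc, pullback.lift_snd]; exact w.symm
  have hy₁ : y₁ = L (Spec.map (CommRingCat.ofHom (algebraMap A (Y'.residueField y₁)))
      (closedPoint (Y'.residueField y₁))) := by
    rw [← Scheme.Hom.comp_apply, hL₁, Scheme.fromSpecResidueField_apply]
  have key : L (Spec.map (CommRingCat.ofHom (algebraMap A (Y'.residueField y₁)))
      (closedPoint (Y'.residueField y₁))) ⤳ L (closedPoint A) :=
    (specializes_closedPoint _).map L.continuous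
  rw [hL₀, ← hy₁] at key
  exact key

/-- Let f : Y ⟶ X be a monomorphism of schemes, X quasi-separated. Then the projection Y ×_X X' ⟶ X'
reflects specializations (if the image of y₁ specializes to the image of y₀ then y₁ specializes to
y₀) after every base change X' ⟶ X if and only if, for every valuation ring A with fraction field K
and every commutative square Spec K ⟶ Y, Spec A ⟶ X over f such that, in addition, some morphism
from the spectrum of the residue field of A to Y lies over Spec A ⟶ X, the square admits a lift Spec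
A ⟶ Y. -/
theorem result {X Y : Scheme.{u}} [QuasiSeparatedSpace ↥X]
    (f : Y ⟶ X) [Mono f] :
    (∀ (X' : Scheme.{u}) (g : X' ⟶ X) (y₀ y₁ : ↥(pullback f g)),
        (pullback.snd f g).base y₁ ⤳ (pullback.snd f g).base y₀ → y₁ ⤳ y₀) ↔
      ∀ S : ValuativeCommSq f,
        (∃ l₀ : Spec (CommRingCat.of (IsLocalRing.ResidueField S.R)) ⟶ Y,
            l₀ ≫ f = Spec.map (CommRingCat.ofHom (IsLocalRing.residue S.R)) ≫ S.i₂) →
          S.commSq.HasLift := by
  exact ⟨fun H S hl ↦ forward f H S hl, fun H X' g y₀ y₁ h ↦ backward f H X' g y₀ y₁ h⟩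

end Groth.Agent.S15344
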