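import Groth.Statements.S15346
import Groth.Agent.Lib.Helper25.ReflSpec
import Groth.Agent.Lib.Helper25.MonoDVR

set_option autoImplicit false
universe u
open CategoryTheory CategoryTheory.Limits AlgebraicGeometry
open Mor

namespace Groth.Agent.S15346

/-- Let X be a locally Noetherian scheme and f : Y ⟶ X a monomorphism. Suppose that for every discrete
valuation ring A with fraction field K and every commutative square Spec K ⟶ Y, Spec A ⟶ X over f
such that some morphism from the spectrum of the residue field of A to Y lies over Spec A ⟶ X, the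
square admits a lift Spec A ⟶ Y. Then after every base change X' ⟶ X the projection Y ×_X X' ⟶ X'
reflects specializations. -/
theorem result {X Y : Scheme.{u}} [IsLocallyNoetherian X]
    (f : Y ⟶ X) [Mono f]
    (h : ∀ S : ValuativeCommSq f, IsDiscreteValuationRing S.R →
        (∃ l₀ : Spec (CommRingCat.of (IsLocalRing.ResidueField S.R)) ⟶ Y,
            l₀ ≫ f = Spec.map (CommRingCat.ofHom (IsLocalRing.residue S.R)) ≫ S.i₂) →
          S.commSq.HasLift) :
    ∀ (X' : Scheme.{u}) (g : X' ⟶ X) (y₀ y₁ : ↥(pullback f g)),
        (pullback.snd f g).base y₁ ⤳ (pullback.snd f g).base y₀ → y₁ ⤳ y₀ := by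
  apply Groth.Agent.Lib.Helper25.ReflSpec.specializes_of_reflLft f
  intro X' g _ y₀ y₁ hsp
  have : IsLocallyNoetherian X' := LocallyOfFiniteType.isLocallyNoetherian g
  exact Groth.Agent.Lib.Helper25.MonoDVR.specializes_of_dvrLift (pullback.snd f g)
    (Groth.Agent.Lib.Helper25.MonoDVR.DVRLift.baseChange f g h) y₀ y₁ hsp

end Groth.Agent.S15346
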