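import Groth.Statements.S15347
import Mathlib
import Groth.Agent.S15344
-- import your own Groth.Agent.* helpers here

set_option autoImplicit false
universe u
open CategoryTheory CategoryTheory.Limits AlgebraicGeometry
open Mor

namespace Groth.Agent.S15347

theorem part1 {X Y : Scheme.{u}} (f : Y ⟶ X) [IsImmersion f] (S : ValuativeCommSq f)
    (hl : ∃ l₀ : Spec (CommRingCat.of (IsLocalRing.ResidueField S.R)) ⟶ Y,
            l₀ ≫ f = Spec.map (CommRingCat.ofHom (IsLocalRing.residue S.R)) ≫ S.i₂) :
    S.commSq.HasLift := by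
  refine Groth.Agent.S15344.forward f ?_ S hl
  intro X' g y₀ y₁ h
  have : IsImmersion (pullback.snd f g) := MorphismProperty.pullback_snd _ _ inferInstance
  exact (pullback.snd f g).isEmbedding.isInducing.specializes_iff.mp h

theorem part2 {X Y : Scheme.{u}} (f : Y ⟶ X) [IsImmersion f]
    (A : Type u) [CommRing A] [IsDomain A] (s : Spec (CommRingCat.of A) ⟶ X)
    (D : Set ↥(Spec (CommRingCat.of A))) (hD : Dense D)
    (hlift : ∀ p ∈ D, ∃ l : Spec ((Spec (CommRingCat.of A)).residueField p) ⟶ Y,
            l ≫ f = (Spec (CommRingCat.of A)).fromSpecResidueField p ≫ s) :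
    ∃ U : (Spec (CommRingCat.of A)).Opens, (U : Set ↥(Spec (CommRingCat.of A))).Nonempty ∧
            ∃ l : (U : Scheme.{u}) ⟶ Y, l ≫ f = U.ι ≫ s := by
  let V := f.coborderRange
  let c := f.liftCoborder
  let W := s ⁻¹ᵁ V
  let s' : (W : Scheme.{u}) ⟶ V := s ∣_ V
  have hs' : s' ≫ V.ι = W.ι ≫ s := morphismRestrict_ι s V
  -- points of D lie in W and lift
  have hDW : ∀ p ∈ D, ∃ (hp : p ∈ W) (y : Y), c y = s' ⟨p, hp⟩ := by
    intro p hp
    obtain ⟨l, hl⟩ := hlift p hp
    let pt := IsLocalRing.closedPoint ((Spec (CommRingCat.of A)).residueField p)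
    have h1 : f (l pt) = s p := by
      have := congr($hl pt)
      simpa [Scheme.Hom.comp_apply, Scheme.fromSpecResidueField_apply] using this
    have h2 : V.ι (c (l pt)) = s p := by
      rw [← Scheme.Hom.comp_apply, f.liftCoborder_ι, h1]
    have hp' : p ∈ W := by
      change s p ∈ V
      rw [← h2]; exact (c (l pt)).2
    refine ⟨hp', l pt, ?_⟩
    apply V.ι.isEmbedding.injective
    rw [h2, ← Scheme.Hom.comp_apply, hs', Scheme.Hom.comp_apply]
    rfl
  have hsurj : Surjective (pullback.snd c s') := by
    constructor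
    rw [← Set.range_eq_univ]
    have hclosed : IsClosed (Set.range (pullback.snd c s')) :=
      (pullback.snd c s').isClosedEmbedding.isClosed_range
    have hdense : Dense (W.ι ⁻¹' D) := hD.preimage W.ι.isOpenEmbedding.isOpenMap
    have hsub : W.ι ⁻¹' D ⊆ Set.range (pullback.snd c s') := by
      intro w hw
      obtain ⟨hp, y, hy⟩ := hDW _ hw
      obtain ⟨z, -, hz⟩ := Scheme.Pullback.exists_preimage_pullback (f := c) (g := s') y w hy
      exact ⟨z, hz⟩
    exact Set.eq_univ_of_univ_subset (hdense.closure_eq ▸ hclosed.closure_subset_iff.mpr hsub)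
  have : IsReduced (W : Scheme.{u}) := inferInstance
  have hiso : IsIso (pullback.snd c s') := isIso_of_isClosedImmersion_of_surjective _
  obtain ⟨p, hp⟩ := hD.nonempty
  obtain ⟨hpW, -⟩ := hDW p hp
  refine ⟨W, ⟨p, hpW⟩, inv (pullback.snd c s') ≫ pullback.fst c s', ?_⟩
  have key : ∀ (k : (W : Scheme.{u}) ⟶ Y), k ≫ f = (k ≫ c) ≫ V.ι := fun k => by
    rw [Category.assoc, f.liftCoborder_ι]
  rw [key]
  simp only [Category.assoc]
  rw [pullback.condition_assoc, IsIso.inv_hom_id_assoc, hs']

/-- Let f : Y ⟶ X be an immersion of schemes. Then: for every valuation ring A with fraction field K and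
every commutative square Spec K ⟶ Y, Spec A ⟶ X over f such that some morphism from the spectrum of
the residue field of A to Y lies over Spec A ⟶ X, the square admits a lift; and for every integral
domain A and every morphism s : Spec A ⟶ X such that the points of a dense subset of Spec A lift to
Y (the residue field of each such point maps to Y over s), there is a nonempty open subscheme U of
Spec A with a morphism U ⟶ Y over s. (The published statement is for a representable, locally
finitely presented morphism of algebraic stacks with locally Noetherian target and a quasi-compact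
immersion, and also lists that f is a monomorphism; this row is the case of schemes, for any
immersion and any target.) -/
theorem result {X Y : Scheme.{u}} (f : Y ⟶ X) [IsImmersion f] :
    (∀ S : ValuativeCommSq f,
        (∃ l₀ : Spec (CommRingCat.of (IsLocalRing.ResidueField S.R)) ⟶ Y,
            l₀ ≫ f = Spec.map (CommRingCat.ofHom (IsLocalRing.residue S.R)) ≫ S.i₂) →
          S.commSq.HasLift) ∧
      ∀ (A : Type u) [CommRing A] [IsDomain A] (s : Spec (CommRingCat.of A) ⟶ X) (D : Set ↥(Spec (CommRingCat.of A))),
        Dense D →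
        (∀ p ∈ D, ∃ l : Spec ((Spec (CommRingCat.of A)).residueField p) ⟶ Y,
            l ≫ f = (Spec (CommRingCat.of A)).fromSpecResidueField p ≫ s) →
          ∃ U : (Spec (CommRingCat.of A)).Opens, (U : Set ↥(Spec (CommRingCat.of A))).Nonempty ∧
            ∃ l : (U : Scheme.{u}) ⟶ Y, l ≫ f = U.ι ≫ s := by
  exact ⟨fun S hl => part1 f S hl, fun A _ _ s D hD hl => part2 f A s D hD hl⟩

end Groth.Agent.S15347
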