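import Groth.Statements.S15352
import Mathlib
import Groth.Agent.Lib.Helper62.GrpComp

set_option autoImplicit false
set_option linter.style.haveILetI false
universe u
open CategoryTheory CategoryTheory.Limits MonoidalCategory CartesianMonoidalCategory MonObj GrpObj AlgebraicGeometry
open GrpSch

namespace Groth.Agent.S15352
open CategoryTheory CategoryTheory.Limits MonoidalCategory CartesianMonoidalCategory MonObj GrpObj AlgebraicGeometry
open TopologicalSpace
open Groth.Agent.S0350 Groth.Agent.Lib.Helper62.GrpComp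

section cat
variable {C : Type*} [Category C] [CartesianMonoidalCategory C]

lemma one_comp_inv (A : C) [GrpObj A] : η[A] ≫ ι[A] = η[A] := by
  have h1 := lift_comp_inv_right (η[A])
  have h2 := lift_comp_one_left (𝟙 (𝟙_ C)) (η[A] ≫ ι[A])
  rw [Category.id_comp] at h2
  rw [← h2, h1, toUnit_unique (toUnit _) (𝟙 _), Category.id_comp]

end cat

section core
variable {k : Type u} [Field k] [IsAlgClosed k] {X : Scheme.{u}} (f : X ⟶ Spec (CommRingCat.of k))
  (m : pullback f f ⟶ X) (σ τ : pullback f f ≅ pullback f f)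
  (hσ₁ : σ.hom ≫ pullback.fst f f = pullback.fst f f) (hσ₂ : σ.hom ≫ pullback.snd f f = m)
  (hτ₁ : τ.hom ≫ pullback.fst f f = m) (hτ₂ : τ.hom ≫ pullback.snd f f = pullback.snd f f)
  (e : Spec (CommRingCat.of k) ⟶ X) (he : e ≫ f = 𝟙 _)
  (hunitR : pullback.lift (𝟙 X) (f ≫ e) (by simp [he]) ≫ m = 𝟙 X)
  (hunitL : pullback.lift (f ≫ e) (𝟙 X) (by simp [he]) ≫ m = 𝟙 X)
  (hU : ∀ x : X, UniqueComp x)

include hU hτ₁ hτ₂ hunitL in
theorem fst_τ_inv_mem {v : ↑(pullback f f)} (hv : v ∈ box f (Zc e) (Zc e)) :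
    pullback.fst f f (τ.inv v) ∈ Zc e := by
  have hirr : IsIrreducible ((fun v => pullback.fst f f (τ.inv v)) '' box f (Zc e) (Zc e)) :=
    (isIrreducible_box' f isClosed_irreducibleComponent isIrreducible_irreducibleComponent
      isClosed_irreducibleComponent isIrreducible_irreducibleComponent).image _
      ((Scheme.Hom.continuous _).comp (Scheme.Hom.continuous τ.inv)).continuousOn
  refine subset_Zc e hU hirr ?_ ⟨v, hv, rfl⟩
  refine ⟨τ.hom (ptL f e he (unitPt e)), ⟨?_, ?_⟩, ?_⟩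
  · show pullback.fst f f (τ.hom _) ∈ Zc e
    rw [← Scheme.Hom.comp_apply, hτ₁, m_ptL f m e he hunitL]; exact mem_irreducibleComponent
  · show pullback.snd f f (τ.hom _) ∈ Zc e
    rw [← Scheme.Hom.comp_apply, hτ₂, snd_ptL]; exact mem_irreducibleComponent
  · show pullback.fst f f (τ.inv (τ.hom _)) = _
    rw [σ_inv_hom, fst_ptL]

include hU hσ₁ hσ₂ hτ₁ hτ₂ hunitL in
theorem subset_mul_box {A B : Set X} (hA : IsOpen A) (hB : IsOpen B)
    (hAZ : (A ∩ Zc e).Nonempty) (hBZ : (B ∩ Zc e).Nonempty) : Zc e ⊆ m '' box f A B := by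
  intro z hz
  have hF : IsIrreducible (box f (Zc e) {z}) :=
    isIrreducible_box_singleton f isClosed_irreducibleComponent
      isIrreducible_irreducibleComponent z
  have hO₁ : IsOpen (pullback.fst f f ⁻¹' A) := hA.preimage (Scheme.Hom.continuous _)
  have hO₂ : IsOpen (σ.inv ⁻¹' (pullback.snd f f ⁻¹' B)) :=
    (hB.preimage (Scheme.Hom.continuous _)).preimage (Scheme.Hom.continuous _)
  have h1 : (box f (Zc e) {z} ∩ pullback.fst f f ⁻¹' A).Nonempty := by
    obtain ⟨a₀, ha₀A, ha₀Z⟩ := hAZ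
    obtain ⟨u, hu1, hu2⟩ := exists_pair f a₀ z
    exact ⟨u, ⟨by show pullback.fst f f u ∈ Zc e; rw [hu1]; exact ha₀Z,
      by show pullback.snd f f u ∈ ({z} : Set X); rw [hu2]; rfl⟩,
      by show pullback.fst f f u ∈ A; rw [hu1]; exact ha₀A⟩
  have h2 : (box f (Zc e) {z} ∩ σ.inv ⁻¹' (pullback.snd f f ⁻¹' B)).Nonempty := by
    obtain ⟨b₀, hb₀B, hb₀Z⟩ := hBZ
    obtain ⟨v, hv1, hv2⟩ := exists_pair f z b₀
    have hv : v ∈ box f (Zc e) (Zc e) :=
      ⟨by show pullback.fst f f v ∈ Zc e; rw [hv1]; exact hz,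
       by show pullback.snd f f v ∈ Zc e; rw [hv2]; exact hb₀Z⟩
    have hw1 := fst_τ_inv_mem f m τ hτ₁ hτ₂ e he hunitL hU hv
    have hw2 : pullback.snd f f (τ.inv v) = b₀ := by
      rw [← hv2]
      conv_rhs => rw [← σ_hom_inv f τ v]
      rw [← Scheme.Hom.comp_apply τ.hom, hτ₂]
    have hwm : m (τ.inv v) = z := by
      rw [← hv1]
      conv_rhs => rw [← σ_hom_inv f τ v]
      rw [← Scheme.Hom.comp_apply τ.hom, hτ₁]
    refine ⟨σ.hom (τ.inv v), ⟨?_, ?_⟩, ?_⟩
    · show pullback.fst f f (σ.hom _) ∈ Zc e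
      rw [fst_σ f σ hσ₁]; exact hw1
    · show pullback.snd f f (σ.hom _) ∈ ({z} : Set X)
      rw [snd_σ f m σ hσ₂, hwm]; rfl
    · show pullback.snd f f (σ.inv (σ.hom _)) ∈ B
      rw [σ_inv_hom, hw2]; exact hb₀B
  obtain ⟨u, ⟨-, hu2⟩, hu3, hu4⟩ := hF.2 _ _ hO₁ hO₂ h1 h2
  refine ⟨σ.inv u, ⟨?_, hu4⟩, ?_⟩
  · show pullback.fst f f (σ.inv u) ∈ A
    rw [← fst_σ f σ hσ₁, σ_hom_inv]; exact hu3
  · rw [← snd_σ f m σ hσ₂, σ_hom_inv]; exact hu2

end core

theorem main (k : Type u) [Field k] [IsAlgClosed k]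
    (G : Over (Spec (CommRingCat.of k))) [GrpObj G] (U : G.left.Opens)
    (hne : (U : Set ↥G.left).Nonempty)
    (hU : (U : Set ↥G.left) ⊆ connectedComponent (η[G].left.base (IsLocalRing.closedPoint k))) :
    connectedComponent (η[G].left.base (IsLocalRing.closedPoint k)) ⊆ Set.range
      ((((Over.homMk U.ι rfl : Over.mk (U.ι ≫ G.hom) ⟶ G) ⊗ₘ
          ((Over.homMk U.ι rfl : Over.mk (U.ι ≫ G.hom) ⟶ G) ≫ ι[G])) ≫ μ[G]).left.base) := by
  let f : G.left ⟶ Spec (CommRingCat.of k) := G.hom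
  let e : Spec (CommRingCat.of k) ⟶ G.left := η[G].left
  let m : pullback f f ⟶ G.left := μ[G].left
  let σ : pullback f f ≅ pullback f f := (Over.forget _).mapIso (Groth.Agent.S1865.shear G)
  let τ : pullback f f ≅ pullback f f := (Over.forget _).mapIso (Groth.Agent.S1865.shear' G)
  have hσ₁ : σ.hom ≫ pullback.fst f f = pullback.fst f f :=
    congr(($(Groth.Agent.S1865.shear_hom_fst G)).left)
  have hσ₂ : σ.hom ≫ pullback.snd f f = m := congr(($(Groth.Agent.S1865.shear_hom_snd G)).left)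
  have hτ₁ : τ.hom ≫ pullback.fst f f = m := congr(($(Groth.Agent.S1865.shear'_hom_fst G)).left)
  have hτ₂ : τ.hom ≫ pullback.snd f f = pullback.snd f f :=
    congr(($(Groth.Agent.S1865.shear'_hom_snd G)).left)
  have he : e ≫ f = 𝟙 _ := Over.w η[G]
  have hL : pullback.lift (f ≫ e) (𝟙 G.left) (by simp [he]) ≫ m = 𝟙 G.left :=
    congr(($(lift_comp_one_left (toUnit G) (𝟙 G))).left)
  have hUC : ∀ x : G.left, UniqueComp x := fun x => uniqueComp_all G x
  have hcc : connectedComponent (e (IsLocalRing.closedPoint k)) = Zc e := (main_algClosed G).1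
  change connectedComponent (e (IsLocalRing.closedPoint k)) ⊆ _
  change (U : Set ↥G.left) ⊆ connectedComponent (e (IsLocalRing.closedPoint k)) at hU
  rw [hcc] at hU ⊢
  -- inversion
  let φ : G.left ≅ G.left := (Over.forget _).mapIso (asIso ι[G])
  have hφe : φ.hom (unitPt e) = unitPt e := congr(($(one_comp_inv G)).left (IsLocalRing.closedPoint k))
  have hφZ : φ.hom '' Zc e ⊆ Zc e :=
    subset_Zc e hUC (isIrreducible_irreducibleComponent.image _
      (Scheme.Hom.continuous φ.hom).continuousOn) ⟨unitPt e, mem_irreducibleComponent, hφe⟩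
  have hBo : IsOpen (φ.hom '' (U : Set G.left)) := (Scheme.homeoOfIso φ).isOpenMap _ U.isOpen
  obtain ⟨u₀, hu₀⟩ := hne
  have key := subset_mul_box f m σ τ hσ₁ hσ₂ hτ₁ hτ₂ e he hL hUC U.isOpen hBo
    ⟨u₀, hu₀, hU hu₀⟩ ⟨φ.hom u₀, ⟨u₀, hu₀, rfl⟩, hφZ ⟨u₀, hU hu₀, rfl⟩⟩
  refine key.trans ?_
  -- identify the range
  rintro _ ⟨w, ⟨hw1, hw2⟩, rfl⟩
  have hιw : ι[G].left ≫ G.hom = G.hom := Over.w ι[G]
  have hr := Scheme.Pullback.range_map (U.ι ≫ G.hom) (U.ι ≫ G.hom) G.hom G.hom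
    U.ι (U.ι ≫ ι[G].left) (𝟙 _) (by simp) (by simp [hιw])
  have hw : w ∈ Set.range (pullback.map (U.ι ≫ G.hom) (U.ι ≫ G.hom) G.hom G.hom
      U.ι (U.ι ≫ ι[G].left) (𝟙 _) (by simp) (by simp [hιw])) := by
    rw [hr]
    refine ⟨?_, ?_⟩
    · show pullback.fst f f w ∈ Set.range U.ι
      rw [Scheme.Opens.range_ι]; exact hw1
    · show pullback.snd f f w ∈ Set.range (U.ι ≫ ι[G].left)
      obtain ⟨u, hu, huw⟩ := hw2
      exact ⟨⟨u, hu⟩, huw⟩
  obtain ⟨t, rfl⟩ := hw
  exact ⟨t, rfl⟩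


/-- Let k be an algebraically closed field, G a group scheme locally of finite type over k, G⁰ ⊆ G the
connected component of the unit point, and U a nonempty open subscheme of G contained in G⁰. Then
every point of G⁰ is in the image of the morphism U ×_k U ⟶ G, (g, h) ↦ g·h⁻¹. (The published
statement writes U as an open of G mapping to G⁰ × G⁰; this row makes the containment U ⊆ G⁰
explicit.) -/
theorem result (k : Type u) [Field k] [IsAlgClosed k]
    (G : Over (Spec (CommRingCat.of k))) [GrpObj G] [LocallyOfFiniteType G.hom] (U : G.left.Opens)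
    (hne : (U : Set ↥G.left).Nonempty)
    (hU : (U : Set ↥G.left) ⊆ connectedComponent (η[G].left.base (IsLocalRing.closedPoint k))) :
    connectedComponent (η[G].left.base (IsLocalRing.closedPoint k)) ⊆ Set.range
      ((((Over.homMk U.ι rfl : Over.mk (U.ι ≫ G.hom) ⟶ G) ⊗ₘ
          ((Over.homMk U.ι rfl : Over.mk (U.ι ≫ G.hom) ⟶ G) ≫ ι[G])) ≫ μ[G]).left.base) := by
  exact main k G U hne hU

end Groth.Agent.S15352
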