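import Groth.Statements.S15353
import Mathlib
-- import your own Groth.Agent.* helpers here

set_option autoImplicit false
universe u
open CAlg

namespace Groth.Agent.S15353

open TensorProduct

section Key

variable {R S : Type u} [CommRing R] [CommRing S] [Algebra R S]

/-- kernel of `p ↦ 1 ⊗ p` for a surjective `R → S`. -/
theorem mem_smul_top_of_one_tmul_eq_zero (hsurj : Function.Surjective (algebraMap R S))
    {P : Type*} [AddCommGroup P] [Module R P] (q : P) (hq : (1 : S) ⊗ₜ[R] q = 0) :
    q ∈ (RingHom.ker (algebraMap R S)) • (⊤ : Submodule R P) := by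
  have hsurj' : Function.Surjective (Algebra.ofId R S) := hsurj
  let eq : (R ⧸ RingHom.ker (Algebra.ofId R S)) ≃ₐ[R] S :=
    Ideal.quotientKerAlgEquivOfSurjective hsurj'
  have h2 : (1 : R ⧸ RingHom.ker (Algebra.ofId R S)) ⊗ₜ[R] q = 0 := by
    have := congrArg (TensorProduct.congr eq.symm.toLinearEquiv (LinearEquiv.refl R P)) hq
    simpa using this
  have h3 : q ∈ LinearMap.ker (TensorProduct.mk R (R ⧸ RingHom.ker (Algebra.ofId R S)) P 1) := h2
  rw [LinearMap.ker_tensorProductMk] at h3
  exact h3

theorem nilpotent_of_mem {I : Ideal R} (hnil : IsNilpotent I) {x : R} (hx : x ∈ I) :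
    IsNilpotent x := by
  obtain ⟨k, hk⟩ := hnil
  refine ⟨k, ?_⟩
  have := Ideal.pow_mem_pow hx k
  rw [hk] at this
  simpa using this

theorem le_jacobson_of_nilpotent {I : Ideal R} (hnil : IsNilpotent I) :
    I ≤ Ideal.jacobson ⊥ := by
  intro x hx
  have h1 : x ∈ nilradical R := (mem_nilradical).2 (nilpotent_of_mem hnil hx)
  have h2 : nilradical R ≤ Ideal.jacobson ⊥ := Ideal.radical_le_jacobson
  exact h2 h1

theorem nonempty_linearEquiv_of_baseChange (hsurj : Function.Surjective (algebraMap R S))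
    (hnil : IsNilpotent (RingHom.ker (algebraMap R S)))
    (P : Type u) [AddCommGroup P] [Module R P] [Module.Finite R P] [Module.Projective R P]
    (e : S ⊗[R] P ≃ₗ[S] S) : Nonempty (P ≃ₗ[R] R) := by
  set I := RingHom.ker (algebraMap R S) with hI
  let ε : P →ₗ[R] S := (e.toLinearMap.restrictScalars R) ∘ₗ (TensorProduct.mk R S P 1)
  have hε : ∀ p, ε p = e (1 ⊗ₜ p) := fun p => rfl
  have hεsurj : Function.Surjective ε :=
    e.surjective.comp (TensorProduct.mk_surjective R P S hsurj)
  obtain ⟨m, hm⟩ := hεsurj 1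
  let g : R →ₗ[R] P := LinearMap.toSpanSingleton R P m
  have hεg : ∀ r, ε (g r) = algebraMap R S r := by
    intro r
    simp only [g, LinearMap.toSpanSingleton_apply, map_smul, hm, Algebra.algebraMap_eq_smul_one]
  have hker : ∀ p, ε p = 0 → p ∈ I • (⊤ : Submodule R P) := by
    intro p hp
    apply mem_smul_top_of_one_tmul_eq_zero hsurj
    apply e.injective
    rw [map_zero]
    exact hp
  have hIjac : I ≤ Ideal.jacobson ⊥ := le_jacobson_of_nilpotent hnil
  have hgsurj : Function.Surjective g := by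
    rw [← LinearMap.range_eq_top, eq_top_iff]
    apply Submodule.le_of_le_smul_of_le_jacobson_bot (Module.Finite.fg_top) hIjac
    intro p _
    obtain ⟨r, hr⟩ := hsurj (ε p)
    have h1 : p - g r ∈ I • (⊤ : Submodule R P) :=
      hker _ (by rw [map_sub, hεg, hr, sub_self])
    have h2 : p = g r + (p - g r) := by abel
    rw [h2]
    exact Submodule.add_mem_sup (LinearMap.mem_range_self _ _) h1
  obtain ⟨s, hs⟩ := Module.projective_lifting_property g LinearMap.id hgsurj
  have hxI : ∀ y, g y = 0 → y ∈ I := by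
    intro y hy
    have := hεg y
    rw [hy, map_zero] at this
    exact (RingHom.mem_ker).2 this.symm
  have hginj : Function.Injective g := by
    rw [injective_iff_map_eq_zero]
    intro x hx
    have h1 : g (s (g 1)) = g 1 := LinearMap.congr_fun hs (g 1)
    have hgc : g (1 - s (g 1)) = 0 := by
      rw [map_sub, h1, sub_self]
    have hcI := hxI _ hgc
    have hunit : IsUnit (1 - (1 - s (g 1))) := (nilpotent_of_mem hnil hcI).isUnit_one_sub
    have h2 : s (g x) = x * s (g 1) := by
      have h3 : x = x • (1 : R) := by simp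
      conv_lhs => rw [h3, map_smul, map_smul]
      simp
    have h4 : x * (1 - (1 - s (g 1))) = 0 := by
      rw [sub_sub_cancel, ← h2, hx, map_zero]
    exact (hunit.mul_left_eq_zero).1 h4
  exact ⟨(LinearEquiv.ofBijective g ⟨hginj, hgsurj⟩).symm⟩

end Key

section Lift

variable {R S : Type u} [CommRing R] [CommRing S] [Algebra R S]

theorem exists_lift_projective (hsurj : Function.Surjective (algebraMap R S))
    (hnil : IsNilpotent (RingHom.ker (algebraMap R S)))
    (N : Type u) [AddCommGroup N] [Module S N] [Module.Finite S N] [Module.Projective S N] :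
    ∃ (P : Type u) (_ : AddCommGroup P) (_ : Module R P) (_ : Module.Finite R P)
      (_ : Module.Projective R P), Nonempty (S ⊗[R] P ≃ₗ[S] N) := by
  classical
  obtain ⟨n, r, i, -, -, hri⟩ := Module.Finite.exists_comp_eq_id_of_projective S N
  set E : (Fin n → S) →ₗ[S] (Fin n → S) := i ∘ₗ r with hE
  have hEE : E ∘ₗ E = E := by
    rw [hE, LinearMap.comp_assoc, ← LinearMap.comp_assoc r i, hri, LinearMap.id_comp]
  set e : Matrix (Fin n) (Fin n) S := LinearMap.toMatrix' E with he_def
  have he : IsIdempotentElem e := by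
    unfold IsIdempotentElem
    rw [he_def, ← LinearMap.toMatrix'_comp, hEE]
  set Φ : Matrix (Fin n) (Fin n) R →+* Matrix (Fin n) (Fin n) S :=
    (algebraMap R S).mapMatrix with hΦ
  have hΦrange : e ∈ Φ.range := by
    choose pre hpre using hsurj
    refine ⟨Matrix.of fun a b => pre (e a b), ?_⟩
    ext a b
    simp [hΦ, hpre]
  have hΦker : ∀ X ∈ RingHom.ker Φ, IsNilpotent X := by
    obtain ⟨k, hk⟩ := hnil
    intro X hX
    have hXI : ∀ a b, X a b ∈ RingHom.ker (algebraMap R S) := by
      intro a b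
      have := congrArg (fun M : Matrix (Fin n) (Fin n) S => M a b) (RingHom.mem_ker.1 hX)
      simpa [hΦ, RingHom.mapMatrix_apply, Matrix.map_apply] using this
    have hpow : ∀ j a b, (X ^ j) a b ∈ (RingHom.ker (algebraMap R S)) ^ j := by
      intro j
      induction j with
      | zero => intro a b; simp [Ideal.one_eq_top]
      | succ j ih =>
        intro a b
        rw [pow_succ X, Matrix.mul_apply, pow_succ]
        exact Ideal.sum_mem _ fun c _ => Ideal.mul_mem_mul (ih a c) (hXI c b)
    refine ⟨k, ?_⟩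
    ext a b
    have := hpow k a b
    rw [hk] at this
    simpa using this
  obtain ⟨e', he', hΦe'⟩ := exists_isIdempotentElem_eq_of_ker_isNilpotent Φ hΦker e hΦrange he
  set E' : (Fin n → R) →ₗ[R] (Fin n → R) := Matrix.toLin' e' with hE'
  have hE'E' : E' ∘ₗ E' = E' := by rw [hE', ← Matrix.toLin'_mul, he'.eq]
  let P : Submodule R (Fin n → R) := LinearMap.range E'
  let ι' : P →ₗ[R] (Fin n → R) := P.subtype
  let ρ' : (Fin n → R) →ₗ[R] P := E'.rangeRestrict
  have hρι : ρ' ∘ₗ ι' = LinearMap.id := by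
    ext ⟨_, ⟨v, rfl⟩⟩ : 2
    exact LinearMap.congr_fun hE'E' v
  have hιρ : ι' ∘ₗ ρ' = E' := by
    ext v : 1
    rfl
  have hproj : Module.Projective R P := Module.Projective.of_split ι' ρ' hρι
  have hfin : Module.Finite R P := Module.Finite.range E'
  refine ⟨P, inferInstance, inferInstance, hfin, hproj, ⟨?_⟩⟩
  let σ : S ⊗[R] (Fin n → R) ≃ₗ[S] (Fin n → S) := TensorProduct.piScalarRight R S S (Fin n)
  let iP : S ⊗[R] P →ₗ[S] (Fin n → S) := σ.toLinearMap ∘ₗ ι'.baseChange S
  let rP : (Fin n → S) →ₗ[S] S ⊗[R] P := ρ'.baseChange S ∘ₗ σ.symm.toLinearMap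
  have h1 : rP ∘ₗ iP = LinearMap.id := by
    refine LinearMap.ext fun x => ?_
    simp only [rP, iP, LinearMap.comp_apply, LinearEquiv.coe_coe, LinearEquiv.symm_apply_apply,
      LinearMap.id_apply]
    rw [← LinearMap.comp_apply, ← LinearMap.baseChange_comp, hρι, LinearMap.baseChange_id,
      LinearMap.id_apply]
  have hEe : E = Matrix.toLin' ((algebraMap R S).mapMatrix e') := by
    have : (algebraMap R S).mapMatrix e' = e := hΦe'
    rw [this, he_def, Matrix.toLin'_toMatrix']
  have hσE : ∀ x, σ (E'.baseChange S x) = E (σ x) := by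
    intro x
    induction x using TensorProduct.induction_on with
    | zero => simp
    | add x y hx hy => simp only [map_add, hx, hy]
    | tmul a v =>
      rw [LinearMap.baseChange_tmul]
      simp only [σ, TensorProduct.piScalarRight_apply, TensorProduct.piScalarRightHom_tmul]
      rw [hEe, hE']
      funext j
      simp only [Matrix.toLin'_apply, Matrix.mulVec, dotProduct, RingHom.mapMatrix_apply,
        Matrix.map_apply, Algebra.smul_def, mul_assoc]
      rw [map_sum, Finset.sum_mul]
      refine Finset.sum_congr rfl fun c _ => ?_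
      rw [map_mul, mul_assoc]
  have h2 : iP ∘ₗ rP = E := by
    refine LinearMap.ext fun y => ?_
    simp only [rP, iP, LinearMap.comp_apply, LinearEquiv.coe_coe]
    rw [← LinearMap.comp_apply (ι'.baseChange S), ← LinearMap.baseChange_comp, hιρ, hσE,
      LinearEquiv.apply_symm_apply]
  refine LinearEquiv.ofLinearMap (r ∘ₗ iP) (rP ∘ₗ i) ?_ ?_
  · calc (r ∘ₗ iP) ∘ₗ (rP ∘ₗ i) = r ∘ₗ (iP ∘ₗ rP) ∘ₗ i := by
          simp only [LinearMap.comp_assoc]
      _ = (r ∘ₗ i) ∘ₗ (r ∘ₗ i) := by rw [h2, hE]; simp only [LinearMap.comp_assoc]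
      _ = LinearMap.id := by rw [hri, LinearMap.id_comp]
  · calc (rP ∘ₗ i) ∘ₗ (r ∘ₗ iP) = rP ∘ₗ (i ∘ₗ r) ∘ₗ iP := by
          simp only [LinearMap.comp_assoc]
      _ = (rP ∘ₗ iP) ∘ₗ (rP ∘ₗ iP) := by rw [← hE, ← h2]; simp only [LinearMap.comp_assoc]
      _ = LinearMap.id := by rw [h1, LinearMap.id_comp]

end Lift

/-- Let f : A' → A be a surjective ring homomorphism whose kernel is a nilpotent ideal. Then the induced
homomorphism of Picard groups Pic(A') → Pic(A), base change of invertible modules along f, is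
bijective. -/
theorem result {A' A : Type u} [CommRing A'] [CommRing A]
    (f : A' →+* A) (hf : Function.Surjective f) (hker : IsNilpotent (RingHom.ker f)) :
    Function.Bijective (CommRing.Pic.mapRingHom f) := by
  algebraize [f]
  have hsurj : Function.Surjective (algebraMap A' A) := hf
  have hnil : IsNilpotent (RingHom.ker (algebraMap A' A)) := hker
  have hmap : CommRing.Pic.mapRingHom f = CommRing.Pic.mapAlgebra A' A := rfl
  rw [hmap]
  constructor
  · rw [injective_iff_map_eq_one]
    intro M hM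
    rw [CommRing.Pic.mapAlgebra_apply, CommRing.Pic.mk_eq_one_iff] at hM
    obtain ⟨e⟩ := hM
    rw [← CommRing.Pic.mk_eq_self (M := M), CommRing.Pic.mk_eq_one_iff]
    exact nonempty_linearEquiv_of_baseChange hsurj hnil M e
  · intro N
    obtain ⟨P, _, _, _, _, ⟨eP⟩⟩ := exists_lift_projective hsurj hnil N
    obtain ⟨P2, _, _, _, _, ⟨eP2⟩⟩ := exists_lift_projective hsurj hnil (Module.Dual A N)
    have e3 : A ⊗[A'] (P2 ⊗[A'] P) ≃ₗ[A] A :=
      TensorProduct.AlgebraTensorModule.distribBaseChange A' A P2 P ≪≫ₗ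
        TensorProduct.congr eP2 eP ≪≫ₗ Module.Invertible.linearEquiv A N
    obtain ⟨e4⟩ := nonempty_linearEquiv_of_baseChange hsurj hnil (P2 ⊗[A'] P) e3
    have hinv : Module.Invertible A' P := Module.Invertible.right e4
    refine ⟨CommRing.Pic.mk A' P, ?_⟩
    rw [CommRing.Pic.mapAlgebra_apply, CommRing.Pic.mk_eq_iff]
    exact ⟨TensorProduct.AlgebraTensorModule.congr (LinearEquiv.refl A A)
      (CommRing.Pic.mk.linearEquiv A' P) ≪≫ₗ eP⟩

end Groth.Agent.S15353
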