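import Groth.Statements.S15354
import Mathlib
-- import your own Groth.Agent.* helpers here

set_option autoImplicit false
universe u
open CategoryTheory CategoryTheory.Limits AlgebraicGeometry
open Mor

namespace Groth.Agent.S15354

/-- Let f : Y ⟶ X be a morphism of schemes, A a valuation ring with fraction field K and residue field
k, and ξ, η : Spec A ⟶ Y two A-points of Y over the same A-point of X. If ξ and η restrict to the
same K-point and to the same k-point of Y, then ξ = η. (The published statement is an equivalence,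
for algebraic spaces locally of finite presentation over a Noetherian scheme, between local
separatedness of f and conditions (a), (b); this row is the necessity of (a) in the case of schemes,
where no hypothesis on f is needed.) -/
theorem result {X Y : Scheme.{u}} (f : Y ⟶ X)
    (A : Type u) [CommRing A] [IsDomain A] [ValuationRing A] (K : Type u) [Field K] [Algebra A K]
    [IsFractionRing A K] (ξ η : Spec (CommRingCat.of A) ⟶ Y) (hf : ξ ≫ f = η ≫ f)
    (hK : Spec.map (CommRingCat.ofHom (algebraMap A K)) ≫ ξ = Spec.map (CommRingCat.ofHom (algebraMap A K)) ≫ η)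
    (hk : Spec.map (CommRingCat.ofHom (IsLocalRing.residue A)) ≫ ξ =
      Spec.map (CommRingCat.ofHom (IsLocalRing.residue A)) ≫ η) :
    ξ = η := by
  classical
  -- the closed point
  let m : ↥(Spec (CommRingCat.of A)) := IsLocalRing.closedPoint A
  have hm : ξ.base m = η.base m := by
    have : IsLocalHom (CommRingCat.ofHom (IsLocalRing.residue A)).hom :=
      inferInstanceAs (IsLocalHom (IsLocalRing.residue A))
    let x₀ : ↥(Spec (CommRingCat.of (IsLocalRing.ResidueField A))) :=
      IsLocalRing.closedPoint (IsLocalRing.ResidueField A)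
    have h1 : (Spec.map (CommRingCat.ofHom (IsLocalRing.residue A))) x₀ = m :=
      Spec_closedPoint (R := CommRingCat.of A) (S := CommRingCat.of (IsLocalRing.ResidueField A))
        (f := CommRingCat.ofHom (IsLocalRing.residue A))
    calc ξ m = ξ ((Spec.map (CommRingCat.ofHom (IsLocalRing.residue A))) x₀) := by rw [h1]
      _ = (Spec.map (CommRingCat.ofHom (IsLocalRing.residue A)) ≫ ξ) x₀ :=
          (Scheme.Hom.comp_apply _ _ _).symm
      _ = (Spec.map (CommRingCat.ofHom (IsLocalRing.residue A)) ≫ η) x₀ := by rw [hk]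
      _ = η ((Spec.map (CommRingCat.ofHom (IsLocalRing.residue A))) x₀) :=
          Scheme.Hom.comp_apply _ _ _
      _ = η m := by rw [h1]
  obtain ⟨V₀, hV, hξV, -⟩ := (TopologicalSpace.Opens.isBasis_iff_nbhd.mp Y.isBasis_affineOpens)
    (show ξ.base m ∈ (⊤ : Y.Opens) from trivial)
  set V : Y.Opens := V₀ with hVdef
  have hηV : η.base m ∈ V := hm ▸ hξV
  have hξtop : ξ ⁻¹ᵁ V = ⊤ := Scheme.preimage_eq_top_of_closedPoint_mem (R := CommRingCat.of A) ξ hξV
  have hηtop : η ⁻¹ᵁ V = ⊤ := Scheme.preimage_eq_top_of_closedPoint_mem (R := CommRingCat.of A) η hηV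
  have hξr : Set.range ξ.base ⊆ Set.range V.ι.base := by
    rintro _ ⟨p, rfl⟩
    have : p ∈ ξ ⁻¹ᵁ V := by rw [hξtop]; trivial
    simpa using this
  have hηr : Set.range η.base ⊆ Set.range V.ι.base := by
    rintro _ ⟨p, rfl⟩
    have : p ∈ η ⁻¹ᵁ V := by rw [hηtop]; trivial
    simpa using this
  let ξ' := IsOpenImmersion.lift V.ι ξ hξr
  let η' := IsOpenImmersion.lift V.ι η hηr
  have hξ' : ξ' ≫ V.ι = ξ := IsOpenImmersion.lift_fac _ _ _
  have hη' : η' ≫ V.ι = η := IsOpenImmersion.lift_fac _ _ _
  have : IsAffine (V : Scheme.{u}) := hV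
  let j := Spec.map (CommRingCat.ofHom (algebraMap A K))
  have hj : j ≫ ξ' = j ≫ η' := by
    rw [← cancel_mono V.ι, Category.assoc, Category.assoc, hξ', hη']
    exact hK
  have hjinj : Function.Injective j.appTop.hom := by
    intro a b hab
    have nat := Scheme.ΓSpecIso_naturality (CommRingCat.ofHom (algebraMap A K))
    have ha := congrArg (fun φ => φ.hom a) nat
    have hb := congrArg (fun φ => φ.hom b) nat
    simp only [CommRingCat.hom_comp, RingHom.coe_comp, Function.comp_apply,
      CommRingCat.hom_ofHom] at ha hb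
    have hab' : (Spec.map (CommRingCat.ofHom (algebraMap A K))).appTop.hom a =
        (Spec.map (CommRingCat.ofHom (algebraMap A K))).appTop.hom b := hab
    rw [hab', hb] at ha
    have h5 := IsFractionRing.injective A K ha
    exact ((ConcreteCategory.bijective_of_isIso (Scheme.ΓSpecIso (CommRingCat.of A)).hom).1 h5).symm
  have happ : ξ'.appTop = η'.appTop := by
    have h3 : ξ'.appTop ≫ j.appTop = η'.appTop ≫ j.appTop := by
      rw [← Scheme.Hom.comp_appTop, ← Scheme.Hom.comp_appTop, hj]
    apply CommRingCat.hom_ext
    apply RingHom.ext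
    intro x
    apply hjinj
    have := congrArg (fun φ => φ.hom x) h3
    simpa [CommRingCat.hom_comp] using this
  rw [← hξ', ← hη', ext_of_isAffine happ]

end Groth.Agent.S15354
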