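import Groth.Statements.S15355
import Mathlib
-- import your own Groth.Agent.* helpers here

set_option autoImplicit false
universe u
open CategoryTheory CategoryTheory.Limits AlgebraicGeometry
open Mor

namespace Groth.Agent.S15355

/-- Let f : Y ⟶ X be a morphism of schemes, A an integral domain and ξ, η : Spec A ⟶ Y two A-points of Y
over the same A-point of X. If ξ and η induce the same κ(p)-point of Y at every point p of some
dense subset of Spec A, then ξ and η agree on a nonempty open subscheme of Spec A. (The published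
statement is an equivalence, for algebraic spaces locally of finite presentation over a Noetherian
scheme, between local separatedness of f and conditions (a), (b); this row is the necessity of (b)
in the case of schemes, where no hypothesis on f is needed.) -/
theorem result {X Y : Scheme.{u}} (f : Y ⟶ X)
    (A : Type u) [CommRing A] [IsDomain A] (ξ η : Spec (CommRingCat.of A) ⟶ Y) (hf : ξ ≫ f = η ≫ f)
    (D : Set ↥(Spec (CommRingCat.of A))) (hD : Dense D)
    (hpt : ∀ p ∈ D, (Spec (CommRingCat.of A)).fromSpecResidueField p ≫ ξ =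
      (Spec (CommRingCat.of A)).fromSpecResidueField p ≫ η) :
    ∃ U : (Spec (CommRingCat.of A)).Opens, (U : Set ↥(Spec (CommRingCat.of A))).Nonempty ∧ U.ι ≫ ξ = U.ι ≫ η := by
  classical
  obtain ⟨p, hpD⟩ := hD.nonempty
  -- ξ p = η p
  have hp : ξ p = η p := by
    let x₀ : ↥(Spec ((Spec (CommRingCat.of A)).residueField p)) := default
    calc ξ p = ξ (((Spec (CommRingCat.of A)).fromSpecResidueField p) x₀) := by
            rw [Scheme.fromSpecResidueField_apply]
      _ = ((Spec (CommRingCat.of A)).fromSpecResidueField p ≫ ξ) x₀ :=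
            (Scheme.Hom.comp_apply _ _ _).symm
      _ = ((Spec (CommRingCat.of A)).fromSpecResidueField p ≫ η) x₀ := by rw [hpt p hpD]
      _ = η (((Spec (CommRingCat.of A)).fromSpecResidueField p) x₀) := Scheme.Hom.comp_apply _ _ _
      _ = η p := by rw [Scheme.fromSpecResidueField_apply]
  obtain ⟨V₀, hV, hξV, -⟩ := (TopologicalSpace.Opens.isBasis_iff_nbhd.mp Y.isBasis_affineOpens)
    (show ξ p ∈ (⊤ : Y.Opens) from trivial)
  set V : Y.Opens := V₀ with hVdef
  have hηV : η p ∈ V := hp ▸ hξV
  let W : (Spec (CommRingCat.of A)).Opens := ξ ⁻¹ᵁ V ⊓ η ⁻¹ᵁ V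
  have hpW : p ∈ W := ⟨hξV, hηV⟩
  have hr1 : Set.range (W.ι ≫ ξ).base ⊆ Set.range V.ι.base := by
    rintro _ ⟨q, rfl⟩
    have : (W.ι q) ∈ ξ ⁻¹ᵁ V := q.2.1
    simpa using this
  have hr2 : Set.range (W.ι ≫ η).base ⊆ Set.range V.ι.base := by
    rintro _ ⟨q, rfl⟩
    have : (W.ι q) ∈ η ⁻¹ᵁ V := q.2.2
    simpa using this
  let f'' := IsOpenImmersion.lift V.ι (W.ι ≫ ξ) hr1
  let g'' := IsOpenImmersion.lift V.ι (W.ι ≫ η) hr2
  have hf'' : f'' ≫ V.ι = W.ι ≫ ξ := IsOpenImmersion.lift_fac _ _ _
  have hg'' : g'' ≫ V.ι = W.ι ≫ η := IsOpenImmersion.lift_fac _ _ _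
  have : IsAffine (V : Scheme.{u}) := hV
  have hdense : Dense (W.ι.base ⁻¹' D) := hD.preimage W.ι.isOpenEmbedding.isOpenMap
  have key : f'' = g'' := by
    apply ext_of_fromSpecResidueField_eq f'' g'' (Limits.terminal.from _) (W.ι.base ⁻¹' D) hdense
    · intro x hx
      rw [← cancel_mono V.ι, Category.assoc, Category.assoc, hf'', hg'',
        ← Scheme.Hom.SpecMap_residueFieldMap_fromSpecResidueField_assoc,
        ← Scheme.Hom.SpecMap_residueFieldMap_fromSpecResidueField_assoc, hpt _ hx]
    · exact Limits.terminal.hom_ext _ _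
  refine ⟨W, ⟨p, hpW⟩, ?_⟩
  rw [← hf'', ← hg'', key]

end Groth.Agent.S15355
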