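import Groth.Statements.S15360
import Groth.Agent.Lib.Helper55.FunFld.GL2c
open Groth.Agent.Lib.Helper55

set_option autoImplicit false
universe u
open GalCoh

namespace Groth.Agent.S15360

/-- Let 𝔊 be a profinite group and ϕ : 𝔊 → GL₂(ℤ_p) a continuous homomorphism. Then ϕ is surjective if
and only if (i) the composite of ϕ with reduction modulo p, 𝔊 → GL₂(𝔽_p), is surjective, and (ii)
for every integer n ≥ 1 there is g ∈ 𝔊 such that ϕ(g) has the form [[1 + pⁿa, pⁿ⁺¹b], [pⁿ⁺¹c, 1 +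
pⁿ⁺¹d]] with a, b, c, d ∈ ℤ_p and a not divisible by p (equivalently: the image of ϕ⁻¹(1 +
pⁿM₂(ℤ_p)) in M₂(𝔽_p) under g ↦ (ϕ(g) − 1)/pⁿ contains a matrix [[x, 0], [0, 0]] with x ≠ 0).
Continuity of ϕ is expressed through its matrix entries. -/
theorem result (p : ℕ) [Fact p.Prime]
    (𝔊 : Type u) [Group 𝔊] [TopologicalSpace 𝔊] [IsTopologicalGroup 𝔊] [CompactSpace 𝔊] [T2Space 𝔊]
    [TotallyDisconnectedSpace 𝔊]
    (ϕ : 𝔊 →* GL (Fin 2) ℤ_[p])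
    (hϕ : Continuous fun g => ((ϕ g : GL (Fin 2) ℤ_[p]) : Matrix (Fin 2) (Fin 2) ℤ_[p])) :
    Function.Surjective ϕ ↔
      (Function.Surjective ((Matrix.GeneralLinearGroup.map (n := Fin 2) (PadicInt.toZMod (p := p))).comp ϕ) ∧
        ∀ n : ℕ, 1 ≤ n → ∃ (g : 𝔊) (a b c d : ℤ_[p]), ¬ ((p : ℤ_[p]) ∣ a) ∧
          ((ϕ g : GL (Fin 2) ℤ_[p]) : Matrix (Fin 2) (Fin 2) ℤ_[p]) =
            !![1 + (p : ℤ_[p]) ^ n * a, (p : ℤ_[p]) ^ (n + 1) * b;
               (p : ℤ_[p]) ^ (n + 1) * c, 1 + (p : ℤ_[p]) ^ (n + 1) * d]) := by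
  constructor
  · intro hs
    refine ⟨GL2.GLmap_surjective.comp hs, ?_⟩
    intro n hn
    have hdet : IsUnit (!![1 + (p : ℤ_[p]) ^ n, 0; 0, 1] : Matrix (Fin 2) (Fin 2) ℤ_[p]).det := by
      apply GL2.isUnit_of_toZMod_ne_zero
      rw [Matrix.det_fin_two_of]
      obtain ⟨m, rfl⟩ := Nat.exists_eq_add_of_le hn
      simp [pow_add]
    obtain ⟨g, hg⟩ := hs (Matrix.nonsingInvUnit _ hdet)
    refine ⟨g, 1, 0, 0, 0, ?_, ?_⟩
    · intro h
      have h1 : IsUnit (p : ℤ_[p]) := isUnit_of_dvd_one h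
      exact PadicInt.p_nonunit h1
    · rw [hg]
      ext i j
      fin_cases i <;> fin_cases j <;> simp [Matrix.nonsingInvUnit]
  · rintro ⟨hsurj, hii⟩
    have hall : ∀ n : ℕ, 1 ≤ n → ∀ Y : Matrix (Fin 2) (Fin 2) (ZMod p), GL2.InV ϕ n Y := by
      intro n hn Y
      obtain ⟨g, a, b, c, d, ha, hg⟩ := hii n hn
      have ha' : PadicInt.toZMod a ≠ 0 := fun h => ha ((GL2.toZMod_eq_zero_iff a).mp h)
      refine GL2.inV_all ϕ hsurj hn ha' ?_ Y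
      refine ⟨g, !![a, (p : ℤ_[p]) * b; (p : ℤ_[p]) * c, (p : ℤ_[p]) * d], ?_, ?_⟩
      · change ((ϕ g : GL (Fin 2) ℤ_[p]) : Matrix (Fin 2) (Fin 2) ℤ_[p]) = _
        rw [hg]
        ext i j
        fin_cases i <;> fin_cases j <;> simp [pow_succ, mul_assoc]
      · ext i j
        rw [GL2.red_apply]
        fin_cases i <;> fin_cases j <;> simp
    exact GL2.surjective_of ϕ hϕ hsurj hall

end Groth.Agent.S15360
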