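import Groth.Statements.S15361
import Mathlib
-- import your own Groth.Agent.* helpers here

set_option autoImplicit false
open GalCoh

namespace Groth.Agent.S15361

open Matrix

section helpers
variable {p : ℕ}

/-- upper transvection -/
def T12 (x : ZMod p) : GL (Fin 2) (ZMod p) :=
  ⟨!![1, x; 0, 1], !![1, -x; 0, 1],
    by simp [Matrix.one_fin_two],
    by simp [Matrix.one_fin_two]⟩

/-- lower transvection -/
def T21 (x : ZMod p) : GL (Fin 2) (ZMod p) :=
  ⟨!![1, 0; x, 1], !![1, 0; -x, 1],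
    by simp [Matrix.one_fin_two],
    by simp [Matrix.one_fin_two]⟩

lemma T12_val (x : ZMod p) :
    ((T12 x : GL (Fin 2) (ZMod p)) : Matrix (Fin 2) (Fin 2) (ZMod p)) = !![1, x; 0, 1] := rfl

lemma T21_val (x : ZMod p) :
    ((T21 x : GL (Fin 2) (ZMod p)) : Matrix (Fin 2) (Fin 2) (ZMod p)) = !![1, 0; x, 1] := rfl

lemma T12_zero : T12 (0 : ZMod p) = 1 := by
  apply Units.ext
  rw [T12_val, Units.val_one, Matrix.one_fin_two]

lemma T21_zero : T21 (0 : ZMod p) = 1 := by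
  apply Units.ext
  rw [T21_val, Units.val_one, Matrix.one_fin_two]

lemma T12_mul (a b : ZMod p) : T12 a * T12 b = T12 (a + b) := by
  apply Units.ext
  rw [Units.val_mul, T12_val, T12_val, T12_val, Matrix.mul_fin_two]
  simp [add_comm]

lemma T21_mul (a b : ZMod p) : T21 a * T21 b = T21 (a + b) := by
  apply Units.ext
  rw [Units.val_mul, T21_val, T21_val, T21_val, Matrix.mul_fin_two]
  simp [add_comm]

lemma T12_pow (x : ZMod p) (n : ℕ) : T12 x ^ n = T12 ((n : ZMod p) * x) := by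
  induction n with
  | zero => rw [pow_zero, Nat.cast_zero, zero_mul, T12_zero]
  | succ n ih =>
    rw [pow_succ, ih, T12_mul]
    congr 1
    push_cast
    ring

lemma T21_pow (x : ZMod p) (n : ℕ) : T21 x ^ n = T21 ((n : ZMod p) * x) := by
  induction n with
  | zero => rw [pow_zero, Nat.cast_zero, zero_mul, T21_zero]
  | succ n ih =>
    rw [pow_succ, ih, T21_mul]
    congr 1
    push_cast
    ring

lemma decomp_aux (a b c d x y : ZMod p) (hx : x * c = a - 1) (hy : c * y = d - 1)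
    (hb : a * y + x = b) :
    (!![a, b; c, d] : Matrix (Fin 2) (Fin 2) (ZMod p)) =
      !![1, x; 0, 1] * !![1, 0; c, 1] * !![1, y; 0, 1] := by
  rw [Matrix.mul_fin_two, Matrix.mul_fin_two]
  ext i j
  fin_cases i <;> fin_cases j <;> simp <;>
    first
    | linear_combination -hx
    | linear_combination hx
    | linear_combination -hb - y * hx
    | linear_combination hb + y * hx
    | linear_combination -hy

end helpers

section prime
variable {p : ℕ} [Fact p.Prime]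

lemma mem_of_det_one (H : Subgroup (GL (Fin 2) (ZMod p)))
    (h12 : ∀ x : ZMod p, T12 x ∈ H) (h21 : ∀ x : ZMod p, T21 x ∈ H)
    (g : GL (Fin 2) (ZMod p)) (hg : (g : Matrix (Fin 2) (Fin 2) (ZMod p)).det = 1) : g ∈ H := by
  have key : ∀ g : GL (Fin 2) (ZMod p), (g : Matrix (Fin 2) (Fin 2) (ZMod p)).det = 1 →
      (g : Matrix (Fin 2) (Fin 2) (ZMod p)) 1 0 ≠ 0 → g ∈ H := by
    intro g hg hc
    have hdet : (g : Matrix (Fin 2) (Fin 2) (ZMod p)) 0 0 *
        (g : Matrix (Fin 2) (Fin 2) (ZMod p)) 1 1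
        - (g : Matrix (Fin 2) (Fin 2) (ZMod p)) 0 1 *
          (g : Matrix (Fin 2) (Fin 2) (ZMod p)) 1 0 = 1 := by
      rw [← Matrix.det_fin_two]; exact hg
    have hthis : g = T12 (((g : Matrix (Fin 2) (Fin 2) (ZMod p)) 0 0 - 1) /
          (g : Matrix (Fin 2) (Fin 2) (ZMod p)) 1 0) *
        T21 ((g : Matrix (Fin 2) (Fin 2) (ZMod p)) 1 0) *
        T12 (((g : Matrix (Fin 2) (Fin 2) (ZMod p)) 1 1 - 1) /
          (g : Matrix (Fin 2) (Fin 2) (ZMod p)) 1 0) := by
      apply Units.ext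
      rw [Units.val_mul, Units.val_mul, T12_val, T21_val, T12_val]
      rw [← decomp_aux ((g : Matrix (Fin 2) (Fin 2) (ZMod p)) 0 0)
        ((g : Matrix (Fin 2) (Fin 2) (ZMod p)) 0 1) ((g : Matrix (Fin 2) (Fin 2) (ZMod p)) 1 0)
        ((g : Matrix (Fin 2) (Fin 2) (ZMod p)) 1 1) _ _ (by field_simp) (by field_simp)
        (by field_simp; linear_combination hdet)]
      exact Matrix.eta_fin_two _
    rw [hthis]
    exact H.mul_mem (H.mul_mem (h12 _) (h21 _)) (h12 _)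
  by_cases hc : (g : Matrix (Fin 2) (Fin 2) (ZMod p)) 1 0 = 0
  · have hdet : (g : Matrix (Fin 2) (Fin 2) (ZMod p)) 0 0 *
        (g : Matrix (Fin 2) (Fin 2) (ZMod p)) 1 1
        - (g : Matrix (Fin 2) (Fin 2) (ZMod p)) 0 1 *
          (g : Matrix (Fin 2) (Fin 2) (ZMod p)) 1 0 = 1 := by
      rw [← Matrix.det_fin_two]; exact hg
    have ha : (g : Matrix (Fin 2) (Fin 2) (ZMod p)) 0 0 ≠ 0 := by
      intro h
      rw [h, hc] at hdet
      simp at hdet
    have h' : T21 1 * g ∈ H := by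
      apply key
      · rw [Units.val_mul, Matrix.det_mul, hg, T21_val]
        simp [Matrix.det_fin_two]
      · rw [Units.val_mul, T21_val, Matrix.mul_apply, Fin.sum_univ_two]
        simp [hc, ha]
    have hthis : g = (T21 1)⁻¹ * (T21 1 * g) := by group
    rw [hthis]
    exact H.mul_mem (H.inv_mem (h21 1)) h'
  · exact key g hg hc

lemma exists_inv_of_isField (E : Subring (Matrix (Fin 2) (Fin 2) (ZMod p))) (hE : IsField E)
    (e : Matrix (Fin 2) (Fin 2) (ZMod p)) (he : e ∈ E) (h0 : e ≠ 0) :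
    ∃ b ∈ E, b * e = 1 ∧ e * b = 1 := by
  obtain ⟨b, hb⟩ := hE.mul_inv_cancel (a := (⟨e, he⟩ : E))
    (fun h => h0 (congrArg Subtype.val h))
  have hb' : b * (⟨e, he⟩ : E) = 1 := by rw [hE.mul_comm]; exact hb
  refine ⟨b, b.2, ?_, ?_⟩
  · simpa using congrArg Subtype.val hb'
  · simpa using congrArg Subtype.val hb

lemma smul_mem_of_subring (E : Subring (Matrix (Fin 2) (Fin 2) (ZMod p))) (a : ZMod p)
    (e : Matrix (Fin 2) (Fin 2) (ZMod p)) (he : e ∈ E) : a • e ∈ E := by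
  have hthis : a • e = a.val • e := by
    rw [← Nat.cast_smul_eq_nsmul (ZMod p), ZMod.natCast_zmod_val]
  rw [hthis]
  exact nsmul_mem he _

lemma exists_mulVec_eq (E : Subring (Matrix (Fin 2) (Fin 2) (ZMod p))) (hE : IsField E)
    (hcard : Nat.card E = p ^ 2) (v w : Fin 2 → ZMod p) (hv : v ≠ 0) :
    ∃ e ∈ E, e *ᵥ v = w := by
  have hinj : Function.Injective
      (fun e : E => (e : Matrix (Fin 2) (Fin 2) (ZMod p)) *ᵥ v) := by
    intro e₁ e₂ h
    by_contra hne
    have hsub : (e₁.1 - e₂.1) *ᵥ v = 0 := by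
      rw [Matrix.sub_mulVec]; exact sub_eq_zero.mpr h
    have hne' : e₁.1 - e₂.1 ≠ 0 := by
      intro h0
      exact hne (Subtype.ext (sub_eq_zero.mp h0))
    obtain ⟨b, _, hbe, _⟩ := exists_inv_of_isField E hE _ (E.sub_mem e₁.2 e₂.2) hne'
    apply hv
    calc v = (1 : Matrix (Fin 2) (Fin 2) (ZMod p)) *ᵥ v := (Matrix.one_mulVec v).symm
      _ = (b * (e₁.1 - e₂.1)) *ᵥ v := by rw [hbe]
      _ = b *ᵥ ((e₁.1 - e₂.1) *ᵥ v) :=
        (Matrix.mulVec_mulVec _ _ _).symm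
      _ = 0 := by rw [hsub, Matrix.mulVec_zero]
  have hc2 : Nat.card (Fin 2 → ZMod p) = p ^ 2 := by
    rw [Nat.card_eq_fintype_card, Fintype.card_fun, ZMod.card, Fintype.card_fin]
  have hbij := hinj.bijective_of_nat_card_le (by rw [hcard, hc2])
  obtain ⟨e, he⟩ := hbij.2 w
  exact ⟨e, e.2, he⟩

/-- the quadratic polynomial used for Chevalley-Warning -/
noncomputable def qpoly (t δ d : ZMod p) : MvPolynomial (Fin 3) (ZMod p) :=
  MvPolynomial.X 0 * MvPolynomial.X 0 + MvPolynomial.C t * (MvPolynomial.X 0 * MvPolynomial.X 1)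
    + MvPolynomial.C δ * (MvPolynomial.X 1 * MvPolynomial.X 1)
    - MvPolynomial.C d * (MvPolynomial.X 2 * MvPolynomial.X 2)

lemma qpoly_eval (t δ d : ZMod p) (x : Fin 3 → ZMod p) :
    MvPolynomial.eval x (qpoly t δ d) =
      x 0 * x 0 + t * (x 0 * x 1) + δ * (x 1 * x 1) - d * (x 2 * x 2) := by
  simp [qpoly]

lemma qpoly_deg (t δ d : ZMod p) : (qpoly t δ d).totalDegree ≤ 2 := by
  have hX : ∀ i j : Fin 3, MvPolynomial.IsHomogeneous
      (MvPolynomial.X i * MvPolynomial.X j : MvPolynomial (Fin 3) (ZMod p)) 2 :=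
    fun i j => (MvPolynomial.isHomogeneous_X _ i).mul (MvPolynomial.isHomogeneous_X _ j)
  have hC : ∀ (c : ZMod p) (i j : Fin 3), MvPolynomial.IsHomogeneous
      (MvPolynomial.C c * (MvPolynomial.X i * MvPolynomial.X j) :
        MvPolynomial (Fin 3) (ZMod p)) 2 :=
    fun c i j => (hX i j).C_mul c
  exact ((((hX 0 0).add (hC t 0 1)).add (hC δ 1 1)).sub (hC d 2 2)).totalDegree_le

lemma exists_det_eq (E : Subring (Matrix (Fin 2) (Fin 2) (ZMod p))) (hE : IsField E)
    (hcard : Nat.card E = p ^ 2) (d : ZMod p) :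
    ∃ e ∈ E, e.det = d := by
  have hp := (Fact.out : p.Prime)
  obtain ⟨θ, hθE, hθ⟩ : ∃ θ ∈ E, ∀ a : ZMod p,
      θ ≠ a • (1 : Matrix (Fin 2) (Fin 2) (ZMod p)) := by
    by_contra hcon
    push Not at hcon
    have hsurj : Function.Surjective (fun a : ZMod p =>
        (⟨a • 1, smul_mem_of_subring E a 1 E.one_mem⟩ : E)) := by
      rintro ⟨θ, hθ⟩
      obtain ⟨a, ha⟩ := hcon θ hθ
      exact ⟨a, Subtype.ext ha.symm⟩
    have h1 := Nat.card_le_card_of_surjective _ hsurj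
    rw [hcard, Nat.card_eq_fintype_card, ZMod.card] at h1
    have h2 := hp.two_le
    have h3 : 2 * p ≤ p * p := Nat.mul_le_mul_right p h2
    rw [sq] at h1
    omega
  have hq : ∀ a b : ZMod p, (a • (1 : Matrix (Fin 2) (Fin 2) (ZMod p)) + b • θ).det =
      a * a + (θ 0 0 + θ 1 1) * (a * b) + θ.det * (b * b) := by
    intro a b
    rw [Matrix.det_fin_two, Matrix.det_fin_two]
    simp [Matrix.add_apply, Matrix.smul_apply]
    ring
  have hmem : ∀ a b : ZMod p, a • (1 : Matrix (Fin 2) (Fin 2) (ZMod p)) + b • θ ∈ E :=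
    fun a b => E.add_mem (smul_mem_of_subring E a 1 E.one_mem) (smul_mem_of_subring E b θ hθE)
  have hne : ∀ a b : ZMod p, (a ≠ 0 ∨ b ≠ 0) →
      a • (1 : Matrix (Fin 2) (Fin 2) (ZMod p)) + b • θ ≠ 0 := by
    intro a b hab h
    by_cases hb : b = 0
    · subst hb
      have ha : a ≠ 0 := by tauto
      have h00 := congrFun (congrFun h 0) 0
      simp at h00
      exact ha h00
    · apply hθ (-(a / b))
      have h1 : b • θ = -(a • (1 : Matrix (Fin 2) (Fin 2) (ZMod p))) :=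
        eq_neg_of_add_eq_zero_right h
      calc θ = b⁻¹ • (b • θ) := by rw [smul_smul, inv_mul_cancel₀ hb, one_smul]
        _ = -(a / b) • (1 : Matrix (Fin 2) (Fin 2) (ZMod p)) := by
          rw [h1, smul_neg, smul_smul, neg_smul, div_eq_inv_mul]
  have hdet_ne : ∀ a b : ZMod p, (a ≠ 0 ∨ b ≠ 0) →
      a * a + (θ 0 0 + θ 1 1) * (a * b) + θ.det * (b * b) ≠ 0 := by
    intro a b hab h0
    obtain ⟨b', _, hb', _⟩ := exists_inv_of_isField E hE _ (hmem a b) (hne a b hab)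
    have h1 := congrArg Matrix.det hb'
    rw [Matrix.det_mul, hq, h0, mul_zero, Matrix.det_one] at h1
    exact zero_ne_one h1
  by_cases hd : d = 0
  · exact ⟨0, E.zero_mem, by rw [hd, Matrix.det_zero]⟩
  have hdeg : (qpoly (θ 0 0 + θ 1 1) θ.det d).totalDegree < Fintype.card (Fin 3) := by
    rw [Fintype.card_fin]
    exact lt_of_le_of_lt (qpoly_deg _ _ _) (by norm_num)
  have hdvd := char_dvd_card_solutions p hdeg
  have h0 : MvPolynomial.eval (0 : Fin 3 → ZMod p) (qpoly (θ 0 0 + θ 1 1) θ.det d) = 0 := by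
    rw [qpoly_eval]; simp
  have hpos : 0 < Fintype.card {x : Fin 3 → ZMod p //
      MvPolynomial.eval x (qpoly (θ 0 0 + θ 1 1) θ.det d) = 0} :=
    Fintype.card_pos_iff.mpr ⟨⟨0, h0⟩⟩
  have hlt : 1 < Fintype.card {x : Fin 3 → ZMod p //
      MvPolynomial.eval x (qpoly (θ 0 0 + θ 1 1) θ.det d) = 0} := by
    have h1 := Nat.le_of_dvd hpos hdvd
    have h2 := hp.two_le
    omega
  obtain ⟨⟨x, hx⟩, hxne⟩ := Fintype.exists_ne_of_one_lt_card hlt ⟨0, h0⟩
  have hx0 : x ≠ 0 := fun h => hxne (Subtype.ext h)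
  rw [qpoly_eval] at hx
  have hc : x 2 ≠ 0 := by
    intro hc
    rw [hc] at hx
    have hab : x 0 ≠ 0 ∨ x 1 ≠ 0 := by
      by_contra hcon
      push Not at hcon
      apply hx0
      funext i
      fin_cases i
      · exact hcon.1
      · exact hcon.2
      · exact hc
    exact hdet_ne _ _ hab (by linear_combination hx)
  refine ⟨(x 0 / x 2) • 1 + (x 1 / x 2) • θ, hmem _ _, ?_⟩
  rw [hq]
  field_simp
  linear_combination hx

lemma eq_T12_of_fix (W : GL (Fin 2) (ZMod p))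
    (hfix : (W : Matrix (Fin 2) (Fin 2) (ZMod p)) *ᵥ Pi.single 0 1 = Pi.single 0 1)
    (hpow : W ^ p = 1) : W = T12 ((W : Matrix (Fin 2) (Fin 2) (ZMod p)) 0 1) := by
  rw [Matrix.mulVec_single_one] at hfix
  have h00 : (W : Matrix (Fin 2) (Fin 2) (ZMod p)) 0 0 = 1 := by
    simpa using congrFun hfix 0
  have h10 : (W : Matrix (Fin 2) (Fin 2) (ZMod p)) 1 0 = 0 := by
    simpa using congrFun hfix 1
  have hdet : (W : Matrix (Fin 2) (Fin 2) (ZMod p)).det =
      (W : Matrix (Fin 2) (Fin 2) (ZMod p)) 1 1 := by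
    rw [Matrix.det_fin_two, h00, h10]; ring
  have h11 : (W : Matrix (Fin 2) (Fin 2) (ZMod p)) 1 1 = 1 := by
    have h := congrArg
      (fun u : GL (Fin 2) (ZMod p) => (u : Matrix (Fin 2) (Fin 2) (ZMod p)).det) hpow
    simp only [Units.val_pow_eq_pow_val, Matrix.det_pow, Units.val_one, Matrix.det_one] at h
    rw [hdet, ZMod.pow_card] at h
    exact h
  apply Units.ext
  rw [T12_val]
  ext i j
  fin_cases i <;> fin_cases j <;> simp [h00, h10, h11]

lemma eq_T21_of_fix (W : GL (Fin 2) (ZMod p))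
    (hfix : (W : Matrix (Fin 2) (Fin 2) (ZMod p)) *ᵥ Pi.single 1 1 = Pi.single 1 1)
    (hpow : W ^ p = 1) : W = T21 ((W : Matrix (Fin 2) (Fin 2) (ZMod p)) 1 0) := by
  rw [Matrix.mulVec_single_one] at hfix
  have h01 : (W : Matrix (Fin 2) (Fin 2) (ZMod p)) 0 1 = 0 := by
    simpa using congrFun hfix 0
  have h11 : (W : Matrix (Fin 2) (Fin 2) (ZMod p)) 1 1 = 1 := by
    simpa using congrFun hfix 1
  have hdet : (W : Matrix (Fin 2) (Fin 2) (ZMod p)).det =
      (W : Matrix (Fin 2) (Fin 2) (ZMod p)) 0 0 := by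
    rw [Matrix.det_fin_two, h01, h11]; ring
  have h00 : (W : Matrix (Fin 2) (Fin 2) (ZMod p)) 0 0 = 1 := by
    have h := congrArg
      (fun u : GL (Fin 2) (ZMod p) => (u : Matrix (Fin 2) (Fin 2) (ZMod p)).det) hpow
    simp only [Units.val_pow_eq_pow_val, Matrix.det_pow, Units.val_one, Matrix.det_one] at h
    rw [hdet, ZMod.pow_card] at h
    exact h
  apply Units.ext
  rw [T21_val]
  ext i j
  fin_cases i <;> fin_cases j <;> simp [h00, h01, h11]

/-- the subgroup of invertible elements of a subfield of the matrix ring -/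
def cartanOf (E : Subring (Matrix (Fin 2) (Fin 2) (ZMod p))) (hE : IsField E) :
    Subgroup (GL (Fin 2) (ZMod p)) where
  carrier := {g | (g : Matrix (Fin 2) (Fin 2) (ZMod p)) ∈ E}
  mul_mem' := by
    intro a b ha hb
    simp only [Set.mem_ofPred_eq, Units.val_mul] at *
    exact E.mul_mem ha hb
  one_mem' := by
    simp only [Set.mem_ofPred_eq, Units.val_one]
    exact E.one_mem
  inv_mem' := by
    intro g hg
    simp only [Set.mem_ofPred_eq] at *
    obtain ⟨b, hb, hbe, heb⟩ := exists_inv_of_isField E hE _ hg g.ne_zero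
    have hthis : ((g⁻¹ : GL (Fin 2) (ZMod p)) : Matrix (Fin 2) (Fin 2) (ZMod p)) = b := by
      calc ((g⁻¹ : GL (Fin 2) (ZMod p)) : Matrix (Fin 2) (Fin 2) (ZMod p))
          = ((g⁻¹ : GL (Fin 2) (ZMod p)) : Matrix (Fin 2) (Fin 2) (ZMod p)) *
              ((g : Matrix (Fin 2) (Fin 2) (ZMod p)) * b) := by rw [heb, mul_one]
        _ = b := by rw [← mul_assoc, Units.inv_mul, one_mul]
    rw [hthis]; exact hb

lemma cartanOf_spec (E : Subring (Matrix (Fin 2) (Fin 2) (ZMod p))) (hE : IsField E) :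
    (E : Set (Matrix (Fin 2) (Fin 2) (ZMod p))) =
      insert 0 ((fun g : GL (Fin 2) (ZMod p) => (g : Matrix (Fin 2) (Fin 2) (ZMod p))) ''
        (cartanOf E hE : Set (GL (Fin 2) (ZMod p)))) := by
  ext e
  constructor
  · intro he
    by_cases h0 : e = 0
    · exact Set.mem_insert_iff.mpr (Or.inl h0)
    · obtain ⟨b, hb, hbe, heb⟩ := exists_inv_of_isField E hE e he h0
      refine Set.mem_insert_of_mem _ ⟨⟨e, b, heb, hbe⟩, ?_, rfl⟩
      exact he
  · rintro (rfl | ⟨g, hg, rfl⟩)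
    · exact E.zero_mem
    · exact hg

lemma forward : ∃ (C : Subgroup (GL (Fin 2) (ZMod p)))
    (E : Subring (Matrix (Fin 2) (Fin 2) (ZMod p))),
      IsField E ∧ Nat.card E = p ^ 2 ∧
        (E : Set (Matrix (Fin 2) (Fin 2) (ZMod p))) =
          insert 0 ((fun g : GL (Fin 2) (ZMod p) => (g : Matrix (Fin 2) (Fin 2) (ZMod p))) ''
            (C : Set (GL (Fin 2) (ZMod p)))) := by
  have hfr : Module.finrank (ZMod p) (GaloisField p 2) = 2 :=
    GaloisField.finrank p (n := 2) (by norm_num)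
  let b : Module.Basis (Fin 2) (ZMod p) (GaloisField p 2) :=
    Module.finBasisOfFinrankEq (ZMod p) (GaloisField p 2) hfr
  let f : GaloisField p 2 →+* Matrix (Fin 2) (Fin 2) (ZMod p) :=
    (Algebra.leftMulMatrix b).toRingHom
  have hf : Function.Injective f := Algebra.leftMulMatrix_injective b
  let e : GaloisField p 2 ≃+* f.range := RingEquiv.ofBijective f.rangeRestrict
    ⟨fun x y h => hf (congrArg Subtype.val h), f.rangeRestrict_surjective⟩
  have hE : IsField f.range := MulEquiv.isField (Field.toIsField _) e.symm.toMulEquiv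
  have hcard : Nat.card f.range = p ^ 2 := by
    rw [← Nat.card_congr e.toEquiv]; exact GaloisField.card p 2 (by norm_num)
  exact ⟨cartanOf f.range hE, f.range, hE, hcard, cartanOf_spec _ hE⟩

lemma eq_top_of_cartan (H C : Subgroup (GL (Fin 2) (ZMod p)))
    (E : Subring (Matrix (Fin 2) (Fin 2) (ZMod p)))
    (hCH : C ≤ H) (hE : IsField E) (hcard : Nat.card E = p ^ 2)
    (hEC : (E : Set (Matrix (Fin 2) (Fin 2) (ZMod p))) =
      insert 0 ((fun g : GL (Fin 2) (ZMod p) => (g : Matrix (Fin 2) (Fin 2) (ZMod p))) ''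
        (C : Set (GL (Fin 2) (ZMod p)))))
    (hdvd : p ∣ Nat.card H) : H = ⊤ := by
  have hp := (Fact.out : p.Prime)
  have hmemC : ∀ e ∈ E, e ≠ 0 → ∃ c ∈ C, (c : Matrix (Fin 2) (Fin 2) (ZMod p)) = e := by
    intro e he h0
    have h' : e ∈ insert 0
        ((fun g : GL (Fin 2) (ZMod p) => (g : Matrix (Fin 2) (Fin 2) (ZMod p))) ''
          (C : Set (GL (Fin 2) (ZMod p)))) := by
      rw [← hEC]; exact he
    rcases h' with h | ⟨c, hc, rfl⟩
    · exact absurd h h0
    · exact ⟨c, hc, rfl⟩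
  have htrans : ∀ v w : Fin 2 → ZMod p, v ≠ 0 → w ≠ 0 →
      ∃ c ∈ C, (c : Matrix (Fin 2) (Fin 2) (ZMod p)) *ᵥ v = w := by
    intro v w hv hw
    obtain ⟨e, he, hev⟩ := exists_mulVec_eq E hE hcard v w hv
    have h0 : e ≠ 0 := by
      rintro rfl
      rw [Matrix.zero_mulVec] at hev
      exact hw hev.symm
    obtain ⟨c, hc, rfl⟩ := hmemC e he h0
    exact ⟨c, hc, hev⟩
  obtain ⟨u, hu⟩ := exists_prime_orderOf_dvd_card' p hdvd
  obtain ⟨g, hgdef⟩ : ∃ g : GL (Fin 2) (ZMod p), g = (u : GL (Fin 2) (ZMod p)) := ⟨_, rfl⟩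
  have hgH : g ∈ H := hgdef ▸ u.2
  have hgp : g ^ p = 1 := by
    have h1 := pow_orderOf_eq_one u
    rw [hu] at h1
    have h2 := congrArg Subtype.val h1
    rw [hgdef]
    simpa using h2
  have hg1 : g ≠ 1 := by
    intro h
    have h1 : u = 1 := Subtype.ext (hgdef ▸ h)
    rw [h1, orderOf_one] at hu
    exact hp.one_lt.ne hu
  obtain ⟨v, hv0, hv⟩ : ∃ v : Fin 2 → ZMod p, v ≠ 0 ∧
      (g : Matrix (Fin 2) (Fin 2) (ZMod p)) *ᵥ v = v := by
    have hN : ((g : Matrix (Fin 2) (Fin 2) (ZMod p)) - 1) ^ p = 0 := by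
      rw [sub_pow_char_of_commute p (Commute.one_right _), one_pow,
        ← Units.val_pow_eq_pow_val, hgp, Units.val_one, sub_self]
    have hdet : ((g : Matrix (Fin 2) (Fin 2) (ZMod p)) - 1).det = 0 := by
      have h1 := congrArg Matrix.det hN
      rw [Matrix.det_pow, Matrix.det_zero] at h1
      exact (pow_eq_zero_iff hp.ne_zero).mp h1
    obtain ⟨v, hv0, hv⟩ := Matrix.exists_mulVec_eq_zero_iff.mpr hdet
    refine ⟨v, hv0, ?_⟩
    rw [Matrix.sub_mulVec, Matrix.one_mulVec, sub_eq_zero] at hv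
    exact hv
  have hT : ∀ j : Fin 2, ∃ c ∈ C,
      (c : Matrix (Fin 2) (Fin 2) (ZMod p)) *ᵥ Pi.single j 1 = v := fun j =>
    htrans (Pi.single j 1) v (by
      intro h
      have h1 := congrFun h j
      simp at h1) hv0
  have hconj : ∀ (j : Fin 2) (c : GL (Fin 2) (ZMod p)), c ∈ C →
      (c : Matrix (Fin 2) (Fin 2) (ZMod p)) *ᵥ Pi.single j 1 = v →
      (c⁻¹ * g * c ∈ H) ∧ (c⁻¹ * g * c) ^ p = 1 ∧ c⁻¹ * g * c ≠ 1 ∧
        ((c⁻¹ * g * c : GL (Fin 2) (ZMod p)) : Matrix (Fin 2) (Fin 2) (ZMod p)) *ᵥ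
          Pi.single j 1 = Pi.single j 1 := by
    intro j c hc hcv
    refine ⟨H.mul_mem (H.mul_mem (H.inv_mem (hCH hc)) hgH) (hCH hc), ?_, ?_, ?_⟩
    · have h1 := conj_pow (i := p) (a := c⁻¹) (b := g)
      rw [inv_inv] at h1
      rw [h1, hgp]; group
    · intro h
      apply hg1
      have h1 : g = c * (c⁻¹ * g * c) * c⁻¹ := by group
      rw [h1, h]; group
    · rw [Units.val_mul, Units.val_mul, ← Matrix.mulVec_mulVec, ← Matrix.mulVec_mulVec, hcv, hv,
        ← hcv, Matrix.mulVec_mulVec, ← Units.val_mul, inv_mul_cancel, Units.val_one,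
        Matrix.one_mulVec]
  have h12 : ∀ x : ZMod p, T12 x ∈ H := by
    obtain ⟨c, hc, hcv⟩ := hT 0
    obtain ⟨hWH, hWp, hW1, hWfix⟩ := hconj 0 c hc hcv
    obtain ⟨x₁, hx₁⟩ : ∃ x₁ : ZMod p, c⁻¹ * g * c = T12 x₁ := ⟨_, eq_T12_of_fix _ hWfix hWp⟩
    have hx₁0 : x₁ ≠ 0 := by
      intro h
      apply hW1
      rw [hx₁, h]
      exact T12_zero
    intro x
    have hthis : T12 x = (T12 x₁) ^ (x / x₁).val := by
      rw [T12_pow, ZMod.natCast_zmod_val, div_mul_cancel₀ _ hx₁0]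
    rw [hthis, ← hx₁]
    exact H.pow_mem hWH _
  have h21 : ∀ x : ZMod p, T21 x ∈ H := by
    obtain ⟨c, hc, hcv⟩ := hT 1
    obtain ⟨hWH, hWp, hW1, hWfix⟩ := hconj 1 c hc hcv
    obtain ⟨x₁, hx₁⟩ : ∃ x₁ : ZMod p, c⁻¹ * g * c = T21 x₁ := ⟨_, eq_T21_of_fix _ hWfix hWp⟩
    have hx₁0 : x₁ ≠ 0 := by
      intro h
      apply hW1
      rw [hx₁, h]
      exact T21_zero
    intro x
    have hthis : T21 x = (T21 x₁) ^ (x / x₁).val := by
      rw [T21_pow, ZMod.natCast_zmod_val, div_mul_cancel₀ _ hx₁0]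
    rw [hthis, ← hx₁]
    exact H.pow_mem hWH _
  rw [eq_top_iff]
  intro k _
  have hk : (k : Matrix (Fin 2) (Fin 2) (ZMod p)).det ≠ 0 :=
    ((Matrix.isUnit_iff_isUnit_det _).mp k.isUnit).ne_zero
  obtain ⟨e, he, hed⟩ := exists_det_eq E hE hcard (k : Matrix (Fin 2) (Fin 2) (ZMod p)).det
  have he0 : e ≠ 0 := by
    rintro rfl
    rw [Matrix.det_zero] at hed
    exact hk hed.symm
  obtain ⟨c, hc, rfl⟩ := hmemC e he he0
  have hthis : k = c * (c⁻¹ * k) := by group
  rw [hthis]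
  apply H.mul_mem (hCH hc)
  apply mem_of_det_one H h12 h21
  rw [Units.val_mul, Matrix.det_mul, ← hed, ← Matrix.det_mul, ← Units.val_mul, inv_mul_cancel,
    Units.val_one, Matrix.det_one]

end prime

/-- Let p be a prime and H a subgroup of GL₂(𝔽_p). Then H = GL₂(𝔽_p) if and only if (i) some non-split
Cartan subgroup lies in H, i.e. some subgroup C ≤ H such that C ∪ {0} is a subfield of the matrix
algebra M₂(𝔽_p) with p² elements, and (ii) p divides the order of H. -/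
theorem result (p : ℕ) [Fact p.Prime]
    (H : Subgroup (GL (Fin 2) (ZMod p))) :
    H = ⊤ ↔
      (∃ (C : Subgroup (GL (Fin 2) (ZMod p))) (E : Subring (Matrix (Fin 2) (Fin 2) (ZMod p))),
          C ≤ H ∧ IsField E ∧ Nat.card E = p ^ 2 ∧
            (E : Set (Matrix (Fin 2) (Fin 2) (ZMod p))) =
              insert 0 ((fun g : GL (Fin 2) (ZMod p) => (g : Matrix (Fin 2) (Fin 2) (ZMod p))) ''
                (C : Set (GL (Fin 2) (ZMod p))))) ∧
        p ∣ Nat.card H := by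
  constructor
  · rintro rfl
    obtain ⟨C, E, hE, hcard, hEC⟩ := forward (p := p)
    refine ⟨⟨C, E, le_top, hE, hcard, hEC⟩, ?_⟩
    rw [Subgroup.card_top]
    have h1 : orderOf (T12 (1 : ZMod p)) = p := by
      apply orderOf_eq_prime
      · rw [T12_pow, ZMod.natCast_self, zero_mul]; exact T12_zero
      · intro h
        have h2 := congrArg
          (fun u : GL (Fin 2) (ZMod p) => (u : Matrix (Fin 2) (Fin 2) (ZMod p)) 0 1) h
        simp [T12_val] at h2
    have h3 := orderOf_dvd_natCard (T12 (1 : ZMod p))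
    rwa [h1] at h3
  · rintro ⟨⟨C, E, hCH, hE, hcard, hEC⟩, hdvd⟩
    exact eq_top_of_cartan H C E hCH hE hcard hEC hdvd

end Groth.Agent.S15361
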