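import Groth.Statements.S3213
import Mathlib
-- import your own Groth.Agent.* helpers here

set_option autoImplicit false
universe u v
open SGA7II

namespace Groth.Agent.S3213

open Polynomial

noncomputable def Pseq {k : Type*} [Field k] (a : ℕ → k) (Q : ℕ) : ℕ → Polynomial k
  | 0 => 1 + X ^ Q * C (a 0)
  | (i + 1) => (Pseq a Q i) ^ Q + X ^ Q * C (a (i + 1))

lemma core {k : Type*} [Field k] [IsSepClosed k] {V : Type*} [AddCommGroup V] [Module k V]
    (Q : ℕ) (hQ0 : ((Q : ℕ) : k) = 0) (φ : V →+ V)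
    (hφ : ∀ (c : k) (v : V), φ (c • v) = c ^ Q • φ v) (v : V) (m : ℕ) (a : ℕ → k)
    (hv : (⇑φ)^[m + 1] v = ∑ i ∈ Finset.range (m + 1), a i • (⇑φ)^[i] v) :
    ∃ u : V, u - φ u = v := by
  classical
  have hQ0' : ((Q : ℕ) : Polynomial k) = 0 := by
    rw [← map_natCast (C : k →+* Polynomial k), hQ0, map_zero]
  have hP0 : Pseq a Q 0 = 1 + X ^ Q * C (a 0) := rfl
  have hPs : ∀ i, Pseq a Q (i + 1) = (Pseq a Q i) ^ Q + X ^ Q * C (a (i + 1)) := fun i => rfl
  have hder : ∀ i, derivative (Pseq a Q i) = 0 := by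
    intro i
    induction i with
    | zero => rw [hP0]; simp [derivative_X_pow, hQ0, hQ0']
    | succ i ih => rw [hPs]; simp [derivative_pow, derivative_X_pow, hQ0, hQ0']
  have hFder : derivative (Pseq a Q m - X) = -1 := by simp [hder]
  have hsep : (Pseq a Q m - X).Separable := by
    unfold Polynomial.Separable
    rw [hFder]
    exact isCoprime_one_right.neg_right
  have hdeg : (Pseq a Q m - X).degree ≠ 0 := by
    intro hdeg
    have hC := Polynomial.eq_C_of_degree_eq_zero hdeg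
    rw [hC] at hFder
    simp at hFder
  obtain ⟨y, hy⟩ := IsSepClosed.exists_root (Pseq a Q m - X) hdeg hsep
  have hy' : (Pseq a Q m).eval y = y := by
    have h0 : (Pseq a Q m).eval y - y = 0 := by simpa [IsRoot.def] using hy
    exact sub_eq_zero.mp h0
  obtain ⟨x, hx⟩ : ∃ x : ℕ → k, x = fun i => (Pseq a Q i).eval y := ⟨_, rfl⟩
  have hx0 : x 0 = 1 + y ^ Q * a 0 := by
    rw [hx]; simp only [hP0, eval_add, eval_one, eval_mul, eval_pow, eval_X, eval_C]
  have hxs : ∀ i, x (i + 1) = (x i) ^ Q + y ^ Q * a (i + 1) := by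
    intro i; rw [hx]; simp only [hPs, eval_add, eval_mul, eval_pow, eval_X, eval_C]
  have hxm : x m = y := by rw [hx]; exact hy'
  refine ⟨∑ i ∈ Finset.range (m + 1), x i • (⇑φ)^[i] v, ?_⟩
  have hφu : φ (∑ i ∈ Finset.range (m + 1), x i • (⇑φ)^[i] v) =
      ∑ i ∈ Finset.range (m + 1), (x i) ^ Q • (⇑φ)^[i + 1] v := by
    rw [map_sum]
    refine Finset.sum_congr rfl fun i _ => ?_
    rw [hφ, Function.iterate_succ_apply']
  have e1 : ∑ i ∈ Finset.range (m + 1), x i • (⇑φ)^[i] v =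
      ∑ i ∈ Finset.range m, x (i + 1) • (⇑φ)^[i + 1] v + x 0 • v := by
    rw [Finset.sum_range_succ']; rfl
  have e2 : ∑ i ∈ Finset.range (m + 1), (x i) ^ Q • (⇑φ)^[i + 1] v =
      ∑ i ∈ Finset.range m, (x i) ^ Q • (⇑φ)^[i + 1] v +
        y ^ Q • (∑ i ∈ Finset.range m, a (i + 1) • (⇑φ)^[i + 1] v + a 0 • v) := by
    rw [Finset.sum_range_succ, hxm, hv, Finset.sum_range_succ']; rfl
  rw [hφu, e1, e2]
  simp only [hxs, hx0, add_smul, mul_smul, one_smul, Finset.sum_add_distrib, smul_add,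
    Finset.smul_sum]
  abel

/-- Let k be a separably closed field of characteristic p > 0, q = p^r (r >= 1), V a finite-dimensional
k-vector space and phi : V -> V additive with phi(c v) = c^q phi(v). Then the additive map v |-> v -
phi(v) is surjective. -/
theorem result (k : Type u) [Field k] [IsSepClosed k] (p : ℕ) [Fact p.Prime] [CharP k p]
    (r : ℕ) (hr : 0 < r) (V : Type v) [AddCommGroup V] [Module k V] [FiniteDimensional k V] (φ : V →+ V)
    (hφ : ∀ (c : k) (v : V), φ (c • v) = c ^ (p ^ r) • φ v) :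
    Function.Surjective (fun v : V => v - φ v) := by
  classical
  obtain ⟨Q, hQdef⟩ : ∃ Q, Q = p ^ r := ⟨_, rfl⟩
  rw [← hQdef] at hφ
  have hQ0 : ((Q : ℕ) : k) = 0 := by
    rw [hQdef]; exact (CharP.cast_eq_zero_iff k p (p ^ r)).mpr (dvd_pow_self p hr.ne')
  intro v
  let W : ℕ →o Submodule k V :=
    ⟨fun i => Submodule.span k (Set.range (fun j : Fin i => (⇑φ)^[j] v)), by
      intro i i' hii'
      apply Submodule.span_mono
      rintro _ ⟨j, rfl⟩
      exact ⟨⟨j, lt_of_lt_of_le j.2 hii'⟩, rfl⟩⟩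
  obtain ⟨n, hn⟩ := (monotone_stabilizes_iff_noetherian.mpr (inferInstance : IsNoetherian k V)) W
  have hmem : (⇑φ)^[n] v ∈ Submodule.span k (Set.range (fun j : Fin n => (⇑φ)^[j] v)) := by
    have h1 : (⇑φ)^[n] v ∈ W (n + 1) := Submodule.subset_span ⟨⟨n, Nat.lt_succ_self n⟩, rfl⟩
    rw [← hn (n + 1) (Nat.le_succ n)] at h1
    exact h1
  obtain ⟨c, hc⟩ := (Submodule.mem_span_range_iff_exists_fun k).mp hmem
  cases n with
  | zero =>
    have hv0 : v = 0 := by simpa using hc.symm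
    exact ⟨0, by simp [hv0]⟩
  | succ m =>
    obtain ⟨u, hu⟩ := core Q hQ0 φ hφ v m (fun i => if h : i < m + 1 then c ⟨i, h⟩ else 0) (by
      rw [Finset.sum_range, ← hc]
      refine Finset.sum_congr rfl fun j _ => ?_
      simp [j.2])
    exact ⟨u, hu⟩

end Groth.Agent.S3213
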