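import Groth.Statements.S15362
import Mathlib
import Groth.Agent.S3213

set_option autoImplicit false
universe u v w
open CAlg

namespace Groth.Agent.S15362

/-- For an algebraically closed field L of characteristic p > 0, a commutative L-algebra R integral over
L, and a finitely presented R-module M carrying an additive endomorphism φ with φ(r·m) = r^p·φ(m)
for r ∈ R, m ∈ M, the map m ↦ φ(m) − m is onto. (R is taken of exponential characteristic p so that
its Frobenius is a ring endomorphism; for a non-zero L-algebra this is automatic.) -/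
theorem result (p : ℕ) [Fact p.Prime]
    (L : Type u) [Field L] [IsAlgClosed L] [CharP L p]
    (R : Type v) [CommRing R] [Algebra L R] [Algebra.IsIntegral L R] [ExpChar R p]
    (M : Type w) [AddCommGroup M] [Module R M] [Module.FinitePresentation R M]
    (φ : M →ₛₗ[frobenius R p] M) :
    Function.Surjective fun m : M => φ m - m := by
  classical
  intro m
  have hp : p.Prime := Fact.out
  obtain ⟨n, s, hs⟩ := Module.Finite.exists_fin (R := R) (M := M)
  have hmem : ∀ x : M, ∃ c : Fin n → R, ∑ i, c i • s i = x := fun x =>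
    (Submodule.mem_span_range_iff_exists_fun R).mp (hs ▸ Submodule.mem_top)
  choose a ha using fun j => hmem (φ (s j))
  obtain ⟨t, ht⟩ := hmem m
  let S : Set R := Set.range (fun jl : Fin n × Fin n => a jl.1 jl.2) ∪ Set.range t
  have hSfin : S.Finite := (Set.finite_range _).union (Set.finite_range _)
  let R₀ : Subalgebra L R := Algebra.adjoin L S
  have hfin : Module.Finite L R₀ :=
    Algebra.finite_adjoin_of_finite_of_isIntegral hSfin
      (fun x _ => Algebra.IsIntegral.isIntegral x)
  have hexp : ExpChar R₀ p := RingHom.expChar (algebraMap R₀ R) Subtype.val_injective p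
  let a₀ : Fin n → Fin n → R₀ := fun j l =>
    ⟨a j l, Algebra.subset_adjoin (Or.inl ⟨(j, l), rfl⟩)⟩
  let t₀ : Fin n → R₀ := fun j => ⟨t j, Algebra.subset_adjoin (Or.inr ⟨j, rfl⟩)⟩
  let Φ : (Fin n → R₀) →+ (Fin n → R₀) :=
    { toFun := fun x l => ∑ j, x j ^ p * a₀ j l
      map_zero' := by
        funext l
        simp [zero_pow hp.ne_zero]
      map_add' := fun x y => by
        funext l
        simp only [Pi.add_apply, add_pow_expChar, add_mul, Finset.sum_add_distrib] }
  have hΦ : ∀ (c : L) (x : Fin n → R₀), Φ (c • x) = c ^ (p ^ 1) • Φ x := by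
    intro c x
    funext l
    simp only [Φ, AddMonoidHom.coe_mk, ZeroHom.coe_mk, Pi.smul_apply, pow_one, smul_pow,
      smul_mul_assoc, Finset.smul_sum]
  obtain ⟨x, hx⟩ := Groth.Agent.S3213.result L p 1 Nat.one_pos (Fin n → R₀) Φ hΦ
    (fun j => - t₀ j)
  have hΦcoe : ∀ (y : Fin n → R₀) (l : Fin n),
      ((Φ y l : R₀) : R) = ∑ j, (y j : R) ^ p * a j l := by
    intro y l
    simp [Φ, a₀]
  have hπΦ : ∑ l, ((Φ x l : R₀) : R) • s l = φ (∑ j, (x j : R) • s j) := by
    rw [map_sum]
    have h1 : ∀ j, φ ((x j : R) • s j) = ∑ l, ((x j : R) ^ p * a j l) • s l := by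
      intro j
      rw [LinearMap.map_smulₛₗ, frobenius_def, ← ha j, Finset.smul_sum]
      exact Finset.sum_congr rfl fun l _ => (mul_smul _ _ _).symm
    simp only [h1, hΦcoe, Finset.sum_smul]
    exact Finset.sum_comm
  have hx' : ∀ l, ((Φ x l : R₀) : R) = (x l : R) + t l := by
    intro l
    have h := congrFun hx l
    simp only at h
    have h2 : Φ x l = x l + t₀ l := by
      have h3 : x l - Φ x l = - t₀ l := h
      rw [sub_eq_iff_eq_add] at h3
      rw [h3]; ring
    rw [h2]
    rfl
  refine ⟨∑ j, (x j : R) • s j, ?_⟩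
  show φ (∑ j, (x j : R) • s j) - ∑ j, (x j : R) • s j = m
  rw [← hπΦ]
  simp only [hx', add_smul, Finset.sum_add_distrib, ht]
  abel

end Groth.Agent.S15362
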