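import Groth.Statements.S15363
import Mathlib

set_option autoImplicit false
universe u
open CategoryTheory AlgebraicGeometry
open SekSuwa

namespace Groth.Agent.S15363

open Opposite in
/-- Global sections of a scheme flat over a domain are torsion-free. -/
theorem eq_zero_of_flat_of_mul_eq_zero {R : Type u} [CommRing R] [IsDomain R]
    {X : Scheme.{u}} (s : X ⟶ Spec (CommRingCat.of R)) [Flat s] (r : R) (hr : r ≠ 0)
    (x : Γ(X, ⊤))
    (hx : ((Scheme.ΓSpecIso (CommRingCat.of R)).inv ≫ s.appTop).hom r * x = 0) : x = 0 := by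
  apply TopCat.Sheaf.eq_of_locally_eq' X.sheaf (fun U : X.affineOpens => (U : X.Opens)) ⊤
    (fun U => homOfLE le_top) (by rw [iSup_affineOpens_eq_top])
  intro U
  change (X.presheaf.map (homOfLE (le_top : (U : X.Opens) ≤ ⊤)).op).hom x =
    (X.presheaf.map (homOfLE (le_top : (U : X.Opens) ≤ ⊤)).op).hom 0
  rw [map_zero]
  -- the ring map R → Γ(X, U) is flat
  let ρ : CommRingCat.of R ⟶ Γ(X, U) :=
    (Scheme.ΓSpecIso (CommRingCat.of R)).inv ≫ s.appLE ⊤ U le_top
  have hflat : (s.appLE ⊤ U le_top).hom.Flat :=
    HasRingHomProperty.appLE (P := @Flat) s ‹Flat s› ⟨⊤, isAffineOpen_top _⟩ U le_top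
  have hρ : ρ.hom.Flat := by
    have : ρ.hom = (s.appLE ⊤ U le_top).hom.comp (Scheme.ΓSpecIso (CommRingCat.of R)).inv.hom := rfl
    rw [this]
    refine RingHom.Flat.comp ?_ hflat
    exact RingHom.Flat.of_bijective (ConcreteCategory.bijective_of_isIso (Scheme.ΓSpecIso (CommRingCat.of R)).inv)
  let _ : Algebra R Γ(X, U) := ρ.hom.toAlgebra
  have hmod : Module.Flat R Γ(X, U) := hρ
  have hreg : IsSMulRegular Γ(X, U) r :=
    IsSMulRegular.of_flat (IsLeftCancelMulZero.mul_left_cancel_of_ne_zero hr)
  apply hreg
  change r • (X.presheaf.map (homOfLE (le_top : (U : X.Opens) ≤ ⊤)).op).hom x = r • 0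
  rw [smul_zero]
  -- r • x|_U = (ρ r) * x|_U = (r-image * x)|_U = 0
  have h1 : r • (X.presheaf.map (homOfLE (le_top : (U : X.Opens) ≤ ⊤)).op).hom x =
      (X.presheaf.map (homOfLE (le_top : (U : X.Opens) ≤ ⊤)).op).hom
        (((Scheme.ΓSpecIso (CommRingCat.of R)).inv ≫ s.appTop).hom r * x) := by
    rw [map_mul, Algebra.smul_def]
    congr 1
  rw [h1, hx, map_zero]

/-- The ring map `B → Γ(X, ⊤)` attached to a morphism `X ⟶ Spec B`. -/
noncomputable def sharp {X : Scheme.{u}} {B : Type u} [CommRing B] (φ : X ⟶ Spec (CommRingCat.of B)) :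
    CommRingCat.of B ⟶ Γ(X, ⊤) :=
  (Scheme.ΓSpecIso (CommRingCat.of B)).inv ≫ φ.appTop

theorem sharp_comp {X : Scheme.{u}} {B C : Type u} [CommRing B] [CommRing C]
    (φ : X ⟶ Spec (CommRingCat.of B)) (ρ : C →+* B) :
    sharp (φ ≫ Spec.map (CommRingCat.ofHom ρ)) = CommRingCat.ofHom ρ ≫ sharp φ := by
  unfold sharp
  rw [Scheme.Hom.comp_appTop, ← Category.assoc, ← Scheme.ΓSpecIso_inv_naturality, Category.assoc]

theorem sharp_injective {X : Scheme.{u}} {B : Type u} [CommRing B]
    {φ ψ : X ⟶ Spec (CommRingCat.of B)} (h : sharp φ = sharp ψ) : φ = ψ :=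
  ext_to_Spec h


/-- Let R be an integral domain, p a prime and λ ∈ R a non-zero element with λ^p dividing (1 + λX)^p −
1, so that the congruence group scheme G_λ = Spec R[T]/(P_λ(T)) of level λ and its homomorphism θ_λ
: G_λ → μ_p, X ↦ 1 + λT, are defined. For every scheme G flat over Spec R, composition with θ_λ is
injective on R-morphisms G → G_λ; in particular θ_λ induces an injective map from the homomorphisms
G → G_λ of a flat R-group scheme G to its homomorphisms G → μ_p. (The published statement is over
the ring of integers of an algebraic closure of a complete discretely valued field of mixed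
characteristic, for finite flat commutative group schemes killed by p; the published argument, that
θ_λ is an isomorphism on the generic fibre and G is flat, gives the form stated here.) -/
theorem result (R : Type u) [CommRing R] [IsDomain R]
    (p : ℕ) [Fact p.Prime] (lam : R) (h : SekSuwa.DivCond lam p)
    (G : Over (Spec (CommRingCat.of R))) [Flat G.hom]
    (f g : G ⟶ SekSuwa.GK R lam p h)
    (hfg : f ≫ SekSuwa.alphaN R lam p h = g ≫ SekSuwa.alphaN R lam p h) : f = g := by
  apply Over.OverMorphism.ext
  let fl : G.left ⟶ Spec (CommRingCat.of (AK R lam p h)) := f.left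
  let gl : G.left ⟶ Spec (CommRingCat.of (AK R lam p h)) := g.left
  let α : MonoidAlgebra R (Multiplicative (ZMod p)) →+* AK R lam p h :=
    ((alphaNHom R lam p h : MonoidAlgebra R (Multiplicative (ZMod p)) →ₐc[R] AK R lam p h) :
        MonoidAlgebra R (Multiplicative (ZMod p)) →+* AK R lam p h)
  change fl = gl
  apply sharp_injective
  -- the two ring maps
  have hαf : sharp (fl ≫ Spec.map (CommRingCat.ofHom α)) = sharp (gl ≫ Spec.map (CommRingCat.ofHom α)) := by
    congr 1
    exact congrArg (fun t => t.left) hfg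
  rw [sharp_comp, sharp_comp] at hαf
  have hwf : fl ≫ Spec.map (CommRingCat.ofHom (algebraMap R (AK R lam p h))) = G.hom := by
    have := Over.w f
    rwa [show (GK R lam p h).hom = Spec.map (CommRingCat.ofHom (algebraMap R (AK R lam p h))) from
      specOverSpec_over ..] at this
  have hwg : gl ≫ Spec.map (CommRingCat.ofHom (algebraMap R (AK R lam p h))) = G.hom := by
    have := Over.w g
    rwa [show (GK R lam p h).hom = Spec.map (CommRingCat.ofHom (algebraMap R (AK R lam p h))) from
      specOverSpec_over ..] at this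
  have hRf : CommRingCat.ofHom (algebraMap R (AK R lam p h)) ≫ sharp fl = sharp G.hom := by
    rw [← sharp_comp, hwf]
  have hRg : CommRingCat.ofHom (algebraMap R (AK R lam p h)) ≫ sharp gl = sharp G.hom := by
    rw [← sharp_comp, hwg]
  -- algebra structure on global sections
  let _ : Algebra R Γ(G.left, ⊤) := (sharp G.hom).hom.toAlgebra
  let F : AK R lam p h →ₐ[R] Γ(G.left, ⊤) :=
    { (sharp fl).hom with
      commutes' := fun r => congrArg (fun t => t.hom r) hRf }
  let F' : AK R lam p h →ₐ[R] Γ(G.left, ⊤) :=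
    { (sharp gl).hom with
      commutes' := fun r => congrArg (fun t => t.hom r) hRg }
  suffices hFF : F = F' by
    ext x
    exact congrArg (fun t => t x) hFF
  -- values on u = 1 + lam • t
  have hu : F (1 + lam • AK.t) = F' (1 + lam • AK.t) := by
    have := congrArg (fun t => t.hom (MonoidAlgebra.single (Multiplicative.ofAdd (1 : ZMod p)) 1)) hαf
    simp only [CommRingCat.hom_comp, CommRingCat.hom_ofHom, RingHom.comp_apply] at this
    have hα1 : α (MonoidAlgebra.single (Multiplicative.ofAdd (1 : ZMod p)) 1) = 1 + lam • AK.t :=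
      alphaNHom_single_one R lam p h
    rw [hα1] at this
    exact this
  have ht : F AK.t = F' AK.t := by
    rw [map_add, map_add, map_one, map_one, map_smul, map_smul] at hu
    have h1 : lam • (F AK.t - F' AK.t) = 0 := by
      rw [smul_sub, sub_eq_zero]
      exact add_left_cancel hu
    have h2 : F AK.t - F' AK.t = 0 := by
      apply eq_zero_of_flat_of_mul_eq_zero G.hom lam (nonZeroDivisors.ne_zero h.nzd)
      rw [Algebra.smul_def] at h1
      exact h1
    exact sub_eq_zero.mp h2
  have e1 : (1 + lam • (AK.t : AK R lam p h)) * AK.inv = 1 := by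
    have := congrArg (AK.mkHom R lam p h) (A.u_mul_inv (R := R) (lam := lam))
    rw [map_mul, map_one, A.u, map_add, map_one, map_smul] at this
    exact this
  have hinv : F AK.inv = F' AK.inv := by
    have hF : F (1 + lam • AK.t) * F AK.inv = 1 := by rw [← map_mul, e1, map_one]
    have hF' : F' (1 + lam • AK.t) * F' AK.inv = 1 := by rw [← map_mul, e1, map_one]
    calc F AK.inv = F AK.inv * (F' (1 + lam • AK.t) * F' AK.inv) := by rw [hF', mul_one]
      _ = (F (1 + lam • AK.t) * F AK.inv) * F' AK.inv := by rw [← hu]; ring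
      _ = F' AK.inv := by rw [hF, one_mul]
  exact AK.algHom_ext ht hinv

end Groth.Agent.S15363
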