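import Groth.Statements.S15365
import Mathlib

set_option autoImplicit false
universe u
open scoped BigOperators
open CAlg

namespace Groth.Agent.S15365

open MvPolynomial in
theorem etale_of_isUnit_det (p : ℕ) [Fact p.Prime]
    (A : Type u) [CommRing A] [CharP A p] (n : ℕ) (h : Matrix (Fin n) (Fin n) A) (hdet : IsUnit h.det) :
    Algebra.Etale A (MvPolynomial (Fin n) A ⧸ Ideal.span (Set.range fun j : Fin n =>
        (MvPolynomial.X j : MvPolynomial (Fin n) A) ^ p -
          ∑ i : Fin n, MvPolynomial.C (h i j) * MvPolynomial.X i)) := by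
  classical
  let v : Fin n → MvPolynomial (Fin n) A := fun j =>
        (MvPolynomial.X j : MvPolynomial (Fin n) A) ^ p -
          ∑ i : Fin n, MvPolynomial.C (h i j) * MvPolynomial.X i
  let P := Algebra.PreSubmersivePresentation.naive (v := v) (a := id) Function.injective_id
  have hmat : P.jacobiMatrix = - h.map (C : A →+* MvPolynomial (Fin n) A) := by
    ext i j
    rw [Algebra.PreSubmersivePresentation.jacobiMatrix_naive]
    simp only [v, id_eq, map_sub, map_sum, Derivation.leibniz, pderiv_C, smul_zero, add_zero,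
      pderiv_X, Matrix.neg_apply, Matrix.map_apply]
    rw [Derivation.leibniz_pow, pderiv_X]
    simp [Pi.single_apply]
  have hjac : IsUnit P.jacobian := by
    have hdetC : (h.map (C : A →+* MvPolynomial (Fin n) A)).det = C h.det :=
      (RingHom.map_det (C : A →+* MvPolynomial (Fin n) A) h).symm
    rw [Algebra.PreSubmersivePresentation.jacobian_eq_jacobiMatrix_det, hmat, Matrix.det_neg,
      hdetC, map_mul, map_pow, map_neg, map_one]
    refine IsUnit.mul (IsUnit.pow _ ?_) ?_
    · exact ⟨-1, rfl⟩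
    · have : algebraMap P.Ring (MvPolynomial (Fin n) A ⧸ Ideal.span (Set.range v)) (C h.det) =
          algebraMap A _ h.det := by
        rw [← MvPolynomial.algebraMap_eq, ← IsScalarTower.algebraMap_apply]
      rw [this]
      exact hdet.map _
  let Q : Algebra.SubmersivePresentation A _ (Fin n) (Fin n) := ⟨P, hjac⟩
  have : Algebra.IsStandardSmoothOfRelativeDimension 0 A (MvPolynomial (Fin n) A ⧸ Ideal.span (Set.range v)) :=
    Q.isStandardSmoothOfRelativeDimension (by simp [Algebra.Presentation.dimension])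
  infer_instance

open MvPolynomial in
theorem isUnit_det_of_etale (p : ℕ) [Fact p.Prime]
    (A : Type u) [CommRing A] [CharP A p] (n : ℕ) (h : Matrix (Fin n) (Fin n) A)
    (hEt : Algebra.Etale A (MvPolynomial (Fin n) A ⧸ Ideal.span (Set.range fun j : Fin n =>
        (MvPolynomial.X j : MvPolynomial (Fin n) A) ^ p -
          ∑ i : Fin n, MvPolynomial.C (h i j) * MvPolynomial.X i))) : IsUnit h.det := by
  classical
  by_contra hdet
  obtain ⟨m, hm, hle⟩ := Ideal.exists_le_maximal (Ideal.span {h.det})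
    (by rwa [Ne, Ideal.span_singleton_eq_top])
  let K := A ⧸ m
  let _ : Field K := Ideal.Quotient.field m
  let hbar : Matrix (Fin n) (Fin n) K := h.map (Ideal.Quotient.mk m)
  have hdet0 : hbar.det = 0 := by
    have : hbar.det = Ideal.Quotient.mk m h.det := (RingHom.map_det (Ideal.Quotient.mk m) h).symm
    rw [this]
    exact Ideal.Quotient.eq_zero_iff_mem.mpr (hle (Ideal.subset_span rfl))
  obtain ⟨c, hc0, hc⟩ := Matrix.exists_vecMul_eq_zero_iff.mpr hdet0
  let v : Fin n → MvPolynomial (Fin n) A := fun j =>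
        (MvPolynomial.X j : MvPolynomial (Fin n) A) ^ p -
          ∑ i : Fin n, MvPolynomial.C (h i j) * MvPolynomial.X i
  let φ₁ : MvPolynomial (Fin n) A →ₐ[A] TrivSqZeroExt K K :=
    MvPolynomial.aeval (fun i => TrivSqZeroExt.inr (c i))
  let φ₂ : MvPolynomial (Fin n) A →ₐ[A] TrivSqZeroExt K K :=
    MvPolynomial.aeval (fun _ => 0)
  have hp2 : 2 ≤ p := (Fact.out : p.Prime).two_le
  have hpow : ∀ x : K, (TrivSqZeroExt.inr x : TrivSqZeroExt K K) ^ p = 0 := by
    intro x
    obtain ⟨q, rfl⟩ := Nat.exists_eq_add_of_le hp2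
    rw [pow_add, pow_two, TrivSqZeroExt.inr_mul_inr, zero_mul]
  have h₁ : ∀ a ∈ Ideal.span (Set.range v), φ₁ a = 0 := by
    intro a ha
    have hle : Ideal.span (Set.range v) ≤ RingHom.ker φ₁.toRingHom := by
      rw [Ideal.span_le]
      rintro _ ⟨j, rfl⟩
      simp only [SetLike.mem_coe, RingHom.mem_ker, v, φ₁, AlgHom.toRingHom_eq_coe, RingHom.coe_coe,
        map_sub, map_pow, aeval_X, map_sum, map_mul, aeval_C, hpow, zero_sub, neg_eq_zero]
      have hj := congrFun hc j
      simp only [Matrix.vecMul, dotProduct, Pi.zero_apply, hbar, Matrix.map_apply] at hj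
      have hterm : ∀ x, algebraMap A (TrivSqZeroExt K K) (h x j) * TrivSqZeroExt.inr (c x) =
          TrivSqZeroExt.inr (c x * Ideal.Quotient.mk m (h x j)) := by
        intro x
        rw [TrivSqZeroExt.algebraMap_eq_inl', TrivSqZeroExt.inl_mul_inr, smul_eq_mul, mul_comm]
        rfl
      simp_rw [hterm]
      rw [← TrivSqZeroExt.inr_sum, hj, TrivSqZeroExt.inr_zero]
    exact hle ha
  have h₂ : ∀ a ∈ Ideal.span (Set.range v), φ₂ a = 0 := by
    intro a ha
    have hle : Ideal.span (Set.range v) ≤ RingHom.ker φ₂.toRingHom := by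
      rw [Ideal.span_le]
      rintro _ ⟨j, rfl⟩
      have hp0 : p ≠ 0 := by omega
      simp [v, φ₂, hp0]
    exact hle ha
  let g₁ := Ideal.Quotient.liftₐ (Ideal.span (Set.range v)) φ₁ h₁
  let g₂ := Ideal.Quotient.liftₐ (Ideal.span (Set.range v)) φ₂ h₂
  have hfu : Algebra.FormallyUnramified A (MvPolynomial (Fin n) A ⧸ Ideal.span (Set.range v)) :=
    inferInstance
  have hnil : IsNilpotent (RingHom.ker (TrivSqZeroExt.fstHom K K K).toRingHom) :=
    ⟨2, TrivSqZeroExt.kerIdeal_sq K K⟩
  have heq : g₁ = g₂ := by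
    refine Algebra.FormallyUnramified.ext' (TrivSqZeroExt.fstHom K K K).toRingHom hnil g₁ g₂ ?_
    intro x
    obtain ⟨y, rfl⟩ := Ideal.Quotient.mk_surjective x
    change (TrivSqZeroExt.fstHom K K K) (φ₁ y) = (TrivSqZeroExt.fstHom K K K) (φ₂ y)
    induction y using MvPolynomial.induction_on with
    | C a => simp [φ₁, φ₂]
    | add p q hp hq => rw [map_add, map_add, hp, hq, map_add, map_add]
    | mul_X p i hp => rw [map_mul, map_mul, hp, map_mul, map_mul]; simp [φ₁, φ₂]
  apply hc0
  funext i
  have h3 : g₁ (Ideal.Quotient.mk _ (X i)) = g₂ (Ideal.Quotient.mk _ (X i)) := by rw [heq]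
  have e1 : g₁ (Ideal.Quotient.mk _ (X i)) = TrivSqZeroExt.inr (c i) := by
    change φ₁ (X i) = _
    simp [φ₁]
  have e2 : g₂ (Ideal.Quotient.mk _ (X i)) = 0 := by
    change φ₂ (X i) = _
    simp [φ₂]
  rw [e1, e2] at h3
  exact TrivSqZeroExt.inr_injective (h3.trans (TrivSqZeroExt.inr_zero K).symm)


/-- Let A be a commutative ring of characteristic p > 0 and (h_{ij})_{1 ≤ i,j ≤ n} a square matrix over
A, the matrix of a commutative p-Lie algebra (L, φ) with L free with basis e_1, …, e_n and φ(e_j) =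
Σ_i h_{ij} e_i. The associated finite group scheme Spec A[X_1, …, X_n]/(X_j^p − Σ_i h_{ij} X_i)_{1 ≤
j ≤ n} is étale over A if and only if the matrix (h_{ij}) is invertible, i.e. its determinant is a
unit of A. Only the algebra structure enters this assertion. -/
theorem result (p : ℕ) [Fact p.Prime]
    (A : Type u) [CommRing A] [CharP A p] (n : ℕ) (h : Matrix (Fin n) (Fin n) A) :
    Algebra.Etale A (MvPolynomial (Fin n) A ⧸ Ideal.span (Set.range fun j : Fin n =>
        (MvPolynomial.X j : MvPolynomial (Fin n) A) ^ p -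
          ∑ i : Fin n, MvPolynomial.C (h i j) * MvPolynomial.X i)) ↔
      IsUnit h.det := by
  exact ⟨isUnit_det_of_etale p A n h, etale_of_isUnit_det p A n h⟩

end Groth.Agent.S15365
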