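import Groth.Statements.S15366
import Mathlib

set_option autoImplicit false
universe u
open CAlg

namespace Groth.Agent.S15366

open PowerSeries in
theorem s15366_aux
    (k : Type u) [Field k]
    (P : Ideal (MvPowerSeries (Fin 2) k))
    (hP : P = Ideal.span {(MvPowerSeries.X 0 : MvPowerSeries (Fin 2) k)}) [P.IsPrime] :
    ∃ (A : Type u) (_ : CommRing A) (_ : IsDomain A) (_ : IsDiscreteValuationRing A) (_ : Algebra k A)
      (φ : Localization.AtPrime P →ₐ[k] A),
      IsAdicComplete (IsLocalRing.maximalIdeal A) A ∧ IsAlgClosed (IsLocalRing.ResidueField A) ∧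
        Function.Injective φ ∧ IsLocalHom φ.toRingHom ∧
          Irreducible (φ (algebraMap (MvPowerSeries (Fin 2) k) (Localization.AtPrime P)
            (MvPowerSeries.X 0))) := by
  classical
  let B := MvPowerSeries (Fin 1) k
  let L := AlgebraicClosure (FractionRing B)
  let ι : B →ₐ[k] L := IsScalarTower.toAlgHom k B L
  have hι : Function.Injective ι := by
    have h1 : Function.Injective (algebraMap B (FractionRing B)) := IsFractionRing.injective B _
    have h2 : Function.Injective (algebraMap (FractionRing B) L) := (algebraMap (FractionRing B) L).injective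
    have : (ι : B → L) = (algebraMap (FractionRing B) L) ∘ (algebraMap B (FractionRing B)) := by
      funext x
      exact IsScalarTower.algebraMap_apply B (FractionRing B) L x
    rw [this]
    exact h2.comp h1
  let ψ : MvPowerSeries (Fin 2) k →ₐ[k] PowerSeries L :=
    (PowerSeries.mapAlgHom ι).comp (MvPowerSeries.finSuccEquiv k 1).toAlgHom
  let e := MvPowerSeries.finSuccEquiv k 1
  have hψX : ψ (MvPowerSeries.X 0) = PowerSeries.X := by
    change PowerSeries.map (ι : B →+* L) (e (MvPowerSeries.X 0)) = _
    rw [MvPowerSeries.finSuccEquiv_X_zero, PowerSeries.map_X]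
  have hmapinj : Function.Injective (PowerSeries.map (ι : B →+* L)) := by
    intro f g hfg
    refine PowerSeries.ext fun n => ?_
    apply hι
    have := congrArg (PowerSeries.coeff n) hfg
    simpa [PowerSeries.coeff_map] using this
  have hψinj : Function.Injective ψ := hmapinj.comp e.injective
  -- membership in P
  have hmemP : ∀ s : MvPowerSeries (Fin 2) k, s ∈ P ↔ PowerSeries.constantCoeff (ψ s) = 0 := by
    intro s
    have hcc : PowerSeries.constantCoeff (ψ s) = ι (PowerSeries.constantCoeff (e s)) := by
      change PowerSeries.constantCoeff (PowerSeries.map (ι : B →+* L) (e s)) = _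
      rw [← PowerSeries.coeff_zero_eq_constantCoeff_apply, PowerSeries.coeff_map,
        PowerSeries.coeff_zero_eq_constantCoeff_apply]
      rfl
    rw [hcc, map_eq_zero_iff ι hι, ← PowerSeries.X_dvd_iff, hP, Ideal.mem_span_singleton]
    constructor
    · rintro ⟨q, rfl⟩
      exact ⟨e q, by rw [map_mul, MvPowerSeries.finSuccEquiv_X_zero]⟩
    · rintro ⟨q, hq⟩
      refine ⟨e.symm q, ?_⟩
      apply e.injective
      rw [map_mul, MvPowerSeries.finSuccEquiv_X_zero, hq, AlgEquiv.apply_symm_apply]
  have hunit : ∀ s : P.primeCompl, IsUnit (ψ s) := by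
    rintro ⟨s, hs⟩
    rw [PowerSeries.isUnit_iff_constantCoeff, isUnit_iff_ne_zero]
    exact fun h0 => hs ((hmemP s).mpr h0)
  let φ : Localization.AtPrime P →ₐ[k] PowerSeries L :=
    IsLocalization.liftAlgHom (M := P.primeCompl) (f := ψ) hunit
  have hφalg : ∀ x, φ (algebraMap _ _ x) = ψ x := fun x => IsLocalization.lift_eq _ x
  refine ⟨PowerSeries L, inferInstance, inferInstance, inferInstance, inferInstance, φ, ?_, ?_, ?_, ?_, ?_⟩
  · rw [PowerSeries.maximalIdeal_eq_span_X]
    infer_instance
  · exact IsAlgClosed.of_ringEquiv L _ (PowerSeries.residueFieldOfPowerSeries (k := L)).symm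
  · rw [injective_iff_map_eq_zero]
    intro x hx
    obtain ⟨a, s, rfl⟩ := IsLocalization.exists_mk'_eq P.primeCompl x
    have h1 : φ (IsLocalization.mk' _ a s) * ψ s = ψ a := by
      rw [← hφalg s, ← map_mul, IsLocalization.mk'_spec, hφalg]
    rw [hx, zero_mul] at h1
    have ha : a = 0 := hψinj (h1.symm.trans (map_zero ψ).symm)
    rw [ha, IsLocalization.mk'_zero]
  · constructor
    intro x hx
    obtain ⟨a, s, rfl⟩ := IsLocalization.exists_mk'_eq P.primeCompl x
    have h1 : φ (IsLocalization.mk' _ a s) * ψ s = ψ a := by
      rw [← hφalg s, ← map_mul, IsLocalization.mk'_spec, hφalg]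
    have h2 : IsUnit (ψ a) := h1 ▸ (IsUnit.mul hx (hunit s))
    have h3 : a ∉ P := fun ha => by
      rw [PowerSeries.isUnit_iff_constantCoeff, isUnit_iff_ne_zero] at h2
      exact h2 ((hmemP a).mp ha)
    exact (IsLocalization.AtPrime.isUnit_mk'_iff _ P a s).mpr h3
  · rw [hφalg, hψX]
    exact PowerSeries.X_prime.irreducible


/-- Let k be an algebraically closed field of characteristic p > 0, R = k[[t₁, t₂]], and O = R_{(t₁)}
the local ring of Spec R at the generic point x of the divisor t₁ = 0 (a discrete valuation ring,
with uniformizer t₁ and residue field k((t₂))). Then O embeds, by an injective local k-algebra map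
φ, into some complete discrete valuation ring A containing k whose residue field is algebraically
closed and in which φ(t₁) is still a uniformizer. The prime ideal (t₁) is passed as an ideal P equal
to it together with its primality. -/
theorem result
    (p : ℕ) [Fact p.Prime] (k : Type u) [Field k] [IsAlgClosed k] [CharP k p]
    (P : Ideal (MvPowerSeries (Fin 2) k))
    (hP : P = Ideal.span {(MvPowerSeries.X 0 : MvPowerSeries (Fin 2) k)}) [P.IsPrime] :
    ∃ (A : Type u) (_ : CommRing A) (_ : IsDomain A) (_ : IsDiscreteValuationRing A) (_ : Algebra k A)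
      (φ : Localization.AtPrime P →ₐ[k] A),
      IsAdicComplete (IsLocalRing.maximalIdeal A) A ∧ IsAlgClosed (IsLocalRing.ResidueField A) ∧
        Function.Injective φ ∧ IsLocalHom φ.toRingHom ∧
          Irreducible (φ (algebraMap (MvPowerSeries (Fin 2) k) (Localization.AtPrime P)
            (MvPowerSeries.X 0))) := by
  exact s15366_aux k P hP

end Groth.Agent.S15366
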