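import Groth.Statements.S15367
import Groth.Agent.Lib.Helper77.DVRGen

set_option autoImplicit false
universe u v
open TensorProduct
open CAlg

namespace Groth.Agent.S15367

/-- Let R be a discrete valuation ring with uniformizer π and residue field k, n ≥ 0, and M₀ a finitely
generated module over R/πⁿR, viewed as an R-module killed by πⁿ; put M₀* = Hom_R(M₀, R/πⁿR). Then
dim_k(M₀*/πM₀*) = dim_k(M₀/πM₀). The published lemma is stated for a finitely presented module over
the quotient of the ring of integers of an algebraic closure of K by the elements of valuation ≥ t,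
with its dual into that quotient ring, and the published proof reduces it by descent to exactly this
statement over the valuation ring of a finite extension of K; the row states that step. -/
theorem result
    (R : Type u) [CommRing R] [IsDomain R] [IsDiscreteValuationRing R] (ϖ : R) (hϖ : Irreducible ϖ) (n : ℕ)
    (M : Type v) [AddCommGroup M] [Module R M] [Module.Finite R M] (hM : ∀ m : M, ϖ ^ n • m = 0) :
    Module.finrank (IsLocalRing.ResidueField R)
        (IsLocalRing.ResidueField R ⊗[R] (M →ₗ[R] (R ⧸ Ideal.span {ϖ ^ n}))) =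
      Module.finrank (IsLocalRing.ResidueField R) (IsLocalRing.ResidueField R ⊗[R] M) := by
  open Groth.Agent.Lib.Helper77 in
  have hg : Function.Surjective (Submodule.mkQ (Ideal.span {ϖ ^ n})) := Submodule.mkQ_surjective _
  have hS : Module.Finite R (R ⧸ Ideal.span {ϖ ^ n}) := Module.Finite.of_surjective _ hg
  have h1 : muGen R (M →ₗ[R] (R ⧸ Ideal.span {ϖ ^ n})) ≤ muGen R M :=
    muGen_dual_le (R ⧸ Ideal.span {ϖ ^ n}) _ hg M
  have hfin1 : Module.Finite R (M →ₗ[R] (R ⧸ Ideal.span {ϖ ^ n})) := finite_dual _ M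
  have h2 : muGen R ((M →ₗ[R] (R ⧸ Ideal.span {ϖ ^ n})) →ₗ[R] (R ⧸ Ideal.span {ϖ ^ n})) ≤
      muGen R (M →ₗ[R] (R ⧸ Ideal.span {ϖ ^ n})) :=
    muGen_dual_le (R ⧸ Ideal.span {ϖ ^ n}) _ hg _
  have hfin2 : Module.Finite R ((M →ₗ[R] (R ⧸ Ideal.span {ϖ ^ n})) →ₗ[R] (R ⧸ Ideal.span {ϖ ^ n})) :=
    finite_dual _ _
  have hev : Function.Injective
      (LinearMap.applyₗ : M →ₗ[R] ((M →ₗ[R] (R ⧸ Ideal.span {ϖ ^ n})) →ₗ[R] (R ⧸ Ideal.span {ϖ ^ n}))) := by
    rw [injective_iff_map_eq_zero]
    intro m hm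
    by_contra hne
    obtain ⟨l, hl⟩ := exists_dual_apply_ne_zero hϖ n M hM m hne
    exact hl (congrArg (fun t => t l) hm)
  have h3 : muGen R M ≤
      muGen R ((M →ₗ[R] (R ⧸ Ideal.span {ϖ ^ n})) →ₗ[R] (R ⧸ Ideal.span {ϖ ^ n})) :=
    muGen_le_of_injective _ hev
  exact le_antisymm h1 (h3.trans h2)

end Groth.Agent.S15367
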