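import Groth.Statements.S1537
import Groth.Agent.Lib.Helper21.PrimaryGeom
import Groth.Agent.Lib.Helper21.ResMap
import Groth.Agent.S2502

set_option autoImplicit false
universe u
open CategoryTheory CategoryTheory.Limits AlgebraicGeometry
open Variety

namespace Groth.Agent.S1537

/-- A connected k-scheme is geometrically connected as soon as it has a point whose residue field
contains no element integral over k other than the elements of k. -/
theorem result (k : Type u) [Field k] (X : Scheme.{u}) [X.Over (Spec (CommRingCat.of k))] [ConnectedSpace X]
    (x : X) (hx : ∀ a : X.residueField x, (Curv2.resMap k X x).IsIntegralElem a → a ∈ (Curv2.resMap k X x).range) :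
    GeometricallyConnected (X ↘ (Spec (CommRingCat.of k))) := by
  let _ := (Curv2.resMap k X x).toAlgebra
  have hP : separableClosure k (X.residueField x) = ⊥ := by
    rw [eq_bot_iff]
    intro a ha
    have hsep : IsSeparable k a := ha
    have hint : IsIntegral k a := hsep.isIntegral
    obtain ⟨y, hy⟩ := hx a hint
    exact IntermediateField.mem_bot.2 ⟨y, hy⟩
  have hgc : GeometricallyConnected (Spec.map (CommRingCat.ofHom (algebraMap k (X.residueField x)))) :=
    Groth.Agent.Lib.Helper21.geometricallyConnected_SpecMap_of_separableClosure_eq_bot k _ hP
  have hgc' : GeometricallyConnected (X.fromSpecResidueField x ≫ (X ↘ (Spec (CommRingCat.of k)))) := by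
    rw [← Groth.Agent.Lib.Helper21.SpecMap_resMap]
    exact hgc
  have hne : Nonempty ↥(Spec (X.residueField x)) := by
    change Nonempty (PrimeSpectrum (X.residueField x))
    infer_instance
  exact Groth.Agent.S2502.result (X.fromSpecResidueField x) (X ↘ (Spec (CommRingCat.of k)))

end Groth.Agent.S1537
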