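import Groth.Statements.S15391
import Mathlib.RingTheory.Ideal.MinimalPrime.Localization
import Mathlib.RingTheory.Ideal.MinimalPrime.Noetherian
import Mathlib.RingTheory.LocalProperties.Reduced
import Mathlib.RingTheory.Localization.BaseChange
import Mathlib.RingTheory.Ideal.Operations

set_option autoImplicit false
universe u
open TensorProduct
open TorFree

namespace Groth.Agent.S15391

/-- Let R be a reduced Noetherian commutative ring, M a finitely generated torsion-free R-module (no
non-zero element of M is annihilated by a non-zero-divisor of R), and t an element of M whose image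
1 ⊗ t in the fibre κ(p) ⊗_R M vanishes for every prime ideal p of R, κ(p) being the residue field at
p. Then t = 0. This is the affine form of the claim that a global section of a coherent torsion-free
module on a reduced Noetherian scheme which vanishes in every fibre is zero. -/
theorem result (R : Type u) [CommRing R] [IsReduced R] [IsNoetherianRing R]
    (M : Type u) [AddCommGroup M] [Module R M] [Module.Finite R M] [Module.IsTorsionFree R M]
    (t : M) (ht : ∀ p : PrimeSpectrum R, (1 : p.asIdeal.ResidueField) ⊗ₜ[R] t = (0 : p.asIdeal.ResidueField ⊗[R] M)) :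
    t = 0 := by
  classical
  -- Step 1: for each minimal prime, some element outside it kills `t`
  have step1 : ∀ p ∈ minimalPrimes R, ∃ s : R, s ∉ p ∧ s • t = 0 := by
    intro p hp
    have : p.IsPrime := hp.1.1
    have hmax : IsLocalRing.maximalIdeal (Localization.AtPrime p) = ⊥ := by
      have h := IsLocalization.AtPrime.radical_map_of_mem_minimalPrimes (Localization.AtPrime p) p ⊥ hp
      rw [Ideal.map_bot, IsLocalization.AtPrime.map_eq_maximalIdeal] at h
      rw [← h]
      exact nilradical_eq_zero (Localization.AtPrime p)
    -- the residue map is an `R`-linear bijection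
    let φ : Localization.AtPrime p →ₗ[R] p.ResidueField :=
      (IsScalarTower.toAlgHom R (Localization.AtPrime p) p.ResidueField).toLinearMap
    have hφ1 : φ 1 = 1 := map_one (IsScalarTower.toAlgHom R (Localization.AtPrime p) p.ResidueField)
    have hφinj : Function.Injective φ := by
      rw [← LinearMap.ker_eq_bot, LinearMap.ker_eq_bot']
      intro x hx
      have hx' : IsLocalRing.residue (Localization.AtPrime p) x = 0 := hx
      rw [IsLocalRing.residue_eq_zero_iff, hmax] at hx'
      exact hx'
    have hφsurj : Function.Surjective φ := IsLocalRing.residue_surjective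
    let e : Localization.AtPrime p ≃ₗ[R] p.ResidueField := LinearEquiv.ofBijective φ ⟨hφinj, hφsurj⟩
    have h1 : (1 : Localization.AtPrime p) ⊗ₜ[R] t = (0 : Localization.AtPrime p ⊗[R] M) := by
      apply (TensorProduct.congr e (LinearEquiv.refl R M)).injective
      rw [map_zero, TensorProduct.congr_tmul]
      have : e 1 = 1 := hφ1
      rw [this]
      exact ht ⟨p, inferInstance⟩
    have : IsLocalizedModule p.primeCompl (TensorProduct.mk R (Localization.AtPrime p) M 1) :=
      (isLocalizedModule_iff_isBaseChange p.primeCompl (Localization.AtPrime p) _).2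
        (TensorProduct.isBaseChange R M _)
    obtain ⟨s, hs⟩ := (IsLocalizedModule.eq_zero_iff p.primeCompl
      (TensorProduct.mk R (Localization.AtPrime p) M 1)).1 h1
    exact ⟨s.1, s.2, hs⟩
  -- Step 2: prime avoidance
  have hfin : (minimalPrimes R).Finite := minimalPrimes.finite_of_isNoetherianRing R
  have hnot : ¬ ((Ideal.torsionOf R M t : Set R) ⊆
      ⋃ p ∈ (↑hfin.toFinset : Set (Ideal R)), (p : Set R)) := by
    intro hsub
    rw [Ideal.subset_union_prime (R := R) (s := hfin.toFinset) (f := fun p => p) ⊥ ⊥
      (fun p hp _ _ => (hfin.mem_toFinset.1 hp).1.1)] at hsub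
    obtain ⟨p, hp, hle⟩ := hsub
    obtain ⟨s, hs, hst⟩ := step1 p (hfin.mem_toFinset.1 hp)
    exact hs (hle ((Ideal.mem_torsionOf_iff _ _).2 hst))
  obtain ⟨s, hs, hsn⟩ := Set.not_subset.1 hnot
  have hst : s • t = 0 := (Ideal.mem_torsionOf_iff _ _).1 hs
  -- Step 3: `s` is a non-zero-divisor
  have hreg : IsRegular s := by
    rw [isRegular_iff_mem_nonZeroDivisors]
    rw [mem_nonZeroDivisors_iff_right]
    intro y hy
    by_contra hy0
    apply hsn
    have hmem : s ∈ ⋃ p ∈ (⊥ : Ideal R).minimalPrimes, (p : Set R) := by
      rw [Ideal.iUnion_minimalPrimes]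
      refine ⟨y, ?_, ?_⟩
      · rw [show (⊥ : Ideal R).radical = ⊥ from nilradical_eq_zero R]
        exact hy0
      · rw [mul_comm, hy]; exact Ideal.zero_mem _
    simp only [Set.mem_iUnion, exists_prop, Finset.mem_coe] at hmem ⊢
    obtain ⟨p, hp, hsp⟩ := hmem
    exact ⟨p, hfin.mem_toFinset.2 hp, hsp⟩
  exact (Module.IsTorsionFree.isSMulRegular hreg) (show s • t = s • 0 by rw [hst, smul_zero])

end Groth.Agent.S15391
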