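import Groth.Statements.S15411
import Mathlib

set_option autoImplicit false
universe u
open scoped TensorProduct
open Hopf

namespace Groth.Agent.S15411

section aux

open TensorProduct

variable {K : Type u} [Field K] {ιv ιe : Type u} [Finite ιv]
  {Kv : ιv → Type u} [∀ i, CommRing (Kv i)] [∀ i, Algebra K (Kv i)]
  {Ke : ιe → Type u} [∀ k, CommRing (Ke k)] [∀ k, Algebra K (Ke k)]
  {l r : ιe → ιv} {ρl : ∀ k, Kv (l k) →ₐ[K] Ke k} {ρr : ∀ k, Kv (r k) →ₐ[K] Ke k}

theorem coord {R S : Type u} [CommRing R] [CommRing S] [Algebra K R] [Algebra K S]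
    (ρ : R →ₐ[K] S) {N : Type u} [AddCommGroup N] [Module K N] {ι : Type*}
    (e : Module.Basis ι K N) (y : R ⊗[K] N) (a : ι) :
    (Algebra.TensorProduct.basis S e).repr (TensorProduct.map ρ.toLinearMap LinearMap.id y) a =
      ρ ((Algebra.TensorProduct.basis R e).repr y a) := by
  induction y using TensorProduct.induction_on with
  | zero => simp
  | tmul c n =>
    rw [TensorProduct.map_tmul, Algebra.TensorProduct.basis_repr_tmul,
      Algebra.TensorProduct.basis_repr_tmul]
    simp [Finsupp.smul_apply, Finsupp.mapRange_apply]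
  | add x y hx hy => simp only [map_add, Finsupp.add_apply, hx, hy]

omit [Finite ιv] in
theorem inj
    (hlim : ∀ x : (∀ i, Kv i), (∀ k, ρl k (x (l k)) = ρr k (x (r k))) →
      ∃! a : K, ∀ i, algebraMap K (Kv i) a = x i)
    {N : Type u} [AddCommGroup N] [Module K N] (n n' : N)
    (h : ∀ i, (1 : Kv i) ⊗ₜ[K] n = (1 : Kv i) ⊗ₜ[K] n') : n = n' := by
  let e := Module.Basis.ofVectorSpace K N
  apply e.repr.injective
  ext a
  have hx := hlim (fun i => algebraMap K (Kv i) (e.repr n a)) (by intro k; simp)
  apply hx.unique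
  · intro i
    rfl
  · intro i
    have h1 := congrArg (fun z => (Algebra.TensorProduct.basis (Kv i) e).repr z a) (h i)
    simp only [Algebra.TensorProduct.basis_repr_tmul, one_smul, Finsupp.mapRange_apply] at h1
    exact h1.symm

theorem desc
    (hlim : ∀ x : (∀ i, Kv i), (∀ k, ρl k (x (l k)) = ρr k (x (r k))) →
      ∃! a : K, ∀ i, algebraMap K (Kv i) a = x i)
    {N : Type u} [AddCommGroup N] [Module K N] (y : ∀ i, Kv i ⊗[K] N)
    (hy : ∀ k, TensorProduct.map (ρl k).toLinearMap LinearMap.id (y (l k)) =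
      TensorProduct.map (ρr k).toLinearMap LinearMap.id (y (r k))) :
    ∃ n : N, ∀ i, y i = 1 ⊗ₜ[K] n := by
  classical
  haveI : Fintype ιv := Fintype.ofFinite ιv
  let e := Module.Basis.ofVectorSpace K N
  have hx : ∀ a, ∃! t : K, ∀ i, algebraMap K (Kv i) t =
      (Algebra.TensorProduct.basis (Kv i) e).repr (y i) a := by
    intro a
    apply hlim (fun i => (Algebra.TensorProduct.basis (Kv i) e).repr (y i) a)
    intro k
    have := congrArg (fun z => (Algebra.TensorProduct.basis (Ke k) e).repr z a) (hy k)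
    simp only [coord] at this
    exact this
  let t := fun a => (hx a).choose
  have ht : ∀ a i, algebraMap K (Kv i) (t a) =
      (Algebra.TensorProduct.basis (Kv i) e).repr (y i) a := fun a => (hx a).choose_spec.1
  have htu : ∀ a (s : K), (∀ i, algebraMap K (Kv i) s =
      (Algebra.TensorProduct.basis (Kv i) e).repr (y i) a) → s = t a :=
    fun a => (hx a).choose_spec.2
  let S : Finset (Module.Basis.ofVectorSpaceIndex K N) :=
    Finset.univ.biUnion (fun i => ((Algebra.TensorProduct.basis (Kv i) e).repr (y i)).support)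
  have hS : ∀ a, t a ≠ 0 → a ∈ S := by
    intro a ha
    by_contra hnot
    apply ha
    symm
    apply htu a 0
    intro i
    rw [map_zero]
    symm
    by_contra h0
    apply hnot
    exact Finset.mem_biUnion.2 ⟨i, Finset.mem_univ _, Finsupp.mem_support_iff.2 h0⟩
  let tF : Module.Basis.ofVectorSpaceIndex K N →₀ K := Finsupp.onFinset S t hS
  refine ⟨e.repr.symm tF, fun i => ?_⟩
  apply (Algebra.TensorProduct.basis (Kv i) e).repr.injective
  ext a
  rw [Algebra.TensorProduct.basis_repr_tmul, one_smul, Finsupp.mapRange_apply,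
    LinearEquiv.apply_symm_apply]
  exact (ht a i).symm

theorem semi {R S : Type u} [CommRing R] [CommRing S] [Algebra K R] [Algebra K S]
    (ρ : R →ₐ[K] S) {M N : Type u} [AddCommGroup M] [Module K M] [AddCommGroup N] [Module K N]
    (φ : R ⊗[K] M →ₗ[R] R ⊗[K] N) (U : S ⊗[K] M →ₗ[S] S ⊗[K] N)
    (hU : ∀ m, U (1 ⊗ₜ m) = TensorProduct.map ρ.toLinearMap LinearMap.id (φ (1 ⊗ₜ m)))
    (x : R ⊗[K] M) :
    U (TensorProduct.map ρ.toLinearMap LinearMap.id x) =
      TensorProduct.map ρ.toLinearMap LinearMap.id (φ x) := by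
  have hsemi : ∀ (c : R) (z : R ⊗[K] N),
      TensorProduct.map ρ.toLinearMap (LinearMap.id : N →ₗ[K] N) (c • z) =
        ρ c • TensorProduct.map ρ.toLinearMap (LinearMap.id : N →ₗ[K] N) z := by
    intro c z
    induction z using TensorProduct.induction_on with
    | zero => simp
    | tmul d n => simp [TensorProduct.smul_tmul', smul_eq_mul]
    | add z w hz hw => simp only [smul_add, map_add, hz, hw]
  induction x using TensorProduct.induction_on with
  | zero => simp
  | tmul c m =>
    have h1 : c ⊗ₜ[K] m = c • ((1 : R) ⊗ₜ[K] m) := by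
      rw [TensorProduct.smul_tmul', smul_eq_mul, mul_one]
    have h2 : (ρ c) ⊗ₜ[K] m = ρ c • ((1 : S) ⊗ₜ[K] m) := by
      rw [TensorProduct.smul_tmul', smul_eq_mul, mul_one]
    rw [TensorProduct.map_tmul, LinearMap.id_apply]
    change U ((ρ c) ⊗ₜ[K] m) = _
    rw [h2, map_smul, hU, h1, map_smul, hsemi]
  | add x y hx hy => simp only [map_add, hx, hy]

end aux

/-- Let K be a field and let finitely many commutative K-algebras be given in two layers, K_i for each
vertex i and K_k for each edge k, with K-algebra maps from K_{l k} and from K_{r k} into K_k for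
every edge k, such that K is the equalizer of the system: every family (x_i) whose two images in K_k
agree for every k comes from exactly one element of K. Let A and B be commutative K-bialgebras
(coordinate rings of affine group or monoid schemes over K) and let u_i : K_i ⊗ B ≅ K_i ⊗ A be
isomorphisms of K_i-bialgebras such that, for every edge k, the base changes of u_{l k} and u_{r k}
to K_k agree. Then there is exactly one isomorphism of K-bialgebras v : B ≅ A inducing every u_i,
that is with u_i (1 ⊗ b) = 1 ⊗ v b. (The published statement is for the system obtained from a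
finite inverse factorization system of fields by base change to a finite separable extension K, and
for linear algebraic groups; this row keeps from that setting only what the argument uses: K is a
field and is the equalizer of the finite system, and the group schemes are affine.) -/
theorem result
    (K : Type u) [Field K] (ιv ιe : Type u) [Finite ιv] [Finite ιe]
    (Kv : ιv → Type u) [∀ i, CommRing (Kv i)] [∀ i, Algebra K (Kv i)]
    (Ke : ιe → Type u) [∀ k, CommRing (Ke k)] [∀ k, Algebra K (Ke k)]
    (l r : ιe → ιv) (ρl : ∀ k, Kv (l k) →ₐ[K] Ke k) (ρr : ∀ k, Kv (r k) →ₐ[K] Ke k)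
    (hlim : ∀ x : (∀ i, Kv i), (∀ k, ρl k (x (l k)) = ρr k (x (r k))) →
      ∃! a : K, ∀ i, algebraMap K (Kv i) a = x i)
    (A B : Type u) [CommRing A] [CommRing B] [Bialgebra K A] [Bialgebra K B]
    (u : ∀ i, (Kv i ⊗[K] B) ≃ₐc[Kv i] (Kv i ⊗[K] A))
    (hu : ∀ (k : ιe) (b : B),
      Algebra.TensorProduct.map (ρl k) (AlgHom.id K A) (u (l k) (1 ⊗ₜ[K] b)) =
        Algebra.TensorProduct.map (ρr k) (AlgHom.id K A) (u (r k) (1 ⊗ₜ[K] b))) :
    ∃! v : B ≃ₐc[K] A, ∀ (i : ιv) (b : B), u i (1 ⊗ₜ[K] b) = 1 ⊗ₜ[K] v b := by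
  classical
  open TensorProduct in
  have hex : ∀ b : B, ∃ a : A, ∀ i, u i (1 ⊗ₜ[K] b) = 1 ⊗ₜ[K] a := by
    intro b
    exact desc hlim (fun i => u i (1 ⊗ₜ[K] b)) (fun k => hu k b)
  choose v₀ hv₀ using hex
  have hv_add : ∀ b b', v₀ (b + b') = v₀ b + v₀ b' := by
    intro b b'
    apply inj hlim
    intro i
    rw [← hv₀, TensorProduct.tmul_add, map_add, hv₀, hv₀, TensorProduct.tmul_add]
  have hv_mul : ∀ b b', v₀ (b * b') = v₀ b * v₀ b' := by
    intro b b'
    apply inj hlim
    intro i
    have h1 : (1 : Kv i) ⊗ₜ[K] (b * b') = ((1 : Kv i) ⊗ₜ[K] b) * ((1 : Kv i) ⊗ₜ[K] b') := by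
      rw [Algebra.TensorProduct.tmul_mul_tmul, one_mul]
    rw [← hv₀, h1, map_mul, hv₀, hv₀, Algebra.TensorProduct.tmul_mul_tmul, one_mul]
  have hv_smul : ∀ (c : K) b, v₀ (c • b) = c • v₀ b := by
    intro c b
    apply inj hlim
    intro i
    rw [← hv₀, TensorProduct.tmul_smul, ← algebraMap_smul (Kv i) c ((1 : Kv i) ⊗ₜ[K] b),
      map_smul, hv₀, algebraMap_smul, TensorProduct.tmul_smul]
  have hv_one : v₀ 1 = 1 := by
    apply inj hlim
    intro i
    rw [← hv₀]
    exact map_one (u i)
  let vlin : B →ₗ[K] A :=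
    { toFun := v₀
      map_add' := hv_add
      map_smul' := hv_smul }
  let valg : B →ₐ[K] A := AlgHom.ofLinearMap vlin hv_one hv_mul
  have hv_inj : Function.Injective v₀ := by
    intro b b' hbb
    apply inj hlim
    intro i
    have h1 : u i (1 ⊗ₜ[K] b) = u i (1 ⊗ₜ[K] b') := by rw [hv₀, hv₀, hbb]
    exact EquivLike.injective (u i) h1
  have hcompat : ∀ (k : ιe) (a : A),
      TensorProduct.map (ρl k).toLinearMap LinearMap.id ((u (l k)).symm (1 ⊗ₜ[K] a)) =
      TensorProduct.map (ρr k).toLinearMap LinearMap.id ((u (r k)).symm (1 ⊗ₜ[K] a)) := by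
    intro k a
    let gl : B →ₗ[K] Ke k ⊗[K] A :=
      { toFun := fun b => TensorProduct.map (ρl k).toLinearMap LinearMap.id
          (u (l k) (1 ⊗ₜ[K] b))
        map_add' := by
          intro b b'
          rw [TensorProduct.tmul_add, map_add, map_add]
        map_smul' := by
          intro c b
          rw [TensorProduct.tmul_smul,
            ← algebraMap_smul (Kv (l k)) c ((1 : Kv (l k)) ⊗ₜ[K] b), map_smul, algebraMap_smul,
            map_smul]
          rfl }
    let U : Ke k ⊗[K] B →ₗ[Ke k] Ke k ⊗[K] A := LinearMap.liftBaseChange (Ke k) gl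
    have hU1 : ∀ b, U (1 ⊗ₜ b) = TensorProduct.map (ρl k).toLinearMap LinearMap.id
        (u (l k) (1 ⊗ₜ[K] b)) := by
      intro b
      rw [LinearMap.liftBaseChange_tmul, one_smul]
      rfl
    have hU2 : ∀ b, U (1 ⊗ₜ b) = TensorProduct.map (ρr k).toLinearMap LinearMap.id
        (u (r k) (1 ⊗ₜ[K] b)) := by
      intro b
      rw [hU1]
      exact hu k b
    have hUl := semi (ρl k) ((u (l k)).toCoalgEquiv.toLinearEquiv.toLinearMap) U hU1
    have hUr := semi (ρr k) ((u (r k)).toCoalgEquiv.toLinearEquiv.toLinearMap) U hU2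
    let gl' : A →ₗ[K] Ke k ⊗[K] B :=
      { toFun := fun a => TensorProduct.map (ρl k).toLinearMap LinearMap.id
          ((u (l k)).symm (1 ⊗ₜ[K] a))
        map_add' := by
          intro b b'
          rw [TensorProduct.tmul_add, map_add, map_add]
        map_smul' := by
          intro c b
          rw [TensorProduct.tmul_smul,
            ← algebraMap_smul (Kv (l k)) c ((1 : Kv (l k)) ⊗ₜ[K] b), map_smul, algebraMap_smul,
            map_smul]
          rfl }
    let U' : Ke k ⊗[K] A →ₗ[Ke k] Ke k ⊗[K] B := LinearMap.liftBaseChange (Ke k) gl'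
    have hU'1 : ∀ a, U' (1 ⊗ₜ a) = TensorProduct.map (ρl k).toLinearMap LinearMap.id
        ((u (l k)).symm (1 ⊗ₜ[K] a)) := by
      intro a
      rw [LinearMap.liftBaseChange_tmul, one_smul]
      rfl
    have hU'l := semi (ρl k) ((u (l k)).symm.toCoalgEquiv.toLinearEquiv.toLinearMap) U' hU'1
    have hUU : ∀ z, U' (U z) = z := by
      intro z
      induction z using TensorProduct.induction_on with
      | zero => simp
      | tmul c b =>
        have h1 : c ⊗ₜ[K] b = c • ((1 : Ke k) ⊗ₜ[K] b) := by
          rw [TensorProduct.smul_tmul', smul_eq_mul, mul_one]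
        rw [h1, map_smul, map_smul, hU1, hU'l]
        congr 1
        change TensorProduct.map (ρl k).toLinearMap LinearMap.id
          ((u (l k)).symm (u (l k) (1 ⊗ₜ[K] b))) = _
        rw [(u (l k)).symm_apply_apply]
        simp
      | add z w hz hw => simp only [map_add, hz, hw]
    have hUinj : Function.Injective U := Function.LeftInverse.injective hUU
    apply hUinj
    rw [hUl, hUr]
    change TensorProduct.map (ρl k).toLinearMap LinearMap.id
        (u (l k) ((u (l k)).symm (1 ⊗ₜ[K] a))) =
      TensorProduct.map (ρr k).toLinearMap LinearMap.id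
        (u (r k) ((u (r k)).symm (1 ⊗ₜ[K] a)))
    rw [(u (l k)).apply_symm_apply, (u (r k)).apply_symm_apply]
    simp
  have hv_surj : Function.Surjective v₀ := by
    intro a
    obtain ⟨b, hb⟩ := desc hlim (fun i => (u i).symm (1 ⊗ₜ[K] a)) (fun k => hcompat k a)
    refine ⟨b, ?_⟩
    apply inj hlim
    intro i
    rw [← hv₀, ← hb i, (u i).apply_symm_apply]
  have hcounit : (Bialgebra.counitAlgHom K A).comp valg = Bialgebra.counitAlgHom K B := by
    apply AlgHom.ext
    intro b
    have hx := hlim (fun i => algebraMap K (Kv i) (Coalgebra.counit (R := K) b))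
      (by intro k; simp)
    have key : ∀ i, algebraMap K (Kv i) (Coalgebra.counit (R := K) (v₀ b)) =
        algebraMap K (Kv i) (Coalgebra.counit (R := K) b) := by
      intro i
      have h1 : Coalgebra.counit (R := Kv i) (u i (1 ⊗ₜ[K] b)) =
          Coalgebra.counit (R := Kv i) ((1 : Kv i) ⊗ₜ[K] b) :=
        CoalgHomClass.counit_comp_apply (u i) _
      rw [hv₀, TensorProduct.counit_tmul, TensorProduct.counit_tmul] at h1
      simpa [Algebra.algebraMap_eq_smul_one] using h1
    exact hx.unique key (fun i => rfl)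
  have hcomul : (Algebra.TensorProduct.map valg valg).comp (Bialgebra.comulAlgHom K B) =
      (Bialgebra.comulAlgHom K A).comp valg := by
    apply AlgHom.ext
    intro b
    apply inj hlim (N := A ⊗[K] A)
    intro i
    set g : Kv i ⊗[K] B →ₗ[Kv i] Kv i ⊗[K] A :=
      (u i).toCoalgEquiv.toCoalgHom.toLinearMap with hgdef
    have hg : ∀ x, g x = u i x := fun x => rfl
    have h1 : TensorProduct.map g g (Coalgebra.comul (R := Kv i) ((1 : Kv i) ⊗ₜ[K] b)) =
        Coalgebra.comul (R := Kv i) (g ((1 : Kv i) ⊗ₜ[K] b)) :=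
      LinearMap.congr_fun (u i).toCoalgEquiv.toCoalgHom.map_comp_comul _
    rw [hg, hv₀, TensorProduct.comul_tmul, TensorProduct.comul_tmul,
      CommSemiring.comul_apply] at h1
    have h2 : ∀ (g : Kv i ⊗[K] B →ₗ[Kv i] Kv i ⊗[K] A) (_ : ∀ x, g x = u i x)
        (w : B ⊗[K] B),
        TensorProduct.map g g
          (AlgebraTensorModule.tensorTensorTensorComm K (Kv i) K (Kv i) (Kv i) (Kv i) B B
            (((1 : Kv i) ⊗ₜ[Kv i] (1 : Kv i)) ⊗ₜ[K] w)) =
        AlgebraTensorModule.tensorTensorTensorComm K (Kv i) K (Kv i) (Kv i) (Kv i) A A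
            (((1 : Kv i) ⊗ₜ[Kv i] (1 : Kv i)) ⊗ₜ[K] (TensorProduct.map vlin vlin w)) := by
      intro g hg w
      induction w using TensorProduct.induction_on with
      | zero => simp
      | tmul b1 b2 =>
        rw [AlgebraTensorModule.tensorTensorTensorComm_tmul, TensorProduct.map_tmul, hg, hg,
          hv₀, hv₀, TensorProduct.map_tmul, AlgebraTensorModule.tensorTensorTensorComm_tmul]
        rfl
      | add w1 w2 hw1 hw2 => simp only [TensorProduct.tmul_add, map_add, hw1, hw2]
    rw [h2 g hg] at h1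
    have h3 := (AlgebraTensorModule.tensorTensorTensorComm K (Kv i) K (Kv i) (Kv i) (Kv i)
      A A).injective h1
    have h4 := congrArg (LinearMap.rTensor (A ⊗[K] A)
      ((TensorProduct.lid (Kv i) (Kv i)).toLinearMap.restrictScalars K)) h3
    simp only [LinearMap.rTensor_tmul, LinearMap.coe_restrictScalars, LinearEquiv.coe_coe,
      TensorProduct.lid_tmul, smul_eq_mul, mul_one] at h4
    exact h4
  let veq : B ≃ₐ[K] A := AlgEquiv.ofBijective valg ⟨hv_inj, hv_surj⟩
  refine ⟨BialgEquiv.ofAlgEquiv veq hcounit hcomul, ?_, ?_⟩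
  · intro i b
    exact hv₀ b i
  · intro v' hv'
    apply DFunLike.ext
    intro b
    apply inj hlim
    intro i
    rw [← hv' i b]
    exact hv₀ b i

end Groth.Agent.S15411
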