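import Groth.Statements.S15412
import Mathlib.Tactic.Group

set_option autoImplicit false
universe w v u
open CategoryTheory Opposite
open Bitors

namespace Groth.Agent.S15412

/-- On a site, let G and H be sheaves of groups and P a sheaf of sets with a left G-action which is
simply transitive on every set of sections P(U). The right H-actions on P that are compatible with
restriction, commute with the G-action and are simply transitive on every P(U) (for P a G-torsor:
the structures of (G, H)-bitorsor on P) correspond exactly to the families of group isomorphisms φ_p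
: H(U) ≃ G(U), one for each section p of P over each U, compatible with restriction and with φ_{g·p}
= g φ_p g⁻¹ (the equivariant maps from P to the sheaf of isomorphisms from H to G); the
correspondence is the rule p · h = φ_p(h) · p, and the statement is that every right structure
arises by this rule from exactly one family and every family from exactly one right structure. (The
published statement takes P a left G-torsor; only the simple transitivity of the G-action on
sections enters, so local existence of sections is not assumed.) -/
theorem result
    {C : Type u} [Category.{v} C] {J : GrothendieckTopology C}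
    (G H : Sheaf J GrpCat.{w}) (P : NonAbH1.GSheaf G) (hP : P.IsPseudoTorsor) :
    (∀ ρ : Bitors.RightStr P H, ∃! φ : Bitors.IsomFamily P H,
        ∀ (U : Cᵒᵖ) (p : P.P.obj.obj U) (h : H.obj.obj U), ρ.rsmul p h = P.smul (φ.φ p h) p) ∧
    (∀ φ : Bitors.IsomFamily P H, ∃! ρ : Bitors.RightStr P H,
        ∀ (U : Cᵒᵖ) (p : P.P.obj.obj U) (h : H.obj.obj U), ρ.rsmul p h = P.smul (φ.φ p h) p) := by
  have cancel : ∀ {U : Cᵒᵖ} (q : P.P.obj.obj U) (g g' : G.obj.obj U),
      P.smul g q = P.smul g' q → g = g' := by
    intro U q g g' h
    exact (hP U q (P.smul g' q)).unique h rfl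
  constructor
  · intro ρ
    -- construction
    let a : ∀ {U : Cᵒᵖ} (p : P.P.obj.obj U) (h : H.obj.obj U), G.obj.obj U :=
      fun {U} p h => (hP U p (ρ.rsmul p h)).choose
    have ha : ∀ {U : Cᵒᵖ} (p : P.P.obj.obj U) (h : H.obj.obj U),
        P.smul (a p h) p = ρ.rsmul p h := fun {U} p h => (hP U p (ρ.rsmul p h)).choose_spec.1
    let b : ∀ {U : Cᵒᵖ} (p : P.P.obj.obj U) (g : G.obj.obj U), H.obj.obj U :=
      fun {U} p g => (ρ.existsUnique_rsmul p (P.smul g p)).choose
    have hb : ∀ {U : Cᵒᵖ} (p : P.P.obj.obj U) (g : G.obj.obj U),
        ρ.rsmul p (b p g) = P.smul g p :=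
      fun {U} p g => (ρ.existsUnique_rsmul p (P.smul g p)).choose_spec.1
    have hmul : ∀ {U : Cᵒᵖ} (p : P.P.obj.obj U) (h h' : H.obj.obj U),
        a p (h * h') = a p h * a p h' := by
      intro U p h h'
      apply cancel p
      rw [ha, ρ.rsmul_mul, ← ha p h, ρ.smul_rsmul, ← ha p h', ← P.mul_smul]
    let φ : Bitors.IsomFamily P H :=
      { φ := fun {U} p =>
          { toFun := a p
            invFun := b p
            left_inv := fun h =>
              (ρ.existsUnique_rsmul p (P.smul (a p h) p)).unique (hb p (a p h)) (ha p h).symm
            right_inv := fun g => cancel p _ _ (by rw [ha, hb])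
            map_mul' := hmul p }
        map_φ := by
          intro U V f p h
          change G.obj.map f (a p h) = a (P.P.obj.map f p) (H.obj.map f h)
          apply cancel (P.P.obj.map f p)
          rw [ha, ← P.map_smul, ha, ρ.map_rsmul]
        φ_smul := by
          intro U g p h
          change a (P.smul g p) h = g * a p h * g⁻¹
          apply cancel (P.smul g p)
          rw [ha, ρ.smul_rsmul, ← ha p h, ← P.mul_smul, ← P.mul_smul]
          congr 1
          group }
    refine ⟨φ, fun U p h => (ha p h).symm, ?_⟩
    intro φ' hφ'
    have key : ∀ {U : Cᵒᵖ} (p : P.P.obj.obj U) (h : H.obj.obj U), φ'.φ p h = a p h := by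
      intro U p h
      apply cancel p
      rw [ha, hφ']
    cases φ' with
    | mk φf m1 m2 =>
      have : @φf = fun {U} p => φ.φ p := by
        funext U p
        apply MulEquiv.ext
        intro h
        exact key p h
      subst this
      rfl
  · intro φ
    have hex : ∀ {U : Cᵒᵖ} (p q : P.P.obj.obj U),
        ∃! h : H.obj.obj U, P.smul (φ.φ p h) p = q := by
      intro U p q
      obtain ⟨g, hg, hguniq⟩ := hP U p q
      refine ⟨(φ.φ p).symm g, by simpa using hg, ?_⟩
      intro h hh
      have := hguniq _ hh
      rw [← this]
      simp
    let ρ : Bitors.RightStr P H :=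
      { rsmul := fun {U} p h => P.smul (φ.φ p h) p
        rsmul_one := by
          intro U p
          rw [map_one, P.one_smul]
        rsmul_mul := by
          intro U p h h'
          rw [φ.φ_smul, ← P.mul_smul, map_mul]
          congr 1
          group
        map_rsmul := by
          intro U V f p h
          rw [P.map_smul, φ.map_φ]
        smul_rsmul := by
          intro U g p h
          rw [φ.φ_smul, ← P.mul_smul, ← P.mul_smul]
          congr 1
          group
        existsUnique_rsmul := fun {U} p q => hex p q }
    refine ⟨ρ, fun U p h => rfl, ?_⟩
    intro ρ' hρ'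
    cases ρ' with
    | mk r r1 r2 r3 r4 r5 =>
      have : @r = fun {U} p h => P.smul (φ.φ p h) p := by
        funext U p h
        exact hρ' U p h
      subst this
      rfl

end Groth.Agent.S15412
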