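import Groth.Statements.S15418
import Mathlib
import Groth.Agent.Lib.Helper77.GLC9
import Groth.Agent.Lib.Helper77.GLC14

set_option autoImplicit false
universe u
open GrSyz

namespace Groth.Agent.S15418

/-- Let k be a field, S = k[x_0, …, x_r] graded by degree, 𝔪 = (x_0, …, x_r), M a finitely generated
ℤ-graded S-module, F a minimal graded free resolution of M by finite-rank free modules with
homogeneous bases (all matrix entries in 𝔪), and d an integer; graded local cohomology is computed
from any *injective resolution of M in the graded category. Then every term F_i is generated in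
degrees at most d + i if and only if M is d-regular: H^0_𝔪(M) has no nonzero piece in degrees above
d and H^i_𝔪(M) vanishes in degree d − i + 1 for every i > 0. (Stated for an arbitrary minimal
resolution in place of the regularity of M.) -/
theorem result (k : Type u) [Field k] (r : ℕ)
    (M : Type u) [AddCommGroup M] [Module k M] [Module (MvPolynomial (Fin (r + 1)) k) M]
    [IsScalarTower k (MvPolynomial (Fin (r + 1)) k) M] [Module.Finite (MvPolynomial (Fin (r + 1)) k) M]
    (ℳ : ℤ → Submodule k M) [DirectSum.Decomposition ℳ] [SetLike.GradedSMul (GrSyz.stdGr k (Fin (r + 1))) ℳ]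
    (F : GrSyz.FreeRes (GrSyz.stdGr k (Fin (r + 1))) ℳ) (hF : F.IsMinimal (GrSyz.irrel (GrSyz.stdGr k (Fin (r + 1)))).toIdeal)
    (E : GrLC.StarInjRes (GrSyz.stdGr k (Fin (r + 1))) ℳ) (d : ℤ) :
    F.IsGenLE d ↔ (GrLC.endDeg (E.Hgr (GrSyz.irrel (GrSyz.stdGr k (Fin (r + 1)))) 0) ≤ ((d : WithTop ℤ) : WithBot (WithTop ℤ)) ∧
      ∀ i : ℕ, 0 < i → E.Hcomp (GrSyz.irrel (GrSyz.stdGr k (Fin (r + 1)))) i (d - (i : ℤ) + 1) = ⊥) := by
  open Groth.Agent.Lib.Helper77.GLC in
  have hxs : ∀ x ∈ List.ofFn (fun j : Fin (r + 1) => (MvPolynomial.X j : MvPolynomial (Fin (r + 1)) k)),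
      x ∈ sg k (r + 1) 1 := by
    intro x hx
    obtain ⟨j, rfl⟩ := (List.mem_ofFn' _ _).1 hx
    exact X_mem_sg k (r + 1) j
  have hle : (am k (r + 1)).toIdeal ≤
      Ideal.ofList (List.ofFn (fun j : Fin (r + 1) => (MvPolynomial.X j : MvPolynomial (Fin (r + 1)) k))) := by
    rw [am_eq_Iv]
    apply Ideal.span_mono
    rintro _ ⟨j, _, rfl⟩
    exact (List.mem_ofFn' _ _).2 ⟨j, rfl⟩
  constructor
  · intro hd
    have hs : ∀ (i : ℕ) (g : ℤ), d - i < g → HV E (irrel (stdGr k (Fin (r + 1)))).toIdeal i g := by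
      intro i g hg
      rw [← HV_flatRes_iff]
      exact HV_of_isGenLE k r F hF d hd (flatRes _ E) i g hg
    refine ⟨?_, fun i _ => ?_⟩
    · rw [endDeg_le_iff]
      intro n hn
      rw [Hgr_eq_bot_iff]
      exact hs 0 n (by simpa using hn)
    · rw [Hcomp_eq_bot_iff]
      exact hs i _ (by omega)
  · rintro ⟨h0, h1⟩
    apply isGenLE_of_HV k r F hF d (flatRes _ E)
    rw [endDeg_le_iff] at h0
    have hm := mumford (am k (r + 1)) _ hxs hle (flatRes _ E) 1 one_pos d (fun i hi => by
      rw [HV_flatRes_iff]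
      have := h1 i (by omega)
      rw [Hcomp_eq_bot_iff] at this
      have e : d + 1 - (i : ℤ) = d - i + 1 := by ring
      rw [e]
      exact this)
    intro i g hg
    cases i with
    | zero =>
      exact (HV_flatRes_iff E _ 0 g).2 ((Hgr_eq_bot_iff E _ 0 g).1 (h0 g (by simpa using hg)))
    | succ i =>
      have := hm (g + ((i + 1 : ℕ) : ℤ)) (by omega) (i + 1) (by omega)
      rw [add_sub_cancel_right] at this
      exact this

end Groth.Agent.S15418
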