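import Groth.Statements.S1542
import Mathlib
import Groth.Agent.S1541

set_option autoImplicit false
set_option linter.style.haveILetI false
universe u
open CategoryTheory CategoryTheory.Limits AlgebraicGeometry
open Variety

namespace Groth.Agent.S1542

open TensorProduct Groth.Agent.Lib.Helper62

/-- geometric reducedness passes to a further localization. -/
theorem geomReduced_of_le (k : Type u) [Field k] (A : Type u) [CommRing A] [Algebra k A]
    (q q' : Ideal A) [q.IsPrime] [q'.IsPrime] (hle : q' ≤ q)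
    (O O' : Type u) [CommRing O] [CommRing O'] [Algebra k O] [Algebra k O'] [Algebra A O]
    [Algebra A O'] [IsScalarTower k A O] [IsScalarTower k A O'] [IsLocalization.AtPrime O q]
    [IsLocalization.AtPrime O' q'] [Algebra.IsGeometricallyReduced k O] :
    Algebra.IsGeometricallyReduced k O' := by
  rw [Algebra.isGeometricallyReduced_field_iff]
  have hO : IsReduced (AlgebraicClosure k ⊗[k] O) :=
    (Algebra.isGeometricallyReduced_field_iff k O).mp inferInstance
  set K := AlgebraicClosure k with hK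
  letI a1 : Algebra (K ⊗[k] A) (K ⊗[k] O) := (BCStalk.tmap k K A O).toRingHom.toAlgebra
  letI a2 : Algebra (K ⊗[k] A) (K ⊗[k] O') := (BCStalk.tmap k K A O').toRingHom.toAlgebra
  haveI l1 := BCStalk.isLocalization_tensor k K A q O
  haveI l2 := BCStalk.isLocalization_tensor k K A q' O'
  have hle' : q.primeCompl.map (Algebra.TensorProduct.includeRight (R := k) (A := K) (B := A)) ≤
      q'.primeCompl.map (Algebra.TensorProduct.includeRight (R := k) (A := K) (B := A)) := by
    rintro _ ⟨a, ha, rfl⟩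
    exact ⟨a, fun hmem => ha (hle hmem), rfl⟩
  have hunit : ∀ y : q.primeCompl.map
      (Algebra.TensorProduct.includeRight (R := k) (A := K) (B := A)),
      IsUnit (algebraMap (K ⊗[k] A) (K ⊗[k] O') y) := fun y =>
    IsLocalization.map_units (K ⊗[k] O') (⟨y.1, hle' y.2⟩ : q'.primeCompl.map
      (Algebra.TensorProduct.includeRight (R := k) (A := K) (B := A)))
  letI : Algebra (K ⊗[k] O) (K ⊗[k] O') :=
    (IsLocalization.lift (M := q.primeCompl.map
      (Algebra.TensorProduct.includeRight (R := k) (A := K) (B := A))) hunit).toAlgebra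
  haveI : IsScalarTower (K ⊗[k] A) (K ⊗[k] O) (K ⊗[k] O') :=
    IsScalarTower.of_algebraMap_eq fun x => (IsLocalization.lift_eq hunit x).symm
  haveI := IsLocalization.isLocalization_of_submonoid_le (K ⊗[k] O) (K ⊗[k] O') _ _ hle'
  exact isReduced_localizationPreserves ((q'.primeCompl.map
    (Algebra.TensorProduct.includeRight (R := k) (A := K) (B := A))).map
      (algebraMap (K ⊗[k] A) (K ⊗[k] O))) _ hO

theorem main (k : Type u) [Field k] (X : Scheme.{u}) [X.Over (Spec (CommRingCat.of k))]
    (x x' : X) (h : x' ⤳ x) (hx : Curv2.IsGeomReducedAt k X x) :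
    Curv2.IsGeomReducedAt k X x' := by
  letI := Curv2.stalkAlgebra k X x
  letI := Curv2.stalkAlgebra k X x'
  haveI := Groth.Agent.S1541.forward k X x hx
  obtain ⟨_, ⟨U, hU, rfl⟩, hxU, -⟩ :=
    X.isBasis_affineOpens.exists_subset_of_mem_open (Set.mem_univ x) isOpen_univ
  have hx'U : x' ∈ U := h.mem_open U.isOpen hxU
  letI : Algebra k Γ(X, U) := (BCStalk.toSection (X ↘ Spec (CommRingCat.of k)) U).toAlgebra
  letI : Algebra Γ(X, U) (X.presheaf.stalk x) := X.presheaf.algebra_section_stalk ⟨x, hxU⟩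
  letI : Algebra Γ(X, U) (X.presheaf.stalk x') := X.presheaf.algebra_section_stalk ⟨x', hx'U⟩
  haveI : IsScalarTower k Γ(X, U) (X.presheaf.stalk x) :=
    BCStalk.chart_aux (X ↘ Spec (CommRingCat.of k)) x hxU rfl
  haveI : IsScalarTower k Γ(X, U) (X.presheaf.stalk x') :=
    BCStalk.chart_aux (X ↘ Spec (CommRingCat.of k)) x' hx'U rfl
  haveI := hU.isLocalization_stalk ⟨x, hxU⟩
  haveI := hU.isLocalization_stalk ⟨x', hx'U⟩
  have hsp : (⟨x', hx'U⟩ : U) ⤳ ⟨x, hxU⟩ := (subtype_specializes_iff _ _).mpr h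
  have hsp2 : hU.primeIdealOf ⟨x', hx'U⟩ ⤳ hU.primeIdealOf ⟨x, hxU⟩ :=
    hsp.map hU.isoSpec.hom.continuous
  have hle : (hU.primeIdealOf ⟨x', hx'U⟩).asIdeal ≤ (hU.primeIdealOf ⟨x, hxU⟩).asIdeal :=
    (PrimeSpectrum.le_iff_specializes _ _).mpr hsp2
  haveI := geomReduced_of_le k Γ(X, U) _ _ hle (X.presheaf.stalk x) (X.presheaf.stalk x')
  exact Groth.Agent.S1541.backward k X x'


/-- Geometric reducedness at a point passes to every generisation of that point. -/
theorem result (k : Type u) [Field k] (X : Scheme.{u}) [X.Over (Spec (CommRingCat.of k))] (x x' : X) (h : x' ⤳ x)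
    (hx : Curv2.IsGeomReducedAt k X x) : Curv2.IsGeomReducedAt k X x' := by
  exact main k X x x' h hx

end Groth.Agent.S1542
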