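import Groth.Statements.S15422
import Mathlib
import Groth.Agent.Lib.Helper77.GLC9

set_option autoImplicit false
universe u
open GrSyz

namespace Groth.Agent.S15422

/-- Let k be a field, S = k[x_0, …, x_r] graded by degree, 𝔪 = (x_0, …, x_r) and M a finitely generated
ℤ-graded S-module of finite length. Then the Castelnuovo–Mumford regularity of M, in the sense of
minimal graded free resolutions (an extended integer, −∞ for the zero module), equals the largest
degree d with M_d ≠ 0. -/
theorem result (k : Type u) [Field k] (r : ℕ)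
    (M : Type u) [AddCommGroup M] [Module k M] [Module (MvPolynomial (Fin (r + 1)) k) M]
    [IsScalarTower k (MvPolynomial (Fin (r + 1)) k) M] [Module.Finite (MvPolynomial (Fin (r + 1)) k) M]
    (ℳ : ℤ → Submodule k M) [DirectSum.Decomposition ℳ] [SetLike.GradedSMul (GrSyz.stdGr k (Fin (r + 1))) ℳ]
    (hM : IsFiniteLength (MvPolynomial (Fin (r + 1)) k) M) :
    GrSyz.reg (GrSyz.stdGr k (Fin (r + 1))) ℳ (GrSyz.irrel (GrSyz.stdGr k (Fin (r + 1)))).toIdeal = GrLC.endDeg (fun n => (ℳ n).toAddSubgroup) := by
  open Groth.Agent.Lib.Helper77.GLC in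
  obtain ⟨E⟩ := exists_flat_res k r ℳ
  apply eq_of_forall_le_coe_iff
  intro d
  rw [reg_le_iff k r ℳ E d, endDeg_le_iff]
  have hart : IsArtinian (MvPolynomial (Fin (r + 1)) k) M :=
    (isFiniteLength_iff_isNoetherian_isArtinian.1 hM).2
  have htor : ∀ y : M, ∃ n : ℕ, ∀ b ∈ (am k (r + 1)).toIdeal ^ n, b • y = 0 :=
    torsion_of_isArtinian k (Fin (r + 1)) ℳ
  constructor
  · intro h n hn
    have h0 := h 0 n (by simpa using hn)
    rw [HV_zero_iff] at h0
    rw [eq_bot_iff]
    intro y hy
    rw [AddSubgroup.mem_bot]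
    exact h0 y hy (htor y)
  · intro h i g hg
    cases i with
    | zero =>
      rw [HV_zero_iff]
      intro y hy _
      have h1 := h g (by simpa using hg)
      have h2 : y ∈ (ℳ g).toAddSubgroup := hy
      rw [h1] at h2
      exact (AddSubgroup.mem_bot).1 h2
    | succ i => exact HV_of_torsion E (am k (r + 1)) htor (i + 1) (Nat.succ_pos i) g

end Groth.Agent.S15422
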