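import Groth.Statements.S15423
import Mathlib
import Groth.Agent.Lib.Helper77.GrCompare

set_option autoImplicit false
universe u
open GrSyz

namespace Groth.Agent.S15423

/-- an element of `WithBot (WithTop ℤ)` is the infimum of the integers above it. -/
theorem iInf_int_ge (σ : WithBot (WithTop ℤ)) :
    ⨅ (r : ℤ) (_ : σ ≤ ((r : WithTop ℤ) : WithBot (WithTop ℤ))), ((r : WithTop ℤ) : WithBot (WithTop ℤ)) = σ := by
  apply le_antisymm
  · induction σ using WithBot.recBotCoe with
    | bot =>
      -- the infimum is below every integer, hence `⊥`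
      have h : ∀ r : ℤ, (⨅ (r : ℤ) (_ : (⊥ : WithBot (WithTop ℤ)) ≤ ((r : WithTop ℤ) : WithBot (WithTop ℤ))),
          ((r : WithTop ℤ) : WithBot (WithTop ℤ))) ≤ ((r : WithTop ℤ) : WithBot (WithTop ℤ)) :=
        fun r => iInf₂_le (f := fun (r : ℤ) (_ : (⊥ : WithBot (WithTop ℤ)) ≤ ((r : WithTop ℤ) : WithBot (WithTop ℤ))) =>
          ((r : WithTop ℤ) : WithBot (WithTop ℤ))) r (bot_le (a := ((r : WithTop ℤ) : WithBot (WithTop ℤ))))
      set x := (⨅ (r : ℤ) (_ : (⊥ : WithBot (WithTop ℤ)) ≤ ((r : WithTop ℤ) : WithBot (WithTop ℤ))),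
          ((r : WithTop ℤ) : WithBot (WithTop ℤ))) with hx
      clear_value x
      induction x using WithBot.recBotCoe with
      | bot => exact le_refl _
      | coe y =>
        exfalso
        induction y using WithTop.recTopCoe with
        | top =>
          have := h 0
          rw [WithBot.coe_le_coe] at this
          exact absurd this (by simp)
        | coe n =>
          have := h (n - 1)
          rw [WithBot.coe_le_coe, WithTop.coe_le_coe] at this
          omega
    | coe y =>
      induction y using WithTop.recTopCoe with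
      | top => exact le_top
      | coe n => exact iInf₂_le (f := fun (r : ℤ) (_ : (((n : ℤ) : WithTop ℤ) : WithBot (WithTop ℤ)) ≤ ((r : WithTop ℤ) : WithBot (WithTop ℤ))) =>
          ((r : WithTop ℤ) : WithBot (WithTop ℤ))) n (le_refl _)
  · exact le_iInf₂ fun r hr => hr

/-- Let k be a field, S = k[x_0, …, x_r] graded by degree, 𝔪 = (x_0, …, x_r), M a finitely generated
ℤ-graded S-module and F a minimal graded free resolution of M by finite-rank free modules with
homogeneous bases (all matrix entries in 𝔪). Then the Castelnuovo–Mumford regularity of M (an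
extended integer) is the supremum over i ≥ 0 of t_i − i, where t_i is the largest degree of a basis
vector of F_i, that is the largest nonzero degree of Tor_i^S(M, k) (−∞ when F_i = 0). In particular
the value does not depend on the minimal resolution chosen. -/
theorem result (k : Type u) [Field k] (r : ℕ)
    (M : Type u) [AddCommGroup M] [Module k M] [Module (MvPolynomial (Fin (r + 1)) k) M]
    [IsScalarTower k (MvPolynomial (Fin (r + 1)) k) M] [Module.Finite (MvPolynomial (Fin (r + 1)) k) M]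
    (ℳ : ℤ → Submodule k M) [DirectSum.Decomposition ℳ] [SetLike.GradedSMul (GrSyz.stdGr k (Fin (r + 1))) ℳ]
    (F : GrSyz.FreeRes (GrSyz.stdGr k (Fin (r + 1))) ℳ) (hF : F.IsMinimal (GrSyz.irrel (GrSyz.stdGr k (Fin (r + 1)))).toIdeal) :
    GrSyz.reg (GrSyz.stdGr k (Fin (r + 1))) ℳ (GrSyz.irrel (GrSyz.stdGr k (Fin (r + 1)))).toIdeal =
      ⨆ i : ℕ, WithBot.map (fun t : ℤ => ((t - (i : ℤ) : ℤ) : WithTop ℤ)) (F.maxGenDeg i) := by
  classical
  set 𝔪 := (GrSyz.irrel (GrSyz.stdGr k (Fin (r + 1)))).toIdeal with h𝔪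
  -- regularity bounds do not depend on the minimal resolution
  have hiff : ∀ ρ : ℤ, GrSyz.IsRegLE (GrSyz.stdGr k (Fin (r + 1))) ℳ 𝔪 ρ ↔ F.IsGenLE ρ := by
    intro ρ
    constructor
    · rintro ⟨F', hF', hgen⟩ i b
      have hb : 0 < F.betti i (F.deg i b) := by
        unfold GrSyz.FreeRes.betti
        exact Finset.card_pos.2 ⟨b, Finset.mem_filter.2 ⟨Finset.mem_univ _, rfl⟩⟩
      rw [Groth.Agent.Lib.Helper77.GrCompare.betti_eq_of_isMinimal F F' hF hF' i (F.deg i b)] at hb
      unfold GrSyz.FreeRes.betti at hb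
      obtain ⟨b', hb'⟩ := Finset.card_pos.1 hb
      rw [← (Finset.mem_filter.1 hb').2]
      exact hgen i b'
    · intro h
      exact ⟨F, hF, h⟩
  -- generator bounds in terms of the supremum
  have hgen : ∀ ρ : ℤ, F.IsGenLE ρ ↔
      (⨆ i : ℕ, WithBot.map (fun t : ℤ => ((t - (i : ℤ) : ℤ) : WithTop ℤ)) (F.maxGenDeg i)) ≤
        ((ρ : WithTop ℤ) : WithBot (WithTop ℤ)) := by
    intro ρ
    rw [iSup_le_iff]
    refine forall_congr' fun i => ?_
    have h1 : (∀ b : Fin (F.rk i), F.deg i b ≤ ρ + i) ↔ F.maxGenDeg i ≤ ((ρ + i : ℤ) : WithBot ℤ) := by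
      unfold GrSyz.FreeRes.maxGenDeg
      rw [Finset.sup_le_iff]
      simp only [Finset.mem_univ, forall_true_left, WithBot.coe_le_coe]
    rw [h1]
    generalize F.maxGenDeg i = x
    induction x using WithBot.recBotCoe with
    | bot => simp
    | coe t =>
      rw [WithBot.map_coe, WithBot.coe_le_coe, WithBot.coe_le_coe, WithTop.coe_le_coe]
      constructor <;> intro h <;> omega
  unfold GrSyz.reg
  have : ∀ ρ : ℤ, GrSyz.IsRegLE (GrSyz.stdGr k (Fin (r + 1))) ℳ 𝔪 ρ ↔
      (⨆ i : ℕ, WithBot.map (fun t : ℤ => ((t - (i : ℤ) : ℤ) : WithTop ℤ)) (F.maxGenDeg i)) ≤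
        ((ρ : WithTop ℤ) : WithBot (WithTop ℤ)) := fun ρ => (hiff ρ).trans (hgen ρ)
  simp only [this]
  exact iInf_int_ge _

end Groth.Agent.S15423
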