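import Groth.Statements.S15425
import Mathlib
import Groth.Agent.Lib.Helper77.GLC9
import Groth.Agent.Lib.Helper77.GLC11

set_option autoImplicit false
universe u
open GrSyz

namespace Groth.Agent.S15425

/-- Let k be a field, S = k[x_0, …, x_r] graded by degree, 𝔪 = (x_0, …, x_r), M a finitely generated
ℤ-graded S-module and y_1, …, y_t linear forms that form a weakly regular sequence on M (each y_j is
a non-zerodivisor on M/(y_1, …, y_{j−1})M) with N = M/(y_1, …, y_t)M of finite length; N is given as
a graded module with a surjective degree-preserving S-linear map π : M → N whose kernel is (y_1, …,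
y_t)M. Then the Castelnuovo–Mumford regularity of M in the sense of minimal graded free resolutions
equals the largest degree d with N_d ≠ 0 (−∞ when N = 0). (The published statement assumes M
Cohen–Macaulay and the regular sequence maximal; for a regular sequence of linear forms this is the
same as the quotient having finite length, the form used here.) -/
theorem result (k : Type u) [Field k] (r : ℕ)
    (M : Type u) [AddCommGroup M] [Module k M] [Module (MvPolynomial (Fin (r + 1)) k) M]
    [IsScalarTower k (MvPolynomial (Fin (r + 1)) k) M] [Module.Finite (MvPolynomial (Fin (r + 1)) k) M]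
    (ℳ : ℤ → Submodule k M) [DirectSum.Decomposition ℳ] [SetLike.GradedSMul (GrSyz.stdGr k (Fin (r + 1))) ℳ]
    (ys : List (MvPolynomial (Fin (r + 1)) k)) (hys : ∀ y ∈ ys, y ∈ GrSyz.stdGr k (Fin (r + 1)) 1)
    (hreg : RingTheory.Sequence.IsWeaklyRegular M ys)
    (N : Type u) [AddCommGroup N] [Module k N] [Module (MvPolynomial (Fin (r + 1)) k) N]
    [IsScalarTower k (MvPolynomial (Fin (r + 1)) k) N] [Module.Finite (MvPolynomial (Fin (r + 1)) k) N]
    (𝒩 : ℤ → Submodule k N) [DirectSum.Decomposition 𝒩] [SetLike.GradedSMul (GrSyz.stdGr k (Fin (r + 1))) 𝒩]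
    (π : M →ₗ[MvPolynomial (Fin (r + 1)) k] N) (hπ : Function.Surjective π) (hπg : GrLC.IsGrHom ℳ 𝒩 π)
    (hker : LinearMap.ker π = Ideal.ofList ys • (⊤ : Submodule (MvPolynomial (Fin (r + 1)) k) M))
    (hN : IsFiniteLength (MvPolynomial (Fin (r + 1)) k) N) :
    GrSyz.reg (GrSyz.stdGr k (Fin (r + 1))) ℳ (GrSyz.irrel (GrSyz.stdGr k (Fin (r + 1)))).toIdeal = GrLC.endDeg (fun n => (𝒩 n).toAddSubgroup) := by
  open Groth.Agent.Lib.Helper77.GLC in
  obtain ⟨EM⟩ := exists_flat_res k r ℳ
  obtain ⟨EN⟩ := exists_flat_res k r 𝒩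
  apply eq_of_forall_le_coe_iff
  intro d
  have hseq := regHV_iff_of_regular_seq (𝒜 := sg k (r + 1)) (am k (r + 1)) ys M (flat ℳ)
    (fun y hy => ⟨hys y hy, Ideal.subset_span ⟨1, one_pos, hys y hy⟩⟩) hreg N (flat 𝒩) π
    (fun g m hm => hπg g m hm) hπ hker EM EN d
  rw [reg_le_iff k r ℳ EM d, endDeg_le_iff, hseq]
  have hart : IsArtinian (MvPolynomial (Fin (r + 1)) k) N :=
    (isFiniteLength_iff_isNoetherian_isArtinian.1 hN).2
  have htor : ∀ y : N, ∃ n : ℕ, ∀ b ∈ (am k (r + 1)).toIdeal ^ n, b • y = 0 :=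
    torsion_of_isArtinian k (Fin (r + 1)) 𝒩
  constructor
  · intro h n hn
    have h0 := h 0 n (by simpa using hn)
    rw [HV_zero_iff] at h0
    rw [eq_bot_iff]
    intro y hy
    rw [AddSubgroup.mem_bot]
    exact h0 y hy (htor y)
  · intro h i g hg
    cases i with
    | zero =>
      rw [HV_zero_iff]
      intro y hy _
      have h1 := h g (by simpa using hg)
      have h2 : y ∈ (𝒩 g).toAddSubgroup := hy
      rw [h1] at h2
      exact (AddSubgroup.mem_bot).1 h2
    | succ i => exact HV_of_torsion EN (am k (r + 1)) htor (i + 1) (Nat.succ_pos i) g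

end Groth.Agent.S15425
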