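import Groth.Statements.S15429
import Mathlib
import Groth.Agent.Lib.Helper77.GrHilbert
import Groth.Agent.Lib.Helper77.BinomPoly

set_option autoImplicit false
universe u
open GrSyz

namespace Groth.Agent.S15429

/-- Let k be a field, S = k[x_0, …, x_r] graded by degree and M a ℤ-graded S-module with a finite graded
free resolution 0 → F_m → … → F_0 → M → 0 by free modules of finite rank with homogeneous bases, the
basis vectors of F_i having degrees a_{i,b}. Then there is a polynomial P with rational
coefficients, the Hilbert polynomial of M, with dim_k M_d = P(d) for every integer d such that d ≥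
a_{i,b} − r for all i and b. -/
theorem result (k : Type u) [Field k] (r : ℕ)
    (M : Type u) [AddCommGroup M] [Module k M] [Module (MvPolynomial (Fin (r + 1)) k) M]
    [IsScalarTower k (MvPolynomial (Fin (r + 1)) k) M] [Module.Finite (MvPolynomial (Fin (r + 1)) k) M]
    (ℳ : ℤ → Submodule k M) [DirectSum.Decomposition ℳ] [SetLike.GradedSMul (GrSyz.stdGr k (Fin (r + 1))) ℳ]
    (F : GrSyz.FreeRes (GrSyz.stdGr k (Fin (r + 1))) ℳ) (m : ℕ) (hF : F.HasLengthLE m) :
    ∃ P : Polynomial ℚ, ∀ d : ℤ, (∀ (i : ℕ) (b : Fin (F.rk i)), F.deg i b - (r : ℤ) ≤ d) →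
      ((Module.finrank k ↥(ℳ d) : ℤ) : ℚ) = P.eval (d : ℚ) := by
  classical
  refine ⟨∑ i ∈ Finset.range (m + 1), Polynomial.C ((-1 : ℚ) ^ i) * ∑ b : Fin (F.rk i),
    (Groth.Agent.Lib.Helper77.BinomPoly.binomPoly r).comp
      (Polynomial.X - Polynomial.C ((F.deg i b : ℤ) : ℚ)), ?_⟩
  intro d hd
  rw [Groth.Agent.Lib.Helper77.GrHilbert.finrank_piece F m hF d]
  simp only [Polynomial.eval_finsetSum, Polynomial.eval_mul, Polynomial.eval_C,
    Polynomial.eval_comp, Polynomial.eval_sub, Polynomial.eval_X]
  push_cast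
  refine Finset.sum_congr rfl fun i _ => ?_
  congr 1
  refine Finset.sum_congr rfl fun b _ => ?_
  have h1 : -(r : ℤ) ≤ d - F.deg i b := by have := hd i b; omega
  have := Groth.Agent.Lib.Helper77.BinomPoly.binomPoly_eval_int r (d - F.deg i b) h1
  push_cast at this
  rw [this]
  have hiff : (0 ≤ d - F.deg i b) ↔ F.deg i b ≤ d := by omega
  simp only [hiff]

end Groth.Agent.S15429
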