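import Groth.Statements.S15432
import Mathlib
import Groth.Agent.Lib.Helper77.HilbBurch
import Groth.Agent.Lib.Helper77.GrSyzBasic
import Groth.Agent.Lib.Helper77.GrHilbert

set_option autoImplicit false
universe u
open GrSyz Groth.Agent.Lib.Helper77

namespace Groth.Agent.S15432

/-- Let k be a field, Z a nonempty finite set of nonzero vectors of k^3, regarded as points of the
projective plane, I ⊆ S = k[x_0, x_1, x_2] the homogeneous vanishing ideal of Z (a polynomial lies
in I exactly when each of its homogeneous components vanishes at every vector of Z), M = S/I given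
as a ℤ-graded S-module with a surjective degree-preserving S-linear map π : S → M with kernel I, and
F a minimal graded free resolution of M of length at most 2 whose terms F_1 and F_2 have ranks t + 1
and t, with basis degrees a_1 ≥ … ≥ a_{t+1} for F_1 and b_1 ≥ … ≥ b_t for F_2 (non-increasing along
the chosen bases), so that the (i, j) entry of the matrix F_2 → F_1 has degree b_j − a_i. Put e_i =
b_i − a_i and f_i = b_i − a_{i+1}. Then e_i ≥ 1 and f_i ≥ 1 for every i, and Σ_i a_i = Σ_j b_j
(equivalently a_i = Σ_{j < i} e_j + Σ_{j ≥ i} f_j for every i). (The ordering of both bases is the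
standing assumption under which the published statement is made; this row carries it as the
hypotheses on the basis degrees. The further inequalities f_i ≥ e_i and f_i ≥ e_{i+1} follow at once
from the ordering and are not restated.) -/
theorem result (k : Type u) [Field k]
    (Z : Finset (Fin 3 → k)) (hZ : ∀ p ∈ Z, p ≠ 0) (hZne : Z.Nonempty) (I : Ideal (MvPolynomial (Fin 3) k))
    (hI : ∀ f : MvPolynomial (Fin 3) k, f ∈ I ↔
      ∀ p ∈ Z, ∀ j : ℕ, MvPolynomial.eval p (MvPolynomial.homogeneousComponent j f) = 0)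
    (M : Type u) [AddCommGroup M] [Module k M] [Module (MvPolynomial (Fin 3) k) M] [IsScalarTower k (MvPolynomial (Fin 3) k) M]
    (ℳ : ℤ → Submodule k M) [DirectSum.Decomposition ℳ] [SetLike.GradedSMul (GrSyz.stdGr k (Fin 3)) ℳ]
    (π : MvPolynomial (Fin 3) k →ₗ[MvPolynomial (Fin 3) k] M) (hπ : Function.Surjective π)
    (hπg : GrLC.IsGrHom (GrSyz.stdGr k (Fin 3)) ℳ π) (hker : LinearMap.ker π = I)
    (F : GrSyz.FreeRes (GrSyz.stdGr k (Fin 3)) ℳ) (hF : F.IsMinimal (GrSyz.irrel (GrSyz.stdGr k (Fin 3))).toIdeal) (hlen : F.HasLengthLE 2)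
    (t : ℕ) (h1 : F.rk 1 = t + 1) (h2 : F.rk 2 = t)
    (ha : ∀ i j : Fin (t + 1), i ≤ j → F.deg 1 (Fin.cast h1.symm j) ≤ F.deg 1 (Fin.cast h1.symm i))
    (hb : ∀ i j : Fin t, i ≤ j → F.deg 2 (Fin.cast h2.symm j) ≤ F.deg 2 (Fin.cast h2.symm i)) :
    (∀ i : Fin t, 1 ≤ F.deg 2 (Fin.cast h2.symm i) - F.deg 1 (Fin.cast h1.symm i.castSucc) ∧
        1 ≤ F.deg 2 (Fin.cast h2.symm i) - F.deg 1 (Fin.cast h1.symm i.succ)) ∧
      ∑ i : Fin (t + 1), F.deg 1 (Fin.cast h1.symm i) = ∑ j : Fin t, F.deg 2 (Fin.cast h2.symm j) := by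
  classical
  have h1𝔪 : (1 : MvPolynomial (Fin 3) k) ∉ (GrSyz.irrel (GrSyz.stdGr k (Fin 3))).toIdeal :=
    Groth.Agent.Lib.Helper77.one_notMem_irrel k (Fin 3)
  have hr3 : F.rk (1 + 2) = 0 := hlen 3 (by norm_num)
  -- the two matrices with the casts removed
  let Mx : Matrix (Fin (t + 1)) (Fin t) (MvPolynomial (Fin 3) k) :=
    fun p q => F.d 1 (Fin.cast h1.symm p) (Fin.cast h2.symm q)
  let G : Matrix (Fin (F.rk 0)) (Fin (t + 1)) (MvPolynomial (Fin 3) k) :=
    fun a p => F.d 0 a (Fin.cast h1.symm p)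
  have hGM : G * Mx = 0 := by
    apply Matrix.ext
    intro a q
    have := congrFun (congrFun (HilbBurch.d_mul_d F 0) a) (Fin.cast h2.symm q)
    rw [Matrix.mul_apply] at this ⊢
    rw [Matrix.zero_apply] at this ⊢
    rw [← this]
    exact Fintype.sum_equiv (finCongr h1.symm) (fun p => G a p * Mx p q)
      (fun p' => F.d 0 a p' * F.d 1 p' (Fin.cast h2.symm q)) (fun p => rfl)
  have hinj : Function.Injective Mx.mulVec := by
    intro v w hvw
    have hd := HilbBurch.mulVec_injective_of_rk F 1 hr3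
    have : (F.d 1).mulVec (v ∘ Fin.cast h2) = (F.d 1).mulVec (w ∘ Fin.cast h2) := by
      funext p'
      have := congrFun hvw (Fin.cast h1 p')
      simp only [Matrix.mulVec, dotProduct, Mx] at this ⊢
      have e1 : ∀ u : Fin t → MvPolynomial (Fin 3) k,
          ∑ q, F.d 1 p' q * (u ∘ Fin.cast h2) q =
          ∑ q, F.d 1 (Fin.cast h1.symm (Fin.cast h1 p')) (Fin.cast h2.symm q) * u q := fun u =>
        Fintype.sum_equiv (finCongr h2) _ _ (fun q => by simp)
      rw [e1 v, e1 w]
      exact this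
    have := hd this
    funext q
    have := congrFun this (Fin.cast h2.symm q)
    simpa using this
  have hcol : ∀ p, ∃ a, G a p ≠ 0 := fun p =>
    Groth.Agent.Lib.Helper77.freeRes_exists_entry_ne_zero F h1𝔪 hF 0 (Fin.cast h1.symm p)
  have hzero : ∀ (p : Fin (t + 1)) (q : Fin t),
      F.deg 2 (Fin.cast h2.symm q) - F.deg 1 (Fin.cast h1.symm p) ≤ 0 → Mx p q = 0 := fun p q h =>
    Groth.Agent.Lib.Helper77.eq_zero_of_mem_stdGr_of_mem_irrel k (Fin 3) h (F.d_mem 1 _ _) (hF 1 _ _)
  refine ⟨fun i => ⟨?_, ?_⟩, ?_⟩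
  · by_contra hcon
    refine HilbBurch.zero_block_contra G Mx hGM hinj hcol i (fun p q hp hq => hzero p q ?_)
    have := ha p i.castSucc hp
    have := hb i q hq
    omega
  · by_contra hcon
    refine HilbBurch.zero_block_contra' Mx hinj i (fun p q hp hq => hzero p q ?_)
    have := ha p i.succ hp
    have := hb i q hq
    omega
  · -- the Hilbert function is a bounded quadratic for large degrees
    have hH := fun d => GrHilbert.finrank_piece (k := k) (r := 2) F 2 hlen d
    have hbound := fun d => HilbBurch.finrank_piece_le_card (r := 2) Z I hI ℳ π hπ hπg hker d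
    let D : ℤ := ∑ i ∈ Finset.range 3, ∑ b : Fin (F.rk i), |F.deg i b|
    have hD : ∀ i (b : Fin (F.rk i)), i ≤ 2 → F.deg i b ≤ D := by
      intro i b hi
      calc F.deg i b ≤ |F.deg i b| := le_abs_self _
        _ ≤ ∑ b : Fin (F.rk i), |F.deg i b| :=
          Finset.single_le_sum (f := fun b => |F.deg i b|) (fun _ _ => abs_nonneg _) (Finset.mem_univ b)
        _ ≤ D := Finset.single_le_sum (f := fun i => ∑ b : Fin (F.rk i), |F.deg i b|)
          (fun _ _ => Finset.sum_nonneg fun _ _ => abs_nonneg _) (Finset.mem_range.2 (by omega))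
    let A : ℤ := (F.rk 0 : ℤ) - F.rk 1 + F.rk 2
    let B : ℤ := (∑ b, (3 - 2 * F.deg 0 b)) - (∑ b, (3 - 2 * F.deg 1 b)) + ∑ b, (3 - 2 * F.deg 2 b)
    let C : ℤ := (∑ b, ((F.deg 0 b) ^ 2 - 3 * F.deg 0 b + 2)) -
      (∑ b, ((F.deg 1 b) ^ 2 - 3 * F.deg 1 b + 2)) + ∑ b, ((F.deg 2 b) ^ 2 - 3 * F.deg 2 b + 2)
    have hquad : ∀ d, D ≤ d → 2 * (Module.finrank k ↥(ℳ d) : ℤ) = A * d ^ 2 + B * d + C := by
      intro d hd
      have hs : ∀ i, i ≤ 2 → 2 * ∑ b : Fin (F.rk i),
          (if F.deg i b ≤ d then ((Nat.choose (2 + (d - F.deg i b).toNat) 2 : ℕ) : ℤ) else 0) =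
          (F.rk i : ℤ) * d ^ 2 + (∑ b, (3 - 2 * F.deg i b)) * d +
            ∑ b, ((F.deg i b) ^ 2 - 3 * F.deg i b + 2) := by
        intro i hi
        rw [← HilbBurch.sum_quad, Finset.mul_sum]
        refine Finset.sum_congr rfl fun b _ => ?_
        have := hD i b hi
        rw [if_pos (by omega)]
        exact HilbBurch.two_mul_choose _ (by omega)
      rw [hH d]
      simp only [Finset.sum_range_succ, Finset.sum_range_zero, zero_add, pow_zero, pow_one, one_mul]
      have e0 := hs 0 (by norm_num)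
      have e1 := hs 1 (by norm_num)
      have e2 := hs 2 (by norm_num)
      simp only [A, B, C]
      linear_combination e0 - e1 + e2
    have hAB := HilbBurch.quad_bounded A B C (2 * (Z.card : ℤ)) D (fun d hd => by
      rw [← hquad d hd, abs_le]
      have := hbound d
      constructor <;> [skip; skip] <;> omega)
    obtain ⟨hA0, hB0⟩ := hAB
    have hrk0 : F.rk 0 = 1 := by
      simp only [A] at hA0
      rw [h1, h2] at hA0
      push_cast at hA0
      omega
    let b₀ : Fin (F.rk 0) := ⟨0, by omega⟩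
    have hb₀ : ∀ b : Fin (F.rk 0), b = b₀ := fun b => Fin.ext (by have := b.2; simp only [b₀]; omega)
    -- `π 1 ≠ 0`
    have hπ1 : π 1 ≠ 0 := by
      intro h
      have hmem : (1 : MvPolynomial (Fin 3) k) ∈ I := by
        rw [← hker]; exact LinearMap.mem_ker.2 h
      rw [hI] at hmem
      obtain ⟨p, hp⟩ := hZne
      have := hmem p hp 0
      simp [MvPolynomial.homogeneousComponent_zero] at this
    -- the generator of `F_0` has degree `0`
    have he : F.deg 0 b₀ = 0 := by
      rcases lt_trichotomy (F.deg 0 b₀) 0 with hneg | h0 | hpos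
      · exfalso
        obtain ⟨s, hs, hs'⟩ := HilbBurch.exists_mem_stdGr_of_mem (r := 2) ℳ π hπ hπg _ _ (F.aug_mem b₀)
        have hfin : Module.Finite k ↥(GrSyz.stdGr k (Fin (2 + 1)) (F.deg 0 b₀)) :=
          GrHilbert.finite_stdGr k 2 _
        have hs0 : s = 0 := by
          have h0 := GrHilbert.finrank_stdGr_neg k 2 _ hneg
          rw [Submodule.finrank_eq_zero] at h0
          rw [h0] at hs
          exact (Submodule.mem_bot _).1 hs
        rw [hs0, map_zero] at hs'
        obtain ⟨v, hv⟩ := F.aug_surjective (π 1)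
        apply hπ1
        rw [← hv, Fintype.linearCombination_apply]
        refine Finset.sum_eq_zero fun b _ => ?_
        rw [hb₀ b, ← hs', smul_zero]
      · exact h0
      · exfalso
        have hfr : Module.finrank k ↥(GrStrand.strand F 0 0) = 0 := by
          rw [GrHilbert.finrank_strand]
          refine Finset.sum_eq_zero fun b _ => ?_
          rw [hb₀ b, if_neg (by omega)]
        have hsub : Subsingleton ↥(GrStrand.strand F 0 0) := Module.finrank_zero_iff.1 hfr
        have h1mem : π 1 ∈ ℳ 0 := hπg 0 1 (SetLike.GradedOne.one_mem)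
        obtain ⟨w, hw⟩ := GrStrand.augS_surjective F 0 ⟨π 1, h1mem⟩
        have hw0 : w = 0 := Subsingleton.elim _ _
        rw [hw0, map_zero] at hw
        exact hπ1 (congrArg Subtype.val hw).symm
    -- unfold `B = 0`
    have s0 : ∑ b, (3 - 2 * F.deg 0 b) = 3 := by
      rw [Fintype.sum_eq_single b₀ (fun b hb => absurd (hb₀ b) hb), he]
      norm_num
    have s1 : ∑ b, (3 - 2 * F.deg 1 b) =
        3 * ((t : ℤ) + 1) - 2 * ∑ i : Fin (t + 1), F.deg 1 (Fin.cast h1.symm i) := by
      rw [← Fintype.sum_equiv (finCongr h1.symm) (fun i => 3 - 2 * F.deg 1 (Fin.cast h1.symm i))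
        (fun b => 3 - 2 * F.deg 1 b) (fun _ => rfl)]
      rw [Finset.sum_sub_distrib, ← Finset.mul_sum]
      simp
      ring
    have s2 : ∑ b, (3 - 2 * F.deg 2 b) =
        3 * (t : ℤ) - 2 * ∑ j : Fin t, F.deg 2 (Fin.cast h2.symm j) := by
      rw [← Fintype.sum_equiv (finCongr h2.symm) (fun i => 3 - 2 * F.deg 2 (Fin.cast h2.symm i))
        (fun b => 3 - 2 * F.deg 2 b) (fun _ => rfl)]
      rw [Finset.sum_sub_distrib, ← Finset.mul_sum]
      simp
      ring
    simp only [B] at hB0
    rw [s0, s1, s2] at hB0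
    linarith

end Groth.Agent.S15432
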