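import Groth.Statements.S15437
import Mathlib
import Groth.Agent.Lib.Helper77.GrHilbert

set_option autoImplicit false
universe u
open GrSyz

namespace Groth.Agent.S15437

section helpers
variable {k : Type u} [Field k] {r : ℕ}
variable {M : Type u} [AddCommGroup M] [Module k M] [Module (MvPolynomial (Fin (r + 1)) k) M]
  [IsScalarTower k (MvPolynomial (Fin (r + 1)) k) M]
  {ℳ : ℤ → Submodule k M} [DirectSum.Decomposition ℳ] [SetLike.GradedSMul (stdGr k (Fin (r + 1))) ℳ]
  (F : FreeRes (stdGr k (Fin (r + 1))) ℳ)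

/-- the finite set of all generator degrees in homological degrees `≤ m`. -/
noncomputable def degSet (m : ℕ) : Finset ℤ :=
  (Finset.range (m + 1)).biUnion (fun i => Finset.univ.image (F.deg i))

theorem betti_eq_zero_of_notMem {m : ℕ} {i : ℕ} (hi : i ∈ Finset.range (m + 1)) {j : ℤ}
    (hj : j ∉ degSet F m) : F.betti i j = 0 := by
  unfold FreeRes.betti
  rw [Finset.card_eq_zero, Finset.filter_eq_empty_iff]
  intro b _ hb
  apply hj
  unfold degSet
  rw [Finset.mem_biUnion]
  exact ⟨i, hi, Finset.mem_image.2 ⟨b, Finset.mem_univ _, hb⟩⟩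

/-- fibrewise summation over generator degrees. -/
theorem sum_deg_eq (m : ℕ) (i : ℕ) (hi : i ∈ Finset.range (m + 1)) (t : ℤ → ℤ) :
    ∑ b : Fin (F.rk i), t (F.deg i b) = ∑ j ∈ degSet F m, (F.betti i j : ℤ) * t j := by
  have hmaps : ∀ b ∈ (Finset.univ : Finset (Fin (F.rk i))), F.deg i b ∈ degSet F m := by
    intro b _
    unfold degSet
    rw [Finset.mem_biUnion]
    exact ⟨i, hi, Finset.mem_image.2 ⟨b, Finset.mem_univ _, rfl⟩⟩
  rw [← Finset.sum_fiberwise_of_maps_to hmaps]
  refine Finset.sum_congr rfl fun j _ => ?_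
  unfold FreeRes.betti
  rw [Finset.card_eq_sum_ones, Nat.cast_sum, Finset.sum_mul]
  refine Finset.sum_congr rfl fun b hb => ?_
  rw [(Finset.mem_filter.1 hb).2]
  simp

/-- alternating Betti sums. -/
noncomputable def altBetti (m : ℕ) (j : ℤ) : ℤ := ∑ i ∈ Finset.range (m + 1), (-1 : ℤ) ^ i * (F.betti i j : ℤ)

theorem altBetti_eq_zero_of_notMem {m : ℕ} {j : ℤ} (hj : j ∉ degSet F m) : altBetti F m j = 0 := by
  unfold altBetti
  apply Finset.sum_eq_zero
  intro i hi
  rw [betti_eq_zero_of_notMem F hi hj]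
  simp

theorem finrank_piece_betti (m : ℕ) (hF : F.HasLengthLE m) (d : ℤ) :
    (Module.finrank k ↥(ℳ d) : ℤ) = ∑ j ∈ degSet F m, altBetti F m j *
      (if j ≤ d then ((Nat.choose (r + (d - j).toNat) r : ℕ) : ℤ) else 0) := by
  rw [Groth.Agent.Lib.Helper77.GrHilbert.finrank_piece F m hF d]
  unfold altBetti
  simp only [Finset.sum_mul]
  rw [Finset.sum_comm]
  refine Finset.sum_congr rfl fun i hi => ?_
  rw [sum_deg_eq F m i hi (fun j => if j ≤ d then ((Nat.choose (r + (d - j).toNat) r : ℕ) : ℤ) else 0),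
    Finset.mul_sum]
  refine Finset.sum_congr rfl fun j _ => ?_
  ring


theorem result' (m : ℕ) (hF : F.HasLengthLE m) :
    (∀ d : ℤ, (Module.finrank k ↥(ℳ d) : ℤ) =
        ∑ᶠ j : ℤ, (∑ i ∈ Finset.range (m + 1), (-1 : ℤ) ^ i * (F.betti i j : ℤ)) *
          (if j ≤ d then ((Nat.choose (r + (d - j).toNat) r : ℕ) : ℤ) else 0)) ∧
      ∀ j : ℤ, (∑ i ∈ Finset.range (m + 1), (-1 : ℤ) ^ i * (F.betti i j : ℤ)) =
        (Module.finrank k ↥(ℳ j) : ℤ) -
          ∑ᶠ n : ℤ, (if n < j then (∑ i ∈ Finset.range (m + 1), (-1 : ℤ) ^ i * (F.betti i n : ℤ)) * ((Nat.choose (r + (j - n).toNat) r : ℕ) : ℤ) else 0) := by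
  have part1 : ∀ d : ℤ, (Module.finrank k ↥(ℳ d) : ℤ) =
        ∑ᶠ j : ℤ, altBetti F m j *
          (if j ≤ d then ((Nat.choose (r + (d - j).toNat) r : ℕ) : ℤ) else 0) := by
    intro d
    rw [finrank_piece_betti F m hF d]
    symm
    apply finsum_eq_sum_of_support_subset
    intro j hj
    by_contra hjn
    apply hj
    have hjn' : j ∉ degSet F m := hjn
    show altBetti F m j * _ = 0
    rw [altBetti_eq_zero_of_notMem F hjn', zero_mul]
  refine ⟨part1, ?_⟩
  intro j
  show altBetti F m j = _ - ∑ᶠ n : ℤ, (if n < j then altBetti F m n * _ else 0)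
  rw [part1 j]
  -- split the finsum at n = j
  have hsplit : ∀ n : ℤ, altBetti F m n *
      (if n ≤ j then ((Nat.choose (r + (j - n).toNat) r : ℕ) : ℤ) else 0) =
      (if n = j then altBetti F m j else 0) +
      (if n < j then altBetti F m n * ((Nat.choose (r + (j - n).toNat) r : ℕ) : ℤ) else 0) := by
    intro n
    rcases lt_trichotomy n j with h | h | h
    · simp [h, h.le, h.ne]
    · subst h; simp
    · simp [h.not_ge, h.not_gt, h.ne']
  simp only [hsplit]
  have hfin1 : (Function.support fun n : ℤ => if n = j then altBetti F m j else 0).Finite := by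
    apply Set.Finite.subset (Set.finite_singleton j)
    intro n hn
    by_contra hne
    apply hn
    simp only [Set.mem_singleton_iff] at hne
    simp [hne]
  have hfin2 : (Function.support fun n : ℤ =>
      if n < j then altBetti F m n * ((Nat.choose (r + (j - n).toNat) r : ℕ) : ℤ) else 0).Finite := by
    apply Set.Finite.subset (Finset.finite_toSet (degSet F m))
    intro n hn
    by_contra hne
    apply hn
    have : n ∉ degSet F m := hne
    simp [altBetti_eq_zero_of_notMem F this]
  rw [finsum_add_distrib hfin1 hfin2, finsum_eq_single _ j (fun n hn => by simp [hn])]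
  simp


end helpers

/-- Let k be a field, S = k[x_0, …, x_r] graded by degree and M a ℤ-graded S-module with a finite graded
free resolution F of length at most m by free modules of finite rank with homogeneous bases; write
β_{i,j} for the number of basis vectors of F_i of degree j (the graded Betti numbers when F is
minimal) and B_j = Σ_{i ≤ m} (−1)^i β_{i,j}. Then for every integer d, dim_k M_d = Σ_j B_j C(r + d −
j, r), where a binomial with d < j counts as zero and only finitely many j contribute; and the B_j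
are recovered from the Hilbert function by B_j = dim_k M_j − Σ_{n < j} B_n C(r + j − n, r). (Stated
for any finite graded free resolution; the published statement takes the minimal one.) -/
theorem result (k : Type u) [Field k] (r : ℕ)
    (M : Type u) [AddCommGroup M] [Module k M] [Module (MvPolynomial (Fin (r + 1)) k) M]
    [IsScalarTower k (MvPolynomial (Fin (r + 1)) k) M] [Module.Finite (MvPolynomial (Fin (r + 1)) k) M]
    (ℳ : ℤ → Submodule k M) [DirectSum.Decomposition ℳ] [SetLike.GradedSMul (GrSyz.stdGr k (Fin (r + 1))) ℳ]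
    (F : GrSyz.FreeRes (GrSyz.stdGr k (Fin (r + 1))) ℳ) (m : ℕ) (hF : F.HasLengthLE m) :
    (∀ d : ℤ, (Module.finrank k ↥(ℳ d) : ℤ) =
        ∑ᶠ j : ℤ, (∑ i ∈ Finset.range (m + 1), (-1 : ℤ) ^ i * (F.betti i j : ℤ)) *
          (if j ≤ d then ((Nat.choose (r + (d - j).toNat) r : ℕ) : ℤ) else 0)) ∧
      ∀ j : ℤ, (∑ i ∈ Finset.range (m + 1), (-1 : ℤ) ^ i * (F.betti i j : ℤ)) =
        (Module.finrank k ↥(ℳ j) : ℤ) -
          ∑ᶠ n : ℤ, (if n < j then (∑ i ∈ Finset.range (m + 1), (-1 : ℤ) ^ i * (F.betti i n : ℤ)) * ((Nat.choose (r + (j - n).toNat) r : ℕ) : ℤ) else 0) := by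
  exact result' F m hF

end Groth.Agent.S15437
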