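import Groth.Statements.S15441
import Groth.Agent.Lib.Helper79.WeilCyc

set_option autoImplicit false
universe u v
open WeilCoh

namespace Groth.Agent.S15441

open AlgebraicGeometry CategoryTheory in
/-- Let k be an algebraically closed field of characteristic zero, K a field of characteristic zero and
T a Weil cohomology theory over k with coefficients in K, defined on connected smooth projective
varieties over k; let X be such a variety, δ the weight function on X induced from weight 0 on the
point Spec k, and α a zero-cycle on X for δ. Then α is homologically equivalent to zero for T, i.e.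
its cycle class in the cohomology of X vanishes, if and only if the degree of α over k is zero. -/
theorem result (k : Type u) [Field k] [IsAlgClosed k]
    [CharZero k] (K : Type v) [Field K] [CharZero K] (T : WeilCoh.Theory k K) (X : WeilCoh.Var k)
    [QuasiCompact X.obj.hom] (δ : ↥X.obj.left → ℤ) (hδ : Cyc.DeltaCompat X.obj.hom δ (fun _ => 0))
    (α : AlgebraicCycle X.obj.left ℤ) (hα : α ∈ Cyc.Zk X.obj.left δ 0) :
    T.IsHomEquivZero X α ↔ ChowOps.deg X.obj.hom δ α = 0 := by
  obtain ⟨x0, hx0⟩ := Groth.Agent.Lib.Helper79.Weil.exists_closed_point X
  unfold WeilCoh.TheoryOn.IsHomEquivZero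
  rw [Groth.Agent.Lib.Helper79.Weil.clCyc_zero_eq T X δ hδ α hα x0 hx0,
    Groth.Agent.Lib.Helper79.Weil.deg_eq_finsum X.obj.hom δ hδ α hα]
  have hne : T.cl X x0 ≠ 0 := by
    intro h0
    have := Groth.Agent.Lib.Helper79.Weil.tr_cl_of_isClosed T X x0 hx0
    rw [h0, map_zero] at this
    exact zero_ne_one this
  rw [smul_eq_zero]
  constructor
  · rintro (h | h)
    · exact_mod_cast h
    · exact absurd h hne
  · intro h
    left
    exact_mod_cast h

end Groth.Agent.S15441
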