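import Groth.Statements.S15442
-- import your own Groth.Agent.* helpers here

set_option autoImplicit false
universe u v
open CategoryTheory AlgebraicGeometry
open WeilCoh

namespace Groth.Agent.S15442

/-- Let H^* be a Weil cohomology theory, with coefficient field K of characteristic zero, on nonsingular
connected projective varieties over the algebraically closed field k, and X such a variety. Then the
structure morphism K → H^0(X) is an isomorphism: c ↦ c · 1 is a bijection from K onto the degree-0
part of the cohomology ring. -/
theorem result (k : Type u) [Field k] [IsAlgClosed k] (K : Type v) [Field K] [CharZero K]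
    (T : WeilCoh.Theory k K) (X : WeilCoh.Var k) :
    Function.Bijective (fun c : K =>
      (⟨c • (1 : T.H X), (T.gr X 0).smul_mem c (SetLike.one_mem_graded (T.gr X))⟩ : ↥(T.gr X 0))) := by
  classical
  -- the top degree piece is one-dimensional
  set n : ℤ := 2 * (WeilCoh.dim X.obj.left : ℤ) with hn
  have htop : Module.finrank K ↥(T.gr X n) = 1 := by
    have e : ↥(T.gr X n) ≃ₗ[K] K := LinearEquiv.ofBijective _ (T.tr_bijective X)
    rw [e.finrank_eq, Module.finrank_self]
  -- Poincare duality: degree 0 and the top degree have the same dimension
  haveI := T.duality X 0 n (by omega)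
  have h0 : Module.finrank K ↥(T.gr X 0) = 1 := by
    rw [← htop]
    exact Module.finrank_of_isPerfPair (WeilCoh.pairing K (T.gr X 0) (T.gr X n) (T.tr X))
  -- 1 ≠ 0 in H X
  have hone : (1 : T.H X) ≠ 0 := by
    intro h1
    have hsub : Subsingleton (T.H X) := subsingleton_of_zero_eq_one h1.symm
    have : Module.finrank K ↥(T.gr X n) = 0 := by
      haveI : Subsingleton ↥(T.gr X n) := ⟨fun a b => Subtype.ext (Subsingleton.elim _ _)⟩
      exact Module.finrank_zero_of_subsingleton
    omega
  let φ : K →ₗ[K] ↥(T.gr X 0) :=
    { toFun := fun c => ⟨c • (1 : T.H X), (T.gr X 0).smul_mem c (SetLike.one_mem_graded (T.gr X))⟩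
      map_add' := fun a b => Subtype.ext (add_smul a b 1)
      map_smul' := fun a b => Subtype.ext (by simp [mul_smul]) }
  have hinj : Function.Injective φ := by
    intro a b hab
    have : a • (1 : T.H X) = b • (1 : T.H X) := congrArg Subtype.val hab
    exact smul_left_injective K hone this
  have hsurj : Function.Surjective φ := by
    refine (LinearMap.injective_iff_surjective_of_finrank_eq_finrank ?_).mp hinj
    rw [Module.finrank_self, h0]
  exact ⟨hinj, hsurj⟩

end Groth.Agent.S15442
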