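import Groth.Statements.S15447
import Groth.Agent.Lib.Helper78.WeilPush

set_option autoImplicit false
universe u v
open CategoryTheory AlgebraicGeometry
open WeilCoh

namespace Groth.Agent.S15447

/-- For a Weil cohomology theory H^* (coefficients in K of characteristic zero, on nonsingular connected
projective varieties over an algebraically closed field k) and morphisms f : X → Y and g : Y → Z of
such varieties, (g ∘ f)_* = g_* ∘ f_* on H^*(X); stated on each H^i(X), with both sides read in the
total cohomology ring of Z. -/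
theorem result (k : Type u) [Field k] [IsAlgClosed k] (K : Type v) [Field K] [CharZero K]
    (T : WeilCoh.Theory k K) (X Y Z : WeilCoh.Var k) (f : X ⟶ Y) (g : Y ⟶ Z) (i : ℤ)
    (a : ↥(T.gr X i)) :
    (T.push (f ≫ g) i a : T.H Z) =
      (T.push g (i + 2 * (WeilCoh.dim Y.obj.left : ℤ) - 2 * (WeilCoh.dim X.obj.left : ℤ))
        (T.push f i a) : T.H Z) := by
  set dX : ℤ := (WeilCoh.dim X.obj.left : ℤ) with hdX
  set dY : ℤ := (WeilCoh.dim Y.obj.left : ℤ) with hdY
  set dZ : ℤ := (WeilCoh.dim Z.obj.left : ℤ) with hdZ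
  refine Groth.Agent.Lib.Helper78.eq_of_forall_tr_mul_eq T Z (i + 2 * dZ - 2 * dX)
    (2 * dX - i) (by omega) _ _ (Subtype.mem _) ?_ ?_
  · exact Groth.Agent.Lib.Helper78.mem_gr_of_eq T Z (by omega)
      (Subtype.mem (T.push g (i + 2 * dY - 2 * dX) (T.push f i a)))
  · intro b hb
    rw [Groth.Agent.Lib.Helper78.tr_push_mul T (f ≫ g) i a b hb]
    have hb' : b ∈ T.gr Z (2 * dY - (i + 2 * dY - 2 * dX)) :=
      Groth.Agent.Lib.Helper78.mem_gr_of_eq T Z (by omega) hb
    rw [Groth.Agent.Lib.Helper78.tr_push_mul T g (i + 2 * dY - 2 * dX) (T.push f i a) b hb']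
    rw [Groth.Agent.Lib.Helper78.tr_push_mul T f i a _ (T.pull_mem g _ b hb)]
    rw [T.pull_comp f g]
    rfl

end Groth.Agent.S15447
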