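import Groth.Statements.S15448
import Groth.Agent.Lib.Helper79.WeilDimTr

set_option autoImplicit false
universe u v
open CategoryTheory AlgebraicGeometry
open WeilCoh

namespace Groth.Agent.S15448

/-- For a Weil cohomology theory H^* (coefficients in K of characteristic zero, on nonsingular connected
projective varieties over an algebraically closed field k), a morphism f : X → Y of such varieties
and an irreducible closed subvariety Z ⊆ X, f_*(cl(Z)) = deg(Z/f(Z)) · cl(f(Z)). Here Z is given by
its generic point ξ, f(Z) is the closed irreducible subset with generic point f(ξ), and deg(Z/f(Z))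
is the degree of κ(ξ) over κ(f(ξ)), equal to 0 when this extension is infinite, i.e. when dim f(Z) <
dim Z; both sides are read in the total cohomology ring of Y. -/
theorem result (k : Type u) [Field k] [IsAlgClosed k] (K : Type v) [Field K] [CharZero K]
    (T : WeilCoh.Theory k K) (X Y : WeilCoh.Var k) (f : X ⟶ Y)
    (ξ : ↥X.obj.left) :
    (T.push f (2 * (WeilCoh.codim X.obj.left ξ : ℤ)) ⟨T.cl X ξ, T.cl_mem X ξ⟩ : T.H Y) =
      ((WeilCoh.sm f).residueDegree ξ : K) • T.cl Y (WeilCoh.sm f ξ) := by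
  have h1 := Groth.Agent.Lib.Helper79.Weil.codim_add_pdim X ξ
  have h2 := Groth.Agent.Lib.Helper79.Weil.codim_add_pdim Y (WeilCoh.sm f ξ)
  have hmem : ((WeilCoh.sm f).residueDegree ξ : K) • T.cl Y (WeilCoh.sm f ξ) ∈
      T.gr Y (2 * (WeilCoh.codim X.obj.left ξ : ℤ) + 2 * (WeilCoh.dim Y.obj.left : ℤ) -
        2 * (WeilCoh.dim X.obj.left : ℤ)) := by
    by_cases hdeg : (WeilCoh.sm f).residueDegree ξ = 0
    · rw [hdeg]; simp
    · have hp := Groth.Agent.Lib.Helper79.Weil.pdim_sm_eq f ξ hdeg
      refine Submodule.smul_mem _ _ (Groth.Agent.Lib.Helper78.mem_gr_of_eq T Y ?_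
        (T.cl_mem Y (WeilCoh.sm f ξ)))
      rw [hp] at h2
      omega
  refine Groth.Agent.Lib.Helper78.eq_of_forall_tr_mul_eq T Y _
    (2 * (WeilCoh.dim X.obj.left : ℤ) - 2 * (WeilCoh.codim X.obj.left ξ : ℤ)) (by omega) _ _
    (T.push f _ _).2 hmem ?_
  intro b hb
  rw [Groth.Agent.Lib.Helper78.tr_push_mul T f _ _ b hb, smul_mul_assoc, map_smul, smul_eq_mul]
  exact T.cl_push f ξ b (Groth.Agent.Lib.Helper78.mem_gr_of_eq T Y (by omega) hb)

end Groth.Agent.S15448
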