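import Groth.Statements.S15449
import Groth.Agent.Lib.Helper79.WeilSec

set_option autoImplicit false
universe u v
open CategoryTheory AlgebraicGeometry
open WeilCoh

namespace Groth.Agent.S15449

/-- For a Weil cohomology theory H^* (coefficients in K of characteristic zero, on nonsingular connected
projective varieties over an algebraically closed field k), such varieties X and Y with product X ×
Y and projections p, q, and α ∈ H^i(Y): p_*(q^*(α)) = Tr_Y(α) (as a multiple of 1 ∈ H^0(X)) if i = 2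
dim Y, and p_*(q^*(α)) = 0 otherwise. The product is any object Q with morphisms p : Q → X, q : Q →
Y forming a cartesian square over Spec k; both sides are read in the total cohomology ring of X. -/
theorem result (k : Type u) [Field k] [IsAlgClosed k] (K : Type v) [Field K] [CharZero K]
    (T : WeilCoh.Theory k K) (X Y Q : WeilCoh.Var k) (p : Q ⟶ X) (q : Q ⟶ Y)
    (hQ : WeilCoh.IsProd p q) (i : ℤ) (a : ↥(T.gr Y i)) :
    (i = 2 * (WeilCoh.dim Y.obj.left : ℤ) →
      (T.push p i ⟨T.pull q a, T.pull_mem q i a a.2⟩ : T.H X) = algebraMap K (T.H X) (T.tr Y a)) ∧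
    (i ≠ 2 * (WeilCoh.dim Y.obj.left : ℤ) →
      (T.push p i ⟨T.pull q a, T.pull_mem q i a a.2⟩ : T.H X) = 0) := by
  have hd := Groth.Agent.Lib.Helper79.Weil.dim_prod T p q hQ
  have key : ∀ b ∈ T.gr X (2 * (WeilCoh.dim Q.obj.left : ℤ) - i),
      T.tr X ((T.push p i ⟨T.pull q a, T.pull_mem q i a a.2⟩ : T.H X) * b) =
        (if (i % 2 = 0 ∨ (2 * (WeilCoh.dim Q.obj.left : ℤ) - i) % 2 = 0) then (1 : K) else -1) *
          (T.tr X b * T.tr Y a) := by
    intro b hb
    rw [Groth.Agent.Lib.Helper78.tr_push_mul T p i _ b hb]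
    show T.tr Q (T.pull q (a : T.H Y) * T.pull p b) = _
    rw [Groth.Agent.Lib.Helper79.Weil.gradedComm' T Q i _ _ _ (T.pull_mem q i a a.2)
      (T.pull_mem p _ b hb), map_smul, Groth.Agent.Lib.Helper79.Weil.tr_prod_gen T p q hQ,
      smul_eq_mul]
  constructor
  · intro hi
    have hmem : (T.push p i ⟨T.pull q a, T.pull_mem q i a a.2⟩ : T.H X) ∈ T.gr X 0 :=
      Groth.Agent.Lib.Helper78.mem_gr_of_eq T X (by omega) (T.push p i _).2
    have h1 : algebraMap K (T.H X) (T.tr Y a) ∈ T.gr X 0 := by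
      rw [Algebra.algebraMap_eq_smul_one]
      exact (T.gr X 0).smul_mem _ (SetLike.one_mem_graded (T.gr X))
    refine Groth.Agent.Lib.Helper78.eq_of_forall_tr_mul_eq T X 0 (2 * (WeilCoh.dim X.obj.left : ℤ))
      (by omega) _ _ hmem h1 ?_
    intro b hb
    have hb' : b ∈ T.gr X (2 * (WeilCoh.dim Q.obj.left : ℤ) - i) :=
      Groth.Agent.Lib.Helper78.mem_gr_of_eq T X (by omega) hb
    rw [key b hb', if_pos (Or.inl (by omega)), one_mul, Algebra.algebraMap_eq_smul_one,
      smul_mul_assoc, one_mul, map_smul, smul_eq_mul, mul_comm]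
  · intro hi
    refine Groth.Agent.Lib.Helper78.eq_of_forall_tr_mul_eq T X _ (2 * (WeilCoh.dim Q.obj.left : ℤ) - i)
      (by omega) _ _ (T.push p i _).2 (zero_mem _) ?_
    intro b hb
    rw [key b hb, T.tr_vanish Y i a a.2 hi, mul_zero, mul_zero, zero_mul, map_zero]

end Groth.Agent.S15449
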