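import Groth.Statements.S15465
import Mathlib.CategoryTheory.Abelian.Refinements
-- import your own Groth.Agent.* helpers here

set_option autoImplicit false
universe v u
open HomAlg

namespace Groth.Agent.S15465

open CategoryTheory CategoryTheory.Limits in
/-- In an abelian category let 0 → A₂ → B₂ → C₂ → 0 (maps i₂, π₂), 0 → A₁ → A₂ → A₃ → 0 (maps i₁, p₁)
and 0 → C₁ → C₂ → C₃ → 0 (maps j, q) be short exact sequences, let α = i₁ ≫ i₂ : A₁ → B₂ and β = π₂
≫ q : B₂ → C₃, and let K = ker β / im α be the homology object of the complex A₁ → B₂ → C₃. Let f :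
A₃ → K be the map induced by i₂ (the unique map whose composite with p₁ is the homology class of the
cycle i₂) and g : K → C₁ the map induced by π₂ (the unique map whose composite with j is the map K →
C₂ induced by π₂). Then 0 → A₃ → K → C₁ → 0, with maps f and g, is a short exact sequence. (The
hypotheses w, h₂, h₃ are consequences of i₂ ≫ π₂ = 0, carried so that the maps can be named; the
published statement assumes in addition that the category has enough injective objects, which plays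
no role in this assertion.) -/
theorem result
    {C : Type u} [Category.{v} C] [Abelian C] {A₁ A₂ A₃ B₂ C₁ C₂ C₃ : C}
    (i₁ : A₁ ⟶ A₂) (p₁ : A₂ ⟶ A₃) (wA : i₁ ≫ p₁ = 0) (hA : (ShortComplex.mk i₁ p₁ wA).ShortExact)
    (i₂ : A₂ ⟶ B₂) (π₂ : B₂ ⟶ C₂) (wB : i₂ ≫ π₂ = 0) (hB : (ShortComplex.mk i₂ π₂ wB).ShortExact)
    (j : C₁ ⟶ C₂) (q : C₂ ⟶ C₃) (wC : j ≫ q = 0) (hC : (ShortComplex.mk j q wC).ShortExact)
    (w : (i₁ ≫ i₂) ≫ (π₂ ≫ q) = 0) (h₂ : i₂ ≫ (π₂ ≫ q) = 0) (h₃ : (i₁ ≫ i₂) ≫ π₂ = 0)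
    (f : A₃ ⟶ (CategoryTheory.ShortComplex.mk (i₁ ≫ i₂) (π₂ ≫ q) w).homology)
    (g : (CategoryTheory.ShortComplex.mk (i₁ ≫ i₂) (π₂ ≫ q) w).homology ⟶ C₁)
    (hf : p₁ ≫ f = (CategoryTheory.ShortComplex.mk (i₁ ≫ i₂) (π₂ ≫ q) w).liftCycles i₂ h₂ ≫ (CategoryTheory.ShortComplex.mk (i₁ ≫ i₂) (π₂ ≫ q) w).homologyπ)
    (hg : g ≫ j = (CategoryTheory.ShortComplex.mk (i₁ ≫ i₂) (π₂ ≫ q) w).homologyι ≫ (CategoryTheory.ShortComplex.mk (i₁ ≫ i₂) (π₂ ≫ q) w).descOpcycles π₂ h₃) :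
    ∃ wfg : f ≫ g = 0, (ShortComplex.mk f g wfg).ShortExact := by
  have : Mono i₁ := hA.mono_f
  have : Epi p₁ := hA.epi_g
  have : Mono i₂ := hB.mono_f
  have : Epi π₂ := hB.epi_g
  have : Mono j := hC.mono_f
  have : Epi q := hC.epi_g
  -- key identity: homologyπ ≫ g ≫ j = iCycles ≫ π₂
  have hπgj : (ShortComplex.mk (i₁ ≫ i₂) (π₂ ≫ q) w).homologyπ ≫ g ≫ j = (ShortComplex.mk (i₁ ≫ i₂) (π₂ ≫ q) w).iCycles ≫ π₂ := by
    rw [hg, ← Category.assoc, ShortComplex.homology_π_ι, Category.assoc,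
      ShortComplex.p_descOpcycles]
  have wfg : f ≫ g = 0 := by
    rw [← cancel_epi p₁, ← cancel_mono j, Category.assoc, Category.assoc, ← Category.assoc p₁,
      hf, Category.assoc, hπgj, ShortComplex.liftCycles_i_assoc, wB, comp_zero, zero_comp]
  refine ⟨wfg, ?_⟩
  have hmono : Mono f := by
    rw [Preadditive.mono_iff_cancel_zero]
    intro T x hx
    obtain ⟨T', e, he, y, hy⟩ := surjective_up_to_refinements_of_epi p₁ x
    have h1 : (ShortComplex.mk (i₁ ≫ i₂) (π₂ ≫ q) w).liftCycles (y ≫ i₂) (by rw [Category.assoc, h₂, comp_zero]) ≫ (ShortComplex.mk (i₁ ≫ i₂) (π₂ ≫ q) w).homologyπ = 0 := by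
      have : (ShortComplex.mk (i₁ ≫ i₂) (π₂ ≫ q) w).liftCycles (y ≫ i₂) (by rw [Category.assoc, h₂, comp_zero]) =
          y ≫ (ShortComplex.mk (i₁ ≫ i₂) (π₂ ≫ q) w).liftCycles i₂ h₂ := by
        rw [← cancel_mono (ShortComplex.mk (i₁ ≫ i₂) (π₂ ≫ q) w).iCycles]; simp
      rw [this, Category.assoc, ← hf, ← Category.assoc, ← hy, Category.assoc, hx, comp_zero]
    rw [ShortComplex.liftCycles_comp_homologyπ_eq_zero_iff_up_to_refinements] at h1
    obtain ⟨T'', e', he', z, hz⟩ := h1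
    have h2 : e' ≫ y = z ≫ i₁ := by
      rw [← cancel_mono i₂, Category.assoc, Category.assoc, hz]
    rw [← cancel_epi e, ← cancel_epi e', comp_zero, comp_zero, hy, ← Category.assoc, h2,
      Category.assoc, wA, comp_zero]
  have hepi : Epi g := by
    rw [epi_iff_surjective_up_to_refinements]
    intro T x
    obtain ⟨T', e, he, b, hb⟩ := surjective_up_to_refinements_of_epi π₂ (x ≫ j)
    have hbβ : b ≫ (ShortComplex.mk (i₁ ≫ i₂) (π₂ ≫ q) w).g = 0 := by
      change b ≫ π₂ ≫ q = 0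
      rw [← Category.assoc, ← hb, Category.assoc, Category.assoc, wC, comp_zero, comp_zero]
    refine ⟨T', e, he, (ShortComplex.mk (i₁ ≫ i₂) (π₂ ≫ q) w).liftCycles b hbβ ≫ (ShortComplex.mk (i₁ ≫ i₂) (π₂ ≫ q) w).homologyπ, ?_⟩
    rw [← cancel_mono j, Category.assoc, Category.assoc, Category.assoc, hπgj,
      ShortComplex.liftCycles_i_assoc, hb]
  have hex : (ShortComplex.mk f g wfg).Exact := by
    rw [ShortComplex.exact_iff_exact_up_to_refinements]
    intro T x hx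
    change x ≫ g = 0 at hx
    obtain ⟨T', e, he, z, hz, hzx⟩ := (ShortComplex.mk (i₁ ≫ i₂) (π₂ ≫ q) w).eq_liftCycles_homologyπ_up_to_refinements x
    have h1 : z ≫ π₂ = 0 := by
      have := congrArg (fun t => t ≫ g ≫ j) hzx
      simp only [Category.assoc] at this
      rw [hπgj, ShortComplex.liftCycles_i_assoc, ← Category.assoc x, hx, zero_comp,
        comp_zero] at this
      exact this.symm
    obtain ⟨T'', e', he', a, ha⟩ := hB.exact.exact_up_to_refinements z h1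
    change e' ≫ z = a ≫ i₂ at ha
    refine ⟨T'', e' ≫ e, epi_comp _ _, a ≫ p₁, ?_⟩
    change (e' ≫ e) ≫ x = (a ≫ p₁) ≫ f
    rw [Category.assoc, Category.assoc, hf, hzx]
    rw [← Category.assoc, ← Category.assoc]
    congr 1
    rw [← cancel_mono (ShortComplex.mk (i₁ ≫ i₂) (π₂ ≫ q) w).iCycles]
    simp [ha]
  exact { exact := hex, mono_f := hmono, epi_g := hepi }

end Groth.Agent.S15465
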