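import Groth.Statements.S1547
import Groth.Agent.Lib.Helper21.SepClosedBase
-- import your own Groth.Agent.* helpers here

set_option autoImplicit false
universe u
open CategoryTheory CategoryTheory.Limits AlgebraicGeometry
open Variety

namespace Groth.Agent.S1547

/-- Let k be a separably closed field, X a scheme over k and K any field extension of k. Then taking
images along the projection X_K → X is injective on irreducible components: two irreducible
components of X_K with the same image in X are equal. (Together with surjectivity on irreducible
components, stated separately, this gives a bijection of irreducible components.) -/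
theorem result (k : Type u) [Field k] (X : Scheme.{u}) [X.Over (Spec (CommRingCat.of k))] [IsSepClosed k] (K : Type u) [Field K] [Algebra k K]
    (T T' : Set (Curv2.bc k X K : Type u)) (hT : T ∈ irreducibleComponents (Curv2.bc k X K : Type u))
    (hT' : T' ∈ irreducibleComponents (Curv2.bc k X K : Type u))
    (h : (Curv2.bcFst k X K).base '' T = (Curv2.bcFst k X K).base '' T') : T = T' := by
  have hgi : GeometricallyIrreducible (Curv2.bcFst k X K) :=
    Groth.Agent.Lib.Helper21.geometricallyIrreducible_bcπ_of_isSepClosed _ K
  have hopen : IsOpenMap (Curv2.bcFst k X K) := by
    have : UniversallyOpen (Curv2.bcFst k X K) := inferInstance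
    exact Scheme.Hom.isOpenMap _
  let e := irreducibleComponentsEquivOfIsPreirreducibleFiber (Curv2.bcFst k X K)
    (Curv2.bcFst k X K).continuous hopen
    (fun x => ((Curv2.bcFst k X K).isIrreducible_preimage hopen isIrreducible_singleton).isPreirreducible)
    (Curv2.bcFst k X K).surjective
  have h1 : e.symm ⟨T, hT⟩ = e.symm ⟨T', hT'⟩ := Subtype.ext h
  have h2 := e.symm.injective h1
  exact congrArg Subtype.val h2

end Groth.Agent.S1547
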