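import Groth.Statements.S15488
import Mathlib

set_option autoImplicit false
universe u
open IsoNat

namespace Groth.Agent.S15488

/-- Let A be a nontrivial commutative ring, G a finite group, g an element of G of order ν and l an
element of A with l ^ ν = 1. In the free A-module of functions G → A (the regular representation, g
acting by translation v ↦ v(g·)), the submodule of v with v(g h) = l v(h) for all h is a direct
summand, free of rank |G| / ν (stated as: free, rank · ν = |G|, and a complementary submodule
exists). (The published statement is over an arbitrary ring and also covers Hom(A^N, −) of the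
regular representation, which follows; nontriviality of A is needed for the rank to be meaningful.) -/
theorem result
    (A : Type u) [CommRing A] [Nontrivial A] (G : Type u) [Group G] [Finite G]
    (g : G) (l : A) (hl : l ^ orderOf g = 1) :
    Module.Free A (LinearMap.ker (LinearMap.funLeft A A (fun h : G => g * h) - l • LinearMap.id)) ∧
      Module.finrank A (LinearMap.ker (LinearMap.funLeft A A (fun h : G => g * h) - l • LinearMap.id)) * orderOf g = Nat.card G ∧
      ∃ E' : Submodule A (G → A), IsCompl (LinearMap.ker (LinearMap.funLeft A A (fun h : G => g * h) - l • LinearMap.id)) E' := by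
  classical
  have hfinG : Fintype G := Fintype.ofFinite G
  let Z : Subgroup G := Subgroup.zpowers g
  let Q := Quotient (QuotientGroup.rightRel Z)
  have hfinQ : Fintype Q := Fintype.ofFinite Q
  let π : G → Q := Quotient.mk (QuotientGroup.rightRel Z)
  let rep : Q → G := Quotient.out
  have hrep : ∀ q, π (rep q) = q := fun q => Quotient.out_eq q
  have hπg : ∀ h, π (g * h) = π h := by
    intro h
    apply Quotient.sound
    apply QuotientGroup.rightRel_apply.mpr
    have e : h * (g * h)⁻¹ = g⁻¹ := by group
    rw [e]
    exact Subgroup.inv_mem _ (Subgroup.mem_zpowers g)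
  have hmemZ : ∀ h : G, h * (rep (π h))⁻¹ ∈ Z := by
    intro h
    have h1 : (QuotientGroup.rightRel Z) (rep (π h)) h := Quotient.exact (hrep (π h))
    exact QuotientGroup.rightRel_apply.mp h1
  have hn : ∀ h : G, ∃ n : ℕ, g ^ n = h * (rep (π h))⁻¹ := by
    intro h
    have h1 := hmemZ h
    rw [← mem_powers_iff_mem_zpowers] at h1
    exact (Submonoid.mem_powers_iff _ _).mp h1
  choose n hn using hn
  have hlpow : ∀ a b : ℕ, g ^ a = g ^ b → l ^ a = l ^ b := fun a b h =>
    pow_eq_pow_of_modEq (pow_eq_pow_iff_modEq.mp h) hl
  have hn_g : ∀ h, l ^ n (g * h) = l * l ^ n h := by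
    intro h
    rw [← pow_succ']
    apply hlpow
    rw [hn, hπg, pow_succ', hn]
    group
  have hn_rep : ∀ q, l ^ n (rep q) = 1 := by
    intro q
    rw [← pow_zero l]
    apply hlpow
    rw [hn, hrep, mul_inv_cancel, pow_zero]
  have hh_eq : ∀ h, h = g ^ n h * rep (π h) := by
    intro h
    rw [hn]
    group
  have hE : ∀ v : G → A,
      v ∈ LinearMap.ker (LinearMap.funLeft A A (fun h : G => g * h) - l • LinearMap.id) ↔
        ∀ h, v (g * h) = l * v h := by
    intro v
    rw [LinearMap.mem_ker]
    constructor
    · intro hv h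
      have h1 := congrFun hv h
      simp only [LinearMap.sub_apply, LinearMap.funLeft_apply, LinearMap.smul_apply,
        LinearMap.id_coe, id_eq, Pi.sub_apply, Pi.smul_apply, smul_eq_mul, Pi.zero_apply] at h1
      exact sub_eq_zero.mp h1
    · intro hv
      ext h
      simp only [LinearMap.sub_apply, LinearMap.funLeft_apply, LinearMap.smul_apply,
        LinearMap.id_coe, id_eq, Pi.sub_apply, Pi.smul_apply, smul_eq_mul, Pi.zero_apply]
      rw [hv h, sub_self]
  set E := LinearMap.ker (LinearMap.funLeft A A (fun h : G => g * h) - l • LinearMap.id) with hEdef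
  let Φ : (Q → A) →ₗ[A] (G → A) :=
    { toFun := fun w h => l ^ n h * w (π h)
      map_add' := by
        intro w w'
        ext h
        simp [mul_add]
      map_smul' := by
        intro a w
        ext h
        simp [mul_left_comm] }
  have hΦ_apply : ∀ w h, Φ w h = l ^ n h * w (π h) := fun w h => rfl
  have hΦ_mem : ∀ w, Φ w ∈ E := by
    intro w
    rw [hE]
    intro h
    rw [hΦ_apply, hΦ_apply, hπg, hn_g, mul_assoc]
  have hΦ_rep : ∀ w q, Φ w (rep q) = w q := by
    intro w q
    rw [hΦ_apply, hn_rep, one_mul, hrep]
  have hv_pow : ∀ v ∈ E, ∀ (k : ℕ) (x : G), v (g ^ k * x) = l ^ k * v x := by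
    intro v hv k
    induction k with
    | zero => intro x; simp
    | succ k ih =>
      intro x
      rw [pow_succ', mul_assoc, (hE v).mp hv, ih, pow_succ', mul_assoc]
  have hv_eq : ∀ v ∈ E, v = Φ (fun q => v (rep q)) := by
    intro v hv
    ext h
    rw [hΦ_apply]
    conv_lhs => rw [hh_eq h]
    rw [hv_pow v hv]
  have hΦinj : Function.Injective (Φ.codRestrict E hΦ_mem) := by
    intro w w' hww
    have h1 : Φ w = Φ w' := congrArg Subtype.val hww
    ext q
    rw [← hΦ_rep w q, ← hΦ_rep w' q, h1]
  have hΦsurj : Function.Surjective (Φ.codRestrict E hΦ_mem) := by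
    rintro ⟨v, hv⟩
    exact ⟨fun q => v (rep q), Subtype.ext (hv_eq v hv).symm⟩
  let e : (Q → A) ≃ₗ[A] E := LinearEquiv.ofBijective (Φ.codRestrict E hΦ_mem) ⟨hΦinj, hΦsurj⟩
  refine ⟨Module.Free.of_equiv e, ?_, ?_⟩
  · rw [← LinearEquiv.finrank_eq e, Module.finrank_fintype_fun_eq_card,
      Subgroup.card_eq_card_quotient_mul_card_subgroup Z, Nat.card_zpowers,
      ← Nat.card_congr (QuotientGroup.quotientRightRelEquivQuotientLeftRel Z),
      Nat.card_eq_fintype_card]
  · let E' : Submodule A (G → A) :=
      { carrier := {v | ∀ q, v (rep q) = 0}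
        zero_mem' := fun q => rfl
        add_mem' := by
          intro a b ha hb q
          simp [ha q, hb q]
        smul_mem' := by
          intro c v hv q
          simp [hv q] }
    refine ⟨E', IsCompl.of_eq ?_ ?_⟩
    · rw [eq_bot_iff]
      rintro v ⟨hv, hv'⟩
      rw [Submodule.mem_bot, hv_eq v hv]
      have h0 : (fun q => v (rep q)) = 0 := funext hv'
      rw [h0, map_zero]
    · rw [eq_top_iff]
      intro v _
      refine Submodule.mem_sup.mpr ⟨Φ (fun q => v (rep q)), hΦ_mem _,
        v - Φ (fun q => v (rep q)), ?_, by abel⟩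
      intro q
      simp only [Pi.sub_apply]
      rw [hΦ_rep, sub_self]

end Groth.Agent.S15488
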