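import Groth.Statements.S1549
import Groth.Agent.S1543
import Groth.Agent.S1562
import Groth.Agent.S2451
import Groth.Agent.Lib.Helper62.SmoothStalk
import Mathlib

set_option autoImplicit false
set_option linter.style.haveILetI false
universe u
open CategoryTheory CategoryTheory.Limits AlgebraicGeometry
open Variety

namespace Groth.Agent.S1549

open Groth.Agent.Lib.Helper62 TopologicalSpace

/-- structure maps to the stalks are compatible with stalk maps. -/
theorem stalkMap_stalkStr' {k : Type u} [CommRing k] {X Y : Scheme.{u}}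
    (f : X ⟶ Spec (CommRingCat.of k)) (h : Y ⟶ X) (y : Y) (c : k) :
    (h.stalkMap y).hom (BCStalk.stalkStr f (h y) c) = BCStalk.stalkStr (h ≫ f) y c := by
  simp only [BCStalk.stalkStr, RingHom.comp_apply]
  rw [← CommRingCat.comp_apply, Scheme.Hom.germ_stalkMap]
  simp only [Scheme.Hom.comp_appTop, CommRingCat.hom_comp, RingHom.comp_apply]
  rfl

/-- in a locally Noetherian scheme, the generic point of an irreducible component lies in every
dense open subset. -/
theorem mem_of_dense_of_isGenericPoint (X : Scheme.{u}) [IsLocallyNoetherian X] (U : X.Opens)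
    (hU : Dense (U : Set X)) (Z : Set X) (hZ : Z ∈ irreducibleComponents X) (η : X)
    (hη : IsGenericPoint η Z) : η ∈ U := by
  obtain ⟨_, ⟨V, hV, rfl⟩, hηV, -⟩ :=
    X.isBasis_affineOpens.exists_subset_of_mem_open (Set.mem_univ η) isOpen_univ
  haveI : IsNoetherianRing Γ(X, V) := IsLocallyNoetherian.component_noetherian ⟨V, hV⟩
  haveI : NoetherianSpace V := noetherianSpace_of_isAffineOpen V hV
  haveI : QuasiSober V := (inferInstance : QuasiSober (V : Scheme.{u}))
  let η' : V := ⟨η, hηV⟩
  have hmax : ∀ ζ ∈ (Set.univ : Set V), ζ ⤳ η' → ζ = η' := by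
    intro ζ _ hsp
    have hsp1 : ζ.1 ⤳ η := (subtype_specializes_iff _ _).mp hsp
    have h1 : Z ⊆ closure {ζ.1} := by
      rw [← hη.def]
      exact closure_minimal (Set.singleton_subset_iff.mpr (specializes_iff_mem_closure.mp hsp1))
        isClosed_closure
    have h2 : closure {ζ.1} ⊆ Z := hZ.2 isIrreducible_singleton.closure h1
    have h3 : η ⤳ ζ.1 := by
      rw [specializes_iff_mem_closure, hη.def]
      exact h2 (subset_closure rfl)
    exact Subtype.ext (hsp1.antisymm h3).eq
  have hcomp := Groth.Agent.S1543.closure_mem_irreducibleComponents (Set.univ : Set V) isOpen_univ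
    η' trivial hmax
  obtain ⟨o, ho, hne, hsub⟩ :=
    NoetherianSpace.exists_isOpen_nonempty_subset_irreducibleComponent _ hcomp
  have ho' : IsOpen (Subtype.val '' o : Set X) := V.isOpen.isOpenMap_subtype_val o ho
  obtain ⟨x, ⟨z, hz, rfl⟩, hxU⟩ := hU.inter_open_nonempty _ ho' (hne.image _)
  have h4 : η' ⤳ z := specializes_iff_mem_closure.mpr (hsub hz)
  have h5 : η ⤳ z.1 := (subtype_specializes_iff _ _).mp h4
  exact h5.mem_open U.isOpen hxU

theorem main (k : Type u) [Field k] (X : Scheme.{u}) [X.Over (Spec (CommRingCat.of k))] [IsReduced X] [LocallyOfFiniteType (X ↘ (Spec (CommRingCat.of k)))] :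
    GeometricallyReduced (X ↘ (Spec (CommRingCat.of k))) ↔ ∃ U : X.Opens, Dense (U : Set X) ∧ Smooth (U.ι ≫ (X ↘ (Spec (CommRingCat.of k)))) := by
  haveI : IsLocallyNoetherian X :=
    LocallyOfFiniteType.isLocallyNoetherian (X ↘ Spec (CommRingCat.of k))
  constructor
  · intro hgr
    refine ⟨(X ↘ Spec (CommRingCat.of k)).smoothLocus, ?_, ?_⟩
    · rw [dense_iff_inter_open]
      rintro W hW ⟨x, hxW⟩
      obtain ⟨_, ⟨V, hV, rfl⟩, hxV, -⟩ :=
        X.isBasis_affineOpens.exists_subset_of_mem_open (Set.mem_univ x) isOpen_univ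
      obtain ⟨p, hp, hpx⟩ :=
        Ideal.exists_minimalPrimes_le (bot_le : ⊥ ≤ (hV.primeIdealOf ⟨x, hxV⟩).asIdeal)
      haveI : p.IsPrime := hp.1.1
      let y : PrimeSpectrum Γ(X, V) := ⟨p, inferInstance⟩
      let η' : (V : X.Opens) := hV.isoSpec.inv y
      have hη'y : hV.primeIdealOf η' = y := by
        change hV.isoSpec.hom (hV.isoSpec.inv y) = y
        rw [← Scheme.Hom.comp_apply, Iso.inv_hom_id]
        rfl
      have hsp : η'.1 ⤳ x := by
        have h1 : y ⤳ hV.primeIdealOf ⟨x, hxV⟩ := (PrimeSpectrum.le_iff_specializes _ _).mp hpx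
        have h2 := h1.map hV.fromSpec.continuous
        rw [← hη'y, hV.fromSpec_primeIdealOf, hV.fromSpec_primeIdealOf] at h2
        exact h2
      refine ⟨η'.1, hsp.mem_open hW hxW, ?_⟩
      rw [SetLike.mem_coe, Scheme.Hom.mem_smoothLocus,
        Groth.Agent.S1562.formallySmooth_stalkMap_iff_algebra]
      letI := Curv2.stalkAlgebra k X η'.1
      haveI : Algebra.IsGeometricallyReduced k (X.presheaf.stalk η'.1) :=
        Groth.Agent.S1541.forward k X η'.1
          (Groth.Agent.S1548.forall_of_geometricallyReduced k X η'.1)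
      letI : Algebra Γ(X, V) (X.presheaf.stalk η'.1) := X.presheaf.algebra_section_stalk η'
      haveI hloc := hV.isLocalization_stalk η'
      rw [hη'y] at hloc
      haveI : Ring.KrullDimLE 0 (X.presheaf.stalk η'.1) :=
        Ring.KrullDimLE.of_isLocalization p hp _
      have hF : IsField (X.presheaf.stalk η'.1) := Ring.KrullDimLE.isField_of_isReduced
      letI := hF.toField
      exact Groth.Agent.S2451.result.mpr inferInstance
    · rw [← Scheme.Hom.smoothLocus_eq_top_iff, ← Scheme.Hom.preimage_smoothLocus_eq]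
      ext z
      simp
  · rintro ⟨U, hUd, hUs⟩
    apply Groth.Agent.S1543.main
    intro Z hZ η hη
    have hηU : η ∈ U := mem_of_dense_of_isGenericPoint X U hUd Z hZ η hη
    letI := Curv2.stalkAlgebra k X η
    haveI : Algebra.IsGeometricallyReduced k (X.presheaf.stalk η) := by
      let y : U := ⟨η, hηU⟩
      letI : Algebra k ((U : Scheme.{u}).presheaf.stalk y) :=
        (BCStalk.stalkStr (U.ι ≫ (X ↘ Spec (CommRingCat.of k))) y).toAlgebra
      haveI := SmoothStalk.isGeometricallyReduced_stalk
        (U.ι ≫ (X ↘ Spec (CommRingCat.of k))) y rfl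
      let φ : X.presheaf.stalk η →ₐ[k] (U : Scheme.{u}).presheaf.stalk y :=
        { (U.ι.stalkMap y).hom with
          commutes' := fun c => stalkMap_stalkStr' (X ↘ Spec (CommRingCat.of k)) U.ι y c }
      have hinj : Function.Injective φ :=
        ((ConcreteCategory.isIso_iff_bijective (U.ι.stalkMap y)).mp inferInstance).1
      exact Algebra.IsGeometricallyReduced.of_injective φ hinj
    exact Groth.Agent.S1541.backward k X η


/-- For a reduced scheme locally of finite type over k, being geometrically reduced is equivalent to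
having a dense open subscheme that is smooth over k. -/
theorem result (k : Type u) [Field k] (X : Scheme.{u}) [X.Over (Spec (CommRingCat.of k))] [IsReduced X] [LocallyOfFiniteType (X ↘ (Spec (CommRingCat.of k)))] :
    GeometricallyReduced (X ↘ (Spec (CommRingCat.of k))) ↔ ∃ U : X.Opens, Dense (U : Set X) ∧ Smooth (U.ι ≫ (X ↘ (Spec (CommRingCat.of k)))) := by
  exact main k X

end Groth.Agent.S1549
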