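import Groth.Statements.S15494
import Mathlib.Tactic

set_option autoImplicit false
universe u v
open Dieud

namespace Groth.Agent.S15494

/-- Let W be a commutative ring with a ring endomorphism σ, p a natural number, M a W-module and F an
additive self-map of M with F (w • m) = σ w • F m. Let d ≥ 1, c ≥ 1, h = d + c, and let e_1, …, e_h,
… be vectors of M on which F acts through a display matrix in normal form: F e_i = e_{i+1} for 1 ≤ i
< d; F e_d = Σ_{i=1}^{d} a_{i,d} e_i + e_{d+1}; F e_j = Σ_{i=1}^{d} p a_{i,j} e_i + p e_{j+1} for d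
< j < h; F e_h = Σ_{i=1}^{d} p a_{i,h} e_i. Then F^h e_1 = Σ_{i=1}^{d} Σ_{j=d}^{h} p^{j-d}
σ^{h-j}(a_{i,j}) F^{h+i-j-1} e_1. (The published statement is for the Dieudonné module of a
p-divisible group of dimension d and height h over the Witt ring of a field of characteristic p,
with σ the Frobenius and e_1, …, e_h a basis; this row keeps only the relations which the printed
computation uses, so W, σ, p and the vectors are arbitrary.) -/
theorem result
    (W : Type u) [CommRing W] (σ : W →+* W) (p : ℕ)
    (M : Type v) [AddCommGroup M] [Module W M]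
    (F : M →+ M) (hF : ∀ (w : W) (m : M), F (w • m) = σ w • F m)
    (d c : ℕ) (hd : 0 < d) (hc : 0 < c)
    (a : ℕ → ℕ → W) (e : ℕ → M)
    (h1 : ∀ i : ℕ, 1 ≤ i → i < d → F (e i) = e (i + 1))
    (h2 : F (e d) = (∑ i ∈ Finset.Icc 1 d, a i d • e i) + e (d + 1))
    (h3 : ∀ j : ℕ, d < j → j < d + c →
      F (e j) = (∑ i ∈ Finset.Icc 1 d, ((p : W) * a i j) • e i) + (p : W) • e (j + 1))
    (h4 : F (e (d + c)) = ∑ i ∈ Finset.Icc 1 d, ((p : W) * a i (d + c)) • e i) :
    (⇑F)^[d + c] (e 1) = ∑ i ∈ Finset.Icc 1 d, ∑ j ∈ Finset.Icc d (d + c),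
      ((p : W) ^ (j - d) * (⇑σ)^[d + c - j] (a i j)) • (⇑F)^[d + c + i - j - 1] (e 1) := by
  have L1 : ∀ n : ℕ, n + 1 ≤ d → (⇑F)^[n] (e 1) = e (n + 1) := by
    intro n
    induction n with
    | zero => intro _; rfl
    | succ n ih =>
      intro hn
      rw [Function.iterate_succ_apply', ih (by omega), h1 (n + 1) (by omega) (by omega)]
  have L1' : ∀ i : ℕ, 1 ≤ i → i ≤ d → (⇑F)^[i - 1] (e 1) = e i := by
    intro i hi hid
    have := L1 (i - 1) (by omega)
    rwa [Nat.sub_add_cancel hi] at this
  have hσp : ∀ k : ℕ, σ ((p : W) ^ k) = (p : W) ^ k := by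
    intro k; rw [map_pow, map_natCast]
  have main : ∀ k : ℕ, k ≤ c → (⇑F)^[d + k] (e 1) =
      (∑ i ∈ Finset.Icc 1 d, ∑ j ∈ Finset.Icc d (d + k),
        ((p : W) ^ (j - d) * (⇑σ)^[d + k - j] (a i j)) • (⇑F)^[d + k + i - j - 1] (e 1)) +
      (if k < c then (p : W) ^ k • e (d + k + 1) else 0) := by
    intro k
    induction k with
    | zero =>
      intro _
      have hd' : d = (d - 1) + 1 := by omega
      rw [add_zero, if_pos hc, pow_zero, one_smul]
      conv_lhs => rw [hd', Function.iterate_succ_apply', L1 (d - 1) (by omega), ← hd', h2]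
      congr 1
      apply Finset.sum_congr rfl
      intro i hi
      rw [Finset.mem_Icc] at hi
      rw [Finset.Icc_self, Finset.sum_singleton]
      have h5 : d + i - d - 1 = i - 1 := by omega
      rw [h5, L1' i hi.1 hi.2, Nat.sub_self, pow_zero, Function.iterate_zero, id, one_mul]
    | succ k ih =>
      intro hk
      have hk' : k < c := by omega
      have ihk := ih (by omega)
      rw [if_pos hk'] at ihk
      simp only [← add_assoc]
      rw [Function.iterate_succ_apply', ihk, map_add, map_sum, hF, hσp]
      -- rewrite the double sum for k+1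
      have hsplit : ∀ i ∈ Finset.Icc 1 d,
          (∑ j ∈ Finset.Icc d (d + k + 1),
            ((p : W) ^ (j - d) * (⇑σ)^[d + k + 1 - j] (a i j)) • (⇑F)^[d + k + 1 + i - j - 1] (e 1)) =
          F (∑ j ∈ Finset.Icc d (d + k),
            ((p : W) ^ (j - d) * (⇑σ)^[d + k - j] (a i j)) • (⇑F)^[d + k + i - j - 1] (e 1)) +
          ((p : W) ^ (k + 1) * a i (d + k + 1)) • e i := by
        intro i hi
        rw [Finset.mem_Icc] at hi
        rw [Finset.sum_Icc_succ_top (by omega), map_sum]
        congr 1
        · apply Finset.sum_congr rfl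
          intro j hj
          rw [Finset.mem_Icc] at hj
          rw [hF, map_mul, hσp, ← Function.iterate_succ_apply' (⇑σ), ← Function.iterate_succ_apply' (⇑F)]
          have e1 : d + k + 1 - j = (d + k - j).succ := by omega
          have e2 : d + k + 1 + i - j - 1 = (d + k + i - j - 1).succ := by omega
          rw [e1, e2]
        · have e3 : d + k + 1 - d = k + 1 := by omega
          have e4 : d + k + 1 + i - (d + k + 1) - 1 = i - 1 := by omega
          rw [e3, e4, Nat.sub_self, Function.iterate_zero, id, L1' i hi.1 hi.2]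
      rw [Finset.sum_congr rfl hsplit, Finset.sum_add_distrib]
      refine Eq.trans ?_ (add_assoc _ _ _).symm
      congr 1
      by_cases hkc : k + 1 < c
      · rw [if_pos hkc, h3 (d + k + 1) (by omega) (by omega), smul_add, Finset.smul_sum]
        congr 1
        · apply Finset.sum_congr rfl
          intro i _
          rw [smul_smul, pow_succ, mul_assoc]
        · rw [smul_smul, pow_succ]
      · have hkc' : k + 1 = c := by omega
        rw [if_neg hkc, add_zero]
        have : d + k + 1 = d + c := by omega
        rw [this, h4, Finset.smul_sum]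
        apply Finset.sum_congr rfl
        intro i _
        rw [smul_smul, ← hkc', pow_succ, mul_assoc]
  have := main c le_rfl
  rw [if_neg (lt_irrefl c), add_zero] at this
  exact this

end Groth.Agent.S15494
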