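import Groth.Statements.S15495
import Mathlib

set_option autoImplicit false
universe u
open CAlg

namespace Groth.Agent.S15495

/-- In an Artinian local ring R whose maximal ideal m contains the prime number p, the multiplicative
group 1 + m is annihilated under some power of p: there is n with (1 + x)^(p^n) = 1 for every x in
m. (The published text makes this assertion inside a proof, for Artinian local algebras over the
Witt ring of a perfect field of characteristic p; only p ∈ m and the nilpotence of m are used.) -/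
theorem result
    (R : Type u) [CommRing R] [IsLocalRing R] [IsArtinianRing R]
    (p : ℕ) (hp : p.Prime) (hpm : (p : R) ∈ IsLocalRing.maximalIdeal R) :
    ∃ n : ℕ, ∀ x ∈ IsLocalRing.maximalIdeal R, (1 + x) ^ (p ^ n) = 1 := by
  set m := IsLocalRing.maximalIdeal R with hm
  -- nilpotency of the maximal ideal
  obtain ⟨N, hN⟩ : ∃ N : ℕ, m ^ N = ⊥ := by
    have h := IsArtinianRing.isNilpotent_jacobson_bot (R := R)
    rw [IsLocalRing.jacobson_eq_maximalIdeal ⊥ bot_ne_top] at h
    exact h
  -- key step
  have step : ∀ (j : ℕ) (z : R), z ∈ m → z ∈ m ^ j → (1 + z) ^ p - 1 ∈ m ^ (j + 1) := by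
    intro j z hzm hz
    have hgeom : (1 + z) ^ p - 1 = z * ∑ i ∈ Finset.range p, (1 + z) ^ i := by
      have := mul_geom_sum (1 + z) p
      rw [← this]; ring
    have hs : (∑ i ∈ Finset.range p, (1 + z) ^ i) ∈ m := by
      rw [← Ideal.Quotient.eq_zero_iff_mem, map_sum]
      have h1 : ∀ i ∈ Finset.range p, Ideal.Quotient.mk m ((1 + z) ^ i) = 1 := by
        intro i _
        rw [map_pow, map_add, map_one, Ideal.Quotient.eq_zero_iff_mem.mpr hzm, add_zero, one_pow]
      rw [Finset.sum_congr rfl h1, Finset.sum_const, Finset.card_range, nsmul_eq_mul, mul_one,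
        ← map_natCast (Ideal.Quotient.mk m), Ideal.Quotient.eq_zero_iff_mem]
      exact hpm
    rw [hgeom, pow_succ]
    exact Ideal.mul_mem_mul hz hs
  have key : ∀ (k : ℕ) (x : R), x ∈ m → (1 + x) ^ (p ^ k) - 1 ∈ m ^ (k + 1) := by
    intro k
    induction k with
    | zero => intro x hx; simpa using hx
    | succ k ih =>
      intro x hx
      have h1 := ih x hx
      have h1m : (1 + x) ^ (p ^ k) - 1 ∈ m := Ideal.pow_le_self (Nat.succ_ne_zero k) h1
      have := step (k + 1) _ h1m h1
      rwa [add_sub_cancel, ← pow_mul, ← pow_succ] at this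
  refine ⟨N, fun x hx ↦ ?_⟩
  have h1 := key N x hx
  have h2 : m ^ (N + 1) ≤ m ^ N := Ideal.pow_le_pow_right (Nat.le_succ N)
  have h3 := h2 h1
  rw [hN, Ideal.mem_bot, sub_eq_zero] at h3
  exact h3

end Groth.Agent.S15495
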