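import Groth.Statements.S15496
import Mathlib.RingTheory.LocalRing.ResidueField.Basic
import Mathlib.Algebra.CharP.Lemmas
import Mathlib.Tactic.Ring
import Mathlib.Tactic.Linarith

set_option autoImplicit false
universe u
open CAlg

namespace Groth.Agent.S15496

/-- Let R be a local ring with maximal ideal m, p a prime number lying in m, and suppose the residue
field of R is perfect, i.e. every element is a p-th power; let n ≥ 0. Then every unit of R is the
product of a p^n-th power of a unit and an element of 1 + m, and an element of 1 + m which is a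
p^n-th power of a unit is a p^n-th power of an element of 1 + m; so the inclusion of 1 + m in the
unit group induces a bijection between (1 + m)/(1 + m)^(p^n) and Rˣ/(Rˣ)^(p^n). (The published text
derives this equality of quotients, inside a proof, from perfectness of the base field K for all
Artinian local algebras over its Witt ring, whose residue fields need not be perfect; this row
assumes the residue field of R perfect of characteristic p, which the equality needs, and does not
assume R Artinian.) -/
theorem result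
    (R : Type u) [CommRing R] [IsLocalRing R] (p : ℕ) (hp : p.Prime)
    (hpm : (p : R) ∈ IsLocalRing.maximalIdeal R)
    (hperf : ∀ a : IsLocalRing.ResidueField R, ∃ b : IsLocalRing.ResidueField R, b ^ p = a)
    (n : ℕ) :
    (∀ u : Rˣ, ∃ v : Rˣ, ∃ x ∈ IsLocalRing.maximalIdeal R, (u : R) = (v : R) ^ (p ^ n) * (1 + x)) ∧
    (∀ x ∈ IsLocalRing.maximalIdeal R, (∃ v : Rˣ, (v : R) ^ (p ^ n) = 1 + x) →
      ∃ y ∈ IsLocalRing.maximalIdeal R, (1 + y) ^ (p ^ n) = 1 + x) := by
  classical
  haveI : Fact p.Prime := ⟨hp⟩
  -- the residue field has characteristic `p`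
  have hp0 : (p : IsLocalRing.ResidueField R) = 0 := by
    have := (IsLocalRing.residue_eq_zero_iff (p : R)).2 hpm
    simpa using this
  haveI : CharP (IsLocalRing.ResidueField R) p := by
    rcases CharP.exists (IsLocalRing.ResidueField R) with ⟨c, hc⟩
    have hdvd : c ∣ p := (CharP.cast_eq_zero_iff (IsLocalRing.ResidueField R) c p).1 hp0
    rcases (Nat.dvd_prime hp).1 hdvd with h1 | h1
    · subst h1
      exact absurd (CharP.cast_eq_zero (IsLocalRing.ResidueField R) 1) (by
        rw [Nat.cast_one]; exact one_ne_zero)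
    · subst h1; exact hc
  -- iterated p-th roots in the residue field
  have hroot : ∀ (k : ℕ) (a : IsLocalRing.ResidueField R),
      ∃ b : IsLocalRing.ResidueField R, b ^ (p ^ k) = a := by
    intro k
    induction k with
    | zero => intro a; exact ⟨a, by simp⟩
    | succ k ih =>
      intro a
      obtain ⟨b, hb⟩ := hperf a
      obtain ⟨c, hc⟩ := ih b
      exact ⟨c, by rw [pow_succ, pow_mul, hc, hb]⟩
  refine ⟨?_, ?_⟩
  · intro u
    obtain ⟨b, hb⟩ := hroot n (IsLocalRing.residue R (u : R))
    obtain ⟨v, rfl⟩ := IsLocalRing.residue_surjective b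
    have hu_ne : IsLocalRing.residue R (u : R) ≠ 0 :=
      (IsLocalRing.residue_ne_zero_iff_isUnit _).2 u.isUnit
    have hv_unit : IsUnit v := by
      rw [← IsLocalRing.residue_ne_zero_iff_isUnit]
      intro h0
      rw [h0, zero_pow (pow_pos hp.pos n).ne'] at hb
      exact hu_ne hb.symm
    obtain ⟨v', rfl⟩ := hv_unit
    refine ⟨v', ((v'⁻¹ : Rˣ) : R) ^ (p ^ n) * (u : R) - 1, ?_, ?_⟩
    · rw [← IsLocalRing.residue_eq_zero_iff, map_sub, map_mul, map_pow, map_one, ← hb,
        ← mul_pow, ← map_mul, Units.inv_mul, map_one, one_pow, sub_self]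
    · have : (v' : R) ^ (p ^ n) * ((v'⁻¹ : Rˣ) : R) ^ (p ^ n) = 1 := by
        rw [← mul_pow, Units.mul_inv, one_pow]
      calc (u : R) = ((v' : R) ^ (p ^ n) * ((v'⁻¹ : Rˣ) : R) ^ (p ^ n)) * (u : R) := by
            rw [this, one_mul]
        _ = (v' : R) ^ (p ^ n) * (1 + (((v'⁻¹ : Rˣ) : R) ^ (p ^ n) * (u : R) - 1)) := by ring
  · rintro x hx ⟨v, hv⟩
    refine ⟨(v : R) - 1, ?_, by rw [add_sub_cancel, hv]⟩
    rw [← IsLocalRing.residue_eq_zero_iff, map_sub, map_one]
    have h1 : (IsLocalRing.residue R (v : R)) ^ (p ^ n) = 1 := by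
      rw [← map_pow, hv, map_add, map_one, (IsLocalRing.residue_eq_zero_iff x).2 hx, add_zero]
    have h2 : (IsLocalRing.residue R (v : R) - 1) ^ (p ^ n) = 0 := by
      rw [sub_pow_char_pow, h1, one_pow, sub_self]
    exact pow_eq_zero_iff (pow_pos hp.pos n).ne' |>.1 h2

end Groth.Agent.S15496
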