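import Groth.Statements.S15497
import Mathlib.Tactic.Ring
import Mathlib.Tactic.Linarith

set_option autoImplicit false
universe u v
open Dieud

namespace Groth.Agent.S15497

/-- Let W be a commutative ring, p ∈ W, m, n natural numbers with h = m + n, M a W-module and e_0, e_1,
… vectors of M with e_{i+h} = p e_i for all i ≥ 0, and let φ be a W-linear endomorphism of M with
φ(e_i) = e_{i+m} for 0 ≤ i < h. Then φ^h(e_i) = p^m e_i for every i ≥ 0; so when e_0, …, e_{h−1} is
a basis, φ^h = p^m · id. (The published text asserts φ^h = p^m · id for the free module with basis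
e_0, …, e_{h−1} over the Witt ring of a perfect field, with p the residue characteristic; only the
stated relations are used.) -/
theorem result
    (W : Type u) [CommRing W] (p : W) (m n : ℕ)
    (M : Type v) [AddCommGroup M] [Module W M] (e : ℕ → M)
    (he : ∀ i : ℕ, e (i + (m + n)) = p • e i)
    (φ : M →ₗ[W] M) (hφ : ∀ i : ℕ, i < m + n → φ (e i) = e (i + m)) (i : ℕ) :
    (φ ^ (m + n)) (e i) = p ^ m • e i := by
  by_cases hh : m + n = 0
  · have hm : m = 0 := by omega
    have hn : n = 0 := by omega
    subst hm; subst hn
    simp
  have hpos : 0 < m + n := Nat.pos_of_ne_zero hh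
  -- iterate the shift relation
  have he' : ∀ (k i : ℕ), e (i + k * (m + n)) = p ^ k • e i := by
    intro k
    induction k with
    | zero => intro i; simp
    | succ k ih =>
      intro i
      have : i + (k + 1) * (m + n) = (i + k * (m + n)) + (m + n) := by ring
      rw [this, he, ih, smul_smul, pow_succ']
  -- `φ` shifts all the vectors
  have hφ' : ∀ i : ℕ, φ (e i) = e (i + m) := by
    intro i
    have hdiv : i = i % (m + n) + (i / (m + n)) * (m + n) := by
      have := Nat.mod_add_div i (m + n)
      rw [mul_comm] at this
      exact this.symm
    rw [hdiv, he', map_smul, hφ _ (Nat.mod_lt _ hpos)]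
    have : i % (m + n) + i / (m + n) * (m + n) + m = (i % (m + n) + m) + i / (m + n) * (m + n) := by
      ring
    rw [this, he']
  have hpow : ∀ (j i : ℕ), (φ ^ j) (e i) = e (i + j * m) := by
    intro j
    induction j with
    | zero => intro i; simp
    | succ j ih =>
      intro i
      rw [pow_succ, Module.End.mul_apply, hφ', ih]
      congr 1
      ring
  rw [hpow]
  have : i + (m + n) * m = i + m * (m + n) := by ring
  rw [this, he']

end Groth.Agent.S15497
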