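import Groth.Statements.S15498
import Mathlib
-- import your own Groth.Agent.* helpers here

set_option autoImplicit false
open NewtonPoly

namespace Groth.Agent.S15498

theorem pair_floor (a b : ℕ) (ha : 0 < a) (hab : Nat.Coprime a b) (j : ℕ) (hj0 : 0 < j)
    (hjb : j < b) : j * a / b + (b - j) * a / b = a - 1 := by
  have hb : 0 < b := by omega
  obtain ⟨q, hq⟩ : ∃ q, q = j * a / b := ⟨_, rfl⟩
  obtain ⟨r, hr⟩ : ∃ r, r = j * a % b := ⟨_, rfl⟩
  have h1 : b * q + r = j * a := by rw [hq, hr]; exact Nat.div_add_mod (j * a) b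
  have hrb : r < b := by rw [hr]; exact Nat.mod_lt _ hb
  have hr0 : 0 < r := by
    rw [Nat.pos_iff_ne_zero]
    intro h0
    have hdvd : b ∣ j * a := Nat.dvd_of_mod_eq_zero (by rw [← hr, h0])
    have : b ∣ j := Nat.Coprime.dvd_of_dvd_mul_right hab.symm hdvd
    exact absurd (Nat.le_of_dvd hj0 this) (by omega)
  have hqa : q < a := by
    have h2 : j * a < b * a := Nat.mul_lt_mul_of_pos_right hjb ha
    have : b * q < b * a := by omega
    exact Nat.lt_of_mul_lt_mul_left this
  obtain ⟨s, hs⟩ : ∃ s, a = q + 1 + s := ⟨a - q - 1, by omega⟩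
  have h2 : (b - j) * a = b * s + (b - r) := by
    have h3 : (b - j) * a + j * a = b * a := by rw [← Nat.add_mul, Nat.sub_add_cancel hjb.le]
    have h4 : b * a = b * q + b + b * s := by rw [hs]; ring
    omega
  have h5 : (b - j) * a / b = s := by
    rw [h2, Nat.mul_add_div hb, Nat.div_eq_of_lt (by omega), add_zero]
  rw [h5, ← hq]; omega

theorem sum_floor (a b : ℕ) (ha : 0 < a) (hb : 0 < b) (hab : Nat.Coprime a b) :
    2 * ∑ j ∈ Finset.range b, j * a / b = (a - 1) * (b - 1) := by
  obtain ⟨b', rfl⟩ : ∃ b', b = b' + 1 := ⟨b - 1, by omega⟩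
  rw [Finset.sum_range_succ']
  simp only [zero_mul, Nat.zero_div, add_zero]
  have hrefl := Finset.sum_range_reflect (fun t => (t + 1) * a / (b' + 1)) b'
  have hsum : ∑ t ∈ Finset.range b', ((t + 1) * a / (b' + 1) + (b' - 1 - t + 1) * a / (b' + 1))
      = ∑ t ∈ Finset.range b', (a - 1) := by
    refine Finset.sum_congr rfl fun t ht => ?_
    have ht' : t < b' := Finset.mem_range.mp ht
    have := pair_floor a (b' + 1) ha hab (t + 1) (by omega) (by omega)
    rw [show b' - 1 - t + 1 = b' + 1 - (t + 1) by omega]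
    exact this
  rw [Finset.sum_add_distrib, hrefl, Finset.sum_const, Finset.card_range, smul_eq_mul] at hsum
  simp only [Nat.add_sub_cancel]
  rw [two_mul, hsum, Nat.mul_comm]

theorem fiber_card (m n : ℕ) (hm : 0 < m) (j : ℕ) (hj : j < m) :
    ((Finset.range (m + n + 1)).filter (fun i => i ≤ j + n ∧ j * (m + n) < i * m)).card
      = n - j * n / m := by
  obtain ⟨d, hd⟩ : ∃ d, d = j * n / m := ⟨_, rfl⟩
  have hdn : d ≤ n := by
    rw [hd]
    apply Nat.div_le_of_le_mul
    exact Nat.mul_le_mul_right n hj.le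
  have heq : (Finset.range (m + n + 1)).filter (fun i => i ≤ j + n ∧ j * (m + n) < i * m)
      = Finset.Ioc (j + d) (j + n) := by
    ext i
    simp only [Finset.mem_filter, Finset.mem_range, Finset.mem_Ioc]
    constructor
    · rintro ⟨hi, hle, hlt⟩
      refine ⟨?_, hle⟩
      have e1 : j * (m + n) = j * m + j * n := Nat.mul_add _ _ _
      have hij : j < i := by
        by_contra hcon
        push Not at hcon
        have : i * m ≤ j * m := Nat.mul_le_mul_right m hcon
        omega
      obtain ⟨k, rfl⟩ : ∃ k, i = j + k := ⟨i - j, by omega⟩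
      have e2 : (j + k) * m = j * m + k * m := Nat.add_mul _ _ _
      have h1 : j * n < k * m := by omega
      have : d < k := by rw [hd]; exact (Nat.div_lt_iff_lt_mul hm).mpr h1
      omega
    · rintro ⟨hlt, hle⟩
      refine ⟨by omega, hle, ?_⟩
      obtain ⟨k, rfl⟩ : ∃ k, i = j + k := ⟨i - j, by omega⟩
      have hdk : d < k := by omega
      have h1 : j * n < k * m := by
        rw [hd] at hdk
        exact (Nat.div_lt_iff_lt_mul hm).mp hdk
      have e1 : j * (m + n) = j * m + j * n := Nat.mul_add _ _ _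
      have e2 : (j + k) * m = j * m + k * m := Nat.add_mul _ _ _
      omega
  rw [heq, Nat.card_Ioc, ← hd]
  omega

theorem fiber_top (m n : ℕ) :
    ((Finset.range (m + n + 1)).filter (fun i => i ≤ m + n ∧ m * (m + n) < i * m)).card = 0 := by
  rw [Finset.card_eq_zero, Finset.filter_eq_empty_iff]
  rintro i hi ⟨hle, hlt⟩
  have : i * m ≤ (m + n) * m := Nat.mul_le_mul_right m hle
  rw [Nat.mul_comm m (m + n)] at hlt
  omega

theorem hcard (s t : Finset ℕ) (p : ℕ × ℕ → Prop) [DecidablePred p] :
    ((s ×ˢ t).filter p).card = ∑ j ∈ t, (s.filter (fun i => p (i, j))).card := by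
  rw [Finset.card_filter, Finset.sum_product_right]
  refine Finset.sum_congr rfl fun j _ => ?_
  rw [Finset.card_filter]


/-- Let m, n ≥ 1 be coprime, h = m + n, δ the segment from (0,0) to (h,m) (the isoclinic Newton polygon
of slope m/h) and ρ the ordinary polygon with n slopes 0 followed with m slopes 1, so ρ(i) = max(0,
i − n). The integer points (i,j), 0 ≤ i ≤ h, on or above ρ and strictly below δ — that is max(0, i −
n) ≤ j and j·h < i·m — are (m−1)(n−1)/2 + (m+n−1) in number (which equals mn − r for r =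
(m−1)(n−1)/2). (The published text works under m ≥ n > 0 coprime; the inequality m ≥ n is not used
and not assumed.) -/
theorem result
    (m n : ℕ) (hm : 0 < m) (hn : 0 < n) (hmn : Nat.Coprime m n) :
    ((Finset.range (m + n + 1) ×ˢ Finset.range (m + 1)).filter
      (fun ij : ℕ × ℕ => ij.1 ≤ ij.2 + n ∧ ij.2 * (m + n) < ij.1 * m)).card
      = (m - 1) * (n - 1) / 2 + (m + n - 1) := by
  have step : ((Finset.range (m + n + 1) ×ˢ Finset.range (m + 1)).filter
      (fun ij : ℕ × ℕ => ij.1 ≤ ij.2 + n ∧ ij.2 * (m + n) < ij.1 * m)).card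
      = ∑ j ∈ Finset.range (m + 1), ((Finset.range (m + n + 1)).filter
          (fun i => i ≤ j + n ∧ j * (m + n) < i * m)).card := by
    rw [hcard]
  rw [step, Finset.sum_range_succ, fiber_top m n, add_zero]
  have hfib : ∀ j ∈ Finset.range m, ((Finset.range (m + n + 1)).filter
      (fun i => i ≤ j + n ∧ j * (m + n) < i * m)).card = n - j * n / m :=
    fun j hj => fiber_card m n hm j (Finset.mem_range.mp hj)
  rw [Finset.sum_congr rfl hfib]
  have hle : ∀ j ∈ Finset.range m, j * n / m ≤ n := by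
    intro j hj
    have hj' : j < m := Finset.mem_range.mp hj
    apply Nat.div_le_of_le_mul
    exact Nat.mul_le_mul_right n hj'.le
  have hsum : ∑ j ∈ Finset.range m, (n - j * n / m) + ∑ j ∈ Finset.range m, j * n / m
      = m * n := by
    rw [← Finset.sum_add_distrib, Finset.sum_congr rfl (fun j hj => Nat.sub_add_cancel (hle j hj))]
    simp
  have h2 := sum_floor n m hn hm hmn.symm
  have h3 : (m - 1) * (n - 1) / 2 = ∑ j ∈ Finset.range m, j * n / m := by
    rw [Nat.mul_comm, ← h2, Nat.mul_div_cancel_left _ (by norm_num)]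
  have h4 : (n - 1) * (m - 1) + (m + n - 1) = m * n := by
    obtain ⟨m', rfl⟩ : ∃ m', m = m' + 1 := ⟨m - 1, by omega⟩
    obtain ⟨n', rfl⟩ : ∃ n', n = n' + 1 := ⟨n - 1, by omega⟩
    have : m' + 1 + (n' + 1) - 1 = m' + n' + 1 := by omega
    rw [this]
    simp only [Nat.add_sub_cancel]
    ring
  rw [h3]
  omega

end Groth.Agent.S15498
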