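import Groth.Statements.S15502
import Groth.Agent.Lib.Helper11.LogConn2

set_option autoImplicit false
open Polynomial
universe u
open CAlg

namespace Groth.Agent.S15502

/-- Let S = Spec R be a smooth connected affine complex variety (R a finitely generated smooth ℂ-algebra
and a domain), θ_1, …, θ_r ∈ R pairwise disjoint sections of the affine line over S (θ_i − θ_k a
unit for i ≠ k), Θ = ∏ (X − θ_i) ∈ R[X], and M = R^d. Suppose given an additive operator D₀ on M[X]
= R[X]^d with D₀(p v) = Θ p′ v + p D₀(v) (the action of the logarithmic vector field Θ ∂/∂X for a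
connection on the trivial bundle of rank d on the affine line over S with logarithmic poles along
the θ_i), its extension D to M[X, 1/Θ] = (R[X][1/Θ])^d with the same Leibniz rule, and for each i
the residue endomorphism Res_i of M, characterised by D₀(m)(θ_i) = (∏_{k ≠ i} (θ_i − θ_k)) ·
Res_i(m) for constant m ∈ M, whose characteristic polynomial has complex coefficients and no nonzero
integer root. Then M[X, 1/Θ] = D(M[X, 1/Θ]) + M[X]: every element of (R[X][1/Θ])^d is D of some
element plus an element coming from R[X]^d. (The published claim is made for residues whose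
characteristic roots all lie in the image of a right inverse τ of the quotient map ℂ → ℂ/ℤ with τ(0)
= 0, so that no root is a nonzero integer and no two roots differ by a nonzero integer; this row
assumes only that no nonzero integer is a root, which is all the argument uses.) -/
theorem result
    (R : Type u) [CommRing R] [IsDomain R] [Algebra ℂ R] [Algebra.FiniteType ℂ R]
    [Algebra.Smooth ℂ R] (d r : ℕ) (θ : Fin r → R)
    (hθ : ∀ i k, i ≠ k → IsUnit (θ i - θ k))
    (Θ : R[X]) (hΘ : Θ = ∏ i, (X - Polynomial.C (θ i)))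
    (D₀ : (Fin d → R[X]) →+ (Fin d → R[X]))
    (hD₀ : ∀ (p : R[X]) (v : Fin d → R[X]),
      D₀ (p • v) = (Θ * Polynomial.derivative p) • v + p • D₀ v)
    (D : (Fin d → Localization.Away Θ) →+ (Fin d → Localization.Away Θ))
    (hD : ∀ (p : R[X]) (w : Fin d → Localization.Away Θ),
      D (p • w) = (Θ * Polynomial.derivative p) • w + p • D w)
    (hDD₀ : ∀ v : Fin d → R[X],
      D (fun j => algebraMap R[X] (Localization.Away Θ) (v j)) =
        fun j => algebraMap R[X] (Localization.Away Θ) (D₀ v j))
    (Res : Fin r → ((Fin d → R) →ₗ[R] (Fin d → R)))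
    (hRes : ∀ (i : Fin r) (m : Fin d → R) (j : Fin d),
      (D₀ (fun j => Polynomial.C (m j)) j).eval (θ i) =
        (∏ k ∈ Finset.univ.erase i, (θ i - θ k)) * Res i m j)
    (hχ : ∀ i : Fin r, ∃ χ : ℂ[X], (Res i).charpoly = χ.map (algebraMap ℂ R) ∧
      ∀ n : ℤ, n ≠ 0 → χ.eval (n : ℂ) ≠ 0)
    (w : Fin d → Localization.Away Θ) :
    ∃ (w' : Fin d → Localization.Away Θ) (v : Fin d → R[X]),
      w = D w' + fun j => algebraMap R[X] (Localization.Away Θ) (v j) := by
  classical
  have hmon : Θ.Monic := Groth.Agent.Lib.Helper11.LogConn.Theta_monic θ Θ hΘ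
  have hΘu : IsUnit (algebraMap R[X] (Localization.Away Θ) Θ) :=
    IsLocalization.Away.algebraMap_isUnit Θ
  have hc : ∀ i, IsUnit (∏ k ∈ Finset.univ.erase i, (θ i - θ k)) := fun i =>
    IsUnit.prod_iff.2 (fun k hk => hθ i k (Finset.ne_of_mem_erase hk).symm)
  choose c hc' using hc
  have key : ∀ N : ℕ, ∀ (w : Fin d → Localization.Away Θ) (v : Fin d → R[X]),
      (Θ ^ N) • w = (fun j => algebraMap R[X] (Localization.Away Θ) (v j)) →
      ∃ (w' : Fin d → Localization.Away Θ) (v' : Fin d → R[X]),
        w = D w' + fun j => algebraMap R[X] (Localization.Away Θ) (v' j) := by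
    intro N
    induction N with
    | zero =>
      intro w v h
      exact ⟨0, v, by simpa using h⟩
    | succ N ih =>
      intro w v hwv
      -- choose the residues of the correcting term
      have hbij := fun i => Groth.Agent.Lib.Helper11.LogConn.bijective_sub_of_charpoly (Res i) (hχ i)
          (N + 1) (by omega)
      have hx := fun i => (hbij i).2 (fun j => (((c i)⁻¹ : Rˣ) : R) * (v j).eval (θ i))
      choose x hx using hx
      obtain ⟨u, hu⟩ := Groth.Agent.Lib.Helper11.LogConn.exists_interp_vec θ hθ x
      obtain ⟨Θi, hΘi⟩ := hΘu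
      set w₁ : Fin d → Localization.Away Θ :=
        fun j => ((Θi⁻¹ : (Localization.Away Θ)ˣ) : Localization.Away Θ) ^ (N + 1) *
          algebraMap R[X] (Localization.Away Θ) (u j) with hw₁
      have hw₁u : (Θ ^ (N + 1)) • w₁ = fun j => algebraMap R[X] (Localization.Away Θ) (u j) := by
        ext j
        simp only [Pi.smul_apply, Algebra.smul_def, map_pow, hw₁, ← hΘi, ← mul_assoc, ← mul_pow,
          Units.mul_inv, one_pow, one_mul]
      have h1 := Groth.Agent.Lib.Helper11.LogConn.D_frac Θ D₀ D hD hDD₀ N w₁ u hw₁u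
      -- the error term is divisible by Θ
      have h3 : ∀ j i, (D₀ u j - C ((N + 1 : ℕ) : R) * derivative Θ * u j - v j).eval (θ i) = 0 := by
        intro j i
        have e2 := Groth.Agent.Lib.Helper11.LogConn.eval_D0 θ Θ hΘ D₀ hD₀ Res hRes i u j
        have e3 : (fun j' => (u j').eval (θ i)) = x i := funext (fun j' => hu i j')
        rw [e3] at e2
        have e4 := congrFun (hx i) j
        simp only [Pi.sub_apply, Pi.smul_apply, smul_eq_mul] at e4
        simp only [eval_sub, eval_mul, eval_C,
          Groth.Agent.Lib.Helper11.LogConn.eval_derivative_Theta θ Θ hΘ, e2, hu i j]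
        rw [← hc' i]
        have e5 : ((c i : Rˣ) : R) * (((c i)⁻¹ : Rˣ) : R) = 1 := Units.mul_inv _
        linear_combination ((c i : Rˣ) : R) * e4 + (v j).eval (θ i) * e5
      have h4 : ∀ j, Θ ∣ (D₀ u j - C ((N + 1 : ℕ) : R) * derivative Θ * u j - v j) := fun j =>
        Groth.Agent.Lib.Helper11.LogConn.Theta_dvd_of_eval θ Θ hΘ hθ _ (h3 j)
      choose v₁ hv₁ using h4
      have h5 : (Θ ^ N) • (w - D w₁) =
          fun j => algebraMap R[X] (Localization.Away Θ) (-(v₁ j)) := by
        ext j
        have a1 := congrFun hwv j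
        have a2 := congrFun h1 j
        have a3 := congrArg (algebraMap R[X] (Localization.Away Θ)) (hv₁ j)
        simp only [Pi.smul_apply, Pi.add_apply, Pi.sub_apply] at a1 a2 ⊢
        simp only [Algebra.smul_def, pow_succ, map_mul,
          map_pow, map_sub, map_neg] at a1 a2 a3 ⊢
        apply (IsLocalization.Away.algebraMap_isUnit Θ).mul_left_cancel
        linear_combination a1 + a2 - a3
      obtain ⟨w'', v'', h6⟩ := ih (w - D w₁) (fun j => -(v₁ j)) h5
      refine ⟨w₁ + w'', v'', ?_⟩
      rw [map_add, add_assoc, ← h6]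
      abel
  obtain ⟨b, hb⟩ := IsLocalization.exist_integer_multiples_of_finite (Submonoid.powers Θ) w
  obtain ⟨N, hN⟩ := b.2
  choose v hv using hb
  exact key N w v (by ext j; rw [hv j]; simp [← hN])

end Groth.Agent.S15502
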