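import Groth.Statements.S15503
import Groth.Agent.Lib.Helper11.LogConn

set_option autoImplicit false
open Polynomial
universe u
open CAlg

namespace Groth.Agent.S15503

/-- Let S = Spec R be a smooth connected affine complex variety (R a finitely generated smooth ℂ-algebra
and a domain), θ_1, …, θ_r ∈ R pairwise disjoint sections of the affine line over S (θ_i − θ_k a
unit for i ≠ k), Θ = ∏ (X − θ_i) ∈ R[X], and M = R^d. Suppose given an additive operator D₀ on M[X]
= R[X]^d with D₀(p v) = Θ p′ v + p D₀(v) (the action of the logarithmic vector field Θ ∂/∂X for a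
connection on the trivial bundle of rank d on the affine line over S with logarithmic poles along
the θ_i), its extension D to M[X, 1/Θ] = (R[X][1/Θ])^d with the same Leibniz rule, and for each i
the residue endomorphism Res_i of M, characterised by D₀(m)(θ_i) = (∏_{k ≠ i} (θ_i − θ_k)) ·
Res_i(m) for constant m ∈ M, whose characteristic polynomial has complex coefficients and no nonzero
integer root. Then an element f of M[X, 1/Θ] = (R[X][1/Θ])^d with D(f) ∈ M[X] = R[X]^d lies in
R[X]^d. (The published claim is made for residues whose characteristic roots all lie in the image of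
a right inverse τ of the quotient map ℂ → ℂ/ℤ with τ(0) = 0, so that no root is a nonzero integer
and no two roots differ by a nonzero integer; this row assumes only that no nonzero integer is a
root, which is all the argument uses.) -/
theorem result
    (R : Type u) [CommRing R] [IsDomain R] [Algebra ℂ R] [Algebra.FiniteType ℂ R]
    [Algebra.Smooth ℂ R] (d r : ℕ) (θ : Fin r → R)
    (hθ : ∀ i k, i ≠ k → IsUnit (θ i - θ k))
    (Θ : R[X]) (hΘ : Θ = ∏ i, (X - Polynomial.C (θ i)))
    (D₀ : (Fin d → R[X]) →+ (Fin d → R[X]))
    (hD₀ : ∀ (p : R[X]) (v : Fin d → R[X]),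
      D₀ (p • v) = (Θ * Polynomial.derivative p) • v + p • D₀ v)
    (D : (Fin d → Localization.Away Θ) →+ (Fin d → Localization.Away Θ))
    (hD : ∀ (p : R[X]) (w : Fin d → Localization.Away Θ),
      D (p • w) = (Θ * Polynomial.derivative p) • w + p • D w)
    (hDD₀ : ∀ v : Fin d → R[X],
      D (fun j => algebraMap R[X] (Localization.Away Θ) (v j)) =
        fun j => algebraMap R[X] (Localization.Away Θ) (D₀ v j))
    (Res : Fin r → ((Fin d → R) →ₗ[R] (Fin d → R)))
    (hRes : ∀ (i : Fin r) (m : Fin d → R) (j : Fin d),
      (D₀ (fun j => Polynomial.C (m j)) j).eval (θ i) =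
        (∏ k ∈ Finset.univ.erase i, (θ i - θ k)) * Res i m j)
    (hχ : ∀ i : Fin r, ∃ χ : ℂ[X], (Res i).charpoly = χ.map (algebraMap ℂ R) ∧
      ∀ n : ℤ, n ≠ 0 → χ.eval (n : ℂ) ≠ 0)
    (f : Fin d → Localization.Away Θ)
    (hf : ∃ v : Fin d → R[X], D f = fun j => algebraMap R[X] (Localization.Away Θ) (v j)) :
    ∃ v : Fin d → R[X], f = fun j => algebraMap R[X] (Localization.Away Θ) (v j) := by
  classical
  have hmon : Θ.Monic := Groth.Agent.Lib.Helper11.LogConn.Theta_monic θ Θ hΘ
  have hinj : Function.Injective (algebraMap R[X] (Localization.Away Θ)) :=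
    IsLocalization.injective (Localization.Away Θ) (M := Submonoid.powers Θ)
      (powers_le_nonZeroDivisors_of_noZeroDivisors hmon.ne_zero)
  have hΘu : IsUnit (algebraMap R[X] (Localization.Away Θ) Θ) :=
    IsLocalization.Away.algebraMap_isUnit Θ
  have key : ∀ N : ℕ, ∀ (f : Fin d → Localization.Away Θ) (v : Fin d → R[X]),
      (Θ ^ N) • f = (fun j => algebraMap R[X] (Localization.Away Θ) (v j)) →
      (∃ u : Fin d → R[X], D f = fun j => algebraMap R[X] (Localization.Away Θ) (u j)) →
      ∃ v' : Fin d → R[X], f = fun j => algebraMap R[X] (Localization.Away Θ) (v' j) := by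
    intro N
    induction N with
    | zero => intro f v h _; exact ⟨v, by simpa using h⟩
    | succ N ih =>
      intro f v hfv hu'
      obtain ⟨u, hu⟩ := hu'
      have h1 := Groth.Agent.Lib.Helper11.LogConn.D_frac Θ D₀ D hD hDD₀ N f v hfv
      rw [hu] at h1
      have h2 : ∀ j, D₀ v j = (C ((N + 1 : ℕ) : R) * derivative Θ) * v j + Θ ^ (N + 1) * u j := by
        intro j
        apply hinj
        have := congrFun h1 j
        simpa [Algebra.smul_def] using this
      have h3 : ∀ i j, (v j).eval (θ i) = 0 := by
        intro i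
        have e1 : ∀ j, (D₀ v j).eval (θ i) =
            ((N + 1 : ℕ) : R) * (∏ k ∈ Finset.univ.erase i, (θ i - θ k)) * (v j).eval (θ i) := by
          intro j
          rw [h2 j]
          simp [Groth.Agent.Lib.Helper11.LogConn.eval_derivative_Theta θ Θ hΘ,
            Groth.Agent.Lib.Helper11.LogConn.eval_Theta θ Θ hΘ]
        have e2 := Groth.Agent.Lib.Helper11.LogConn.eval_D0 θ Θ hΘ D₀ hD₀ Res hRes i v
        have hc : IsUnit (∏ k ∈ Finset.univ.erase i, (θ i - θ k)) := by
          exact IsUnit.prod_iff.2 (fun k hk => hθ i k (Finset.ne_of_mem_erase hk).symm)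
        have hbij := Groth.Agent.Lib.Helper11.LogConn.bijective_sub_of_charpoly (Res i) (hχ i)
          (N + 1) (by omega)
        have h0 : (fun x => Res i x - ((N + 1 : ℕ) : R) • x) (fun j => (v j).eval (θ i)) =
            (fun x => Res i x - ((N + 1 : ℕ) : R) • x) 0 := by
          ext j
          have := (e2 j).symm.trans (e1 j)
          apply hc.mul_left_cancel
          simp only [Pi.sub_apply, Pi.smul_apply, smul_eq_mul, map_zero, Pi.zero_apply, smul_zero,
            sub_zero, mul_zero]
          linear_combination this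
        have h0' := hbij.1 h0
        intro j; exact congrFun h0' j
      have h4 : ∀ j, Θ ∣ v j := fun j =>
        Groth.Agent.Lib.Helper11.LogConn.Theta_dvd_of_eval θ Θ hΘ hθ (v j) (fun i => h3 i j)
      choose v₁ hv₁ using h4
      apply ih f v₁ _ ⟨u, hu⟩
      ext j
      have := congrFun hfv j
      simp only [Pi.smul_apply, Algebra.smul_def, hv₁ j, pow_succ, map_mul, map_pow] at this ⊢
      apply hΘu.mul_left_cancel
      linear_combination this
  obtain ⟨b, hb⟩ := IsLocalization.exist_integer_multiples_of_finite (Submonoid.powers Θ) f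
  obtain ⟨N, hN⟩ := b.2
  choose v hv using hb
  exact key N f v (by ext j; rw [hv j]; simp [← hN]) hf

end Groth.Agent.S15503
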