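import Groth.Statements.S15504
import Mathlib

set_option autoImplicit false
universe u v
open FrobAlg

namespace Groth.Agent.S15504

section
variable {R : Type*} [CommRing R] {M : Type*} [AddCommGroup M] [Module R M] (σ : R ≃+* R)
  (φ : M →ₛₗ[(σ.symm : R →+* R)] M)

lemma iter_smul (n : ℕ) (a : R) (x : M) :
    (⇑φ)^[n] (a • x) = ((⇑σ.symm)^[n] a) • (⇑φ)^[n] x := by
  induction n generalizing a x with
  | zero => rfl
  | succ n ih =>
    rw [Function.iterate_succ_apply, Function.iterate_succ_apply, Function.iterate_succ_apply,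
      φ.map_smulₛₗ, ih]
    rfl

lemma iter_add (n : ℕ) (x y : M) : (⇑φ)^[n] (x + y) = (⇑φ)^[n] x + (⇑φ)^[n] y :=
  iterate_map_add φ n x y

lemma iter_sub (n : ℕ) (x y : M) : (⇑φ)^[n] (x - y) = (⇑φ)^[n] x - (⇑φ)^[n] y :=
  iterate_map_sub φ n x y

lemma iter_zero (n : ℕ) : (⇑φ)^[n] (0 : M) = 0 := iterate_map_zero φ n

/-- kernel of the n-th iterate -/
def Kn (n : ℕ) : Submodule R M where
  carrier := {x | (⇑φ)^[n] x = 0}
  add_mem' := by
    intro x y hx hy
    simp only [Set.mem_setOf_eq] at *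
    rw [iter_add, hx, hy, add_zero]
  zero_mem' := iter_zero σ φ n
  smul_mem' := by
    intro a x hx
    simp only [Set.mem_setOf_eq] at *
    rw [iter_smul, hx, smul_zero]

/-- range of the n-th iterate -/
def In (n : ℕ) : Submodule R M where
  carrier := Set.range ((⇑φ)^[n])
  add_mem' := by
    rintro _ _ ⟨x, rfl⟩ ⟨y, rfl⟩
    exact ⟨x + y, iter_add σ φ n x y⟩
  zero_mem' := ⟨0, iter_zero σ φ n⟩
  smul_mem' := by
    rintro a _ ⟨x, rfl⟩
    refine ⟨((⇑σ)^[n] a) • x, ?_⟩
    rw [iter_smul]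
    congr 1
    exact (Function.LeftInverse.iterate σ.symm_apply_apply n) a

lemma mem_Kn {n : ℕ} {x : M} : x ∈ Kn σ φ n ↔ (⇑φ)^[n] x = 0 := Iff.rfl
lemma mem_In {n : ℕ} {x : M} : x ∈ In σ φ n ↔ ∃ y, (⇑φ)^[n] y = x := Iff.rfl

lemma Kn_mono : Monotone (Kn σ φ) := by
  refine monotone_nat_of_le_succ fun n x hx => ?_
  rw [mem_Kn] at *
  rw [Function.iterate_succ_apply', hx, map_zero]

lemma In_anti : Antitone (In σ φ) := by
  refine antitone_nat_of_succ_le fun n x hx => ?_
  rw [mem_In] at *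
  obtain ⟨y, rfl⟩ := hx
  exact ⟨φ y, (Function.iterate_succ_apply _ _ _).symm⟩

theorem fitting [IsNoetherian R M] [IsArtinian R M] :
    ∃ Ms Mn : Submodule R M, IsCompl Ms Mn ∧
      Set.MapsTo φ Ms Ms ∧ Set.MapsTo φ Mn Mn ∧ Set.BijOn φ Ms Ms ∧
      ∃ r : ℕ, ∀ x ∈ Mn, (⇑φ)^[r] x = 0 := by
  obtain ⟨n₁, h₁⟩ := monotone_stabilizes_iff_noetherian.mpr ‹IsNoetherian R M›
    ⟨Kn σ φ, Kn_mono σ φ⟩
  obtain ⟨n₂, h₂⟩ := IsArtinian.monotone_stabilizes
    (⟨fun n => OrderDual.toDual (In σ φ n), fun a b hab => In_anti σ φ hab⟩ :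
      ℕ →o (Submodule R M)ᵒᵈ)
  simp only [OrderHom.coe_mk] at h₁ h₂
  set n := max n₁ n₂ with hn
  have hK : ∀ m, n ≤ m → Kn σ φ m = Kn σ φ n := fun m hm => by
    rw [← h₁ m (le_trans (le_max_left _ _) hm), ← h₁ n (le_max_left _ _)]
  have hI : ∀ m, n ≤ m → In σ φ m = In σ φ n := fun m hm => by
    have e1 := h₂ m (le_trans (le_max_right _ _) hm)
    have e2 := h₂ n (le_max_right _ _)
    exact (OrderDual.toDual.injective (e1.symm.trans e2))
  have hdisj : In σ φ n ⊓ Kn σ φ n = ⊥ := by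
    rw [eq_bot_iff]
    rintro x ⟨hx1, hx2⟩
    obtain ⟨y, rfl⟩ := hx1
    have hy : y ∈ Kn σ φ (n + n) := by
      rw [mem_Kn, Function.iterate_add_apply]; exact hx2
    rw [hK (n + n) (by omega)] at hy
    exact hy
  refine ⟨In σ φ n, Kn σ φ n, ⟨disjoint_iff.mpr hdisj, ?_⟩, ?_, ?_, ⟨?_, ?_, ?_⟩, n, fun x hx => hx⟩
  · rw [codisjoint_iff, eq_top_iff]
    intro x _
    have hx : (⇑φ)^[n] x ∈ In σ φ (n + n) := by
      rw [hI (n + n) (by omega)]; exact ⟨x, rfl⟩
    obtain ⟨z, hz⟩ := hx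
    rw [Function.iterate_add_apply] at hz
    have : x = (⇑φ)^[n] z + (x - (⇑φ)^[n] z) := by abel
    rw [this]
    refine Submodule.add_mem_sup ⟨z, rfl⟩ ?_
    rw [mem_Kn, iter_sub, hz, sub_self]
  · rintro _ ⟨y, rfl⟩
    exact ⟨φ y, by rw [← Function.iterate_succ_apply, Function.iterate_succ_apply']⟩
  · intro x hx
    change (⇑φ)^[n] (φ x) = 0
    rw [← Function.iterate_succ_apply, Function.iterate_succ_apply', (show (⇑φ)^[n] x = 0 from hx),
      map_zero]
  · rintro _ ⟨y, rfl⟩
    exact ⟨φ y, by rw [← Function.iterate_succ_apply, Function.iterate_succ_apply']⟩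
  · intro x hx x' hx' hxx'
    have h1 : x - x' ∈ Kn σ φ 1 := by
      rw [mem_Kn]; simp [hxx']
    have h2 : x - x' ∈ Kn σ φ n := by
      have := Kn_mono σ φ (show 1 ≤ n + 1 by omega) h1
      rwa [hK (n + 1) (by omega)] at this
    have h3 : x - x' ∈ In σ φ n ⊓ Kn σ φ n := ⟨Submodule.sub_mem _ hx hx', h2⟩
    rw [hdisj] at h3
    exact sub_eq_zero.mp h3
  · intro y hy
    have : y ∈ In σ φ (n + 1) := by rw [hI (n + 1) (by omega)]; exact hy
    obtain ⟨z, rfl⟩ := this
    exact ⟨(⇑φ)^[n] z, ⟨z, rfl⟩, (Function.iterate_succ_apply' _ _ _).symm⟩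

end


section
variable (W : Type*) [CommRing W] [IsDomain W] [IsDedekindDomain W]
  (M : Type*) [AddCommGroup M] [Module W M] [Module.Finite W M]

lemma exists_ann (hM : Module.IsTorsion W M) : ∃ a : W, a ≠ 0 ∧ ∀ x : M, a • x = 0 := by
  classical
  obtain ⟨S, hS⟩ := (Module.Finite.fg_top : (⊤ : Submodule W M).FG)
  choose a ha using fun x : M => @hM x
  refine ⟨∏ s ∈ S, (a s : W), ?_, ?_⟩
  · rw [Finset.prod_ne_zero_iff]
    intro s _
    exact nonZeroDivisors.coe_ne_zero _
  · intro x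
    have hx : x ∈ Submodule.span W (S : Set M) := by rw [hS]; trivial
    induction hx using Submodule.span_induction with
    | mem s hs =>
      rw [← Finset.mul_prod_erase S _ hs, mul_comm, mul_smul]
      have := ha s
      rw [Submonoid.smul_def] at this
      rw [this, smul_zero]
    | zero => exact smul_zero _
    | add x y _ _ hx hy => rw [smul_add, hx, hy, add_zero]
    | smul c x _ hx => rw [smul_comm, hx, smul_zero]

lemma isArtinian_of_torsion (hM : Module.IsTorsion W M) : IsArtinian W M := by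
  obtain ⟨a, ha0, ha⟩ := exists_ann W M hM
  have hI : Module.annihilator W M ≠ ⊥ := by
    intro h
    have : a ∈ Module.annihilator W M := Module.mem_annihilator.mpr ha
    rw [h] at this
    exact ha0 this
  letI : Module (W ⧸ Module.annihilator W M) M := Module.quotientAnnihilator
  haveI : IsScalarTower W (W ⧸ Module.annihilator W M) M :=
    IsScalarTower.of_algebraMap_smul fun r x => rfl
  haveI : Ring.KrullDimLE 0 (W ⧸ Module.annihilator W M) := by
    rw [Ideal.krullDimLE_zero_quotient_iff_forall_minimalPrimes_isMaximal]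
    intro J hJ
    have hJp : J.IsPrime := hJ.1.1
    refine Ideal.IsPrime.isMaximal hJp ?_
    intro h
    apply hI
    rw [eq_bot_iff, ← h]
    exact hJ.1.2
  haveI : IsArtinianRing (W ⧸ Module.annihilator W M) :=
    IsNoetherianRing.isArtinianRing_of_krullDimLE_zero
  haveI : Module.Finite (W ⧸ Module.annihilator W M) M :=
    Module.Finite.of_restrictScalars_finite W _ M
  haveI : IsArtinian (W ⧸ Module.annihilator W M) M := inferInstance
  exact isArtinian_of_surjective_algebraMap (R := W ⧸ Module.annihilator W M)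
    Ideal.Quotient.mk_surjective

end
/-- Let k be an algebraically closed field of characteristic p, W = W(k) the ring of p-typical Witt
vectors, M a finitely generated torsion W-module and φ a p⁻¹-linear endomorphism of M (additive,
with φ(a·m) = σ⁻¹(a)·φ(m) for the Frobenius automorphism σ of W). Then M = M_s ⊕ M_n for two
φ-stable submodules, with φ bijective on M_s and nilpotent on M_n (one iterate of φ kills M_n). -/
theorem result (p : ℕ) [Fact p.Prime]
    (k : Type u) [Field k] [CharP k p] [IsAlgClosed k]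
    (M : Type v) [AddCommGroup M] [Module (WittVector p k) M] [Module.Finite (WittVector p k) M]
    (hM : Module.IsTorsion (WittVector p k) M)
    (φ : M →ₛₗ[((WittVector.frobeniusEquiv p k).symm : WittVector p k →+* WittVector p k)] M) :
    ∃ Ms Mn : Submodule (WittVector p k) M, IsCompl Ms Mn ∧
      Set.MapsTo φ Ms Ms ∧ Set.MapsTo φ Mn Mn ∧ Set.BijOn φ Ms Ms ∧
      ∃ r : ℕ, ∀ x ∈ Mn, (⇑φ)^[r] x = 0 := by
  haveI : IsArtinian (WittVector p k) M := isArtinian_of_torsion _ M hM
  exact fitting (WittVector.frobeniusEquiv p k) φ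

end Groth.Agent.S15504
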