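import Groth.Statements.S15505
import Mathlib.FieldTheory.Finite.Basic
import Mathlib.LinearAlgebra.Basis.Basic

set_option autoImplicit false
universe u v w
open FrobAlg

namespace Groth.Agent.S15505

/-- Let k be an algebraically closed field of characteristic p, V a k-vector space, φ a p⁻¹-linear
endomorphism of V (additive, φ(a·v) = a^{1/p}·φ(v)) and b a finite basis of V consisting of vectors
fixed by φ. Then the vectors fixed by φ are exactly the combinations of the b_i with coefficients in
the prime field: v is fixed if and only if v = Σ c_i·b_i with all c_i in the image of ℤ/p. -/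
theorem result (p : ℕ) [Fact p.Prime]
    (k : Type u) [Field k] [CharP k p] [IsAlgClosed k]
    (V : Type v) [AddCommGroup V] [Module k V]
    (φ : V →ₛₗ[((frobeniusEquiv k p).symm : k →+* k)] V)
    {ι : Type w} [Fintype ι] (b : Module.Basis ι k V) (hb : ∀ i, φ (b i) = b i) (v : V) :
    φ v = v ↔ ∃ c : ι → ZMod p, v = ∑ i, (ZMod.castHom (dvd_refl p) k (c i)) • b i := by
  classical
  -- characterisation of fixed scalars
  have hfix : ∀ a : k, ((frobeniusEquiv k p).symm : k →+* k) a = a ↔
      ∃ c : ZMod p, ZMod.castHom (dvd_refl p) k c = a := by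
    intro a
    have h1 : ((frobeniusEquiv k p).symm : k →+* k) a = a ↔ a ^ p = a := by
      change (frobeniusEquiv k p).symm a = a ↔ a ^ p = a
      rw [RingEquiv.symm_apply_eq, frobeniusEquiv_apply, frobenius_def]
      exact eq_comm
    rw [h1, ← Subfield.mem_bot_iff_pow_eq_self k p, ← ZMod.fieldRange_castHom_eq_bot p,
      RingHom.mem_fieldRange]
  -- action of φ on coordinates
  have hφsum : ∀ r : ι → k, φ (∑ i, r i • b i) =
      ∑ i, ((frobeniusEquiv k p).symm : k →+* k) (r i) • b i := by
    intro r
    rw [map_sum]
    refine Finset.sum_congr rfl fun i _ => ?_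
    rw [LinearMap.map_smulₛₗ, hb]
  constructor
  · intro hv
    have hrepr : ∑ i, b.repr v i • b i = v := b.sum_repr v
    have h1 : ∑ i, ((frobeniusEquiv k p).symm : k →+* k) (b.repr v i) • b i
        = ∑ i, b.repr v i • b i := by
      rw [← hφsum, hrepr, hv]
    have h2 : ∀ i, ((frobeniusEquiv k p).symm : k →+* k) (b.repr v i) = b.repr v i := by
      intro i
      have e1 := b.repr_sum_self (fun i => ((frobeniusEquiv k p).symm : k →+* k) (b.repr v i))
      have e2 := b.repr_sum_self (fun i => b.repr v i)
      have e3 := congrArg (fun w => (b.repr w : ι → k) i) h1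
      simp only [e1, e2] at e3
      exact e3
    choose c hc using fun i => (hfix (b.repr v i)).1 (h2 i)
    refine ⟨c, ?_⟩
    conv_lhs => rw [← hrepr]
    refine Finset.sum_congr rfl fun i _ => ?_
    rw [hc]
  · rintro ⟨c, rfl⟩
    rw [hφsum]
    refine Finset.sum_congr rfl fun i _ => ?_
    rw [(hfix _).2 ⟨c i, rfl⟩]

end Groth.Agent.S15505
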