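import Groth.Statements.S15506
import Mathlib

set_option autoImplicit false
set_option linter.style.haveILetI false
universe u
open CategoryTheory AlgebraicGeometry
open EtBase

namespace Groth.Agent.S15506


theorem factor_through_algClosed {k K Ω A : Type u} [Field k] [Field K] [Field Ω] [CommRing A]
    [Algebra k K] [IsAlgClosed K] [Algebra K Ω] [Algebra k Ω] [IsScalarTower k K Ω]
    [Algebra k A] [Algebra.Etale k A] (φ : A →ₐ[k] Ω) :
    ∃ φ' : A →ₐ[k] K, (IsScalarTower.toAlgHom k K Ω).comp φ' = φ := by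
  haveI : Module.Finite k A := Algebra.FormallyUnramified.finite_of_free (R := k) (S := A)
  haveI : Algebra.IsIntegral k A := inferInstance
  set ι : K →ₐ[k] Ω := IsScalarTower.toAlgHom k K Ω with hι
  have hιinj : Function.Injective ι := (algebraMap K Ω).injective
  have hmem : ∀ a : A, φ a ∈ ι.range := by
    intro a
    have h1 : IsIntegral k (φ a) := (Algebra.IsIntegral.isIntegral a).map φ
    have h2 : IsIntegral K (φ a) := h1.tower_top
    let B := integralClosure K Ω
    haveI : Algebra.IsIntegral K B := inferInstance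
    have hb := IsAlgClosed.algebraMap_bijective_of_isIntegral (k := K) (K := B)
    obtain ⟨c, hc⟩ := hb.2 ⟨φ a, h2⟩
    refine ⟨c, ?_⟩
    have := congrArg Subtype.val hc
    change algebraMap K Ω c = φ a
    simpa using this
  let e : K ≃ₐ[k] ι.range := AlgEquiv.ofInjective ι hιinj
  refine ⟨e.symm.toAlgHom.comp (φ.codRestrict ι.range hmem), ?_⟩
  ext a
  simp only [AlgHom.comp_apply]
  have : ι (e.symm (φ.codRestrict ι.range hmem a)) = ((e (e.symm (φ.codRestrict ι.range hmem a)) : ι.range) : Ω) := rfl
  change ι (e.symm (φ.codRestrict ι.range hmem a)) = φ a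
  rw [this, AlgEquiv.apply_symm_apply]
  rfl

/-- Let k be a field, K an algebraic closure of k (an algebraically closed field algebraic over k), Ω a
field containing K, and Z a scheme étale over Spec k. Composition with Spec Ω → Spec K is a
bijection from the k-morphisms Spec K → Z onto the k-morphisms Spec Ω → Z: two k-morphisms Spec K →
Z that agree on Spec Ω are equal, and every k-morphism Spec Ω → Z factors through Spec K. (The
published statement is the case where k has characteristic zero with a chosen embedding of its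
algebraic closure into the complex numbers, Ω = ℂ, and Z is the scheme of isomorphisms between two
K3 surfaces over k, known there to be étale over k; this row states the fact about an arbitrary
étale k-scheme that the argument establishes.) -/
theorem result
    (k K Ω : Type u) [Field k] [Field K] [Field Ω] [Algebra k K] [IsAlgClosed K] [Algebra.IsAlgebraic k K]
    [Algebra K Ω] [Algebra k Ω] [IsScalarTower k K Ω]
    (Z : Scheme.{u}) (f : Z ⟶ Spec (CommRingCat.of k)) [AlgebraicGeometry.Etale f] :
    (∀ g₁ g₂ : Spec (CommRingCat.of K) ⟶ Z,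
        g₁ ≫ f = Spec.map (CommRingCat.ofHom (algebraMap k K)) →
        g₂ ≫ f = Spec.map (CommRingCat.ofHom (algebraMap k K)) →
        Spec.map (CommRingCat.ofHom (algebraMap K Ω)) ≫ g₁ = Spec.map (CommRingCat.ofHom (algebraMap K Ω)) ≫ g₂ →
        g₁ = g₂) ∧
    (∀ h : Spec (CommRingCat.of Ω) ⟶ Z, h ≫ f = Spec.map (CommRingCat.ofHom (algebraMap k Ω)) →
        ∃ g : Spec (CommRingCat.of K) ⟶ Z, g ≫ f = Spec.map (CommRingCat.ofHom (algebraMap k K)) ∧
          Spec.map (CommRingCat.ofHom (algebraMap K Ω)) ≫ g = h) := by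
  constructor
  · intro g₁ g₂ _ _ h
    haveI : Flat (Spec.map (CommRingCat.ofHom (algebraMap K Ω))) := by
      rw [Flat.SpecMap_iff]
      exact (RingHom.flat_algebraMap_iff).mpr inferInstance
    haveI : Surjective (Spec.map (CommRingCat.ofHom (algebraMap K Ω))) := by
      constructor
      intro x
      refine ⟨(⊥ : PrimeSpectrum Ω), Subsingleton.elim _ _⟩
    haveI : Epi (Spec.map (CommRingCat.ofHom (algebraMap K Ω))) :=
      Flat.epi_of_flat_of_surjective _
    exact (cancel_epi _).mp h
  · intro h hh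
    let x₀ : Spec (CommRingCat.of Ω) := (⊥ : PrimeSpectrum Ω)
    obtain ⟨U, hU, hxU⟩ : ∃ U : Z.Opens, IsAffineOpen U ∧ h x₀ ∈ U := by
      obtain ⟨_, ⟨U, hU, rfl⟩, hx, -⟩ :=
        Z.isBasis_affineOpens.exists_subset_of_mem_open (Set.mem_univ (h x₀)) isOpen_univ
      exact ⟨U, hU, hx⟩
    have hle : (⊤ : (Spec (CommRingCat.of Ω)).Opens) ≤ h ⁻¹ᵁ U := by
      intro y _
      have : y = x₀ := Subsingleton.elim _ _
      subst this
      exact hxU
    have h1 : Spec.map (h.appLE U ⊤ hle) ≫ hU.fromSpec = (isAffineOpen_top _).fromSpec ≫ h :=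
      IsAffineOpen.SpecMap_appLE_fromSpec h hU (isAffineOpen_top _) hle
    rw [IsAffineOpen.fromSpec_top, Scheme.isoSpec_Spec_inv] at h1
    let φ : Γ(Z, U) ⟶ CommRingCat.of Ω :=
      h.appLE U ⊤ hle ≫ (Scheme.ΓSpecIso (CommRingCat.of Ω)).hom
    have hφ : Spec.map φ ≫ hU.fromSpec = h := by
      simp only [φ, Spec.map_comp, Category.assoc, h1]
      rw [← Category.assoc, ← Spec.map_comp, Iso.inv_hom_id, Spec.map_id, Category.id_comp]
    have h2 : Spec.map (f.appLE ⊤ U le_top) ≫ (isAffineOpen_top _).fromSpec = hU.fromSpec ≫ f :=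
      IsAffineOpen.SpecMap_appLE_fromSpec f (isAffineOpen_top _) hU le_top
    rw [IsAffineOpen.fromSpec_top, Scheme.isoSpec_Spec_inv] at h2
    let ρ : CommRingCat.of k ⟶ Γ(Z, U) :=
      (Scheme.ΓSpecIso (CommRingCat.of k)).inv ≫ f.appLE ⊤ U le_top
    have hρ : hU.fromSpec ≫ f = Spec.map ρ := by
      simp only [ρ, Spec.map_comp, h2]
    have hρφ : ρ ≫ φ = CommRingCat.ofHom (algebraMap k Ω) := by
      apply Spec.map_injective
      rw [Spec.map_comp, ← hρ, ← Category.assoc, hφ, hh]
    have het : ρ.hom.Etale := by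
      have e1 : (f.appLE ⊤ U le_top).hom.Etale :=
        HasRingHomProperty.appLE (P := @Etale) f inferInstance ⟨⊤, isAffineOpen_top _⟩ ⟨U, hU⟩ le_top
      have e2 : (Scheme.ΓSpecIso (CommRingCat.of k)).inv.hom.Etale :=
        RingHom.Etale.of_bijective
          (ConcreteCategory.bijective_of_isIso (Scheme.ΓSpecIso (CommRingCat.of k)).inv)
      exact RingHom.Etale.stableUnderComposition _ _ e2 e1
    letI : Algebra k Γ(Z, U) := ρ.hom.toAlgebra
    haveI : Algebra.Etale k Γ(Z, U) := het
    let φa : Γ(Z, U) →ₐ[k] Ω :=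
      { φ.hom with
        commutes' := fun c => congrArg (fun m => m.hom c) hρφ }
    obtain ⟨φ', hφ'⟩ := factor_through_algClosed (K := K) φa
    refine ⟨Spec.map (CommRingCat.ofHom φ'.toRingHom) ≫ hU.fromSpec, ?_, ?_⟩
    · rw [Category.assoc, hρ, ← Spec.map_comp]
      congr 1
      ext c
      exact φ'.commutes c
    · rw [← Category.assoc, ← Spec.map_comp, ← hφ]
      congr 2
      ext a
      exact congrArg (fun m => m a) hφ'


end Groth.Agent.S15506
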