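import Groth.Statements.S15512
import Groth.Agent.S10933
-- import your own Groth.Agent.* helpers here

set_option autoImplicit false
universe u
open CategoryTheory
open CAlg

namespace Groth.Agent.S15512


/-- A Noetherian ring of finite Krull dimension which is regular at all maximal ideals has finite
global dimension on finite modules. -/
theorem exists_bound (A : Type u) [CommRing A]
    [IsNoetherianRing A] (hreg : ∀ m : MaximalSpectrum A, IsRegularLocalRing (Localization.AtPrime m.asIdeal))
    (hdim : ringKrullDim A < ⊤) (M : Type u) [AddCommGroup M] [Module A M] [Module.Finite A M] :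
    ∃ n : ℕ, HasProjectiveDimensionLT (ModuleCat.of A M) (n + 1) := by
  -- a natural number bound for the Krull dimension
  obtain ⟨n, hn⟩ : ∃ n : ℕ, ringKrullDim A ≤ n := by
    generalize ringKrullDim A = x at hdim
    induction x with
    | bot => exact ⟨0, bot_le⟩
    | coe x =>
      induction x with
      | top => exact absurd hdim (lt_irrefl _)
      | coe k => exact ⟨k, le_rfl⟩
  refine ⟨n, ?_⟩
  change HasProjectiveDimensionLE (ModuleCat.of A M) n
  rw [ModuleCat.hasProjectiveDimensionLE_iff_forall_maximalSpectrum]
  intro m
  haveI := hreg m
  have hd : ringKrullDim (Localization.AtPrime m.asIdeal) =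
      ((IsLocalRing.maximalIdeal (Localization.AtPrime m.asIdeal)).spanFinrank : ℕ) := by
    rw [← IsRegularLocalRing.spanFinrank_maximalIdeal]
  set d := (IsLocalRing.maximalIdeal (Localization.AtPrime m.asIdeal)).spanFinrank
  have hle : d ≤ n := by
    have h1 : ringKrullDim (Localization.AtPrime m.asIdeal) ≤ ringKrullDim A := by
      rw [IsLocalization.AtPrime.ringKrullDim_eq_height m.asIdeal]
      exact Ideal.height_le_ringKrullDim_of_ne_top m.isMaximal.ne_top
    have h2 : ((d : ℕ) : WithBot ℕ∞) ≤ (n : ℕ) := by
      rw [← hd]; exact h1.trans hn
    exact_mod_cast h2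
  have h3 := Groth.Agent.S0563.result (Localization.AtPrime m.asIdeal) d hd
    ((ModuleCat.of A M).localizedModule m.asIdeal.primeCompl)
  exact hasProjectiveDimensionLT_of_ge _ (d + 1) (n + 1) (by omega)

/-- Let A be a Noetherian ring which is regular (its localization at every maximal ideal is a regular
local ring) and of finite Krull dimension, M a finitely generated A-module and d a natural number.
If Ext^i_A(M, A) vanishes for every i > d, then the projective dimension of M is at most d. -/
theorem result (A : Type u) [CommRing A]
    [IsNoetherianRing A] (hreg : ∀ m : MaximalSpectrum A, IsRegularLocalRing (Localization.AtPrime m.asIdeal))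
    (hdim : ringKrullDim A < ⊤) (M : Type u) [AddCommGroup M] [Module A M] [Module.Finite A M] (d : ℕ)
    (h : ∀ i : ℕ, d < i → Subsingleton (Abelian.Ext (ModuleCat.of A M) (ModuleCat.of A A) i)) :
    HasProjectiveDimensionLT (ModuleCat.of A M) (d + 1) := by
  obtain ⟨n, hn⟩ := exists_bound A hreg hdim M
  have h4 : HasProjectiveDimensionLT (ModuleCat.of A M) (d + 1 + n) :=
    hasProjectiveDimensionLT_of_ge _ (n + 1) (d + 1 + n) (by omega)
  exact Groth.Agent.S10933.descend A M d h n h4

end Groth.Agent.S15512
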