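import Groth.Statements.S15524
import Mathlib

set_option autoImplicit false
open Finset
open Zeta

namespace Groth.Agent.S15524

theorem bounded_powersum {ι : Type*} [Fintype ι] (β : ι → ℂ) (C : ℝ)
    (h : ∀ N : ℕ, 1 ≤ N → ‖∑ i, β i ^ N‖ ≤ C) (i : ι) : ‖β i‖ ≤ 1 := by
  classical
  by_contra hlt
  push_neg at hlt
  set S := (Finset.univ.image β).erase (β i) with hS
  set P : Polynomial ℂ := ∏ γ ∈ S, (Polynomial.X - Polynomial.C γ) with hP
  have hP0 : P.eval (β i) ≠ 0 := by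
    rw [hP, Polynomial.eval_prod]
    apply Finset.prod_ne_zero_iff.mpr
    intro γ hγ
    simp only [Polynomial.eval_sub, Polynomial.eval_X, Polynomial.eval_C]
    rw [sub_ne_zero]
    exact (Finset.ne_of_mem_erase hγ).symm
  have hPz : ∀ j, β j ≠ β i → P.eval (β j) = 0 := by
    intro j hj
    rw [hP, Polynomial.eval_prod]
    apply Finset.prod_eq_zero (i := β j)
    · exact Finset.mem_erase.mpr ⟨hj, Finset.mem_image_of_mem _ (Finset.mem_univ _)⟩
    · simp
  have key : ∀ N, ∑ j, β j ^ N * P.eval (β j)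
      = ∑ k ∈ Finset.range (P.natDegree + 1), P.coeff k * ∑ j, β j ^ (N + k) := by
    intro N
    simp_rw [Polynomial.eval_eq_sum_range, Finset.mul_sum]
    rw [Finset.sum_comm]
    refine Finset.sum_congr rfl fun k _ => Finset.sum_congr rfl fun j _ => ?_
    ring
  have key2 : ∀ N, ∑ j, β j ^ N * P.eval (β j)
      = ((Finset.univ.filter (fun j => β j = β i)).card : ℂ) * (β i ^ N * P.eval (β i)) := by
    intro N
    rw [← Finset.sum_filter_add_sum_filter_not Finset.univ (fun j => β j = β i)]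
    have h1 : ∑ j ∈ Finset.univ.filter (fun j => β j = β i), β j ^ N * P.eval (β j)
        = ((Finset.univ.filter (fun j => β j = β i)).card : ℂ) * (β i ^ N * P.eval (β i)) := by
      rw [Finset.sum_congr rfl (fun j hj => by rw [(Finset.mem_filter.mp hj).2]),
        Finset.sum_const, nsmul_eq_mul]
    have h2 : ∑ j ∈ Finset.univ.filter (fun j => ¬ β j = β i), β j ^ N * P.eval (β j) = 0 := by
      apply Finset.sum_eq_zero
      intro j hj
      rw [hPz j (Finset.mem_filter.mp hj).2, mul_zero]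
    rw [h1, h2, add_zero]
  set M : ℝ := ∑ k ∈ Finset.range (P.natDegree + 1), ‖P.coeff k‖ * C with hM
  have hcard : (1 : ℝ) ≤ ((Finset.univ.filter (fun j => β j = β i)).card : ℝ) := by
    have : 0 < (Finset.univ.filter (fun j => β j = β i)).card :=
      Finset.card_pos.mpr ⟨i, Finset.mem_filter.mpr ⟨Finset.mem_univ _, rfl⟩⟩
    exact_mod_cast this
  have hbound : ∀ N : ℕ, 1 ≤ N → ‖β i‖ ^ N * ‖P.eval (β i)‖ ≤ M := by
    intro N hN
    have e1 : ‖∑ j, β j ^ N * P.eval (β j)‖ ≤ M := by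
      rw [key N]
      refine (norm_sum_le _ _).trans ?_
      apply Finset.sum_le_sum
      intro k _
      rw [norm_mul]
      exact mul_le_mul_of_nonneg_left (h (N + k) (by omega)) (norm_nonneg _)
    rw [key2 N, norm_mul, norm_mul, norm_pow, Complex.norm_natCast] at e1
    refine le_trans ?_ e1
    have hnn : 0 ≤ ‖β i‖ ^ N * ‖P.eval (β i)‖ := by positivity
    calc ‖β i‖ ^ N * ‖P.eval (β i)‖ = 1 * (‖β i‖ ^ N * ‖P.eval (β i)‖) := (one_mul _).symm
      _ ≤ _ := mul_le_mul_of_nonneg_right hcard hnn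
  have hPpos : 0 < ‖P.eval (β i)‖ := norm_pos_iff.mpr hP0
  obtain ⟨n, hn⟩ := pow_unbounded_of_one_lt (M / ‖P.eval (β i)‖) hlt
  have h3 := hbound (n + 1) (by omega)
  have h4 : ‖β i‖ ^ n ≤ ‖β i‖ ^ (n + 1) := pow_le_pow_right₀ hlt.le (by omega)
  have h5 : M / ‖P.eval (β i)‖ < ‖β i‖ ^ (n + 1) := lt_of_lt_of_le hn h4
  rw [div_lt_iff₀ hPpos] at h5
  linarith

/-- Let q ≥ 1 and let α_1, …, α_{2g} be complex numbers permuted by α ↦ q/α, i.e. α_{σ(i)} α_i = q for a
permutation σ of the indices; these play the role of the inverse roots of the numerator of the zeta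
function of a curve over a field with q elements, for which #X(F_{q^N}) = q^N + 1 − Σ_i α_i^N. If
for some d ≥ 1 and real C one has |Σ_i α_i^{dN}| ≤ C q^{dN/2} for every N ≥ 1, then |α_i|^2 = q for
every i (the Riemann hypothesis for the curve). -/
theorem result {g : ℕ} (q : ℕ) (hq : 0 < q)
    (α : Fin (2 * g) → ℂ) (σ : Equiv.Perm (Fin (2 * g))) (hσ : ∀ i, α (σ i) * α i = q)
    (d : ℕ) (hd : 0 < d) (C : ℝ)
    (hC : ∀ N : ℕ, 1 ≤ N → ‖∑ i, α i ^ (d * N)‖ ≤ C * (q : ℝ) ^ ((d : ℝ) * N / 2))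
    (i : Fin (2 * g)) : ‖α i‖ ^ 2 = q := by
  have hq' : (0 : ℝ) < q := by exact_mod_cast hq
  set c : ℝ := (q : ℝ) ^ ((d : ℝ) / 2) with hc
  have hcpos : 0 < c := Real.rpow_pos_of_pos hq' _
  have hc2 : c ^ 2 = (q : ℝ) ^ d := by
    rw [hc, ← Real.rpow_natCast, ← Real.rpow_mul hq'.le, ← Real.rpow_natCast]
    congr 1
    push_cast
    ring
  have hcN : ∀ N : ℕ, c ^ N = (q : ℝ) ^ ((d : ℝ) * N / 2) := by
    intro N
    rw [hc, ← Real.rpow_natCast, ← Real.rpow_mul hq'.le]
    congr 1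
    ring
  set β : Fin (2 * g) → ℂ := fun j => α j ^ d / (c : ℂ) with hβ
  have hcne : (c : ℂ) ≠ 0 := by exact_mod_cast hcpos.ne'
  have hβle : ∀ j, ‖β j‖ ≤ 1 := by
    apply bounded_powersum β C
    intro N hN
    have e : ∑ j, β j ^ N = (∑ j, α j ^ (d * N)) / (c : ℂ) ^ N := by
      rw [Finset.sum_div]
      refine Finset.sum_congr rfl fun j _ => ?_
      rw [hβ]
      simp only
      rw [div_pow, pow_mul]
    rw [e, norm_div, norm_pow, Complex.norm_real, Real.norm_of_nonneg hcpos.le,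
      div_le_iff₀ (pow_pos hcpos N), hcN N]
    exact hC N hN
  have hβσ : ∀ j, β (σ j) * β j = 1 := by
    intro j
    rw [hβ]
    simp only
    rw [div_mul_div_comm, ← mul_pow, hσ j, ← sq, div_eq_one_iff_eq (pow_ne_zero 2 hcne)]
    have : ((c ^ 2 : ℝ) : ℂ) = (((q : ℝ) ^ d : ℝ) : ℂ) := by rw [hc2]
    push_cast at this
    exact this.symm
  have hβ1 : ‖β i‖ = 1 := by
    apply le_antisymm (hβle i)
    have := congrArg norm (hβσ i)
    rw [norm_mul, norm_one] at this
    have h1 := hβle (σ i)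
    have hpos : 0 ≤ ‖β i‖ := norm_nonneg _
    nlinarith
  have h6 : ‖α i‖ ^ d = c := by
    rw [hβ] at hβ1
    simp only at hβ1
    rw [norm_div, norm_pow, Complex.norm_real, Real.norm_of_nonneg hcpos.le,
      div_eq_one_iff_eq hcpos.ne'] at hβ1
    exact hβ1
  have h7 : (‖α i‖ ^ 2) ^ d = ((q : ℝ)) ^ d := by
    rw [← hc2, ← h6]
    ring
  exact (pow_left_inj₀ (by positivity) hq'.le hd.ne').mp h7

end Groth.Agent.S15524
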