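import Groth.Statements.S15525
import Mathlib.LinearAlgebra.Matrix.Charpoly.Coeff
import Mathlib.LinearAlgebra.Matrix.Charpoly.Eigs
import Mathlib.FieldTheory.IsAlgClosed.Basic
import Mathlib.Analysis.Complex.Polynomial.Basic
import Mathlib.Algebra.Polynomial.Reverse

set_option autoImplicit false
universe u
open Zeta

namespace Groth.Agent.S15525

open Polynomial in
theorem reverse_prod_aux (s : Multiset ℂ) (hs : ∀ z ∈ s, ‖z‖ = 1) :
    C ((-1 : ℂ) ^ Multiset.card s * (s.prod)⁻¹) * ((s.map (fun z => X - C z)).prod).reverse =
      (s.map (fun z => X - C ((starRingEnd ℂ) z))).prod := by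
  induction s using Multiset.induction_on with
  | empty =>
    have h1 : (1 : ℂ[X]).reverse = 1 := by
      rw [← C_1, reverse_C]
    simp [h1]
  | cons a s ih =>
    have ha : ‖a‖ = 1 := hs a (Multiset.mem_cons_self a s)
    have ha0 : a ≠ 0 := by
      intro h0
      rw [h0, norm_zero] at ha
      exact zero_ne_one ha
    have hs' : ∀ z ∈ s, ‖z‖ = 1 := fun z hz => hs z (Multiset.mem_cons_of_mem hz)
    have ih' := ih hs'
    rw [Multiset.map_cons, Multiset.prod_cons, Multiset.map_cons, Multiset.prod_cons,
      Multiset.card_cons, Multiset.prod_cons, reverse_mul_of_domain, ← ih']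
    have hrev : (X - C a : ℂ[X]).reverse = 1 - C a * X := by
      have h1 : (X - C a : ℂ[X]) = X + C (-a) := by simp [sub_eq_add_neg]
      have hX : (X : ℂ[X]).reverse = 1 := by
        have := reverse_X_mul (1 : ℂ[X])
        rw [mul_one] at this
        rw [this, ← C_1, reverse_C]
      rw [h1, reverse_add_C, hX]
      simp [sub_eq_add_neg]
    rw [hrev, ← Complex.inv_eq_conj ha]
    have hc : ((-1 : ℂ) ^ (Multiset.card s + 1) * (a * s.prod)⁻¹) =
        (-a⁻¹) * ((-1 : ℂ) ^ Multiset.card s * (s.prod)⁻¹) := by
      rw [pow_succ, mul_inv]; ring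
    rw [hc, C_mul]
    have hfac : (X - C a⁻¹ : ℂ[X]) = C (-a⁻¹) * (1 - C a * X) := by
      rw [mul_sub, mul_one, ← mul_assoc, ← C_mul, neg_mul, inv_mul_cancel₀ ha0]
      simp
      ring
    rw [hfac]
    ring

/-- Let L be a field with a ring embedding ι into ℂ and M an r × r matrix over L all of whose
eigenvalues, the complex roots of its characteristic polynomial mapped along ι, have absolute value
1. Then every coefficient of the characteristic polynomial of the block-diagonal matrix with blocks
M and the inverse transpose of M is mapped by ι into ℝ. This is the pointwise content of the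
assertion that for a lisse sheaf F pure of weight 0 the sum of F and its dual is real, the Frobenius
of the dual acting by the inverse transpose. -/
theorem result (L : Type u) [Field L] (ι : L →+* ℂ)
    {r : ℕ} (M : Matrix (Fin r) (Fin r) L)
    (hM : ∀ z ∈ ((Matrix.charpoly M).map ι).roots, ‖z‖ = 1) (n : ℕ) :
    (ι ((Matrix.fromBlocks M 0 0 (M⁻¹).transpose).charpoly.coeff n)).im = 0 := by
  classical
  set A : Matrix (Fin r) (Fin r) ℂ := M.map ι with hA
  have hAchar : A.charpoly = M.charpoly.map ι := Matrix.charpoly_map M ι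
  have hroots : ∀ z ∈ A.charpoly.roots, ‖z‖ = 1 := by
    intro z hz
    rw [hAchar] at hz
    exact hM z hz
  -- A.charpoly is the product over its roots
  have hsplit : (A.charpoly.roots.map (fun z => Polynomial.X - Polynomial.C z)).prod = A.charpoly :=
    Polynomial.prod_multiset_X_sub_C_of_monic_of_roots_card_eq A.charpoly_monic
      IsAlgClosed.card_roots_eq_natDegree
  have hcard : Multiset.card A.charpoly.roots = r := by
    rw [IsAlgClosed.card_roots_eq_natDegree, Matrix.charpoly_natDegree_eq_dim, Fintype.card_fin]
  have hdetA : A.det = A.charpoly.roots.prod := Matrix.det_eq_prod_roots_charpoly A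
  have hdetA0 : A.det ≠ 0 := by
    rw [hdetA]
    apply Multiset.prod_ne_zero
    intro h0
    have := hroots 0 h0
    rw [norm_zero] at this
    exact zero_ne_one this
  have hdetM : M.det ≠ 0 := by
    intro h0
    apply hdetA0
    rw [hA, ← RingHom.mapMatrix_apply, ← RingHom.map_det, h0, map_zero]
  have hMunit : IsUnit M := (Matrix.isUnit_iff_isUnit_det M).mpr (isUnit_iff_ne_zero.mpr hdetM)
  have hAunit : IsUnit A := (Matrix.isUnit_iff_isUnit_det A).mpr (isUnit_iff_ne_zero.mpr hdetA0)
  -- inverse commutes with the map
  have hinv : (M⁻¹).map ι = A⁻¹ := by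
    symm
    apply Matrix.inv_eq_right_inv
    rw [hA, ← Matrix.map_mul, Matrix.mul_nonsing_inv M ((Matrix.isUnit_iff_isUnit_det M).mp hMunit)]
    simp
  -- the characteristic polynomial of the inverse is the conjugate polynomial
  have hAinv : A⁻¹.charpoly = A.charpoly.map (starRingEnd ℂ) := by
    rw [Matrix.charpoly_inv A hAunit, ← Matrix.reverse_charpoly, Ring.inverse_eq_inv', Fintype.card_fin]
    have h1 := reverse_prod_aux A.charpoly.roots hroots
    rw [hsplit, hcard, ← hdetA] at h1
    have h2 : (A.charpoly.roots.map (fun z => Polynomial.X - Polynomial.C ((starRingEnd ℂ) z))).prod =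
        A.charpoly.map (starRingEnd ℂ) := by
      conv_rhs => rw [← hsplit]
      rw [Polynomial.map_multiset_prod, Multiset.map_map]
      congr 1
      apply Multiset.map_congr rfl
      intro z _
      simp
    rw [← h2, ← h1, Polynomial.C_mul, Polynomial.C_pow]
    simp
  -- the block matrix
  have hblock : (Matrix.fromBlocks M 0 0 (M⁻¹).transpose).charpoly.map ι =
      A.charpoly * A.charpoly.map (starRingEnd ℂ) := by
    rw [Matrix.charpoly_fromBlocks_zero₁₂, Polynomial.map_mul, Matrix.charpoly_transpose,
      ← Matrix.charpoly_map, ← Matrix.charpoly_map, hinv, hAinv]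
  have hcoeff : ι ((Matrix.fromBlocks M 0 0 (M⁻¹).transpose).charpoly.coeff n) =
      (A.charpoly * A.charpoly.map (starRingEnd ℂ)).coeff n := by
    rw [← hblock, Polynomial.coeff_map]
  rw [hcoeff, ← Complex.conj_eq_iff_im, ← Polynomial.coeff_map, Polynomial.map_mul,
    Polynomial.map_map]
  have : (starRingEnd ℂ).comp (starRingEnd ℂ) = RingHom.id ℂ := by
    ext z; simp
  rw [this, Polynomial.map_id, mul_comm]

end Groth.Agent.S15525
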