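import Groth.Statements.S15526
import Mathlib

set_option autoImplicit false
universe u
open MvPolynomial
open CAlg

namespace Groth.Agent.S15526

/-- abstract version: an `R`-algebra `A` with elements `x`, a unit `u` with `u^2 = P(x)`; the span of
`x^i u^k` (`i ≤ 2g`, `k : ℤ`) is stable under multiplication by `x`, `u`, `u⁻¹`. -/
theorem span_stable {R : Type*} [CommRing R] {A : Type*} [CommRing A] [Algebra R A] (g : ℕ)
    (P : Polynomial R) (hP : P.Monic) (hdeg : P.natDegree = 2 * g + 1) (x : A) (u : Aˣ)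
    (hu : (u : A) ^ 2 = Polynomial.aeval x P) :
    let W : Submodule R A := Submodule.span R
      {a | ∃ (i : ℕ) (k : ℤ), i ≤ 2 * g ∧ a = x ^ i * ((u ^ k : Aˣ) : A)}
    (∀ w ∈ W, x * w ∈ W) ∧ (∀ w ∈ W, (u : A) * w ∈ W) ∧ (∀ w ∈ W, ((u⁻¹ : Aˣ) : A) * w ∈ W) ∧
      (1 : A) ∈ W := by
  intro W
  have hmem : ∀ (i : ℕ) (k : ℤ), i ≤ 2 * g → x ^ i * ((u ^ k : Aˣ) : A) ∈ W :=
    fun i k hi => Submodule.subset_span ⟨i, k, hi, rfl⟩
  have hxpow : x ^ (2 * g + 1) = (u : A) ^ 2 -
      ∑ j ∈ Finset.range (2 * g + 1), algebraMap R A (P.coeff j) * x ^ j := by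
    have hP' : Polynomial.aeval x P = x ^ (2 * g + 1) +
        ∑ j ∈ Finset.range (2 * g + 1), algebraMap R A (P.coeff j) * x ^ j := by
      conv_lhs => rw [hP.as_sum, hdeg]
      simp [Polynomial.aeval_def, Polynomial.eval₂_finsetSum]
    rw [hu, hP', add_sub_cancel_right]
  refine ⟨?_, ?_, ?_, ?_⟩
  · intro w hw
    refine Submodule.span_induction ?_ ?_ ?_ ?_ hw
    · rintro _ ⟨i, k, hi, rfl⟩
      rcases Nat.lt_or_ge i (2 * g) with hlt | hge
      · have : x * (x ^ i * ((u ^ k : Aˣ) : A)) = x ^ (i + 1) * ((u ^ k : Aˣ) : A) := by ring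
        rw [this]
        exact hmem (i + 1) k hlt
      · have hi' : i = 2 * g := le_antisymm hi hge
        subst hi'
        have : x * (x ^ (2 * g) * ((u ^ k : Aˣ) : A)) =
            x ^ 0 * ((u ^ (k + 2) : Aˣ) : A) -
              ∑ j ∈ Finset.range (2 * g + 1), P.coeff j • (x ^ j * ((u ^ k : Aˣ) : A)) := by
          have h1 : x * (x ^ (2 * g) * ((u ^ k : Aˣ) : A)) =
              x ^ (2 * g + 1) * ((u ^ k : Aˣ) : A) := by ring
          rw [h1, hxpow, sub_mul, Finset.sum_mul, zpow_add, zpow_two]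
          simp only [Algebra.smul_def, pow_zero, one_mul, Units.val_mul, pow_two]
          congr 1
          · ring
          · refine Finset.sum_congr rfl (fun j _ => ?_)
            ring
        rw [this]
        refine W.sub_mem (hmem 0 (k + 2) (Nat.zero_le _)) (W.sum_mem (fun j hj => ?_))
        exact W.smul_mem _ (hmem j k (Nat.lt_succ_iff.mp (Finset.mem_range.mp hj)))
    · rw [mul_zero]; exact W.zero_mem
    · intro a b _ _ ha hb; rw [mul_add]; exact W.add_mem ha hb
    · intro r a _ ha; rw [mul_smul_comm]; exact W.smul_mem r ha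
  · intro w hw
    refine Submodule.span_induction ?_ ?_ ?_ ?_ hw
    · rintro _ ⟨i, k, hi, rfl⟩
      have : (u : A) * (x ^ i * ((u ^ k : Aˣ) : A)) = x ^ i * ((u ^ (k + 1) : Aˣ) : A) := by
        rw [zpow_add_one, Units.val_mul]; ring
      rw [this]
      exact hmem i (k + 1) hi
    · rw [mul_zero]; exact W.zero_mem
    · intro a b _ _ ha hb; rw [mul_add]; exact W.add_mem ha hb
    · intro r a _ ha; rw [mul_smul_comm]; exact W.smul_mem r ha
  · intro w hw
    refine Submodule.span_induction ?_ ?_ ?_ ?_ hw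
    · rintro _ ⟨i, k, hi, rfl⟩
      have : ((u⁻¹ : Aˣ) : A) * (x ^ i * ((u ^ k : Aˣ) : A)) =
          x ^ i * ((u ^ (k - 1) : Aˣ) : A) := by
        rw [zpow_sub_one, Units.val_mul]; ring
      rw [this]
      exact hmem i (k - 1) hi
    · rw [mul_zero]; exact W.zero_mem
    · intro a b _ _ ha hb; rw [mul_add]; exact W.add_mem ha hb
    · intro r a _ ha; rw [mul_smul_comm]; exact W.smul_mem r ha
  · have := hmem 0 0 (Nat.zero_le _)
    simpa using this

/-- Let R be a commutative ring, P ∈ R[x] a monic polynomial of degree 2g + 1, and A = R[x, y, z]/(y^2 −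
P(x), yz − 1). Then every element of A is a finite sum Σ_n Q_n(x) y^n over integers n, negative
powers of y meaning powers of z, with each Q_n ∈ R[x] of degree at most 2g: the R-submodule of A
spanned by the classes of x^i y^n and x^i z^n with i ≤ 2g and n ≥ 0 is all of A. (The published
statement takes for R the ring of Witt vectors of a finite field and for P a lift of a separable
polynomial; the argument uses only that P is monic of degree 2g + 1.) -/
theorem result (R : Type u) [CommRing R] (g : ℕ)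
    (P : Polynomial R) (hP : P.Monic) (hdeg : P.natDegree = 2 * g + 1) :
    Submodule.span R {a : MvPolynomial (Fin 3) R ⧸
        Ideal.span ({X 1 ^ 2 - Polynomial.aeval (X 0 : MvPolynomial (Fin 3) R) P, X 1 * X 2 - 1} :
          Set (MvPolynomial (Fin 3) R)) |
        ∃ i n : ℕ, i ≤ 2 * g ∧
          (a = Ideal.Quotient.mk _ (X 0 ^ i * X 1 ^ n) ∨ a = Ideal.Quotient.mk _ (X 0 ^ i * X 2 ^ n))} =
      ⊤ := by
  classical
  set I : Ideal (MvPolynomial (Fin 3) R) :=
    Ideal.span ({X 1 ^ 2 - Polynomial.aeval (X 0 : MvPolynomial (Fin 3) R) P, X 1 * X 2 - 1} :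
      Set (MvPolynomial (Fin 3) R)) with hI
  let mkA : MvPolynomial (Fin 3) R →+* (MvPolynomial (Fin 3) R ⧸ I) := Ideal.Quotient.mk I
  set x := mkA (X 0) with hx
  set y := mkA (X 1) with hy
  set z := mkA (X 2) with hz
  have hyz : y * z = 1 := by
    have h1 : (X 1 * X 2 - 1 : MvPolynomial (Fin 3) R) ∈ I :=
      Ideal.subset_span (by simp)
    have h2 := (Ideal.Quotient.eq_zero_iff_mem (I := I)).mpr h1
    rw [map_sub, map_mul, map_one, sub_eq_zero] at h2
    exact h2
  have hy2 : y ^ 2 = Polynomial.aeval x P := by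
    have h1 : (X 1 ^ 2 - Polynomial.aeval (X 0 : MvPolynomial (Fin 3) R) P) ∈ I :=
      Ideal.subset_span (by simp)
    have h2 := (Ideal.Quotient.eq_zero_iff_mem (I := I)).mpr h1
    rw [map_sub, map_pow, sub_eq_zero] at h2
    rw [hy, h2]
    have h3 := Polynomial.aeval_algHom_apply (Ideal.Quotient.mkₐ R I) (X 0) P
    rw [Ideal.Quotient.mkₐ_eq_mk] at h3
    exact h3.symm
  let u : (MvPolynomial (Fin 3) R ⧸ I)ˣ := ⟨y, z, hyz, by rw [mul_comm]; exact hyz⟩
  obtain ⟨hWx, hWy, hWz, hW1⟩ := span_stable g P hP hdeg x u hy2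
  set W : Submodule R (MvPolynomial (Fin 3) R ⧸ I) := Submodule.span R
      {a | ∃ (i : ℕ) (k : ℤ), i ≤ 2 * g ∧ a = x ^ i * ((u ^ k : (MvPolynomial (Fin 3) R ⧸ I)ˣ) :
        MvPolynomial (Fin 3) R ⧸ I)} with hWdef
  -- W is everything
  have hall : ∀ p : MvPolynomial (Fin 3) R, mkA p ∈ W := by
    intro p
    induction p using MvPolynomial.induction_on with
    | C r =>
      have : mkA (C r) = r • (1 : MvPolynomial (Fin 3) R ⧸ I) := by
        have h1 : r • (1 : MvPolynomial (Fin 3) R ⧸ I) = mkA (r • (1 : MvPolynomial (Fin 3) R)) := rfl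
        rw [h1, MvPolynomial.smul_eq_C_mul, mul_one]
      rw [this]
      exact W.smul_mem r hW1
    | add p q hp hq => rw [map_add]; exact W.add_mem hp hq
    | mul_X p i hp =>
      rw [map_mul, mul_comm]
      fin_cases i
      · exact hWx _ hp
      · exact hWy _ hp
      · exact hWz _ hp
  rw [eq_top_iff]
  intro a _
  obtain ⟨p, rfl⟩ := Ideal.Quotient.mk_surjective a
  have hle : W ≤ Submodule.span R {a : MvPolynomial (Fin 3) R ⧸ I |
        ∃ i n : ℕ, i ≤ 2 * g ∧
          (a = Ideal.Quotient.mk _ (X 0 ^ i * X 1 ^ n) ∨ a = Ideal.Quotient.mk _ (X 0 ^ i * X 2 ^ n))} := by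
    rw [hWdef, Submodule.span_le]
    rintro _ ⟨i, k, hi, rfl⟩
    apply Submodule.subset_span
    rcases Int.le_total 0 k with hk | hk
    · obtain ⟨n, rfl⟩ := Int.eq_ofNat_of_zero_le hk
      refine ⟨i, n, hi, Or.inl ?_⟩
      rw [zpow_natCast, Units.val_pow_eq_pow_val, map_mul, map_pow, map_pow]
    · obtain ⟨n, hn⟩ := Int.eq_ofNat_of_zero_le (neg_nonneg.mpr hk)
      have hk' : k = -(n : ℤ) := by omega
      subst hk'
      refine ⟨i, n, hi, Or.inr ?_⟩
      rw [zpow_neg, zpow_natCast, ← inv_pow, Units.val_pow_eq_pow_val, map_mul, map_pow, map_pow]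
      rfl
  exact hle (hall p)

end Groth.Agent.S15526
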