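import Groth.Statements.S15533
import Groth.Agent.Lib.Helper62.BCStalk
import Groth.Agent.Lib.Helper62.SmoothStalk
import Groth.Agent.Lib.Helper21.DomainStalks
import Groth.Agent.S0558
import Groth.Agent.Lib.Helper62.BCGlobal
import Groth.Agent.Lib.Helper69.ReducedSmoothLocal
import Mathlib

set_option autoImplicit false
set_option linter.style.haveILetI false
universe u
open OmegaSh

namespace Groth.Agent.S15533

open CategoryTheory CategoryTheory.Limits AlgebraicGeometry
open scoped TensorProduct

/-- a finite reduced algebra over an algebraically closed field is formally étale. -/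
theorem formallyEtale_of_isAlgClosed (Ω B : Type u) [Field Ω] [IsAlgClosed Ω] [CommRing B]
    [Algebra Ω B] [Module.Finite Ω B] [_root_.IsReduced B] : Algebra.FormallyEtale Ω B := by
  classical
  haveI : IsArtinianRing B := isArtinian_of_tower Ω inferInstance
  letI (m : MaximalSpectrum B) : Field (B ⧸ m.asIdeal) := Ideal.Quotient.field m.asIdeal
  rw [Algebra.FormallyEtale.iff_of_equiv ((IsArtinianRing.equivPi B).restrictScalars Ω),
    Algebra.FormallyEtale.pi_iff]
  intro m
  haveI : Module.Finite Ω (B ⧸ m.asIdeal) := inferInstance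
  haveI : Algebra.IsAlgebraic Ω (B ⧸ m.asIdeal) := inferInstance
  haveI : Algebra.IsSeparable Ω (B ⧸ m.asIdeal) := inferInstance
  exact Algebra.FormallyEtale.of_isSeparable Ω (B ⧸ m.asIdeal)

/-- a finite algebra over a field which is geometrically reduced is formally unramified. -/
theorem formallyUnramified_of_isReduced_tensor (k A : Type u) [Field k] [CommRing A] [Algebra k A]
    [Module.Finite k A] (h : _root_.IsReduced (AlgebraicClosure k ⊗[k] A)) :
    Algebra.FormallyUnramified k A := by
  haveI : Algebra.FormallyEtale (AlgebraicClosure k) (AlgebraicClosure k ⊗[k] A) :=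
    formallyEtale_of_isAlgClosed _ _
  exact Algebra.FormallyUnramified.of_formallyUnramified_tensorProduct_of_faithfullyFlat
    (AlgebraicClosure k)

/-- derivation-like additive maps on a formally unramified algebra vanish. -/
theorem deriv_eq_zero (k A : Type u) [Field k] [CommRing A] [Algebra k A]
    [Algebra.FormallyUnramified k A] (M : Type u) [AddCommGroup M] [Module A M] (D : A →+ M)
    (hmul : ∀ a b, D (a * b) = a • D b + b • D a)
    (hk : ∀ c : k, D (algebraMap k A c) = 0) (s : A) : D s = 0 := by
  letI : Module k M := Module.compHom M (algebraMap k A)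
  haveI : IsScalarTower k A M := ⟨fun c a m => by
    change (c • a) • m = algebraMap k A c • (a • m)
    rw [Algebra.smul_def, mul_smul]⟩
  let D' : Derivation k A M :=
    { toFun := D
      map_add' := D.map_add
      map_smul' := fun c a => by
        simp only [RingHom.id_apply]
        rw [Algebra.smul_def, hmul, hk, smul_zero, add_zero]
        rfl
      map_one_eq_zero' := by
        have := hk 1
        simpa using this
      leibniz' := fun a b => by
        change D (a * b) = a • D b + b • D a
        exact hmul a b }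
  have h1 : D'.liftKaehlerDifferential (KaehlerDifferential.D k A s) = D' s :=
    Derivation.liftKaehlerDifferential_comp_D D' s
  have h2 : KaehlerDifferential.D k A s = 0 := Subsingleton.elim _ _
  rw [h2, map_zero] at h1
  exact h1.symm


open Groth.Agent.Lib.Helper62

/-- global functions of a proper scheme over a field all of whose local rings are domains form a
finite-dimensional algebra. -/
theorem finite_toSection (k : Type u) [Field k] (X : Scheme.{u}) (f : X ⟶ Spec (CommRingCat.of k))
    [IsProper f] (hdom : ∀ x : X, IsDomain (X.presheaf.stalk x)) :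
    (BCStalk.toSection f ⊤).Finite := by
  haveI : IsLocallyNoetherian X := LocallyOfFiniteType.isLocallyNoetherian f
  haveI : CompactSpace X := QuasiCompact.compactSpace_of_compactSpace f
  haveI : IsNoetherian X := {}
  haveI : ∀ x : X, _root_.IsReduced (X.presheaf.stalk x) := fun x => by
    haveI := hdom x
    infer_instance
  haveI : IsReduced X := isReduced_of_isReduced_stalk X
  have hfin : (irreducibleComponents X).Finite :=
    TopologicalSpace.NoetherianSpace.finite_irreducibleComponents
  haveI : Finite (irreducibleComponents X) := hfin.to_subtype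
  -- the clopen pieces
  let UZ : irreducibleComponents X → X.Opens := fun Z =>
    ⟨Z.1, Groth.Agent.Lib.Helper21.isOpen_of_mem_irreducibleComponents_of_isDomain_stalk hfin hdom Z.2⟩
  have hcover : (⊤ : X.Opens) ≤ ⨆ Z, UZ Z := by
    intro x _
    obtain ⟨Z', hZ', hxZ'⟩ := exists_mem_irreducibleComponents_subset_of_isIrreducible
      ({x} : Set X) isIrreducible_singleton
    exact TopologicalSpace.Opens.mem_iSup.mpr ⟨⟨Z', hZ'⟩, hxZ' rfl⟩
  -- each piece is integral and proper over k
  have hpiece : ∀ Z : irreducibleComponents X,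
      (BCStalk.toSection ((UZ Z).ι ≫ f) ⊤).Finite := by
    intro Z
    haveI : IrreducibleSpace ↥(UZ Z).toScheme := Subtype.irreducibleSpace Z.2.1
    haveI : IsIntegral (UZ Z).toScheme := isIntegral_of_irreducibleSpace_of_isReduced _
    haveI : IsClosedImmersion (UZ Z).ι := by
      apply IsClosedImmersion.of_isPreimmersion
      rw [Scheme.Opens.range_ι]
      exact isClosed_of_mem_irreducibleComponents Z.1 Z.2
    haveI : IsProper ((UZ Z).ι ≫ f) := inferInstance
    have h1 := finite_appTop_of_universallyClosed k ((UZ Z).ι ≫ f)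
    have h2 : BCStalk.toSection ((UZ Z).ι ≫ f) ⊤ =
        (((UZ Z).ι ≫ f).appTop).hom.comp (Scheme.ΓSpecIso (CommRingCat.of k)).inv.hom := by
      ext c
      simp [BCStalk.toSection, Scheme.Hom.appLE]
      rfl
    rw [h2]
    exact h1.comp (RingHom.Finite.of_surjective _
      (Scheme.ΓSpecIso (CommRingCat.of k)).symm.commRingCatIsoToRingEquiv.surjective)
  have hcomp : ∀ (Z : irreducibleComponents X) (c : k),
      (UZ Z).ι.appTop.hom (BCStalk.toSection f ⊤ c) = BCStalk.toSection ((UZ Z).ι ≫ f) ⊤ c := by
    intro Z c
    simp [BCStalk.toSection, Scheme.Hom.appLE]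
    rfl
  letI : Algebra k Γ(X, ⊤) := (BCStalk.toSection f ⊤).toAlgebra
  letI : ∀ Z : irreducibleComponents X, Algebra k Γ((UZ Z).toScheme, ⊤) := fun Z =>
    (BCStalk.toSection ((UZ Z).ι ≫ f) ⊤).toAlgebra
  haveI : ∀ Z : irreducibleComponents X, Module.Finite k Γ((UZ Z).toScheme, ⊤) := fun Z =>
    hpiece Z
  let ψ : Γ(X, ⊤) →ₗ[k] (∀ Z : irreducibleComponents X, Γ((UZ Z).toScheme, ⊤)) :=
    { toFun := fun a Z => (UZ Z).ι.appTop.hom a
      map_add' := fun a b => by
        ext Z
        simp
      map_smul' := fun c a => by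
        ext Z
        simp only [RingHom.id_apply, Pi.smul_apply]
        rw [Algebra.smul_def, Algebra.smul_def, map_mul]
        congr 1
        exact hcomp Z c }
  have hψ : Function.Injective ψ := by
    rw [injective_iff_map_eq_zero]
    intro a ha
    refine X.sheaf.eq_of_locally_eq' (fun Z => (UZ Z).ι ''ᵁ ⊤) ⊤ (fun Z => homOfLE le_top) ?_ a 0 ?_
    · intro x hx
      obtain ⟨Z, hZ⟩ := TopologicalSpace.Opens.mem_iSup.mp (hcover hx)
      refine TopologicalSpace.Opens.mem_iSup.mpr ⟨Z, ?_⟩
      rw [Scheme.Opens.ι_image_top]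
      exact hZ
    · intro Z
      have := congr_fun ha Z
      rw [map_zero]
      exact this
  change Module.Finite k Γ(X, ⊤)
  exact Module.Finite.of_injective ψ hψ


theorem main (k : Type u) [Field k] (X : Scheme.{u})
    (f : X ⟶ Spec (CommRingCat.of k)) [IsProper f] [Smooth f] (s : Γ(X, ⊤)) :
    (OmegaSh.dOmega f).app ⊤ s = 0 := by
  have hdom : ∀ x : X, IsDomain (X.presheaf.stalk x) := fun x => by
    haveI := SmoothStalk.isRegularLocalRing_stalk f x
    exact Groth.Agent.S0558.result _
  letI : Algebra k Γ(X, ⊤) := (BCStalk.toSection f ⊤).toAlgebra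
  haveI : Module.Finite k Γ(X, ⊤) := finite_toSection k X f hdom
  have hred : _root_.IsReduced (AlgebraicClosure k ⊗[k] Γ(X, ⊤)) := by
    haveI := BCGlobal.flat_SpecMap_field k (AlgebraicClosure k)
    haveI : CompactSpace X := QuasiCompact.compactSpace_of_compactSpace f
    haveI : QuasiSeparatedSpace X := by
      haveI : IsSeparated f := inferInstance
      exact (quasiSeparatedSpace_iff_quasiSeparated X).mpr
        (by rw [← terminal.comp_from f]; infer_instance)
    obtain ⟨φ, -, -⟩ := BCGlobal.exists_ringEquiv_sections_of_qcqs (f := f) (AlgebraicClosure k)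
      (U := ⊤) isCompact_univ isQuasiSeparated_univ
    haveI : Smooth (BCStalk.bcσ f (AlgebraicClosure k)) := inferInstance
    haveI : IsReduced (BCStalk.bc f (AlgebraicClosure k)) :=
      Groth.Agent.Lib.Helper69.ReducedSmoothLocal.isReduced_of_smooth
        (BCStalk.bcσ f (AlgebraicClosure k))
    haveI : _root_.IsReduced Γ(BCStalk.bc f (AlgebraicClosure k),
        (BCStalk.bcπ f (AlgebraicClosure k)) ⁻¹ᵁ ⊤) := inferInstance
    exact isReduced_of_injective φ.toRingHom φ.injective
  haveI := formallyUnramified_of_isReduced_tensor k Γ(X, ⊤) hred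
  refine deriv_eq_zero k Γ(X, ⊤) Γ(Omega.sheaf f, ⊤) ((OmegaSh.dOmega f).app ⊤) ?_ ?_ s
  · intro a b
    exact (OmegaSh.dOmega f).d_mul (X := Opposite.op ⊤) a b
  · intro c
    have h1 : algebraMap k Γ(X, ⊤) c =
        (f.appTop).hom ((Scheme.ΓSpecIso (CommRingCat.of k)).inv.hom c) := by
      change BCStalk.toSection f ⊤ c = _
      simp [BCStalk.toSection, Scheme.Hom.appLE]
    rw [h1]
    exact (OmegaSh.dOmega f).d_app (X := Opposite.op ⊤)
      ((Scheme.ΓSpecIso (CommRingCat.of k)).inv.hom c)


open CategoryTheory AlgebraicGeometry in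
/-- For a field k and a smooth proper k-scheme X with structure morphism f, the derivation d : O_X →
Ω_{X/k} of f vanishes on global functions: d(s) = 0 in Γ(X, Ω_{X/k}) for every s ∈ Γ(X, O_X). -/
theorem result (k : Type u) [Field k] (X : Scheme.{u})
    (f : X ⟶ Spec (CommRingCat.of k)) [IsProper f] [Smooth f] (s : Γ(X, ⊤)) :
    (OmegaSh.dOmega f).app ⊤ s = 0 := by
  exact main k X f s

end Groth.Agent.S15533
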