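import Groth.Statements.S15536
import Groth.Agent.Lib.Helper85.DRPoly

set_option autoImplicit false
universe u
open DeRham

namespace Groth.Agent.S15536

section helpers

open exteriorPower Polynomial Groth.Agent.Lib.Helper85.DRPoly Groth.Agent.Lib.Helper85.DRCont

variable {R A : Type u} [CommRing R] [CommRing A] [Algebra R A]
    (d' : ∀ p : ℕ, ↥(⋀[A[X]]^p (Ω[A[X]⁄R])) →ₗ[R] ↥(⋀[A[X]]^(p + 1) (Ω[A[X]⁄R])))
    (ψ : ∀ p : ℕ, ↥(⋀[A]^p (Ω[A⁄R])) →+ ↥(⋀[A[X]]^p (Ω[A[X]⁄R])))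

theorem psi_injective
    (hψ : DeRham.IsCxMap (KaehlerDifferential.D R A) (KaehlerDifferential.D R A[X]) (algebraMap A A[X]) ψ)
    (p : ℕ) : Function.Injective (ψ p) := by
  obtain ⟨φ, hφ⟩ := exists_retraction R A p
  have h : ∀ x, φ (ψ p x) = x := by
    intro x
    induction x using Groth.Agent.Lib.Helper77.DeRhamGen.gen_induction_kaehler with
    | h0 => simp
    | hadd x y hx hy => rw [map_add, map_add, hx, hy]
    | hgen b₀ b =>
      rw [hψ p b₀ b, hφ]
      simp [Polynomial.algebraMap_apply]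
  exact Function.LeftInverse.injective h

theorem Nop_psi
    (hd' : DeRham.IsRule (KaehlerDifferential.D R A[X]) d')
    (hψ : DeRham.IsCxMap (KaehlerDifferential.D R A) (KaehlerDifferential.D R A[X]) (algebraMap A A[X]) ψ)
    (p : ℕ) (x : ↥(⋀[A]^p (Ω[A⁄R]))) : Nop R A d' p (ψ p x) = 0 := by
  induction x using Groth.Agent.Lib.Helper77.DeRhamGen.gen_induction_kaehler with
  | h0 => simp
  | hadd x y hx hy => rw [map_add, map_add, hx, hy, add_zero]
  | hgen b₀ b =>
    rw [hψ p b₀ b]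
    have e : ∀ a : A, algebraMap A A[X] a = Polynomial.monomial 0 a := by
      intro a
      rw [Polynomial.algebraMap_apply, Polynomial.monomial_zero_left]
      rfl
    simp only [e]
    rw [Nop_gen_eig R A d' hd' p _ _ 0 (fun _ => 0)
      (by rw [eul_D_monomial]) (fun a => by rw [eul_D_monomial])]
    simp

variable [Algebra ℚ R]

theorem decomp
    (hd' : DeRham.IsRule (KaehlerDifferential.D R A[X]) d')
    (hψ : DeRham.IsCxMap (KaehlerDifferential.D R A) (KaehlerDifferential.D R A[X]) (algebraMap A A[X]) ψ)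
    (p : ℕ) (x : ↥(⋀[A[X]]^p (Ω[A[X]⁄R]))) :
    ∃ (x₀ : ↥(⋀[A]^p (Ω[A⁄R]))) (f : ℕ →₀ ↥(⋀[A[X]]^p (Ω[A[X]⁄R]))), f 0 = 0 ∧
      (∀ w, Nop R A d' p (f w) = (w : R) • f w) ∧ x = ψ p x₀ + f.sum (fun _ v => v) := by
  classical
  induction x using mono_gen_induction with
  | h0 => exact ⟨0, 0, by simp, by simp, by simp⟩
  | hadd x y hx hy =>
    obtain ⟨x₀, f, hf0, hfN, hx⟩ := hx
    obtain ⟨y₀, g, hg0, hgN, hy⟩ := hy
    refine ⟨x₀ + y₀, f + g, by simp [hf0, hg0], fun w => ?_, ?_⟩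
    · rw [Finsupp.add_apply, map_add, hfN, hgN, smul_add]
    · rw [Finsupp.sum_add_index' (fun _ => rfl) (fun _ _ _ => rfl), map_add, hx, hy]
      abel
  | hgen k₀ a₀ k a =>
    set g := DeRham.gen (KaehlerDifferential.D R A[X]) p (Polynomial.monomial k₀ a₀)
        (fun i => Polynomial.monomial (k i) (a i)) with hg
    have hN : Nop R A d' p g = ((k₀ + ∑ i, k i : ℕ) : R) • g := by
      rw [hg, Nop_gen_eig R A d' hd' p _ _ k₀ k (eul_D_monomial R A k₀ a₀)
        (fun i => eul_D_monomial R A (k i) (a i)), Nat.cast_smul_eq_nsmul]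
    by_cases hw : k₀ + ∑ i, k i = 0
    · have h0 : k₀ = 0 := by omega
      have hk : ∀ i, k i = 0 := by
        intro i
        have h1 : ∑ i, k i = 0 := by omega
        exact (Finset.sum_eq_zero_iff.mp h1) i (Finset.mem_univ i)
      refine ⟨DeRham.gen (KaehlerDifferential.D R A) p a₀ a, 0, by simp, by simp, ?_⟩
      rw [hψ p a₀ a, Finsupp.sum_zero_index, add_zero, hg, h0]
      simp only [hk]
      have e : ∀ a : A, algebraMap A A[X] a = Polynomial.monomial 0 a := by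
        intro a
        rw [Polynomial.algebraMap_apply, Polynomial.monomial_zero_left]
        rfl
      simp only [e]
    · refine ⟨0, Finsupp.single (k₀ + ∑ i, k i) g, ?_, fun w => ?_, ?_⟩
      · rw [Finsupp.single_apply, if_neg hw]
      · by_cases hwe : k₀ + ∑ i, k i = w
        · subst hwe
          rw [Finsupp.single_eq_same, hN]
        · rw [Finsupp.single_apply, if_neg hwe, map_zero, smul_zero]
      · rw [map_zero, zero_add, Finsupp.sum_single_index rfl]

theorem key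
    (hd' : DeRham.IsRule (KaehlerDifferential.D R A[X]) d')
    (hψ : DeRham.IsCxMap (KaehlerDifferential.D R A) (KaehlerDifferential.D R A[X]) (algebraMap A A[X]) ψ)
    (p : ℕ) (x : ↥(⋀[A[X]]^p (Ω[A[X]⁄R]))) :
    ∃ (x₀ : ↥(⋀[A]^p (Ω[A⁄R]))) (P : R[X]),
      x - ψ p x₀ = Nop R A d' p (Polynomial.aeval (Nop R A d' p) P x) := by
  obtain ⟨x₀, f, hf0, hfN, hx⟩ := decomp d' ψ hd' hψ p x
  obtain ⟨P, hP⟩ := poly_trick (Nop R A d' p) f.support (fun w hw => by
    rw [Finsupp.mem_support_iff] at hw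
    rcases w with _ | w
    · exact absurd hf0 hw
    · omega)
  refine ⟨x₀, P, ?_⟩
  have h := hP (ψ p x₀) (fun w => f w) (Nop_psi d' ψ hd' hψ p x₀) (fun w _ => hfN w)
  have hs : f.sum (fun _ v => v) = ∑ w ∈ f.support, f w := rfl
  rw [hx, hs, ← h]
  abel

end helpers

open exteriorPower Polynomial in
/-- For a commutative ℚ-algebra R, an R-algebra A, de Rham differentials d on ⋀^• Ω_{A/R} and d' on ⋀^•
Ω_{A[t]/R}, and the map of de Rham complexes ψ induced by the inclusion A → A[t] (pinned by its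
values on the elements b₀ db₁ ∧ … ∧ db_p and commuting with d, d'), the map ψ is a
quasi-isomorphism: in every degree i, each d'-closed form on A[t] is the sum of ψ_i of a d-closed
form on A and a d'-exact form, and a d-closed form on A whose image under ψ_i is d'-exact is d-exact
(in degree 0, exact means zero). -/
theorem result (R A : Type u) [CommRing R]
    [CommRing A] [Algebra R A] [Algebra ℚ R]
    (d : ∀ p : ℕ, ↥(⋀[A]^p (Ω[A⁄R])) →ₗ[R] ↥(⋀[A]^(p + 1) (Ω[A⁄R])))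
    (hd : DeRham.IsDiff (KaehlerDifferential.D R A) d)
    (d' : ∀ p : ℕ, ↥(⋀[A[X]]^p (Ω[A[X]⁄R])) →ₗ[R] ↥(⋀[A[X]]^(p + 1) (Ω[A[X]⁄R])))
    (hd' : DeRham.IsDiff (KaehlerDifferential.D R A[X]) d')
    (ψ : ∀ p : ℕ, ↥(⋀[A]^p (Ω[A⁄R])) →+ ↥(⋀[A[X]]^p (Ω[A[X]⁄R])))
    (hψ : DeRham.IsCxMap (KaehlerDifferential.D R A) (KaehlerDifferential.D R A[X]) (algebraMap A A[X]) ψ)
    (hcomm : ∀ (p : ℕ) (x : ↥(⋀[A]^p (Ω[A⁄R]))), ψ (p + 1) (d p x) = d' p (ψ p x)) (i : ℕ) :
    (∀ y ∈ DeRham.cocycles d' i, ∃ x ∈ DeRham.cocycles d i, y - ψ i x ∈ DeRham.coboundaries d' i) ∧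
      (∀ x ∈ DeRham.cocycles d i, ψ i x ∈ DeRham.coboundaries d' i → x ∈ DeRham.coboundaries d i) := by
  classical
  have hdd : ∀ p : ℕ, d' (p + 1) ∘ₗ d' p = 0 := hd'.2
  have hdd' : ∀ (q : ℕ) (z), d' (q + 1) (d' q z) = 0 := fun q z => LinearMap.congr_fun (hdd q) z
  have hinj := psi_injective ψ hψ
  have hNψ := Nop_psi d' ψ hd'.1 hψ
  have hint : ∀ (p : ℕ) (P : Polynomial R) (x : ↥(⋀[A[X]]^p (Ω[A[X]⁄R]))),
      d' p (Polynomial.aeval (Groth.Agent.Lib.Helper85.DRPoly.Nop R A d' p) P x) =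
        Polynomial.aeval (Groth.Agent.Lib.Helper85.DRPoly.Nop R A d' (p + 1)) P (d' p x) :=
    fun p P x => Groth.Agent.Lib.Helper85.DRPoly.aeval_intertwine _ _ (d' p)
      (fun v => Groth.Agent.Lib.Helper85.DRPoly.d_Nop R A d' hdd p v) P x
  refine ⟨?_, ?_⟩
  · intro y hy
    have hy0 : d' i y = 0 := hy
    obtain ⟨x₀, P, hP⟩ := key d' ψ hd'.1 hψ i y
    set y' := Polynomial.aeval (Groth.Agent.Lib.Helper85.DRPoly.Nop R A d' i) P y with hy'
    have hdy' : d' i y' = 0 := by rw [hy', hint, hy0, map_zero]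
    refine ⟨x₀, ?_, ?_⟩
    · -- x₀ closed
      show d i x₀ = 0
      apply hinj (i + 1)
      rw [hcomm, map_zero]
      have : ψ i x₀ = y - Groth.Agent.Lib.Helper85.DRPoly.Nop R A d' i y' := by rw [← hP]; abel
      rw [this, map_sub, hy0, Groth.Agent.Lib.Helper85.DRPoly.d_Nop R A d' hdd, hdy', map_zero,
        sub_zero]
    · rw [hP]
      rcases i with _ | j
      · rw [Groth.Agent.Lib.Helper85.DRPoly.Nop_zero_apply, hdy', map_zero]
        exact Submodule.zero_mem _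
      · rw [Groth.Agent.Lib.Helper85.DRPoly.Nop_succ_apply, hdy', map_zero, add_zero]
        exact ⟨_, rfl⟩
  · intro x hx hψx
    have hx0 : d i x = 0 := hx
    rcases i with _ | j
    · have h0 : ψ 0 x = 0 := hψx
      have : x = 0 := hinj 0 (by rw [h0, map_zero])
      rw [this]
      exact Submodule.zero_mem _
    · obtain ⟨z, hz⟩ := hψx
      obtain ⟨u, P, hP⟩ := key d' ψ hd'.1 hψ j z
      refine ⟨u, ?_⟩
      apply hinj (j + 1)
      rw [hcomm]
      have h1 : d' j (z - ψ j u) = 0 := by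
        rw [hP, Groth.Agent.Lib.Helper85.DRPoly.d_Nop R A d' hdd, hint, hz]
        exact Groth.Agent.Lib.Helper85.DRPoly.aeval_of_ker _ P _ (hNψ (j + 1) x)
      rw [map_sub, sub_eq_zero] at h1
      rw [← h1, hz]

end Groth.Agent.S15536
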