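import Groth.Statements.S1554
import Groth.Agent.Lib.Helper73.MaxPtFibreDim
-- import your own Groth.Agent.* helpers here

set_option autoImplicit false
universe u
open CategoryTheory CategoryTheory.Limits AlgebraicGeometry
open Variety

namespace Groth.Agent.S1554

/-- Let f : X → Y be locally of finite type, x a point with image y such that the local ring of Y at y
is Noetherian of dimension at most one, and d a natural number such that the local fibre dimension
is d at the generic points of the irreducible components of X passing through x. Then the local
dimension at x of the fibre over y equals d. -/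
theorem result {X Y : Scheme.{u}} (f : X ⟶ Y) [LocallyOfFiniteType f]
    (x : X) [IsNoetherianRing (Y.presheaf.stalk (f.base x))] (hdimY : ringKrullDim (Y.presheaf.stalk (f.base x)) ≤ 1) (d : ℕ)
    (hgen : ∀ Z ∈ irreducibleComponents (X : Type u), x ∈ Z → ∀ η : X, IsGenericPoint η Z → FlatMor.fibreDimAt f η = d) :
    FlatMor.fibreDimAt f x = d := by
  refine Groth.Agent.Lib.Helper73.MaxPtFibreDim.fibreDimAt_eq_of_stalk_noetherian_of_dim_le_one f x hdimY d ?_
  intro η hmax hsp
  obtain ⟨h1, h2, h3⟩ := Groth.Agent.Lib.Helper73.MaxPtFibreDim.maximal_to_component hmax hsp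
  exact hgen _ h1 h2 η h3

end Groth.Agent.S1554
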