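import Groth.Statements.S19857
import Groth.Agent.Lib.Helper9.LciMor1
import Groth.Agent.Lib.Helper9.LciMor2
import Groth.Agent.S9758
-- import your own Groth.Agent.* helpers here

set_option autoImplicit false
universe u
open Synt

namespace Groth.Agent.S19857

open CategoryTheory AlgebraicGeometry in
/-- Let S be a scheme, p : X ⟶ S and q : Y ⟶ S smooth morphisms and f : X ⟶ Y a morphism over S (f ≫ q =
p) which is flat. Then f is syntomic (affine-locally given by flat ring maps of finite presentation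
whose fibres are local complete intersections). -/
theorem result {X Y S : Scheme.{u}}
    (p : X ⟶ S) (q : Y ⟶ S) [Smooth p] [Smooth q] (f : X ⟶ Y) (hf : f ≫ q = p) [Flat f] :
    Synt.IsSyntomicMor f := by
  have hp : ∀ x : X, Synt.IsKoszulAt (f ≫ q) x := by
    intro x
    haveI : Smooth (f ≫ q) := by rw [hf]; infer_instance
    obtain ⟨V, hV, hxV, -⟩ :=
      exists_isAffineOpen_mem_and_subset (x := (f ≫ q) x) (U := ⊤) trivial
    obtain ⟨U, hU, hxU, hUV⟩ :=
      exists_isAffineOpen_mem_and_subset (x := x) (U := (f ≫ q) ⁻¹ᵁ V) hxV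
    exact Groth.Agent.Lib.Helper9.LciMor2.isKoszulAt_of_affine_isLCI (f ≫ q) x ⟨U, hU⟩ ⟨V, hV⟩
      hUV hxU (Groth.Agent.Lib.Helper9.LciMor2.ringHomLCI_of_smooth _
        ((f ≫ q).smooth_appLE hV hU hUV))
  exact (Groth.Agent.S9758.result f).mp ⟨inferInstance, fun x =>
    Groth.Agent.Lib.Helper9.LciMor1.isKoszulAt_of_comp_smooth f q x (hp x)⟩

end Groth.Agent.S19857
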