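import Groth.Statements.S15545
import Groth.Agent.Lib.Helper78.ProConsClosure
import Mathlib.AlgebraicGeometry.Morphisms.UniversallyOpen

set_option autoImplicit false
open CategoryTheory AlgebraicGeometry
universe u
open FDesc

namespace Groth.Agent.S15545

/-- Let f : X' ⟶ X be flat, quasi-compact and surjective, and Z a pro-constructible subset of X (locally
on X an intersection of locally constructible subsets) which is dense in X. Then the preimage of Z
under f is dense in X'. -/
theorem result {X' X : Scheme.{u}} (f : X' ⟶ X)
    [Flat f] [QuasiCompact f] [Surjective f] (Z : Set X) (hZ : ProCons.IsProConstructible Z)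
    (hd : Dense Z) : Dense (f.base ⁻¹' Z) := by
  intro x'
  obtain ⟨z, hzZ, hz⟩ :=
    Groth.Agent.Lib.Helper78.ProConsClosure.exists_specializes_of_mem_closure hZ (hd (f x'))
  obtain ⟨z', hz', hfz'⟩ := (Flat.generalizingMap (f := f)) hz
  have hmem : z' ∈ f.base ⁻¹' Z := by
    show f z' ∈ Z
    rw [hfz']
    exact hzZ
  exact closure_mono (Set.singleton_subset_iff.mpr hmem) (specializes_iff_mem_closure.mp hz')

end Groth.Agent.S15545
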