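import Groth.Statements.S15546
import Mathlib.FieldTheory.Perfect
import Mathlib.RingTheory.PowerBasis
import Mathlib.RingTheory.Flat.Basic
import Mathlib.RingTheory.Flat.FaithfullyFlat.Basic
import Mathlib.FieldTheory.IsAlgClosed.Basic

set_option autoImplicit false
open scoped TensorProduct
universe u
open Unram

namespace Groth.Agent.S15546

/-- Let E be a finite extension of a field k which is not separable over k, and K an algebraic closure
of k. Then E ⊗_k K has a nonzero nilpotent element. -/
theorem result (k E K : Type u) [Field k] [Field E]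
    [Algebra k E] [FiniteDimensional k E] [Field K] [Algebra k K] [IsAlgClosure k K]
    (h : ¬ Algebra.IsSeparable k E) : ∃ x : E ⊗[k] K, x ≠ 0 ∧ IsNilpotent x := by
  classical
  have hK : IsAlgClosed K := IsAlgClosure.isAlgClosed k
  -- an inseparable element
  rw [Algebra.isSeparable_def] at h
  push Not at h
  obtain ⟨α, hα⟩ := h
  have hint : IsIntegral k α := Algebra.IsIntegral.isIntegral α
  set f := minpoly k α with hf
  have hfsep : ¬ f.Separable := hα
  set f' := f.map (algebraMap k K) with hf'
  have hf'sep : ¬ f'.Separable := fun hs => hfsep ((Polynomial.separable_map _).mp hs)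
  rw [PerfectField.separable_iff_squarefree] at hf'sep
  have hf'0 : f' ≠ 0 := Polynomial.map_ne_zero (minpoly.ne_zero hint)
  -- a repeated factor
  obtain ⟨g, hg, hgu⟩ : ∃ g : Polynomial K, g * g ∣ f' ∧ ¬ IsUnit g := by
    by_contra hcon
    push Not at hcon
    exact hf'sep (fun g hg => hcon g hg)
  obtain ⟨hh, hgh⟩ := hg
  have hg0 : g ≠ 0 := by
    rintro rfl
    simp at hgh
    exact hf'0 hgh
  have hh0 : hh ≠ 0 := by
    rintro rfl
    simp at hgh
    exact hf'0 hgh
  have hgdeg : 0 < g.natDegree := by
    rw [Nat.pos_iff_ne_zero]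
    intro h0
    apply hgu
    rw [Polynomial.eq_C_of_natDegree_eq_zero h0]
    refine Polynomial.isUnit_C.mpr (isUnit_iff_ne_zero.mpr ?_)
    intro hc
    apply hg0
    rw [Polynomial.eq_C_of_natDegree_eq_zero h0, hc, Polynomial.C_0]
  set q := g * hh with hq
  have hq0 : q ≠ 0 := mul_ne_zero hg0 hh0
  have hdeg : f'.natDegree = f.natDegree := Polynomial.natDegree_map _
  have hqdeg : q.natDegree < f.natDegree := by
    rw [← hdeg, hgh, hq, Polynomial.natDegree_mul (mul_ne_zero hg0 hg0) hh0,
      Polynomial.natDegree_mul hg0 hg0, Polynomial.natDegree_mul hg0 hh0]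
    omega
  -- work in K ⊗ E
  let x : K ⊗[k] E := (1 : K) ⊗ₜ α
  let z : K ⊗[k] E := Polynomial.aeval x q
  have hxpow : ∀ i : ℕ, x ^ i = (1 : K) ⊗ₜ[k] (α ^ i) := by
    intro i
    simp [x, Algebra.TensorProduct.tmul_pow]
  have hf'x : Polynomial.aeval x f' = 0 := by
    rw [hf', Polynomial.aeval_map_algebraMap]
    have : x = (Algebra.TensorProduct.includeRight : E →ₐ[k] K ⊗[k] E) α := rfl
    rw [this, Polynomial.aeval_algHom_apply, hf, minpoly.aeval, map_zero]
  have hz2 : z * z = 0 := by
    show Polynomial.aeval x q * Polynomial.aeval x q = 0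
    rw [← map_mul]
    have : q * q = f' * hh := by rw [hgh, hq]; ring
    rw [this, map_mul, hf'x, zero_mul]
  have hli : LinearIndependent K (fun i : Fin f.natDegree => (1 : K) ⊗ₜ[k] (α ^ (i : ℕ))) :=
    Module.Flat.linearIndependent_one_tmul (S := K) (linearIndependent_pow (K := k) α)
  have hz0 : z ≠ 0 := by
    intro hz
    apply hq0
    have hsum : z = ∑ i : Fin f.natDegree, q.coeff (i : ℕ) • ((1 : K) ⊗ₜ[k] (α ^ (i : ℕ))) := by
      show Polynomial.aeval x q = _
      rw [Polynomial.aeval_eq_sum_range' hqdeg, Finset.sum_range]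
      refine Finset.sum_congr rfl (fun i _ => ?_)
      rw [hxpow]
    rw [hsum] at hz
    have hcoef := Fintype.linearIndependent_iff.mp hli (fun i => q.coeff (i : ℕ)) hz
    ext i
    by_cases hi : i < f.natDegree
    · simpa using hcoef ⟨i, hi⟩
    · rw [Polynomial.coeff_zero, Polynomial.coeff_eq_zero_of_natDegree_lt]
      omega
  refine ⟨Algebra.TensorProduct.comm k K E z, ?_, ?_⟩
  · intro h0
    apply hz0
    have := (Algebra.TensorProduct.comm k K E).injective (h0.trans (map_zero _).symm)
    exact this
  · refine ⟨2, ?_⟩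
    rw [pow_two, ← map_mul, hz2, map_zero]

end Groth.Agent.S15546
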