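import Groth.Statements.S15549
import Mathlib.RingTheory.GradedAlgebra.Radical
import Mathlib.RingTheory.Ideal.Operations

set_option autoImplicit false
universe u
open CategoryTheory AlgebraicGeometry
open LocCoh

namespace Groth.Agent.S15549

open DirectSum in
/-- the annihilator of a homogeneous element is a homogeneous ideal -/
theorem decompose_smul_eq_zero {R σ : Type u} [CommRing R] [SetLike σ R] [AddSubgroupClass σ R]
    (𝒜 : ℕ → σ) [GradedRing 𝒜] {M τ : Type u} [AddCommGroup M] [Module R M] [SetLike τ M]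
    [AddSubgroupClass τ M] (ℳ : ℕ → τ) [SetLike.GradedSMul 𝒜 ℳ] [DirectSum.Decomposition ℳ]
    (i : ℕ) (m : M) (hm : m ∈ ℳ i) (r : R) (hr : r • m = 0) (d : ℕ) :
    (DirectSum.decompose 𝒜 r d : R) • m = 0 := by
  classical
  have hmem : ∀ e : ℕ, (DirectSum.decompose 𝒜 r e : R) • m ∈ ℳ (e + i) := fun e => by
    have h := SetLike.GradedSMul.smul_mem (A := 𝒜) (B := ℳ)
      (SetLike.coe_mem (DirectSum.decompose 𝒜 r e)) hm
    exact h
  have hsum : r • m = ∑ e ∈ (DirectSum.decompose 𝒜 r).support, (DirectSum.decompose 𝒜 r e : R) • m := by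
    conv_lhs => rw [← DirectSum.sum_support_decompose 𝒜 r]
    rw [Finset.sum_smul]
  have hdec : DirectSum.decompose ℳ (r • m) =
      ∑ e ∈ (DirectSum.decompose 𝒜 r).support,
        DirectSum.of (fun j => ℳ j) (e + i) ⟨(DirectSum.decompose 𝒜 r e : R) • m, hmem e⟩ := by
    rw [hsum, DirectSum.decompose_sum]
    refine Finset.sum_congr rfl (fun e _ => ?_)
    exact DirectSum.decompose_of_mem ℳ (hmem e)
  rw [hr, DirectSum.decompose_zero] at hdec
  have hcomp := congrArg (fun x => ((x (d + i) : ℳ (d + i)) : M)) hdec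
  simp only [DirectSum.zero_apply, ZeroMemClass.coe_zero] at hcomp
  by_cases hd : d ∈ (DirectSum.decompose 𝒜 r).support
  · rw [DFinsupp.finsetSum_apply, AddSubmonoidClass.coe_finsetSum,
      Finset.sum_eq_single d] at hcomp
    · rw [DirectSum.of_eq_same] at hcomp
      exact hcomp.symm
    · intro e _ hed
      rw [DirectSum.of_eq_of_ne]
      · rfl
      · intro h; exact hed (by omega)
    · intro h; exact absurd hd h
  · have : DirectSum.decompose 𝒜 r d = 0 := by
      simpa [DFinsupp.mem_support_iff] using hd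
    rw [this, ZeroMemClass.coe_zero, zero_smul]

/-- Let R be a Noetherian commutative ring, positively graded by additive subgroups R_d, with irrelevant
ideal R_+ and X = Proj R, and let M be a graded R-module which is the direct sum of its pieces M_i,
i ≥ 0 (non-negatively graded here). For every i and every m ∈ M_i, the global section of M(i)~
defined by m (the value m/1 at every point) is zero if and only if some power of R_+ annihilates m.
Equivalently, degree by degree, the kernel of the canonical map from M to the direct sum over all n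
of Γ(X, M(n)~) is the R_+-power-torsion submodule H^0_{R_+}(M). -/
theorem result {R σ : Type u} [CommRing R] [IsNoetherianRing R] [SetLike σ R] [AddSubgroupClass σ R]
    (𝒜 : ℕ → σ) [GradedRing 𝒜] {M τ : Type u} [AddCommGroup M] [Module R M] [SetLike τ M] [AddSubgroupClass τ M]
    (ℳ : ℕ → τ) [SetLike.GradedSMul 𝒜 ℳ] [DirectSum.Decomposition ℳ]
    (i : ℕ) (m : ℳ i) :
    GrMod.alpha 𝒜 ℳ i m = 0 ↔
      ∃ k : ℕ, ∀ r : R, r ∈ (HomogeneousIdeal.irrelevant 𝒜).toIdeal ^ k → r • (m : M) = 0 := by
  classical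
  -- Step 1: vanishing of the section is pointwise vanishing of m/1
  have h1 : GrMod.alpha 𝒜 ℳ i m = 0 ↔ ∀ x : ProjectiveSpectrum 𝒜,
      (LocalizedModule.mk (m : M) (1 : x.asHomogeneousIdeal.toIdeal.primeCompl) :
        GrMod.LocMod 𝒜 (M := M) x) = 0 := by
    constructor
    · intro h x
      have h' : GrMod.globalOf 𝒜 ℳ m = (0 : GrMod.sect 𝒜 ℳ (i : ℤ) (Opposite.op ⊤)) := h
      have := congrArg (fun s : GrMod.sect 𝒜 ℳ (i : ℤ) (Opposite.op ⊤) =>
        ((s.1 ⟨x, trivial⟩ : GrMod.tildeAt 𝒜 ℳ i x) : GrMod.LocMod 𝒜 (M := M) x)) h'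
      exact this
    · intro h
      show GrMod.globalOf 𝒜 ℳ m = (0 : GrMod.sect 𝒜 ℳ (i : ℤ) (Opposite.op ⊤))
      refine Subtype.ext (funext fun x => Subtype.ext ?_)
      exact h x.1
  -- Step 2: m/1 = 0 iff some s outside x kills m
  have h2 : ∀ x : ProjectiveSpectrum 𝒜,
      (LocalizedModule.mk (m : M) (1 : x.asHomogeneousIdeal.toIdeal.primeCompl) :
        GrMod.LocMod 𝒜 (M := M) x) = 0 ↔ ∃ s : R, s ∉ x.asHomogeneousIdeal.toIdeal ∧ s • (m : M) = 0 := by
    intro x
    rw [← LocalizedModule.zero_mk (1 : x.asHomogeneousIdeal.toIdeal.primeCompl), LocalizedModule.mk_eq]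
    constructor
    · rintro ⟨u, hu⟩
      refine ⟨u.1, u.2, ?_⟩
      simpa [Submonoid.smul_def] using hu
    · rintro ⟨s, hs, hsm⟩
      refine ⟨⟨s, hs⟩, ?_⟩
      simp only [one_smul, smul_zero]
      exact hsm
  rw [h1]
  constructor
  · intro h
    -- the annihilator ideal
    let I : Ideal R := { carrier := {r | r • (m : M) = 0}
                         add_mem' := fun {a b} ha hb => by
                           show (a + b) • (m : M) = 0
                           rw [add_smul, ha, hb, add_zero]
                         zero_mem' := zero_smul _ _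
                         smul_mem' := fun c {a} ha => by
                           show (c • a) • (m : M) = 0
                           rw [smul_eq_mul, mul_smul, ha, smul_zero] }
    have hIhom : I.IsHomogeneous 𝒜 := fun d r hr =>
      decompose_smul_eq_zero 𝒜 ℳ i (m : M) m.2 r hr d
    have hle : (HomogeneousIdeal.irrelevant 𝒜).toIdeal ≤ I.radical := by
      rw [hIhom.radical_eq, le_sInf_iff]
      rintro J ⟨hJh, hIJ, hJp⟩
      by_contra hnot
      let x : ProjectiveSpectrum 𝒜 := ⟨⟨J, hJh⟩, hJp, hnot⟩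
      obtain ⟨s, hs, hsm⟩ := (h2 x).mp (h x)
      exact hs (hIJ hsm)
    obtain ⟨k, hk⟩ := Ideal.exists_pow_le_of_le_radical_of_fg hle
      (IsNoetherian.noetherian _)
    exact ⟨k, fun r hr => hk hr⟩
  · rintro ⟨k, hk⟩ x
    rw [h2]
    have hnot := x.not_irrelevant_le
    obtain ⟨f, hf, hfx⟩ : ∃ f ∈ (HomogeneousIdeal.irrelevant 𝒜).toIdeal, f ∉ x.asHomogeneousIdeal.toIdeal := by
      by_contra hcon
      push Not at hcon
      exact hnot hcon
    refine ⟨f ^ k, ?_, hk _ (Ideal.pow_mem_pow hf k)⟩
    intro hmem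
    exact hfx (x.isPrime.mem_of_pow_mem k hmem)

end Groth.Agent.S15549
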