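import Groth.Statements.S15555
-- import your own Groth.Agent.* helpers here
import Mathlib
import Groth.Agent.Lib.Helper72.HermSecA
import Groth.Agent.Lib.Helper72.HermSecB
import Groth.Agent.Lib.Helper72.HermSecC

set_option autoImplicit false
universe u
open CategoryTheory AlgebraicGeometry
open Zeta

namespace Groth.Agent.S15555

/-- Let k be a finite field with q elements and n ≥ 1 a natural number; in the 2n + 2 variables X_0, …,
X_n, Y_0, …, Y_n (indexed by Fin (n+1) ⊕ Fin (n+1), the left summand carrying the X_i) let F = Σ_i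
(X_i Y_i^q − Y_i X_i^q), a form of degree q + 1 defining the hypersurface Hyp ⊂ P^{2n+1}_k. Then no
hyperplane of P^{2n+1}_k defined over k meets Hyp transversally: for every linear form L = Σ_v c_v
x_v with a nonzero coefficient vector c over k, the scheme-theoretic intersection Hyp ∩ (L = 0) ⊂
P^{2n+1}_k is not smooth over k. The intersection is presented through the standard open pieces of
its affine cone: with R = k[X, Y]/(F, L), the piece x_w ≠ 0 of the cone Spec R is (Hyp ∩ (L = 0) ∩
D₊(x_w)) × 𝔾_m, so Hyp ∩ (L = 0) is smooth over k exactly when every localisation R[1/x_w] is a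
smooth k-algebra, and the row states that not all of them are. (The published example is stated for
every n ≥ 0; for n = 0 the hypersurface is the set of the q + 1 rational points of P^1_k, it
contains every rational point H, and Hyp ∩ H = H is a reduced point, smooth over k; so this row
takes n ≥ 1, where no rational hyperplane is contained in Hyp and each one is tangent to Hyp at a
rational point, at which the intersection is singular.) -/
theorem result (k : Type u) [Field k] [Fintype k] (n : ℕ) (hn : 1 ≤ n)
    (F L : MvPolynomial (Fin (n + 1) ⊕ Fin (n + 1)) k)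
    (hF : F = ∑ i : Fin (n + 1), (MvPolynomial.X (Sum.inl i) * MvPolynomial.X (Sum.inr i) ^ Fintype.card k -
      MvPolynomial.X (Sum.inr i) * MvPolynomial.X (Sum.inl i) ^ Fintype.card k))
    (c : Fin (n + 1) ⊕ Fin (n + 1) → k) (hc : c ≠ 0)
    (hL : L = ∑ v, MvPolynomial.C (c v) * MvPolynomial.X v) :
    ¬ ∀ w : Fin (n + 1) ⊕ Fin (n + 1),
      Smooth (Spec.map (CommRingCat.ofHom (algebraMap k
        (Localization.Away (Ideal.Quotient.mk (Ideal.span {F, L}) (MvPolynomial.X w)))))) := by
  classical
  intro hsm
  obtain ⟨e, f, he, hf, hef⟩ := Groth.Agent.Lib.Helper72.HermSec.exists_pair hn c hc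
  obtain ⟨w, hw⟩ := Groth.Agent.Lib.Helper72.HermSec.exists_Pv_ne c hc
  have hs1 := (HasRingHomProperty.Spec_iff (P := @Smooth)).mp (hsm w)
  have hs2 : Algebra.Smooth k (Localization.Away (Ideal.Quotient.mk (Ideal.span {F, L})
      (MvPolynomial.X w))) := RingHom.smooth_algebraMap.mp hs1
  have hs3 : Algebra.FormallySmooth k (Localization.Away (Ideal.Quotient.mk (Ideal.span {F, L})
      (MvPolynomial.X w))) := hs2.formallySmooth
  -- evaluation formulas
  have hFev : ∀ y : Fin (n + 1) ⊕ Fin (n + 1) → Polynomial k, MvPolynomial.aeval y F =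
      Groth.Agent.Lib.Helper72.HermSec.Om y (fun v => (y v) ^ Fintype.card k) := by
    intro y
    rw [hF]
    simp only [map_sum, map_sub, map_mul, map_pow, MvPolynomial.aeval_X,
      Groth.Agent.Lib.Helper72.HermSec.Om]
  have hLev : ∀ y : Fin (n + 1) ⊕ Fin (n + 1) → Polynomial k, MvPolynomial.aeval y L =
      Groth.Agent.Lib.Helper72.HermSec.Lin (Groth.Agent.Lib.Helper72.HermSec.cst c) y := by
    intro y
    rw [hL]
    simp only [map_sum, map_mul, MvPolynomial.aeval_X, MvPolynomial.aeval_C,
      Groth.Agent.Lib.Helper72.HermSec.Lin, Groth.Agent.Lib.Helper72.HermSec.cst,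
      Polynomial.algebraMap_eq]
  have hγ : ∀ g ∈ Ideal.span {F, L}, (Polynomial.X : Polynomial k) ^ (Fintype.card k + 2) ∣
      MvPolynomial.aeval (Groth.Agent.Lib.Helper72.HermSec.arc c e f) g := by
    have hle : Ideal.span {F, L} ≤ Ideal.comap
        (MvPolynomial.aeval (Groth.Agent.Lib.Helper72.HermSec.arc c e f)).toRingHom
        (Ideal.span {(Polynomial.X : Polynomial k) ^ (Fintype.card k + 2)}) := by
      rw [Ideal.span_le]
      intro g hg
      rcases hg with rfl | rfl
      · rw [SetLike.mem_coe, Ideal.mem_comap]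
        change MvPolynomial.aeval (Groth.Agent.Lib.Helper72.HermSec.arc c e f) g ∈
          Ideal.span {(Polynomial.X : Polynomial k) ^ (Fintype.card k + 2)}
        rw [Ideal.mem_span_singleton, hFev]
        exact Groth.Agent.Lib.Helper72.HermSec.dvd_Om_arc c e f he hf
      · rw [SetLike.mem_coe, Ideal.mem_comap]
        change MvPolynomial.aeval (Groth.Agent.Lib.Helper72.HermSec.arc c e f) g ∈
          Ideal.span {(Polynomial.X : Polynomial k) ^ (Fintype.card k + 2)}
        rw [Ideal.mem_span_singleton, hLev, Groth.Agent.Lib.Helper72.HermSec.Lin_arc c e f he hf]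
        exact dvd_zero _
    intro g hg
    have := hle hg
    rw [Ideal.mem_comap] at this
    change MvPolynomial.aeval (Groth.Agent.Lib.Helper72.HermSec.arc c e f) g ∈
      Ideal.span {(Polynomial.X : Polynomial k) ^ (Fintype.card k + 2)} at this
    rwa [Ideal.mem_span_singleton] at this
  have hw0 : (Groth.Agent.Lib.Helper72.HermSec.arc c e f w).coeff 0 ≠ 0 := by
    simp only [Groth.Agent.Lib.Helper72.HermSec.arc, Groth.Agent.Lib.Helper72.HermSec.cst,
      Pi.add_apply, Pi.smul_apply, smul_eq_mul, Polynomial.coeff_add, Polynomial.coeff_C_zero,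
      Polynomial.mul_coeff_zero, Polynomial.coeff_X_zero, zero_mul, add_zero]
    exact hw
  obtain ⟨u, hu⟩ := Groth.Agent.Lib.Helper72.HermSec.exists_lift_arc (Ideal.span {F, L}) w
    (Fintype.card k + 2) (by omega) (Groth.Agent.Lib.Helper72.HermSec.arc c e f) hγ hw0
  have h1 := hu F (Ideal.subset_span (by simp))
  have h2 := hu L (Ideal.subset_span (by simp))
  rw [hFev] at h1
  rw [hLev] at h2
  exact Groth.Agent.Lib.Helper72.HermSec.not_both_dvd c e f he hf hef u h2 h1

end Groth.Agent.S15555
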