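import Groth.Statements.S1857
import Mathlib
import Groth.Agent.S6479
import Groth.Agent.Lib.Helper73.FibreComponents
-- import your own Groth.Agent.* helpers here

set_option autoImplicit false
universe u
open CategoryTheory AlgebraicGeometry
open Cyc

namespace Groth.Agent.S1857

section PRE
open AlgebraicGeometry CategoryTheory
open Groth.Agent.S6479 (MaxFib max_comp)

noncomputable def td {X Y : Scheme.{u}} (f : X ⟶ Y) (x : X) : Cardinal.{u} :=
  @Algebra.trdeg (Y.residueField (f x)) (X.residueField x) _ _ (f.residueFieldMap x).hom.toAlgebra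

lemma td_congr {X Y : Scheme.{u}} (f : X ⟶ Y) {x x' : X} (h : x' = x) : td f x' = td f x := by
  subst h; rfl

lemma base_fiberι' {X Y : Scheme.{u}} (f : X ⟶ Y) (y : Y) (t : f.fiber y) :
    f (f.fiberι y t) = y := by
  have : f.fiberι y t ∈ Set.range (f.fiberι y) := ⟨t, rfl⟩
  rw [Scheme.Hom.range_fiberι] at this
  exact this

lemma max_in_fibre {X Y : Scheme.{u}} (f : X ⟶ Y) (y : Y) (t : f.fiber y) :
    (∀ t' : f.fiber y, t' ⤳ t → t' = t) ↔ MaxFib f (f.fiberι y t) := by
  constructor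
  · intro h y' hy' hsp
    have hy'' : y' ∈ Set.range (f.fiberι y) := by
      rw [Scheme.Hom.range_fiberι]
      exact hy'.trans (base_fiberι' f y t)
    obtain ⟨t'', rfl⟩ := hy''
    have := (f.fiberι y).isEmbedding.specializes_iff.mp hsp
    rw [h t'' this]
  · intro h t' ht'
    have h1 : f.fiberι y t' ⤳ f.fiberι y t := ht'.map (f.fiberι y).continuous
    have h2 := h (f.fiberι y t') ((base_fiberι' f y t').trans (base_fiberι' f y t).symm) h1
    exact (f.fiberι y).isEmbedding.injective h2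

lemma comp_of_max {A : Type*} [TopologicalSpace A] [QuasiSober A] (t : A)
    (hmax : ∀ t' : A, t' ⤳ t → t' = t) : closure ({t} : Set A) ∈ irreducibleComponents A := by
  rw [irreducibleComponents_eq_maximals_closed]
  refine ⟨⟨isClosed_closure, isIrreducible_singleton.closure⟩, ?_⟩
  rintro S ⟨hSc, hSi⟩ hle
  obtain ⟨g, hg⟩ := QuasiSober.sober hSi hSc
  have hgt : g ⤳ t := by
    rw [specializes_iff_mem_closure, hg.def]
    exact hle (subset_closure rfl)
  have := hmax g hgt
  rw [← hg.def, this]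

lemma max_of_comp {A : Type*} [TopologicalSpace A] [QuasiSober A] [T0Space A] (T : Set A)
    (hT : T ∈ irreducibleComponents A) :
    ∃ t : A, T = closure ({t} : Set A) ∧ ∀ t' : A, t' ⤳ t → t' = t := by
  have hTc := isClosed_of_mem_irreducibleComponents _ hT
  obtain ⟨t, ht⟩ := QuasiSober.sober hT.1 hTc
  refine ⟨t, ht.def.symm, fun t' ht' => ?_⟩
  have h1 : closure ({t} : Set A) ⊆ closure ({t'} : Set A) := by
    rw [← specializes_iff_closure_subset]; exact ht'
  have h2 : closure ({t'} : Set A) ⊆ T := hT.2 isIrreducible_singleton.closure (ht.def ▸ h1)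
  have h3 : t ⤳ t' := by
    rw [specializes_iff_mem_closure, ht.def]; exact h2 (subset_closure rfl)
  exact (ht'.antisymm h3).eq

lemma td_eq_of_max {X Y : Scheme.{u}} [IsLocallyNoetherian Y] (f : X ⟶ Y) [LocallyOfFiniteType f]
    (r : ℕ) (hr : Cyc.HasRelDim f r) (x : X) (hx : MaxFib f x) (n : ℕ) (hn : td f x = n) :
    n = r := by
  have hι : f.fiberι (f x) (f.asFiber x) = x := Scheme.Hom.fiberι_asFiber f x
  have hmax : MaxFib f (f.fiberι (f x) (f.asFiber x)) := by rw [hι]; exact hx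
  have h1 := comp_of_max (f.asFiber x) ((max_in_fibre f (f x) (f.asFiber x)).mpr hmax)
  have h2 := hr (f x) _ h1
  have h3 := Groth.Agent.Lib.Helper73.SchemeDim.topologicalKrullDim_closure_singleton_fiber f (f x)
    (f.asFiber x) n ((td_congr f hι).trans hn)
  rw [h3] at h2
  exact_mod_cast h2

lemma td_comp {X Y Z : Scheme.{u}} (f : X ⟶ Y) (g : Y ⟶ Z) (x : X) :
    td g (f x) + td f x = td (f ≫ g) x := by
  unfold td
  letI a1 : Algebra (Z.residueField (g (f x))) (Y.residueField (f x)) :=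
    (g.residueFieldMap (f x)).hom.toAlgebra
  letI a2 : Algebra (Y.residueField (f x)) (X.residueField x) := (f.residueFieldMap x).hom.toAlgebra
  letI a3 : Algebra (Z.residueField (g (f x))) (X.residueField x) :=
    ((f ≫ g).residueFieldMap x).hom.toAlgebra
  haveI : IsScalarTower (Z.residueField (g (f x))) (Y.residueField (f x)) (X.residueField x) :=
    IsScalarTower.of_algebraMap_eq' (by
      show ((f ≫ g).residueFieldMap x).hom = _
      rw [Scheme.residueFieldMap_comp]
      rfl)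
  exact trdeg_add_eq (Z.residueField (g (f x))) (Y.residueField (f x))

theorem main (X Y Z : Scheme.{u}) (δX : X → ℤ) (δY : Y → ℤ) (δZ : Z → ℤ) (hX : Cyc.IsSetup X δX) (hY : Cyc.IsSetup Y δY) (hZ : Cyc.IsSetup Z δZ) (f : X ⟶ Y) (g : Y ⟶ Z) [Flat f] [LocallyOfFiniteType f] [Flat g] [LocallyOfFiniteType g] (r s : ℕ) (hr : Cyc.HasRelDim f r) (hs : Cyc.HasRelDim g s) (hf : Cyc.DeltaCompat f δX δY) (hg : Cyc.DeltaCompat g δY δZ) (k : ℤ) : Cyc.HasRelDim (f ≫ g) (r + s) ∧ ∀ α : AlgebraicCycle Z ℤ, α ∈ Cyc.Zk Z δZ k → Cyc.pullFun f δX δY r (Cyc.pullFun g δY δZ s ⇑α) = Cyc.pullFun (f ≫ g) δX δZ ((r : ℤ) + s) ⇑α := by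
  haveI := hY.1
  haveI := hZ.1
  have hcf : ∀ x : X, MaxFib f x → δX x = δY (f x) + r := by
    intro x hx
    obtain ⟨n, hn, hδ⟩ := hf x
    have := td_eq_of_max f r hr x hx n hn
    rw [hδ, this]
  have hcg : ∀ y : Y, MaxFib g y → δY y = δZ (g y) + s := by
    intro y hy
    obtain ⟨n, hn, hδ⟩ := hg y
    have := td_eq_of_max g s hs y hy n hn
    rw [hδ, this]
  constructor
  · intro z T hT
    obtain ⟨t, rfl, ht⟩ := max_of_comp T hT
    have hmax := (max_in_fibre (f ≫ g) z t).mp ht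
    obtain ⟨h1, h2⟩ := (max_comp g f ((f ≫ g).fiberι z t)).mp hmax
    obtain ⟨n₁, hn₁, -⟩ := hf ((f ≫ g).fiberι z t)
    obtain ⟨n₂, hn₂, -⟩ := hg (f ((f ≫ g).fiberι z t))
    have e1 := td_eq_of_max f r hr _ h1 n₁ hn₁
    have e2 := td_eq_of_max g s hs _ h2 n₂ hn₂
    have e3 := td_comp f g ((f ≫ g).fiberι z t)
    have hn₁' : td f ((f ≫ g).fiberι z t) = n₁ := hn₁
    have hn₂' : td g (f ((f ≫ g).fiberι z t)) = n₂ := hn₂
    rw [hn₁', hn₂', e1, e2] at e3
    refine Groth.Agent.Lib.Helper73.SchemeDim.topologicalKrullDim_closure_singleton_fiber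
      (f ≫ g) z t (r + s) ?_
    show td (f ≫ g) ((f ≫ g).fiberι z t) = _
    rw [← e3]; push_cast; rw [add_comm]
  · intro α hα
    have := (Groth.Agent.S6479.main Z Y X g f δZ δY δX hZ hY hX s r hcg hcf k α hα).2
    rw [← this, add_comm]

end PRE

/-- For flat morphisms f : X → Y and g : Y → Z locally of finite type of relative dimensions r and s,
the composite has relative dimension r + s and (g ∘ f)^* = f^* ∘ g^* on k-cycles (equality of
coefficient functions). Here a pair (X, δ) with Cyc.IsSetup plays the role of a scheme locally of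
finite type over a fixed base with a dimension function (X locally Noetherian with universally
catenary local rings, δ a dimension function), and Cyc.DeltaCompat records that the dimension
function upstairs is the induced one. -/
theorem result (X Y Z : Scheme.{u}) (δX : X → ℤ) (δY : Y → ℤ) (δZ : Z → ℤ) (hX : Cyc.IsSetup X δX) (hY : Cyc.IsSetup Y δY) (hZ : Cyc.IsSetup Z δZ) (f : X ⟶ Y) (g : Y ⟶ Z) [Flat f] [LocallyOfFiniteType f] [Flat g] [LocallyOfFiniteType g] (r s : ℕ) (hr : Cyc.HasRelDim f r) (hs : Cyc.HasRelDim g s) (hf : Cyc.DeltaCompat f δX δY) (hg : Cyc.DeltaCompat g δY δZ) (k : ℤ) : Cyc.HasRelDim (f ≫ g) (r + s) ∧ ∀ α : AlgebraicCycle Z ℤ, α ∈ Cyc.Zk Z δZ k → Cyc.pullFun f δX δY r (Cyc.pullFun g δY δZ s ⇑α) = Cyc.pullFun (f ≫ g) δX δZ ((r : ℤ) + s) ⇑α := by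
  exact main X Y Z δX δY δZ hX hY hZ f g r s hr hs hf hg k

end Groth.Agent.S1857
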