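import Groth.Statements.S1859
import Mathlib.LinearAlgebra.Dimension.Free
-- import your own Groth.Agent.* helpers here

set_option autoImplicit false
universe u
open CategoryTheory AlgebraicGeometry
open Cyc

namespace Groth.Agent.S1859

section Helpers

open Function Set


theorem finsum_mem_fiberwise' {X Y M : Type*} [AddCommMonoid M] (f : X → Y) (s : Set Y) (h : X → M)
    (hfin : (f ⁻¹' s ∩ Function.support h).Finite) :
    ∑ᶠ y ∈ s, ∑ᶠ x ∈ f ⁻¹' {y}, h x = ∑ᶠ x ∈ f ⁻¹' s, h x := by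
  classical
  set T := hfin.toFinset with hT
  have hTmem : ∀ x, x ∈ T ↔ f x ∈ s ∧ h x ≠ 0 := by
    intro x; simp [T]
  have hR : ∑ᶠ x ∈ f ⁻¹' s, h x = ∑ x ∈ T, h x := by
    apply finsum_mem_eq_sum_of_inter_support_eq
    ext x
    simp only [mem_inter_iff, mem_preimage, mem_support, Finset.mem_coe, hTmem]
    tauto
  have hin : ∀ y ∈ s, ∑ᶠ x ∈ f ⁻¹' {y}, h x = ∑ x ∈ T.filter (fun x => f x = y), h x := by
    intro y hy
    apply finsum_mem_eq_sum_of_inter_support_eq
    ext x
    simp only [mem_inter_iff, mem_preimage, mem_singleton_iff, mem_support, Finset.coe_filter,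
      mem_setOf_eq, hTmem]
    constructor
    · rintro ⟨hxy, hx⟩; exact ⟨⟨⟨hxy ▸ hy, hx⟩, hxy⟩, hx⟩
    · rintro ⟨⟨_, hxy⟩, hx⟩; exact ⟨hxy, hx⟩
  have hL : ∑ᶠ y ∈ s, ∑ᶠ x ∈ f ⁻¹' {y}, h x =
      ∑ y ∈ T.image f, ∑ x ∈ T.filter (fun x => f x = y), h x := by
    rw [finsum_mem_congr rfl hin]
    apply finsum_mem_eq_sum_of_inter_support_eq
    ext y
    simp only [mem_inter_iff, mem_support, Finset.coe_image, mem_image, Finset.mem_coe]
    constructor
    · rintro ⟨hy, hsup⟩
      refine ⟨?_, hsup⟩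
      obtain ⟨x, hx, -⟩ := Finset.exists_ne_zero_of_sum_ne_zero hsup
      rw [Finset.mem_filter] at hx
      exact ⟨x, hx.1, hx.2⟩
    · rintro ⟨⟨x, hx, rfl⟩, hsup⟩
      exact ⟨((hTmem x).1 hx).1, hsup⟩
  rw [hL, hR, Finset.sum_fiberwise_of_maps_to (fun x hx => Finset.mem_image_of_mem f hx)]

section LF

open Function.locallyFinsupp

variable {X Y Z R : Type*} [TopologicalSpace X] [TopologicalSpace Y] [TopologicalSpace Z]
  [CommSemiring R] [PrespectralSpace Y] [PrespectralSpace Z]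

theorem lf_finite_preimage_singleton_inter_support {f : X → Z} (hf : IsSpectralMap f)
    (c : locallyFinsupp X R) (z : Z) : (f ⁻¹' {z} ∩ Function.support c).Finite := by
  obtain ⟨U, hU⟩ := (PrespectralSpace.isTopologicalBasis (X := Z)).exists_subset_of_mem_open
    (by simp : z ∈ (⊤ : Set Z)) (by simp)
  refine (c.locallyFiniteSupport.finite_inter_support_of_isCompact <| hf.2 hU.1.1 hU.1.2).subset ?_
  rintro x ⟨hx, hxs⟩
  refine ⟨?_, hxs⟩
  rw [mem_preimage]
  rw [mem_preimage, mem_singleton_iff] at hx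
  rw [hx]
  exact hU.2.1

theorem lf_map_map' [NoZeroDivisors R] {f : X → Y} {g : Y → Z} (hf : IsSpectralMap f)
    (hg : IsSpectralMap g)
    (w₁ : X → R) (w₂ : Y → R) (c : locallyFinsupp X R) :
    map g w₂ hg (map f w₁ hf c) = map (g ∘ f) (fun x => w₁ x * w₂ (f x)) (hg.comp hf) c := by
  ext z
  simp only [map_apply]
  have h1 : ∀ y, (∑ᶠ x ∈ f ⁻¹' {y}, c x * w₁ x) * w₂ y =
      ∑ᶠ x ∈ f ⁻¹' {y}, c x * (w₁ x * w₂ (f x)) := by
    intro y
    rw [finsum_mem_mul]
    apply finsum_mem_congr rfl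
    intro x hx
    rw [mem_preimage, mem_singleton_iff] at hx
    rw [hx, mul_assoc]
  simp_rw [h1]
  have h2 : (g ∘ f) ⁻¹' {z} = f ⁻¹' (g ⁻¹' {z}) := rfl
  rw [h2]
  apply finsum_mem_fiberwise'
  refine (lf_finite_preimage_singleton_inter_support (hg.comp hf) c z).subset ?_
  rintro x ⟨hx, hxs⟩
  refine ⟨hx, ?_⟩
  rw [Function.mem_support] at hxs ⊢
  exact left_ne_zero_of_mul hxs

end LF

variable {X Y Z : Scheme.{u}}

theorem residueDegree_comp' (f : X ⟶ Y) (g : Y ⟶ Z) (x : X) :
    (f ≫ g).residueDegree x = g.residueDegree (f x) * f.residueDegree x := by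
  unfold Scheme.Hom.residueDegree
  letI : Algebra (Z.residueField (g (f x))) (Y.residueField (f x)) :=
    (g.residueFieldMap (f x)).hom.toAlgebra
  letI : Algebra (Y.residueField (f x)) (X.residueField x) := (f.residueFieldMap x).hom.toAlgebra
  letI : Algebra (Z.residueField (g (f x))) (X.residueField x) :=
    ((f ≫ g).residueFieldMap x).hom.toAlgebra
  haveI : IsScalarTower (Z.residueField (g (f x))) (Y.residueField (f x)) (X.residueField x) := by
    apply IsScalarTower.of_algebraMap_eq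
    intro a
    change ((f ≫ g).residueFieldMap x).hom a = (f.residueFieldMap x).hom ((g.residueFieldMap (f x)).hom a)
    rw [Scheme.residueFieldMap_comp]
    rfl
  exact (Module.finrank_mul_finrank (Z.residueField (g (f x))) (Y.residueField (f x))
    (X.residueField x)).symm

theorem mapCoeff_comp' (f : X ⟶ Y) (g : Y ⟶ Z) (δX : X → ℤ) (δY : Y → ℤ) (δZ : Z → ℤ)
    (hf : Cyc.DeltaCompat f δX δY) (hg : Cyc.DeltaCompat g δY δZ) (x : X) :
    AlgebraicCycle.mapCoeff (f ≫ g) δX δZ x =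
      AlgebraicCycle.mapCoeff f δX δY x * AlgebraicCycle.mapCoeff g δY δZ (f x) := by
  obtain ⟨n₁, -, h₁⟩ := hf x
  obtain ⟨n₂, -, h₂⟩ := hg (f x)
  unfold AlgebraicCycle.mapCoeff
  have hfg : (f ≫ g).base x = g.base (f.base x) := rfl
  by_cases c1 : δX x = δY (f.base x)
  · by_cases c2 : δY (f.base x) = δZ (g.base (f.base x))
    · rw [if_pos c1, if_pos c2, if_pos (by rw [hfg, c1, c2]), residueDegree_comp', mul_comm]
    · rw [if_neg c2, mul_zero, if_neg]
      rw [hfg]
      intro h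
      apply c2
      have h₁' : δX x = δY (f.base x) + n₁ := h₁
      have h₂' : δY (f.base x) = δZ (g.base (f.base x)) + n₂ := h₂
      omega
  · rw [if_neg c1, zero_mul, if_neg]
    rw [hfg]
    intro h
    apply c1
    have h₁' : δX x = δY (f.base x) + n₁ := h₁
    have h₂' : δY (f.base x) = δZ (g.base (f.base x)) + n₂ := h₂
    omega

end Helpers

/-- For proper morphisms f : X → Y and g : Y → Z and a k-cycle α on X, g_*(f_*α) = (g ∘ f)_*α. Here a
pair (X, δ) with Cyc.IsSetup plays the role of a scheme locally of finite type over a fixed base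
with a dimension function (X locally Noetherian with universally catenary local rings, δ a dimension
function), and Cyc.DeltaCompat records that the dimension function upstairs is the induced one. -/
theorem result (X Y Z : Scheme.{u}) (δX : X → ℤ) (δY : Y → ℤ) (δZ : Z → ℤ) (hX : Cyc.IsSetup X δX) (hY : Cyc.IsSetup Y δY) (hZ : Cyc.IsSetup Z δZ) (f : X ⟶ Y) (g : Y ⟶ Z) [IsProper f] [IsProper g] (hf : Cyc.DeltaCompat f δX δY) (hg : Cyc.DeltaCompat g δY δZ) (k : ℤ) (α : AlgebraicCycle X ℤ) (hα : α ∈ Cyc.Zk X δX k) : AlgebraicCycle.map g δY δZ (AlgebraicCycle.map f δX δY α) = AlgebraicCycle.map (f ≫ g) δX δZ α := by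
  unfold AlgebraicCycle.map
  rw [lf_map_map']
  congr 1
  funext x
  rw [mapCoeff_comp' f g δX δY δZ hf hg x, Nat.cast_mul]

end Groth.Agent.S1859
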