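import Groth.Statements.S1941
import Mathlib
import Groth.Agent.Lib.Helper22.FinFlatDeg
import Groth.Agent.Lib.Helper22.EtInv
import Groth.Agent.Lib.Helper35.FiberStalk
import Groth.Agent.S6479
import Groth.Agent.S9684
import Groth.Agent.S1859
-- import your own Groth.Agent.* helpers here

set_option autoImplicit false
universe u
open CategoryTheory AlgebraicGeometry
open CategoryTheory.Limits
open Cyc

namespace Groth.Agent.S1941

section PRE
open IsLocalRing Groth.Agent.Lib.Helper22 Groth.Agent.S6479

/-- the "ramification length" of `f` at `x`. -/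
noncomputable def lenQ {X Z : Scheme.{u}} (f : X ⟶ Z) (x : X) : ℕ :=
  (Module.length (X.presheaf.stalk x) (X.presheaf.stalk x ⧸ Ideal.map (f.stalkMap x).hom
    (maximalIdeal (Z.presheaf.stalk (f x))))).toNat

lemma length_of_surj {A B : Type u} [CommRing A] [CommRing B] (ψ : A →+* B)
    (hψ : Function.Surjective ψ) (I : Ideal A) (hI : RingHom.ker ψ = I) :
    Module.length B B = Module.length A (A ⧸ I) := by
  subst hI
  algebraize [ψ]
  rw [← Module.length_eq_of_surjective (S := A) (R := B) (M := B) hψ]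
  exact ((Ideal.quotientKerAlgEquivOfSurjective (f := Algebra.ofId A B) hψ).toLinearEquiv.length_eq).symm

lemma length_stalk_fiber {X S : Scheme.{u}} (h : X ⟶ S) (s : S) (t : h.fiber s) :
    (Module.length ((h.fiber s).presheaf.stalk t) ((h.fiber s).presheaf.stalk t)).toNat =
      lenQ h (h.fiberι s t) := by
  unfold lenQ
  rw [length_of_surj ((h.fiberι s).stalkMap t).hom
    (Groth.Agent.Lib.Helper35.FiberStalk.stalkMap_fiberι_surjective h s t) _
    (Groth.Agent.Lib.Helper35.FiberStalk.ker_stalkMap_fiberι h s t)]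

lemma residueDegree_eq_one_of_surj {X Y : Scheme.{u}} (ι : X ⟶ Y) (x : X)
    (h : Function.Surjective (ι.stalkMap x).hom) : ι.residueDegree x = 1 := by
  unfold Scheme.Hom.residueDegree
  letI := (ι.residueFieldMap x).hom.toAlgebra
  have hs : Function.Surjective (algebraMap (Y.residueField (ι x)) (X.residueField x)) := by
    intro b
    obtain ⟨b', rfl⟩ := IsLocalRing.residue_surjective b
    obtain ⟨a, rfl⟩ := h b'
    exact ⟨IsLocalRing.residue _ a, rfl⟩
  refine (finrank_eq_one_iff_of_nonzero' (1 : X.residueField x) one_ne_zero).mpr (fun w => ?_)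
  obtain ⟨c, hc⟩ := hs w
  exact ⟨c, by rw [Algebra.smul_def, mul_one]; exact hc⟩

lemma residueDegree_congr {X Y : Scheme.{u}} (φ₁ φ₂ : X ⟶ Y) (e : φ₁ = φ₂) (x : X) :
    φ₁.residueDegree x = φ₂.residueDegree x := by
  subst e; rfl

lemma length_flat_local {A B : Type u} [CommRing A] [CommRing B] [IsLocalRing A] [IsLocalRing B]
    (ψ : A →+* B) [IsLocalHom ψ] (hψ : ψ.Flat) :
    (Module.length B B).toNat = (Module.length A A).toNat *
      (Module.length B (B ⧸ Ideal.map ψ (maximalIdeal A))).toNat := by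
  have h := EtInv.length_quot_map_flat ψ hψ ⊥
  rw [Ideal.map_bot] at h
  have e1 : Module.length B (B ⧸ (⊥ : Ideal B)) = Module.length B B :=
    (Submodule.quotEquivOfEqBot (⊥ : Ideal B) rfl).length_eq
  have e2 : Module.length A (A ⧸ (⊥ : Ideal A)) = Module.length A A :=
    (Submodule.quotEquivOfEqBot (⊥ : Ideal A) rfl).length_eq
  rw [e1, e2] at h
  rw [h, ENat.toNat_mul]

section fib
variable {P X Y Z : Scheme.{u}} {fst : P ⟶ X} {snd : P ⟶ Y} {f : X ⟶ Z} {g : Y ⟶ Z}

/-- the map between fibres. -/
noncomputable def fibMap (h : IsPullback fst snd f g) (y : Y) : snd.fiber y ⟶ f.fiber (g y) :=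
  pullback.map _ _ _ _ fst (Spec.map (g.residueFieldMap y)) g h.w.symm (by simp)

lemma fibMap_ι (h : IsPullback fst snd f g) (y : Y) :
    fibMap h y ≫ f.fiberι (g y) = snd.fiberι y ≫ fst :=
  pullback.lift_fst _ _ _

lemma fibMap_isPullback (h : IsPullback fst snd f g) (y : Y) :
    IsPullback (fibMap h y) (snd.fiberToSpecResidueField y) (f.fiberToSpecResidueField (g y))
      (Spec.map (g.residueFieldMap y)) :=
  isPullback_fiberToSpecResidueField_of_isPullback h y

lemma specMap_field_props {K L : Type u} [Field K] [Field L] (φ : K →+* L)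
    (hfin : letI := φ.toAlgebra; Module.Finite K L) :
    IsFinite (Spec.map (CommRingCat.ofHom φ)) ∧ Flat (Spec.map (CommRingCat.ofHom φ)) := by
  letI := φ.toAlgebra
  refine ⟨?_, ?_⟩
  · rw [IsFinite.SpecMap_iff]
    show (algebraMap K L).Finite
    rw [RingHom.finite_algebraMap]
    exact hfin
  · rw [Flat.SpecMap_iff]
    show (algebraMap K L).Flat
    rw [RingHom.flat_algebraMap_iff]
    infer_instance

lemma specMap_field_finrank {K L : Type u} [Field K] [Field L] (φ : K →+* L)
    (hfin : letI := φ.toAlgebra; Module.Finite K L) (s : Spec (CommRingCat.of K)) :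
    (Spec.map (CommRingCat.ofHom φ)).finrank s = (letI := φ.toAlgebra; Module.finrank K L) := by
  letI := φ.toAlgebra
  haveI : Module.Finite K L := hfin
  show Scheme.Hom.finrank (Spec.map (CommRingCat.ofHom (algebraMap K L))) _ = _
  rw [Scheme.Hom.finrank_SpecMap_algebraMap, Module.rankAtStalk_eq_finrank_of_free]
  rfl

theorem core (h : IsPullback fst snd f g) (y : Y)
    (hfin : letI := (g.residueFieldMap y).hom.toAlgebra
      Module.Finite (Z.residueField (g y)) (Y.residueField y))
    (x : X) (hx : f x = g y) :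
    {y' : P | snd y' = y ∧ fst y' = x}.Finite ∧
    ∑ᶠ y' ∈ {y' : P | snd y' = y ∧ fst y' = x}, lenQ snd y' * fst.residueDegree y' =
      g.residueDegree y * lenQ f x := by
  obtain ⟨z, rfl⟩ : ∃ z : f.fiber (g y), f.fiberι (g y) z = x :=
    ⟨(f.fiberHomeo (g y)).symm ⟨x, hx⟩, Scheme.Hom.fiberι_fiberHomeo_symm f (g y) ⟨x, hx⟩⟩
  let φ := fibMap h y
  have hpb := fibMap_isPullback h y
  obtain ⟨hF, hFl⟩ : IsFinite (Spec.map (g.residueFieldMap y)) ∧
      Flat (Spec.map (g.residueFieldMap y)) :=
    specMap_field_props (K := Z.residueField (g y)) (L := Y.residueField y)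
      (g.residueFieldMap y).hom hfin
  haveI : IsFinite φ := MorphismProperty.of_isPullback (P := @IsFinite) hpb.flip hF
  haveI : Flat φ := MorphismProperty.of_isPullback (P := @Flat) hpb.flip hFl
  have hrank : φ.finrank z = g.residueDegree y := by
    rw [Scheme.Hom.finrank_of_isPullback _ φ _ _ hpb.flip z]
    exact specMap_field_finrank (K := Z.residueField (g y)) (L := Y.residueField y)
      (g.residueFieldMap y).hom hfin _
  have hsum := FinFlatDeg.sum_locNum φ z
  rw [hrank] at hsum
  have hfinset : (φ ⁻¹' {z}).Finite := φ.finite_preimage_singleton z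
  have himg : (snd.fiberι y) '' (φ ⁻¹' {z}) = {y' : P | snd y' = y ∧ fst y' = f.fiberι (g y) z} := by
    ext y'
    constructor
    · rintro ⟨t, ht, rfl⟩
      refine ⟨?_, ?_⟩
      · have : snd.fiberι y t ∈ Set.range (snd.fiberι y) := ⟨t, rfl⟩
        rw [Scheme.Hom.range_fiberι] at this
        exact this
      · rw [← Scheme.Hom.comp_apply, ← fibMap_ι h y, Scheme.Hom.comp_apply]
        exact congrArg _ ht
    · rintro ⟨h1, h2⟩
      have : y' ∈ Set.range (snd.fiberι y) := by
        rw [Scheme.Hom.range_fiberι]; exact h1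
      obtain ⟨t, rfl⟩ := this
      refine ⟨t, ?_, rfl⟩
      rw [← Scheme.Hom.comp_apply, ← fibMap_ι h y, Scheme.Hom.comp_apply] at h2
      exact (f.fiberι (g y)).isEmbedding.injective h2
  refine ⟨himg ▸ hfinset.image _, ?_⟩
  rw [← himg, finsum_mem_image ((snd.fiberι y).isEmbedding.injective.injOn)]
  rw [← hsum, mul_comm, mul_finsum_mem]
  refine finsum_mem_congr rfl (fun t ht => ?_)
  have ht' : φ t = z := ht
  unfold FinFlatGeo.locNum
  have e1 : φ.residueDegree t = fst.residueDegree (snd.fiberι y t) := by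
    have a1 := Groth.Agent.S1859.residueDegree_comp' φ (f.fiberι (g y)) t
    have a2 := Groth.Agent.S1859.residueDegree_comp' (snd.fiberι y) fst t
    rw [residueDegree_eq_one_of_surj _ _ ((f.fiberι (g y)).stalkMap_surjective _), one_mul] at a1
    rw [residueDegree_eq_one_of_surj _ _ ((snd.fiberι y).stalkMap_surjective _), mul_one] at a2
    rw [← a1, ← a2]
    exact residueDegree_congr _ _ (fibMap_ι h y) t
  have e2 := length_flat_local (φ.stalkMap t).hom (Flat.stalkMap φ t)
  rw [length_stalk_fiber snd y t] at e2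
  have e3 : (Module.length ((f.fiber (g y)).presheaf.stalk (φ t))
      ((f.fiber (g y)).presheaf.stalk (φ t))).toNat = lenQ f (f.fiberι (g y) z) := by
    rw [ht']
    exact length_stalk_fiber f (g y) z
  rw [e3] at e2
  rw [e2, e1]
  ring
end fib

lemma le_of_max {X' X : Scheme.{u}} (p : X' ⟶ X) (δ : X → ℤ) (δ' : X' → ℤ)
    (hd : Cyc.IsDimFun X' δ') (c : ℤ)
    (hc : ∀ x' : X', MaxFib p x' → δ' x' = δ (p x') + c) (x' : X') :
    δ' x' ≤ δ (p x') + c := by
  obtain ⟨y', hy1, hy2, hy3⟩ := exists_max_gen p x'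
  by_cases hyx : y' = x'
  · rw [← hyx]; exact (hc y' hy3).le
  · have := (hd y' x' hy1 hyx).1
    rw [hc y' hy3, hy2] at this
    exact this.le

lemma finite_of_ess {K L : Type u} [Field K] [Field L] [Algebra K L] [Algebra.EssFiniteType K L]
    [Algebra.IsAlgebraic K L] : Module.Finite K L := by
  obtain ⟨t, ht⟩ := IntermediateField.fg_top (F := K) (E := L)
  have h1 : FiniteDimensional K (IntermediateField.adjoin K (t : Set L)) :=
    IntermediateField.finiteDimensional_adjoin (fun x _ => Algebra.IsIntegral.isIntegral x)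
  rw [ht] at h1
  exact Module.Finite.equiv (IntermediateField.topEquiv (F := K) (E := L)).toLinearEquiv

lemma finite_of_trdeg {Y X : Scheme.{u}} (f : Y ⟶ X) [LocallyOfFiniteType f] (w : Y)
    (h0 : letI := (f.residueFieldMap w).hom.toAlgebra
      Algebra.trdeg (X.residueField (f w)) (Y.residueField w) = 0) :
    letI := (f.residueFieldMap w).hom.toAlgebra
    Module.Finite (X.residueField (f w)) (Y.residueField w) := by
  letI alg := (f.residueFieldMap w).hom.toAlgebra
  haveI halg : Algebra.IsAlgebraic (X.residueField (f w)) (Y.residueField w) :=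
    trdeg_eq_zero_iff.mp h0
  letI a1 : Algebra (X.presheaf.stalk (f w)) (Y.presheaf.stalk w) := (f.stalkMap w).hom.toAlgebra
  haveI : Algebra.EssFiniteType (X.presheaf.stalk (f w)) (Y.presheaf.stalk w) := by
    rw [← RingHom.essFiniteType_algebraMap, RingHom.algebraMap_toAlgebra]
    exact LocallyOfFiniteType.stalkMap f w
  haveI e1 : Algebra.EssFiniteType (X.presheaf.stalk (f w))
      (ResidueField (Y.presheaf.stalk w)) :=
    inferInstanceAs (Algebra.EssFiniteType (X.presheaf.stalk (f w))
      (Y.presheaf.stalk w ⧸ maximalIdeal (Y.presheaf.stalk w)))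
  letI a2 : Algebra (ResidueField (X.presheaf.stalk (f w))) (ResidueField (Y.presheaf.stalk w)) :=
    alg
  haveI : IsScalarTower (X.presheaf.stalk (f w)) (ResidueField (X.presheaf.stalk (f w)))
      (ResidueField (Y.presheaf.stalk w)) := IsScalarTower.of_algebraMap_eq' rfl
  haveI : Algebra.EssFiniteType (ResidueField (X.presheaf.stalk (f w)))
      (ResidueField (Y.presheaf.stalk w)) :=
    Algebra.EssFiniteType.of_comp (X.presheaf.stalk (f w)) _ _
  haveI halg' : Algebra.IsAlgebraic (ResidueField (X.presheaf.stalk (f w)))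
      (ResidueField (Y.presheaf.stalk w)) := halg
  exact finite_of_ess (K := ResidueField (X.presheaf.stalk (f w)))
    (L := ResidueField (Y.presheaf.stalk w))

theorem main (X X' Y : Scheme.{u}) (f : Y ⟶ X) (p : X' ⟶ X) [IsProper f] [Flat p] (δ : X → ℤ) (δ' : X' → ℤ) (δY : Y → ℤ) (δY' : ↥(pullback f p) → ℤ) (hX : Cyc.IsSetup X δ) (hX' : Cyc.IsSetup X' δ') (hY : Cyc.IsSetup Y δY) (hf : Cyc.DeltaCompat f δY δ) (hf' : Cyc.DeltaCompat (pullback.snd f p) δY' δ') (c : ℤ) (hc : ∀ x' : X', (∀ y, p y = p x' → y ⤳ x' → y = x') → δ' x' = δ (p x') + c) (hcY : ∀ y' : ↥(pullback f p), (∀ y, pullback.fst f p y = pullback.fst f p y' → y ⤳ y' → y = y') → δY' y' = δY (pullback.fst f p y') + c) (k : ℤ) (α : AlgebraicCycle Y ℤ) (hα : α ∈ Cyc.Zk Y δY k) (α' : AlgebraicCycle (pullback f p) ℤ) (hα' : ⇑α' = Cyc.pullFun (pullback.fst f p) δY' δY c ⇑α) : Cyc.pullFun p δ' δ c ⇑(AlgebraicCycle.map f δY δ α) = ⇑(AlgebraicCycle.map (pullback.snd f p) δY' δ' α') := by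
  classical
  have hsq : IsPullback (pullback.snd f p) (pullback.fst f p) p f :=
    (IsPullback.of_hasPullback f p).flip
  have hdY' : Cyc.IsDimFun (pullback f p) δY' :=
    Groth.Agent.S9684.result (pullback.snd f p) δ' hX' δY' hf'
  have le' : ∀ x', δ' x' ≤ δ (p x') + c := le_of_max p δ δ' hX'.2.2 c hc
  have leq : ∀ y', δY' y' ≤ δY (pullback.fst f p y') + c :=
    le_of_max (pullback.fst f p) δY δY' hdY' c hcY
  have hcond : ∀ y' : ↥(pullback f p), f (pullback.fst f p y') = p (pullback.snd f p y') := by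
    intro y'
    rw [← Scheme.Hom.comp_apply, pullback.condition, Scheme.Hom.comp_apply]
  funext x'
  -- the terms of the right hand side
  have hterm : ∀ y' ∈ (pullback.snd f p) ⁻¹' {x'},
      α' y' * ((AlgebraicCycle.mapCoeff (pullback.snd f p) δY' δ' y' : ℕ) : ℤ) =
      if (δ' x' = δ (p x') + c ∧ δY (pullback.fst f p y') = δ (f (pullback.fst f p y'))) then
        α (pullback.fst f p y') *
          ((lenQ (pullback.fst f p) y' * (pullback.snd f p).residueDegree y' : ℕ) : ℤ)
      else 0 := by
    intro y' hy'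
    have hy'' : pullback.snd f p y' = x' := hy'
    subst hy''
    obtain ⟨n, -, hn⟩ := hf (pullback.fst f p y')
    obtain ⟨n', -, hn'⟩ := hf' y'
    have h1 := le' (pullback.snd f p y')
    have h2 := leq y'
    have h3 := hcond y'
    rw [hα']
    unfold Cyc.pullFun AlgebraicCycle.mapCoeff
    rw [h3] at hn ⊢
    by_cases c3 : (δ' (pullback.snd f p y') = δ (p (pullback.snd f p y')) + c ∧
        δY (pullback.fst f p y') = δ (p (pullback.snd f p y')))
    · have c1 : δY' y' = δY (pullback.fst f p y') + c := by omega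
      have c2 : δY' y' = δ' (pullback.snd f p y') := by omega
      rw [if_pos c1, if_pos c2, if_pos c3]
      unfold lenQ
      push_cast
      ring
    · rw [if_neg c3]
      by_cases c1 : δY' y' = δY (pullback.fst f p y') + c
      · by_cases c2 : δY' y' = δ' (pullback.snd f p y')
        · exfalso
          apply c3
          constructor <;> omega
        · rw [if_neg c2]; simp
      · rw [if_neg c1]; simp
  show (if δ' x' = δ (p x') + c then
      (∑ᶠ w ∈ f ⁻¹' {p x'}, α w * ((AlgebraicCycle.mapCoeff f δY δ w : ℕ) : ℤ)) *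
        ((lenQ p x' : ℕ) : ℤ) else 0) =
    ∑ᶠ y' ∈ (pullback.snd f p) ⁻¹' {x'},
      α' y' * ((AlgebraicCycle.mapCoeff (pullback.snd f p) δY' δ' y' : ℕ) : ℤ)
  rw [finsum_mem_congr rfl hterm]
  by_cases hx' : δ' x' = δ (p x') + c
  swap
  · rw [if_neg hx']
    symm
    apply finsum_mem_eq_zero_of_forall_eq_zero
    intro y' _
    rw [if_neg (fun hh => hx' hh.1)]
  rw [if_pos hx']
  -- the index set
  let I : Set Y := {w | f w = p x' ∧ α w ≠ 0 ∧ δY w = δ (f w)}
  have hIfin : I.Finite :=
    (α.locallyFiniteSupport.finite_inter_support_of_isCompact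
      (f.isCompact_preimage_singleton (p x'))).subset (fun w hw => ⟨hw.1, hw.2.1⟩)
  let t : Y → Set ↥(pullback f p) := fun w => {y' | pullback.fst f p y' = w ∧ pullback.snd f p y' = x'}
  have hfinw : ∀ w ∈ I, (letI := (f.residueFieldMap w).hom.toAlgebra
      Module.Finite (X.residueField (f w)) (Y.residueField w)) := by
    intro w hw
    apply finite_of_trdeg f w
    obtain ⟨n, hn1, hn2⟩ := hf w
    have : n = 0 := by have := hw.2.2; omega
    rw [hn1, this]
    rfl
  have hcore : ∀ w ∈ I, (t w).Finite ∧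
      ∑ᶠ y' ∈ t w, lenQ (pullback.fst f p) y' * (pullback.snd f p).residueDegree y' =
        f.residueDegree w * lenQ p x' :=
    fun w hw => core hsq w (hfinw w hw) x' hw.1.symm
  -- left hand side
  have hL : ∑ᶠ w ∈ f ⁻¹' {p x'}, α w * ((AlgebraicCycle.mapCoeff f δY δ w : ℕ) : ℤ) =
      ∑ᶠ w ∈ I, α w * ((f.residueDegree w : ℕ) : ℤ) := by
    rw [finsum_mem_inter_support_eq' _ (f ⁻¹' {p x'}) I]
    · refine finsum_mem_congr rfl (fun w hw => ?_)
      unfold AlgebraicCycle.mapCoeff
      rw [if_pos hw.2.2]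
    · intro w hw
      have hw' : α w * ((AlgebraicCycle.mapCoeff f δY δ w : ℕ) : ℤ) ≠ 0 := hw
      constructor
      · intro h1
        refine ⟨h1, left_ne_zero_of_mul hw', ?_⟩
        by_contra hne
        apply hw'
        unfold AlgebraicCycle.mapCoeff
        rw [if_neg hne]
        simp
      · intro h1
        exact h1.1
  rw [hL, finsum_mem_mul]
  -- right hand side
  have hR1 : ∑ᶠ y' ∈ (pullback.snd f p) ⁻¹' {x'},
      (if (δ' x' = δ (p x') + c ∧ δY (pullback.fst f p y') = δ (f (pullback.fst f p y'))) then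
        α (pullback.fst f p y') *
          ((lenQ (pullback.fst f p) y' * (pullback.snd f p).residueDegree y' : ℕ) : ℤ)
      else 0) =
      ∑ᶠ y' ∈ ⋃ w ∈ I, t w,
      (if (δ' x' = δ (p x') + c ∧ δY (pullback.fst f p y') = δ (f (pullback.fst f p y'))) then
        α (pullback.fst f p y') *
          ((lenQ (pullback.fst f p) y' * (pullback.snd f p).residueDegree y' : ℕ) : ℤ)
      else 0) := by
    apply finsum_mem_inter_support_eq'
    intro y' hy'
    rw [Function.mem_support] at hy'
    constructor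
    · intro h1
      have h1' : pullback.snd f p y' = x' := h1
      have hc3 : δ' x' = δ (p x') + c ∧
          δY (pullback.fst f p y') = δ (f (pullback.fst f p y')) := by
        by_contra hne
        exact hy' (if_neg hne)
      rw [if_pos hc3] at hy'
      rw [Set.mem_iUnion₂]
      refine ⟨pullback.fst f p y', ⟨?_, left_ne_zero_of_mul hy', hc3.2⟩, rfl, h1'⟩
      rw [hcond, h1']
    · intro h1
      rw [Set.mem_iUnion₂] at h1
      obtain ⟨w, _, hw2⟩ := h1
      exact hw2.2
  rw [hR1]
  have hdisj : I.PairwiseDisjoint t := by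
    intro w _ w' _ hne
    rw [Function.onFun, Set.disjoint_left]
    intro y' h1 h2
    exact hne (h1.1.symm.trans h2.1)
  rw [finsum_mem_biUnion hdisj hIfin (fun w hw => (hcore w hw).1)]
  refine finsum_mem_congr rfl (fun w hw => ?_)
  have h4 : ∀ y' ∈ t w,
      (if (δ' x' = δ (p x') + c ∧ δY (pullback.fst f p y') = δ (f (pullback.fst f p y'))) then
        α (pullback.fst f p y') *
          ((lenQ (pullback.fst f p) y' * (pullback.snd f p).residueDegree y' : ℕ) : ℤ)
      else 0) = α w *
          ((lenQ (pullback.fst f p) y' * (pullback.snd f p).residueDegree y' : ℕ) : ℤ) := by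
    intro y' hy'
    have : pullback.fst f p y' = w := hy'.1
    rw [this, if_pos ⟨hx', hw.2.2⟩]
  rw [finsum_mem_congr rfl h4, ← mul_finsum_mem, ← Nat.cast_finsum_mem (hcore w hw).1,
    (hcore w hw).2]
  push_cast
  ring

end PRE

/-- Flat base change commutes with proper pushforward of cycles. In the base-change setting let f : Y →
X be proper and Y' = Y ×_X X' with projections f' to X' and q to Y. Y and Y' carry dimension
functions δ_Y and δ_Y' induced from δ and δ' along f and f' (Cyc.DeltaCompat), and δ_Y' satisfies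
the same shift-c condition relative to q as δ' does relative to p. For a k-cycle α on Y, g^*(f_*α) =
f'_*(q^*α) as (k + c)-cycles on X', where q^*α is any cycle on Y' with the base-change coefficients.
Base-change setting, stated without a fixed base scheme: p : X' → X is flat (not necessarily of
finite type), (X, δ) and (X', δ') carry dimension functions, and δ'(x') = δ(p x') + c whenever x' is
a generic point of an irreducible component of its fibre; g^* : Z_k(X) → Z_{k+c}(X') is the
coefficientwise flat pullback Cyc.pullFun p δ' δ c. A pair (X, δ) with Cyc.IsSetup plays the role of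
a scheme locally of finite type over a base with a dimension function (X locally Noetherian with
universally catenary local rings, δ a dimension function). -/
theorem result (X X' Y : Scheme.{u}) (f : Y ⟶ X) (p : X' ⟶ X) [IsProper f] [Flat p] (δ : X → ℤ) (δ' : X' → ℤ) (δY : Y → ℤ) (δY' : ↥(pullback f p) → ℤ) (hX : Cyc.IsSetup X δ) (hX' : Cyc.IsSetup X' δ') (hY : Cyc.IsSetup Y δY) (hf : Cyc.DeltaCompat f δY δ) (hf' : Cyc.DeltaCompat (pullback.snd f p) δY' δ') (c : ℤ) (hc : ∀ x' : X', (∀ y, p y = p x' → y ⤳ x' → y = x') → δ' x' = δ (p x') + c) (hcY : ∀ y' : ↥(pullback f p), (∀ y, pullback.fst f p y = pullback.fst f p y' → y ⤳ y' → y = y') → δY' y' = δY (pullback.fst f p y') + c) (k : ℤ) (α : AlgebraicCycle Y ℤ) (hα : α ∈ Cyc.Zk Y δY k) (α' : AlgebraicCycle (pullback f p) ℤ) (hα' : ⇑α' = Cyc.pullFun (pullback.fst f p) δY' δY c ⇑α) : Cyc.pullFun p δ' δ c ⇑(AlgebraicCycle.map f δY δ α) = ⇑(AlgebraicCycle.map (pullback.snd f p) δY' δ' α') := by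
  exact main X X' Y f p δ δ' δY δY' hX hX' hY hf hf' c hc hcY k α hα α' hα'

end Groth.Agent.S1941
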