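import Groth.Statements.S1858
import Mathlib
import Groth.Agent.S1941
import Groth.Agent.S1857
import Groth.Agent.S9358
-- import your own Groth.Agent.* helpers here

set_option autoImplicit false
universe u
open CategoryTheory AlgebraicGeometry
open CategoryTheory.Limits
open Cyc

namespace Groth.Agent.S1858

section PRE
open Groth.Agent.S6479 Groth.Agent.S1857

lemma td_congr_hom {X Y : Scheme.{u}} (φ₁ φ₂ : X ⟶ Y) (e : φ₁ = φ₂) (x : X) :
    td φ₁ x = td φ₂ x := by
  subst e; rfl

/-- the induced dimension function on a fibre product is induced along both projections. -/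
lemma deltaCompat_fst {X Y Y' : Scheme.{u}} (f : X ⟶ Y) (g : Y' ⟶ Y) (δX : X → ℤ) (δY : Y → ℤ)
    (δY' : Y' → ℤ) (δX' : ↥(pullback f g) → ℤ) (hf : Cyc.DeltaCompat f δX δY)
    (hg : Cyc.DeltaCompat g δY' δY) (hX' : Cyc.DeltaCompat (pullback.snd f g) δX' δY') :
    Cyc.DeltaCompat (pullback.fst f g) δX' δX := by
  intro x'
  obtain ⟨n1, hn1, hd1⟩ := hX' x'
  obtain ⟨n2, hn2, hd2⟩ := hg (pullback.snd f g x')
  obtain ⟨n3, hn3, hd3⟩ := hf (pullback.fst f g x')
  have e1 := td_comp (pullback.snd f g) g x'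
  have e2 := td_comp (pullback.fst f g) f x'
  have e3 : td (pullback.fst f g ≫ f) x' = td (pullback.snd f g ≫ g) x' :=
    td_congr_hom _ _ pullback.condition x'
  have hn1' : td (pullback.snd f g) x' = n1 := hn1
  have hn2' : td g (pullback.snd f g x') = n2 := hn2
  have hn3' : td f (pullback.fst f g x') = n3 := hn3
  rw [e3, ← e1, hn1', hn2', hn3'] at e2
  have hlt : td (pullback.fst f g) x' < Cardinal.aleph0 := by
    have h1 : td (pullback.fst f g) x' ≤ (n3 : Cardinal) + td (pullback.fst f g) x' :=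
      le_add_self
    rw [e2] at h1
    refine lt_of_le_of_lt h1 ?_
    exact_mod_cast Cardinal.nat_lt_aleph0 (n2 + n1)
  obtain ⟨m, hm⟩ := Cardinal.lt_aleph0.mp hlt
  rw [hm] at e2
  have e4 : n3 + m = n2 + n1 := by exact_mod_cast e2
  have hcond : f (pullback.fst f g x') = g (pullback.snd f g x') := by
    rw [← Scheme.Hom.comp_apply, pullback.condition, Scheme.Hom.comp_apply]
  refine ⟨m, hm, ?_⟩
  rw [hcond] at hd3
  omega

theorem main (X Y Y' : Scheme.{u}) (f : X ⟶ Y) (g : Y' ⟶ Y) [IsProper f] [Flat g] [LocallyOfFiniteType g] (δX : X → ℤ) (δY : Y → ℤ) (δY' : Y' → ℤ) (δX' : ↥(pullback f g) → ℤ) (r : ℕ) (hr : Cyc.HasRelDim g r) (hY : Cyc.IsSetup Y δY) (hX : Cyc.IsSetup X δX) (hY' : Cyc.IsSetup Y' δY') (hf : Cyc.DeltaCompat f δX δY) (hg : Cyc.DeltaCompat g δY' δY) (hX' : Cyc.DeltaCompat (pullback.snd f g) δX' δY') (k : ℤ) (α : AlgebraicCycle X ℤ) (hα : α ∈ Cyc.Zk X δX k) (α' : AlgebraicCycle (pullback f g) ℤ) (hα' : ⇑α' = Cyc.pullFun (pullback.fst f g) δX' δX r ⇑α)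 : ⇑(AlgebraicCycle.map (pullback.snd f g) δX' δY' α') = Cyc.pullFun g δY' δY r ⇑(AlgebraicCycle.map f δX δY α) := by
  haveI := hY.1
  haveI := hX.1
  haveI : LocallyOfFiniteType (pullback.fst f g) :=
    MorphismProperty.pullback_fst (P := @LocallyOfFiniteType) f g inferInstance
  have hrel' : Cyc.HasRelDim (pullback.fst f g) r :=
    (Groth.Agent.S9358.result g f (pullback.snd f g) (pullback.fst f g)
      (IsPullback.of_hasPullback f g).flip r).2.2 hr
  have hfst := deltaCompat_fst f g δX δY δY' δX' hf hg hX'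
  have hc : ∀ y' : Y', MaxFib g y' → δY' y' = δY (g y') + (r : ℤ) := by
    intro y' hy'
    obtain ⟨n, hn, hδ⟩ := hg y'
    have := td_eq_of_max g r hr y' hy' n hn
    rw [hδ, this]
  have hcX : ∀ x' : ↥(pullback f g), MaxFib (pullback.fst f g) x' →
      δX' x' = δX (pullback.fst f g x') + (r : ℤ) := by
    intro x' hx'
    obtain ⟨n, hn, hδ⟩ := hfst x'
    have := td_eq_of_max (pullback.fst f g) r hrel' x' hx' n hn
    rw [hδ, this]
  exact (Groth.Agent.S1941.main Y Y' X f g δY δY' δX δX' hY hY' hX hf hX' (r : ℤ) hc hcX k α hα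
    α' hα').symm

end PRE

/-- Let f : X → Y be proper and g : Y' → Y flat, locally of finite type, of relative dimension r, and
form X' = X ×_Y Y' with projections g' to X and f' to Y'. For a k-cycle α on X one has g^*(f_*α) =
f'_*(g'^*α) as (k + r)-cycles on Y' (stated on coefficient functions, for any cycle on X' with the
coefficients of g'^*α). Here a pair (X, δ) with Cyc.IsSetup plays the role of a scheme locally of
finite type over a fixed base with a dimension function (X locally Noetherian with universally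
catenary local rings, δ a dimension function), and Cyc.DeltaCompat records that the dimension
function upstairs is the induced one. -/
theorem result (X Y Y' : Scheme.{u}) (f : X ⟶ Y) (g : Y' ⟶ Y) [IsProper f] [Flat g] [LocallyOfFiniteType g] (δX : X → ℤ) (δY : Y → ℤ) (δY' : Y' → ℤ) (δX' : ↥(pullback f g) → ℤ) (r : ℕ) (hr : Cyc.HasRelDim g r) (hY : Cyc.IsSetup Y δY) (hX : Cyc.IsSetup X δX) (hY' : Cyc.IsSetup Y' δY') (hf : Cyc.DeltaCompat f δX δY) (hg : Cyc.DeltaCompat g δY' δY) (hX' : Cyc.DeltaCompat (pullback.snd f g) δX' δY') (k : ℤ) (α : AlgebraicCycle X ℤ) (hα : α ∈ Cyc.Zk X δX k) (α' : AlgebraicCycle (pullback f g) ℤ) (hα' : ⇑α' = Cyc.pullFun (pullback.fst f g) δX' δX r ⇑α) : ⇑(AlgebraicCycle.map (pullback.snd f g) δX' δY' α') = Cyc.pullFun g δY' δY r ⇑(AlgebraicCycle.map f δX δY α) := by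
  exact main X Y Y' f g δX δY δY' δX' r hr hY hX hY' hf hg hX' k α hα α' hα'

end Groth.Agent.S1858
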