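import Groth.Statements.S1919
import Mathlib
import Groth.Agent.S1941
import Groth.Agent.S1858
import Groth.Agent.Lib.Helper63.TensorLen
-- import your own Groth.Agent.* helpers here

set_option autoImplicit false
universe u
open CategoryTheory AlgebraicGeometry
open CategoryTheory.Limits
open RelCyc

namespace Groth.Agent.S1919

section PRE
open IsLocalRing Groth.Agent.S1857 Groth.Agent.S1858 Groth.Agent.S1941 TensorProduct
open Groth.Agent.Lib.Helper63.TensorLen

noncomputable local instance pcAlg (k : Type u) [Field k] (p : ℕ) [Fact p.Prime] [CharP k p] :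
    Algebra k (PerfectClosure k p) := (PerfectClosure.of k p).toAlgebra

lemma pc_isIntegral (k : Type u) [Field k] (p : ℕ) [Fact p.Prime] [CharP k p] :
    Algebra.IsIntegral k (PerfectClosure k p) := by
  refine ⟨fun z => ?_⟩
  obtain ⟨n, y, hy⟩ := (PerfectClosure.isPRadical k p).pow_mem' z
  refine IsIntegral.of_pow (n := p ^ n) (pow_pos (Fact.out : p.Prime).pos n) ?_
  rw [← hy]
  exact isIntegral_algebraMap

lemma good_tensor (k : Type u) [Field k] (p : ℕ) [Fact p.Prime] [CharP k p] (L : Type u) [Field L]
    [Algebra k L] [Algebra.EssFiniteType k L] (q : Ideal (L ⊗[k] PerfectClosure k p)) [q.IsPrime] :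
    ∃ n : ℕ, Module.length (Localization.AtPrime q) (Localization.AtPrime q) = (p ^ n : ℕ) := by
  haveI : ExpChar k p := ExpChar.prime (Fact.out)
  have hFG : (⊤ : IntermediateField k L).FG := IntermediateField.fg_top_iff.2 inferInstance
  have h1 : Good p (PerfectClosure k p ⊗[k] L) := main k (PerfectClosure k p) L hFG p
  have h2 : Good p (L ⊗[k] PerfectClosure k p) :=
    h1.of_ringEquiv (Algebra.TensorProduct.comm k (PerfectClosure k p) L).toRingEquiv
  haveI := pc_isIntegral k p
  haveI : Algebra.IsIntegral L (L ⊗[k] PerfectClosure k p) := inferInstance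
  haveI : Ring.KrullDimLE 0 (L ⊗[k] PerfectClosure k p) := by
    refine Ring.KrullDimLE.mk₀ (fun I hI => ?_)
    refine Ideal.isMaximal_of_isIntegral_of_isMaximal_comap (R := L) I ?_
    haveI : (Ideal.comap (algebraMap L (L ⊗[k] PerfectClosure k p)) I).IsPrime := inferInstance
    rw [Ideal.eq_bot_of_prime (Ideal.comap (algebraMap L (L ⊗[k] PerfectClosure k p)) I)]
    exact Ideal.bot_isMaximal
  exact h2 q (Ideal.mem_minimalPrimes_of_krullDimLE_zero q)

lemma ess_resField (k : Type u) [Field k] (X : Scheme.{u}) (f : X ⟶ Spec (CommRingCat.of k))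
    [LocallyOfFiniteType f] (x : X) :
    (Spec.preimage (X.fromSpecResidueField x ≫ f)).hom.EssFiniteType := by
  have h1 : Spec.preimage (X.fromSpecResidueField x ≫ f) =
      CommRingCat.ofHom (algebraMap k ((f x).asIdeal.ResidueField)) ≫
        (Scheme.Spec.residueFieldIso (CommRingCat.of k) (f x)).inv ≫ f.residueFieldMap x := by
    apply Spec.map_injective
    rw [Spec.map_preimage, Spec.map_comp, Spec.map_comp,
      ← Scheme.Hom.SpecMap_residueFieldMap_fromSpecResidueField,
      ← Scheme.Spec.map_residueFieldIso_inv_eq_fromSpecResidueField]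
    rfl
  rw [h1]
  simp only [CommRingCat.hom_comp, CommRingCat.hom_ofHom]
  refine RingHom.EssFiniteType.comp ?_ (RingHom.EssFiniteType.comp ?_ ?_)
  · haveI : (f x).asIdeal.IsMaximal := by
      rw [Ideal.eq_bot_of_prime (f x).asIdeal]
      exact Ideal.bot_isMaximal
    exact (RingHom.FiniteType.of_surjective _
      (Ideal.algebraMap_residueField_surjective (f x).asIdeal)).essFiniteType
  · refine (RingHom.FiniteType.of_surjective _ ?_).essFiniteType
    exact (Scheme.Spec.residueFieldIso (CommRingCat.of k) (f x)).symm.commRingCatIsoToRingEquiv.surjective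
  · exact RingHom.EssFiniteType.residueFieldMap (LocallyOfFiniteType.stalkMap f x)

lemma length_stalk_iso {F : Scheme.{u}} (R : CommRingCat.{u}) (e : F ≅ Spec R) (t : F) :
    Module.length (F.presheaf.stalk t) (F.presheaf.stalk t) =
      Module.length (Localization.AtPrime (e.hom t).asIdeal)
        (Localization.AtPrime (e.hom t).asIdeal) := by
  have h1 := length_self_eq_of_ringEquiv
    (asIso (e.hom.stalkMap t)).commRingCatIsoToRingEquiv
  have h2 := length_self_eq_of_ringEquiv
    (Spec.stalkIso R (e.hom t)).commRingCatIsoToRingEquiv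
  rw [← h1]
  exact h2

lemma lenQ_pow (k : Type u) [Field k] (p : ℕ) [Fact p.Prime] [CharP k p] (X : Scheme.{u})
    (f : X ⟶ Spec (CommRingCat.of k)) [LocallyOfFiniteType f]
    (g : Spec (CommRingCat.of (PerfectClosure k p)) ⟶ Spec (CommRingCat.of k))
    (hg : g = Spec.map (CommRingCat.ofHom (PerfectClosure.of k p)))
    (x' : ↥(pullback f g)) :
    ∃ e : ℕ, lenQ (pullback.fst f g) x' = p ^ e := by
  obtain ⟨t, ht⟩ : ∃ t : (pullback.fst f g).fiber ((pullback.fst f g) x'),
      (pullback.fst f g).fiberι ((pullback.fst f g) x') t = x' :=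
    ⟨((pullback.fst f g).fiberHomeo ((pullback.fst f g) x')).symm ⟨x', rfl⟩,
      Scheme.Hom.fiberι_fiberHomeo_symm (pullback.fst f g) ((pullback.fst f g) x') ⟨x', rfl⟩⟩
  rw [← ht, ← length_stalk_fiber (pullback.fst f g) ((pullback.fst f g) x') t]
  generalize (pullback.fst f g) x' = x at t
  let a : CommRingCat.of k ⟶ X.residueField x := Spec.preimage (X.fromSpecResidueField x ≫ f)
  have ha : Spec.map a = X.fromSpecResidueField x ≫ f := Spec.map_preimage _
  letI alg : Algebra k (X.residueField x) := a.hom.toAlgebra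
  haveI : Algebra.EssFiniteType k (X.residueField x) := by
    rw [← RingHom.essFiniteType_algebraMap, RingHom.algebraMap_toAlgebra]
    exact ess_resField k X f x
  let e1 : (pullback.fst f g).fiber x ≅ pullback (X.fromSpecResidueField x) (pullback.fst f g) :=
    pullbackSymmetry _ _
  let e2 : pullback (X.fromSpecResidueField x) (pullback.fst f g) ≅
      pullback (X.fromSpecResidueField x ≫ f) g :=
    pullbackRightPullbackFstIso f g _
  let e3 : pullback (X.fromSpecResidueField x ≫ f) g ≅ pullback (Spec.map a)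
      (Spec.map (CommRingCat.ofHom (PerfectClosure.of k p))) :=
    pullback.congrHom ha.symm hg
  let e4 : pullback (Spec.map a) (Spec.map (CommRingCat.ofHom (PerfectClosure.of k p))) ≅
      Spec (CommRingCat.of (X.residueField x ⊗[k] PerfectClosure k p)) :=
    pullbackSpecIso k (X.residueField x) (PerfectClosure k p)
  let e := e1 ≪≫ e2 ≪≫ e3 ≪≫ e4
  rw [length_stalk_iso _ e t]
  obtain ⟨n, hn⟩ := good_tensor k p (X.residueField x) (e.hom t).asIdeal
  exact ⟨n, by rw [hn]; simp⟩

lemma univInj_perf (k : Type u) [Field k] (p : ℕ) [Fact p.Prime] [CharP k p] :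
    UniversallyInjective (Spec.map (CommRingCat.ofHom (PerfectClosure.of k p))) := by
  have h := (tfae_universallyInjective (Spec.map (CommRingCat.ofHom (PerfectClosure.of k p)))).out 0 1
  rw [h]
  intro K _ g₁ g₂ hg
  dsimp only at hg
  obtain ⟨a₁, rfl⟩ := Spec.map_surjective g₁
  obtain ⟨a₂, rfl⟩ := Spec.map_surjective g₂
  rw [← Spec.map_comp, ← Spec.map_comp] at hg
  have hg' := Spec.map_injective hg
  congr 1
  ext z
  obtain ⟨n, y, hy⟩ := (PerfectClosure.isPRadical k p).pow_mem' z
  have e1 : a₁.hom (PerfectClosure.of k p y) = a₂.hom (PerfectClosure.of k p y) := by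
    have := congrArg (fun t => t.hom y) hg'
    simpa using this
  rw [hy, map_pow, map_pow] at e1
  haveI : CharP K p := by
    have : CharP (PerfectClosure k p) p := inferInstance
    exact (RingHom.charP_iff (a₁.hom) a₁.hom.injective p).mp this
  exact (frobenius_inj K p).iterate n |> fun hinj => hinj (by simpa [iterate_frobenius] using e1)


lemma td_zero {X Y : Scheme.{u}} (f : X ⟶ Y) [UniversallyInjective f] (x : X) : td f x = 0 := by
  have h := ((tfae_universallyInjective f).out 0 2).mp ‹UniversallyInjective f›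
  have hx := h.2 x
  unfold td
  letI := (f.residueFieldMap x).hom.toAlgebra
  haveI : IsPurelyInseparable (Y.residueField (f x)) (X.residueField x) := hx
  haveI : Algebra.IsAlgebraic (Y.residueField (f x)) (X.residueField x) := inferInstance
  exact trdeg_eq_zero_iff.mpr inferInstance

theorem main (k : Type u) [Field k] (p : ℕ) [Fact p.Prime] [CharP k p] (X : Scheme.{u}) (f : X ⟶ Spec (CommRingCat.of k)) [LocallyOfFiniteType f] [QuasiCompact f] (δ : X → ℤ) (hδ : Cyc.DeltaCompat f δ (fun _ => 0)) (δ' : ↥(pullback f (Spec.map (CommRingCat.ofHom (PerfectClosure.of k p)))) → ℤ) (hδ' : Cyc.DeltaCompat (pullback.snd f (Spec.map (CommRingCat.ofHom (PerfectClosure.of k p)))) δ' (fun _ => 0)) (r : ℤ) (β : AlgebraicCycle (pullback f (Spec.map (CommRingCat.ofHom (PerfectClosure.of k p)))) ℤ) (hβ : β ∈ Cyc.Zk _ δ' r) : ∃ (n : ℕ) (α : AlgebraicCycle X ℤ), α ∈ Cyc.Zk X δ r ∧ (p : ℤ) ^ n • ⇑β = Cyc.pullFun (pullback.fst f (Spec.map (CommRingCat.ofHom (PerfectClosure.of k p)))) δ' δ 0 ⇑α := by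
  classical
  haveI hUI : UniversallyInjective (Spec.map (CommRingCat.ofHom (PerfectClosure.of k p))) :=
    univInj_perf k p
  haveI : UniversallyInjective
      (pullback.fst f (Spec.map (CommRingCat.ofHom (PerfectClosure.of k p)))) :=
    MorphismProperty.pullback_fst (P := @UniversallyInjective) f _ hUI
  have hinj := (pullback.fst f (Spec.map (CommRingCat.ofHom (PerfectClosure.of k p)))).injective
  have hg : Cyc.DeltaCompat (Spec.map (CommRingCat.ofHom (PerfectClosure.of k p)))
      (fun _ => (0 : ℤ)) (fun _ => (0 : ℤ)) := by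
    intro y
    refine ⟨0, ?_, by simp⟩
    have := td_zero (Spec.map (CommRingCat.ofHom (PerfectClosure.of k p))) y
    rw [Nat.cast_zero]
    exact this
  have hπ := deltaCompat_fst f (Spec.map (CommRingCat.ofHom (PerfectClosure.of k p))) δ
    (fun _ => 0) (fun _ => 0) δ' hδ hg hδ'
  have F2 : ∀ x', δ' x' =
      δ (pullback.fst f (Spec.map (CommRingCat.ofHom (PerfectClosure.of k p))) x') := by
    intro x'
    obtain ⟨m, hm, hd⟩ := hπ x'
    have h0 := td_zero (pullback.fst f (Spec.map (CommRingCat.ofHom (PerfectClosure.of k p)))) x'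
    have hm' : td (pullback.fst f (Spec.map (CommRingCat.ofHom (PerfectClosure.of k p)))) x' = m :=
      hm
    rw [h0] at hm'
    have : m = 0 := by exact_mod_cast hm'.symm
    rw [hd, this]; simp
  have F3 : ∀ x', ∃ e : ℕ,
      lenQ (pullback.fst f (Spec.map (CommRingCat.ofHom (PerfectClosure.of k p)))) x' = p ^ e :=
    fun x' => lenQ_pow k p X f _ rfl x'
  choose e he using F3
  haveI : CompactSpace ↥(pullback f (Spec.map (CommRingCat.ofHom (PerfectClosure.of k p)))) :=
    QuasiCompact.compactSpace_of_compactSpace (pullback.snd _ _)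
  have hfin : (Function.support ⇑β).Finite := by
    have := β.locallyFiniteSupport.finite_inter_support_of_isCompact isCompact_univ
    rwa [Set.univ_inter] at this
  let N : ℕ := hfin.toFinset.sup e
  have hN : ∀ x', β x' ≠ 0 → e x' ≤ N := fun x' hx' =>
    Finset.le_sup (f := e) (hfin.mem_toFinset.mpr hx')
  let αfun : X → ℤ := fun x =>
    if h : ∃ x', β x' ≠ 0 ∧
        pullback.fst f (Spec.map (CommRingCat.ofHom (PerfectClosure.of k p))) x' = x then
      β (Classical.choose h) * (p : ℤ) ^ (N - e (Classical.choose h)) else 0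
  have hαfun : ∀ x', β x' ≠ 0 →
      αfun (pullback.fst f (Spec.map (CommRingCat.ofHom (PerfectClosure.of k p))) x') =
        β x' * (p : ℤ) ^ (N - e x') := by
    intro x' hx'
    have h : ∃ x'', β x'' ≠ 0 ∧
        pullback.fst f (Spec.map (CommRingCat.ofHom (PerfectClosure.of k p))) x'' =
        pullback.fst f (Spec.map (CommRingCat.ofHom (PerfectClosure.of k p))) x' := ⟨x', hx', rfl⟩
    show (if h : ∃ x'', β x'' ≠ 0 ∧
        pullback.fst f (Spec.map (CommRingCat.ofHom (PerfectClosure.of k p))) x'' =
        pullback.fst f (Spec.map (CommRingCat.ofHom (PerfectClosure.of k p))) x' then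
      β (Classical.choose h) * (p : ℤ) ^ (N - e (Classical.choose h)) else 0) = _
    rw [dif_pos h]
    have := Classical.choose_spec h
    rw [hinj this.2]
  have hαne : ∀ x, αfun x ≠ 0 → ∃ x', β x' ≠ 0 ∧
      pullback.fst f (Spec.map (CommRingCat.ofHom (PerfectClosure.of k p))) x' = x := by
    intro x hx
    by_contra hne
    apply hx
    show (if h : ∃ x', β x' ≠ 0 ∧
        pullback.fst f (Spec.map (CommRingCat.ofHom (PerfectClosure.of k p))) x' = x then
      β (Classical.choose h) * (p : ℤ) ^ (N - e (Classical.choose h)) else 0) = 0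
    rw [dif_neg hne]
  have hsuppfin : (Function.support αfun).Finite := by
    refine (hfin.image
      (pullback.fst f (Spec.map (CommRingCat.ofHom (PerfectClosure.of k p))))).subset ?_
    intro x hx
    obtain ⟨x', h1, h2⟩ := hαne x hx
    exact ⟨x', h1, h2⟩
  let α : AlgebraicCycle X ℤ :=
    { toFun := αfun
      supportWithinDomain' := Set.subset_univ _
      supportLocallyFiniteWithinDomain' := fun z _ =>
        ⟨Set.univ, Filter.univ_mem, by rw [Set.univ_inter]; exact hsuppfin⟩ }
  refine ⟨N, α, ?_, ?_⟩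
  · intro x hx
    by_contra hne
    obtain ⟨x', h1, h2⟩ := hαne x hne
    apply hx
    rw [← h2, ← F2 x']
    by_contra hk
    exact h1 (hβ x' hk)
  · funext y'
    show (p : ℤ) ^ N • β y' = Cyc.pullFun _ δ' δ 0 αfun y'
    unfold Cyc.pullFun
    rw [if_pos (by rw [add_zero]; exact F2 y')]
    have h3 := he y'
    unfold lenQ at h3
    rw [h3]
    by_cases hy : β y' ≠ 0
    · rw [hαfun y' hy, smul_eq_mul]
      have := hN y' hy
      push_cast
      rw [mul_assoc, ← pow_add, Nat.sub_add_cancel this, mul_comm]
    · rw [not_not] at hy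
      have h0 : αfun (pullback.fst f (Spec.map (CommRingCat.ofHom (PerfectClosure.of k p))) y') = 0 := by
        by_contra hne
        obtain ⟨x', h1, h2⟩ := hαne _ hne
        rw [hinj h2] at h1
        exact h1 hy
      rw [h0, hy]
      simp

end PRE

/-- For a scheme X of finite type over a field k of characteristic p > 0, with base change X' = X ×_k k'
to the perfect closure k', the base change map Z_r(X) → Z_r(X') (flat pullback along the projection)
has p-power torsion cokernel: for every r-cycle β on X' some p^n β is the base change of an r-cycle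
on X. Dimension functions are transcendence degrees of residue fields over the ground fields. -/
theorem result (k : Type u) [Field k] (p : ℕ) [Fact p.Prime] [CharP k p] (X : Scheme.{u}) (f : X ⟶ Spec (CommRingCat.of k)) [LocallyOfFiniteType f] [QuasiCompact f] (δ : X → ℤ) (hδ : Cyc.DeltaCompat f δ (fun _ => 0)) (δ' : ↥(pullback f (Spec.map (CommRingCat.ofHom (PerfectClosure.of k p)))) → ℤ) (hδ' : Cyc.DeltaCompat (pullback.snd f (Spec.map (CommRingCat.ofHom (PerfectClosure.of k p)))) δ' (fun _ => 0)) (r : ℤ) (β : AlgebraicCycle (pullback f (Spec.map (CommRingCat.ofHom (PerfectClosure.of k p)))) ℤ) (hβ : β ∈ Cyc.Zk _ δ' r) : ∃ (n : ℕ) (α : AlgebraicCycle X ℤ), α ∈ Cyc.Zk X δ r ∧ (p : ℤ) ^ n • ⇑β = Cyc.pullFun (pullback.fst f (Spec.map (CommRingCat.ofHom (PerfectClosure.of k p)))) δ' δ 0 ⇑α := by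
  exact main k p X f δ hδ δ' hδ' r β hβ

end Groth.Agent.S1919
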