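import Groth.Statements.S6495
import Mathlib
import Groth.Agent.S6479
import Groth.Agent.Lib.Helper22.EtInv
-- import your own Groth.Agent.* helpers here

set_option autoImplicit false
universe u
open CategoryTheory AlgebraicGeometry
open Cyc

namespace Groth.Agent.S6495

section PRE
open IsLocalRing Groth.Agent.S6479 CategoryTheory.Limits Groth.Agent.Lib.Helper22

section lift
variable {I : Type u} [Category.{u} I] (D : I ⥤ Scheme.{u}) (c : Cone D) (hc : IsLimit c)

set_option backward.defeqAttrib.useBackward true in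
set_option backward.isDefEq.respectTransparency false in
open Scheme.Opens in
include hc in
/-- sections over the preimage of an affine open come from a finite level. -/
lemma exists_section_stage [IsCofiltered I] [∀ {i j} (f : i ⟶ j), IsAffineHom (D.map f)]
    (i : I) (V : (D.obj i).Opens) (hV : IsAffineOpen V) (r : Γ(c.pt, c.π.app i ⁻¹ᵁ V)) :
    ∃ (j : Over i) (s : Γ(D.obj j.left, D.map j.hom ⁻¹ᵁ V))
      (h : c.π.app j.left ⁻¹ᵁ D.map j.hom ⁻¹ᵁ V = c.π.app i ⁻¹ᵁ V),
      r = (c.π.app j.left).appLE (D.map j.hom ⁻¹ᵁ V) (c.π.app i ⁻¹ᵁ V) h.ge s := by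
  have (j : _) : IsAffine ((opensDiagram D i V).op.obj j).unop := hV.preimage _
  have (j : _) : IsAffine ((opensDiagram D i V).obj j) := hV.preimage _
  obtain ⟨⟨j⟩, s, hs⟩ := (Types.jointly_surjective_of_isColimit (isColimitOfPreserves
    (Scheme.Γ ⋙ forget _) (isLimitOpensCone D c hc i V).op) ((c.π.app i ⁻¹ᵁ V).topIso.inv r))
  obtain ⟨s, rfl⟩ := (D.map j.hom ⁻¹ᵁ V).topIso.symm.commRingCatIsoToRingEquiv.surjective s
  have h : c.π.app j.left ⁻¹ᵁ D.map j.hom ⁻¹ᵁ V = c.π.app i ⁻¹ᵁ V := congr($(c.w j.hom) ⁻¹ᵁ V)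
  refine ⟨j, s, h, ?_⟩
  convert!
    show r = ((topIso _).inv ≫ ((opensCone D c i V).π.app j).appTop ≫ (topIso _).hom) s from
      (c.π.app i ⁻¹ᵁ V).topIso.commRingCatIsoToRingEquiv.symm_apply_eq.mp hs.symm using 3
  simp [Scheme.Hom.app_eq_appLE, Scheme.Hom.resLE_appLE]

include hc in
lemma exists_stage_mem [IsCofiltered I] [∀ {i j} (f : i ⟶ j), IsAffineHom (D.map f)]
    (x' : c.pt) (a : c.pt.presheaf.stalk x') (ha : a ∈ maximalIdeal (c.pt.presheaf.stalk x')) :
    ∃ j : I, a ∈ Ideal.map ((c.π.app j).stalkMap x').hom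
      (maximalIdeal ((D.obj j).presheaf.stalk (c.π.app j x'))) := by
  obtain ⟨W, hxW, s0, rfl⟩ := c.pt.presheaf.exists_germ_eq a
  obtain ⟨_, ⟨i, V, hV, rfl⟩, hxV, hVW⟩ :=
    TopologicalSpace.Opens.isBasis_iff_nbhd.mp (isBasis_preimage_isAffineOpen D c hc) hxW
  have hr : c.pt.presheaf.germ (c.π.app i ⁻¹ᵁ V) x' hxV (c.pt.presheaf.map (homOfLE hVW).op s0) =
      c.pt.presheaf.germ W x' hxW s0 := TopCat.Presheaf.germ_res_apply _ _ _ _ _
  obtain ⟨j, s, h, hrs⟩ := exists_section_stage D c hc i V hV (c.pt.presheaf.map (homOfLE hVW).op s0)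
  have hxj : c.π.app j.left x' ∈ D.map j.hom ⁻¹ᵁ V := by
    have : x' ∈ c.π.app j.left ⁻¹ᵁ D.map j.hom ⁻¹ᵁ V := by rw [h]; exact hxV
    exact this
  have hb : ((c.π.app j.left).stalkMap x').hom
      ((D.obj j.left).presheaf.germ _ (c.π.app j.left x') hxj s) =
      c.pt.presheaf.germ W x' hxW s0 := by
    rw [Scheme.Hom.germ_stalkMap_apply, ← hr, hrs]
    unfold Scheme.Hom.appLE
    exact (TopCat.Presheaf.germ_res_apply _ _ _ _ _).symm
  refine ⟨j.left, ?_⟩
  rw [← hb]
  apply Ideal.mem_map_of_mem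
  rw [mem_maximalIdeal, mem_nonunits_iff]
  intro hu
  have h1 := hu.map ((c.π.app j.left).stalkMap x').hom
  rw [hb] at h1
  exact (mem_maximalIdeal _).mp ha h1

include hc in
lemma exists_stage_closure [IsCofiltered I] [∀ {i j} (f : i ⟶ j), IsAffineHom (D.map f)]
    [TopologicalSpace.NoetherianSpace c.pt] (x' : c.pt) :
    ∃ i : I, ∀ y' : c.pt, c.π.app i x' ⤳ c.π.app i y' → x' ⤳ y' := by
  let U' : c.pt.Opens := ⟨(closure {x'})ᶜ, isClosed_closure.isOpen_compl⟩
  obtain ⟨i, V, -, hV⟩ := exists_preimage_eq D c hc U'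
    (TopologicalSpace.NoetherianSpace.isCompact _)
  refine ⟨i, fun y' hsp => ?_⟩
  rw [specializes_iff_mem_closure]
  by_contra hy
  have h1 : y' ∈ c.π.app i ⁻¹ᵁ V := by rw [hV]; exact hy
  have h2 : c.π.app i x' ∈ V := hsp.mem_open V.2 h1
  have h3 : x' ∈ c.π.app i ⁻¹ᵁ V := h2
  rw [hV] at h3
  exact h3 (subset_closure rfl)

lemma mono2 {i j : I} (f : j ⟶ i) (x' : c.pt) :
    Ideal.map ((c.π.app i).stalkMap x').hom
      (maximalIdeal ((D.obj i).presheaf.stalk (c.π.app i x'))) ≤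
    Ideal.map ((c.π.app j).stalkMap x').hom
      (maximalIdeal ((D.obj j).presheaf.stalk (c.π.app j x'))) := by
  rw [EtInv.map_max_congr (c.π.app i) (c.π.app j ≫ D.map f) (c.w f).symm x',
    EtInv.map_max_comp (c.π.app j) (D.map f) x']
  apply Ideal.map_mono
  exact ((local_hom_TFAE ((D.map f).stalkMap (c.π.app j x')).hom).out 0 2).mp
    (inferInstance : IsLocalHom ((D.map f).stalkMap (c.π.app j x')).hom)

lemma length_quot_max {A : Type u} [CommRing A] [IsLocalRing A] :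
    Module.length A (A ⧸ maximalIdeal A) = 1 := by
  haveI : IsSimpleModule A (A ⧸ maximalIdeal A) :=
    isSimpleModule_iff_isCoatom.mpr (Ideal.isMaximal_def.mp (maximalIdeal.isMaximal A))
  exact Module.length_eq_one A (A ⧸ maximalIdeal A)

end lift

theorem main (I : Type u) [Preorder I] [IsDirected I (fun a b => a ≤ b)] [Nonempty I] (D : Iᵒᵖ ⥤ Scheme.{u}) (c : Limits.Cone D) (hc : Limits.IsLimit c) (haff : ∀ (i j : Iᵒᵖ) (f : i ⟶ j), IsAffineHom (D.map f)) (hqc : ∀ i, CompactSpace ↥(D.obj i)) (δ : (i : Iᵒᵖ) → ↥(D.obj i) → ℤ) (δ' : ↥c.pt → ℤ) (hset' : Cyc.IsSetup c.pt δ') (hshift' : ∀ (i : Iᵒᵖ) (x : ↥c.pt), (∀ y, c.π.app i y = c.π.app i x → y ⤳ x → y = x) → δ' x = δ i (c.π.app i x)) (k : ℤ) (α' : AlgebraicCycle c.pt ℤ) (hα' : α' ∈ Cyc.Zk c.pt δ' k) : ∃ (i : Iᵒᵖ) (α : AlgebraicCycle (D.obj i) ℤ), α ∈ Cyc.Zk (D.obj i) (δ i) k ∧ Cyc.pullFun (c.π.app i) δ' (δ i) 0 ⇑α = ⇑α' := by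
  classical
  haveI : ∀ {i j : Iᵒᵖ} (f : i ⟶ j), IsAffineHom (D.map f) := fun f => haff _ _ f
  haveI : ∀ i, CompactSpace ↥(D.obj i) := hqc
  haveI hln : IsLocallyNoetherian c.pt := hset'.1
  haveI hcpt : CompactSpace c.pt := Scheme.compactSpace_of_isLimit D c hc
  haveI : IsNoetherian c.pt := { toIsLocallyNoetherian := hln, toCompactSpace := hcpt }
  haveI : TopologicalSpace.NoetherianSpace c.pt := inferInstance
  have hfin : (Function.support ⇑α').Finite := by
    have := α'.locallyFiniteSupport.finite_inter_support_of_isCompact isCompact_univ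
    rwa [Set.univ_inter] at this
  -- the two conditions
  let G1 : Iᵒᵖ → c.pt → Prop := fun i x' => ∀ y' : c.pt, c.π.app i x' ⤳ c.π.app i y' → x' ⤳ y'
  let G2 : Iᵒᵖ → c.pt → Prop := fun i x' => maximalIdeal (c.pt.presheaf.stalk x') ≤
    Ideal.map ((c.π.app i).stalkMap x').hom
      (maximalIdeal ((D.obj i).presheaf.stalk (c.π.app i x')))
  have hG1mono : ∀ {i j : Iᵒᵖ} (f : j ⟶ i) (x' : c.pt), G1 i x' → G1 j x' := by
    intro i j f x' h y' hsp
    apply h
    have := hsp.map (D.map f).continuous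
    rw [← Scheme.Hom.comp_apply, ← Scheme.Hom.comp_apply, c.w f] at this
    exact this
  have hG2mono : ∀ {i j : Iᵒᵖ} (f : j ⟶ i) (x' : c.pt), G2 i x' → G2 j x' :=
    fun f x' h => h.trans (mono2 D c f x')
  have hdir : ∀ j1 j2 : Iᵒᵖ, ∃ (m : Iᵒᵖ) (_ : m ⟶ j1) (_ : m ⟶ j2), True := by
    intro j1 j2
    obtain ⟨m, hm1, hm2⟩ := directed_of (fun a b : I => a ≤ b) j1.unop j2.unop
    exact ⟨Opposite.op m, (homOfLE hm1).op, (homOfLE hm2).op, trivial⟩
  have hG2ex : ∀ x' : c.pt, ∃ i, G2 i x' := by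
    intro x'
    haveI : IsNoetherianRing (c.pt.presheaf.stalk x') := inferInstance
    obtain ⟨S, hS⟩ := (isNoetherianRing_iff_ideal_fg _).mp ‹_› (maximalIdeal (c.pt.presheaf.stalk x'))
    have hmem : ∀ T : Finset (c.pt.presheaf.stalk x'), (∀ a ∈ T, a ∈ maximalIdeal _) →
        ∃ i : Iᵒᵖ, ∀ a ∈ T, a ∈ Ideal.map ((c.π.app i).stalkMap x').hom
          (maximalIdeal ((D.obj i).presheaf.stalk (c.π.app i x'))) := by
      intro T
      induction T using Finset.induction_on with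
      | empty => intro _; exact ⟨Opposite.op (Classical.arbitrary I), fun a ha => absurd ha (Finset.notMem_empty a)⟩
      | insert a T ha ih =>
        intro hT
        obtain ⟨j1, h1⟩ := ih (fun b hb => hT b (Finset.mem_insert_of_mem hb))
        obtain ⟨j2, h2⟩ := exists_stage_mem D c hc x' a (hT a (Finset.mem_insert_self a T))
        obtain ⟨m, g1, g2, -⟩ := hdir j1 j2
        refine ⟨m, fun b hb => ?_⟩
        rcases Finset.mem_insert.mp hb with rfl | hbT
        · exact mono2 D c g2 x' h2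
        · exact mono2 D c g1 x' (h1 b hbT)
    obtain ⟨i, hi⟩ := hmem S (fun a ha => by rw [← hS]; exact Ideal.subset_span ha)
    refine ⟨i, ?_⟩
    show maximalIdeal _ ≤ _
    rw [← hS, Ideal.span_le]
    exact fun a ha => hi a ha
  have hGex : ∀ x' : c.pt, ∃ i, G1 i x' ∧ G2 i x' := by
    intro x'
    obtain ⟨j1, h1⟩ := exists_stage_closure D c hc x'
    obtain ⟨j2, h2⟩ := hG2ex x'
    obtain ⟨m, g1, g2, -⟩ := hdir j1 j2
    exact ⟨m, hG1mono g1 x' h1, hG2mono g2 x' h2⟩
  have hall : ∀ S : Set c.pt, S.Finite → ∃ i : Iᵒᵖ, ∀ x' ∈ S, G1 i x' ∧ G2 i x' := by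
    intro S hS
    induction S, hS using Set.Finite.induction_on with
    | empty => exact ⟨Opposite.op (Classical.arbitrary I), fun x hx => absurd hx (Set.notMem_empty x)⟩
    | @insert a S ha hS ih =>
      obtain ⟨j1, h1⟩ := ih
      obtain ⟨j2, h2⟩ := hGex a
      obtain ⟨m, g1, g2, -⟩ := hdir j1 j2
      refine ⟨m, fun x hx => ?_⟩
      rcases Set.mem_insert_iff.mp hx with rfl | hxS
      · exact ⟨hG1mono g2 _ h2.1, hG2mono g2 _ h2.2⟩
      · exact ⟨hG1mono g1 _ (h1 x hxS).1, hG2mono g1 _ (h1 x hxS).2⟩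
  obtain ⟨i, hi⟩ := hall _ hfin
  haveI : IsLocallyNoetherian (((Functor.const Iᵒᵖ).obj c.pt).obj i) := hset'.1
  -- facts for points of the support
  have F1 : ∀ x' : c.pt, α' x' ≠ 0 → MaxFib (c.π.app i) x' := by
    intro x' hx' y hy hyx
    have h1 : x' ⤳ y := (hi x' hx').1 y (by rw [hy])
    exact (hyx.antisymm h1).eq
  have F2 : ∀ x' : c.pt, α' x' ≠ 0 → δ' x' = δ i (c.π.app i x') :=
    fun x' hx' => hshift' i x' (F1 x' hx')
  have F3 : ∀ x' : c.pt, α' x' ≠ 0 →
      Module.length (c.pt.presheaf.stalk x') (c.pt.presheaf.stalk x' ⧸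
        Ideal.map ((c.π.app i).stalkMap x').hom
          (maximalIdeal ((D.obj i).presheaf.stalk (c.π.app i x')))) = 1 := by
    intro x' hx'
    have hle : Ideal.map ((c.π.app i).stalkMap x').hom
        (maximalIdeal ((D.obj i).presheaf.stalk (c.π.app i x'))) ≤
        maximalIdeal (c.pt.presheaf.stalk x') :=
      ((local_hom_TFAE ((c.π.app i).stalkMap x').hom).out 0 2).mp
        (inferInstance : IsLocalHom ((c.π.app i).stalkMap x').hom)
    rw [le_antisymm hle (hi x' hx').2]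
    exact length_quot_max
  have Finj : ∀ x' x'' : c.pt, α' x' ≠ 0 → α' x'' ≠ 0 → c.π.app i x' = c.π.app i x'' →
      x' = x'' := by
    intro x' x'' h1 h2 e
    have a1 : x' ⤳ x'' := (hi x' h1).1 x'' (by rw [e])
    have a2 : x'' ⤳ x' := (hi x'' h2).1 x' (by rw [e])
    exact (a1.antisymm a2).eq
  -- the cycle
  let αfun : D.obj i → ℤ := fun x =>
    if h : ∃ x' : c.pt, α' x' ≠ 0 ∧ c.π.app i x' = x then α' (Classical.choose h) else 0
  have hαfun : ∀ x' : c.pt, α' x' ≠ 0 → αfun (c.π.app i x') = α' x' := by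
    intro x' hx'
    have h : ∃ x'' : c.pt, α' x'' ≠ 0 ∧ c.π.app i x'' = c.π.app i x' := ⟨x', hx', rfl⟩
    show (if h : ∃ x'' : c.pt, α' x'' ≠ 0 ∧ c.π.app i x'' = c.π.app i x' then
      α' (Classical.choose h) else 0) = α' x'
    rw [dif_pos h]
    have := Classical.choose_spec h
    rw [Finj _ _ this.1 hx' this.2]
  have hαne : ∀ x : D.obj i, αfun x ≠ 0 → ∃ x' : c.pt, α' x' ≠ 0 ∧ c.π.app i x' = x := by
    intro x hx
    by_contra hne
    apply hx
    show (if h : ∃ x' : c.pt, α' x' ≠ 0 ∧ c.π.app i x' = x then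
      α' (Classical.choose h) else 0) = 0
    rw [dif_neg hne]
  have hsuppfin : (Function.support αfun).Finite := by
    refine (hfin.image (c.π.app i)).subset ?_
    intro x hx
    obtain ⟨x', h1, h2⟩ := hαne x hx
    exact ⟨x', h1, h2⟩
  let α : AlgebraicCycle (D.obj i) ℤ :=
    { toFun := αfun
      supportWithinDomain' := Set.subset_univ _
      supportLocallyFiniteWithinDomain' := fun z _ =>
        ⟨Set.univ, Filter.univ_mem, by rw [Set.univ_inter]; exact hsuppfin⟩ }
  have hdim := dim_iff (c.π.app i) (δ i) δ' hset'.2.2 0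
    (fun x h => by rw [add_zero]; exact hshift' i x h)
  refine ⟨i, α, ?_, ?_⟩
  · intro x hx
    by_contra hne
    obtain ⟨x', h1, h2⟩ := hαne x hne
    apply hx
    rw [← h2, ← F2 x' h1]
    by_contra hk
    exact h1 (hα' x' hk)
  · funext y'
    show Cyc.pullFun (c.π.app i) δ' (δ i) 0 αfun y' = α' y'
    unfold Cyc.pullFun
    by_cases hy : α' y' ≠ 0
    · rw [if_pos (by rw [add_zero]; exact F2 y' hy), hαfun y' hy]
      have h3 := F3 y' hy
      show α' y' * ((Module.length (c.pt.presheaf.stalk y') (c.pt.presheaf.stalk y' ⧸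
        Ideal.map ((c.π.app i).stalkMap y').hom
          (maximalIdeal ((D.obj i).presheaf.stalk (c.π.app i y'))))).toNat : ℤ) = α' y'
      rw [h3]
      simp
    · rw [not_not] at hy
      rw [hy]
      by_cases hcond : δ' y' = δ i (c.π.app i y') + 0
      · rw [if_pos hcond]
        have hmax : MaxFib (c.π.app i) y' := (hdim y').mp hcond
        have h0 : αfun (c.π.app i y') = 0 := by
          by_contra hne
          obtain ⟨x', h1, h2⟩ := hαne _ hne
          have h3 : x' ⤳ y' := (hi x' h1).1 y' (by rw [h2])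
          have h4 := hmax x' h2 h3
          rw [h4] at h1
          exact h1 hy
        rw [h0, zero_mul]
      · rw [if_neg hcond]

end PRE

/-- Surjectivity of colim Z_k(X_i) → Z_k(X'): every k-cycle α' on the limit X' is g_i^*α for some i and
some k-cycle α on X_i, where g_i : X' → X_i is the projection and g_i^* the shift-0 base-change
pullback on coefficient functions. Setting: a directed inverse system (X_i) of quasi-compact schemes
with affine flat transition morphisms and limit X' (a limit cone), each X_i and X' carrying a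
dimension function with Cyc.IsSetup, and every transition map and every projection X' → X_i shifting
the dimension functions by c = 0 at generic points of fibres, so that the base-change pullbacks g^*
are Cyc.pullFun with shift 0. (The published statement takes X_i and X′ to be the base changes of
one quasi-compact scheme of finite type over a base S along S_i → S and lim S_i → S; this row allows
any such inverse system.) -/
theorem result (I : Type u) [Preorder I] [IsDirected I (fun a b => a ≤ b)] [Nonempty I] (D : Iᵒᵖ ⥤ Scheme.{u}) (c : Limits.Cone D) (hc : Limits.IsLimit c) (haff : ∀ (i j : Iᵒᵖ) (f : i ⟶ j), IsAffineHom (D.map f)) (hflat : ∀ (i j : Iᵒᵖ) (f : i ⟶ j), Flat (D.map f)) (hqc : ∀ i, CompactSpace ↥(D.obj i)) (δ : (i : Iᵒᵖ) → ↥(D.obj i) → ℤ) (δ' : ↥c.pt → ℤ) (hset : ∀ i, Cyc.IsSetup (D.obj i) (δ i)) (hset' : Cyc.IsSetup c.pt δ') (hshift : ∀ (i j : Iᵒᵖ) (f : i ⟶ j) (x : ↥(D.obj i)), (∀ y, D.map f y = D.map f x → y ⤳ x → y = x) → δ i x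 = δ j (D.map f x)) (hflat' : ∀ i, Flat (c.π.app i)) (hshift' : ∀ (i : Iᵒᵖ) (x : ↥c.pt), (∀ y, c.π.app i y = c.π.app i x → y ⤳ x → y = x) → δ' x = δ i (c.π.app i x)) (k : ℤ) (α' : AlgebraicCycle c.pt ℤ) (hα' : α' ∈ Cyc.Zk c.pt δ' k) : ∃ (i : Iᵒᵖ) (α : AlgebraicCycle (D.obj i) ℤ), α ∈ Cyc.Zk (D.obj i) (δ i) k ∧ Cyc.pullFun (c.π.app i) δ' (δ i) 0 ⇑α = ⇑α' := by
  exact main I D c hc haff hqc δ δ' hset' hshift' k α' hα'

end Groth.Agent.S6495
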