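import Groth.Statements.S6496
import Mathlib
import Groth.Agent.S6479
-- import your own Groth.Agent.* helpers here

set_option autoImplicit false
universe u
open CategoryTheory AlgebraicGeometry
open Cyc

namespace Groth.Agent.S6496

section PRE
open IsLocalRing Groth.Agent.S6479

/-- at a fibre-generic point of a morphism from a locally Noetherian scheme the ramification
length is finite and nonzero. -/
lemma lenQ_ne_zero {X' X : Scheme.{u}} [IsLocallyNoetherian X'] (p : X' ⟶ X) (x' : X')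
    (hx' : MaxFib p x') :
    (Module.length (X'.presheaf.stalk x') (X'.presheaf.stalk x' ⧸
      Ideal.map (p.stalkMap x').hom (maximalIdeal (X.presheaf.stalk (p x'))))).toNat ≠ 0 := by
  let A := X'.presheaf.stalk x'
  let J : Ideal A := Ideal.map (p.stalkMap x').hom (maximalIdeal (X.presheaf.stalk (p x')))
  have hJle : J ≤ maximalIdeal A :=
    ((local_hom_TFAE (p.stalkMap x').hom).out 0 2).mp
      (inferInstance : IsLocalHom (p.stalkMap x').hom)
  have hJtop : J ≠ ⊤ := fun h => (maximalIdeal.isMaximal A).ne_top (top_le_iff.mp (h ▸ hJle))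
  -- every prime containing `J` is the maximal ideal
  have hprime : ∀ P : Ideal A, P.IsPrime → J ≤ P → P = maximalIdeal A := by
    intro P hP hJP
    let Z : PrimeSpectrum A := ⟨P, hP⟩
    have h1 : p (X'.fromSpecStalk x' Z) = p x' := (key_fib p x' Z).mp hJP
    have h2 : X'.fromSpecStalk x' Z ⤳ x' := by
      have : X'.fromSpecStalk x' Z ∈ Set.range (X'.fromSpecStalk x') := ⟨Z, rfl⟩
      rw [Scheme.range_fromSpecStalk] at this; exact this
    have h3 := hx' _ h1 h2
    have h4 : Z = closedPoint A :=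
      (X'.fromSpecStalk x').isEmbedding.injective
        (h3.trans (Scheme.fromSpecStalk_closedPoint (x := x')).symm)
    have : Z.asIdeal = (closedPoint A).asIdeal := by rw [h4]
    exact this
  haveI : IsNoetherianRing A := inferInstance
  haveI hkd : Ring.KrullDimLE 0 (A ⧸ J) := by
    rw [Ring.krullDimLE_zero_iff]
    intro Q hQ
    have hP : (Q.comap (Ideal.Quotient.mk J)).IsPrime := Ideal.comap_isPrime _ _
    have hle : J ≤ Q.comap (Ideal.Quotient.mk J) := by
      intro a ha
      rw [Ideal.mem_comap, Ideal.Quotient.eq_zero_iff_mem.mpr ha]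
      exact Q.zero_mem
    have hmax := hprime _ hP hle
    have hQeq : Q = (maximalIdeal A).map (Ideal.Quotient.mk J) := by
      rw [← hmax, Ideal.map_comap_of_surjective _ Ideal.Quotient.mk_surjective]
    rcases Ideal.map_eq_top_or_isMaximal_of_surjective (Ideal.Quotient.mk J)
      Ideal.Quotient.mk_surjective (maximalIdeal.isMaximal A) with h | h
    · exact absurd (hQeq.trans h) hQ.ne_top
    · rw [hQeq]; exact h
  haveI : IsArtinianRing (A ⧸ J) := IsNoetherianRing.isArtinianRing_of_krullDimLE_zero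
  have hlen : Module.length A (A ⧸ J) = Module.length (A ⧸ J) (A ⧸ J) :=
    Module.length_eq_of_surjective (S := A) (R := A ⧸ J) (M := A ⧸ J) Ideal.Quotient.mk_surjective
  have hne_top : Module.length A (A ⧸ J) ≠ ⊤ := by
    rw [hlen, Module.length_ne_top_iff, isFiniteLength_iff_isNoetherian_isArtinian]
    exact ⟨inferInstance, inferInstance⟩
  have hne_zero : Module.length A (A ⧸ J) ≠ 0 := by
    rw [Ne, Module.length_eq_zero_iff, not_subsingleton_iff_nontrivial]
    exact Ideal.Quotient.nontrivial_iff.mpr hJtop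
  intro h
  rcases (ENat.toNat_eq_zero.mp h) with h | h
  · exact hne_zero h
  · exact hne_top h

theorem main (I : Type u) [Preorder I] [IsDirected I (fun a b => a ≤ b)] [Nonempty I] (D : Iᵒᵖ ⥤ Scheme.{u}) (c : Limits.Cone D) (hc : Limits.IsLimit c) (haff : ∀ (i j : Iᵒᵖ) (f : i ⟶ j), IsAffineHom (D.map f)) (hqc : ∀ i, CompactSpace ↥(D.obj i)) (δ : (i : Iᵒᵖ) → ↥(D.obj i) → ℤ) (δ' : ↥c.pt → ℤ) (hset' : Cyc.IsSetup c.pt δ') (hflat' : ∀ i, Flat (c.π.app i)) (hshift' : ∀ (i : Iᵒᵖ) (x : ↥c.pt), (∀ y, c.π.app i y = c.π.app i x → y ⤳ x → y = x) → δ' x = δ i (c.π.app i x)) (i : Iᵒᵖ) (α : AlgebraicCycle (D.obj i) ℤ) (h0 : Cyc.pullFun (c.π.app i) δ' (δ i) 0 ⇑α = 0) : ∃ (j : Iᵒᵖ) (f : j ⟶ i), Cyc.pullFun (D.map f) (δ j) (δ i) 0 ⇑α = 0 := by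
  classical
  haveI : ∀ {i j : Iᵒᵖ} (f : i ⟶ j), IsAffineHom (D.map f) := fun f => haff _ _ f
  haveI : ∀ i, CompactSpace ↥(D.obj i) := hqc
  haveI := hset'.1
  haveI : IsLocallyNoetherian (((Functor.const Iᵒᵖ).obj c.pt).obj i) := hset'.1
  haveI : Flat (c.π.app i) := hflat' i
  have hnot : ∀ x, α x ≠ 0 → x ∉ Set.range (c.π.app i) := by
    rintro x hx ⟨x'', rfl⟩
    obtain ⟨y', hy1, hy2, hy3⟩ := exists_max_gen (c.π.app i) x''
    have hδ := hshift' i y' hy3
    have h1 := congrFun h0 y'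
    unfold Cyc.pullFun at h1
    rw [if_pos (by rw [hδ, add_zero])] at h1
    have hl := lenQ_ne_zero (c.π.app i) y' hy3
    have hx2 : α (c.π.app i y') ≠ 0 := by rw [hy2]; exact hx
    rcases mul_eq_zero.mp h1 with h | h
    · exact hx2 h
    · exact hl (by exact_mod_cast h)
  have hstage : ∀ x, α x ≠ 0 → ∃ (j : Iᵒᵖ) (f : j ⟶ i), x ∉ Set.range (D.map f) := by
    intro x hx
    let U : (D.obj i).Opens := ⟨(closure {x})ᶜ, isClosed_closure.isOpen_compl⟩
    have hU : c.π.app i ⁻¹ᵁ U = ⊤ := by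
      ext y
      constructor
      · intro _; trivial
      · intro _ (hy : c.π.app i y ∈ closure {x})
        have hsp : x ⤳ c.π.app i y := specializes_iff_mem_closure.mpr hy
        obtain ⟨y'', hy''1, hy''2⟩ := (Flat.generalizingMap (c.π.app i)) hsp
        exact hnot x hx ⟨y'', hy''2⟩
    obtain ⟨j, f, hf⟩ := exists_map_eq_top D c hc U hU
    refine ⟨j, f, ?_⟩
    rintro ⟨z, rfl⟩
    have hz : z ∈ D.map f ⁻¹ᵁ U := by rw [hf]; trivial
    exact hz (subset_closure rfl)
  have hfin : (Function.support ⇑α).Finite := by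
    have := α.locallyFiniteSupport.finite_inter_support_of_isCompact isCompact_univ
    rwa [Set.univ_inter] at this
  have hall : ∀ S : Set (D.obj i), S.Finite → (∀ x ∈ S, α x ≠ 0) →
      ∃ (j : Iᵒᵖ) (f : j ⟶ i), ∀ x ∈ S, x ∉ Set.range (D.map f) := by
    intro S hS
    induction S, hS using Set.Finite.induction_on with
    | empty => intro _; exact ⟨i, 𝟙 i, fun x hx => absurd hx (Set.notMem_empty x)⟩
    | @insert a S ha hS ih =>
      intro hne
      obtain ⟨j1, f1, h1⟩ := ih (fun x hx => hne x (Set.mem_insert_of_mem a hx))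
      obtain ⟨j2, f2, h2⟩ := hstage a (hne a (Set.mem_insert a S))
      obtain ⟨m, hm1, hm2⟩ := directed_of (fun a b : I => a ≤ b) j1.unop j2.unop
      let g1 : Opposite.op m ⟶ j1 := (homOfLE hm1).op
      let g2 : Opposite.op m ⟶ j2 := (homOfLE hm2).op
      have hcomm : g1 ≫ f1 = g2 ≫ f2 := Subsingleton.elim _ _
      refine ⟨Opposite.op m, g1 ≫ f1, ?_⟩
      intro x hx
      rcases Set.mem_insert_iff.mp hx with rfl | hxS
      · rintro ⟨z, hz⟩
        rw [hcomm, D.map_comp, Scheme.Hom.comp_apply] at hz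
        exact h2 ⟨_, hz⟩
      · rintro ⟨z, hz⟩
        rw [D.map_comp, Scheme.Hom.comp_apply] at hz
        exact h1 x hxS ⟨_, hz⟩
  obtain ⟨j, f, hjf⟩ := hall (Function.support ⇑α) hfin (fun x hx => hx)
  refine ⟨j, f, ?_⟩
  funext y
  unfold Cyc.pullFun
  have h3 : α (D.map f y) = 0 := by
    by_contra hne
    exact hjf _ hne ⟨y, rfl⟩
  rw [h3]
  simp

end PRE

/-- Injectivity of colim Z_k(X_i) → Z_k(X'): if a k-cycle α on X_i pulls back to the zero cycle on X',
then it pulls back to zero on some stage X_j above X_i. Setting: a directed inverse system (X_i) of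
quasi-compact schemes with affine flat transition morphisms and limit X' (a limit cone), each X_i
and X' carrying a dimension function with Cyc.IsSetup, and every transition map and every projection
X' → X_i shifting the dimension functions by c = 0 at generic points of fibres, so that the
base-change pullbacks g^* are Cyc.pullFun with shift 0. (The published statement takes X_i and X′ to
be the base changes of one quasi-compact scheme of finite type over a base S along S_i → S and lim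
S_i → S; this row allows any such inverse system.) -/
theorem result (I : Type u) [Preorder I] [IsDirected I (fun a b => a ≤ b)] [Nonempty I] (D : Iᵒᵖ ⥤ Scheme.{u}) (c : Limits.Cone D) (hc : Limits.IsLimit c) (haff : ∀ (i j : Iᵒᵖ) (f : i ⟶ j), IsAffineHom (D.map f)) (hflat : ∀ (i j : Iᵒᵖ) (f : i ⟶ j), Flat (D.map f)) (hqc : ∀ i, CompactSpace ↥(D.obj i)) (δ : (i : Iᵒᵖ) → ↥(D.obj i) → ℤ) (δ' : ↥c.pt → ℤ) (hset : ∀ i, Cyc.IsSetup (D.obj i) (δ i)) (hset' : Cyc.IsSetup c.pt δ') (hshift : ∀ (i j : Iᵒᵖ) (f : i ⟶ j) (x : ↥(D.obj i)), (∀ y, D.map f y = D.map f x → y ⤳ x → y = x) → δ i x = δ j (D.map f x)) (hflat' : ∀ i, Flat (c.π.app i)) (hshift' : ∀ (i : Iᵒᵖ) (x : ↥c.pt), (∀ y, c.π.app i y = c.π.app i x → y ⤳ x → y = x) → δ' x = δ i (c.π.app i x)) (k : ℤ) (i : Iᵒᵖ) (α : AlgebraicCycle (D.obj i) ℤ) (hα : α ∈ Cyc.Zk (D.obj i) (δ i) k) (h0 : Cyc.pullFun (c.π.app i) δ' (δ i) 0 ⇑α = 0) : ∃ (j : Iᵒᵖ) (f : j ⟶ i), Cyc.pullFun (D.map f) (δ j) (δ i) 0 ⇑α = 0 := by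
  exact main I D c hc haff hqc δ δ' hset' hflat' hshift' i α h0

end Groth.Agent.S6496
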