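import Groth.Statements.S6497
import Mathlib
import Groth.Agent.S6495
import Groth.Agent.S6496
import Groth.Agent.Lib.Helper22.FlatRat
-- import your own Groth.Agent.* helpers here

set_option autoImplicit false
universe u
open CategoryTheory AlgebraicGeometry
open Cyc

namespace Groth.Agent.S6497

section PRE
open IsLocalRing Groth.Agent.S6479 CategoryTheory.Limits Groth.Agent.Lib.Helper22
open Groth.Agent.S6495 Groth.Agent.S6496
open Groth.Agent.Lib.Helper22.FlatDiv Groth.Agent.Lib.Helper22.FlatRat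
open Groth.Agent.Lib.Helper22.DivLocFin

lemma finite_of_locfin_compact {X : Type*} [TopologicalSpace X] [CompactSpace X] (S : Set X)
    (h : ∀ x : X, ∃ V : Set X, IsOpen V ∧ x ∈ V ∧ {z | z ∈ V ∧ z ∈ S}.Finite) : S.Finite := by
  choose V hVo hxV hVfin using h
  obtain ⟨t, ht⟩ := isCompact_univ.elim_finite_subcover V hVo
    (fun x _ => Set.mem_iUnion.mpr ⟨x, hxV x⟩)
  have hsub : S ⊆ ⋃ x ∈ t, {z | z ∈ V x ∧ z ∈ S} := by
    intro z hz
    obtain ⟨x, hx, hzx⟩ := Set.mem_iUnion₂.mp (ht (Set.mem_univ z))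
    exact Set.mem_iUnion₂.mpr ⟨x, hx, hzx, hz⟩
  exact (Set.Finite.biUnion t.finite_toSet (fun x _ => hVfin x)).subset hsub

lemma maxfib_finite {X' X : Scheme.{u}} [IsLocallyNoetherian X'] [CompactSpace X'] (p : X' ⟶ X)
    (ξ : X) : {x' : X' | MaxFib p x' ∧ p x' = ξ}.Finite := by
  have hT : IsClosed (p ⁻¹' closure ({ξ} : Set X)) := isClosed_closure.preimage p.continuous
  have h1 : {z : X' | z ∈ p ⁻¹' closure ({ξ} : Set X) ∧
      ∀ z' ∈ p ⁻¹' closure ({ξ} : Set X), z' ⤳ z → z' = z}.Finite := by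
    apply finite_of_locfin_compact
    intro x
    obtain ⟨V, hVo, hxV, hfin⟩ := maxpts_locfin scheme_locNoeth _ hT x
    exact ⟨V, hVo, hxV, hfin⟩
  refine h1.subset ?_
  rintro x' ⟨hm, hx⟩
  exact max_in_preimage p ξ x' hm hx

lemma pullFun_support_finite {X' X : Scheme.{u}} [IsLocallyNoetherian X'] [CompactSpace X']
    (p : X' ⟶ X) (δ : X → ℤ) (δ' : X' → ℤ) (c : ℤ)
    (hiff : ∀ x', δ' x' = δ (p x') + c → MaxFib p x') (α : X → ℤ)
    (hα : (Function.support α).Finite) :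
    (Function.support (Cyc.pullFun p δ' δ c α)).Finite := by
  have hsub : Function.support (Cyc.pullFun p δ' δ c α) ⊆
      ⋃ ξ ∈ Function.support α, {x' : X' | MaxFib p x' ∧ p x' = ξ} := by
    intro x' hx'
    have hx'' : Cyc.pullFun p δ' δ c α x' ≠ 0 := hx'
    unfold Cyc.pullFun at hx''
    by_cases h1 : δ' x' = δ (p x') + c
    · rw [if_pos h1] at hx''
      have h2 : α (p x') ≠ 0 := left_ne_zero_of_mul hx''
      exact Set.mem_iUnion₂.mpr ⟨p x', h2, hiff x' h1, rfl⟩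
    · rw [if_neg h1] at hx''
      exact absurd rfl hx''
  exact (Set.Finite.biUnion hα (fun ξ _ => maxfib_finite p ξ)).subset hsub

lemma divFun_support_finite {X : Scheme.{u}} [IsLocallyNoetherian X] [CompactSpace X] (δ : X → ℤ)
    (hδ : Cyc.IsDimFun X δ) (ξ : X) (f : X.residueField ξ) (hf : f ≠ 0) :
    (Function.support (Cyc.divFun δ ξ f)).Finite := by
  apply finite_of_locfin_compact
  intro x
  obtain ⟨V, hVo, hxV, hfin⟩ := divFun_locfin δ hδ ξ f hf x
  exact ⟨V, hVo, hxV, hfin⟩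

lemma pullFun_sub {X' X : Scheme.{u}} (p : X' ⟶ X) (δ : X → ℤ) (δ' : X' → ℤ) (c : ℤ)
    (u v : X → ℤ) (x' : X') :
    Cyc.pullFun p δ' δ c (fun x => u x - v x) x' =
      Cyc.pullFun p δ' δ c u x' - Cyc.pullFun p δ' δ c v x' := by
  unfold Cyc.pullFun
  split_ifs
  · ring
  · ring

lemma pullFun_sum {X' X : Scheme.{u}} (p : X' ⟶ X) (δ : X → ℤ) (δ' : X' → ℤ) (c : ℤ)
    {ι : Type*} [Fintype ι] (u : ι → X → ℤ) (x' : X') :
    Cyc.pullFun p δ' δ c (fun x => ∑ a, u a x) x' = ∑ a, Cyc.pullFun p δ' δ c (u a) x' := by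
  unfold Cyc.pullFun
  split_ifs
  · rw [Finset.sum_mul]
  · simp

lemma pullFun_congr_hom {X' X : Scheme.{u}} (p₁ p₂ : X' ⟶ X) (e : p₁ = p₂) (δ : X → ℤ)
    (δ' : X' → ℤ) (c : ℤ) (α : X → ℤ) :
    Cyc.pullFun p₁ δ' δ c α = Cyc.pullFun p₂ δ' δ c α := by
  subst e; rfl

lemma resRange_congr {U Y : Scheme.{u}} (φ₁ φ₂ : U ⟶ Y) (e : φ₁ = φ₂) (u : U) :
    Set.range (φ₁.residueFieldMap u).hom = Set.range (φ₂.residueFieldMap u).hom := by
  subst e; rfl

lemma resRange_comp {U X Y : Scheme.{u}} (π : U ⟶ X) (f : X ⟶ Y) (u : U) :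
    Set.range ((π ≫ f).residueFieldMap u).hom ⊆ Set.range (π.residueFieldMap u).hom := by
  rw [Scheme.residueFieldMap_comp]
  rintro _ ⟨b, rfl⟩
  exact ⟨(f.residueFieldMap (π u)).hom b, rfl⟩

section lift
variable {I : Type u} [Category.{u} I] (D : I ⥤ Scheme.{u}) (c : Cone D) (hc : IsLimit c)

include hc in
lemma exists_stage_elem [IsCofiltered I] [∀ {i j} (f : i ⟶ j), IsAffineHom (D.map f)]
    (x' : c.pt) (a : c.pt.presheaf.stalk x') :
    ∃ j : I, a ∈ Set.range ((c.π.app j).stalkMap x').hom := by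
  obtain ⟨W, hxW, s0, rfl⟩ := c.pt.presheaf.exists_germ_eq a
  obtain ⟨_, ⟨i, V, hV, rfl⟩, hxV, hVW⟩ :=
    TopologicalSpace.Opens.isBasis_iff_nbhd.mp (isBasis_preimage_isAffineOpen D c hc) hxW
  have hr : c.pt.presheaf.germ (c.π.app i ⁻¹ᵁ V) x' hxV (c.pt.presheaf.map (homOfLE hVW).op s0) =
      c.pt.presheaf.germ W x' hxW s0 := TopCat.Presheaf.germ_res_apply _ _ _ _ _
  obtain ⟨j, s, h, hrs⟩ := exists_section_stage D c hc i V hV (c.pt.presheaf.map (homOfLE hVW).op s0)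
  have hxj : c.π.app j.left x' ∈ D.map j.hom ⁻¹ᵁ V := by
    have : x' ∈ c.π.app j.left ⁻¹ᵁ D.map j.hom ⁻¹ᵁ V := by rw [h]; exact hxV
    exact this
  have hb : ((c.π.app j.left).stalkMap x').hom
      ((D.obj j.left).presheaf.germ _ (c.π.app j.left x') hxj s) =
      c.pt.presheaf.germ W x' hxW s0 := by
    rw [Scheme.Hom.germ_stalkMap_apply, ← hr, hrs]
    unfold Scheme.Hom.appLE
    exact (TopCat.Presheaf.germ_res_apply _ _ _ _ _).symm
  exact ⟨j.left, _, hb⟩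

include hc in
lemma exists_stage_res [IsCofiltered I] [∀ {i j} (f : i ⟶ j), IsAffineHom (D.map f)]
    (x' : c.pt) (g : c.pt.residueField x') :
    ∃ j : I, g ∈ Set.range ((c.π.app j).residueFieldMap x').hom := by
  obtain ⟨a, rfl⟩ : ∃ a, (c.pt.residue x').hom a = g := IsLocalRing.residue_surjective g
  obtain ⟨j, b, hb⟩ := exists_stage_elem D c hc x' a
  refine ⟨j, ((D.obj j).residue (c.π.app j x')).hom b, ?_⟩
  have := congrArg (fun φ => CommRingCat.Hom.hom φ b) (Scheme.residue_residueFieldMap (c.π.app j) x')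
  simp only [CommRingCat.hom_comp, RingHom.comp_apply] at this
  rw [this, hb]
  rfl

end lift

theorem main_fun (I : Type u) [Preorder I] [IsDirected I (fun a b => a ≤ b)] [Nonempty I] (D : Iᵒᵖ ⥤ Scheme.{u}) (c : Limits.Cone D) (hc : Limits.IsLimit c) (haff : ∀ (i j : Iᵒᵖ) (f : i ⟶ j), IsAffineHom (D.map f)) (hqc : ∀ i, CompactSpace ↥(D.obj i)) (δ : (i : Iᵒᵖ) → ↥(D.obj i) → ℤ) (δ' : ↥c.pt → ℤ) (hset' : Cyc.IsSetup c.pt δ') (hflat' : ∀ i, Flat (c.π.app i)) (hshift' : ∀ (i : Iᵒᵖ) (x : ↥c.pt), (∀ y, c.π.app i y = c.π.app i x → y ⤳ x → y = x) → δ' x = δ i (c.π.app i x)) (i : Iᵒᵖ) (α : D.obj i → ℤ) (hfin : (Function.support α).Finite) (h0 : Cyc.pullFun (c.π.app i) δ' (δ i) 0 α = 0) : ∃ (j : Iᵒᵖ) (f : j ⟶ i), Cyc.pullFun (D.map f) (δ j) (δ i) 0 α = 0 := by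
  classical
  haveI : ∀ {i j : Iᵒᵖ} (f : i ⟶ j), IsAffineHom (D.map f) := fun f => haff _ _ f
  haveI : ∀ i, CompactSpace ↥(D.obj i) := hqc
  haveI := hset'.1
  haveI : IsLocallyNoetherian (((Functor.const Iᵒᵖ).obj c.pt).obj i) := hset'.1
  haveI : Flat (c.π.app i) := hflat' i
  have hnot : ∀ x, α x ≠ 0 → x ∉ Set.range (c.π.app i) := by
    rintro x hx ⟨x'', rfl⟩
    obtain ⟨y', hy1, hy2, hy3⟩ := exists_max_gen (c.π.app i) x''
    have hδ := hshift' i y' hy3
    have h1 := congrFun h0 y'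
    unfold Cyc.pullFun at h1
    rw [if_pos (by rw [hδ, add_zero])] at h1
    have hl := lenQ_ne_zero (c.π.app i) y' hy3
    have hx2 : α (c.π.app i y') ≠ 0 := by rw [hy2]; exact hx
    rcases mul_eq_zero.mp h1 with h | h
    · exact hx2 h
    · exact hl (by exact_mod_cast h)
  have hstage : ∀ x, α x ≠ 0 → ∃ (j : Iᵒᵖ) (f : j ⟶ i), x ∉ Set.range (D.map f) := by
    intro x hx
    let U : (D.obj i).Opens := ⟨(closure {x})ᶜ, isClosed_closure.isOpen_compl⟩
    have hU : c.π.app i ⁻¹ᵁ U = ⊤ := by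
      ext y
      constructor
      · intro _; trivial
      · intro _ (hy : c.π.app i y ∈ closure {x})
        have hsp : x ⤳ c.π.app i y := specializes_iff_mem_closure.mpr hy
        obtain ⟨y'', hy''1, hy''2⟩ := (Flat.generalizingMap (c.π.app i)) hsp
        exact hnot x hx ⟨y'', hy''2⟩
    obtain ⟨j, f, hf⟩ := exists_map_eq_top D c hc U hU
    refine ⟨j, f, ?_⟩
    rintro ⟨z, rfl⟩
    have hz : z ∈ D.map f ⁻¹ᵁ U := by rw [hf]; trivial
    exact hz (subset_closure rfl)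
  have hall : ∀ S : Set (D.obj i), S.Finite → (∀ x ∈ S, α x ≠ 0) →
      ∃ (j : Iᵒᵖ) (f : j ⟶ i), ∀ x ∈ S, x ∉ Set.range (D.map f) := by
    intro S hS
    induction S, hS using Set.Finite.induction_on with
    | empty => intro _; exact ⟨i, 𝟙 i, fun x hx => absurd hx (Set.notMem_empty x)⟩
    | @insert a S ha hS ih =>
      intro hne
      obtain ⟨j1, f1, h1⟩ := ih (fun x hx => hne x (Set.mem_insert_of_mem a hx))
      obtain ⟨j2, f2, h2⟩ := hstage a (hne a (Set.mem_insert a S))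
      obtain ⟨m, hm1, hm2⟩ := directed_of (fun a b : I => a ≤ b) j1.unop j2.unop
      let g1 : Opposite.op m ⟶ j1 := (homOfLE hm1).op
      let g2 : Opposite.op m ⟶ j2 := (homOfLE hm2).op
      have hcomm : g1 ≫ f1 = g2 ≫ f2 := Subsingleton.elim _ _
      refine ⟨Opposite.op m, g1 ≫ f1, ?_⟩
      intro x hx
      rcases Set.mem_insert_iff.mp hx with rfl | hxS
      · rintro ⟨z, hz⟩
        rw [hcomm, D.map_comp, Scheme.Hom.comp_apply] at hz
        exact h2 ⟨_, hz⟩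
      · rintro ⟨z, hz⟩
        rw [D.map_comp, Scheme.Hom.comp_apply] at hz
        exact h1 x hxS ⟨_, hz⟩
  obtain ⟨j, f, hjf⟩ := hall (Function.support α) hfin (fun x hx => hx)
  refine ⟨j, f, ?_⟩
  funext y
  unfold Cyc.pullFun
  have h3 : α (D.map f y) = 0 := by
    by_contra hne
    exact hjf _ hne ⟨y, rfl⟩
  rw [h3]
  simp


theorem main (I : Type u) [Preorder I] [IsDirected I (fun a b => a ≤ b)] [Nonempty I] (D : Iᵒᵖ ⥤ Scheme.{u}) (c : Limits.Cone D) (hc : Limits.IsLimit c) (haff : ∀ (i j : Iᵒᵖ) (f : i ⟶ j), IsAffineHom (D.map f)) (hflat : ∀ (i j : Iᵒᵖ) (f : i ⟶ j), Flat (D.map f)) (hqc : ∀ i, CompactSpace ↥(D.obj i)) (δ : (i : Iᵒᵖ) → ↥(D.obj i) → ℤ) (δ' : ↥c.pt → ℤ) (hset : ∀ i, Cyc.IsSetup (D.obj i) (δ i)) (hset' : Cyc.IsSetup c.pt δ') (hshift : ∀ (i j : Iᵒᵖ) (f : i ⟶ j) (x : ↥(D.obj i)), (∀ y, D.map f y = D.map f x → y ⤳ x → y = x) → δ i x = δ j (D.map f x)) (hflat' : ∀ i, Flat (c.π.app i)) (hshift' : ∀ (i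 : Iᵒᵖ) (x : ↥c.pt), (∀ y, c.π.app i y = c.π.app i x → y ⤳ x → y = x) → δ' x = δ i (c.π.app i x)) (k : ℤ) (i : Iᵒᵖ) (α : AlgebraicCycle (D.obj i) ℤ) (hα : α ∈ Cyc.Zk (D.obj i) (δ i) k) (α' : AlgebraicCycle c.pt ℤ) (hα' : ⇑α' = Cyc.pullFun (c.π.app i) δ' (δ i) 0 ⇑α) (h0 : Cyc.RatEquivZero δ' k α') : ∃ (j : Iᵒᵖ) (f : j ⟶ i) (αj : AlgebraicCycle (D.obj j) ℤ), ⇑αj = Cyc.pullFun (D.map f) (δ j) (δ i) 0 ⇑α ∧ Cyc.RatEquivZero (δ j) k αj := by
  classical
  haveI : ∀ {i j : Iᵒᵖ} (f : i ⟶ j), IsAffineHom (D.map f) := fun f => haff _ _ f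
  haveI : ∀ i, CompactSpace ↥(D.obj i) := hqc
  haveI hln : IsLocallyNoetherian c.pt := hset'.1
  haveI hcpt : CompactSpace c.pt := Scheme.compactSpace_of_isLimit D c hc
  haveI : IsNoetherian c.pt := { toIsLocallyNoetherian := hln, toCompactSpace := hcpt }
  haveI : TopologicalSpace.NoetherianSpace c.pt := inferInstance
  haveI : ∀ j, IsLocallyNoetherian (D.obj j) := fun j => (hset j).1
  haveI : ∀ j, Flat (c.π.app j) := hflat'
  haveI : ∀ {i j : Iᵒᵖ} (f : i ⟶ j), Flat (D.map f) := fun f => hflat _ _ f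
  obtain ⟨ι, ξ, f, hdim, hf0, hlf, hsum⟩ := h0
  -- Step A: the index set is finite
  haveI hιfin : Finite ι := by
    choose U hUo hxU hUfin using hlf
    obtain ⟨t, ht⟩ := isCompact_univ.elim_finite_subcover U hUo
      (fun x _ => Set.mem_iUnion.mpr ⟨x, hxU x⟩)
    have hsub : (Set.univ : Set ι) ⊆ ⋃ x ∈ t, {a | (closure {ξ a} ∩ U x).Nonempty} := by
      intro a _
      obtain ⟨x, hx, hax⟩ := Set.mem_iUnion₂.mp (ht (Set.mem_univ (ξ a)))
      exact Set.mem_iUnion₂.mpr ⟨x, hx, ⟨ξ a, subset_closure rfl, hax⟩⟩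
    exact Set.finite_univ_iff.mp
      ((Set.Finite.biUnion t.finite_toSet (fun x _ => hUfin x)).subset hsub)
  haveI : Fintype ι := Fintype.ofFinite ι
  -- the three conditions
  let G1 : Iᵒᵖ → c.pt → Prop := fun j x' => ∀ y' : c.pt, c.π.app j x' ⤳ c.π.app j y' → x' ⤳ y'
  let G2 : Iᵒᵖ → c.pt → Prop := fun j x' => maximalIdeal (c.pt.presheaf.stalk x') ≤
    Ideal.map ((c.π.app j).stalkMap x').hom
      (maximalIdeal ((D.obj j).presheaf.stalk (c.π.app j x')))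
  let G3 : Iᵒᵖ → ι → Prop := fun j a =>
    f a ∈ Set.range ((c.π.app j).residueFieldMap (ξ a)).hom
  have hG1mono : ∀ {i j : Iᵒᵖ} (f : j ⟶ i) (x' : c.pt), G1 i x' → G1 j x' := by
    intro i j f x' h y' hsp
    apply h
    have := hsp.map (D.map f).continuous
    rw [← Scheme.Hom.comp_apply, ← Scheme.Hom.comp_apply, c.w f] at this
    exact this
  have hG2mono : ∀ {i j : Iᵒᵖ} (f : j ⟶ i) (x' : c.pt), G2 i x' → G2 j x' :=
    fun f x' h => h.trans (mono2 D c f x')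
  have hG3mono : ∀ {i j : Iᵒᵖ} (t : j ⟶ i) (a : ι), G3 i a → G3 j a := by
    intro i j t a h
    have h1 := resRange_congr (c.π.app i) (c.π.app j ≫ D.map t) (c.w t).symm (ξ a)
    have h2 := resRange_comp (c.π.app j) (D.map t) (ξ a)
    exact h2 (h1 ▸ h)
  have hdir : ∀ j1 j2 : Iᵒᵖ, ∃ (m : Iᵒᵖ) (_ : m ⟶ j1) (_ : m ⟶ j2), True := by
    intro j1 j2
    obtain ⟨m, hm1, hm2⟩ := directed_of (fun a b : I => a ≤ b) j1.unop j2.unop
    exact ⟨Opposite.op m, (homOfLE hm1).op, (homOfLE hm2).op, trivial⟩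
  have hG2ex : ∀ x' : c.pt, ∃ i, G2 i x' := by
    intro x'
    haveI : IsNoetherianRing (c.pt.presheaf.stalk x') := inferInstance
    obtain ⟨S, hS⟩ := (isNoetherianRing_iff_ideal_fg _).mp ‹_› (maximalIdeal (c.pt.presheaf.stalk x'))
    have hmem : ∀ T : Finset (c.pt.presheaf.stalk x'), (∀ a ∈ T, a ∈ maximalIdeal _) →
        ∃ i : Iᵒᵖ, ∀ a ∈ T, a ∈ Ideal.map ((c.π.app i).stalkMap x').hom
          (maximalIdeal ((D.obj i).presheaf.stalk (c.π.app i x'))) := by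
      intro T
      induction T using Finset.induction_on with
      | empty => intro _; exact ⟨Opposite.op (Classical.arbitrary I), fun a ha => absurd ha (Finset.notMem_empty a)⟩
      | insert a T ha ih =>
        intro hT
        obtain ⟨j1, h1⟩ := ih (fun b hb => hT b (Finset.mem_insert_of_mem hb))
        obtain ⟨j2, h2⟩ := exists_stage_mem D c hc x' a (hT a (Finset.mem_insert_self a T))
        obtain ⟨m, g1, g2, -⟩ := hdir j1 j2
        refine ⟨m, fun b hb => ?_⟩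
        rcases Finset.mem_insert.mp hb with rfl | hbT
        · exact mono2 D c g2 x' h2
        · exact mono2 D c g1 x' (h1 b hbT)
    obtain ⟨i, hi⟩ := hmem S (fun a ha => by rw [← hS]; exact Ideal.subset_span ha)
    refine ⟨i, ?_⟩
    show maximalIdeal _ ≤ _
    rw [← hS, Ideal.span_le]
    exact fun a ha => hi a ha
  have hGex : ∀ a : ι, ∃ j, G1 j (ξ a) ∧ G2 j (ξ a) ∧ G3 j a := by
    intro a
    obtain ⟨j1, h1⟩ := exists_stage_closure D c hc (ξ a)
    obtain ⟨j2, h2⟩ := hG2ex (ξ a)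
    obtain ⟨j3, h3⟩ := exists_stage_res D c hc (ξ a) (f a)
    obtain ⟨m, g1, g2, -⟩ := hdir j1 j2
    obtain ⟨m', g3, g4, -⟩ := hdir m j3
    exact ⟨m', hG1mono (g3 ≫ g1) _ h1, hG2mono (g3 ≫ g2) _ h2, hG3mono g4 a h3⟩
  have hall : ∀ S : Finset ι, ∃ (j : Iᵒᵖ) (_ : j ⟶ i),
      ∀ a ∈ S, G1 j (ξ a) ∧ G2 j (ξ a) ∧ G3 j a := by
    intro S
    induction S using Finset.induction_on with
    | empty => exact ⟨i, 𝟙 i, fun a ha => absurd ha (Finset.notMem_empty a)⟩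
    | insert a S ha ih =>
      obtain ⟨j1, t1, h1⟩ := ih
      obtain ⟨j2, h2⟩ := hGex a
      obtain ⟨m, g1, g2, -⟩ := hdir j1 j2
      refine ⟨m, g1 ≫ t1, fun b hb => ?_⟩
      rcases Finset.mem_insert.mp hb with rfl | hbS
      · exact ⟨hG1mono g2 _ h2.1, hG2mono g2 _ h2.2.1, hG3mono g2 _ h2.2.2⟩
      · exact ⟨hG1mono g1 _ (h1 b hbS).1, hG2mono g1 _ (h1 b hbS).2.1, hG3mono g1 _ (h1 b hbS).2.2⟩
  obtain ⟨j, t, hj'⟩ := hall Finset.univ
  have hj : ∀ a, G1 j (ξ a) ∧ G2 j (ξ a) ∧ G3 j a := fun a => hj' a (Finset.mem_univ a)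
  haveI : IsLocallyNoetherian (((Functor.const Iᵒᵖ).obj c.pt).obj j) := hset'.1
  haveI : IsLocallyNoetherian (((Functor.const Iᵒᵖ).obj c.pt).obj i) := hset'.1
  choose gj hgj using fun a => (hj a).2.2
  let ξj : ι → D.obj j := fun a => c.π.app j (ξ a)
  have hM : ∀ a, MaxFib (c.π.app j) (ξ a) := by
    intro a y hy hyx
    have h1 : ξ a ⤳ y := (hj a).1 y (by rw [hy])
    exact (hyx.antisymm h1).eq
  have hU : ∀ a (ξ' : c.pt), MaxFib (c.π.app j) ξ' → c.π.app j ξ' = ξj a → ξ' = ξ a := by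
    intro a ξ' hm he
    have h1 : ξ a ⤳ ξ' := (hj a).1 ξ' (by rw [he])
    exact (hm (ξ a) he.symm h1).symm
  have hL : ∀ a, fibLen (c.π.app j) (ξ a) = 1 := by
    intro a
    have hle : Ideal.map ((c.π.app j).stalkMap (ξ a)).hom
        (maximalIdeal ((D.obj j).presheaf.stalk (c.π.app j (ξ a)))) ≤
        maximalIdeal (c.pt.presheaf.stalk (ξ a)) :=
      ((local_hom_TFAE ((c.π.app j).stalkMap (ξ a)).hom).out 0 2).mp
        (inferInstance : IsLocalHom ((c.π.app j).stalkMap (ξ a)).hom)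
    show Module.length (c.pt.presheaf.stalk (ξ a)) (c.pt.presheaf.stalk (ξ a) ⧸
        Ideal.map ((c.π.app j).stalkMap (ξ a)).hom
          (maximalIdeal ((D.obj j).presheaf.stalk (c.π.app j (ξ a))))) = 1
    rw [le_antisymm hle (hj a).2.1]
    exact length_quot_max
  have hδj : ∀ a, δ j (ξj a) = k + 1 := fun a => by
    rw [← hshift' j (ξ a) (hM a)]; exact hdim a
  have hgj0 : ∀ a, gj a ≠ 0 := by
    intro a h
    apply hf0 a
    rw [← hgj a, h, map_zero]
  have hP : ∀ a (x' : c.pt), Cyc.pullFun (c.π.app j) δ' (δ j) 0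
      (Cyc.divFun (δ j) (ξj a) (gj a)) x' = Cyc.divFun δ' (ξ a) (f a) x' := by
    intro a x'
    rw [pull_div_point (c.π.app j) (δ j) δ' (hset j).2.2 hset'.2.2 0
      (fun x' h => by rw [add_zero]; exact hshift' j x' h) (ξj a) (gj a) x']
    refine (finsum_eq_single _ ⟨ξ a, hM a, rfl⟩
      (fun z hz => absurd (Subtype.ext (hU a z.1 z.2.1 z.2.2)) hz)).trans ?_
    show ((fibLen (c.π.app j) (ξ a)).toNat : ℤ) *
      Cyc.divFun δ' (ξ a) (gUp (c.π.app j) (ξj a) (ξ a) rfl (gj a)) x' = _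
    rw [hL a]
    have hg : gUp (c.π.app j) (ξj a) (ξ a) rfl (gj a) = f a := by
      show ((c.π.app j).residueFieldMap (ξ a)).hom
        (((D.obj j).residueFieldCongr (rfl : ξj a = ξj a)).hom (gj a)) = f a
      rw [Scheme.residueFieldCongr_refl]
      exact hgj a
    rw [hg]
    simp
  let βfun : D.obj j → ℤ := Cyc.pullFun (D.map t) (δ j) (δ i) 0 ⇑α
  let dj : ι → D.obj j → ℤ := fun a => Cyc.divFun (δ j) (ξj a) (gj a)
  let γfun : D.obj j → ℤ := fun y => βfun y - ∑ a, dj a y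
  have hβ' : Cyc.pullFun (c.π.app j) δ' (δ j) 0 βfun =
      Cyc.pullFun (c.π.app i) δ' (δ i) 0 ⇑α := by
    have h1 := (Groth.Agent.S6479.main _ _ _ (D.map t) (c.π.app j) (δ i) (δ j) δ' (hset i) (hset j)
      hset' 0 0 (fun x h => by rw [add_zero]; exact hshift j i t x h)
      (fun x h => by rw [add_zero]; exact hshift' j x h) k α hα).2
    rw [← h1, add_zero]
    exact pullFun_congr_hom _ _ (c.w t) _ _ _ _
  have hγ0 : Cyc.pullFun (c.π.app j) δ' (δ j) 0 γfun = 0 := by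
    funext x'
    show Cyc.pullFun (c.π.app j) δ' (δ j) 0 (fun y => βfun y - ∑ a, dj a y) x' = 0
    rw [pullFun_sub, pullFun_sum, congrFun hβ' x', ← hα', hsum x', finsum_eq_sum_of_fintype]
    rw [Finset.sum_congr rfl (fun a _ => hP a x')]
    exact sub_self _
  have hαfin : (Function.support ⇑α).Finite := by
    have := α.locallyFiniteSupport.finite_inter_support_of_isCompact isCompact_univ
    rwa [Set.univ_inter] at this
  have hβfin : (Function.support βfun).Finite :=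
    pullFun_support_finite (D.map t) (δ i) (δ j) 0
      (fun y h => (dim_iff (D.map t) (δ i) (δ j) (hset j).2.2 0
        (fun x h => by rw [add_zero]; exact hshift j i t x h) y).mp h) ⇑α hαfin
  have hdfin : ∀ a, (Function.support (dj a)).Finite := fun a =>
    divFun_support_finite (δ j) (hset j).2.2 (ξj a) (gj a) (hgj0 a)
  have hγfin : (Function.support γfun).Finite := by
    refine (hβfin.union (Set.finite_iUnion (fun a => hdfin a))).subset ?_
    intro y hy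
    by_contra hne
    rw [Set.mem_union, not_or, Set.mem_iUnion, not_exists] at hne
    apply hy
    show βfun y - ∑ a, dj a y = 0
    have h1 : βfun y = 0 := Function.notMem_support.mp hne.1
    have h2 : ∀ a, dj a y = 0 := fun a => Function.notMem_support.mp (hne.2 a)
    rw [h1, Finset.sum_eq_zero (fun a _ => h2 a), sub_zero]
  obtain ⟨m, s, hms⟩ := main_fun I D c hc haff hqc δ δ' hset' hflat' hshift' j γfun hγfin hγ0
  refine ⟨m, s ≫ t, ?_⟩
  have hcomp : Cyc.pullFun (D.map (s ≫ t)) (δ m) (δ i) 0 ⇑α =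
      Cyc.pullFun (D.map s) (δ m) (δ j) 0 βfun := by
    have h1 := (Groth.Agent.S6479.main _ _ _ (D.map t) (D.map s) (δ i) (δ j) (δ m) (hset i) (hset j)
      (hset m) 0 0 (fun x h => by rw [add_zero]; exact hshift j i t x h)
      (fun x h => by rw [add_zero]; exact hshift m j s x h) k α hα).2
    rw [← h1, add_zero]
    exact pullFun_congr_hom _ _ (D.map_comp s t) _ _ _ _
  have hsuppfin : (Function.support
      (Cyc.pullFun (D.map (s ≫ t)) (δ m) (δ i) 0 ⇑α)).Finite :=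
    pullFun_support_finite (D.map (s ≫ t)) (δ i) (δ m) 0
      (fun y h => (dim_iff (D.map (s ≫ t)) (δ i) (δ m) (hset m).2.2 0
        (fun x h => by rw [add_zero]; exact hshift m i (s ≫ t) x h) y).mp h) ⇑α hαfin
  let αm : AlgebraicCycle (D.obj m) ℤ :=
    { toFun := Cyc.pullFun (D.map (s ≫ t)) (δ m) (δ i) 0 ⇑α
      supportWithinDomain' := Set.subset_univ _
      supportLocallyFiniteWithinDomain' := fun z _ =>
        ⟨Set.univ, Filter.univ_mem, by rw [Set.univ_inter]; exact hsuppfin⟩ }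
  refine ⟨αm, rfl, ?_⟩
  have hsum0 : ∀ y, Cyc.pullFun (D.map s) (δ m) (δ j) 0 βfun y =
      Cyc.pullFun (D.map s) (δ m) (δ j) 0 (fun z => ∑ᶠ a, dj a z) y := by
    intro y
    have h1 := congrFun hms y
    change Cyc.pullFun (D.map s) (δ m) (δ j) 0 (fun y => βfun y - ∑ a, dj a y) y = 0 at h1
    rw [pullFun_sub] at h1
    have h2 : (fun z => ∑ᶠ a, dj a z) = (fun z => ∑ a, dj a z) :=
      funext (fun z => finsum_eq_sum_of_fintype _)
    rw [h2]
    exact sub_eq_zero.mp h1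
  obtain ⟨ι', ξ', f', h1', h2', h3', h4'⟩ := pull_ratEquivZero (D.map s) (δ j) (δ m)
    (hset j).2.2 (hset m).2.2 0 (fun x h => by rw [add_zero]; exact hshift m j s x h) k
    (fun z => ∑ᶠ a, dj a z)
    ⟨ι, ξj, gj, hδj, hgj0, fun x => ⟨Set.univ, isOpen_univ, trivial, Set.toFinite _⟩,
      fun x => rfl⟩
  refine ⟨ι', ξ', f', fun a => by rw [h1' a]; ring, h2', h3', fun y => ?_⟩
  show Cyc.pullFun (D.map (s ≫ t)) (δ m) (δ i) 0 ⇑α y = _
  rw [congrFun hcomp y, hsum0 y, h4' y]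

end PRE

/-- Injectivity of colim CH_k(X_i) → CH_k(X'): if α ∈ Z_k(X_i) and g_i^*α ∼_rat 0 on X' (for a cycle
with the pulled-back coefficients), then for some stage X_j above X_i the pullback of α to X_j is
∼_rat 0. Setting: a directed inverse system (X_i) of quasi-compact schemes with affine flat
transition morphisms and limit X' (a limit cone), each X_i and X' carrying a dimension function with
Cyc.IsSetup, and every transition map and every projection X' → X_i shifting the dimension functions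
by c = 0 at generic points of fibres, so that the base-change pullbacks g^* are Cyc.pullFun with
shift 0. (The published statement takes X_i and X′ to be the base changes of one quasi-compact
scheme of finite type over a base S along S_i → S and lim S_i → S; this row allows any such inverse
system.) -/
theorem result (I : Type u) [Preorder I] [IsDirected I (fun a b => a ≤ b)] [Nonempty I] (D : Iᵒᵖ ⥤ Scheme.{u}) (c : Limits.Cone D) (hc : Limits.IsLimit c) (haff : ∀ (i j : Iᵒᵖ) (f : i ⟶ j), IsAffineHom (D.map f)) (hflat : ∀ (i j : Iᵒᵖ) (f : i ⟶ j), Flat (D.map f)) (hqc : ∀ i, CompactSpace ↥(D.obj i)) (δ : (i : Iᵒᵖ) → ↥(D.obj i) → ℤ) (δ' : ↥c.pt → ℤ) (hset : ∀ i, Cyc.IsSetup (D.obj i) (δ i)) (hset' : Cyc.IsSetup c.pt δ') (hshift : ∀ (i j : Iᵒᵖ) (f : i ⟶ j) (x : ↥(D.obj i)), (∀ y, D.map f y = D.map f x → y ⤳ x → y = x) → δ i x = δ j (D.map f x)) (hflat' : ∀ i, Flat (c.π.app i)) (hshift' : ∀ (i : Iᵒᵖ) (x : ↥c.pt), (∀ y,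 c.π.app i y = c.π.app i x → y ⤳ x → y = x) → δ' x = δ i (c.π.app i x)) (k : ℤ) (i : Iᵒᵖ) (α : AlgebraicCycle (D.obj i) ℤ) (hα : α ∈ Cyc.Zk (D.obj i) (δ i) k) (α' : AlgebraicCycle c.pt ℤ) (hα' : ⇑α' = Cyc.pullFun (c.π.app i) δ' (δ i) 0 ⇑α) (h0 : Cyc.RatEquivZero δ' k α') : ∃ (j : Iᵒᵖ) (f : j ⟶ i) (αj : AlgebraicCycle (D.obj j) ℤ), ⇑αj = Cyc.pullFun (D.map f) (δ j) (δ i) 0 ⇑α ∧ Cyc.RatEquivZero (δ j) k αj := by
  exact main I D c hc haff hflat hqc δ δ' hset hset' hshift hflat' hshift' k i α hα α' hα' h0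

end Groth.Agent.S6497
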