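import Groth.Statements.S15556
import Mathlib
import Groth.Agent.S1919
import Groth.Agent.S6497
import Groth.Prelude.Def_ChowOps
-- import your own Groth.Agent.* helpers here

set_option autoImplicit false
universe u
open CategoryTheory AlgebraicGeometry
open CategoryTheory.Limits
open Cyc

namespace Groth.Agent.S15556

section PRE
open IsLocalRing Groth.Agent.S1857 Groth.Agent.S1858 Groth.Agent.S1941 TensorProduct
open Groth.Agent.Lib.Helper63.TensorLen Groth.Agent.S1919 Groth.Agent.S6479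
open Groth.Agent.Lib.Helper22.FlatDiv Groth.Agent.Lib.Helper22.FlatRat

lemma good_tensor' (k : Type u) [Field k] (p : ℕ) [Fact p.Prime] [CharP k p] (E : Type u) [Field E]
    [Algebra k E] [Algebra.IsIntegral k E] (L : Type u) [Field L]
    [Algebra k L] [Algebra.EssFiniteType k L] (q : Ideal (L ⊗[k] E)) [q.IsPrime] :
    ∃ n : ℕ, Module.length (Localization.AtPrime q) (Localization.AtPrime q) = (p ^ n : ℕ) := by
  haveI : ExpChar k p := ExpChar.prime (Fact.out)
  have hFG : (⊤ : IntermediateField k L).FG := IntermediateField.fg_top_iff.2 inferInstance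
  have h1 : Good p (E ⊗[k] L) := main k E L hFG p
  have h2 : Good p (L ⊗[k] E) :=
    h1.of_ringEquiv (Algebra.TensorProduct.comm k E L).toRingEquiv
  haveI : Algebra.IsIntegral L (L ⊗[k] E) := inferInstance
  haveI : Ring.KrullDimLE 0 (L ⊗[k] E) := by
    refine Ring.KrullDimLE.mk₀ (fun I hI => ?_)
    refine Ideal.isMaximal_of_isIntegral_of_isMaximal_comap (R := L) I ?_
    haveI : (Ideal.comap (algebraMap L (L ⊗[k] E)) I).IsPrime := inferInstance
    rw [Ideal.eq_bot_of_prime (Ideal.comap (algebraMap L (L ⊗[k] E)) I)]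
    exact Ideal.bot_isMaximal
  exact h2 q (Ideal.mem_minimalPrimes_of_krullDimLE_zero q)

lemma lenQ_pow' (k : Type u) [Field k] (p : ℕ) [Fact p.Prime] [CharP k p] (E : Type u) [Field E]
    [Algebra k E] [Algebra.IsIntegral k E] {X X' : Scheme.{u}}
    (g : X ⟶ Spec (CommRingCat.of k)) [LocallyOfFiniteType g] (f : X' ⟶ X)
    (g' : X' ⟶ Spec (CommRingCat.of E))
    (hsq : IsPullback f g' g (Spec.map (CommRingCat.ofHom (algebraMap k E)))) (x' : X') :
    ∃ e : ℕ, lenQ f x' = p ^ e := by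
  obtain ⟨t, ht⟩ : ∃ t : f.fiber (f x'), f.fiberι (f x') t = x' :=
    ⟨(f.fiberHomeo (f x')).symm ⟨x', rfl⟩, Scheme.Hom.fiberι_fiberHomeo_symm f (f x') ⟨x', rfl⟩⟩
  rw [← ht, ← length_stalk_fiber f (f x') t]
  generalize f x' = x at t
  let a : CommRingCat.of k ⟶ X.residueField x := Spec.preimage (X.fromSpecResidueField x ≫ g)
  have ha : Spec.map a = X.fromSpecResidueField x ≫ g := Spec.map_preimage _
  letI alg : Algebra k (X.residueField x) := a.hom.toAlgebra
  haveI : Algebra.EssFiniteType k (X.residueField x) := by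
    rw [← RingHom.essFiniteType_algebraMap, RingHom.algebraMap_toAlgebra]
    exact ess_resField k X g x
  have hfib : IsPullback (pullback.fst f (X.fromSpecResidueField x))
      (pullback.snd f (X.fromSpecResidueField x)) f (X.fromSpecResidueField x) :=
    IsPullback.of_hasPullback f (X.fromSpecResidueField x)
  have hbig := (hfib.paste_horiz hsq.flip).flip
  let e1 : f.fiber x ≅ pullback (X.fromSpecResidueField x ≫ g)
      (Spec.map (CommRingCat.ofHom (algebraMap k E))) := hbig.isoPullback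
  let e3 : pullback (X.fromSpecResidueField x ≫ g)
      (Spec.map (CommRingCat.ofHom (algebraMap k E))) ≅ pullback (Spec.map a)
      (Spec.map (CommRingCat.ofHom (algebraMap k E))) :=
    pullback.congrHom ha.symm rfl
  let e4 : pullback (Spec.map a) (Spec.map (CommRingCat.ofHom (algebraMap k E))) ≅
      Spec (CommRingCat.of (X.residueField x ⊗[k] E)) :=
    pullbackSpecIso k (X.residueField x) E
  let e := e1 ≪≫ e3 ≪≫ e4
  rw [length_stalk_iso _ e t]
  obtain ⟨n, hn⟩ := good_tensor' k p E (X.residueField x) (e.hom t).asIdeal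
  exact ⟨n, by rw [hn]; simp⟩

lemma univInj_pi (k E : Type u) [Field k] [Field E] [Algebra k E] [IsPurelyInseparable k E] :
    UniversallyInjective (Spec.map (CommRingCat.ofHom (algebraMap k E))) := by
  have h := (tfae_universallyInjective (Spec.map (CommRingCat.ofHom (algebraMap k E)))).out 0 1
  rw [h]
  intro K _ g₁ g₂ hg
  dsimp only at hg
  obtain ⟨a₁, rfl⟩ := Spec.map_surjective g₁
  obtain ⟨a₂, rfl⟩ := Spec.map_surjective g₂
  rw [← Spec.map_comp, ← Spec.map_comp] at hg
  have hg' := Spec.map_injective hg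
  congr 1
  ext z
  have h2 : a₁.hom.comp (algebraMap k E) = a₂.hom.comp (algebraMap k E) := by
    ext y
    have := congrArg (fun t => CommRingCat.Hom.hom t y) hg'
    simpa using this
  have := IsPurelyInseparable.injective_comp_algebraMap k E K h2
  exact congrArg (fun φ => φ z) this

lemma ordFrac_inv {A : Type u} [CommRing A] {K : Type u} [Field K] [Algebra A K] (g : K) :
    CycAlg.ordFrac A K g⁻¹ = - CycAlg.ordFrac A K g := by
  by_cases hA : IsNoetherianRing A ∧ Ring.KrullDimLE 1 A ∧ Nontrivial A ∧ IsFractionRing A K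
  · rw [Groth.Agent.Lib.Helper22.OrdFlat.ordFrac_eq_log hA,
      Groth.Agent.Lib.Helper22.OrdFlat.ordFrac_eq_log hA]
    haveI := hA.1; haveI := hA.2.1; haveI := hA.2.2.1; haveI := hA.2.2.2
    show WithZero.log (Ring.ordFrac A g⁻¹) = - WithZero.log (Ring.ordFrac A g)
    rw [map_inv₀, WithZero.log_inv]
  · unfold CycAlg.ordFrac
    rw [dif_neg hA, dif_neg hA, neg_zero]

lemma divFun_inv {X : Scheme.{u}} (δ : X → ℤ) (ξ : X) (g : X.residueField ξ) (x : X) :
    divFun δ ξ g⁻¹ x = - divFun δ ξ g x := by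
  unfold divFun
  split_ifs with h
  · unfold ordAt
    exact ordFrac_inv g
  · rw [neg_zero]

lemma ratEquivZero_zero {X : Scheme.{u}} (δ : X → ℤ) (k : ℤ) :
    Cyc.RatEquivZero δ k (0 : AlgebraicCycle X ℤ) := by
  refine ⟨PEmpty, fun e => e.elim, fun e => e.elim, fun e => e.elim, fun e => e.elim,
    fun x => ⟨Set.univ, isOpen_univ, trivial, Set.toFinite _⟩, fun x => ?_⟩
  rw [finsum_of_isEmpty]
  rfl

lemma ratEquivZero_neg {X : Scheme.{u}} (δ : X → ℤ) (k : ℤ) (α : AlgebraicCycle X ℤ)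
    (h : Cyc.RatEquivZero δ k α) : Cyc.RatEquivZero δ k (-α) := by
  obtain ⟨ι, ξ, f, h1, h2, h3, h4⟩ := h
  refine ⟨ι, ξ, fun i => (f i)⁻¹, h1, fun i => inv_ne_zero (h2 i), h3, fun x => ?_⟩
  show -(α x) = _
  rw [h4 x, ← finsum_neg_distrib]
  exact finsum_congr (fun i => (divFun_inv δ (ξ i) (f i) x).symm)

lemma support_finite_of_locfin {X : Scheme.{u}} (δ : X → ℤ) {ι : Type*} (ξ : ι → X)
    (f : (i : ι) → X.residueField (ξ i))
    (hlf : ∀ x : X, ∃ U : Set X, IsOpen U ∧ x ∈ U ∧ {i | (closure {ξ i} ∩ U).Nonempty}.Finite)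
    (x : X) : (Function.support (fun i => divFun δ (ξ i) (f i) x)).Finite := by
  obtain ⟨U, hUo, hxU, hfin⟩ := hlf x
  refine hfin.subset ?_
  intro i hi
  have hne : divFun δ (ξ i) (f i) x ≠ 0 := hi
  obtain ⟨hs, -, -⟩ := Groth.Agent.Lib.Helper22.DivLocFin.divFun_ne_zero δ (ξ i) (f i) x hne
  exact ⟨x, specializes_iff_mem_closure.mp hs, hxU⟩

lemma ratEquivZero_add {X : Scheme.{u}} (δ : X → ℤ) (k : ℤ) (α β : AlgebraicCycle X ℤ)
    (ha : Cyc.RatEquivZero δ k α) (hb : Cyc.RatEquivZero δ k β) :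
    Cyc.RatEquivZero δ k (α + β) := by
  obtain ⟨ι₁, ξ₁, f₁, a1, a2, a3, a4⟩ := ha
  obtain ⟨ι₂, ξ₂, f₂, b1, b2, b3, b4⟩ := hb
  refine ⟨ι₁ ⊕ ι₂, Sum.elim ξ₁ ξ₂, fun s => match s with | Sum.inl i => f₁ i | Sum.inr j => f₂ j,
    ?_, ?_, ?_, ?_⟩
  · rintro (i | j)
    · exact a1 i
    · exact b1 j
  · rintro (i | j)
    · exact a2 i
    · exact b2 j
  · intro x
    obtain ⟨U₁, hU₁, hx₁, hf₁⟩ := a3 x
    obtain ⟨U₂, hU₂, hx₂, hf₂⟩ := b3 x
    refine ⟨U₁ ∩ U₂, hU₁.inter hU₂, ⟨hx₁, hx₂⟩, ?_⟩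
    refine ((hf₁.image Sum.inl).union (hf₂.image Sum.inr)).subset ?_
    rintro (i | j) ⟨z, hz1, hz2⟩
    · exact Or.inl ⟨i, ⟨z, hz1, hz2.1⟩, rfl⟩
    · exact Or.inr ⟨j, ⟨z, hz1, hz2.2⟩, rfl⟩
  · intro x
    show α x + β x = _
    rw [a4 x, b4 x]
    set F : ι₁ ⊕ ι₂ → ℤ := fun s => divFun δ (Sum.elim ξ₁ ξ₂ s)
      (match s with | Sum.inl i => f₁ i | Sum.inr j => f₂ j) x with hF
    have hs1 := support_finite_of_locfin δ ξ₁ f₁ a3 x
    have hs2 := support_finite_of_locfin δ ξ₂ f₂ b3 x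
    have hF1 : (fun i => divFun δ (ξ₁ i) (f₁ i) x) = F ∘ Sum.inl := rfl
    have hF2 : (fun j => divFun δ (ξ₂ j) (f₂ j) x) = F ∘ Sum.inr := rfl
    have hsupp : (Function.support F).Finite := by
      refine ((hs1.image Sum.inl).union (hs2.image Sum.inr)).subset ?_
      rintro (i | j) hs
      · exact Or.inl ⟨i, hs, rfl⟩
      · exact Or.inr ⟨j, hs, rfl⟩
    rw [← finsum_mem_univ F, ← Set.range_inl_union_range_inr,
      finsum_mem_union' (Set.isCompl_range_inl_range_inr.disjoint) (hsupp.subset Set.inter_subset_right)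
        (hsupp.subset Set.inter_subset_right),
      finsum_mem_range Sum.inl_injective, finsum_mem_range Sum.inr_injective]
    rfl

lemma ratEquivZero_of_cl_eq_zero {X : Scheme.{u}} (δ : X → ℤ) (k : ℤ) (α : AlgebraicCycle X ℤ)
    (hα : α ∈ Cyc.Zk X δ k) (h : ChowOps.cl α hα = 0) : Cyc.RatEquivZero δ k α := by
  have hmem : (⟨α, hα⟩ : ↥(ChowOps.zk X δ k)) ∈ ChowOps.ratTriv X δ k :=
    (QuotientAddGroup.eq_zero_iff _).mp h
  unfold ChowOps.ratTriv at hmem
  have key : ∀ a : ↥(ChowOps.zk X δ k), a ∈ AddSubgroup.closure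
      {a : ↥(ChowOps.zk X δ k) | Cyc.RatEquivZero δ k (a : AlgebraicCycle X ℤ)} →
      Cyc.RatEquivZero δ k (a : AlgebraicCycle X ℤ) := by
    intro a ha
    induction ha using AddSubgroup.closure_induction with
    | mem a ha => exact ha
    | zero => exact ratEquivZero_zero δ k
    | add a b _ _ ha hb => exact ratEquivZero_add δ k _ _ ha hb
    | neg a _ ha => exact ratEquivZero_neg δ k _ ha
  exact key _ hmem

lemma cl_eq_zero_of_ratEquivZero {X : Scheme.{u}} (δ : X → ℤ) (k : ℤ) (α : AlgebraicCycle X ℤ)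
    (hα : α ∈ Cyc.Zk X δ k) (h : Cyc.RatEquivZero δ k α) : ChowOps.cl α hα = 0 :=
  (QuotientAddGroup.eq_zero_iff _).mpr (AddSubgroup.subset_closure h)


lemma pullFun_smul {X' X : Scheme.{u}} (p : X' ⟶ X) (δ : X → ℤ) (δ' : X' → ℤ) (c : ℤ) (n : ℤ)
    (u : X → ℤ) (x' : X') :
    Cyc.pullFun p δ' δ c (fun x => n * u x) x' = n * Cyc.pullFun p δ' δ c u x' := by
  unfold Cyc.pullFun
  split_ifs
  · ring
  · ring

lemma cl_nsmul {X : Scheme.{u}} {δ : X → ℤ} {k : ℤ} (β : AlgebraicCycle X ℤ)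
    (hβ : β ∈ Cyc.Zk X δ k) (n : ℕ) :
    ChowOps.cl (n • β) ((ChowOps.zk X δ k).nsmul_mem hβ n) = n • ChowOps.cl β hβ := by
  unfold ChowOps.cl
  rw [← map_nsmul]
  rfl

theorem main (k E : Type u) [Field k] [Field E] [Algebra k E] (p : ℕ) [Fact p.Prime] [CharP k p] [Module.Finite k E] [IsPurelyInseparable k E] (X X' : Scheme.{u}) (g : X ⟶ Spec (CommRingCat.of k)) [IsSeparated g] [LocallyOfFiniteType g] [QuasiCompact g] (f : X' ⟶ X) (g' : X' ⟶ Spec (CommRingCat.of E)) (hsq : IsPullback f g' g (Spec.map (CommRingCat.ofHom (algebraMap k E)))) (δ : X → ℤ) (δ' : X' → ℤ) (hX : Cyc.IsSetup X δ) (hX' : Cyc.IsSetup X' δ') (hδ : Cyc.DeltaCompat f δ' δ) (i : ℤ) : (∀ (β : AlgebraicCycle X' ℤ) (hβ : β ∈ Cyc.Zk X' δ' i), ∃ (α : AlgebraicCycle X ℤ) (hα : α ∈ Cyc.Zk X δ i) (α' : AlgebraicCycle X' ℤ) (hα' : α' ∈ Cyc.Zk X' δ' i) (s : ℕ), ⇑α' = Cyc.pullFun f δ' δ 0 ⇑α ∧ ChowOps.cl α' hα' = p ^ s • ChowOps.cl β hβ) ∧ (∀ (α : AlgebraicCycle X ℤ) (hα : α ∈ Cyc.Zk X δ i) (α' : AlgebraicCycle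 X' ℤ) (hα' : α' ∈ Cyc.Zk X' δ' i), ⇑α' = Cyc.pullFun f δ' δ 0 ⇑α → ChowOps.cl α' hα' = 0 → ∃ s : ℕ, p ^ s • ChowOps.cl α hα = 0) := by
  classical
  haveI : Algebra.IsIntegral k E := inferInstance
  haveI hUI : UniversallyInjective (Spec.map (CommRingCat.ofHom (algebraMap k E))) :=
    univInj_pi k E
  haveI : UniversallyInjective f :=
    MorphismProperty.of_isPullback (P := @UniversallyInjective) hsq.flip hUI
  have hinj := f.injective
  haveI := hX.1
  haveI := hX'.1
  haveI hFl : Flat (Spec.map (CommRingCat.ofHom (algebraMap k E))) := by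
    rw [Flat.SpecMap_iff]
    show (algebraMap k E).Flat
    rw [RingHom.flat_algebraMap_iff]
    infer_instance
  haveI : Flat f := MorphismProperty.of_isPullback (P := @Flat) hsq.flip hFl
  haveI hSurj : Surjective (Spec.map (CommRingCat.ofHom (algebraMap k E))) := by
    haveI : Subsingleton ↥(Spec (CommRingCat.of k)) :=
      inferInstanceAs (Subsingleton (PrimeSpectrum k))
    refine ⟨fun y => ⟨(⟨⊥, Ideal.isPrime_bot⟩ : PrimeSpectrum E), Subsingleton.elim _ _⟩⟩
  haveI : Surjective f := MorphismProperty.of_isPullback (P := @Surjective) hsq.flip hSurj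
  haveI : QuasiCompact f :=
    MorphismProperty.of_isPullback (P := @QuasiCompact) hsq.flip inferInstance
  haveI : CompactSpace X := QuasiCompact.compactSpace_of_compactSpace g
  haveI : CompactSpace X' := QuasiCompact.compactSpace_of_compactSpace f
  have F2 : ∀ x', δ' x' = δ (f x') := by
    intro x'
    obtain ⟨m, hm, hd⟩ := hδ x'
    have h0 := td_zero f x'
    have hm' : td f x' = m := hm
    rw [h0] at hm'
    have : m = 0 := by exact_mod_cast hm'.symm
    rw [hd, this]; simp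
  have F3 : ∀ x', ∃ e : ℕ, lenQ f x' = p ^ e := fun x' => lenQ_pow' k p E g f g' hsq x'
  have hMF : ∀ x', MaxFib f x' := fun x' y hy _ => hinj hy
  refine ⟨?_, ?_⟩
  · -- part 1
    intro β hβ
    choose e he using F3
    have hfin : (Function.support ⇑β).Finite := by
      have := β.locallyFiniteSupport.finite_inter_support_of_isCompact isCompact_univ
      rwa [Set.univ_inter] at this
    let N : ℕ := hfin.toFinset.sup e
    have hN : ∀ x', β x' ≠ 0 → e x' ≤ N := fun x' hx' =>
      Finset.le_sup (f := e) (hfin.mem_toFinset.mpr hx')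
    let αfun : X → ℤ := fun x =>
      if h : ∃ x', β x' ≠ 0 ∧ f x' = x then
        β (Classical.choose h) * (p : ℤ) ^ (N - e (Classical.choose h)) else 0
    have hαfun : ∀ x', β x' ≠ 0 → αfun (f x') = β x' * (p : ℤ) ^ (N - e x') := by
      intro x' hx'
      have h : ∃ x'', β x'' ≠ 0 ∧ f x'' = f x' := ⟨x', hx', rfl⟩
      show (if h : ∃ x'', β x'' ≠ 0 ∧ f x'' = f x' then
        β (Classical.choose h) * (p : ℤ) ^ (N - e (Classical.choose h)) else 0) = _
      rw [dif_pos h]
      have := Classical.choose_spec h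
      rw [hinj this.2]
    have hαne : ∀ x, αfun x ≠ 0 → ∃ x', β x' ≠ 0 ∧ f x' = x := by
      intro x hx
      by_contra hne
      apply hx
      show (if h : ∃ x', β x' ≠ 0 ∧ f x' = x then
        β (Classical.choose h) * (p : ℤ) ^ (N - e (Classical.choose h)) else 0) = 0
      rw [dif_neg hne]
    have hsuppfin : (Function.support αfun).Finite := by
      refine (hfin.image f).subset ?_
      intro x hx
      obtain ⟨x', h1, h2⟩ := hαne x hx
      exact ⟨x', h1, h2⟩
    let α : AlgebraicCycle X ℤ :=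
      { toFun := αfun
        supportWithinDomain' := Set.subset_univ _
        supportLocallyFiniteWithinDomain' := fun z _ =>
          ⟨Set.univ, Filter.univ_mem, by rw [Set.univ_inter]; exact hsuppfin⟩ }
    have hαZ : α ∈ Cyc.Zk X δ i := by
      intro x hx
      by_contra hne
      obtain ⟨x', h1, h2⟩ := hαne x hne
      apply hx
      rw [← h2, ← F2 x']
      by_contra hk
      exact h1 (hβ x' hk)
    refine ⟨α, hαZ, (p ^ N) • β, (ChowOps.zk X' δ' i).nsmul_mem hβ (p ^ N), N, ?_, cl_nsmul β hβ (p ^ N)⟩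
    rw [Function.locallyFinsuppWithin.coe_nsmul]
    funext y'
    show (p ^ N) • β y' = Cyc.pullFun f δ' δ 0 αfun y'
    unfold Cyc.pullFun
    rw [if_pos (by rw [add_zero]; exact F2 y')]
    have h3 := he y'
    unfold lenQ at h3
    rw [h3]
    by_cases hy : β y' ≠ 0
    · rw [hαfun y' hy, nsmul_eq_mul]
      have := hN y' hy
      push_cast
      rw [mul_assoc, ← pow_add, Nat.sub_add_cancel this, mul_comm]
    · rw [not_not] at hy
      have h0 : αfun (f y') = 0 := by
        by_contra hne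
        obtain ⟨x', h1, h2⟩ := hαne _ hne
        rw [hinj h2] at h1
        exact h1 hy
      rw [h0, hy]
      simp
  · -- part 2
    intro α hα α' hα' hpull hcl
    obtain ⟨ι, ξ, h, hdim, hh0, hlf, hsum⟩ := ratEquivZero_of_cl_eq_zero δ' i α' hα' hcl
    haveI hιfin : Finite ι := by
      choose U hUo hxU hUfin using hlf
      obtain ⟨t, ht⟩ := isCompact_univ.elim_finite_subcover U hUo
        (fun x _ => Set.mem_iUnion.mpr ⟨x, hxU x⟩)
      have hsub : (Set.univ : Set ι) ⊆ ⋃ x ∈ t, {a | (closure {ξ a} ∩ U x).Nonempty} := by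
        intro a _
        obtain ⟨x, hx, hax⟩ := Set.mem_iUnion₂.mp (ht (Set.mem_univ (ξ a)))
        exact Set.mem_iUnion₂.mpr ⟨x, hx, ⟨ξ a, subset_closure rfl, hax⟩⟩
      exact Set.finite_univ_iff.mp
        ((Set.Finite.biUnion t.finite_toSet (fun x _ => hUfin x)).subset hsub)
    haveI : Fintype ι := Fintype.ofFinite ι
    have hchar : ∀ x : X, CharP (X.residueField x) p := fun x => by
      let a := Spec.preimage (X.fromSpecResidueField x ≫ g)
      exact (RingHom.charP_iff a.hom a.hom.injective p).mp inferInstance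
    have hPI' := ((tfae_universallyInjective f).out 0 2).mp ‹UniversallyInjective f›
    have hPI := hPI'.2
    have hex : ∀ a, ∃ (n : ℕ) (ga : X.residueField (f (ξ a))),
        (f.residueFieldMap (ξ a)).hom ga = (h a) ^ (p ^ n) := by
      intro a
      letI := (f.residueFieldMap (ξ a)).hom.toAlgebra
      haveI : IsPurelyInseparable (X.residueField (f (ξ a))) (X'.residueField (ξ a)) := hPI (ξ a)
      haveI := hchar (f (ξ a))
      haveI : ExpChar (X.residueField (f (ξ a))) p := ExpChar.prime Fact.out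
      obtain ⟨n, y, hy⟩ := IsPurelyInseparable.pow_mem (X.residueField (f (ξ a))) p (h a)
      exact ⟨n, y, hy⟩
    choose nn gg hgg using hex
    choose ee hee using (fun a => F3 (ξ a))
    let w : ι → X := fun a => f (ξ a)
    have hgg0 : ∀ a, gg a ≠ 0 := by
      intro a h0
      have := hgg a
      rw [h0, map_zero] at this
      exact pow_ne_zero _ (hh0 a) this.symm
    have hP : ∀ a (x' : X'), Cyc.pullFun f δ' δ 0 (Cyc.divFun δ (w a) (gg a)) x' =
        (p : ℤ) ^ (ee a + nn a) * Cyc.divFun δ' (ξ a) (h a) x' := by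
      intro a x'
      rw [pull_div_point f δ δ' hX.2.2 hX'.2.2 0 (fun x' _ => by rw [add_zero]; exact F2 x')
        (w a) (gg a) x']
      refine (finsum_eq_single _ ⟨ξ a, hMF (ξ a), rfl⟩
        (fun z hz => absurd (Subtype.ext (hinj z.2.2)) hz)).trans ?_
      show ((fibLen f (ξ a)).toNat : ℤ) *
        Cyc.divFun δ' (ξ a) (gUp f (w a) (ξ a) rfl (gg a)) x' = _
      have hg : gUp f (w a) (ξ a) rfl (gg a) = (h a) ^ (p ^ (nn a)) := by
        show (f.residueFieldMap (ξ a)).hom
          ((X.residueFieldCongr (rfl : w a = w a)).hom (gg a)) = _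
        rw [Scheme.residueFieldCongr_refl]
        exact hgg a
      rw [hg, divFun_pow]
      have hl : (fibLen f (ξ a)).toNat = p ^ (ee a) := hee a
      rw [hl]
      push_cast
      ring
    let M : ℕ := Finset.univ.sup (fun a => ee a + nn a)
    have hM : ∀ a, ee a + nn a ≤ M := fun a =>
      Finset.le_sup (f := fun a => ee a + nn a) (Finset.mem_univ a)
    let GG : ∀ a, X.residueField (w a) := fun a => (gg a) ^ (p ^ (M - (ee a + nn a)))
    have hGG0 : ∀ a, GG a ≠ 0 := fun a => pow_ne_zero _ (hgg0 a)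
    have hP' : ∀ a (x' : X'), Cyc.pullFun f δ' δ 0 (Cyc.divFun δ (w a) (GG a)) x' =
        (p : ℤ) ^ M * Cyc.divFun δ' (ξ a) (h a) x' := by
      intro a x'
      have e1 : Cyc.divFun δ (w a) (GG a) = fun x =>
          ((p ^ (M - (ee a + nn a)) : ℕ) : ℤ) * Cyc.divFun δ (w a) (gg a) x :=
        funext (fun x => divFun_pow δ (w a) (gg a) _ x)
      rw [e1, pullFun_smul, hP a x']
      push_cast
      rw [← mul_assoc, ← pow_add, Nat.sub_add_cancel (hM a)]
    have hkey : ∀ x : X, (p : ℤ) ^ M * α x = ∑ a, Cyc.divFun δ (w a) (GG a) x := by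
      intro x
      obtain ⟨x', rfl⟩ := f.surjective x
      obtain ⟨e, he⟩ := F3 x'
      have h1 : Cyc.pullFun f δ' δ 0 (fun x => ∑ a, Cyc.divFun δ (w a) (GG a) x) x' =
          (p : ℤ) ^ M * Cyc.pullFun f δ' δ 0 ⇑α x' := by
        rw [Groth.Agent.S6497.pullFun_sum, Finset.sum_congr rfl (fun a _ => hP' a x'),
          ← Finset.mul_sum, ← hpull, hsum x', finsum_eq_sum_of_fintype]
      unfold Cyc.pullFun at h1
      have hc : δ' x' = δ (f x') + 0 := by rw [add_zero]; exact F2 x'
      simp only [if_pos hc] at h1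
      unfold lenQ at he
      rw [he] at h1
      have hL : ((p ^ e : ℕ) : ℤ) ≠ 0 := by
        exact_mod_cast pow_ne_zero e (Fact.out : p.Prime).ne_zero
      have h2 : (∑ a, Cyc.divFun δ (w a) (GG a) (f x')) * ((p ^ e : ℕ) : ℤ) =
          ((p : ℤ) ^ M * α (f x')) * ((p ^ e : ℕ) : ℤ) := by
        rw [h1]; ring
      exact (mul_right_cancel₀ hL h2).symm
    have hrat : Cyc.RatEquivZero δ i ((p ^ M) • α) := by
      refine ⟨ι, w, GG, fun a => ?_, hGG0,
        fun x => ⟨Set.univ, isOpen_univ, trivial, Set.toFinite _⟩, fun x => ?_⟩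
      · show δ (f (ξ a)) = i + 1
        rw [← F2 (ξ a)]; exact hdim a
      · rw [finsum_eq_sum_of_fintype, ← hkey x, Function.locallyFinsuppWithin.coe_nsmul]
        show (p ^ M) • α x = _
        rw [nsmul_eq_mul]
        push_cast
        rfl
    refine ⟨M, ?_⟩
    rw [← cl_nsmul α hα (p ^ M)]
    exact cl_eq_zero_of_ratEquivZero δ i _ _ hrat

end PRE

/-- Let k be a field of characteristic p > 0, E a finite purely inseparable field extension of k, X a
separated scheme of finite type over k, X' = X ×_k E with projection f : X' → X (any pullback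
square), δ a dimension function on X making (X, δ) a cycle setup (X locally Noetherian with
universally catenary local rings) and δ' the induced dimension function on X' (so (X', δ') is a
cycle setup and δ' is compatible with δ along f, which has relative dimension 0). Then flat pullback
of cycles along f induces a bijection of Chow groups of i-cycles after inverting p, in the following
two-sided sense: for every i-cycle β on X' there are an i-cycle α on X, an i-cycle α' on X' with the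
flat-pullback coefficients of α, and an exponent s with [α'] = p^s · [β] in CH_i(X'); and for every
i-cycle α on X and every i-cycle α' on X' with the flat-pullback coefficients of α, if [α'] = 0 in
CH_i(X') then p^s · [α] = 0 in CH_i(X) for some s. (The published statement allows an arbitrary
purely inseparable extension E of k; this row takes E finite over k, the case the printed argument
carries out.) -/
theorem result (k E : Type u) [Field k] [Field E] [Algebra k E] (p : ℕ) [Fact p.Prime] [CharP k p] [Module.Finite k E] [IsPurelyInseparable k E] (X X' : Scheme.{u}) (g : X ⟶ Spec (CommRingCat.of k)) [IsSeparated g] [LocallyOfFiniteType g] [QuasiCompact g] (f : X' ⟶ X) (g' : X' ⟶ Spec (CommRingCat.of E)) (hsq : IsPullback f g' g (Spec.map (CommRingCat.ofHom (algebraMap k E)))) (δ : X → ℤ) (δ' : X' → ℤ) (hX : Cyc.IsSetup X δ) (hX' : Cyc.IsSetup X' δ') (hδ : Cyc.DeltaCompat f δ' δ) (i : ℤ) : (∀ (β : AlgebraicCycle X' ℤ) (hβ : β ∈ Cyc.Zk X' δ' i), ∃ (α : AlgebraicCycle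 X ℤ) (hα : α ∈ Cyc.Zk X δ i) (α' : AlgebraicCycle X' ℤ) (hα' : α' ∈ Cyc.Zk X' δ' i) (s : ℕ), ⇑α' = Cyc.pullFun f δ' δ 0 ⇑α ∧ ChowOps.cl α' hα' = p ^ s • ChowOps.cl β hβ) ∧ (∀ (α : AlgebraicCycle X ℤ) (hα : α ∈ Cyc.Zk X δ i) (α' : AlgebraicCycle X' ℤ) (hα' : α' ∈ Cyc.Zk X' δ' i), ⇑α' = Cyc.pullFun f δ' δ 0 ⇑α → ChowOps.cl α' hα' = 0 → ∃ s : ℕ, p ^ s • ChowOps.cl α hα = 0) := by
  exact main k E p X X' g f g' hsq δ δ' hX hX' hδ i

end Groth.Agent.S15556
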