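import Groth.Statements.S15560
import Groth.Agent.Lib.Helper78.Kron

set_option autoImplicit false
universe u v w
open KronMod

namespace Groth.Agent.S15560

/-- Let f be a Kronecker module with n arrows over a field K, from a space V of dimension d₋₁ > 0 to a
space W of dimension d₀ > 0. If n·d₋₁ < d₀ or n·d₀ < d₋₁, then f is not semistable; that is, there
are no semistable Kronecker modules of dimension vector (d₋₁, d₀). (The published statement assumes
K algebraically closed of characteristic zero and n ≥ 2; this row allows any field K and any number
n of arrows.) -/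
theorem result (K : Type u) [Field K] (V : Type v) (W : Type w)
    [AddCommGroup V] [Module K V] [FiniteDimensional K V]
    [AddCommGroup W] [Module K W] [FiniteDimensional K W]
    (n : ℕ) (f : Fin n → (V →ₗ[K] W))
    (hV : 0 < Module.finrank K V) (hW : 0 < Module.finrank K W)
    (h : n * Module.finrank K V < Module.finrank K W ∨ n * Module.finrank K W < Module.finrank K V) :
    ¬ KronMod.IsSemistable f := by
  rintro ⟨_, hss⟩
  rcases h with h | h
  · -- the image of the sum map is too small
    have hle := Groth.Agent.Lib.Helper78.Kron.finrank_range_sumMap_le f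
    have hsub := Groth.Agent.Lib.Helper78.Kron.isSubrep_top_range f
    have hVtop : (⊤ : Submodule K V) ≠ ⊥ := by
      intro h0
      have : Module.finrank K (⊤ : Submodule K V) = 0 := by rw [h0]; simp
      rw [finrank_top] at this
      omega
    have hWne : LinearMap.range (Groth.Agent.Lib.Helper78.Kron.sumMap f) ≠ ⊤ := by
      intro h0
      rw [h0, finrank_top] at hle
      omega
    have := hss ⊤ _ hsub (fun hc => hVtop hc.1) (fun hc => hWne hc.2)
    rw [finrank_top] at this
    have h3 : Module.finrank K V * Module.finrank K ↥(LinearMap.range (Groth.Agent.Lib.Helper78.Kron.sumMap f)) ≤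
        Module.finrank K V * (n * Module.finrank K V) := Nat.mul_le_mul_left _ hle
    have h4 : Module.finrank K V * (n * Module.finrank K V) < Module.finrank K V * Module.finrank K W :=
      Nat.mul_lt_mul_of_pos_left h hV
    rw [Nat.mul_comm (Module.finrank K W)] at this
    omega
  · -- the common kernel is too big
    have hle := Groth.Agent.Lib.Helper78.Kron.finrank_le_ker_prodMap_add f
    have hsub := Groth.Agent.Lib.Helper78.Kron.isSubrep_ker_bot f
    have hpos : 0 < Module.finrank K (LinearMap.ker (Groth.Agent.Lib.Helper78.Kron.prodMap f)) := by omega
    have hVne : LinearMap.ker (Groth.Agent.Lib.Helper78.Kron.prodMap f) ≠ ⊥ := by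
      intro h0
      rw [h0] at hpos
      simp at hpos
    have hWne : (⊥ : Submodule K W) ≠ ⊤ := by
      intro h0
      have : Module.finrank K (⊤ : Submodule K W) = 0 := by rw [← h0]; simp
      rw [finrank_top] at this
      omega
    have := hss _ ⊥ hsub (fun hc => hVne hc.1) (fun hc => hWne hc.2)
    simp only [finrank_bot, mul_zero, Nat.le_zero, mul_eq_zero] at this
    omega

end Groth.Agent.S15560
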