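import Groth.Statements.S15561
import Groth.Agent.Lib.Helper78.Kron

set_option autoImplicit false
universe u v w
open KronMod

namespace Groth.Agent.S15561

/-- Let f be a Kronecker module with n arrows over a field K, from V of dimension d₋₁ > 0 to W of
dimension n·d₋₁. Then f is semistable if and only if the sum map Vⁿ → W sending (v_j)_j to Σ_j
f_j(v_j) is bijective, i.e. every arrow f_j is injective and W is the direct sum of the images
f_j(V). (The published statement assumes K algebraically closed of characteristic zero and n ≥ 2;
this row allows any field K and any number n of arrows.) -/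
theorem result (K : Type u) [Field K] (V : Type v) (W : Type w)
    [AddCommGroup V] [Module K V] [FiniteDimensional K V]
    [AddCommGroup W] [Module K W] [FiniteDimensional K W]
    (n : ℕ) (f : Fin n → (V →ₗ[K] W))
    (hV : 0 < Module.finrank K V) (hW : Module.finrank K W = n * Module.finrank K V) :
    KronMod.IsSemistable f ↔ Function.Bijective (fun v : Fin n → V => ∑ j, f j (v j)) := by
  have hfun : (fun v : Fin n → V => ∑ j, f j (v j)) = ⇑(Groth.Agent.Lib.Helper78.Kron.sumMap f) := by
    funext v
    exact (Groth.Agent.Lib.Helper78.Kron.sumMap_apply f v).symm
  rw [hfun]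
  have hdim : Module.finrank K (Fin n → V) = Module.finrank K W := by
    rw [hW]; simp [Module.finrank_pi_fintype]
  constructor
  · rintro ⟨_, hss⟩
    -- surjectivity from semistability
    have hsurj : Function.Surjective (Groth.Agent.Lib.Helper78.Kron.sumMap f) := by
      rw [← LinearMap.range_eq_top]
      by_contra hne
      have hsub := Groth.Agent.Lib.Helper78.Kron.isSubrep_top_range f
      have hVtop : (⊤ : Submodule K V) ≠ ⊥ := by
        intro h0
        have : Module.finrank K (⊤ : Submodule K V) = 0 := by rw [h0]; simp
        rw [finrank_top] at this
        omega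
      have := hss ⊤ _ hsub (fun hc => hVtop hc.1) (fun hc => hne hc.2)
      rw [finrank_top, Nat.mul_comm] at this
      have h2 := Nat.le_of_mul_le_mul_left this hV
      exact hne (Submodule.eq_top_of_finrank_eq (le_antisymm (Submodule.finrank_le _) h2))
    exact ⟨(LinearMap.injective_iff_surjective_of_finrank_eq_finrank hdim).mpr hsurj, hsurj⟩
  · rintro ⟨hinj, _⟩
    refine ⟨by omega, ?_⟩
    intro V' W' hsub _ _
    have := Groth.Agent.Lib.Helper78.Kron.mul_finrank_le_of_sumMap_injective f hinj V' W' hsub
    rw [hW]
    calc n * Module.finrank K V * Module.finrank K V' = Module.finrank K V * (n * Module.finrank K V') := by ring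
      _ ≤ Module.finrank K V * Module.finrank K W' := Nat.mul_le_mul_left _ this

end Groth.Agent.S15561
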