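import Groth.Statements.S15563
import Groth.Agent.Lib.Helper78.Kron
import Groth.Agent.S15561

set_option autoImplicit false
universe u v w
open KronMod

namespace Groth.Agent.S15563

/-- Let f be a Kronecker module with n arrows over a field K, from V of dimension d₋₁ > 0 to W of
dimension n·d₋₁. Then f is stable if and only if f is semistable and d₋₁ = 1: for d₋₁ = 1 every
semistable module is stable (so the stable locus of K(n; 1, n) is the one point), while for d₋₁ > 1
no module is stable. (The published statement assumes K algebraically closed of characteristic zero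
and n ≥ 2; this row allows any field K and any number n of arrows.) -/
theorem result (K : Type u) [Field K] (V : Type v) (W : Type w)
    [AddCommGroup V] [Module K V] [FiniteDimensional K V]
    [AddCommGroup W] [Module K W] [FiniteDimensional K W]
    (n : ℕ) (f : Fin n → (V →ₗ[K] W))
    (hV : 0 < Module.finrank K V) (hW : Module.finrank K W = n * Module.finrank K V) :
    KronMod.IsStable f ↔ (KronMod.IsSemistable f ∧ Module.finrank K V = 1) := by
  have hbij : KronMod.IsSemistable f →
      Function.Bijective (Groth.Agent.Lib.Helper78.Kron.sumMap f) := by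
    intro hf
    have := (Groth.Agent.S15561.result K V W n f hV hW).mp hf
    have hfun : (fun v : Fin n → V => ∑ j, f j (v j)) = ⇑(Groth.Agent.Lib.Helper78.Kron.sumMap f) := by
      funext v
      exact (Groth.Agent.Lib.Helper78.Kron.sumMap_apply f v).symm
    rwa [hfun] at this
  constructor
  · intro hst
    have hss : KronMod.IsSemistable f :=
      ⟨hst.1, fun V' W' h1 h2 h3 => le_of_lt (hst.2 V' W' h1 h2 h3)⟩
    refine ⟨hss, ?_⟩
    by_contra hne
    have h2 : 2 ≤ Module.finrank K V := by omega
    -- pick a nonzero vector
    obtain ⟨v, hv⟩ := (Module.finrank_pos_iff_exists_ne_zero (R := K) (M := V)).mp hV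
    let V' : Submodule K V := K ∙ v
    let W' : Submodule K W := Submodule.span K (Set.range fun j => f j v)
    have hV'dim : Module.finrank K V' = 1 := finrank_span_singleton hv
    have hW'dim : Module.finrank K W' ≤ n := by
      have := finrank_range_le_card (R := K) (fun j : Fin n => f j v)
      simpa [Set.finrank] using this
    have hsub : KronMod.IsSubrep f V' W' := by
      rintro j w ⟨x, hx, rfl⟩
      obtain ⟨c, rfl⟩ := Submodule.mem_span_singleton.mp hx
      rw [map_smul]
      exact Submodule.smul_mem _ _ (Submodule.subset_span ⟨j, rfl⟩)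
    have hne1 : ¬ (V' = ⊥ ∧ W' = ⊥) := by
      rintro ⟨h0, _⟩
      rw [h0] at hV'dim
      simp at hV'dim
    have hne2 : ¬ (V' = ⊤ ∧ W' = ⊤) := by
      rintro ⟨h0, _⟩
      rw [h0, finrank_top] at hV'dim
      omega
    have := hst.2 V' W' hsub hne1 hne2
    rw [hV'dim, hW, mul_one] at this
    have h3 : Module.finrank K V * Module.finrank K W' ≤ Module.finrank K V * n :=
      Nat.mul_le_mul_left _ hW'dim
    rw [Nat.mul_comm n] at this
    omega
  · rintro ⟨hss, h1⟩
    refine ⟨hss.1, ?_⟩
    intro V' W' hsub hne1 hne2
    have hsurj := (hbij hss).2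
    by_cases hV' : V' = ⊥
    · have hW' : W' ≠ ⊥ := fun h => hne1 ⟨hV', h⟩
      have hpos : 0 < Module.finrank K W' := by
        rw [Nat.pos_iff_ne_zero]
        intro h0
        exact hW' (Submodule.finrank_eq_zero.mp h0)
      rw [hV', finrank_bot, mul_zero, h1, one_mul]
      exact hpos
    · exfalso
      have hpos : 0 < Module.finrank K V' := by
        rw [Nat.pos_iff_ne_zero]
        intro h0
        exact hV' (Submodule.finrank_eq_zero.mp h0)
      have hle : Module.finrank K V' ≤ Module.finrank K V := Submodule.finrank_le _
      have htop : V' = ⊤ := Submodule.eq_top_of_finrank_eq (by omega)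
      apply hne2
      refine ⟨htop, ?_⟩
      rw [eq_top_iff]
      intro w _
      obtain ⟨a, rfl⟩ := hsurj w
      rw [Groth.Agent.Lib.Helper78.Kron.sumMap_apply]
      refine Submodule.sum_mem _ (fun j _ => hsub j (Submodule.mem_map_of_mem ?_))
      rw [htop]
      trivial

end Groth.Agent.S15563
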