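import Groth.Statements.S15564
import Groth.Agent.Lib.Helper78.Kron

set_option autoImplicit false
universe u v w
open KronMod

namespace Groth.Agent.S15564

/-- For a Kronecker module f with n arrows over a field K between one-dimensional spaces V and W,
semistability, stability and f ≠ 0 are equivalent: the semistable locus and the stable locus of
dimension vector (1, 1) are both the complement of the zero module. (The published statement assumes
K algebraically closed of characteristic zero and n ≥ 2; this row allows any field K and any n.) -/
theorem result (K : Type u) [Field K] (V : Type v) (W : Type w)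
    [AddCommGroup V] [Module K V] [FiniteDimensional K V]
    [AddCommGroup W] [Module K W] [FiniteDimensional K W]
    (n : ℕ) (f : Fin n → (V →ₗ[K] W))
    (hV : Module.finrank K V = 1) (hW : Module.finrank K W = 1) :
    (KronMod.IsSemistable f ↔ f ≠ 0) ∧ (KronMod.IsStable f ↔ f ≠ 0) := by
  have hVtop : (⊤ : Submodule K V) ≠ ⊥ := by
    intro h0
    have : Module.finrank K (⊤ : Submodule K V) = 0 := by rw [h0]; simp
    rw [finrank_top] at this
    omega
  have hWtop : (⊥ : Submodule K W) ≠ ⊤ := by
    intro h0
    have : Module.finrank K (⊤ : Submodule K W) = 0 := by rw [← h0]; simp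
    rw [finrank_top] at this
    omega
  have h1 : KronMod.IsSemistable f → f ≠ 0 := by
    rintro ⟨_, hss⟩ rfl
    have hsub : KronMod.IsSubrep (0 : Fin n → (V →ₗ[K] W)) ⊤ ⊥ := by
      rintro j w ⟨v, _, rfl⟩
      simp
    have := hss ⊤ ⊥ hsub (fun hc => hVtop hc.1) (fun hc => hWtop hc.2)
    rw [finrank_top, finrank_bot, hV, hW] at this
    omega
  have h2 : f ≠ 0 → KronMod.IsStable f := by
    intro hf
    obtain ⟨j, hj⟩ : ∃ j, f j ≠ 0 := by
      by_contra hall
      push Not at hall
      exact hf (funext hall)
    obtain ⟨v, hv⟩ : ∃ v, f j v ≠ 0 := by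
      by_contra hall
      push Not at hall
      exact hj (LinearMap.ext hall)
    refine ⟨by omega, ?_⟩
    intro V' W' hsub hne1 hne2
    by_cases hV' : V' = ⊥
    · have hW' : W' ≠ ⊥ := fun h => hne1 ⟨hV', h⟩
      have hpos : 0 < Module.finrank K W' := by
        rw [Nat.pos_iff_ne_zero]
        intro h0
        exact hW' (Submodule.finrank_eq_zero.mp h0)
      rw [hV', finrank_bot, mul_zero, hV, one_mul]
      exact hpos
    · exfalso
      have hpos : 0 < Module.finrank K V' := by
        rw [Nat.pos_iff_ne_zero]
        intro h0
        exact hV' (Submodule.finrank_eq_zero.mp h0)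
      have hle : Module.finrank K V' ≤ Module.finrank K V := Submodule.finrank_le _
      have htop : V' = ⊤ := Submodule.eq_top_of_finrank_eq (by omega)
      apply hne2
      refine ⟨htop, ?_⟩
      have hmem : f j v ∈ W' := hsub j (Submodule.mem_map_of_mem (by rw [htop]; trivial))
      have hW'ne : W' ≠ ⊥ := by
        intro h0
        rw [h0, Submodule.mem_bot] at hmem
        exact hv hmem
      have hposW : 0 < Module.finrank K W' := by
        rw [Nat.pos_iff_ne_zero]
        intro h0
        exact hW'ne (Submodule.finrank_eq_zero.mp h0)
      have hleW : Module.finrank K W' ≤ Module.finrank K W := Submodule.finrank_le _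
      exact Submodule.eq_top_of_finrank_eq (by omega)
  have h3 : KronMod.IsStable f → KronMod.IsSemistable f := fun hst =>
    ⟨hst.1, fun V' W' a b c => le_of_lt (hst.2 V' W' a b c)⟩
  exact ⟨⟨h1, fun h => h3 (h2 h)⟩, ⟨fun h => h1 (h3 h), h2⟩⟩

end Groth.Agent.S15564
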