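import Groth.Statements.S15565
import Groth.Agent.Lib.Helper78.Kron
import Mathlib.LinearAlgebra.Eigenspace.Triangularizable

set_option autoImplicit false
universe u v w
open KronMod

namespace Groth.Agent.S15565

/-- Over an algebraically closed field K, a Kronecker module with two arrows between spaces V and W of
the same dimension k ≥ 2 is never stable: the stable locus of dimension vector (k, k) for the
Kronecker quiver with two arrows is empty. (The published statement also assumes characteristic
zero; this row does not.) -/
theorem result (K : Type u) [Field K] [IsAlgClosed K] (V : Type v) (W : Type w)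
    [AddCommGroup V] [Module K V] [FiniteDimensional K V]
    [AddCommGroup W] [Module K W] [FiniteDimensional K W]
    (f : Fin 2 → (V →ₗ[K] W)) (k : ℕ) (hk : 2 ≤ k)
    (hV : Module.finrank K V = k) (hW : Module.finrank K W = k) :
    ¬ KronMod.IsStable f := by
  intro hst
  -- key: a nonzero vector whose images all lie on one line contradicts stability
  have key : ∀ (v : V) (w : W), v ≠ 0 → (∀ j, f j v ∈ (K ∙ w)) → False := by
    intro v w hv hvw
    let V' : Submodule K V := K ∙ v
    let W' : Submodule K W := K ∙ w
    have hV'dim : Module.finrank K V' = 1 := finrank_span_singleton hv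
    have hW'dim : Module.finrank K W' ≤ 1 := by
      have := finrank_span_le_card (R := K) ({w} : Set W)
      simpa using this
    have hsub : KronMod.IsSubrep f V' W' := by
      rintro j x ⟨y, hy, rfl⟩
      obtain ⟨c, rfl⟩ := Submodule.mem_span_singleton.mp hy
      rw [map_smul]
      exact Submodule.smul_mem _ _ (hvw j)
    have hne1 : ¬ (V' = ⊥ ∧ W' = ⊥) := by
      rintro ⟨h0, _⟩
      rw [h0] at hV'dim
      simp at hV'dim
    have hne2 : ¬ (V' = ⊤ ∧ W' = ⊤) := by
      rintro ⟨h0, _⟩
      rw [h0, finrank_top] at hV'dim
      omega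
    have := hst.2 V' W' hsub hne1 hne2
    rw [hV'dim, hV, hW, mul_one] at this
    have h3 : k * Module.finrank K W' ≤ k * 1 := Nat.mul_le_mul_left _ hW'dim
    omega
  by_cases hinj : Function.Injective (f 1)
  · have hbij : Function.Bijective (f 1) :=
      ⟨hinj, (LinearMap.injective_iff_surjective_of_finrank_eq_finrank (by rw [hV, hW])).mp hinj⟩
    let e := LinearEquiv.ofBijective (f 1) hbij
    let φ : Module.End K V := (e.symm : W →ₗ[K] V) ∘ₗ f 0
    have hnt : Nontrivial V := Module.nontrivial_of_finrank_pos (R := K) (by omega)
    obtain ⟨μ, hμ⟩ := Module.End.exists_eigenvalue φ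
    obtain ⟨v, hv⟩ := hμ.exists_hasEigenvector
    have h0 : f 0 v = μ • f 1 v := by
      have h1 : φ v = μ • v := hv.apply_eq_smul
      have h2 : e (φ v) = f 0 v := by
        show e (e.symm (f 0 v)) = f 0 v
        exact e.apply_symm_apply _
      rw [← h2, h1, map_smul]
      rfl
    refine key v (f 1 v) hv.2 ?_
    intro j
    fin_cases j
    · show f 0 v ∈ _
      rw [h0]
      exact Submodule.smul_mem _ _ (Submodule.mem_span_singleton_self _)
    · exact Submodule.mem_span_singleton_self _
  · obtain ⟨v, hv0, hv⟩ : ∃ v, v ≠ 0 ∧ f 1 v = 0 := by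
      rw [← LinearMap.ker_eq_bot, Submodule.eq_bot_iff] at hinj
      push Not at hinj
      obtain ⟨v, hv, hv0⟩ := hinj
      exact ⟨v, hv0, hv⟩
    refine key v (f 0 v) hv0 ?_
    intro j
    fin_cases j
    · exact Submodule.mem_span_singleton_self _
    · show f 1 v ∈ _
      rw [hv]
      exact Submodule.zero_mem _

end Groth.Agent.S15565
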