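import Groth.Statements.S15566
import Mathlib
-- import your own Groth.Agent.* helpers here

set_option autoImplicit false
universe u v w
open KronMod

namespace Groth.Agent.S15566

section
variable {K : Type*} [Field K] {V : Type*} [AddCommGroup V] [Module K V]
  {W : Type*} [AddCommGroup W] [Module K W]

theorem span2 (hV : Module.finrank K V = 2) (v₀ v₁ : V) (h0 : v₀ ≠ 0) (h1 : v₁ ∉ K ∙ v₀)
    (v : V) : ∃ α β : K, v = α • v₀ + β • v₁ := by
  have hli : LinearIndependent K ![v₀, v₁] := by
    rw [LinearIndependent.pair_iff' h0]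
    intro a ha
    exact h1 (ha ▸ Submodule.smul_mem _ a (Submodule.mem_span_singleton_self v₀))
  let b := basisOfLinearIndependentOfCardEqFinrank hli (by simp [hV])
  refine ⟨b.repr v 0, b.repr v 1, ?_⟩
  have := b.sum_repr v
  rw [Fin.sum_univ_two] at this
  simpa [b] using this.symm

theorem main [FiniteDimensional K V] [FiniteDimensional K W] {n : ℕ}
    (f : Fin n → (V →ₗ[K] W))
    (hV : Module.finrank K V = 2) (hW : Module.finrank K W = 2)
    (hf : KronMod.IsSemistable f)
    (hsing : ∀ z : Fin n → K,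
      ¬ Function.Bijective ((∑ j, z j • f j : V →ₗ[K] W) : V → W)) : False := by
  obtain ⟨_, hss⟩ := hf
  obtain ⟨L, hL⟩ : ∃ L : Submodule K (V →ₗ[K] W), L = Submodule.span K (Set.range f) := ⟨_, rfl⟩
  have hfL : ∀ j, f j ∈ L := fun j => hL ▸ Submodule.subset_span ⟨j, rfl⟩
  have hker : ∀ g ∈ L, ∃ v : V, v ≠ 0 ∧ g v = 0 := by
    intro g hg
    rw [hL] at hg
    obtain ⟨z, rfl⟩ := (Submodule.mem_span_range_iff_exists_fun K).mp hg
    have h1 := hsing z
    have h2 : ¬ Function.Injective (∑ j, z j • f j : V →ₗ[K] W) := by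
      intro hinj
      exact h1 ⟨hinj, (LinearMap.injective_iff_surjective_of_finrank_eq_finrank
        (hV.trans hW.symm)).mp hinj⟩
    rw [← LinearMap.ker_eq_bot, Submodule.eq_bot_iff] at h2
    push Not at h2
    obtain ⟨v, hv, hv0⟩ := h2
    exact ⟨v, hv0, hv⟩
  have hsubL : ∀ (V' : Submodule K V) (W' : Submodule K W), (∀ g ∈ L, V'.map g ≤ W') →
      KronMod.IsSubrep f V' W' := fun V' W' h j => h _ (hfL j)
  have hVtb : (⊤ : Submodule K V) ≠ ⊥ := by
    intro h
    have h1 : Module.finrank K (⊤ : Submodule K V) = Module.finrank K (⊥ : Submodule K V) := by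
      rw [h]
    rw [finrank_top, finrank_bot, hV] at h1
    omega
  have hWbt : (⊥ : Submodule K W) ≠ ⊤ := by
    intro h
    have h1 : Module.finrank K (⊥ : Submodule K W) = Module.finrank K (⊤ : Submodule K W) := by
      rw [h]
    rw [finrank_top, finrank_bot, hW] at h1
    omega
  by_cases hzero : ∀ g ∈ L, g = 0
  · have hsub : KronMod.IsSubrep f ⊤ ⊥ := hsubL _ _ (fun g hg => by rw [hzero g hg]; simp)
    have := hss ⊤ ⊥ hsub (by rintro ⟨h, _⟩; exact hVtb h) (by rintro ⟨_, h⟩; exact hWbt h)
    rw [finrank_top, finrank_bot, hV, hW] at this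
    omega
  push Not at hzero
  obtain ⟨g₀, hg₀L, hg₀⟩ := hzero
  obtain ⟨v₀, hv₀, hgv₀⟩ := hker g₀ hg₀L
  obtain ⟨v₁, hv₁⟩ : ∃ v₁, g₀ v₁ ≠ 0 := by
    by_contra h
    push Not at h
    exact hg₀ (LinearMap.ext h)
  obtain ⟨w₀, hw₀⟩ : ∃ w₀, w₀ = g₀ v₁ := ⟨_, rfl⟩
  have hw₀0 : w₀ ≠ 0 := hw₀ ▸ hv₁
  have hv₁' : v₁ ∉ K ∙ v₀ := by
    intro h
    obtain ⟨c, rfl⟩ := Submodule.mem_span_singleton.mp h
    apply hv₁
    rw [map_smul, hgv₀, smul_zero]
  have hspanV := span2 hV v₀ v₁ hv₀ hv₁'
  have hA : ∀ g ∈ L, g v₀ ∈ K ∙ w₀ := by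
    intro g hg
    by_contra hgv
    have hspanW := span2 hW w₀ (g v₀) hw₀0 hgv
    obtain ⟨b, d, hbd⟩ := hspanW (g v₁)
    obtain ⟨v, hv, hhv⟩ := hker (g + (1 - b) • g₀) (L.add_mem hg (L.smul_mem _ hg₀L))
    obtain ⟨α, β, rfl⟩ := hspanV v
    have e : (g + (1 - b) • g₀) (α • v₀ + β • v₁) = (α + β * d) • g v₀ + β • w₀ := by
      simp only [LinearMap.add_apply, LinearMap.smul_apply, map_add, map_smul, hgv₀, smul_zero,
        zero_add, hbd, ← hw₀]
      module
    rw [e] at hhv
    have h1 : α + β * d = 0 := by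
      by_contra hne
      apply hgv
      rw [Submodule.mem_span_singleton]
      refine ⟨-((α + β * d)⁻¹ * β), ?_⟩
      have h3 : (α + β * d) • g v₀ = -(β • w₀) := eq_neg_of_add_eq_zero_left hhv
      calc -((α + β * d)⁻¹ * β) • w₀ = (α + β * d)⁻¹ • (-(β • w₀)) := by
            rw [smul_neg, neg_smul, mul_smul]
        _ = (α + β * d)⁻¹ • ((α + β * d) • g v₀) := by rw [h3]
        _ = g v₀ := by rw [smul_smul, inv_mul_cancel₀ hne, one_smul]
    rw [h1, zero_smul, zero_add] at hhv
    have h2 : β = 0 := by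
      rcases smul_eq_zero.mp hhv with h | h
      · exact h
      · exact absurd h hw₀0
    rw [h2, zero_mul, add_zero] at h1
    apply hv
    rw [h1, h2, zero_smul, zero_smul, add_zero]
  have hB : ∀ g ∈ L, g v₀ = 0 ∨ LinearMap.range g ≤ K ∙ w₀ := by
    intro g hg
    by_cases hgv₀' : g v₀ = 0
    · exact Or.inl hgv₀'
    right
    obtain ⟨a, ha⟩ := Submodule.mem_span_singleton.mp (hA g hg)
    have ha0 : a ≠ 0 := by
      rintro rfl
      rw [zero_smul] at ha
      exact hgv₀' ha.symm
    obtain ⟨v, hv, hhv⟩ := hker g hg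
    obtain ⟨α, β, rfl⟩ := hspanV v
    rw [map_add, map_smul, map_smul, ← ha] at hhv
    have hβ : β ≠ 0 := by
      rintro rfl
      rw [zero_smul, add_zero, smul_smul] at hhv
      rcases smul_eq_zero.mp hhv with h | h
      · rcases mul_eq_zero.mp h with h | h
        · apply hv; rw [h, zero_smul, zero_smul, add_zero]
        · exact ha0 h
      · exact hw₀0 h
    have hgv₁ : g v₁ ∈ K ∙ w₀ := by
      rw [Submodule.mem_span_singleton]
      refine ⟨-(β⁻¹ * (α * a)), ?_⟩
      have h3 : β • g v₁ = -(α • a • w₀) := eq_neg_of_add_eq_zero_right hhv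
      calc -(β⁻¹ * (α * a)) • w₀ = β⁻¹ • (-(α • a • w₀)) := by
            rw [smul_neg, neg_smul, mul_smul, mul_smul]
        _ = β⁻¹ • (β • g v₁) := by rw [h3]
        _ = g v₁ := by rw [smul_smul, inv_mul_cancel₀ hβ, one_smul]
    rintro _ ⟨x, rfl⟩
    obtain ⟨α', β', rfl⟩ := hspanV x
    rw [map_add, map_smul, map_smul]
    exact Submodule.add_mem _ (Submodule.smul_mem _ _ (hA g hg)) (Submodule.smul_mem _ _ hgv₁)
  by_cases hall : ∀ g ∈ L, g v₀ = 0
  · have hsub : KronMod.IsSubrep f (K ∙ v₀) ⊥ := by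
      apply hsubL
      intro g hg
      rw [Submodule.map_span, Set.image_singleton, hall g hg]
      simp
    have := hss (K ∙ v₀) ⊥ hsub
      (by rintro ⟨h, _⟩; exact hv₀ ((Submodule.span_singleton_eq_bot).mp h))
      (by rintro ⟨_, h⟩; exact hWbt h)
    rw [finrank_span_singleton hv₀, finrank_bot, hV, hW] at this
    omega
  · push Not at hall
    obtain ⟨g₁, hg₁L, hg₁⟩ := hall
    have hrange : ∀ g ∈ L, LinearMap.range g ≤ K ∙ w₀ := by
      intro g hg
      rcases hB g hg with h | h
      · have h1 : LinearMap.range g₁ ≤ K ∙ w₀ := (hB g₁ hg₁L).resolve_left hg₁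
        have h2 : LinearMap.range (g₁ + g) ≤ K ∙ w₀ := by
          refine (hB (g₁ + g) (L.add_mem hg₁L hg)).resolve_left ?_
          rw [LinearMap.add_apply, h, add_zero]; exact hg₁
        rintro _ ⟨x, rfl⟩
        have e : g x = (g₁ + g) x - g₁ x := by rw [LinearMap.add_apply]; abel
        rw [e]
        exact Submodule.sub_mem _ (h2 ⟨x, rfl⟩) (h1 ⟨x, rfl⟩)
      · exact h
    have hsub : KronMod.IsSubrep f ⊤ (K ∙ w₀) := by
      apply hsubL
      intro g hg
      rw [Submodule.map_top]
      exact hrange g hg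
    have := hss ⊤ (K ∙ w₀) hsub (by rintro ⟨h, _⟩; exact hVtb h)
      (by
        rintro ⟨_, h⟩
        have h1 : Module.finrank K (K ∙ w₀) = Module.finrank K (⊤ : Submodule K W) := by rw [h]
        rw [finrank_span_singleton hw₀0, finrank_top, hW] at h1
        omega)
    rw [finrank_top, finrank_span_singleton hw₀0, hV, hW] at this
    omega

end


/-- Case of dimension vector (2, 2). Over an algebraically closed field K, if a Kronecker module f with
n arrows between two-dimensional spaces V and W is semistable, then some linear combination Σ_j z_j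
f_j of its arrows is a linear isomorphism V → W (equivalently, the determinant of the generic
combination is not identically zero): the semistable locus of dimension vector (2, 2) lies in the
open set of modules whose generic combination is invertible. (The published statement, over an
algebraically closed field of characteristic zero, covers dimension vectors (1, 1) and (2, 2) for
every n ≥ 2 and (k, k) for two arrows; this row states the (2, 2) case, for any n and without the
characteristic assumption.) -/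
theorem result (K : Type u) [Field K] [IsAlgClosed K] (V : Type v) (W : Type w)
    [AddCommGroup V] [Module K V] [FiniteDimensional K V]
    [AddCommGroup W] [Module K W] [FiniteDimensional K W]
    (n : ℕ) (f : Fin n → (V →ₗ[K] W))
    (hV : Module.finrank K V = 2) (hW : Module.finrank K W = 2)
    (hf : KronMod.IsSemistable f) :
    ∃ z : Fin n → K, Function.Bijective ((∑ j, z j • f j : V →ₗ[K] W) : V → W) := by
  by_contra hcon
  push Not at hcon
  exact main f hV hW hf hcon

end Groth.Agent.S15566
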