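import Groth.Statements.S15567
import Mathlib
-- import your own Groth.Agent.* helpers here

set_option autoImplicit false
universe u v w
open KronMod

namespace Groth.Agent.S15567

theorem hR_le (a b v₁ v' w₁ w' : ℕ) (h1 : v₁ + v' = a) (h2 : w₁ + w' = b)
    (h : b * v₁ ≤ a * w₁) : a * w' ≤ b * v' := by
  have e1 : b * v₁ + b * v' = b * a := by rw [← Nat.mul_add, h1]
  have e2 : a * w₁ + a * w' = a * b := by rw [← Nat.mul_add, h2]
  have e3 : a * b = b * a := Nat.mul_comm a b
  omega

theorem hR_lt (a b v₁ v' w₁ w' : ℕ) (h1 : v₁ + v' = a) (h2 : w₁ + w' = b)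
    (h : b * v₁ < a * w₁) : a * w' < b * v' := by
  have e1 : b * v₁ + b * v' = b * a := by rw [← Nat.mul_add, h1]
  have e2 : a * w₁ + a * w' = a * b := by rw [← Nat.mul_add, h2]
  have e3 : a * b = b * a := Nat.mul_comm a b
  omega

section
variable {K : Type*} [Field K] {V : Type*} {W : Type*} [AddCommGroup V] [Module K V]
    [FiniteDimensional K V] [AddCommGroup W] [Module K W] [FiniteDimensional K W] {n : ℕ}
    (f : Fin n → (V →ₗ[K] W))

open Module

theorem dir1 (R : ℕ → ℕ → Prop)
    (hR : ∀ a b v₁ v' w₁ w' : ℕ, v₁ + v' = a → w₁ + w' = b → R (b * v₁) (a * w₁) →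
      R (a * w') (b * v'))
    (H : ∀ (V₁ : Submodule K V) (W₁ : Submodule K W), KronMod.IsSubrep f V₁ W₁ →
      ¬ (V₁ = ⊥ ∧ W₁ = ⊥) → ¬ (V₁ = ⊤ ∧ W₁ = ⊤) →
      R (finrank K W * finrank K V₁) (finrank K V * finrank K W₁))
    (W' : Submodule K (Module.Dual K W)) (V' : Submodule K (Module.Dual K V))
    (hsub : KronMod.IsSubrep (fun j => (f j).dualMap) W' V')
    (hnb : ¬ (W' = ⊥ ∧ V' = ⊥)) (hnt : ¬ (W' = ⊤ ∧ V' = ⊤)) :
    R (finrank K (Module.Dual K V) * finrank K W')
      (finrank K (Module.Dual K W) * finrank K V') := by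
  have hv := Subspace.finrank_add_finrank_dualCoannihilator_eq V'
  have hw := Subspace.finrank_add_finrank_dualCoannihilator_eq W'
  have hsub1 : KronMod.IsSubrep f V'.dualCoannihilator W'.dualCoannihilator := by
    intro j
    rintro _ ⟨x, hx, rfl⟩
    rw [Submodule.mem_dualCoannihilator]
    intro φ hφ
    have h1 : (f j).dualMap φ ∈ V' := hsub j (Submodule.mem_map_of_mem hφ)
    have h2 := (Submodule.mem_dualCoannihilator x).mp hx _ h1
    simpa [LinearMap.dualMap_apply] using h2
  have hnb1 : ¬ (V'.dualCoannihilator = ⊥ ∧ W'.dualCoannihilator = ⊥) := by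
    rintro ⟨h1, h2⟩
    apply hnt
    constructor
    · apply Submodule.eq_top_of_finrank_eq
      rw [h2, finrank_bot, add_zero] at hw
      rw [hw, Subspace.dual_finrank_eq]
    · apply Submodule.eq_top_of_finrank_eq
      rw [h1, finrank_bot, add_zero] at hv
      rw [hv, Subspace.dual_finrank_eq]
  have hnt1 : ¬ (V'.dualCoannihilator = ⊤ ∧ W'.dualCoannihilator = ⊤) := by
    rintro ⟨h1, h2⟩
    apply hnb
    constructor
    · rw [h2, finrank_top] at hw
      exact Submodule.finrank_eq_zero.mp (by omega)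
    · rw [h1, finrank_top] at hv
      exact Submodule.finrank_eq_zero.mp (by omega)
  have key := H _ _ hsub1 hnb1 hnt1
  rw [Subspace.dual_finrank_eq, Subspace.dual_finrank_eq]
  exact hR _ _ _ _ _ _ (by omega) (by omega) key

theorem dir2 (R : ℕ → ℕ → Prop)
    (hR : ∀ a b v₁ v' w₁ w' : ℕ, v₁ + v' = a → w₁ + w' = b → R (b * v₁) (a * w₁) →
      R (a * w') (b * v'))
    (H : ∀ (W' : Submodule K (Module.Dual K W)) (V' : Submodule K (Module.Dual K V)),
      KronMod.IsSubrep (fun j => (f j).dualMap) W' V' →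
      ¬ (W' = ⊥ ∧ V' = ⊥) → ¬ (W' = ⊤ ∧ V' = ⊤) →
      R (finrank K (Module.Dual K V) * finrank K W')
        (finrank K (Module.Dual K W) * finrank K V'))
    (V₁ : Submodule K V) (W₁ : Submodule K W) (hsub : KronMod.IsSubrep f V₁ W₁)
    (hnb : ¬ (V₁ = ⊥ ∧ W₁ = ⊥)) (hnt : ¬ (V₁ = ⊤ ∧ W₁ = ⊤)) :
    R (finrank K W * finrank K V₁) (finrank K V * finrank K W₁) := by
  have hv := Subspace.finrank_add_finrank_dualAnnihilator_eq V₁
  have hw := Subspace.finrank_add_finrank_dualAnnihilator_eq W₁
  have hsub1 : KronMod.IsSubrep (fun j => (f j).dualMap) W₁.dualAnnihilator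
      V₁.dualAnnihilator := by
    intro j
    rintro _ ⟨φ, hφ, rfl⟩
    rw [Submodule.mem_dualAnnihilator]
    intro x hx
    have h1 : f j x ∈ W₁ := hsub j (Submodule.mem_map_of_mem hx)
    have h2 := (Submodule.mem_dualAnnihilator φ).mp hφ _ h1
    simpa [LinearMap.dualMap_apply] using h2
  have hnb1 : ¬ (W₁.dualAnnihilator = ⊥ ∧ V₁.dualAnnihilator = ⊥) := by
    rintro ⟨h1, h2⟩
    apply hnt
    constructor
    · apply Submodule.eq_top_of_finrank_eq
      rw [h2, finrank_bot, add_zero] at hv
      exact hv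
    · apply Submodule.eq_top_of_finrank_eq
      rw [h1, finrank_bot, add_zero] at hw
      exact hw
  have hnt1 : ¬ (W₁.dualAnnihilator = ⊤ ∧ V₁.dualAnnihilator = ⊤) := by
    rintro ⟨h1, h2⟩
    apply hnb
    constructor
    · rw [h2, finrank_top, Subspace.dual_finrank_eq] at hv
      exact Submodule.finrank_eq_zero.mp (by omega)
    · rw [h1, finrank_top, Subspace.dual_finrank_eq] at hw
      exact Submodule.finrank_eq_zero.mp (by omega)
  have key := H _ _ hsub1 hnb1 hnt1
  rw [Subspace.dual_finrank_eq, Subspace.dual_finrank_eq] at key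
  exact hR _ _ _ _ _ _ (by omega) (by omega) key

end


/-- Duality of Kronecker modules. Let f be a Kronecker module with n arrows over a field K, from V to W,
both finite-dimensional. The dual module has arrows the transposes f_j^∨ : W^∨ → V^∨, so its
dimension vector is (d₀, d₋₁). Then f is semistable if and only if its dual is, and f is stable if
and only if its dual is. This is the module-level content of the isomorphism K(n; d₋₁, d₀) ≅ K(n;
d₀, d₋₁) of moduli spaces, stated here without the moduli spaces. (The published statement assumes K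
algebraically closed of characteristic zero and n ≥ 2; this row allows any field K and any number n
of arrows.) -/
theorem result (K : Type u) [Field K] (V : Type v) (W : Type w)
    [AddCommGroup V] [Module K V] [FiniteDimensional K V]
    [AddCommGroup W] [Module K W] [FiniteDimensional K W]
    (n : ℕ) (f : Fin n → (V →ₗ[K] W)) :
    (KronMod.IsSemistable f ↔ KronMod.IsSemistable (fun j => (f j).dualMap)) ∧
    (KronMod.IsStable f ↔ KronMod.IsStable (fun j => (f j).dualMap)) := by
  have hpos : 0 < Module.finrank K V + Module.finrank K W ↔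
      0 < Module.finrank K (Module.Dual K W) + Module.finrank K (Module.Dual K V) := by
    rw [Subspace.dual_finrank_eq, Subspace.dual_finrank_eq, add_comm]
  constructor
  · constructor
    · rintro ⟨h0, H⟩
      exact ⟨hpos.mp h0, fun W' V' hsub hnb hnt =>
        dir1 f (· ≤ ·) hR_le H W' V' hsub hnb hnt⟩
    · rintro ⟨h0, H⟩
      exact ⟨hpos.mpr h0, fun V₁ W₁ hsub hnb hnt =>
        dir2 f (· ≤ ·) hR_le H V₁ W₁ hsub hnb hnt⟩
  · constructor
    · rintro ⟨h0, H⟩
      exact ⟨hpos.mp h0, fun W' V' hsub hnb hnt =>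
        dir1 f (· < ·) hR_lt H W' V' hsub hnb hnt⟩
    · rintro ⟨h0, H⟩
      exact ⟨hpos.mpr h0, fun V₁ W₁ hsub hnb hnt =>
        dir2 f (· < ·) hR_lt H V₁ W₁ hsub hnb hnt⟩

end Groth.Agent.S15567
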