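import Groth.Statements.S15568
import Mathlib

set_option autoImplicit false
universe u
open QuiverStab

namespace Groth.Agent.S15568

lemma sign_comb {a b s t : ℝ} (hs : 0 ≤ s) (ht : 0 ≤ t) (hst : s + t = 1)
    (h : SignType.sign a = SignType.sign b) : SignType.sign (s * a + t * b) = SignType.sign a := by
  rcases lt_trichotomy a 0 with ha | ha | ha
  · have hb : b < 0 := by
      rw [sign_neg ha] at h; exact sign_eq_neg_one_iff.mp h.symm
    rw [sign_neg ha, sign_eq_neg_one_iff]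
    rcases eq_or_lt_of_le hs with hs0 | hs0
    · have : t = 1 := by linarith
      subst this; rw [← hs0]; linarith
    · nlinarith [mul_neg_of_pos_of_neg hs0 ha, mul_nonpos_of_nonneg_of_nonpos ht hb.le]
  · subst ha
    have hb : b = 0 := by
      rw [sign_zero] at h; exact sign_eq_zero_iff.mp h.symm
    subst hb; simp
  · have hb : 0 < b := by
      rw [sign_pos ha] at h; exact sign_eq_one_iff.mp h.symm
    rw [sign_pos ha, sign_eq_one_iff]
    rcases eq_or_lt_of_le hs with hs0 | hs0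
    · have : t = 1 := by linarith
      subst this; rw [← hs0]; linarith
    · nlinarith [mul_pos hs0 ha, mul_nonneg ht hb.le]

lemma sign_const {X : Type*} [TopologicalSpace X] {S : Set X} (hS : IsPreconnected S)
    {f : X → ℝ} (hf : Continuous f) (hne : ∀ x ∈ S, f x ≠ 0) {x y : X} (hx : x ∈ S) (hy : y ∈ S) :
    SignType.sign (f x) = SignType.sign (f y) := by
  rcases lt_or_gt_of_ne (hne x hx) with h1 | h1 <;> rcases lt_or_gt_of_ne (hne y hy) with h2 | h2
  · rw [sign_neg h1, sign_neg h2]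
  · exfalso
    obtain ⟨z, hz, hz0⟩ := hS.intermediate_value hx hy hf.continuousOn ⟨h1.le, h2.le⟩
    exact hne z hz hz0
  · exfalso
    obtain ⟨z, hz, hz0⟩ := hS.intermediate_value hy hx hf.continuousOn ⟨h2.le, h1.le⟩
    exact hne z hz hz0
  · rw [sign_pos h1, sign_pos h2]
/-- Walls and chambers for stability weights of a quiver. Let I be the finite vertex set, d ∈ ℕ^I a
dimension vector, and call two weights θ₁, θ₂ ∈ ℝ^I orthogonal to d numerically equivalent when, for
every d′ ≤ d in ℕ^I, the numbers θ₁·d′ and θ₂·d′ are both positive, both negative or both zero. The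
walls are the hyperplanes W(d′) = {θ ⊥ d : θ·d′ = 0} of d^⊥ for d′ ≤ d such that d is not a multiple
of d′. Then θ₁ and θ₂ are numerically equivalent if and only if there is a set J₁ of such d′ for
which θ₁ and θ₂ lie in the same connected component of the locally closed subset of d^⊥ consisting
of the weights lying on W(d₁) for every d₁ ∈ J₁ and off W(d₂) for every other wall W(d₂). (Only the
quiver's vertex set enters; multiples are taken with natural-number factors.) -/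
theorem result
    (I : Type u) [Fintype I] (d : I → ℕ) (θ₁ θ₂ : I → ℝ)
    (h₁ : ∑ i, θ₁ i * (d i : ℝ) = 0) (h₂ : ∑ i, θ₂ i * (d i : ℝ) = 0) :
    (∀ d' : I → ℕ, d' ≤ d →
        SignType.sign (∑ i, θ₁ i * (d' i : ℝ)) = SignType.sign (∑ i, θ₂ i * (d' i : ℝ))) ↔
    ∃ J₁ : Set (I → ℕ), J₁ ⊆ {d' | d' ≤ d ∧ ¬ ∃ m : ℕ, d = m • d'} ∧
      θ₂ ∈ connectedComponentIn
        {θ : I → ℝ | ∑ i, θ i * (d i : ℝ) = 0 ∧ (∀ d₁ ∈ J₁, ∑ i, θ i * (d₁ i : ℝ) = 0) ∧
          ∀ d₂ : I → ℕ, d₂ ≤ d → (¬ ∃ m : ℕ, d = m • d₂) → d₂ ∉ J₁ →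
            ∑ i, θ i * (d₂ i : ℝ) ≠ 0} θ₁ := by
  have hlin : ∀ (s t : ℝ) (e : I → ℕ), ∑ i, (s • θ₁ + t • θ₂) i * (e i : ℝ) =
      s * ∑ i, θ₁ i * (e i : ℝ) + t * ∑ i, θ₂ i * (e i : ℝ) := by
    intro s t e
    rw [Finset.mul_sum, Finset.mul_sum, ← Finset.sum_add_distrib]
    refine Finset.sum_congr rfl fun i _ => ?_
    simp only [Pi.add_apply, Pi.smul_apply, smul_eq_mul]; ring
  constructor
  · intro h
    refine ⟨{d' | (d' ≤ d ∧ ¬ ∃ m : ℕ, d = m • d') ∧ ∑ i, θ₁ i * (d' i : ℝ) = 0},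
      fun d' hd' => hd'.1, ?_⟩
    have hseg : IsPreconnected (segment ℝ θ₁ θ₂) := (convex_segment θ₁ θ₂).isPreconnected
    refine hseg.subset_connectedComponentIn (left_mem_segment ℝ θ₁ θ₂) ?_
      (right_mem_segment ℝ θ₁ θ₂)
    rintro θ ⟨s, t, hs, ht, hst, rfl⟩
    refine ⟨?_, ?_, ?_⟩
    · rw [hlin, h₁, h₂]; simp
    · rintro d₁ ⟨⟨hd₁, _⟩, h0⟩
      have h2 : ∑ i, θ₂ i * (d₁ i : ℝ) = 0 := by
        have := h d₁ hd₁
        rw [h0, sign_zero] at this
        exact sign_eq_zero_iff.mp this.symm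
      rw [hlin, h0, h2]; simp
    · intro d₂ hd₂ hw hnJ
      have hne : ∑ i, θ₁ i * (d₂ i : ℝ) ≠ 0 := fun h0 => hnJ ⟨⟨hd₂, hw⟩, h0⟩
      have := sign_comb hs ht hst (h d₂ hd₂)
      rw [hlin]
      intro h0
      rw [h0, sign_zero] at this
      exact hne (sign_eq_zero_iff.mp this.symm)
  · rintro ⟨J₁, hJ, hmem⟩ d' hd'
    set S := {θ : I → ℝ | ∑ i, θ i * (d i : ℝ) = 0 ∧ (∀ d₁ ∈ J₁, ∑ i, θ i * (d₁ i : ℝ) = 0) ∧
          ∀ d₂ : I → ℕ, d₂ ≤ d → (¬ ∃ m : ℕ, d = m • d₂) → d₂ ∉ J₁ →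
            ∑ i, θ i * (d₂ i : ℝ) ≠ 0} with hS
    have hθ₁ : θ₁ ∈ S := connectedComponentIn_nonempty_iff.mp ⟨θ₂, hmem⟩
    have hsub := connectedComponentIn_subset S θ₁
    have hθ₂ : θ₂ ∈ S := hsub hmem
    by_cases hm : ∃ m : ℕ, d = m • d'
    · obtain ⟨m, hm⟩ := hm
      have key : ∀ θ : I → ℝ, ∑ i, θ i * (d i : ℝ) = 0 → ∑ i, θ i * (d' i : ℝ) = 0 := by
        intro θ hθ
        rcases Nat.eq_zero_or_pos m with rfl | hpos
        · have hd0 : d = 0 := by rw [hm, zero_smul]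
          have hd'0 : d' = 0 := by
            ext i
            have := hd' i
            rw [hd0] at this
            exact Nat.le_zero.mp this
          simp [hd'0]
        · have : (m : ℝ) * ∑ i, θ i * (d' i : ℝ) = 0 := by
            rw [← hθ, Finset.mul_sum]
            refine Finset.sum_congr rfl fun i _ => ?_
            rw [hm]; simp only [Pi.smul_apply, smul_eq_mul, Nat.cast_mul]; ring
          rcases mul_eq_zero.mp this with h0 | h0
          · exact absurd (Nat.cast_eq_zero.mp h0) hpos.ne'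
          · exact h0
      rw [key θ₁ h₁, key θ₂ h₂]
    · by_cases hdJ : d' ∈ J₁
      · rw [hθ₁.2.1 d' hdJ, hθ₂.2.1 d' hdJ]
      · have hcont : Continuous fun θ : I → ℝ => ∑ i, θ i * (d' i : ℝ) := by
          fun_prop
        exact sign_const isPreconnected_connectedComponentIn hcont
          (fun x hx => (hsub hx).2.2 d' hd' hm hdJ) (mem_connectedComponentIn hθ₁) hmem

end Groth.Agent.S15568
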