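import Groth.Statements.S15570
import Groth.Agent.Lib.Helper78.Kron
import Groth.Agent.S15572

set_option autoImplicit false
universe u v w
open KronMod

namespace Groth.Agent.S15570

/-- Let f be a Kronecker module with n arrows over a field K, from V of dimension n·d₀ to W of dimension
d₀ > 0. Then f is stable if and only if f is semistable and d₀ = 1: for d₀ = 1 every semistable
module is stable (the stable locus of K(n; n, 1) is the one point), while for d₀ > 1 no module is
stable. This is the case dual to dimension vector (d₋₁, n·d₋₁). (The published statement assumes K
algebraically closed of characteristic zero and n ≥ 2; this row allows any field K and any number n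
of arrows.) -/
theorem result (K : Type u) [Field K] (V : Type v) (W : Type w)
    [AddCommGroup V] [Module K V] [FiniteDimensional K V]
    [AddCommGroup W] [Module K W] [FiniteDimensional K W]
    (n : ℕ) (f : Fin n → (V →ₗ[K] W))
    (hW : 0 < Module.finrank K W) (hV : Module.finrank K V = n * Module.finrank K W) :
    KronMod.IsStable f ↔ (KronMod.IsSemistable f ∧ Module.finrank K W = 1) := by
  have hbij : KronMod.IsSemistable f →
      Function.Bijective (Groth.Agent.Lib.Helper78.Kron.prodMap f) := by
    intro hf
    exact (Groth.Agent.S15572.result K V W n f hW hV).mp hf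
  constructor
  · intro hst
    have hss : KronMod.IsSemistable f :=
      ⟨hst.1, fun V' W' h1 h2 h3 => le_of_lt (hst.2 V' W' h1 h2 h3)⟩
    refine ⟨hss, ?_⟩
    by_contra hne
    have h2 : 2 ≤ Module.finrank K W := by omega
    obtain ⟨w, hw⟩ := (Module.finrank_pos_iff_exists_ne_zero (R := K) (M := W)).mp hW
    let W' : Submodule K W := K ∙ w
    have hW'dim : Module.finrank K W' = 1 := finrank_span_singleton hw
    let s := LinearEquiv.ofBijective _ (hbij hss)
    let V' : Submodule K V := ⨅ j, W'.comap (f j)
    have hsub : KronMod.IsSubrep f V' W' := by
      rintro j x ⟨v, hv, rfl⟩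
      have : v ∈ W'.comap (f j) := (Submodule.mem_iInf _).mp hv j
      exact this
    -- an injective map (Fin n → W') → V'
    let g : (Fin n → W') →ₗ[K] V' :=
      { toFun := fun a => ⟨s.symm (fun j => (a j : W)), by
          rw [Submodule.mem_iInf]
          intro j
          show f j (s.symm (fun j => (a j : W))) ∈ W'
          have : s (s.symm (fun j => (a j : W))) = fun j => (a j : W) := s.apply_symm_apply _
          have h2 := congrFun this j
          change f j (s.symm (fun j => (a j : W))) = (a j : W) at h2
          rw [h2]
          exact (a j).2⟩
        map_add' := fun a b => by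
          apply Subtype.ext
          show s.symm (fun j => ((a + b) j : W)) = s.symm (fun j => (a j : W)) + s.symm (fun j => (b j : W))
          rw [← map_add]
          rfl
        map_smul' := fun c a => by
          apply Subtype.ext
          show s.symm (fun j => ((c • a) j : W)) = c • s.symm (fun j => (a j : W))
          rw [← map_smul]
          rfl }
    have hg : Function.Injective g := by
      intro a b hab
      have h1 : s.symm (fun j => (a j : W)) = s.symm (fun j => (b j : W)) := congrArg Subtype.val hab
      have h2 := s.symm.injective h1
      funext j
      exact Subtype.ext (congrFun h2 j)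
    have hV'dim : n ≤ Module.finrank K V' := by
      have := LinearMap.finrank_le_finrank_of_injective hg
      simpa [Module.finrank_pi_fintype, hW'dim] using this
    have hne1 : ¬ (V' = ⊥ ∧ W' = ⊥) := by
      rintro ⟨_, h0⟩
      rw [h0] at hW'dim
      simp at hW'dim
    have hne2 : ¬ (V' = ⊤ ∧ W' = ⊤) := by
      rintro ⟨_, h0⟩
      rw [h0, finrank_top] at hW'dim
      omega
    have := hst.2 V' W' hsub hne1 hne2
    rw [hW'dim, hV, mul_one] at this
    have h3 : Module.finrank K W * n ≤ Module.finrank K W * Module.finrank K V' :=
      Nat.mul_le_mul_left _ hV'dim
    rw [Nat.mul_comm n] at this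
    omega
  · rintro ⟨hss, h1⟩
    refine ⟨hss.1, ?_⟩
    intro V' W' hsub hne1 hne2
    have hinj := (hbij hss).1
    by_cases hW' : W' = ⊥
    · exfalso
      apply hne1
      refine ⟨?_, hW'⟩
      rw [eq_bot_iff]
      intro v hv
      rw [Submodule.mem_bot]
      apply hinj
      rw [map_zero]
      funext j
      have : f j v ∈ W' := hsub j (Submodule.mem_map_of_mem hv)
      rw [hW', Submodule.mem_bot] at this
      exact this
    · have hpos : 0 < Module.finrank K W' := by
        rw [Nat.pos_iff_ne_zero]
        intro h0
        exact hW' (Submodule.finrank_eq_zero.mp h0)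
      have hle : Module.finrank K W' ≤ Module.finrank K W := Submodule.finrank_le _
      have htop : W' = ⊤ := Submodule.eq_top_of_finrank_eq (by omega)
      have hV'ne : V' ≠ ⊤ := fun h => hne2 ⟨h, htop⟩
      have hlt : Module.finrank K V' < Module.finrank K V := Submodule.finrank_lt hV'ne
      rw [htop, finrank_top, h1, one_mul, mul_one]
      exact hlt

end Groth.Agent.S15570
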