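import Groth.Statements.S15575
import Mathlib
import Groth.Agent.Lib.Helper78.RInvLocal
import Groth.Agent.S15574
import Groth.Agent.S15586

set_option autoImplicit false
universe u v
open scoped TensorProduct
open RInv

namespace Groth.Agent.S15575

open scoped TensorProduct

section
variable {S : Type u} {R : Type v} [CommRing S] [CommRing R] [Algebra S R]

/-- the base-changed involution -/
noncomputable def bc (S' : Type*) [CommRing S'] [Algebra S S'] (lamA : R ≃ₐ[S] R) :
    (S' ⊗[S] R) ≃+* (S' ⊗[S] R) :=
  (Algebra.TensorProduct.congr (AlgEquiv.refl : S' ≃ₐ[S] S') lamA).toRingEquiv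

lemma bc_tmul (S' : Type*) [CommRing S'] [Algebra S S'] (lamA : R ≃ₐ[S] R) (a : S') (r : R) :
    bc S' lamA (a ⊗ₜ[S] r) = a ⊗ₜ[S] lamA r := by
  simp [bc]

lemma bc_involutive (S' : Type*) [CommRing S'] [Algebra S S'] (lamA : R ≃ₐ[S] R)
    (h : Function.Involutive lamA) : Function.Involutive (bc S' lamA) := by
  intro x
  induction x using TensorProduct.induction_on with
  | zero => simp
  | add a b ha hb => rw [map_add, map_add, ha, hb]
  | tmul a r => rw [bc_tmul, bc_tmul, h r]

lemma bc_smul (S' : Type*) [CommRing S'] [Algebra S S'] (lamA : R ≃ₐ[S] R) (t : S) (x : S' ⊗[S] R) :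
    bc S' lamA (t • x) = t • bc S' lamA x := by
  change (Algebra.TensorProduct.congr (AlgEquiv.refl : S' ≃ₐ[S] S') lamA) (t • x) =
    t • (Algebra.TensorProduct.congr (AlgEquiv.refl : S' ≃ₐ[S] S') lamA) x
  rw [map_smul]

end

end Groth.Agent.S15575

namespace Groth.Agent.S15575

/-- Let `R` be a commutative ring with an involution `lam` and fixed ring `S` (no finiteness assumed).
If the localisation of `R` at a prime `p` of `S` is quadratic etale over `S_p`, then there is `s ∉
p` with `R[1/s]` quadratic etale over `S[1/s]`; in particular the set of such primes is open in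
`Spec S`. Localisations of `R` are written as base changes `S_p ⊗ R` and `S_s ⊗ R`. -/
theorem result (S : Type u) (R : Type v) [CommRing S] [CommRing R]
    [Algebra S R] (lam : R ≃+* R) (hlam : Function.Involutive lam) (hS : RInv.IsFixedRing S R lam)
    (p : PrimeSpectrum S)
    (hp : RInv.IsQuadEtale (Localization.AtPrime p.asIdeal) (Localization.AtPrime p.asIdeal ⊗[S] R)) :
    ∃ s : S, s ∉ p.asIdeal ∧
      RInv.IsQuadEtale (Localization.Away s) (Localization.Away s ⊗[S] R) := by
  classical
  have hfixS : ∀ s : S, lam (algebraMap S R s) = algebraMap S R s :=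
    Groth.Agent.Lib.Helper78.RInvBasic.fixed_algebraMap hS
  let lamA : R ≃ₐ[S] R := AlgEquiv.ofRingEquiv (f := lam) hfixS
  have hlamA : ∀ r, lamA r = lam r := fun _ => rfl
  have hinvA : Function.Involutive lamA := hlam
  have hS' : RInv.IsFixedRing S R lamA.toRingEquiv := hS
  -- the situation at `p`
  have hfixp : RInv.IsFixedRing (Localization.AtPrime p.asIdeal) (Localization.AtPrime p.asIdeal ⊗[S] R) (bc (Localization.AtPrime p.asIdeal) lamA) :=
    Groth.Agent.S15586.result S R (Localization.AtPrime p.asIdeal) lamA hinvA hS' (Or.inl inferInstance)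
  obtain ⟨ρ, hρ⟩ := Groth.Agent.S15574.result (Localization.AtPrime p.asIdeal) (Localization.AtPrime p.asIdeal ⊗[S] R) (bc (Localization.AtPrime p.asIdeal) lamA)
    (bc_involutive (Localization.AtPrime p.asIdeal) lamA hinvA) hfixp hp
  let f : R →ₗ[S] Localization.AtPrime p.asIdeal ⊗[S] R := TensorProduct.mk S (Localization.AtPrime p.asIdeal) R 1
  have hf : IsLocalizedModule p.asIdeal.primeCompl f :=
    (isLocalizedModule_iff_isBaseChange p.asIdeal.primeCompl (Localization.AtPrime p.asIdeal) f).mpr
      (TensorProduct.isBaseChange S R (Localization.AtPrime p.asIdeal))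
  have hfx : ∀ x : R, f x = (1 : Localization.AtPrime p.asIdeal) ⊗ₜ[S] x := fun _ => rfl
  -- units coming from `S`
  have hunitS : ∀ t : p.asIdeal.primeCompl,
      IsUnit ((t : S) • (1 : Localization.AtPrime p.asIdeal ⊗[S] R)) := by
    intro t
    have : (t : S) • (1 : Localization.AtPrime p.asIdeal ⊗[S] R) =
        Algebra.TensorProduct.includeLeft (R := S) (S := S) (A := Localization.AtPrime p.asIdeal) (B := R)
          (algebraMap S (Localization.AtPrime p.asIdeal) (t : S)) := by
      rw [Algebra.TensorProduct.includeLeft_apply, Algebra.TensorProduct.one_def, TensorProduct.smul_tmul',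
        Algebra.algebraMap_eq_smul_one]
    rw [this]
    exact (IsLocalization.map_units (Localization.AtPrime p.asIdeal) t).map _
  obtain ⟨⟨r, t⟩, hrt⟩ := IsLocalizedModule.surj p.asIdeal.primeCompl f ρ
  simp only at hrt
  set d : R := r - lam r with hd
  have hd1 : IsUnit ((1 : Localization.AtPrime p.asIdeal) ⊗ₜ[S] d) := by
    have h1 : (1 : Localization.AtPrime p.asIdeal) ⊗ₜ[S] d = (t : S) • (ρ - bc (Localization.AtPrime p.asIdeal) lamA ρ) := by
      rw [smul_sub, ← bc_smul, Submonoid.smul_def] at *
      rw [hrt, hfx, bc_tmul, hlamA, hd, TensorProduct.tmul_sub]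
    have h5 : (t : S) • (ρ - bc (Localization.AtPrime p.asIdeal) lamA ρ) =
        ((t : S) • (1 : Localization.AtPrime p.asIdeal ⊗[S] R)) *
          (ρ - bc (Localization.AtPrime p.asIdeal) lamA ρ) := by
      rw [smul_mul_assoc, one_mul]
    rw [h1, h5]
    exact (hunitS t).mul hρ
  obtain ⟨w, hw⟩ := hd1.exists_right_inv
  obtain ⟨⟨r', t'⟩, hrt'⟩ := IsLocalizedModule.surj p.asIdeal.primeCompl f w
  simp only at hrt'
  have h2 : f (d * r') = f ((t' : S) • (1 : R)) := by
    rw [hfx, hfx]
    have : (1 : Localization.AtPrime p.asIdeal) ⊗ₜ[S] (d * r') = ((1 : Localization.AtPrime p.asIdeal) ⊗ₜ[S] d) * ((1 : Localization.AtPrime p.asIdeal) ⊗ₜ[S] r') := by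
      rw [Algebra.TensorProduct.tmul_mul_tmul, one_mul]
    rw [this, ← hfx r', ← hrt', Submonoid.smul_def, mul_smul_comm, hw, TensorProduct.tmul_smul]
    rfl
  obtain ⟨u, hu⟩ := IsLocalizedModule.exists_of_eq (S := p.asIdeal.primeCompl) h2
  rw [Submonoid.smul_def, Submonoid.smul_def] at hu
  -- the element `s`
  refine ⟨(u : S) * (t' : S), fun hmem => ?_, ?_⟩
  · rcases p.isPrime.mem_or_mem hmem with h | h
    · exact u.2 h
    · exact t'.2 h
  obtain ⟨s, hs⟩ : ∃ s : S, s = (u : S) * (t' : S) := ⟨_, rfl⟩
  rw [← hs]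
  have hfixs : RInv.IsFixedRing (Localization.Away s) (Localization.Away s ⊗[S] R) (bc (Localization.Away s) lamA) :=
    Groth.Agent.S15586.result S R (Localization.Away s) lamA hinvA hS' (Or.inl inferInstance)
  refine Groth.Agent.Lib.Helper78.RInvBasic.isQuadEtale_of_isUnit_sub (lam := bc (Localization.Away s) lamA)
    (bc_involutive (Localization.Away s) lamA hinvA) hfixs (r := (1 : Localization.Away s) ⊗ₜ[S] r) ?_
  rw [bc_tmul, hlamA, ← TensorProduct.tmul_sub, ← hd]
  have h3 : ((1 : Localization.Away s) ⊗ₜ[S] d) * ((1 : Localization.Away s) ⊗ₜ[S] ((u : S) • r')) =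
      s • (1 : Localization.Away s ⊗[S] R) := by
    rw [Algebra.TensorProduct.tmul_mul_tmul, one_mul, mul_smul_comm, hu, smul_smul, ← hs,
      TensorProduct.tmul_smul, Algebra.TensorProduct.one_def]
  have h4 : IsUnit (s • (1 : Localization.Away s ⊗[S] R)) := by
    have : s • (1 : Localization.Away s ⊗[S] R) =
        Algebra.TensorProduct.includeLeft (R := S) (S := S) (A := Localization.Away s) (B := R)
          (algebraMap S (Localization.Away s) s) := by
      rw [Algebra.TensorProduct.includeLeft_apply, Algebra.TensorProduct.one_def, TensorProduct.smul_tmul',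
        Algebra.algebraMap_eq_smul_one]
    rw [this]
    exact (IsLocalization.Away.algebraMap_isUnit s).map _
  rw [← h3] at h4
  exact isUnit_of_mul_isUnit_left h4

end Groth.Agent.S15575
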