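import Groth.Statements.S15577
import Mathlib
import Groth.Agent.Lib.Helper78.RInvLocal
import Groth.Agent.S15574

set_option autoImplicit false
universe u v
open RInv

namespace Groth.Agent.S15577

/-- Let `R` be a commutative ring with an involution `lam` whose fixed ring `S` is local. If `lam`
induces the identity on `R` modulo its Jacobson radical, then `R` is a local ring and is not a
quadratic etale `S`-algebra. -/
theorem result (S : Type u) (R : Type v) [CommRing S] [CommRing R]
    [Algebra S R] (lam : R ≃+* R) (hlam : Function.Involutive lam) (hS : RInv.IsFixedRing S R lam)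
    [IsLocalRing S] (h : ∀ r : R, lam r - r ∈ Ring.jacobson R) :
    IsLocalRing R ∧ ¬ RInv.IsQuadEtale S R := by
  classical
  have hnt : Nontrivial R := Groth.Agent.Lib.Helper78.RInvLocal.nontrivial_of_isFixedRing hS
  constructor
  · apply IsLocalRing.of_isUnit_or_isUnit_one_sub_self
    intro x
    have hfix : lam (x * lam x) = x * lam x := by rw [map_mul, hlam x]; ring
    obtain ⟨s, hs⟩ := Groth.Agent.Lib.Helper78.RInvBasic.exists_of_fixed hS hfix
    by_cases hu : IsUnit s
    · left
      have : IsUnit (x * lam x) := hs ▸ hu.map (algebraMap S R)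
      exact isUnit_of_mul_isUnit_left this
    · right
      have hsm : s ∈ IsLocalRing.maximalIdeal S := (IsLocalRing.mem_maximalIdeal s).mpr hu
      by_contra hnu
      obtain ⟨N, hN, hxN⟩ := exists_max_ideal_of_mem_nonunits (mem_nonunits_iff.mpr hnu)
      have hmem := Groth.Agent.Lib.Helper78.RInvLocal.algebraMap_mem_of_isMaximal hlam hS N hN hsm
      rw [hs] at hmem
      have hJN : Ring.jacobson R ≤ N := by
        rw [Ring.jacobson_eq_sInf_isMaximal]; exact sInf_le hN
      have hx : x ∈ N := by
        rcases hN.isPrime.mem_or_mem hmem with h' | h'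
        · exact h'
        · have : x = lam x - (lam x - x) := by ring
          rw [this]; exact N.sub_mem h' (hJN (h x))
      have : (1 : R) ∈ N := by
        have h1 : (1 : R) = (1 - x) + x := by ring
        rw [h1]; exact N.add_mem hxN hx
      exact hN.ne_top ((Ideal.eq_top_iff_one _).mpr this)
  · intro hq
    obtain ⟨r, hr⟩ := Groth.Agent.S15574.result S R lam hlam hS hq
    obtain ⟨N, hN⟩ := Ideal.exists_maximal R
    have hJN : Ring.jacobson R ≤ N := by
      rw [Ring.jacobson_eq_sInf_isMaximal]; exact sInf_le hN
    have h1 : r - lam r ∈ N := by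
      have : r - lam r = -(lam r - r) := by ring
      rw [this]; exact N.neg_mem (hJN (h r))
    exact hN.ne_top (Ideal.eq_top_of_isUnit_mem _ h1 hr)

end Groth.Agent.S15577
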