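import Groth.Statements.S15579
import Mathlib

set_option autoImplicit false
universe u v
open RInv

namespace Groth.Agent.S15579

/-- For a local ring `S` with maximal ideal `m` and a quadratic etale `S`-algebra `R`, the Jacobson
radical of `R` is `mR`. -/
theorem result (S : Type u) (R : Type v) [CommRing S]
    [CommRing R] [Algebra S R] [IsLocalRing S] (hq : RInv.IsQuadEtale S R) :
    Ring.jacobson R = (IsLocalRing.maximalIdeal S).map (algebraMap S R) := by
  obtain ⟨hfin, hproj, hunr, hrk⟩ := hq
  set m := IsLocalRing.maximalIdeal S with hm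
  apply le_antisymm
  · letI hfield : Field (S ⧸ m) := Ideal.Quotient.field m
    have h2 : Algebra.FormallyUnramified (S ⧸ m) (R ⧸ m.map (algebraMap S R)) := inferInstance
    have h3 : Module.Finite (S ⧸ m) (R ⧸ m.map (algebraMap S R)) :=
      Module.Finite.of_restrictScalars_finite S _ _
    have h4 : IsReduced (R ⧸ m.map (algebraMap S R)) :=
      Algebra.FormallyUnramified.isReduced_of_field (S ⧸ m) _
    have h5 : IsArtinianRing (R ⧸ m.map (algebraMap S R)) := IsArtinianRing.of_finite (S ⧸ m) _
    have h6 : Ideal.jacobson (⊥ : Ideal (R ⧸ m.map (algebraMap S R))) = ⊥ := by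
      rw [IsArtinianRing.jacobson_eq_radical]
      exact nilradical_eq_zero _
    have h7 : (m.map (algebraMap S R)).jacobson = m.map (algebraMap S R) :=
      Ideal.jacobson_eq_iff_jacobson_quotient_eq_bot.mpr h6
    calc Ring.jacobson R = Ideal.jacobson ⊥ := Ideal.jacobson_bot.symm
      _ ≤ (m.map (algebraMap S R)).jacobson := Ideal.jacobson_mono bot_le
      _ = _ := h7
  · rw [Ring.jacobson_eq_sInf_isMaximal, le_sInf_iff]
    intro n hn
    have hn' : n.IsMaximal := hn
    have hint : Algebra.IsIntegral S R := Algebra.IsIntegral.of_finite S R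
    have hc : (n.comap (algebraMap S R)).IsMaximal := Ideal.isMaximal_comap_of_isIntegral_of_isMaximal n
    have hcm : n.comap (algebraMap S R) = m := IsLocalRing.eq_maximalIdeal hc
    rw [Ideal.map_le_iff_le_comap, hcm]

end Groth.Agent.S15579
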