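import Groth.Statements.S15580
import Mathlib
import Groth.Agent.Lib.Helper78.RInvLocal
import Groth.Agent.S15574

set_option autoImplicit false
universe u v
open RInv

namespace Groth.Agent.S15580

/-- Let `S` be a local ring, `R` a quadratic etale `S`-algebra and `lam` an involution of `R` with fixed
ring `S`. Then every unit `r` of `R` with `lam r * r = 1` can be written `a⁻¹ * lam a` for a unit
`a` of `R`. -/
theorem result (S : Type u) (R : Type v) [CommRing S] [CommRing R]
    [Algebra S R] (lam : R ≃+* R) (hlam : Function.Involutive lam) (hS : RInv.IsFixedRing S R lam)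
    [IsLocalRing S] (hq : RInv.IsQuadEtale S R) (r : Rˣ) (hr : lam r * r = 1) :
    ∃ a : Rˣ, (r : R) = (a⁻¹ : Rˣ) * lam a := by
  classical
  have hnt : Nontrivial R := Groth.Agent.Lib.Helper78.RInvLocal.nontrivial_of_isFixedRing hS
  obtain ⟨r₀, hr₀⟩ := Groth.Agent.S15574.result S R lam hlam hS hq
  have hr' : (r : R) * lam r = 1 := by rw [mul_comm]; exact hr
  -- `a x = x + lam x * lam r` satisfies `lam (a x) = r * a x`
  have hla : ∀ x : R, lam (x + lam x * lam r) = r * (x + lam x * lam r) := by
    intro x
    rw [map_add, map_mul, hlam x, hlam (r : R)]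
    have : (r : R) * (x + lam x * lam r) = r * x + lam x * ((r : R) * lam r) := by ring
    rw [this, hr']; ring
  -- each `a x` is a unit or lies in the Jacobson radical
  have hdich : ∀ x : R, IsUnit (x + lam x * lam r) ∨ (x + lam x * lam r) ∈ Ring.jacobson R := by
    intro x
    set a := x + lam x * lam r with ha
    have hfix : lam (a * lam a) = a * lam a := by rw [map_mul, hlam a]; ring
    obtain ⟨s, hs⟩ := Groth.Agent.Lib.Helper78.RInvBasic.exists_of_fixed hS hfix
    by_cases hu : IsUnit s
    · left
      have : IsUnit (a * lam a) := hs ▸ hu.map (algebraMap S R)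
      exact isUnit_of_mul_isUnit_left this
    · right
      have hsm : s ∈ IsLocalRing.maximalIdeal S := (IsLocalRing.mem_maximalIdeal s).mpr hu
      rw [Ring.jacobson_eq_sInf_isMaximal, Ideal.mem_sInf]
      intro N hN
      have hmem := Groth.Agent.Lib.Helper78.RInvLocal.algebraMap_mem_of_isMaximal hlam hS N hN hsm
      rw [hs, hla x, ← ha] at hmem
      -- `a * (r * a) ∈ N`
      rcases hN.isPrime.mem_or_mem hmem with h | h
      · exact h
      · rcases hN.isPrime.mem_or_mem h with h' | h'
        · exact absurd (Ideal.eq_top_of_isUnit_mem _ h' r.isUnit) hN.ne_top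
        · exact h'
  -- one of `a 1`, `a r₀` is a unit
  have hex : ∃ x : R, IsUnit (x + lam x * lam r) := by
    by_contra hno
    have hno' : ∀ x : R, ¬ IsUnit (x + lam x * lam r) := by simpa [not_exists] using hno
    have h1 := (hdich 1).resolve_left (hno' 1)
    have h2 := (hdich r₀).resolve_left (hno' r₀)
    obtain ⟨N, hN⟩ := Ideal.exists_maximal R
    have hJN : Ring.jacobson R ≤ N := by
      rw [Ring.jacobson_eq_sInf_isMaximal]; exact sInf_le hN
    have h1' := hJN h1
    have h2' := hJN h2
    rw [map_one, one_mul] at h1'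
    have h3 : r₀ - lam r₀ ∈ N := by
      have : r₀ - lam r₀ = (r₀ + lam r₀ * lam r) - lam r₀ * (1 + lam r) := by ring
      rw [this]
      exact N.sub_mem h2' (N.mul_mem_left _ h1')
    exact hN.ne_top (Ideal.eq_top_of_isUnit_mem _ h3 hr₀)
  obtain ⟨x, hx⟩ := hex
  obtain ⟨a, ha⟩ := hx
  refine ⟨a, ?_⟩
  have h4 : lam (a : R) = r * a := by rw [ha]; exact hla x
  rw [h4]
  have : ((a⁻¹ : Rˣ) : R) * ((r : R) * a) = r * (((a⁻¹ : Rˣ) : R) * a) := by ring
  rw [this, Units.inv_mul, mul_one]

end Groth.Agent.S15580
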