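import Groth.Statements.S15581
import Groth.Agent.Lib.Helper78.RInvLocal

set_option autoImplicit false
universe u v
open RInv

namespace Groth.Agent.S15581

/-- Let `A` be a commutative ring with an involution `lam` whose fixed ring `B` is local with `2`
invertible. Then `Jac(A)^2 ⊆ Jac(B) A`. -/
theorem result (B : Type u) (A : Type v) [CommRing B]
    [CommRing A] [Algebra B A] (lam : A ≃+* A) (hlam : Function.Involutive lam)
    (hB : RInv.IsFixedRing B A lam) [IsLocalRing B] (h2 : IsUnit (2 : B)) :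
    (Ring.jacobson A) ^ 2 ≤ (IsLocalRing.maximalIdeal B).map (algebraMap B A) := by
  have hnt : Nontrivial A := Groth.Agent.Lib.Helper78.RInvLocal.nontrivial_of_isFixedRing hB
  obtain ⟨u, hu⟩ := h2
  set I := (IsLocalRing.maximalIdeal B).map (algebraMap B A) with hI
  -- invariant elements of the radical lie in I
  have hinv : ∀ x : A, x ∈ Ring.jacobson A → lam x = x → x ∈ I := by
    intro x hx hfix
    obtain ⟨s, rfl⟩ := Groth.Agent.Lib.Helper78.RInvBasic.exists_of_fixed hB hfix
    exact Ideal.mem_map_of_mem _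
      (Groth.Agent.Lib.Helper78.RInvLocal.mem_maximalIdeal_of_algebraMap_mem_jacobson hx)
  have h2A : (algebraMap B A (u : B)) = 2 := by rw [hu]; exact map_ofNat _ 2
  have hinvA : algebraMap B A ((u⁻¹ : Bˣ) : B) * 2 = 1 := by
    rw [← h2A, ← map_mul, Units.inv_mul, map_one]
  rw [pow_two, Ideal.mul_le]
  intro a ha a' ha'
  have hla := Groth.Agent.Lib.Helper78.RInvLocal.lam_mem_jacobson lam ha
  have hla' := Groth.Agent.Lib.Helper78.RInvLocal.lam_mem_jacobson lam ha'
  -- symmetric and antisymmetric parts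
  have hs : a + lam a ∈ I := hinv _ (Ideal.add_mem _ ha hla) (by rw [map_add, hlam a]; ring)
  have hs' : a' + lam a' ∈ I := hinv _ (Ideal.add_mem _ ha' hla') (by rw [map_add, hlam a']; ring)
  have hxx : (a - lam a) * (a' - lam a') ∈ I :=
    hinv _ (Ideal.mul_mem_right _ _ (Ideal.sub_mem _ ha hla))
      (by rw [map_mul, map_sub, map_sub, hlam a, hlam a']; ring)
  have key : a * a' = algebraMap B A ((u⁻¹ : Bˣ) : B) * algebraMap B A ((u⁻¹ : Bˣ) : B) *
      ((a + lam a) * (a' + lam a') + (a + lam a) * (a' - lam a') + (a' + lam a') * (a - lam a) +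
        (a - lam a) * (a' - lam a')) := by
    have h4 : algebraMap B A ((u⁻¹ : Bˣ) : B) * algebraMap B A ((u⁻¹ : Bˣ) : B) * 4 = 1 := by
      have : (4 : A) = 2 * 2 := by norm_num
      rw [this]
      calc algebraMap B A ((u⁻¹ : Bˣ) : B) * algebraMap B A ((u⁻¹ : Bˣ) : B) * (2 * 2)
          = (algebraMap B A ((u⁻¹ : Bˣ) : B) * 2) * (algebraMap B A ((u⁻¹ : Bˣ) : B) * 2) := by ring
        _ = 1 := by rw [hinvA, one_mul]
    have : (a + lam a) * (a' + lam a') + (a + lam a) * (a' - lam a') + (a' + lam a') * (a - lam a) +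
        (a - lam a) * (a' - lam a') = 4 * (a * a') := by ring
    rw [this, ← mul_assoc, h4, one_mul]
  rw [key]
  apply Ideal.mul_mem_left
  refine Ideal.add_mem _ (Ideal.add_mem _ (Ideal.add_mem _ ?_ ?_) ?_) hxx
  · exact Ideal.mul_mem_right _ _ hs
  · exact Ideal.mul_mem_right _ _ hs
  · exact Ideal.mul_mem_right _ _ hs'

end Groth.Agent.S15581
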