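import Groth.Statements.S15584
import Mathlib
import Groth.Agent.Lib.Helper52.SkewBlocks

set_option autoImplicit false
universe u v
open RInv

namespace Groth.Agent.S15584

/-- Let `A` be a commutative ring with an involution `lam` whose fixed ring `B` is local; assume `lam`
is the identity modulo the Jacobson radical of `A`, that `2` is invertible in `A`, and that `h` is
an invertible `n × n` matrix with `h = -(lam h)ᵀ`. Then `n` is even and there is an invertible `v`
such that `(lam v)ᵀ h v` is a block sum of `2 × 2` blocks on the index pairs `{2k, 2k+1}`, each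
congruent to `[[0,1],[-1,0]]` modulo the Jacobson radical. (The published statement writes the
congruence with the plain transpose `vᵀ h v`; its proof computes the Gram matrix of the hermitian
form `(x, y) ↦ (lam x)ᵀ h y` in a new basis, which is `(lam v)ᵀ h v`, and that is what is stated
here.) -/
theorem result (B : Type u) (A : Type v) [CommRing B] [CommRing A]
    [Algebra B A] (lam : A ≃+* A) (hlam : Function.Involutive lam) (hB : RInv.IsFixedRing B A lam)
    [IsLocalRing B] (n : ℕ) (hid : ∀ a : A, lam a - a ∈ Ring.jacobson A) (h2 : IsUnit (2 : A))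
    (h : Matrix (Fin n) (Fin n) A) (hh : IsUnit h) (herm : -(h.map lam).transpose = h) :
    Even n ∧ ∃ v : Matrix (Fin n) (Fin n) A, IsUnit v ∧
      ∀ i j : Fin n,
        (i.val / 2 ≠ j.val / 2 → ((v.map lam).transpose * h * v) i j = 0) ∧
        (i.val / 2 = j.val / 2 → (Even i.val ↔ Even j.val) →
          ((v.map lam).transpose * h * v) i j ∈ Ring.jacobson A) ∧
        (i.val / 2 = j.val / 2 → Even i.val → ¬ Even j.val →
          ((v.map lam).transpose * h * v) i j - 1 ∈ Ring.jacobson A) ∧
        (i.val / 2 = j.val / 2 → ¬ Even i.val → Even j.val →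
          ((v.map lam).transpose * h * v) i j + 1 ∈ Ring.jacobson A) := by
  classical
  haveI : Nontrivial A := hB.1.nontrivial
  obtain ⟨h₂, hh₂⟩ := h2.exists_left_inv
  have hlh₂ : lam h₂ = h₂ :=
    Groth.Agent.Lib.Helper52.SkewStd.fixed_half (lam : A →+* A) hh₂
  have key : ∀ (u j : A), IsUnit u → j ∈ Ring.jacobson A → IsUnit (u + j) := by
    intro u j hu hj
    rw [← Ideal.jacobson_bot, Ideal.mem_jacobson_bot] at hj
    obtain ⟨ui, hui⟩ := hu.exists_right_inv
    have h1 := hj ui
    have e : u + j = u * (j * ui + 1) := by linear_combination (-j) * hui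
    rw [e]
    exact hu.mul h1
  have hlocal : IsLocalRing A := by
    apply IsLocalRing.of_isUnit_or_isUnit_one_sub_self
    intro x
    have hfixp : lam ((x + lam x) * h₂) = (x + lam x) * h₂ := by
      rw [map_mul, map_add, hlam x, hlh₂, add_comm]
    obtain ⟨b, hb⟩ := (hB.2 _).mp hfixp
    have hj : x - (x + lam x) * h₂ ∈ Ring.jacobson A := by
      have : x - (x + lam x) * h₂ = (lam x - x) * (-h₂) := by linear_combination (-x) * hh₂
      rw [this]
      exact Ideal.mul_mem_right _ _ (hid x)
    rcases IsLocalRing.isUnit_or_isUnit_one_sub_self b with hbu | hbu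
    · left
      have : x = algebraMap B A b + (x - (x + lam x) * h₂) := by rw [hb]; ring
      rw [this]
      exact key _ _ (hbu.map _) hj
    · right
      have : 1 - x = algebraMap B A (1 - b) + -(x - (x + lam x) * h₂) := by
        rw [map_sub, map_one, hb]; ring
      rw [this]
      exact key _ _ (hbu.map _) ((Ring.jacobson A).neg_mem hj)
  haveI := hlocal
  have hJ : Ring.jacobson A = IsLocalRing.maximalIdeal A :=
    IsLocalRing.ringJacobson_eq_maximalIdeal A
  have hφ : ∀ a, (lam : A →+* A) ((lam : A →+* A) a) = a := hlam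
  have hm : ∀ a, (lam : A →+* A) a - a ∈ IsLocalRing.maximalIdeal A := fun a => hJ ▸ hid a
  have hherm : Groth.Agent.Lib.Helper86.Herm.Herm (lam : A →+* A) (-1) h := by
    unfold Groth.Agent.Lib.Helper86.Herm.Herm
    rw [neg_smul, one_smul]
    exact herm
  obtain ⟨hev, W, ⟨Q, hQ, hQV⟩, cond⟩ :=
    Groth.Agent.Lib.Helper52.SkewBlocks.skew_blocks (lam : A →+* A) hφ h₂ hh₂ hm n h hh hherm
  refine ⟨hev, Q, hQ, ?_⟩
  intro i j
  have h3 : (Q.map lam).transpose * h * Q = W := hQV
  rw [h3, hJ]
  exact cond i j

end Groth.Agent.S15584
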