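import Groth.Statements.S15585
import Mathlib

set_option autoImplicit false
universe u v
open RInv

namespace Groth.Agent.S15585

/-- a reduced two-dimensional algebra over a field is a field or `K × K` -/
theorem isField_or_equiv_prod (K : Type*) (A : Type*) [Field K] [CommRing A] [Algebra K A]
    (h2 : Module.finrank K A = 2) [IsReduced A] :
    IsField A ∨ Nonempty (A ≃ₐ[K] (K × K)) := by
  classical
  have hfin : Module.Finite K A := Module.finite_of_finrank_pos (by omega)
  have hnt : Nontrivial A := Module.nontrivial_of_finrank_pos (R := K) (by omega)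
  by_cases hF : IsField A
  · exact Or.inl hF
  right
  -- a non-zero non-unit
  obtain ⟨x, hx0, hxu⟩ : ∃ x : A, x ≠ 0 ∧ ¬ IsUnit x := by
    by_contra hno
    apply hF
    refine ⟨exists_pair_ne A, mul_comm, ?_⟩
    intro a ha
    have : IsUnit a := by
      by_contra hau
      exact hno ⟨a, ha, hau⟩
    obtain ⟨u, rfl⟩ := this
    exact ⟨(u⁻¹ : Aˣ), u.mul_inv⟩
  have hinj : Function.Injective (algebraMap K A) := (algebraMap K A).injective
  have hxK : ∀ c : K, x ≠ algebraMap K A c := by
    rintro c rfl
    have hc : c ≠ 0 := by rintro rfl; exact hx0 (map_zero _)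
    exact hxu ((isUnit_iff_ne_zero.mpr hc).map (algebraMap K A))
  have hli : LinearIndependent K ![(1 : A), x] := by
    rw [LinearIndependent.pair_iff]
    intro s t hst
    by_cases ht : t = 0
    · subst ht
      rw [zero_smul, add_zero, ← Algebra.algebraMap_eq_smul_one] at hst
      exact ⟨hinj (hst.trans (map_zero _).symm), rfl⟩
    · exfalso
      apply hxK (-(t⁻¹ * s))
      have h1 : t • x = -(s • (1 : A)) := by rw [eq_neg_iff_add_eq_zero, add_comm]; exact hst
      have h3 : x = t⁻¹ • (t • x) := by rw [smul_smul, inv_mul_cancel₀ ht, one_smul]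
      rw [h3, h1, smul_neg, smul_smul, map_neg, Algebra.algebraMap_eq_smul_one]
  have hspan : Submodule.span K (Set.range ![(1 : A), x]) = ⊤ :=
    hli.span_eq_top_of_card_eq_finrank' (by rw [h2]; rfl)
  have hsq : x * x ∈ Submodule.span K (Set.range ![(1 : A), x]) := by rw [hspan]; exact Submodule.mem_top
  rw [Matrix.range_cons, Matrix.range_cons, Matrix.range_empty, Set.union_empty,
    ← Set.insert_eq, Submodule.mem_span_pair] at hsq
  obtain ⟨a, b, hab⟩ := hsq
  have ha0 : a = 0 := by
    by_contra ha
    apply hxu
    have h1 : x * (x - b • 1) = algebraMap K A a := by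
      rw [Algebra.algebraMap_eq_smul_one, mul_sub, ← hab, mul_smul_comm, mul_one]; abel
    have : IsUnit (x * (x - b • 1)) := h1 ▸ (isUnit_iff_ne_zero.mpr ha).map (algebraMap K A)
    exact isUnit_of_mul_isUnit_left this
  subst ha0
  rw [zero_smul, zero_add] at hab
  have hb0 : b ≠ 0 := by
    rintro rfl
    rw [zero_smul] at hab
    exact hx0 (IsReduced.eq_zero x ⟨2, by rw [pow_two]; exact hab.symm⟩)
  set e : A := b⁻¹ • x with he
  have hee : e * e = e := by
    rw [he, smul_mul_smul_comm, ← hab, smul_smul, mul_assoc, inv_mul_cancel₀ hb0, mul_one]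
  have he0 : e ≠ 0 := by
    intro h0
    apply hx0
    have : x = b • e := by rw [he, smul_smul, mul_inv_cancel₀ hb0, one_smul]
    rw [this, h0, smul_zero]
  have he1 : e ≠ 1 := by
    intro h1
    apply hxK b
    have : x = b • e := by rw [he, smul_smul, mul_inv_cancel₀ hb0, one_smul]
    rw [this, h1, Algebra.algebraMap_eq_smul_one]
  let f : (K × K) →ₗ[K] A :=
    (LinearMap.fst K K K).smulRight (1 - e) + (LinearMap.snd K K K).smulRight e
  have hf : ∀ y : K × K, f y = algebraMap K A y.1 * (1 - e) + algebraMap K A y.2 * e := by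
    intro y
    simp only [f, LinearMap.add_apply, LinearMap.smulRight_apply, LinearMap.fst_apply,
      LinearMap.snd_apply, Algebra.smul_def]
  let ψ : (K × K) →ₐ[K] A := AlgHom.ofLinearMap f
    (by rw [hf]; simp)
    (by
      intro y z
      rw [hf, hf, hf, Prod.fst_mul, Prod.snd_mul, map_mul, map_mul]
      linear_combination (-(algebraMap K A y.1 * algebraMap K A z.1) + algebraMap K A y.1 * algebraMap K A z.2
        + algebraMap K A y.2 * algebraMap K A z.1 - algebraMap K A y.2 * algebraMap K A z.2) * hee)
  have hψinj : Function.Injective ψ := by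
    rw [injective_iff_map_eq_zero]
    intro y hy
    have hy' : algebraMap K A y.1 * (1 - e) + algebraMap K A y.2 * e = 0 := by
      rw [← hf]; exact hy
    have h1 : algebraMap K A y.2 * e = 0 := by
      have := congrArg (· * e) hy'
      simp only [zero_mul] at this
      linear_combination this + (algebraMap K A y.1 - algebraMap K A y.2) * hee
    have h2 : algebraMap K A y.1 * (1 - e) = 0 := by rw [h1, add_zero] at hy'; exact hy'
    have hy2 : y.2 = 0 := by
      by_contra hne
      apply he0
      have hu := (isUnit_iff_ne_zero.mpr hne).map (algebraMap K A)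
      exact hu.mul_right_eq_zero.mp h1
    have hy1 : y.1 = 0 := by
      by_contra hne
      apply he1
      have hu := (isUnit_iff_ne_zero.mpr hne).map (algebraMap K A)
      have := hu.mul_right_eq_zero.mp h2
      exact (sub_eq_zero.mp this).symm
    exact Prod.ext hy1 hy2
  have hfr : Module.finrank K (K × K) = Module.finrank K A := by
    rw [h2, Module.finrank_prod, Module.finrank_self]
  have hψsurj : Function.Surjective ψ :=
    (LinearMap.injective_iff_surjective_of_finrank_eq_finrank (f := ψ.toLinearMap) hfr).mp hψinj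
  exact ⟨(AlgEquiv.ofBijective ψ ⟨hψinj, hψsurj⟩).symm⟩

end Groth.Agent.S15585

namespace Groth.Agent.S15585

/-- For a local ring `S` (maximal ideal `m`, residue field `k`) and a quadratic etale `S`-algebra `R`,
the ring `R/mR` is a field that is a separable extension of `k` of degree 2, or else it is
isomorphic as a `k`-algebra to `k × k`. -/
theorem result (S : Type u) (R : Type v) [CommRing S]
    [CommRing R] [Algebra S R] [IsLocalRing S] (hq : RInv.IsQuadEtale S R) :
    (IsField (R ⧸ (IsLocalRing.maximalIdeal S).map (algebraMap S R)) ∧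
      Module.finrank (S ⧸ IsLocalRing.maximalIdeal S)
        (R ⧸ (IsLocalRing.maximalIdeal S).map (algebraMap S R)) = 2 ∧
      Algebra.IsSeparable (S ⧸ IsLocalRing.maximalIdeal S)
        (R ⧸ (IsLocalRing.maximalIdeal S).map (algebraMap S R))) ∨
    Nonempty ((R ⧸ (IsLocalRing.maximalIdeal S).map (algebraMap S R)) ≃ₐ[S ⧸ IsLocalRing.maximalIdeal S]
      ((S ⧸ IsLocalRing.maximalIdeal S) × (S ⧸ IsLocalRing.maximalIdeal S))) := by
  obtain ⟨hfin, hproj, hunr, hrk⟩ := hq
  set m := IsLocalRing.maximalIdeal S with hm
  let hfield : Field (S ⧸ m) := Ideal.Quotient.field m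
  have hfree : Module.Free S R := Module.free_of_flat_of_isLocalRing
  have hfr : Module.finrank S R = 2 := by
    have h1 := congrFun (Module.rankAtStalk_eq_finrank_of_free (R := S) (M := R)) (IsLocalRing.closedPoint S)
    rw [hrk] at h1
    exact_mod_cast h1.symm
  have h2 : Module.finrank (S ⧸ m) (R ⧸ m.map (algebraMap S R)) = 2 := by
    rw [IsLocalRing.finrank_quotient_map, hfr]
  have h3 : Algebra.FormallyUnramified (S ⧸ m) (R ⧸ m.map (algebraMap S R)) := inferInstance
  have h4 : Module.Finite (S ⧸ m) (R ⧸ m.map (algebraMap S R)) :=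
    Module.Finite.of_restrictScalars_finite S _ _
  have h5 : IsReduced (R ⧸ m.map (algebraMap S R)) :=
    Algebra.FormallyUnramified.isReduced_of_field (S ⧸ m) _
  rcases isField_or_equiv_prod (S ⧸ m) (R ⧸ m.map (algebraMap S R)) h2 with hF | hE
  · left
    refine ⟨hF, h2, ?_⟩
    letI : Field (R ⧸ m.map (algebraMap S R)) := hF.toField
    exact Algebra.FormallyUnramified.isSeparable (S ⧸ m) (R ⧸ m.map (algebraMap S R))
  · right
    exact hE

end Groth.Agent.S15585
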