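import Groth.Statements.S15587
import Mathlib
import Groth.Agent.Lib.Helper45.RInvBranch

set_option autoImplicit false
universe u v
open scoped TensorProduct
open RInv

namespace Groth.Agent.S15587

/-- (b) ⇔ (d): let `R` be a commutative ring with an involution `lam` and fixed ring `S`, so that `Spec
R → Spec S` is a good quotient by the involution, and let `p` be a prime of `S`. Then `p` is a
branch point, i.e. the localisation `S_p ⊗_S R` is not quadratic etale over `S_p`, if and only if
exactly one prime `q` of `R` lies over `p` and `lam` induces the identity on the residue field of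
`q` (equivalently `lam r - r ∈ q` for all `r`). This is the affine-local form of the statement for a
good quotient of schemes, to which the general case reduces since such quotients are affine
morphisms. -/
theorem result (S : Type u) (R : Type v) [CommRing S] [CommRing R]
    [Algebra S R] (lam : R ≃+* R) (hlam : Function.Involutive lam) (hS : RInv.IsFixedRing S R lam)
    (p : PrimeSpectrum S) :
    ¬ RInv.IsQuadEtale (Localization.AtPrime p.asIdeal) (Localization.AtPrime p.asIdeal ⊗[S] R) ↔
      ∃ q : PrimeSpectrum R, q.asIdeal.comap (algebraMap S R) = p.asIdeal ∧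
        (∀ q' : PrimeSpectrum R, q'.asIdeal.comap (algebraMap S R) = p.asIdeal → q' = q) ∧
        ∀ r : R, lam r - r ∈ q.asIdeal := by
  classical
  have hint := Groth.Agent.Lib.Helper45.RInvBranch.isIntegral hlam hS
  constructor
  · intro hp
    have hker : (⊥ : Ideal R).comap (algebraMap S R) ≤ p.asIdeal := by
      rw [← RingHom.ker_eq_comap_bot, (RingHom.injective_iff_ker_eq_bot _).mp hS.1]; exact bot_le
    obtain ⟨Q, -, hQ, hQp⟩ := Ideal.exists_ideal_over_prime_of_isIntegral p.asIdeal (⊥ : Ideal R) hker
    refine ⟨⟨Q, hQ⟩, hQp, ?_, ?_⟩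
    · intro q' hq'
      have := Groth.Agent.Lib.Helper45.RInvBranch.unique_over_of_not_qe hlam hS p hp Q q'.asIdeal hQp hq'
      exact PrimeSpectrum.ext this
    · intro r
      exact Groth.Agent.Lib.Helper45.RInvBranch.sub_mem_of_not_qe hlam hS p hp Q hQp.ge r
  · rintro ⟨q, hqp, -, hq⟩ hqe
    obtain ⟨r, r', s, hs, h⟩ := Groth.Agent.Lib.Helper45.RInvBranch.witness_of_qe_at hlam hS p hqe
    apply hs
    rw [← hqp, Ideal.mem_comap, ← h]
    apply Ideal.mul_mem_right
    have : r - lam r = -(lam r - r) := by ring
    rw [this]; exact q.asIdeal.neg_mem (hq r)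

end Groth.Agent.S15587
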