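import Groth.Statements.S15588
import Mathlib
import Groth.Agent.Lib.Helper45.RInvBranch

set_option autoImplicit false
universe u v
open scoped TensorProduct
open RInv

namespace Groth.Agent.S15588

/-- Let `R` be a commutative ring with an involution `lam` and fixed ring `S`, let `W ⊆ Spec S` be the
branch locus (the primes `p` with `S_p ⊗_S R` not quadratic etale over `S_p`) and `I` its vanishing
ideal. Then `lam` is the identity on `R/rad(IR)`, i.e. on the reduced closed subscheme `π⁻¹(W)` of
`Spec R`: `lam r - r ∈ rad(IR)` for all `r`. Affine-local form of the statement for a good quotient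
of schemes by an involution. -/
theorem result (S : Type u) (R : Type v) [CommRing S] [CommRing R]
    [Algebra S R] (lam : R ≃+* R) (hlam : Function.Involutive lam) (hS : RInv.IsFixedRing S R lam)
    (W : Set (PrimeSpectrum S))
    (hW : W = {p : PrimeSpectrum S | ¬ RInv.IsQuadEtale (Localization.AtPrime p.asIdeal) (Localization.AtPrime p.asIdeal ⊗[S] R)})
    (r : R) :
    lam r - r ∈ ((PrimeSpectrum.vanishingIdeal W).map (algebraMap S R)).radical := by
  classical
  set d := r - lam r with hd
  have hanti : lam d = -d := by rw [hd, map_sub, hlam r]; ring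
  have hfix : lam (d * d) = d * d := by rw [map_mul, hanti]; ring
  obtain ⟨s, hs⟩ := Groth.Agent.Lib.Helper78.RInvBasic.exists_of_fixed hS hfix
  have hsI : s ∈ PrimeSpectrum.vanishingIdeal W := by
    rw [PrimeSpectrum.mem_vanishingIdeal]
    intro p hpW
    rw [hW] at hpW
    by_contra hsp
    exact hpW ((Groth.Agent.Lib.Helper45.RInvBranch.qe_at_iff hlam hS p).mpr ⟨r, d, s, hsp, hs.symm⟩)
  have h1 : d ^ 2 ∈ (PrimeSpectrum.vanishingIdeal W).map (algebraMap S R) := by
    rw [pow_two, ← hs]; exact Ideal.mem_map_of_mem _ hsI
  have h2 : d ∈ ((PrimeSpectrum.vanishingIdeal W).map (algebraMap S R)).radical := ⟨2, h1⟩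
  have : lam r - r = -d := by rw [hd]; ring
  rw [this]; exact Submodule.neg_mem _ h2

end Groth.Agent.S15588
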