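import Groth.Statements.S15589
import Mathlib
import Groth.Agent.Lib.Helper45.RInvBranch
import Groth.Agent.S15588

set_option autoImplicit false
universe u v
open scoped TensorProduct
open RInv

namespace Groth.Agent.S15589

/-- Let `R` be a commutative ring with an involution `lam` and fixed ring `S`, `W ⊆ Spec S` the branch
locus (primes `p` with `S_p ⊗_S R` not quadratic etale over `S_p`), `I` its vanishing ideal and `J =
rad(IR)`. Then `Spec(R/J) → Spec(S/I)` is a homeomorphism; if `2` is a unit of `S`, the ring map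
`S/I → R/J` is moreover bijective, so the reduced preimage of the branch locus maps isomorphically
onto it. Affine-local form of the statement for a good quotient of schemes by an involution (the
hypothesis `I ≤ J ∩ S` holds automatically and only serves to write down the map). -/
theorem result (S : Type u) (R : Type v) [CommRing S] [CommRing R]
    [Algebra S R] (lam : R ≃+* R) (hlam : Function.Involutive lam) (hS : RInv.IsFixedRing S R lam)
    (W : Set (PrimeSpectrum S))
    (hW : W = {p : PrimeSpectrum S | ¬ RInv.IsQuadEtale (Localization.AtPrime p.asIdeal) (Localization.AtPrime p.asIdeal ⊗[S] R)})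
    (J : Ideal R) (hJ : J = ((PrimeSpectrum.vanishingIdeal W).map (algebraMap S R)).radical)
    (hIJ : PrimeSpectrum.vanishingIdeal W ≤ J.comap (algebraMap S R)) :
    IsHomeomorph (PrimeSpectrum.comap (Ideal.quotientMap J (algebraMap S R) hIJ)) ∧
      (IsUnit (2 : S) → Function.Bijective (Ideal.quotientMap J (algebraMap S R) hIJ)) := by
  classical
  have hint := Groth.Agent.Lib.Helper45.RInvBranch.isIntegral hlam hS
  set I := PrimeSpectrum.vanishingIdeal W with hI
  set φ := Ideal.quotientMap J (algebraMap S R) hIJ with hφ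
  -- primes containing `I` are branch points
  have hWmem : ∀ P : PrimeSpectrum S, I ≤ P.asIdeal → P ∈ W := by
    intro P hP
    rw [hW]
    intro hqe
    obtain ⟨r, r', s, hs, h⟩ := Groth.Agent.Lib.Helper45.RInvBranch.witness_of_qe_at hlam hS P hqe
    apply hs
    apply hP
    rw [hI, PrimeSpectrum.mem_vanishingIdeal]
    intro p hpW
    rw [hW] at hpW
    by_contra hsp
    exact hpW ((Groth.Agent.Lib.Helper45.RInvBranch.qe_at_iff hlam hS p).mpr ⟨r, r', s, hsp, h⟩)
  have hnotqe : ∀ P : PrimeSpectrum S, P ∈ W →
      ¬ RInv.IsQuadEtale (Localization.AtPrime P.asIdeal) (Localization.AtPrime P.asIdeal ⊗[S] R) := by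
    intro P hP; rw [hW] at hP; exact hP
  -- primes of `R` over a prime containing `I` contain `J`
  have hJle : ∀ (Q : Ideal R) [Q.IsPrime], I ≤ Q.comap (algebraMap S R) → J ≤ Q := by
    intro Q _ hQ
    rw [hJ, Ideal.IsPrime.radical_le_iff ‹_›, Ideal.map_le_iff_le_comap]
    exact hQ
  -- lying over
  have hlying : ∀ P : PrimeSpectrum S, ∃ Q : Ideal R, Q.IsPrime ∧ Q.comap (algebraMap S R) = P.asIdeal := by
    intro P
    have hker : (⊥ : Ideal R).comap (algebraMap S R) ≤ P.asIdeal := by
      rw [← RingHom.ker_eq_comap_bot, (RingHom.injective_iff_ker_eq_bot _).mp hS.1]; exact bot_le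
    obtain ⟨Q, -, hQ, hQp⟩ := Ideal.exists_ideal_over_prime_of_isIntegral P.asIdeal (⊥ : Ideal R) hker
    exact ⟨Q, hQ, hQp⟩
  have hcomm : φ.comp (Ideal.Quotient.mk I) = (Ideal.Quotient.mk J).comp (algebraMap S R) := by
    ext s; rfl
  have hφint : φ.IsIntegral := by
    have h1 : ((Ideal.Quotient.mk J).comp (algebraMap S R)).IsIntegral :=
      RingHom.IsIntegral.trans _ _ (algebraMap_isIntegral_iff.mpr hint)
        (RingHom.isIntegral_of_surjective _ Ideal.Quotient.mk_surjective)
    rw [← hcomm] at h1
    exact RingHom.IsIntegral.tower_top _ _ h1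
  constructor
  · rw [isHomeomorph_iff_continuous_isClosedMap_bijective]
    refine ⟨PrimeSpectrum.continuous_comap φ, PrimeSpectrum.isClosedMap_comap_of_isIntegral φ hφint, ?_, ?_⟩
    · -- injective
      intro q₁ q₂ h12
      set Q₁ : Ideal R := q₁.asIdeal.comap (Ideal.Quotient.mk J) with hQ₁
      set Q₂ : Ideal R := q₂.asIdeal.comap (Ideal.Quotient.mk J) with hQ₂
      set P : PrimeSpectrum S := PrimeSpectrum.comap (Ideal.Quotient.mk I) (PrimeSpectrum.comap φ q₁) with hP
      have hP₁ : Q₁.comap (algebraMap S R) = P.asIdeal := by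
        rw [hQ₁, hP, Ideal.comap_comap, ← hcomm]; rfl
      have hP₂ : Q₂.comap (algebraMap S R) = P.asIdeal := by
        rw [hQ₂, hP, h12, Ideal.comap_comap, ← hcomm]; rfl
      have hIP : I ≤ P.asIdeal := by
        intro x hx
        rw [hP]
        change Ideal.Quotient.mk I x ∈ (PrimeSpectrum.comap φ q₁).asIdeal
        rw [Ideal.Quotient.eq_zero_iff_mem.mpr hx]; exact Ideal.zero_mem _
      have hPW := hWmem P hIP
      have := Groth.Agent.Lib.Helper45.RInvBranch.unique_over_of_not_qe hlam hS P (hnotqe P hPW) Q₁ Q₂ hP₁ hP₂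
      apply PrimeSpectrum.ext
      have hinj := Ideal.comap_injective_of_surjective (Ideal.Quotient.mk J) Ideal.Quotient.mk_surjective
      exact hinj this.symm
    · -- surjective
      intro p'
      set P : PrimeSpectrum S := PrimeSpectrum.comap (Ideal.Quotient.mk I) p' with hP
      have hIP : I ≤ P.asIdeal := by
        intro x hx
        rw [hP]
        change Ideal.Quotient.mk I x ∈ p'.asIdeal
        rw [Ideal.Quotient.eq_zero_iff_mem.mpr hx]; exact Ideal.zero_mem _
      obtain ⟨Q, hQ, hQP⟩ := hlying P
      have hJQ : J ≤ Q := hJle Q (hQP ▸ hIP)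
      have hker : RingHom.ker (Ideal.Quotient.mk J) ≤ Q := by rw [Ideal.mk_ker]; exact hJQ
      have hq : (Q.map (Ideal.Quotient.mk J)).IsPrime :=
        Ideal.map_isPrime_of_surjective Ideal.Quotient.mk_surjective hker
      have hcm : (Q.map (Ideal.Quotient.mk J)).comap (Ideal.Quotient.mk J) = Q :=
        Ideal.comap_map_of_surjective' _ Ideal.Quotient.mk_surjective _ |>.trans (by
          rw [Ideal.mk_ker]; exact sup_eq_left.mpr hJQ)
      refine ⟨⟨Q.map (Ideal.Quotient.mk J), hq⟩, ?_⟩
      apply PrimeSpectrum.ext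
      have hinj := Ideal.comap_injective_of_surjective (Ideal.Quotient.mk I) Ideal.Quotient.mk_surjective
      apply hinj
      change ((Q.map (Ideal.Quotient.mk J)).comap φ).comap (Ideal.Quotient.mk I) = P.asIdeal
      rw [Ideal.comap_comap, hcomm, ← Ideal.comap_comap, hcm, hQP]
  · intro h2
    constructor
    · -- injective
      rw [injective_iff_map_eq_zero]
      intro x hx
      obtain ⟨s, rfl⟩ := Ideal.Quotient.mk_surjective x
      have hsJ : algebraMap S R s ∈ J := by
        rw [← Ideal.Quotient.eq_zero_iff_mem]; exact hx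
      rw [Ideal.Quotient.eq_zero_iff_mem, PrimeSpectrum.mem_vanishingIdeal]
      intro P hPW
      obtain ⟨Q, hQ, hQP⟩ := hlying P
      have hIP : I ≤ P.asIdeal := by
        intro y hy
        rw [hI, PrimeSpectrum.mem_vanishingIdeal] at hy
        exact hy P hPW
      have hJQ : J ≤ Q := hJle Q (hQP ▸ hIP)
      rw [← hQP, Ideal.mem_comap]
      exact hJQ hsJ
    · -- surjective
      intro y
      obtain ⟨r, rfl⟩ := Ideal.Quotient.mk_surjective y
      have htfix : lam (r + lam r) = r + lam r := by rw [map_add, hlam r]; ring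
      obtain ⟨t, ht⟩ := Groth.Agent.Lib.Helper78.RInvBasic.exists_of_fixed hS htfix
      obtain ⟨u, hu⟩ := h2
      refine ⟨Ideal.Quotient.mk I ((u⁻¹ : Sˣ) * t), ?_⟩
      change Ideal.Quotient.mk J (algebraMap S R ((u⁻¹ : Sˣ) * t)) = Ideal.Quotient.mk J r
      rw [Ideal.Quotient.eq, map_mul, ht]
      have h3 := Groth.Agent.S15588.result S R lam hlam hS W hW r
      rw [← hJ] at h3
      have h4 : algebraMap S R ((u⁻¹ : Sˣ) : S) * (r + lam r) - r =
          algebraMap S R ((u⁻¹ : Sˣ) : S) * (lam r - r) := by
        have h5 : algebraMap S R ((u⁻¹ : Sˣ) : S) * 2 = 1 := by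
          have : ((u⁻¹ : Sˣ) : S) * 2 = 1 := by rw [← hu, Units.inv_mul]
          have := congrArg (algebraMap S R) this
          rw [map_mul, map_one, map_ofNat] at this
          exact this
        linear_combination r * h5
      rw [h4]
      exact J.mul_mem_left _ h3

end Groth.Agent.S15589
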