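import Groth.Statements.S15590
import Mathlib
-- import your own Groth.Agent.* helpers here

set_option autoImplicit false
universe u v
open CAlg

namespace Groth.Agent.S15590

/-- Let A → B be an injective homomorphism of commutative rings which makes B a finite flat A-module,
and suppose B is a Dedekind domain (Noetherian, integrally closed, of Krull dimension at most one; a
field is allowed). Then A is a Dedekind domain. -/
theorem result (A : Type u) (B : Type v)
    [CommRing A] [CommRing B] [Algebra A B] [IsDedekindDomain B]
    (hinj : Function.Injective (algebraMap A B)) [Module.Finite A B] [Module.Flat A B] :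
    IsDedekindDomain A := by
  classical
  have hdomA : IsDomain A := hinj.isDomain (algebraMap A B)
  have hker : RingHom.ker (algebraMap A B) = ⊥ := (RingHom.injective_iff_ker_eq_bot _).1 hinj
  have hff : Module.FaithfullyFlat A B := by
    rw [Module.FaithfullyFlat.iff_flat_and_proper_ideal]
    refine ⟨inferInstance, fun I hI htop => ?_⟩
    obtain ⟨m, hm, hIm⟩ := I.exists_le_maximal hI
    obtain ⟨Q, hQ, hQm⟩ := Ideal.exists_ideal_over_maximal_of_isIntegral (S := B) m
      (by rw [hker]; exact bot_le)
    have h1 : (1 : B) ∈ (I • ⊤ : Submodule A B) := by rw [htop]; exact Submodule.mem_top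
    have hle : (I • ⊤ : Submodule A B) ≤ Q.restrictScalars A := by
      rw [Submodule.smul_le]
      intro a ha b _
      have h2 : a ∈ Q.comap (algebraMap A B) := hQm ▸ hIm ha
      have h3 : algebraMap A B a ∈ Q := h2
      show a • b ∈ Q
      rw [Algebra.smul_def]
      exact Q.mul_mem_right _ h3
    exact hQ.ne_top ((Ideal.eq_top_iff_one _).2 (hle h1))
  have hnoeth : IsNoetherianRing A := by
    rw [isNoetherianRing_iff, isNoetherian_iff']
    have hB : WellFoundedGT (Ideal B) := (isNoetherian_iff' (R := B) (M := B)).1 inferInstance
    have hmono : StrictMono (Ideal.map (algebraMap A B)) :=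
      Monotone.strictMono_of_injective (fun _ _ h => Ideal.map_mono h)
        Ideal.map_injective_of_faithfullyFlat
    exact hmono.wellFoundedGT
  have hdim : Ring.DimensionLEOne A := ⟨fun {p} hp0 hpp => by
    obtain ⟨Q, hQ, hQp⟩ := Ideal.exists_ideal_over_prime_of_isIntegral_of_isDomain (S := B) p
      (by rw [hker]; exact bot_le)
    have hQ0 : Q ≠ ⊥ := by
      rintro rfl
      apply hp0
      rw [← hQp]
      exact Ideal.comap_bot_of_injective _ hinj
    have hQmax : Q.IsMaximal := Ring.DimensionLEOne.maximalOfPrime hQ0 hQ
    rw [← hQp]
    exact Ideal.isMaximal_comap_of_isIntegral_of_isMaximal Q⟩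
  have hic : IsIntegrallyClosed A := by
    rw [isIntegrallyClosed_iff (FractionRing A)]
    intro x hx
    obtain ⟨a, b, hb, rfl⟩ := IsFractionRing.div_surjective (A := A) x
    have hb0 : b ≠ 0 := nonZeroDivisors.ne_zero hb
    let L := FractionRing B
    let g : A →+* L := (algebraMap B L).comp (algebraMap A B)
    have hg : Function.Injective g := (IsFractionRing.injective B L).comp hinj
    let ψ : FractionRing A →+* L := IsFractionRing.lift hg
    have hψ : ∀ c, ψ (algebraMap A (FractionRing A) c) = g c :=
      fun c => IsFractionRing.lift_algebraMap hg c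
    obtain ⟨p, hpm, hp⟩ := hx
    have hint : IsIntegral B (ψ (algebraMap A _ a / algebraMap A _ b)) := by
      refine ⟨p.map (algebraMap A B), hpm.map _, ?_⟩
      rw [Polynomial.eval₂_map]
      have h4 := congrArg ψ hp
      rw [Polynomial.hom_eval₂, map_zero] at h4
      have hcomp : ψ.comp (algebraMap A (FractionRing A)) = g := RingHom.ext hψ
      rw [hcomp] at h4
      exact h4
    obtain ⟨y, hy⟩ := IsIntegrallyClosed.algebraMap_eq_of_integral hint
    rw [map_div₀, hψ, hψ] at hy
    have hgb : g b ≠ 0 := fun h => hb0 (hg (by rw [h, map_zero]))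
    have hy' : algebraMap B L (y * algebraMap A B b) = algebraMap B L (algebraMap A B a) := by
      rw [map_mul, hy]; exact div_mul_cancel₀ _ hgb
    have hy'' : y * algebraMap A B b = algebraMap A B a := IsFractionRing.injective B L hy'
    have hmem : a ∈ (Ideal.span {b} : Ideal A) := by
      rw [← Ideal.comap_map_eq_self_of_faithfullyFlat (B := B) (Ideal.span {b}), Ideal.mem_comap,
        Ideal.map_span, Set.image_singleton, Ideal.mem_span_singleton']
      exact ⟨y, hy''⟩
    obtain ⟨c, hc⟩ := Ideal.mem_span_singleton'.1 hmem
    refine ⟨c, ?_⟩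
    have hbK : algebraMap A (FractionRing A) b ≠ 0 :=
      (map_ne_zero_iff _ (IsFractionRing.injective A _)).2 hb0
    rw [← hc, map_mul, mul_div_assoc, div_self hbK, mul_one]
  exact { toIsDomain := hdomA
          toIsDedekindRing := { toIsNoetherian := hnoeth
                                toDimensionLEOne := hdim
                                toIsIntegralClosure := hic } }

end Groth.Agent.S15590
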