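import Groth.Statements.S15593
import Groth.Agent.Lib.Helper23.GrpDominantFlat
import Groth.Agent.Lib.Helper69.ReducedSmoothLocal
set_option autoImplicit false
universe u
open CategoryTheory MonoidalCategory CartesianMonoidalCategory MonObj GrpObj AlgebraicGeometry
open AlgGrp

namespace Groth.Agent.S15593

/-- Let k be a field and f : G ⟶ G' a homomorphism of smooth k-group schemes of finite type. If f is
surjective (on underlying topological spaces) and has trivial kernel, that is, f is a monomorphism,
then f is an isomorphism. No flatness of f is assumed. -/
theorem result (k : Type u) [Field k]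
    (G G' : Over (Spec (CommRingCat.of k))) [GrpObj G] [GrpObj G']
    [Smooth G.hom] [QuasiCompact G.hom] [Smooth G'.hom] [QuasiCompact G'.hom]
    (f : G ⟶ G') [IsMonHom f] [Mono f] [Surjective f.left] : IsIso f := by
  haveI : IsReduced G'.left :=
    Groth.Agent.Lib.Helper69.ReducedSmoothLocal.isReduced_of_smooth G'.hom
  haveI : IsLocallyNoetherian G'.left := LocallyOfFiniteType.isLocallyNoetherian G'.hom
  haveI : CompactSpace G'.left := (quasiCompact_iff_compactSpace G'.hom).mp inferInstance
  haveI : IsNoetherian G'.left := {}
  haveI : QuasiSeparated G'.hom := (quasiSeparated_iff_quasiSeparatedSpace G'.hom).mpr inferInstance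
  haveI : QuasiCompact (f.left ≫ G'.hom) := by rw [Over.w f]; infer_instance
  haveI : QuasiCompact f.left := QuasiCompact.of_comp f.left G'.hom
  have hdense : DenseRange f.left.base := (Surjective.surj (f := f.left)).denseRange
  haveI : Flat f.left := Groth.Agent.Lib.Helper23.GrpDominantFlat.flat_of_dominant f hdense
  haveI : Mono f.left := inferInstance
  haveI : IsIso f.left := Flat.isIso_of_surjective_of_mono f.left
  haveI : IsIso ((Over.forget (Spec (CommRingCat.of k))).map f) := ‹IsIso f.left›
  exact isIso_of_reflects_iso f (Over.forget _)

end Groth.Agent.S15593
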