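import Groth.Statements.S15594
import Mathlib

set_option autoImplicit false
universe u
open TensorProduct
open AGF

namespace Groth.Agent.S15594

theorem sigmaK_tmul {k K A : Type u} [Field k] [Field K] [Algebra k K]
    [CommRing A] [Algebra k A] (σ : A →ₐ[k] k) (b : K) (a : A) :
    ((Algebra.TensorProduct.rid k K K).toAlgHom.comp
        (Algebra.TensorProduct.map (AlgHom.id K K) σ)) (b ⊗ₜ[k] a) = σ a • b := by
  simp

/-- Affine form. Let k ⊆ K be a field extension, A a commutative k-algebra and S a set of k-algebra
homomorphisms A → k (rational points of Spec A). The ideal ⋂_{σ ∈ S} ker σ cuts out the Zariski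
closure of S with its reduced structure, and its extension to K ⊗_k A equals ⋂_{σ ∈ S} ker σ_K,
where σ_K : K ⊗_k A → K is the K-algebra map induced by σ. In words: the closure of a set of
rational points is formed compatibly with extension of the ground field. (The published statement is
for schemes locally of finite type; this affine row assumes no finiteness, which the argument does
not use.) -/
theorem result (k K A : Type u) [Field k] [Field K] [Algebra k K]
    [CommRing A] [Algebra k A] (S : Set (A →ₐ[k] k)) :
    Ideal.map (Algebra.TensorProduct.includeRight : A →ₐ[k] K ⊗[k] A) (⨅ σ ∈ S, RingHom.ker σ) =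
      ⨅ σ ∈ S, RingHom.ker ((Algebra.TensorProduct.rid k K K).toAlgHom.comp
        (Algebra.TensorProduct.map (AlgHom.id K K) σ)) := by
  classical
  apply le_antisymm
  · rw [Ideal.map_le_iff_le_comap]
    intro a ha
    rw [Ideal.mem_comap]
    simp only [Ideal.mem_iInf] at ha ⊢
    intro σ hσ
    rw [RingHom.mem_ker]
    have h1 := ha σ hσ
    rw [RingHom.mem_ker] at h1
    change ((Algebra.TensorProduct.rid k K K).toAlgHom.comp
        (Algebra.TensorProduct.map (AlgHom.id K K) σ)) ((1 : K) ⊗ₜ[k] a) = 0
    rw [sigmaK_tmul, h1, zero_smul]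
  · intro x hx
    simp only [Ideal.mem_iInf, RingHom.mem_ker] at hx
    let ℬ := Module.Basis.ofVectorSpace k K
    let e := TensorProduct.equivFinsuppOfBasisLeft (N := A) ℬ
    have hxc : x = (e x).sum fun i a => ℬ i ⊗ₜ[k] a := by
      rw [← TensorProduct.equivFinsuppOfBasisLeft_symm_apply]
      exact (LinearEquiv.symm_apply_apply e x).symm
    have hci : ∀ i, (e x) i ∈ ⨅ σ ∈ S, RingHom.ker σ := by
      intro i
      simp only [Ideal.mem_iInf, RingHom.mem_ker]
      intro σ hσ
      have h0 := hx σ hσ
      rw [hxc, Finsupp.sum, map_sum] at h0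
      simp only [sigmaK_tmul] at h0
      have hli := ℬ.linearIndependent
      rw [linearIndependent_iff'] at hli
      by_cases hi : i ∈ (e x).support
      · exact hli (e x).support (fun j => σ ((e x) j)) h0 i hi
      · rw [Finsupp.notMem_support_iff.mp hi, map_zero]
    rw [hxc]
    refine Ideal.sum_mem _ (fun i _ => ?_)
    have h2 : ℬ i ⊗ₜ[k] (e x) i = (ℬ i ⊗ₜ[k] (1 : A)) *
        (Algebra.TensorProduct.includeRight : A →ₐ[k] K ⊗[k] A) ((e x) i) := by
      simp [Algebra.TensorProduct.includeRight_apply, Algebra.TensorProduct.tmul_mul_tmul]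
    change ℬ i ⊗ₜ[k] (e x) i ∈ _
    rw [h2]
    exact Ideal.mul_mem_left _ _ (Ideal.mem_map_of_mem _ (hci i))

end Groth.Agent.S15594
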