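import Groth.Statements.S15595
import Mathlib
import Groth.Agent.Lib.Helper96.GeomRegular4
import Groth.Agent.Lib.Helper96.SmoothRegular2
import Groth.Agent.S2453
import Groth.Agent.S2451

set_option autoImplicit false
universe u
open TensorProduct
attribute [local instance] RingHom.ker_isPrime
open CAlg

namespace Groth.Agent.S15595

open TensorProduct

/-- Let k ⊆ K be a field extension and A a Noetherian local k-algebra with residue field k, recorded by
a k-algebra map π : A → k whose kernel is the maximal ideal. Let π_K : K ⊗_k A → K be the induced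
K-algebra map, m' its kernel, and A' the localization of K ⊗_k A at m'. Assume A' is Noetherian.
Then A is a regular local ring if and only if A' is a regular local ring. -/
theorem result (k K A : Type u) [Field k] [Field K]
    [Algebra k K] [CommRing A] [Algebra k A] [IsLocalRing A] [IsNoetherianRing A]
    (π : A →ₐ[k] k) (hπ : RingHom.ker π = IsLocalRing.maximalIdeal A)
    [IsNoetherianRing (Localization.AtPrime (RingHom.ker
      ((Algebra.TensorProduct.rid k K K).toAlgHom.comp (Algebra.TensorProduct.map (AlgHom.id K K) π))))] :
    IsRegularLocalRing A ↔ IsRegularLocalRing (Localization.AtPrime (RingHom.ker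
      ((Algebra.TensorProduct.rid k K K).toAlgHom.comp (Algebra.TensorProduct.map (AlgHom.id K K) π)))) := by
  classical
  set Φ : K ⊗[k] A →ₐ[K] K :=
    (Algebra.TensorProduct.rid k K K).toAlgHom.comp (Algebra.TensorProduct.map (AlgHom.id K K) π)
    with hΦ
  have hΦ1 : ∀ a : A, Φ ((1 : K) ⊗ₜ[k] a) = algebraMap k K (π a) := by
    intro a
    simp [hΦ, Algebra.smul_def]
  constructor
  · intro hreg
    -- the residue field of `A` is `k`
    let e : IsLocalRing.ResidueField A →ₐ[k] k :=
      Ideal.Quotient.liftₐ (IsLocalRing.maximalIdeal A) π (fun a ha => by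
        rw [← hπ] at ha; exact ha)
    haveI : Algebra.IsGeometricallyReduced k k := Groth.Agent.S2451.result.mp inferInstance
    haveI : Algebra.IsGeometricallyReduced k (IsLocalRing.ResidueField A) :=
      Algebra.IsGeometricallyReduced.of_injective e (e : IsLocalRing.ResidueField A →+* k).injective
    have tfae := Groth.Agent.S2453.result (k := k) (A := A)
    have hadic : CAlgX.IsAdicFormallySmooth k A (IsLocalRing.maximalIdeal A) :=
      (tfae.out 3 0).mp hreg
    have hn : (IsLocalRing.maximalIdeal A).map
        (Algebra.TensorProduct.includeRight : A →ₐ[k] K ⊗[k] A).toRingHom ≤ RingHom.ker Φ := by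
      rw [Ideal.map_le_iff_le_comap]
      intro a ha
      rw [Ideal.mem_comap, RingHom.mem_ker]
      have : π a = 0 := by
        rw [← hπ] at ha; exact ha
      change Φ ((1 : K) ⊗ₜ[k] a) = 0
      rw [hΦ1, this, map_zero]
    have h' := Groth.Agent.Lib.Helper96.isAdicFormallySmooth_localization_tensor k K A
      (IsLocalRing.maximalIdeal A) hadic (RingHom.ker Φ) hn
    exact (Groth.Agent.Lib.Helper96.isRegular_and_completion_of_adicFormallySmooth h').1
  · intro hreg
    letI : Algebra A (K ⊗[k] A) := Algebra.TensorProduct.rightAlgebra
    haveI : Module.Flat A (K ⊗[k] A) := by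
      let e : (A ⊗[k] K) ≃ₗ[A] (K ⊗[k] A) :=
        { (Algebra.TensorProduct.comm k A K).toLinearEquiv.toAddEquiv with
          map_smul' := fun a x => by
            change (Algebra.TensorProduct.comm k A K) (a • x) =
              a • (Algebra.TensorProduct.comm k A K) x
            rw [Algebra.smul_def, Algebra.smul_def, map_mul]
            rfl }
      exact Module.Flat.of_linearEquiv e.symm
    have h1 := Groth.Agent.Lib.Helper96.isRegularLocalRing_atPrime_comap_of_flat A (K ⊗[k] A)
      (RingHom.ker Φ) hreg
    have hcomap : (RingHom.ker Φ).comap (algebraMap A (K ⊗[k] A)) = IsLocalRing.maximalIdeal A := by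
      ext a
      rw [Ideal.mem_comap, RingHom.mem_ker, ← hπ, RingHom.mem_ker]
      change Φ ((1 : K) ⊗ₜ[k] a) = 0 ↔ _
      rw [hΦ1]
      constructor
      · intro h
        exact (algebraMap k K).injective (by rw [h, map_zero])
      · intro h
        rw [h, map_zero]
    -- `A` is its own localization at the maximal ideal
    have key : ∀ (P Q : Ideal A) [P.IsPrime] [Q.IsPrime], P = Q →
        IsRegularLocalRing (Localization.AtPrime P) →
        IsRegularLocalRing (Localization.AtPrime Q) := by
      intro P Q _ _ h
      subst h
      exact id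
    have h2 : IsRegularLocalRing (Localization.AtPrime (IsLocalRing.maximalIdeal A)) :=
      key _ _ hcomap h1
    let e : A ≃+* Localization.AtPrime (IsLocalRing.maximalIdeal A) :=
      (IsLocalization.atUnits A (IsLocalRing.maximalIdeal A).primeCompl (fun x hx => by
        have : x ∉ IsLocalRing.maximalIdeal A := hx
        rw [IsUnit.mem_submonoid_iff]
        simpa [IsLocalRing.mem_maximalIdeal, mem_nonunits_iff] using this)).toRingEquiv
    exact IsRegularLocalRing.of_ringEquiv e.symm

end Groth.Agent.S15595
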