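import Groth.Statements.S15596
import Groth.Agent.Lib.Helper23.SepClosedDense

set_option autoImplicit false
universe u
open CategoryTheory MonoidalCategory CartesianMonoidalCategory MonObj GrpObj AlgebraicGeometry
open AlgGrp

namespace Groth.Agent.S15596

/-- Let k be an algebraically closed field, H a smooth k-group scheme of finite type, and U a dense open
subset of H. Then every k-rational point h of H is of the form u₂ · u₁⁻¹ for k-rational points u₁,
u₂ of H whose underlying points lie in U. -/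
theorem result (k : Type u) [Field k] [IsAlgClosed k]
    (H : Over (Spec (CommRingCat.of k))) [GrpObj H] [Smooth H.hom] [QuasiCompact H.hom]
    (U : H.left.Opens) (hU : Dense (U : Set ↥H.left)) (h : 𝟙_ (Over (Spec (CommRingCat.of k))) ⟶ H) :
    ∃ u₁ u₂ : 𝟙_ (Over (Spec (CommRingCat.of k))) ⟶ H,
      u₁.left.base (IsLocalRing.closedPoint k) ∈ U ∧ u₂.left.base (IsLocalRing.closedPoint k) ∈ U ∧
        h = u₂ * u₁⁻¹ := by
  open Groth.Agent.Lib.Helper23.SepClosedDense in
  -- left translation by h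
  let L : H ⟶ H := lift (toUnit H ≫ h) (𝟙 H) ≫ μ[H]
  let L' : H ⟶ H := lift (toUnit H ≫ h⁻¹) (𝟙 H) ≫ μ[H]
  have hL : ∀ (T : Over (Spec (CommRingCat.of k))) (x : T ⟶ H), x ≫ L = (toUnit T ≫ h) * x := by
    intro T x
    show x ≫ lift (toUnit H ≫ h) (𝟙 H) ≫ μ[H] = _
    rw [← Category.assoc, comp_lift, Category.comp_id, ← Category.assoc,
      toUnit_unique (x ≫ toUnit H) (toUnit T)]
    rfl
  have hL' : ∀ (T : Over (Spec (CommRingCat.of k))) (x : T ⟶ H), x ≫ L' = (toUnit T ≫ h⁻¹) * x := by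
    intro T x
    show x ≫ lift (toUnit H ≫ h⁻¹) (𝟙 H) ≫ μ[H] = _
    rw [← Category.assoc, comp_lift, Category.comp_id, ← Category.assoc,
      toUnit_unique (x ≫ toUnit H) (toUnit T)]
    rfl
  have hcomp : ∀ (T : Over (Spec (CommRingCat.of k))) (g : 𝟙_ _ ⟶ H),
      (toUnit T ≫ g⁻¹) = (toUnit T ≫ g)⁻¹ := fun T g => GrpObj.comp_inv _ _
  have hLid : L = (toUnit H ≫ h) * 𝟙 H := by rw [← hL, Category.id_comp]
  have hL'id : L' = (toUnit H ≫ h⁻¹) * 𝟙 H := by rw [← hL', Category.id_comp]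
  have hLL' : L ≫ L' = 𝟙 H := by
    rw [hL', hLid, hcomp, inv_mul_cancel_left]
  have hL'L : L' ≫ L = 𝟙 H := by
    rw [hL, hL'id, hcomp, mul_inv_cancel_left]
  have hiso : IsIso L := ⟨L', hLL', hL'L⟩
  have hisol : IsIso L.left := inferInstanceAs (IsIso ((Over.forget _).map L))
  have hopen : IsOpenMap L.left.base := L.left.isOpenEmbedding.isOpenMap
  have hne : Nonempty H.left := ⟨h.left.base (IsLocalRing.closedPoint k)⟩
  let V : H.left.Opens := U ⊓ L.left ⁻¹ᵁ U
  have hVd : Dense (V : Set H.left) := by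
    show Dense ((U : Set H.left) ∩ L.left.base ⁻¹' (U : Set H.left))
    exact hU.inter_of_isOpen_left (hU.preimage hopen) U.2
  obtain ⟨v, hv⟩ := hVd.nonempty
  let VV : Over (Spec (CommRingCat.of k)) := Over.mk (V.ι ≫ H.hom)
  have hsm : Smooth VV.hom := inferInstanceAs (Smooth (V.ι ≫ H.hom))
  have hneV : Nonempty VV.left := ⟨⟨v, hv⟩⟩
  obtain ⟨s, hs⟩ := exists_section_of_smooth (K := k) VV
  let u₁ : 𝟙_ (Over (Spec (CommRingCat.of k))) ⟶ H := Over.homMk (s ≫ V.ι) (by
    show (s ≫ V.ι) ≫ H.hom = 𝟙 _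
    rw [Category.assoc]; exact hs)
  have hu₁ : u₁.left.base (IsLocalRing.closedPoint k) ∈ V := by
    show V.ι.base (s.base (IsLocalRing.closedPoint k)) ∈ V
    exact (s.base (IsLocalRing.closedPoint k)).2
  refine ⟨u₁, h * u₁, hu₁.1, ?_, by rw [mul_inv_cancel_right]⟩
  have h2 : h * u₁ = u₁ ≫ L := by
    rw [hL, toUnit_unique (toUnit (𝟙_ (Over (Spec (CommRingCat.of k))))) (𝟙 _), Category.id_comp]
  rw [h2]
  show L.left.base (u₁.left.base (IsLocalRing.closedPoint k)) ∈ U
  exact hu₁.2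

end Groth.Agent.S15596
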