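import Groth.Statements.S15602
import Groth.Agent.Lib.Helper23.GrpLawUnique

set_option autoImplicit false
universe u
open CategoryTheory MonoidalCategory CartesianMonoidalCategory MonObj GrpObj AlgebraicGeometry
open AlgGrp

namespace Groth.Agent.S15602

/-- Additive case. Let k be a field and consider the affine line over k, taken here as the underlying
k-scheme of the additive group. Any two structures of k-group scheme on it with the same unit
section have the same multiplication; in particular a group law on the affine line whose identity is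
the origin is the usual addition. -/
theorem result (k : Type u) [Field k]
    (h₁ h₂ : GrpObj (Red.Ga (Spec (CommRingCat.of k)))) (e : h₁.one = h₂.one) : h₁.mul = h₂.mul := by
  open Groth.Agent.Lib.Helper23.GrpLawUnique Groth.Agent.Lib.Helper23.GaPoly in
  let instM : (algSpec (CommRingCat.of k)).Monoidal :=
    (braidedAlgSpec (R := CommRingCat.of k)).toMonoidal
  let e₀ : Red.Ga (Spec (CommRingCat.of k)) ≅ (algSpec (CommRingCat.of k)).obj (Yk k) :=
    (gaPolyIso k).symm
  -- transported structures on the spectrum of the polynomial ring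
  let g₁ : GrpObj ((algSpec (CommRingCat.of k)).obj (Yk k)) :=
    @GrpObj.ofIso _ _ _ _ _ h₁ e₀
  let g₂ : GrpObj ((algSpec (CommRingCat.of k)).obj (Yk k)) :=
    @GrpObj.ofIso _ _ _ _ _ h₂ e₀
  let m₁ : GrpObj (Yk k) :=
    @Functor.FullyFaithful.grpObj _ _ _ _ _ _ (algSpec (CommRingCat.of k)) _
      algSpec.fullyFaithful (Yk k) g₁
  let m₂ : GrpObj (Yk k) :=
    @Functor.FullyFaithful.grpObj _ _ _ _ _ _ (algSpec (CommRingCat.of k)) _
      algSpec.fullyFaithful (Yk k) g₂
  have hg1 : g₁.one = g₂.one := ofIso_one_eq h₁ h₂ e₀ e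
  have hm1 : m₁.one = m₂.one :=
    grpObj_one_eq (algSpec (CommRingCat.of k)) algSpec.fullyFaithful (Yk k) g₁ g₂ hg1
  have hm : m₁.mul = m₂.mul := mul_eq_of_one_eq k m₁ m₂ hm1
  have hg : g₁.mul = g₂.mul :=
    mul_eq_of_grpObj_mul_eq (algSpec (CommRingCat.of k)) algSpec.fullyFaithful (Yk k) g₁ g₂ hm
  exact mul_eq_of_ofIso_mul_eq h₁ h₂ e₀ hg

end Groth.Agent.S15602
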