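import Groth.Statements.S15604
import Groth.Agent.Lib.Helper23.GrpImage
import Groth.Agent.Lib.Helper23.GeomRedSmooth
import Groth.Agent.Lib.Helper23.GrpSmoothLocus
import Groth.Agent.Lib.Helper23.GrpSeparated
import Groth.Agent.Lib.Helper69.ReducedSmoothLocal

set_option autoImplicit false
universe u
open CategoryTheory MonoidalCategory CartesianMonoidalCategory MonObj GrpObj AlgebraicGeometry
open AlgGrp

namespace Groth.Agent.S15604

/-- Let k be a field and f : G ⟶ G' a homomorphism of k-group schemes of finite type, with G smooth over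
k. The image of f is closed (not asserted here); with its reduced induced structure it is smooth
over k: every reduced closed subscheme H of G' whose underlying set is the set-theoretic image of f
is smooth over k. -/
theorem result (k : Type u) [Field k]
    (G G' : Over (Spec (CommRingCat.of k))) [GrpObj G] [GrpObj G'] [Smooth G.hom] [QuasiCompact G.hom]
    [LocallyOfFiniteType G'.hom] [QuasiCompact G'.hom] (f : G ⟶ G') [IsMonHom f]
    (H : Scheme.{u}) (i : H ⟶ G'.left) [IsClosedImmersion i] [IsReduced H]
    (hH : Set.range i.base = Set.range f.left.base) : Smooth (i ≫ G'.hom) := by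
  haveI hsep : IsSeparated G'.hom := Groth.Agent.Lib.Helper23.GrpSeparated.isSeparated_of_field G'
  have hw : f.left ≫ G'.hom = G.hom := Over.w f
  haveI : QuasiCompact (f.left ≫ G'.hom) := by rw [hw]; infer_instance
  haveI hqcf : QuasiCompact f.left := QuasiCompact.of_comp f.left G'.hom
  haveI hGred : IsReduced G.left :=
    Groth.Agent.Lib.Helper69.ReducedSmoothLocal.isReduced_of_smooth G.hom
  -- lift `f` through the reduced closed subscheme
  haveI : Surjective (Limits.pullback.fst f.left i) := ⟨fun x => by
    have hx : f.left x ∈ Set.range i := by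
      have : f.left x ∈ Set.range f.left.base := ⟨x, rfl⟩
      rw [← hH] at this
      exact this
    obtain ⟨h, hh⟩ := hx
    obtain ⟨p, hp1, hp2⟩ := Scheme.Pullback.exists_preimage_pullback x h hh.symm
    exact ⟨p, hp1⟩⟩
  haveI : IsIso (Limits.pullback.fst f.left i) :=
    isIso_of_isClosedImmersion_of_surjective (Limits.pullback.fst f.left i)
  let g : G.left ⟶ H := inv (Limits.pullback.fst f.left i) ≫ Limits.pullback.snd f.left i
  have hg : g ≫ i = f.left := by
    simp only [g, Category.assoc, ← Limits.pullback.condition, IsIso.inv_hom_id_assoc]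
  let K : Over (Spec (CommRingCat.of k)) := Over.mk (i ≫ G'.hom)
  let iK : K ⟶ G' := Over.homMk i rfl
  let gK : G ⟶ K := Over.homMk g (by
    show g ≫ i ≫ G'.hom = G.hom
    rw [reassoc_of% hg, hw])
  have hgi : gK ≫ iK = f := by
    ext
    exact hg
  haveI : IsClosedImmersion iK.left := ‹IsClosedImmersion i›
  haveI hqcg : QuasiCompact g := by
    haveI : QuasiCompact (g ≫ i) := by rw [hg]; infer_instance
    exact QuasiCompact.of_comp g i
  have hgsurj : Function.Surjective g := by
    intro h
    have hx : i h ∈ Set.range f.left.base := by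
      rw [← hH]; exact ⟨h, rfl⟩
    obtain ⟨x, hx⟩ := hx
    refine ⟨x, ?_⟩
    apply i.isClosedEmbedding.injective
    rw [← Scheme.Hom.comp_apply, hg]
    exact hx
  haveI : IsDominant g := ⟨hgsurj.denseRange⟩
  haveI hstd : IsSchemeTheoreticallyDominant g := IsSchemeTheoreticallyDominant.of_isDominant g
  haveI : IsSchemeTheoreticallyDominant gK.left := hstd
  obtain ⟨instK, hiK, hgK⟩ := Groth.Agent.Lib.Helper23.GrpImage.exists_grpObj f iK gK hgi
  haveI : LocallyOfFiniteType K.hom := (inferInstance : LocallyOfFiniteType (i ≫ G'.hom))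
  haveI : LocallyOfFinitePresentation K.hom := inferInstance
  -- `K` is geometrically reduced
  haveI : GeometricallyReduced K.hom := by
    rw [geometricallyReduced_iff]
    intro L _ y Z fst snd h
    haveI : Flat y := inferInstance
    haveI : Flat fst := MorphismProperty.of_isPullback (P := @Flat) h.flip inferInstance
    haveI : IsSchemeTheoreticallyDominant (Limits.pullback.snd g fst) := inferInstance
    haveI : QuasiCompact (Limits.pullback.snd g fst) := inferInstance
    have hP : IsPullback (Limits.pullback.fst g fst) (Limits.pullback.snd g fst ≫ snd) (g ≫ K.hom) y :=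
      ((IsPullback.of_hasPullback g fst).flip.paste_horiz h.flip).flip
    have hgK' : g ≫ K.hom = G.hom := by
      show g ≫ i ≫ G'.hom = G.hom
      rw [reassoc_of% hg, hw]
    haveI : Smooth (g ≫ K.hom) := by rw [hgK']; infer_instance
    haveI : Smooth (Limits.pullback.snd g fst ≫ snd) :=
      MorphismProperty.of_isPullback (P := @Smooth) hP inferInstance
    haveI : IsReduced (Limits.pullback g fst) :=
      Groth.Agent.Lib.Helper69.ReducedSmoothLocal.isReduced_of_smooth (Limits.pullback.snd g fst ≫ snd)
    exact IsSchemeTheoreticallyDominant.isReduced (Limits.pullback.snd g fst)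
  have hd := Groth.Agent.Lib.Helper23.GeomRedSmooth.dense_smoothLocus K.hom
  haveI hne1 : Nonempty ↥(𝟙_ (Over (Spec (CommRingCat.of k)))).left :=
    (inferInstance : Nonempty ↥(Spec (CommRingCat.of k)))
  haveI : Nonempty K.left := ⟨η[K].left (Classical.arbitrary _)⟩
  obtain ⟨x, hx⟩ := hd.nonempty
  exact Groth.Agent.Lib.Helper23.GrpSmoothLocus.smooth_of_nonempty_smoothLocus K ⟨x, hx⟩

end Groth.Agent.S15604
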