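import Groth.Statements.S15605
import Mathlib.LinearAlgebra.TensorProduct.Basis
import Mathlib.LinearAlgebra.TensorProduct.RightExactness
import Mathlib.LinearAlgebra.Basis.VectorSpace

set_option autoImplicit false
universe u
open TensorProduct
open AGF

namespace Groth.Agent.S15605

/-- separating families of functionals on two vector spaces give a separating family on the
tensor product -/
theorem sep_tensor {k V W : Type u} [Field k] [AddCommGroup V] [Module k V] [AddCommGroup W]
    [Module k W] {ι ι' : Type u} (φ : ι → V →ₗ[k] k) (ψ : ι' → W →ₗ[k] k)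
    (hφ : ∀ v, (∀ i, φ i v = 0) → v = 0) (hψ : ∀ w, (∀ j, ψ j w = 0) → w = 0)
    (t : V ⊗[k] W)
    (ht : ∀ i j, TensorProduct.lid k k (TensorProduct.map (φ i) (ψ j) t) = 0) : t = 0 := by
  classical
  let b := Module.Basis.ofVectorSpace k V
  let e := TensorProduct.equivFinsuppOfBasisLeft (N := W) b
  apply e.injective
  rw [map_zero]
  ext l
  apply hψ
  intro j
  -- the vector (id ⊗ ψ j) t
  let T : V ⊗[k] W →ₗ[k] V := (TensorProduct.rid k V).toLinearMap ∘ₗ LinearMap.lTensor V (ψ j)
  have hT : T t = 0 := by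
    apply hφ
    intro i
    have : ∀ x : V ⊗[k] W, φ i (T x) = TensorProduct.lid k k (TensorProduct.map (φ i) (ψ j) x) := by
      intro x
      induction x using TensorProduct.induction_on with
      | zero => simp
      | tmul v w =>
        simp only [T, LinearMap.comp_apply, LinearMap.lTensor_tmul, LinearEquiv.coe_coe,
          TensorProduct.rid_tmul, map_smul, TensorProduct.map_tmul, TensorProduct.lid_tmul,
          smul_eq_mul]
        ring
      | add x y hx hy => rw [map_add, map_add, map_add, map_add, hx, hy]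
    rw [this, ht]
  have key : ∀ x : V ⊗[k] W, ψ j ((e x) l) = b.repr (T x) l := by
    intro x
    induction x using TensorProduct.induction_on with
    | zero => simp
    | tmul v w =>
      simp only [e, T, TensorProduct.equivFinsuppOfBasisLeft_apply_tmul_apply, map_smul,
        LinearMap.comp_apply, LinearMap.lTensor_tmul, LinearEquiv.coe_coe, TensorProduct.rid_tmul,
        Finsupp.smul_apply, smul_eq_mul]
      ring
    | add x y hx hy => simp only [map_add, Finsupp.add_apply, hx, hy]
  rw [key, hT, map_zero, Finsupp.zero_apply]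


/-- Affine form. Let k be a field, A and A' finitely generated commutative k-algebras and S, S' sets of
k-algebra homomorphisms A → k, A' → k. The closure of a set of rational points of Spec A is cut out
by the intersection of their kernels. Compatibility of these closures with products: in A ⊗_k A',
the intersection over (σ, σ') ∈ S × S' of the kernels of σ ⊗ σ' : A ⊗_k A' → k equals the ideal
generated by the images of ⋂_{σ} ker σ and of ⋂_{σ'} ker σ'. -/
theorem result (k A A' : Type u) [Field k] [CommRing A] [Algebra k A]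
    [Algebra.FiniteType k A] [CommRing A'] [Algebra k A'] [Algebra.FiniteType k A']
    (S : Set (A →ₐ[k] k)) (S' : Set (A' →ₐ[k] k)) :
    (⨅ σ ∈ S, ⨅ σ' ∈ S', RingHom.ker ((Algebra.TensorProduct.lmul' (S := k) k).comp
        (Algebra.TensorProduct.map σ σ'))) =
      Ideal.map (Algebra.TensorProduct.includeLeft : A →ₐ[k] A ⊗[k] A') (⨅ σ ∈ S, RingHom.ker σ) ⊔
        Ideal.map (Algebra.TensorProduct.includeRight : A' →ₐ[k] A ⊗[k] A') (⨅ σ' ∈ S', RingHom.ker σ') := by
  classical
  set I : Ideal A := ⨅ σ ∈ S, RingHom.ker σ with hI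
  set I' : Ideal A' := ⨅ σ' ∈ S', RingHom.ker σ' with hI'
  let f : A →ₐ[k] A ⧸ I := Ideal.Quotient.mkₐ k I
  let g : A' →ₐ[k] A' ⧸ I' := Ideal.Quotient.mkₐ k I'
  have hf : Function.Surjective f := Ideal.Quotient.mkₐ_surjective k I
  have hg : Function.Surjective g := Ideal.Quotient.mkₐ_surjective k I'
  have hkerf : RingHom.ker f = I := Ideal.Quotient.mkₐ_ker k I
  have hkerg : RingHom.ker g = I' := Ideal.Quotient.mkₐ_ker k I'
  have hmk := Algebra.TensorProduct.map_ker f g hf hg
  rw [hkerf, hkerg] at hmk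
  rw [← hmk]
  -- induced maps on the quotients
  have hσI : ∀ σ : S, ∀ a : A, a ∈ I → σ.1 a = 0 := by
    intro σ a ha
    have : a ∈ RingHom.ker σ.1 := by
      rw [hI] at ha
      exact (Ideal.mem_iInf.mp (Ideal.mem_iInf.mp ha σ.1)) σ.2
    exact this
  have hσI' : ∀ σ : S', ∀ a : A', a ∈ I' → σ.1 a = 0 := by
    intro σ a ha
    have : a ∈ RingHom.ker σ.1 := by
      rw [hI'] at ha
      exact (Ideal.mem_iInf.mp (Ideal.mem_iInf.mp ha σ.1)) σ.2
    exact this
  let σb : S → (A ⧸ I →ₐ[k] k) := fun σ => Ideal.Quotient.liftₐ I σ.1 (hσI σ)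
  let σb' : S' → (A' ⧸ I' →ₐ[k] k) := fun σ => Ideal.Quotient.liftₐ I' σ.1 (hσI' σ)
  have hσb : ∀ (σ : S) (a : A), σb σ (f a) = σ.1 a := fun σ a => rfl
  have hσb' : ∀ (σ : S') (a : A'), σb' σ (g a) = σ.1 a := fun σ a => rfl
  have hcomp : ∀ (σ : S) (σ' : S') (x : A ⊗[k] A'),
      (Algebra.TensorProduct.lmul' (S := k) k) (Algebra.TensorProduct.map σ.1 σ'.1 x) =
      TensorProduct.lid k k (TensorProduct.map (σb σ).toLinearMap (σb' σ').toLinearMap
        (Algebra.TensorProduct.map f g x)) := by
    intro σ σ' x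
    induction x using TensorProduct.induction_on with
    | zero => simp
    | tmul a a' =>
      simp only [Algebra.TensorProduct.map_tmul, Algebra.TensorProduct.lmul'_apply_tmul,
        TensorProduct.map_tmul, AlgHom.toLinearMap_apply, TensorProduct.lid_tmul, smul_eq_mul,
        hσb, hσb']
    | add x y hx hy => simp only [map_add, hx, hy]
  apply le_antisymm
  · intro x hx
    rw [RingHom.mem_ker]
    change (Algebra.TensorProduct.map f g) x = 0
    apply sep_tensor (fun σ : S => (σb σ).toLinearMap) (fun σ : S' => (σb' σ).toLinearMap)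
    · intro v hv
      obtain ⟨a, rfl⟩ := hf v
      have : a ∈ I := by
        rw [hI]
        refine Ideal.mem_iInf.mpr fun σ => Ideal.mem_iInf.mpr fun hσ => ?_
        exact hv ⟨σ, hσ⟩
      change Ideal.Quotient.mk I a = 0
      exact Ideal.Quotient.eq_zero_iff_mem.mpr this
    · intro v hv
      obtain ⟨a, rfl⟩ := hg v
      have : a ∈ I' := by
        rw [hI']
        refine Ideal.mem_iInf.mpr fun σ => Ideal.mem_iInf.mpr fun hσ => ?_
        exact hv ⟨σ, hσ⟩
      change Ideal.Quotient.mk I' a = 0
      exact Ideal.Quotient.eq_zero_iff_mem.mpr this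
    · intro σ σ'
      rw [← hcomp]
      have h1 := (Ideal.mem_iInf.mp (Ideal.mem_iInf.mp hx σ.1)) σ.2
      have h2 := (Ideal.mem_iInf.mp (Ideal.mem_iInf.mp h1 σ'.1)) σ'.2
      exact h2
  · intro x hx
    refine Ideal.mem_iInf.mpr fun σ => Ideal.mem_iInf.mpr fun hσ => Ideal.mem_iInf.mpr fun σ' =>
      Ideal.mem_iInf.mpr fun hσ' => ?_
    rw [RingHom.mem_ker]
    change (Algebra.TensorProduct.lmul' (S := k) k) (Algebra.TensorProduct.map σ σ' x) = 0
    have := hcomp ⟨σ, hσ⟩ ⟨σ', hσ'⟩ x
    rw [this]
    have hx0 : (Algebra.TensorProduct.map f g) x = 0 := hx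
    rw [hx0, map_zero, map_zero]

end Groth.Agent.S15605
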