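import Groth.Statements.S15606
import Groth.Agent.Lib.Helper23.GaIsog
import Groth.Agent.Lib.Helper62.GenRed

set_option autoImplicit false
universe u
open CategoryTheory MonoidalCategory CartesianMonoidalCategory MonObj GrpObj AlgebraicGeometry
open AlgGrp

namespace Groth.Agent.S15606

/-- Additive case. Let k be a field, H an affine smooth connected k-group scheme, and f a homomorphism
from the additive group over k to H which is finite and surjective (an isogeny onto H). Then H is
isomorphic, as a k-group scheme, to the additive group. In particular every quotient of the additive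
group by a finite k-subgroup scheme is isomorphic to the additive group over k itself, for any field
k. -/
theorem result (k : Type u) [Field k]
    (H : Over (Spec (CommRingCat.of k))) [GrpObj H] [IsAffine H.left] [Smooth H.hom] [ConnectedSpace ↥H.left]
    (f : Red.Ga (Spec (CommRingCat.of k)) ⟶ H) [IsMonHom f] [IsFinite f.left] [Surjective f.left] :
    Nonempty (Grp.mk H ≅ Grp.mk (Red.Ga (Spec (CommRingCat.of k)))) := by
  open Groth.Agent.Lib.Helper23 Groth.Agent.Lib.Helper23.GaPoly
    Groth.Agent.Lib.Helper23.AffGrpHopf Polynomial TensorProduct in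
  let gaL : Spec (CommRingCat.of k[X]) ≅ (Red.Ga (Spec (CommRingCat.of k))).left :=
    ⟨toGaL k, ofGaL k, toGaL_ofGaL k, congrArg (fun t => t.left) (ofGa_toGa k)⟩
  have hGaAff : IsAffine (Red.Ga (Spec (CommRingCat.of k))).left := 
    @IsAffine.of_isIso _ _ gaL.inv (Iso.isIso_inv gaL) inferInstance
  obtain ⟨A, B, iA, iB, hA, hB, φ, a, a', ha, ha', hf⟩ := exists_model_hom f
  have hgaL : gaL.inv ≫ Spec.map (CommRingCat.ofHom (algebraMap k k[X])) =
      (Red.Ga (Spec (CommRingCat.of k))).hom := Over.w (ofGa k)
  have hgaL' : gaL.hom ≫ (Red.Ga (Spec (CommRingCat.of k))).hom =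
      Spec.map (CommRingCat.ofHom (algebraMap k k[X])) := toGaL_hom k
  obtain ⟨ψ₀, hψ₀⟩ := GaIsog.exists_algEquiv_of_specIso (R := CommRingCat.of k) (A := A)
    (B := k[X]) (a ≪≫ gaL.symm) (by
      show (a.hom ≫ gaL.inv) ≫ _ = _
      rw [Category.assoc, hgaL, ha])
  -- a primitive generator
  have hΔ₀ := PolyHopf.comul_eq_of_polynomial (k := k) (A := A) ψ₀
  set c : k := Coalgebra.counit (R := k) (ψ₀ X) with hc
  let ψ : k[X] ≃ₐ[k] A := (Polynomial.algEquivAevalXAddC (-c)).trans ψ₀
  have hψX : ψ X = ψ₀ X - algebraMap k A c := by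
    show ψ₀ (Polynomial.algEquivAevalXAddC (-c) X) = _
    rw [Polynomial.algEquivAevalXAddC_apply, aeval_X, map_add, C_neg, map_neg, ← sub_eq_add_neg]
    congr 1
    exact ψ₀.commutes c
  have hprim : Coalgebra.comul (R := k) (ψ X) = ψ X ⊗ₜ[k] (1 : A) + (1 : A) ⊗ₜ[k] ψ X := by
    rw [hψX, map_sub, Bialgebra.comul_algebraMap, hΔ₀, sub_tmul, tmul_sub,
      Algebra.algebraMap_eq_smul_one (A := A ⊗[k] A), Algebra.algebraMap_eq_smul_one (A := A),
      ← smul_tmul', tmul_smul, Algebra.TensorProduct.one_def]
    abel
  -- reducedness of B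
  have hsm : Smooth (Spec.map (CommRingCat.ofHom (algebraMap k B))) := by
    rw [← ha']; infer_instance
  have hsm' : (algebraMap k B).Smooth := (HasRingHomProperty.Spec_iff (P := @Smooth)).mp hsm
  have hsmA : Algebra.Smooth k B := RingHom.smooth_algebraMap.mp hsm'
  have hred : IsReduced B := Groth.Agent.Lib.Helper62.GenRed.isReduced_of_smooth k B
  -- the map on spectra
  have hφs : Spec.map (CommRingCat.ofHom (φ : B →+* A)) = a.hom ≫ f.left ≫ a'.inv := by
    rw [← Category.assoc, hf, Category.assoc, a'.hom_inv_id, Category.comp_id]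
  have hsurj : Surjective (Spec.map (CommRingCat.ofHom (φ : B →+* A))) := by
    rw [hφs]; infer_instance
  have hfin : IsFinite (Spec.map (CommRingCat.ofHom (φ : B →+* A))) := by
    rw [hφs]; infer_instance
  have hinj : Function.Injective φ := by
    have hs : Function.Surjective (PrimeSpectrum.comap (φ : B →+* A)) := hsurj.surj
    have hdense : DenseRange (PrimeSpectrum.comap (φ : B →+* A)) := hs.denseRange
    rw [PrimeSpectrum.denseRange_comap_iff_ker_le_nilRadical] at hdense
    rw [injective_iff_map_eq_zero]
    intro b hb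
    have h1 : b ∈ nilradical B := hdense hb
    rw [nilradical_eq_zero] at h1
    exact h1
  have hfin' : (φ : B →+* A).Finite := (IsFinite.SpecMap_iff _).mp hfin
  have hne : ∃ b : B, φ b ∉ Set.range (algebraMap k A) := by
    by_contra hall
    push Not at hall
    have hfinA : Module.Finite k A := by
      let _ : Algebra B A := (φ : B →+* A).toAlgebra
      have hBA : Module.Finite B A := hfin'
      obtain ⟨s, hs⟩ := Module.finite_def.1 hBA
      refine Module.finite_def.2 ⟨s, ?_⟩
      rw [eq_top_iff]
      have hgen : ∀ x ∈ Submodule.span B (s : Set A), x ∈ Submodule.span k (s : Set A) := by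
        intro x hx
        induction hx using Submodule.span_induction with
        | mem x h => exact Submodule.subset_span h
        | zero => exact zero_mem _
        | add x y _ _ hx hy => exact add_mem hx hy
        | smul b x _ hx =>
          obtain ⟨c', hc'⟩ := hall b
          have h2 : b • x = c' • x := by
            rw [Algebra.smul_def, Algebra.smul_def, hc']
            rfl
          rw [h2]
          exact Submodule.smul_mem _ _ hx
      intro x _
      exact hgen x (hs ▸ Submodule.mem_top)
    have : Module.Finite k k[X] := Module.Finite.equiv ψ₀.symm.toLinearEquiv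
    exact Polynomial.not_finite this
  obtain ⟨χ⟩ := HopfSubPoly.nonempty_algEquiv_polynomial ψ hprim φ hinj hne
  let sχ : Spec (CommRingCat.of B) ≅ Spec (CommRingCat.of k[X]) :=
    ⟨Spec.map (CommRingCat.ofHom (χ : k[X] →+* B)),
      Spec.map (CommRingCat.ofHom (χ.symm : B →+* k[X])), by
        rw [← Spec.map_comp, ← Spec.map_id]
        congr 1
        exact CommRingCat.hom_ext (RingHom.ext fun x => χ.apply_symm_apply x), by
        rw [← Spec.map_comp, ← Spec.map_id]
        congr 1
        exact CommRingCat.hom_ext (RingHom.ext fun x => χ.symm_apply_apply x)⟩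
  have hsχ : sχ.hom ≫ Spec.map (CommRingCat.ofHom (algebraMap k k[X])) =
      Spec.map (CommRingCat.ofHom (algebraMap k B)) := by
    show Spec.map (CommRingCat.ofHom (χ : k[X] →+* B)) ≫ _ = _
    rw [← Spec.map_comp]
    congr 1
    exact CommRingCat.hom_ext (RingHom.ext fun x => χ.commutes x)
  let e : H ≅ Red.Ga (Spec (CommRingCat.of k)) :=
    Over.isoMk (a'.symm ≪≫ sχ ≪≫ gaL) (by
      show (a'.inv ≫ sχ.hom ≫ gaL.hom) ≫ _ = _
      rw [Category.assoc, Category.assoc, hgaL', hsχ, ← ha', Iso.inv_hom_id_assoc])
  exact GaIsog.nonempty_grpIso_ga_of_iso k H e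

end Groth.Agent.S15606
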