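import Groth.Statements.S15609
import Mathlib
import Groth.Agent.Lib.Helper23.TangentTrivial
import Groth.Agent.Lib.Helper23.GrpSeparated

set_option autoImplicit false
universe u
open CategoryTheory MonoidalCategory CartesianMonoidalCategory MonObj GrpObj AlgebraicGeometry
open AlgGrp

namespace Groth.Agent.S15609

open CategoryTheory.Limits in
/-- A scheme locally of finite type over a field, with a rational point, all of whose geometric
points and tangent vectors are trivial, is the spectrum of the field. -/
theorem isIso_of_trivial_points {k : Type u} [Field k] {X : Scheme.{u}}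
    (s : X ⟶ Spec (CommRingCat.of k)) [LocallyOfFiniteType s]
    (u' : Spec (CommRingCat.of k) ⟶ X) (hu : u' ≫ s = 𝟙 _)
    (F1 : ∀ (K : Type u) [Field K] [IsAlgClosed K] (x : Spec (CommRingCat.of K) ⟶ X),
      x = (x ≫ s) ≫ u')
    (F2 : ∀ (g : Spec (CommRingCat.of (DualNumber k)) ⟶ X),
      g ≫ s = Spec.map (CommRingCat.ofHom (algebraMap k (DualNumber k))) →
      g = Spec.map (CommRingCat.ofHom (algebraMap k (DualNumber k))) ≫ u') :
    IsIso s := by
  haveI hsub : Subsingleton ↥(Spec (CommRingCat.of k)) :=
    inferInstanceAs (Subsingleton (PrimeSpectrum k))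
  obtain ⟨pt₀⟩ : Nonempty ↥(Spec (CommRingCat.of k)) := inferInstanceAs (Nonempty (PrimeSpectrum k))
  -- one point
  have hpt : ∀ x₁ : X, x₁ = u' pt₀ := by
    intro x₁
    let K := AlgebraicClosure (X.residueField x₁)
    let xK : Spec (CommRingCat.of K) ⟶ X :=
      Spec.map (CommRingCat.ofHom (algebraMap (X.residueField x₁) K)) ≫ X.fromSpecResidueField x₁
    have h := F1 K xK
    obtain ⟨y⟩ : Nonempty ↥(Spec (CommRingCat.of K)) := inferInstanceAs (Nonempty (PrimeSpectrum K))
    have h1 : xK y = x₁ := by
      show (X.fromSpecResidueField x₁) _ = x₁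
      exact Scheme.fromSpecResidueField_apply _ _
    have h2 : xK y = u' ((xK ≫ s) y) := by
      conv_lhs => rw [h]
      rfl
    rw [← h1, h2]
    congr 1
    exact Subsingleton.elim _ _
  haveI : IsAffine X := by
    obtain ⟨_, ⟨V, hV, rfl⟩, hxV, -⟩ :=
      X.isBasis_affineOpens.exists_subset_of_mem_open (Set.mem_univ (u' pt₀)) isOpen_univ
    have hVtop : V = ⊤ := by
      rw [eq_top_iff]
      intro x _
      rw [hpt x]
      exact hxV
    subst hVtop
    haveI : IsAffine (⊤ : X.Opens).toScheme := hV
    exact IsAffine.of_isIso X.topIso.inv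
  haveI : IsLocallyNoetherian X := LocallyOfFiniteType.isLocallyNoetherian s
  haveI : IsNoetherianRing Γ(X, ⊤) :=
    IsLocallyNoetherian.component_noetherian ⟨⊤, isAffineOpen_top X⟩
  let e := X.isoSpec
  let φ : CommRingCat.of k ⟶ Γ(X, ⊤) := Spec.preimage (e.inv ≫ s)
  let ε : Γ(X, ⊤) ⟶ CommRingCat.of k := Spec.preimage (u' ≫ e.hom)
  have hφ : Spec.map φ = e.inv ≫ s := Spec.map_preimage _
  have hε : Spec.map ε = u' ≫ e.hom := Spec.map_preimage _
  have hφε : φ ≫ ε = 𝟙 _ := by
    apply Spec.map_injective
    rw [Spec.map_comp, hφ, hε, Category.assoc, Iso.hom_inv_id_assoc, hu, Spec.map_id]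
  have hεφ : ∀ c : k, ε.hom (φ.hom c) = c := by
    intro c
    have := congrArg (fun t => t.hom c) hφε
    exact this
  have hinj : Function.Injective ε.hom := by
    apply Groth.Agent.Lib.Helper23.TangentTrivial.injective_of_trivial_points φ.hom ε.hom hεφ
    · intro K _ _ χ r
      let x : Spec (CommRingCat.of K) ⟶ X := Spec.map (CommRingCat.ofHom χ) ≫ e.inv
      have h := F1 K x
      have hx : x ≫ e.hom = Spec.map (CommRingCat.ofHom χ) := by
        show (Spec.map (CommRingCat.ofHom χ) ≫ e.inv) ≫ e.hom = _
        rw [Category.assoc, Iso.inv_hom_id, Category.comp_id]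
      have h3 : x ≫ e.hom = ((x ≫ s) ≫ u') ≫ e.hom := by rw [← h]
      have h2 : Spec.map (CommRingCat.ofHom χ) = Spec.map (ε ≫ φ ≫ CommRingCat.ofHom χ) := by
        calc Spec.map (CommRingCat.ofHom χ) = x ≫ e.hom := hx.symm
          _ = ((x ≫ s) ≫ u') ≫ e.hom := h3
          _ = Spec.map (ε ≫ φ ≫ CommRingCat.ofHom χ) := by
            rw [Spec.map_comp, Spec.map_comp, hφ, hε]
            simp only [x, Category.assoc]
      have h4 := Spec.map_injective h2
      have h5 := congrArg (fun t => t.hom r) h4
      exact h5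
    · intro ψ hψ r
      let g : Spec (CommRingCat.of (DualNumber k)) ⟶ X := Spec.map (CommRingCat.ofHom ψ) ≫ e.inv
      have hg : g ≫ s = Spec.map (CommRingCat.ofHom (algebraMap k (DualNumber k))) := by
        show (Spec.map (CommRingCat.ofHom ψ) ≫ e.inv) ≫ s = _
        rw [Category.assoc, ← hφ, ← Spec.map_comp]
        congr 1
        apply CommRingCat.hom_ext
        apply RingHom.ext
        intro c
        exact hψ c
      have h := F2 g hg
      have hx : g ≫ e.hom = Spec.map (CommRingCat.ofHom ψ) := by
        show (Spec.map (CommRingCat.ofHom ψ) ≫ e.inv) ≫ e.hom = _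
        rw [Category.assoc, Iso.inv_hom_id, Category.comp_id]
      have h2 : Spec.map (CommRingCat.ofHom ψ) =
          Spec.map (ε ≫ CommRingCat.ofHom (algebraMap k (DualNumber k))) := by
        rw [Spec.map_comp, hε, ← hx, h, Category.assoc]
      have h4 := Spec.map_injective h2
      have h5 := congrArg (fun t => t.hom r) h4
      exact h5
  have hεφ' : ε ≫ φ = 𝟙 _ := by
    ext r
    apply hinj
    show ε.hom (φ.hom (ε.hom r)) = ε.hom r
    rw [hεφ]
  haveI : IsIso φ := ⟨ε, hφε, hεφ'⟩
  haveI : IsIso (Spec.map φ) := inferInstance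
  have : IsIso (e.inv ≫ s) := by rw [← hφ]; infer_instance
  exact (isIso_comp_left_iff e.inv s).mp this

/-- The implication (ii) ⇒ (i). Let k be a field and f : G ⟶ G' a homomorphism of k-group schemes of
finite type. Suppose that f is injective on K-points for every algebraically closed field K over k,
and that f is injective on tangent spaces at the identity: every point of G with values in the dual
numbers k[ε] which restricts to the identity at ε = 0 and is sent by f to the identity point of G'
is itself the identity point. Then f has trivial kernel: it is a monomorphism. (The published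
statement assumes G smooth; this implication does not use it.) -/
theorem result (k : Type u) [Field k]
    (G G' : Over (Spec (CommRingCat.of k))) [GrpObj G] [GrpObj G'] [LocallyOfFiniteType G.hom] [QuasiCompact G.hom]
    [LocallyOfFiniteType G'.hom] [QuasiCompact G'.hom] (f : G ⟶ G') [IsMonHom f]
    (hgeom : ∀ (K : Type u) [Field K] [IsAlgClosed K] [Algebra k K],
      Function.Injective (fun g : (Over.mk (Spec.map (CommRingCat.ofHom (algebraMap k K)))) ⟶ G => g ≫ f))
    (htan : ∀ g : (Over.mk (Spec.map (CommRingCat.ofHom (algebraMap k (DualNumber k))))) ⟶ G,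
      (∀ x : 𝟙_ (Over (Spec (CommRingCat.of k))) ⟶ (Over.mk (Spec.map (CommRingCat.ofHom (algebraMap k (DualNumber k))))), x ≫ g = η[G]) →
        g ≫ f = toUnit _ ≫ η[G'] → g = toUnit _ ≫ η[G]) :
    Mono f := by
  haveI : IsSeparated G'.hom := Groth.Agent.Lib.Helper23.GrpSeparated.isSeparated_of_field G'
  -- the kernel
  let X := Limits.pullback f.left η[G'].left
  let n₁ : X ⟶ G.left := Limits.pullback.fst f.left η[G'].left
  let s : X ⟶ Spec (CommRingCat.of k) := Limits.pullback.snd f.left η[G'].left
  have hcond : n₁ ≫ f.left = s ≫ η[G'].left := Limits.pullback.condition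
  have hη' : η[G'].left ≫ G'.hom = 𝟙 (Spec (CommRingCat.of k)) := Over.w η[G']
  have hη : η[G].left ≫ G.hom = 𝟙 (Spec (CommRingCat.of k)) := Over.w η[G]
  have hs : n₁ ≫ G.hom = s := by
    have h1 : f.left ≫ G'.hom = G.hom := Over.w f
    rw [← h1, ← Category.assoc, hcond, Category.assoc, hη', Category.comp_id]
  have hone : η[G].left ≫ f.left = η[G'].left := by
    have h : η[G] ≫ f = η[G'] := IsMonHom.one_hom f
    exact congrArg (fun t => t.left) h
  let u' : Spec (CommRingCat.of k) ⟶ X :=
    Limits.pullback.lift η[G].left (𝟙 _) (by rw [hone, Category.id_comp])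
  have hu1 : u' ≫ n₁ = η[G].left := Limits.pullback.lift_fst _ _ _
  have hu2 : u' ≫ s = 𝟙 _ := Limits.pullback.lift_snd _ _ _
  haveI : IsClosedImmersion (η[G'].left ≫ G'.hom) := by
    rw [hη']
    exact inferInstanceAs (IsClosedImmersion (𝟙 (Spec (CommRingCat.of k))))
  haveI : IsClosedImmersion η[G'].left := IsClosedImmersion.of_comp η[G'].left G'.hom
  haveI : IsClosedImmersion n₁ := inferInstanceAs (IsClosedImmersion (Limits.pullback.fst f.left η[G'].left))
  haveI : LocallyOfFiniteType s := by
    rw [← hs]; infer_instance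
  -- general principle: a point of the kernel trivial in G is trivial
  have hext : ∀ {T : Scheme.{u}} (x : T ⟶ X), x ≫ n₁ = (x ≫ s) ≫ η[G].left → x = (x ≫ s) ≫ u' := by
    intro T x hx
    apply Limits.pullback.hom_ext
    · show x ≫ n₁ = ((x ≫ s) ≫ u') ≫ n₁
      rw [Category.assoc (x ≫ s), hu1, hx]
    · show x ≫ s = ((x ≫ s) ≫ u') ≫ s
      rw [Category.assoc (x ≫ s), hu2, Category.comp_id]
  -- geometric points
  have F1 : ∀ (K : Type u) [Field K] [IsAlgClosed K] (x : Spec (CommRingCat.of K) ⟶ X),
      x = (x ≫ s) ≫ u' := by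
    intro K _ _ x
    let φK : CommRingCat.of k ⟶ CommRingCat.of K := Spec.preimage (x ≫ s)
    have hφK : Spec.map φK = x ≫ s := Spec.map_preimage _
    letI : Algebra k K := φK.hom.toAlgebra
    have halg : CommRingCat.ofHom (algebraMap k K) = φK := rfl
    let T : Over (Spec (CommRingCat.of k)) := Over.mk (Spec.map (CommRingCat.ofHom (algebraMap k K)))
    have hT : T.hom = x ≫ s := by
      show Spec.map (CommRingCat.ofHom (algebraMap k K)) = _
      rw [halg, hφK]
    let gK : T ⟶ G := Over.homMk (x ≫ n₁) (by
      show (x ≫ n₁) ≫ G.hom = T.hom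
      rw [Category.assoc, hs, hT])
    have htu : (toUnit T).left = T.hom := by
      have := Over.w (toUnit T)
      simpa using this
    have heq : gK ≫ f = (toUnit T ≫ η[G]) ≫ f := by
      apply Over.OverMorphism.ext
      show (x ≫ n₁) ≫ f.left = ((toUnit T).left ≫ η[G].left) ≫ f.left
      rw [Category.assoc, hcond, Category.assoc, hone, htu, hT, Category.assoc]
    have h := hgeom K heq
    apply hext
    have h2 := congrArg (fun t => t.left) h
    have h3 : x ≫ n₁ = (toUnit T).left ≫ η[G].left := h2
    rw [h3, htu, hT]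
  -- sections are trivial
  have hsec : ∀ y : Spec (CommRingCat.of k) ⟶ X, y ≫ s = 𝟙 _ → y = u' := by
    intro y hy
    let K := AlgebraicClosure k
    let c : Spec (CommRingCat.of K) ⟶ Spec (CommRingCat.of k) :=
      Spec.map (CommRingCat.ofHom (algebraMap k K))
    haveI : Flat c := by
      rw [Flat.SpecMap_iff]
      simp only [CommRingCat.hom_ofHom]
      rw [RingHom.flat_algebraMap_iff]
      infer_instance
    haveI : Surjective c := by
      constructor
      intro x
      haveI : Subsingleton ↥(Spec (CommRingCat.of k)) :=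
        inferInstanceAs (Subsingleton (PrimeSpectrum k))
      obtain ⟨z⟩ : Nonempty ↥(Spec (CommRingCat.of K)) := inferInstanceAs (Nonempty (PrimeSpectrum K))
      exact ⟨z, Subsingleton.elim _ _⟩
    haveI : Epi c := inferInstance
    have h := F1 K (c ≫ y)
    have h' : c ≫ y = c ≫ u' := by
      calc c ≫ y = ((c ≫ y) ≫ s) ≫ u' := h
        _ = c ≫ u' := by rw [Category.assoc c y s, hy, Category.comp_id]
    exact (cancel_epi c).mp h'
  -- tangent vectors
  have F2 : ∀ (g : Spec (CommRingCat.of (DualNumber k)) ⟶ X),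
      g ≫ s = Spec.map (CommRingCat.ofHom (algebraMap k (DualNumber k))) →
      g = Spec.map (CommRingCat.ofHom (algebraMap k (DualNumber k))) ≫ u' := by
    intro g hg
    let T : Over (Spec (CommRingCat.of k)) :=
      Over.mk (Spec.map (CommRingCat.ofHom (algebraMap k (DualNumber k))))
    have hT : T.hom = g ≫ s := hg.symm
    let gG : T ⟶ G := Over.homMk (g ≫ n₁) (by
      show (g ≫ n₁) ≫ G.hom = T.hom
      rw [Category.assoc, hs, hT])
    have htu : (toUnit T).left = T.hom := by
      have := Over.w (toUnit T)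
      simpa using this
    have h1 : ∀ x : 𝟙_ (Over (Spec (CommRingCat.of k))) ⟶ T, x ≫ gG = η[G] := by
      intro x
      have hx : x.left ≫ T.hom = 𝟙 (Spec (CommRingCat.of k)) := Over.w x
      have hy := hsec (x.left ≫ g) (by rw [Category.assoc, ← hT, hx])
      apply Over.OverMorphism.ext
      show x.left ≫ g ≫ n₁ = η[G].left
      rw [← Category.assoc, hy, hu1]
    have h2 : gG ≫ f = toUnit _ ≫ η[G'] := by
      apply Over.OverMorphism.ext
      show (g ≫ n₁) ≫ f.left = (toUnit T).left ≫ η[G'].left
      rw [Category.assoc, hcond, htu, hT, Category.assoc]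
    have h := htan gG h1 h2
    have h3 : g ≫ n₁ = (toUnit T).left ≫ η[G].left := congrArg (fun t => t.left) h
    have h4 := hext g (by rw [h3, htu, hT])
    rw [h4, ← hT]
    rfl
  haveI hiso : IsIso s := isIso_of_trivial_points s u' hu2 F1 F2
  have hus : s ≫ u' = 𝟙 _ := by
    have : u' = inv s := by
      rw [← cancel_mono s, hu2, IsIso.inv_hom_id]
    rw [this, IsIso.hom_inv_id]
  have hn₁ : n₁ = s ≫ η[G].left := by
    rw [← hu1, ← Category.assoc, hus, Category.id_comp]
  -- conclude
  constructor
  intro T g₁ g₂ h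
  have hd : (g₁ * g₂⁻¹) ≫ f = toUnit T ≫ η[G'] := by
    rw [MonObj.mul_comp, GrpObj.inv_comp, h, mul_inv_cancel]
    rfl
  have htu : (toUnit T).left = T.hom := by
    have := Over.w (toUnit T)
    simpa using this
  have hd' : (g₁ * g₂⁻¹).left ≫ f.left = T.hom ≫ η[G'].left := by
    have := congrArg (fun t => t.left) hd
    simp only [Over.comp_left] at this
    rw [this, htu]
  let w : T.left ⟶ X := Limits.pullback.lift (g₁ * g₂⁻¹).left T.hom hd'
  have hw : w ≫ n₁ = (g₁ * g₂⁻¹).left := Limits.pullback.lift_fst _ _ _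
  have hw2 : w ≫ s = T.hom := Limits.pullback.lift_snd _ _ _
  have h1 : g₁ * g₂⁻¹ = 1 := by
    apply Over.OverMorphism.ext
    show (g₁ * g₂⁻¹).left = (toUnit T ≫ η[G]).left
    rw [← hw, hn₁, ← Category.assoc, hw2, Over.comp_left, htu]
  exact mul_inv_eq_one.mp h1

end Groth.Agent.S15609
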