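import Groth.Statements.S1561
import Mathlib
import Groth.Agent.Lib.Helper62.SmoothReg5

set_option autoImplicit false
universe u
open CategoryTheory CategoryTheory.Limits AlgebraicGeometry
open Variety

namespace Groth.Agent.S1561

/-- Let X be reduced and locally of finite type over a perfect field k. Then a point lies in the smooth
locus of X → Spec k exactly when its local ring is regular, and this locus is dense in X. -/
theorem result (k : Type u) [Field k] (X : Scheme.{u}) [X.Over (Spec (CommRingCat.of k))] [PerfectField k] [IsReduced X]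
    [LocallyOfFinitePresentation (X ↘ (Spec (CommRingCat.of k)))] :
    (∀ x : X, x ∈ (X ↘ (Spec (CommRingCat.of k))).smoothLocus ↔ IsRegularLocalRing (X.presheaf.stalk x)) ∧
      Dense ((X ↘ (Spec (CommRingCat.of k))).smoothLocus : Set X) := by
  refine ⟨fun x => ?_, Scheme.Hom.dense_smoothLocus_of_perfectField _⟩
  obtain ⟨_, ⟨V, hV, rfl⟩, hxV, -⟩ :=
    X.isBasis_affineOpens.exists_subset_of_mem_open (Set.mem_univ x) isOpen_univ
  have hVtop : V ≤ (X ↘ Spec (CommRingCat.of k)) ⁻¹ᵁ ⊤ := fun _ _ => trivial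
  have hfp := (X ↘ Spec (CommRingCat.of k)).finitePresentation_appLE (isAffineOpen_top _) hV hVtop
  rw [Scheme.Hom.mem_smoothLocus,
    formallySmooth_stalkMap_iff ⊤ (isAffineOpen_top _) V hV hVtop hxV]
  let _ : Algebra Γ(Spec (CommRingCat.of k), ⊤) Γ(X, V) :=
    ((X ↘ Spec (CommRingCat.of k)).appLE ⊤ V hVtop).hom.toAlgebra
  have : Algebra.FinitePresentation Γ(Spec (CommRingCat.of k), ⊤) Γ(X, V) := hfp
  let e : Γ(Spec (CommRingCat.of k), ⊤) ≃+* k :=
    (Scheme.ΓSpecIso (CommRingCat.of k)).commRingCatIsoToRingEquiv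
  let _ : Field Γ(Spec (CommRingCat.of k), ⊤) := (e.toMulEquiv.isField (Field.toIsField k)).toField
  have : PerfectField Γ(Spec (CommRingCat.of k), ⊤) := PerfectField.of_ringEquiv e.symm
  have : Algebra.FiniteType Γ(Spec (CommRingCat.of k), ⊤) Γ(X, V) := inferInstance
  have h1 := Groth.Agent.Lib.Helper62.SmoothReg.isSmoothAt_iff_isRegularLocalRing_of_perfectField
    Γ(Spec (CommRingCat.of k), ⊤) Γ(X, V) (hV.primeIdealOf ⟨x, hxV⟩).asIdeal
  let _ := X.presheaf.algebra_section_stalk ⟨x, hxV⟩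
  have hloc := hV.isLocalization_stalk ⟨x, hxV⟩
  let E : Localization.AtPrime (hV.primeIdealOf ⟨x, hxV⟩).asIdeal ≃ₐ[Γ(X, V)] X.presheaf.stalk x :=
    IsLocalization.algEquiv (hV.primeIdealOf ⟨x, hxV⟩).asIdeal.primeCompl _ _
  refine Iff.trans (show _ ↔ Algebra.IsSmoothAt Γ(Spec (CommRingCat.of k), ⊤)
    (hV.primeIdealOf ⟨x, hxV⟩).asIdeal from Iff.rfl) (h1.trans ?_)
  exact ⟨fun h => IsRegularLocalRing.of_ringEquiv E.toRingEquiv,
    fun h => IsRegularLocalRing.of_ringEquiv E.symm.toRingEquiv⟩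

end Groth.Agent.S1561
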