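import Groth.Statements.S15610
-- import your own Groth.Agent.* helpers here

set_option autoImplicit false
universe u
open SchFin SchFin.RSpace

namespace Groth.Agent.S15610

theorem connectedSpace_iff_idem (R : Type u) [CommRing R] :
    ConnectedSpace (PrimeSpectrum R) ↔
      Nontrivial R ∧ ∀ e : R, IsIdempotentElem e → e = 0 ∨ e = 1 := by
  constructor
  · intro h
    refine ⟨PrimeSpectrum.nonempty_iff_nontrivial.mp h.toNonempty, fun e he => ?_⟩
    have hcl : IsClopen (PrimeSpectrum.basicOpen e : Set (PrimeSpectrum R)) :=
      PrimeSpectrum.isClopen_iff.mpr ⟨e, he, rfl⟩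
    rcases isClopen_iff.mp hcl with h0 | h1
    · left
      apply PrimeSpectrum.basicOpen_injOn_isIdempotentElem he IsIdempotentElem.zero
      apply TopologicalSpace.Opens.ext
      rw [h0, PrimeSpectrum.basicOpen_zero]; rfl
    · right
      apply PrimeSpectrum.basicOpen_injOn_isIdempotentElem he IsIdempotentElem.one
      apply TopologicalSpace.Opens.ext
      rw [h1, PrimeSpectrum.basicOpen_one]; rfl
  · rintro ⟨hn, hid⟩
    rw [connectedSpace_iff_clopen]
    refine ⟨PrimeSpectrum.nonempty_iff_nontrivial.mpr hn, fun s hs => ?_⟩
    obtain ⟨e, he, rfl⟩ := PrimeSpectrum.isClopen_iff.mp hs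
    rcases hid e he with rfl | rfl
    · left; rw [PrimeSpectrum.basicOpen_zero]; rfl
    · right; rw [PrimeSpectrum.basicOpen_one]; rfl


open SchFin in
/-- A schematic finite space is well-connected (the prime spectrum of its ring of global sections is
connected and the prime spectrum of the ring of each point is connected) if and only if its poset of
points is non-empty and connected and the prime spectrum of the ring of each point is connected. -/
theorem result (X : RSpace.{u})
    (hX : X.IsSchematic) : X.IsWellConnected ↔ (X.IsTopConnected ∧ X.IsPwConnected) := by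
  constructor
  · rintro ⟨hc, hpw⟩
    refine ⟨?_, hpw⟩
    have hc' : ConnectedSpace (PrimeSpectrum (X.sectRing Set.univ)) := hc
    obtain ⟨hnt, hid⟩ := (connectedSpace_iff_idem _).mp hc'
    have hne : Nonempty X.pt := by
      by_contra hemp
      rw [not_nonempty_iff] at hemp
      obtain ⟨a, b, hab⟩ := hnt
      apply hab
      apply Subtype.ext
      funext q
      exact (hemp.false q.1).elim
    refine ⟨hne, fun p q => ?_⟩
    classical
    have hntr : ∀ r : X.pt, Nontrivial (X.ring r) := fun r =>
      ((connectedSpace_iff_idem _).mp (hpw r)).1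
    -- the indicator family of the component of p
    let e : X.sectRing Set.univ := ⟨fun r =>
        if Relation.EqvGen (fun a b : X.pt => a ≤ b) p r.1 then 1 else 0, by
      intro r r' hrr'
      by_cases hr : Relation.EqvGen (fun a b : X.pt => a ≤ b) p r.1
      · have hr' : Relation.EqvGen (fun a b : X.pt => a ≤ b) p r'.1 :=
          Relation.EqvGen.trans _ _ _ hr (Relation.EqvGen.rel _ _ hrr')
        simp only [if_pos hr, if_pos hr', map_one]
      · have hr' : ¬ Relation.EqvGen (fun a b : X.pt => a ≤ b) p r'.1 := fun h' =>
          hr (Relation.EqvGen.trans _ _ _ h'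
            (Relation.EqvGen.symm _ _ (Relation.EqvGen.rel _ _ hrr')))
        simp only [if_neg hr, if_neg hr', map_zero]⟩
    have he : IsIdempotentElem e := by
      apply Subtype.ext
      funext r
      change (if Relation.EqvGen (fun a b : X.pt => a ≤ b) p r.1 then (1 : X.ring r.1) else 0) *
        (if Relation.EqvGen (fun a b : X.pt => a ≤ b) p r.1 then (1 : X.ring r.1) else 0) = _
      split_ifs with hh
      · rw [mul_one]; exact (if_pos hh).symm
      · rw [mul_zero]; exact (if_neg hh).symm
    have hep : e.1 ⟨p, trivial⟩ = 1 := if_pos (Relation.EqvGen.refl p)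
    rcases hid e he with h0 | h1
    · exfalso
      have : e.1 ⟨p, trivial⟩ = 0 := by rw [h0]; rfl
      rw [hep] at this
      exact (hntr p).exists_pair_ne.elim fun a ⟨b, hab⟩ => hab (by
        rw [← mul_one a, ← mul_one b, this, mul_zero, mul_zero])
    · have h1q : e.1 ⟨q, trivial⟩ = 1 := by rw [h1]; rfl
      by_contra hq
      have h0q : e.1 ⟨q, trivial⟩ = 0 := if_neg hq
      rw [h0q] at h1q
      exact (hntr q).exists_pair_ne.elim fun a ⟨b, hab⟩ => hab (by
        rw [← mul_one a, ← mul_one b, ← h1q, mul_zero, mul_zero])
  · rintro ⟨⟨hne, hconn⟩, hpw⟩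
    refine ⟨?_, hpw⟩
    change ConnectedSpace (PrimeSpectrum (X.sectRing Set.univ))
    rw [connectedSpace_iff_idem]
    have hntr : ∀ r : X.pt, Nontrivial (X.ring r) := fun r =>
      ((connectedSpace_iff_idem _).mp (hpw r)).1
    obtain ⟨p⟩ := hne
    constructor
    · refine ⟨⟨0, 1, fun h => ?_⟩⟩
      have : (0 : X.sectRing Set.univ).1 ⟨p, trivial⟩ = (1 : X.sectRing Set.univ).1 ⟨p, trivial⟩ := by
        rw [h]
      exact zero_ne_one (α := X.ring p) this
    · intro e he
      have hidem : ∀ r : X.pt, IsIdempotentElem (e.1 ⟨r, trivial⟩) := fun r => by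
        have := congrArg (fun t : X.sectRing Set.univ => t.1 ⟨r, trivial⟩) he
        exact this
      have h01 : ∀ r : X.pt, e.1 ⟨r, trivial⟩ = 0 ∨ e.1 ⟨r, trivial⟩ = 1 := fun r =>
        ((connectedSpace_iff_idem _).mp (hpw r)).2 _ (hidem r)
      -- the value is constant along the order
      have hstep : ∀ a b : X.pt, a ≤ b → (e.1 ⟨a, trivial⟩ = 1 ↔ e.1 ⟨b, trivial⟩ = 1) := by
        intro a b hab
        have hres : X.res hab (e.1 ⟨a, trivial⟩) = e.1 ⟨b, trivial⟩ := e.2 ⟨a, trivial⟩ ⟨b, trivial⟩ hab
        constructor
        · intro ha; rw [← hres, ha, map_one]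
        · intro hb
          rcases h01 a with ha | ha
          · exfalso
            rw [ha, map_zero] at hres
            rw [← hres] at hb
            exact zero_ne_one (α := X.ring b) hb
          · exact ha
      have hall : ∀ a b : X.pt, Relation.EqvGen (fun a b : X.pt => a ≤ b) a b →
          (e.1 ⟨a, trivial⟩ = 1 ↔ e.1 ⟨b, trivial⟩ = 1) := by
        intro a b hab
        induction hab with
        | rel a b h => exact hstep a b h
        | refl a => exact Iff.rfl
        | symm a b _ ih => exact ih.symm
        | trans a b c _ _ ih1 ih2 => exact ih1.trans ih2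
      rcases h01 p with hp | hp
      · left
        apply Subtype.ext
        funext r
        rcases h01 r.1 with hr | hr
        · exact hr
        · exfalso
          have := (hall r.1 p (hconn r.1 p)).mp hr
          rw [hp] at this
          exact zero_ne_one (α := X.ring p) this
      · right
        apply Subtype.ext
        funext r
        exact (hall p r.1 (hconn p r.1)).mp hp

end Groth.Agent.S15610
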