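import Groth.Statements.S15613
import Groth.Agent.Lib.Helper89.SchFinLib
import Groth.Agent.Lib.Helper89.PrimeTensor

set_option autoImplicit false
universe u
open SchFin SchFin.GeomPt

namespace Groth.Agent.S15613

open SchFin in
/-- For a geometric point of a schematic finite space with values in an algebraically closed field,
hitting the point x with ring map from the ring of x to the field, the kernel of that ring map does
not lift to any point strictly above x: no prime of the ring of such a point contracts to it along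
the restriction map. -/
theorem result (X : RSpace.{u}) (hX : X.IsSchematic) {Ω : Type u} [Field Ω]
    [IsAlgClosed Ω] (ξ : GeomPt X Ω) {x' : X.pt} (hx : ξ.base < x') (P : Ideal (X.ring x')) [P.IsPrime] :
    P.comap (X.res hx.le) ≠ RingHom.ker ξ.toField := by
  intro hP
  set f := ξ.hom with hf
  set b : X.pt := ξ.base with hb
  have hS := (ξ.isSchematic.2.2 0 PUnit.unit PUnit.unit (le_refl _) b x' hx.le).2
  set φ₁ := Coef.ofHom f b (f.wedge PUnit.unit b) (f.wedge_subset_pre PUnit.unit b) with hφ₁
  set φ₂ := Coef.ofHom f x' (f.wedge PUnit.unit x') (f.wedge_subset_pre PUnit.unit x') with hφ₂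
  let alg : Algebra (X.ring b) (X.ring x') := (X.res hx.le).toAlgebra
  let algΩ : Algebra (X.ring b) Ω := ξ.toField.toAlgebra
  let modN : Module (X.ring b) (H φ₂ (RSpace.point Ω).str 0) := Module.compHom _ (X.res hx.le)
  have tower : IsScalarTower (X.ring b) (X.ring x') (H φ₂ (RSpace.point Ω).str 0) :=
    IsScalarTower.of_algebraMap_smul fun _ _ => rfl
  let fL : H φ₁ (RSpace.point Ω).str 0 →ₗ[X.ring b] H φ₂ (RSpace.point Ω).str 0 :=
    { toFun := resH (RSpace.point Ω).str (f.subTgt PUnit.unit hx.le) 0
      map_add' := (resH (RSpace.point Ω).str (f.subTgt PUnit.unit hx.le) 0).map_add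
      map_smul' := (resH (RSpace.point Ω).str (f.subTgt PUnit.unit hx.le) 0).map_smulₛₗ }
  have hBC' : IsBaseChange (X.ring x') fL := hS
  let e := hBC'.equiv
  -- the target is trivial
  have hsub2 : Subsingleton (H φ₂ (RSpace.point Ω).str 0) := by
    refine ⟨fun h h' => ?_⟩
    apply Groth.Agent.Lib.Helper89.SchFinLib.valH_ext
    intro q
    exact absurd q.2.2 (not_le_of_gt hx)
  have hsub1 : Subsingleton (TensorProduct (X.ring b) (X.ring x') (H φ₁ (RSpace.point Ω).str 0)) :=
    e.injective.subsingleton
  -- evaluation at the point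
  have pmem : PUnit.unit ∈ f.wedge PUnit.unit b := ⟨le_refl _, le_refl b⟩
  let ev : H φ₁ (RSpace.point Ω).str 0 →ₗ[X.ring b] Ω :=
    { toFun := fun h => Groth.Agent.Lib.Helper89.SchFinLib.valH φ₁ (RSpace.point Ω).str h
        ⟨PUnit.unit, pmem⟩
      map_add' := fun h h' =>
        Groth.Agent.Lib.Helper89.SchFinLib.valH_add φ₁ (RSpace.point Ω).str h h' _
      map_smul' := fun a h => by
        rw [Groth.Agent.Lib.Helper89.SchFinLib.valH_smul]
        change ξ.toField (X.res _ a) * _ = ξ.toField a * _
        rw [X.res_self] }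
  have hev : Function.Bijective ev :=
    Groth.Agent.Lib.Helper89.SchFinLib.valH_min_bijective (RSpace.point Ω) φ₁
      (RSpace.point Ω).str ⟨PUnit.unit, pmem⟩ (fun q => le_refl _)
  let evE : H φ₁ (RSpace.point Ω).str 0 ≃ₗ[X.ring b] Ω := LinearEquiv.ofBijective ev hev
  have hsub0 : Subsingleton (TensorProduct (X.ring b) (X.ring x') Ω) :=
    (LinearEquiv.lTensor (X.ring x') evE.symm).injective.subsingleton
  -- but there is a prime
  have hcomap : PrimeSpectrum.comap (algebraMap (X.ring b) (X.ring x')) ⟨P, inferInstance⟩ =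
      PrimeSpectrum.comap (algebraMap (X.ring b) Ω) ⟨⊥, Ideal.isPrime_bot⟩ := by
    apply PrimeSpectrum.ext
    change P.comap (X.res hx.le) = (⊥ : Ideal Ω).comap ξ.toField
    rw [hP]; rfl
  obtain ⟨r, -, -⟩ := Groth.Agent.Lib.Helper89.PrimeTensor.exists_prime_tensor
    (R := X.ring b) (S := X.ring x') (T := Ω) ⟨P, inferInstance⟩ ⟨⊥, Ideal.isPrime_bot⟩ hcomap
  have hnt : Nontrivial (TensorProduct (X.ring b) (X.ring x') Ω) := PrimeSpectrum.nonempty_iff_nontrivial.mp ⟨r⟩
  exact false_of_nontrivial_of_subsingleton (TensorProduct (X.ring b) (X.ring x') Ω)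

end Groth.Agent.S15613
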