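import Groth.Statements.S15614
import Groth.Agent.Lib.Helper89.SchFinLib
import Groth.Agent.Lib.Helper89.PrimeTensor
import Mathlib.RingTheory.Flat.FaithfullyFlat.Algebra

set_option autoImplicit false
universe u
open SchFin SchFin.RSpace

namespace Groth.Agent.S15614

open SchFin in
/-- In a schematic finite space, let x and y be points above a common point s, P a prime of the ring of
x and Q a prime of the ring of y whose contractions to the ring of s agree. Then the pairs (x, P)
and (y, Q) are related: some point above both x and y carries a prime contracting to P and to Q.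
(The published statement does not carry the hypothesis that, for every two points that lie above a
common point and whose minimal open sets meet, the product of the rings over the intersection of
these minimal open sets is faithfully flat over the ring of sections on it; the published proof
obtains this fact from properties of affine schematic spaces recalled there without proof, and this
row carries it explicitly.) -/
theorem result (X : RSpace.{u}) (hX : X.IsSchematic)
    (hff : ∀ s a b : X.pt, s ≤ a → s ≤ b → (X.up a ∩ X.up b).Nonempty →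
      Module.FaithfullyFlat (X.sectRing (X.up a ∩ X.up b)) ((q : ↥(X.up a ∩ X.up b)) → X.ring q.1))
    {s x y : X.pt} (hx : s ≤ x) (hy : s ≤ y) (P : PrimeSpectrum (X.ring x)) (Q : PrimeSpectrum (X.ring y))
    (hPQ : PrimeSpectrum.comap (X.res hx) P = PrimeSpectrum.comap (X.res hy) Q) :
    X.PairRel ⟨x, P⟩ ⟨y, Q⟩ := by
  classical
  let algx : Algebra (X.ring s) (X.ring x) := (X.res hx).toAlgebra
  let algy : Algebra (X.ring s) (X.ring y) := (X.res hy).toAlgebra
  set V : Set X.pt := X.up x ∩ X.up y with hVdef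
  obtain ⟨θ, hθ, hθf⟩ := Groth.Agent.Lib.Helper89.SchFinLib.schematic_deg0 X hX hx hy V
    (fun q => Iff.rfl)
  -- θ is multiplicative
  have hone : θ 1 = 1 := by
    apply Subtype.ext
    funext q
    have := hθf 1 1 q
    rw [map_one, map_one, mul_one] at this
    exact this
  have hmul : ∀ t t' : TensorProduct (X.ring s) (X.ring x) (X.ring y), θ (t * t') = θ t * θ t' := by
    intro t t'
    induction t using TensorProduct.induction_on with
    | zero => rw [zero_mul, map_zero, zero_mul]
    | tmul b c =>
      induction t' using TensorProduct.induction_on with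
      | zero => rw [mul_zero, map_zero, mul_zero]
      | tmul b' c' =>
        rw [Algebra.TensorProduct.tmul_mul_tmul]
        apply Subtype.ext
        funext q
        change (θ ((b * b') ⊗ₜ[X.ring s] (c * c'))).1 q =
          (θ (b ⊗ₜ[X.ring s] c)).1 q * (θ (b' ⊗ₜ[X.ring s] c')).1 q
        rw [hθf, hθf, hθf, map_mul, map_mul]
        ring
      | add u v hu hv => rw [mul_add, map_add, map_add, hu, hv, mul_add]
    | add u v hu hv => rw [add_mul, map_add, map_add, hu, hv, add_mul]
  let Θ : TensorProduct (X.ring s) (X.ring x) (X.ring y) ≃+* X.sectRing V :=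
    RingEquiv.ofBijective
      ({ toFun := θ, map_one' := hone, map_mul' := hmul, map_zero' := map_zero θ,
         map_add' := map_add θ } : TensorProduct (X.ring s) (X.ring x) (X.ring y) →+* X.sectRing V)
      hθ
  have hΘ : ∀ t, Θ t = θ t := fun t => rfl
  -- a prime of the tensor product over P and Q
  obtain ⟨r₀, hr₀P, hr₀Q⟩ := Groth.Agent.Lib.Helper89.PrimeTensor.exists_prime_tensor
    (R := X.ring s) (S := X.ring x) (T := X.ring y) P Q hPQ
  -- transport to the sections
  let 𝔯 : PrimeSpectrum (X.sectRing V) := PrimeSpectrum.comap Θ.symm.toRingHom r₀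
  have hne : V.Nonempty := by
    by_contra hemp
    rw [Set.not_nonempty_iff_eq_empty] at hemp
    have hnt : Nontrivial (X.sectRing V) := PrimeSpectrum.nonempty_iff_nontrivial.mp ⟨𝔯⟩
    obtain ⟨a, b, hab⟩ := hnt
    apply hab
    apply Subtype.ext
    funext q
    exact absurd (hemp ▸ q.2 : q.1 ∈ (∅ : Set X.pt)) (Set.notMem_empty _)
  have hffV := hff s x y hx hy hne
  obtain ⟨𝔯', h𝔯'⟩ := PrimeSpectrum.comap_surjective_of_faithfullyFlat
    (A := X.sectRing V) (B := (q : ↥V) → X.ring q.1) 𝔯
  obtain ⟨q₀, r', hr'⟩ := PrimeSpectrum.exists_comap_evalRingHom_eq 𝔯'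
  refine ⟨q₀.1, q₀.2.1, q₀.2.2, r', ?_, ?_⟩
  · rw [← hr₀P]
    apply PrimeSpectrum.ext
    ext b
    have e1 : b ∈ (PrimeSpectrum.comap (X.res q₀.2.1) r').asIdeal ↔
        (Θ (b ⊗ₜ[X.ring s] 1)) ∈ 𝔯.asIdeal := by
      rw [← h𝔯', ← hr']
      simp only [PrimeSpectrum.comap_asIdeal, Ideal.mem_comap]
      have : Pi.evalRingHom (fun q : ↥V => X.ring q.1) q₀
          (algebraMap (X.sectRing V) ((q : ↥V) → X.ring q.1) (Θ (b ⊗ₜ[X.ring s] 1))) =
          X.res q₀.2.1 b := by
        change (θ (b ⊗ₜ[X.ring s] 1)).1 q₀ = _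
        rw [hθf, map_one, mul_one]
      rw [this]
    rw [e1]
    simp only [𝔯, PrimeSpectrum.comap_asIdeal, Ideal.mem_comap]
    have : Θ.symm.toRingHom (Θ (b ⊗ₜ[X.ring s] 1)) = b ⊗ₜ[X.ring s] 1 := Θ.symm_apply_apply _
    rw [this]
    rfl
  · rw [← hr₀Q]
    apply PrimeSpectrum.ext
    ext c
    have e1 : c ∈ (PrimeSpectrum.comap (X.res q₀.2.2) r').asIdeal ↔
        (Θ (1 ⊗ₜ[X.ring s] c)) ∈ 𝔯.asIdeal := by
      rw [← h𝔯', ← hr']
      simp only [PrimeSpectrum.comap_asIdeal, Ideal.mem_comap]
      have : Pi.evalRingHom (fun q : ↥V => X.ring q.1) q₀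
          (algebraMap (X.sectRing V) ((q : ↥V) → X.ring q.1) (Θ (1 ⊗ₜ[X.ring s] c))) =
          X.res q₀.2.2 c := by
        change (θ (1 ⊗ₜ[X.ring s] c)).1 q₀ = _
        rw [hθf, map_one, one_mul]
      rw [this]
    rw [e1]
    simp only [𝔯, PrimeSpectrum.comap_asIdeal, Ideal.mem_comap]
    have : Θ.symm.toRingHom (Θ (1 ⊗ₜ[X.ring s] c)) = 1 ⊗ₜ[X.ring s] c := Θ.symm_apply_apply _
    rw [this]
    rfl

end Groth.Agent.S15614
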