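import Groth.Statements.S15615
import Groth.Agent.S15614

set_option autoImplicit false
universe u
open SchFin SchFin.RSpace

namespace Groth.Agent.S15615

open SchFin in
theorem comap_res_self (X : RSpace.{u}) (p : X.pt) (r : PrimeSpectrum (X.ring p)) :
    PrimeSpectrum.comap (X.res (le_refl p)) r = r := by
  have : X.res (le_refl p) = RingHom.id _ := RingHom.ext fun a => X.res_self p a
  rw [this]
  rfl

open SchFin in
theorem comap_res_trans (X : RSpace.{u}) {p q s : X.pt} (h : p ≤ q) (h' : q ≤ s)
    (r : PrimeSpectrum (X.ring s)) :
    PrimeSpectrum.comap (X.res (h.trans h')) r =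
      PrimeSpectrum.comap (X.res h) (PrimeSpectrum.comap (X.res h') r) := by
  have : X.res (h.trans h') = (X.res h').comp (X.res h) :=
    RingHom.ext fun a => (X.res_comp h h' a).symm
  rw [this]
  rfl

open SchFin in
theorem pairRel_trans (X : RSpace.{u}) (hX : X.IsSchematic)
    (hff : ∀ s a b : X.pt, s ≤ a → s ≤ b → (X.up a ∩ X.up b).Nonempty →
      Module.FaithfullyFlat (X.sectRing (X.up a ∩ X.up b)) ((q : ↥(X.up a ∩ X.up b)) → X.ring q.1))
    {a b c : X.Pair} (hab : X.PairRel a b) (hbc : X.PairRel b c) : X.PairRel a c := by
  obtain ⟨z, ha, hb, r, h1, h2⟩ := hab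
  obtain ⟨z', hb', hc, r', h3, h4⟩ := hbc
  obtain ⟨w, hz, hz', t, h5, h6⟩ :=
    Groth.Agent.S15614.result X hX hff hb hb' r r' (h2.trans h3.symm)
  have hz₁ : z ≤ w := hz
  have hz₂ : z' ≤ w := hz'
  have h5' : PrimeSpectrum.comap (X.res hz₁) t = r := h5
  have h6' : PrimeSpectrum.comap (X.res hz₂) t = r' := h6
  refine ⟨w, ha.trans hz₁, hc.trans hz₂, t, ?_, ?_⟩
  · rw [comap_res_trans X ha hz₁ t, h5', h1]
  · rw [comap_res_trans X hc hz₂ t, h6', h4]


open SchFin in
/-- In a schematic finite space, the relation on pairs (a point together with a prime of its ring) under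
which two pairs are related when some pair at a point above both restricts to each of them is an
equivalence relation. (The published statement does not carry the hypothesis that, for every two
points that lie above a common point and whose minimal open sets meet, the product of the rings over
the intersection of these minimal open sets is faithfully flat over the ring of sections on it; the
published proof obtains this fact from properties of affine schematic spaces recalled there without
proof, and this row carries it explicitly.) -/
theorem result (X : RSpace.{u}) (hX : X.IsSchematic)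
    (hff : ∀ s a b : X.pt, s ≤ a → s ≤ b → (X.up a ∩ X.up b).Nonempty →
      Module.FaithfullyFlat (X.sectRing (X.up a ∩ X.up b)) ((q : ↥(X.up a ∩ X.up b)) → X.ring q.1)) :
    Equivalence X.PairRel := by
  refine ⟨fun a => ?_, fun {a b} hab => ?_, fun {a b c} hab hbc => pairRel_trans X hX hff hab hbc⟩
  · exact ⟨a.1, le_refl _, le_refl _, a.2, comap_res_self X _ _, comap_res_self X _ _⟩
  · obtain ⟨z, ha, hb, r, h1, h2⟩ := hab
    exact ⟨z, hb, ha, r, h2, h1⟩

end Groth.Agent.S15615
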