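import Groth.Statements.S15616
import Groth.Agent.S15615
import Mathlib.Order.Preorder.Finite

set_option autoImplicit false
universe u
open SchFin SchFin.RSpace

namespace Groth.Agent.S15616

open SchFin in
/-- In a schematic finite space every schematic point, that is, every class of pairs (a point with a
prime of its ring), has exactly one representative whose point lies above the points of all
representatives of the class. (The published statement does not carry the hypothesis that, for every
two points that lie above a common point and whose minimal open sets meet, the product of the rings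
over the intersection of these minimal open sets is faithfully flat over the ring of sections on it;
the published proof obtains this fact from properties of affine schematic spaces recalled there
without proof, and this row carries it explicitly.) -/
theorem result (X : RSpace.{u}) (hX : X.IsSchematic)
    (hff : ∀ s a b : X.pt, s ≤ a → s ≤ b → (X.up a ∩ X.up b).Nonempty →
      Module.FaithfullyFlat (X.sectRing (X.up a ∩ X.up b)) ((q : ↥(X.up a ∩ X.up b)) → X.ring q.1))
    (c : X.SchPt) :
    ∃! a : X.Pair, Quot.mk X.PairRel a = c ∧ ∀ b : X.Pair, Quot.mk X.PairRel b = c → b.1 ≤ a.1 := by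
  classical
  have E : Equivalence X.PairRel := Groth.Agent.S15615.result X hX hff
  have hq : ∀ a b : X.Pair, Quot.mk X.PairRel a = Quot.mk X.PairRel b ↔ X.PairRel a b := by
    intro a b
    rw [Quot.eq]
    exact E.eqvGen_iff
  obtain ⟨a₀, ha₀⟩ := Quot.exists_rep c
  let T : Set X.pt := {p | ∃ r : PrimeSpectrum (X.ring p), Quot.mk X.PairRel (⟨p, r⟩ : X.Pair) = c}
  have hT : a₀.1 ∈ T := ⟨a₀.2, ha₀⟩
  obtain ⟨p₀, -, hp₀⟩ := (Set.toFinite T).exists_le_maximal hT
  obtain ⟨r₀, hr₀⟩ := hp₀.prop
  have hmax : ∀ b : X.Pair, Quot.mk X.PairRel b = c → b.1 ≤ p₀ := by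
    intro b hb
    have hrel : X.PairRel ⟨p₀, r₀⟩ b := (hq _ _).mp (hr₀.trans hb.symm)
    obtain ⟨z, ha, hbz, r, h1, h2⟩ := hrel
    have ha' : p₀ ≤ z := ha
    have hz : z ∈ T := by
      refine ⟨r, ?_⟩
      rw [← hr₀]
      exact (hq (⟨z, r⟩ : X.Pair) (⟨p₀, r₀⟩ : X.Pair)).mpr
        ⟨z, le_refl z, ha', r, Groth.Agent.S15615.comap_res_self X z r, h1⟩
    have : z ≤ p₀ := hp₀.le_of_ge hz ha'
    exact hbz.trans this
  refine ⟨⟨p₀, r₀⟩, ⟨hr₀, hmax⟩, ?_⟩
  rintro ⟨p, r⟩ ⟨hpc, hpmax⟩
  have h1 : p ≤ p₀ := hmax ⟨p, r⟩ hpc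
  have h2 : p₀ ≤ p := hpmax ⟨p₀, r₀⟩ hr₀
  obtain rfl : p = p₀ := le_antisymm h1 h2
  have hrel : X.PairRel ⟨p, r⟩ ⟨p, r₀⟩ := (hq _ _).mp (hpc.trans hr₀.symm)
  obtain ⟨z, ha, hb, t, e1, e2⟩ := hrel
  have e1' : PrimeSpectrum.comap (X.res (show p ≤ z from ha)) t = r := e1
  have e2' : PrimeSpectrum.comap (X.res (show p ≤ z from ha)) t = r₀ := e2
  rw [← e1', ← e2']

end Groth.Agent.S15616
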