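import Groth.Statements.S15625
import Groth.Agent.Lib.Helper89.FEtBasic

set_option autoImplicit false
universe u
open SchFin SchFin.FEt

namespace Groth.Agent.S15625

open SchFin CategoryTheory in
/-- Over a schematic finite space, every morphism of étale covers factors, inside the category of étale
covers, as a morphism that is surjective at every point followed by one that is injective at every
point (in particular as an epimorphism followed by a monomorphism; the middle object is the quotient
by the kernel). -/
theorem result (X : RSpace.{u}) (hX : X.IsSchematic) {A B : FEt X}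
    (f : A ⟶ B) :
    ∃ (Q : FEt X) (g : A ⟶ Q) (h : Q ⟶ B), g ≫ h = f ∧ (∀ p : X.pt, Function.Surjective (g.hom.app p)) ∧
      ∀ p : X.pt, Function.Injective (h.hom.app p) := by
  open Groth.Agent.Lib.Helper89.FEtBasic in
  obtain ⟨E, hE⟩ := exists_kerIdem hX f
  have hmem : ∀ p (a : A.obj.carrier p), f.hom.app p a = 0 ↔ a ∈ Ideal.span {E.e p} := by
    intro p a
    rw [← hE p]
    exact Iff.rfl
  have hf0 : ∀ p, f.hom.app p (E.e p) = 0 := fun p => (hmem p _).mpr (Ideal.subset_span rfl)
  refine ⟨quotFEt A E, quotProj A E, quotLift E f hf0, quotProj_quotLift E f hf0,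
    fun p => quotProj_surjective A E p, fun p => ?_⟩
  rw [injective_iff_map_eq_zero]
  intro b hb
  obtain ⟨a, rfl⟩ := Ideal.Quotient.mk_surjective b
  rw [quotLift_mk] at hb
  exact Ideal.Quotient.eq_zero_iff_mem.mpr ((hmem p a).mp hb)

end Groth.Agent.S15625
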