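import Groth.Statements.S15627
import Groth.Agent.Lib.Helper89.SchFinBC
import Groth.Agent.Lib.Helper89.PrimeTensor
import Groth.Agent.S15614

set_option autoImplicit false
universe u
open SchFin SchFin.GeomPt

namespace Groth.Agent.S15627

open Groth.Agent.Lib.Helper89.SchFinLib Groth.Agent.Lib.Helper89.SchFinBC

/-- no strict chains with at least two points in a one-point poset -/
theorem chain_isEmpty {Ω : Type u} [Field Ω] (U : Set (RSpace.point Ω).pt) (n : ℕ) :
    IsEmpty (Chain U (n + 1)) := by
  refine ⟨fun σ => ?_⟩
  have h01 : σ 0 = σ 1 := Subtype.ext rfl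
  have := σ.injective h01
  exact absurd this (by simp)

theorem H_succ_subsingleton {Ω : Type u} [Field Ω] {U : Set (RSpace.point Ω).pt} {R : Type u}
    [CommRing R] (φ : Coef (RSpace.point Ω) U R) (M : OMod (RSpace.point Ω)) (n : ℕ) :
    Subsingleton (H φ M (n + 1)) := by
  have h0 : ∀ h : H φ M (n + 1), h = 0 := by
    intro h
    obtain ⟨c, rfl⟩ := Submodule.mkQ_surjective _ h
    have : c = 0 := by
      apply Subtype.ext
      funext σ
      exact ((chain_isEmpty U n).false σ).elim
    rw [this]; exact map_zero _
  exact ⟨fun a b => by rw [h0 a, h0 b]⟩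

theorem H_zero_subsingleton {Y : RSpace.{u}} {U : Set Y.pt} {R : Type u}
    [CommRing R] (φ : Coef Y U R) (M : OMod Y) (hU : ∀ q, q ∉ U) :
    Subsingleton (H φ M 0) :=
  ⟨fun a b => valH_ext φ M (fun q => absurd q.2 (hU q.1))⟩


open SchFin in
/-- Let X be a schematic finite space and Ω an algebraically closed field. Given a pair (x, P) of a
point and a prime of its ring which is the maximal representative of its class (every related pair
sits at a point below x) and a ring map φ from the residue field of P to Ω, there is exactly one
geometric point of X with values in Ω that hits x and whose ring map from the ring of x to Ω is φ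
composed with the passage to the residue field. (The published statement is the resulting bijection
between geometric points with values in Ω and schematic points equipped with an embedding of their
residue field into Ω.) (The published statement does not carry the hypothesis that, for every two
points that lie above a common point and whose minimal open sets meet, the product of the rings over
the intersection of these minimal open sets is faithfully flat over the ring of sections on it; the
published proof obtains this fact from properties of affine schematic spaces recalled there without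
proof, and this row carries it explicitly.) -/
theorem result (X : RSpace.{u}) (hX : X.IsSchematic)
    (hff : ∀ s a b : X.pt, s ≤ a → s ≤ b → (X.up a ∩ X.up b).Nonempty →
      Module.FaithfullyFlat (X.sectRing (X.up a ∩ X.up b)) ((q : ↥(X.up a ∩ X.up b)) → X.ring q.1))
    (Ω : Type u) [Field Ω] [IsAlgClosed Ω] (a : X.Pair) (ha : ∀ b : X.Pair, X.PairRel a b → b.1 ≤ a.1)
    (φ : a.κ →+* Ω) :
    ∃! ξ : GeomPt X Ω, (⟨ξ.base, ξ.toField⟩ : Σ x : X.pt, (X.ring x →+* Ω)) =
      ⟨a.1, φ.comp (algebraMap (X.ring a.1) a.κ)⟩ := by
  classical
  set x : X.pt := a.1 with hxdef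
  set ψ : X.ring x →+* Ω := φ.comp (algebraMap (X.ring x) a.κ) with hψ
  have hkerψ : ∀ b : X.ring x, ψ b = 0 ↔ b ∈ a.2.asIdeal := by
    intro b
    rw [hψ, RingHom.comp_apply, map_eq_zero_iff φ φ.injective,
      Ideal.algebraMap_residueField_eq_zero]
  let Y : RSpace.{u} := RSpace.point Ω
  let f : Hom Y X :=
    { fn := fun _ => x
      mono := fun _ _ _ => le_refl x
      app := fun _ => ψ
      compat := fun {q q'} h b => by
        change ψ b = ψ (X.res (le_refl x) b)
        rw [X.res_self] }
  have hYfin : Y.IsFinSp := ⟨fun _ => (inferInstance : IsNoetherianRing Ω),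
    fun _ _ _ => RingHom.Flat.id Ω⟩
  have hwedge_mem : ∀ (x₁ : Y.pt) (y : X.pt), y ≤ x → PUnit.unit ∈ f.wedge x₁ y :=
    fun x₁ y h => ⟨le_refl _, h⟩
  have hwedge_empty : ∀ (x₁ : Y.pt) (y : X.pt), ¬ y ≤ x → ∀ q, q ∉ f.wedge x₁ y :=
    fun x₁ y h q hq => h hq.2
  have hsch : f.IsSchematic := by
    refine ⟨hYfin, hX.1, ?_⟩
    intro n x₁ x₁' hx y y' hy
    constructor
    · -- source direction
      cases n with
      | succ n =>
        have := H_succ_subsingleton (Coef.ofLE x₁ (f.wedge x₁ y) (f.wedge_subset_up x₁ y)) Y.str n
        have := H_succ_subsingleton (Coef.ofLE x₁' (f.wedge x₁' y) (f.wedge_subset_up x₁' y))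
          Y.str n
        exact isBCAlong_of_subsingleton _ _
      | zero =>
        by_cases hyx : y ≤ x
        · refine isBCAlong_of_eval (Y.res hx)
            (Algebra.isEpi_of_surjective_algebraMap (R := Ω) (A := Ω)
              (fun b => ⟨b, rfl⟩)) _ (RingHom.id Ω)
            (fun h => valH _ Y.str h ⟨PUnit.unit, hwedge_mem x₁ y hyx⟩)
            (fun h => valH _ Y.str h ⟨PUnit.unit, hwedge_mem x₁' y hyx⟩)
            (valH_min_bijective Y _ Y.str ⟨PUnit.unit, hwedge_mem x₁ y hyx⟩ (fun q => le_refl _))
            (valH_min_bijective Y _ Y.str ⟨PUnit.unit, hwedge_mem x₁' y hyx⟩ (fun q => le_refl _))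
            (fun m m' => valH_add _ _ m m' _) (fun r m => ?_)
            (fun m m' => valH_add _ _ m m' _) (fun r m => ?_) (fun m => ?_)
          · rw [valH_smul]; rfl
          · rw [valH_smul]; rfl
          · exact valH_resH Y.str (f.subSrc hx y) m _
        · have := H_zero_subsingleton (Coef.ofLE x₁ (f.wedge x₁ y) (f.wedge_subset_up x₁ y))
            Y.str (hwedge_empty x₁ y hyx)
          have := H_zero_subsingleton (Coef.ofLE x₁' (f.wedge x₁' y) (f.wedge_subset_up x₁' y))
            Y.str (hwedge_empty x₁' y hyx)
          exact isBCAlong_of_subsingleton _ _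
    · -- target direction
      cases n with
      | succ n =>
        have := H_succ_subsingleton (Coef.ofHom f y (f.wedge x₁ y) (f.wedge_subset_pre x₁ y))
          Y.str n
        have := H_succ_subsingleton (Coef.ofHom f y' (f.wedge x₁ y') (f.wedge_subset_pre x₁ y'))
          Y.str n
        exact isBCAlong_of_subsingleton _ _
      | zero =>
        by_cases h1 : y' ≤ x
        · have h2 : y ≤ x := hy.trans h1
          refine isBCAlong_of_eval (X.res hy) (isEpi_res X hX hy) _ (ψ.comp (X.res h1))
            (fun h => valH _ Y.str h ⟨PUnit.unit, hwedge_mem x₁ y h2⟩)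
            (fun h => valH _ Y.str h ⟨PUnit.unit, hwedge_mem x₁ y' h1⟩)
            (valH_min_bijective Y _ Y.str ⟨PUnit.unit, hwedge_mem x₁ y h2⟩ (fun q => le_refl _))
            (valH_min_bijective Y _ Y.str ⟨PUnit.unit, hwedge_mem x₁ y' h1⟩ (fun q => le_refl _))
            (fun m m' => valH_add _ _ m m' _) (fun r m => ?_)
            (fun m m' => valH_add _ _ m m' _) (fun r m => ?_) (fun m => ?_)
          · rw [valH_smul]
            change ψ (X.res _ r) * _ = ψ (X.res h1 (X.res hy r)) * _
            rw [X.res_comp]
          · rw [valH_smul]; rfl
          · exact valH_resH Y.str (f.subTgt x₁ hy) m _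
        · by_cases h2 : y ≤ x
          · have := H_zero_subsingleton
              (Coef.ofHom f y' (f.wedge x₁ y') (f.wedge_subset_pre x₁ y')) Y.str
              (hwedge_empty x₁ y' h1)
            apply isBCAlong_of_subsingleton_tensor
            -- the tensor product is trivial, by maximality of the pair
            let alg : Algebra (X.ring y) (X.ring y') := (X.res hy).toAlgebra
            let algΩ : Algebra (X.ring y) Ω := (ψ.comp (X.res h2)).toAlgebra
            set φ₁ := Coef.ofHom f y (f.wedge x₁ y) (f.wedge_subset_pre x₁ y) with hφ₁
            let ev : H φ₁ Y.str 0 →ₗ[X.ring y] Ω :=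
              { toFun := fun h => valH φ₁ Y.str h ⟨PUnit.unit, hwedge_mem x₁ y h2⟩
                map_add' := fun h h' => valH_add φ₁ Y.str h h' _
                map_smul' := fun r h => by
                  rw [valH_smul]; rfl }
            have hev : Function.Bijective ev :=
              valH_min_bijective Y φ₁ Y.str ⟨PUnit.unit, hwedge_mem x₁ y h2⟩ (fun q => le_refl _)
            let evE : H φ₁ Y.str 0 ≃ₗ[X.ring y] Ω := LinearEquiv.ofBijective ev hev
            have hsubΩ : Subsingleton (TensorProduct (X.ring y) (X.ring y') Ω) := by
              by_contra hns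
              rw [not_subsingleton_iff_nontrivial] at hns
              obtain ⟨r⟩ := PrimeSpectrum.nonempty_iff_nontrivial.mpr hns
              let r' : PrimeSpectrum (X.ring y') :=
                PrimeSpectrum.comap (Algebra.TensorProduct.includeLeftRingHom :
                  X.ring y' →+* TensorProduct (X.ring y) (X.ring y') Ω) r
              let r'' : PrimeSpectrum Ω :=
                PrimeSpectrum.comap (Algebra.TensorProduct.includeRight :
                  Ω →ₐ[X.ring y] TensorProduct (X.ring y) (X.ring y') Ω).toRingHom r
              have hr'' : r''.asIdeal = ⊥ := Ideal.eq_bot_of_prime _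
              have hcontr : PrimeSpectrum.comap (X.res hy) r' =
                  PrimeSpectrum.comap (X.res h2) a.2 := by
                apply PrimeSpectrum.ext
                ext b
                have e1 : b ∈ (PrimeSpectrum.comap (X.res hy) r').asIdeal ↔
                    (Algebra.TensorProduct.includeLeftRingHom (algebraMap (X.ring y) (X.ring y') b) :
                      TensorProduct (X.ring y) (X.ring y') Ω) ∈ r.asIdeal := Iff.rfl
                have e2 : b ∈ (PrimeSpectrum.comap (X.res h2) a.2).asIdeal ↔
                    ((Algebra.TensorProduct.includeRight :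
                      Ω →ₐ[X.ring y] TensorProduct (X.ring y) (X.ring y') Ω)
                      (algebraMap (X.ring y) Ω b)) ∈ r.asIdeal := by
                  have : ((Algebra.TensorProduct.includeRight :
                      Ω →ₐ[X.ring y] TensorProduct (X.ring y) (X.ring y') Ω)
                      (algebraMap (X.ring y) Ω b)) ∈ r.asIdeal ↔
                      algebraMap (X.ring y) Ω b ∈ r''.asIdeal := Iff.rfl
                  rw [this, hr'', Ideal.mem_bot]
                  change X.res h2 b ∈ a.2.asIdeal ↔ ψ (X.res h2 b) = 0
                  rw [hkerψ]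
                rw [e1, e2]
                have : (Algebra.TensorProduct.includeLeftRingHom
                    (algebraMap (X.ring y) (X.ring y') b) :
                      TensorProduct (X.ring y) (X.ring y') Ω) =
                    (Algebra.TensorProduct.includeRight :
                      Ω →ₐ[X.ring y] TensorProduct (X.ring y) (X.ring y') Ω)
                      (algebraMap (X.ring y) Ω b) := by
                  change (algebraMap (X.ring y) (X.ring y') b) ⊗ₜ[X.ring y] (1 : Ω) =
                    (1 : X.ring y') ⊗ₜ[X.ring y] (algebraMap (X.ring y) Ω b)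
                  rw [Algebra.algebraMap_eq_smul_one, Algebra.algebraMap_eq_smul_one,
                    TensorProduct.smul_tmul]
                rw [this]
              have hrel : X.PairRel ⟨y', r'⟩ ⟨x, a.2⟩ :=
                Groth.Agent.S15614.result X hX hff hy h2 r' a.2 hcontr
              obtain ⟨z, hz1, hz2, t, ht1, ht2⟩ := hrel
              have hrel' : X.PairRel a ⟨y', r'⟩ := ⟨z, hz2, hz1, t, ht2, ht1⟩
              exact h1 (ha _ hrel')
            exact (LinearEquiv.lTensor (X.ring y') evE).injective.subsingleton
          · have h1' : ¬ y' ≤ x := h1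
            have := H_zero_subsingleton
              (Coef.ofHom f y (f.wedge x₁ y) (f.wedge_subset_pre x₁ y)) Y.str
              (hwedge_empty x₁ y h2)
            have := H_zero_subsingleton
              (Coef.ofHom f y' (f.wedge x₁ y') (f.wedge_subset_pre x₁ y')) Y.str
              (hwedge_empty x₁ y' h1)
            exact isBCAlong_of_subsingleton _ _
  refine ⟨⟨f, hsch⟩, rfl, ?_⟩
  rintro ⟨⟨fn, mono, app, compat⟩, hs⟩ hξ
  have hfn : fn = fun _ => x := by
    funext u
    have := congrArg Sigma.fst hξ
    exact this
  subst hfn
  have happ : app = fun _ => ψ := by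
    funext u
    have := eq_of_heq (Sigma.mk.inj hξ).2
    exact this
  subst happ
  rfl

end Groth.Agent.S15627
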