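import Groth.Statements.S1563
import Groth.Agent.Lib.Helper98.FlatAtBaseChange
import Groth.Agent.S0565

set_option autoImplicit false
universe u
open CategoryTheory CategoryTheory.Limits AlgebraicGeometry
open Variety

namespace Groth.Agent.S1563

section Helpers

open Groth.Agent.Lib.Helper35 TensorProduct

/-- stalks of the base change of a locally Noetherian `k`-scheme to a finitely generated field
extension are Noetherian. -/
theorem isNoetherianRing_stalk_bc (k : Type u) [Field k] (Y : Scheme.{u})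
    [Y.Over (Spec (CommRingCat.of k))] [IsLocallyNoetherian Y] (k' : Type u) [Field k']
    [Algebra k k'] [Algebra.EssFiniteType k k'] (y' : Curv2.bc k Y k') :
    IsNoetherianRing ((Curv2.bc k Y k').presheaf.stalk y') := by
  let t : Spec (CommRingCat.of k') ⟶ Spec (CommRingCat.of k) :=
    Spec.map (CommRingCat.ofHom (algebraMap k k'))
  have HY : IsPullback (Curv2.bcFst k Y k') (Curv2.bcSnd k Y k')
      (Y ↘ Spec (CommRingCat.of k)) t := IsPullback.of_hasPullback _ _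
  obtain ⟨_, ⟨U, hU, rfl⟩, hyU, -⟩ :=
    Y.isBasis_affineOpens.exists_subset_of_mem_open
      (Set.mem_univ (Curv2.bcFst k Y k' y')) isOpen_univ
  obtain ⟨W, hWdef⟩ : ∃ W : (Curv2.bc k Y k').Opens,
      W = (Curv2.bcFst k Y k') ⁻¹ᵁ U ⊓ (Curv2.bcSnd k Y k') ⁻¹ᵁ ⊤ := ⟨_, rfl⟩
  have hUST : (⊤ : (Spec (CommRingCat.of k')).Opens) ≤ t ⁻¹ᵁ ⊤ := le_of_eq rfl
  have hUSX : U ≤ (Y ↘ Spec (CommRingCat.of k)) ⁻¹ᵁ ⊤ := fun _ _ => trivial
  have hW : IsAffineOpen W :=
    isAffineOpen_pullback_chart HY hUST hUSX hWdef (isAffineOpen_top _) (isAffineOpen_top _) hU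
  have hpo := isPushout_appLE_of_isAffineOpen HY hUST hUSX hWdef (isAffineOpen_top _)
    (isAffineOpen_top _) hU
  have hWU : W ≤ (Curv2.bcFst k Y k') ⁻¹ᵁ U := by rw [hWdef]; exact inf_le_left
  have hWT : W ≤ (Curv2.bcSnd k Y k') ⁻¹ᵁ ⊤ := by rw [hWdef]; exact inf_le_right
  let _ : Algebra Γ(Spec (CommRingCat.of k), ⊤) Γ(Y, U) :=
    ((Y ↘ Spec (CommRingCat.of k)).appLE ⊤ U hUSX).hom.toAlgebra
  let _ : Algebra Γ(Spec (CommRingCat.of k), ⊤) Γ(Spec (CommRingCat.of k'), ⊤) :=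
    (t.appLE ⊤ ⊤ hUST).hom.toAlgebra
  let _ : Algebra Γ(Y, U) Γ(Curv2.bc k Y k', W) :=
    ((Curv2.bcFst k Y k').appLE U W hWU).hom.toAlgebra
  let _ : Algebra Γ(Spec (CommRingCat.of k'), ⊤) Γ(Curv2.bc k Y k', W) :=
    ((Curv2.bcSnd k Y k').appLE ⊤ W hWT).hom.toAlgebra
  let _ : Algebra Γ(Spec (CommRingCat.of k), ⊤) Γ(Curv2.bc k Y k', W) :=
    (((Curv2.bcFst k Y k').appLE U W hWU).hom.comp
      ((Y ↘ Spec (CommRingCat.of k)).appLE ⊤ U hUSX).hom).toAlgebra
  have t1 : IsScalarTower Γ(Spec (CommRingCat.of k), ⊤) Γ(Y, U) Γ(Curv2.bc k Y k', W) :=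
    .of_algebraMap_eq' rfl
  have t2 : IsScalarTower Γ(Spec (CommRingCat.of k), ⊤) Γ(Spec (CommRingCat.of k'), ⊤)
      Γ(Curv2.bc k Y k', W) := .of_algebraMap_eq' (by
    simp only [RingHom.algebraMap_toAlgebra]
    rw [← CommRingCat.hom_comp, ← CommRingCat.hom_comp]
    exact congrArg CommRingCat.Hom.hom hpo.w)
  have hpo' : Algebra.IsPushout Γ(Spec (CommRingCat.of k), ⊤) Γ(Y, U)
      Γ(Spec (CommRingCat.of k'), ⊤) Γ(Curv2.bc k Y k', W) :=
    CommRingCat.isPushout_iff_isPushout.mp hpo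
  have hess : Algebra.EssFiniteType Γ(Spec (CommRingCat.of k), ⊤)
      Γ(Spec (CommRingCat.of k'), ⊤) := by
    let e₀ : Γ(Spec (CommRingCat.of k), ⊤) ≃+* k :=
      (Scheme.ΓSpecIso (CommRingCat.of k)).commRingCatIsoToRingEquiv
    let e₁ : Γ(Spec (CommRingCat.of k'), ⊤) ≃+* k' :=
      (Scheme.ΓSpecIso (CommRingCat.of k')).commRingCatIsoToRingEquiv
    have hnat : ∀ a, e₁ (algebraMap Γ(Spec (CommRingCat.of k), ⊤)
        Γ(Spec (CommRingCat.of k'), ⊤) a) = algebraMap k k' (e₀ a) := by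
      intro a
      have h := Scheme.ΓSpecIso_naturality (CommRingCat.ofHom (algebraMap k k'))
      exact congr($(h).hom a)
    let _ : Algebra Γ(Spec (CommRingCat.of k), ⊤) k := e₀.toRingHom.toAlgebra
    let _ : Algebra Γ(Spec (CommRingCat.of k), ⊤) k' :=
      ((algebraMap k k').comp e₀.toRingHom).toAlgebra
    have : IsScalarTower Γ(Spec (CommRingCat.of k), ⊤) k k' := .of_algebraMap_eq' rfl
    have h1 : Algebra.FiniteType Γ(Spec (CommRingCat.of k), ⊤) k :=
      Algebra.FiniteType.of_surjective (Algebra.ofId Γ(Spec (CommRingCat.of k), ⊤) k) e₀.surjective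
    have h2 : Algebra.EssFiniteType Γ(Spec (CommRingCat.of k), ⊤) k' :=
      Algebra.EssFiniteType.comp Γ(Spec (CommRingCat.of k), ⊤) k k'
    let E : Γ(Spec (CommRingCat.of k'), ⊤) ≃ₐ[Γ(Spec (CommRingCat.of k), ⊤)] k' :=
      { e₁ with commutes' := hnat }
    exact (Algebra.EssFiniteType.iff_of_algEquiv E).mpr h2
  have : Algebra.EssFiniteType Γ(Y, U) Γ(Curv2.bc k Y k', W) :=
    (Algebra.EssFiniteType.iff_of_algEquiv (Algebra.IsPushout.equiv Γ(Spec (CommRingCat.of k), ⊤)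
      Γ(Y, U) Γ(Spec (CommRingCat.of k'), ⊤) Γ(Curv2.bc k Y k', W))).mp inferInstance
  have : IsNoetherianRing Γ(Y, U) := IsLocallyNoetherian.component_noetherian ⟨U, hU⟩
  have : IsNoetherianRing Γ(Curv2.bc k Y k', W) :=
    Algebra.EssFiniteType.isNoetherianRing Γ(Y, U) _
  have hy'W : y' ∈ W := by rw [hWdef]; exact ⟨hyU, trivial⟩
  let _ := (Curv2.bc k Y k').presheaf.algebra_section_stalk ⟨y', hy'W⟩
  have := hW.isLocalization_stalk ⟨y', hy'W⟩
  exact IsLocalization.isNoetherianRing (hW.primeIdealOf ⟨y', hy'W⟩).asIdeal.primeCompl _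
    inferInstance

end Helpers

/-- Geometric regularity descends along a morphism f of locally Noetherian k-schemes which is flat at
the point x (the map of local rings at x is flat): if X has it at x then Y has it at f(x). -/
theorem result (k : Type u) [Field k] (X Y : Scheme.{u}) [X.Over (Spec (CommRingCat.of k))] [Y.Over (Spec (CommRingCat.of k))]
    [IsLocallyNoetherian X] [IsLocallyNoetherian Y] (f : X ⟶ Y) (hf : f ≫ (Y ↘ (Spec (CommRingCat.of k))) = X ↘ (Spec (CommRingCat.of k)))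
    (x : X) (hflat : (f.stalkMap x).hom.Flat) (hx : Curv2.IsGeomRegularAt k X x) :
    Curv2.IsGeomRegularAt k Y (f.base x) := by
  intro k' _ _ hfg y' hy'
  have hessk : Algebra.EssFiniteType k k' := IntermediateField.fg_top_iff.mp hfg
  let t : Spec (CommRingCat.of k') ⟶ Spec (CommRingCat.of k) :=
    Spec.map (CommRingCat.ofHom (algebraMap k k'))
  let f' : Curv2.bc k X k' ⟶ Curv2.bc k Y k' :=
    pullback.map _ _ _ _ f (𝟙 _) (𝟙 _) (by rw [Category.comp_id, hf]) (by simp)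
  have hsq : f' ≫ Curv2.bcFst k Y k' = Curv2.bcFst k X k' ≫ f := pullback.lift_fst _ _ _
  have hsnd : f' ≫ Curv2.bcSnd k Y k' = Curv2.bcSnd k X k' :=
    (pullback.lift_snd _ _ _).trans (Category.comp_id _)
  have HY : IsPullback (Curv2.bcFst k Y k') (Curv2.bcSnd k Y k')
      (Y ↘ Spec (CommRingCat.of k)) t := IsPullback.of_hasPullback _ _
  have HX : IsPullback (Curv2.bcFst k X k') (Curv2.bcSnd k X k')
      (X ↘ Spec (CommRingCat.of k)) t := IsPullback.of_hasPullback _ _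
  have H : IsPullback (Curv2.bcFst k X k') f' f (Curv2.bcFst k Y k') := by
    refine IsPullback.of_bot ?_ hsq.symm HY
    rw [hsnd, hf]
    exact HX
  obtain ⟨x', hx'1, hx'2⟩ :=
    Scheme.exists_preimage_of_isPullback H x y' hy'.symm
  subst hx'1
  subst hx'2
  have hregX : IsRegularLocalRing ((Curv2.bc k X k').presheaf.stalk x') := hx k' hfg x' rfl
  have hflat' : (f'.stalkMap x').hom.Flat :=
    Groth.Agent.Lib.Helper98.FlatAtBaseChange.flat_stalkMap_of_isPullback H x' hflat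
  have hnoeth : IsNoetherianRing ((Curv2.bc k Y k').presheaf.stalk (f' x')) :=
    isNoetherianRing_stalk_bc k Y k' (f' x')
  let _ : Algebra ((Curv2.bc k Y k').presheaf.stalk (f' x'))
      ((Curv2.bc k X k').presheaf.stalk x') := (f'.stalkMap x').hom.toAlgebra
  have : IsLocalHom (algebraMap ((Curv2.bc k Y k').presheaf.stalk (f' x'))
      ((Curv2.bc k X k').presheaf.stalk x')) := inferInstanceAs (IsLocalHom (f'.stalkMap x').hom)
  have : Module.Flat ((Curv2.bc k Y k').presheaf.stalk (f' x'))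
      ((Curv2.bc k X k').presheaf.stalk x') := hflat'
  exact Groth.Agent.S0565.result _ ((Curv2.bc k X k').presheaf.stalk x')

end Groth.Agent.S1563
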