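import Groth.Statements.S1568
import Groth.Agent.Lib.Helper70.AffineStalk
-- import your own Groth.Agent.* helpers here

set_option autoImplicit false
universe u
open CategoryTheory CategoryTheory.Limits AlgebraicGeometry
open Divisors

namespace Groth.Agent.S1568

/-- Let X be locally Noetherian and D an effective Cartier divisor. At a point ξ of D that is maximal in
D under generisation (a generic point of a component of D), the local ring of X has dimension
exactly one. -/
theorem result (X : Scheme.{u}) [IsLocallyNoetherian X]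
    (D : X.IdealSheafData) (hD : BlowUp.IsEffCartierIdeal D) (ξ : X)
    (hξ : ξ ∈ (D.support : Set X)) (hgen : ∀ y ∈ (D.support : Set X), y ⤳ ξ → y = ξ) :
    ringKrullDim (X.presheaf.stalk ξ) = 1 := by
  obtain ⟨U, hξU, f, hfnzd, hf⟩ := hD ξ
  have hN : IsNoetherianRing Γ(X, U.1) := IsLocallyNoetherian.component_noetherian U
  rw [Groth.Agent.Lib.Helper70.ringKrullDim_stalk_eq_height U.2 ξ hξU]
  have hmin := Groth.Agent.Lib.Helper70.primeIdealOf_mem_minimalPrimes D U ξ hξU hξ hgen
  rw [hf] at hmin
  have hle := Ideal.height_le_one_of_isPrincipal_of_mem_minimalPrimes (Ideal.span {f}) _ hmin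
  have hge : 1 ≤ (U.2.primeIdealOf ⟨ξ, hξU⟩).asIdeal.height :=
    le_trans (Ideal.one_le_height_span_singleton_of_mem_nonZeroDivisors hfnzd)
      (Ideal.height_mono hmin.1.2)
  have : (U.2.primeIdealOf ⟨ξ, hξU⟩).asIdeal.height = 1 := le_antisymm hle hge
  rw [this]
  rfl


end Groth.Agent.S1568
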