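import Groth.Statements.S1569
import Groth.Agent.Lib.Helper70.AffineStalk
import Groth.Agent.Lib.Helper70.DVRCrit
-- import your own Groth.Agent.* helpers here

set_option autoImplicit false
universe u
open CategoryTheory CategoryTheory.Limits AlgebraicGeometry
open Divisors

namespace Groth.Agent.S1569

/-- On a Noetherian scheme, an effective Cartier divisor which is integral as a closed subscheme has a
discrete valuation ring as the local ring of the ambient scheme at its generic point. -/
theorem result (X : Scheme.{u}) [IsNoetherian X]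
    (D : X.IdealSheafData) (hD : BlowUp.IsEffCartierIdeal D) [IsIntegral D.subscheme]
    (ξ : X) (hξ : IsGenericPoint ξ (D.support : Set X)) :
    ∃ _ : IsDomain (X.presheaf.stalk ξ), IsDiscreteValuationRing (X.presheaf.stalk ξ) := by
  obtain ⟨U, hξU, f, hfnzd, hf⟩ := hD ξ
  have hξD : ξ ∈ D.support := hξ.mem
  have hgen : ∀ y ∈ (D.support : Set X), y ⤳ ξ → y = ξ := by
    intro y hy hyξ
    have h1 : ξ ⤳ y := hξ.specializes hy
    exact (hyξ.antisymm h1).eq
  have hmin := Groth.Agent.Lib.Helper70.primeIdealOf_mem_minimalPrimes D U ξ hξU hξD hgen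
  -- the ideal (f) is prime because the subscheme is integral
  have hne : Nonempty ↥(D.subschemeι ⁻¹ᵁ U.1) := by
    have : ξ ∈ Set.range D.subschemeι := by rw [D.range_subschemeι]; exact hξD
    obtain ⟨z, hz⟩ := this
    exact ⟨⟨z, by show D.subschemeι z ∈ U.1; rw [hz]; exact hξU⟩⟩
  have hdom : IsDomain Γ(D.subscheme, D.subschemeι ⁻¹ᵁ U.1) :=
    @IsIntegral.component_integral D.subscheme _ (D.subschemeι ⁻¹ᵁ U.1) hne
  have hdomq : IsDomain (Γ(X, U.1) ⧸ D.ideal U) :=
    (D.subschemeObjIso U).commRingCatIsoToRingEquiv.symm.toMulEquiv.isDomain _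
  have hprime : (D.ideal U).IsPrime := (Ideal.Quotient.isDomain_iff_prime _).1 hdomq
  rw [Ideal.minimalPrimes_eq_subsingleton_self, Set.mem_singleton_iff] at hmin
  -- the stalk
  let _ := TopCat.Presheaf.algebra_section_stalk X.presheaf ⟨ξ, hξU⟩
  have hloc := U.2.isLocalization_stalk ⟨ξ, hξU⟩
  have hmax : IsLocalRing.maximalIdeal (X.presheaf.stalk ξ) =
      Ideal.span {algebraMap Γ(X, U.1) (X.presheaf.stalk ξ) f} := by
    rw [← IsLocalization.AtPrime.map_eq_maximalIdeal (U.2.primeIdealOf ⟨ξ, hξU⟩).asIdeal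
      (X.presheaf.stalk ξ), hmin, hf, Ideal.map_span, Set.image_singleton]
  have hreg : algebraMap Γ(X, U.1) (X.presheaf.stalk ξ) f ∈ nonZeroDivisors (X.presheaf.stalk ξ) :=
    IsLocalization.map_nonZeroDivisors_le (U.2.primeIdealOf ⟨ξ, hξU⟩).asIdeal.primeCompl
      (X.presheaf.stalk ξ) (Submonoid.mem_map_of_mem _ hfnzd)
  exact Groth.Agent.Lib.Helper70.isDiscreteValuationRing_of_maximalIdeal_eq_span _ hmax hreg


end Groth.Agent.S1569
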