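import Groth.Statements.S1571
import Mathlib.AlgebraicGeometry.Morphisms.SchemeTheoreticallyDominant
import Mathlib.AlgebraicGeometry.Morphisms.Affine
-- import your own Groth.Agent.* helpers here

set_option autoImplicit false
universe u
open CategoryTheory CategoryTheory.Limits AlgebraicGeometry
open Divisors

namespace Groth.Agent.S1571

open CategoryTheory AlgebraicGeometry TopologicalSpace

variable {S : Scheme.{u}}

/-- on an affine open where `D` is generated by `f`, the complement of the support is `D(f)` -/
theorem image_preimage_compl_eq_basicOpen (D : S.IdealSheafData) (U : S.affineOpens) (f : Γ(S, U.1))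
    (hf : D.ideal U = Ideal.span {f}) :
    (Scheme.Opens.ι (X := S) D.support.compl) ''ᵁ ((Scheme.Opens.ι (X := S) D.support.compl) ⁻¹ᵁ U.1) = S.basicOpen f := by
  rw [Scheme.Hom.image_preimage_eq_opensRange_inf, Scheme.Opens.opensRange_ι]
  ext x
  constructor
  · rintro ⟨hxD, hxU⟩
    have h1 : x ∉ D.support := hxD
    rw [Scheme.IdealSheafData.mem_support_iff_of_mem (U := U) hxU, hf, Scheme.mem_zeroLocus_iff] at h1
    push Not at h1
    obtain ⟨g, hg, hxg⟩ := h1
    obtain ⟨a, rfl⟩ := Ideal.mem_span_singleton'.1 hg
    rw [Scheme.basicOpen_mul] at hxg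
    exact hxg.2
  · intro hx
    have hxU : x ∈ U.1 := S.basicOpen_le f hx
    refine ⟨?_, hxU⟩
    show x ∉ D.support
    rw [Scheme.IdealSheafData.mem_support_iff_of_mem (U := U) hxU, hf, Scheme.mem_zeroLocus_iff]
    intro h
    exact h f (Ideal.subset_span rfl) hx


theorem main (S : Scheme.{u}) (D : S.IdealSheafData) (hD : BlowUp.IsEffCartierIdeal D) :
    IsAffineHom (Scheme.Opens.ι (X := S) D.support.compl) ∧
      IsSchemeTheoreticallyDominant (Scheme.Opens.ι (X := S) D.support.compl) := by
  have haff : IsAffineHom (Scheme.Opens.ι (X := S) D.support.compl) := by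
    apply isAffineHom_of_forall_exists_isAffineOpen
    intro x
    obtain ⟨U, hxU, f, hfnzd, hf⟩ := hD x
    refine ⟨U.1, hxU, U.2, ?_⟩
    rw [← (Scheme.Opens.ι (X := S) D.support.compl).isAffineOpen_iff_of_isOpenImmersion,
      image_preimage_compl_eq_basicOpen D U f hf]
    exact U.2.basicOpen f
  refine ⟨haff, ?_⟩
  rw [isSchemeTheoreticallyDominant_iff]
  choose U hxU f hfnzd hf using hD
  refine Scheme.IdealSheafData.ext_of_iSup_eq_top U ?_ ?_
  · exact top_le_iff.mp (fun x _ => by simpa using ⟨x, hxU x⟩)
  · intro x
    rw [Scheme.Hom.ker_apply]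
    simp only [Scheme.IdealSheafData.ideal_bot, Pi.bot_apply]
    rw [← RingHom.injective_iff_ker_eq_bot, injective_iff_map_eq_zero]
    intro s hs
    have h1 : S.basicOpen (f x) ≤ (Scheme.Opens.ι (X := S) D.support.compl) ''ᵁ
        ((Scheme.Opens.ι (X := S) D.support.compl) ⁻¹ᵁ (U x).1) :=
      (image_preimage_compl_eq_basicOpen D (U x) (f x) (hf x)).ge
    have h2 : S.presheaf.map (homOfLE (S.basicOpen_le (f x))).op s = 0 := by
      have h3 : S.presheaf.map (homOfLE (S.basicOpen_le (f x))).op =
          S.presheaf.map (homOfLE ((Scheme.Opens.ι (X := S) D.support.compl).image_preimage_le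
            (U x).1)).op ≫ S.presheaf.map (homOfLE h1).op := by
        rw [← Functor.map_comp]; rfl
      rw [h3, CommRingCat.comp_apply]
      rw [Scheme.Opens.ι_app] at hs
      have hs' : (ConcreteCategory.hom (S.presheaf.map (homOfLE
          ((Scheme.Opens.ι (X := S) D.support.compl).image_preimage_le (U x).1)).op)) s = 0 := hs
      rw [hs', map_zero]
    have hloc := (U x).2.isLocalization_basicOpen (f x)
    have hinj := IsLocalization.injective Γ(S, S.basicOpen (f x)) (M := .powers (f x))
      (Submonoid.powers_le.mpr (hfnzd x))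
    apply hinj
    rw [map_zero]
    exact h2


/-- The open complement of an effective Cartier divisor is an affine open immersion and is
scheme-theoretically dense. -/
theorem result (S : Scheme.{u}) (D : S.IdealSheafData) (hD : BlowUp.IsEffCartierIdeal D) :
    IsAffineHom (Scheme.Opens.ι (X := S) D.support.compl) ∧ IsSchemeTheoreticallyDominant (Scheme.Opens.ι (X := S) D.support.compl) := main S D hD

end Groth.Agent.S1571
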