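import Groth.Statements.S1699
-- import your own Groth.Agent.* helpers here
import Groth.Agent.Lib.QCoh.Helper18_Ass
import Mathlib.AlgebraicGeometry.Noetherian

set_option autoImplicit false
universe u
open CategoryTheory CategoryTheory.Limits AlgebraicGeometry TopologicalSpace
open SDiv
open Groth.Agent.Lib.QCoh Groth.Agent.Lib.Helper18

namespace Groth.Agent.S1699

/-- germ of a function at `y` vanishes iff it is killed by a function not vanishing at `y`. -/
lemma germ_eq_zero_iff {X : Scheme.{u}} {W : X.Opens} (hW : IsAffineOpen W) (y : X) (hy : y ∈ W)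
    (b : Γ(X, W)) :
    X.presheaf.germ W y hy b = 0 ↔
      ∃ t : Γ(X, W), t ∉ (hW.primeIdealOf ⟨y, hy⟩).asIdeal ∧ t * b = 0 := by
  let _ : Algebra Γ(X, W) (X.presheaf.stalk y) :=
    TopCat.Presheaf.algebra_section_stalk X.presheaf ⟨y, hy⟩
  have := hW.isLocalization_stalk ⟨y, hy⟩
  have h := WeakAss.map_eq_zero_iff_exists (hW.primeIdealOf ⟨y, hy⟩).asIdeal
    (Algebra.linearMap Γ(X, W) (X.presheaf.stalk y)) b
  exact h

/-- A function on an open set all of whose germs vanish is zero. -/
lemma fn_eq_zero_of_germ_eq_zero {X : Scheme.{u}} (V : X.Opens) (a : Γ(X, V))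
    (h : ∀ (x : X) (hx : x ∈ V), X.presheaf.germ V x hx a = 0) : a = 0 := by
  refine TopCat.Presheaf.section_ext X.sheaf V a 0 ?_
  intro x hx
  exact (h x hx).trans (map_zero (X.presheaf.germ V x hx).hom).symm

/-- (1) if and only if (3): let X be a locally Noetherian scheme and U an open subscheme. Then U is
scheme-theoretically dense in X if and only if U contains every associated point of X (every point
whose local ring has its maximal ideal as an associated prime). -/
theorem result (X : Scheme.{u}) [IsLocallyNoetherian X] (U : X.Opens) :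
    CInt.IsSchematicallyDense U ↔ ∀ x : ↥X, IsAssociatedPrime (IsLocalRing.maximalIdeal ↑(X.presheaf.stalk x)) ↑(X.presheaf.stalk x) → x ∈ U := by
  constructor
  · -- schematically dense ⇒ contains all associated points
    intro hdense x hass
    by_contra hxU
    obtain ⟨W, hW0, hxW, -⟩ := Opens.isBasis_iff_nbhd.1 (X.isBasis_affineOpens)
      (show x ∈ (⊤ : X.Opens) from trivial)
    have hW : IsAffineOpen W := hW0
    have hN : IsNoetherianRing Γ(X, W) := IsLocallyNoetherian.component_noetherian ⟨W, hW⟩
    let _ : Algebra Γ(X, W) (X.presheaf.stalk x) :=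
      TopCat.Presheaf.algebra_section_stalk X.presheaf ⟨x, hxW⟩
    have hloc := hW.isLocalization_stalk ⟨x, hxW⟩
    set p := (hW.primeIdealOf ⟨x, hxW⟩).asIdeal with hp
    have h1 := Module.associatedPrimes.comap_mem_associatedPrimes_of_mem_associatedPrimes_of_isLocalizedModule_of_fg
      p.primeCompl (Algebra.linearMap Γ(X, W) (X.presheaf.stalk x))
      (IsLocalRing.maximalIdeal (X.presheaf.stalk x)) hass
      ((isNoetherianRing_iff_ideal_fg _).1 hN _)
    have hcomap : (IsLocalRing.maximalIdeal (X.presheaf.stalk x)).comap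
        (algebraMap Γ(X, W) (X.presheaf.stalk x)) = p :=
      IsLocalization.AtPrime.under_maximalIdeal (X.presheaf.stalk x) p
    rw [hcomap] at h1
    obtain ⟨hpp, b, hb⟩ := (isAssociatedPrime_iff (I := p) (M := Γ(X, W))).1 h1
    -- `b` vanishes on `W ⊓ U`
    have hbU : X.presheaf.map (homOfLE (inf_le_left : W ⊓ U ≤ W)).op b = 0 := by
      apply fn_eq_zero_of_germ_eq_zero
      intro y hy
      rw [TopCat.Presheaf.germ_res_apply X.presheaf (homOfLE (inf_le_left : W ⊓ U ≤ W)) y hy b]
      rw [germ_eq_zero_iff hW y hy.1]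
      by_contra hcon
      apply hxU
      have hle : hW.primeIdealOf ⟨x, hxW⟩ ≤ hW.primeIdealOf ⟨y, hy.1⟩ := by
        intro t ht
        by_contra hty
        apply hcon
        refine ⟨t, hty, ?_⟩
        have : t ∈ Submodule.colon (⊥ : Submodule Γ(X, W) Γ(X, W)) {b} := hb ▸ ht
        simpa [Submodule.mem_colon_singleton] using this
      have hspec := fromSpec_specializes hW hle
      rw [hW.fromSpec_primeIdealOf, hW.fromSpec_primeIdealOf] at hspec
      exact hspec.mem_open U.2 hy.2
    have hb0 : b = 0 := by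
      apply hdense W
      rw [hbU, map_zero]
    apply hpp.ne_top
    rw [hb, hb0]
    ext r
    simp [Submodule.mem_colon_singleton]
  · -- contains all associated points ⇒ schematically dense
    intro hU V
    rw [injective_iff_map_eq_zero]
    intro a ha
    apply fn_eq_zero_of_germ_eq_zero
    intro x hxV
    by_contra hne
    obtain ⟨W, hW0, hxW, hWV⟩ := Opens.isBasis_iff_nbhd.1 (X.isBasis_affineOpens) hxV
    have hW : IsAffineOpen W := hW0
    set b : Γ(X, W) := X.presheaf.map (homOfLE hWV).op a with hb
    have hb0 : b ≠ 0 := by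
      intro h0
      apply hne
      rw [← TopCat.Presheaf.germ_res_apply X.presheaf (homOfLE hWV) x hxW a]
      change X.presheaf.germ W x hxW b = 0
      rw [h0, map_zero]
    obtain ⟨p, hp⟩ := WeakAss.exists_minimalPrimes_ann (R := Γ(X, W)) hb0
    have hpp : p.IsPrime := hp.1.1
    set P : PrimeSpectrum Γ(X, W) := ⟨p, hpp⟩ with hP
    have hyW := fromSpec_mem hW P
    set y := hW.fromSpec P with hy
    have hPy : hW.primeIdealOf ⟨y, hyW⟩ = P := primeIdealOf_fromSpec hW P
    have hyass : IsAssociatedPrime (IsLocalRing.maximalIdeal ↑(X.presheaf.stalk y))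
        ↑(X.presheaf.stalk y) := by
      let _ : Algebra Γ(X, W) (X.presheaf.stalk y) :=
        TopCat.Presheaf.algebra_section_stalk X.presheaf ⟨y, hyW⟩
      have hloc := hW.isLocalization_stalk ⟨y, hyW⟩
      rw [hPy] at hloc
      have key := (WeakAss.radical_ann_eq_maximalIdeal_iff (R' := X.presheaf.stalk y) p
        (Algebra.linearMap Γ(X, W) (X.presheaf.stalk y)) b).2 hp
      refine ⟨inferInstance, Algebra.linearMap Γ(X, W) (X.presheaf.stalk y) b, ?_⟩
      rw [← WeakAss.ann_eq_colon]
      exact key.symm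
    have hyU : y ∈ U := hU y hyass
    have hgerm : X.presheaf.germ W y hyW b = 0 := by
      have e1 : X.presheaf.germ W y hyW b = X.presheaf.germ V y (hWV hyW) a :=
        TopCat.Presheaf.germ_res_apply X.presheaf (homOfLE hWV) y hyW a
      have e2 : X.presheaf.germ (V ⊓ U) y ⟨hWV hyW, hyU⟩
          (X.presheaf.map (homOfLE (inf_le_left : V ⊓ U ≤ V)).op a) =
          X.presheaf.germ V y (hWV hyW) a :=
        TopCat.Presheaf.germ_res_apply X.presheaf (homOfLE (inf_le_left : V ⊓ U ≤ V)) y _ a
      rw [e1, ← e2, ha, map_zero]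
    rw [germ_eq_zero_iff hW y hyW, hPy] at hgerm
    obtain ⟨t, ht, htb⟩ := hgerm
    exact ht (hp.1.2 (WeakAss.mem_ann.2 htb))

end Groth.Agent.S1699
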