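import Groth.Statements.S15712
import Groth.Agent.Lib.Helper18.DepthOne
import Groth.Agent.Lib.QCoh.Helper18_DenseGeneric
import Groth.Agent.S1699

set_option autoImplicit false
universe u
open CategoryTheory AlgebraicGeometry TopologicalSpace
open RatSing

namespace Groth.Agent.S15712

/-- Let X be a locally Noetherian scheme with Serre's property (S_1), i.e. every local ring O_{X,x} has
depth at least min(1, dim O_{X,x}) (for instance X Cohen–Macaulay), and let U ⊆ X be open. Then
scheme-theoretic density of U in X is equivalent to U being dense as a subset. (The published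
statement assumes every scheme excellent, in particular locally Noetherian.) -/
theorem result (X : Scheme.{u}) [IsLocallyNoetherian X]
    (hS1 : ∀ x : X, min (1 : WithBot ℕ∞) (ringKrullDim (X.presheaf.stalk x)) ≤
      ((LocCoh.depth (X.presheaf.stalk x) (X.presheaf.stalk x) : ℕ∞) : WithBot ℕ∞))
    (U : X.Opens) : CInt.IsSchematicallyDense U ↔ Dense (U : Set X) := by
  constructor
  · exact Groth.Agent.Lib.QCoh.dense_of_isSchematicallyDense U
  · intro hdense
    rw [Groth.Agent.S1699.result X U]
    intro x hass
    apply Groth.Agent.Lib.QCoh.mem_of_dense_of_generic U hdense x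
    apply Groth.Agent.Lib.QCoh.generic_of_ringKrullDim_le_zero x
    have hd : ¬ (1 : ℕ∞) ≤ LocCoh.depth (X.presheaf.stalk x) (X.presheaf.stalk x) := by
      rw [Groth.Agent.Lib.Helper18.one_le_depth_iff_exists_regular]
      rintro ⟨r, hr, hreg⟩
      exact Groth.Agent.Lib.Helper18.not_isAssociatedPrime_of_regular_mem hr hreg hass
    have hd0 : LocCoh.depth (X.presheaf.stalk x) (X.presheaf.stalk x) = 0 := by
      rw [Order.one_le_iff_ne_zero, not_not] at hd
      exact hd
    have h1 := hS1 x
    rw [hd0] at h1
    rcases min_le_iff.1 h1 with h2 | h2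
    · exfalso
      have : (1 : WithBot ℕ∞) ≤ 0 := h2
      have h3 : ((1 : ℕ∞) : WithBot ℕ∞) ≤ ((0 : ℕ∞) : WithBot ℕ∞) := this
      rw [WithBot.coe_le_coe] at h3
      simp at h3
    · exact h2

end Groth.Agent.S15712
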