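import Groth.Statements.S15715
import Mathlib
import Groth.Agent.Lib.Helper48.SchDense
import Groth.Agent.Lib.Helper61.QCohSections
import Groth.Agent.Lib.QCoh.Helper50_AffineDict
-- import your own Groth.Agent.* helpers here

set_option autoImplicit false
universe u
open CategoryTheory AlgebraicGeometry TopologicalSpace
open RatSing

namespace Groth.Agent.S15715

/-- Let X be a locally Noetherian scheme, φ : F → G a homomorphism of O_X-modules with F quasi-coherent
and torsion-free (over every affine open V, no nonzero section of F is killed by a regular element
of O_X(V)), and U a scheme-theoretically dense open subset of X such that the restriction of φ to U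
is injective. Then φ is injective. (The published statement allows an arbitrary O_X-module F; for
the skyscraper sheaf on the affine line over a field, placed at a closed point with value the local
ring at that point, which is torsion-free in this sense, the zero map to the zero module is
injective over the dense open complement of the point but not injective. This row takes F
quasi-coherent.) -/
theorem result (X : Scheme.{u})
    [IsLocallyNoetherian X] (F G : X.Modules) (hF : Coh.IsQCoh F)
    (htf : ∀ V : X.affineOpens, Submodule.torsion Γ(X, V.1) (F.val.obj (Opposite.op V.1)) = ⊥)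
    (φ : F ⟶ G) (U : X.Opens) (hU : CInt.IsSchematicallyDense U)
    (hφU : ∀ V : X.Opens, V ≤ U → Function.Injective ⇑(ConcreteCategory.hom (φ.val.app (Opposite.op V)))) (V : X.Opens) :
    Function.Injective ⇑(ConcreteCategory.hom (φ.val.app (Opposite.op V))) := by
  haveI : F.IsQuasicoherent := hF
  have haff : ∀ W : X.affineOpens, Function.Injective (φ.app (W : X.Opens)) := by
    intro W
    rw [injective_iff_map_eq_zero]
    intro d hd
    haveI : IsNoetherianRing Γ(X, (W : X.Opens)) := IsLocallyNoetherian.component_noetherian W
    obtain ⟨t, ht, htU⟩ := Groth.Agent.Lib.Helper48.SchDense.exists_regular_basicOpen_le W.1 W.2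
      (Or.inl inferInstance) U (hU W.1)
    have hd' : F.presheaf.map (homOfLE (X.basicOpen_le t)).op d = 0 := by
      have hinj := hφU (X.basicOpen t) htU
      apply hinj
      show φ.app (X.basicOpen t) (F.presheaf.map (homOfLE (X.basicOpen_le t)).op d) =
        φ.app (X.basicOpen t) 0
      rw [Groth.Agent.Lib.QCoh.app_naturality_apply φ (homOfLE (X.basicOpen_le t)) d, hd,
        map_zero, map_zero]
    letI := Groth.Agent.Lib.Helper61.QCohSections.resModule F (X.basicOpen_le t)
    haveI := Groth.Agent.Lib.Helper61.QCohSections.isLocalizedModule_res_basicOpen F W.2 t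
    have h1 : Groth.Agent.Lib.Helper61.QCohSections.resLinear F (X.basicOpen_le t) d = 0 := hd'
    obtain ⟨⟨_, n, rfl⟩, hn⟩ := (IsLocalizedModule.eq_zero_iff (Submonoid.powers t)
      (Groth.Agent.Lib.Helper61.QCohSections.resLinear F (X.basicOpen_le t))).mp h1
    have hmem : d ∈ Submodule.torsion Γ(X, W.1) (F.val.obj (Opposite.op W.1)) := by
      exact (Submodule.mem_torsion_iff d).mpr ⟨⟨t ^ n, pow_mem ht n⟩, hn⟩
    rw [htf W] at hmem
    exact (Submodule.mem_bot _).mp hmem
  haveI : Mono φ := (Groth.Agent.Lib.QCoh.mono_iff_forall_affine_injective φ).mpr haff
  exact Groth.Agent.Lib.QCoh.app_injective_of_mono φ V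

end Groth.Agent.S15715
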