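import Groth.Statements.S15717
import Groth.Agent.Lib.Helper29.CM

set_option autoImplicit false
universe u
open CAlg
open Groth.Agent.Lib.Helper29

namespace Groth.Agent.S15717

/-- Let R be a Cohen–Macaulay local ring and I an ideal of R with R/I equidimensional (all minimal
primes p over I have the same dim R/p). Then there is a regular sequence r_1, ..., r_n in I such
that the closed subscheme V(r_1, ..., r_n) of Spec R, a local complete intersection, contains V(I),
has the same dimension as V(I), and has the irreducible components of V(I) among its irreducible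
components: dim R/(r_1, ..., r_n) = dim R/I and every minimal prime over I is a minimal prime over
(r_1, ..., r_n). The sequence is asked to be weakly regular (each r_i a non-zero-divisor modulo the
previous ones), which for I proper is the same as regular and which also covers I = R with the
sequence (1). -/
theorem result (R : Type u) [CommRing R]
    [LocCoh.IsCohenMacaulayLocalRing R] (I : Ideal R)
    (hI : ∀ p ∈ I.minimalPrimes, ringKrullDim (R ⧸ p) = ringKrullDim (R ⧸ I)) :
    ∃ rs : List R, RingTheory.Sequence.IsWeaklyRegular R rs ∧ Ideal.ofList rs ≤ I ∧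
      ringKrullDim (R ⧸ Ideal.ofList rs) = ringKrullDim (R ⧸ I) ∧
      I.minimalPrimes ⊆ (Ideal.ofList rs).minimalPrimes := by
  by_cases hItop : I = ⊤
  · subst hItop
    refine ⟨[1], (RingTheory.Sequence.isWeaklyRegular_singleton_iff R (1 : R)).2 (IsSMulRegular.one R), le_top, ?_, ?_⟩
    · have h1 : Ideal.ofList [(1 : R)] = ⊤ := by
        rw [Ideal.ofList_singleton, Ideal.span_singleton_one]
      rw [h1]
    · rw [Ideal.minimalPrimes_top]
      exact Set.empty_subset _
  · have hM : LocCoh.IsCohenMacaulayModule R R :=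
      LocCoh.IsCohenMacaulayLocalRing.supportDim_eq_depth
    have hIm : I ≤ IsLocalRing.maximalIdeal R := IsLocalRing.le_maximalIdeal hItop
    have hIM : I • (⊤ : Submodule R R) ≠ ⊤ := by
      rw [smul_eq_mul, Ideal.mul_top]
      exact hItop
    obtain ⟨rs, hreg, hmem, hmax, -⟩ := DepthLib.exists_maximal_regular I R hIM
    have hmem' : ∀ r ∈ rs, r ∈ IsLocalRing.maximalIdeal R := fun r hr => hIm (hmem r hr)
    obtain ⟨h1, h2⟩ := CMLib.isWeaklyRegular_iff_of_isCM R rs R hM hmem'
    have hN := h2 hreg
    have hdimN := h1.1 hreg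
    have hNnt := CMLib.nontrivial_of_isCM R _ hN
    have hzd : ∀ x ∈ I, ¬ IsSMulRegular (R ⧸ (Ideal.ofList rs • (⊤ : Submodule R R))) x := by
      intro x hx hxreg
      apply hmax x hx
      rw [RingTheory.Sequence.isWeaklyRegular_append_iff]
      exact ⟨hreg, (RingTheory.Sequence.isWeaklyRegular_singleton_iff _ x).2 hxreg⟩
    obtain ⟨q, hq, hIq⟩ := CMLib.exists_mem_ass_ge R _ I hzd
    have hJI : Ideal.ofList rs ≤ I := CMLib.ofList_le_of_forall_mem R hmem
    have hJ : Ideal.ofList rs • (⊤ : Submodule R R) = Ideal.ofList rs := by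
      rw [smul_eq_mul, Ideal.mul_top]
    have hdimJ : Module.supportDim R (R ⧸ (Ideal.ofList rs • (⊤ : Submodule R R))) =
        ringKrullDim (R ⧸ Ideal.ofList rs) := by
      rw [Module.supportDim_eq_of_equiv (Submodule.quotEquivOfEq _ _ hJ)]
      exact Module.supportDim_quotient_eq_ringKrullDim (Ideal.ofList rs)
    have hdimq := CMLib.ringKrullDim_quotient_eq_of_isCM R _ hN hq
    have hle1 : ringKrullDim (R ⧸ q) ≤ ringKrullDim (R ⧸ I) :=
      ringKrullDim_le_of_surjective (Ideal.Quotient.factor hIq)
        (Ideal.Quotient.factor_surjective hIq)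
    have hle2 : ringKrullDim (R ⧸ I) ≤ ringKrullDim (R ⧸ Ideal.ofList rs) :=
      ringKrullDim_le_of_surjective (Ideal.Quotient.factor hJI)
        (Ideal.Quotient.factor_surjective hJI)
    have hdimI : ringKrullDim (R ⧸ Ideal.ofList rs) = ringKrullDim (R ⧸ I) := by
      apply le_antisymm _ hle2
      rw [← hdimJ, ← hdimq]
      exact hle1
    refine ⟨rs, hreg, hJI, hdimI, ?_⟩
    intro p hp
    have hpp : p.IsPrime := hp.1.1
    refine ⟨⟨hpp, hJI.trans hp.1.2⟩, ?_⟩
    intro p' ⟨hp'prime, hJp'⟩ hp'p
    have hp'S : (⟨p', hp'prime⟩ : PrimeSpectrum R) ∈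
        Module.support R (R ⧸ (Ideal.ofList rs • (⊤ : Submodule R R))) := by
      rw [Module.support_quotient]
      refine ⟨?_, ?_⟩
      · rw [Module.mem_support_iff_of_finite, Module.annihilator_eq_bot.2 inferInstance]
        exact bot_le
      · rw [PrimeSpectrum.mem_zeroLocus]; exact hJp'
    apply CMLib.le_of_le_of_mem_support_of_dim_eq R _ hp'S hp'p
    rw [hI p hp, ← hdimI, hdimJ]

end Groth.Agent.S15717
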