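import Groth.Statements.S15724
import Groth.Agent.Lib.Helper79.Wt
-- import your own Groth.Agent.* helpers here

set_option autoImplicit false
universe u
open W4c2invhilbsl2

namespace Groth.Agent.S15724


open MvPolynomial in
/-- the submodule of polynomials congruent to a combination `a g₁ + b g₂` with `a b ∈ W` -/
noncomputable def modSub2 {k : Type u} [Field k] (W : Submodule k (MvPolynomial (Fin 5) k))
    (P : Ideal (MvPolynomial (Fin 5) k)) (g1 g2 : MvPolynomial (Fin 5) k) :
    Submodule k (MvPolynomial (Fin 5) k) where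
  carrier := {f | ∃ a b, a ∈ W ∧ b ∈ W ∧ f - (a * g1 + b * g2) ∈ P}
  zero_mem' := ⟨0, 0, W.zero_mem, W.zero_mem, by simp⟩
  add_mem' := by
    rintro f g ⟨a, b, ha, hb, hf⟩ ⟨a', b', ha', hb', hg⟩
    refine ⟨a + a', b + b', W.add_mem ha ha', W.add_mem hb hb', ?_⟩
    have := P.add_mem hf hg
    convert this using 1
    ring
  smul_mem' := by
    rintro r f ⟨a, b, ha, hb, hf⟩
    refine ⟨r • a, r • b, W.smul_mem r ha, W.smul_mem r hb, ?_⟩
    have := P.mul_mem_left (C r) hf
    convert this using 1
    simp only [MvPolynomial.smul_eq_C_mul]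
    ring

/-- Grade the polynomial ring k[X₀,…,X₄] over a field k by ℤ × ℤ/m, giving X₀ weight (1,0), X₁ and X₂
weight (−p,−1), and X₃ and X₄ weight (q,1), where 0 < p < q are coprime integers and m ≥ 1, and let
P be the principal ideal generated by the weight-zero element X₀^(q−p) − X₁X₄ + X₂X₃ (the equation
of an affine hypersurface). Then every polynomial homogeneous of the weight of X₁ is congruent
modulo P to some a·X₁ + b·X₂ with a and b homogeneous of weight zero, and every polynomial
homogeneous of the weight of X₃ is congruent modulo P to some a·X₃ + b·X₄ with a and b homogeneous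
of weight zero. Equivalently, in the coordinate ring of the hypersurface the weight pieces of the
weights of X₁ and of X₃ are generated over the weight-zero subring (the ring of invariants of the
diagonal action of a one-dimensional torus times the group of m-th roots of unity with these
weights) by X₁, X₂ and by X₃, X₄ respectively. (For the weight of X₁ the congruence is already an
equality in the polynomial ring; for the weight of X₃ the hypersurface equation is needed, e.g.
X₀^(q+p)X₁ has that weight when m divides 2.) -/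
theorem result (k : Type u) [Field k] (p q m : ℕ) (hp : 0 < p) (hpq : p < q) (hcop : Nat.Coprime p q) (hm : 0 < m) (f : MvPolynomial (Fin 5) k) :
    (f ∈ MvPolynomial.weightedHomogeneousSubmodule k (W4c2invhilbsl2.wt5 p q m) (W4c2invhilbsl2.wt5 p q m 1) →
      ∃ a b : MvPolynomial (Fin 5) k, a ∈ MvPolynomial.weightedHomogeneousSubmodule k (W4c2invhilbsl2.wt5 p q m) 0 ∧ b ∈ MvPolynomial.weightedHomogeneousSubmodule k (W4c2invhilbsl2.wt5 p q m) 0 ∧
        f - (a * MvPolynomial.X (1 : Fin 5) + b * MvPolynomial.X (2 : Fin 5)) ∈ Ideal.span {MvPolynomial.X (0 : Fin 5) ^ (q - p) - MvPolynomial.X 1 * MvPolynomial.X 4 + MvPolynomial.X 2 * MvPolynomial.X 3}) ∧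
    (f ∈ MvPolynomial.weightedHomogeneousSubmodule k (W4c2invhilbsl2.wt5 p q m) (W4c2invhilbsl2.wt5 p q m 3) →
      ∃ a b : MvPolynomial (Fin 5) k, a ∈ MvPolynomial.weightedHomogeneousSubmodule k (W4c2invhilbsl2.wt5 p q m) 0 ∧ b ∈ MvPolynomial.weightedHomogeneousSubmodule k (W4c2invhilbsl2.wt5 p q m) 0 ∧
        f - (a * MvPolynomial.X (3 : Fin 5) + b * MvPolynomial.X (4 : Fin 5)) ∈ Ideal.span {MvPolynomial.X (0 : Fin 5) ^ (q - p) - MvPolynomial.X 1 * MvPolynomial.X 4 + MvPolynomial.X 2 * MvPolynomial.X 3}) := by
  classical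
  have hpq' : (p : ℤ) < q := by exact_mod_cast hpq
  have hp' : (0 : ℤ) < p := by exact_mod_cast hp
  set W0 := MvPolynomial.weightedHomogeneousSubmodule k (W4c2invhilbsl2.wt5 p q m) 0 with hW0
  set P : Ideal (MvPolynomial (Fin 5) k) := Ideal.span {MvPolynomial.X (0 : Fin 5) ^ (q - p) - MvPolynomial.X 1 * MvPolynomial.X 4 + MvPolynomial.X 2 * MvPolynomial.X 3} with hP
  have hw1 : W4c2invhilbsl2.wt5 p q m 1 = (-(p : ℤ), -1) := rfl
  have hw3 : W4c2invhilbsl2.wt5 p q m 3 = ((q : ℤ), 1) := rfl
  constructor
  · have key : MvPolynomial.weightedHomogeneousSubmodule k (W4c2invhilbsl2.wt5 p q m)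
        (W4c2invhilbsl2.wt5 p q m 1) ≤ modSub2 W0 P (MvPolynomial.X 1) (MvPolynomial.X 2) := by
      apply Groth.Agent.Lib.Helper79.Wt.le_of_monomials
      intro d hd
      rw [Groth.Agent.Lib.Helper79.Wt.weight5, hw1, Prod.ext_iff] at hd
      obtain ⟨h1, h2⟩ := hd
      simp only at h1 h2
      rw [Groth.Agent.Lib.Helper79.Wt.monomial5]
      generalize d 0 = d0 at *
      generalize d 1 = d1 at *
      generalize d 2 = d2 at *
      generalize d 3 = d3 at *
      generalize d 4 = d4 at *
      rcases Nat.eq_zero_or_pos d1 with rfl | hd1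
      · rcases Nat.eq_zero_or_pos d2 with rfl | hd2
        · exfalso
          have h0 : (0 : ℤ) ≤ d0 := by positivity
          have h3 : (0 : ℤ) ≤ (q : ℤ) * ((d3 : ℤ) + d4) := by positivity
          simp only [Nat.cast_zero, add_zero, mul_zero, sub_zero] at h1
          linarith
        · obtain ⟨e2, rfl⟩ : ∃ e, d2 = e + 1 := ⟨d2 - 1, by omega⟩
          refine ⟨0, MvPolynomial.X 0 ^ d0 * MvPolynomial.X 1 ^ 0 * MvPolynomial.X 2 ^ e2 * MvPolynomial.X 3 ^ d3 * MvPolynomial.X 4 ^ d4,
            W0.zero_mem, ?_, ?_⟩
          · apply Groth.Agent.Lib.Helper79.Wt.mono5_mem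
            · push_cast at h1 ⊢
              simp only [Prod.fst_zero]
              linarith
            · push_cast at h2 ⊢
              simp only [Prod.snd_zero]
              linear_combination h2
          · convert P.zero_mem using 1
            ring
      · obtain ⟨e1, rfl⟩ : ∃ e, d1 = e + 1 := ⟨d1 - 1, by omega⟩
        refine ⟨MvPolynomial.X 0 ^ d0 * MvPolynomial.X 1 ^ e1 * MvPolynomial.X 2 ^ d2 * MvPolynomial.X 3 ^ d3 * MvPolynomial.X 4 ^ d4, 0,
          ?_, W0.zero_mem, ?_⟩
        · apply Groth.Agent.Lib.Helper79.Wt.mono5_mem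
          · push_cast at h1 ⊢
            simp only [Prod.fst_zero]
            linarith
          · push_cast at h2 ⊢
            simp only [Prod.snd_zero]
            linear_combination h2
        · convert P.zero_mem using 1
          ring
    intro hf
    exact key hf
  · have key : MvPolynomial.weightedHomogeneousSubmodule k (W4c2invhilbsl2.wt5 p q m)
        (W4c2invhilbsl2.wt5 p q m 3) ≤ modSub2 W0 P (MvPolynomial.X 3) (MvPolynomial.X 4) := by
      apply Groth.Agent.Lib.Helper79.Wt.le_of_monomials
      intro d hd
      rw [Groth.Agent.Lib.Helper79.Wt.weight5, hw3, Prod.ext_iff] at hd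
      obtain ⟨h1, h2⟩ := hd
      simp only at h1 h2
      rw [Groth.Agent.Lib.Helper79.Wt.monomial5]
      generalize d 0 = d0 at *
      generalize d 1 = d1 at *
      generalize d 2 = d2 at *
      generalize d 3 = d3 at *
      generalize d 4 = d4 at *
      rcases Nat.eq_zero_or_pos d3 with rfl | hd3
      · rcases Nat.eq_zero_or_pos d4 with rfl | hd4
        · -- d3 = d4 = 0 : use the hypersurface equation
          simp only [Nat.cast_zero, add_zero, mul_zero, zero_sub] at h1 h2
          obtain ⟨e0, rfl⟩ : ∃ e0, d0 = e0 + (q - p) := by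
            have : (q : ℤ) - p ≤ d0 := by
              have : (0 : ℤ) ≤ p * ((d1 : ℤ) + d2) := by positivity
              linarith
            have : q - p ≤ d0 := by zify [hpq.le]; exact this
            exact ⟨d0 - (q - p), by omega⟩
          have hcast : ((e0 + (q - p) : ℕ) : ℤ) = (e0 : ℤ) + ((q : ℤ) - p) := by
            rw [Nat.cast_add, Nat.cast_sub hpq.le]
          rw [hcast] at h1
          refine ⟨-(MvPolynomial.X 0 ^ e0 * MvPolynomial.X 1 ^ d1 * MvPolynomial.X 2 ^ (d2 + 1) * MvPolynomial.X 3 ^ 0 * MvPolynomial.X 4 ^ 0),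
            MvPolynomial.X 0 ^ e0 * MvPolynomial.X 1 ^ (d1 + 1) * MvPolynomial.X 2 ^ d2 * MvPolynomial.X 3 ^ 0 * MvPolynomial.X 4 ^ 0,
            W0.neg_mem ?_, ?_, ?_⟩
          · apply Groth.Agent.Lib.Helper79.Wt.mono5_mem
            · push_cast
              simp only [Prod.fst_zero]
              linarith
            · push_cast
              simp only [Prod.snd_zero]
              linear_combination h2
          · apply Groth.Agent.Lib.Helper79.Wt.mono5_mem
            · push_cast
              simp only [Prod.fst_zero]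
              linarith
            · push_cast
              simp only [Prod.snd_zero]
              linear_combination h2
          · have hmem : MvPolynomial.X (0 : Fin 5) ^ (q - p) - MvPolynomial.X 1 * MvPolynomial.X 4 + MvPolynomial.X 2 * MvPolynomial.X 3 ∈ P :=
              Ideal.subset_span rfl
            have := P.mul_mem_left (MvPolynomial.X 0 ^ e0 * MvPolynomial.X 1 ^ d1 * MvPolynomial.X 2 ^ d2) hmem
            convert this using 1
            rw [pow_add]
            ring
        · obtain ⟨e4, rfl⟩ : ∃ e, d4 = e + 1 := ⟨d4 - 1, by omega⟩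
          refine ⟨0, MvPolynomial.X 0 ^ d0 * MvPolynomial.X 1 ^ d1 * MvPolynomial.X 2 ^ d2 * MvPolynomial.X 3 ^ 0 * MvPolynomial.X 4 ^ e4,
            W0.zero_mem, ?_, ?_⟩
          · apply Groth.Agent.Lib.Helper79.Wt.mono5_mem
            · push_cast at h1 ⊢
              simp only [Prod.fst_zero]
              linarith
            · push_cast at h2 ⊢
              simp only [Prod.snd_zero]
              linear_combination h2
          · convert P.zero_mem using 1
            ring
      · obtain ⟨e3, rfl⟩ : ∃ e, d3 = e + 1 := ⟨d3 - 1, by omega⟩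
        refine ⟨MvPolynomial.X 0 ^ d0 * MvPolynomial.X 1 ^ d1 * MvPolynomial.X 2 ^ d2 * MvPolynomial.X 3 ^ e3 * MvPolynomial.X 4 ^ d4, 0,
          ?_, W0.zero_mem, ?_⟩
        · apply Groth.Agent.Lib.Helper79.Wt.mono5_mem
          · push_cast at h1 ⊢
            simp only [Prod.fst_zero]
            linarith
          · push_cast at h2 ⊢
            simp only [Prod.snd_zero]
            linear_combination h2
        · convert P.zero_mem using 1
          ring
    intro hf
    exact key hf

end Groth.Agent.S15724
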