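import Groth.Statements.S15725
import Groth.Agent.Lib.Helper79.Wt
-- import your own Groth.Agent.* helpers here

set_option autoImplicit false
universe u
open W4c2invhilbsl2

namespace Groth.Agent.S15725

/-- Grade the polynomial ring k[X₀,X₁,X₂] over a field k by ℤ × ℤ/m, giving X₀ weight (1,0), X₁ weight
(−p,−1) and X₂ weight (q,1), where 0 < p < q are coprime integers and m ≥ 1 (this three-variable
ring stands for the subring k[X₀,X₁,Xⱼ], j = 3 or 4, of the five-variable ring with the same
weights). Then every polynomial homogeneous of weight (q−p, 0) can be written a·X₀^(q−p) + b·X₁X₂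
with a and b homogeneous of weight zero; in other words the weight-(q−p, 0) piece is generated by
X₀^(q−p) and X₁X₂ as a module over the weight-zero subring. -/
theorem result (k : Type u) [Field k] (p q m : ℕ) (hp : 0 < p) (hpq : p < q) (hcop : Nat.Coprime p q) (hm : 0 < m) (f : MvPolynomial (Fin 3) k)
    (hf : f ∈ MvPolynomial.weightedHomogeneousSubmodule k (W4c2invhilbsl2.wt3 p q m) ((q : ℤ) - (p : ℤ), (0 : ZMod m))) :
    ∃ a b : MvPolynomial (Fin 3) k, a ∈ MvPolynomial.weightedHomogeneousSubmodule k (W4c2invhilbsl2.wt3 p q m) 0 ∧ b ∈ MvPolynomial.weightedHomogeneousSubmodule k (W4c2invhilbsl2.wt3 p q m) 0 ∧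
      f = a * MvPolynomial.X (0 : Fin 3) ^ (q - p) + b * (MvPolynomial.X (1 : Fin 3) * MvPolynomial.X (2 : Fin 3)) := by
  classical
  let W0 := MvPolynomial.weightedHomogeneousSubmodule k (W4c2invhilbsl2.wt3 p q m) 0
  let S : Submodule k (MvPolynomial (Fin 3) k) :=
    { carrier := {f | ∃ a b, a ∈ W0 ∧ b ∈ W0 ∧
        f = a * MvPolynomial.X (0 : Fin 3) ^ (q - p) + b * (MvPolynomial.X (1 : Fin 3) * MvPolynomial.X (2 : Fin 3))}
      zero_mem' := ⟨0, 0, W0.zero_mem, W0.zero_mem, by simp⟩
      add_mem' := by
        rintro f g ⟨a, b, ha, hb, rfl⟩ ⟨a', b', ha', hb', rfl⟩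
        exact ⟨a + a', b + b', W0.add_mem ha ha', W0.add_mem hb hb', by ring⟩
      smul_mem' := by
        rintro r f ⟨a, b, ha, hb, rfl⟩
        exact ⟨r • a, r • b, W0.smul_mem r ha, W0.smul_mem r hb, by
          simp [smul_add]⟩ }
  have key : MvPolynomial.weightedHomogeneousSubmodule k (W4c2invhilbsl2.wt3 p q m)
      ((q : ℤ) - (p : ℤ), (0 : ZMod m)) ≤ S := by
    apply Groth.Agent.Lib.Helper79.Wt.le_of_monomials
    intro d hd
    rw [Groth.Agent.Lib.Helper79.Wt.weight3, Prod.ext_iff] at hd
    obtain ⟨h1, h2⟩ := hd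
    simp only at h1 h2
    rw [Groth.Agent.Lib.Helper79.Wt.monomial3]
    generalize d 0 = d0 at *
    generalize d 1 = d1 at *
    generalize d 2 = d2 at *
    have hpq' : (p : ℤ) < q := by exact_mod_cast hpq
    have hp' : (0 : ℤ) < p := by exact_mod_cast hp
    rcases Nat.eq_zero_or_pos d1 with rfl | hd1
    · -- d1 = 0
      have hd2 : d2 = 0 := by
        by_contra hne
        have : (1 : ℤ) ≤ d2 := by exact_mod_cast Nat.one_le_iff_ne_zero.mpr hne
        have h0 : (0 : ℤ) ≤ d0 := by positivity
        have h3 : (q : ℤ) * 1 ≤ q * d2 := mul_le_mul_of_nonneg_left this (by positivity)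
        simp only [Nat.cast_zero, mul_zero, sub_zero] at h1
        linarith
      subst hd2
      have hd0 : d0 = q - p := by
        zify [hpq.le]; simpa using h1
      subst hd0
      refine ⟨1, 0, MvPolynomial.isWeightedHomogeneous_one k _, W0.zero_mem, by simp⟩
    · rcases Nat.eq_zero_or_pos d2 with rfl | hd2
      · -- d2 = 0, d1 ≥ 1
        have hd0 : d0 = (d0 - (q - p)) + (q - p) := by
          have : (q : ℤ) - p ≤ d0 := by
            have : (0 : ℤ) ≤ p * d1 := by positivity
            simp only [Nat.cast_zero, mul_zero, add_zero] at h1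
            linarith
          have : q - p ≤ d0 := by zify [hpq.le]; exact this
          omega
        refine ⟨MvPolynomial.X 0 ^ (d0 - (q - p)) * MvPolynomial.X 1 ^ d1 * MvPolynomial.X 2 ^ 0, 0,
          ?_, W0.zero_mem, ?_⟩
        · apply Groth.Agent.Lib.Helper79.Wt.mono3_mem
          · have : ((d0 - (q - p) : ℕ) : ℤ) = (d0 : ℤ) - ((q : ℤ) - p) := by
              rw [Nat.cast_sub (by omega), Nat.cast_sub hpq.le]
            rw [this]
            simp only [Nat.cast_zero, mul_zero, add_zero] at h1 ⊢
            simp only [Prod.fst_zero]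
            linarith
          · simpa using h2
        · simp only [zero_mul, add_zero, pow_zero, mul_one]
          conv_lhs => rw [hd0, pow_add]
          ring
      · -- both ≥ 1
        obtain ⟨e1, rfl⟩ : ∃ e, d1 = e + 1 := ⟨d1 - 1, by omega⟩
        obtain ⟨e2, rfl⟩ : ∃ e, d2 = e + 1 := ⟨d2 - 1, by omega⟩
        refine ⟨0, MvPolynomial.X 0 ^ d0 * MvPolynomial.X 1 ^ e1 * MvPolynomial.X 2 ^ e2,
          W0.zero_mem, ?_, by ring⟩
        apply Groth.Agent.Lib.Helper79.Wt.mono3_mem
        · push_cast at h1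
          simp only [Prod.fst_zero]
          linarith
        · push_cast at h2
          simp only [Prod.snd_zero]
          linear_combination h2
  exact key hf

end Groth.Agent.S15725
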