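import Groth.Statements.S15726
import Groth.Agent.Lib.Helper79.Wt
-- import your own Groth.Agent.* helpers here

set_option autoImplicit false
universe u
open W4c2invhilbsl2

namespace Groth.Agent.S15726


open MvPolynomial in
/-- the submodule of polynomials congruent to a combination of four elements with coefficients in `W` -/
noncomputable def modSub4 {k : Type u} [Field k] (W : Submodule k (MvPolynomial (Fin 5) k))
    (P : Ideal (MvPolynomial (Fin 5) k)) (g1 g2 g3 g4 : MvPolynomial (Fin 5) k) :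
    Submodule k (MvPolynomial (Fin 5) k) where
  carrier := {f | ∃ a b c d, a ∈ W ∧ b ∈ W ∧ c ∈ W ∧ d ∈ W ∧
    f - (a * g1 + b * g2 + c * g3 + d * g4) ∈ P}
  zero_mem' := ⟨0, 0, 0, 0, W.zero_mem, W.zero_mem, W.zero_mem, W.zero_mem, by simp⟩
  add_mem' := by
    rintro f g ⟨a, b, c, d, ha, hb, hc, hd, hf⟩ ⟨a', b', c', d', ha', hb', hc', hd', hg⟩
    refine ⟨a + a', b + b', c + c', d + d', W.add_mem ha ha', W.add_mem hb hb',
      W.add_mem hc hc', W.add_mem hd hd', ?_⟩
    have := P.add_mem hf hg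
    convert this using 1
    ring
  smul_mem' := by
    rintro r f ⟨a, b, c, d, ha, hb, hc, hd, hf⟩
    refine ⟨r • a, r • b, r • c, r • d, W.smul_mem r ha, W.smul_mem r hb, W.smul_mem r hc,
      W.smul_mem r hd, ?_⟩
    have := P.mul_mem_left (C r) hf
    convert this using 1
    simp only [MvPolynomial.smul_eq_C_mul]
    ring

/-- Grade the polynomial ring k[X₀,…,X₄] over a field k by ℤ × ℤ/m, giving X₀ weight (1,0), X₁ and X₂
weight (−p,−1), and X₃ and X₄ weight (q,1), where 0 < p < q are coprime integers and m ≥ 1. Then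
modulo the principal ideal generated by the weight-zero element X₀^(q−p) − X₁X₄ + X₂X₃ (the equation
of an affine hypersurface), every polynomial homogeneous of weight (q−p, 0) is congruent to a
combination a₁₃X₁X₃ + a₁₄X₁X₄ + a₂₃X₂X₃ + a₂₄X₂X₄ whose four coefficients are homogeneous of weight
zero. Equivalently, in the coordinate ring of the hypersurface the weight-(q−p, 0) piece is
generated over the weight-zero subring (the invariant ring of the diagonal action with these
weights) by the span of the four products XₐX_b with a ∈ {1,2} and b ∈ {3,4}. (The published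
statement is over the complex numbers; this row takes any field.) -/
theorem result (k : Type u) [Field k] (p q m : ℕ) (hp : 0 < p) (hpq : p < q) (hcop : Nat.Coprime p q) (hm : 0 < m) (f : MvPolynomial (Fin 5) k)
    (hf : f ∈ MvPolynomial.weightedHomogeneousSubmodule k (W4c2invhilbsl2.wt5 p q m) ((q : ℤ) - (p : ℤ), (0 : ZMod m))) :
    ∃ a₁₃ a₁₄ a₂₃ a₂₄ : MvPolynomial (Fin 5) k,
      a₁₃ ∈ MvPolynomial.weightedHomogeneousSubmodule k (W4c2invhilbsl2.wt5 p q m) 0 ∧ a₁₄ ∈ MvPolynomial.weightedHomogeneousSubmodule k (W4c2invhilbsl2.wt5 p q m) 0 ∧ a₂₃ ∈ MvPolynomial.weightedHomogeneousSubmodule k (W4c2invhilbsl2.wt5 p q m) 0 ∧ a₂₄ ∈ MvPolynomial.weightedHomogeneousSubmodule k (W4c2invhilbsl2.wt5 p q m) 0 ∧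
      f - (a₁₃ * (MvPolynomial.X (1 : Fin 5) * MvPolynomial.X 3) + a₁₄ * (MvPolynomial.X (1 : Fin 5) * MvPolynomial.X 4) +
          a₂₃ * (MvPolynomial.X (2 : Fin 5) * MvPolynomial.X 3) + a₂₄ * (MvPolynomial.X (2 : Fin 5) * MvPolynomial.X 4)) ∈
        Ideal.span {MvPolynomial.X (0 : Fin 5) ^ (q - p) - MvPolynomial.X 1 * MvPolynomial.X 4 + MvPolynomial.X 2 * MvPolynomial.X 3} := by
  classical
  have hpq' : (p : ℤ) < q := by exact_mod_cast hpq
  have hp' : (0 : ℤ) < p := by exact_mod_cast hp
  set W0 := MvPolynomial.weightedHomogeneousSubmodule k (W4c2invhilbsl2.wt5 p q m) 0 with hW0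
  set P : Ideal (MvPolynomial (Fin 5) k) := Ideal.span {MvPolynomial.X (0 : Fin 5) ^ (q - p) - MvPolynomial.X 1 * MvPolynomial.X 4 + MvPolynomial.X 2 * MvPolynomial.X 3} with hP
  have key : MvPolynomial.weightedHomogeneousSubmodule k (W4c2invhilbsl2.wt5 p q m)
      ((q : ℤ) - (p : ℤ), (0 : ZMod m)) ≤ modSub4 W0 P (MvPolynomial.X (1 : Fin 5) * MvPolynomial.X 3)
        (MvPolynomial.X (1 : Fin 5) * MvPolynomial.X 4) (MvPolynomial.X (2 : Fin 5) * MvPolynomial.X 3)
        (MvPolynomial.X (2 : Fin 5) * MvPolynomial.X 4) := by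
    apply Groth.Agent.Lib.Helper79.Wt.le_of_monomials
    intro d hd
    rw [Groth.Agent.Lib.Helper79.Wt.weight5, Prod.ext_iff] at hd
    obtain ⟨h1, h2⟩ := hd
    simp only at h1 h2
    rw [Groth.Agent.Lib.Helper79.Wt.monomial5]
    generalize d 0 = d0 at *
    generalize d 1 = d1 at *
    generalize d 2 = d2 at *
    generalize d 3 = d3 at *
    generalize d 4 = d4 at *
    by_cases h34 : d3 = 0 ∧ d4 = 0
    · obtain ⟨rfl, rfl⟩ := h34
      simp only [Nat.cast_zero, add_zero, mul_zero, zero_sub] at h1 h2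
      obtain ⟨e0, rfl⟩ : ∃ e0, d0 = e0 + (q - p) := by
        have : (q : ℤ) - p ≤ d0 := by
          have : (0 : ℤ) ≤ p * ((d1 : ℤ) + d2) := by positivity
          linarith
        have : q - p ≤ d0 := by zify [hpq.le]; exact this
        exact ⟨d0 - (q - p), by omega⟩
      have hcast : ((e0 + (q - p) : ℕ) : ℤ) = (e0 : ℤ) + ((q : ℤ) - p) := by
        rw [Nat.cast_add, Nat.cast_sub hpq.le]
      rw [hcast] at h1
      have hM : MvPolynomial.X 0 ^ e0 * MvPolynomial.X 1 ^ d1 * MvPolynomial.X 2 ^ d2 * MvPolynomial.X 3 ^ 0 * MvPolynomial.X 4 ^ 0 ∈ W0 := by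
        apply Groth.Agent.Lib.Helper79.Wt.mono5_mem
        · push_cast
          simp only [Prod.fst_zero]
          linarith
        · push_cast
          simp only [Prod.snd_zero]
          linear_combination h2
      refine ⟨0, _, _, 0, W0.zero_mem, hM, W0.neg_mem hM, W0.zero_mem, ?_⟩
      have hmem : MvPolynomial.X (0 : Fin 5) ^ (q - p) - MvPolynomial.X 1 * MvPolynomial.X 4 + MvPolynomial.X 2 * MvPolynomial.X 3 ∈ P :=
        Ideal.subset_span rfl
      have := P.mul_mem_left (MvPolynomial.X 0 ^ e0 * MvPolynomial.X 1 ^ d1 * MvPolynomial.X 2 ^ d2) hmem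
      convert this using 1
      rw [pow_add]
      ring
    · have h12 : ¬ (d1 = 0 ∧ d2 = 0) := by
        rintro ⟨rfl, rfl⟩
        have h34' : 1 ≤ d3 + d4 := by omega
        have h34'' : (1 : ℤ) ≤ (d3 : ℤ) + d4 := by exact_mod_cast h34'
        have h0 : (0 : ℤ) ≤ d0 := by positivity
        have h3 : (q : ℤ) * 1 ≤ q * ((d3 : ℤ) + d4) := mul_le_mul_of_nonneg_left h34'' (by positivity)
        simp only [Nat.cast_zero, add_zero, mul_zero, sub_zero] at h1
        linarith
      rcases Nat.eq_zero_or_pos d1 with rfl | hd1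
      · obtain ⟨e2, rfl⟩ : ∃ e, d2 = e + 1 := ⟨d2 - 1, by omega⟩
        rcases Nat.eq_zero_or_pos d3 with rfl | hd3
        · obtain ⟨e4, rfl⟩ : ∃ e, d4 = e + 1 := ⟨d4 - 1, by omega⟩
          refine ⟨0, 0, 0, MvPolynomial.X 0 ^ d0 * MvPolynomial.X 1 ^ 0 * MvPolynomial.X 2 ^ e2 * MvPolynomial.X 3 ^ 0 * MvPolynomial.X 4 ^ e4, W0.zero_mem, W0.zero_mem, W0.zero_mem, ?_, ?_⟩
          · apply Groth.Agent.Lib.Helper79.Wt.mono5_mem
            · push_cast at h1 ⊢
              simp only [Prod.fst_zero]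
              linarith
            · push_cast at h2 ⊢
              simp only [Prod.snd_zero]
              linear_combination h2
          · convert P.zero_mem using 1
            ring
        · obtain ⟨e3, rfl⟩ : ∃ e, d3 = e + 1 := ⟨d3 - 1, by omega⟩
          refine ⟨0, 0, MvPolynomial.X 0 ^ d0 * MvPolynomial.X 1 ^ 0 * MvPolynomial.X 2 ^ e2 * MvPolynomial.X 3 ^ e3 * MvPolynomial.X 4 ^ d4, 0, W0.zero_mem, W0.zero_mem, ?_, W0.zero_mem, ?_⟩
          · apply Groth.Agent.Lib.Helper79.Wt.mono5_mem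
            · push_cast at h1 ⊢
              simp only [Prod.fst_zero]
              linarith
            · push_cast at h2 ⊢
              simp only [Prod.snd_zero]
              linear_combination h2
          · convert P.zero_mem using 1
            ring
      · obtain ⟨e1, rfl⟩ : ∃ e, d1 = e + 1 := ⟨d1 - 1, by omega⟩
        rcases Nat.eq_zero_or_pos d3 with rfl | hd3
        · obtain ⟨e4, rfl⟩ : ∃ e, d4 = e + 1 := ⟨d4 - 1, by omega⟩
          refine ⟨0, MvPolynomial.X 0 ^ d0 * MvPolynomial.X 1 ^ e1 * MvPolynomial.X 2 ^ d2 * MvPolynomial.X 3 ^ 0 * MvPolynomial.X 4 ^ e4, 0, 0, W0.zero_mem, ?_, W0.zero_mem, W0.zero_mem, ?_⟩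
          · apply Groth.Agent.Lib.Helper79.Wt.mono5_mem
            · push_cast at h1 ⊢
              simp only [Prod.fst_zero]
              linarith
            · push_cast at h2 ⊢
              simp only [Prod.snd_zero]
              linear_combination h2
          · convert P.zero_mem using 1
            ring
        · obtain ⟨e3, rfl⟩ : ∃ e, d3 = e + 1 := ⟨d3 - 1, by omega⟩
          refine ⟨MvPolynomial.X 0 ^ d0 * MvPolynomial.X 1 ^ e1 * MvPolynomial.X 2 ^ d2 * MvPolynomial.X 3 ^ e3 * MvPolynomial.X 4 ^ d4, 0, 0, 0, ?_, W0.zero_mem, W0.zero_mem, W0.zero_mem, ?_⟩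
          · apply Groth.Agent.Lib.Helper79.Wt.mono5_mem
            · push_cast at h1 ⊢
              simp only [Prod.fst_zero]
              linarith
            · push_cast at h2 ⊢
              simp only [Prod.snd_zero]
              linear_combination h2
          · convert P.zero_mem using 1
            ring
  obtain ⟨a, b, c, d, ha, hb, hc, hd, h⟩ := key hf
  exact ⟨a, b, c, d, ha, hb, hc, hd, h⟩

end Groth.Agent.S15726
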