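import Groth.Statements.S15727
import Groth.Agent.Lib.Helper79.Wt
import Groth.Agent.Lib.Helper79.Mono
-- import your own Groth.Agent.* helpers here

set_option autoImplicit false
universe u
open W4c2invhilbsl2

namespace Groth.Agent.S15727

/-- Let k be an algebraically closed field, 0 < p < q coprime integers and m ≥ 1, and grade k[X₀,…,X₄]
by ℤ × ℤ/m, giving X₀ weight (1,0), X₁ and X₂ weight (−p,−1), and X₃ and X₄ weight (q,1). For s ∈ k
let I_s be the ideal (X₀^(q−p) − X₁X₄, X₂, X₃, s − X₀^(mp)X₁^m), whose generators are homogeneous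
(the last one of weight zero). Then for every weight ν the image in k[X₀,…,X₄]/I_s of the
homogeneous polynomials of weight ν is a k-vector space of dimension at most 1. (The published
statement asserts that this dimension equals 1 for every ν and every s, namely that the quotient has
the Hilbert function of the regular representation of the grading group; this row states the upper
bound, the half obtained from the monomial analysis of the weight pieces, while the lower bound
there is drawn from the moduli interpretation of these ideals. The published statement is over the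
complex numbers; this row takes any algebraically closed field, which is what the reduction to s =
0, 1 by rescaling the variables uses.) -/
theorem result (k : Type u) [Field k] [IsAlgClosed k] (p q m : ℕ) (hp : 0 < p) (hpq : p < q) (hcop : Nat.Coprime p q) (hm : 0 < m) (s : k) (ν : ℤ × ZMod m) :
    Module.rank k (W4c2invhilbsl2.piece k (W4c2invhilbsl2.wt5 p q m) (W4c2invhilbsl2.idealI k p q m s) ν) ≤ 1 := by
  classical
  apply Groth.Agent.Lib.Helper79.Wt.rank_piece_le_one
  intro d d' hd hd'
  rw [Groth.Agent.Lib.Helper79.Wt.weight5, Prod.ext_iff] at hd hd'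
  obtain ⟨h1, h2⟩ := hd
  obtain ⟨h1', h2'⟩ := hd'
  simp only at h1 h2 h1' h2'
  rw [Groth.Agent.Lib.Helper79.Wt.monomial5, Groth.Agent.Lib.Helper79.Wt.monomial5]
  set I := W4c2invhilbsl2.idealI k p q m s with hI
  have hx2 : Ideal.Quotient.mk I (MvPolynomial.X 2) = 0 :=
    Ideal.Quotient.eq_zero_iff_mem.mpr (Ideal.subset_span (by simp))
  have hx3 : Ideal.Quotient.mk I (MvPolynomial.X 3) = 0 :=
    Ideal.Quotient.eq_zero_iff_mem.mpr (Ideal.subset_span (by simp))
  have hN : Ideal.Quotient.mk I (MvPolynomial.X 0) ^ (q - p) =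
      Ideal.Quotient.mk I (MvPolynomial.X 1) * Ideal.Quotient.mk I (MvPolynomial.X 4) := by
    rw [← map_pow, ← map_mul, ← sub_eq_zero, ← map_sub]
    exact Ideal.Quotient.eq_zero_iff_mem.mpr (Ideal.subset_span (by simp))
  have hs : Ideal.Quotient.mk I (MvPolynomial.X 0) ^ (m * p) * Ideal.Quotient.mk I (MvPolynomial.X 1) ^ m =
      algebraMap k (MvPolynomial (Fin 5) k ⧸ I) s := by
    have : algebraMap k (MvPolynomial (Fin 5) k ⧸ I) s = Ideal.Quotient.mk I (MvPolynomial.C s) := rfl
    rw [this, ← map_pow, ← map_pow, ← map_mul, eq_comm, ← sub_eq_zero, ← map_sub]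
    exact Ideal.Quotient.eq_zero_iff_mem.mpr (Ideal.subset_span (by simp))
  simp only [map_mul, map_pow]
  generalize d 0 = d0 at *
  generalize d 1 = d1 at *
  generalize d 2 = d2 at *
  generalize d 3 = d3 at *
  generalize d 4 = d4 at *
  generalize d' 0 = e0 at *
  generalize d' 1 = e1 at *
  generalize d' 2 = e2 at *
  generalize d' 3 = e3 at *
  generalize d' 4 = e4 at *
  by_cases hd23 : d2 = 0 ∧ d3 = 0
  · by_cases he23 : e2 = 0 ∧ e3 = 0
    · obtain ⟨rfl, rfl⟩ := hd23
      obtain ⟨rfl, rfl⟩ := he23
      simp only [pow_zero, mul_one]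
      simp only [Nat.cast_zero, add_zero, zero_add] at h1 h2 h1' h2'
      apply Groth.Agent.Lib.Helper79.Mono.lemmaI _ _ _ p q m hpq s hN hs
      · rw [h1, h1']
      · rw [← ZMod.intCast_zmod_eq_zero_iff_dvd]
        push_cast
        linear_combination h2 - h2'
    · refine ⟨0, Or.inr ?_⟩
      rw [zero_smul]
      have : e2 ≠ 0 ∨ e3 ≠ 0 := by tauto
      rcases this with h | h
      · rw [hx2, zero_pow h]; ring
      · rw [hx3, zero_pow h]; ring
  · refine ⟨0, Or.inl ?_⟩
    rw [zero_smul]
    have : d2 ≠ 0 ∨ d3 ≠ 0 := by tauto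
    rcases this with h | h
    · rw [hx2, zero_pow h]; ring
    · rw [hx3, zero_pow h]; ring

end Groth.Agent.S15727
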