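import Groth.Statements.S15728
import Groth.Agent.Lib.Helper79.Wt
import Groth.Agent.Lib.Helper79.LemmaB
-- import your own Groth.Agent.* helpers here

set_option autoImplicit false
universe u
open W4c2invhilbsl2

namespace Groth.Agent.S15728

/-- Let k be an algebraically closed field, 0 < p < q coprime integers and m ≥ 1; put g = gcd(m, q−p)
and a = m/g, and grade k[X₀,…,X₄] by ℤ × ℤ/m, giving X₀ weight (1,0), X₁ and X₂ weight (−p,−1), and
X₃ and X₄ weight (q,1). For s ∈ k let J_s be the ideal (X₀^g, X₂, X₄, s − X₁^(aq)X₃^(ap)), whose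
generators are homogeneous (the last one of weight zero). Then for every weight ν the image in
k[X₀,…,X₄]/J_s of the homogeneous polynomials of weight ν is a k-vector space of dimension at most
1. (The published statement asserts that this dimension equals 1 for every ν and every s; this row
states the upper bound, the half obtained from the monomial analysis of the weight pieces, while the
lower bound there is drawn from the moduli interpretation of these ideals. The published statement
is over the complex numbers; this row takes any algebraically closed field, which is what the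
reduction to s = 0, 1 by rescaling the variables uses.) -/
theorem result (k : Type u) [Field k] [IsAlgClosed k] (p q m : ℕ) (hp : 0 < p) (hpq : p < q) (hcop : Nat.Coprime p q) (hm : 0 < m) (s : k) (ν : ℤ × ZMod m) :
    Module.rank k (W4c2invhilbsl2.piece k (W4c2invhilbsl2.wt5 p q m) (W4c2invhilbsl2.idealJ k p q m s) ν) ≤ 1 := by
  classical
  apply Groth.Agent.Lib.Helper79.Wt.rank_piece_le_one
  intro d d' hd hd'
  rw [Groth.Agent.Lib.Helper79.Wt.weight5, Prod.ext_iff] at hd hd'
  obtain ⟨h1, h2⟩ := hd
  obtain ⟨h1', h2'⟩ := hd'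
  simp only at h1 h2 h1' h2'
  rw [Groth.Agent.Lib.Helper79.Wt.monomial5, Groth.Agent.Lib.Helper79.Wt.monomial5]
  set I := W4c2invhilbsl2.idealJ k p q m s with hI
  have hx2 : Ideal.Quotient.mk I (MvPolynomial.X 2) = 0 :=
    Ideal.Quotient.eq_zero_iff_mem.mpr (Ideal.subset_span (by simp))
  have hx4 : Ideal.Quotient.mk I (MvPolynomial.X 4) = 0 :=
    Ideal.Quotient.eq_zero_iff_mem.mpr (Ideal.subset_span (by simp))
  have hx0 : Ideal.Quotient.mk I (MvPolynomial.X 0) ^ Nat.gcd m (q - p) = 0 := by
    rw [← map_pow]
    exact Ideal.Quotient.eq_zero_iff_mem.mpr (Ideal.subset_span (by simp))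
  have hs : Ideal.Quotient.mk I (MvPolynomial.X 1) ^ (m / Nat.gcd m (q - p) * q) *
      Ideal.Quotient.mk I (MvPolynomial.X 3) ^ (m / Nat.gcd m (q - p) * p) =
      algebraMap k (MvPolynomial (Fin 5) k ⧸ I) s := by
    have : algebraMap k (MvPolynomial (Fin 5) k ⧸ I) s = Ideal.Quotient.mk I (MvPolynomial.C s) := rfl
    rw [this, ← map_pow, ← map_pow, ← map_mul, eq_comm, ← sub_eq_zero, ← map_sub]
    exact Ideal.Quotient.eq_zero_iff_mem.mpr (Ideal.subset_span (by simp))
  simp only [map_mul, map_pow]
  generalize d 0 = d0 at *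
  generalize d 1 = d1 at *
  generalize d 2 = d2 at *
  generalize d 3 = d3 at *
  generalize d 4 = d4 at *
  generalize d' 0 = e0 at *
  generalize d' 1 = e1 at *
  generalize d' 2 = e2 at *
  generalize d' 3 = e3 at *
  generalize d' 4 = e4 at *
  by_cases hd24 : d2 = 0 ∧ d4 = 0
  · by_cases he24 : e2 = 0 ∧ e4 = 0
    · obtain ⟨rfl, rfl⟩ := hd24
      obtain ⟨rfl, rfl⟩ := he24
      simp only [pow_zero, mul_one]
      simp only [Nat.cast_zero, add_zero, zero_add] at h1 h2 h1' h2'
      apply Groth.Agent.Lib.Helper79.Mono.lemmaJ _ _ _ p q m hp hpq hcop hm s hx0 hs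
      · rw [h1, h1']
      · rw [← ZMod.intCast_zmod_eq_zero_iff_dvd]
        push_cast
        linear_combination h2' - h2
    · refine ⟨0, Or.inr ?_⟩
      rw [zero_smul]
      have : e2 ≠ 0 ∨ e4 ≠ 0 := by tauto
      rcases this with h | h
      · rw [hx2, zero_pow h]; ring
      · rw [hx4, zero_pow h]; ring
  · refine ⟨0, Or.inl ?_⟩
    rw [zero_smul]
    have : d2 ≠ 0 ∨ d4 ≠ 0 := by tauto
    rcases this with h | h
    · rw [hx2, zero_pow h]; ring
    · rw [hx4, zero_pow h]; ring

end Groth.Agent.S15728
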