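import Groth.Statements.S15729
import Groth.Agent.Lib.Helper79.Wt
import Groth.Agent.Lib.Helper79.HJ6
-- import your own Groth.Agent.* helpers here

set_option autoImplicit false
universe u
open W4c2invhilbsl2

namespace Groth.Agent.S15729


open MvPolynomial in
/-- the submodule of combinations `a g₁ + b g₂` with `a b ∈ W` -/
noncomputable def eqSub2 {k : Type u} [Field k] (W : Submodule k (MvPolynomial (Fin 3) k))
    (g1 g2 : MvPolynomial (Fin 3) k) :
    Submodule k (MvPolynomial (Fin 3) k) where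
  carrier := {f | ∃ a b, a ∈ W ∧ b ∈ W ∧ f = a * g1 + b * g2}
  zero_mem' := ⟨0, 0, W.zero_mem, W.zero_mem, by simp⟩
  add_mem' := by
    rintro f g ⟨a, b, ha, hb, rfl⟩ ⟨a', b', ha', hb', rfl⟩
    exact ⟨a + a', b + b', W.add_mem ha ha', W.add_mem hb hb', by ring⟩
  smul_mem' := by
    rintro r f ⟨a, b, ha, hb, rfl⟩
    exact ⟨r • a, r • b, W.smul_mem r ha, W.smul_mem r hb, by simp [smul_add]⟩

/-- Let 0 < p < q be coprime integers and m ≥ 1 such that q − p does not divide m; put g = gcd(m, q−p),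
b = (q−p)/g, α = ⌊mp/(q−p)⌋, β = the remainder of mp modulo q−p and t = (q−p−β)/g, so that 1 ≤ t <
b, and let b/t = c₁ − 1/(c₂ − 1/(⋯ − 1/c_r)) be the negative-regular (Hirzebruch–Jung) continued
fraction expansion with every cᵢ ≥ 2; set P₀ = 0, P₁ = 1, Q₀ = −1, Q₁ = 0, Pᵢ = cᵢ₋₁Pᵢ₋₁ − Pᵢ₋₂, Qᵢ
= cᵢ₋₁Qᵢ₋₁ − Qᵢ₋₂ for 2 ≤ i ≤ r+1, and eᵢ = (α+1+m)Pᵢ − Qᵢ, lᵢ = (α+1)Pᵢ − Qᵢ, nᵢ = q·lᵢ − p·eᵢ,
which are non-negative integers for 0 ≤ i ≤ r+1. Grade the polynomial ring k[X₀,X₁,X₂] over a field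
k by ℤ × ℤ/m with weights (1,0), (−p,−1), (q,1) (it stands for k[X₀,X₁,Xⱼ], j = 3 or 4, inside the
five-variable ring). Then for every 1 ≤ i ≤ r, every polynomial homogeneous of weight (nᵢ, 0) can be
written a·X₀^(nᵢ) + b·X₁^(eᵢ)X₂^(lᵢ) with a and b homogeneous of weight zero; that is, the
weight-(nᵢ,0) piece is generated over the weight-zero subring by X₀^(nᵢ) and X₁^(eᵢ)X₂^(lᵢ). -/
theorem result (k : Type u) [Field k] (p q m : ℕ) (hp : 0 < p) (hpq : p < q) (hcop : Nat.Coprime p q) (hm : 0 < m) (hnt : ¬ (q - p ∣ m)) (c : List ℤ) (hc : W4c2invhilbsl2.IsHJDigits p q m c) (i : ℕ) (hi : 1 ≤ i) (hir : i ≤ c.length)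
    (f : MvPolynomial (Fin 3) k) (hf : f ∈ MvPolynomial.weightedHomogeneousSubmodule k (W4c2invhilbsl2.wt3 p q m) (W4c2invhilbsl2.nN p q m c i, (0 : ZMod m))) :
    ∃ a b : MvPolynomial (Fin 3) k, a ∈ MvPolynomial.weightedHomogeneousSubmodule k (W4c2invhilbsl2.wt3 p q m) 0 ∧ b ∈ MvPolynomial.weightedHomogeneousSubmodule k (W4c2invhilbsl2.wt3 p q m) 0 ∧
      f = a * MvPolynomial.X (0 : Fin 3) ^ (W4c2invhilbsl2.nN p q m c i).toNat +
        b * (MvPolynomial.X (1 : Fin 3) ^ (W4c2invhilbsl2.eE p q m c i).toNat * MvPolynomial.X (2 : Fin 3) ^ (W4c2invhilbsl2.lL p q m c i).toNat) := by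
  classical
  have hp' : (0 : ℤ) < p := by exact_mod_cast hp
  have hpq' : (p : ℤ) < q := by exact_mod_cast hpq
  set W0 := MvPolynomial.weightedHomogeneousSubmodule k (W4c2invhilbsl2.wt3 p q m) 0 with hW0
  have hn0 := Groth.Agent.Lib.Helper79.HJ.nN_nonneg p q m hp hpq hcop hnt c hc (i := i) (by omega)
  have he0 := Groth.Agent.Lib.Helper79.HJ.eE_nonneg p q m hp hpq hcop hnt c hc (i := i) (by omega)
  have hl0 := Groth.Agent.Lib.Helper79.HJ.lL_nonneg p q m hp hpq hcop hnt c hc (i := i) (by omega)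
  have hel := Groth.Agent.Lib.Helper79.HJ.eE_sub_lL p q m c i
  have hndef : W4c2invhilbsl2.nN p q m c i = -(p : ℤ) * W4c2invhilbsl2.eE p q m c i + (q : ℤ) * W4c2invhilbsl2.lL p q m c i := rfl
  obtain ⟨n, hn⟩ : ∃ n : ℕ, (n : ℤ) = W4c2invhilbsl2.nN p q m c i := ⟨_, Int.toNat_of_nonneg hn0⟩
  obtain ⟨E, hE⟩ : ∃ n : ℕ, (n : ℤ) = W4c2invhilbsl2.eE p q m c i := ⟨_, Int.toNat_of_nonneg he0⟩
  obtain ⟨L, hL⟩ : ∃ n : ℕ, (n : ℤ) = W4c2invhilbsl2.lL p q m c i := ⟨_, Int.toNat_of_nonneg hl0⟩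
  have hn' : (W4c2invhilbsl2.nN p q m c i).toNat = n := by rw [← hn]; simp
  have hE' : (W4c2invhilbsl2.eE p q m c i).toNat = E := by rw [← hE]; simp
  have hL' : (W4c2invhilbsl2.lL p q m c i).toNat = L := by rw [← hL]; simp
  rw [hn', hE', hL']
  have key : MvPolynomial.weightedHomogeneousSubmodule k (W4c2invhilbsl2.wt3 p q m)
      (W4c2invhilbsl2.nN p q m c i, (0 : ZMod m)) ≤ eqSub2 W0 (MvPolynomial.X (0 : Fin 3) ^ n)
        (MvPolynomial.X (1 : Fin 3) ^ E * MvPolynomial.X (2 : Fin 3) ^ L) := by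
    apply Groth.Agent.Lib.Helper79.Wt.le_of_monomials
    intro d hd
    rw [Groth.Agent.Lib.Helper79.Wt.weight3, Prod.ext_iff] at hd
    obtain ⟨h1, h2⟩ := hd
    simp only at h1 h2
    rw [Groth.Agent.Lib.Helper79.Wt.monomial3]
    generalize d 0 = d0 at *
    generalize d 1 = d1 at *
    generalize d 2 = d2 at *
    have hdvd : (m : ℤ) ∣ (d1 : ℤ) - d2 := by
      rw [← ZMod.intCast_zmod_eq_zero_iff_dvd]
      push_cast
      linear_combination -h2
    rcases Groth.Agent.Lib.Helper79.HJ.nt_pqm p q m hp hpq hcop hm hnt c hc hi hir d0 d1 d2 h1 hdvd with hcase | ⟨hc1, hc2⟩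
    · obtain ⟨e0, rfl⟩ : ∃ e0, d0 = e0 + n := by
        have : n ≤ d0 := by
          rw [← hn] at hcase
          exact_mod_cast hcase
        exact ⟨d0 - n, by omega⟩
      refine ⟨MvPolynomial.X 0 ^ e0 * MvPolynomial.X 1 ^ d1 * MvPolynomial.X 2 ^ d2, 0, ?_, W0.zero_mem, ?_⟩
      · apply Groth.Agent.Lib.Helper79.Wt.mono3_mem
        · push_cast at h1
          simp only [Prod.fst_zero]
          linarith
        · simpa using h2
      · rw [pow_add]; ring
    · obtain ⟨f1, rfl⟩ : ∃ f1, d1 = f1 + E := by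
        have : E ≤ d1 := by
          rw [← hE] at hc1
          exact_mod_cast hc1
        exact ⟨d1 - E, by omega⟩
      obtain ⟨f2, rfl⟩ : ∃ f2, d2 = f2 + L := by
        have : L ≤ d2 := by
          rw [← hL] at hc2
          exact_mod_cast hc2
        exact ⟨d2 - L, by omega⟩
      refine ⟨0, MvPolynomial.X 0 ^ d0 * MvPolynomial.X 1 ^ f1 * MvPolynomial.X 2 ^ f2, W0.zero_mem, ?_, ?_⟩
      · apply Groth.Agent.Lib.Helper79.Wt.mono3_mem
        · push_cast at h1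
          simp only [Prod.fst_zero]
          rw [← hE, ← hL] at hndef
          linarith
        · have hEL : ((E : ℤ) : ZMod m) = ((L : ℤ) : ZMod m) := by
            rw [hE, hL, hel]
            push_cast
            simp
          push_cast at h2 hEL
          simp only [Prod.snd_zero]
          linear_combination h2 + hEL
      · rw [pow_add, pow_add]; ring
  exact key hf

end Groth.Agent.S15729
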