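import Groth.Statements.S1573
import Groth.Agent.S2851

set_option autoImplicit false
universe u
open CategoryTheory CategoryTheory.Limits AlgebraicGeometry
open Divisors

namespace Groth.Agent.S1573

/-- Let X be locally Noetherian and U an open subscheme whose inclusion is an affine morphism. At every
point ξ outside U which is maximal under generisation among points outside U, the local ring of X
has dimension at most one; if U is dense the dimension equals one. -/
theorem result (X : Scheme.{u}) [IsLocallyNoetherian X]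
    (U : X.Opens) [IsAffineHom U.ι] (ξ : X) (hξ : ξ ∉ U) (hgen : ∀ y : X, y ∉ U → y ⤳ ξ → y = ξ) :
    ringKrullDim (X.presheaf.stalk ξ) ≤ 1 ∧ (Dense (U : Set X) → ringKrullDim (X.presheaf.stalk ξ) = 1) := by
  have hle := Groth.Agent.S2851.result X U ξ hξ hgen
  refine ⟨hle, fun hdense => ?_⟩
  by_contra hne
  -- the stalk has dimension zero
  have h0 : Ring.KrullDimLE 0 (X.presheaf.stalk ξ) := by
    rw [Ring.krullDimLE_iff]
    by_contra hcon
    apply hne
    apply le_antisymm hle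
    have hpos : (0 : WithBot ℕ∞) < ringKrullDim (X.presheaf.stalk ξ) := by
      rcases lt_or_ge (0 : WithBot ℕ∞) (ringKrullDim (X.presheaf.stalk ξ)) with h | h
      · exact h
      · exact absurd (by simpa using h) hcon
    exact (WithBot.one_le_iff_pos _).2 hpos
  -- `ξ` has no proper generization
  have hgenall : ∀ y : X, y ⤳ ξ → y = ξ := by
    intro y hy
    have hy' : y ∈ Set.range (X.fromSpecStalk ξ) := by
      rw [Scheme.range_fromSpecStalk]; exact hy
    obtain ⟨q, rfl⟩ := hy'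
    have hsub : Subsingleton (PrimeSpectrum (X.presheaf.stalk ξ)) := by
      have tf : (Ring.KrullDimLE 0 (X.presheaf.stalk ξ) ∧ IsLocalRing (X.presheaf.stalk ξ)) ↔
          ∃! I : Ideal (X.presheaf.stalk ξ), I.IsPrime :=
        (Ring.krullDimLE_zero_and_isLocalRing_tfae (X.presheaf.stalk ξ)).out 0 1
      have h1 : ∃! I : Ideal (X.presheaf.stalk ξ), I.IsPrime := tf.1 ⟨h0, inferInstance⟩
      obtain ⟨I, hI, huniq⟩ := h1
      refine ⟨fun a b => ?_⟩
      ext1
      rw [huniq a.asIdeal a.isPrime, huniq b.asIdeal b.isPrime]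
    have hq : q = IsLocalRing.closedPoint (X.presheaf.stalk ξ) :=
      @Subsingleton.elim (PrimeSpectrum (X.presheaf.stalk ξ)) hsub _ _
    rw [hq]
    exact Scheme.fromSpecStalk_closedPoint
  obtain ⟨_, ⟨W, hW, rfl⟩, hξW, -⟩ :=
    X.isBasis_affineOpens.exists_subset_of_mem_open (Set.mem_univ ξ) isOpen_univ
  have : IsNoetherianRing Γ(X, W) := IsLocallyNoetherian.component_noetherian ⟨W, hW⟩
  set p := hW.primeIdealOf ⟨ξ, hξW⟩ with hp
  have hpξ : hW.fromSpec p = ξ := hW.fromSpec_primeIdealOf ⟨ξ, hξW⟩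
  have hinj : Function.Injective hW.fromSpec := hW.fromSpec.isOpenEmbedding.injective
  have hpmin : p.asIdeal ∈ minimalPrimes Γ(X, W) := by
    refine ⟨⟨p.isPrime, bot_le⟩, fun q hq hqp => ?_⟩
    let q' : PrimeSpectrum Γ(X, W) := ⟨q, hq.1⟩
    have h1 : q' ⤳ p := (PrimeSpectrum.le_iff_specializes q' p).1 hqp
    have h2 : hW.fromSpec q' ⤳ ξ := hpξ ▸ h1.map hW.fromSpec.continuous
    have h3 : q' = p := hinj ((hgenall _ h2).trans hpξ.symm)
    rw [← h3]
  have hfin : (minimalPrimes Γ(X, W)).Finite := minimalPrimes.finite_of_isNoetherianRing _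
  -- the closed union of the other components
  let C : Set (PrimeSpectrum Γ(X, W)) :=
    ⋃ q ∈ (minimalPrimes Γ(X, W)) \ {p.asIdeal}, PrimeSpectrum.zeroLocus (q : Set Γ(X, W))
  have hC : IsClosed C :=
    (hfin.subset Set.sdiff_subset).isClosed_biUnion fun q _ => PrimeSpectrum.isClosed_zeroLocus _
  have hpC : p ∉ C := by
    intro h
    obtain ⟨q, ⟨hq, hqne⟩, hqp'⟩ := Set.mem_iUnion₂.1 h
    have hqp : q ≤ p.asIdeal := (PrimeSpectrum.mem_zeroLocus _ _).1 hqp'
    exact hqne (le_antisymm hqp (hpmin.2 hq.1 hqp))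
  let O : X.Opens := hW.fromSpec ''ᵁ ⟨Cᶜ, hC.isOpen_compl⟩
  have hξO : ξ ∈ O := ⟨p, hpC, hpξ⟩
  obtain ⟨y, hyO, hyU⟩ := hdense.inter_open_nonempty (O : Set X) O.2 ⟨ξ, hξO⟩
  obtain ⟨r, hrC, rfl⟩ := hyO
  obtain ⟨q, hq, hqr⟩ := Ideal.exists_minimalPrimes_le (bot_le : (⊥ : Ideal Γ(X, W)) ≤ r.asIdeal)
  have hqp : q = p.asIdeal := by
    by_contra hne'
    apply hrC
    exact Set.mem_iUnion₂.2 ⟨q, ⟨hq, hne'⟩, (PrimeSpectrum.mem_zeroLocus _ _).2 hqr⟩
  rw [hqp] at hqr
  have h1 : p ⤳ r := (PrimeSpectrum.le_iff_specializes p r).1 hqr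
  have h2 : ξ ⤳ hW.fromSpec r := hpξ ▸ h1.map hW.fromSpec.continuous
  exact hξ (h2.mem_open U.2 hyU)

end Groth.Agent.S1573
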