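import Groth.Statements.S15732
import Groth.Agent.Lib.Helper79.Wt
import Groth.Agent.Lib.Helper79.HJ6
-- import your own Groth.Agent.* helpers here

set_option autoImplicit false
universe u
open W4c2invhilbsl2

namespace Groth.Agent.S15732


open MvPolynomial in
/-- the submodule of polynomials congruent modulo `P` to a combination of `g0` and the `G e l` with
coefficients in `W` -/
noncomputable def modSubD {k : Type u} [Field k] (W : Submodule k (MvPolynomial (Fin 5) k))
    (P : Ideal (MvPolynomial (Fin 5) k)) (g0 : MvPolynomial (Fin 5) k) (E L : ℕ)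
    (G : ℕ → ℕ → MvPolynomial (Fin 5) k) :
    Submodule k (MvPolynomial (Fin 5) k) where
  carrier := {f | ∃ (a0 : MvPolynomial (Fin 5) k) (a : ℕ → ℕ → MvPolynomial (Fin 5) k),
    a0 ∈ W ∧ (∀ e l, a e l ∈ W) ∧
    f - (a0 * g0 + ∑ e ∈ Finset.range (E + 1), ∑ l ∈ Finset.range (L + 1), a e l * G e l) ∈ P}
  zero_mem' := ⟨0, fun _ _ ↦ 0, W.zero_mem, fun _ _ ↦ W.zero_mem, by simp⟩
  add_mem' := by
    rintro f g ⟨a0, a, ha0, ha, hf⟩ ⟨a0', a', ha0', ha', hg⟩
    refine ⟨a0 + a0', fun e l ↦ a e l + a' e l, W.add_mem ha0 ha0',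
      fun e l ↦ W.add_mem (ha e l) (ha' e l), ?_⟩
    have := P.add_mem hf hg
    convert this using 1
    simp only [add_mul, Finset.sum_add_distrib]
    ring
  smul_mem' := by
    rintro r f ⟨a0, a, ha0, ha, hf⟩
    refine ⟨r • a0, fun e l ↦ r • a e l, W.smul_mem r ha0, fun e l ↦ W.smul_mem r (ha e l), ?_⟩
    have := P.mul_mem_left (C r) hf
    convert this using 1
    simp only [MvPolynomial.smul_eq_C_mul, mul_sub, mul_add, Finset.mul_sum, mul_assoc]

/-- Let 0 < p < q be coprime integers and m ≥ 1 such that q − p does not divide m; put g = gcd(m, q−p),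
b = (q−p)/g, α = ⌊mp/(q−p)⌋, β = the remainder of mp modulo q−p and t = (q−p−β)/g, so that 1 ≤ t <
b, and let b/t = c₁ − 1/(c₂ − 1/(⋯ − 1/c_r)) be the negative-regular (Hirzebruch–Jung) continued
fraction expansion with every cᵢ ≥ 2; set P₀ = 0, P₁ = 1, Q₀ = −1, Q₁ = 0, Pᵢ = cᵢ₋₁Pᵢ₋₁ − Pᵢ₋₂, Qᵢ
= cᵢ₋₁Qᵢ₋₁ − Qᵢ₋₂ for 2 ≤ i ≤ r+1, and eᵢ = (α+1+m)Pᵢ − Qᵢ, lᵢ = (α+1)Pᵢ − Qᵢ, nᵢ = q·lᵢ − p·eᵢ,
which are non-negative integers for 0 ≤ i ≤ r+1. Grade the polynomial ring k[X₀,…,X₄] over a field k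
by ℤ × ℤ/m, giving X₀ weight (1,0), X₁ and X₂ weight (−p,−1), and X₃ and X₄ weight (q,1). Then for
every 1 ≤ i ≤ r, modulo the principal ideal generated by the weight-zero element X₀^(q−p) − X₁X₄ +
X₂X₃, every polynomial homogeneous of weight (nᵢ, 0) is congruent to a combination a₀·X₀^(nᵢ) + Σ
a_{e,l}·X₁^(eᵢ−e)X₂^e X₃^(lᵢ−l)X₄^l (sum over 0 ≤ e ≤ eᵢ, 0 ≤ l ≤ lᵢ) whose coefficients a₀, a_{e,l}
are homogeneous of weight zero. Equivalently, in the coordinate ring of the hypersurface the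
weight-(nᵢ,0) piece is generated over the weight-zero subring (the invariant ring) by X₀^(nᵢ)
together with the products of a degree-eᵢ monomial in X₁, X₂ and a degree-lᵢ monomial in X₃, X₄.
(The published statement is over the complex numbers; this row takes any field.) -/
theorem result (k : Type u) [Field k] (p q m : ℕ) (hp : 0 < p) (hpq : p < q) (hcop : Nat.Coprime p q) (hm : 0 < m) (hnt : ¬ (q - p ∣ m)) (c : List ℤ) (hc : W4c2invhilbsl2.IsHJDigits p q m c) (i : ℕ) (hi : 1 ≤ i) (hir : i ≤ c.length)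
    (f : MvPolynomial (Fin 5) k) (hf : f ∈ MvPolynomial.weightedHomogeneousSubmodule k (W4c2invhilbsl2.wt5 p q m) (W4c2invhilbsl2.nN p q m c i, (0 : ZMod m))) :
    ∃ (a₀ : MvPolynomial (Fin 5) k) (a : ℕ → ℕ → MvPolynomial (Fin 5) k),
      a₀ ∈ MvPolynomial.weightedHomogeneousSubmodule k (W4c2invhilbsl2.wt5 p q m) 0 ∧ (∀ e l : ℕ, a e l ∈ MvPolynomial.weightedHomogeneousSubmodule k (W4c2invhilbsl2.wt5 p q m) 0) ∧
      f - (a₀ * MvPolynomial.X (0 : Fin 5) ^ (W4c2invhilbsl2.nN p q m c i).toNat +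
          ∑ e ∈ Finset.range ((W4c2invhilbsl2.eE p q m c i).toNat + 1), ∑ l ∈ Finset.range ((W4c2invhilbsl2.lL p q m c i).toNat + 1),
            a e l * (MvPolynomial.X (1 : Fin 5) ^ ((W4c2invhilbsl2.eE p q m c i).toNat - e) * MvPolynomial.X (2 : Fin 5) ^ e *
              MvPolynomial.X (3 : Fin 5) ^ ((W4c2invhilbsl2.lL p q m c i).toNat - l) * MvPolynomial.X (4 : Fin 5) ^ l)) ∈
        Ideal.span {MvPolynomial.X (0 : Fin 5) ^ (q - p) - MvPolynomial.X 1 * MvPolynomial.X 4 + MvPolynomial.X 2 * MvPolynomial.X 3} := by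
  classical
  have hp' : (0 : ℤ) < p := by exact_mod_cast hp
  have hpq' : (p : ℤ) < q := by exact_mod_cast hpq
  set W0 := MvPolynomial.weightedHomogeneousSubmodule k (W4c2invhilbsl2.wt5 p q m) 0 with hW0
  set P : Ideal (MvPolynomial (Fin 5) k) := Ideal.span {MvPolynomial.X (0 : Fin 5) ^ (q - p) - MvPolynomial.X 1 * MvPolynomial.X 4 + MvPolynomial.X 2 * MvPolynomial.X 3} with hP
  have hn0 := Groth.Agent.Lib.Helper79.HJ.nN_nonneg p q m hp hpq hcop hnt c hc (i := i) (by omega)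
  have he0 := Groth.Agent.Lib.Helper79.HJ.eE_nonneg p q m hp hpq hcop hnt c hc (i := i) (by omega)
  have hl0 := Groth.Agent.Lib.Helper79.HJ.lL_nonneg p q m hp hpq hcop hnt c hc (i := i) (by omega)
  have hel := Groth.Agent.Lib.Helper79.HJ.eE_sub_lL p q m c i
  have hndef : W4c2invhilbsl2.nN p q m c i = -(p : ℤ) * W4c2invhilbsl2.eE p q m c i + (q : ℤ) * W4c2invhilbsl2.lL p q m c i := rfl
  obtain ⟨n, hn⟩ : ∃ n : ℕ, (n : ℤ) = W4c2invhilbsl2.nN p q m c i := ⟨_, Int.toNat_of_nonneg hn0⟩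
  obtain ⟨E, hE⟩ : ∃ n : ℕ, (n : ℤ) = W4c2invhilbsl2.eE p q m c i := ⟨_, Int.toNat_of_nonneg he0⟩
  obtain ⟨L, hL⟩ : ∃ n : ℕ, (n : ℤ) = W4c2invhilbsl2.lL p q m c i := ⟨_, Int.toNat_of_nonneg hl0⟩
  have hn' : (W4c2invhilbsl2.nN p q m c i).toNat = n := by rw [← hn]; simp
  have hE' : (W4c2invhilbsl2.eE p q m c i).toNat = E := by rw [← hE]; simp
  have hL' : (W4c2invhilbsl2.lL p q m c i).toNat = L := by rw [← hL]; simp
  rw [hn', hE', hL']
  have key : MvPolynomial.weightedHomogeneousSubmodule k (W4c2invhilbsl2.wt5 p q m)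
      (W4c2invhilbsl2.nN p q m c i, (0 : ZMod m)) ≤ modSubD W0 P (MvPolynomial.X (0 : Fin 5) ^ n) E L
        (fun e l ↦ MvPolynomial.X (1 : Fin 5) ^ (E - e) * MvPolynomial.X (2 : Fin 5) ^ e *
              MvPolynomial.X (3 : Fin 5) ^ (L - l) * MvPolynomial.X (4 : Fin 5) ^ l) := by
    apply Groth.Agent.Lib.Helper79.Wt.le_of_monomials
    intro d hd
    rw [Groth.Agent.Lib.Helper79.Wt.weight5, Prod.ext_iff] at hd
    obtain ⟨h1, h2⟩ := hd
    simp only at h1 h2
    rw [Groth.Agent.Lib.Helper79.Wt.monomial5]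
    generalize d 0 = d0 at *
    generalize d 1 = d1 at *
    generalize d 2 = d2 at *
    generalize d 3 = d3 at *
    generalize d 4 = d4 at *
    have hdvd : (m : ℤ) ∣ ((d1 + d2 : ℕ) : ℤ) - ((d3 + d4 : ℕ) : ℤ) := by
      rw [← ZMod.intCast_zmod_eq_zero_iff_dvd]
      push_cast
      linear_combination -h2
    have h1' : (d0 : ℤ) - p * ((d1 + d2 : ℕ) : ℤ) + q * ((d3 + d4 : ℕ) : ℤ) = W4c2invhilbsl2.nN p q m c i := by
      push_cast; exact h1
    rcases Groth.Agent.Lib.Helper79.HJ.nt_pqm p q m hp hpq hcop hm hnt c hc hi hir d0 (d1 + d2) (d3 + d4) h1' hdvd with hcase | ⟨hc1, hc2⟩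
    · obtain ⟨e0, rfl⟩ : ∃ e0, d0 = e0 + n := by
        have : n ≤ d0 := by
          rw [← hn] at hcase
          exact_mod_cast hcase
        exact ⟨d0 - n, by omega⟩
      refine ⟨MvPolynomial.X 0 ^ e0 * MvPolynomial.X 1 ^ d1 * MvPolynomial.X 2 ^ d2 * MvPolynomial.X 3 ^ d3 * MvPolynomial.X 4 ^ d4,
        fun _ _ ↦ 0, ?_, fun _ _ ↦ W0.zero_mem, ?_⟩
      · apply Groth.Agent.Lib.Helper79.Wt.mono5_mem
        · push_cast at h1
          simp only [Prod.fst_zero]
          linarith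
        · simpa using h2
      · convert P.zero_mem using 1
        simp only [zero_mul, Finset.sum_const_zero, add_zero]
        rw [pow_add]; ring
    · obtain ⟨e, f1, f2, hee, rfl, rfl⟩ : ∃ e f1 f2, e ≤ E ∧ d1 = f1 + (E - e) ∧ d2 = f2 + e := by
        have : E ≤ d1 + d2 := by
          rw [← hE] at hc1
          exact_mod_cast hc1
        exact ⟨min d2 E, d1 - (E - min d2 E), d2 - min d2 E, by omega, by omega, by omega⟩
      obtain ⟨l, f3, f4, hll, rfl, rfl⟩ : ∃ l f3 f4, l ≤ L ∧ d3 = f3 + (L - l) ∧ d4 = f4 + l := by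
        have : L ≤ d3 + d4 := by
          rw [← hL] at hc2
          exact_mod_cast hc2
        exact ⟨min d4 L, d3 - (L - min d4 L), d4 - min d4 L, by omega, by omega, by omega⟩
      set cof : MvPolynomial (Fin 5) k := MvPolynomial.X 0 ^ d0 * MvPolynomial.X 1 ^ f1 * MvPolynomial.X 2 ^ f2 * MvPolynomial.X 3 ^ f3 * MvPolynomial.X 4 ^ f4 with hcof
      have hcofmem : cof ∈ W0 := by
        apply Groth.Agent.Lib.Helper79.Wt.mono5_mem
        · push_cast [Nat.cast_sub hee, Nat.cast_sub hll] at h1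
          simp only [Prod.fst_zero]
          rw [← hE, ← hL] at hndef
          linarith
        · have hEL : ((E : ℤ) : ZMod m) = ((L : ℤ) : ZMod m) := by
            rw [hE, hL, hel]
            push_cast
            simp
          push_cast [Nat.cast_sub hee, Nat.cast_sub hll] at h2 hEL
          simp only [Prod.snd_zero]
          linear_combination h2 + hEL
      refine ⟨0, fun e' l' ↦ if e' = e ∧ l' = l then cof else 0, W0.zero_mem, ?_, ?_⟩
      · intro e' l'
        show (if e' = e ∧ l' = l then cof else 0) ∈ W0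
        split_ifs
        · exact hcofmem
        · exact W0.zero_mem
      · convert P.zero_mem using 1
        rw [Finset.sum_eq_single e, Finset.sum_eq_single l]
        · simp only [and_self, if_true, zero_mul, zero_add, hcof]
          rw [pow_add, pow_add, pow_add, pow_add]
          ring
        · intro l' _ hl'
          simp [hl']
        · intro hl
          exact absurd (Finset.mem_range.mpr (by omega)) hl
        · intro e' _ he'
          apply Finset.sum_eq_zero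
          intro l' _
          simp [he']
        · intro he
          exact absurd (Finset.mem_range.mpr (by omega)) he
  exact key hf

end Groth.Agent.S15732
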