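import Groth.Statements.S15737
import Mathlib.Tactic
-- import your own Groth.Agent.* helpers here

set_option autoImplicit false
open W4c2invhilbsl2

namespace Groth.Agent.S15737

/-- For a monomial X₀^d₀X₁^d₁X₂^d₂ of the polynomial ring in X₀, X₁, X₂ (X₂ standing for Xⱼ, j = 3 or 4,
of the five-variable ring) put n = d₀ − p·d₁ + q·d₂ (its weight for the torus diag(t, t^(−p), t^q)),
c = d₁ − d₂ and ω = p·d₁ − q·d₂, so that d₀ = n + ω; here 0 < p < q are coprime integers. Then n + ω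
< q − p, that is d₀ < q − p, holds if and only if ω is the least value of ω among all monomials with
the same pair (n, c). -/
theorem result (p q : ℕ) (hp : 0 < p) (hpq : p < q) (hcop : Nat.Coprime p q) (d0 d1 d2 : ℕ) :
    d0 < q - p ↔
      ∀ e0 e1 e2 : ℕ, (e0 : ℤ) - (p : ℤ) * e1 + (q : ℤ) * e2 = (d0 : ℤ) - (p : ℤ) * d1 + (q : ℤ) * d2 → (e1 : ℤ) - e2 = (d1 : ℤ) - d2 →
        (p : ℤ) * d1 - (q : ℤ) * d2 ≤ (p : ℤ) * e1 - (q : ℤ) * e2 := by
  have hpq' : p ≤ q := hpq.le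
  have hqp : (0 : ℤ) < (q : ℤ) - p := by
    have : (p : ℤ) < q := by exact_mod_cast hpq
    linarith
  constructor
  · intro hd e0 e1 e2 hn hc
    by_contra hlt
    push Not at hlt
    have hd' : (d0 : ℤ) < (q : ℤ) - p := by
      have : ((d0 : ℕ) : ℤ) < ((q - p : ℕ) : ℤ) := by exact_mod_cast hd
      rwa [Nat.cast_sub hpq'] at this
    have he0 : (0 : ℤ) ≤ e0 := Int.natCast_nonneg e0
    -- ω(e) - ω(d) = (q - p) (d2 - e2)
    have hc1 : (e1 : ℤ) = (d1 : ℤ) - d2 + e2 := by linarith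
    have hω : (p : ℤ) * e1 - (q : ℤ) * e2 - ((p : ℤ) * d1 - (q : ℤ) * d2) =
        ((q : ℤ) - p) * ((d2 : ℤ) - e2) := by
      rw [hc1]; ring
    have hneg : ((q : ℤ) - p) * ((d2 : ℤ) - e2) < 0 := by linarith
    have hde : (d2 : ℤ) - e2 < 0 := by
      by_contra h
      push Not at h
      have := mul_nonneg hqp.le h
      linarith
    have hde' : (d2 : ℤ) - e2 ≤ -1 := by omega
    have h3 : ((q : ℤ) - p) * ((d2 : ℤ) - e2) ≤ ((q : ℤ) - p) * (-1) :=
      mul_le_mul_of_nonneg_left hde' hqp.le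
    -- e0 - d0 = ω(e) - ω(d)
    have h4 : (e0 : ℤ) - d0 = (p : ℤ) * e1 - (q : ℤ) * e2 - ((p : ℤ) * d1 - (q : ℤ) * d2) := by
      linarith
    linarith
  · intro h
    by_contra hd
    push Not at hd
    have hd' : ((q - p : ℕ) : ℤ) ≤ (d0 : ℤ) := by exact_mod_cast hd
    rw [Nat.cast_sub hpq'] at hd'
    have := h (d0 - (q - p)) (d1 + 1) (d2 + 1) (by
      push_cast [Nat.cast_sub hd, Nat.cast_sub hpq']
      ring) (by push_cast; ring)
    push_cast at this
    linarith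

end Groth.Agent.S15737
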