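import Groth.Statements.S15738
import Mathlib.Tactic
-- import your own Groth.Agent.* helpers here

set_option autoImplicit false
universe u
open W4c2invhilbsl2

namespace Groth.Agent.S15738


section aux

variable {R : Type*} [CommRing R]

theorem mem_F_step (x y z : R) (N e0 d1 d2 j : ℕ) :
    x ^ (e0 + N * j) * y ^ d1 * z ^ d2 - x ^ e0 * y ^ (d1 + j) * z ^ (d2 + j) ∈
      Ideal.span {x ^ N - y * z} := by
  have h : x ^ (e0 + N * j) * y ^ d1 * z ^ d2 - x ^ e0 * y ^ (d1 + j) * z ^ (d2 + j) =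
      (x ^ e0 * y ^ d1 * z ^ d2) * ((x ^ N) ^ j - (y * z) ^ j) := by
    rw [pow_add, pow_add, pow_add, pow_mul, mul_pow]; ring
  rw [h]
  obtain ⟨w, hw⟩ := sub_dvd_pow_sub_pow (x ^ N) (y * z) j
  rw [hw]
  exact Ideal.mul_mem_left _ _ (Ideal.mul_mem_right _ _ (Ideal.subset_span rfl))

theorem mem_F (x y z : R) (p q : ℕ) (hpq : p < q) (d0 d1 d2 e0 e1 e2 : ℕ)
    (hn : (e0 : ℤ) - (p : ℤ) * e1 + (q : ℤ) * e2 = (d0 : ℤ) - (p : ℤ) * d1 + (q : ℤ) * d2)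
    (hc : (d1 : ℤ) - d2 = (e1 : ℤ) - e2) :
    x ^ d0 * y ^ d1 * z ^ d2 - x ^ e0 * y ^ e1 * z ^ e2 ∈ Ideal.span {x ^ (q - p) - y * z} := by
  have hpq' : p ≤ q := hpq.le
  rcases le_total d2 e2 with h | h
  · obtain ⟨j, rfl⟩ := Nat.exists_eq_add_of_le h
    have he1 : e1 = d1 + j := by push_cast at hc; omega
    subst he1
    have hd0 : d0 = e0 + (q - p) * j := by
      zify [hpq']
      push_cast at hn
      linarith
    subst hd0
    exact mem_F_step x y z (q - p) e0 d1 d2 j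
  · obtain ⟨j, rfl⟩ := Nat.exists_eq_add_of_le h
    have hd1 : d1 = e1 + j := by push_cast at hc; omega
    subst hd1
    have he0 : e0 = d0 + (q - p) * j := by
      zify [hpq']
      push_cast at hn
      linarith
    subst he0
    have := mem_F_step x y z (q - p) d0 e1 e2 j
    have h2 := (Ideal.span {x ^ (q - p) - y * z}).neg_mem this
    convert h2 using 1
    ring

theorem mem_FG (x y z : R) (p q m : ℕ) (hpq : p < q) (d0 d1 d2 e0 e1 e2 t : ℕ)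
    (hn : (e0 : ℤ) - (p : ℤ) * e1 + (q : ℤ) * e2 = (d0 : ℤ) - (p : ℤ) * d1 + (q : ℤ) * d2)
    (hc : (d1 : ℤ) - d2 = (e1 : ℤ) - e2 + (m : ℤ) * t) :
    x ^ d0 * y ^ d1 * z ^ d2 - x ^ e0 * y ^ e1 * z ^ e2 ∈
      Ideal.span {x ^ (q - p) - y * z, 1 - x ^ (m * p) * y ^ m} := by
  have h1 : x ^ d0 * y ^ d1 * z ^ d2 - x ^ (e0 + m * p * t) * y ^ (e1 + m * t) * z ^ e2 ∈
      Ideal.span {x ^ (q - p) - y * z} := by
    apply mem_F x y z p q hpq
    · push_cast; linarith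
    · push_cast; linarith
  have h1' : x ^ d0 * y ^ d1 * z ^ d2 - x ^ (e0 + m * p * t) * y ^ (e1 + m * t) * z ^ e2 ∈
      Ideal.span {x ^ (q - p) - y * z, 1 - x ^ (m * p) * y ^ m} :=
    Ideal.span_mono (by intro a ha; rw [Set.mem_singleton_iff] at ha; rw [ha]; simp) h1
  have h2 : x ^ (e0 + m * p * t) * y ^ (e1 + m * t) * z ^ e2 - x ^ e0 * y ^ e1 * z ^ e2 ∈
      Ideal.span {x ^ (q - p) - y * z, 1 - x ^ (m * p) * y ^ m} := by
    have h : x ^ (e0 + m * p * t) * y ^ (e1 + m * t) * z ^ e2 - x ^ e0 * y ^ e1 * z ^ e2 =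
        -(x ^ e0 * y ^ e1 * z ^ e2) * (1 ^ t - (x ^ (m * p) * y ^ m) ^ t) := by
      rw [pow_add, pow_add, pow_mul, pow_mul y, mul_pow, one_pow]; ring
    rw [h]
    obtain ⟨w, hw⟩ := sub_dvd_pow_sub_pow (1 : R) (x ^ (m * p) * y ^ m) t
    rw [hw]
    exact Ideal.mul_mem_left _ _ (Ideal.mul_mem_right _ _ (Ideal.subset_span (by simp)))
  have := Ideal.add_mem _ h1' h2
  convert this using 1
  ring

theorem mem_FG1 (x y z : R) (p q m : ℕ) (hpq : p < q) (hm : 0 < m)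
    (d0 d1 d2 e0 e1 e2 : ℕ)
    (hn : (e0 : ℤ) - (p : ℤ) * e1 + (q : ℤ) * e2 = (d0 : ℤ) - (p : ℤ) * d1 + (q : ℤ) * d2)
    (hc : (m : ℤ) ∣ ((d1 : ℤ) - d2) - ((e1 : ℤ) - e2))
    (hlt : (e1 : ℤ) - e2 < (d1 : ℤ) - d2) :
    x ^ d0 * y ^ d1 * z ^ d2 ∈
      Ideal.span {x ^ (q - p) - y * z, x ^ (m * p) * y ^ m} := by
  have hpq' : p ≤ q := hpq.le
  have hpqZ : (p : ℤ) < q := by exact_mod_cast hpq
  have hmZ : (0 : ℤ) < m := by exact_mod_cast hm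
  obtain ⟨s, hs⟩ := hc
  have hs1 : 1 ≤ s := by
    by_contra h
    push Not at h
    have : s ≤ 0 := by omega
    have := mul_nonpos_of_nonneg_of_nonpos hmZ.le this
    linarith
  have hms : (m : ℤ) ≤ (m : ℤ) * s := by
    have := mul_le_mul_of_nonneg_left hs1 hmZ.le
    simpa using this
  -- c' ≤ c - m
  have hcm : (e1 : ℤ) - e2 ≤ (d1 : ℤ) - d2 - m := by linarith
  have hp0 : (0 : ℤ) ≤ p := Int.natCast_nonneg p
  have hq0 : (0 : ℤ) ≤ q := Int.natCast_nonneg q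
  have he0 : (0 : ℤ) ≤ e0 := Int.natCast_nonneg e0
  have he1 : (0 : ℤ) ≤ e1 := Int.natCast_nonneg e1
  have he2 : (0 : ℤ) ≤ e2 := Int.natCast_nonneg e2
  -- the target representative
  have key : ∃ a0 a1 a2 : ℕ, (a0 : ℤ) - (p : ℤ) * a1 + (q : ℤ) * a2 =
      (d0 : ℤ) - (p : ℤ) * d1 + (q : ℤ) * d2 ∧ (d1 : ℤ) - d2 = (a1 : ℤ) - a2 ∧
      m * p ≤ a0 ∧ m ≤ a1 := by
    by_cases hcge : (m : ℤ) ≤ (d1 : ℤ) - d2
    · -- a2 = 0, a1 = c, a0 = n + p c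
      have ha1 : (0 : ℤ) ≤ (d1 : ℤ) - d2 := by linarith
      have ha0 : (m : ℤ) * p ≤ (d0 : ℤ) - (p : ℤ) * d1 + (q : ℤ) * d2 + p * ((d1 : ℤ) - d2) := by
        -- n + p c' ≥ (q-p) e2 ≥ 0 and p c ≥ p c' + p m
        have h1 : (p : ℤ) * ((e1 : ℤ) - e2) + (p : ℤ) * m ≤ (p : ℤ) * ((d1 : ℤ) - d2) := by
          have := mul_le_mul_of_nonneg_left hcm hp0
          linarith
        have h2 : (0 : ℤ) ≤ ((q : ℤ) - p) * e2 := mul_nonneg (by linarith) he2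
        nlinarith
      obtain ⟨a1, ha1'⟩ := Int.eq_ofNat_of_zero_le ha1
      obtain ⟨a0, ha0'⟩ := Int.eq_ofNat_of_zero_le (le_trans (mul_nonneg hmZ.le hp0) ha0)
      refine ⟨a0, a1, 0, ?_, ?_, ?_, ?_⟩
      · rw [← ha0', ← ha1']; push_cast; ring
      · rw [← ha1']; push_cast; ring
      · have : (m : ℤ) * p ≤ a0 := by rw [← ha0']; exact ha0
        exact_mod_cast this
      · have : (m : ℤ) ≤ a1 := by rw [← ha1']; exact hcge
        exact_mod_cast this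
    · push Not at hcge
      -- a2 = m - c, a1 = m, a0 = n + p c - (q-p)(m-c)
      have ha2 : (0 : ℤ) ≤ (m : ℤ) - ((d1 : ℤ) - d2) := by linarith
      have ha0 : (m : ℤ) * p ≤ (d0 : ℤ) - (p : ℤ) * d1 + (q : ℤ) * d2 + p * m -
          q * ((m : ℤ) - ((d1 : ℤ) - d2)) := by
        -- need n + q (c - m) ≥ 0
        have hgoal : (0 : ℤ) ≤ (d0 : ℤ) - (p : ℤ) * d1 + (q : ℤ) * d2 +
            q * (((d1 : ℤ) - d2) - m) := by
          have h3 : (q : ℤ) * ((e1 : ℤ) - e2) ≤ (q : ℤ) * (((d1 : ℤ) - d2) - m) :=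
            mul_le_mul_of_nonneg_left hcm hq0
          -- n + q c' = e0 + (q-p) e1 ≥ 0
          have h4 : (0 : ℤ) ≤ ((q : ℤ) - p) * e1 := mul_nonneg (by linarith) he1
          nlinarith
        linarith
      obtain ⟨a2, ha2'⟩ := Int.eq_ofNat_of_zero_le ha2
      obtain ⟨a0, ha0'⟩ := Int.eq_ofNat_of_zero_le (le_trans (mul_nonneg hmZ.le hp0) ha0)
      refine ⟨a0, m, a2, ?_, ?_, ?_, le_rfl⟩
      · rw [← ha0', ← ha2']; ring
      · rw [← ha2']; ring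
      · have : (m : ℤ) * p ≤ a0 := by rw [← ha0']; exact ha0
        exact_mod_cast this
  obtain ⟨a0, a1, a2, han, hac, ha0, ha1⟩ := key
  have h1 : x ^ d0 * y ^ d1 * z ^ d2 - x ^ a0 * y ^ a1 * z ^ a2 ∈
      Ideal.span {x ^ (q - p) - y * z} := mem_F x y z p q hpq d0 d1 d2 a0 a1 a2 han hac
  have h1' : x ^ d0 * y ^ d1 * z ^ d2 - x ^ a0 * y ^ a1 * z ^ a2 ∈
      Ideal.span {x ^ (q - p) - y * z, x ^ (m * p) * y ^ m} :=
    Ideal.span_mono (by intro a ha; rw [Set.mem_singleton_iff] at ha; rw [ha]; simp) h1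
  have h2 : x ^ a0 * y ^ a1 * z ^ a2 ∈
      Ideal.span {x ^ (q - p) - y * z, x ^ (m * p) * y ^ m} := by
    obtain ⟨b0, rfl⟩ := Nat.exists_eq_add_of_le ha0
    obtain ⟨b1, rfl⟩ := Nat.exists_eq_add_of_le ha1
    have h : x ^ (m * p + b0) * y ^ (m + b1) * z ^ a2 =
        (x ^ b0 * y ^ b1 * z ^ a2) * (x ^ (m * p) * y ^ m) := by
      rw [pow_add, pow_add]; ring
    rw [h]
    exact Ideal.mul_mem_left _ _ (Ideal.subset_span (by simp))
  have := Ideal.add_mem _ h1' h2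
  convert this using 1
  ring

end aux

/-- Let k be a field and m ≥ 1; for a monomial X₀^d₀X₁^d₁X₂^d₂ of the polynomial ring in X₀, X₁, X₂ (X₂
standing for Xⱼ, j = 3 or 4, of the five-variable ring) put n = d₀ − p·d₁ + q·d₂ (its weight for the
torus diag(t, t^(−p), t^q)), c = d₁ − d₂ and ω = p·d₁ − q·d₂, so that d₀ = n + ω; here 0 < p < q are
coprime integers. Take two monomials X₀^d₀X₁^d₁X₂^d₂ and X₀^e₀X₁^e₁X₂^e₂ with the same n and with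
values c, c' of c congruent modulo m (so both lie in the same ℤ × ℤ/m-weight piece for the weights
(1,0), (−p,−1), (q,1)). Then: (i) if c = c', the difference of the two monomials lies in the
principal ideal (X₀^(q−p) − X₁X₂); (ii) if c' < c, the monomial X₀^d₀X₁^d₁X₂^d₂ lies in the ideal
(X₀^(q−p) − X₁X₂, X₀^(mp)X₁^m); (iii) in all cases the difference lies in the ideal (X₀^(q−p) −
X₁X₂, 1 − X₀^(mp)X₁^m). -/
theorem result (k : Type u) [Field k] (p q m : ℕ) (hp : 0 < p) (hpq : p < q) (hcop : Nat.Coprime p q) (hm : 0 < m)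
    (d0 d1 d2 e0 e1 e2 : ℕ) (hn : (e0 : ℤ) - (p : ℤ) * e1 + (q : ℤ) * e2 = (d0 : ℤ) - (p : ℤ) * d1 + (q : ℤ) * d2)
    (hc : (m : ℤ) ∣ ((d1 : ℤ) - d2) - ((e1 : ℤ) - e2)) :
    ((d1 : ℤ) - d2 = (e1 : ℤ) - e2 →
      (MvPolynomial.X (0 : Fin 3) ^ d0 * MvPolynomial.X (1 : Fin 3) ^ d1 * MvPolynomial.X (2 : Fin 3) ^ d2 - MvPolynomial.X (0 : Fin 3) ^ e0 * MvPolynomial.X (1 : Fin 3) ^ e1 * MvPolynomial.X (2 : Fin 3) ^ e2 : MvPolynomial (Fin 3) k) ∈ Ideal.span {MvPolynomial.X (0 : Fin 3) ^ (q - p) - MvPolynomial.X (1 : Fin 3) * MvPolynomial.X (2 : Fin 3)}) ∧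
    ((e1 : ℤ) - e2 < (d1 : ℤ) - d2 →
      (MvPolynomial.X (0 : Fin 3) ^ d0 * MvPolynomial.X (1 : Fin 3) ^ d1 * MvPolynomial.X (2 : Fin 3) ^ d2 : MvPolynomial (Fin 3) k) ∈ Ideal.span {MvPolynomial.X (0 : Fin 3) ^ (q - p) - MvPolynomial.X (1 : Fin 3) * MvPolynomial.X (2 : Fin 3), MvPolynomial.X (0 : Fin 3) ^ (m * p) * MvPolynomial.X (1 : Fin 3) ^ m}) ∧
    ((MvPolynomial.X (0 : Fin 3) ^ d0 * MvPolynomial.X (1 : Fin 3) ^ d1 * MvPolynomial.X (2 : Fin 3) ^ d2 - MvPolynomial.X (0 : Fin 3) ^ e0 * MvPolynomial.X (1 : Fin 3) ^ e1 * MvPolynomial.X (2 : Fin 3) ^ e2 : MvPolynomial (Fin 3) k) ∈ Ideal.span {MvPolynomial.X (0 : Fin 3) ^ (q - p) - MvPolynomial.X (1 : Fin 3) * MvPolynomial.X (2 : Fin 3), 1 - MvPolynomial.X (0 : Fin 3) ^ (m * p) * MvPolynomial.X (1 : Fin 3) ^ m}) := by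
  refine ⟨fun hcc => ?_, fun hlt => ?_, ?_⟩
  · exact mem_F _ _ _ p q hpq d0 d1 d2 e0 e1 e2 hn hcc
  · exact mem_FG1 _ _ _ p q m hpq hm d0 d1 d2 e0 e1 e2 hn hc hlt
  · obtain ⟨s, hs⟩ := hc
    rcases le_total 0 s with h0 | h0
    · obtain ⟨t, rfl⟩ := Int.eq_ofNat_of_zero_le h0
      exact mem_FG _ _ _ p q m hpq d0 d1 d2 e0 e1 e2 t hn (by linarith)
    · obtain ⟨t, ht⟩ := Int.eq_ofNat_of_zero_le (neg_nonneg.mpr h0)
      have := mem_FG (MvPolynomial.X (0 : Fin 3) : MvPolynomial (Fin 3) k) (MvPolynomial.X 1)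
        (MvPolynomial.X 2) p q m hpq e0 e1 e2 d0 d1 d2 t hn.symm (by
          have : (m : ℤ) * (t : ℤ) = -((m : ℤ) * s) := by rw [← ht]; ring
          linarith)
      have h2 := Submodule.neg_mem _ this
      convert h2 using 1
      ring

end Groth.Agent.S15738
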