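import Groth.Statements.S15739
import Groth.Agent.Lib.Helper79.LemmaB
-- import your own Groth.Agent.* helpers here

set_option autoImplicit false
universe u
open W4c2invhilbsl2

namespace Groth.Agent.S15739


theorem pow_shift {R : Type*} [CommRing R] (x y z : R) (A B d0 d1 d2 e1 e2 t : ℕ)
    (h1 : e1 = d1 + t * A) (h2 : e2 = d2 + t * B) :
    x ^ d0 * y ^ e1 * z ^ e2 = x ^ d0 * y ^ d1 * z ^ d2 * (y ^ A * z ^ B) ^ t := by
  rw [h1, h2, pow_add, pow_add, mul_comm t A, mul_comm t B, pow_mul, pow_mul, mul_pow]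
  ring

theorem one_sub_pow_mem {R : Type*} [CommRing R] (Z M : R) (t : ℕ) :
    M * (1 - Z ^ t) ∈ Ideal.span {1 - Z} := by
  obtain ⟨w, hw⟩ := sub_dvd_pow_sub_pow (1 : R) Z t
  rw [one_pow] at hw
  rw [hw]
  exact Ideal.mul_mem_left _ _ (Ideal.mul_mem_right _ _ (Ideal.subset_span rfl))

/-- Let k be a field and m ≥ 1, put g = gcd(m, q−p), a = m/g and b = (q−p)/g; for a monomial
X₀^d₀X₁^d₁X₂^d₂ of the polynomial ring in X₀, X₁, X₂ (X₂ standing for Xⱼ, j = 3 or 4, of the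
five-variable ring) put n = d₀ − p·d₁ + q·d₂ (its weight for the torus diag(t, t^(−p), t^q)), c = d₁
− d₂ and ω = p·d₁ − q·d₂, so that d₀ = n + ω; here 0 < p < q are coprime integers. Take two
monomials X₀^d₀X₁^d₁X₂^d₂ and X₀^e₀X₁^e₁X₂^e₂ with the same n, where 0 ≤ n < q − p, whose values c
and c' of c are both divisible by m, and with d₀ < g and e₀ < g (so each has the least ω for its
pair (n, c), as g ≤ q − p). Then: (i) d₀ = e₀, i.e. the two values of ω agree, and m·b divides c −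
c'; (ii) if c < c', then X₀^e₀X₁^e₁X₂^e₂ is a multiple of X₀^d₀X₁^d₁X₂^d₂ · X₁^(aq)X₂^(ap); (iii)
the difference of the two monomials lies in the principal ideal (1 − X₁^(aq)X₂^(ap)). -/
theorem result (k : Type u) [Field k] (p q m : ℕ) (hp : 0 < p) (hpq : p < q) (hcop : Nat.Coprime p q) (hm : 0 < m)
    (d0 d1 d2 e0 e1 e2 : ℕ) (hn : (e0 : ℤ) - (p : ℤ) * e1 + (q : ℤ) * e2 = (d0 : ℤ) - (p : ℤ) * d1 + (q : ℤ) * d2)
    (hn0 : 0 ≤ (d0 : ℤ) - (p : ℤ) * d1 + (q : ℤ) * d2) (hnq : (d0 : ℤ) - (p : ℤ) * d1 + (q : ℤ) * d2 < (q : ℤ) - p)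
    (hcd : (m : ℤ) ∣ (d1 : ℤ) - d2) (hce : (m : ℤ) ∣ (e1 : ℤ) - e2)
    (hd0 : d0 < Nat.gcd m (q - p)) (he0 : e0 < Nat.gcd m (q - p)) :
    (d0 = e0 ∧ ((m : ℤ) * ((q - p) / Nat.gcd m (q - p) : ℕ)) ∣ ((d1 : ℤ) - d2) - ((e1 : ℤ) - e2)) ∧
    ((d1 : ℤ) - d2 < (e1 : ℤ) - e2 →
      (MvPolynomial.X (0 : Fin 3) ^ d0 * MvPolynomial.X (1 : Fin 3) ^ d1 * MvPolynomial.X (2 : Fin 3) ^ d2 * (MvPolynomial.X (1 : Fin 3) ^ (m / Nat.gcd m (q - p) * q) * MvPolynomial.X (2 : Fin 3) ^ (m / Nat.gcd m (q - p) * p)) : MvPolynomial (Fin 3) k) ∣ MvPolynomial.X (0 : Fin 3) ^ e0 * MvPolynomial.X (1 : Fin 3) ^ e1 * MvPolynomial.X (2 : Fin 3) ^ e2) ∧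
    ((MvPolynomial.X (0 : Fin 3) ^ e0 * MvPolynomial.X (1 : Fin 3) ^ e1 * MvPolynomial.X (2 : Fin 3) ^ e2 - MvPolynomial.X (0 : Fin 3) ^ d0 * MvPolynomial.X (1 : Fin 3) ^ d1 * MvPolynomial.X (2 : Fin 3) ^ d2 : MvPolynomial (Fin 3) k) ∈
      Ideal.span {(1 : MvPolynomial (Fin 3) k) - MvPolynomial.X (1 : Fin 3) ^ (m / Nat.gcd m (q - p) * q) * MvPolynomial.X (2 : Fin 3) ^ (m / Nat.gcd m (q - p) * p)}) := by
  have hpq' : (p : ℤ) < q := by exact_mod_cast hpq
  obtain ⟨hde, u, hu1, hu3⟩ := Groth.Agent.Lib.Helper79.Mono.lemmaB p q m hp hpq hcop hm d0 e0 hd0 he0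
    ((d1 : ℤ) - e1) ((d2 : ℤ) - e2) (by linarith) (by
      have : ((d2 : ℤ) - e2) - ((d1 : ℤ) - e1) = ((e1 : ℤ) - e2) - ((d1 : ℤ) - d2) := by ring
      rw [this]; exact dvd_sub hce hcd)
  subst hde
  have hgpos : 0 < Nat.gcd m (q - p) := Nat.gcd_pos_of_pos_left _ hm
  have hgm : Nat.gcd m (q - p) ∣ m := Nat.gcd_dvd_left m (q - p)
  have hgN : Nat.gcd m (q - p) ∣ q - p := Nat.gcd_dvd_right m (q - p)
  have hma : m = Nat.gcd m (q - p) * (m / Nat.gcd m (q - p)) := (Nat.mul_div_cancel' hgm).symm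
  have hNb : q - p = Nat.gcd m (q - p) * ((q - p) / Nat.gcd m (q - p)) := (Nat.mul_div_cancel' hgN).symm
  have hapos : 0 < m / Nat.gcd m (q - p) := Nat.div_pos (Nat.le_of_dvd hm hgm) hgpos
  generalize m / Nat.gcd m (q - p) = a at *
  generalize (q - p) / Nat.gcd m (q - p) = b at *
  generalize Nat.gcd m (q - p) = g at *
  have hmaZ : (m : ℤ) = g * a := by exact_mod_cast hma
  have hNbZ : (q : ℤ) - p = g * b := by
    have : ((q - p : ℕ) : ℤ) = (g : ℤ) * b := by exact_mod_cast hNb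
    rw [Nat.cast_sub hpq.le] at this
    exact this
  have haZ : (0 : ℤ) < a := by exact_mod_cast hapos
  refine ⟨⟨rfl, ⟨u, ?_⟩⟩, ?_, ?_⟩
  · have : ((d1 : ℤ) - d2) - ((e1 : ℤ) - e2) = ((d1 : ℤ) - e1) - ((d2 : ℤ) - e2) := by ring
    rw [this, hu1, hu3, hmaZ]
    have : (q : ℤ) = p + g * b := by linarith
    rw [this]; ring
  · intro hlt
    have hneg : u < 0 := by
      by_contra hcon
      push Not at hcon
      have h1 : ((d1 : ℤ) - e1) - ((d2 : ℤ) - e2) = u * (a * ((q : ℤ) - p)) := by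
        rw [hu1, hu3]; ring
      have h2 : 0 ≤ u * (a * ((q : ℤ) - p)) :=
        mul_nonneg hcon (mul_nonneg haZ.le (by linarith))
      linarith
    obtain ⟨t, ht⟩ := Int.eq_ofNat_of_zero_le (neg_nonneg.mpr hneg.le)
    have ht1 : 1 ≤ t := by
      by_contra hcon
      have : t = 0 := by omega
      rw [this] at ht
      simp at ht
      omega
    obtain ⟨t', rfl⟩ : ∃ t', t = t' + 1 := ⟨t - 1, by omega⟩
    have := pow_shift (MvPolynomial.X (0 : Fin 3) : MvPolynomial (Fin 3) k) (MvPolynomial.X 1) (MvPolynomial.X 2)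
      (a * q) (a * p) d0 d1 d2 e1 e2 (t' + 1)
      (by have : (e1 : ℤ) = ((d1 + (t' + 1) * (a * q) : ℕ) : ℤ) := by
            push_cast; push_cast at ht; linear_combination -hu1 + (a * q : ℤ) * ht
          exact_mod_cast this)
      (by have : (e2 : ℤ) = ((d2 + (t' + 1) * (a * p) : ℕ) : ℤ) := by
            push_cast; push_cast at ht; linear_combination -hu3 + (a * p : ℤ) * ht
          exact_mod_cast this)
    rw [this, pow_succ]
    exact ⟨(MvPolynomial.X 1 ^ (a * q) * MvPolynomial.X 2 ^ (a * p)) ^ t', by ring⟩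
  · rcases le_total 0 u with h0 | h0
    · obtain ⟨t, rfl⟩ := Int.eq_ofNat_of_zero_le h0
      have := pow_shift (MvPolynomial.X (0 : Fin 3) : MvPolynomial (Fin 3) k) (MvPolynomial.X 1) (MvPolynomial.X 2)
        (a * q) (a * p) d0 e1 e2 d1 d2 t
        (by have : (d1 : ℤ) = ((e1 + t * (a * q) : ℕ) : ℤ) := by
              push_cast; linear_combination hu1
            exact_mod_cast this)
        (by have : (d2 : ℤ) = ((e2 + t * (a * p) : ℕ) : ℤ) := by
              push_cast; linear_combination hu3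
            exact_mod_cast this)
      rw [this]
      have h2 := one_sub_pow_mem ((MvPolynomial.X 1 : MvPolynomial (Fin 3) k) ^ (a * q) * MvPolynomial.X 2 ^ (a * p))
        (MvPolynomial.X 0 ^ d0 * MvPolynomial.X 1 ^ e1 * MvPolynomial.X 2 ^ e2) t
      convert h2 using 1
      ring
    · obtain ⟨t, ht⟩ := Int.eq_ofNat_of_zero_le (neg_nonneg.mpr h0)
      have := pow_shift (MvPolynomial.X (0 : Fin 3) : MvPolynomial (Fin 3) k) (MvPolynomial.X 1) (MvPolynomial.X 2)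
        (a * q) (a * p) d0 d1 d2 e1 e2 t
        (by have : (e1 : ℤ) = ((d1 + t * (a * q) : ℕ) : ℤ) := by
              push_cast; linear_combination -hu1 + (a * q : ℤ) * ht
            exact_mod_cast this)
        (by have : (e2 : ℤ) = ((d2 + t * (a * p) : ℕ) : ℤ) := by
              push_cast; linear_combination -hu3 + (a * p : ℤ) * ht
            exact_mod_cast this)
      rw [this]
      have h2 := one_sub_pow_mem ((MvPolynomial.X 1 : MvPolynomial (Fin 3) k) ^ (a * q) * MvPolynomial.X 2 ^ (a * p))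
        (MvPolynomial.X 0 ^ d0 * MvPolynomial.X 1 ^ d1 * MvPolynomial.X 2 ^ d2) t
      have h3 := (Ideal.span {(1 : MvPolynomial (Fin 3) k) - MvPolynomial.X 1 ^ (a * q) * MvPolynomial.X 2 ^ (a * p)}).neg_mem h2
      convert h3 using 1
      ring

end Groth.Agent.S15739
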