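import Groth.Statements.S5161
-- import your own Groth.Agent.* helpers here
import Groth.Agent.Lib.Helper41.AffComplSch

set_option autoImplicit false
universe u
open AlgebraicGeometry
open LocCoh

namespace Groth.Agent.S5161

/-- Let A be a Noetherian ring, X = Spec A and Y ⊆ X a closed subset whose complement U is an affine
open. Then every irreducible component of Y has codimension ≤ 1 in X, i.e. the generic point of each
irreducible component of Y is a prime of height at most 1. -/
theorem result (A : Type u) [CommRing A] [IsNoetherianRing A] (U : (Spec (CommRingCat.of A)).Opens) (hU : IsAffineOpen U) (p : PrimeSpectrum A) (hpU : (p : (Spec (CommRingCat.of A) : Type u)) ∉ (U : Set (Spec (CommRingCat.of A) : Type u))) (hmin : ∀ q : PrimeSpectrum A, q.asIdeal ≤ p.asIdeal → (q : (Spec (CommRingCat.of A) : Type u)) ∉ (U : Set (Spec (CommRingCat.of A) : Type u)) → q = p) : p.asIdeal.height ≤ 1 := by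
  haveI : IsNoetherianRing Γ(Spec (CommRingCat.of A), ⊤) :=
    isNoetherianRing_of_ringEquiv A
      (Scheme.ΓSpecIso (CommRingCat.of A)).symm.commRingCatIsoToRingEquiv
  have h := Groth.Agent.Lib.Helper41.AffCompl.ringKrullDim_stalk_le_one
    (isAffineOpen_top (Spec (CommRingCat.of A))) hU le_top p trivial hpU
    (fun y _ hyU hyp => hmin y ((PrimeSpectrum.le_iff_specializes y p).2 hyp) hyU)
  let k : Algebra A ↑((Spec (CommRingCat.of A)).presheaf.stalk p) :=
    StructureSheaf.stalkAlgebra A p
  have hloc : IsLocalization.AtPrime (↑((Spec (CommRingCat.of A)).presheaf.stalk p)) p.asIdeal :=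
    StructureSheaf.IsLocalization.to_stalk A p
  rw [IsLocalization.AtPrime.ringKrullDim_eq_height p.asIdeal
    ((Spec (CommRingCat.of A)).presheaf.stalk p)] at h
  exact_mod_cast h

end Groth.Agent.S5161
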