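import Groth.Statements.S1574
import Groth.Agent.S5161

set_option autoImplicit false
universe u
open CategoryTheory CategoryTheory.Limits AlgebraicGeometry
open Divisors

namespace Groth.Agent.S1574

/-- For a Noetherian local ring A, the punctured spectrum (Spec A minus the closed point, as an open
subscheme) is affine if and only if dim A ≤ 1. -/
theorem result (A : Type u) [CommRing A] [IsLocalRing A] [IsNoetherianRing A] :
    IsAffine (FEt.puncturedSpec A : Scheme.{u}) ↔ ringKrullDim A ≤ 1 := by
  have hmh : ((IsLocalRing.maximalIdeal A).height : WithBot ℕ∞) = ringKrullDim A :=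
    IsLocalRing.maximalIdeal_height_eq_ringKrullDim
  constructor
  · intro haff
    have hU : IsAffineOpen (FEt.puncturedSpec A) := haff
    have h1 := Groth.Agent.S5161.result A (FEt.puncturedSpec A) hU (IsLocalRing.closedPoint A)
      (fun h => h rfl)
      (fun q _ hq => by
        by_contra hne
        exact hq hne)
    rw [← hmh]
    exact_mod_cast h1
  · intro hdim
    have hm1 : (IsLocalRing.maximalIdeal A).height ≤ 1 := by
      rw [← hmh] at hdim
      exact_mod_cast hdim
    change IsAffineOpen (FEt.puncturedSpec A)
    by_cases hmin : IsLocalRing.maximalIdeal A ∈ minimalPrimes A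
    · -- the punctured spectrum is empty
      have hbot : FEt.puncturedSpec A = ⊥ := by
        rw [eq_bot_iff]
        intro q hq
        apply hq
        set q' : PrimeSpectrum A := q with hq'
        have hqm : q'.asIdeal ≤ IsLocalRing.maximalIdeal A :=
          IsLocalRing.le_maximalIdeal q'.isPrime.ne_top
        have hmq := hmin.2 ⟨q'.isPrime, bot_le⟩ hqm
        have : q' = IsLocalRing.closedPoint A := PrimeSpectrum.ext (le_antisymm hqm hmq)
        exact this
      rw [hbot]
      exact isAffineOpen_bot _
    · -- prime avoidance
      have hfin : (minimalPrimes A).Finite := minimalPrimes.finite_of_isNoetherianRing A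
      have hnot : ¬ ((IsLocalRing.maximalIdeal A : Set A) ⊆
          ⋃ p ∈ (↑hfin.toFinset : Set (Ideal A)), (p : Set A)) := by
        intro hsub
        rw [Ideal.subset_union_prime ⊥ ⊥ (fun p hp _ _ =>
          (hfin.mem_toFinset.1 hp).1.1)] at hsub
        obtain ⟨p, hp, hmp⟩ := hsub
        have hp' := hfin.mem_toFinset.1 hp
        have : p = IsLocalRing.maximalIdeal A :=
          le_antisymm (IsLocalRing.le_maximalIdeal hp'.1.1.ne_top) hmp
        exact hmin (this ▸ hp')
      obtain ⟨f, hfm, hf⟩ := Set.not_subset.1 hnot
      have hfp : ∀ p ∈ minimalPrimes A, f ∉ p := by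
        intro p hp hfp
        apply hf
        simp only [Set.mem_iUnion]
        exact ⟨p, by simpa using hp, hfp⟩
      have heq : FEt.puncturedSpec A = PrimeSpectrum.basicOpen f := by
        apply TopologicalSpace.Opens.ext
        ext q
        change ¬ (q = IsLocalRing.closedPoint A) ↔ f ∉ (show PrimeSpectrum A from q).asIdeal
        constructor
        · intro hq hfq
          set q' : PrimeSpectrum A := q with hq'
          have hqm : q'.asIdeal < IsLocalRing.maximalIdeal A := by
            refine lt_of_le_of_ne (IsLocalRing.le_maximalIdeal q'.isPrime.ne_top) ?_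
            intro h
            exact hq (PrimeSpectrum.ext h)
          have hq1 : 1 ≤ q'.asIdeal.height := by
            rw [Order.one_le_iff_pos, pos_iff_ne_zero, Ne, Ideal.height_eq_zero_iff]
            intro hqmin
            exact hfp _ hqmin hfq
          have hlt := Ideal.height_strict_mono_of_isPrime_of_isPrime hqm
          exact absurd (lt_of_lt_of_le (lt_of_le_of_lt hq1 hlt) hm1) (lt_irrefl _)
        · intro hfq hq
          rw [hq] at hfq
          exact hfq hfm
      rw [heq]
      exact IsAffineOpen.Spec_basicOpen (R := CommRingCat.of A) f

end Groth.Agent.S1574
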