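import Groth.Statements.S15740
import Mathlib.Tactic
-- import your own Groth.Agent.* helpers here

set_option autoImplicit false
open W4c2invhilbsl2

namespace Groth.Agent.S15740

/-- For a monomial X₀^d₀X₁^d₁X₂^d₂ of the polynomial ring in X₀, X₁, X₂ (X₂ standing for Xⱼ, j = 3 or 4,
of the five-variable ring) put n = d₀ − p·d₁ + q·d₂ (its weight for the torus diag(t, t^(−p), t^q)),
c = d₁ − d₂ and ω = p·d₁ − q·d₂, so that d₀ = n + ω; here 0 < p < q are coprime integers. Suppose n
≥ 0, c > 0 and d₀ < q − p (the last condition says that ω is the least value of ω for the pair (n,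
c)). Then ω ≥ 0 if and only if the remainder of p·c on division by q − p, plus n, is less than q −
p. -/
theorem result (p q : ℕ) (hp : 0 < p) (hpq : p < q) (hcop : Nat.Coprime p q) (d0 d1 d2 : ℕ)
    (hn : 0 ≤ (d0 : ℤ) - (p : ℤ) * d1 + (q : ℤ) * d2) (hc : (d2 : ℤ) < d1) (hd0 : d0 < q - p) :
    0 ≤ (p : ℤ) * d1 - (q : ℤ) * d2 ↔
      Int.emod ((p : ℤ) * ((d1 : ℤ) - d2)) ((q : ℤ) - p) + ((d0 : ℤ) - (p : ℤ) * d1 + (q : ℤ) * d2) < (q : ℤ) - p := by
  have hpq' : p ≤ q := hpq.le
  have hN : (0 : ℤ) < (q : ℤ) - p := by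
    have : (p : ℤ) < q := by exact_mod_cast hpq
    linarith
  have hd0' : (d0 : ℤ) < (q : ℤ) - p := by
    have : ((d0 : ℕ) : ℤ) < ((q - p : ℕ) : ℤ) := by exact_mod_cast hd0
    rwa [Nat.cast_sub hpq'] at this
  have hd0n : (0 : ℤ) ≤ d0 := Int.natCast_nonneg d0
  set N : ℤ := (q : ℤ) - p with hNdef
  set a : ℤ := (p : ℤ) * ((d1 : ℤ) - d2) with ha
  have hr0 : 0 ≤ a % N := Int.emod_nonneg a hN.ne'
  have hrN : a % N < N := Int.emod_lt_of_pos a hN
  have hdiv : N * (a / N) + a % N = a := Int.mul_ediv_add_emod a N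
  -- ω = a - N * d2
  have hω : (p : ℤ) * d1 - (q : ℤ) * d2 = a - N * d2 := by
    rw [ha, hNdef]; ring
  -- ω = r + N * k'
  set k' : ℤ := a / N - d2 with hk'
  have hω' : (p : ℤ) * d1 - (q : ℤ) * d2 = a % N + N * k' := by
    rw [hω, hk']
    have : a = N * (a / N) + a % N := hdiv.symm
    linarith [mul_sub N (a / N) (d2 : ℤ)]
  have hem : Int.emod a N = a % N := rfl
  rw [hem]
  constructor
  · intro h0
    -- 0 ≤ ω ≤ d0 < N so k' = 0
    have hωlt : (p : ℤ) * d1 - (q : ℤ) * d2 < N := by linarith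
    have hk0 : k' = 0 := by
      by_contra hne
      rcases lt_or_gt_of_ne hne with hneg | hpos
      · have : k' ≤ -1 := by omega
        have h1 : N * k' ≤ N * (-1) := mul_le_mul_of_nonneg_left this hN.le
        linarith
      · have : 1 ≤ k' := by omega
        have h1 : N * 1 ≤ N * k' := mul_le_mul_of_nonneg_left this hN.le
        linarith
    rw [hk0, mul_zero, add_zero] at hω'
    linarith
  · intro hlt
    by_contra hneg
    push Not at hneg
    have hk : k' ≤ -1 := by
      by_contra h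
      push Not at h
      have : 0 ≤ k' := by omega
      have := mul_nonneg hN.le this
      linarith
    have h1 : N * k' ≤ N * (-1) := mul_le_mul_of_nonneg_left hk hN.le
    linarith

end Groth.Agent.S15740
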