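import Groth.Statements.S15743
import Groth.Agent.Lib.Ample.Helper50_SecTwist

set_option autoImplicit false
universe u
open QCohSup

namespace Groth.Agent.S15743

open AlgebraicGeometry in
open CategoryTheory in
open Opposite in
/-- Let `X` be a scheme whose underlying space is quasi-compact, `L` an invertible `O_X`-module, `s` a
global section of `L` and `X_s` the open where `s` generates `L`, `F` a quasi-coherent `O_X`-module
and `t` a global section of `F` whose restriction to `X_s` is zero. Then `t ⊗ s^{⊗ n} = 0` in `Γ(X,
F ⊗ L^{⊗ n})` for some integer `n > 0`. (The published statement assumes the underlying space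
Noetherian, or the scheme separated with quasi-compact underlying space; the published proof of this
part uses only quasi-compactness, so only that is assumed here.) -/
theorem result
    (X : Scheme.{u}) [CompactSpace X] (L : X.Modules) (hL : PicF.IsInvertible L)
    (s : Coh.structureModule X ⟶ L) (F : X.Modules) [Coh.IsQCoh F]
    (t : F.val.obj (op ⊤))
    (ht : F.val.map (homOfLE (le_top : CohB1.genLocus L s ≤ ⊤)).op t = 0) :
    ∃ n : ℕ, 0 < n ∧ SecTwist.twist s n F ⊤ t = 0 := by
  have hFq : F.IsQuasicoherent := ‹Coh.IsQCoh F›
  obtain ⟨n₀, h⟩ := Groth.Agent.Lib.Ample.exists_sigmaHom_app_top_eq_zero F hL s t ht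
  refine ⟨n₀ + 1, Nat.succ_pos _, ?_⟩
  rw [← Groth.Agent.Lib.Ample.twistIterIso_hom_app_sigmaHom, h (n₀ + 1) (Nat.le_succ _)]
  exact map_zero _

end Groth.Agent.S15743
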