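import Groth.Statements.S15744
import Groth.Agent.Lib.Ample.Helper50_SecTwist

set_option autoImplicit false
universe u
open QCohSup

namespace Groth.Agent.S15744

open AlgebraicGeometry in
open CategoryTheory in
open Opposite in
/-- Let `X` be a scheme whose underlying space is quasi-compact and quasi-separated, `L` an invertible
`O_X`-module, `s` a global section of `L` and `X_s` the open where `s` generates `L`, `F` a
quasi-coherent `O_X`-module and `t` a section of `F` over `X_s`. Then for some integer `n > 0` there
is a global section of `F ⊗ L^{⊗ n}` whose restriction to `X_s` is `t ⊗ s^{⊗ n}`. (The published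
statement assumes the underlying space Noetherian, or the scheme separated with quasi-compact
underlying space; the published proof uses a finite affine open cover with quasi-compact pairwise
intersections, which is what quasi-compactness and quasi-separatedness provide, and both published
cases have them.) -/
theorem result
    (X : Scheme.{u}) [CompactSpace X] [QuasiSeparatedSpace X] (L : X.Modules)
    (hL : PicF.IsInvertible L) (s : Coh.structureModule X ⟶ L) (F : X.Modules) [Coh.IsQCoh F]
    (t : F.val.obj (op (CohB1.genLocus L s))) :
    ∃ n : ℕ, 0 < n ∧ ∃ t' : (CohB1.tensorMod F (CohB1.tensorPow L n)).val.obj (op ⊤),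
      (CohB1.tensorMod F (CohB1.tensorPow L n)).val.map
          (homOfLE (le_top : CohB1.genLocus L s ≤ ⊤)).op t' =
        SecTwist.twist s n F (CohB1.genLocus L s) t := by
  have hFq : F.IsQuasicoherent := ‹Coh.IsQCoh F›
  obtain ⟨n₀, h⟩ := Groth.Agent.Lib.Ample.exists_extension_sigmaHom_top F hL s t
  obtain ⟨t'', ht''⟩ := h (n₀ + 1) (Nat.le_succ _)
  refine ⟨n₀ + 1, Nat.succ_pos _,
    (Groth.Agent.Lib.Ample.twistIterIso F L (n₀ + 1)).hom.app ⊤ t'', ?_⟩
  rw [← Groth.Agent.Lib.Ample.twistIterIso_hom_app_sigmaHom, ← ht'']
  exact (Groth.Agent.Lib.QCoh.app_naturality_apply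
    (Groth.Agent.Lib.Ample.twistIterIso F L (n₀ + 1)).hom
    (homOfLE (le_top : CohB1.genLocus L s ≤ ⊤)) t'').symm

end Groth.Agent.S15744
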