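import Groth.Statements.S19606
import Groth.Agent.Lib.QCoh.Helper50_AffineDict

set_option autoImplicit false
set_option linter.style.haveILetI false
universe u
open CategoryTheory CategoryTheory.Limits AlgebraicGeometry
open ClSub

namespace Groth.Agent.S19606

section aux
open Groth.Agent.Lib.QCoh Opposite
variable {X : Scheme.{u}} (I : X.IdealSheafData)

theorem toSub_surjective (U : X.affineOpens) :
    Function.Surjective ((ClSub.toSubscheme I).app (U : X.Opens)) :=
  I.subschemeι_app_surjective U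

theorem epi_toSub : Epi (ClSub.toSubscheme I) := by
  apply epi_of_forall_affine_surjective
  intro U
  exact toSub_surjective I U

theorem mem_ideal_of_toSub_eq_zero (U : X.affineOpens)
    (s : Γ(Coh.structureModule X, (U : X.Opens)))
    (hs : (ClSub.toSubscheme I).app (U : X.Opens) s = 0) :
    (show Γ(X, (U : X.Opens)) from s) ∈ I.ideal U := by
  rw [← I.ker_subschemeι_app U, RingHom.mem_ker]
  exact hs

theorem toSub_eq_zero_of_mem (U : X.affineOpens) (c : Γ(X, (U : X.Opens))) (hc : c ∈ I.ideal U) :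
    (ClSub.toSubscheme I).app (U : X.Opens)
      (show Γ(Coh.structureModule X, (U : X.Opens)) from c) = 0 := by
  rw [← I.ker_subschemeι_app U, RingHom.mem_ker] at hc
  exact hc

end aux


/-- Let X be a scheme and I₁, I₂ quasi-coherent ideal sheaves with I₁ ⊓ I₂ = 0, cutting out closed
subschemes X₁, X₂ and X₁ ∩ X₂ (ideal I₁ + I₂). Then 0 → O_X → O_X/I₁ ⊕ O_X/I₂ → O_X/(I₁ + I₂) → 0 is
an exact sequence of O_X-modules, the maps being the two restrictions and the difference of the
restrictions q₁, q₂ (the module maps compatible with the quotient maps from O_X). The published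
statement is for a locally free sheaf E on a reduced scheme with two irreducible components X₁, X₂
(whose ideals meet in zero); this row is the case E = O_X for any two ideals with zero intersection,
which is what the local argument uses. -/
theorem result (X : Scheme.{u}) (I₁ I₂ : X.IdealSheafData)
    (h : I₁ ⊓ I₂ = ⊥)
    (q₁ : ClSub.quotMod I₁ ⟶ ClSub.quotMod (I₁ ⊔ I₂)) (q₂ : ClSub.quotMod I₂ ⟶ ClSub.quotMod (I₁ ⊔ I₂))
    (hq₁ : ClSub.toSubscheme I₁ ≫ q₁ = ClSub.toSubscheme (I₁ ⊔ I₂))
    (hq₂ : ClSub.toSubscheme I₂ ≫ q₂ = ClSub.toSubscheme (I₁ ⊔ I₂)) :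
    Epi (biprod.desc q₁ (-q₂)) ∧
      ∃ w : biprod.lift (ClSub.toSubscheme I₁) (ClSub.toSubscheme I₂) ≫ biprod.desc q₁ (-q₂) = 0,
        Nonempty (IsLimit (KernelFork.ofι (biprod.lift (ClSub.toSubscheme I₁) (ClSub.toSubscheme I₂)) w)) := by
  open Groth.Agent.Lib.QCoh in
  classical
  have e12 : Epi (ClSub.toSubscheme (I₁ ⊔ I₂)) := epi_toSub _
  have eq₁ : Epi q₁ := by
    haveI : Epi (ClSub.toSubscheme I₁ ≫ q₁) := by rw [hq₁]; exact e12
    exact epi_of_epi (ClSub.toSubscheme I₁) q₁
  have w : biprod.lift (ClSub.toSubscheme I₁) (ClSub.toSubscheme I₂) ≫ biprod.desc q₁ (-q₂) = 0 := by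
    rw [biprod.lift_desc, hq₁, Preadditive.comp_neg, hq₂]
    exact add_neg_cancel _
  refine ⟨?_, w, ?_⟩
  · haveI : Epi ((biprod.inl : ClSub.quotMod I₁ ⟶ ClSub.quotMod I₁ ⊞ ClSub.quotMod I₂) ≫
        biprod.desc q₁ (-q₂)) := by
      rw [biprod.inl_desc]; exact eq₁
    exact epi_of_epi (biprod.inl : ClSub.quotMod I₁ ⟶ ClSub.quotMod I₁ ⊞ ClSub.quotMod I₂) _
  · -- kernel
    let S : ShortComplex X.Modules :=
      ShortComplex.mk (biprod.lift (ClSub.toSubscheme I₁) (ClSub.toSubscheme I₂))
        (biprod.desc q₁ (-q₂)) w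
    have hmono : Mono S.f := by
      rw [mono_iff_forall_affine_injective]
      intro U
      rw [injective_iff_map_eq_zero]
      intro s hs
      have h1 : (ClSub.toSubscheme I₁).app (U : X.Opens) s = 0 := by
        have := congrArg ((biprod.fst : ClSub.quotMod I₁ ⊞ ClSub.quotMod I₂ ⟶ _).app (U : X.Opens)) hs
        rw [map_zero] at this
        rw [← this]
        have e : biprod.lift (ClSub.toSubscheme I₁) (ClSub.toSubscheme I₂) ≫ biprod.fst =
          ClSub.toSubscheme I₁ := biprod.lift_fst _ _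
        rw [← e]
        rfl
      have h2 : (ClSub.toSubscheme I₂).app (U : X.Opens) s = 0 := by
        have := congrArg ((biprod.snd : ClSub.quotMod I₁ ⊞ ClSub.quotMod I₂ ⟶ _).app (U : X.Opens)) hs
        rw [map_zero] at this
        rw [← this]
        have e : biprod.lift (ClSub.toSubscheme I₁) (ClSub.toSubscheme I₂) ≫ biprod.snd =
          ClSub.toSubscheme I₂ := biprod.lift_snd _ _
        rw [← e]
        rfl
      have m1 : (show Γ(X, (U : X.Opens)) from s) ∈ I₁.ideal U := mem_ideal_of_toSub_eq_zero I₁ U s h1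
      have m2 : (show Γ(X, (U : X.Opens)) from s) ∈ I₂.ideal U := mem_ideal_of_toSub_eq_zero I₂ U s h2
      have m3 : (show Γ(X, (U : X.Opens)) from s) ∈ (I₁ ⊓ I₂).ideal U := by
        rw [Scheme.IdealSheafData.ideal_inf]
        exact ⟨m1, m2⟩
      rw [h, Scheme.IdealSheafData.ideal_bot] at m3
      exact m3
    have hex : S.Exact := by
      rw [ShortComplex.exact_iff_epi_kernel_lift]
      apply epi_of_forall_affine_surjective
      intro U t
      have hι : Function.Injective ((kernel.ι S.g).app (U : X.Opens)) :=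
        app_injective_of_mono _ _
      set m := (kernel.ι S.g).app (U : X.Opens) t with hm
      have hz : S.g.app (U : X.Opens) m = 0 := by
        have : kernel.ι S.g ≫ S.g = 0 := kernel.condition _
        exact congrArg (fun φ => Scheme.Modules.Hom.app φ (U : X.Opens) t) this
      -- components
      obtain ⟨x, hx⟩ := toSub_surjective I₁ U
        ((biprod.fst : ClSub.quotMod I₁ ⊞ ClSub.quotMod I₂ ⟶ _).app (U : X.Opens) m)
      obtain ⟨y, hy⟩ := toSub_surjective I₂ U
        ((biprod.snd : ClSub.quotMod I₁ ⊞ ClSub.quotMod I₂ ⟶ _).app (U : X.Opens) m)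
      have hm' : m = (biprod.inl : ClSub.quotMod I₁ ⟶ ClSub.quotMod I₁ ⊞ ClSub.quotMod I₂).app
            (U : X.Opens) ((ClSub.toSubscheme I₁).app (U : X.Opens) x) +
          (biprod.inr : ClSub.quotMod I₂ ⟶ ClSub.quotMod I₁ ⊞ ClSub.quotMod I₂).app
            (U : X.Opens) ((ClSub.toSubscheme I₂).app (U : X.Opens) y) := by
        rw [hx, hy]
        have ht : (biprod.fst : ClSub.quotMod I₁ ⊞ ClSub.quotMod I₂ ⟶ _) ≫ biprod.inl +
            biprod.snd ≫ biprod.inr = 𝟙 (ClSub.quotMod I₁ ⊞ ClSub.quotMod I₂) := biprod.total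
        exact (congrArg (fun φ => Scheme.Modules.Hom.app φ (U : X.Opens) m) ht).symm
      -- the relation
      have hrel : (ClSub.toSubscheme (I₁ ⊔ I₂)).app (U : X.Opens) (x - y) = 0 := by
        rw [map_sub, sub_eq_zero]
        have e1 : (ClSub.toSubscheme (I₁ ⊔ I₂)).app (U : X.Opens) x =
            q₁.app (U : X.Opens) ((ClSub.toSubscheme I₁).app (U : X.Opens) x) := by
          rw [← hq₁]; rfl
        have e2 : (ClSub.toSubscheme (I₁ ⊔ I₂)).app (U : X.Opens) y =
            q₂.app (U : X.Opens) ((ClSub.toSubscheme I₂).app (U : X.Opens) y) := by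
          rw [← hq₂]; rfl
        rw [e1, e2, ← sub_eq_zero]
        rw [hm'] at hz
        have d1 : (biprod.inl : ClSub.quotMod I₁ ⟶ ClSub.quotMod I₁ ⊞ ClSub.quotMod I₂) ≫
            biprod.desc q₁ (-q₂) = q₁ := biprod.inl_desc _ _
        have d2 : (biprod.inr : ClSub.quotMod I₂ ⟶ ClSub.quotMod I₁ ⊞ ClSub.quotMod I₂) ≫
            biprod.desc q₁ (-q₂) = -q₂ := biprod.inr_desc _ _
        rw [map_add] at hz
        have z1 : S.g.app (U : X.Opens) ((biprod.inl : ClSub.quotMod I₁ ⟶
            ClSub.quotMod I₁ ⊞ ClSub.quotMod I₂).app (U : X.Opens)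
              ((ClSub.toSubscheme I₁).app (U : X.Opens) x)) =
            q₁.app (U : X.Opens) ((ClSub.toSubscheme I₁).app (U : X.Opens) x) := by
          change ((biprod.inl : ClSub.quotMod I₁ ⟶ ClSub.quotMod I₁ ⊞ ClSub.quotMod I₂) ≫
            biprod.desc q₁ (-q₂)).app (U : X.Opens) _ = _
          rw [d1]
        have z2 : S.g.app (U : X.Opens) ((biprod.inr : ClSub.quotMod I₂ ⟶
            ClSub.quotMod I₁ ⊞ ClSub.quotMod I₂).app (U : X.Opens)
              ((ClSub.toSubscheme I₂).app (U : X.Opens) y)) =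
            -(q₂.app (U : X.Opens) ((ClSub.toSubscheme I₂).app (U : X.Opens) y)) := by
          change ((biprod.inr : ClSub.quotMod I₂ ⟶ ClSub.quotMod I₁ ⊞ ClSub.quotMod I₂) ≫
            biprod.desc q₁ (-q₂)).app (U : X.Opens) _ = _
          rw [d2]
          rfl
        rw [z1, z2] at hz
        rw [sub_eq_add_neg]
        exact hz
      have hmem : (show Γ(X, (U : X.Opens)) from x - y) ∈ (I₁ ⊔ I₂).ideal U :=
        mem_ideal_of_toSub_eq_zero (I₁ ⊔ I₂) U _ hrel
      rw [Scheme.IdealSheafData.ideal_sup] at hmem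
      obtain ⟨c₁, hc₁, c₂, hc₂, hc⟩ := Submodule.mem_sup.1 hmem
      -- s = x - c₁ = y + c₂
      have k1 : (ClSub.toSubscheme I₁).app (U : X.Opens) (show Γ(Coh.structureModule X, (U : X.Opens)) from c₁) = 0 :=
        toSub_eq_zero_of_mem I₁ U c₁ hc₁
      have k2 : (ClSub.toSubscheme I₂).app (U : X.Opens) (show Γ(Coh.structureModule X, (U : X.Opens)) from c₂) = 0 :=
        toSub_eq_zero_of_mem I₂ U c₂ hc₂
      refine ⟨x - (show Γ(Coh.structureModule X, (U : X.Opens)) from c₁), hι ?_⟩
      have hl : kernel.lift S.g S.f S.zero ≫ kernel.ι S.g = S.f := kernel.lift_ι _ _ _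
      have hl' : (kernel.ι S.g).app (U : X.Opens) ((kernel.lift S.g S.f S.zero).app (U : X.Opens)
          (x - (show Γ(Coh.structureModule X, (U : X.Opens)) from c₁))) =
          S.f.app (U : X.Opens) (x - (show Γ(Coh.structureModule X, (U : X.Opens)) from c₁)) :=
        congrArg (fun φ => Scheme.Modules.Hom.app φ (U : X.Opens)
          (x - (show Γ(Coh.structureModule X, (U : X.Opens)) from c₁))) hl
      rw [hl', ← hm, hm']
      -- S.f (x - c₁) = inl (t₁ x) + inr (t₂ y)
      have ht : (biprod.fst : ClSub.quotMod I₁ ⊞ ClSub.quotMod I₂ ⟶ _) ≫ biprod.inl +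
          biprod.snd ≫ biprod.inr = 𝟙 (ClSub.quotMod I₁ ⊞ ClSub.quotMod I₂) := biprod.total
      have hdec := (congrArg (fun φ => Scheme.Modules.Hom.app φ (U : X.Opens)
        (S.f.app (U : X.Opens) (x - (show Γ(Coh.structureModule X, (U : X.Opens)) from c₁)))) ht).symm
      refine hdec.trans ?_
      have f1 : (biprod.fst : ClSub.quotMod I₁ ⊞ ClSub.quotMod I₂ ⟶ _).app (U : X.Opens)
          (S.f.app (U : X.Opens) (x - (show Γ(Coh.structureModule X, (U : X.Opens)) from c₁))) =
          (ClSub.toSubscheme I₁).app (U : X.Opens) x := by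
        have e : biprod.lift (ClSub.toSubscheme I₁) (ClSub.toSubscheme I₂) ≫ biprod.fst =
          ClSub.toSubscheme I₁ := biprod.lift_fst _ _
        change (biprod.lift (ClSub.toSubscheme I₁) (ClSub.toSubscheme I₂) ≫ biprod.fst).app
          (U : X.Opens) _ = _
        rw [e, map_sub, k1, sub_zero]
      have f2 : (biprod.snd : ClSub.quotMod I₁ ⊞ ClSub.quotMod I₂ ⟶ _).app (U : X.Opens)
          (S.f.app (U : X.Opens) (x - (show Γ(Coh.structureModule X, (U : X.Opens)) from c₁))) =
          (ClSub.toSubscheme I₂).app (U : X.Opens) y := by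
        have e : biprod.lift (ClSub.toSubscheme I₁) (ClSub.toSubscheme I₂) ≫ biprod.snd =
          ClSub.toSubscheme I₂ := biprod.lift_snd _ _
        change (biprod.lift (ClSub.toSubscheme I₁) (ClSub.toSubscheme I₂) ≫ biprod.snd).app
          (U : X.Opens) _ = _
        rw [e]
        have hxy : x - (show Γ(Coh.structureModule X, (U : X.Opens)) from c₁) =
            y + (show Γ(Coh.structureModule X, (U : X.Opens)) from c₂) := by
          have : (show Γ(X, (U : X.Opens)) from x - y) = c₁ + c₂ := hc.symm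
          have h' : x - y = (show Γ(Coh.structureModule X, (U : X.Opens)) from c₁) +
            (show Γ(Coh.structureModule X, (U : X.Opens)) from c₂) := this
          rw [sub_eq_iff_eq_add] at h' ⊢
          rw [h']
          abel
        rw [hxy, map_add, k2, add_zero]
      show (biprod.inl : ClSub.quotMod I₁ ⟶ ClSub.quotMod I₁ ⊞ ClSub.quotMod I₂).app (U : X.Opens)
          ((biprod.fst : ClSub.quotMod I₁ ⊞ ClSub.quotMod I₂ ⟶ _).app (U : X.Opens) _) +
        (biprod.inr : ClSub.quotMod I₂ ⟶ ClSub.quotMod I₁ ⊞ ClSub.quotMod I₂).app (U : X.Opens)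
          ((biprod.snd : ClSub.quotMod I₁ ⊞ ClSub.quotMod I₂ ⟶ _).app (U : X.Opens) _) = _
      rw [f1, f2]
    haveI := hmono
    exact ⟨hex.fIsKernel⟩

end Groth.Agent.S19606
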