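import Groth.Statements.S15747
import Groth.Agent.Lib.Cohomology.Helper1_KernelSections
import Groth.Agent.S19606

set_option autoImplicit false
set_option linter.style.haveILetI false
universe u
open CategoryTheory CategoryTheory.Limits AlgebraicGeometry Opposite
open UnitsSh
open TopologicalSpace

namespace Groth.Agent.S15747
open Groth.Agent.Lib.QCoh

variable {X : Scheme.{u}} (J : X.IdealSheafData)

theorem toSub_ι (U : X.Opens) (f : Γ(ClSub.idealMod J, U)) :
    (ClSub.toSubscheme J).app U ((ClSub.idealModι J).app U f) = 0 := by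
  have : ClSub.idealModι J ≫ ClSub.toSubscheme J = 0 := kernel.condition _
  exact congrArg (fun φ => Scheme.Modules.Hom.app φ U f) this

theorem ι_mem (V : X.affineOpens) (f : Γ(ClSub.idealMod J, (V : X.Opens))) :
    (show Γ(X, (V : X.Opens)) from (ClSub.idealModι J).app V f) ∈ J.ideal V :=
  Groth.Agent.S19606.mem_ideal_of_toSub_eq_zero J V _ (toSub_ι J V f)

theorem ι_mul_ι (hJ : J * J = ⊥) (U : X.Opens) (f g : Γ(ClSub.idealMod J, U)) :
    (show Γ(X, U) from (ClSub.idealModι J).app U f) *
      (show Γ(X, U) from (ClSub.idealModι J).app U g) = 0 := by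
  refine TopCat.Presheaf.section_ext X.sheaf U _ _ ?_
  intro x hx
  obtain ⟨V, hV, hxV, hVU⟩ := Opens.isBasis_iff_nbhd.1 X.isBasis_affineOpens hx
  have e1 : X.presheaf.map (homOfLE hVU).op
      (show Γ(X, U) from (ClSub.idealModι J).app U f) =
      (show Γ(X, V) from (ClSub.idealModι J).app V
        ((ClSub.idealMod J).presheaf.map (homOfLE hVU).op f)) :=
    (app_naturality_apply (ClSub.idealModι J) (homOfLE hVU) f).symm
  have e2 : X.presheaf.map (homOfLE hVU).op
      (show Γ(X, U) from (ClSub.idealModι J).app U g) =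
      (show Γ(X, V) from (ClSub.idealModι J).app V
        ((ClSub.idealMod J).presheaf.map (homOfLE hVU).op g)) :=
    (app_naturality_apply (ClSub.idealModι J) (homOfLE hVU) g).symm
  have h0 : X.presheaf.map (homOfLE hVU).op
      ((show Γ(X, U) from (ClSub.idealModι J).app U f) *
      (show Γ(X, U) from (ClSub.idealModι J).app U g)) = 0 := by
    rw [map_mul, e1, e2]
    have hm : (show Γ(X, V) from (ClSub.idealModι J).app V
        ((ClSub.idealMod J).presheaf.map (homOfLE hVU).op f)) *
        (show Γ(X, V) from (ClSub.idealModι J).app V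
        ((ClSub.idealMod J).presheaf.map (homOfLE hVU).op g)) ∈ (J * J).ideal ⟨V, hV⟩ := by
      rw [Scheme.IdealSheafData.ideal_mul]
      exact Ideal.mul_mem_mul (ι_mem J ⟨V, hV⟩ _) (ι_mem J ⟨V, hV⟩ _)
    rw [hJ, Scheme.IdealSheafData.ideal_bot] at hm
    exact hm
  have h1 := congrArg (X.presheaf.germ V x hxV) h0
  rw [TopCat.Presheaf.germ_res_apply, map_zero] at h1
  exact h1.trans (map_zero _).symm

theorem one_add_mul_one_sub {R : Type*} [CommRing R] (a : R) (ha : a * a = 0) :
    (1 + a) * (1 - a) = 1 := by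
  have : (1 + a) * (1 - a) = 1 - a * a := by ring
  rw [this, ha, sub_zero]

/-- the unit `1 + ι f` -/
noncomputable def onePlus (hJ : J * J = ⊥) (U : X.Opens) (f : Γ(ClSub.idealMod J, U)) :
    (Γ(X, U))ˣ where
  val := 1 + (show Γ(X, U) from (ClSub.idealModι J).app U f)
  inv := 1 - (show Γ(X, U) from (ClSub.idealModι J).app U f)
  val_inv := one_add_mul_one_sub _ (ι_mul_ι J hJ U f f)
  inv_val := by
    rw [mul_comm]
    exact one_add_mul_one_sub _ (ι_mul_ι J hJ U f f)

theorem onePlus_val (hJ : J * J = ⊥) (U : X.Opens) (f : Γ(ClSub.idealMod J, U)) :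
    (onePlus J hJ U f).val = 1 + (show Γ(X, U) from (ClSub.idealModι J).app U f) := rfl

theorem onePlus_add (hJ : J * J = ⊥) (U : X.Opens) (f g : Γ(ClSub.idealMod J, U)) :
    onePlus J hJ U (f + g) = onePlus J hJ U f * onePlus J hJ U g := by
  apply Units.ext
  rw [Units.val_mul, onePlus_val, onePlus_val, onePlus_val, map_add]
  have h := ι_mul_ι J hJ U f g
  have : ∀ a b : Γ(X, U), a * b = 0 → 1 + (a + b) = (1 + a) * (1 + b) := fun a b hab => by
    have : (1 + a) * (1 + b) = 1 + (a + b) + a * b := by ring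
    rw [this, hab, add_zero]
  exact this _ _ h

theorem onePlus_zero (hJ : J * J = ⊥) (U : X.Opens) : onePlus J hJ U 0 = 1 := by
  apply Units.ext
  rw [onePlus_val, map_zero]
  exact add_zero _

theorem onePlus_map (hJ : J * J = ⊥) {U V : X.Opens} (i : V ⟶ U) (f : Γ(ClSub.idealMod J, U)) :
    onePlus J hJ V ((ClSub.idealMod J).presheaf.map i.op f) =
      Units.map (X.presheaf.map i.op).hom.toMonoidHom (onePlus J hJ U f) := by
  apply Units.ext
  rw [Units.coe_map, onePlus_val, onePlus_val]
  change _ = (X.presheaf.map i.op).hom (1 + _)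
  rw [map_add, map_one]
  congr 1
  exact app_naturality_apply (ClSub.idealModι J) i f

/-- the map `J ⟶ O_X^×`, `f ↦ 1 + f` -/
noncomputable def phi (hJ : J * J = ⊥) : Coh.toAb (ClSub.idealMod J) ⟶ UnitsSh.unitsAb X :=
  ⟨{ app := fun U => AddCommGrpCat.ofHom
      { toFun := fun f => UnitsSh.sectOfUnit (O := X.presheaf) (U := U) (onePlus J hJ U.unop f)
        map_zero' :=
          (congrArg (UnitsSh.sectOfUnit (O := X.presheaf) (U := U))
            (onePlus_zero J hJ U.unop)).trans rfl
        map_add' := fun f g =>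
          (congrArg (UnitsSh.sectOfUnit (O := X.presheaf) (U := U))
            (onePlus_add J hJ U.unop f g)).trans rfl }
     naturality := fun U V i => by
        ext f
        change UnitsSh.sectOfUnit (O := X.presheaf) (U := V) (onePlus J hJ V.unop
          ((ClSub.idealMod J).presheaf.map i f)) = _
        have := onePlus_map J hJ i.unop f
        change UnitsSh.sectOfUnit (O := X.presheaf) (U := V) (onePlus J hJ V.unop
          ((ClSub.idealMod J).presheaf.map i.unop.op f)) = _
        rw [this]
        rfl }⟩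

section sheafLemmas

variable {Y : TopCat.{u}}

theorem mono_of_sections_injective {F G : CohTop.Ab Y} (f : F ⟶ G)
    (h : ∀ W : Opens Y, Function.Injective (f.hom.app (op W))) : Mono f := by
  refine (Sheaf.Hom.mono_iff_presheaf_mono _ _ f).2 ?_
  refine (NatTrans.mono_iff_mono_app f.hom).2 (fun W => ?_)
  exact (AddCommGrpCat.mono_iff_injective _).2 (h W.unop)

theorem sections_injective_of_mono {F G : CohTop.Ab Y} (f : F ⟶ G) [Mono f] (U : Opens Y) :
    Function.Injective (f.hom.app (op U)) := by
  have h1 : Mono f.hom := (Sheaf.Hom.mono_iff_presheaf_mono _ _ f).1 inferInstance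
  have h2 : Mono (f.hom.app (op U)) := (NatTrans.mono_iff_mono_app f.hom).1 h1 (op U)
  exact (AddCommGrpCat.mono_iff_injective _).1 h2

theorem epi_of_locally_surjective {F G : CohTop.Ab Y} (g : F ⟶ G)
    (h : ∀ (V : Opens Y) (t : G.obj.obj (op V)) (x : Y), x ∈ V →
      ∃ (W : Opens Y) (hWV : W ≤ V), x ∈ W ∧
        ∃ s : F.obj.obj (op W), g.hom.app (op W) s = G.obj.map (homOfLE hWV).op t) : Epi g := by
  refine (TopCat.Sheaf.isLocallySurjective_iff_epi (X := Y) (C := AddCommGrpCat.{u}) g).1 ?_
  rw [TopCat.Presheaf.isLocallySurjective_iff]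
  intro V t x hx
  obtain ⟨W, hWV, hxW, s, hs⟩ := h V t x hx
  refine ⟨W, hWV, ⟨s, ?_⟩, hxW⟩
  refine hs.trans ?_
  simp [TopCat.Presheaf.restrictOpen, TopCat.Presheaf.restrict]

theorem shortExact_of_sections' (S : ShortComplex (CohTop.Ab Y))
    (h1 : ∀ W : Opens Y, Function.Injective (S.f.hom.app (op W)))
    (h2 : ∀ (W : Opens Y) (x : S.X₂.obj.obj (op W)), S.g.hom.app (op W) x = 0 →
      ∃ y, S.f.hom.app (op W) y = x)
    (h3 : ∀ (V : Opens Y) (t : S.X₃.obj.obj (op V)) (x : Y), x ∈ V →
      ∃ (W : Opens Y) (hWV : W ≤ V), x ∈ W ∧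
        ∃ s : S.X₂.obj.obj (op W), S.g.hom.app (op W) s = S.X₃.obj.map (homOfLE hWV).op t) :
    S.ShortExact := by
  have := mono_of_sections_injective S.f h1
  have := epi_of_locally_surjective S.g h3
  refine { exact := ?_ }
  rw [ShortComplex.exact_iff_epi_kernel_lift]
  refine epi_of_locally_surjective _ (fun W t x hx => ⟨W, le_rfl, hx, ?_⟩)
  have hι : Function.Injective ((kernel.ι S.g).hom.app (op W)) :=
    sections_injective_of_mono (kernel.ι S.g) W
  have hz : S.g.hom.app (op W) ((kernel.ι S.g).hom.app (op W) t) = 0 := by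
    have : kernel.ι S.g ≫ S.g = 0 := kernel.condition _
    have h' := congrArg (fun φ => φ.hom.app (op W) t) this
    exact h'
  obtain ⟨y, hy⟩ := h2 W _ hz
  refine ⟨y, hι ?_⟩
  have e0 : (kernel S.g).obj.map (homOfLE (le_refl W)).op t = t := by
    have : (homOfLE (le_refl W)).op = 𝟙 (op W) := rfl
    rw [this, (kernel S.g).obj.map_id]
    rfl
  rw [e0, ← hy]
  have : kernel.lift S.g S.f S.zero ≫ kernel.ι S.g = S.f := kernel.lift_ι _ _ _
  exact congrArg (fun φ => φ.hom.app (op W) y) this

end sheafLemmas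

instance mono_idealModι : Mono (ClSub.idealModι J) :=
  (inferInstance : Mono (kernel.ι (ClSub.toSubscheme J)))

theorem ι_injective (U : X.Opens) : Function.Injective ((ClSub.idealModι J).app U) :=
  app_injective_of_mono _ U

/-- the image of `1 + ι f` in `O_{X₀}` is `1` -/
theorem comap_onePlus (hJ : J * J = ⊥) (U : X.Opens) (f : Γ(ClSub.idealMod J, U)) :
    Units.map (J.subschemeι.app U).hom.toMonoidHom (onePlus J hJ U f) = 1 := by
  apply Units.ext
  rw [Units.coe_map, onePlus_val]
  change (J.subschemeι.app U).hom (1 + _) = 1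
  rw [map_add, map_one]
  have := toSub_ι J U f
  have h' : (J.subschemeι.app U).hom (show Γ(X, U) from (ClSub.idealModι J).app U f) = 0 := this
  rw [h', add_zero]

/-- a section of `O_X^×` over any open mapping to `1` in `O_{X₀}^×` is `1 + ι f` -/
theorem exists_onePlus (hJ : J * J = ⊥) (U : X.Opens) (v : (Γ(X, U))ˣ)
    (hv : Units.map (J.subschemeι.app U).hom.toMonoidHom v = 1) :
    ∃ f : Γ(ClSub.idealMod J, U), onePlus J hJ U f = v := by
  have h1 : (J.subschemeι.app U).hom (v.val - 1) = 0 := by
    rw [map_sub, map_one, sub_eq_zero]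
    exact congrArg Units.val hv
  let x : Γ(X, U) := v.val - 1
  have h2 : (ClSub.toSubscheme J).app U
      (show Γ(Coh.structureModule X, U) from x) = 0 := h1
  obtain ⟨f, hf⟩ := Groth.Agent.Lib.Cohomology.exists_kernel_section (ClSub.toSubscheme J) U _ h2
  refine ⟨f, ?_⟩
  apply Units.ext
  rw [onePlus_val]
  have hf' : (show Γ(X, U) from (ClSub.idealModι J).app U f) = v.val - 1 := hf
  rw [hf']
  ring

/-- units lift along `O_X(W) → O_{X₀}(W)` for affine `W` -/
theorem exists_unit_lift (hJ : J * J = ⊥) (W : X.affineOpens)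
    (t : (Γ(J.subscheme, J.subschemeι ⁻¹ᵁ (W : X.Opens)))ˣ) :
    ∃ v : (Γ(X, (W : X.Opens)))ˣ, Units.map (J.subschemeι.app W).hom.toMonoidHom v = t := by
  obtain ⟨a, ha⟩ := J.subschemeι_app_surjective W t.val
  obtain ⟨b, hb⟩ := J.subschemeι_app_surjective W t.inv
  have ha' : (J.subschemeι.app W).hom a = t.val := ha
  have hb' : (J.subschemeι.app W).hom b = t.inv := hb
  have he : a * b - 1 ∈ J.ideal W := by
    rw [← J.ker_subschemeι_app W, RingHom.mem_ker, map_sub, map_mul, map_one, ha', hb']
    rw [sub_eq_zero]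
    exact t.val_inv
  have he2 : (a * b - 1) * (a * b - 1) = 0 := by
    have hm : (a * b - 1) * (a * b - 1) ∈ (J * J).ideal W := by
      rw [Scheme.IdealSheafData.ideal_mul]
      exact Ideal.mul_mem_mul he he
    rw [hJ, Scheme.IdealSheafData.ideal_bot] at hm
    exact hm
  -- a * (b * (1 - (ab - 1))) = 1
  have hu : a * (b * (1 - (a * b - 1))) = 1 := by
    have : a * (b * (1 - (a * b - 1))) = 1 - (a * b - 1) * (a * b - 1) := by ring
    rw [this, he2, sub_zero]
  refine ⟨⟨a, b * (1 - (a * b - 1)), hu, by rw [mul_comm]; exact hu⟩, ?_⟩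
  apply Units.ext
  rw [Units.coe_map]
  exact ha'

/-- Let `X` be a scheme, `J` a quasi-coherent ideal of `O_X` with `J² = 0`, `X₀` the closed subscheme it
cuts out and `i : X₀ ⟶ X` the inclusion. Then there is a morphism of abelian sheaves `J ⟶ O_X^×` on
the underlying space of `X` sending every local section `f` of `J` to the unit `1 + f` (which
determines it), and the sequence `0 ⟶ J ⟶ O_X^× ⟶ i_* O_{X₀}^× ⟶ 0`, whose second map is the units
map of `i`, is a short exact sequence of abelian sheaves. (The published lemma assumes moreover that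
`X` is quasi-compact and separated and that the restriction of global functions `O_X(X) →
O_{X₀}(X₀)` is surjective, and concludes about Picard groups; the exactness of this sequence of
sheaves, proved there stalk by stalk, uses none of these assumptions.) -/
theorem result (X : Scheme.{u}) (J : X.IdealSheafData)
    (hJ : J * J = ⊥) :
    ∃ φ : Coh.toAb (ClSub.idealMod J) ⟶ UnitsSh.unitsAb X,
      (∀ (U : X.Opens) (f : (ClSub.idealMod J).val.obj (op U)),
        (UnitsSh.unitOfSect (φ.hom.app (op U) f)).val =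
          1 + (show X.sheaf.obj.obj (op U) from (ClSub.idealModι J).val.app (op U) f)) ∧
      ∃ w : φ ≫ UnitsSh.comap J.subschemeι = 0,
        (ShortComplex.mk φ (UnitsSh.comap J.subschemeι) w).ShortExact := by
  refine ⟨phi J hJ, fun U f => rfl, ?w, ?_⟩
  case w =>
    apply Sheaf.hom_ext
    ext U s
    exact (congrArg (UnitsSh.sectOfUnit (X := X.toTopCat)
      (O := (J.subschemeι.base _* J.subscheme.presheaf)) (U := U))
      (comap_onePlus J hJ U.unop s)).trans rfl
  apply shortExact_of_sections'
  · intro W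
    refine (injective_iff_map_eq_zero _).2 (fun f hf => ?_)
    have h1 : onePlus J hJ W f = 1 := congrArg UnitsSh.unitOfSect hf
    have h2 := congrArg Units.val h1
    rw [onePlus_val, Units.val_one] at h2
    have h3 : (show Γ(X, W) from (ClSub.idealModι J).app W f) = 0 := by
      have := add_left_cancel (a := (1 : Γ(X, W))) (h2.trans (add_zero 1).symm)
      exact this
    exact ι_injective J W (h3.trans (map_zero _).symm)
  · intro W s hs
    have h1 : Units.map (J.subschemeι.app W).hom.toMonoidHom (UnitsSh.unitOfSect s) = 1 :=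
      congrArg (UnitsSh.unitOfSect (X := X.toTopCat)
        (O := (J.subschemeι.base _* J.subscheme.presheaf)) (U := op W)) hs
    obtain ⟨f, hf⟩ := exists_onePlus J hJ W _ h1
    exact ⟨f, congrArg (UnitsSh.sectOfUnit (O := X.presheaf) (U := op W)) hf⟩
  · intro V t x hx
    obtain ⟨W, hW, hxW, hWV⟩ := Opens.isBasis_iff_nbhd.1 X.isBasis_affineOpens hx
    refine ⟨W, hWV, hxW, ?_⟩
    obtain ⟨v, hv⟩ := exists_unit_lift J hJ ⟨W, hW⟩
      (UnitsSh.unitOfSect (X := X.toTopCat)
        (O := (J.subschemeι.base _* J.subscheme.presheaf)) (U := op W)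
        (((CohTop.push J.subschemeι.base).obj (UnitsSh.unitsAb J.subscheme)).obj.map
          (homOfLE hWV).op t))
    refine ⟨UnitsSh.sectOfUnit (O := X.presheaf) (U := op W) v, ?_⟩
    exact congrArg (UnitsSh.sectOfUnit (X := X.toTopCat)
      (O := (J.subschemeι.base _* J.subscheme.presheaf)) (U := op W)) hv

end Groth.Agent.S15747
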