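import Groth.Statements.S15749
import Mathlib

set_option autoImplicit false
universe u
open CAlg


namespace Groth.Agent.S15749

open HahnSeries

theorem coeff_mul_mem {R : Type*} [CommRing R] (I J : Ideal R) (x y : R⟦ℤ⟧)
    (hx : ∀ n, x.coeff n ∈ I) (hy : ∀ n, y.coeff n ∈ J) (n : ℤ) :
    (x * y).coeff n ∈ I * J := by
  rw [HahnSeries.coeff_mul]
  exact Ideal.sum_mem _ fun ij _ => Ideal.mul_mem_mul (hx _) (hy _)

theorem coeff_pow_mem {R : Type*} [CommRing R] (I : Ideal R) (x : R⟦ℤ⟧)
    (hx : ∀ n, x.coeff n ∈ I) (m : ℕ) : ∀ n, (x ^ m).coeff n ∈ I ^ m := by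
  induction m with
  | zero => intro n; simp
  | succ m ih =>
    intro n
    rw [pow_succ, pow_succ]
    exact coeff_mul_mem _ _ _ _ ih hx n

theorem eq_zero_of_nilpotent_coeff {R : Type*} [CommRing R] (e : R⟦ℤ⟧)
    (he : IsIdempotentElem e) (hn : ∀ n, IsNilpotent (e.coeff n)) : e = 0 := by
  classical
  have hfin : {n : ℤ | n ∈ e.support ∧ n ≤ 0}.Finite := by
    by_cases h0 : e = 0
    · subst h0; simp
    · refine (Set.finite_Icc e.order 0).subset ?_
      rintro n ⟨hn1, hn2⟩
      exact ⟨HahnSeries.order_le_of_coeff_ne_zero hn1, hn2⟩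
  let I : Ideal R := Ideal.span (e.coeff '' {n : ℤ | n ∈ e.support ∧ n ≤ 0})
  have hIfg : I.FG := ⟨(hfin.image e.coeff).toFinset, by simp [I]⟩
  have hInil : IsNilpotent I := by
    rw [Ideal.FG.isNilpotent_iff_le_nilradical hIfg, Ideal.span_le]
    rintro _ ⟨n, -, rfl⟩
    exact (mem_nilradical).2 (hn n)
  obtain ⟨m, hm⟩ := hInil
  have hle : ∀ k : ℤ, k ≤ 0 → e.coeff k ∈ I := by
    intro k hk
    by_cases hk0 : e.coeff k = 0
    · rw [hk0]; exact I.zero_mem
    · exact Ideal.subset_span ⟨k, ⟨hk0, hk⟩, rfl⟩
  have h1 : ∀ j : ℕ, ∀ k : ℤ, k.toNat = j → e.coeff k ∈ I := by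
    intro j
    induction j using Nat.strong_induction_on with
    | _ j ih =>
      intro k hk
      by_cases hk0 : k ≤ 0
      · exact hle k hk0
      · rw [← he.eq, HahnSeries.coeff_mul]
        refine Ideal.sum_mem _ fun ij hij => ?_
        rw [Finset.mem_antidiagonal] at hij
        by_cases h1 : ij.1 ≤ 0
        · exact I.mul_mem_right _ (hle _ h1)
        by_cases h2 : ij.2 ≤ 0
        · exact I.mul_mem_left _ (hle _ h2)
        · exact I.mul_mem_right _ (ih ij.1.toNat (by omega) ij.1 rfl)
  have h2 : ∀ k, e.coeff k ∈ I ^ (m + 1) := by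
    intro k
    have := coeff_pow_mem I e (fun k => h1 _ k rfl) (m + 1) k
    rwa [he.pow_succ_eq] at this
  ext k
  have := h2 k
  rw [pow_succ, hm, zero_mul] at this
  simpa using this

end Groth.Agent.S15749

namespace Groth.Agent.S15749

/-- For an arbitrary commutative ring R, every idempotent of the ring of formal Laurent series R((t)) is
the constant series attached to a unique idempotent of R. Equivalently, the structure map R → R((t))
induces a bijection on idempotents, so that the spectrum of R((t)) is connected if and only if the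
spectrum of R is. No reducedness is assumed. -/
theorem result (R : Type u) [CommRing R]
    (e : LaurentSeries R) (he : IsIdempotentElem e) :
    ∃! r : R, IsIdempotentElem r ∧ HahnSeries.C r = e := by
  classical
  have hp : ∀ p : Ideal R, p.IsPrime →
      (∀ n, n ≠ 0 → e.coeff n ∈ p) ∧ (e.coeff 0 ∈ p ∨ e.coeff 0 - 1 ∈ p) := by
    intro p hp
    let φ : R →ₙ+* R ⧸ p := ((Ideal.Quotient.mk p : R →+* R ⧸ p) : R →ₙ+* R ⧸ p)
    have hφ : ∀ x, φ x = Ideal.Quotient.mk p x := fun x => rfl
    have hidem : IsIdempotentElem (e.map φ : HahnSeries ℤ (R ⧸ p)) := by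
      unfold IsIdempotentElem
      rw [← HahnSeries.map_mul φ, he.eq]
    rcases (IsIdempotentElem.iff_eq_zero_or_one).1 hidem with h0 | h1
    · have : ∀ n, e.coeff n ∈ p := by
        intro n
        have := congrArg (fun x => x.coeff n) h0
        simp only [HahnSeries.map_coeff, HahnSeries.coeff_zero, hφ] at this
        exact Ideal.Quotient.eq_zero_iff_mem.1 this
      exact ⟨fun n _ => this n, Or.inl (this 0)⟩
    · have h : ∀ n, φ (e.coeff n) = if n = 0 then 1 else 0 := by
        intro n
        have := congrArg (fun x => x.coeff n) h1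
        simp only [HahnSeries.map_coeff, HahnSeries.coeff_one] at this
        rw [this]
        split_ifs <;> rfl
      refine ⟨fun n hn => ?_, Or.inr ?_⟩
      · have := h n
        rw [if_neg hn, hφ] at this
        exact Ideal.Quotient.eq_zero_iff_mem.1 this
      · have := h 0
        rw [if_pos rfl, hφ] at this
        rw [← Ideal.Quotient.eq_zero_iff_mem, map_sub, this, map_one, sub_self]
  have hnil : ∀ n, n ≠ 0 → e.coeff n ∈ nilradical R := by
    intro n hn
    rw [mem_nilradical, nilpotent_iff_mem_prime]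
    exact fun p hpp => (hp p hpp).1 n hn
  have hnil0 : e.coeff 0 * (e.coeff 0 - 1) ∈ nilradical R := by
    rw [mem_nilradical, nilpotent_iff_mem_prime]
    intro p hpp
    rcases (hp p hpp).2 with h | h
    · exact p.mul_mem_right _ h
    · exact p.mul_mem_left _ h
  -- lift the idempotent
  obtain ⟨r, hr, hr0⟩ : ∃ r : R, IsIdempotentElem r ∧ r - e.coeff 0 ∈ nilradical R := by
    have hker : ∀ x ∈ RingHom.ker (Ideal.Quotient.mk (nilradical R)), IsNilpotent x := by
      intro x hx
      rwa [Ideal.mk_ker, mem_nilradical] at hx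
    have hidem : IsIdempotentElem (Ideal.Quotient.mk (nilradical R) (e.coeff 0)) := by
      unfold IsIdempotentElem
      rw [← map_mul, ← sub_eq_zero, ← map_sub, Ideal.Quotient.eq_zero_iff_mem]
      have : e.coeff 0 * e.coeff 0 - e.coeff 0 = e.coeff 0 * (e.coeff 0 - 1) := by ring
      rw [this]; exact hnil0
    obtain ⟨r, hr, hre⟩ := exists_isIdempotentElem_eq_of_ker_isNilpotent _ hker _
      ⟨e.coeff 0, rfl⟩ hidem
    refine ⟨r, hr, ?_⟩
    rw [← Ideal.Quotient.eq_zero_iff_mem, map_sub, hre, sub_self]
  have hrr : r * r = r := hr.eq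
  have hCr : IsIdempotentElem (HahnSeries.C r : LaurentSeries R) := hr.map HahnSeries.C
  have hCcoeff : ∀ n : ℤ, (HahnSeries.C r : LaurentSeries R).coeff n = if n = 0 then r else 0 := by
    intro n
    rw [HahnSeries.C_apply, HahnSeries.coeff_single]
    split_ifs <;> rfl
  have hsm : e * HahnSeries.C r = r • e := by
    rw [mul_comm, HahnSeries.C_mul_eq_smul]
  have e1 : e * (1 - HahnSeries.C r) = 0 := by
    apply Groth.Agent.S15749.eq_zero_of_nilpotent_coeff _ (he.mul hCr.one_sub)
    intro n
    rw [mul_sub, mul_one, hsm, HahnSeries.coeff_sub, HahnSeries.coeff_smul, smul_eq_mul,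
      ← mem_nilradical]
    by_cases hn : n = 0
    · subst hn
      have : e.coeff 0 - r * e.coeff 0 = -((1 - r) * (r - e.coeff 0)) := by
        linear_combination (-1 : R) * hrr
      rw [this]
      exact (nilradical R).neg_mem ((nilradical R).mul_mem_left _ hr0)
    · have : e.coeff n - r * e.coeff n = (1 - r) * e.coeff n := by ring
      rw [this]
      exact (nilradical R).mul_mem_left _ (hnil n hn)
  have e2 : (1 - e) * HahnSeries.C r = 0 := by
    apply Groth.Agent.S15749.eq_zero_of_nilpotent_coeff _ (he.one_sub.mul hCr)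
    intro n
    rw [sub_mul, one_mul, hsm, HahnSeries.coeff_sub, HahnSeries.coeff_smul, smul_eq_mul,
      ← mem_nilradical, hCcoeff]
    by_cases hn : n = 0
    · subst hn
      rw [if_pos rfl]
      have : r - r * e.coeff 0 = r * (r - e.coeff 0) := by
        linear_combination (-1 : R) * hrr
      rw [this]
      exact (nilradical R).mul_mem_left _ hr0
    · rw [if_neg hn, zero_sub]
      exact (nilradical R).neg_mem ((nilradical R).mul_mem_left _ (hnil n hn))
  have heq : HahnSeries.C r = e := by
    have h1 : e = e * HahnSeries.C r := by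
      have := e1
      rw [mul_sub, mul_one, sub_eq_zero] at this
      exact this
    have h2 : HahnSeries.C r = e * HahnSeries.C r := by
      have := e2
      rw [sub_mul, one_mul, sub_eq_zero] at this
      exact this
    rw [h2, ← h1]
  refine ⟨r, ⟨hr, heq⟩, ?_⟩
  rintro r' ⟨-, hr'⟩
  exact HahnSeries.C_injective (hr'.trans heq.symm)

end Groth.Agent.S15749
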