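import Groth.Statements.S15750
import Mathlib

set_option autoImplicit false
universe u
open CAlg


namespace Groth.Agent.S15750

open HahnSeries

theorem coeff_single_mul_of {R : Type*} [CommRing R] (n : ℤ) (u : PowerSeries R) (k : ℤ) :
    (HahnSeries.single n (1 : R) * HahnSeries.ofPowerSeries ℤ R u).coeff k =
      if k < n then 0 else PowerSeries.coeff (k - n).toNat u := by
  obtain ⟨j, rfl⟩ : ∃ j, k = j + n := ⟨k - n, by ring⟩
  rw [HahnSeries.coeff_single_mul_add, one_mul, PowerSeries.coeff_coe]
  by_cases hj : j < 0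
  · rw [if_pos hj, if_pos (by omega)]
  · rw [if_neg hj, if_neg (by omega)]
    have h : j.natAbs = (j + n - n).toNat := by omega
    rw [h]

theorem prime_order {R : Type*} [CommRing R] (f g : R⟦ℤ⟧) (hfg : f * g = 1) (p : Ideal R)
    (hp : p.IsPrime) :
    ∃ n : ℤ, (∀ i < n, f.coeff i ∈ p) ∧ (∀ j < -n, g.coeff j ∈ p) ∧
      f.coeff n * g.coeff (-n) - 1 ∈ p := by
  classical
  let φ : R →ₙ+* R ⧸ p := ((Ideal.Quotient.mk p : R →+* R ⧸ p) : R →ₙ+* R ⧸ p)
  have hφ : ∀ x, φ x = Ideal.Quotient.mk p x := fun x => rfl
  set f' : (R ⧸ p)⟦ℤ⟧ := f.map φ with hf'def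
  set g' : (R ⧸ p)⟦ℤ⟧ := g.map φ with hg'def
  have h1 : f' * g' = 1 := by
    rw [hf'def, hg'def, ← HahnSeries.map_mul φ, hfg]
    ext k
    simp only [HahnSeries.map_coeff, HahnSeries.coeff_one]
    split_ifs <;> simp [hφ]
  have hf' : f' ≠ 0 := by
    intro h; rw [h, zero_mul] at h1; exact zero_ne_one h1
  have hg' : g' ≠ 0 := by
    intro h; rw [h, mul_zero] at h1; exact zero_ne_one h1
  have hord : f'.order + g'.order = 0 := by
    rw [← HahnSeries.order_mul hf' hg', h1, HahnSeries.order_one]
  have hg : g'.order = -f'.order := by linarith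
  refine ⟨f'.order, ?_, ?_, ?_⟩
  · intro i hi
    have := HahnSeries.coeff_eq_zero_of_lt_order hi
    rw [hf'def, HahnSeries.map_coeff, hφ] at this
    exact Ideal.Quotient.eq_zero_iff_mem.1 this
  · intro j hj
    rw [← hg] at hj
    have := HahnSeries.coeff_eq_zero_of_lt_order hj
    rw [hg'def, HahnSeries.map_coeff, hφ] at this
    exact Ideal.Quotient.eq_zero_iff_mem.1 this
  · have := HahnSeries.coeff_mul_order_add_order f' g'
    rw [hord, h1, HahnSeries.coeff_one, if_pos rfl, HahnSeries.leadingCoeff_eq,
      HahnSeries.leadingCoeff_eq, hg] at this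
    rw [← Ideal.Quotient.eq_zero_iff_mem, map_sub, map_mul, map_one, sub_eq_zero]
    rw [hf'def, hg'def, HahnSeries.map_coeff, HahnSeries.map_coeff, hφ, hφ] at this
    exact this.symm

end Groth.Agent.S15750

namespace Groth.Agent.S15750

/-- Let R be a nonzero reduced commutative ring with no idempotents other than 0 and 1. Then every unit
of the Laurent series ring R((t)) is t^n · u for a unique integer n and a unique unit u of the power
series ring R[[t]]. (The published statement is for an arbitrary torus T over a reduced ring R, with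
n replaced by a locally constant integer-valued function on Spec R, i.e. a point of the cocharacter
lattice; this row is the case where T is the multiplicative group and Spec R is connected, to which
the published proof reduces.) -/
theorem result (R : Type u) [CommRing R]
    [IsReduced R] [Nontrivial R] (hconn : ∀ e : R, IsIdempotentElem e → e = 0 ∨ e = 1)
    (f : (LaurentSeries R)ˣ) :
    ∃! p : ℤ × (PowerSeries R)ˣ,
      (f : LaurentSeries R) = HahnSeries.single p.1 (1 : R) * HahnSeries.ofPowerSeries ℤ R (p.2 : PowerSeries R) := by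
  classical
  obtain ⟨g, hfg⟩ : ∃ g : LaurentSeries R, (f : LaurentSeries R) * g = 1 := ⟨↑f⁻¹, f.mul_inv⟩
  generalize (f : LaurentSeries R) = F at hfg ⊢
  have key := fun (p : Ideal R) (hp : p.IsPrime) =>
    Groth.Agent.S15750.prime_order F g hfg p hp
  have hred : ∀ x : R, (∀ p : Ideal R, p.IsPrime → x ∈ p) → x = 0 := by
    intro x hx
    have : IsNilpotent x := nilpotent_iff_mem_prime.2 hx
    exact this.eq_zero
  obtain ⟨p0, hp0⟩ := Ideal.exists_maximal R
  have hp0' : p0.IsPrime := hp0.isPrime
  obtain ⟨n, hn1, hn2, hn3⟩ := key p0 hp0'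
  have hep : ∀ p : Ideal R, p.IsPrime →
      (F.coeff n * g.coeff (-n) ∈ p ∨ F.coeff n * g.coeff (-n) - 1 ∈ p) := by
    intro p hp
    obtain ⟨m, hm1, hm2, hm3⟩ := key p hp
    rcases lt_trichotomy n m with h | h | h
    · left; exact p.mul_mem_right _ (hm1 n h)
    · right; rw [h]; exact hm3
    · left; exact p.mul_mem_left _ (hm2 (-n) (by omega))
  have heidem : IsIdempotentElem (F.coeff n * g.coeff (-n)) := by
    unfold IsIdempotentElem
    rw [← sub_eq_zero]
    apply hred
    intro p hp
    have : F.coeff n * g.coeff (-n) * (F.coeff n * g.coeff (-n)) - F.coeff n * g.coeff (-n) =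
        F.coeff n * g.coeff (-n) * (F.coeff n * g.coeff (-n) - 1) := by ring
    rw [this]
    rcases hep p hp with h | h
    · exact p.mul_mem_right _ h
    · exact p.mul_mem_left _ h
  have he1 : F.coeff n * g.coeff (-n) = 1 := by
    rcases hconn _ heidem with h | h
    · exfalso
      rw [h, zero_sub] at hn3
      exact hp0'.ne_top ((Ideal.eq_top_iff_one _).2 (by simpa using p0.neg_mem hn3))
    · exact h
  have hlow : ∀ i < n, F.coeff i = 0 := by
    intro i hi
    apply hred
    intro p hp
    obtain ⟨m, hm1, hm2, hm3⟩ := key p hp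
    have hmn : m = n := by
      by_contra hne
      have : F.coeff n * g.coeff (-n) ∈ p := by
        rcases lt_or_gt_of_ne hne with h | h
        · exact p.mul_mem_left _ (hm2 (-n) (by omega))
        · exact p.mul_mem_right _ (hm1 n h)
      rw [he1] at this
      exact hp.ne_top ((Ideal.eq_top_iff_one _).2 this)
    exact hm1 i (hmn ▸ hi)
  let u0 : PowerSeries R := PowerSeries.mk fun k => F.coeff (n + k)
  have hu0c : ∀ k : ℕ, PowerSeries.coeff k u0 = F.coeff (n + k) := fun k =>
    PowerSeries.coeff_mk _ _
  have hu0 : IsUnit u0 := by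
    rw [PowerSeries.isUnit_iff_constantCoeff]
    have : PowerSeries.constantCoeff u0 = F.coeff n := by
      rw [← PowerSeries.coeff_zero_eq_constantCoeff_apply, hu0c]; simp
    rw [this]
    exact IsUnit.of_mul_eq_one _ he1
  have hFeq : F = HahnSeries.single n 1 * HahnSeries.ofPowerSeries ℤ R u0 := by
    ext k
    rw [Groth.Agent.S15750.coeff_single_mul_of]
    split_ifs with hk
    · exact hlow k hk
    · rw [hu0c]
      congr 1
      omega
  refine ⟨(n, hu0.unit), hFeq, ?_⟩
  rintro ⟨n', u'⟩ h'
  simp only at h'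
  have hcoef : ∀ k : ℤ, (if k < n then 0 else PowerSeries.coeff (k - n).toNat u0) =
      (if k < n' then 0 else PowerSeries.coeff (k - n').toNat (u' : PowerSeries R)) := by
    intro k
    rw [← Groth.Agent.S15750.coeff_single_mul_of, ← Groth.Agent.S15750.coeff_single_mul_of,
      ← hFeq, ← h']
  have hu'c : IsUnit (PowerSeries.coeff 0 (u' : PowerSeries R)) := by
    rw [PowerSeries.coeff_zero_eq_constantCoeff_apply]
    exact (PowerSeries.isUnit_iff_constantCoeff.1 u'.isUnit)
  have hu0c0 : IsUnit (PowerSeries.coeff 0 u0) := by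
    rw [PowerSeries.coeff_zero_eq_constantCoeff_apply]
    exact (PowerSeries.isUnit_iff_constantCoeff.1 hu0)
  have hn' : n' = n := by
    rcases lt_trichotomy n n' with h | h | h
    · exfalso
      have := hcoef n
      rw [if_neg (lt_irrefl _), if_pos h, sub_self, Int.toNat_zero] at this
      rw [this] at hu0c0
      exact not_isUnit_zero hu0c0
    · exact h.symm
    · exfalso
      have := hcoef n'
      rw [if_neg (lt_irrefl _), if_pos h, sub_self, Int.toNat_zero] at this
      rw [← this] at hu'c
      exact not_isUnit_zero hu'c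
  subst hn'
  refine Prod.ext rfl (Units.ext ?_)
  simp only [IsUnit.unit_spec]
  ext j
  have := hcoef (n' + j)
  rw [if_neg (by omega), if_neg (by omega)] at this
  have hj : (n' + (j : ℤ) - n').toNat = j := by omega
  rw [hj] at this
  exact this.symm

end Groth.Agent.S15750
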