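import Groth.Statements.S15765
import Mathlib
-- import your own Groth.Agent.* helpers here

set_option autoImplicit false
universe u
open CategoryTheory AlgebraicGeometry
open CAlg

namespace Groth.Agent.S15765

/-- Let B be a topological ring in which the units form an open subset, B₀ → B a ring map with dense
image and X a quasi-affine scheme over B₀. Then the image of any B-point Spec B → X over B₀ is
contained in an affine open of X. (The published statement allows X ind-quasi-affine, i.e. with all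
quasi-compact opens quasi-affine; since a B-point lands in a quasi-compact open, this row's
quasi-affine case carries the content.) -/
theorem result (B : Type u) [CommRing B] [TopologicalSpace B]
    [IsTopologicalRing B] (hB : IsOpen {b : B | IsUnit b})
    (B₀ : Type u) [CommRing B₀] (φ : B₀ →+* B) (hφ : DenseRange φ)
    (X : Scheme.{u}) [X.IsQuasiAffine] (p : X ⟶ Spec (CommRingCat.of B₀))
    (f : Spec (CommRingCat.of B) ⟶ X) (hf : f ≫ p = Spec.map (CommRingCat.ofHom φ)) :
    ∃ U : X.Opens, IsAffineOpen U ∧ Set.range f.base ⊆ (U : Set X) := by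
  classical
  let Γ := Γ(X, ⊤)
  let ψ : Γ →+* B := (f.appTop ≫ (Scheme.ΓSpecIso (CommRingCat.of B)).hom).hom
  let ρ : B₀ →+* Γ := ((Scheme.ΓSpecIso (CommRingCat.of B₀)).inv ≫ p.appTop).hom
  have hψρ : ∀ b, ψ (ρ b) = φ b := by
    intro b
    have h1 : (f ≫ p).appTop = (Spec.map (CommRingCat.ofHom φ)).appTop := by rw [hf]
    have h2 : (Scheme.ΓSpecIso (CommRingCat.of B₀)).inv ≫ p.appTop ≫ f.appTop ≫
        (Scheme.ΓSpecIso (CommRingCat.of B)).hom = CommRingCat.ofHom φ := by
      rw [← Category.assoc p.appTop, ← Scheme.Hom.comp_appTop, h1, Scheme.ΓSpecIso_naturality,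
        Iso.inv_hom_id_assoc]
    have := congrArg (fun g => g.hom b) h2
    simp only [CommRingCat.hom_comp, CommRingCat.hom_ofHom, RingHom.comp_apply] at this
    exact this
  let Z : Set (PrimeSpectrum Γ) := (Set.range X.toSpecΓ.base)ᶜ
  have hZc : IsClosed Z := (X.toSpecΓ.isOpenEmbedding.isOpen_range).isClosed_compl
  let I : Ideal Γ := PrimeSpectrum.vanishingIdeal Z
  have hD : ∀ a ∈ I, (PrimeSpectrum.basicOpen a : Set (PrimeSpectrum Γ)) ⊆ Set.range X.toSpecΓ.base := by
    intro a ha z hz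
    by_contra hzr
    exact hz ((PrimeSpectrum.mem_vanishingIdeal _ _).mp ha z hzr)
  have hpre : ∀ a : Γ, ∀ y : Spec (CommRingCat.of B), f.base y ∈ X.basicOpen a ↔ ψ a ∉ y.asIdeal := by
    intro a y
    have h1 : f.base y ∈ X.basicOpen a ↔ y ∈ f ⁻¹ᵁ X.basicOpen a := Iff.rfl
    rw [h1, Scheme.preimage_basicOpen_top, basicOpen_eq_of_affine']
    rfl
  have hmap : Ideal.map ψ I = ⊤ := by
    by_contra hne
    obtain ⟨m, hm, hIm⟩ := Ideal.exists_le_maximal _ hne
    let y : Spec (CommRingCat.of B) := ⟨m, hm.isPrime⟩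
    have hz : X.toSpecΓ.base (f.base y) ∉ Z := fun h => h ⟨_, rfl⟩
    have hz' : X.toSpecΓ.base (f.base y) ∉ PrimeSpectrum.zeroLocus (I : Set Γ) := by
      rw [PrimeSpectrum.zeroLocus_vanishingIdeal_eq_closure, hZc.closure_eq]; exact hz
    have hz'' : ¬ ((I : Set Γ) ⊆ (X.toSpecΓ.base (f.base y)).asIdeal) :=
      fun h => hz' ((PrimeSpectrum.mem_zeroLocus _ _).mpr h)
    rw [Set.not_subset] at hz''
    obtain ⟨r, hrI, hr⟩ := hz''
    have h1 : f.base y ∈ X.basicOpen r := by
      rw [← X.toSpecΓ_preimage_basicOpen r]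
      exact hr
    rw [hpre] at h1
    exact h1 (hIm (Ideal.mem_map_of_mem ψ hrI))
  have h1mem : (1 : B) ∈ Submodule.span B (ψ '' (I : Set Γ)) := by
    have : (1 : B) ∈ Ideal.map ψ I := by rw [hmap]; trivial
    exact this
  obtain ⟨n, b, g, hsum⟩ := Submodule.mem_span_set'.mp h1mem
  choose r hrI hr using fun i => (g i).2
  let F : (Fin n → B) → B := fun c => ∑ i, c i * ψ (r i)
  have hF : Continuous F := by
    refine continuous_finset_sum _ fun i _ => ?_
    exact (continuous_apply i).mul continuous_const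
  have hopen : IsOpen (F ⁻¹' {b : B | IsUnit b}) := hB.preimage hF
  have hne : (F ⁻¹' {b : B | IsUnit b}).Nonempty := by
    refine ⟨b, ?_⟩
    show IsUnit (∑ i, b i * ψ (r i))
    have : ∑ i, b i * ψ (r i) = 1 := by
      rw [← hsum]
      refine Finset.sum_congr rfl fun i _ => ?_
      rw [hr i, smul_eq_mul]
    rw [this]; exact isUnit_one
  have hdense : DenseRange (Pi.map (fun (_ : Fin n) => (φ : B₀ → B))) :=
    DenseRange.piMap fun _ => hφ
  obtain ⟨b0, hb0⟩ := hdense.exists_mem_open hopen hne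
  let a : Γ := ∑ i, ρ (b0 i) * r i
  have haI : a ∈ I := Ideal.sum_mem _ fun i _ => Ideal.mul_mem_left _ _ (hrI i)
  have hψa : IsUnit (ψ a) := by
    have : ψ a = F (Pi.map (fun (_ : Fin n) => (φ : B₀ → B)) b0) := by
      simp only [a, F, map_sum, map_mul, hψρ, Pi.map_apply]
    rw [this]; exact hb0
  refine ⟨X.basicOpen a, ?_, ?_⟩
  · have hsub := hD a haI
    rw [← X.toSpecΓ_preimage_basicOpen a]
    rw [← Scheme.Hom.isAffineOpen_iff_of_isOpenImmersion X.toSpecΓ]
    have heq : X.toSpecΓ ''ᵁ X.toSpecΓ ⁻¹ᵁ PrimeSpectrum.basicOpen a = PrimeSpectrum.basicOpen a :=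
      SetLike.coe_injective (Set.image_preimage_eq_of_subset hsub)
    rw [heq]
    exact IsAffineOpen.Spec_basicOpen a
  · rintro _ ⟨y, rfl⟩
    show f.base y ∈ X.basicOpen a
    rw [hpre]
    intro hmem
    exact y.isPrime.ne_top (Ideal.eq_top_of_isUnit_mem _ hmem hψa)

end Groth.Agent.S15765
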