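import Groth.Statements.S1707
-- import your own Groth.Agent.* helpers here
import Groth.Agent.Lib.QCoh.Helper18_Ass

set_option autoImplicit false
universe u
open CategoryTheory CategoryTheory.Limits AlgebraicGeometry TopologicalSpace
open SDiv
open Groth.Agent.Lib.QCoh Groth.Agent.Lib.Helper18

namespace Groth.Agent.S1707

/-- Let X be a scheme, F a quasi-coherent module and x a point of the support of F such that no other
point of the support specializes to x. Then x is weakly associated to F. -/
theorem result (X : Scheme.{u}) (F : X.Modules) (hF : Coh.IsQCoh F) (x : ↥X)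
    (hx : x ∈ CohB1.support F) (hmax : ∀ y : ↥X, y ∈ CohB1.support F → y ⤳ x → y = x) : Curv2.IsWeakAssPoint F x := by
  have : F.IsQuasicoherent := hF
  obtain ⟨U, hU0, hxU, -⟩ := Opens.isBasis_iff_nbhd.1 (X.isBasis_affineOpens)
    (show x ∈ (⊤ : X.Opens) from trivial)
  have hU : IsAffineOpen U := hU0
  clear hU0
  rw [isWeakAssPoint_iff_of_isAffineOpen F hU x hxU]
  have hp := (mem_support_iff_primeIdealOf_mem_support F hU x hxU).2 hx
  obtain ⟨m, hm⟩ := Module.mem_support_iff'.1 hp
  refine ⟨m, ⟨⟨inferInstance, ?_⟩, ?_⟩⟩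
  · intro r hr
    by_contra hrp
    exact hm r hrp (WeakAss.mem_ann.1 hr)
  · rintro q ⟨hq, hle⟩ hqp
    set Q : PrimeSpectrum Γ(X, U) := ⟨q, hq⟩ with hQ
    have hyU := fromSpec_mem hU Q
    have hy : hU.fromSpec Q ∈ CohB1.support F := by
      rw [← mem_support_iff_primeIdealOf_mem_support F hU _ hyU, primeIdealOf_fromSpec,
        Module.mem_support_iff']
      exact ⟨m, fun r hr h0 => hr (hle (WeakAss.mem_ann.2 h0))⟩
    have hspec : hU.fromSpec Q ⤳ x := by
      have := fromSpec_specializes hU (q := Q) (p := hU.primeIdealOf ⟨x, hxU⟩) hqp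
      rwa [hU.fromSpec_primeIdealOf] at this
    have hyx := hmax _ hy hspec
    have e : hU.primeIdealOf ⟨x, hxU⟩ = Q := by
      apply hU.fromSpec.isOpenEmbedding.injective
      rw [hU.fromSpec_primeIdealOf]
      exact hyx.symm
    rw [e]

end Groth.Agent.S1707
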