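import Groth.Statements.S15770
import Mathlib

set_option autoImplicit false
universe u
open CAlg

namespace Groth.Agent.S15770

/-- Let B be a topological ring with Bˣ ⊂ B open and M, M' finitely generated projective B-modules, and
endow Hom_B(M, M') with the module topology (the canonical topology of a finite module). Then the
set of surjective B-linear maps M → M' is open. -/
theorem result (B : Type u) [CommRing B] [TopologicalSpace B]
    [IsTopologicalRing B] (hB : IsOpen {b : B | IsUnit b})
    (M M' : Type u) [AddCommGroup M] [Module B M] [Module.Finite B M] [Module.Projective B M]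
    [AddCommGroup M'] [Module B M'] [Module.Finite B M'] [Module.Projective B M']
    [TopologicalSpace (M →ₗ[B] M')] [IsModuleTopology B (M →ₗ[B] M')] :
    IsOpen {f : M →ₗ[B] M' | Function.Surjective f} := by
  classical
  obtain ⟨n, π, ι, hπs, hιi, hπι⟩ := Module.Finite.exists_comp_eq_id_of_projective B M'
  have hπι' : ∀ y, π (ι y) = y := fun y => LinearMap.congr_fun hπι y
  rw [isOpen_iff_mem_nhds]
  intro f hf
  obtain ⟨s, hs⟩ := Module.projective_lifting_property f LinearMap.id hf
  have hs' : ∀ y, f (s y) = y := fun y => LinearMap.congr_fun hs y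
  -- the matrix-valued map
  let T : (M →ₗ[B] M') → Matrix (Fin n) (Fin n) B := fun g =>
    Matrix.of fun i j => ι (g (s (π (Pi.single j 1)))) i +
      ((1 : Matrix (Fin n) (Fin n) B) i j - ι (π (Pi.single j 1)) i)
  have hTcont : Continuous T := by
    refine continuous_matrix fun i j => ?_
    have hlin : Continuous fun g : M →ₗ[B] M' => ι (g (s (π (Pi.single j 1)))) i := by
      let ℓ : (M →ₗ[B] M') →ₗ[B] B :=
        (LinearMap.proj i ∘ₗ ι) ∘ₗ (LinearMap.applyₗ (s (π (Pi.single j 1))))
      exact IsModuleTopology.continuous_of_linearMap ℓ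
    exact hlin.add continuous_const
  have hdet : Continuous fun g => (T g).det := hTcont.matrix_det
  have hopen : IsOpen ((fun g => (T g).det) ⁻¹' {b : B | IsUnit b}) := hB.preimage hdet
  have hTf : T f = 1 := by
    refine Matrix.ext fun i j => ?_
    simp only [T, Matrix.of_apply, hs']
    ring
  have hfmem : f ∈ (fun g => (T g).det) ⁻¹' {b : B | IsUnit b} := by
    show IsUnit (T f).det
    rw [hTf, Matrix.det_one]
    exact isUnit_one
  refine Filter.mem_of_superset (hopen.mem_nhds hfmem) ?_
  intro g hg
  have hg' : IsUnit (T g).det := hg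
  -- T g as a linear map
  have hmul : ∀ w : Fin n → B, (T g).mulVec w = ι (g (s (π w))) + (w - ι (π w)) := by
    intro w
    have hw : w = ∑ j, w j • (Pi.single j 1 : Fin n → B) := by
      funext l
      simp [Finset.sum_apply, Pi.single_apply]
    funext i
    have h1 : ι (g (s (π w))) i = ∑ j, w j * ι (g (s (π (Pi.single j 1)))) i := by
      conv_lhs => rw [hw]
      simp only [map_sum, map_smul, Finset.sum_apply, Pi.smul_apply, smul_eq_mul]
    have h2 : ι (π w) i = ∑ j, w j * ι (π (Pi.single j 1)) i := by
      conv_lhs => rw [hw]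
      simp only [map_sum, map_smul, Finset.sum_apply, Pi.smul_apply, smul_eq_mul]
    have h3 : w i = ∑ j, w j * (1 : Matrix (Fin n) (Fin n) B) i j := by
      simp [Matrix.one_apply]
    simp only [Matrix.mulVec, dotProduct, T, Matrix.of_apply, Pi.add_apply, Pi.sub_apply]
    rw [h1, h2]
    conv_rhs => rw [h3]
    rw [← Finset.sum_sub_distrib, ← Finset.sum_add_distrib]
    refine Finset.sum_congr rfl fun j _ => ?_
    ring
  have hsurjT : Function.Surjective (T g).mulVec := by
    have hu : IsUnit (T g) := (Matrix.isUnit_iff_isUnit_det _).mpr hg'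
    exact (Matrix.mulVec_surjective_iff_isUnit.mpr hu)
  intro y
  obtain ⟨w, hw⟩ := hsurjT (ι y)
  refine ⟨s (π w), ?_⟩
  have := congrArg π hw
  rw [hmul, map_add, map_sub, hπι', hπι', hπι', sub_self, add_zero] at this
  exact this

end Groth.Agent.S15770
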