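import Groth.Statements.S15771
import Mathlib.Tactic
-- import your own Groth.Agent.* helpers here

set_option autoImplicit false
universe u
open TensorProduct
open CAlg

namespace Groth.Agent.S15771

/-- For a ring map B₀ → B with dense image into a topological ring B, a finitely generated B₀-module M₀
and any topological B-module structure on M = B ⊗_{B₀} M₀, the natural map M₀ → M has dense image. -/
theorem result (B₀ B : Type u) [CommRing B₀] [CommRing B] [Algebra B₀ B]
    [TopologicalSpace B] [IsTopologicalRing B] (hφ : DenseRange (algebraMap B₀ B))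
    (M₀ : Type u) [AddCommGroup M₀] [Module B₀ M₀] [Module.Finite B₀ M₀]
    [TopologicalSpace (B ⊗[B₀] M₀)] [IsTopologicalAddGroup (B ⊗[B₀] M₀)] [ContinuousSMul B (B ⊗[B₀] M₀)] :
    DenseRange (fun m : M₀ => (1 : B) ⊗ₜ[B₀] m) := by
  classical
  obtain ⟨n, s, hs⟩ := Module.Finite.exists_fin (R := B₀) (M := M₀)
  -- the continuous surjection `Bⁿ → B ⊗ M₀`
  let F : (Fin n → B) → B ⊗[B₀] M₀ := fun b => ∑ i, b i • ((1 : B) ⊗ₜ[B₀] s i)
  have hFcont : Continuous F := by
    apply continuous_finset_sum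
    intro i _
    exact (continuous_apply i : Continuous fun b : Fin n → B => b i).smul
      (continuous_const : Continuous fun _ : Fin n → B => (1 : B) ⊗ₜ[B₀] s i)
  have hFadd : ∀ b b' : Fin n → B, F (b + b') = F b + F b' := by
    intro b b'
    simp only [F, Pi.add_apply, add_smul, Finset.sum_add_distrib]
  have hFsmul : ∀ (c : B) (b : Fin n → B), F (c • b) = c • F b := by
    intro c b
    simp only [F, Pi.smul_apply, smul_eq_mul, mul_smul, Finset.smul_sum]
  have hFsurj : Function.Surjective F := by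
    intro x
    induction x using TensorProduct.induction_on with
    | zero => exact ⟨0, by simp [F]⟩
    | tmul b m =>
      have hm : m ∈ Submodule.span B₀ (Set.range s) := by rw [hs]; trivial
      obtain ⟨a, rfl⟩ := (Submodule.mem_span_range_iff_exists_fun B₀).mp hm
      refine ⟨fun i => b * algebraMap B₀ B (a i), ?_⟩
      simp only [F]
      rw [TensorProduct.tmul_sum]
      refine Finset.sum_congr rfl fun i _ => ?_
      symm
      calc b ⊗ₜ[B₀] (a i • s i) = (a i • b) ⊗ₜ[B₀] s i := (TensorProduct.smul_tmul _ _ _).symm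
        _ = ((b * algebraMap B₀ B (a i)) • (1 : B)) ⊗ₜ[B₀] s i := by
            congr 1; rw [Algebra.smul_def, smul_eq_mul, mul_one, mul_comm]
        _ = (b * algebraMap B₀ B (a i)) • ((1 : B) ⊗ₜ[B₀] s i) :=
            (TensorProduct.smul_tmul' _ _ _)
    | add x y hx hy =>
      obtain ⟨bx, rfl⟩ := hx
      obtain ⟨b_y, rfl⟩ := hy
      exact ⟨bx + b_y, hFadd bx b_y⟩
  have hG : DenseRange (Pi.map (fun _ : Fin n => (algebraMap B₀ B : B₀ → B))) :=
    DenseRange.piMap (fun _ => hφ)
  have hFG : DenseRange (F ∘ Pi.map (fun _ : Fin n => (algebraMap B₀ B : B₀ → B))) :=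
    hFsurj.denseRange.comp hG hFcont
  refine hFG.mono ?_
  rintro _ ⟨a, rfl⟩
  refine ⟨∑ i, a i • s i, ?_⟩
  simp only [Function.comp, F, Pi.map_apply]
  rw [TensorProduct.tmul_sum]
  refine Finset.sum_congr rfl fun i _ => ?_
  calc (1 : B) ⊗ₜ[B₀] (a i • s i) = (a i • (1 : B)) ⊗ₜ[B₀] s i :=
        (TensorProduct.smul_tmul _ _ _).symm
    _ = (algebraMap B₀ B (a i) • (1 : B)) ⊗ₜ[B₀] s i := by rw [algebraMap_smul]
    _ = algebraMap B₀ B (a i) • ((1 : B) ⊗ₜ[B₀] s i) := (TensorProduct.smul_tmul' _ _ _)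

end Groth.Agent.S15771
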