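import Groth.Statements.S15774
import Groth.Agent.Lib.Helper85.ApproxAdicHens

set_option autoImplicit false
universe u
open CAlg

namespace Groth.Agent.S15774

/-- The instance A[1/t] → Â[1/t]: if (A, tA) is a Henselian pair and the t-power torsion of A is
bounded, then every idempotent of Â[1/t] (Â the t-adic completion) comes from a unique idempotent of
A[1/t]. -/
theorem result (A : Type u) [CommRing A] (t : A) [HenselianRing A (Ideal.span {t})]
    (hbd : ∃ N : ℕ, ∀ a : A, (∃ m : ℕ, t ^ m * a = 0) → t ^ N * a = 0)
    (e : Localization.Away (algebraMap A (AdicCompletion (Ideal.span {t}) A) t)) (he : IsIdempotentElem e) :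
    ∃! e₀ : Localization.Away t, IsIdempotentElem e₀ ∧ Localization.awayMap (algebraMap A (AdicCompletion (Ideal.span {t}) A)) t e₀ = e := by
  have ht : t ∈ (⊥ : Ideal A).jacobson :=
    HenselianRing.jac (Ideal.mem_span_singleton_self t)
  letI : Algebra (Localization.Away t)
      (Localization.Away (algebraMap A (AdicCompletion (Ideal.span {t}) A) t)) :=
    (Localization.awayMap (algebraMap A (AdicCompletion (Ideal.span {t}) A)) t).toAlgebra
  have halg : algebraMap (Localization.Away t)
      (Localization.Away (algebraMap A (AdicCompletion (Ideal.span {t}) A) t)) =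
      Localization.awayMap (algebraMap A (AdicCompletion (Ideal.span {t}) A)) t := rfl
  have hcomp : ∀ a : A, algebraMap (Localization.Away t)
      (Localization.Away (algebraMap A (AdicCompletion (Ideal.span {t}) A) t))
      (algebraMap A (Localization.Away t) a) =
      algebraMap (AdicCompletion (Ideal.span {t}) A)
        (Localization.Away (algebraMap A (AdicCompletion (Ideal.span {t}) A) t))
        (algebraMap A (AdicCompletion (Ideal.span {t}) A) a) := by
    intro a
    rw [halg, Localization.awayMap, IsLocalization.Away.map, IsLocalization.map_eq]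
  exact Groth.Agent.Lib.Helper85.Approx.existsUnique_idempotent_lift
    (Groth.Agent.Lib.Helper85.Approx.adicData t ht (Localization.Away t)
      (Localization.Away (algebraMap A (AdicCompletion (Ideal.span {t}) A) t)) hcomp)
    (Groth.Agent.Lib.Helper85.Approx.adic_HInv t _ _ hcomp ht)
    (Groth.Agent.Lib.Helper85.Approx.adic_HQ t _ _ hcomp ht) e he

end Groth.Agent.S15774
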