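import Groth.Statements.S15784
import Mathlib

set_option autoImplicit false
universe u
open Neron

namespace Groth.Agent.S15784

theorem map_units_zpow' {O L : Type*} [CommRing O] [Field L] [Algebra O L] (u : Oˣ) (j : ℤ) :
    algebraMap O L ((u ^ j : Oˣ) : O) = (algebraMap O L (u : O)) ^ j := by
  have h := congrArg (fun x : Lˣ => (x : L))
    (map_zpow (Units.map ((algebraMap O L : O →+* L) : O →* L)) u j)
  simp only [Units.val_zpow_eq_zpow_val] at h
  exact h

theorem zpow_eq_unit {O L : Type*} [CommRing O] [IsDomain O] [Field L] [Algebra O L]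
    [IsFractionRing O L] (ϖ' : O) (hϖ' : Irreducible ϖ') (e : ℤ) (v : Oˣ)
    (h : (algebraMap O L ϖ') ^ e = algebraMap O L (v : O)) : e = 0 := by
  have hinj : Function.Injective (algebraMap O L) := IsFractionRing.injective O L
  have hP : algebraMap O L ϖ' ≠ 0 := by
    intro h0
    exact hϖ'.ne_zero (hinj (by rw [h0, map_zero]))
  have hk0 : ∀ k : ℕ, IsUnit (ϖ' ^ k) → k = 0 := by
    intro k hk
    by_contra hne
    exact hϖ'.not_isUnit ((isUnit_pow_iff hne).mp hk)
  obtain ⟨k, rfl | rfl⟩ := Int.eq_nat_or_neg e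
  · rw [zpow_natCast, ← map_pow] at h
    have h1 := hinj h
    have := hk0 k (h1 ▸ v.isUnit)
    simp [this]
  · rw [zpow_neg, zpow_natCast, ← map_pow] at h
    have hne : algebraMap O L (ϖ' ^ k) ≠ 0 := by
      rw [map_pow]
      exact pow_ne_zero _ hP
    have h1 : algebraMap O L ((v : O) * ϖ' ^ k) = algebraMap O L 1 := by
      rw [map_mul, ← h, map_one, inv_mul_cancel₀ hne]
    have h2 := hinj h1
    have := hk0 k (IsUnit.of_mul_eq_one _ (by rw [mul_comm]; exact h2))
    simp [this]

/-- Let O be a discrete valuation ring with fraction field L and uniformizer ϖ', let ϖ be an element of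
the maximal ideal of O, let q = u·ϖ'^n with u a unit of O and n ≥ 1, and let m ≥ 1 be a divisor of
n. Then the following are equivalent: (i) there is a nonzero element z = w·ϖ'^a of L, with w a unit
of O and a an integer congruent to n/m modulo n, and an integer j such that z^m·q^j lies in 1 + ϖO;
(ii) ϖ'^n/q is an m-th power in the group of units of O/ϖO, that is, u·(y^m + ϖ·r) = 1 for some y, r
∈ O. (The published statement phrases (i) geometrically, as the existence of a point of order m in
the special fibre of the Néron model of the Weil restriction of the Tate curve with parameter q from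
L down to a subfield over which L is totally ramified with ϖ a uniformizer of the subfield, whose
image in the component group also has order m; this row states the equivalence between (i) and (ii)
that the printed argument establishes.) -/
theorem result
    (O : Type u) [CommRing O] [IsDomain O] [IsDiscreteValuationRing O]
    (L : Type u) [Field L] [Algebra O L] [IsFractionRing O L]
    (ϖ' : O) (hϖ' : Irreducible ϖ') (ϖ : O) (hϖ : ϖ ∈ IsLocalRing.maximalIdeal O)
    (n : ℕ) (hn : 1 ≤ n) (u : Oˣ) (q : O) (hq : q = u * ϖ' ^ n)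
    (m : ℕ) (hm : 1 ≤ m) (hmn : m ∣ n) :
    (∃ (w : Oˣ) (a j t : ℤ) (r : O), a = (n / m : ℕ) + t * n ∧
        (algebraMap O L w * algebraMap O L ϖ' ^ a) ^ m * algebraMap O L q ^ j = algebraMap O L (1 + ϖ * r)) ↔
      ∃ y r : O, (u : O) * (y ^ m + ϖ * r) = 1 := by
  have hinj : Function.Injective (algebraMap O L) := IsFractionRing.injective O L
  have hP : algebraMap O L ϖ' ≠ 0 := by
    intro h0
    exact hϖ'.ne_zero (hinj (by rw [h0, map_zero]))
  have hU : algebraMap O L (u : O) ≠ 0 := by
    intro h0
    exact u.ne_zero (hinj (by rw [h0, map_zero]))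
  have hqL : algebraMap O L q = algebraMap O L (u : O) * algebraMap O L ϖ' ^ n := by
    rw [hq, map_mul, map_pow]
  have hdm : ((n / m : ℕ) : ℤ) * m = n := by
    exact_mod_cast Nat.div_mul_cancel hmn
  constructor
  · rintro ⟨w, a, j, t, r, ha, h⟩
    have hv₀ : IsUnit (1 + ϖ * r) := by
      have h1 : ϖ * r ∈ IsLocalRing.maximalIdeal O := Ideal.mul_mem_right _ _ hϖ
      have h2 := IsLocalRing.isUnit_one_sub_self_of_mem_nonunits (-(ϖ * r))
        (by
          have : -(ϖ * r) ∈ IsLocalRing.maximalIdeal O := neg_mem h1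
          exact this)
      simpa using h2
    obtain ⟨v₀, hv₀⟩ := hv₀
    -- rewrite LHS
    have hL : (algebraMap O L w * algebraMap O L ϖ' ^ a) ^ m * algebraMap O L q ^ j =
        algebraMap O L ((w ^ m * u ^ j : Oˣ) : O) * algebraMap O L ϖ' ^ (a * m + n * j) := by
      rw [hqL, mul_pow, mul_zpow, zpow_add₀ hP, zpow_mul, zpow_mul, zpow_natCast, zpow_natCast,
        Units.val_mul, map_mul, map_units_zpow', Units.val_pow_eq_pow_val, map_pow]
      ring
    rw [hL, ← hv₀] at h
    have he : a * m + n * j = 0 := by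
      apply zpow_eq_unit (L := L) ϖ' hϖ' _ ((w ^ m * u ^ j)⁻¹ * v₀)
      have hne : algebraMap O L ((w ^ m * u ^ j : Oˣ) : O) ≠ 0 := by
        intro h0
        exact (w ^ m * u ^ j).ne_zero (hinj (by rw [h0, map_zero]))
      rw [Units.val_mul, map_mul, ← h, map_units_inv, inv_mul_cancel_left₀ hne]
    rw [he, zpow_zero, mul_one] at h
    have hunits : w ^ m * u ^ j = v₀ := Units.ext (hinj h)
    have hj : j = -1 - t * m := by
      have h1 : (n : ℤ) * (1 + t * m + j) = 0 := by
        rw [ha] at he
        linear_combination he - hdm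
      have hn0 : (n : ℤ) ≠ 0 := by
        have : (1 : ℤ) ≤ n := by exact_mod_cast hn
        omega
      have h2 := (mul_eq_zero.mp h1).resolve_left hn0
      omega
    set c : Oˣ := w * u ^ (-t) with hc
    have hcm : c ^ m * u⁻¹ = v₀ := by
      rw [← hunits, hj, hc, mul_pow, ← zpow_natCast (u ^ (-t)) m, ← zpow_mul,
        show (-1 - t * m : ℤ) = -t * m + -1 by ring, zpow_add, zpow_neg_one, mul_assoc]
    refine ⟨((c⁻¹ : Oˣ) : O), r * ((c⁻¹ : Oˣ) : O) ^ m, ?_⟩
    have h3 : u * (c⁻¹) ^ m * v₀ = 1 := by
      rw [← hcm, inv_pow, mul_assoc, inv_mul_cancel_left, mul_inv_cancel]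
    have h4 := congrArg (fun x : Oˣ => (x : O)) h3
    simp only [Units.val_mul, Units.val_pow_eq_pow_val, Units.val_one] at h4
    rw [hv₀] at h4
    linear_combination h4
  · rintro ⟨y, r, h⟩
    have hd : IsUnit (1 - (u : O) * ϖ * r) := by
      apply IsLocalRing.isUnit_one_sub_self_of_mem_nonunits
      have : (u : O) * ϖ * r ∈ IsLocalRing.maximalIdeal O :=
        Ideal.mul_mem_right _ _ (Ideal.mul_mem_left _ _ hϖ)
      exact this
    obtain ⟨d, hd⟩ := hd
    have huy : (u : O) * y ^ m = d := by
      rw [hd]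
      linear_combination h
    have hy : IsUnit y := by
      have h1 : IsUnit ((u : O) * y ^ m) := huy ▸ d.isUnit
      have h2 : IsUnit (y ^ m) := (IsUnit.mul_iff.mp h1).2
      exact (isUnit_pow_iff (by omega)).mp h2
    obtain ⟨yu, rfl⟩ := hy
    have hdu : d = u * yu ^ m := Units.ext (by simp [← huy])
    refine ⟨yu⁻¹, (n / m : ℕ), -1, 0, (u : O) * r * ((d⁻¹ : Oˣ) : O), by simp, ?_⟩
    have hR : (1 : O) + ϖ * ((u : O) * r * ((d⁻¹ : Oˣ) : O)) = ((d⁻¹ : Oˣ) : O) := by
      have h1 : (d : O) * ((d⁻¹ : Oˣ) : O) = 1 := d.mul_inv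
      rw [hd] at h1
      linear_combination -h1
    rw [hR, hqL, zpow_natCast, mul_pow, ← pow_mul, Nat.div_mul_cancel hmn, zpow_neg_one,
      map_units_inv, map_units_inv, hdu, Units.val_mul, Units.val_pow_eq_pow_val, map_mul,
      map_pow]
    have hY : algebraMap O L (yu : O) ≠ 0 := by
      intro h0
      exact yu.ne_zero (hinj (by rw [h0, map_zero]))
    rw [inv_pow, mul_inv, mul_inv, mul_assoc, mul_comm ((algebraMap O L) (u : O))⁻¹,
      mul_inv_cancel_left₀ (pow_ne_zero _ hP), mul_comm]

end Groth.Agent.S15784
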