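import Groth.Statements.S1579
-- import your own Groth.Agent.* helpers here
import Groth.Agent.Lib.QCoh.Helper18_AssPushFinite

set_option autoImplicit false
universe u
open CategoryTheory CategoryTheory.Limits AlgebraicGeometry
open Divisors

namespace Groth.Agent.S1579

/-- Let f : X → S be finite and F quasi-coherent on X. Then the weakly associated points of f_* F are
precisely the images under f of the weakly associated points of F. -/
theorem result {X S : Scheme.{u}} (f : X ⟶ S) [IsFinite f] (F : X.Modules) (hF : Coh.IsQCoh F) :
    {s : S | Curv2.IsWeakAssPoint ((Coh.push f).obj F) s} = f.base '' {x : X | Curv2.IsWeakAssPoint F x} := by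
  have : F.IsQuasicoherent := hF
  exact Groth.Agent.Lib.QCoh.weakAss_pushforward_eq_image_of_isFinite f F

end Groth.Agent.S1579
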