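import Groth.Statements.S15791
import Mathlib
-- import your own Groth.Agent.* helpers here

set_option autoImplicit false
universe u v
open WildQuot

namespace Groth.Agent.S15791

section aux
variable {A : Type*} [CommRing A]

lemma length_quot_mul_le (J : Ideal A) (a b : A) :
    Module.length A (A ⧸ (J ⊔ Ideal.span {a * b})) ≤
      Module.length A (A ⧸ (J ⊔ Ideal.span {a})) + Module.length A (A ⧸ (J ⊔ Ideal.span {b})) := by
  have hle : J ⊔ Ideal.span {a * b} ≤ J ⊔ Ideal.span {a} := by
    refine sup_le_sup_left ?_ J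
    rw [Ideal.span_singleton_le_iff_mem]
    exact Ideal.mul_mem_right _ _ (Ideal.mem_span_singleton_self a)
  let q : (A ⧸ (J ⊔ Ideal.span {a * b})) →ₗ[A] (A ⧸ (J ⊔ Ideal.span {a})) :=
    Submodule.mapQ _ _ LinearMap.id hle
  have hq : Function.Surjective q := by
    intro x
    obtain ⟨r, rfl⟩ := Submodule.Quotient.mk_surjective _ x
    exact ⟨Submodule.Quotient.mk r, rfl⟩
  have hφle : J ⊔ Ideal.span {b} ≤ Submodule.comap (LinearMap.lsmul A A a) (J ⊔ Ideal.span {a * b}) := by
    intro r hr
    obtain ⟨j, hj, c, hc, rfl⟩ := Submodule.mem_sup.mp hr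
    obtain ⟨c', rfl⟩ := Ideal.mem_span_singleton'.mp hc
    rw [Submodule.mem_comap]
    simp only [LinearMap.lsmul_apply, smul_eq_mul, mul_add]
    refine Submodule.add_mem _ (Ideal.mem_sup_left (Ideal.mul_mem_left _ _ hj))
      (Ideal.mem_sup_right ?_)
    rw [Ideal.mem_span_singleton']
    exact ⟨c', by ring⟩
  let φ : (A ⧸ (J ⊔ Ideal.span {b})) →ₗ[A] (A ⧸ (J ⊔ Ideal.span {a * b})) :=
    Submodule.mapQ _ _ (LinearMap.lsmul A A a) hφle
  have hker : LinearMap.ker q ≤ LinearMap.range φ := by
    intro x hx
    obtain ⟨r, rfl⟩ := Submodule.Quotient.mk_surjective _ x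
    have hr : r ∈ J ⊔ Ideal.span {a} := by
      have : q (Submodule.Quotient.mk r) = 0 := hx
      simp only [q, Submodule.mapQ_apply, LinearMap.id_coe, id_eq] at this
      exact (Submodule.Quotient.mk_eq_zero _).mp this
    obtain ⟨j, hj, c, hc, rfl⟩ := Submodule.mem_sup.mp hr
    obtain ⟨c', rfl⟩ := Ideal.mem_span_singleton'.mp hc
    refine ⟨Submodule.Quotient.mk c', ?_⟩
    simp only [φ, Submodule.mapQ_apply, LinearMap.lsmul_apply, smul_eq_mul]
    rw [eq_comm, ← sub_eq_zero, ← Submodule.Quotient.mk_sub, Submodule.Quotient.mk_eq_zero]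
    have : j + c' * a - a * c' = j := by ring
    rw [this]
    exact Ideal.mem_sup_left hj
  rw [Module.length_eq_add_of_exact (LinearMap.ker q).subtype q (Submodule.subtype_injective _) hq
    (LinearMap.exact_subtype_ker_map q), add_comm]
  refine add_le_add le_rfl ?_
  calc Module.length A (LinearMap.ker q)
      ≤ Module.length A (LinearMap.range φ) :=
        Module.length_le_of_injective (Submodule.inclusion hker) (Submodule.inclusion_injective _)
    _ ≤ _ := Module.length_le_of_surjective φ.rangeRestrict φ.surjective_rangeRestrict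

lemma length_quot_prod_le {σ : Type*} (J : Ideal A) (s : Finset σ) (f : σ → A) :
    Module.length A (A ⧸ (J ⊔ Ideal.span {∏ i ∈ s, f i})) ≤
      ∑ i ∈ s, Module.length A (A ⧸ (J ⊔ Ideal.span {f i})) := by
  classical
  induction s using Finset.induction_on with
  | empty =>
    have : J ⊔ Ideal.span {(1 : A)} = ⊤ := by
      rw [Ideal.span_singleton_one, sup_top_eq]
    rw [Finset.prod_empty, Finset.sum_empty, nonpos_iff_eq_zero, Module.length_eq_zero_iff,
      Submodule.Quotient.subsingleton_iff]
    exact this
  | insert i s hi ih =>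
    rw [Finset.prod_insert hi, Finset.sum_insert hi]
    exact (length_quot_mul_le J (f i) (∏ j ∈ s, f j)).trans (add_le_add le_rfl ih)

lemma span_range_succ {n : ℕ} (v : Fin (n + 1) → A) :
    Ideal.span (Set.range v) = Ideal.span {v 0} ⊔ Ideal.span (Set.range (fun i : Fin n => v i.succ)) := by
  rw [← Ideal.span_union]
  congr 1
  ext x
  simp only [Set.mem_range, Set.singleton_union, Set.mem_insert_iff]
  constructor
  · rintro ⟨i, rfl⟩
    refine Fin.cases (Or.inl rfl) (fun j => Or.inr ⟨j, rfl⟩) i
  · rintro (rfl | ⟨j, rfl⟩)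
    · exact ⟨0, rfl⟩
    · exact ⟨j.succ, rfl⟩

lemma length_quot_span_prod_le {G : Type*} [Fintype G] :
    ∀ (n : ℕ) (J : Ideal A) (F : Fin n → G → A),
    Module.length A (A ⧸ (J ⊔ Ideal.span (Set.range fun i => ∏ σ : G, F i σ))) ≤
      ∑ τ : Fin n → G, Module.length A (A ⧸ (J ⊔ Ideal.span (Set.range fun i => F i (τ i)))) := by
  intro n
  induction n with
  | zero =>
    intro J F
    rw [Fintype.sum_unique]
    refine le_of_eq ?_
    have : (Set.range fun i : Fin 0 => ∏ σ : G, F i σ) =
        Set.range fun i : Fin 0 => F i ((default : Fin 0 → G) i) := by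
      rw [Set.range_eq_empty, Set.range_eq_empty]
    rw [this]
  | succ n ih =>
    intro J F
    rw [span_range_succ, ← sup_assoc, sup_right_comm]
    refine (length_quot_prod_le _ Finset.univ (F 0)).trans ?_
    rw [← (Fin.consEquiv (fun _ : Fin (n + 1) => G)).sum_comp, Fintype.sum_prod_type]
    refine Finset.sum_le_sum (fun σ _ => ?_)
    have := ih (J ⊔ Ideal.span {F 0 σ}) (fun i => F i.succ)
    rw [sup_right_comm]
    refine this.trans (le_of_eq ?_)
    refine Finset.sum_congr rfl (fun τ _ => ?_)
    rw [span_range_succ (fun i => F i ((Fin.consEquiv (fun _ : Fin (n + 1) => G)) (σ, τ) i)),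
      ← sup_assoc]
    rfl

end aux

/-- Let `A` be a regular local ring of Krull dimension `n` with maximal ideal `m`, let a finite group
`G` of order `g` act on `A` by ring automorphisms, and let `u_1, …, u_n` be an admissible regular
system of parameters: for every choice `σ_1, …, σ_n ∈ G`, the elements `σ_1 u_1, …, σ_n u_n`
generate `m`. With `x_i = ∏_{σ ∈ G} σ u_i` the norms, the length of `A / (x_1, …, x_n)` is at most
`g ^ n`. (The published statement is for a complete regular local ring containing a `G`-fixed field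
of representatives and asserts that the length equals `g ^ n`; this row states the upper bound for
any regular local ring.) -/
theorem result
    (A : Type u) [CommRing A] [IsRegularLocalRing A]
    (G : Type v) [Group G] [Fintype G] [MulSemiringAction G A]
    (n : ℕ) (hn : ringKrullDim A = n) (u : Fin n → A)
    (hu : ∀ τ : Fin n → G,
      Ideal.span (Set.range fun i => τ i • u i) = IsLocalRing.maximalIdeal A) :
    Module.length A (A ⧸ Ideal.span (Set.range fun i => ∏ σ : G, σ • u i)) ≤
      (Fintype.card G ^ n : ℕ) := by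
  classical
  have h := length_quot_span_prod_le (A := A) (G := G) n ⊥ (fun i σ => σ • u i)
  have hone : ∀ τ : Fin n → G,
      Module.length A (A ⧸ (⊥ ⊔ Ideal.span (Set.range fun i => τ i • u i))) = 1 := by
    intro τ
    rw [bot_sup_eq, hu τ]
    haveI : IsSimpleModule A (A ⧸ IsLocalRing.maximalIdeal A) := by
      rw [isSimpleModule_iff_isCoatom]
      exact Ideal.isMaximal_def.mp (IsLocalRing.maximalIdeal.isMaximal A)
    exact Module.length_eq_one _ _
  rw [Finset.sum_congr rfl (fun τ _ => hone τ), bot_sup_eq] at h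
  refine h.trans (le_of_eq ?_)
  simp [Finset.card_univ]

end Groth.Agent.S15791
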