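import Groth.Statements.S15792
import Mathlib

set_option autoImplicit false
universe u v
open WildQuot


namespace Groth.Agent.S15792
open IsLocalRing

/-- a `p`-group acting on an abelian group of exponent `p` has a fixed vector modulo any proper
stable subgroup -/
theorem exists_fixed_mod {p : ℕ} [hp : Fact p.Prime] {G : Type*} [Group G] [Finite G]
    (hG : IsPGroup p G) {X : Type*} [AddCommGroup X] [DistribMulAction G X]
    (hpX : ∀ x : X, p • x = 0) (N : AddSubgroup X)
    (hN : ∀ (σ : G) (x : X), x ∈ N → σ • x ∈ N) (x₀ : X) (hx₀ : x₀ ∉ N) :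
    ∃ u : X, u ∉ N ∧ ∀ σ : G, σ • u - u ∈ N := by
  classical
  letI : DistribMulAction G (X ⧸ N) :=
    { smul := fun σ => QuotientAddGroup.map N N (DistribMulAction.toAddMonoidHom X σ)
        (fun x hx => hN σ x hx)
      one_smul := by
        intro q
        induction q using QuotientAddGroup.induction_on with
        | H x => exact congrArg (QuotientAddGroup.mk : X → X ⧸ N) (one_smul G x)
      mul_smul := by
        intro σ τ q
        induction q using QuotientAddGroup.induction_on with
        | H x => exact congrArg (QuotientAddGroup.mk : X → X ⧸ N) (mul_smul σ τ x)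
      smul_zero := fun σ => map_zero _
      smul_add := fun σ => map_add _ }
  have hmk : ∀ (σ : G) (x : X), σ • (x : X ⧸ N) = ((σ • x : X) : X ⧸ N) := fun σ x => rfl
  let q₀ : X ⧸ N := (x₀ : X ⧸ N)
  have hq₀ : q₀ ≠ 0 := fun h => hx₀ ((QuotientAddGroup.eq_zero_iff x₀).mp h)
  let Y : AddSubgroup (X ⧸ N) := AddSubgroup.closure (Set.range fun σ : G => σ • q₀)
  have hY : ∀ (σ : G) (y : X ⧸ N), y ∈ Y → σ • y ∈ Y := by
    intro σ y hy
    induction hy using AddSubgroup.closure_induction with
    | mem y hy =>
      obtain ⟨τ, rfl⟩ := hy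
      exact AddSubgroup.subset_closure ⟨σ * τ, mul_smul σ τ q₀⟩
    | zero => rw [smul_zero]; exact Y.zero_mem
    | add a b _ _ ha hb => rw [smul_add]; exact Y.add_mem ha hb
    | neg a _ ha => rw [smul_neg]; exact Y.neg_mem ha
  letI : MulAction G Y :=
    { smul := fun σ y => ⟨σ • y.1, hY σ y.1 y.2⟩
      one_smul := fun y => Subtype.ext (one_smul G y.1)
      mul_smul := fun σ τ y => Subtype.ext (mul_smul σ τ y.1) }
  have hpQ : ∀ q : X ⧸ N, p • q = 0 := by
    intro q
    induction q using QuotientAddGroup.induction_on with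
    | H x =>
      have : ((p • x : X) : X ⧸ N) = 0 := by rw [hpX x]; rfl
      exact this
  haveI : Finite Y := by
    haveI : AddGroup.FG Y := AddGroup.closure_finite_fg _
    refine AddCommGroup.finite_of_fg_isAddTorsion Y ?_
    intro y
    rw [isOfFinAddOrder_iff_nsmul_eq_zero]
    exact ⟨p, hp.out.pos, Subtype.ext (hpQ y.1)⟩
  let y₀ : Y := ⟨q₀, AddSubgroup.subset_closure ⟨1, one_smul G q₀⟩⟩
  have hy₀ : y₀ ≠ 0 := fun h => hq₀ (congrArg Subtype.val h)
  have hdvd : p ∣ Nat.card Y := by
    have h1 : addOrderOf y₀ = p := addOrderOf_eq_prime (Subtype.ext (hpQ q₀)) hy₀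
    rw [← h1]
    exact addOrderOf_dvd_natCard y₀
  have h0 : (0 : Y) ∈ MulAction.fixedPoints G Y := fun σ => Subtype.ext (smul_zero σ)
  obtain ⟨b, hb, hb0⟩ := hG.exists_fixed_point_of_prime_dvd_card_of_fixed_point Y hdvd h0
  obtain ⟨u, hu⟩ := QuotientAddGroup.mk_surjective b.1
  refine ⟨u, ?_, fun σ => ?_⟩
  · intro huN
    apply hb0
    apply Subtype.ext
    rw [← hu]
    exact ((QuotientAddGroup.eq_zero_iff u).mpr huN).symm
  · have h1 : σ • b.1 = b.1 := congrArg Subtype.val (hb σ)
    rw [← hu, hmk] at h1
    have h2 := QuotientAddGroup.eq.mp h1.symm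
    have h3 : σ • u - u = -u + σ • u := by abel
    rw [h3]
    exact h2

section action
variable {A : Type u} [CommRing A] [IsLocalRing A] {G : Type v} [Group G] [MulSemiringAction G A]

theorem smul_mem_maximalIdeal (σ : G) {a : A} (ha : a ∈ maximalIdeal A) :
    σ • a ∈ maximalIdeal A := by
  rw [mem_maximalIdeal, mem_nonunits_iff] at ha ⊢
  intro hu
  apply ha
  have := hu.map (MulSemiringAction.toRingHom G A σ⁻¹)
  simpa using this

/-- induced additive map on the cotangent space -/
noncomputable def rho (σ : G) : CotangentSpace A →ₗ[ℤ] CotangentSpace A :=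
  Ideal.mapCotangent (maximalIdeal A) (maximalIdeal A)
    (MulSemiringAction.toRingHom G A σ).toIntAlgHom
    (fun a ha => smul_mem_maximalIdeal σ ha)

theorem rho_toCotangent (σ : G) (x : maximalIdeal A) :
    rho σ ((maximalIdeal A).toCotangent x) =
      (maximalIdeal A).toCotangent ⟨σ • (x : A), smul_mem_maximalIdeal σ x.2⟩ := rfl

theorem rho_one (w : CotangentSpace A) : rho (1 : G) w = w := by
  obtain ⟨x, rfl⟩ := (maximalIdeal A).toCotangent_surjective w
  rw [rho_toCotangent]
  congr 1
  exact Subtype.ext (one_smul G (x : A))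

theorem rho_mul (σ τ : G) (w : CotangentSpace A) : rho (σ * τ) w = rho σ (rho τ w) := by
  obtain ⟨x, rfl⟩ := (maximalIdeal A).toCotangent_surjective w
  rw [rho_toCotangent, rho_toCotangent, rho_toCotangent]
  congr 1
  exact Subtype.ext (mul_smul σ τ (x : A))

theorem rho_smul (hres : ∀ (σ : G) (a : A), σ • a - a ∈ maximalIdeal A) (σ : G)
    (c : ResidueField A) (w : CotangentSpace A) : rho σ (c • w) = c • rho σ w := by
  obtain ⟨x, rfl⟩ := (maximalIdeal A).toCotangent_surjective w
  obtain ⟨a, rfl⟩ := residue_surjective c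
  have h1 : ∀ (b : A) (y : maximalIdeal A), residue A b • (maximalIdeal A).toCotangent y =
      (maximalIdeal A).toCotangent (b • y) := by
    intro b y
    rw [map_smul]
    exact (IsScalarTower.algebraMap_smul (ResidueField A) b _)
  rw [h1, rho_toCotangent, rho_toCotangent]
  have h2 : residue A a = residue A (σ • a) := by
    rw [eq_comm, ← sub_eq_zero, ← map_sub, residue_eq_zero_iff]
    exact hres σ a
  rw [h2, h1]
  congr 1
  apply Subtype.ext
  simp [smul_mul']

/-- the action on the cotangent space -/
@[reducible] noncomputable def actV : DistribMulAction G (CotangentSpace A) where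
  smul σ w := rho σ w
  one_smul := rho_one
  mul_smul := rho_mul
  smul_zero σ := map_zero _
  smul_add σ := map_add _

theorem exists_fixed_V (p : ℕ) [Fact p.Prime] [CharP A p] [Finite G] (hG : IsPGroup p G)
    (hres : ∀ (σ : G) (a : A), σ • a - a ∈ maximalIdeal A)
    (W : Submodule (ResidueField A) (CotangentSpace A))
    (hW : ∀ (σ : G) (w : CotangentSpace A), w ∈ W → rho σ w ∈ W) (hWtop : W ≠ ⊤) :
    ∃ w : CotangentSpace A, w ∉ W ∧ ∀ σ : G, rho σ w - w ∈ W := by
  letI : DistribMulAction G (CotangentSpace A) := actV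
  have hpX : ∀ x : CotangentSpace A, p • x = 0 := by
    intro x
    rw [← Nat.cast_smul_eq_nsmul A p x, CharP.cast_eq_zero A p, zero_smul]
  obtain ⟨x₀, hx₀⟩ : ∃ x₀, x₀ ∉ W := by
    by_contra h
    push Not at h
    exact hWtop (eq_top_iff.mpr fun x _ => h x)
  exact exists_fixed_mod hG hpX W.toAddSubgroup (fun σ x hx => hW σ x hx) x₀ hx₀

theorem exists_flag (p : ℕ) [Fact p.Prime] [CharP A p] [Finite G] (hG : IsPGroup p G)
    [IsNoetherianRing A]
    (hres : ∀ (σ : G) (a : A), σ • a - a ∈ maximalIdeal A) :
    ∀ r : ℕ, r ≤ Module.finrank (ResidueField A) (CotangentSpace A) →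
      ∃ w : Fin r → CotangentSpace A, LinearIndependent (ResidueField A) w ∧
        ∀ (j : Fin r) (σ : G),
          rho σ (w j) - w j ∈ Submodule.span (ResidueField A) (w '' {l | l < j}) := by
  intro r
  induction r with
  | zero =>
    intro _
    exact ⟨Fin.elim0, linearIndependent_empty_type, fun j => Fin.elim0 j⟩
  | succ r ih =>
    intro hr
    obtain ⟨w, hli, hflag⟩ := ih (by omega)
    set W := Submodule.span (ResidueField A) (Set.range w) with hWdef
    have hWtop : W ≠ ⊤ := by
      intro h
      have h1 : Module.finrank (ResidueField A) W = r := by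
        rw [hWdef, finrank_span_eq_card hli, Fintype.card_fin]
      rw [h, finrank_top] at h1
      omega
    have hW : ∀ (σ : G) (x : CotangentSpace A), x ∈ W → rho σ x ∈ W := by
      intro σ x hx
      induction hx using Submodule.span_induction with
      | mem x hx =>
        obtain ⟨j, rfl⟩ := hx
        have h1 : rho σ (w j) = w j + (rho σ (w j) - w j) := by abel
        rw [h1]
        exact W.add_mem (Submodule.subset_span ⟨j, rfl⟩)
          (Submodule.span_mono (Set.image_subset_range _ _) (hflag j σ))
      | zero => rw [map_zero]; exact W.zero_mem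
      | add a b _ _ ha hb => rw [map_add]; exact W.add_mem ha hb
      | smul c a _ ha => rw [rho_smul hres]; exact W.smul_mem c ha
    obtain ⟨w', hw', hfix⟩ := exists_fixed_V p hG hres W hW hWtop
    refine ⟨Fin.snoc w w', linearIndependent_finSnoc.mpr ⟨hli, hw'⟩, ?_⟩
    intro j σ
    induction j using Fin.lastCases with
    | last =>
      have h1 : (Fin.snoc w w' : Fin (r + 1) → CotangentSpace A) '' {l | l < Fin.last r} =
          Set.range w := by
        ext x
        constructor
        · rintro ⟨l, hl, rfl⟩
          have hl' : l ≠ Fin.last r := ne_of_lt hl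
          obtain ⟨l', rfl⟩ := Fin.exists_castSucc_eq.mpr hl'
          exact ⟨l', by simp⟩
        · rintro ⟨l', rfl⟩
          exact ⟨Fin.castSucc l', Fin.castSucc_lt_last l', by simp⟩
      rw [h1, Fin.snoc_last]
      exact hfix σ
    | cast j =>
      have h1 : (Fin.snoc w w' : Fin (r + 1) → CotangentSpace A) '' {l | l < Fin.castSucc j} =
          w '' {l | l < j} := by
        ext x
        constructor
        · rintro ⟨l, hl, rfl⟩
          have hl' : l ≠ Fin.last r := ne_of_lt (lt_of_lt_of_le hl (Fin.le_last _))
          obtain ⟨l', rfl⟩ := Fin.exists_castSucc_eq.mpr hl'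
          exact ⟨l', Fin.castSucc_lt_castSucc_iff.mp hl, by simp⟩
        · rintro ⟨l', hl', rfl⟩
          exact ⟨Fin.castSucc l', Fin.castSucc_lt_castSucc_iff.mpr hl', by simp⟩
      rw [h1, Fin.snoc_castSucc]
      exact hflag j σ

end action

end Groth.Agent.S15792

namespace Groth.Agent.S15792

/-- Let `A` be a regular local ring of Krull dimension `n` and prime characteristic `p`, and let a
finite `p`-group `G` act on `A` by ring automorphisms inducing the identity on the residue field.
Then there is an admissible regular system of parameters: `u_1, …, u_n ∈ A` such that for every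
choice `σ_1, …, σ_n ∈ G` the elements `σ_1 u_1, …, σ_n u_n` generate the maximal ideal. (The
published statement is for a complete regular local ring containing a field of representatives fixed
by `G`; this row drops completeness and asks only that `G` act trivially on the residue field.) -/
theorem result
    (p : ℕ) [Fact p.Prime] (A : Type u) [CommRing A] [IsRegularLocalRing A] [CharP A p]
    (G : Type v) [Group G] [Finite G] [MulSemiringAction G A] (hG : IsPGroup p G)
    (hres : ∀ (σ : G) (a : A), σ • a - a ∈ IsLocalRing.maximalIdeal A)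
    (n : ℕ) (hn : ringKrullDim A = n) :
    ∃ u : Fin n → A, ∀ τ : Fin n → G,
      Ideal.span (Set.range fun i => τ i • u i) = IsLocalRing.maximalIdeal A := by
  have hfin : Module.finrank (IsLocalRing.ResidueField A) (IsLocalRing.CotangentSpace A) = n := by
    have h := (IsRegularLocalRing.iff_finrank_cotangentSpace A).mp inferInstance
    rw [hn] at h
    exact_mod_cast h
  obtain ⟨w, hli, hflag⟩ := exists_flag p hG hres n (le_of_eq hfin.symm)
  have hspan : Submodule.span (IsLocalRing.ResidueField A) (Set.range w) = ⊤ :=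
    hli.span_eq_top_of_card_eq_finrank' (by rw [Fintype.card_fin, hfin])
  choose u hu using fun j => (IsLocalRing.maximalIdeal A).toCotangent_surjective (w j)
  refine ⟨fun j => (u j : A), fun τ => ?_⟩
  let t : Fin n → IsLocalRing.maximalIdeal A :=
    fun j => ⟨τ j • (u j : A), smul_mem_maximalIdeal (τ j) (u j).2⟩
  have ht : ∀ j, (IsLocalRing.maximalIdeal A).toCotangent (t j) = rho (τ j) (w j) :=
    fun j => by rw [← hu j, rho_toCotangent]
  set T := Submodule.span (IsLocalRing.ResidueField A)
    ((IsLocalRing.maximalIdeal A).toCotangent '' Set.range t) with hT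
  have hmem : ∀ (m : ℕ) (j : Fin n), j.val < m → w j ∈ T := by
    intro m
    induction m with
    | zero => intro j hj; omega
    | succ m ih =>
      intro j hj
      have h1 : Submodule.span (IsLocalRing.ResidueField A) (w '' {l | l < j}) ≤ T :=
        Submodule.span_le.mpr (by
          rintro _ ⟨l, hl, rfl⟩
          exact ih l (by have : l.val < j.val := hl; omega))
      have h2 : rho (τ j) (w j) ∈ T := by
        rw [← ht]
        exact Submodule.subset_span ⟨t j, ⟨j, rfl⟩, rfl⟩
      have h3 : w j = rho (τ j) (w j) - (rho (τ j) (w j) - w j) := by abel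
      rw [h3]
      exact T.sub_mem h2 (h1 (hflag j (τ j)))
  have hTtop : T = ⊤ := by
    rw [eq_top_iff, ← hspan]
    exact Submodule.span_le.mpr (by
      rintro _ ⟨j, rfl⟩
      exact hmem (j.val + 1) j (by omega))
  have h4 := IsLocalRing.CotangentSpace.span_image_eq_top_iff.mp hTtop
  have h5 := congrArg (Submodule.map (IsLocalRing.maximalIdeal A).subtype) h4
  rw [Submodule.map_span, Submodule.map_top, Submodule.range_subtype] at h5
  refine Eq.trans ?_ h5
  change Submodule.span A _ = Submodule.span A _
  congr 1
  ext x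
  constructor
  · rintro ⟨j, rfl⟩
    exact ⟨t j, ⟨j, rfl⟩, rfl⟩
  · rintro ⟨_, ⟨j, rfl⟩, rfl⟩
    exact ⟨j, rfl⟩

end Groth.Agent.S15792
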