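import Groth.Statements.S15793
import Mathlib

set_option autoImplicit false
universe u v w
open WildQuot

namespace Groth.Agent.S15793

namespace WQ
open IsLocalRing

/-- generators of `m` containing `v`. -/
theorem exists_gens (A : Type u) [CommRing A] [IsLocalRing A] [IsNoetherianRing A]
    (v : A) (hv : v ∈ maximalIdeal A) (hv2 : v ∉ maximalIdeal A ^ 2) :
    ∃ s : Finset A, s.card + 1 = (maximalIdeal A).spanFinrank ∧
      Ideal.span (insert v (s : Set A)) = maximalIdeal A := by
  classical
  set m := maximalIdeal A with hm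
  obtain ⟨s, hcard, hspan⟩ :=
    Submodule.FG.exists_span_finset_card_eq_spanFinrank (IsNoetherian.noetherian m)
  have hvs : v ∈ Submodule.span A (s : Set A) := by rw [hspan]; exact hv
  obtain ⟨f, hf⟩ := Submodule.mem_span_finset'.mp hvs
  -- some coefficient is a unit
  have hunit : ∃ x₀ : s, IsUnit (f x₀) := by
    by_contra hno
    push Not at hno
    apply hv2
    rw [← hf, sq]
    refine Ideal.sum_mem _ (fun x _ => ?_)
    rw [smul_eq_mul]
    refine Ideal.mul_mem_mul ?_ ?_
    · exact (mem_maximalIdeal _).mpr (hno x)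
    · rw [← hspan]; exact Submodule.subset_span x.2
  obtain ⟨x₀, hx₀⟩ := hunit
  refine ⟨s.erase x₀, ?_, ?_⟩
  · rw [Finset.card_erase_of_mem x₀.2, ← hcard]
    have : 0 < s.card := Finset.card_pos.mpr ⟨x₀, x₀.2⟩
    omega
  · apply le_antisymm
    · rw [Ideal.span_le]
      intro y hy
      rcases hy with rfl | hy
      · exact hv
      · have : y ∈ s := Finset.mem_of_mem_erase hy
        change y ∈ m
        rw [← hspan]; exact Submodule.subset_span this
    · change m ≤ _
      rw [← hspan]
      change Ideal.span (s : Set A) ≤ _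
      rw [Ideal.span_le]
      intro y hy
      by_cases hyx : y = x₀
      · -- x₀ = u⁻¹ (v - ∑_{x ≠ x₀} f x x)
        obtain ⟨u, hu⟩ := hx₀
        have hsum : v = f x₀ * (x₀ : A) + ∑ x ∈ (Finset.univ : Finset s).erase x₀, f x * (x : A) := by
          rw [← hf, ← Finset.add_sum_erase _ _ (Finset.mem_univ x₀)]
          rfl
        have hx0 : (x₀ : A) = ↑u⁻¹ * (v - ∑ x ∈ (Finset.univ : Finset s).erase x₀, f x * (x : A)) := by
          rw [hsum, add_sub_cancel_right, ← hu, ← mul_assoc, Units.inv_mul, one_mul]
        rw [hyx]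
        generalize hT : Ideal.span (insert v ((s.erase ↑x₀ : Finset A) : Set A)) = T
        rw [hx0, ← hT]
        refine Ideal.mul_mem_left _ _ (Ideal.sub_mem _ ?_ ?_)
        · exact Ideal.subset_span (Set.mem_insert _ _)
        · refine Ideal.sum_mem _ (fun x hx => Ideal.mul_mem_left _ _ ?_)
          apply Ideal.subset_span
          refine Set.mem_insert_of_mem _ ?_
          rw [Finset.mem_coe, Finset.mem_erase]
          refine ⟨?_, x.2⟩
          intro h
          exact (Finset.ne_of_mem_erase hx) (Subtype.ext h)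
      · apply Ideal.subset_span
        refine Set.mem_insert_of_mem _ ?_
        rw [Finset.mem_coe, Finset.mem_erase]
        exact ⟨hyx, hy⟩


theorem main
    (p : ℕ) [Fact p.Prime] (A : Type u) [CommRing A] [IsRegularLocalRing A]
    (k : Type v) [Field k] [Algebra k A]
    (hk : Function.Surjective (IsLocalRing.residue A ∘ algebraMap k A))
    (G : Type w) [Group G] [Finite G] [MulSemiringAction G A] (hcard : Nat.card G = p)
    (hGk : ∀ (σ : G) (c : k), σ • algebraMap k A c = algebraMap k A c)
    (hram : ∀ P : Ideal A, P.IsPrime → P ≠ IsLocalRing.maximalIdeal A → P.inertia G = ⊥)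
    (v : A) (hv : v ∈ IsLocalRing.maximalIdeal A) (hv2 : v ∉ IsLocalRing.maximalIdeal A ^ 2) :
    ∃ σ : G, σ • v ≠ v := by
  classical
  by_contra hcon
  push Not at hcon
  have hp2 : 2 ≤ p := (Fact.out : p.Prime).two_le
  obtain ⟨σ, hσ⟩ : ∃ σ : G, σ ≠ 1 := by
    by_contra h
    push Not at h
    have : Subsingleton G := ⟨fun a b => (h a).trans (h b).symm⟩
    have h1 : Nat.card G = 1 := Nat.card_unique
    omega
  set m := maximalIdeal A with hm
  obtain ⟨s, hscard, hsspan⟩ := exists_gens A v hv hv2
  rw [← hm] at hscard hsspan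
  have hσm : ∀ a ∈ m, σ • a ∈ m := by
    intro a ha
    rw [hm, mem_maximalIdeal, mem_nonunits_iff] at ha ⊢
    intro hu
    apply ha
    have := hu.map (MulSemiringAction.toRingHom G A σ⁻¹)
    simpa using this
  set I : Ideal A := Ideal.span (Set.range (fun a : A => σ • a - a)) with hI
  set J : Ideal A := Ideal.span ((s.image (fun x => σ • x - x) : Finset A) : Set A) with hJ
  have hmemI : ∀ a : A, σ • a - a ∈ I := fun a => Ideal.subset_span ⟨a, rfl⟩
  have hJI : J ≤ I := by
    rw [hJ, Ideal.span_le]
    intro y hy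
    rw [Finset.mem_coe, Finset.mem_image] at hy
    obtain ⟨x, _, rfl⟩ := hy
    exact hmemI x
  have hex : ∀ a : A, ∃ c : k, a - algebraMap k A c ∈ m := by
    intro a
    obtain ⟨c, hc⟩ := hk (residue A a)
    refine ⟨c, ?_⟩
    rw [hm, ← IsLocalRing.residue_eq_zero_iff, map_sub, sub_eq_zero]
    exact hc.symm
  have hrew : ∀ (a : A) (c : k), σ • a - a =
      σ • (a - algebraMap k A c) - (a - algebraMap k A c) := by
    intro a c
    rw [smul_sub, hGk]; ring
  have hIm : I ≤ m := by
    rw [hI, Ideal.span_le]
    rintro _ ⟨a, rfl⟩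
    obtain ⟨c, hac⟩ := hex a
    change σ • a - a ∈ m
    rw [hrew a c]
    exact m.sub_mem (hσm _ hac) hac
  have hsm : Ideal.span (s : Set A) ≤ m := by
    rw [← hsspan]
    exact Ideal.span_mono (Set.subset_insert _ _)
  have hgen : ∀ z ∈ Submodule.span A (s : Set A), σ • z - z ∈ J ⊔ m • I := by
    intro z hz
    induction hz using Submodule.span_induction with
    | mem x hx =>
      apply Submodule.mem_sup_left
      apply Ideal.subset_span
      rw [Finset.mem_coe, Finset.mem_image]
      exact ⟨x, hx, rfl⟩
    | zero => simp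
    | add x y _ _ hx hy =>
      have : σ • (x + y) - (x + y) = (σ • x - x) + (σ • y - y) := by rw [smul_add]; ring
      rw [this]
      exact Ideal.add_mem _ hx hy
    | smul r x hxs hx =>
      have : σ • (r • x) - r • x = σ • r * (σ • x - x) + x • (σ • r - r) := by
        rw [smul_eq_mul, smul_eq_mul, smul_mul']; ring
      rw [this]
      refine Ideal.add_mem _ (Ideal.mul_mem_left _ _ hx) (Submodule.mem_sup_right ?_)
      exact Submodule.smul_mem_smul (hsm hxs) (hmemI r)
  have hmain : I ≤ J ⊔ m • I := by
    rw [hI, Ideal.span_le]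
    rintro _ ⟨a, rfl⟩
    change σ • a - a ∈ J ⊔ m • I
    obtain ⟨c, hac⟩ := hex a
    rw [hrew a c]
    rw [← hsspan] at hac
    obtain ⟨b, z, hz, hbz⟩ := Submodule.mem_span_insert.mp hac
    have hz' : σ • z - z ∈ J ⊔ m • I := hgen z hz
    rw [smul_eq_mul] at hbz
    rw [hbz, smul_add, smul_mul', hcon σ]
    have : σ • b * v + σ • z - (b * v + z) = v • (σ • b - b) + (σ • z - z) := by
      rw [smul_eq_mul]; ring
    rw [this]
    exact Ideal.add_mem _ (Submodule.mem_sup_right (Submodule.smul_mem_smul hv (hmemI b))) hz'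
  have hIJ : I ≤ J := by
    refine Submodule.le_of_le_smul_of_le_jacobson_bot (I := m) (IsNoetherian.noetherian I) ?_ hmain
    rw [IsLocalRing.jacobson_eq_maximalIdeal ⊥ bot_ne_top]
  have hJtop : J ≠ ⊤ := by
    intro h
    have : m = ⊤ := top_le_iff.mp (h ▸ (hJI.trans hIm))
    exact (IsLocalRing.maximalIdeal.isMaximal A).ne_top this
  obtain ⟨P, hP⟩ := Ideal.nonempty_minimalPrimes hJtop
  have hPprime : P.IsPrime := hP.1.1
  have hJP : J ≤ P := hP.1.2
  have hht : P.height ≤ ((s.image (fun x => σ • x - x) : Finset A).card : ℕ∞) :=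
    Ideal.height_le_card_of_mem_minimalPrimes_span_finset hP
  have hPm : P ≠ m := by
    intro hPm
    rw [hPm] at hht
    have h1 : ((m.height : ℕ∞) : WithBot ℕ∞) = ((m.spanFinrank : ℕ) : WithBot ℕ∞) := by
      rw [IsLocalRing.maximalIdeal_height_eq_ringKrullDim]
      exact (IsRegularLocalRing.spanFinrank_maximalIdeal).symm
    have h2 : m.height = ((m.spanFinrank : ℕ) : ℕ∞) := by exact_mod_cast h1
    rw [h2, ← hscard] at hht
    have h3 : (s.image (fun x => σ • x - x) : Finset A).card ≤ s.card := Finset.card_image_le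
    have h4 : (s.card + 1 : ℕ) ≤ (s.image (fun x => σ • x - x) : Finset A).card := by
      exact_mod_cast hht
    omega
  have hin := hram P hPprime hPm
  have hσin : σ ∈ P.inertia G := fun a => hJP (hIJ (hmemI a))
  rw [hin] at hσin
  exact hσ (Subgroup.mem_bot.mp hσin)

end WQ


/-- Let `A` be a complete regular local ring of Krull dimension at least `2` and prime characteristic
`p`, with maximal ideal `m`; let `k` be a field with a ring map `k → A` whose composite with `A →
A/m` is onto (a field of representatives); let `G` be a group of order `p` acting on `A` by ring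
automorphisms that fix the image of `k`, ramified precisely at the origin: for every prime `P ≠ m`,
the inertia subgroup of `P` (the elements of `G` fixing every element of `A` modulo `P`) is trivial.
Then no element of `m` outside `m ^ 2` is fixed by every element of `G`; in particular the action is
not linear in any regular system of parameters. -/
theorem result
    (p : ℕ) [Fact p.Prime] (A : Type u) [CommRing A] [IsRegularLocalRing A] [CharP A p]
    [IsAdicComplete (IsLocalRing.maximalIdeal A) A] (hdim : 2 ≤ ringKrullDim A)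
    (k : Type v) [Field k] [Algebra k A]
    (hk : Function.Surjective (IsLocalRing.residue A ∘ algebraMap k A))
    (G : Type w) [Group G] [Finite G] [MulSemiringAction G A] (hcard : Nat.card G = p)
    (hGk : ∀ (σ : G) (c : k), σ • algebraMap k A c = algebraMap k A c)
    (hram : ∀ P : Ideal A, P.IsPrime → P ≠ IsLocalRing.maximalIdeal A → P.inertia G = ⊥)
    (v : A) (hv : v ∈ IsLocalRing.maximalIdeal A) (hv2 : v ∉ IsLocalRing.maximalIdeal A ^ 2) :
    ∃ σ : G, σ • v ≠ v :=
  WQ.main p A k hk G hcard hGk hram v hv hv2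

end Groth.Agent.S15793
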