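import Groth.Statements.S15794
import Groth.Agent.Lib.Helper84.WQ9
import Groth.Agent.Lib.Helper84.WQ11
import Groth.Agent.S0558

set_option autoImplicit false
universe u v w
open WildQuot

namespace Groth.Agent.S15794

theorem htriv_of (A : Type u) [CommRing A] [IsLocalRing A]
    (k : Type v) [Field k] [Algebra k A]
    (hk : Function.Surjective (IsLocalRing.residue A ∘ algebraMap k A))
    (G : Type w) [Group G] [MulSemiringAction G A]
    (hGk : ∀ (σ : G) (c : k), σ • algebraMap k A c = algebraMap k A c) (g : G) (a : A) :
    g • a - a ∈ IsLocalRing.maximalIdeal A := by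
  obtain ⟨c, hc⟩ := hk (IsLocalRing.residue A a)
  have h1 : a - algebraMap k A c ∈ IsLocalRing.maximalIdeal A := by
    rw [← Ideal.Quotient.eq_zero_iff_mem, map_sub, sub_eq_zero]
    exact hc.symm
  have h2 := Groth.Agent.Lib.Helper84.WQ11.smul_mem_maximalIdeal A G g h1
  rw [smul_sub, hGk] at h2
  have : g • a - a = (g • a - algebraMap k A c) - (a - algebraMap k A c) := by ring
  rw [this]
  exact sub_mem h2 h1

/-- Let `A` be a complete regular local ring of Krull dimension at least `2` and prime characteristic
`p`, with maximal ideal `m`; let `k` be a field with a ring map `k → A` whose composite with `A →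
A/m` is onto; let `G` be a group of order `p` acting on `A` by ring automorphisms fixing the image
of `k` and ramified precisely at the origin (for every prime `P ≠ m`, the inertia subgroup of `P`
(the elements of `G` fixing every element modulo `P`) is trivial). Then `A` is not a flat module
over the ring of invariants `A^G`. (The published statement also asserts that `A^G ⊂ A` is local and
finite of degree `p` with trivial residue field extension; this row omits those clauses.) -/
theorem result
    (p : ℕ) [Fact p.Prime] (A : Type u) [CommRing A] [IsRegularLocalRing A] [CharP A p]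
    [IsAdicComplete (IsLocalRing.maximalIdeal A) A] (hdim : 2 ≤ ringKrullDim A)
    (k : Type v) [Field k] [Algebra k A]
    (hk : Function.Surjective (IsLocalRing.residue A ∘ algebraMap k A))
    (G : Type w) [Group G] [Finite G] [MulSemiringAction G A] (hcard : Nat.card G = p)
    (hGk : ∀ (σ : G) (c : k), σ • algebraMap k A c = algebraMap k A c)
    (hram : ∀ P : Ideal A, P.IsPrime → P ≠ IsLocalRing.maximalIdeal A → P.inertia G = ⊥) :
    ¬ Module.Flat (FixedPoints.subring A G) A := by
  cases nonempty_fintype G
  haveI : IsDomain A := Groth.Agent.S0558.result A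
  obtain ⟨hBN, hfin⟩ := Groth.Agent.Lib.Helper84.WQ9.fixed_finite A k G hk hGk
  haveI := hfin
  refine Groth.Agent.Lib.Helper84.WQ11.not_flat A G hdim (htriv_of A k hk G hGk) hram ?_
  rw [hcard]
  exact (Fact.out : p.Prime).two_le

end Groth.Agent.S15794
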