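import Groth.Statements.S15795
import Mathlib

set_option autoImplicit false
universe u v
open WildQuot

namespace Groth.Agent.S15795

section
variable {A : Type u} [CommRing A] {G : Type v} [Group G] [MulSemiringAction G A]

/-- `G`-stability of an ideal. -/
def Stable (G : Type v) [Group G] [MulSemiringAction G A] (I : Ideal A) : Prop :=
  ∀ (σ : G), ∀ x ∈ I, σ • x ∈ I

theorem Stable.sup {I J : Ideal A} (hI : Stable G I) (hJ : Stable G J) : Stable G (I ⊔ J) := by
  intro σ x hx
  obtain ⟨y, hy, z, hz, rfl⟩ := Submodule.mem_sup.mp hx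
  rw [smul_add]
  exact Submodule.add_mem_sup (hI σ y hy) (hJ σ z hz)

theorem Stable.mul {I J : Ideal A} (hI : Stable G I) (hJ : Stable G J) : Stable G (I * J) := by
  intro σ x hx
  refine Submodule.mul_induction_on hx ?_ ?_
  · intro a ha b hb
    rw [smul_mul']
    exact Ideal.mul_mem_mul (hI σ a ha) (hJ σ b hb)
  · intro a b ha hb
    rw [smul_add]
    exact Ideal.add_mem _ ha hb

theorem stable_of_span {S : Set A} {J : Ideal A} (hJ : Stable G J)
    (hS : ∀ (σ : G), ∀ x ∈ S, σ • x ∈ Ideal.span S ⊔ J) : Stable G (Ideal.span S ⊔ J) := by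
  intro σ x hx
  obtain ⟨y, hy, z, hz, rfl⟩ := Submodule.mem_sup.mp hx
  rw [smul_add]
  refine Ideal.add_mem _ ?_ (Ideal.mem_sup_right (hJ σ z hz))
  refine Submodule.span_induction ?_ ?_ ?_ ?_ hy
  · intro a ha
    exact hS σ a ha
  · rw [smul_zero]; exact Ideal.zero_mem _
  · intro a b _ _ ha hb
    rw [smul_add]; exact Ideal.add_mem _ ha hb
  · intro c a _ ha
    rw [smul_eq_mul, smul_mul']
    exact Ideal.mul_mem_left _ _ ha

end

/-- Let `A` be a regular local ring of Krull dimension `n` with maximal ideal `m`, let a finite group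
`G` act on `A` by ring automorphisms inducing the identity on the residue field, and let `u_1, …,
u_n` generate `m`. Suppose that for every `σ ∈ G` and every `i`, `σ u_i ∈ (u_1, …, u_i) + m ^ 2`,
i.e. the induced linear maps of `m / m ^ 2` are upper triangular in the basis given by the `u_i`.
Then the system `u` is admissible: for every choice `σ_1, …, σ_n ∈ G` the elements `σ_1 u_1, …, σ_n
u_n` generate `m`. (The published statement is for a complete regular local ring containing a
`G`-fixed field of representatives; this row drops completeness and asks only that `G` act trivially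
on the residue field.) -/
theorem result
    (A : Type u) [CommRing A] [IsRegularLocalRing A]
    (G : Type v) [Group G] [Finite G] [MulSemiringAction G A]
    (hres : ∀ (σ : G) (a : A), σ • a - a ∈ IsLocalRing.maximalIdeal A)
    (n : ℕ) (hn : ringKrullDim A = n) (u : Fin n → A)
    (hu : Ideal.span (Set.range u) = IsLocalRing.maximalIdeal A)
    (htri : ∀ (σ : G) (i : Fin n),
      σ • u i ∈ Ideal.span (u '' {j | j ≤ i}) ⊔ IsLocalRing.maximalIdeal A ^ 2) :
    ∀ τ : Fin n → G,
      Ideal.span (Set.range fun i => τ i • u i) = IsLocalRing.maximalIdeal A := by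
  classical
  intro τ
  set m := IsLocalRing.maximalIdeal A with hm
  have hmst : Stable G m := by
    intro σ x hx
    have := m.add_mem (hres σ x) hx
    simpa using this
  have hm2st : Stable G (m ^ 2) := by
    rw [pow_two]; exact hmst.mul hmst
  let V : ℕ → Ideal A := fun i => Ideal.span (u '' {j | j.val < i}) ⊔ m ^ 2
  let W : ℕ → Ideal A := fun i => Ideal.span ((fun j => τ j • u j) '' {j | j.val < i}) ⊔ m ^ 2
  have hVst : ∀ i, Stable G (V i) := by
    intro i
    refine stable_of_span hm2st ?_
    rintro σ _ ⟨j, hj, rfl⟩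
    have h1 := htri σ j
    have hle : Ideal.span (u '' {j' | j' ≤ j}) ⊔ m ^ 2 ≤
        Ideal.span (u '' {j | j.val < i}) ⊔ m ^ 2 := by
      refine sup_le_sup (Ideal.span_mono ?_) le_rfl
      rintro _ ⟨j', hj', rfl⟩
      exact ⟨j', lt_of_le_of_lt (Fin.le_def.mp hj') hj, rfl⟩
    exact hle h1
  have hset : ∀ i (hi : i < n), {j : Fin n | j.val < i + 1} = insert ⟨i, hi⟩ {j : Fin n | j.val < i} := by
    intro i hi
    ext j
    simp only [Set.mem_ofPred_eq, Set.mem_insert_iff, Fin.ext_iff]
    omega
  have hVsucc : ∀ i (hi : i < n), V (i + 1) = Ideal.span {u ⟨i, hi⟩} ⊔ V i := by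
    intro i hi
    simp only [V]
    rw [hset i hi, Set.image_insert_eq, Ideal.span_insert, sup_assoc]
  have hWsucc : ∀ i (hi : i < n), W (i + 1) = Ideal.span {τ ⟨i, hi⟩ • u ⟨i, hi⟩} ⊔ W i := by
    intro i hi
    simp only [W]
    rw [hset i hi, Set.image_insert_eq, Ideal.span_insert, sup_assoc]
  have hVW : ∀ i, i ≤ n → V i = W i := by
    intro i
    induction i with
    | zero =>
      intro _
      simp [V, W]
    | succ i ih =>
      intro hi
      have hi' : i < n := hi
      have ih' := ih hi'.le
      rw [hVsucc i hi', hWsucc i hi', ← ih']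
      apply le_antisymm
      · refine sup_le ?_ le_sup_right
        rw [Ideal.span_singleton_le_iff_mem]
        -- u_i ∈ span{τ u_i} ⊔ V i
        have h1 : (τ ⟨i, hi'⟩)⁻¹ • u ⟨i, hi'⟩ ∈ V (i + 1) := by
          apply hVst (i + 1)
          rw [hVsucc i hi']
          exact Ideal.mem_sup_left (Ideal.mem_span_singleton_self _)
        rw [hVsucc i hi'] at h1
        obtain ⟨y, hy, v, hv, hyv⟩ := Submodule.mem_sup.mp h1
        obtain ⟨c, rfl⟩ := Ideal.mem_span_singleton'.mp hy
        have h2 : u ⟨i, hi'⟩ = τ ⟨i, hi'⟩ • (c * u ⟨i, hi'⟩ + v) := by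
          rw [hyv, smul_inv_smul]
        have h3 : τ ⟨i, hi'⟩ • (c * u ⟨i, hi'⟩ + v) ∈
            Ideal.span {τ ⟨i, hi'⟩ • u ⟨i, hi'⟩} ⊔ V i := by
          rw [smul_add, smul_mul']
          exact Submodule.add_mem_sup
            (Ideal.mul_mem_left _ _ (Ideal.mem_span_singleton_self _)) (hVst i _ v hv)
        rw [← h2] at h3
        exact h3
      · refine sup_le ?_ le_sup_right
        rw [Ideal.span_singleton_le_iff_mem, ← hVsucc i hi']
        apply hVst (i + 1)
        rw [hVsucc i hi']
        exact Ideal.mem_sup_left (Ideal.mem_span_singleton_self _)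
  have hall : {j : Fin n | j.val < n} = Set.univ := by
    ext j; simp
  have hVn : V n = m := by
    simp only [V]
    rw [hall, Set.image_univ, hu]
    exact sup_eq_left.mpr (Ideal.pow_le_self (by norm_num))
  have hWn : W n = Ideal.span (Set.range fun i => τ i • u i) ⊔ m ^ 2 := by
    simp only [W]
    rw [hall, Set.image_univ]
  have hle : Ideal.span (Set.range fun i => τ i • u i) ≤ m := by
    rw [Ideal.span_le]
    rintro _ ⟨i, rfl⟩
    apply hmst
    rw [← hu]
    exact Ideal.subset_span ⟨i, rfl⟩
  apply le_antisymm hle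
  have hfg : (m : Submodule A A).FG := IsNoetherian.noetherian m
  refine Submodule.le_of_le_smul_of_le_jacobson_bot (I := m) hfg
    (IsLocalRing.maximalIdeal_le_jacobson ⊥) ?_
  rw [smul_eq_mul, ← pow_two, ← hWn, ← hVW n le_rfl, hVn]

end Groth.Agent.S15795
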