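import Groth.Statements.S15796
import Mathlib
-- import your own Groth.Agent.* helpers here

set_option autoImplicit false
universe u v
open WildQuot

namespace Groth.Agent.S15796

/-- Let `A` be a Noetherian local ring of Krull dimension `n` whose maximal ideal `m` is generated by
`u_1, …, u_n`, and let a finite group `G` act on `A` by ring automorphisms. If some `σ ∈ G` maps
some `u_i` into the ideal generated by the `u_j` with `j ≠ i`, then the system `u` is not weakly
admissible: for some choice `σ_1, …, σ_n ∈ G` the radical of `(σ_1 u_1, …, σ_n u_n)` does not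
contain `m`. (The published statement is for a linear action on `k[[u_1, …, u_n]]` whose matrix has
a zero diagonal entry; this row assumes instead that some `σ u_i` lies in the ideal generated by the
other `u_j`.) -/
theorem result
    (A : Type u) [CommRing A] [IsLocalRing A] [IsNoetherianRing A]
    (G : Type v) [Group G] [Finite G] [MulSemiringAction G A]
    (n : ℕ) (hn : ringKrullDim A = n) (u : Fin n → A)
    (hu : Ideal.span (Set.range u) = IsLocalRing.maximalIdeal A)
    (σ : G) (i : Fin n) (hσ : σ • u i ∈ Ideal.span (u '' {j | j ≠ i})) :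
    ∃ τ : Fin n → G,
      ¬ IsLocalRing.maximalIdeal A ≤ (Ideal.span (Set.range fun j => τ j • u j)).radical := by
  classical
  refine ⟨fun j => if j = i then σ else 1, ?_⟩
  intro hle
  set J' : Ideal A := Ideal.span (u '' {j | j ≠ i}) with hJ'
  have hJJ' : Ideal.span (Set.range fun j => (if j = i then σ else 1 : G) • u j) ≤ J' := by
    rw [Ideal.span_le]
    rintro _ ⟨j, rfl⟩
    by_cases hj : j = i
    · subst hj
      simpa using hσ
    · simp only [hj, if_false, one_smul]
      exact Ideal.subset_span ⟨j, hj, rfl⟩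
  have hm_le : IsLocalRing.maximalIdeal A ≤ J'.radical := hle.trans (Ideal.radical_mono hJJ')
  have hJ'm : J' ≤ IsLocalRing.maximalIdeal A := by
    rw [Ideal.span_le]
    rintro _ ⟨j, _, rfl⟩
    rw [← hu]
    exact Ideal.subset_span ⟨j, rfl⟩
  have hmin : IsLocalRing.maximalIdeal A ∈ J'.minimalPrimes := by
    refine ⟨⟨inferInstance, hJ'm⟩, ?_⟩
    rintro P ⟨hP, hJP⟩ _
    exact hm_le.trans ((hP.radical_le_iff).mpr hJP)
  have hfin : (u '' {j | j ≠ i}).Finite := (Set.toFinite _).image u
  have h1 := Ideal.height_le_card_of_mem_minimalPrimes_span hfin hmin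
  have h2 : (u '' {j | j ≠ i}).ncard ≤ n - 1 := by
    refine (Set.ncard_image_le (Set.toFinite _)).trans ?_
    have : {j : Fin n | j ≠ i} = ((Finset.univ.erase i : Finset (Fin n)) : Set (Fin n)) := by
      ext j; simp
    rw [this, Set.ncard_coe_finset, Finset.card_erase_of_mem (Finset.mem_univ _), Finset.card_univ,
      Fintype.card_fin]
  have h3 : ((IsLocalRing.maximalIdeal A).height : WithBot ℕ∞) = (n : WithBot ℕ∞) := by
    rw [IsLocalRing.maximalIdeal_height_eq_ringKrullDim, hn]
  have hnpos : 0 < n := i.pos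
  have h4 : (IsLocalRing.maximalIdeal A).height ≤ ((n - 1 : ℕ) : ℕ∞) :=
    h1.trans (by exact_mod_cast h2)
  have h5 : ((IsLocalRing.maximalIdeal A).height : WithBot ℕ∞) ≤ (((n - 1 : ℕ) : ℕ∞) : WithBot ℕ∞) := by
    exact_mod_cast h4
  rw [h3] at h5
  have h6 : (n : ℕ∞) ≤ ((n - 1 : ℕ) : ℕ∞) := by exact_mod_cast h5
  have h7 : n ≤ n - 1 := by exact_mod_cast h6
  omega

end Groth.Agent.S15796
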