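import Groth.Statements.S15811
import Mathlib.Algebra.CharP.Basic
import Mathlib.Algebra.CharP.Frobenius
-- import your own Groth.Agent.* helpers here

set_option autoImplicit false
universe u
open WildQuot

namespace Groth.Agent.S15811

/-- Let `R` be an integrally closed domain of prime characteristic `p` with fraction field `K`, and `α ∈
R`. Then `α ≠ 0` and the polynomial `T ^ p - α T` splits into linear factors over `K` — which says
that the finite flat group scheme `Spec R[T]/(T ^ p - α T)` of order `p` has constant generic fibre
(its `p` roots are then distinct) — if and only if `α = a ^ (p-1)` for some nonzero `a ∈ R`. (The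
published statement is that the generic fibre of the finite flat group scheme of order `p` with
parameters `α, β` satisfying `α β = 0`, whose underlying scheme is `Spec R[T]/(T ^ p - α T)`, is
constant if and only if `β = 0` and `α` is the `(p-1)`-th power of a nonzero element of `R`; this
row states the polynomial condition, in which `α ≠ 0` already forces `β = 0` over a domain.) -/
theorem result
    (p : ℕ) [Fact p.Prime] (R : Type u) [CommRing R] [IsDomain R] [IsIntegrallyClosed R]
    [CharP R p] (α : R) :
    (α ≠ 0 ∧ (Polynomial.map (algebraMap R (FractionRing R))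
        (Polynomial.X ^ p - Polynomial.C α * Polynomial.X)).Splits) ↔
      ∃ a : R, a ≠ 0 ∧ α = a ^ (p - 1) := by
  classical
  have hp : p.Prime := Fact.out
  have hp2 : 2 ≤ p := hp.two_le
  have hp1 : 1 ≤ p - 1 := by omega
  have hpp : p = (p - 1) + 1 := by omega
  constructor
  · rintro ⟨hα, hs⟩
    have hinj : Function.Injective (algebraMap R (FractionRing R)) :=
      IsFractionRing.injective R (FractionRing R)
    have hfac : Polynomial.map (algebraMap R (FractionRing R))
        (Polynomial.X ^ p - Polynomial.C α * Polynomial.X) =
        (Polynomial.X ^ (p - 1) - Polynomial.C (algebraMap R (FractionRing R) α)) *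
          Polynomial.X := by
      simp only [Polynomial.map_sub, Polynomial.map_pow, Polynomial.map_X, Polynomial.map_mul,
        Polynomial.map_C]
      conv_lhs => rw [hpp, pow_succ]
      ring
    have hne : Polynomial.map (algebraMap R (FractionRing R))
        (Polynomial.X ^ p - Polynomial.C α * Polynomial.X) ≠ 0 := by
      rw [hfac]
      apply mul_ne_zero _ Polynomial.X_ne_zero
      exact Polynomial.X_pow_sub_C_ne_zero (by omega) _
    have hg : (Polynomial.X ^ (p - 1) -
        Polynomial.C (algebraMap R (FractionRing R) α)).Splits :=
      Polynomial.Splits.of_dvd hs hne ⟨Polynomial.X, hfac⟩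
    have hdeg : (Polynomial.X ^ (p - 1) -
        Polynomial.C (algebraMap R (FractionRing R) α)).degree ≠ 0 := by
      rw [Polynomial.degree_X_pow_sub_C (by omega)]
      intro h
      have : ((p - 1 : ℕ) : WithBot ℕ) = ((0 : ℕ) : WithBot ℕ) := h
      have := Nat.cast_injective this
      omega
    obtain ⟨b, hb⟩ := hg.exists_eval_eq_zero hdeg
    simp only [Polynomial.eval_sub, Polynomial.eval_pow, Polynomial.eval_X,
      Polynomial.eval_C] at hb
    have hb' : b ^ (p - 1) = algebraMap R (FractionRing R) α := sub_eq_zero.mp hb
    have hbint : IsIntegral R (b ^ (p - 1)) := by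
      rw [hb']; exact isIntegral_algebraMap
    obtain ⟨a, ha⟩ := IsIntegrallyClosed.exists_algebraMap_eq_of_isIntegral_pow
      (K := FractionRing R) (by omega : 0 < p - 1) hbint
    have hαa : α = a ^ (p - 1) := by
      apply hinj
      rw [map_pow, ha, hb']
    refine ⟨a, ?_, hαa⟩
    rintro rfl
    apply hα
    rw [hαa, zero_pow (by omega)]
  · rintro ⟨a, ha, rfl⟩
    refine ⟨pow_ne_zero _ ha, ?_⟩
    apply Polynomial.Splits.map
    rw [Polynomial.splits_iff_card_roots]
    have hdeglt : (Polynomial.C (a ^ (p - 1)) * Polynomial.X : Polynomial R).degree < (p : ℕ) :=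
      lt_of_le_of_lt (Polynomial.degree_C_mul_X_le _) (by exact_mod_cast hp2)
    have hmonic : (Polynomial.X ^ p - Polynomial.C (a ^ (p - 1)) * Polynomial.X :
        Polynomial R).Monic := Polynomial.monic_X_pow_sub hdeglt
    have hnatdeg : (Polynomial.X ^ p - Polynomial.C (a ^ (p - 1)) * Polynomial.X :
        Polynomial R).natDegree = p := by
      have h1 : (Polynomial.X ^ p - Polynomial.C (a ^ (p - 1)) * Polynomial.X :
          Polynomial R).degree = (p : ℕ) := by
        rw [Polynomial.degree_sub_eq_left_of_degree_lt] <;> rw [Polynomial.degree_X_pow]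
        exact hdeglt
      exact Polynomial.natDegree_eq_of_degree_eq_some h1
    have hf0 : (Polynomial.X ^ p - Polynomial.C (a ^ (p - 1)) * Polynomial.X :
        Polynomial R) ≠ 0 := hmonic.ne_zero
    set S : Finset R := (Finset.range p).image (fun i : ℕ => (i : R) * a) with hS
    have hScard : S.card = p := by
      rw [hS, Finset.card_image_of_injOn, Finset.card_range]
      intro i hi j hj hij
      have hi' : i ∈ Set.Iio p := by simpa using hi
      have hj' : j ∈ Set.Iio p := by simpa using hj
      exact CharP.natCast_injOn_Iio R p hi' hj' (mul_right_cancel₀ ha hij)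
    have hSroots : S.val ≤ (Polynomial.X ^ p - Polynomial.C (a ^ (p - 1)) * Polynomial.X :
        Polynomial R).roots := by
      rw [Multiset.le_iff_subset S.nodup]
      intro r hr
      rw [Finset.mem_val, hS, Finset.mem_image] at hr
      obtain ⟨i, _, rfl⟩ := hr
      rw [Polynomial.mem_roots hf0, Polynomial.IsRoot.def]
      simp only [Polynomial.eval_sub, Polynomial.eval_pow, Polynomial.eval_X, Polynomial.eval_mul,
        Polynomial.eval_C]
      have hfrob : ((i : R)) ^ p = (i : R) := by
        have := map_natCast (frobenius R p) i
        rwa [frobenius_def] at this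
      have hap : a ^ p = a ^ (p - 1) * a := by rw [← pow_succ, ← hpp]
      rw [mul_pow, hfrob, hap]
      ring
    apply le_antisymm
    · rw [← hnatdeg]; exact Polynomial.card_roots' _
    · rw [hnatdeg]
      calc p = S.card := hScard.symm
        _ = Multiset.card S.val := rfl
        _ ≤ _ := Multiset.card_le_card hSroots

end Groth.Agent.S15811
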