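import Groth.Statements.S15813
import Groth.Agent.Lib.Helper79.ASCond
-- import your own Groth.Agent.* helpers here

set_option autoImplicit false
universe u
open WildQuot

namespace Groth.Agent.S15813


theorem main
    (p : ℕ) [Fact p.Prime] (k : Type u) [Field k] [CharP k p]
    (K : Type*) [Field K] [Algebra (PowerSeries k) K] [IsFractionRing (PowerSeries k) K]
    (σ : PowerSeries k ≃ₐ[k] PowerSeries k) (hσp : σ ^ p = 1)
    (m : ℕ) (hm : (σ PowerSeries.X - PowerSeries.X).order = ((m + 1 : ℕ) : ℕ∞))
    (f : PowerSeries k) (hfσ : σ f = f) (hf0 : PowerSeries.constantCoeff f ≠ 0)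
    (μ : ℕ) (hμ : 0 < μ) (hpμ : ¬ p ∣ μ)
    (z : K)
    (hz : z ^ p - z = algebraMap (PowerSeries k) K f /
      algebraMap (PowerSeries k) K
        (∏ i ∈ Finset.range p, (σ ^ i) PowerSeries.X) ^ μ) :
    μ = m := by
  classical
  have hp : p.Prime := Fact.out
  haveI : CharP (PowerSeries k) p :=
    charP_of_injective_algebraMap (algebraMap k (PowerSeries k)).injective p
  have hm1 : 1 ≤ m := Groth.Agent.Lib.Helper79.ASCond.one_le_break p σ hσp m hm
  set x : PowerSeries k := ∏ i ∈ Finset.range p, (σ ^ i) PowerSeries.X with hx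
  -- order of x
  have hxord : x.order = (p : ℕ∞) := by
    rw [hx, PowerSeries.order_prod]
    have : ∀ i ∈ Finset.range p, ((σ ^ i) (PowerSeries.X : PowerSeries k)).order = 1 := by
      intro i _
      rw [Groth.Agent.Lib.Helper79.ASCond.order_map, PowerSeries.order_X]
    rw [Finset.sum_congr rfl this]
    simp
  have hx0 : x ≠ 0 := by
    intro h0
    rw [h0, PowerSeries.order_zero] at hxord
    exact ENat.top_ne_natCast _ hxord
  -- σ x = x
  have hσx : σ x = x := by
    have h1 : σ x = ∏ i ∈ Finset.range p, (σ ^ (i + 1)) PowerSeries.X := by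
      rw [hx, map_prod]
      apply Finset.prod_congr rfl
      intro i _
      rw [pow_succ', AlgEquiv.mul_apply]
    have h2 : (∏ i ∈ Finset.range p, (σ ^ (i + 1)) (PowerSeries.X : PowerSeries k)) * (σ ^ 0) PowerSeries.X =
        x * (σ ^ p) PowerSeries.X := by
      rw [hx, ← Finset.prod_range_succ' (fun i ↦ (σ ^ i) (PowerSeries.X : PowerSeries k)),
        Finset.prod_range_succ]
    rw [hσp, pow_zero] at h2
    rw [h1]
    exact mul_right_cancel₀ (PowerSeries.X_ne_zero) h2
  -- the element y
  set N := μ * (p - 1) with hN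
  have hxK : algebraMap (PowerSeries k) K x ≠ 0 := by
    rw [Ne, map_eq_zero_iff _ (IsFractionRing.injective (PowerSeries k) K)]
    exact hx0
  have hyK : (z * algebraMap (PowerSeries k) K x ^ μ) ^ p =
      algebraMap (PowerSeries k) K x ^ N * (z * algebraMap (PowerSeries k) K x ^ μ) +
        algebraMap (PowerSeries k) K f * algebraMap (PowerSeries k) K x ^ N := by
    have hz' : z ^ p = z + algebraMap (PowerSeries k) K f / algebraMap (PowerSeries k) K x ^ μ := by
      rw [← hz]; ring
    have hpow : algebraMap (PowerSeries k) K x ^ (μ * p) =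
        algebraMap (PowerSeries k) K x ^ μ * algebraMap (PowerSeries k) K x ^ N := by
      rw [← pow_add, hN]
      congr 1
      have : 1 ≤ p := hp.one_lt.le
      obtain ⟨p', rfl⟩ : ∃ p', p = p' + 1 := ⟨p - 1, by omega⟩
      simp only [Nat.add_sub_cancel]
      ring
    have hxμ : algebraMap (PowerSeries k) K x ^ μ ≠ 0 := pow_ne_zero _ hxK
    rw [mul_pow, hz', ← pow_mul, hpow]
    field_simp
  have hint : IsIntegral (PowerSeries k) (z * algebraMap (PowerSeries k) K x ^ μ) := by
    refine ⟨Polynomial.X ^ p + (-(Polynomial.C (x ^ N) * Polynomial.X + Polynomial.C (f * x ^ N))), ?_, ?_⟩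
    · apply Polynomial.monic_X_pow_add
      rw [Polynomial.degree_neg]
      refine lt_of_le_of_lt (Polynomial.degree_add_le _ _) ?_
      rw [max_lt_iff]
      constructor
      · refine lt_of_le_of_lt (Polynomial.degree_C_mul_X_le _) ?_
        exact_mod_cast hp.one_lt
      · refine lt_of_le_of_lt Polynomial.degree_C_le ?_
        exact_mod_cast hp.pos
    · simp only [Polynomial.eval₂_add, Polynomial.eval₂_pow, Polynomial.eval₂_X, Polynomial.eval₂_neg,
        Polynomial.eval₂_mul, Polynomial.eval₂_C, map_mul, map_pow]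
      rw [hyK]; ring
  obtain ⟨y, hy⟩ := IsIntegrallyClosed.algebraMap_eq_of_integral hint
  have hEq : y ^ p = x ^ N * y + f * x ^ N := by
    apply IsFractionRing.injective (PowerSeries k) K
    simp only [map_add, map_mul, map_pow, hy]
    exact hyK
  -- order of y
  have hNpos : 0 < N := by
    rw [hN]
    exact Nat.mul_pos hμ (by have := hp.one_lt; omega)
  have hford : f.order = 0 := Groth.Agent.Lib.Helper79.ASCond.order_eq_zero_of_constantCoeff_ne_zero hf0
  have hy0 : y ≠ 0 := by
    intro h0
    rw [h0, zero_pow hp.ne_zero, mul_zero, zero_add] at hEq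
    have : f * x ^ N ≠ 0 := mul_ne_zero (by
      intro hf; rw [hf] at hf0; simp at hf0) (pow_ne_zero _ hx0)
    exact this hEq.symm
  obtain ⟨e, he⟩ : ∃ e : ℕ, y.order = e := ⟨y.order.toNat, (PowerSeries.coe_toNat_order hy0).symm⟩
  have h1ord : (x ^ N * y).order = ((N * p + e : ℕ) : ℕ∞) := by
    rw [PowerSeries.order_mul, PowerSeries.order_pow, hxord, he]
    push_cast; simp
  have h2ord : (f * x ^ N).order = ((N * p : ℕ) : ℕ∞) := by
    rw [PowerSeries.order_mul, PowerSeries.order_pow, hxord, hford]
    push_cast; simp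
  have h3ord : (y ^ p).order = ((p * e : ℕ) : ℕ∞) := by
    rw [PowerSeries.order_pow, he]
    push_cast; simp
  have heN : e = N := by
    rcases Nat.eq_zero_or_pos e with he0 | he0
    · -- e = 0 impossible
      exfalso
      have h4 := PowerSeries.min_order_le_order_add (x ^ N * y) (f * x ^ N)
      rw [← hEq, h1ord, h2ord, h3ord, he0] at h4
      have := hp.pos
      have hNp : 0 < N * p := Nat.mul_pos hNpos hp.pos
      rcases min_le_iff.mp h4 with h5 | h5
      · have h6 : N * p + 0 ≤ p * 0 := by exact_mod_cast h5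
        omega
      · have h6 : N * p ≤ p * 0 := by exact_mod_cast h5
        omega
    · have hne : (x ^ N * y).order ≠ (f * x ^ N).order := by
        rw [h1ord, h2ord]
        intro h
        have : N * p + e = N * p := by exact_mod_cast h
        omega
      have h4 := PowerSeries.order_add_of_order_ne _ _ hne
      rw [← hEq, h1ord, h2ord, h3ord, min_eq_right (by exact_mod_cast Nat.le_add_right _ _)] at h4
      have h5 : p * e = N * p := by exact_mod_cast h4
      rw [mul_comm] at h5
      exact Nat.eq_of_mul_eq_mul_right hp.pos h5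
  rw [heN] at he
  -- p ∤ N
  have hNk : (N : k) ≠ 0 := by
    rw [Ne, CharP.cast_eq_zero_iff k p, hN, hp.dvd_mul]
    rintro (h | h)
    · exact hpμ h
    · have := Nat.le_of_dvd (by have := hp.one_lt; omega) h
      have := hp.one_lt
      omega
  -- key lemma
  have hd := Groth.Agent.Lib.Helper79.ASCond.order_map_sub σ m hm1 hm y N he hNk
  -- d^p = x^N d
  have hdEq : (σ y - y) ^ p = x ^ N * (σ y - y) := by
    have hσEq : (σ y) ^ p = x ^ N * σ y + f * x ^ N := by
      have := congrArg σ hEq
      simpa [map_add, map_mul, map_pow, hσx, hfσ] using this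
    rw [sub_pow_char, hσEq, hEq]; ring
  have hord := congrArg PowerSeries.order hdEq
  rw [PowerSeries.order_pow, PowerSeries.order_mul, PowerSeries.order_pow, hxord, hd] at hord
  have hnat : p * (N + m) = N * p + (N + m) := by
    simp only [nsmul_eq_mul] at hord
    exact_mod_cast hord
  obtain ⟨p', rfl⟩ : ∃ p', p = p' + 1 := ⟨p - 1, by have := hp.pos; omega⟩
  have hp' : 0 < p' := by have := hp.one_lt; omega
  rw [hN] at hnat
  simp only [Nat.add_sub_cancel] at hnat
  have h7 : p' * m = p' * μ := by nlinarith
  exact (Nat.eq_of_mul_eq_mul_left hp' h7).symm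

/-- Let `k` be a field of characteristic `p > 0`, `A = k[[u]]`, and `σ` a `k`-algebra automorphism of
`A` of order exactly `p`, with ramification break `m`: `σ u - u` has order `m + 1`. Let `x = ∏_{i <
p} σ^i u` be the norm of `u`, let `f ∈ A` be `σ`-invariant with nonzero constant term (a unit of the
invariant ring `k[[x]]`), let `μ > 0` be prime to `p`, and let `z ∈ Frac(A)` satisfy the
Artin–Schreier equation `z ^ p - z = f / x ^ μ`. Then `μ = m`. (The published statement also records
that `Frac(A) = Frac(A^σ)(z)`; that follows from the equation since `p` does not divide `μ`, so it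
is not repeated as a hypothesis.) -/
theorem result
    (p : ℕ) [Fact p.Prime] (k : Type u) [Field k] [CharP k p]
    (σ : PowerSeries k ≃ₐ[k] PowerSeries k) (hσp : σ ^ p = 1) (hσ1 : σ ≠ 1)
    (m : ℕ) (hm : (σ PowerSeries.X - PowerSeries.X).order = ((m + 1 : ℕ) : ℕ∞))
    (f : PowerSeries k) (hfσ : σ f = f) (hf0 : PowerSeries.constantCoeff f ≠ 0)
    (μ : ℕ) (hμ : 0 < μ) (hpμ : ¬ p ∣ μ)
    (z : FractionRing (PowerSeries k))
    (hz : z ^ p - z = algebraMap (PowerSeries k) (FractionRing (PowerSeries k)) f /
      algebraMap (PowerSeries k) (FractionRing (PowerSeries k))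
        (∏ i ∈ Finset.range p, (σ ^ i) PowerSeries.X) ^ μ) :
    μ = m := by
  exact main p k (FractionRing (PowerSeries k)) σ hσp m hm f hfσ hf0 μ hμ hpμ z hz

end Groth.Agent.S15813
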