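import Groth.Statements.S15814
import Groth.Agent.Lib.Helper84.Coprod1
import Groth.Agent.Lib.Helper84.Coprod2
import Groth.Agent.Lib.Helper96.GeomRegular4

set_option autoImplicit false
universe u v w
open WildQuot

namespace Groth.Agent.S15814

theorem isLocalRing_subalgebra {R : Type u} [CommRing R] {A : Type v} [CommRing A] [Algebra R A]
    [IsLocalRing A] [Algebra.IsIntegral R A] (B : Subalgebra R A) : IsLocalRing B := by
  have hint : Algebra.IsIntegral B A := Algebra.IsIntegral.tower_top (R := R)
  have hinj : Function.Injective (algebraMap B A) := Subtype.val_injective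
  have hmax : ((IsLocalRing.maximalIdeal A).comap (algebraMap B A)).IsMaximal :=
    Ideal.isMaximal_comap_of_isIntegral_of_isMaximal (IsLocalRing.maximalIdeal A)
  refine IsLocalRing.of_unique_max_ideal ⟨_, hmax, fun M hM => ?_⟩
  obtain ⟨Q, hQ, hQM⟩ := Ideal.exists_ideal_over_maximal_of_isIntegral (S := A) M (by
    rw [(RingHom.injective_iff_ker_eq_bot _).1 hinj]; exact bot_le)
  rw [← hQM, IsLocalRing.eq_maximalIdeal hQ]

theorem comap_maximalIdeal_subalgebra {R : Type u} [CommRing R] {A : Type v} [CommRing A]
    [Algebra R A] [IsLocalRing A] [Algebra.IsIntegral R A] (B : Subalgebra R A) [IsLocalRing B] :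
    (IsLocalRing.maximalIdeal A).comap (algebraMap B A) = IsLocalRing.maximalIdeal B := by
  have hint : Algebra.IsIntegral B A := Algebra.IsIntegral.tower_top (R := R)
  have hmax : ((IsLocalRing.maximalIdeal A).comap (algebraMap B A)).IsMaximal :=
    Ideal.isMaximal_comap_of_isIntegral_of_isMaximal (IsLocalRing.maximalIdeal A)
  exact IsLocalRing.eq_maximalIdeal hmax

open IsLocalRing in
theorem atPrime_maximalIdeal (A : Type v) [CommRing A] [IsRegularLocalRing A] :
    IsRegularLocalRing (Localization.AtPrime (maximalIdeal A)) := by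
  let e : A ≃ₐ[A] (Localization.AtPrime (maximalIdeal A)) :=
    IsLocalization.atUnits A (maximalIdeal A).primeCompl (fun x ↦ by simpa using! fun a ↦ a)
  exact IsRegularLocalRing.of_ringEquiv e.toRingEquiv

open IsLocalRing in
theorem of_atPrime_maximalIdeal (B : Type v) [CommRing B] [IsLocalRing B]
    (h : IsRegularLocalRing (Localization.AtPrime (maximalIdeal B))) : IsRegularLocalRing B := by
  let e : B ≃ₐ[B] (Localization.AtPrime (maximalIdeal B)) :=
    IsLocalization.atUnits B (maximalIdeal B).primeCompl (fun x ↦ by simpa using! fun a ↦ a)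
  exact IsRegularLocalRing.of_ringEquiv e.toRingEquiv.symm

open IsLocalRing in
theorem of_atPrime_eq (B : Type v) [CommRing B] [IsLocalRing B] (P : Ideal B) [P.IsPrime]
    (hP : P = maximalIdeal B) (h : IsRegularLocalRing (Localization.AtPrime P)) :
    IsRegularLocalRing B := by
  subst hP
  exact of_atPrime_maximalIdeal B h

/-- Let `R` be a regular local ring and `A` a regular local ring, finite over `R` (with `R → A`
injective) and with the same residue field; let a finite commutative group `H` of order `p ^ n` (`p`
prime) act faithfully on `A` by `R`-algebra automorphisms with ring of invariants exactly `R`, and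
let `G_1, …, G_n ≤ H` be subgroups of order `p` generating `H`, each the inertia subgroup of some
height-one prime of `A`. Put `G_i^⊥ =` the subgroup generated by the `G_j` with `j ≠ i` and `B_i =
A^{G_i^⊥}`. Suppose `A` is the coproduct of the `R`-algebras `B_1, …, B_n`: every family of
`R`-algebra maps `B_i → C` into a commutative `R`-algebra `C` is the restriction of a unique
`R`-algebra map `A → C` (that is, the product map `B_1 ⊗_R ⋯ ⊗_R B_n → A` is an isomorphism). Then
every `B_i` is a free `R`-module and a regular local ring. (The published statement is for `A`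
complete regular with an action ramified precisely at the origin, `R` a norm subring and `H` the
Galois group of `Frac(A)/Frac(R)`, when that extension is Galois, and adds that the branch-locus
equations `a_1, …, a_n` of the `B_i` over `R` form a system of parameters of `R`; that last clause
is not included, and the test algebras `C` are taken in one universe large enough to contain the
tensor product.) -/
theorem result
    (p : ℕ) [Fact p.Prime] (R : Type u) [CommRing R] [IsRegularLocalRing R]
    (A : Type v) [CommRing A] [IsRegularLocalRing A]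
    [Algebra R A] [Module.Finite R A] (hinj : Function.Injective (algebraMap R A))
    (hres : Function.Surjective (IsLocalRing.residue A ∘ algebraMap R A))
    (H : Type w) [Group H] [Finite H] [MulSemiringAction H A] [SMulCommClass H R A] [FaithfulSMul H A]
    (hfix : ∀ a : A, (∀ h : H, h • a = a) → a ∈ Set.range (algebraMap R A))
    (hcomm : ∀ g h : H, g * h = h * g)
    (n : ℕ) (hcard : Nat.card H = p ^ n) (Gi : Fin n → Subgroup H)
    (hGi : ∀ i, Nat.card (Gi i) = p) (hsup : (⨆ i, Gi i) = ⊤)
    (hinert : ∀ i, ∃ P : Ideal A, P.IsPrime ∧ P.height = 1 ∧ P.inertia H = Gi i)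
    (hcoprod : ∀ (C : Type (max u v)) [CommRing C] [Algebra R C]
      (φ : ∀ i : Fin n,
        FixedPoints.subalgebra R A ↥(⨆ j ∈ (Finset.univ.erase i : Finset (Fin n)), Gi j : Subgroup H) →ₐ[R] C),
      ∃! ψ : A →ₐ[R] C, ∀ i
        (x : FixedPoints.subalgebra R A ↥(⨆ j ∈ (Finset.univ.erase i : Finset (Fin n)), Gi j : Subgroup H)),
        ψ x = φ i x) :
    ∀ i, Module.Free R
        (FixedPoints.subalgebra R A ↥(⨆ j ∈ (Finset.univ.erase i : Finset (Fin n)), Gi j : Subgroup H)) ∧
      IsRegularLocalRing
        (FixedPoints.subalgebra R A ↥(⨆ j ∈ (Finset.univ.erase i : Finset (Fin n)), Gi j : Subgroup H)) := by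
  intro i
  have hfreeA : Module.Free R A := Groth.Agent.Lib.Helper84.Coprod.free_of_finite_regular R A hinj
  obtain ⟨s, hs⟩ := Groth.Agent.Lib.Helper84.Coprod.exists_retraction R A hinj
  let Bs : Fin n → Subalgebra R A := fun i =>
    FixedPoints.subalgebra R A ↥(⨆ j ∈ (Finset.univ.erase i : Finset (Fin n)), Gi j : Subgroup H)
  have hco : ∀ (C : Type (max u v)) [CommRing C] [Algebra R C] (φ : ∀ j, Bs j →ₐ[R] C),
      ∃! ψ : A →ₐ[R] C, ∀ j (x : Bs j), ψ x = φ j x := hcoprod
  have hproj : Module.Projective R (Bs i) :=
    Groth.Agent.Lib.Helper84.Coprod.projective_B Bs i hco s hs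
  have hflat : Module.Flat (Bs i) A := Groth.Agent.Lib.Helper84.Coprod.flat_over_B Bs i hco s hs
  have hNA : IsNoetherian R A := isNoetherian_of_isNoetherianRing_of_finite R A
  have hfin : Module.Finite R (Bs i) :=
    Module.Finite.of_injective (Bs i).val.toLinearMap Subtype.val_injective
  have hint : Algebra.IsIntegral R A := Algebra.IsIntegral.of_finite R A
  have hloc : IsLocalRing (Bs i) := isLocalRing_subalgebra (Bs i)
  have hcomap := comap_maximalIdeal_subalgebra (Bs i)
  have hNB : IsNoetherianRing (Bs i) := IsNoetherianRing.of_finite R (Bs i)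
  refine ⟨Module.free_of_flat_of_isLocalRing, ?_⟩
  have h1 := Groth.Agent.Lib.Helper96.isRegularLocalRing_atPrime_comap_of_flat (Bs i) A
    (IsLocalRing.maximalIdeal A) (atPrime_maximalIdeal A)
  exact of_atPrime_eq (Bs i) _ hcomap h1

end Groth.Agent.S15814
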