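import Groth.Statements.S15816
import Mathlib
import Groth.Agent.Lib.Helper22.KoszulScaled
import Groth.Agent.S15821
-- import your own Groth.Agent.* helpers here

set_option autoImplicit false
universe u
open CategoryTheory
open scoped TensorProduct
open Koszul

namespace Groth.Agent.S15816

section PRE
open Groth.Agent.Lib.Helper22.KoszulScaled

variable {A : Type u} [CommRing A]

theorem main (l : List A)
    (hl : RingTheory.Sequence.IsWeaklyRegular A l) (x : A) (hx : x ∈ nonZeroDivisors A) (q : ℤ) (hq : q < 0) :
    Nonempty ((Koszul.koszul A (l.map (fun f => x * f))).homology q ≅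
      ModuleCat.of A (↥(LinearMap.ker ((Koszul.koszul A l).d q (q + 1)).hom) ⊗[A] (A ⧸ Ideal.span {x}))) := by
  obtain ⟨e1⟩ := Groth.Agent.Lib.Helper22.KoszulScaled.main l x hx q
  have hreg : LCI.IsKoszulRegularSeq A l := (Groth.Agent.S15821.result A l hl).1
  have hz : Limits.IsZero ((Koszul.koszul A l).homology q) := hreg q (by omega)
  set K := Koszul.koszul A l with hK
  set Z := LinearMap.ker (K.d q (q + 1)).hom with hZ
  set B := LinearMap.range (K.d (q - 1) q).hom with hB
  have hBZ : B ≤ Z := by
    rintro _ ⟨w, rfl⟩
    apply LinearMap.mem_ker.mpr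
    have := congrArg (fun t => t.hom w) (K.d_comp_d (q - 1) q (q + 1))
    simp only [ModuleCat.hom_comp, LinearMap.comp_apply, ModuleCat.hom_zero,
      LinearMap.zero_apply] at this
    exact this
  have hZB : Z ≤ B := by
    have hsub : Subsingleton (↥Z ⧸ Submodule.comap Z.subtype B) := by
      have := (homologyIso K q)
      have hz' : Limits.IsZero (ModuleCat.of A (↥Z ⧸ Submodule.comap Z.subtype B)) :=
        hz.of_iso this.symm
      exact ModuleCat.subsingleton_of_isZero hz'
    rw [Submodule.Quotient.subsingleton_iff] at hsub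
    intro z hz
    have : (⟨z, hz⟩ : Z) ∈ Submodule.comap Z.subtype B := by rw [hsub]; trivial
    exact this
  have hBeq : B = Z := le_antisymm hBZ hZB
  have hcomap : Submodule.comap Z.subtype (Ideal.span {x} • B) =
      (Ideal.span {x} • (⊤ : Submodule A ↥Z)) := by
    rw [hBeq]
    have h1 : (Ideal.span {x} • (⊤ : Submodule A ↥Z)).map Z.subtype = Ideal.span {x} • Z := by
      rw [Submodule.map_smul'', Submodule.map_subtype_top]
    rw [← h1, Submodule.comap_map_eq_of_injective Z.injective_subtype]
  let e2 : (↥Z ⧸ Submodule.comap Z.subtype (Ideal.span {x} • B)) ≃ₗ[A]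
      (↥Z ⧸ (Ideal.span {x} • (⊤ : Submodule A ↥Z))) := Submodule.quotEquivOfEq _ _ hcomap
  let e3 := (TensorProduct.tensorQuotEquivQuotSMul (↥Z) (Ideal.span {x})).symm
  exact ⟨e1.trans (e2.trans e3).toModuleIso⟩

end PRE

/-- Let A be a commutative ring, f = (f_1, …, f_n) a sequence in A that is regular in the weak sense
(f_1 is a non-zero-divisor of A and each f_i is a non-zero-divisor modulo (f_1, …, f_{i-1})), with
Koszul complex K(f) and differentials ∂^q, and let x be a non-zero-divisor of A. Then for every
integer q < 0 the q-th cohomology module of the Koszul complex of (x f_1, …, x f_n) is isomorphic as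
an A-module to Ker(∂^q) ⊗_A A/(x) (existence of an A-linear isomorphism; mapping-cone model of the
Koszul complex). -/
theorem result (A : Type u) [CommRing A] (l : List A)
    (hl : RingTheory.Sequence.IsWeaklyRegular A l) (x : A) (hx : x ∈ nonZeroDivisors A) (q : ℤ) (hq : q < 0) :
    Nonempty ((Koszul.koszul A (l.map (fun f => x * f))).homology q ≅
      ModuleCat.of A (↥(LinearMap.ker ((Koszul.koszul A l).d q (q + 1)).hom) ⊗[A] (A ⧸ Ideal.span {x}))) := by
  exact main l hl x hx q hq

end Groth.Agent.S15816
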