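import Groth.Statements.S15818
import Groth.Agent.Lib.Helper79.ModulePullback

set_option autoImplicit false
universe u
open CategoryTheory
open Koszul

namespace Groth.Agent.S15818


/-- General module-theoretic form: `Z/xB` is the fibre product of `Z/xZ` and `Z/B` over
`Z/(B + xZ)` as soon as `x` acts injectively on `Z/B`. -/
theorem aux (A : Type u) [CommRing A] {N : Type u} [AddCommGroup N] [Module A N]
    (Z B : Submodule A N) (hBZ : B ≤ Z) (x : A)
    (hxH : IsSMulRegular (↥Z ⧸ Submodule.comap Z.subtype B) x) :
    IsPullback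
      (ModuleCat.ofHom (Submodule.factor (Submodule.comap_mono (Submodule.smul_mono le_rfl hBZ) :
        Submodule.comap Z.subtype (Ideal.span {x} • B) ≤
          Submodule.comap Z.subtype (Ideal.span {x} • Z))))
      (ModuleCat.ofHom (Submodule.factor (Submodule.comap_mono (Submodule.smul_le_right) :
        Submodule.comap Z.subtype (Ideal.span {x} • B) ≤
          Submodule.comap Z.subtype B)))
      (ModuleCat.ofHom (Submodule.factor (Submodule.comap_mono le_sup_right :
        Submodule.comap Z.subtype (Ideal.span {x} • Z) ≤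
          Submodule.comap Z.subtype (B ⊔ Ideal.span {x} • Z))))
      (ModuleCat.ofHom (Submodule.factor (Submodule.comap_mono le_sup_left :
        Submodule.comap Z.subtype B ≤
          Submodule.comap Z.subtype (B ⊔ Ideal.span {x} • Z)))) := by
  apply Groth.Agent.Lib.Helper79.moduleCat_isPullback_of_forall
  · ext z
    simp
  · intro z h₁ h₂
    obtain ⟨z, rfl⟩ := Submodule.mkQ_surjective _ z
    simp only [ModuleCat.hom_ofHom, Submodule.mkQ_apply, Submodule.factor, Submodule.mapQ_apply,
      LinearMap.id_coe, id_eq, Submodule.Quotient.mk_eq_zero, Submodule.mem_comap,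
      Submodule.subtype_apply] at h₁ h₂ ⊢
    rw [Submodule.ideal_span_singleton_smul, Submodule.mem_smul_pointwise_iff_exists] at h₁ ⊢
    obtain ⟨z', hz', hzz'⟩ := h₁
    refine ⟨z', ?_, hzz'⟩
    have hreg : x • (Submodule.Quotient.mk (p := Submodule.comap Z.subtype B) ⟨z', hz'⟩) = 0 := by
      rw [← Submodule.Quotient.mk_smul, Submodule.Quotient.mk_eq_zero, Submodule.mem_comap]
      simpa [hzz'] using h₂
    have h0 := hxH (by rw [hreg, smul_zero] :
      x • (Submodule.Quotient.mk (p := Submodule.comap Z.subtype B) ⟨z', hz'⟩) = x • 0)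
    rw [Submodule.Quotient.mk_eq_zero, Submodule.mem_comap] at h0
    exact h0
  · intro z₂ z₃ h
    obtain ⟨z₂, rfl⟩ := Submodule.mkQ_surjective _ z₂
    obtain ⟨z₃, rfl⟩ := Submodule.mkQ_surjective _ z₃
    simp only [ModuleCat.hom_ofHom, Submodule.mkQ_apply, Submodule.factor, Submodule.mapQ_apply,
      LinearMap.id_coe, id_eq] at h
    rw [Submodule.Quotient.eq, Submodule.mem_comap, Submodule.mem_sup] at h
    obtain ⟨b, hb, c, hc, hbc⟩ := h
    have hcZ : c ∈ Z := (Submodule.smul_le_right : Ideal.span {x} • Z ≤ Z) hc
    refine ⟨Submodule.Quotient.mk (z₂ - ⟨c, hcZ⟩), ?_, ?_⟩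
    · simp only [ModuleCat.hom_ofHom, Submodule.mkQ_apply, Submodule.factor, Submodule.mapQ_apply,
        LinearMap.id_coe, id_eq]
      rw [Submodule.Quotient.eq, Submodule.mem_comap]
      have : Z.subtype (z₂ - ⟨c, hcZ⟩ - z₂) = -c := by simp
      rw [this]
      exact Submodule.neg_mem _ hc
    · simp only [ModuleCat.hom_ofHom, Submodule.mkQ_apply, Submodule.factor, Submodule.mapQ_apply,
        LinearMap.id_coe, id_eq]
      rw [Submodule.Quotient.eq, Submodule.mem_comap]
      have : Z.subtype (z₂ - ⟨c, hcZ⟩ - z₃) = b := by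
        have h1 : Z.subtype (z₂ - ⟨c, hcZ⟩ - z₃) = Z.subtype (z₂ - z₃) - c := by
          simp; abel
        rw [h1, ← hbc]; abel
      rw [this]
      exact hb

/-- Let A be a commutative ring, f = (f_1, …, f_n) a finite sequence in A with Koszul complex K = K(f)
(mapping-cone model) and differentials ∂, q an integer, Z = Ker(∂^q) and B = Im(∂^{q-1}), so B ⊆ Z
inside K^q (this inclusion is carried as the hypothesis hBZ). Let x be a non-zero-divisor of A which
moreover acts injectively on the cohomology module Z/B (for Noetherian A this says that x lies in no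
associated prime of Z/B, which is how the published statement phrases it; the published argument
uses exactly the injectivity). Then the commuting square of quotient projections with corners Z/xB
(top left; it is isomorphic to the q-th cohomology of the Koszul complex of (x f_1, …, x f_n)), Z/xZ
= Z ⊗ A/(x) (top right), Z/B (bottom left) and Z/(B + xZ) = (Z/B) ⊗ A/(x) (bottom right) is
cartesian in the category of A-modules. All four corners are written as quotients of Z by the
preimages of the submodules xB, xZ, B, B + xZ of K^q. -/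
theorem result (A : Type u) [CommRing A] (l : List A) (q : ℤ)
    (K : CochainComplex (ModuleCat.{u} A) ℤ) (hK : K = Koszul.koszul A l)
    (hBZ : LinearMap.range (K.d (q - 1) q).hom ≤ LinearMap.ker (K.d q (q + 1)).hom)
    (x : A) (hx : x ∈ nonZeroDivisors A)
    (hxH : IsSMulRegular (↥(LinearMap.ker (K.d q (q + 1)).hom) ⧸ Submodule.comap (LinearMap.ker (K.d q (q + 1)).hom).subtype (LinearMap.range (K.d (q - 1) q).hom)) x) :
    IsPullback
      (ModuleCat.ofHom (Submodule.factor (Submodule.comap_mono (Submodule.smul_mono le_rfl hBZ) :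
        Submodule.comap (LinearMap.ker (K.d q (q + 1)).hom).subtype (Ideal.span {x} • LinearMap.range (K.d (q - 1) q).hom) ≤
          Submodule.comap (LinearMap.ker (K.d q (q + 1)).hom).subtype (Ideal.span {x} • LinearMap.ker (K.d q (q + 1)).hom))))
      (ModuleCat.ofHom (Submodule.factor (Submodule.comap_mono (Submodule.smul_le_right) :
        Submodule.comap (LinearMap.ker (K.d q (q + 1)).hom).subtype (Ideal.span {x} • LinearMap.range (K.d (q - 1) q).hom) ≤
          Submodule.comap (LinearMap.ker (K.d q (q + 1)).hom).subtype (LinearMap.range (K.d (q - 1) q).hom))))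
      (ModuleCat.ofHom (Submodule.factor (Submodule.comap_mono le_sup_right :
        Submodule.comap (LinearMap.ker (K.d q (q + 1)).hom).subtype (Ideal.span {x} • LinearMap.ker (K.d q (q + 1)).hom) ≤
          Submodule.comap (LinearMap.ker (K.d q (q + 1)).hom).subtype (LinearMap.range (K.d (q - 1) q).hom ⊔ Ideal.span {x} • LinearMap.ker (K.d q (q + 1)).hom))))
      (ModuleCat.ofHom (Submodule.factor (Submodule.comap_mono le_sup_left :
        Submodule.comap (LinearMap.ker (K.d q (q + 1)).hom).subtype (LinearMap.range (K.d (q - 1) q).hom) ≤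
          Submodule.comap (LinearMap.ker (K.d q (q + 1)).hom).subtype (LinearMap.range (K.d (q - 1) q).hom ⊔ Ideal.span {x} • LinearMap.ker (K.d q (q + 1)).hom)))) := by
  exact aux A _ _ hBZ x hxH

end Groth.Agent.S15818
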