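import Groth.Statements.S1582
-- import your own Groth.Agent.* helpers here
import Mathlib
import Groth.Agent.Lib.Helper48.AlgClosedTensor

set_option autoImplicit false
universe u
open CategoryTheory CategoryTheory.Limits AlgebraicGeometry
open Variety

namespace Groth.Agent.S1582

open CategoryTheory CategoryTheory.Limits AlgebraicGeometry TensorProduct

/-- a space covered by open preirreducible subsets that pairwise meet is preirreducible -/
lemma preirreducibleSpace_of_cover {T : Type*} [TopologicalSpace T] {ι : Type*} (W : ι → Set T)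
    (hWi : ∀ i, IsPreirreducible (W i))
    (hWo : ∀ i, IsOpen (W i))
    (hcov : ∀ t : T, ∃ i, t ∈ W i) (hmeet : ∀ i j, (W i ∩ W j).Nonempty) :
    PreirreducibleSpace T := by
  constructor
  rintro A B hA hB ⟨a, -, haA⟩ ⟨b, -, hbB⟩
  obtain ⟨i, hai⟩ := hcov a
  obtain ⟨j, hbj⟩ := hcov b
  obtain ⟨c, hcW⟩ := hmeet i j
  obtain ⟨d, hdi, hdA, hdj⟩ := hWi i A (W j) hA (hWo j) ⟨a, hai, haA⟩ ⟨c, hcW.1, hcW.2⟩
  obtain ⟨e, hej, heA, heB⟩ := hWi j A B hA hB ⟨d, hdj, hdA⟩ ⟨b, hbj, hbB⟩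
  exact ⟨e, trivial, heA, heB⟩

/-- a scheme with an open cover by integral open subschemes that pairwise meet is integral -/
theorem isIntegral_of_isOpenCover {Z : Scheme.{u}} {ι : Type*} [Nonempty ι] (W : ι → Z.Opens)
    (hW : TopologicalSpace.IsOpenCover W) (hint : ∀ i, IsIntegral (W i))
    (hmeet : ∀ i j, ((W i : Set Z) ∩ (W j : Set Z)).Nonempty) : IsIntegral Z := by
  haveI : IsReduced Z := by
    haveI : ∀ i, IsReduced ((Z.openCoverOfIsOpenCover W hW).X i) := fun i => by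
      change IsReduced (W i).toScheme
      infer_instance
    exact IsReduced.of_openCover _ (Z.openCoverOfIsOpenCover W hW)
  haveI : Nonempty Z := by
    obtain ⟨i⟩ := ‹Nonempty ι›
    obtain ⟨x⟩ := (hint i).nonempty
    exact ⟨x.1⟩
  haveI : PreirreducibleSpace Z := by
    refine preirreducibleSpace_of_cover (fun i => (W i : Set Z)) (fun i => ?_) (fun i => (W i).2)
      (fun z => ?_) hmeet
    · have h1 : IrreducibleSpace (W i) := irreducibleSpace_of_isIntegral (X := (W i).toScheme)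
      have h2 := (IrreducibleSpace.isIrreducible_univ (W i)).image (W i).ι
        (W i).ι.continuous.continuousOn
      rw [Set.image_univ, Scheme.Opens.range_ι] at h2
      exact h2.isPreirreducible
    · have hz : z ∈ ⨆ i, W i := hW.iSup_eq_top ▸ (show z ∈ (⊤ : Z.Opens) from trivial)
      rw [TopologicalSpace.Opens.mem_iSup] at hz
      exact hz
  haveI : IrreducibleSpace Z := { toPreirreducibleSpace := inferInstance, toNonempty := inferInstance }
  exact isIntegral_of_irreducibleSpace_of_isReduced Z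

/-- a pushout of domains over (a ring isomorphic to) an algebraically closed field is a domain -/
theorem isDomain_of_isPushout {R A B C : CommRingCat.{u}} {φ : R ⟶ A} {ψ : R ⟶ B} {a : A ⟶ C}
    {b : B ⟶ C} (H : IsPushout φ ψ a b) (k : Type u) [Field k] [IsAlgClosed k] (e : R ≃+* k)
    [IsDomain A] [IsDomain B] : IsDomain C := by
  letI : Field R := (MulEquiv.isField (Field.toIsField k) e.toMulEquiv).toField
  haveI : IsAlgClosed R := IsAlgClosed.of_ringEquiv k R e.symm
  algebraize [φ.hom, ψ.hom]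
  let e' := ((CommRingCat.isPushout_tensorProduct R A B).isoIsPushout A B H).commRingCatIsoToRingEquiv
  haveI : IsDomain (A ⊗[R] B) := Groth.Agent.Lib.Helper48.ACT.isDomain_tensor
  exact MulEquiv.isDomain _ e'.symm.toMulEquiv

/-- the open `U ×_k V` of `X ×_k Y` is integral for nonempty affine opens `U`, `V` -/
theorem isIntegral_piece (k : Type u) [Field k] [IsAlgClosed k] {X Y : Scheme.{u}}
    (f : X ⟶ Spec (CommRingCat.of k)) (g : Y ⟶ Spec (CommRingCat.of k)) [IsIntegral X] [IsIntegral Y]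
    (U : X.Opens) (hU : IsAffineOpen U) [Nonempty U] (V : Y.Opens) (hV : IsAffineOpen V)
    [Nonempty V] :
    IsIntegral ((pullback.fst f g ⁻¹ᵁ U ⊓ pullback.snd f g ⁻¹ᵁ V : (pullback f g).Opens) : Scheme) := by
  have H : IsPullback (pullback.fst f g) (pullback.snd f g) f g := IsPullback.of_hasPullback f g
  obtain ⟨W, hW⟩ : ∃ W : (pullback f g).Opens, W = pullback.fst f g ⁻¹ᵁ U ⊓ pullback.snd f g ⁻¹ᵁ V :=
    ⟨_, rfl⟩
  rw [← hW]
  have hUST : V ≤ g ⁻¹ᵁ ⊤ := le_top
  have hUSX : U ≤ f ⁻¹ᵁ ⊤ := le_top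
  have h1 := isIso_pushoutSection_of_isAffineOpen H hUST hUSX hW (isAffineOpen_top _) hV hU
  rw [isIso_pushoutSection_iff] at h1
  haveI : IsDomain Γ(pullback f g, W) :=
    isDomain_of_isPushout h1 k (Scheme.ΓSpecIso (CommRingCat.of k)).commRingCatIsoToRingEquiv
  haveI hWaff : IsAffine W := by
    have : IsAffine ((⊤ : (Spec (CommRingCat.of k)).Opens) : Scheme) := isAffineOpen_top _
    have : IsAffine V := hV
    have : IsAffine U := hU
    exact .of_isIso (Scheme.Hom.isPullback_resLE H hUST hUSX hW).isoPullback.hom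
  haveI : Nonempty W := by
    obtain ⟨x⟩ := ‹Nonempty U›
    obtain ⟨y⟩ := ‹Nonempty V›
    obtain ⟨z, hz1, hz2⟩ := Scheme.Pullback.exists_preimage_pullback (f := f) (g := g) x.1 y.1
      (Subsingleton.elim _ _)
    refine ⟨⟨z, ?_⟩⟩
    rw [hW]
    exact ⟨by simpa [hz1] using x.2, by simpa [hz2] using y.2⟩
  haveI : IsDomain Γ(W, ⊤) := by
    exact MulEquiv.isDomain _ (W.topIso).commRingCatIsoToRingEquiv.toMulEquiv
  exact isIntegral_of_isAffine_of_isDomain W

/-- Let k be algebraically closed and X, Y varieties over k (integral, separated, of finite type). Then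
the fibre product X ×_k Y is integral (and so again a variety over k). -/
theorem result (k : Type u) [Field k] [IsAlgClosed k] (X Y : Scheme.{u})
    (f : X ⟶ Spec (CommRingCat.of k)) (g : Y ⟶ Spec (CommRingCat.of k))
    [IsIntegral X] [IsIntegral Y] [IsSeparated f] [IsSeparated g]
    [LocallyOfFiniteType f] [LocallyOfFiniteType g] [QuasiCompact f] [QuasiCompact g] :
    IsIntegral (pullback f g) := by
  let ι := {U : X.affineOpens // Nonempty U.1} × {V : Y.affineOpens // Nonempty V.1}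
  let W : ι → (pullback f g).Opens := fun p =>
    pullback.fst f g ⁻¹ᵁ p.1.1.1 ⊓ pullback.snd f g ⁻¹ᵁ p.2.1.1
  have hex : ∀ (T : Scheme.{u}) (t : T), ∃ U : {U : T.affineOpens // Nonempty U.1}, t ∈ U.1.1 := by
    intro T t
    obtain ⟨_, ⟨U, hU, rfl⟩, htU, -⟩ :=
      T.isBasis_affineOpens.exists_subset_of_mem_open (Set.mem_univ t) isOpen_univ
    exact ⟨⟨⟨U, hU⟩, ⟨⟨t, htU⟩⟩⟩, htU⟩
  haveI : Nonempty ι := by
    obtain ⟨x⟩ := (inferInstance : Nonempty X)
    obtain ⟨y⟩ := (inferInstance : Nonempty Y)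
    exact ⟨⟨(hex X x).choose, (hex Y y).choose⟩⟩
  refine isIntegral_of_isOpenCover W ?_ (fun p => ?_) (fun p q => ?_)
  · show ⨆ i, W i = ⊤
    rw [eq_top_iff]
    intro z _
    obtain ⟨U, hU⟩ := hex X (pullback.fst f g z)
    obtain ⟨V, hV⟩ := hex Y (pullback.snd f g z)
    rw [TopologicalSpace.Opens.mem_iSup]
    exact ⟨⟨U, V⟩, hU, hV⟩
  · haveI := p.1.2
    haveI := p.2.2
    exact isIntegral_piece k f g p.1.1.1 p.1.1.2 p.2.1.1 p.2.1.2
  · obtain ⟨⟨x, hx⟩⟩ := p.1.2
    obtain ⟨⟨x', hx'⟩⟩ := q.1.2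
    obtain ⟨⟨y, hy⟩⟩ := p.2.2
    obtain ⟨⟨y', hy'⟩⟩ := q.2.2
    obtain ⟨a, ha1, ha2⟩ := (PreirreducibleSpace.isPreirreducible_univ (X := X)) p.1.1.1 q.1.1.1
      p.1.1.1.2 q.1.1.1.2 ⟨x, trivial, hx⟩ ⟨x', trivial, hx'⟩
    obtain ⟨b, hb1, hb2⟩ := (PreirreducibleSpace.isPreirreducible_univ (X := Y)) p.2.1.1 q.2.1.1
      p.2.1.1.2 q.2.1.1.2 ⟨y, trivial, hy⟩ ⟨y', trivial, hy'⟩
    obtain ⟨z, hz1, hz2⟩ := Scheme.Pullback.exists_preimage_pullback (f := f) (g := g) a b
      (Subsingleton.elim _ _)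
    refine ⟨z, ⟨?_, ?_⟩, ⟨?_, ?_⟩⟩
    · show pullback.fst f g z ∈ p.1.1.1
      rw [hz1]; exact ha2.1
    · show pullback.snd f g z ∈ p.2.1.1
      rw [hz2]; exact hb2.1
    · show pullback.fst f g z ∈ q.1.1.1
      rw [hz1]; exact ha2.2
    · show pullback.snd f g z ∈ q.2.1.1
      rw [hz2]; exact hb2.2

end Groth.Agent.S1582
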