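import Groth.Statements.S15832
import Mathlib

set_option autoImplicit false
universe u
open TopGrp

namespace Groth.Agent.S15832


/-- the topology generated by the two-sided translates of a family of subgroups is a nonarchimedean
group topology -/
theorem nonarch_of_family {T : Type u} [Group T] (𝒢 : Set (Subgroup T)) :
    @NonarchimedeanGroup T _ (TopologicalSpace.generateFrom
      {S : Set T | ∃ Γ ∈ 𝒢, ∃ x y : T, S = (fun g : T => x * g * y) '' (Γ : Set T)}) := by
  let τ : TopologicalSpace T := TopologicalSpace.generateFrom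
    {S : Set T | ∃ Γ ∈ 𝒢, ∃ x y : T, S = (fun g : T => x * g * y) '' (Γ : Set T)}
  have hB : ∀ Γ ∈ 𝒢, ∀ x y : T, IsOpen ((fun g : T => x * g * y) '' (Γ : Set T)) :=
    fun Γ hΓ x y => TopologicalSpace.isOpen_generateFrom_of_mem ⟨Γ, hΓ, x, y, rfl⟩
  have hinv : Continuous (fun a : T => a⁻¹) := by
    apply continuous_generateFrom_iff.2
    rintro S ⟨Γ, hΓ, x, y, rfl⟩
    have : (fun a : T => a⁻¹) ⁻¹' ((fun g : T => x * g * y) '' (Γ : Set T)) =
        (fun g : T => y⁻¹ * g * x⁻¹) '' (Γ : Set T) := by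
      ext a
      constructor
      · rintro ⟨γ, hγ, hγa⟩
        refine ⟨γ⁻¹, Γ.inv_mem hγ, ?_⟩
        have hγa' : x * γ * y = a⁻¹ := hγa
        have : a = (x * γ * y)⁻¹ := by rw [hγa', inv_inv]
        rw [this]; group
      · rintro ⟨γ, hγ, rfl⟩
        refine ⟨γ⁻¹, Γ.inv_mem hγ, ?_⟩
        group
    rw [this]
    exact hB Γ hΓ _ _
  have hmul : Continuous (fun p : T × T => p.1 * p.2) := by
    apply continuous_generateFrom_iff.2
    rintro S ⟨Γ, hΓ, x, y, rfl⟩
    rw [isOpen_prod_iff]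
    rintro a b ⟨γ, hγ, hab⟩
    have hab' : x * γ * y = a * b := hab
    refine ⟨(fun g : T => x * g * (y * b⁻¹)) '' (Γ : Set T),
      (fun g : T => (b * y⁻¹) * g * y) '' (Γ : Set T), hB Γ hΓ _ _, hB Γ hΓ _ _, ?_, ?_, ?_⟩
    · refine ⟨γ, hγ, ?_⟩
      change x * γ * (y * b⁻¹) = a
      have : x * γ * (y * b⁻¹) = (x * γ * y) * b⁻¹ := by group
      rw [this, hab']; group
    · refine ⟨1, Γ.one_mem, ?_⟩
      change b * y⁻¹ * 1 * y = b
      group
    · rintro ⟨u, v⟩ ⟨⟨γ₁, hγ₁, rfl⟩, ⟨γ₂, hγ₂, rfl⟩⟩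
      refine ⟨γ₁ * γ₂, Γ.mul_mem hγ₁ hγ₂, ?_⟩
      change x * (γ₁ * γ₂) * y = x * γ₁ * (y * b⁻¹) * (b * y⁻¹ * γ₂ * y)
      group
  have : IsTopologicalGroup T := { continuous_mul := hmul, continuous_inv := hinv }
  refine { is_nonarchimedean := ?_ }
  intro U hU
  have hbasis := TopologicalSpace.isTopologicalBasis_of_subbasis (α := T)
    (s := {S : Set T | ∃ Γ ∈ 𝒢, ∃ x y : T, S = (fun g : T => x * g * y) '' (Γ : Set T)}) rfl
  obtain ⟨t, ⟨f, ⟨hfin, hfsub⟩, rfl⟩, h1, htU⟩ := hbasis.mem_nhds_iff.1 hU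
  suffices H : ∀ f : Set (Set T), f.Finite →
      f ⊆ {S : Set T | ∃ Γ ∈ 𝒢, ∃ x y : T, S = (fun g : T => x * g * y) '' (Γ : Set T)} →
      (1 : T) ∈ ⋂₀ f → ∃ V : OpenSubgroup T, (V : Set T) ⊆ ⋂₀ f by
    obtain ⟨V, hV⟩ := H f hfin hfsub h1
    exact ⟨V, hV.trans htU⟩
  intro f hfin
  induction f, hfin using Set.Finite.induction_on with
  | empty =>
    intro _ _
    exact ⟨⊤, by simp⟩
  | @insert S f hSf hfin ih =>
    intro hsub h1
    have hsubf : f ⊆ {S : Set T | ∃ Γ ∈ 𝒢, ∃ x y : T, S = (fun g : T => x * g * y) '' (Γ : Set T)} :=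
      fun s hs => hsub (Set.mem_insert_of_mem _ hs)
    have h1f : (1 : T) ∈ ⋂₀ f := fun s hs => h1 s (Set.mem_insert_of_mem _ hs)
    obtain ⟨V', hV'⟩ := ih hsubf h1f
    obtain ⟨Γ, hΓ, x, y, rfl⟩ := hsub (Set.mem_insert _ _)
    obtain ⟨γ₀, hγ₀, h10⟩ := h1 _ (Set.mem_insert _ _)
    have h10' : x * γ₀ * y = 1 := h10
    have hy : y = γ₀⁻¹ * x⁻¹ := by
      have : y = (x * γ₀)⁻¹ := (eq_inv_of_mul_eq_one_right h10')
      rw [this, mul_inv_rev]
    -- the conjugate subgroup
    let H : Subgroup T := Γ.map (MulAut.conj x).toMonoidHom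
    have hHS : (H : Set T) = (fun g : T => x * g * y) '' (Γ : Set T) := by
      ext a
      constructor
      · rintro ⟨γ, hγ, rfl⟩
        refine ⟨γ * γ₀, Γ.mul_mem hγ hγ₀, ?_⟩
        change x * (γ * γ₀) * y = x * γ * x⁻¹
        rw [hy]; group
      · rintro ⟨γ, hγ, rfl⟩
        refine ⟨γ * γ₀⁻¹, Γ.mul_mem hγ (Γ.inv_mem hγ₀), ?_⟩
        change x * (γ * γ₀⁻¹) * x⁻¹ = x * γ * y
        rw [hy]; group
    have hHopen : IsOpen (H : Set T) := by rw [hHS]; exact hB Γ hΓ x y
    refine ⟨V' ⊓ ⟨H, hHopen⟩, ?_⟩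
    intro a ha s hs
    rcases Set.mem_insert_iff.1 hs with rfl | hs
    · rw [← hHS]; exact ha.2
    · exact hV' ha.1 s hs

/-- For a group T with a topology, let B be the family of two-sided translates x Γ y, where Γ runs over
the subgroups of T open in the given topology and x, y over T; the topology generated by B makes T a
topological group in which every neighbourhood of the identity contains a subgroup open for that
topology. (The published statement is for the free topological product of two Noohi groups whose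
open subgroups form a basis of neighbourhoods of the identity; the argument uses only the group
structure and the chosen family of subgroups, so the row is stated for an arbitrary group with a
topology. The published conventions include Hausdorffness in the word topological group; this row
does not assert it, and the published argument does not prove it.) -/
theorem result (T : Type u) [Group T]
    [TopologicalSpace T] :
    @NonarchimedeanGroup T _ (TopologicalSpace.generateFrom
      {S : Set T | ∃ (Γ : OpenSubgroup T) (x y : T), S = (fun g : T => x * g * y) '' (Γ : Set T)}) := by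
  have h := nonarch_of_family (T := T) {Γ : Subgroup T | IsOpen (Γ : Set T)}
  have hset : {S : Set T | ∃ (Γ : OpenSubgroup T) (x y : T), S = (fun g : T => x * g * y) '' (Γ : Set T)} =
      {S : Set T | ∃ Γ ∈ {Γ : Subgroup T | IsOpen (Γ : Set T)}, ∃ x y : T,
        S = (fun g : T => x * g * y) '' (Γ : Set T)} := by
    ext S
    constructor
    · rintro ⟨Γ, x, y, rfl⟩
      exact ⟨Γ.toSubgroup, Γ.isOpen, x, y, rfl⟩
    · rintro ⟨Γ, hΓ, x, y, rfl⟩
      exact ⟨⟨Γ, hΓ⟩, x, y, rfl⟩
  rw [hset]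
  exact h

end Groth.Agent.S15832
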