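import Groth.Statements.S15833
import Mathlib
-- import your own Groth.Agent.* helpers here

set_option autoImplicit false
universe u
open EtBase

namespace Groth.Agent.S15833

open CategoryTheory CategoryTheory.Limits AlgebraicGeometry

section
variable {X X₀ Y : Scheme.{u}} (i : X₀ ⟶ X) (f : Y ⟶ X)

/-- lifts of a square over `f` correspond to lifts of the induced square over the base change -/
noncomputable def liftEquiv {A B : Scheme.{u}} (m : A ⟶ B) (i₁ : A ⟶ Y) (i₂ : B ⟶ X)
    (i₁' : A ⟶ pullback f i) (i₂' : B ⟶ X₀)
    (h₁ : i₁' ≫ pullback.fst f i = i₁) (h₂ : i₂' ≫ i = i₂)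
    (sq : CommSq i₁ m f i₂) (sq' : CommSq i₁' m (pullback.snd f i) i₂') :
    sq.LiftStruct ≃ sq'.LiftStruct where
  toFun l := ⟨pullback.lift l.l i₂' (by rw [l.fac_right, h₂]), by
      apply pullback.hom_ext
      · rw [Category.assoc, pullback.lift_fst, l.fac_left, h₁]
      · rw [Category.assoc, pullback.lift_snd, sq'.w], pullback.lift_snd _ _ _⟩
  invFun l' := ⟨l'.l ≫ pullback.fst f i, by rw [reassoc_of% l'.fac_left, h₁], by
      rw [Category.assoc, pullback.condition, reassoc_of% l'.fac_right, h₂]⟩
  left_inv l := by
    ext
    exact pullback.lift_fst _ _ _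
  right_inv l' := by
    apply CommSq.LiftStruct.ext
    apply pullback.hom_ext
    · exact pullback.lift_fst _ _ _
    · exact (pullback.lift_snd _ _ _).trans l'.fac_right.symm

end

open CategoryTheory CategoryTheory.Limits AlgebraicGeometry in
/-- Let i : X₀ ⟶ X be a surjective closed immersion of schemes and f : Y ⟶ X a morphism. Then f
satisfies the valuative criterion (existence and uniqueness of a lift in every valuative square,
over arbitrary valuation rings) if and only if its base change Y ×_X X₀ ⟶ X₀ does. (The published
statement takes X locally Noetherian and connected, X₀ the reduced closed subscheme with the same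
underlying space and f étale, and combines this step with the equivalence between étale schemes over
X and over X₀ to identify the geometric coverings, i.e. the étale morphisms satisfying the valuative
criterion, of X and of X₀; the argument for this step uses only that X₀ ⟶ X is a surjective closed
immersion and that valuation rings are reduced.) -/
theorem result {X X₀ Y : Scheme.{u}} (i : X₀ ⟶ X)
    [IsClosedImmersion i] [Surjective i] (f : Y ⟶ X) :
    ValuativeCriterion f ↔ ValuativeCriterion (pullback.snd f i) := by
  constructor
  · intro H S'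
    let S : ValuativeCommSq f :=
      { R := S'.R, K := S'.K, i₁ := S'.i₁ ≫ pullback.fst f i, i₂ := S'.i₂ ≫ i,
        commSq := ⟨by rw [Category.assoc, pullback.condition, reassoc_of% S'.commSq.w]⟩ }
    obtain ⟨hu⟩ := H S
    exact ⟨(liftEquiv i f _ S.i₁ S.i₂ S'.i₁ S'.i₂ rfl rfl S.commSq S'.commSq).symm.unique⟩
  · intro H S
    have hsurj : Surjective (pullback.snd i S.i₂) := MorphismProperty.pullback_snd _ _ inferInstance
    have : IsReduced (Spec (CommRingCat.of S.R)) := inferInstance
    have hiso : IsIso (pullback.snd i S.i₂) := isIso_of_isClosedImmersion_of_surjective _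
    let i₂' : Spec (CommRingCat.of S.R) ⟶ X₀ := inv (pullback.snd i S.i₂) ≫ pullback.fst i S.i₂
    have h₂ : i₂' ≫ i = S.i₂ := by
      simp only [i₂', Category.assoc, pullback.condition, IsIso.inv_hom_id_assoc]
    let i₁' : Spec (CommRingCat.of S.K) ⟶ pullback f i :=
      pullback.lift S.i₁ (Spec.map (CommRingCat.ofHom (algebraMap S.R S.K)) ≫ i₂')
        (by rw [S.commSq.w, Category.assoc, h₂])
    let S' : ValuativeCommSq (pullback.snd f i) :=
      { R := S.R, K := S.K, i₁ := i₁', i₂ := i₂', commSq := ⟨pullback.lift_snd _ _ _⟩ }
    obtain ⟨hu⟩ := H S'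
    exact ⟨(liftEquiv i f _ S.i₁ S.i₂ S'.i₁ S'.i₂ (pullback.lift_fst _ _ _) h₂
      S.commSq S'.commSq).unique⟩

end Groth.Agent.S15833
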