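import Groth.Statements.S15835
import Mathlib
-- import your own Groth.Agent.* helpers here

set_option autoImplicit false
universe u
open SprIso

namespace Groth.Agent.S15835

/-- Over a commutative ring R of prime characteristic p, let n ≥ 1 and let p^m be the largest power of p
dividing n. The locus of n × n matrices with characteristic polynomial t^n is stable under adding a
scalar matrix a·1 with n·a = 0 exactly when a^(p^m) = 0: for X with characteristic polynomial t^n
and such an a, the matrix X + a·1 has characteristic polynomial t^n if and only if a^(p^m) = 0.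
(Stated on points with values in an arbitrary ring of characteristic p; the scheme-theoretic
assertion about the nilpotent scheme of SL_n is this statement for all such rings.) -/
theorem result (p : ℕ) [Fact p.Prime] (R : Type u) [CommRing R]
    [CharP R p] (n : ℕ) (hn : 0 < n) (X : Matrix (Fin n) (Fin n) R) (hX : X.charpoly = Polynomial.X ^ n)
    (a : R) (ha : (n : R) * a = 0) :
    (X + Matrix.scalar (Fin n) a).charpoly = Polynomial.X ^ n ↔ a ^ (p ^ padicValNat p n) = 0 := by
  classical
  have hp : p.Prime := Fact.out
  -- charpoly (X + a) = (t - C a)^n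
  have h1 : (X + Matrix.scalar (Fin n) a).charpoly = (Polynomial.X - Polynomial.C a) ^ n := by
    have h := Matrix.charpoly_sub_scalar X (-a)
    have e : X - Matrix.scalar (Fin n) (-a) = X + Matrix.scalar (Fin n) a := by
      rw [map_neg, sub_neg_eq_add]
    rw [e, hX] at h
    rw [h, Polynomial.pow_comp, Polynomial.X_comp, map_neg, sub_eq_add_neg]
  rw [h1]
  set m := padicValNat p n with hm
  obtain ⟨n', hn'⟩ : p ^ m ∣ n := pow_padicValNat_dvd
  have hpn' : ¬ p ∣ n' := by
    intro ⟨c, hc⟩
    have : p ^ (m + 1) ∣ n := ⟨c, by rw [hn', hc, pow_succ]; ring⟩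
    exact pow_succ_padicValNat_not_dvd hn.ne' this
  have hn'0 : 0 < n' := by
    rcases Nat.eq_zero_or_pos n' with h | h
    · rw [h, mul_zero] at hn'; omega
    · exact h
  have hq : 0 < p ^ m := pow_pos hp.pos m
  have h2 : (Polynomial.X - Polynomial.C a : Polynomial R) ^ n
      = Polynomial.expand R (p ^ m) ((Polynomial.X - Polynomial.C (a ^ p ^ m)) ^ n') := by
    rw [map_pow, map_sub, Polynomial.expand_X, Polynomial.expand_C, hn', pow_mul,
      sub_pow_expChar_pow, ← Polynomial.C_pow]
  have h3 : (Polynomial.X : Polynomial R) ^ n = Polynomial.expand R (p ^ m) (Polynomial.X ^ n') := by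
    rw [map_pow, Polynomial.expand_X, hn', pow_mul]
  rw [h2, h3, (Polynomial.expand_injective hq).eq_iff]
  constructor
  · intro h
    have hsub : (Polynomial.X - Polynomial.C (a ^ p ^ m) : Polynomial R)
        = Polynomial.X + Polynomial.C (-(a ^ p ^ m)) := by rw [map_neg, sub_eq_add_neg]
    rw [hsub] at h
    have hc := congrArg (fun f => Polynomial.coeff f (n' - 1)) h
    simp only [Polynomial.coeff_X_add_C_pow, Polynomial.coeff_X_pow] at hc
    have h4 : n' - (n' - 1) = 1 := by omega
    have h5 : n' - 1 ≠ n' := by omega
    have h6 : n'.choose (n' - 1) = n' := by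
      rw [Nat.choose_symm (by omega : 1 ≤ n'), Nat.choose_one_right]
    rw [h4, if_neg h5, pow_one, h6] at hc
    have hu : IsUnit (n' : R) := (CharP.isUnit_natCast_iff hp).2 hpn'
    have : a ^ p ^ m * (n' : R) = 0 := by
      have := congrArg Neg.neg hc
      simpa using this
    exact (hu.mul_left_eq_zero).1 this
  · intro h
    rw [h, map_zero, sub_zero]

end Groth.Agent.S15835
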