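import Groth.Statements.S15837
import Groth.Agent.Lib.Helper16.FixFG

set_option autoImplicit false
universe u
open CategoryTheory MonoidalCategory CartesianMonoidalCategory MonObj GrpObj AlgebraicGeometry
open SprIso

namespace Groth.Agent.S15837

/-- Let S be a scheme, G an S-group scheme of finite presentation acting on an S-scheme X which is
affine and of finite presentation over S, and Y a closed subscheme of X which is finite, flat and of
finite presentation over S. Then the functorial stabilizer of Y in G — whose points with values in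
an S-scheme T are the points g of G such that g acts as the identity on every point of Y with values
in a scheme over T — is represented by a closed subscheme of G whose inclusion is of finite
presentation. -/
theorem result (S : Scheme.{u}) (G X Y : Over S) [GrpObj G]
    [LocallyOfFinitePresentation G.hom] [QuasiCompact G.hom] [QuasiSeparated G.hom]
    [IsAffineHom X.hom] [LocallyOfFinitePresentation X.hom] (a : AlgGrp.Action G X)
    (i : Y ⟶ X) [IsClosedImmersion i.left] [IsFinite Y.hom] [Flat Y.hom] [LocallyOfFinitePresentation Y.hom] :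
    ∃ (Z : Over S) (j : Z ⟶ G), IsClosedImmersion j.left ∧ LocallyOfFinitePresentation j.left ∧
      ∀ (T : Over S) (g : T ⟶ G), (∃ z : T ⟶ Z, z ≫ j = g) ↔
        ∀ (T' : Over S) (t : T' ⟶ T) (y : T' ⟶ Y), lift (t ≫ g) (y ≫ i) ≫ a.act = y ≫ i := by
  haveI : IsSeparated X.hom := inferInstance
  let u : Y ⊗ G ⟶ X := lift (snd Y G) (fst Y G ≫ i) ≫ a.act
  let v : Y ⊗ G ⟶ X := fst Y G ≫ i
  obtain ⟨Z, j, hj, hj', hZ⟩ := Lib.Helper16.FixFG.exists_closed_fp_of_equalizer u v
  refine ⟨Z, j, hj, hj', ?_⟩
  intro T g
  rw [hZ g]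
  have key : ∀ (T' : Over S) (t : T' ⟶ T) (y : T' ⟶ Y),
      (lift y (t ≫ g) ≫ u = lift y (t ≫ g) ≫ v) ↔
        lift (t ≫ g) (y ≫ i) ≫ a.act = y ≫ i := by
    intro T' t y
    have e1 : lift y (t ≫ g) ≫ u = lift (t ≫ g) (y ≫ i) ≫ a.act := by
      show lift y (t ≫ g) ≫ lift (snd Y G) (fst Y G ≫ i) ≫ a.act = _
      rw [← Category.assoc]
      congr 1
      apply CartesianMonoidalCategory.hom_ext <;> simp
    have e2 : lift y (t ≫ g) ≫ v = y ≫ i := by
      show lift y (t ≫ g) ≫ fst Y G ≫ i = _
      rw [lift_fst_assoc]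
    rw [e1, e2]
  constructor
  · intro h T' t y
    exact (key T' t y).1 (h T' t y)
  · intro h T' t y
    exact (key T' t y).2 (h T' t y)

end Groth.Agent.S15837
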