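import Groth.Statements.S15838
import Mathlib

set_option autoImplicit false
universe u
open scoped TensorProduct
open SprIso

namespace Groth.Agent.S15838

theorem comm_of_mem (k : Type u) [Field k]
    (V : Type u) [AddCommGroup V] [Module k V]
    (R : Type u) [CommRing R] [Algebra k R] (h : Module.End R (R ⊗[k] V))
    (X a : Module.End k V) (ha : a ∈ Algebra.adjoin k {X})
    (hc : Commute h (X.baseChange R)) : Commute h (a.baseChange R) := by
  have h1 : (Module.End.baseChangeHom k R V) a ∈
      Algebra.adjoin k {(Module.End.baseChangeHom k R V) X} := by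
    have := (Subalgebra.mem_map (S := Algebra.adjoin k {X})
      (f := Module.End.baseChangeHom k R V)).mpr ⟨a, ha, rfl⟩
    rwa [AlgHom.map_adjoin, Set.image_singleton] at this
  exact Algebra.commute_of_mem_adjoin_singleton_of_commute h1 hc

theorem mem_adjoin (k : Type u) [Field k] [PerfectField k]
    (V : Type u) [AddCommGroup V] [Module k V] [FiniteDimensional k V]
    (X Y N : Module.End k V) (hY : Y.IsSemisimple) (hN : IsNilpotent N) (hc : Commute Y N)
    (hX : X = Y + N) : Y ∈ Algebra.adjoin k {X} ∧ N ∈ Algebra.adjoin k {X} := by
  obtain ⟨n₀, hn₀, s₀, hs₀, hnil, hss, hX'⟩ := X.exists_isNilpotent_isSemisimple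
  have hc0 : Commute n₀ s₀ :=
    Algebra.commute_of_mem_adjoin_singleton_of_commute hs₀ (Algebra.commute_of_mem_adjoin_self hn₀).symm
  have := Module.End.isNilpotent_isSemisimple_unique hN hY hnil hss hc.symm hc0
    (by rw [add_comm, ← hX, hX'])
  rw [this.1, this.2]
  exact ⟨hs₀, hn₀⟩
/-- General linear group case: this is the case G = GL(V), to which the general case reduces along a
closed embedding. Let k be a perfect field and V a finite-dimensional k-vector space. If an
invertible endomorphism g of V has multiplicative Jordan decomposition g = t u (t semisimple, u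
unipotent, t and u commuting), then the scheme-theoretic centralizer of g in GL(V) is the
centralizer of u inside the centralizer of t: for every commutative k-algebra R, an R-linear
endomorphism h of R ⊗ V commutes with g_R if and only if it commutes with both t_R and u_R.
Likewise, if an endomorphism X of V has additive Jordan decomposition X = Y + N (Y semisimple, N
nilpotent, commuting), then h commutes with X_R if and only if it commutes with both Y_R and N_R. -/
theorem result (k : Type u) [Field k] [PerfectField k]
    (V : Type u) [AddCommGroup V] [Module k V] [FiniteDimensional k V]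
    (R : Type u) [CommRing R] [Algebra k R] (h : Module.End R (R ⊗[k] V)) :
    (∀ (g t u : Module.End k V), IsUnit g → t.IsSemisimple → IsNilpotent (u - 1) → Commute t u → g = t * u →
      (Commute h (g.baseChange R) ↔ Commute h (t.baseChange R) ∧ Commute h (u.baseChange R))) ∧
    (∀ (X Y N : Module.End k V), Y.IsSemisimple → IsNilpotent N → Commute Y N → X = Y + N →
      (Commute h (X.baseChange R) ↔ Commute h (Y.baseChange R) ∧ Commute h (N.baseChange R))) := by
  constructor
  · intro g t u hg ht hu hc hgtu
    have hgR : g.baseChange R = t.baseChange R * u.baseChange R := by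
      rw [hgtu, LinearMap.baseChange_mul]
    constructor
    · intro hcg
      have hcN : Commute t (t * (u - 1)) := (Commute.refl t).mul_right (hc.sub_right (Commute.one_right t))
      have hnil : IsNilpotent (t * (u - 1)) :=
        Commute.isNilpotent_mul_left (hc.sub_right (Commute.one_right t)) hu
      have hmem := mem_adjoin k V g t (t * (u - 1)) ht hnil hcN (by rw [hgtu]; noncomm_ring)
      have hct : Commute h (t.baseChange R) := comm_of_mem k V R h g t hmem.1 hcg
      refine ⟨hct, ?_⟩
      have htu : IsUnit t := ((hc.isUnit_mul_iff).mp (hgtu ▸ hg)).1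
      have htR : IsUnit (t.baseChange R) := htu.map (Module.End.baseChangeHom k R V)
      obtain ⟨T, hT⟩ := htR
      have hcT : Commute h (T : Module.End R (R ⊗[k] V)) := by rw [hT]; exact hct
      have hcTinv : Commute h ((T⁻¹ : (Module.End R (R ⊗[k] V))ˣ) : Module.End R (R ⊗[k] V)) :=
        hcT.units_inv_right
      have hu' : u.baseChange R = ((T⁻¹ : (Module.End R (R ⊗[k] V))ˣ) : Module.End R (R ⊗[k] V)) *
          g.baseChange R := by
        rw [hgR, ← hT, ← mul_assoc, Units.inv_mul, one_mul]
      rw [hu']
      exact hcTinv.mul_right hcg
    · rintro ⟨h1, h2⟩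
      rw [hgR]
      exact h1.mul_right h2
  · intro X Y N hY hN hc hX
    have hXR : X.baseChange R = Y.baseChange R + N.baseChange R := by
      rw [hX, LinearMap.baseChange_add]
    constructor
    · intro hcX
      have hmem := mem_adjoin k V X Y N hY hN hc hX
      exact ⟨comm_of_mem k V R h X Y hmem.1 hcX, comm_of_mem k V R h X N hmem.2 hcX⟩
    · rintro ⟨h1, h2⟩
      rw [hXR]
      exact h1.add_right h2

end Groth.Agent.S15838
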