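import Groth.Statements.S15839
-- import your own Groth.Agent.* helpers here

set_option autoImplicit false
universe u
open CategoryTheory MonoidalCategory CartesianMonoidalCategory MonObj GrpObj AlgebraicGeometry
open SprIso

namespace Groth.Agent.S15839

open CategoryTheory.Limits

/-- Two-property version of `HasRingHomProperty.of_comp`. -/
theorem of_comp_two (P P' : MorphismProperty Scheme.{u})
    {Q Q' : ∀ {R S : Type u} [CommRing R] [CommRing S], (R →+* S) → Prop}
    [HasRingHomProperty P Q] [HasRingHomProperty P' Q']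
    (H : ∀ {R S T : Type u} [CommRing R] [CommRing S] [CommRing T],
      ∀ (f : R →+* S) (g : S →+* T), Q (g.comp f) → Q' f → Q g)
    {X Y Z : Scheme.{u}} {f : X ⟶ Y} {g : Y ⟶ Z} (h : P (f ≫ g)) (hg : P' g) : P f := by
  wlog hZ : IsAffine Z generalizing X Y Z
  · rw [IsZariskiLocalAtTarget.iff_of_iSup_eq_top (P := P) _
      (g.iSup_preimage_eq_top (iSup_affineOpens_eq_top Z))]
    intro U
    have H' := IsZariskiLocalAtTarget.restrict h U.1
    rw [morphismRestrict_comp] at H'
    exact this H' (IsZariskiLocalAtTarget.restrict hg U.1) inferInstance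
  wlog hY : IsAffine Y generalizing X Y
  · rw [IsZariskiLocalAtTarget.iff_of_iSup_eq_top (P := P) _ (iSup_affineOpens_eq_top Y)]
    intro U
    have H' := IsZariskiLocalAtSource.comp (P := P) h (f ⁻¹ᵁ U.1).ι
    rw [← morphismRestrict_ι_assoc] at H'
    exact this H' (IsZariskiLocalAtSource.comp (P := P') hg U.1.ι) inferInstance
  wlog hY : IsAffine X generalizing X
  · rw [IsZariskiLocalAtSource.iff_of_iSup_eq_top (P := P) _ (iSup_affineOpens_eq_top X)]
    intro U
    have H' := IsZariskiLocalAtSource.comp (P := P) h U.1.ι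
    rw [← Category.assoc] at H'
    exact this H' inferInstance
  rw [HasRingHomProperty.iff_of_isAffine (P := P)] at h ⊢
  rw [HasRingHomProperty.iff_of_isAffine (P := P')] at hg
  exact H _ _ h hg

theorem lfp_of_comp_lft {X Y Z : Scheme.{u}} (f : X ⟶ Y) (g : Y ⟶ Z)
    [h : LocallyOfFinitePresentation (f ≫ g)] [hg : LocallyOfFiniteType g] :
    LocallyOfFinitePresentation f :=
  of_comp_two @LocallyOfFinitePresentation @LocallyOfFiniteType
    (fun f _ hgf hf => RingHom.FinitePresentation.of_comp_finiteType f hgf hf) h hg

theorem lfp_diagonal {X Y : Scheme.{u}} (f : X ⟶ Y) [LocallyOfFiniteType f] :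
    LocallyOfFinitePresentation (pullback.diagonal f) := by
  have : LocallyOfFinitePresentation (pullback.diagonal f ≫ pullback.fst f f) := by
    rw [pullback.diagonal_fst]; infer_instance
  exact lfp_of_comp_lft (pullback.diagonal f) (pullback.fst f f)

set_option backward.isDefEq.respectTransparency false in
theorem lfp_equalizer_ι_left {S : Scheme.{u}} {X Y : Over S} [LocallyOfFiniteType Y.hom]
    (f g : X ⟶ Y) : LocallyOfFinitePresentation (equalizer.ι f g).left := by
  refine MorphismProperty.of_isPullback
    ((Limits.isPullback_equalizer_prod f g).map (Over.forget _)).flip ?_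
  rw [← MorphismProperty.cancel_right_of_respectsIso @LocallyOfFinitePresentation _
    (Over.prodLeftIsoPullback Y Y).hom]
  convert! (lfp_diagonal Y.hom)
  ext1 <;> simp [← Over.comp_left]

/-- Let S be a scheme, G an S-group scheme which is affine and of finite presentation over S, and g a
section of G over S. Then the centralizer of g — the subfunctor of G whose points with values in an
S-scheme T are the points x of G with x g_T = g_T x — is represented by a closed subscheme of G
whose inclusion is of finite presentation. -/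
theorem result (S : Scheme.{u}) (G : Over S) [GrpObj G]
    [IsAffineHom G.hom] [LocallyOfFinitePresentation G.hom] (g : 𝟙_ (Over S) ⟶ G) :
    ∃ (Z : Over S) (j : Z ⟶ G), IsClosedImmersion j.left ∧ LocallyOfFinitePresentation j.left ∧
      ∀ (T : Over S) (x : T ⟶ G), (∃ z : T ⟶ Z, z ≫ j = x) ↔
        x * (toUnit T ≫ g) = (toUnit T ≫ g) * x := by
  let f1 : G ⟶ G := 𝟙 G * (toUnit G ≫ g)
  let f2 : G ⟶ G := (toUnit G ≫ g) * 𝟙 G
  have : IsSeparated G.hom := inferInstance
  have : LocallyOfFiniteType G.hom := inferInstance
  refine ⟨equalizer f1 f2, equalizer.ι f1 f2, inferInstance, lfp_equalizer_ι_left f1 f2, ?_⟩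
  intro T x
  have h1 : x ≫ f1 = x * (toUnit T ≫ g) := by
    simp [f1, MonObj.comp_mul]
  have h2 : x ≫ f2 = (toUnit T ≫ g) * x := by
    simp [f2, MonObj.comp_mul]
  rw [← h1, ← h2]
  constructor
  · rintro ⟨z, rfl⟩
    rw [Category.assoc, Category.assoc, equalizer.condition]
  · intro h
    exact ⟨equalizer.lift x h, equalizer.lift_ι x h⟩

end Groth.Agent.S15839
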