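import Groth.Statements.S15841
-- import your own Groth.Agent.* helpers here

set_option autoImplicit false
universe u
open scoped TensorProduct
open SprIso

namespace Groth.Agent.S15841

/-- Abstract form of the Coxeter element argument. -/
theorem abstract_coxeter {k V K' ι : Type*} [CommRing k] [AddCommGroup V] [Module k V]
    [AddCommGroup K'] [Module k K'] (supp : Set ι)
    (s : ι → Module.End k V) (a w : ι → V →ₗ[k] K')
    (H1 : ∀ i v, a i v = 0 → s i v = v)
    (H2 : ∀ i ∈ supp, ∀ j ∈ supp, j ≠ i → ∀ v, w i (s j v) = w i v)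
    (H3 : ∀ i ∈ supp, ∀ v, w i (s i v) = w i v - a i v) :
    ∀ (l : List ι), l.Nodup → (∀ i ∈ l, i ∈ supp) → ∀ H : V, (l.map s).prod H = H →
      ∀ i ∈ l, a i H = 0 := by
  -- `w i` is invariant under products of reflections not involving `i`
  have HB : ∀ i ∈ supp, ∀ (l : List ι), (∀ j ∈ l, j ∈ supp) → i ∉ l → ∀ v,
      w i ((l.map s).prod v) = w i v := by
    intro i hi l
    induction l with
    | nil => intro _ _ v; simp
    | cons j l ih =>
      intro hl hil v
      have hji : j ≠ i := fun h => hil (by simp [h])
      have hil' : i ∉ l := fun h => hil (by simp [h])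
      rw [List.map_cons, List.prod_cons, Module.End.mul_apply,
        H2 i hi j (hl j (by simp)) hji,
        ih (fun j' hj' => hl j' (by simp [hj'])) hil']
  intro l
  induction l with
  | nil => intro _ _ H _ i hi; simp at hi
  | cons i l ih =>
    intro hnd hl H hH j hj
    have hi : i ∈ supp := hl i (by simp)
    have hil : i ∉ l := (List.nodup_cons.mp hnd).1
    have hl' : ∀ j ∈ l, j ∈ supp := fun j' hj' => hl j' (by simp [hj'])
    rw [List.map_cons, List.prod_cons, Module.End.mul_apply] at hH
    set H' := (l.map s).prod H with hH'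
    have h1 : w i H' = w i H := HB i hi l hl' hil H
    have h2 : w i (s i H') = w i H' - a i H' := H3 i hi H'
    rw [hH, h1] at h2
    have h3 : a i H' = 0 := by
      have := sub_eq_zero.mpr h2
      simpa using this
    have h4 : H' = H := by rw [← H1 i H' h3]; exact hH
    rcases List.mem_cons.mp hj with rfl | hj'
    · rw [← h4]; exact h3
    · exact ih (List.nodup_cons.mp hnd).2 hl' H h4 j hj'

/-- For a connected reductive group G with maximal torus T whose derived group is simply connected, and
a Coxeter element w (the product of the simple reflections, each once, in any order), an element of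
Lie T = k ⊗ X_*(T) fixed by Ad(w) is killed by the differential of every simple root, i.e. lies in
the centre of Lie G. In root-datum form: let P be a root pairing over ℤ with character lattice M and
cocharacter lattice N, b a base, and suppose each simple coroot has a dual character ω_i in M with
⟨ω_i, α_i^∨⟩ = 1 and ⟨ω_i, α_j^∨⟩ = 0 for every other simple j (the simply connected derived group
hypothesis). If l lists the simple roots without repetition, w^∨ is the composite of the
coreflections along l acting on N, k is a field and H in k ⊗ N satisfies w^∨_k H = H, then (α_i)_k H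
= 0 for every simple root α_i, where (α_i)_k is the base change to k of the functional ⟨α_i, −⟩ on
N. (Stated for an arbitrary field k; the published setting is an algebraically closed field, and the
argument does not depend on k.) -/
theorem result {ι M N : Type u} [AddCommGroup M] [AddCommGroup N]
    (P : RootPairing ι ℤ M N) (b : P.Base)
    (hsc : ∀ i ∈ b.support, ∃ ω : M, P.coroot' i ω = 1 ∧ ∀ j ∈ b.support, j ≠ i → P.coroot' j ω = 0)
    (l : List ι) (hl : l.Nodup) (hlb : ∀ i : ι, i ∈ l ↔ i ∈ b.support)
    (k : Type u) [Field k] (H : k ⊗[ℤ] N)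
    (hH : ((l.map (fun i => ((P.coreflection i : N ≃ₗ[ℤ] N) : N →ₗ[ℤ] N))).prod).baseChange k H = H) :
    ∀ i ∈ b.support, (P.root' i).baseChange k H = 0 := by
  classical
  choose ω hω using hsc
  let ω' : ι → M := fun i => if h : i ∈ b.support then ω i h else 0
  have hω'1 : ∀ i ∈ b.support, P.coroot' i (ω' i) = 1 := by
    intro i hi; simp only [ω', dif_pos hi]; exact (hω i hi).1
  have hω'2 : ∀ i ∈ b.support, ∀ j ∈ b.support, j ≠ i → P.coroot' j (ω' i) = 0 := by
    intro i hi j hj hji; simp only [ω', dif_pos hi]; exact (hω i hi).2 j hj hji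
  let s : ι → Module.End k (k ⊗[ℤ] N) :=
    fun i => ((P.coreflection i : N ≃ₗ[ℤ] N) : N →ₗ[ℤ] N).baseChange k
  let a : ι → (k ⊗[ℤ] N) →ₗ[k] (k ⊗[ℤ] ℤ) := fun i => LinearMap.baseChange k (P.root' i)
  let w : ι → (k ⊗[ℤ] N) →ₗ[k] (k ⊗[ℤ] ℤ) :=
    fun i => LinearMap.baseChange k (P.toLinearMap (ω' i))
  -- integral identities
  have hZ1 : ∀ i, ((P.coreflection i : N ≃ₗ[ℤ] N) : N →ₗ[ℤ] N) =
      LinearMap.id - (LinearMap.toSpanSingleton ℤ N (P.coroot i)) ∘ₗ (P.root' i) := by
    intro i
    ext y
    simp [RootPairing.coreflection_apply]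
  have hZ2 : ∀ i ∈ b.support, ∀ j ∈ b.support, j ≠ i →
      (P.toLinearMap (ω' i)) ∘ₗ ((P.coreflection j : N ≃ₗ[ℤ] N) : N →ₗ[ℤ] N) =
        P.toLinearMap (ω' i) := by
    intro i hi j hj hji
    ext y
    have := hω'2 i hi j hj hji
    simp only [RootPairing.coroot', LinearMap.flip_apply] at this
    simp [RootPairing.coreflection_apply, this]
  have hZ3 : ∀ i ∈ b.support,
      (P.toLinearMap (ω' i)) ∘ₗ ((P.coreflection i : N ≃ₗ[ℤ] N) : N →ₗ[ℤ] N) =
        P.toLinearMap (ω' i) - P.root' i := by
    intro i hi
    ext y
    have := hω'1 i hi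
    simp only [RootPairing.coroot', LinearMap.flip_apply] at this
    simp [RootPairing.coreflection_apply, this]
  have H1 : ∀ i v, a i v = 0 → s i v = v := by
    intro i v hv
    have : s i = LinearMap.id -
        ((LinearMap.toSpanSingleton ℤ N (P.coroot i)).baseChange k) ∘ₗ (a i) := by
      simp only [s, a]
      rw [hZ1 i, LinearMap.baseChange_sub, LinearMap.baseChange_id, LinearMap.baseChange_comp]
    rw [this]
    simp [hv]
  have H2 : ∀ i ∈ b.support, ∀ j ∈ b.support, j ≠ i → ∀ v, w i (s j v) = w i v := by
    intro i hi j hj hji v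
    have : (w i) ∘ₗ (s j) = w i := by
      simp only [s, w]
      rw [← LinearMap.baseChange_comp, hZ2 i hi j hj hji]
    exact LinearMap.congr_fun this v
  have H3 : ∀ i ∈ b.support, ∀ v, w i (s i v) = w i v - a i v := by
    intro i hi v
    have : (w i) ∘ₗ (s i) = w i - a i := by
      simp only [s, w, a]
      rw [← LinearMap.baseChange_comp, hZ3 i hi, LinearMap.baseChange_sub]
    exact LinearMap.congr_fun this v
  have hprod : ((l.map (fun i => ((P.coreflection i : N ≃ₗ[ℤ] N) : N →ₗ[ℤ] N))).prod).baseChange k
      = (l.map s).prod := by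
    have := map_list_prod (Module.End.baseChangeHom ℤ k N)
      (l.map (fun i => ((P.coreflection i : N ≃ₗ[ℤ] N) : N →ₗ[ℤ] N)))
    rw [List.map_map] at this
    exact this
  rw [hprod] at hH
  intro i hi
  exact abstract_coxeter (b.support : Set ι) s a w H1 H2 H3 l hl (fun i hi => (hlb i).mp hi) H hH i
    ((hlb i).mpr hi)

end Groth.Agent.S15841
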