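import Groth.Statements.S15845
import Mathlib
-- import your own Groth.Agent.* helpers here

set_option autoImplicit false
universe u
open SprIso

namespace Groth.Agent.S15845

/-- Core computation: if `x` commutes with a strictly upper triangular matrix `N` whose
superdiagonal entries are units, then `x` is upper triangular with constant diagonal. -/
theorem core {R : Type*} [CommRing R] (n : ℕ) (N x : Matrix (Fin n) (Fin n) R)
    (hN0 : ∀ l j : Fin n, j ≤ l → N l j = 0)
    (hNu : ∀ i j : Fin n, j.val = i.val + 1 → IsUnit (N i j))
    (hc : x * N = N * x) :
    (∀ i j : Fin n, j < i → x i j = 0) ∧ (∀ i j : Fin n, x i i = x j j) := by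
  have heq : ∀ i j, ∑ l, x i l * N l j = ∑ l, N i l * x l j := by
    intro i j
    have := congrFun (congrFun hc i) j
    simpa [Matrix.mul_apply] using this
  -- Step 1: lower entries vanish
  have hlow : ∀ (jv : ℕ) (j : Fin n), j.val = jv → ∀ i : Fin n, j < i → x i j = 0 := by
    intro jv
    induction jv using Nat.strong_induction_on with
    | _ jv ihj =>
      intro j hj
      -- descending induction on i, via d = n - i
      have hdesc : ∀ (d : ℕ) (i : Fin n), n - i.val = d → j < i → x i j = 0 := by
        intro d
        induction d using Nat.strong_induction_on with
        | _ d ihd =>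
          intro i hid hji
          have hipos : 0 < i.val := lt_of_le_of_lt (Nat.zero_le _) hji
          let i0 : Fin n := ⟨i.val - 1, by omega⟩
          have hi0 : i.val = i0.val + 1 := by simp [i0]; omega
          have hji0 : j ≤ i0 := by
            rw [Fin.le_def]; have := Fin.lt_def.mp hji; omega
          have hL : ∑ l, x i0 l * N l j = 0 := by
            apply Finset.sum_eq_zero
            intro l _
            by_cases hlj : j ≤ l
            · rw [hN0 l j hlj, mul_zero]
            · have hlj' : l < j := not_le.mp hlj
              have : x i0 l = 0 :=
                ihj l.val (by rw [← hj]; exact hlj') l rfl i0 (lt_of_lt_of_le hlj' hji0)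
              rw [this, zero_mul]
          have hR : ∑ l, N i0 l * x l j = N i0 i * x i j := by
            apply Finset.sum_eq_single i
            · intro l _ hli
              by_cases hl : l ≤ i0
              · rw [hN0 i0 l hl, zero_mul]
              · have hl' : i0 < l := not_le.mp hl
                have hil : i < l := by
                  rw [Fin.lt_def] at hl' ⊢
                  have : l.val ≠ i.val := fun h => hli (Fin.ext h)
                  omega
                have : x l j = 0 :=
                  ihd (n - l.val) (by rw [← hid]; have := Fin.lt_def.mp hil; have := l.isLt; omega)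
                    l rfl (lt_trans hji hil)
                rw [this, mul_zero]
            · intro h; exact absurd (Finset.mem_univ i) h
          have h := heq i0 j
          rw [hL, hR] at h
          exact (hNu i0 i hi0).mul_right_eq_zero.mp h.symm
      intro i hji
      exact hdesc _ i rfl hji
  have hlow' : ∀ i j : Fin n, j < i → x i j = 0 := fun i j h => hlow j.val j rfl i h
  refine ⟨hlow', ?_⟩
  -- Step 2: consecutive diagonal entries agree
  have hstep : ∀ i i' : Fin n, i'.val = i.val + 1 → x i i = x i' i' := by
    intro i i' hii'
    have hlt : i < i' := by rw [Fin.lt_def]; omega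
    have hL : ∑ l, x i l * N l i' = x i i * N i i' := by
      apply Finset.sum_eq_single i
      · intro l _ hli
        by_cases hl : i' ≤ l
        · rw [hN0 l i' hl, mul_zero]
        · have hl' : l < i' := not_le.mp hl
          have : l < i := by
            rw [Fin.lt_def] at hl' ⊢
            have : l.val ≠ i.val := fun h => hli (Fin.ext h)
            omega
          rw [hlow' i l this, zero_mul]
      · intro h; exact absurd (Finset.mem_univ i) h
    have hR : ∑ l, N i l * x l i' = N i i' * x i' i' := by
      apply Finset.sum_eq_single i'
      · intro l _ hli
        by_cases hl : l ≤ i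
        · rw [hN0 i l hl, zero_mul]
        · have hl' : i < l := not_le.mp hl
          have : i' < l := by
            rw [Fin.lt_def] at hl' ⊢
            have : l.val ≠ i'.val := fun h => hli (Fin.ext h)
            omega
          rw [hlow' l i' this, mul_zero]
      · intro h; exact absurd (Finset.mem_univ i') h
    have h := heq i i'
    rw [hL, hR, mul_comm] at h
    exact (hNu i i' hii').mul_right_injective h
  have hall : ∀ (m : ℕ) (i : Fin n), i.val = m → ∀ z : Fin n, z.val = 0 → x i i = x z z := by
    intro m
    induction m with
    | zero =>
      intro i hi z hz
      have : i = z := Fin.ext (by omega)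
      rw [this]
    | succ m ih =>
      intro i hi z hz
      let i0 : Fin n := ⟨m, by have := i.isLt; omega⟩
      rw [← hstep i0 i (by simp [i0]; omega)]
      exact ih i0 rfl z hz
  intro i j
  have hn : 0 < n := lt_of_le_of_lt (Nat.zero_le _) i.isLt
  rw [hall i.val i rfl ⟨0, hn⟩ rfl, hall j.val j rfl ⟨0, hn⟩ rfl]

/-- General linear group case: this is the case G = GL_n with its upper-triangular Borel subgroup B
(derived group SL_n simply connected, all primes good, so the hypotheses on the characteristic
hold), together with the companion statement for a regular nilpotent element of Lie B. Let k be a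
field and u an n × n upper-triangular matrix over k whose diagonal entries are all equal and whose
superdiagonal entries u_{i,i+1} are all non-zero — for diagonal 1 this is a regular unipotent
element of B(k), for diagonal 0 a regular nilpotent element of Lie B. Then the centralizer of u in
GL_n is contained in B and is the product of the centre with the centralizer in the unipotent
radical: for every commutative k-algebra R and every invertible x ∈ M_n(R) commuting with u_R, x is
upper triangular and its diagonal entries are all equal. (The smoothness of the centralizer in the
unipotent radical, also part of the published statement, is not stated here.) -/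
theorem result (k : Type u) [Field k] (n : ℕ)
    (u : Matrix (Fin n) (Fin n) k) (htri : ∀ i j : Fin n, j < i → u i j = 0) (hdiag : ∀ i j : Fin n, u i i = u j j)
    (hreg : ∀ (i j : Fin n), j.val = i.val + 1 → u i j ≠ 0)
    (R : Type u) [CommRing R] [Algebra k R] (x : Matrix (Fin n) (Fin n) R) (hx : IsUnit x)
    (hxu : x * u.map (algebraMap k R) = u.map (algebraMap k R) * x) :
    (∀ i j : Fin n, j < i → x i j = 0) ∧ (∀ i j : Fin n, x i i = x j j) := by
  rcases n with _ | n
  · exact ⟨fun i => i.elim0, fun i => i.elim0⟩
  set U := u.map (algebraMap k R) with hU
  set c : R := U 0 0 with hcdef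
  have hcomm : x * (U - c • (1 : Matrix (Fin (n+1)) (Fin (n+1)) R)) =
      (U - c • (1 : Matrix (Fin (n+1)) (Fin (n+1)) R)) * x := by
    rw [mul_sub, sub_mul, hxu]
    simp
  apply core (n + 1) (U - c • (1 : Matrix (Fin (n+1)) (Fin (n+1)) R)) x _ _ hcomm
  · intro l j hjl
    rcases lt_or_eq_of_le hjl with h | h
    · have hne : l ≠ j := (ne_of_lt h).symm
      simp [hU, htri l j h, Matrix.one_apply_ne hne]
    · subst h
      simp [hU, hcdef, hdiag j 0, Algebra.algebraMap_eq_smul_one]
  · intro i j hij
    have hne : i ≠ j := by
      intro h; rw [h] at hij; omega
    have : (U - c • (1 : Matrix (Fin (n+1)) (Fin (n+1)) R)) i j = algebraMap k R (u i j) := by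
      simp [hU, Matrix.one_apply_ne hne]
    rw [this]
    exact (IsUnit.mk0 _ (hreg i j hij)).map (algebraMap k R)

end Groth.Agent.S15845
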