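import Groth.Statements.S5949
import Groth.Agent.Lib.Helper7.BiratIso

set_option autoImplicit false
universe u
open CategoryTheory AlgebraicGeometry
open Unram17

namespace Groth.Agent.S5949

open Groth.Agent.Lib.Helper7 in
/-- The canonical morphism from the generic point is dominant. -/
theorem isDominant_fromSpecStalk_genericPoint (X : Scheme.{u}) [IsIntegral X] :
    IsDominant (X.fromSpecStalk (genericPoint X)) := by
  refine ⟨?_⟩
  have h : Dense ({genericPoint X} : Set X) := by
    rw [dense_iff_closure_eq]
    exact (genericPoint_spec X)
  refine h.mono ?_
  rintro _ rfl
  exact ⟨_, Scheme.fromSpecStalk_closedPoint⟩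

open Groth.Agent.Lib.Helper7 in
/-- The stalk map of the normalization morphism at the generic point is bijective. -/
theorem bijective_stalkMap_normalizationι (X : Scheme.{u}) [IsIntegral X]
    [QuasiCompact (X.fromSpecStalk (genericPoint X))]
    [QuasiSeparated (X.fromSpecStalk (genericPoint X))]
    (z : (X.fromSpecStalk (genericPoint X)).normalization)
    (hz : z = genericPoint (X.fromSpecStalk (genericPoint X)).normalization) :
    Function.Bijective ((X.fromSpecStalk (genericPoint X)).fromNormalization.stalkMap z).hom := by
  set g := X.fromSpecStalk (genericPoint X) with hg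
  have hW : IsField (X.presheaf.stalk (genericPoint X)) := Field.toIsField X.functionField
  haveI : IsDomain (X.presheaf.stalk (genericPoint X)) :=
    inferInstanceAs (IsDomain X.functionField)
  let p : Spec (X.presheaf.stalk (genericPoint X)) := IsLocalRing.closedPoint _
  have hp : g.toNormalization p = genericPoint g.normalization :=
    NormField.toNormalization_eq_genericPoint g hW p
  have h1 : Function.Bijective (g.fromNormalization.stalkMap (g.toNormalization p)).hom := by
    refine BiratIso.bijective_stalkMap_of_comp g.toNormalization g.fromNormalization p hp ?_
    have h3 : Function.Bijective (g.stalkMap p).hom :=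
      BiratIso.bijective_stalkMap_fromSpecStalk_closedPoint X (genericPoint X)
    have h4 : IsIso ((g.toNormalization ≫ g.fromNormalization).stalkMap p) := by
      rw [g.toNormalization_fromNormalization]
      exact (ConcreteCategory.isIso_iff_bijective _).mpr h3
    exact (ConcreteCategory.isIso_iff_bijective _).mp h4
  rw [hz, ← hp]
  exact h1

/-- Let X be an integral scheme, X' ⟶ X its normalization (the normalization of X in its function
field), and f : Y ⟶ X a morphism of schemes. Then there is an isomorphism Y ≅ X' over X if and only
if: every local ring of Y is an integrally closed domain, f is an integral morphism, and f is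
birational, i.e. Y is irreducible, the fibre of f over the generic point of X consists of the
generic point of Y alone, and the induced map of local rings at the generic points is an
isomorphism. (The published statement allows X reduced with locally finitely many irreducible
components, the normalization then being taken componentwise; this row states the case of an
integral X. The quasi-compactness and quasi-separatedness binders on the generic point always hold
and only serve to form the normalization.) -/
theorem result (X : Scheme.{u}) [IsIntegral X]
    [QuasiCompact (X.fromSpecStalk (genericPoint X))] [QuasiSeparated (X.fromSpecStalk (genericPoint X))]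
    {Y : Scheme.{u}} (f : Y ⟶ X) :
    (∃ e : Y ≅ Curv2.normalization X, e.hom ≫ Curv2.normalizationι X = f) ↔
      Pi1.IsNormalScheme Y ∧ IsIntegralHom f ∧
        ∃ _ : IrreducibleSpace ↥Y, f.base ⁻¹' {genericPoint X} = {genericPoint Y} ∧
          IsIso (f.stalkMap (genericPoint Y)) := by
  classical
  open Groth.Agent.Lib.Helper7 in
  set g := X.fromSpecStalk (genericPoint X) with hg
  have hW : IsField (X.presheaf.stalk (genericPoint X)) := Field.toIsField X.functionField
  haveI : IsDomain (X.presheaf.stalk (genericPoint X)) :=
    inferInstanceAs (IsDomain X.functionField)
  haveI : IsDominant g := isDominant_fromSpecStalk_genericPoint X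
  have hNnormal : Pi1.IsNormalScheme g.normalization := NormField.isNormalScheme_normalization hW g
  have hνξ : g.fromNormalization (genericPoint g.normalization) = genericPoint X :=
    NormField.fromNormalization_genericPoint g
  constructor
  · rintro ⟨e, rfl⟩
    change Y ≅ g.normalization at e
    change Pi1.IsNormalScheme Y ∧ IsIntegralHom (e.hom ≫ g.fromNormalization) ∧
      ∃ _ : IrreducibleSpace ↥Y, (e.hom ≫ g.fromNormalization).base ⁻¹' {genericPoint X} =
        {genericPoint Y} ∧ IsIso ((e.hom ≫ g.fromNormalization).stalkMap (genericPoint Y))
    haveI : Nonempty Y := ⟨e.inv (genericPoint g.normalization)⟩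
    haveI : IsIntegral Y := isIntegral_of_isOpenImmersion e.hom
    have heξ : e.hom (genericPoint Y) = genericPoint g.normalization :=
      genericPoint_eq_of_isOpenImmersion e.hom
    refine ⟨NormField.isNormalScheme_of_isOpenImmersion e.hom hNnormal, inferInstance,
      inferInstance, ?_, ?_⟩
    · ext y
      simp only [Set.mem_preimage, Set.mem_singleton_iff]
      constructor
      · intro hy
        have h1 : g.fromNormalization (e.hom y) = genericPoint X := hy
        have h2 := NormField.eq_genericPoint_of_isIntegralHom g.fromNormalization _ h1
        rw [← heξ] at h2
        exact e.hom.homeomorph.injective h2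
      · rintro rfl
        show g.fromNormalization (e.hom (genericPoint Y)) = genericPoint X
        rw [heξ, hνξ]
    · rw [Scheme.Hom.stalkMap_comp]
      have : IsIso (g.fromNormalization.stalkMap (e.hom (genericPoint Y))) :=
        (ConcreteCategory.isIso_iff_bijective _).mpr
          (bijective_stalkMap_normalizationι X _ heξ)
      have h5 : IsIso (e.hom.stalkMap (genericPoint Y)) := inferInstance
      exact IsIso.comp_isIso' this h5
  · rintro ⟨hYn, hf, hirr, hfib, hiso⟩
    haveI : IsIntegral Y := BiratIso.isIntegral_of_isNormalScheme hYn
    have hfξ : f (genericPoint Y) = genericPoint X := by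
      have : genericPoint Y ∈ f.base ⁻¹' {genericPoint X} := by rw [hfib]; rfl
      exact this
    let g₁ : Spec (X.presheaf.stalk (genericPoint X)) ⟶ Y :=
      Spec.map (inv (f.stalkMap (genericPoint Y)) ≫
        X.presheaf.stalkSpecializes (specializes_of_eq hfξ.symm)) ≫
        Y.fromSpecStalk (genericPoint Y)
    have H : g = g₁ ≫ f := by
      simp only [g₁, Category.assoc]
      rw [← Scheme.SpecMap_stalkMap_fromSpecStalk, ← Spec.map_comp_assoc]
      simp only [Category.assoc, IsIso.hom_inv_id_assoc]
      rw [Scheme.SpecMap_stalkSpecializes_fromSpecStalk]
    let d : g.normalization ⟶ Y := g.normalizationDesc g₁ f H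
    have hd : d ≫ f = g.fromNormalization := g.normalizationDesc_comp g₁ f H
    have hdξ : d (genericPoint g.normalization) = genericPoint Y := by
      have h1 : f (d (genericPoint g.normalization)) = genericPoint X := by
        rw [← Scheme.Hom.comp_apply, hd, hνξ]
      have : d (genericPoint g.normalization) ∈ f.base ⁻¹' {genericPoint X} := h1
      rw [hfib] at this
      exact this
    have hfbij : ∀ y : Y, y = genericPoint Y → Function.Bijective (f.stalkMap y).hom := by
      rintro _ rfl
      exact (ConcreteCategory.isIso_iff_bijective _).mp hiso
    have hdiso : IsIso d := by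
      refine BiratIso.isIso_of_isIntegralHom_of_birational hYn d hdξ ?_
      have h1 : Function.Bijective ((d ≫ f).stalkMap (genericPoint g.normalization)).hom := by
        rw [hd]
        exact bijective_stalkMap_normalizationι X _ rfl
      have key : ∀ c, ((d ≫ f).stalkMap (genericPoint g.normalization)).hom c =
          (d.stalkMap (genericPoint g.normalization)).hom
            ((f.stalkMap (d (genericPoint g.normalization))).hom c) := fun c => by
        rw [Scheme.Hom.stalkMap_comp]; rfl
      have h2 := hfbij _ hdξ
      refine ⟨fun a b hab => ?_, fun c => ?_⟩
      · obtain ⟨a', rfl⟩ := h2.2 a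
        obtain ⟨b', rfl⟩ := h2.2 b
        rw [← key, ← key] at hab
        rw [h1.1 hab]
      · obtain ⟨c', hc'⟩ := h1.2 c
        rw [key] at hc'
        exact ⟨_, hc'⟩
    refine ⟨(asIso d).symm, ?_⟩
    change inv d ≫ g.fromNormalization = f
    rw [IsIso.inv_comp_eq, hd]

end Groth.Agent.S5949
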