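import Groth.Statements.S5950
import Groth.Agent.Lib.Helper7.BiratIso
import Groth.Agent.S5949

set_option autoImplicit false
universe u
open CategoryTheory AlgebraicGeometry
open Unram17

namespace Groth.Agent.S5950

open Groth.Agent.Lib.Helper7 in
/-- Restriction of a birational integral morphism over a normal open is an isomorphism. -/
theorem isIso_morphismRestrict_of_birational {X Y : Scheme.{u}} [IsIntegral X] [IsIntegral Y]
    (f : Y ⟶ X) [IsIntegralHom f] (hfξ : f (genericPoint Y) = genericPoint X)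
    (hiso : IsIso (f.stalkMap (genericPoint Y)))
    (V : X.Opens) (hVne : (V : Set X).Nonempty)
    (hV : ∀ x ∈ V, IsIntegrallyClosed (X.presheaf.stalk x)) : IsIso (f ∣_ V) := by
  haveI : Nonempty V := by
    obtain ⟨x, hx⟩ := hVne
    exact ⟨⟨x, hx⟩⟩
  have hξV : genericPoint X ∈ V :=
    ((genericPoint_spec X).mem_open_set_iff V.isOpen).mpr (by simpa using hVne)
  have hξV' : genericPoint Y ∈ f ⁻¹ᵁ V := by
    show f (genericPoint Y) ∈ V
    rw [hfξ]; exact hξV
  haveI : Nonempty (f ⁻¹ᵁ V).toScheme := ⟨⟨_, hξV'⟩⟩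
  haveI : IsIntegral (f ⁻¹ᵁ V).toScheme := isIntegral_of_isOpenImmersion (f ⁻¹ᵁ V).ι
  have hVn : Pi1.IsNormalScheme (V : Scheme.{u}) := by
    intro y
    let e : X.presheaf.stalk (V.ι y) ≃+* (V : Scheme.{u}).presheaf.stalk y :=
      (asIso (V.ι.stalkMap y)).commRingCatIsoToRingEquiv
    have h2 := hV (V.ι y) y.2
    exact ⟨e.symm.toMulEquiv.isDomain, IsIntegrallyClosed.of_equiv e⟩
  haveI : IsIntegralHom (f ∣_ V) := IsZariskiLocalAtTarget.restrict ‹_› V
  have hι : (f ⁻¹ᵁ V).ι (genericPoint (f ⁻¹ᵁ V).toScheme) = genericPoint Y :=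
    genericPoint_eq_of_isOpenImmersion (f ⁻¹ᵁ V).ι
  have hgen : (f ∣_ V) (genericPoint (f ⁻¹ᵁ V).toScheme) = genericPoint (V : Scheme.{u}) := by
    apply V.ι.isOpenEmbedding.injective
    rw [← Scheme.Hom.comp_apply, morphismRestrict_ι, Scheme.Hom.comp_apply, hι, hfξ,
      genericPoint_eq_of_isOpenImmersion V.ι]
  refine BiratIso.isIso_of_isIntegralHom_of_birational hVn (f ∣_ V) hgen ?_
  have h1 : IsIso (f.stalkMap (genericPoint (f ⁻¹ᵁ V).toScheme).1) := by
    have : ∀ y : Y, y = genericPoint Y → IsIso (f.stalkMap y) := by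
      rintro _ rfl; exact hiso
    exact this _ hι
  have h2 : IsIso ((f ∣_ V).stalkMap (genericPoint (f ⁻¹ᵁ V).toScheme)) :=
    ((MorphismProperty.isomorphisms CommRingCat).arrow_mk_iso_iff
      (morphismRestrictStalkMap f V _)).mpr h1
  exact (ConcreteCategory.isIso_iff_bijective _).mp h2

/-- Let X be an integral scheme which has a nonempty (hence dense) open subset at whose points the local
rings are integrally closed, let X' ⟶ X be its normalization, and let f : Y ⟶ X be a morphism of
schemes. Then there is an isomorphism Y ≅ X' over X if and only if: every local ring of Y is an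
integrally closed domain, f is an integral morphism, and there is a dense open subset U of X whose
preimage is dense in Y and such that the restriction f⁻¹(U) ⟶ U of f is an isomorphism. (The
published statement allows X reduced with locally finitely many irreducible components and a dense
normal open subset; this row states the case of an integral X. The quasi-compactness and
quasi-separatedness binders on the generic point always hold and only serve to form the
normalization.) -/
theorem result (X : Scheme.{u}) [IsIntegral X]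
    [QuasiCompact (X.fromSpecStalk (genericPoint X))] [QuasiSeparated (X.fromSpecStalk (genericPoint X))]
    (hV : ∃ V : X.Opens, (V : Set ↥X).Nonempty ∧ ∀ x ∈ V, IsIntegrallyClosed (X.presheaf.stalk x))
    {Y : Scheme.{u}} (f : Y ⟶ X) :
    (∃ e : Y ≅ Curv2.normalization X, e.hom ≫ Curv2.normalizationι X = f) ↔
      Pi1.IsNormalScheme Y ∧ IsIntegralHom f ∧
        ∃ U : X.Opens, Dense (U : Set ↥X) ∧ Dense ((f ⁻¹ᵁ U : Y.Opens) : Set ↥Y) ∧ IsIso (f ∣_ U) := by
  classical
  open Groth.Agent.Lib.Helper7 in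
  rw [Groth.Agent.S5949.result X f]
  constructor
  · rintro ⟨hYn, hf, hirr, hfib, hiso⟩
    refine ⟨hYn, hf, ?_⟩
    haveI : IsIntegral Y := BiratIso.isIntegral_of_isNormalScheme hYn
    have hfξ : f (genericPoint Y) = genericPoint X := by
      have : genericPoint Y ∈ f.base ⁻¹' {genericPoint X} := by rw [hfib]; rfl
      exact this
    obtain ⟨V, hVne, hV⟩ := hV
    have hξV : genericPoint X ∈ V :=
      ((genericPoint_spec X).mem_open_set_iff V.isOpen).mpr (by simpa using hVne)
    refine ⟨V, V.isOpen.dense hVne, ?_, isIso_morphismRestrict_of_birational f hfξ hiso V hVne hV⟩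
    refine (f ⁻¹ᵁ V).isOpen.dense ⟨genericPoint Y, ?_⟩
    show f (genericPoint Y) ∈ V
    rw [hfξ]; exact hξV
  · rintro ⟨hYn, hf, U, hU, hU', hiso⟩
    refine ⟨hYn, hf, ?_⟩
    haveI : Nonempty U := by
      obtain ⟨x, hx⟩ := hU.nonempty
      exact ⟨⟨x, hx⟩⟩
    -- `f ⁻¹ᵁ U` is homeomorphic to `U`, hence irreducible
    let e : ↥(f ⁻¹ᵁ U) ≃ₜ ↥U := (asIso (f ∣_ U)).hom.homeomorph
    haveI : IsIntegral (f ⁻¹ᵁ U : Scheme.{u}) := by
      haveI : Nonempty ↥(f ⁻¹ᵁ U : Scheme.{u}) := ⟨e.symm (genericPoint (U : Scheme.{u}))⟩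
      exact isIntegral_of_isOpenImmersion (f ∣_ U)
    have hirrset : IsIrreducible ((f ⁻¹ᵁ U : Y.Opens) : Set Y) := by
      have h1 : IsIrreducible (Set.univ : Set ↥(f ⁻¹ᵁ U : Scheme.{u})) :=
        IrreducibleSpace.isIrreducible_univ _
      have h2 := h1.image (f ⁻¹ᵁ U).ι (f ⁻¹ᵁ U).ι.continuous.continuousOn
      rwa [Set.image_univ, Scheme.Opens.range_ι] at h2
    haveI hirr : IrreducibleSpace Y := by
      have h3 := hirrset.closure
      rw [hU'.closure_eq] at h3
      exact (irreducibleSpace_def Y).mpr h3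
    haveI : IsIntegral Y := BiratIso.isIntegral_of_isNormalScheme hYn
    have hι : (f ⁻¹ᵁ U).ι (genericPoint (f ⁻¹ᵁ U).toScheme) = genericPoint Y :=
      genericPoint_eq_of_isOpenImmersion (f ⁻¹ᵁ U).ι
    have hfξ : f (genericPoint Y) = genericPoint X := by
      rw [← hι, ← Scheme.Hom.comp_apply, ← morphismRestrict_ι, Scheme.Hom.comp_apply,
        genericPoint_eq_of_isOpenImmersion (f ∣_ U), genericPoint_eq_of_isOpenImmersion U.ι]
    refine ⟨hirr, ?_, ?_⟩
    · ext y
      simp only [Set.mem_preimage, Set.mem_singleton_iff]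
      constructor
      · intro hy
        exact NormField.eq_genericPoint_of_isIntegralHom f y hy
      · rintro rfl
        exact hfξ
    · have h2 : IsIso ((f ∣_ U).stalkMap (genericPoint (f ⁻¹ᵁ U).toScheme)) := inferInstance
      have h1 : IsIso (f.stalkMap (genericPoint (f ⁻¹ᵁ U).toScheme).1) :=
        ((MorphismProperty.isomorphisms CommRingCat).arrow_mk_iso_iff
          (morphismRestrictStalkMap f U _)).mp h2
      exact hι ▸ h1

end Groth.Agent.S5950
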