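import Groth.Statements.S9688
import Groth.Agent.Lib.Helper7.NormFibre

set_option autoImplicit false
universe u
open CategoryTheory CategoryTheory.Limits AlgebraicGeometry
open Mor

namespace Groth.Agent.S9688


section Finite
open Groth.Agent.Lib.Helper7.NormRed

variable {R S : Type u} [CommRing R] [CommRing S] [IsDomain R] [IsDomain S] [Algebra R S]
  [Algebra.IsIntegral R S] [IsIntegrallyClosed S]

omit [IsDomain R] in
theorem finite_of_isN1_aux
    (K : Type u) [Field K] [Algebra S K] [IsFractionRing S K] [Algebra R K] [IsScalarTower R S K]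
    (hinj : Function.Injective (algebraMap R S))
    (hfrac : ∀ s : S, ∃ a b : R, b ≠ 0 ∧ algebraMap R S b * s = algebraMap R S a)
    (h1 : Module.Finite R (integralClosure R (FractionRing R))) : Module.Finite R S := by
  haveI : IsFractionRing R K := isFractionRing_of_hfrac hinj hfrac K
  let e : FractionRing R ≃ₐ[R] K := FractionRing.algEquiv R K
  haveI h2 : Module.Finite R (integralClosure R K) :=
    Module.Finite.equiv (e.mapIntegralClosure).toLinearEquiv
  let ψ : S →ₐ[R] K := IsScalarTower.toAlgHom R S K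
  have hψinj : Function.Injective ψ := IsFractionRing.injective S K
  have hrange : ψ.range = integralClosure R K := by
    ext z
    constructor
    · rintro ⟨s, rfl⟩
      exact (Algebra.IsIntegral.isIntegral (R := R) s).map ψ
    · intro hz
      have hz' : IsIntegral R z := hz
      have : IsIntegral S z := hz'.tower_top
      obtain ⟨s, hs⟩ := IsIntegrallyClosed.isIntegral_iff.mp this
      exact ⟨s, hs⟩
  have e' : S ≃ₐ[R] ψ.range := AlgEquiv.ofInjective ψ hψinj
  haveI : Module.Finite R ψ.range := by rw [hrange]; exact h2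
  exact Module.Finite.equiv e'.symm.toLinearEquiv

theorem finite_of_isN1
    (hinj : Function.Injective (algebraMap R S))
    (hfrac : ∀ s : S, ∃ a b : R, b ≠ 0 ∧ algebraMap R S b * s = algebraMap R S a)
    (h1 : Module.Finite R (integralClosure R (FractionRing R))) : Module.Finite R S :=
  finite_of_isN1_aux (FractionRing S) hinj hfrac h1

end Finite


/-- Let X be an integral Japanese scheme (every nonempty affine open has Japanese, i.e. N-2, coordinate
ring). Then the normalization morphism X^ν ⟶ X is finite. (The quasi-compactness and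
quasi-separatedness binders on Spec K(X) ⟶ X always hold; they are only needed to form the
normalization.) -/
theorem result (X : Scheme.{u}) [IsIntegral X] [QuasiCompact (X.fromSpecStalk (genericPoint ↥X))] [QuasiSeparated (X.fromSpecStalk (genericPoint ↥X))]
    (hJ : ∀ (U : X.Opens), IsAffineOpen U → ∀ (hne : Nonempty ↥U),
      @CAlg.IsN2 ↑Γ(X, U) _ (@IsIntegral.component_integral X _ U hne)) :
    IsFinite (Curv2.normalizationι X) := by
  classical
  open Groth.Agent.Lib.Helper7 in
  open NormFactor NormRed NormFibre in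
  change IsFinite (nu X)
  refine { toIsAffineHom := inferInstance, finite_app := fun U hU => ?_ }
  by_cases hne : Nonempty U
  · letI : Algebra Γ(X, U) Γ(NN X, (nu X) ⁻¹ᵁ U) := ((nu X).app U).hom.toAlgebra
    haveI : Nonempty ((nu X) ⁻¹ᵁ U : (NN X).Opens) := ⟨⟨_, genericPoint_mem_preimage X U⟩⟩
    have hV : IsAffineOpen ((nu X) ⁻¹ᵁ U) := hU.preimage (nu X)
    haveI : IsIntegrallyClosed Γ(NN X, (nu X) ⁻¹ᵁ U) :=
      BiratIso.isIntegrallyClosed_sections_of_isNormalScheme (isNormalScheme_NN X) _ hV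
    haveI : Algebra.IsIntegral Γ(X, U) Γ(NN X, (nu X) ⁻¹ᵁ U) :=
      ⟨IsIntegralHom.isIntegral_app (nu X) U hU⟩
    have hinj : Function.Injective (algebraMap Γ(X, U) Γ(NN X, (nu X) ⁻¹ᵁ U)) :=
      hinj_normalization X U
    have hfrac : ∀ s : Γ(NN X, (nu X) ⁻¹ᵁ U), ∃ a b : Γ(X, U), b ≠ 0 ∧
        algebraMap Γ(X, U) Γ(NN X, (nu X) ⁻¹ᵁ U) b * s =
          algebraMap Γ(X, U) Γ(NN X, (nu X) ⁻¹ᵁ U) a := by
      intro s
      obtain ⟨b, a, hb, h⟩ := hfrac_normalization X U hU s
      exact ⟨a, b, hb, h⟩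
    have h1 : Module.Finite Γ(X, U) (integralClosure Γ(X, U) (FractionRing Γ(X, U))) :=
      hJ U hU hne (FractionRing Γ(X, U)) inferInstance
    exact finite_of_isN1 hinj hfrac h1
  · have hU0 : U = ⊥ := by
      ext y
      simp only [TopologicalSpace.Opens.coe_bot, Set.mem_empty_iff_false, iff_false]
      exact fun hy => hne ⟨⟨y, hy⟩⟩
    subst hU0
    letI : Algebra Γ(X, (⊥ : X.Opens)) Γ(NN X, (nu X) ⁻¹ᵁ ⊥) := ((nu X).app ⊥).hom.toAlgebra
    haveI : Subsingleton Γ(NN X, (nu X) ⁻¹ᵁ (⊥ : X.Opens)) := by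
      have : (nu X) ⁻¹ᵁ (⊥ : X.Opens) = ⊥ := rfl
      rw [this]
      infer_instance
    change Module.Finite Γ(X, (⊥ : X.Opens)) Γ(NN X, (nu X) ⁻¹ᵁ ⊥)
    infer_instance

end Groth.Agent.S9688
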