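import Groth.Statements.S1585
import Groth.Agent.Lib.Helper7.NormFibre
import Groth.Agent.Lib.Helper39.FieldN2
import Groth.Agent.S9688
import Groth.Agent.S5950

set_option autoImplicit false
universe u
open CategoryTheory CategoryTheory.Limits AlgebraicGeometry
open Variety

namespace Groth.Agent.S1585


section Conductor
open Groth.Agent.Lib.Helper7.NormRed

theorem exists_conductor {R S : Type*} [CommRing R] [IsDomain R] [CommRing S] [Algebra R S]
    [Module.Finite R S]
    (hfrac : ∀ s : S, ∃ a b : R, b ≠ 0 ∧ algebraMap R S b * s = algebraMap R S a) :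
    ∃ b : R, b ≠ 0 ∧ ∀ s : S, ∃ r : R, algebraMap R S r = algebraMap R S b * s := by
  classical
  obtain ⟨n, g, hg⟩ := Module.Finite.exists_fin (R := R) (M := S)
  choose a bb hb h using fun i => hfrac (g i)
  refine ⟨∏ i, bb i, Finset.prod_ne_zero_iff.mpr fun i _ => hb i, fun s => ?_⟩
  have hs : s ∈ Submodule.span R (Set.range g) := by rw [hg]; trivial
  induction hs using Submodule.span_induction with
  | mem x hx =>
    obtain ⟨i, rfl⟩ := hx
    refine ⟨(∏ j ∈ Finset.univ.erase i, bb j) * a i, ?_⟩
    rw [← Finset.mul_prod_erase Finset.univ bb (Finset.mem_univ i), map_mul, map_mul, ← h i]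
    ring
  | zero => exact ⟨0, by simp⟩
  | add x y _ _ hx hy =>
    obtain ⟨r1, h1⟩ := hx
    obtain ⟨r2, h2⟩ := hy
    exact ⟨r1 + r2, by rw [map_add, h1, h2, mul_add]⟩
  | smul c x _ hx =>
    obtain ⟨r, hr⟩ := hx
    exact ⟨c * r, by rw [map_mul, hr, Algebra.smul_def]; ring⟩

theorem surjective_toNormRed_of_conductor {R S A : Type u} [CommRing R] [CommRing S] [Algebra R S]
    (p : Ideal R) [p.IsPrime] [CommRing A] [Algebra R A] [IsLocalization.AtPrime A p]
    (β : S →+* CAlg2.normRed A)
    (hβ : ∀ r, β (algebraMap R S r) = toNormRed A (algebraMap R A r))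
    (hloc : letI := β.toAlgebra
      IsLocalization (Algebra.algebraMapSubmonoid S p.primeCompl) (CAlg2.normRed A))
    (b : R) (hbp : b ∉ p) (hb : ∀ s : S, ∃ r : R, algebraMap R S r = algebraMap R S b * s) :
    Function.Surjective (toNormRed A) := by
  letI := β.toAlgebra
  haveI := hloc
  intro w
  obtain ⟨⟨s, ⟨_, m, hm, rfl⟩⟩, hw⟩ :=
    IsLocalization.surj (Algebra.algebraMapSubmonoid S p.primeCompl) w
  change w * β (algebraMap R S m) = β s at hw
  obtain ⟨r, hr⟩ := hb s
  have h1 : toNormRed A (algebraMap R A r) =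
      toNormRed A (algebraMap R A b) * (w * toNormRed A (algebraMap R A m)) := by
    rw [← hβ, ← hβ, ← hβ, hr, map_mul, hw]
  have ub : IsUnit (algebraMap R A b) := IsLocalization.map_units A (⟨b, hbp⟩ : p.primeCompl)
  have um : IsUnit (algebraMap R A m) := IsLocalization.map_units A (⟨m, hm⟩ : p.primeCompl)
  obtain ⟨ub', hub'⟩ := ub
  obtain ⟨um', hum'⟩ := um
  refine ⟨↑ub'⁻¹ * ↑um'⁻¹ * algebraMap R A r, ?_⟩
  rw [map_mul, h1, ← hub', ← hum', map_mul]
  have e1 : toNormRed A (↑ub'⁻¹ : A) * toNormRed A (↑ub' : A) = 1 := by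
    rw [← map_mul, Units.inv_mul, map_one]
  have e2 : toNormRed A (↑um'⁻¹ : A) * toNormRed A (↑um' : A) = 1 := by
    rw [← map_mul, Units.inv_mul, map_one]
  calc toNormRed A ↑ub'⁻¹ * toNormRed A ↑um'⁻¹ * (toNormRed A ↑ub' * (w * toNormRed A ↑um'))
      = (toNormRed A ↑ub'⁻¹ * toNormRed A ↑ub') * (toNormRed A ↑um'⁻¹ * toNormRed A ↑um') * w := by
        ring
    _ = w := by rw [e1, e2]; ring

theorem isIntegrallyClosed_of_surjective_toNormRed (A : Type u) [CommRing A] [IsDomain A]
    (h : Function.Surjective (toNormRed A)) : IsIntegrallyClosed A := by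
  rw [isIntegrallyClosed_iff (FractionRing A)]
  intro z hz
  obtain ⟨a, ha⟩ := h ((normRedEquiv A (FractionRing A)).symm ⟨z, hz⟩)
  refine ⟨a, ?_⟩
  have := normRedEquiv_toNormRed A (FractionRing A) a
  rw [ha, RingEquiv.apply_symm_apply] at this
  exact (congrArg Subtype.val this).symm

end Conductor


/-- Part (1): and (4), for an integral scheme locally of finite type over a field: the normalization
morphism ν (normalization of X in its function field) is finite, dominant and an isomorphism over a
nonempty open, and the normalization is an integral scheme all of whose local rings are integrally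
closed domains. (The quasi-compactness/quasi-separatedness binders on Spec K(X) → X always hold;
they are needed only to form Mathlib's relative normalization.) -/
theorem result (k : Type u) [Field k] (X : Scheme.{u}) [X.Over (Spec (CommRingCat.of k))] [IsIntegral X] [LocallyOfFiniteType (X ↘ (Spec (CommRingCat.of k)))]
    [QuasiCompact (X.fromSpecStalk (genericPoint X))] [QuasiSeparated (X.fromSpecStalk (genericPoint X))] :
    IsFinite (Curv2.normalizationι X) ∧ IsDominant (Curv2.normalizationι X) ∧
      (∃ V : X.Opens, (V : Set X).Nonempty ∧ IsIso (Curv2.normalizationι X ∣_ V)) ∧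
      IsIntegral (Curv2.normalization X) ∧ Pi1.IsNormalScheme (Curv2.normalization X) := by
  classical
  open Groth.Agent.Lib.Helper7 in
  open NormFactor NormRed NormFibre in
  have hfin : IsFinite (nu X) := by
    refine Groth.Agent.S9688.result X fun U hU hne => ?_
    have h1 : ((X ↘ Spec (CommRingCat.of k)).appLE ⊤ U le_top).hom.FiniteType :=
      (X ↘ Spec (CommRingCat.of k)).finiteType_appLE (isAffineOpen_top _) hU le_top
    have h2 : (Scheme.ΓSpecIso (CommRingCat.of k)).inv.hom.FiniteType :=
      RingHom.FiniteType.of_surjective _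
        (ConcreteCategory.bijective_of_isIso (Scheme.ΓSpecIso (CommRingCat.of k)).inv).2
    letI : Algebra k Γ(X, U) := (((X ↘ Spec (CommRingCat.of k)).appLE ⊤ U le_top).hom.comp
      (Scheme.ΓSpecIso (CommRingCat.of k)).inv.hom).toAlgebra
    haveI : Algebra.FiniteType k Γ(X, U) := h1.comp h2
    letI : IsDomain Γ(X, U) := @IsIntegral.component_integral X _ U hne
    exact Groth.Agent.Lib.Helper39.FieldN2.isN2_of_finiteType_field k Γ(X, U)
  haveI : IsDomain (X.presheaf.stalk (genericPoint X)) :=
    inferInstanceAs (IsDomain X.functionField)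
  haveI := isDominant_fromSpecStalk_genericPoint X
  have hsurj : Surjective (nu X) := NormField.surjective_fromNormalization_of_isDominant _
  have hdom : IsDominant (nu X) := inferInstance
  refine ⟨hfin, hdom, ?_, isIntegral_NN X, isNormalScheme_NN X⟩
  -- an affine open around the generic point
  obtain ⟨_, ⟨U, hU, rfl⟩, hξU, -⟩ := X.isBasis_affineOpens.exists_subset_of_mem_open
    (Set.mem_univ (genericPoint X)) isOpen_univ
  haveI : Nonempty U := ⟨⟨_, hξU⟩⟩
  letI : Algebra Γ(X, U) Γ(NN X, (nu X) ⁻¹ᵁ U) := ((nu X).app U).hom.toAlgebra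
  haveI : Module.Finite Γ(X, U) Γ(NN X, (nu X) ⁻¹ᵁ U) := hfin.finite_app U hU
  have hfrac : ∀ s : Γ(NN X, (nu X) ⁻¹ᵁ U), ∃ a b : Γ(X, U), b ≠ 0 ∧
      algebraMap Γ(X, U) Γ(NN X, (nu X) ⁻¹ᵁ U) b * s =
        algebraMap Γ(X, U) Γ(NN X, (nu X) ⁻¹ᵁ U) a := by
    intro s
    obtain ⟨b, a, hb, h⟩ := hfrac_normalization X U hU s
    exact ⟨a, b, hb, h⟩
  obtain ⟨b, hb0, hb⟩ := exists_conductor hfrac
  refine ⟨X.basicOpen b, ?_, ?_⟩
  · by_contra hempty
    have : X.basicOpen b = ⊥ := by
      ext y
      simp only [TopologicalSpace.Opens.coe_bot, Set.mem_empty_iff_false, iff_false]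
      exact fun hy => hempty ⟨y, hy⟩
    exact hb0 ((basicOpen_eq_bot_iff b).mp this)
  · have hiso : IsIso ((nu X).stalkMap (genericPoint (NN X))) :=
      (ConcreteCategory.isIso_iff_bijective _).mpr
        (bijective_stalkMap_fromNormalization X (genericPoint (NN X)) rfl)
    refine Groth.Agent.S5950.isIso_morphismRestrict_of_birational (nu X)
      (fromNormalization_genericPoint' X) hiso (X.basicOpen b) ?_ ?_
    · by_contra hempty
      have : X.basicOpen b = ⊥ := by
        ext y
        simp only [TopologicalSpace.Opens.coe_bot, Set.mem_empty_iff_false, iff_false]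
        exact fun hy => hempty ⟨y, hy⟩
      exact hb0 ((basicOpen_eq_bot_iff b).mp this)
    · intro x hxV
      have hx : x ∈ U := X.basicOpen_le b hxV
      obtain ⟨β, hβ, hloc⟩ := exists_beta X hU hx
      letI : Algebra Γ(X, U) (X.presheaf.stalk x) := X.presheaf.algebra_section_stalk ⟨x, hx⟩
      haveI : IsLocalization.AtPrime (X.presheaf.stalk x) (hU.primeIdealOf ⟨x, hx⟩).asIdeal :=
        hU.isLocalization_stalk ⟨x, hx⟩
      have hbp : b ∉ (hU.primeIdealOf ⟨x, hx⟩).asIdeal := by
        have h1 : IsUnit ((X.presheaf.germ U x hx).hom b) := (X.mem_basicOpen b x hx).mp hxV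
        exact (IsLocalization.AtPrime.isUnit_to_map_iff (X.presheaf.stalk x)
          (hU.primeIdealOf ⟨x, hx⟩).asIdeal b).mp h1
      apply isIntegrallyClosed_of_surjective_toNormRed
      exact surjective_toNormRed_of_conductor (hU.primeIdealOf ⟨x, hx⟩).asIdeal β hβ hloc b hbp hb

end Groth.Agent.S1585
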