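import Groth.Statements.S15884
import Mathlib
import Groth.Agent.Lib.Helper81.BMLevels
-- import your own Groth.Agent.* helpers here

set_option autoImplicit false
universe u
open CategoryTheory AlgebraicGeometry Opposite
open BMCoh

namespace Groth.Agent.S15884


open Groth.Agent.Lib.Helper81.BMLevels in

/-- Let T be a twisted Borel–Moore cohomology theory with coefficients in A on a constructible class V
of Noetherian schemes, X an object of V, M a coefficient module, i and n integers and j a natural
number with i ≤ 2j (that is, j is at least the ceiling of i/2). Then the canonical map H^i(X, M(n))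
→ H^i(F_jX, M(n)), to the colimit of H^i(U, M(n)) over the open subschemes U of X that contain every
point of codimension at most j (codimension of a point = dim X minus the dimension of its closure),
is bijective. -/
theorem result (V : ObjectProperty Scheme.{u}) [BMCoh.IsConstructible V] (R : Type u) [CommRing R] (A : BMCoh.Coefs R) (T : BMCoh.TheoryOn V R A) (X : BMCoh.Obj V) (M : A.Cat) (j : ℕ) (i n : ℤ) (hj : i ≤ 2 * (j : ℤ)) : Function.Bijective ((T.toFj X j i n).app M).hom := by
  have h1 := toFj_bijective_of_dim_le T.toPreTheory X M (j + WeilCoh.dim X.scheme)
    (Nat.le_add_left _ _) i n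
  have h2 := fjRes_bijective_of_le T X M j i n hj (j + WeilCoh.dim X.scheme) (Nat.le_add_right _ _)
  have hcomp : ((T.toFj X j i n).app M).hom =
      ((T.fjRes X (Nat.le_add_right j (WeilCoh.dim X.scheme)) i n).app M).hom ∘
        ((T.toFj X (j + WeilCoh.dim X.scheme) i n).app M).hom := by
    funext a
    exact (fjRes_toFj T.toPreTheory X _ i n M a).symm
  rw [hcomp]
  exact h2.comp h1

end Groth.Agent.S15884
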