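import Groth.Statements.S15889
import Mathlib
-- import your own Groth.Agent.* helpers here

set_option autoImplicit false
universe u
open Versch

namespace Groth.Agent.S15889
open TensorProduct


section
variable (p : ℕ) [hp : Fact p.Prime] (R : Type u) [CommRing R] [CharP R p]
    (A : Type u) [CommRing A] [HopfAlgebra R A] [Coalgebra.IsCocomm R A] [Module.Finite R A] [Module.Projective R A]
    [CharP A p]

omit [Coalgebra.IsCocomm R A] [Module.Finite R A] [Module.Projective R A] in
theorem relFrob_tmul (b : A) (a : FrobAlg.Twist p R) :
    FrobAlg.relFrob p R A (b ⊗ₜ[R] a) = b ^ p * algebraMap R A ((FrobAlg.toTwist p R).symm a) := by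
  simp only [FrobAlg.relFrob, RingHom.coe_comp, Function.comp_apply, AlgHom.toRingHom_eq_coe,
    RingHom.coe_coe, Algebra.TensorProduct.lift_tmul]
  rfl

/-- ι : D → Conv(A, A) -/
noncomputable def ι (y : CartDual.D R A) : WithConv (A →ₗ[R] A) :=
  WithConv.toConv (Algebra.linearMap R A ∘ₗ y.ofConv)

omit [Coalgebra.IsCocomm R A] [Module.Finite R A] [Module.Projective R A] in
lemma ι_apply (y : CartDual.D R A) (a : A) : ι R A y a = algebraMap R A (y a) := rfl

omit [Coalgebra.IsCocomm R A] [Module.Finite R A] [Module.Projective R A] in
lemma ι_mul (y y' : CartDual.D R A) : ι R A (y * y') = ι R A y * ι R A y' := by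
  have h := LinearMap.algHom_comp_convMul_distrib (Algebra.ofId R A) y y'
  apply WithConv.ext
  exact h

omit [Coalgebra.IsCocomm R A] [Module.Finite R A] [Module.Projective R A] in
lemma ι_one : ι R A 1 = 1 := by
  apply WithConv.ext
  apply LinearMap.ext
  intro a
  change algebraMap R A ((1 : CartDual.D R A) a) = (1 : WithConv (A →ₗ[R] A)) a
  rw [LinearMap.convOne_apply, LinearMap.convOne_apply]
  rfl

omit [Coalgebra.IsCocomm R A] [Module.Finite R A] [Module.Projective R A] in
lemma ι_pow (y : CartDual.D R A) (n : ℕ) : ι R A (y ^ n) = ι R A y ^ n := by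
  induction n with
  | zero => rw [pow_zero, pow_zero, ι_one]
  | succ n ih => rw [pow_succ, pow_succ, ι_mul, ih]

instance convCharP : CharP (WithConv (A →ₗ[R] A)) p :=
  charP_of_injective_algebraMap (R := R) (A := WithConv (A →ₗ[R] A)) (by
    intro r s h
    have h1 := congrArg (fun x : WithConv (A →ₗ[R] A) => x 1) h
    simp only [LinearMap.convAlgebraMap_apply, Bialgebra.counit_one, map_one] at h1
    have h2 : algebraMap R A r = algebraMap R A s := by
      rw [Algebra.algebraMap_eq_smul_one, Algebra.algebraMap_eq_smul_one]; exact h1
    exact Bialgebra.algebraMap_injective (R := R) A h2) p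



end

/-- Let p be a prime, R a commutative ring of characteristic p and A a commutative and cocommutative
Hopf algebra over R which is finitely generated and projective as an R-module, of characteristic p
(a finite locally free commutative group scheme G = Spec A over S = Spec R). Let v : A → A ⊗_R
R^(Frob) be the comorphism of the Verschiebung V : G^(p) → G, i.e. the ring map whose transpose
under the canonical pairing is the relative Frobenius of the dual Hopf algebra. Then the composite
of the relative Frobenius comorphism A^(p) → A with v is the p-th convolution power of the identity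
of A: V ∘ F = [p] is multiplication by p on G. (The published notes work over a Noetherian base
ring; the row allows any commutative base ring of characteristic p.) -/
theorem result (p : ℕ) [Fact p.Prime] (R : Type u) [CommRing R] [CharP R p]
    (A : Type u) [CommRing A] [HopfAlgebra R A] [Coalgebra.IsCocomm R A] [Module.Finite R A] [Module.Projective R A]
    [CharP A p] (v : A →+* FrobAlg.BaseChange p R A) (hv : Versch.IsVerschiebung p R A v) :
    (FrobAlg.relFrob p R A).comp v = (SGA3b.powConv R A p).toRingHom := by
  rw [Versch.isVerschiebung_iff] at hv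
  obtain ⟨n, f, g, -, -, hfg⟩ := Module.Finite.exists_comp_eq_id_of_projective R A
  let e : Fin n → A := fun i => f (Pi.single i 1)
  let y : Fin n → CartDual.D R A := fun i => WithConv.toConv (LinearMap.proj i ∘ₗ g)
  have hdec : ∀ a : A, a = ∑ i, (y i a) • e i := by
    intro a
    have h1 : a = f (g a) := by
      have := congrArg (fun φ : A →ₗ[R] A => φ a) hfg
      exact this.symm
    conv_lhs => rw [h1, LinearMap.pi_apply_eq_sum_univ f (g a)]
    refine Finset.sum_congr rfl fun i _ => ?_
    congr 2
    ext j
    simp [Pi.single_apply, eq_comm]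
  -- relFrob formula
  have hrel : ∀ z : FrobAlg.BaseChange p R A, FrobAlg.relFrob p R A z =
      ∑ i, e i ^ p * algebraMap R A ((FrobAlg.toTwist p R).symm (Versch.evTw p R A (y i) z)) := by
    intro z
    induction z using TensorProduct.induction_on with
    | zero => simp
    | tmul a s =>
      rw [relFrob_tmul]
      conv_lhs => rw [hdec a, sum_pow_char, Finset.sum_mul]
      refine Finset.sum_congr rfl fun i _ => ?_
      rw [Versch.evTw_tmul', map_mul, RingEquiv.symm_apply_apply, map_mul, Algebra.smul_def, mul_pow, map_pow]
      ring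
    | add z z' hz hz' =>
      rw [map_add, hz, hz', ← Finset.sum_add_distrib]
      refine Finset.sum_congr rfl fun i _ => ?_
      rw [map_add, map_add, map_add, mul_add]
  -- identity decomposition in the convolution algebra
  have hid : (WithConv.toConv (LinearMap.id : A →ₗ[R] A)) = ∑ i, e i • ι R A (y i) := by
    apply WithConv.ext
    apply LinearMap.ext
    intro a
    rw [WithConv.ofConv_toConv, LinearMap.id_apply, WithConv.ofConv_sum, LinearMap.sum_apply]
    conv_lhs => rw [hdec a]
    refine Finset.sum_congr rfl fun i _ => ?_
    rw [WithConv.ofConv_smul, LinearMap.smul_apply]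
    change _ = e i • algebraMap R A (y i a)
    rw [Algebra.smul_def, smul_eq_mul, mul_comm]
  have hpow : (WithConv.toConv (LinearMap.id : A →ₗ[R] A)) ^ p = ∑ i, (e i ^ p) • ι R A (y i ^ p) := by
    rw [hid, sum_pow_char]
    refine Finset.sum_congr rfl fun i _ => ?_
    rw [smul_pow, ι_pow]
  have hpc : ∀ a : A, SGA3b.powConv R A p a = ((WithConv.toConv (LinearMap.id : A →ₗ[R] A)) ^ p) a := by
    intro a
    have h1 := AlgHom.toLinearMap_convPow (WithConv.toConv (AlgHom.id R A)) p
    have h2 : (WithConv.toConv (AlgHom.id R A)).ofConv.toLinearMap = (LinearMap.id : A →ₗ[R] A) := rfl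
    rw [h2] at h1
    rw [← h1]
    rfl
  apply RingHom.ext
  intro a
  change FrobAlg.relFrob p R A (v a) = SGA3b.powConv R A p a
  rw [hrel, hpc, hpow]
  have h3 : (∑ i, (e i ^ p) • ι R A (y i ^ p)) a = ∑ i, (e i ^ p) • algebraMap R A ((y i ^ p) a) := by
    change (∑ i, (e i ^ p) • ι R A (y i ^ p)).ofConv a = _
    rw [WithConv.ofConv_sum, LinearMap.sum_apply]
    rfl
  rw [h3]
  refine Finset.sum_congr rfl fun i _ => ?_
  rw [hv a (y i), RingEquiv.symm_apply_apply, smul_eq_mul]


end Groth.Agent.S15889
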