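import Groth.Statements.S15891
import Groth.Agent.S15889
import Mathlib
-- import your own Groth.Agent.* helpers here

set_option autoImplicit false
universe u
open scoped TensorProduct
open Versch

namespace Groth.Agent.S15891
open TensorProduct


section BC
variable (R : Type u) [CommRing R] (T : Type u) [CommRing T] [Algebra R T] (A : Type u) [CommRing A]
  [Bialgebra R A]

/-- base change of a Sweedler representation -/
noncomputable def reprBC {ι : Type*} {a : A} (ℛ : Coalgebra.Repr R a ι) :
    Coalgebra.Repr T ((1 : T) ⊗ₜ[R] a) ι where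
  index := ℛ.index
  left i := 1 ⊗ₜ ℛ.left i
  right i := 1 ⊗ₜ ℛ.right i
  eq := by
    rw [TensorProduct.comul_tmul, ← ℛ.eq, CommSemiring.comul_apply, TensorProduct.tmul_sum, map_sum]
    refine Finset.sum_congr rfl fun i _ => ?_
    simp

lemma convMul_bc (f g : WithConv (T ⊗[R] A →ₗ[T] T ⊗[R] A)) (f₀ g₀ : WithConv (A →ₗ[R] A))
    (hf : ∀ a, f (1 ⊗ₜ a) = 1 ⊗ₜ f₀ a) (hg : ∀ a, g (1 ⊗ₜ a) = 1 ⊗ₜ g₀ a) (a : A) :
    (f * g) (1 ⊗ₜ a) = 1 ⊗ₜ (f₀ * g₀) a := by
  rw [(reprBC R T A (Coalgebra.Repr.arbitrary R a)).convMul_apply, (Coalgebra.Repr.arbitrary R a).convMul_apply,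
    TensorProduct.tmul_sum]
  refine Finset.sum_congr rfl fun i _ => ?_
  change f (1 ⊗ₜ _) * g (1 ⊗ₜ _) = _
  rw [hf, hg, Algebra.TensorProduct.tmul_mul_tmul, mul_one]

lemma convOne_bc (a : A) :
    (1 : WithConv (T ⊗[R] A →ₗ[T] T ⊗[R] A)) (1 ⊗ₜ a) = 1 ⊗ₜ (1 : WithConv (A →ₗ[R] A)) a := by
  rw [LinearMap.convOne_apply, LinearMap.convOne_apply, TensorProduct.counit_tmul, CommSemiring.counit_apply,
    Algebra.TensorProduct.algebraMap_apply, Algebra.algebraMap_eq_smul_one (A := A), TensorProduct.tmul_smul,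
    TensorProduct.smul_tmul']
  rfl

lemma convPow_bc (n : ℕ) (a : A) :
    ((WithConv.toConv (LinearMap.id : T ⊗[R] A →ₗ[T] T ⊗[R] A)) ^ n) (1 ⊗ₜ a) =
      1 ⊗ₜ ((WithConv.toConv (LinearMap.id : A →ₗ[R] A)) ^ n) a := by
  induction n generalizing a with
  | zero => rw [pow_zero, pow_zero, convOne_bc]
  | succ n ih =>
    rw [pow_succ, pow_succ]
    exact convMul_bc R T A _ _ _ _ ih (fun a => rfl) a

end BC

section Main
variable (p : ℕ) [hp : Fact p.Prime] (R : Type u) [CommRing R] [CharP R p]
    (A : Type u) [CommRing A] [HopfAlgebra R A] [Coalgebra.IsCocomm R A] [Module.Finite R A] [Module.Projective R A]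
    [CharP A p]

omit [Coalgebra.IsCocomm R A] [Module.Finite R A] [Module.Projective R A] in
lemma pow_p_eq (z : FrobAlg.BaseChange p R A) :
    z ^ p = (FrobAlg.relFrob p R A z) ⊗ₜ[R] (1 : FrobAlg.Twist p R) := by
  have hp0 : (p : FrobAlg.BaseChange p R A) = 0 := by
    rw [← map_natCast (algebraMap R (FrobAlg.BaseChange p R A)) p, CharP.cast_eq_zero R p, map_zero]
  induction z using TensorProduct.induction_on with
  | zero => rw [zero_pow hp.out.ne_zero, map_zero, zero_tmul]
  | tmul a s =>
    rw [Algebra.TensorProduct.tmul_pow, Groth.Agent.S15889.relFrob_tmul, mul_comm, ← Algebra.smul_def,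
      TensorProduct.smul_tmul]
    congr 1
    rw [Algebra.smul_def, mul_one, FrobAlg.algebraMap_twist, map_pow, RingEquiv.apply_symm_apply]
  | add z z' hz hz' =>
    obtain ⟨r, hr⟩ := (Commute.all z z').exists_add_pow_prime_eq hp.out
    rw [hr, hp0, zero_mul, zero_mul, zero_mul, add_zero, hz, hz', map_add, add_tmul]

omit [CharP A p] in
lemma v_algebraMap (v : A →+* FrobAlg.BaseChange p R A) (hv : Versch.IsVerschiebung p R A v) (r : R) :
    v (algebraMap R A r) = 1 ⊗ₜ FrobAlg.toTwist p R r := by
  rw [Versch.isVerschiebung_iff] at hv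
  apply Versch.evTw_injective p R A
  intro x
  have h1 : (x ^ p) 1 = (x 1) ^ p := map_pow (Bialgebra.counitAlgHom R (CartDual.D R A)) x p
  rw [hv, Versch.evTw_tmul', Algebra.algebraMap_eq_smul_one, CartDual.coe_apply, map_smul, ← CartDual.coe_apply,
    h1, smul_eq_mul, map_mul, mul_comm]


end Main

/-- Let p be a prime, R a commutative ring of characteristic p and A a commutative and cocommutative
Hopf algebra over R which is finitely generated and projective as an R-module, of characteristic p
(a finite locally free commutative group scheme G = Spec A over S = Spec R), and let v : A → A^(p) =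
A ⊗_R R^(Frob) be the comorphism of the Verschiebung V : G^(p) → G (the ring map whose transpose
under the canonical pairing is the relative Frobenius of the dual Hopf algebra). Then F ∘ V = [p] is
multiplication by p on the S-group G^(p): the ring endomorphism v ∘ F* of A^(p), where F* : A^(p) →
A is the relative Frobenius comorphism, transported along the symmetry A ⊗_R R^(Frob) ≅ R^(Frob) ⊗_R
A, is the p-th convolution power of the identity of the Hopf algebra R^(Frob) ⊗_R A over R^(Frob)
(the base change of A along the Frobenius of R). (The published notes work over a Noetherian base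
ring; the row allows any commutative base ring of characteristic p.) -/
theorem result (p : ℕ) [Fact p.Prime] (R : Type u) [CommRing R] [CharP R p]
    (A : Type u) [CommRing A] [HopfAlgebra R A] [Coalgebra.IsCocomm R A] [Module.Finite R A] [Module.Projective R A]
    [CharP A p] (v : A →+* FrobAlg.BaseChange p R A) (hv : Versch.IsVerschiebung p R A v) :
    ((Algebra.TensorProduct.comm R A (FrobAlg.Twist p R)).toRingEquiv.toRingHom.comp
        ((v.comp (FrobAlg.relFrob p R A)).comp
          (Algebra.TensorProduct.comm R A (FrobAlg.Twist p R)).symm.toRingEquiv.toRingHom)) =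
      (SGA3b.powConv (FrobAlg.Twist p R) (FrobAlg.Twist p R ⊗[R] A) p).toRingHom := by
  have h89 := Groth.Agent.S15889.result p R A v hv
  have hpc : ∀ a : A, SGA3b.powConv R A p a = ((WithConv.toConv (LinearMap.id : A →ₗ[R] A)) ^ p) a := by
    intro a
    have h1 := AlgHom.toLinearMap_convPow (WithConv.toConv (AlgHom.id R A)) p
    have h2 : (WithConv.toConv (AlgHom.id R A)).ofConv.toLinearMap = (LinearMap.id : A →ₗ[R] A) := rfl
    rw [h2] at h1
    rw [← h1]
    rfl
  have hpcT : ∀ z : FrobAlg.Twist p R ⊗[R] A, SGA3b.powConv (FrobAlg.Twist p R) (FrobAlg.Twist p R ⊗[R] A) p z =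
      ((WithConv.toConv (LinearMap.id : FrobAlg.Twist p R ⊗[R] A →ₗ[FrobAlg.Twist p R] FrobAlg.Twist p R ⊗[R] A)) ^ p) z := by
    intro z
    have h1 := AlgHom.toLinearMap_convPow
      (WithConv.toConv (AlgHom.id (FrobAlg.Twist p R) (FrobAlg.Twist p R ⊗[R] A))) p
    have h2 : (WithConv.toConv (AlgHom.id (FrobAlg.Twist p R) (FrobAlg.Twist p R ⊗[R] A))).ofConv.toLinearMap =
      (LinearMap.id : FrobAlg.Twist p R ⊗[R] A →ₗ[FrobAlg.Twist p R] FrobAlg.Twist p R ⊗[R] A) := rfl
    rw [h2] at h1
    rw [← h1]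
    rfl
  apply RingHom.ext
  intro z
  induction z using TensorProduct.induction_on with
  | zero => rw [map_zero, map_zero]
  | add z z' hz hz' => rw [map_add, map_add, hz, hz']
  | tmul t a =>
    change Algebra.TensorProduct.comm R A (FrobAlg.Twist p R)
      (v (FrobAlg.relFrob p R A ((Algebra.TensorProduct.comm R A (FrobAlg.Twist p R)).symm (t ⊗ₜ a)))) =
      SGA3b.powConv (FrobAlg.Twist p R) (FrobAlg.Twist p R ⊗[R] A) p (t ⊗ₜ a)
    have hta : t ⊗ₜ[R] a = t • ((1 : FrobAlg.Twist p R) ⊗ₜ[R] a) := by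
      rw [TensorProduct.smul_tmul', smul_eq_mul, mul_one]
    have h1 : SGA3b.powConv (FrobAlg.Twist p R) (FrobAlg.Twist p R ⊗[R] A) p (t ⊗ₜ a) =
        t ⊗ₜ[R] (FrobAlg.relFrob p R A (v a)) := by
      rw [hta, map_smul, hpcT, convPow_bc, ← hpc, TensorProduct.smul_tmul', smul_eq_mul, mul_one]
      congr 1
      exact (congrArg (fun φ => φ a) h89).symm
    rw [h1, Algebra.TensorProduct.comm_symm_tmul, Groth.Agent.S15889.relFrob_tmul, map_mul, map_pow,
      v_algebraMap p R A v hv, pow_p_eq, RingEquiv.apply_symm_apply, Algebra.TensorProduct.tmul_mul_tmul,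
      mul_one, one_mul, Algebra.TensorProduct.comm_tmul]


end Groth.Agent.S15891
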