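import Groth.Statements.S15894
import Mathlib
-- import your own Groth.Agent.* helpers here

set_option autoImplicit false
universe u
open scoped TensorProduct
open Versch

namespace Groth.Agent.S15894

lemma pow_apply_single (R : Type u) [CommRing R] (G : Type) [Group G] [Fintype G] [DecidableEq G]
    (x : CartDual.D R (MonoidAlgebra R G)) (g : G) (n : ℕ) :
    (x ^ n) (MonoidAlgebra.single g (1 : R)) = (x (MonoidAlgebra.single g (1 : R))) ^ n := by
  induction n with
  | zero =>
    rw [pow_zero, pow_zero, LinearMap.convOne_apply, MonoidAlgebra.counit_single]
    simp
  | succ n ih =>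
    rw [pow_succ, pow_succ, LinearMap.convMul_apply, MonoidAlgebra.comul_single]
    simp only [CommSemiring.comul_apply, TensorProduct.map_tmul, MonoidAlgebra.lsingle_apply,
      LinearMap.mul'_apply]
    rw [← ih]



/-- Let p be a prime, R a commutative ring of characteristic p and A = R[ℤ/p] the group algebra of the
cyclic group of order p, the Hopf algebra of the group scheme μ_p of p-th roots of unity over Spec
R. Let v : A → A ⊗_R R^(Frob) be the comorphism of the Verschiebung V : μ_p^(p) → μ_p (the ring map
whose transpose under the canonical pairing is the relative Frobenius of the dual Hopf algebra).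
Then v(c·g) = g ⊗ c for every group element g and every scalar c ∈ R, the scalar being moved into
the Frobenius-twisted factor through the identity of underlying rings: under the identification
μ_p^(p) = μ_p the Verschiebung of μ_p is the identity. -/
theorem result (p : ℕ) [Fact p.Prime] (R : Type u) [CommRing R] [CharP R p]
    (v : MonoidAlgebra R (Multiplicative (ZMod p)) →+* FrobAlg.BaseChange p R (MonoidAlgebra R (Multiplicative (ZMod p))))
    (hv : Versch.IsVerschiebung p R (MonoidAlgebra R (Multiplicative (ZMod p))) v)
    (g : Multiplicative (ZMod p)) (c : R) :
    v (MonoidAlgebra.single g c) = MonoidAlgebra.single g (1 : R) ⊗ₜ[R] FrobAlg.toTwist p R c := by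
  rw [Versch.isVerschiebung_iff] at hv
  apply Versch.evTw_injective p R
  intro x
  rw [hv, Versch.evTw_tmul']
  have h1 : MonoidAlgebra.single g c = c • MonoidAlgebra.single g (1 : R) := by
    rw [MonoidAlgebra.smul_single, smul_eq_mul, mul_one]
  have h2 := pow_apply_single R _ x g p
  rw [CartDual.coe_apply, CartDual.coe_apply] at h2
  rw [h1, map_smul, smul_eq_mul, h2, map_mul, mul_comm]

end Groth.Agent.S15894
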