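import Groth.Statements.S15895
import Groth.Agent.Lib.Helper81.CartDualLib
import Mathlib
-- import your own Groth.Agent.* helpers here

set_option autoImplicit false
universe u
open scoped TensorProduct
open Versch

namespace Groth.Agent.S15895
open Groth.Agent.Lib.Helper81.CartDualLib

lemma zmod_pow (p : ℕ) [Fact p.Prime] (g : Multiplicative (ZMod p)) : g ^ p = 1 := by
  have : p • (Multiplicative.toAdd g) = 0 := by
    rw [nsmul_eq_mul, CharP.cast_eq_zero, zero_mul]
  rw [← ofAdd_toAdd g, ← ofAdd_nsmul, this, ofAdd_zero]

lemma pow_p_monoidAlgebra (p : ℕ) [Fact p.Prime] (R : Type u) [CommRing R] [CharP R p]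
    (a : MonoidAlgebra R (Multiplicative (ZMod p))) :
    a ^ p = algebraMap R _ ((Coalgebra.counit (R := R) a) ^ p) := by
  have : CharP (MonoidAlgebra R (Multiplicative (ZMod p))) p :=
    charP_of_injective_algebraMap (R := R) (A := MonoidAlgebra R (Multiplicative (ZMod p))) (by
      intro r s h
      have := congrArg (fun x : MonoidAlgebra R (Multiplicative (ZMod p)) => Coalgebra.counit (R := R) x) h
      simpa [Bialgebra.counit_algebraMap] using this) p
  let φ₁ : MonoidAlgebra R (Multiplicative (ZMod p)) →+* MonoidAlgebra R (Multiplicative (ZMod p)) :=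
    frobenius _ p
  let φ₂ : MonoidAlgebra R (Multiplicative (ZMod p)) →+* MonoidAlgebra R (Multiplicative (ZMod p)) :=
    (algebraMap R _).comp ((frobenius R p).comp (Bialgebra.counitAlgHom R _).toRingHom)
  have h : φ₁ = φ₂ := by
    apply MonoidAlgebra.ringHom_ext
    · intro r
      simp [φ₁, φ₂, frobenius_def, MonoidAlgebra.single_pow]
    · intro g
      simp [φ₁, φ₂, frobenius_def, MonoidAlgebra.single_pow, zmod_pow]
  exact congrArg (fun φ => φ a) h



/-- Let p be a prime, R a commutative ring of characteristic p and B = Hom_R(R[ℤ/p], R) the dual Hopf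
algebra of the group algebra of the cyclic group of order p: the Hopf algebra of the constant group
scheme ℤ/p over Spec R (the Cartier dual of μ_p). Let v : B → B ⊗_R R^(Frob) be the comorphism of
the Verschiebung V : (ℤ/p)^(p) → ℤ/p (the ring map whose transpose under the canonical pairing is
the relative Frobenius of the dual Hopf algebra of B). Then V is the trivial homomorphism: v is the
composite of the counit ε : B → R, the identity of underlying rings R → R^(Frob) and the inclusion
of the twisted factor R^(Frob) → B ⊗_R R^(Frob), i.e. v(b) = 1 ⊗ ε(b). -/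
theorem result (p : ℕ) [Fact p.Prime] (R : Type u) [CommRing R]
    [CharP R p] (v : CartDual.D R (MonoidAlgebra R (Multiplicative (ZMod p))) →+* FrobAlg.BaseChange p R (CartDual.D R (MonoidAlgebra R (Multiplicative (ZMod p)))))
    (hv : Versch.IsVerschiebung p R (CartDual.D R (MonoidAlgebra R (Multiplicative (ZMod p)))) v) :
    v = ((Algebra.TensorProduct.includeRight (R := R) (A := CartDual.D R (MonoidAlgebra R (Multiplicative (ZMod p))))
            (B := FrobAlg.Twist p R)).toRingHom.comp (FrobAlg.toTwist p R).toRingHom).comp
          (Bialgebra.counitAlgHom R (CartDual.D R (MonoidAlgebra R (Multiplicative (ZMod p))))).toRingHom := by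
  refine eq_trivialVersch_of_pow p R (CartDual.D R (MonoidAlgebra R (Multiplicative (ZMod p)))) ?_ v hv
  intro X
  obtain ⟨a, rfl⟩ := (evDLin_bijective R (MonoidAlgebra R (Multiplicative (ZMod p)))).2 X
  rw [← evDLin_pow, pow_p_monoidAlgebra, evDLin_algebraMap, evDLin_apply]
  congr 2

end Groth.Agent.S15895
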