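import Groth.Statements.S15896
import Groth.Agent.S15062
import Groth.Agent.S16079

set_option autoImplicit false
universe u
open scoped TensorProduct
open Hopf

namespace Groth.Agent.S15896

section aux

open scoped TensorProduct

variable {R : Type u} [CommRing R] {A : Type u} [CommRing A] [HopfAlgebra R A]

theorem core [IsNoetherianRing R] [Nontrivial R] (I J : Ideal A) [I.IsHopfIdeal R]
    [J.IsHopfIdeal R] (hIJ : ∀ b ∈ I, b ∈ J)
    [Module.Finite R A]
    [Module.Projective R (A ⧸ I)] [Coalgebra.IsCocomm R (A ⧸ I)]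
    [Module.Projective R (A ⧸ J)] [Coalgebra.IsCocomm R (A ⧸ J)]
    [Algebra.Etale R (CartDual.D R (A ⧸ J))]
    (e' : CartDual.D R (A ⧸ I)) (he' : IsIdempotentElem e')
    (hε' : Bialgebra.counitAlgHom R (CartDual.D R (A ⧸ I)) e' = 1)
    [IsLocalRing (CartDual.D R (A ⧸ I) ⧸ Ideal.span ({1 - e'} : Set (CartDual.D R (A ⧸ I))))]
    (a : A)
    (ha : ∀ x : CartDual.D R (A ⧸ I),
      LinearMap.lTensor (CartDual.D R (A ⧸ I)) (LinearMap.mulLeft R e')
        (Coalgebra.comul (R := R) x) = x ⊗ₜ[R] e' → x (Ideal.Quotient.mk I a) = 0) :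
    a ∈ J := by
  let ψ : A ⧸ I →ₐc[R] A ⧸ J := Groth.Agent.S16079.quotMap (BialgHom.id R A) I J hIJ
  let T : CartDual.D R (A ⧸ J) →ₐc[R] CartDual.D R (A ⧸ I) := CartDual.transpose R ψ
  have hT : ∀ y : CartDual.D R (A ⧸ J), e' * T y = Coalgebra.counit (R := R) y • e' := by
    intro y
    have h1 := Groth.Agent.S15062.proj_eq e' hε' (CartDual.D R (A ⧸ J)) T y
    have h2 : T y - algebraMap R _ (Coalgebra.counit (R := R) y) ∈
        Ideal.span ({1 - e'} : Set (CartDual.D R (A ⧸ I))) := by
      rw [← Ideal.Quotient.eq_zero_iff_mem, map_sub, h1]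
      simp
    obtain ⟨c, hc⟩ := Ideal.mem_span_singleton'.mp h2
    have h3 : T y = algebraMap R _ (Coalgebra.counit (R := R) y) + c * (1 - e') := by
      rw [hc]; ring
    have h4 : e' * (c * (1 - e')) = c * (e' - e' * e') := by ring
    rw [h3, mul_add, h4, he'.eq, sub_self, mul_zero, add_zero, Algebra.smul_def, mul_comm]
  have key : ∀ t : CartDual.D R (A ⧸ J) ⊗[R] CartDual.D R (A ⧸ J),
      LinearMap.lTensor (CartDual.D R (A ⧸ I)) (LinearMap.mulLeft R e')
        (TensorProduct.map (T : CartDual.D R (A ⧸ J) →ₗ[R] CartDual.D R (A ⧸ I))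
          (T : CartDual.D R (A ⧸ J) →ₗ[R] CartDual.D R (A ⧸ I)) t) =
      TensorProduct.map (T : CartDual.D R (A ⧸ J) →ₗ[R] CartDual.D R (A ⧸ I))
        (LinearMap.toSpanSingleton R (CartDual.D R (A ⧸ I)) e')
        (LinearMap.lTensor (CartDual.D R (A ⧸ J)) (Coalgebra.counit (R := R)) t) := by
    intro t
    induction t using TensorProduct.induction_on with
    | zero => simp only [map_zero]
    | add t t' h h' => simp only [map_add, h, h']
    | tmul y1 y2 =>
      simp only [LinearMap.lTensor_tmul, TensorProduct.map_tmul, LinearMap.mulLeft_apply,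
        LinearMap.toSpanSingleton_apply]
      congr 1
      exact hT y2
  have hinv : ∀ y : CartDual.D R (A ⧸ J),
      LinearMap.lTensor (CartDual.D R (A ⧸ I)) (LinearMap.mulLeft R e')
        (Coalgebra.comul (R := R) (T y)) = T y ⊗ₜ[R] e' := by
    intro y
    rw [← CoalgHomClass.map_comp_comul_apply T y]
    refine (key _).trans ?_
    rw [Coalgebra.lTensor_counit_comul, TensorProduct.map_tmul, LinearMap.toSpanSingleton_apply,
      one_smul]
    rfl
  have h0 : ∀ y : CartDual.D R (A ⧸ J), y (Ideal.Quotient.mk J a) = 0 :=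
    fun y => ha (T y) (hinv y)
  rw [← Ideal.Quotient.eq_zero_iff_mem]
  apply (Module.forall_dual_apply_eq_zero_iff R _).mp
  intro f
  exact h0 (WithConv.toConv f)

end aux

/-- Let R be a henselian Noetherian local ring and A a commutative and cocommutative Hopf algebra over R
which is finitely generated and projective as an R-module (a finite flat commutative R-group G =
Spec A). Let e ∈ A be an idempotent with ε(e) = 1 such that the ideal (1 − e) is a Hopf ideal and A⁰
= A/(1 − e) is a local ring, projective over R, with cocommutative quotient structure (G⁰ = Spec A⁰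
is the connected component of the unit section). Let B = Hom_R(A⁰, R) be the dual Hopf algebra (the
Cartier dual (G⁰)^D) and e' ∈ B an idempotent with ε(e') = 1 and B/(1 − e') local (the unit
component of (G⁰)^D). Say that x ∈ B is invariant when (id ⊗ (multiplication by e'))(Δ x) = x ⊗ e',
i.e. x is invariant under translation by the unit component of (G⁰)^D, so that the invariant
elements form the Hopf algebra of the maximal étale quotient of (G⁰)^D; the ideal in A⁰ of the
closed subgroup G_μ ⊆ G⁰ ⊆ G consists of the elements annihilated by every invariant x (G_μ is the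
Cartier dual of the étale quotient of (G⁰)^D, a connected multiplicative subgroup of G). Then G_μ is
the largest connected multiplicative closed subgroup of G: for every Hopf ideal J of A such that A/J
is a local ring, projective over R, cocommutative, and has étale dual Hopf algebra Hom_R(A/J, R) (H
= Spec A/J a connected closed subgroup with étale Cartier dual), every a ∈ A whose image in A⁰ is
annihilated by all invariant x lies in J, i.e. H ⊆ G_μ. -/
theorem result (R : Type u) [CommRing R]
    [HenselianLocalRing R] [IsNoetherianRing R] (A : Type u) [CommRing A] [HopfAlgebra R A] [Coalgebra.IsCocomm R A]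
    [Module.Finite R A] [Module.Projective R A] (e : A) (he : IsIdempotentElem e)
    (hε : Bialgebra.counitAlgHom R A e = 1) [(Ideal.span ({1 - e} : Set A)).IsHopfIdeal R] [IsLocalRing (A ⧸ Ideal.span ({1 - e} : Set A))]
    [Module.Projective R (A ⧸ Ideal.span ({1 - e} : Set A))] [Coalgebra.IsCocomm R (A ⧸ Ideal.span ({1 - e} : Set A))]
    (e' : CartDual.D R (A ⧸ Ideal.span ({1 - e} : Set A))) (he' : IsIdempotentElem e')
    (hε' : Bialgebra.counitAlgHom R (CartDual.D R (A ⧸ Ideal.span ({1 - e} : Set A))) e' = 1)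
    [IsLocalRing (CartDual.D R (A ⧸ Ideal.span ({1 - e} : Set A)) ⧸ Ideal.span ({1 - e'} : Set (CartDual.D R (A ⧸ Ideal.span ({1 - e} : Set A)))))]
    (J : Ideal A) [J.IsHopfIdeal R] [IsLocalRing (A ⧸ J)] [Module.Projective R (A ⧸ J)]
    [Coalgebra.IsCocomm R (A ⧸ J)] [Algebra.Etale R (CartDual.D R (A ⧸ J))]
    (a : A) (ha : ∀ x : CartDual.D R (A ⧸ Ideal.span ({1 - e} : Set A)), LinearMap.lTensor (CartDual.D R (A ⧸ Ideal.span ({1 - e} : Set A))) (LinearMap.mulLeft R e') (Coalgebra.comul (R := R) x) = x ⊗ₜ[R] e' → x (Ideal.Quotient.mk (Ideal.span ({1 - e} : Set A)) a) = 0) :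
    a ∈ J := by
  have hIJ : ∀ b ∈ Ideal.span ({1 - e} : Set A), b ∈ J := by
    intro b hb
    obtain ⟨c, rfl⟩ := Ideal.mem_span_singleton'.mp hb
    apply Ideal.mul_mem_left
    rw [← Ideal.Quotient.eq_zero_iff_mem, map_sub, map_one, sub_eq_zero]
    symm
    apply Groth.Agent.S16079.eq_one_of_idem (Bialgebra.counitAlgHom R (A ⧸ J)).toRingHom
    · show Ideal.Quotient.mk J e * Ideal.Quotient.mk J e = Ideal.Quotient.mk J e
      rw [← map_mul, he.eq]
    · exact hε
  exact core _ J hIJ e' he' hε' a ha

end Groth.Agent.S15896
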