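import Groth.Statements.S15906
import Mathlib
import Groth.Agent.Lib.Helper64.DPLat

set_option autoImplicit false
open Surf

namespace Groth.Agent.S15906

open W4c3severiratdp in
/-- Work in the lattice of vectors (a; b_1, …, b_δ), standing for divisor classes a ℓ − Σ b_i e_i on the
blow-up of the projective plane at δ points written in a standard basis, with intersection form a a'
− Σ b_i b_i' and canonical class K = (−3; −1, …, −1); a conic class is a class Q with Q·Q = 0 and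
K·Q = −2, an exceptional class (the class of a (−1)-curve) is a class E with E·E = −1 and K·E = −1,
and the Weyl group W_δ is the group of additive automorphisms of the lattice preserving the form and
fixing K. For δ = 8, a class (a; b_1, …, b_8) is a conic class if and only if, up to a permutation
of b_1, …, b_8, it is one of the fifteen vectors (1; 1, 0, 0, 0, 0, 0, 0, 0), (2; 1, 1, 1, 1, 0, 0,
0, 0), (3; 2, 1, 1, 1, 1, 1, 0, 0), (4; 2, 2, 2, 1, 1, 1, 1, 0), (4; 3, 1, 1, 1, 1, 1, 1, 1), (5; 2,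
2, 2, 2, 2, 2, 1, 0), (5; 3, 2, 2, 2, 1, 1, 1, 1), (6; 3, 3, 2, 2, 2, 2, 1, 1), (7; 3, 3, 3, 3, 2,
2, 2, 1), (7; 4, 3, 2, 2, 2, 2, 2, 2), (8; 4, 3, 3, 3, 3, 2, 2, 2), (8; 3, 3, 3, 3, 3, 3, 3, 1), (9;
4, 4, 3, 3, 3, 3, 3, 2), (10; 4, 4, 4, 4, 3, 3, 3, 3), (11; 4, 4, 4, 4, 4, 4, 4, 3). (One line of
the published table is illegible in the available copy; the fifteen vectors here are the complete
solution set of the two defining equations a² = Σ b_i², 3a − Σ b_i = 2.) -/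
theorem result (v : DP 8) :
    IsConic v ↔
      ∃ t ∈ ({![1, 1, 0, 0, 0, 0, 0, 0, 0],
        ![2, 1, 1, 1, 1, 0, 0, 0, 0],
        ![3, 2, 1, 1, 1, 1, 1, 0, 0],
        ![4, 2, 2, 2, 1, 1, 1, 1, 0],
        ![4, 3, 1, 1, 1, 1, 1, 1, 1],
        ![5, 2, 2, 2, 2, 2, 2, 1, 0],
        ![5, 3, 2, 2, 2, 1, 1, 1, 1],
        ![6, 3, 3, 2, 2, 2, 2, 1, 1],
        ![7, 3, 3, 3, 3, 2, 2, 2, 1],
        ![7, 4, 3, 2, 2, 2, 2, 2, 2],
        ![8, 4, 3, 3, 3, 3, 2, 2, 2],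
        ![8, 3, 3, 3, 3, 3, 3, 3, 1],
        ![9, 4, 4, 3, 3, 3, 3, 3, 2],
        ![10, 4, 4, 4, 4, 3, 3, 3, 3],
        ![11, 4, 4, 4, 4, 4, 4, 4, 3]} : Set (DP 8)),
        ∃ σ : Equiv.Perm (Fin 8), v 0 = t 0 ∧ ∀ i : Fin 8, v (σ i).succ = t i.succ := by
  constructor
  · intro hv
    obtain ⟨ha1, ha11, hb⟩ := Groth.Agent.Lib.Helper64.DPLat.conic_bounds (le_refl 8) v hv
    rw [Groth.Agent.Lib.Helper64.DPLat.isConic_iff] at hv
    obtain ⟨h1, h2⟩ := hv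
    -- sort the `b`-coordinates
    let b : Fin 8 → ℤ := fun i => v i.succ
    let σ₀ : Equiv.Perm (Fin 8) := Tuple.sort b
    have hmono : Monotone (b ∘ σ₀) := Tuple.monotone_sort b
    have hs1 : ∑ i : Fin 8, b (σ₀ i) = ∑ i : Fin 8, v i.succ := Equiv.sum_comp σ₀ b
    have hs2 : ∑ i : Fin 8, b (σ₀ i) ^ 2 = ∑ i : Fin 8, v i.succ ^ 2 :=
      Equiv.sum_comp σ₀ (fun i => b i ^ 2)
    rw [← hs1] at h2
    rw [← hs2] at h1
    obtain ⟨a, ha⟩ : ∃ a, a = v 0 := ⟨_, rfl⟩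
    obtain ⟨x0, hx0⟩ : ∃ x, x = b (σ₀ 0) := ⟨_, rfl⟩
    obtain ⟨x1, hx1⟩ : ∃ x, x = b (σ₀ 1) := ⟨_, rfl⟩
    obtain ⟨x2, hx2⟩ : ∃ x, x = b (σ₀ 2) := ⟨_, rfl⟩
    obtain ⟨x3, hx3⟩ : ∃ x, x = b (σ₀ 3) := ⟨_, rfl⟩
    obtain ⟨x4, hx4⟩ : ∃ x, x = b (σ₀ 4) := ⟨_, rfl⟩
    obtain ⟨x5, hx5⟩ : ∃ x, x = b (σ₀ 5) := ⟨_, rfl⟩
    obtain ⟨x6, hx6⟩ : ∃ x, x = b (σ₀ 6) := ⟨_, rfl⟩
    obtain ⟨x7, hx7⟩ : ∃ x, x = b (σ₀ 7) := ⟨_, rfl⟩
    have key : (![a, x7, x6, x5, x4, x3, x2, x1, x0] : DP 8) ∈ ({![1, 1, 0, 0, 0, 0, 0, 0, 0],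
        ![2, 1, 1, 1, 1, 0, 0, 0, 0],
        ![3, 2, 1, 1, 1, 1, 1, 0, 0],
        ![4, 2, 2, 2, 1, 1, 1, 1, 0],
        ![4, 3, 1, 1, 1, 1, 1, 1, 1],
        ![5, 2, 2, 2, 2, 2, 2, 1, 0],
        ![5, 3, 2, 2, 2, 1, 1, 1, 1],
        ![6, 3, 3, 2, 2, 2, 2, 1, 1],
        ![7, 3, 3, 3, 3, 2, 2, 2, 1],
        ![7, 4, 3, 2, 2, 2, 2, 2, 2],
        ![8, 4, 3, 3, 3, 3, 2, 2, 2],
        ![8, 3, 3, 3, 3, 3, 3, 3, 1],
        ![9, 4, 4, 3, 3, 3, 3, 3, 2],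
        ![10, 4, 4, 4, 4, 3, 3, 3, 3],
        ![11, 4, 4, 4, 4, 4, 4, 4, 3]} : Set (DP 8)) →
        ∃ t ∈ ({![1, 1, 0, 0, 0, 0, 0, 0, 0],
        ![2, 1, 1, 1, 1, 0, 0, 0, 0],
        ![3, 2, 1, 1, 1, 1, 1, 0, 0],
        ![4, 2, 2, 2, 1, 1, 1, 1, 0],
        ![4, 3, 1, 1, 1, 1, 1, 1, 1],
        ![5, 2, 2, 2, 2, 2, 2, 1, 0],
        ![5, 3, 2, 2, 2, 1, 1, 1, 1],
        ![6, 3, 3, 2, 2, 2, 2, 1, 1],
        ![7, 3, 3, 3, 3, 2, 2, 2, 1],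
        ![7, 4, 3, 2, 2, 2, 2, 2, 2],
        ![8, 4, 3, 3, 3, 3, 2, 2, 2],
        ![8, 3, 3, 3, 3, 3, 3, 3, 1],
        ![9, 4, 4, 3, 3, 3, 3, 3, 2],
        ![10, 4, 4, 4, 4, 3, 3, 3, 3],
        ![11, 4, 4, 4, 4, 4, 4, 4, 3]} : Set (DP 8)),
        ∃ σ : Equiv.Perm (Fin 8), v 0 = t 0 ∧ ∀ i : Fin 8, v (σ i).succ = t i.succ := by
      intro hmem
      refine ⟨_, hmem, Fin.revPerm.trans σ₀, ?_, ?_⟩
      · rw [← ha]; rfl
      · intro i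
        fin_cases i
        · exact hx7.symm
        · exact hx6.symm
        · exact hx5.symm
        · exact hx4.symm
        · exact hx3.symm
        · exact hx2.symm
        · exact hx1.symm
        · exact hx0.symm
    have m01 : x0 ≤ x1 := by rw [hx0, hx1]; exact hmono (by decide)
    have m12 : x1 ≤ x2 := by rw [hx1, hx2]; exact hmono (by decide)
    have m23 : x2 ≤ x3 := by rw [hx2, hx3]; exact hmono (by decide)
    have m34 : x3 ≤ x4 := by rw [hx3, hx4]; exact hmono (by decide)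
    have m45 : x4 ≤ x5 := by rw [hx4, hx5]; exact hmono (by decide)
    have m56 : x5 ≤ x6 := by rw [hx5, hx6]; exact hmono (by decide)
    have m67 : x6 ≤ x7 := by rw [hx6, hx7]; exact hmono (by decide)
    have l0 : 0 ≤ x0 := by rw [hx0]; exact (hb _).1
    have u7 : x7 ≤ 4 := by rw [hx7]; exact (hb _).2
    have u0 : x0 ≤ 4 := by omega
    have u1 : x1 ≤ 4 := by omega
    have u2 : x2 ≤ 4 := by omega
    have u3 : x3 ≤ 4 := by omega
    have u4 : x4 ≤ 4 := by omega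
    have u5 : x5 ≤ 4 := by omega
    have u6 : x6 ≤ 4 := by omega
    rw [Fin.sum_univ_eight] at h1 h2
    rw [← ha, ← hx0, ← hx1, ← hx2, ← hx3, ← hx4, ← hx5, ← hx6, ← hx7] at h1
    rw [← ha, ← hx0, ← hx1, ← hx2, ← hx3, ← hx4, ← hx5, ← hx6, ← hx7] at h2
    rw [← ha] at ha1 ha11
    clear hx0 hx1 hx2 hx3 hx4 hx5 hx6 hx7 hs1 hs2 hmono ha hb
    apply key
    clear key
    interval_cases a <;>
    (interval_cases x0 <;> (try omega) <;>
     interval_cases x1 <;> (try omega) <;>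
     interval_cases x2 <;> (try omega) <;>
     interval_cases x3 <;> (try omega) <;>
     interval_cases x4 <;> (try omega) <;>
     interval_cases x5 <;> (try omega) <;>
     interval_cases x6 <;> (try omega) <;>
     interval_cases x7 <;> (try omega) <;> simp)
  · rintro ⟨t, ht, σ, h0, hσ⟩
    rw [Groth.Agent.Lib.Helper64.DPLat.isConic_iff]
    have e1 : ∑ i : Fin 8, v i.succ ^ 2 = ∑ i : Fin 8, t i.succ ^ 2 := by
      rw [← Equiv.sum_comp σ (fun i => v i.succ ^ 2)]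
      exact Finset.sum_congr rfl fun i _ => by rw [hσ i]
    have e2 : ∑ i : Fin 8, v i.succ = ∑ i : Fin 8, t i.succ := by
      rw [← Equiv.sum_comp σ (fun i => v i.succ)]
      exact Finset.sum_congr rfl fun i _ => by rw [hσ i]
    rw [e1, e2, h0]
    simp only [Set.mem_insert_iff, Set.mem_singleton_iff] at ht
    rcases ht with rfl | rfl | rfl | rfl | rfl | rfl | rfl | rfl | rfl | rfl | rfl | rfl | rfl | rfl | rfl <;>
    refine ⟨by decide, by decide⟩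

end Groth.Agent.S15906
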