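import Groth.Statements.S15908
import Mathlib
import Groth.Agent.Lib.Helper64.DPConic8b

set_option autoImplicit false
open Surf

namespace Groth.Agent.S15908

open W4c3severiratdp in
/-- Work in the lattice of vectors (a; b_1, …, b_δ), standing for divisor classes a ℓ − Σ b_i e_i on the
blow-up of the projective plane at δ points written in a standard basis, with intersection form a a'
− Σ b_i b_i' and canonical class K = (−3; −1, …, −1); a conic class is a class Q with Q·Q = 0 and
K·Q = −2, an exceptional class (the class of a (−1)-curve) is a class E with E·E = −1 and K·E = −1,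
and the Weyl group W_δ is the group of additive automorphisms of the lattice preserving the form and
fixing K. For δ = 8 the ordered pairs (Q_1, Q_2) of conic classes with Q_1·Q_2 = 4 form exactly two
W_8-orbits: there are two such pairs that no element of W_8 carries one to the other, and every such
pair is carried by an element of W_8 to one of these two. -/
theorem result :
    ∃ p₁ p₂ q₁ q₂ : DP 8, IsConic p₁ ∧ IsConic p₂ ∧ IsConic q₁ ∧ IsConic q₂ ∧ form p₁ p₂ = 4 ∧ form q₁ q₂ = 4 ∧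
      (¬ ∃ g : DP 8 ≃ₗ[ℤ] DP 8, IsWeyl g ∧ g p₁ = q₁ ∧ g p₂ = q₂) ∧
      ∀ v₁ v₂ : DP 8, IsConic v₁ → IsConic v₂ → form v₁ v₂ = 4 →
        ∃ g : DP 8 ≃ₗ[ℤ] DP 8, IsWeyl g ∧ ((g v₁ = p₁ ∧ g v₂ = p₂) ∨ (g v₁ = q₁ ∧ g v₂ = q₂)) := by
  open Groth.Agent.Lib.Helper64.DPLat Groth.Agent.Lib.Helper64.DPWeyl
    Groth.Agent.Lib.Helper64.DPExc8 Groth.Agent.Lib.Helper64.DPConic8 in
  refine ⟨F, TF4a, F, TF4b, by unfold IsConic; decide, by unfold IsConic; decide,
    by unfold IsConic; decide, by unfold IsConic; decide, by decide, by decide, ?_, ?_⟩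
  · rintro ⟨g, -, hgF, hgA⟩
    have h1 : g (F + TF4a) = (2 : ℤ) • (![3, 1, 1, 1, 1, 1, 1, 1, 0] : DP 8) := by
      rw [map_add, hgF, hgA]; decide
    have h2 : F + TF4a = (2 : ℤ) • g.symm (![3, 1, 1, 1, 1, 1, 1, 1, 0] : DP 8) := by
      rw [← map_smul, ← h1, LinearEquiv.symm_apply_apply]
    have h3 := congrFun h2 0
    have h4 : (F + TF4a) 0 = 5 := by decide
    rw [h4, Pi.smul_apply, smul_eq_mul] at h3
    omega
  · intro v₁ v₂ hv₁ hv₂ h12
    have hC : ∀ v : DP 8, InC 8 v := fun v j hj => absurd j.2 (by omega)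
    obtain ⟨ha1, -, -⟩ := conic_bounds (le_refl 8) v₁ hv₁
    obtain ⟨g1, hg1, -, hg1v⟩ := descentC 8 (by norm_num) (le_refl 8) (v₁ 0).toNat v₁ hv₁ (hC _)
      (by omega)
    have hu : IsConic (g1 v₂) := IsWeyl.isConic hg1 hv₂
    obtain ⟨hb1, -, -⟩ := conic_bounds (le_refl 8) _ hu
    obtain ⟨g2, hg2, -, hg2F, hmin⟩ := descentCF 8 (by norm_num) (le_refl 8) (g1 v₂ 0).toNat
      (g1 v₂) hu (hC _) (by omega)
    have hform : form F (g2 (g1 v₂)) = 4 := by
      conv_lhs => rw [← hg2F]
      rw [hg2.1, ← hg1v, hg1.1, h12]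
    refine ⟨g1.trans g2, IsWeyl.trans hg1 hg2, ?_⟩
    have e1 : (g1.trans g2) v₁ = F := by rw [LinearEquiv.trans_apply, hg1v, hg2F]
    rw [e1, LinearEquiv.trans_apply]
    unfold IsMinF at hmin
    rcases hmin with h | h | h | h | h | h | h | h | h | h
    all_goals first
      | exact Or.inl ⟨rfl, h⟩
      | exact Or.inr ⟨rfl, h⟩
      | (exfalso; rw [h] at hform; revert hform; decide)

end Groth.Agent.S15908
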