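import Groth.Statements.S15939
-- import your own Groth.Agent.* helpers here
import Mathlib
import Groth.Agent.Lib.Helper72.TwoSub

set_option autoImplicit false
universe u
open CAlg

namespace Groth.Agent.S15939

open Polynomial in
/-- Let κ be a field and A a commutative κ-algebra whose only κ-subalgebras are the image of κ and A
itself, these two being different. Then A is finite-dimensional over κ, and A is isomorphic as a
κ-algebra to the dual numbers over κ, or to κ × κ, or A is a field which is either separable over κ
or isomorphic to κ[X]/(X^p - a) with p the (positive) characteristic of κ and a an element of κ that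
is not a p-th power. (The published statement also records that these four cases exclude one
another; that part is not restated.) -/
theorem result (κ A : Type u) [Field κ] [CommRing A] [Algebra κ A]
    (h : IsSimpleOrder (Subalgebra κ A)) :
    FiniteDimensional κ A ∧
    (Nonempty (A ≃ₐ[κ] DualNumber κ) ∨ Nonempty (A ≃ₐ[κ] (κ × κ)) ∨
      (IsField A ∧ (Algebra.IsSeparable κ A ∨
        ∃ (p : ℕ) (a : κ), p.Prime ∧ CharP κ p ∧ (∀ b : κ, b ^ p ≠ a) ∧
          Nonempty (A ≃ₐ[κ] AdjoinRoot (X ^ p - C a))))) := by
  open Groth.Agent.Lib.Helper72.TwoSub in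
  have h2 : ∀ B : Subalgebra κ A, B = ⊥ ∨ B = ⊤ := fun B => h.eq_bot_or_eq_top B
  have hne : (⊥ : Subalgebra κ A) ≠ ⊤ := by
    have := h.toNontrivial
    exact bot_ne_top
  obtain ⟨x, hx⟩ : ∃ x : A, x ∉ (⊥ : Subalgebra κ A) := by
    by_contra hcon
    push Not at hcon
    exact hne (eq_top_iff.mpr fun y _ => hcon y)
  have hnt : Nontrivial A := ⟨⟨x, 0, fun h0 => hx (h0 ▸ (⊥ : Subalgebra κ A).zero_mem)⟩⟩
  have hint : IsIntegral κ x := isIntegral_of_twoSub h2 x
  have hadj : Algebra.adjoin κ {x} = ⊤ :=
    (h2 _).resolve_left (fun hb => hx (hb ▸ Algebra.self_mem_adjoin_singleton κ x))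
  have hfin : FiniteDimensional κ A := by
    have := hint.fg_adjoin_singleton
    rw [hadj, Algebra.top_toSubmodule] at this
    exact ⟨this⟩
  refine ⟨hfin, ?_⟩
  by_cases hF : IsField A
  · right; right
    refine ⟨hF, ?_⟩
    letI := hF.toField
    have : Algebra.IsAlgebraic κ A := Algebra.IsAlgebraic.of_finite κ A
    exact field_case h2 x hx
  · obtain ⟨t, ht0, hcase, hspan⟩ := exists_special h2 hF
    rcases hcase with hsq | ⟨hid, ht1⟩
    · left; exact dual_equiv t ht0 hsq hspan
    · right; left; exact prod_equiv t ht0 ht1 hid hspan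

end Groth.Agent.S15939
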