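import Groth.Statements.S15987
import Mathlib
-- import your own Groth.Agent.* helpers here

set_option autoImplicit false
universe u v
open Deform

namespace Groth.Agent.S15987

section
open TrivSqZeroExt

variable {k : Type u} [Field k] {A : Type u} [CommRing A] [Algebra k A]

/-- the algebra endomorphism `x ↦ x + ε D(x₀)`. -/
noncomputable def phiHom (D : Derivation k A A) : DualNumber A →ₐ[k] DualNumber A :=
  AlgHom.ofLinearMap
    (LinearMap.id + ((inrHom A A).restrictScalars k).comp
      ((D : A →ₗ[k] A).comp (fstHom k A A).toLinearMap))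
    (by
      apply TrivSqZeroExt.ext <;> simp)
    (by
      intro x y
      apply TrivSqZeroExt.ext
      · simp
      · simp
        ring)

theorem phiHom_apply (D : Derivation k A A) (x : DualNumber A) :
    phiHom D x = x + inr (D x.fst) := rfl

theorem phiHom_comp_neg (D : Derivation k A A) (x : DualNumber A) :
    phiHom D (phiHom (-D) x) = x := by
  rw [phiHom_apply, phiHom_apply]
  apply TrivSqZeroExt.ext <;> simp

noncomputable def phiEquiv (D : Derivation k A A) : DualNumber A ≃ₐ[k] DualNumber A :=
  AlgEquiv.ofAlgHom (phiHom D) (phiHom (-D))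
    (by
      apply AlgHom.ext
      intro x
      exact phiHom_comp_neg D x)
    (by
      apply AlgHom.ext
      intro x
      have := phiHom_comp_neg (-D) x
      rw [neg_neg] at this
      exact this)

theorem phiEquiv_apply (D : Derivation k A A) (x : DualNumber A) :
    phiEquiv D x = x + inr (D x.fst) := rfl

/-- the derivation attached to an automorphism. -/
noncomputable def derOf (φ : DualNumber A ≃ₐ[k] DualNumber A) (h1 : ∀ x, (φ x).fst = x.fst) :
    Derivation k A A :=
  Derivation.mk'
    ((sndHom A A).restrictScalars k ∘ₗ φ.toLinearMap ∘ₗ (inlAlgHom k A A).toLinearMap)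
    (by
      intro a b
      change (φ (inl (a * b))).snd = a • (φ (inl b)).snd + b • (φ (inl a)).snd
      rw [inl_mul, map_mul, DualNumber.snd_mul, h1, h1, fst_inl, fst_inl, smul_eq_mul,
        smul_eq_mul]
      ring)

theorem derOf_apply (φ : DualNumber A ≃ₐ[k] DualNumber A) (h1 : ∀ x, (φ x).fst = x.fst) (a : A) :
    derOf φ h1 a = (φ (inl a)).snd := rfl

end

open TrivSqZeroExt in
/-- Let k be a field, A a commutative k-algebra and q_i : A → k (i ∈ ι) k-algebra maps (marked k-points
of Spec A). The k-algebra automorphisms φ of the ring of dual numbers A[ε] that fix ε (so are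
k[ε]-linear), are the identity modulo ε, and satisfy q_i((φ x)_ε) = q_i(x_ε) for all i and x
(compatibility with the trivial lifts A[ε] → k[ε] of the marked points) are in bijection with the
k-derivations D : A → A such that q_i ∘ D = 0 for every i, the bijection sending φ to a ↦ (φ(a))_ε.
(The source identifies the right-hand side with the global vector fields vanishing at the marked
points; the condition the computation yields is q_i ∘ D = 0, which is the same for Spec A smooth
over k but is weaker in general, e.g. for A = k[x]/(x^2) with 2 invertible in k.) -/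
theorem result
    (k : Type u) [Field k] (A : Type u) [CommRing A] [Algebra k A] {ι : Type v} (q : ι → (A →ₐ[k] k)) :
    ∃ e : {φ : DualNumber A ≃ₐ[k] DualNumber A //
            φ DualNumber.eps = DualNumber.eps ∧ (∀ x, (φ x).fst = x.fst) ∧
              ∀ i x, q i (φ x).snd = q i x.snd} ≃
          {D : Derivation k A A // ∀ i a, q i (D a) = 0},
      ∀ φ (a : A), (e φ).1 a = (φ.1 (inl a : DualNumber A)).snd := by
  refine ⟨{ toFun := fun φ => ⟨derOf φ.1 φ.2.2.1, ?_⟩
            invFun := fun D => ⟨phiEquiv D.1, ?_, ?_, ?_⟩
            left_inv := ?_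
            right_inv := ?_ }, fun φ a => rfl⟩
  · intro i a
    rw [derOf_apply, φ.2.2.2 i (inl a), snd_inl, map_zero]
  · rw [phiEquiv_apply]
    apply TrivSqZeroExt.ext <;> simp
  · intro x
    rw [phiEquiv_apply]
    simp
  · intro i x
    rw [phiEquiv_apply]
    simp [D.2 i]
  · rintro ⟨φ, h0, h1, h2⟩
    apply Subtype.ext
    apply AlgEquiv.ext
    intro x
    change phiEquiv (derOf φ h1) x = φ x
    rw [phiEquiv_apply, derOf_apply]
    have hx : x = inl x.fst + inl x.snd * DualNumber.eps := by
      apply TrivSqZeroExt.ext <;> simp
    have hφ : φ x = φ (inl x.fst) + φ (inl x.snd) * DualNumber.eps := by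
      conv_lhs => rw [hx]
      rw [map_add, map_mul, h0]
    rw [hφ]
    apply TrivSqZeroExt.ext
    · simp [h1]
    · simp [h1]
      ring
  · rintro ⟨D, hD⟩
    apply Subtype.ext
    apply Derivation.ext
    intro a
    change (phiEquiv D (inl a)).snd = D a
    rw [phiEquiv_apply]
    simp

end Groth.Agent.S15987
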