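import Groth.Statements.S15988
import Mathlib
import Groth.Agent.S15987

set_option autoImplicit false
universe u v
open Deform

namespace Groth.Agent.S15988

open KaehlerDifferential in
/-- lifting a point-derivation to a global derivation, on a smooth algebra. -/
theorem exists_der (k : Type u) [Field k] (A : Type u) [CommRing A] [Algebra k A]
    [Algebra.Smooth k A] (q : A →ₐ[k] k) (δ : A →ₗ[k] k)
    (hδ : ∀ a b, δ (a * b) = q a * δ b + q b * δ a) :
    ∃ D : Derivation k A A, ∀ a, q (D a) = δ a := by
  let _ : Module A k := Module.compHom k q.toRingHom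
  have hsm : ∀ (a : A) (x : k), a • x = q a * x := fun a x => rfl
  have : IsScalarTower k A k :=
    ⟨fun c a x => by rw [hsm, hsm, map_smul, smul_eq_mul, smul_eq_mul, mul_assoc]⟩
  let dδ : Derivation k A k := Derivation.mk' δ (fun a b => by rw [hδ, hsm, hsm])
  let g : Ω[A⁄k] →ₗ[A] k := dδ.liftKaehlerDifferential
  let f : A →ₗ[A] k :=
    { toFun := q
      map_add' := map_add q
      map_smul' := fun a b => by rw [smul_eq_mul, map_mul, RingHom.id_apply, hsm] }
  have hf : Function.Surjective f := fun c =>
    ⟨algebraMap k A c, by
      change q (algebraMap k A c) = c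
      rw [AlgHom.commutes]; rfl⟩
  obtain ⟨h, hh⟩ := Module.projective_lifting_property f g hf
  refine ⟨h.compDer (KaehlerDifferential.D k A), fun a => ?_⟩
  have := congrArg (fun l => l (KaehlerDifferential.D k A a)) hh
  simp only [LinearMap.comp_apply] at this
  exact this.trans (Derivation.liftKaehlerDifferential_comp_D dδ a)

open TrivSqZeroExt in
/-- Let k be a field, A a smooth commutative k-algebra, q_i : A → k (i ∈ ι, ι finite) pairwise distinct
k-algebra maps, and q'_i : A[ε] → k[ε] k-algebra maps with q'_i(ε) = ε which reduce to q_i modulo ε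
(marked points of a first-order deformation with underlying trivial deformation). Then some
k-algebra automorphism φ of A[ε] with φ(ε) = ε and φ = id modulo ε carries every q'_i to the trivial
lift of q_i: q'_i(φ x) = (q_i(x_0), q_i(x_ε)) for all i and x. Together with the triviality of
first-order deformations of a smooth affine scheme this gives the source's statement that
first-order deformations of a smooth affine scheme with marked points are trivial. (The published
statement does not say that the finitely many marked points are distinct; for two coincident points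
with different lifts no such automorphism exists, so the points are taken pairwise distinct here,
and the source's non-singular is read as smooth over k.) -/
theorem result
    (k : Type u) [Field k] (A : Type u) [CommRing A] [Algebra k A] [Algebra.Smooth k A]
    {ι : Type v} [Finite ι] (q : ι → (A →ₐ[k] k)) (hq : Function.Injective q)
    (q' : ι → (DualNumber A →ₐ[k] DualNumber k))
    (hε : ∀ i, q' i DualNumber.eps = DualNumber.eps) (hq' : ∀ i x, (q' i x).fst = q i x.fst) :
    ∃ φ : DualNumber A ≃ₐ[k] DualNumber A,
      φ DualNumber.eps = DualNumber.eps ∧ (∀ x, (φ x).fst = x.fst) ∧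
        ∀ i x, (q' i (φ x)).fst = q i x.fst ∧ (q' i (φ x)).snd = q i x.snd := by
  classical
  cases nonempty_fintype ι
  -- the point derivations
  let δ : ι → (A →ₗ[k] k) := fun i =>
    ((sndHom k k).restrictScalars k) ∘ₗ (q' i).toLinearMap ∘ₗ (inlAlgHom k A A).toLinearMap
  have hδ_apply : ∀ i a, δ i a = (q' i (inl a)).snd := fun i a => rfl
  have hfst : ∀ i a, (q' i (inl a)).fst = q i a := fun i a => by rw [hq', fst_inl]
  have hδ : ∀ i a b, δ i (a * b) = q i a * δ i b + q i b * δ i a := by
    intro i a b
    rw [hδ_apply, hδ_apply, hδ_apply, inl_mul, map_mul, DualNumber.snd_mul, hfst, hfst]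
    ring
  have hD : ∀ i, ∃ D : Derivation k A A, ∀ a, q i (D a) = -(δ i a) := by
    intro i
    obtain ⟨D, hD⟩ := exists_der k A (q i) (-(δ i)) (by
      intro a b
      simp only [LinearMap.neg_apply, hδ]
      ring)
    exact ⟨D, fun a => by rw [hD]; rfl⟩
  choose Dd hDd using hD
  -- CRT
  have hcop : Pairwise (Function.onFun IsCoprime fun i => RingHom.ker (q i).toRingHom) := by
    intro i j hij
    have hmi : (RingHom.ker (q i).toRingHom).IsMaximal :=
      RingHom.ker_isMaximal_of_surjective _ (fun c => ⟨algebraMap k A c, by simp⟩)
    have hmj : (RingHom.ker (q j).toRingHom).IsMaximal :=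
      RingHom.ker_isMaximal_of_surjective _ (fun c => ⟨algebraMap k A c, by simp⟩)
    rw [Function.onFun, Ideal.isCoprime_iff_sup_eq]
    refine hmi.coprime_of_ne hmj fun heq => hij (hq ?_)
    apply AlgHom.ext
    intro a
    have h1 : a - algebraMap k A (q i a) ∈ RingHom.ker (q i).toRingHom := by
      rw [RingHom.mem_ker]
      simp
    rw [heq, RingHom.mem_ker] at h1
    have h2 : q j a - q i a = 0 := by simpa using h1
    exact (sub_eq_zero.1 h2).symm
  have he : ∀ i, ∃ e : A, ∀ j, q j e = if j = i then 1 else 0 := by
    intro i
    obtain ⟨e, he⟩ := Ideal.exists_forall_sub_mem_ideal hcop (fun j => if j = i then (1 : A) else 0)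
    refine ⟨e, fun j => ?_⟩
    have := he j
    rw [RingHom.mem_ker] at this
    have h2 : q j e - q j (if j = i then (1 : A) else 0) = 0 := by simpa using this
    rw [sub_eq_zero.1 h2]
    split_ifs <;> simp
  choose e he using he
  let D : Derivation k A A := ∑ i, e i • Dd i
  have hDapp : ∀ a, D a = ∑ i, e i * Dd i a := by
    intro a
    have hgen : ∀ s : Finset ι, (∑ i ∈ s, e i • Dd i) a = ∑ i ∈ s, e i * Dd i a := by
      intro s
      induction s using Finset.induction_on with
      | empty => simp
      | insert i s hi ih =>
        rw [Finset.sum_insert hi, Finset.sum_insert hi, Derivation.add_apply, ih,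
          Derivation.smul_apply, smul_eq_mul]
    exact hgen Finset.univ
  have hqD : ∀ j a, q j (D a) = -(δ j a) := by
    intro j a
    rw [hDapp, map_sum]
    simp only [map_mul, he, hDd]
    rw [Finset.sum_eq_single j]
    · simp [hDd]
    · intro i _ hij
      rw [if_neg (Ne.symm hij), zero_mul]
    · intro h; exact absurd (Finset.mem_univ j) h
  -- general formula for q'
  have hq'form : ∀ i (y : DualNumber A), (q' i y).snd = δ i y.fst + q i y.snd := by
    intro i y
    have hy : y = inl y.fst + inl y.snd * DualNumber.eps := by
      apply TrivSqZeroExt.ext <;> simp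
    conv_lhs => rw [hy]
    rw [map_add, map_mul, hε, snd_add, DualNumber.snd_mul, hδ_apply, hfst]
    simp
  refine ⟨Groth.Agent.S15987.phiEquiv D, ?_, ?_, ?_⟩
  · rw [Groth.Agent.S15987.phiEquiv_apply]
    apply TrivSqZeroExt.ext <;> simp
  · intro x
    rw [Groth.Agent.S15987.phiEquiv_apply]
    simp
  · intro i x
    have hfx : (Groth.Agent.S15987.phiEquiv D x).fst = x.fst := by
      rw [Groth.Agent.S15987.phiEquiv_apply]; simp
    have hsx : (Groth.Agent.S15987.phiEquiv D x).snd = x.snd + D x.fst := by
      rw [Groth.Agent.S15987.phiEquiv_apply]; simp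
    refine ⟨by rw [hq', hfx], ?_⟩
    rw [hq'form, hfx, hsx, map_add, hqD]
    ring

end Groth.Agent.S15988
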