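import Groth.Statements.S15993
-- import your own Groth.Agent.* helpers here
import Mathlib
import Groth.Agent.Lib.Helper67.SchDense

set_option autoImplicit false
open CategoryTheory AlgebraicGeometry
universe u
open EtHull

namespace Groth.Agent.S15993

open Groth.Agent.Lib.Helper67.SchDense CategoryTheory.Limits

/-- Let f : X → S be a morphism of schemes which is faithfully flat (flat and surjective), quasi-compact
and separated, and schematically birational in the following sense: there are schematically dense
opens U of S and V of X, with the inclusion V → X quasi-compact, such that f maps V into U and the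
induced morphism V → U is an isomorphism. Then f is an isomorphism. (The source states this for
algebraic spaces and puts no quasi-compactness condition on the dense opens. Its proof base-changes
along f and uses that the inverse image of V in X ×_S X is again schematically dense, which holds
when V → X is quasi-compact, for instance when X is locally Noetherian, and fails in general: over
the Boolean ring of eventually constant sequences of elements of the field with two elements, the
spectrum of the ring of eventually two-periodic sequences is faithfully flat and affine, and it is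
an isomorphism above the open set of principal points, which is schematically dense on both sides,
yet it is not an isomorphism, the point at infinity being doubled. So V is taken retrocompact in X
here, and X, S are schemes.) -/
theorem result {X S : Scheme.{u}} (f : X ⟶ S)
    [Flat f] [Surjective f] [QuasiCompact f] [IsSeparated f]
    (U : S.Opens) (V : X.Opens) [QuasiCompact V.ι]
    (hU : CInt.IsSchematicallyDense U) (hV : CInt.IsSchematicallyDense V)
    (hle : V ≤ f ⁻¹ᵁ U) (hiso : IsIso (f.resLE U V hle)) : IsIso f := by
  haveI hVd : IsSchemeTheoreticallyDominant V.ι := ⟨ker_ι_eq_bot_of_isSchematicallyDense hV⟩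
  set p₁ := pullback.fst f f with hp₁
  set p₂ := pullback.snd f f with hp₂
  haveI : Flat p₁ := MorphismProperty.pullback_fst (P := @Flat) _ _ ‹_›
  haveI : Flat p₂ := MorphismProperty.pullback_snd (P := @Flat) _ _ ‹_›
  set P₁ : (pullback f f).Opens := p₁ ⁻¹ᵁ V with hP₁
  set P₂ : (pullback f f).Opens := p₂ ⁻¹ᵁ V with hP₂
  -- P₁.ι, P₂.ι are qc and scheme-theoretically dominant
  have hpb₁ := isPullback_morphismRestrict p₁ V
  have hpb₂ := isPullback_morphismRestrict p₂ V
  haveI : QuasiCompact P₁.ι := MorphismProperty.of_isPullback (P := @QuasiCompact) hpb₁ ‹_›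
  haveI : IsSchemeTheoreticallyDominant P₁.ι := IsSchemeTheoreticallyDominant.of_isPullback hpb₁
  haveI : IsSchemeTheoreticallyDominant P₂.ι := IsSchemeTheoreticallyDominant.of_isPullback hpb₂
  haveI : IsSchemeTheoreticallyDominant ((pullback f f).homOfLE (inf_le_right : P₁ ⊓ P₂ ≤ P₂)) :=
    IsSchemeTheoreticallyDominant.of_isPullback (isPullback_opens_inf P₁ P₂)
  set D : (pullback f f).Opens := P₁ ⊓ P₂ with hD
  have hDι : D.ι = (pullback f f).homOfLE (inf_le_right : P₁ ⊓ P₂ ≤ P₂) ≫ P₂.ι :=
    (Scheme.homOfLE_ι _ _).symm
  haveI : IsSchemeTheoreticallyDominant D.ι := by rw [hDι]; infer_instance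
  -- the two projections agree on `D`
  have hsub₁ : Set.range (D.ι ≫ p₁) ⊆ Set.range V.ι := by
    rintro _ ⟨x, rfl⟩
    rw [Scheme.Opens.range_ι, Scheme.Hom.comp_apply]
    have hx : D.ι x ∈ D := by
      have : D.ι x ∈ Set.range D.ι := ⟨x, rfl⟩
      rwa [Scheme.Opens.range_ι] at this
    exact hx.1
  have hsub₂ : Set.range (D.ι ≫ p₂) ⊆ Set.range V.ι := by
    rintro _ ⟨x, rfl⟩
    rw [Scheme.Opens.range_ι, Scheme.Hom.comp_apply]
    have hx : D.ι x ∈ D := by
      have : D.ι x ∈ Set.range D.ι := ⟨x, rfl⟩
      rwa [Scheme.Opens.range_ι] at this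
    exact hx.2
  let d₁ : (↑D : Scheme.{u}) ⟶ V := IsOpenImmersion.lift V.ι (D.ι ≫ p₁) hsub₁
  let d₂ : (↑D : Scheme.{u}) ⟶ V := IsOpenImmersion.lift V.ι (D.ι ≫ p₂) hsub₂
  have hd₁ : d₁ ≫ V.ι = D.ι ≫ p₁ := IsOpenImmersion.lift_fac _ _ _
  have hd₂ : d₂ ≫ V.ι = D.ι ≫ p₂ := IsOpenImmersion.lift_fac _ _ _
  have hd : d₁ = d₂ := by
    rw [← cancel_mono (f.resLE U V hle), ← cancel_mono U.ι, Category.assoc, Category.assoc,
      Scheme.Hom.resLE_comp_ι, ← Category.assoc, ← Category.assoc, hd₁, hd₂, Category.assoc,
      Category.assoc, pullback.condition]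
  have hDp : D.ι ≫ p₁ = D.ι ≫ p₂ := by rw [← hd₁, ← hd₂, hd]
  have hDfac : (D.ι ≫ p₁) ≫ pullback.diagonal f = D.ι := by
    apply pullback.hom_ext
    · rw [Category.assoc, pullback.diagonal_fst, Category.comp_id]
    · rw [Category.assoc, pullback.diagonal_snd, Category.comp_id, hDp]
  have hk : (pullback.diagonal f).ker = ⊥ := by
    rw [← le_bot_iff, ← D.ι.ker_eq_bot, ← hDfac]
    exact Scheme.Hom.le_ker_comp _ _
  haveI : IsIso (pullback.diagonal f) := isIso_of_isClosedImmersion_of_ker_eq_bot _ hk
  haveI : IsIso p₁ := by
    have : p₁ = inv (pullback.diagonal f) := by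
      rw [← cancel_epi (pullback.diagonal f), IsIso.hom_inv_id, pullback.diagonal_fst]
    rw [this]; infer_instance
  have := MorphismProperty.of_pullback_fst_of_descendsAlong
    (P := MorphismProperty.isomorphisms Scheme.{u})
    (Q := @Surjective ⊓ @Flat ⊓ @QuasiCompact) (f := f) (g := f)
    ⟨⟨‹_›, ‹_›⟩, ‹_›⟩ (by exact ‹IsIso p₁›)
  exact this


end Groth.Agent.S15993
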