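import Groth.Statements.S1601
import Mathlib
-- import your own Groth.Agent.* helpers here

set_option autoImplicit false
universe u
open Resolve

namespace Groth.Agent.S1601

open MvPolynomial

section General

variable {κ : Type u} [Field κ]

/-- partial derivatives of elements of `I²` lie in `I`. -/
theorem pderiv_mem_of_mem_sq (I : Ideal (MvPolynomial (Fin 2) κ)) (i : Fin 2)
    {f : MvPolynomial (Fin 2) κ} (hf : f ∈ I ^ 2) : pderiv i f ∈ I := by
  rw [pow_two] at hf
  refine Submodule.mul_induction_on hf ?_ ?_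
  · intro a ha b hb
    rw [Derivation.leibniz, smul_eq_mul, smul_eq_mul]
    exact I.add_mem (I.mul_mem_right _ ha) (I.mul_mem_right _ hb)
  · intro x y hx hy
    rw [map_add]
    exact I.add_mem hx hy

/-- The final polynomial identity. -/
theorem final_identity (j g h i : κ) :
    (C (j * g ^ 2) + C (2 * j * g * h) * X 0 + C (2 * j * g * i) * X 1 + C (j * h ^ 2) * X 0 ^ 2 +
      C (2 * j * h * i) * X 0 * X 1 + C (j * i ^ 2) * X 1 ^ 2 : MvPolynomial (Fin 2) κ) =
    C j * (C g + C h * X 0 + C i * X 1) ^ 2 := by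
  simp only [map_mul, map_pow, map_ofNat]
  ring

theorem of_eqs {a b c d e f : κ} (j g h i : κ) (ha : a = j * g ^ 2) (hb : b = 2 * j * g * h)
    (hc : c = 2 * j * g * i) (hd : d = j * h ^ 2) (he : e = 2 * j * h * i) (hf : f = j * i ^ 2) :
    ∃ j g h i : κ, (C a + C b * X 0 + C c * X 1 + C d * X 0 ^ 2 + C e * X 0 * X 1 +
      C f * X 1 ^ 2 : MvPolynomial (Fin 2) κ) = C j * (C g + C h * X 0 + C i * X 1) ^ 2 := by
  subst ha hb hc hd he hf
  exact ⟨j, g, h, i, final_identity j g h i⟩

end General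


section Minors

variable {κ : Type u} [Field κ] (I : Ideal (MvPolynomial (Fin 2) κ))

/-- if `I` contains `X i - C (pt i)` for all `i` then the quotient is at most one-dimensional. -/
theorem small_of_point (pt : Fin 2 → κ)
    (h : ∀ i, (X i - C (pt i) : MvPolynomial (Fin 2) κ) ∈ I) :
    Module.Finite κ (MvPolynomial (Fin 2) κ ⧸ I) ∧
      Module.finrank κ (MvPolynomial (Fin 2) κ ⧸ I) ≤ 1 := by
  have key : ∀ w : MvPolynomial (Fin 2) κ ⧸ I, ∃ c : κ, c • (1 : MvPolynomial (Fin 2) κ ⧸ I) = w := by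
    intro w
    obtain ⟨p, rfl⟩ := Ideal.Quotient.mk_surjective w
    have hAB : (Ideal.Quotient.mkₐ κ I) =
        (Algebra.ofId κ (MvPolynomial (Fin 2) κ ⧸ I)).comp (MvPolynomial.aeval pt) := by
      apply MvPolynomial.algHom_ext
      intro i
      simp only [Ideal.Quotient.mkₐ_eq_mk, AlgHom.coe_comp, Function.comp_apply, aeval_X]
      rw [Algebra.ofId_apply, IsScalarTower.algebraMap_apply κ (MvPolynomial (Fin 2) κ) _,
        Ideal.Quotient.algebraMap_eq, MvPolynomial.algebraMap_eq]
      exact Ideal.Quotient.eq.mpr (h i)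
    refine ⟨MvPolynomial.aeval pt p, ?_⟩
    have := congrArg (fun φ => φ p) hAB
    simp only [Ideal.Quotient.mkₐ_eq_mk, AlgHom.coe_comp, Function.comp_apply] at this
    rw [this, Algebra.ofId_apply, Algebra.algebraMap_eq_smul_one]
  refine ⟨Module.Finite.of_surjective (Algebra.linearMap κ _) ?_, finrank_le_one _ key⟩
  intro w
  obtain ⟨c, hc⟩ := key w
  exact ⟨c, by rw [Algebra.linearMap_apply, Algebra.algebraMap_eq_smul_one, hc]⟩

theorem small_of_one_mem (h : (1 : MvPolynomial (Fin 2) κ) ∈ I) :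
    Module.Finite κ (MvPolynomial (Fin 2) κ ⧸ I) ∧
      Module.finrank κ (MvPolynomial (Fin 2) κ ⧸ I) ≤ 1 := by
  have htop : I = ⊤ := (Ideal.eq_top_iff_one I).mpr h
  have hsub : Subsingleton (MvPolynomial (Fin 2) κ ⧸ I) := by
    rw [htop]
    exact Ideal.Quotient.subsingleton_iff.mpr rfl
  refine ⟨inferInstance, ?_⟩
  rw [Module.finrank_zero_of_subsingleton]
  exact Nat.zero_le 1

theorem small_of_const_mem (c : κ) (hc : c ≠ 0) (h : (C c : MvPolynomial (Fin 2) κ) ∈ I) :
    Module.Finite κ (MvPolynomial (Fin 2) κ ⧸ I) ∧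
      Module.finrank κ (MvPolynomial (Fin 2) κ ⧸ I) ≤ 1 := by
  apply small_of_one_mem
  have := I.mul_mem_left (C c⁻¹) h
  rwa [← C_mul, inv_mul_cancel₀ hc, C_1] at this

/-- Two affine linear forms in an ideal of colength `> 1` are linearly dependent. -/
theorem minors_zero
    (hI : ¬ (Module.Finite κ (MvPolynomial (Fin 2) κ ⧸ I) ∧
      Module.finrank κ (MvPolynomial (Fin 2) κ ⧸ I) ≤ 1))
    (u0 u1 u2 v0 v1 v2 : κ)
    (hu : (C u0 + C u1 * X 0 + C u2 * X 1 : MvPolynomial (Fin 2) κ) ∈ I)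
    (hv : (C v0 + C v1 * X 0 + C v2 * X 1 : MvPolynomial (Fin 2) κ) ∈ I) :
    u1 * v2 - u2 * v1 = 0 ∧ u0 * v1 - u1 * v0 = 0 ∧ u0 * v2 - u2 * v0 = 0 := by
  have hΔ : u1 * v2 - u2 * v1 = 0 := by
    by_contra hΔ
    apply hI
    set Δ := u1 * v2 - u2 * v1 with hΔdef
    -- v2 u - u2 v = (v2 u0 - u2 v0) + Δ X0 ; u1 v - v1 u = (u1 v0 - v1 u0) + Δ X1
    refine small_of_point I ![-(Δ⁻¹ * (v2 * u0 - u2 * v0)), -(Δ⁻¹ * (u1 * v0 - v1 * u0))] ?_
    intro i
    fin_cases i
    · have h1 := I.sub_mem (I.mul_mem_left (C (Δ⁻¹ * v2)) hu) (I.mul_mem_left (C (Δ⁻¹ * u2)) hv)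
      convert h1 using 1
      have e : (C (Δ⁻¹ * v2) * C u1 - C (Δ⁻¹ * u2) * C v1 : MvPolynomial (Fin 2) κ) = 1 := by
        rw [← C_mul, ← C_mul, ← C_sub, ← C_1]
        congr 1
        field_simp
        rw [hΔdef]; ring
      have e2 : (C (Δ⁻¹ * v2) * C u2 - C (Δ⁻¹ * u2) * C v2 : MvPolynomial (Fin 2) κ) = 0 := by
        rw [← C_mul, ← C_mul, ← C_sub, ← C_0]
        congr 1
        ring
      simp only [Fin.zero_eta, Fin.isValue, Matrix.cons_val_zero, map_neg, map_mul, sub_neg_eq_add,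
        map_sub]
      simp only [map_mul] at e e2
      linear_combination (-(X 0 : MvPolynomial (Fin 2) κ)) * e - (X 1 : MvPolynomial (Fin 2) κ) * e2
    · have h1 := I.sub_mem (I.mul_mem_left (C (Δ⁻¹ * u1)) hv) (I.mul_mem_left (C (Δ⁻¹ * v1)) hu)
      convert h1 using 1
      have e : (C (Δ⁻¹ * u1) * C v2 - C (Δ⁻¹ * v1) * C u2 : MvPolynomial (Fin 2) κ) = 1 := by
        rw [← C_mul, ← C_mul, ← C_sub, ← C_1]
        congr 1
        field_simp
        rw [hΔdef]; ring
      have e2 : (C (Δ⁻¹ * u1) * C v1 - C (Δ⁻¹ * v1) * C u1 : MvPolynomial (Fin 2) κ) = 0 := by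
        rw [← C_mul, ← C_mul, ← C_sub, ← C_0]
        congr 1
        ring
      simp only [Fin.mk_one, Fin.isValue, Matrix.cons_val_one, Matrix.cons_val_zero, map_neg,
        map_mul, sub_neg_eq_add, map_sub]
      simp only [map_mul] at e e2
      linear_combination (-(X 1 : MvPolynomial (Fin 2) κ)) * e - (X 0 : MvPolynomial (Fin 2) κ) * e2
  refine ⟨hΔ, ?_, ?_⟩
  · by_contra hne
    apply hI
    -- v1 u - u1 v = (v1 u0 - u1 v0) + (v1 u2 - u1 v2) X1
    refine small_of_const_mem I (u0 * v1 - u1 * v0) hne ?_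
    have h1 := I.sub_mem (I.mul_mem_left (C v1) hu) (I.mul_mem_left (C u1) hv)
    convert h1 using 1
    have e : (C u1 * C v2 - C u2 * C v1 : MvPolynomial (Fin 2) κ) = 0 := by
      rw [← C_mul, ← C_mul, ← C_sub, hΔ, C_0]
    simp only [map_sub, map_mul]
    linear_combination (X 1 : MvPolynomial (Fin 2) κ) * e
  · by_contra hne
    apply hI
    refine small_of_const_mem I (u0 * v2 - u2 * v0) hne ?_
    have h1 := I.sub_mem (I.mul_mem_left (C v2) hu) (I.mul_mem_left (C u2) hv)
    convert h1 using 1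
    have e : (C u1 * C v2 - C u2 * C v1 : MvPolynomial (Fin 2) κ) = 0 := by
      rw [← C_mul, ← C_mul, ← C_sub, hΔ, C_0]
    simp only [map_sub, map_mul]
    linear_combination (-(X 0 : MvPolynomial (Fin 2) κ)) * e

end Minors


section Forms

variable {κ : Type u} [Field κ] (I : Ideal (MvPolynomial (Fin 2) κ))

/-- the quadric -/
noncomputable abbrev quad (a b c d e f : κ) : MvPolynomial (Fin 2) κ :=
  C a + C b * X 0 + C c * X 1 + C d * X 0 ^ 2 + C e * X 0 * X 1 + C f * X 1 ^ 2

theorem pderiv0_quad (a b c d e f : κ) :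
    pderiv 0 (quad a b c d e f) = C b + C (2 * d) * X 0 + C e * X 1 := by
  simp only [quad, map_add, Derivation.leibniz, pderiv_C, pderiv_X_self, Derivation.leibniz_pow,
    pderiv_X_of_ne (show (1 : Fin 2) ≠ 0 by decide), smul_eq_mul, map_mul, map_ofNat]
  ring

theorem pderiv1_quad (a b c d e f : κ) :
    pderiv 1 (quad a b c d e f) = C c + C e * X 0 + C (2 * f) * X 1 := by
  simp only [quad, map_add, Derivation.leibniz, pderiv_C, pderiv_X_self, Derivation.leibniz_pow,
    pderiv_X_of_ne (show (0 : Fin 2) ≠ 1 by decide), smul_eq_mul, map_mul, map_ofNat]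
  ring

theorem forms_mem (a b c d e f : κ) (hmem : quad a b c d e f ∈ I ^ 2) :
    (C b + C (2 * d) * X 0 + C e * X 1 : MvPolynomial (Fin 2) κ) ∈ I ∧
    (C c + C e * X 0 + C (2 * f) * X 1 : MvPolynomial (Fin 2) κ) ∈ I ∧
    (C (2 * a) + C b * X 0 + C c * X 1 : MvPolynomial (Fin 2) κ) ∈ I := by
  have h0 := pderiv_mem_of_mem_sq I 0 hmem
  have h1 := pderiv_mem_of_mem_sq I 1 hmem
  rw [pderiv0_quad] at h0
  rw [pderiv1_quad] at h1
  refine ⟨h0, h1, ?_⟩
  have hq : quad a b c d e f ∈ I := Ideal.pow_le_self two_ne_zero hmem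
  have := I.sub_mem (I.sub_mem (I.mul_mem_left 2 hq) (I.mul_mem_left (X 0) h0))
    (I.mul_mem_left (X 1) h1)
  convert this using 1
  simp only [quad, map_mul, map_ofNat]
  ring

end Forms


section LemmaA

/-- Abstract key lemma: if `R → S` is a surjection of domains with principal kernel `(ℓ)`, `S` a
principal ideal ring, then `ℓ² ∈ J²` implies `ℓ ∈ J`. -/
theorem mem_of_sq_mem_sq {R S : Type*} [CommRing R] [IsDomain R] [CommRing S] [IsDomain S]
    [IsPrincipalIdealRing S] (π : R →+* S) (hπ : Function.Surjective π) (ℓ : R)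
    (hker : RingHom.ker π = Ideal.span {ℓ}) (J : Ideal R) (h : ℓ ^ 2 ∈ J ^ 2) : ℓ ∈ J := by
  by_cases hℓ0 : ℓ = 0
  · rw [hℓ0]; exact J.zero_mem
  have hπℓ : π ℓ = 0 := by
    have : ℓ ∈ RingHom.ker π := by rw [hker]; exact Ideal.mem_span_singleton_self ℓ
    exact this
  -- generator of the image
  obtain ⟨pbar, hpbar⟩ := (IsPrincipalIdealRing.principal (Ideal.map π J)).principal
  have hpmem : pbar ∈ Ideal.map π J := by rw [hpbar]; exact Submodule.mem_span_singleton_self pbar
  obtain ⟨w, hwJ, hw⟩ := (Ideal.mem_map_iff_of_surjective π hπ).1 hpmem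
  -- colon ideal
  let I' : Ideal R := Submodule.comap (LinearMap.mulLeft R ℓ) J
  have hI' : ∀ g, g ∈ I' ↔ ℓ * g ∈ J := fun g => Iff.rfl
  -- decomposition of elements of J
  have hdec : ∀ f ∈ J, ∃ s g, g ∈ I' ∧ f = s * w + ℓ * g := by
    intro f hf
    have h1 : π f ∈ Ideal.map π J := Ideal.mem_map_of_mem π hf
    rw [hpbar] at h1
    obtain ⟨sbar, hsbar⟩ := Submodule.mem_span_singleton.1 h1
    obtain ⟨s, rfl⟩ := hπ sbar
    have h2 : f - s * w ∈ RingHom.ker π := by
      rw [RingHom.mem_ker, map_sub, map_mul, hw, ← hsbar, smul_eq_mul, sub_self]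
    rw [hker] at h2
    obtain ⟨g, hg⟩ := Ideal.mem_span_singleton'.1 h2
    refine ⟨s, g, ?_, ?_⟩
    · rw [hI', mul_comm, hg]
      exact J.sub_mem hf (J.mul_mem_left s hwJ)
    · rw [mul_comm ℓ g, hg]; ring
  -- decomposition of elements of J^2
  have hdec2 : ∀ z ∈ J ^ 2, ∃ α β γ, β ∈ I' ∧ γ ∈ I' ∧ z = α * w ^ 2 + ℓ * w * β + ℓ ^ 2 * γ := by
    intro z hz
    rw [pow_two] at hz
    refine Submodule.mul_induction_on hz ?_ ?_
    · intro f₁ hf₁ f₂ hf₂
      obtain ⟨s₁, g₁, hg₁, rfl⟩ := hdec f₁ hf₁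
      obtain ⟨s₂, g₂, hg₂, rfl⟩ := hdec f₂ hf₂
      refine ⟨s₁ * s₂, s₁ * g₂ + s₂ * g₁, g₁ * g₂, ?_, ?_, ?_⟩
      · exact I'.add_mem (I'.mul_mem_left _ hg₂) (I'.mul_mem_left _ hg₁)
      · exact I'.mul_mem_left _ hg₂
      · ring
    · rintro x y ⟨α₁, β₁, γ₁, hβ₁, hγ₁, rfl⟩ ⟨α₂, β₂, γ₂, hβ₂, hγ₂, rfl⟩
      exact ⟨α₁ + α₂, β₁ + β₂, γ₁ + γ₂, I'.add_mem hβ₁ hβ₂, I'.add_mem hγ₁ hγ₂, by ring⟩
  obtain ⟨α, β, γ, hβ, hγ, hz⟩ := hdec2 _ h
  suffices h1 : (1 : R) ∈ I' by
    have := (hI' 1).1 h1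
    rwa [mul_one] at this
  by_cases hp0 : pbar = 0
  · -- w ∈ ker
    have hwker : w ∈ RingHom.ker π := by rw [RingHom.mem_ker, hw, hp0]
    rw [hker] at hwker
    obtain ⟨w', hw'⟩ := Ideal.mem_span_singleton'.1 hwker
    have hw'I : w' ∈ I' := by rw [hI', mul_comm, hw']; exact hwJ
    have e : ℓ ^ 2 * 1 = ℓ ^ 2 * (α * w' ^ 2 + w' * β + γ) := by
      linear_combination hz - (α * (w + w' * ℓ) + ℓ * β) * hw'
    have e' := mul_left_cancel₀ (pow_ne_zero 2 hℓ0) e
    rw [e']
    exact I'.add_mem (I'.add_mem (I'.mul_mem_left _ (by rw [pow_two]; exact I'.mul_mem_left _ hw'I))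
      (I'.mul_mem_left _ hβ)) hγ
  · have hα : π α = 0 := by
      have := congrArg π hz
      simp only [map_add, map_mul, map_pow, hπℓ, hw] at this
      have h0 : π α * pbar ^ 2 = 0 := by
        have h3 : (0 : S) ^ 2 = π α * pbar ^ 2 + 0 * pbar * π β + 0 ^ 2 * π γ := this
        linear_combination -h3
      rcases mul_eq_zero.1 h0 with h4 | h4
      · exact h4
      · exact absurd ((pow_eq_zero_iff (two_ne_zero)).1 h4) hp0
    have hαker : α ∈ RingHom.ker π := hα
    rw [hker] at hαker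
    obtain ⟨α', hα'⟩ := Ideal.mem_span_singleton'.1 hαker
    have e : ℓ * (ℓ * (1 - γ)) = ℓ * (w * (α' * w + β)) := by
      linear_combination hz - w ^ 2 * hα'
    have e' := mul_left_cancel₀ hℓ0 e
    have h5 : (1 - γ) ∈ I' := by
      rw [hI', e']
      exact J.mul_mem_right _ hwJ
    have : (1 : R) = (1 - γ) + γ := by ring
    rw [this]
    exact I'.add_mem h5 hγ

/-- kernel computation for parametrized lines -/
theorem ker_eq_span {K : Type*} [Field K] (π : MvPolynomial (Fin 2) K →ₐ[K] Polynomial K)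
    (ι : Polynomial K →ₐ[K] MvPolynomial (Fin 2) K) (ℓ : MvPolynomial (Fin 2) K)
    (h1 : π ℓ = 0) (h2 : ∀ i, (X i - ι (π (X i)) : MvPolynomial (Fin 2) K) ∈ Ideal.span {ℓ}) :
    RingHom.ker (π : MvPolynomial (Fin 2) K →+* Polynomial K) = Ideal.span {ℓ} := by
  apply le_antisymm
  · intro f hf
    have hf' : π f = 0 := hf
    have hAB : Ideal.Quotient.mkₐ K (Ideal.span {ℓ}) =
        ((Ideal.Quotient.mkₐ K (Ideal.span {ℓ})).comp ι).comp π := by
      apply MvPolynomial.algHom_ext
      intro i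
      simp only [Ideal.Quotient.mkₐ_eq_mk, AlgHom.coe_comp, Function.comp_apply]
      exact Ideal.Quotient.eq.mpr (h2 i)
    have := congrArg (fun φ => φ f) hAB
    simp only [Ideal.Quotient.mkₐ_eq_mk, AlgHom.coe_comp, Function.comp_apply, hf', map_zero] at this
    exact Ideal.Quotient.eq_zero_iff_mem.1 this
  · rw [Ideal.span_le]
    intro x hx
    rw [Set.mem_singleton_iff] at hx
    subst hx
    exact h1

end LemmaA


section LemmaAConcrete

variable {K : Type*} [Field K]

theorem lin_mem_of_sq_mem_sq (α β γ : K) (hβγ : β ≠ 0 ∨ γ ≠ 0) (J : Ideal (MvPolynomial (Fin 2) K))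
    (h : (C α + C β * X 0 + C γ * X 1 : MvPolynomial (Fin 2) K) ^ 2 ∈ J ^ 2) :
    (C α + C β * X 0 + C γ * X 1 : MvPolynomial (Fin 2) K) ∈ J := by
  rcases hβγ with hβ | hγ
  · -- x ↦ -(α + γ t)/β, y ↦ t
    let π : MvPolynomial (Fin 2) K →ₐ[K] Polynomial K :=
      MvPolynomial.aeval ![-(Polynomial.C β⁻¹ * (Polynomial.C α + Polynomial.C γ * Polynomial.X)),
        Polynomial.X]
    let ι : Polynomial K →ₐ[K] MvPolynomial (Fin 2) K := Polynomial.aeval (X 1)
    have hπ0 : π (X 0) = -(Polynomial.C β⁻¹ * (Polynomial.C α + Polynomial.C γ * Polynomial.X)) := by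
      simp [π]
    have hπ1 : π (X 1) = Polynomial.X := by simp [π]
    have hπC : ∀ c : K, π (C c) = Polynomial.C c := fun c => by simp [π]
    have hιX : ι Polynomial.X = X 1 := by simp [ι]
    have hιC : ∀ c : K, ι (Polynomial.C c) = C c := fun c => by
      simp only [ι, Polynomial.aeval_C]; rfl
    have hsurj : Function.Surjective (π : MvPolynomial (Fin 2) K →+* Polynomial K) := by
      intro f
      refine ⟨ι f, ?_⟩
      have : (π.comp ι) = AlgHom.id K (Polynomial K) := by
        apply Polynomial.algHom_ext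
        simp only [AlgHom.coe_comp, Function.comp_apply, hιX, hπ1, AlgHom.coe_id, id_eq]
      exact congrArg (fun φ => φ f) this
    have hker := ker_eq_span π ι (C α + C β * X 0 + C γ * X 1) (by
        simp only [map_add, map_mul, hπC, hπ0, hπ1]
        have : Polynomial.C β * Polynomial.C β⁻¹ = (1 : Polynomial K) := by
          rw [← Polynomial.C_mul, mul_inv_cancel₀ hβ, Polynomial.C_1]
        linear_combination (-(Polynomial.C α + Polynomial.C γ * Polynomial.X)) * this) (by
        intro i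
        fin_cases i
        · simp only [Fin.zero_eta, hπ0, map_neg, map_mul, map_add, hιC, hιX]
          rw [Ideal.mem_span_singleton']
          refine ⟨C β⁻¹, ?_⟩
          have : (C β⁻¹ * C β : MvPolynomial (Fin 2) K) = 1 := by
            rw [← C_mul, inv_mul_cancel₀ hβ, C_1]
          linear_combination (X 0 : MvPolynomial (Fin 2) K) * this
        · simp only [Fin.mk_one, hπ1, hιX, sub_self]
          exact Ideal.zero_mem _)
    exact mem_of_sq_mem_sq (π : MvPolynomial (Fin 2) K →+* Polynomial K) hsurj _ hker J h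
  · -- x ↦ t, y ↦ -(α + β t)/γ
    let π : MvPolynomial (Fin 2) K →ₐ[K] Polynomial K :=
      MvPolynomial.aeval ![Polynomial.X,
        -(Polynomial.C γ⁻¹ * (Polynomial.C α + Polynomial.C β * Polynomial.X))]
    let ι : Polynomial K →ₐ[K] MvPolynomial (Fin 2) K := Polynomial.aeval (X 0)
    have hπ1 : π (X 1) = -(Polynomial.C γ⁻¹ * (Polynomial.C α + Polynomial.C β * Polynomial.X)) := by
      simp [π]
    have hπ0 : π (X 0) = Polynomial.X := by simp [π]
    have hπC : ∀ c : K, π (C c) = Polynomial.C c := fun c => by simp [π]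
    have hιX : ι Polynomial.X = X 0 := by simp [ι]
    have hιC : ∀ c : K, ι (Polynomial.C c) = C c := fun c => by
      simp only [ι, Polynomial.aeval_C]; rfl
    have hsurj : Function.Surjective (π : MvPolynomial (Fin 2) K →+* Polynomial K) := by
      intro f
      refine ⟨ι f, ?_⟩
      have : (π.comp ι) = AlgHom.id K (Polynomial K) := by
        apply Polynomial.algHom_ext
        simp only [AlgHom.coe_comp, Function.comp_apply, hιX, hπ0, AlgHom.coe_id, id_eq]
      exact congrArg (fun φ => φ f) this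
    have hker := ker_eq_span π ι (C α + C β * X 0 + C γ * X 1) (by
        simp only [map_add, map_mul, hπC, hπ0, hπ1]
        have : Polynomial.C γ * Polynomial.C γ⁻¹ = (1 : Polynomial K) := by
          rw [← Polynomial.C_mul, mul_inv_cancel₀ hγ, Polynomial.C_1]
        linear_combination (-(Polynomial.C α + Polynomial.C β * Polynomial.X)) * this) (by
        intro i
        fin_cases i
        · simp only [Fin.zero_eta, hπ0, hιX, sub_self]
          exact Ideal.zero_mem _
        · simp only [Fin.mk_one, hπ1, map_neg, map_mul, map_add, hιC, hιX]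
          rw [Ideal.mem_span_singleton']
          refine ⟨C γ⁻¹, ?_⟩
          have : (C γ⁻¹ * C γ : MvPolynomial (Fin 2) K) = 1 := by
            rw [← C_mul, inv_mul_cancel₀ hγ, C_1]
          linear_combination (X 1 : MvPolynomial (Fin 2) K) * this)
    exact mem_of_sq_mem_sq (π : MvPolynomial (Fin 2) K →+* Polynomial K) hsurj _ hker J h

end LemmaAConcrete


section Descent

variable {κ : Type u} [Field κ] {K : Type*} [Field K] [Algebra κ K]

/-- coefficientwise application of a `κ`-linear functional. -/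
noncomputable def Phi (φ : K →ₗ[κ] κ) (F : MvPolynomial (Fin 2) K) : MvPolynomial (Fin 2) κ :=
  AddMonoidAlgebra.map φ.toAddMonoidHom F

theorem coeff_Phi (φ : K →ₗ[κ] κ) (F : MvPolynomial (Fin 2) K) (n : Fin 2 →₀ ℕ) :
    coeff n (Phi φ F) = φ (coeff n F) := rfl

theorem Phi_add (φ : K →ₗ[κ] κ) (F G : MvPolynomial (Fin 2) K) :
    Phi φ (F + G) = Phi φ F + Phi φ G := by
  ext n; simp only [coeff_Phi, coeff_add, map_add]

theorem Phi_zero (φ : K →ₗ[κ] κ) : Phi φ (0 : MvPolynomial (Fin 2) K) = 0 := by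
  ext n; simp only [coeff_Phi, coeff_zero, map_zero]

theorem Phi_map_mul (φ : K →ₗ[κ] κ) (i : MvPolynomial (Fin 2) κ) (F : MvPolynomial (Fin 2) K) :
    Phi φ (MvPolynomial.map (algebraMap κ K) i * F) = i * Phi φ F := by
  ext n
  rw [coeff_Phi, coeff_mul, coeff_mul, map_sum]
  refine Finset.sum_congr rfl fun x _ => ?_
  rw [coeff_map, coeff_Phi, ← Algebra.smul_def, map_smul, smul_eq_mul]

theorem Phi_mem_of_mem_map (φ : K →ₗ[κ] κ) (I : Ideal (MvPolynomial (Fin 2) κ))
    {F : MvPolynomial (Fin 2) K} (hF : F ∈ Ideal.map (MvPolynomial.map (algebraMap κ K)) I) :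
    Phi φ F ∈ I := by
  have key : ∀ G : MvPolynomial (Fin 2) K, Phi φ (G * F) ∈ I := by
    unfold Ideal.map at hF
    refine Submodule.span_induction (p := fun F _ => ∀ G : MvPolynomial (Fin 2) K, Phi φ (G * F) ∈ I)
      ?_ ?_ ?_ ?_ hF
    · rintro _ ⟨i, hi, rfl⟩ G
      rw [mul_comm]
      change Phi φ (MvPolynomial.map (algebraMap κ K) i * G) ∈ I
      rw [Phi_map_mul]
      exact I.mul_mem_right _ hi
    · intro G; rw [mul_zero, Phi_zero]; exact I.zero_mem
    · intro x y _ _ hx hy G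
      rw [mul_add, Phi_add]; exact I.add_mem (hx G) (hy G)
    · intro a x _ hx G
      rw [smul_eq_mul, ← mul_assoc]; exact hx (G * a)
  have := key 1
  rwa [one_mul] at this

theorem Phi_lin (φ : K →ₗ[κ] κ) (α β γ : K) :
    Phi φ (C α + C β * X 0 + C γ * X 1) = C (φ α) + C (φ β) * X 0 + C (φ γ) * X 1 := by
  have hC : ∀ c : K, Phi φ (C c) = C (φ c) := by
    intro c
    ext n
    rw [coeff_Phi, coeff_C, coeff_C]
    split_ifs
    · rfl
    · exact map_zero φ
  have hX : ∀ (c : K) (i : Fin 2), Phi φ (C c * X i) = C (φ c) * X i := by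
    intro c i
    have : (C c * X i : MvPolynomial (Fin 2) K) =
        MvPolynomial.map (algebraMap κ K) (X i) * C c := by rw [map_X, mul_comm]
    rw [this, Phi_map_mul, hC, mul_comm]
  rw [Phi_add, Phi_add, hC, hX, hX]

end Descent


section CharNeTwo


variable {κ : Type u} [Field κ]

theorem result_char_ne_two (h2 : (2 : κ) ≠ 0) (a b c d e f : κ)
    (hne : (a, b, c, d, e, f) ≠ (0, 0, 0, 0, 0, 0))
    (m1 : 2 * d * (2 * f) - e * e = 0) (m3 : b * (2 * f) - e * c = 0)
    (n1 : 2 * d * c - e * b = 0) (n2 : b * b - 2 * d * (2 * a) = 0) (n3 : b * c - e * (2 * a) = 0)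
    (k3 : c * c - 2 * f * (2 * a) = 0) :
    ∃ j g h i : κ, quad a b c d e f = C j * (C g + C h * X 0 + C i * X 1) ^ 2 := by
  by_cases hd : d = 0
  · by_cases hf : f = 0
    · by_cases ha : a = 0
      · exfalso
        apply hne
        subst hd hf ha
        have he : e = 0 := by
          have : e * e = 0 := by linear_combination -m1
          exact mul_self_eq_zero.1 this
        have hb : b = 0 := by
          have : b * b = 0 := by linear_combination n2
          exact mul_self_eq_zero.1 this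
        have hc : c = 0 := by
          have : c * c = 0 := by linear_combination k3
          exact mul_self_eq_zero.1 this
        rw [he, hb, hc]
      · have h2a : 2 * a ≠ 0 := mul_ne_zero h2 ha
        refine of_eqs a 1 (b / (2 * a)) (c / (2 * a)) ?_ ?_ ?_ ?_ ?_ ?_
        · ring
        · field_simp
        · field_simp
        · field_simp
          first
            | linear_combination n2
            | linear_combination -n2
        · field_simp
          first
            | linear_combination n3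
            | linear_combination -n3
        · field_simp
          first
            | linear_combination k3
            | linear_combination -k3
    · have h2f : 2 * f ≠ 0 := mul_ne_zero h2 hf
      refine of_eqs f (c / (2 * f)) (e / (2 * f)) 1 ?_ ?_ ?_ ?_ ?_ ?_
      · field_simp
        first
          | linear_combination k3
          | linear_combination -k3
      · field_simp
        first
          | linear_combination m3
          | linear_combination -m3
      · field_simp
      · field_simp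
        first
          | linear_combination m1
          | linear_combination -m1
      · field_simp
      · ring
  · have h2d : 2 * d ≠ 0 := mul_ne_zero h2 hd
    refine of_eqs d (b / (2 * d)) 1 (e / (2 * d)) ?_ ?_ ?_ ?_ ?_ ?_
    · field_simp
      first
        | linear_combination n2
        | linear_combination -n2
    · field_simp
    · field_simp
      first
        | linear_combination n1
        | linear_combination -n1
    · ring
    · field_simp
    · field_simp
      first
        | linear_combination m1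
        | linear_combination -m1

end CharNeTwo


section CharTwo

variable {κ : Type u} [Field κ]

theorem exists_smul_of_minors {K : Type*} [Field K] [Algebra κ K] (x y : K) (hy : y ≠ 0)
    (h : ∀ φ ψ : K →ₗ[κ] κ, φ x * ψ y - φ y * ψ x = 0) : ∃ g : κ, x = algebraMap κ K g * y := by
  by_contra hcon
  have hx : x ∉ Submodule.span κ ({y} : Set K) := by
    intro hx
    obtain ⟨g, hg⟩ := Submodule.mem_span_singleton.1 hx
    exact hcon ⟨g, by rw [← hg, Algebra.smul_def]⟩
  obtain ⟨φ, hφx, hφ⟩ := Submodule.exists_dual_map_eq_bot_of_notMem hx inferInstance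
  have hφy : φ y = 0 := by
    have : φ y ∈ (Submodule.span κ ({y} : Set K)).map φ :=
      Submodule.mem_map_of_mem (Submodule.mem_span_singleton_self y)
    rw [hφ] at this
    exact this
  have hy' : y ∉ (⊥ : Submodule κ K) := by simpa using hy
  obtain ⟨ψ, hψy, -⟩ := Submodule.exists_dual_map_eq_bot_of_notMem hy' inferInstance
  have := h φ ψ
  rw [hφy, zero_mul, sub_zero] at this
  exact (mul_ne_zero hφx hψy) this

theorem result_char_two (I : Ideal (MvPolynomial (Fin 2) κ))
    (hI : ¬ (Module.Finite κ (MvPolynomial (Fin 2) κ ⧸ I) ∧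
      Module.finrank κ (MvPolynomial (Fin 2) κ ⧸ I) ≤ 1))
    (h2 : (2 : κ) = 0) (a d f : κ)
    (hmem : quad a 0 0 d 0 f ∈ I ^ 2) :
    ∃ j g h i : κ, quad a 0 0 d 0 f = C j * (C g + C h * X 0 + C i * X 1) ^ 2 := by
  by_cases hdf : d = 0 ∧ f = 0
  · obtain ⟨hd, hf⟩ := hdf
    exact of_eqs a 1 0 0 (by ring) (by ring) (by ring) (by rw [hd]; ring) (by ring) (by rw [hf]; ring)
  -- pass to the algebraic closure
  let K := AlgebraicClosure κ
  have h2K : (2 : K) = 0 := by
    have := congrArg (algebraMap κ K) h2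
    rwa [map_ofNat, map_zero] at this
  obtain ⟨α, hα⟩ := IsAlgClosed.exists_pow_nat_eq (algebraMap κ K a) (show 0 < 2 by norm_num)
  obtain ⟨β, hβ⟩ := IsAlgClosed.exists_pow_nat_eq (algebraMap κ K d) (show 0 < 2 by norm_num)
  obtain ⟨γ, hγ⟩ := IsAlgClosed.exists_pow_nat_eq (algebraMap κ K f) (show 0 < 2 by norm_num)
  have hinj : Function.Injective (algebraMap κ K) := (algebraMap κ K).injective
  set m : MvPolynomial (Fin 2) κ →+* MvPolynomial (Fin 2) K := MvPolynomial.map (algebraMap κ K)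
    with hm
  set ℓ : MvPolynomial (Fin 2) K := C α + C β * X 0 + C γ * X 1 with hℓ
  have hsq : ℓ ^ 2 = m (quad a 0 0 d 0 f) := by
    have h2P : (2 : MvPolynomial (Fin 2) K) = 0 := by
      have := congrArg (C : K → MvPolynomial (Fin 2) K) h2K
      rwa [map_ofNat, map_zero] at this
    simp only [hm, quad, map_add, map_mul, map_pow, map_C, map_X, map_zero, zero_mul, add_zero,
      ← hα, ← hβ, ← hγ, hℓ]
    linear_combination (C α * C β * X 0 + C α * C γ * X 1 + C β * X 0 * C γ * X 1) * h2P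
  have hmemK : ℓ ^ 2 ∈ (Ideal.map m I) ^ 2 := by
    rw [hsq, ← Ideal.map_pow]
    exact Ideal.mem_map_of_mem m hmem
  have hβγ : β ≠ 0 ∨ γ ≠ 0 := by
    by_contra hcon
    push_neg at hcon
    apply hdf
    obtain ⟨hb0, hg0⟩ := hcon
    constructor
    · apply hinj
      rw [← hβ, hb0, map_zero]; ring
    · apply hinj
      rw [← hγ, hg0, map_zero]; ring
  have hℓmem : ℓ ∈ Ideal.map m I := lin_mem_of_sq_mem_sq α β γ hβγ _ hmemK
  have hforms : ∀ φ : K →ₗ[κ] κ,
      (C (φ α) + C (φ β) * X 0 + C (φ γ) * X 1 : MvPolynomial (Fin 2) κ) ∈ I := by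
    intro φ
    have := Phi_mem_of_mem_map φ I hℓmem
    rwa [hℓ, Phi_lin] at this
  have hminors : ∀ φ ψ : K →ₗ[κ] κ, φ β * ψ γ - φ γ * ψ β = 0 ∧ φ α * ψ β - φ β * ψ α = 0 ∧
      φ α * ψ γ - φ γ * ψ α = 0 := fun φ ψ =>
    minors_zero I hI _ _ _ _ _ _ (hforms φ) (hforms ψ)
  by_cases hd : d = 0
  · have hβ0 : β = 0 := by
      have : β ^ 2 = 0 := by rw [hβ, hd, map_zero]
      exact pow_eq_zero_iff (two_ne_zero) |>.1 this
    have hγ0 : γ ≠ 0 := by
      rcases hβγ with h | h
      · exact absurd hβ0 h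
      · exact h
    obtain ⟨g, hg⟩ := exists_smul_of_minors (κ := κ) α γ hγ0 (fun φ ψ => (hminors φ ψ).2.2)
    have ha : a = g ^ 2 * f := by
      apply hinj
      rw [← hα, hg, map_mul, map_pow, ← hγ]; ring
    refine of_eqs f g 0 1 (by rw [ha]; ring) (by ring) (by rw [h2]; ring) (by rw [hd]; ring)
      (by ring) (by ring)
  · have hβ0 : β ≠ 0 := by
      intro h0
      apply hd
      apply hinj
      rw [← hβ, h0, map_zero]; ring
    obtain ⟨g, hg⟩ := exists_smul_of_minors (κ := κ) α β hβ0 (fun φ ψ => (hminors φ ψ).2.1)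
    obtain ⟨i, hi⟩ := exists_smul_of_minors (κ := κ) γ β hβ0 (fun φ ψ => by
      have := (hminors φ ψ).1
      linear_combination -this)
    have ha : a = g ^ 2 * d := by
      apply hinj
      rw [← hα, hg, map_mul, map_pow, ← hβ]; ring
    have hf : f = i ^ 2 * d := by
      apply hinj
      rw [← hγ, hi, map_mul, map_pow, ← hβ]; ring
    refine of_eqs d g 1 i (by rw [ha]; ring) (by rw [h2]; ring) (by rw [h2]; ring) (by ring)
      (by rw [h2]; ring) (by rw [hf]; ring)

end CharTwo

/-- Let κ be a field and I an ideal of κ[x, y] whose colength is greater than one (the quotient is not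
of dimension at most one over κ). If a nonzero polynomial a + bx + cy + dx^2 + exy + fy^2 lies in
I^2, then it equals j (g + hx + iy)^2 for some scalars j, g, h, i. -/
theorem result (κ : Type u) [Field κ] (I : Ideal (MvPolynomial (Fin 2) κ))
    (hI : ¬ (Module.Finite κ (MvPolynomial (Fin 2) κ ⧸ I) ∧ Module.finrank κ (MvPolynomial (Fin 2) κ ⧸ I) ≤ 1))
    (a b c d e f : κ) (hne : (a, b, c, d, e, f) ≠ (0, 0, 0, 0, 0, 0))
    (hmem : (MvPolynomial.C a + MvPolynomial.C b * MvPolynomial.X 0 + MvPolynomial.C c * MvPolynomial.X 1 +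
      MvPolynomial.C d * MvPolynomial.X 0 ^ 2 + MvPolynomial.C e * MvPolynomial.X 0 * MvPolynomial.X 1 +
      MvPolynomial.C f * MvPolynomial.X 1 ^ 2 : MvPolynomial (Fin 2) κ) ∈ I ^ 2) :
    ∃ j g h i : κ, (MvPolynomial.C a + MvPolynomial.C b * MvPolynomial.X 0 + MvPolynomial.C c * MvPolynomial.X 1 +
      MvPolynomial.C d * MvPolynomial.X 0 ^ 2 + MvPolynomial.C e * MvPolynomial.X 0 * MvPolynomial.X 1 +
      MvPolynomial.C f * MvPolynomial.X 1 ^ 2 : MvPolynomial (Fin 2) κ) =
      MvPolynomial.C j * (MvPolynomial.C g + MvPolynomial.C h * MvPolynomial.X 0 + MvPolynomial.C i * MvPolynomial.X 1) ^ 2 := by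
  change ∃ j g h i : κ, quad a b c d e f = C j * (C g + C h * X 0 + C i * X 1) ^ 2
  have hmem' : quad a b c d e f ∈ I ^ 2 := hmem
  obtain ⟨hx, hy, hz⟩ := forms_mem I a b c d e f hmem'
  obtain ⟨m1, m2, m3⟩ := minors_zero I hI b (2 * d) e c e (2 * f) hx hy
  obtain ⟨n1, n2, n3⟩ := minors_zero I hI b (2 * d) e (2 * a) b c hx hz
  obtain ⟨k1, k2, k3⟩ := minors_zero I hI c e (2 * f) (2 * a) b c hy hz
  by_cases h2 : (2 : κ) = 0
  · have he : e = 0 := by
      have : e * e = 0 := by
        rw [h2] at m1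
        linear_combination -m1
      exact mul_self_eq_zero.1 this
    have hb : b = 0 := by
      have : b * b = 0 := by
        rw [h2] at n2
        linear_combination n2
      exact mul_self_eq_zero.1 this
    have hc : c = 0 := by
      have : c * c = 0 := by
        rw [h2] at k3
        linear_combination k3
      exact mul_self_eq_zero.1 this
    subst he hb hc
    exact result_char_two I hI h2 a d f hmem'
  · exact result_char_ne_two h2 a b c d e f hne m1 m3 n1 n2 n3 k3


end Groth.Agent.S1601
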