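import Groth.Statements.S16014
import Mathlib.Tactic
import Mathlib.Algebra.BigOperators.Ring.Finset
import Mathlib.Algebra.BigOperators.Group.Finset.Sigma
import Mathlib.Algebra.BigOperators.Intervals
-- import your own Groth.Agent.* helpers here

set_option autoImplicit false
universe u
open W4c3ghconstell

namespace Groth.Agent.S16014

/-- Let B = ⊕_{n ∈ ℤ} ⊕_τ B^n_τ be a bigraded finite-dimensional vector space, τ running over a finite
index set, with B^n = 0 for n < −N and for n > M (N, M integers); put d(n, τ) = dim B^n_τ. For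
rational numbers φ_τ write φ(C) = Σ_τ φ_τ dim C_τ for a τ-graded piece C, and let B^{≥n} = ⊕_{m ≥ n}
B^m, so that dim B^{≥n}_τ = Σ_{n ≤ m ≤ M} d(m, τ). Then Σ_{−N ≤ n ≤ M} n · φ(B^n) = Σ_{−N+1 ≤ n ≤ M}
φ(B^{≥n}) − N · φ(B). (Stated directly on the dimension function d.) -/
theorem result {τ : Type u} [Fintype τ] (d : ℤ → τ → ℕ) (φ : τ → ℚ) (N M : ℤ)
    (hN : ∀ n, n < -N → d n = 0) (hM : ∀ n, M < n → d n = 0) :
    ∑ n ∈ Finset.Icc (-N) M, (n : ℚ) * (∑ t, φ t * (d n t : ℚ)) =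
      ∑ n ∈ Finset.Icc (-N + 1) M, (∑ t, φ t * (∑ m ∈ Finset.Icc n M, (d m t : ℚ))) -
        (N : ℚ) * (∑ t, φ t * (∑ m ∈ Finset.Icc (-N) M, (d m t : ℚ))) := by
  set a : ℤ → ℚ := fun n => ∑ t, φ t * (d n t : ℚ) with ha
  have h1 : ∀ s : Finset ℤ, (∑ t, φ t * (∑ m ∈ s, (d m t : ℚ))) = ∑ m ∈ s, a m := by
    intro s
    simp only [ha, Finset.mul_sum]
    rw [Finset.sum_comm]
  simp only [h1]
  have key : (∑ n ∈ Finset.Icc (-N + 1) M, ∑ m ∈ Finset.Icc n M, a m) =
      ∑ m ∈ Finset.Icc (-N) M, ((m : ℚ) + (N : ℚ)) * a m := by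
    rw [Finset.sum_comm' (s' := fun m => Finset.Icc (-N + 1) m) (t' := Finset.Icc (-N + 1) M)
      (by intro n m; simp only [Finset.mem_Icc]; omega)]
    have h2 : ∀ m ∈ Finset.Icc (-N + 1) M, (∑ _n ∈ Finset.Icc (-N + 1) m, a m) =
        ((m : ℚ) + (N : ℚ)) * a m := by
      intro m hm
      rw [Finset.mem_Icc] at hm
      rw [Finset.sum_const, Int.card_Icc, nsmul_eq_mul]
      congr 1
      have h3 : ((m + 1 - (-N + 1)).toNat : ℤ) = m + N := by
        rw [Int.toNat_of_nonneg (by omega)]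
        ring
      have h4 : (((m + 1 - (-N + 1)).toNat : ℤ) : ℚ) = ((m + N : ℤ) : ℚ) := by rw [h3]
      push_cast at h4
      exact_mod_cast h4
    rw [Finset.sum_congr rfl h2]
    apply Finset.sum_subset (Finset.Icc_subset_Icc_left (by omega))
    intro x hx hx'
    rw [Finset.mem_Icc] at hx hx'
    have hxN : x = -N := by omega
    subst hxN
    push_cast
    ring
  rw [key, Finset.mul_sum, ← Finset.sum_sub_distrib]
  apply Finset.sum_congr rfl
  intro n _
  ring

end Groth.Agent.S16014
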