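import Groth.Statements.S16015
import Mathlib.RingTheory.Finiteness.Projective
import Mathlib.LinearAlgebra.Pi
import Mathlib.RingTheory.Ideal.Quotient.Operations
-- import your own Groth.Agent.* helpers here

set_option autoImplicit false
universe u v w
open W4c3ghconstell

namespace Groth.Agent.S16015

section Helpers

open TensorProduct

variable {B : Type u} [CommRing B] {E : Type v} [AddCommGroup E] [Module B E]
  {F : Type w} [AddCommGroup F] [Module B F]

/-- The ideal generated by all coefficients `ℓ (β e)`. -/
def coeffIdeal (β : E →ₗ[B] F) : Ideal B :=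
  Ideal.span {b : B | ∃ (ℓ : F →ₗ[B] B) (e : E), b = ℓ (β e)}

theorem baseChange_eq_zero_iff [Module.Finite B F] [Module.Projective B F] (β : E →ₗ[B] F)
    (C : Type u) [CommRing C] [Algebra B C] :
    LinearMap.baseChange C β = 0 ↔ coeffIdeal β ≤ RingHom.ker (algebraMap B C) := by
  constructor
  · intro h
    refine Ideal.span_le.mpr ?_
    rintro _ ⟨ℓ, e, rfl⟩
    have h1 : (1 : C) ⊗ₜ[B] β e = 0 := by
      have := congrArg (fun φ => φ ((1 : C) ⊗ₜ[B] e)) h
      simpa [LinearMap.baseChange_tmul] using this
    have h2 := congrArg (fun x => TensorProduct.rid B C (LinearMap.lTensor C ℓ x)) h1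
    simp only [LinearMap.lTensor_tmul, TensorProduct.rid_tmul, map_zero] at h2
    rw [SetLike.mem_coe, RingHom.mem_ker, Algebra.algebraMap_eq_smul_one]
    exact h2
  · intro h
    obtain ⟨n, f, g, -, -, hfg⟩ := Module.Finite.exists_comp_eq_id_of_projective B F
    apply LinearMap.ext
    intro x
    induction x using TensorProduct.induction_on with
    | zero => simp
    | tmul c e =>
      rw [LinearMap.baseChange_tmul, LinearMap.zero_apply]
      have h1 : β e = f (g (β e)) := by
        have := congrArg (fun φ => φ (β e)) hfg
        simpa using this.symm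
      rw [h1, LinearMap.pi_apply_eq_sum_univ f (g (β e)), TensorProduct.tmul_sum]
      apply Finset.sum_eq_zero
      intro i _
      have hi : g (β e) i ∈ coeffIdeal β :=
        Ideal.subset_span ⟨(LinearMap.proj i).comp g, e, rfl⟩
      have hi' := h hi
      rw [RingHom.mem_ker, Algebra.algebraMap_eq_smul_one] at hi'
      have hc : (g (β e) i) • c = 0 := by
        rw [← mul_one c, ← mul_smul_comm, hi', mul_zero]
      rw [TensorProduct.tmul_smul, TensorProduct.smul_tmul', hc, TensorProduct.zero_tmul]
    | add x y hx hy =>
      rw [map_add, hx, hy]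
      simp

end Helpers


/-- Let B be a commutative ring, E a B-module, F a finitely generated projective B-module and β : E → F
a B-linear map. Then there is a unique ideal I of B such that for every commutative B-algebra C the
base change β_C : C ⊗ E → C ⊗ F is zero if and only if the structure map B → C kills I. (The
published statement is for a homomorphism of modules on a scheme T into a locally free module and
produces a closed subscheme T₀ through which a morphism factors exactly when the pulled-back
homomorphism vanishes; this row is the case of an affine T with affine test schemes and F of finite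
rank, to which it reduces.) -/
theorem result {B : Type u} [CommRing B]
    {E : Type v} [AddCommGroup E] [Module B E]
    {F : Type w} [AddCommGroup F] [Module B F] [Module.Finite B F] [Module.Projective B F]
    (β : E →ₗ[B] F) :
    ∃! I : Ideal B, ∀ (C : Type u) [CommRing C] [Algebra B C],
      LinearMap.baseChange C β = 0 ↔ I ≤ RingHom.ker (algebraMap B C) := by
  refine ⟨coeffIdeal β, fun C _ _ => baseChange_eq_zero_iff β C, ?_⟩
  intro I hI
  have key : ∀ J : Ideal B, (∀ (C : Type u) [CommRing C] [Algebra B C],
      LinearMap.baseChange C β = 0 ↔ J ≤ RingHom.ker (algebraMap B C)) →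
      LinearMap.baseChange (B ⧸ J) β = 0 := by
    intro J hJ
    rw [hJ (B ⧸ J), Ideal.Quotient.algebraMap_eq, Ideal.mk_ker]
  have hI' := key I hI
  have hc' := key (coeffIdeal β) (fun C _ _ => baseChange_eq_zero_iff β C)
  apply le_antisymm
  · have := (baseChange_eq_zero_iff β (B ⧸ I)).mp hI'
    rw [Ideal.Quotient.algebraMap_eq, Ideal.mk_ker] at this
    -- coeffIdeal ≤ I ; we need I ≤ coeffIdeal here
    have h2 := (hI (B ⧸ coeffIdeal β)).mp hc'
    rwa [Ideal.Quotient.algebraMap_eq, Ideal.mk_ker] at h2
  · have := (baseChange_eq_zero_iff β (B ⧸ I)).mp hI'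
    rwa [Ideal.Quotient.algebraMap_eq, Ideal.mk_ker] at this

end Groth.Agent.S16015
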