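import Groth.Statements.S16016
import Mathlib.Tactic
-- import your own Groth.Agent.* helpers here

set_option autoImplicit false
universe u
open W4c3ghconstell

namespace Groth.Agent.S16016

/-- Let k be a field with 2 ≠ 0, index k⁶ by two copies of {0,1,2} (basis vectors p₁, p₂, p₃ in the
first copy and p₄, p₅, p₆ in the second), let Q be the symmetric matrix with blocks ((0, 1), (1,
0)), so that the form it defines pairs pᵢ with pᵢ₊₃, and let W₀ be the span of p₁ and p₂. Then a 6 ×
6 matrix A satisfies AᵀQ + QA = 0 (A lies in the orthogonal Lie algebra of Q) and has the image of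
Aᵀ contained in W₀ if and only if A = a · (E₄₂ − E₅₁) for some scalar a, where Eᵢⱼ is the matrix
unit. (The lemma in the source concludes that the set of such A inside a certain nilpotent orbit
closure of this Lie algebra is one-dimensional; this row is the computation its proof performs,
which determines all such A in the Lie algebra. Characteristic 2 is excluded: there E₁₄ᵀ also
qualifies.) -/
theorem result (k : Type u) [Field k] (h2 : (2 : k) ≠ 0)
    (A : Matrix (Fin 3 ⊕ Fin 3) (Fin 3 ⊕ Fin 3) k) :
    (A.transpose * Matrix.fromBlocks (0 : Matrix (Fin 3) (Fin 3) k) 1 1 0 +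
        Matrix.fromBlocks (0 : Matrix (Fin 3) (Fin 3) k) 1 1 0 * A = 0 ∧
      LinearMap.range (Matrix.mulVecLin A.transpose) ≤
        Submodule.span k {Pi.single (Sum.inl 0 : Fin 3 ⊕ Fin 3) (1 : k), Pi.single (Sum.inl 1 : Fin 3 ⊕ Fin 3) (1 : k)}) ↔
    ∃ a : k, A = a • (Matrix.single (Sum.inr 0) (Sum.inl 1) (1 : k) - Matrix.single (Sum.inr 1) (Sum.inl 0) (1 : k)) := by
  constructor
  · rintro ⟨h1, hr⟩
    have e1 : ∀ i j : Fin 3 ⊕ Fin 3, A (Sum.swap j) i + A (Sum.swap i) j = 0 := by
      intro i j
      have := congrFun (congrFun h1 i) j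
      rcases i with i | i <;> rcases j with j | j <;>
        simpa [Matrix.mul_apply, Fintype.sum_sum_type, Matrix.one_apply, Matrix.add_apply] using this
    have e2 : ∀ l j : Fin 3 ⊕ Fin 3, j ≠ Sum.inl 0 → j ≠ Sum.inl 1 → A l j = 0 := by
      intro l j hj0 hj1
      have hmem : (Matrix.mulVecLin A.transpose) (Pi.single l 1) ∈
          Submodule.span k {Pi.single (Sum.inl 0 : Fin 3 ⊕ Fin 3) (1 : k),
            Pi.single (Sum.inl 1 : Fin 3 ⊕ Fin 3) (1 : k)} := hr ⟨_, rfl⟩
      rw [Submodule.mem_span_pair] at hmem
      obtain ⟨a, b, hab⟩ := hmem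
      have := congrFun hab j
      simp only [Matrix.mulVecLin_apply, Matrix.mulVec_single_one, Pi.add_apply, Pi.smul_apply,
        Pi.single_apply, hj0, hj1, if_false, smul_zero, add_zero] at this
      rw [Matrix.col_apply, Matrix.transpose_apply] at this
      exact this.symm
    have e3 : ∀ i j : Fin 3 ⊕ Fin 3, A i j = -A (Sum.swap j) (Sum.swap i) := by
      intro i j
      have := e1 (Sum.swap i) j
      rw [Sum.swap_swap] at this
      exact eq_neg_of_add_eq_zero_right this
    refine ⟨A (Sum.inr 0) (Sum.inl 1), ?_⟩
    ext i j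
    simp only [Matrix.smul_apply, Matrix.sub_apply, Matrix.single_apply, smul_eq_mul]
    by_cases hj : j = Sum.inl 0 ∨ j = Sum.inl 1
    · by_cases hi : i = Sum.inr 0 ∨ i = Sum.inr 1
      · rcases hi with rfl | rfl <;> rcases hj with rfl | rfl
        · have := e1 (Sum.inl 0) (Sum.inl 0)
          simp only [Sum.swap_inl] at this
          have h3 : (2 : k) * A (Sum.inr 0) (Sum.inl 0) = 0 := by rw [two_mul]; exact this
          rcases mul_eq_zero.mp h3 with h | h
          · exact absurd h h2
          · simp [h]
        · simp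
        · have := e1 (Sum.inl 0) (Sum.inl 1)
          simp only [Sum.swap_inl] at this
          simp
          exact eq_neg_of_add_eq_zero_left this
        · have := e1 (Sum.inl 1) (Sum.inl 1)
          simp only [Sum.swap_inl] at this
          have h3 : (2 : k) * A (Sum.inr 1) (Sum.inl 1) = 0 := by rw [two_mul]; exact this
          rcases mul_eq_zero.mp h3 with h | h
          · exact absurd h h2
          · simp [h]
      · push Not at hi
        have hs0 : Sum.swap i ≠ Sum.inl 0 := by
          intro h
          apply hi.1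
          rw [← Sum.swap_swap i, h]
          rfl
        have hs1 : Sum.swap i ≠ Sum.inl 1 := by
          intro h
          apply hi.2
          rw [← Sum.swap_swap i, h]
          rfl
        rw [e3 i j, e2 _ _ hs0 hs1]
        have h0 : ¬ (Sum.inr 0 = i) := fun h => hi.1 h.symm
        have h1' : ¬ (Sum.inr 1 = i) := fun h => hi.2 h.symm
        simp [h0, h1']
    · push Not at hj
      rw [e2 i j hj.1 hj.2]
      have h0 : ¬ (Sum.inl 1 = j) := fun h => hj.2 h.symm
      have h1' : ¬ (Sum.inl 0 = j) := fun h => hj.1 h.symm
      simp [h0, h1']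
  · rintro ⟨a, rfl⟩
    constructor
    · ext i j
      rcases i with i | i <;> rcases j with j | j <;> fin_cases i <;> fin_cases j <;>
        simp [Matrix.mul_apply, Fintype.sum_sum_type, Matrix.one_apply, Matrix.add_apply,
          Matrix.single_apply, Fin.sum_univ_three]
    · rintro v ⟨w, rfl⟩
      rw [Submodule.mem_span_pair]
      refine ⟨-(a * w (Sum.inr 1)), a * w (Sum.inr 0), ?_⟩
      ext i
      rcases i with i | i <;> fin_cases i <;>
        simp [Matrix.mulVec, dotProduct, Fintype.sum_sum_type, Matrix.single_apply,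
          Fin.sum_univ_three, Pi.single_apply]

end Groth.Agent.S16016
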