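import Groth.Statements.S16017
import Mathlib.Analysis.Normed.Group.InfiniteSum
import Mathlib.Tactic
-- import your own Groth.Agent.* helpers here

set_option autoImplicit false
universe u
open W4c3ghconstell

namespace Groth.Agent.S16017

/-- Let ι index the irreducible representations, θ : ι → ℚ a weight negative at only finitely many
indices (the finite set D₋), h h' : ι → ℕ with h' ≤ h pointwise (the isotypic dimensions of an
object and of a sub-object) and Σ_i θ_i h_i summable. For a finite set D of indices put S_D = Σ_{i ∉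
D} θ_i h_i, d = #(D ∖ D₋), and θ̃_D = Σ_{i ∈ D} θ_i h'_i + (S_D / d) · Σ_{i ∈ D ∖ D₋} h'_i / h_i,
the modified weight attached to the parameters chosen for D (for D ⊇ D₋ the first sum is the
negative part plus the part over D ∖ D₋). Then θ̃_D tends to Σ_i θ_i h'_i as D grows through the
finite subsets of ι. (Here D runs over all finite sets of indices and a quotient by zero is zero;
the source lets D run over the finite subsets of the locus θ ≠ 0 containing D₋, and the same tail
estimate gives both.) -/
theorem result {ι : Type u} [DecidableEq ι] (θ : ι → ℚ) (h h' : ι → ℕ)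
    (hle : ∀ i, h' i ≤ h i) (hfin : {i | θ i < 0}.Finite)
    (hsum : Summable (fun i => (θ i : ℝ) * (h i : ℝ))) :
    Filter.Tendsto
      (fun D : Finset ι =>
        (∑ i ∈ D, (θ i : ℝ) * (h' i : ℝ)) +
          ((∑' i, if i ∈ D then (0 : ℝ) else (θ i : ℝ) * (h i : ℝ)) / ((D \ hfin.toFinset).card : ℝ)) *
            ∑ i ∈ D \ hfin.toFinset, ((h' i : ℝ) / (h i : ℝ)))
      Filter.atTop (nhds (∑' i, (θ i : ℝ) * (h' i : ℝ))) := by
  classical
  set f : ι → ℝ := fun i => (θ i : ℝ) * (h i : ℝ) with hf
  set g : ι → ℝ := fun i => (θ i : ℝ) * (h' i : ℝ) with hg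
  have hsum' : Summable g := by
    refine Summable.of_norm_bounded (g := fun i => |f i|) hsum.abs (fun i => ?_)
    simp only [hf, hg, Real.norm_eq_abs, abs_mul, Nat.abs_cast]
    exact mul_le_mul_of_nonneg_left (by exact_mod_cast hle i) (abs_nonneg _)
  have h1 : Filter.Tendsto (fun D : Finset ι => ∑ i ∈ D, g i) Filter.atTop (nhds (∑' i, g i)) :=
    hsum'.hasSum
  -- the tail sums
  set S : Finset ι → ℝ := fun D => ∑' i, if i ∈ D then (0 : ℝ) else f i with hS
  have hS' : ∀ D : Finset ι, S D = ∑' a : {x // x ∉ D}, f a := by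
    intro D
    have := tsum_subtype ((↑D : Set ι)ᶜ) f
    simp only [hS]
    rw [show (∑' a : {x // x ∉ D}, f a) = ∑' a : ((↑D : Set ι)ᶜ : Set ι), f a from rfl, this]
    apply tsum_congr
    intro i
    by_cases hi : i ∈ D
    · simp [hi]
    · simp [hi]
  have h2 : Filter.Tendsto S Filter.atTop (nhds 0) := by
    have := tendsto_tsum_compl_atTop_zero f
    refine this.congr (fun D => (hS' D).symm)
  -- the correction term tends to zero
  set T : Finset ι → ℝ := fun D => ∑ i ∈ D \ hfin.toFinset, ((h' i : ℝ) / (h i : ℝ)) with hT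
  have hT0 : ∀ D, 0 ≤ T D := fun D =>
    Finset.sum_nonneg (fun i _ => div_nonneg (Nat.cast_nonneg _) (Nat.cast_nonneg _))
  have hT1 : ∀ D, T D ≤ ((D \ hfin.toFinset).card : ℝ) := by
    intro D
    have := Finset.sum_le_card_nsmul (D \ hfin.toFinset) (fun i => (h' i : ℝ) / (h i : ℝ)) 1
      (fun i _ => div_le_one_of_le₀ (by exact_mod_cast hle i) (Nat.cast_nonneg _))
    simpa using this
  have h3 : Filter.Tendsto (fun D : Finset ι => (S D / ((D \ hfin.toFinset).card : ℝ)) * T D)
      Filter.atTop (nhds 0) := by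
    refine squeeze_zero_norm (fun D => ?_) (tendsto_norm_zero.comp h2)
    simp only [Function.comp_apply, Real.norm_eq_abs]
    by_cases hd : (D \ hfin.toFinset).card = 0
    · have hT' : T D = 0 := by
        simp only [hT]
        rw [Finset.card_eq_zero.mp hd, Finset.sum_empty]
      rw [hT', mul_zero, abs_zero]
      exact abs_nonneg _
    · have hdpos : (0 : ℝ) < ((D \ hfin.toFinset).card : ℝ) := by
        exact_mod_cast Nat.pos_of_ne_zero hd
      rw [abs_mul, abs_div, abs_of_nonneg (hT0 D), abs_of_pos hdpos]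
      calc |S D| / ((D \ hfin.toFinset).card : ℝ) * T D
          ≤ |S D| / ((D \ hfin.toFinset).card : ℝ) * ((D \ hfin.toFinset).card : ℝ) :=
            mul_le_mul_of_nonneg_left (hT1 D) (div_nonneg (abs_nonneg _) hdpos.le)
        _ = |S D| := div_mul_cancel₀ _ hdpos.ne'
  have := h1.add h3
  rw [add_zero] at this
  exact this

end Groth.Agent.S16017
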