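import Groth.Statements.S16018
import Groth.Agent.Lib.Helper99.Constell

set_option autoImplicit false
universe u v w x
open W4c3ghconstell
open Groth.Agent.Lib.Helper75 Groth.Agent.Lib.Helper99.Constell

namespace Groth.Agent.S16018

/-- Let k be an algebraically closed field of characteristic zero, A a commutative Hopf algebra over k
which is a finitely generated domain and linearly reductive (the coordinate ring of a connected
reductive group G; irreducible representations of G are indexed by the simple subcoalgebras D of A),
R a Noetherian commutative k-algebra with a multiplicative A-coaction (an affine G-scheme X = Spec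
R), and M an R-module with a compatible A-coaction (a G-equivariant quasi-coherent module on X)
which is finite over R, is the sum of its isotypic components M_D, and has dim_k M_D = h(D) < ∞ for
every simple subcoalgebra D. Fix a weight θ from simple subcoalgebras to ℚ, negative at only
finitely many D, with Σ_D θ(D) h(D) = 0 (a convergent real series) and with θ(D) ≠ 0, h(D) ≠ 0 for
some D; the weight of a k-subspace N of M is the real series Σ_D θ(D) · dim_k (N ∩ M_D). Assume
moreover that θ(D) ≠ 0 for every simple subcoalgebra D. If M is θ-semistable, i.e. M has weight 0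
and every R-submodule of M stable under the coaction has weight ≥ 0, then M is generated as an
R-module by its isotypic components M_D with θ(D) < 0 (the generation property of θ-stable objects
thus extends to θ-semistable ones when θ vanishes nowhere). (Multiplicities are recorded as
dimensions of isotypic components, a rescaling of θ.) -/
theorem result (k : Type u) [Field k] [IsAlgClosed k] [CharZero k]
    (A : Type v) [CommRing A] [IsDomain A] [HopfAlgebra k A] [Algebra.FiniteType k A]
    (hred : HopfRep.IsLinearlyReductive k A)
    (R : Type w) [CommRing R] [Algebra k R] [IsNoetherianRing R] [HopfRep.Comod k A R] [GLin.IsCoactAlg k A R]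
    (M : Type x) [AddCommGroup M] [Module k M] [Module R M] [IsScalarTower k R M]
    [HopfRep.Comod k A M] [TameAct.IsHopfMod k A R M]
    (h : W4c3ghconstell.SimpSub k A → ℕ) (θ : W4c3ghconstell.SimpSub k A → ℚ)
    (hfin : {D | θ D < 0}.Finite) (hsum : HasSum (fun D => (θ D : ℝ) * (h D : ℝ)) 0)
    (hne : ∃ D, θ D ≠ 0 ∧ h D ≠ 0)
    (hM : W4c3ghconstell.IsConstellation k A R M h)
    (hθ : ∀ D, θ D ≠ 0)
    (hss : W4c3ghconstell.IsThetaSemistable k A R M θ) :
    W4c3ghconstell.genIn k A R M {D | θ D < 0} ⊤ = ⊤ := by
  classical
  obtain ⟨hMfin, htop, hcomp⟩ := hM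
  have hfinC := fun D => (hcomp D).1
  have hh := fun D => (hcomp D).2
  have hNsub : HopfRep.IsSubcomod (k := k) (A := A)
      ((genIn k A R M {D | θ D < 0} ⊤).restrictScalars k) :=
    isSubcomod_genIn _ ⊤ (by rw [Submodule.restrictScalars_top]; exact isSubcomod_top)
  have hneg : ∀ D, θ D < 0 → isoComp (k := k) (A := A) M D.1 ≤
      (genIn k A R M {D | θ D < 0} ⊤).restrictScalars k := by
    intro D hD
    have := inf_isoComp_le_genIn (k := k) (A := A) (R := R) (S := {D | θ D < 0}) (⊤ : Submodule R M) hD
    rwa [Submodule.restrictScalars_top, top_inf_eq] at this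
  have hle : ∀ D, (θ D : ℝ) * (hilbAt M ((genIn k A R M {D | θ D < 0} ⊤).restrictScalars k) D : ℝ) ≤
      (θ D : ℝ) * (hilbAt M (⊤ : Submodule k M) D : ℝ) := by
    intro D
    by_cases hD : θ D < 0
    · rw [hilbAt_eq_of_le D (hneg D hD), hilbAt_top]
    · have := hfinC D
      have h0 : (0 : ℝ) ≤ (θ D : ℝ) := by exact_mod_cast not_lt.1 hD
      apply mul_le_mul_of_nonneg_left _ h0
      exact_mod_cast hilbAt_mono le_top D
  have h1 : theta M θ (⊤ : Submodule k M) ≤
      theta M θ ((genIn k A R M {D | θ D < 0} ⊤).restrictScalars k) := by
    rw [theta_top hh hsum]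
    exact hss.2 _ hNsub
  have heq := terms_eq_of_theta_eq hfinC hh hsum.summable hle h1
  have hall : ∀ D : SimpSub k A, isoComp (k := k) (A := A) M D.1 ≤
      (genIn k A R M {D | θ D < 0} ⊤).restrictScalars k := by
    intro D
    have := hfinC D
    apply isoComp_le_of_hilbAt_eq
    have h2 := heq D
    have h3 : (θ D : ℝ) ≠ 0 := by exact_mod_cast hθ D
    have h4 := mul_left_cancel₀ h3 h2
    rw [hilbAt_top] at h4
    exact_mod_cast h4
  have h5 : (⊤ : Submodule k M) ≤ (genIn k A R M {D | θ D < 0} ⊤).restrictScalars k := by
    rw [← htop]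
    exact iSup_le hall
  rw [eq_top_iff]
  intro m _
  exact h5 (Submodule.mem_top : m ∈ (⊤ : Submodule k M))

end Groth.Agent.S16018
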