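import Groth.Statements.S16046
import Groth.Agent.Lib.Helper10.DenseVal

set_option linter.style.haveILetI false

set_option autoImplicit false
universe u
open TensorProduct
open ValRing

namespace Groth.Agent.S16046

/-- Surjectivity assertion: let A ⊆ A' be valuation rings with fraction fields K ⊆ K', A' dominating A
and A dense in A' for the valuation topology, and L a finite extension of K; put L' = K' ⊗_K L. Then
every element of L' modulo its nilradical which is integral over A' is a finite sum Σ a'ᵢ·lᵢ with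
a'ᵢ ∈ A' and lᵢ ∈ L integral over A. (The published statement also identifies the kernel of the map
from the tensor product with the nilradical; that part is not stated here.) -/
theorem result
    (A K L A' K' : Type u) [CommRing A] [IsDomain A] [ValuationRing A] [Field K] [Algebra A K] [IsFractionRing A K]
    [Field L] [Algebra K L] [FiniteDimensional K L] [Algebra A L] [IsScalarTower A K L]
    [CommRing A'] [IsDomain A'] [ValuationRing A'] [Field K'] [Algebra A' K'] [IsFractionRing A' K']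
    [Algebra A A'] [IsLocalHom (algebraMap A A')] (hinj : Function.Injective (algebraMap A A'))
    [Algebra K K'] [Algebra A K'] [IsScalarTower A A' K'] [IsScalarTower A K K']
    (hdense : ∀ a' b' : A', b' ≠ 0 → ∃ a : A, b' ∣ a' - algebraMap A A' a)
    (x : (K' ⊗[K] L) ⧸ nilradical (K' ⊗[K] L))
    (hx : ((Ideal.Quotient.mk (nilradical (K' ⊗[K] L))).comp
            ((Algebra.TensorProduct.includeLeft : K' →ₐ[K] K' ⊗[K] L).toRingHom.comp (algebraMap A' K'))).IsIntegralElem x) :
    ∃ (n : ℕ) (a : Fin n → A') (l : Fin n → L), (∀ i, IsIntegral A (l i)) ∧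
      x = Ideal.Quotient.mk (nilradical (K' ⊗[K] L)) (∑ i, algebraMap A' K' (a i) ⊗ₜ[K] l i) := by
  haveI : Algebra.IsAlgebraic K L := Algebra.IsAlgebraic.of_finite K L
  obtain ⟨xt, rfl⟩ := Ideal.Quotient.mk_surjective x
  obtain ⟨l, n, a, k, hk, e⟩ := Groth.Agent.Lib.Helper10.DenseVal.exists_decomp (A := A) hdense xt
  letI alg : Algebra A' ((K' ⊗[K] L) ⧸ nilradical (K' ⊗[K] L)) :=
    ((Ideal.Quotient.mk (nilradical (K' ⊗[K] L))).comp
      ((Algebra.TensorProduct.includeLeft : K' →ₐ[K] K' ⊗[K] L).toRingHom.comp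
        (algebraMap A' K'))).toAlgebra
  have hx' : IsIntegral A' (Ideal.Quotient.mk (nilradical (K' ⊗[K] L)) xt) := hx
  -- the `A' ⊗ B` part is integral
  have hε : IsIntegral A' (Ideal.Quotient.mk (nilradical (K' ⊗[K] L))
      (∑ i, algebraMap A' K' (a i) ⊗ₜ[K] k i)) := by
    rw [map_sum]
    refine IsIntegral.sum _ (fun i _ => ?_)
    have h1 : Ideal.Quotient.mk (nilradical (K' ⊗[K] L)) (algebraMap A' K' (a i) ⊗ₜ[K] k i) =
        algebraMap A' ((K' ⊗[K] L) ⧸ nilradical (K' ⊗[K] L)) (a i) *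
          Ideal.Quotient.mk (nilradical (K' ⊗[K] L)) ((1 : K') ⊗ₜ[K] k i) := by
      show _ = Ideal.Quotient.mk (nilradical (K' ⊗[K] L)) (algebraMap A' K' (a i) ⊗ₜ[K] (1 : L)) *
        Ideal.Quotient.mk (nilradical (K' ⊗[K] L)) ((1 : K') ⊗ₜ[K] k i)
      rw [← map_mul, Algebra.TensorProduct.tmul_mul_tmul, mul_one, one_mul]
    rw [h1]
    refine IsIntegral.mul isIntegral_algebraMap ?_
    obtain ⟨p, hp, hp0⟩ := hk i
    refine ⟨p.map (algebraMap A A'), hp.map _, ?_⟩
    rw [Polynomial.eval₂_map]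
    have hcomp : (algebraMap A' ((K' ⊗[K] L) ⧸ nilradical (K' ⊗[K] L))).comp (algebraMap A A') =
        ((Ideal.Quotient.mk (nilradical (K' ⊗[K] L))).comp
          (Algebra.TensorProduct.includeRight : L →ₐ[K] K' ⊗[K] L).toRingHom).comp
            (algebraMap A L) := by
      ext r
      show Ideal.Quotient.mk (nilradical (K' ⊗[K] L))
          (algebraMap A' K' (algebraMap A A' r) ⊗ₜ[K] (1 : L)) =
        Ideal.Quotient.mk (nilradical (K' ⊗[K] L)) ((1 : K') ⊗ₜ[K] algebraMap A L r)
      rw [← IsScalarTower.algebraMap_apply A A' K', IsScalarTower.algebraMap_apply A K K',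
        IsScalarTower.algebraMap_apply A K L, Algebra.algebraMap_eq_smul_one (algebraMap A K r),
        TensorProduct.smul_tmul, ← Algebra.algebraMap_eq_smul_one]
    rw [hcomp]
    have h2 := congrArg ((Ideal.Quotient.mk (nilradical (K' ⊗[K] L))).comp
      (Algebra.TensorProduct.includeRight : L →ₐ[K] K' ⊗[K] L).toRingHom) hp0
    rw [map_zero, Polynomial.hom_eval₂] at h2
    exact h2
  have hl1 : IsIntegral A' (Ideal.Quotient.mk (nilradical (K' ⊗[K] L)) ((1 : K') ⊗ₜ[K] l)) := by
    have h1 : Ideal.Quotient.mk (nilradical (K' ⊗[K] L)) ((1 : K') ⊗ₜ[K] l) =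
        Ideal.Quotient.mk (nilradical (K' ⊗[K] L)) xt -
          Ideal.Quotient.mk (nilradical (K' ⊗[K] L)) (∑ i, algebraMap A' K' (a i) ⊗ₜ[K] k i) := by
      rw [e, map_add]; ring
    rw [h1]
    exact IsIntegral.sub hx' hε
  obtain ⟨p, hp, hp0⟩ := hl1
  have h1 : Ideal.Quotient.mk (nilradical (K' ⊗[K] L))
      (Polynomial.eval₂ ((Algebra.TensorProduct.includeLeft : K' →ₐ[K] K' ⊗[K] L).toRingHom.comp
        (algebraMap A' K')) ((1 : K') ⊗ₜ[K] l) p) = 0 := by
    rw [Polynomial.hom_eval₂]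
    exact hp0
  have h2 := Ideal.Quotient.eq_zero_iff_mem.mp h1
  obtain ⟨N, hN⟩ := mem_nilradical.mp h2
  have hq : Polynomial.eval₂ ((Algebra.TensorProduct.includeLeft : K' →ₐ[K] K' ⊗[K] L).toRingHom.comp
        (algebraMap A' K')) ((1 : K') ⊗ₜ[K] l) (p ^ N) = 0 := by
    rw [Polynomial.eval₂_pow]
    exact hN
  have hlint : IsIntegral A l :=
    Groth.Agent.Lib.Helper10.DenseVal.isIntegral_of_tmul l (p ^ N) (hp.pow N) hq
  refine ⟨n + 1, Fin.cons 1 a, Fin.cons l k, ?_, ?_⟩
  · intro i
    refine Fin.cases ?_ ?_ i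
    · simpa using hlint
    · intro j
      simpa using hk j
  · rw [Fin.sum_univ_succ]
    simp only [Fin.cons_zero, Fin.cons_succ, map_one]
    rw [e]

end Groth.Agent.S16046
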