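import Groth.Statements.S16051
import Mathlib
-- import your own Groth.Agent.* helpers here

set_option autoImplicit false
universe u
open LieAlg

namespace Groth.Agent.S16051

section Aux

variable {O : Type u} [CommRing O]

lemma tele (k : ℕ) (g : ℕ → O) :
    ∑ s ∈ Finset.range k, (if s + 1 < k then g (s + 1) else 0) =
      ∑ s ∈ Finset.range k, (if 1 ≤ s then g s else 0) := by
  cases k with
  | zero => simp
  | succ k =>
    rw [Finset.sum_range_succ, Finset.sum_range_succ']
    have h1 : (if k + 1 < k + 1 then g (k + 1) else 0) = 0 := if_neg (lt_irrefl _)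
    have h2 : (if 1 ≤ 0 then g 0 else 0) = 0 := if_neg (by omega)
    rw [h1, h2, add_zero, add_zero]
    apply Finset.sum_congr rfl
    intro s hs
    rw [Finset.mem_range] at hs
    rw [if_pos (by omega), if_pos (by omega)]

def adf (n : ℕ) (y : ℕ → ℕ → O) (a b : ℕ) : O :=
  (if a + 1 < n then y (a + 1) b else 0) - (if 1 ≤ b ∧ b < n then y a (b - 1) else 0)

def dsum (n : ℕ) (y : ℕ → ℕ → O) (δ : ℕ) : O := ∑ s ∈ Finset.range (n - δ), y (δ + s) s

lemma dsum_adf (n : ℕ) (y : ℕ → ℕ → O) (δ : ℕ) : dsum n (adf n y) δ = 0 := by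
  unfold dsum
  have h : ∀ s ∈ Finset.range (n - δ), adf n y (δ + s) s =
      (if s + 1 < n - δ then y (δ + (s + 1)) (s + 1 - 1) else 0) -
      (if 1 ≤ s then y (δ + s) (s - 1) else 0) := by
    intro s hs
    rw [Finset.mem_range] at hs
    unfold adf
    congr 1
    · by_cases h1 : s + 1 < n - δ
      · rw [if_pos h1, if_pos (by omega), Nat.add_sub_cancel, Nat.add_assoc]
      · rw [if_neg h1, if_neg (by omega)]
    · by_cases h1 : 1 ≤ s
      · rw [if_pos h1, if_pos (by omega)]
      · rw [if_neg h1, if_neg (by omega)]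
  rw [Finset.sum_congr rfl h, Finset.sum_sub_distrib]
  exact sub_eq_zero.2 (tele (n - δ) (fun s => y (δ + s) (s - 1)))

def extM (n : ℕ) (Y : Matrix (Fin (n + 1)) (Fin (n + 1)) O) (a b : ℕ) : O :=
  if h : a < n + 1 ∧ b < n + 1 then Y ⟨a, h.1⟩ ⟨b, h.2⟩ else 0

lemma extM_of_lt (n : ℕ) (Y : Matrix (Fin (n + 1)) (Fin (n + 1)) O) {a b : ℕ}
    (ha : a < n + 1) (hb : b < n + 1) : extM n Y a b = Y ⟨a, ha⟩ ⟨b, hb⟩ := by
  unfold extM
  rw [dif_pos ⟨ha, hb⟩]

lemma extM_val (n : ℕ) (Y : Matrix (Fin (n + 1)) (Fin (n + 1)) O) (i j : Fin (n + 1)) :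
    extM n Y i.val j.val = Y i j := extM_of_lt n Y i.2 j.2

lemma extM_add (n : ℕ) (Y Y' : Matrix (Fin (n + 1)) (Fin (n + 1)) O) (a b : ℕ) :
    extM n (Y + Y') a b = extM n Y a b + extM n Y' a b := by
  unfold extM
  by_cases h : a < n + 1 ∧ b < n + 1
  · rw [dif_pos h, dif_pos h, dif_pos h]; rfl
  · rw [dif_neg h, dif_neg h, dif_neg h, add_zero]

lemma extM_smul (n : ℕ) (c : O) (Y : Matrix (Fin (n + 1)) (Fin (n + 1)) O) (a b : ℕ) :
    extM n (c • Y) a b = c * extM n Y a b := by
  unfold extM
  by_cases h : a < n + 1 ∧ b < n + 1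
  · rw [dif_pos h, dif_pos h]; rfl
  · rw [dif_neg h, dif_neg h, mul_zero]

lemma comm_apply (n : ℕ) (X Y : Matrix (Fin (n + 1)) (Fin (n + 1)) O)
    (hx : ∀ i j : Fin (n + 1), X i j = if j.val = i.val + 1 ∧ j.val < n then 1 else 0)
    (i j : Fin (n + 1)) :
    (X * Y - Y * X) i j = adf n (extM n Y) i.val j.val := by
  rw [Matrix.sub_apply, Matrix.mul_apply, Matrix.mul_apply]
  unfold adf
  congr 1
  · by_cases h : i.val + 1 < n
    · rw [if_pos h]
      have hk : i.val + 1 < n + 1 := by omega
      rw [Finset.sum_eq_single (⟨i.val + 1, hk⟩ : Fin (n + 1))]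
      · have hc : (⟨i.val + 1, hk⟩ : Fin (n + 1)).val = i.val + 1 ∧
            (⟨i.val + 1, hk⟩ : Fin (n + 1)).val < n := ⟨rfl, h⟩
        rw [hx, if_pos hc, one_mul]
        exact (extM_of_lt n Y hk j.2).symm
      · intro k _ hk'
        have hne : ¬ (k.val = i.val + 1 ∧ k.val < n) := by
          rintro ⟨h1, _⟩
          exact hk' (Fin.ext h1)
        rw [hx, if_neg hne, zero_mul]
      · intro h'; exact absurd (Finset.mem_univ _) h'
    · rw [if_neg h]
      apply Finset.sum_eq_zero
      intro k _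
      have hne : ¬ (k.val = i.val + 1 ∧ k.val < n) := by
        rintro ⟨h1, h2⟩
        omega
      rw [hx, if_neg hne, zero_mul]
  · by_cases h : 1 ≤ j.val ∧ j.val < n
    · rw [if_pos h]
      have hk : j.val - 1 < n + 1 := by omega
      rw [Finset.sum_eq_single (⟨j.val - 1, hk⟩ : Fin (n + 1))]
      · have hc : j.val = (⟨j.val - 1, hk⟩ : Fin (n + 1)).val + 1 ∧ j.val < n :=
          ⟨by show j.val = j.val - 1 + 1; omega, h.2⟩
        rw [hx, if_pos hc, mul_one]
        exact (extM_of_lt n Y i.2 hk).symm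
      · intro k _ hk'
        have hne : ¬ (j.val = k.val + 1 ∧ j.val < n) := by
          rintro ⟨h1, _⟩
          apply hk'
          apply Fin.ext
          show k.val = j.val - 1
          omega
        rw [hx, if_neg hne, mul_zero]
      · intro h'; exact absurd (Finset.mem_univ _) h'
    · rw [if_neg h]
      apply Finset.sum_eq_zero
      intro k _
      have hne : ¬ (j.val = k.val + 1 ∧ j.val < n) := by
        rintro ⟨h1, h2⟩
        exact h ⟨by omega, h2⟩
      rw [hx, if_neg hne, mul_zero]

def pif (n : ℕ) (m : ℕ → ℕ → O) (k : Fin (n + 2)) : O :=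
  if k.val < n then dsum n m k.val else if k.val = n then m (n - 1) n else m n 0

lemma pif_lt (n : ℕ) (m : ℕ → ℕ → O) (k : Fin (n + 2)) (h : k.val < n) :
    pif n m k = dsum n m k.val := if_pos h

lemma pif_eq (n : ℕ) (m : ℕ → ℕ → O) (k : Fin (n + 2)) (h : k.val = n) :
    pif n m k = m (n - 1) n := by
  unfold pif
  rw [if_neg (by omega), if_pos h]

lemma pif_gt (n : ℕ) (m : ℕ → ℕ → O) (k : Fin (n + 2)) (h : n < k.val) :
    pif n m k = m n 0 := by
  unfold pif
  rw [if_neg (by omega), if_neg (by omega)]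

lemma pif_add (n : ℕ) (m m' : ℕ → ℕ → O) (k : Fin (n + 2)) :
    pif n (fun a b => m a b + m' a b) k = pif n m k + pif n m' k := by
  unfold pif dsum
  split_ifs
  · exact Finset.sum_add_distrib
  · rfl
  · rfl

lemma pif_smul (n : ℕ) (c : O) (m : ℕ → ℕ → O) (k : Fin (n + 2)) :
    pif n (fun a b => c * m a b) k = c * pif n m k := by
  unfold pif dsum
  split_ifs
  · exact (Finset.mul_sum _ _ _).symm
  · rfl
  · rfl

noncomputable def piL (n : ℕ) :
    LieAlgebra.SpecialLinear.sl (Fin (n + 1)) O →ₗ[O] (Fin (n + 2) → O) where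
  toFun M := pif n (extM n M.val)
  map_add' M M' := by
    have e : extM n (M + M').val = fun a b => extM n M.val a b + extM n M'.val a b := by
      funext a b; exact extM_add n M.val M'.val a b
    rw [e]; funext k; exact pif_add n _ _ k
  map_smul' c M := by
    have e : extM n (c • M).val = fun a b => c * extM n M.val a b := by
      funext a b; exact extM_smul n c M.val a b
    rw [e]; funext k; exact pif_smul n c _ k

def Nf (n : ℕ) (m : ℕ → ℕ → O) (a b : ℕ) : O :=
  if a < n then
    (if b < n then ∑ t ∈ Finset.range (min a (b + 1)), m (a - 1 - t) (b - t)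
     else if 1 ≤ a then m (a - 1) n else 0)
  else
    (if b + 1 < n then - m n (b + 1) else 0)

lemma adf_Nf (n : ℕ) (m : ℕ → ℕ → O) (h1 : ∀ δ < n, dsum n m δ = 0)
    (h2 : m (n - 1) n = 0) (h3 : m n 0 = 0) (h4 : m n n = 0) (a b : ℕ)
    (ha : a < n + 1) (hb : b < n + 1) : adf n (Nf n m) a b = m a b := by
  unfold adf
  by_cases han : a < n
  · by_cases hbn : b < n
    · have key : ∑ t ∈ Finset.range (min a b + 1), m (a - t) (b - t) =
          (∑ t ∈ Finset.range (min a b), m (a - 1 - t) (b - 1 - t)) + m a b := by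
        rw [Finset.sum_range_succ', Nat.sub_zero, Nat.sub_zero]
        refine congrArg (· + m a b) (Finset.sum_congr rfl ?_)
        intro t _
        have e1 : a - (t + 1) = a - 1 - t := by omega
        have e2 : b - (t + 1) = b - 1 - t := by omega
        rw [e1, e2]
      have second : (if 1 ≤ b ∧ b < n then Nf n m a (b - 1) else 0) =
          ∑ t ∈ Finset.range (min a b), m (a - 1 - t) (b - 1 - t) := by
        by_cases hb1 : 1 ≤ b
        · rw [if_pos ⟨hb1, hbn⟩]
          unfold Nf
          rw [if_pos han, if_pos (by omega : b - 1 < n)]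
          have : b - 1 + 1 = b := by omega
          rw [this]
        · rw [if_neg (by omega)]
          have : min a b = 0 := by omega
          rw [this, Finset.range_zero, Finset.sum_empty]
      by_cases ha1 : a + 1 < n
      · rw [if_pos ha1, second]
        unfold Nf
        rw [if_pos ha1, if_pos hbn]
        have e : min (a + 1) (b + 1) = min a b + 1 := by omega
        have e' : ∀ t, a + 1 - 1 - t = a - t := by intro t; omega
        simp only [e']
        rw [e, key]
        exact add_sub_cancel_left _ _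
      · rw [if_neg ha1, second, zero_sub]
        have hab : min a b = b := by omega
        have hz : ∑ t ∈ Finset.range (min a b + 1), m (a - t) (b - t) = 0 := by
          rw [hab]
          have := h1 (n - 1 - b) (by omega)
          unfold dsum at this
          have e : n - (n - 1 - b) = b + 1 := by omega
          rw [e, ← Finset.sum_range_reflect] at this
          refine Eq.trans (Finset.sum_congr rfl ?_) this
          intro t ht
          rw [Finset.mem_range] at ht
          show m (a - t) (b - t) = m (n - 1 - b + (b + 1 - 1 - t)) (b + 1 - 1 - t)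
          have e1 : n - 1 - b + (b + 1 - 1 - t) = a - t := by omega
          have e2 : b + 1 - 1 - t = b - t := by omega
          rw [e1, e2]
        rw [key] at hz
        exact neg_eq_of_add_eq_zero_right hz
    · have hb' : b = n := by omega
      rw [hb']
      rw [if_neg (by omega : ¬ (1 ≤ n ∧ n < n)), sub_zero]
      by_cases ha1 : a + 1 < n
      · rw [if_pos ha1]
        unfold Nf
        rw [if_pos ha1, if_neg (lt_irrefl n), if_pos (by omega : 1 ≤ a + 1), Nat.add_sub_cancel]
      · rw [if_neg ha1]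
        have : a = n - 1 := by omega
        rw [this, h2]
  · have ha' : a = n := by omega
    rw [ha']
    rw [if_neg (by omega : ¬ (n + 1 < n)), zero_sub]
    by_cases hb1 : 1 ≤ b ∧ b < n
    · rw [if_pos hb1]
      unfold Nf
      rw [if_neg (lt_irrefl n), if_pos (by omega : b - 1 + 1 < n)]
      have : b - 1 + 1 = b := by omega
      rw [this, neg_neg]
    · rw [if_neg hb1, neg_zero]
      rcases (by omega : b = 0 ∨ b = n) with hb0 | hbn'
      · rw [hb0, h3]
      · rw [hbn', h4]

lemma exists_N (n : ℕ) (m : ℕ → ℕ → O) (h1 : ∀ δ < n, dsum n m δ = 0)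
    (h2 : m (n - 1) n = 0) (h3 : m n 0 = 0) (h4 : m n n = 0) :
    ∃ N' : Matrix (Fin (n + 1)) (Fin (n + 1)) O, Matrix.trace N' = 0 ∧
      ∀ i j : Fin (n + 1), adf n (extM n N') i.val j.val = m i.val j.val := by
  obtain ⟨τ, hτ⟩ : ∃ τ : O, τ = ∑ a ∈ Finset.range n, Nf n m a a := ⟨_, rfl⟩
  obtain ⟨N', hN'⟩ : ∃ N' : Matrix (Fin (n + 1)) (Fin (n + 1)) O, ∀ i j, N' i j =
      Nf n m i.val j.val - (if i.val = n ∧ j.val = n then τ else 0) :=
    ⟨Matrix.of fun i j => Nf n m i.val j.val - (if i.val = n ∧ j.val = n then τ else 0),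
      fun _ _ => rfl⟩
  have hext : ∀ a b, a < n + 1 → b < n + 1 →
      extM n N' a b = Nf n m a b - (if a = n ∧ b = n then τ else 0) := by
    intro a b ha hb
    rw [extM_of_lt n N' ha hb]
    exact hN' ⟨a, ha⟩ ⟨b, hb⟩
  refine ⟨N', ?_, ?_⟩
  · have h0 : Matrix.trace N' = ∑ i : Fin (n + 1), N' i i := rfl
    rw [h0, Finset.sum_congr rfl (fun i _ => hN' i i)]
    rw [Fin.sum_univ_eq_sum_range (fun a => Nf n m a a - (if a = n ∧ a = n then τ else 0)) (n + 1),
      Finset.sum_range_succ]
    beta_reduce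
    have e1 : ∑ a ∈ Finset.range n, (Nf n m a a - (if a = n ∧ a = n then τ else 0)) = τ := by
      rw [hτ]
      apply Finset.sum_congr rfl
      intro a ha
      rw [Finset.mem_range] at ha
      rw [if_neg (by omega), sub_zero]
    have e2 : Nf n m n n = 0 := by
      unfold Nf
      rw [if_neg (lt_irrefl n), if_neg (by omega)]
    rw [e1, e2, if_pos (by omega), zero_sub, add_neg_cancel]
  · intro i j
    refine Eq.trans ?_ (adf_Nf n m h1 h2 h3 h4 i.val j.val i.2 j.2)
    unfold adf
    congr 1
    · by_cases h : i.val + 1 < n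
      · rw [if_pos h, if_pos h, hext _ _ (by omega) j.2, if_neg (by omega), sub_zero]
      · rw [if_neg h, if_neg h]
    · by_cases h : 1 ≤ j.val ∧ j.val < n
      · rw [if_pos h, if_pos h, hext _ _ i.2 (by omega), if_neg (by omega), sub_zero]
      · rw [if_neg h, if_neg h]

lemma range_le_ker (n : ℕ) (hn : 1 ≤ n) (x : LieAlgebra.SpecialLinear.sl (Fin (n + 1)) O)
    (hx : ∀ i j : Fin (n + 1), (x : Matrix (Fin (n + 1)) (Fin (n + 1)) O) i j =
      if j.val = i.val + 1 ∧ j.val < n then 1 else 0)
    (y : LieAlgebra.SpecialLinear.sl (Fin (n + 1)) O) :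
    piL n (LieAlgebra.ad O (LieAlgebra.SpecialLinear.sl (Fin (n + 1)) O) x y) = 0 := by
  have hc : (LieAlgebra.ad O (LieAlgebra.SpecialLinear.sl (Fin (n + 1)) O) x y).val =
      x.val * y.val - y.val * x.val := rfl
  funext k
  show pif n (extM n (LieAlgebra.ad O (LieAlgebra.SpecialLinear.sl (Fin (n + 1)) O) x y).val) k = 0
  rw [hc]
  have hE : ∀ a b, a < n + 1 → b < n + 1 →
      extM n (x.val * y.val - y.val * x.val) a b = adf n (extM n y.val) a b := by
    intro a b ha hb
    rw [extM_of_lt n _ ha hb]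
    exact comm_apply n x.val y.val hx ⟨a, ha⟩ ⟨b, hb⟩
  rcases lt_trichotomy k.val n with hk | hk | hk
  · rw [pif_lt n _ k hk]
    refine Eq.trans ?_ (dsum_adf n (extM n y.val) k.val)
    unfold dsum
    apply Finset.sum_congr rfl
    intro s hs
    rw [Finset.mem_range] at hs
    exact hE _ _ (by omega) (by omega)
  · rw [pif_eq n _ k hk, hE _ _ (by omega) (by omega)]
    unfold adf
    rw [if_neg (by omega), if_neg (by omega), sub_zero]
  · rw [pif_gt n _ k hk, hE _ _ (by omega) (by omega)]
    unfold adf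
    rw [if_neg (by omega), if_neg (by omega), sub_zero]

lemma ker_le_range (n : ℕ) (hn : 1 ≤ n) (x : LieAlgebra.SpecialLinear.sl (Fin (n + 1)) O)
    (hx : ∀ i j : Fin (n + 1), (x : Matrix (Fin (n + 1)) (Fin (n + 1)) O) i j =
      if j.val = i.val + 1 ∧ j.val < n then 1 else 0)
    (M : LieAlgebra.SpecialLinear.sl (Fin (n + 1)) O) (hM : piL n M = 0) :
    M ∈ LinearMap.range (LieAlgebra.ad O (LieAlgebra.SpecialLinear.sl (Fin (n + 1)) O) x) := by
  have hpi : ∀ k : Fin (n + 2), pif n (extM n M.val) k = 0 := fun k => congrFun hM k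
  have h1 : ∀ δ < n, dsum n (extM n M.val) δ = 0 := fun δ hδ =>
    (pif_lt n (extM n M.val) ⟨δ, by omega⟩ hδ).symm.trans (hpi _)
  have h2 : extM n M.val (n - 1) n = 0 :=
    (pif_eq n (extM n M.val) ⟨n, by omega⟩ rfl).symm.trans (hpi _)
  have h3 : extM n M.val n 0 = 0 :=
    (pif_gt n (extM n M.val) ⟨n + 1, by omega⟩ (Nat.lt_succ_self n)).symm.trans (hpi _)
  have htr0 : Matrix.trace M.val = 0 := M.2
  have htr1 : ∑ i : Fin (n + 1), M.val i i = 0 := htr0
  have htr : ∑ a ∈ Finset.range (n + 1), extM n M.val a a = 0 := by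
    rw [← Fin.sum_univ_eq_sum_range (fun a => extM n M.val a a) (n + 1)]
    refine Eq.trans (Finset.sum_congr rfl (fun i _ => ?_)) htr1
    exact extM_val n M.val i i
  have h4 : extM n M.val n n = 0 := by
    rw [Finset.sum_range_succ] at htr
    have h0 := h1 0 hn
    unfold dsum at h0
    simp only [Nat.sub_zero, Nat.zero_add] at h0
    rw [h0, zero_add] at htr
    exact htr
  obtain ⟨N', hN'tr, hN'⟩ := exists_N n (extM n M.val) h1 h2 h3 h4
  refine ⟨⟨N', hN'tr⟩, ?_⟩
  apply Subtype.ext
  show x.val * N' - N' * x.val = M.val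
  ext i j
  rw [comm_apply n x.val N' hx i j, hN' i j, extM_val]

lemma surj (n : ℕ) (hn : 1 ≤ n) (v : Fin (n + 2) → O) :
    ∃ M : LieAlgebra.SpecialLinear.sl (Fin (n + 1)) O, piL n M = v := by
  obtain ⟨vv, hvv⟩ : ∃ vv : ℕ → O, ∀ k : Fin (n + 2), vv k.val = v k :=
    ⟨fun k => if h : k < n + 2 then v ⟨k, h⟩ else 0, fun k => by
      show (if h : k.val < n + 2 then v ⟨k.val, h⟩ else 0) = v k
      rw [dif_pos k.2]⟩
  obtain ⟨Mf, hMf⟩ : ∃ Mf : ℕ → ℕ → O, ∀ a b, Mf a b =
      if a < n ∧ b = 0 then vv a else if a = n - 1 ∧ b = n then vv n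
      else if a = n ∧ b = 0 then vv (n + 1) else if a = n ∧ b = n then - vv 0 else 0 :=
    ⟨_, fun _ _ => rfl⟩
  obtain ⟨Ms, hMs⟩ : ∃ Ms : Matrix (Fin (n + 1)) (Fin (n + 1)) O,
      ∀ i j, Ms i j = Mf i.val j.val := ⟨Matrix.of fun i j => Mf i.val j.val, fun _ _ => rfl⟩
  have hext : ∀ a b, a < n + 1 → b < n + 1 → extM n Ms a b = Mf a b := by
    intro a b ha hb
    rw [extM_of_lt n Ms ha hb]
    exact hMs ⟨a, ha⟩ ⟨b, hb⟩
  have htr : Matrix.trace Ms = 0 := by
    have h0 : Matrix.trace Ms = ∑ i : Fin (n + 1), Ms i i := rfl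
    rw [h0, Finset.sum_congr rfl (fun i _ => hMs i i),
      Fin.sum_univ_eq_sum_range (fun a => Mf a a) (n + 1), Finset.sum_range_succ]
    beta_reduce
    have e1 : ∑ a ∈ Finset.range n, Mf a a = vv 0 := by
      rw [Finset.sum_eq_single 0]
      · rw [hMf, if_pos (by omega)]
      · intro a ha ha0
        rw [Finset.mem_range] at ha
        rw [hMf, if_neg (by omega), if_neg (by omega), if_neg (by omega), if_neg (by omega)]
      · intro h; exact absurd (Finset.mem_range.2 (by omega)) h
    have e2 : Mf n n = - vv 0 := by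
      rw [hMf, if_neg (by omega), if_neg (by omega), if_neg (by omega), if_pos (by omega)]
    rw [e1, e2, add_neg_cancel]
  refine ⟨⟨Ms, htr⟩, ?_⟩
  funext k
  show pif n (extM n Ms) k = v k
  have hvv' : ∀ j, j = k.val → vv j = v k := by
    intro j hj; rw [hj]; exact hvv k
  rcases lt_trichotomy k.val n with hk | hk | hk
  · rw [pif_lt n _ k hk]
    unfold dsum
    rw [Finset.sum_eq_single 0]
    · rw [hext _ _ (by omega) (by omega), hMf, if_pos (by omega)]
      exact hvv' _ (by omega)
    · intro s hs hs0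
      rw [Finset.mem_range] at hs
      rw [hext _ _ (by omega) (by omega), hMf, if_neg (by omega), if_neg (by omega),
        if_neg (by omega), if_neg (by omega)]
    · intro h; exact absurd (Finset.mem_range.2 (by omega)) h
  · rw [pif_eq n _ k hk, hext _ _ (by omega) (by omega), hMf, if_neg (by omega),
      if_pos (by omega)]
    exact hvv' _ (by omega)
  · rw [pif_gt n _ k hk, hext _ _ (by omega) (by omega), hMf, if_neg (by omega),
      if_neg (by omega), if_pos (by omega)]
    exact hvv' _ (by have := k.2; omega)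

end Aux


/-- Let O be a discrete valuation ring of characteristic zero with residue field of characteristic p,
let 1 ≤ n with n + 1 < p (type A_n with p above the Coxeter number), and let x ∈ sl_{n+1}(O) be the
standard subregular nilpotent element, the matrix with entries x_{i,i+1} = 1 for i + 1 < n and 0
elsewhere (one Jordan block of size n and one of size 1; in the source this is the sum of the root
vectors of the first n − 1 simple roots, completed there to an sl₂-triple). Then the quotient of
sl_{n+1}(O) by the image of ad_x is a free O-module of rank n + 2. (The source works over a complete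
such ring with algebraically closed residue field; completeness and algebraic closedness are not
used for this statement.) -/
theorem result (O : Type u) [CommRing O] [IsDomain O] [IsDiscreteValuationRing O]
    [CharZero O] (p : ℕ) [Fact p.Prime] [CharP (IsLocalRing.ResidueField O) p]
    (n : ℕ) (hn : 1 ≤ n) (hp : n + 1 < p)
    (x : LieAlgebra.SpecialLinear.sl (Fin (n + 1)) O)
    (hx : ∀ i j : Fin (n + 1), (x : Matrix (Fin (n + 1)) (Fin (n + 1)) O) i j =
      if j.val = i.val + 1 ∧ j.val < n then 1 else 0) :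
    Module.Free O (LieAlgebra.SpecialLinear.sl (Fin (n + 1)) O ⧸
        LinearMap.range (LieAlgebra.ad O (LieAlgebra.SpecialLinear.sl (Fin (n + 1)) O) x)) ∧
      Module.finrank O (LieAlgebra.SpecialLinear.sl (Fin (n + 1)) O ⧸
        LinearMap.range (LieAlgebra.ad O (LieAlgebra.SpecialLinear.sl (Fin (n + 1)) O) x)) = n + 2 := by
  have hker : LinearMap.ker (piL (O := O) n) =
      LinearMap.range (LieAlgebra.ad O (LieAlgebra.SpecialLinear.sl (Fin (n + 1)) O) x) := by
    apply le_antisymm
    · intro M hM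
      exact ker_le_range n hn x hx M (LinearMap.mem_ker.1 hM)
    · rintro _ ⟨y, rfl⟩
      exact LinearMap.mem_ker.2 (range_le_ker n hn x hx y)
  have hsurj : Function.Surjective (piL (O := O) n) := fun v => surj n hn v
  let e := (Submodule.quotEquivOfEq _ _ hker.symm).trans
    ((piL (O := O) n).quotKerEquivOfSurjective hsurj)
  exact ⟨Module.Free.of_equiv e.symm, by
    rw [LinearEquiv.finrank_eq e, Module.finrank_fin_fun O]⟩

end Groth.Agent.S16051
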