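import Groth.Statements.S1607
import Groth.Agent.Lib.Helper39.DimOneAff.Ring
-- import your own Groth.Agent.* helpers here

set_option autoImplicit false
universe u
open CategoryTheory CategoryTheory.Limits AlgebraicGeometry
open Variety

namespace Groth.Agent.S1607

section Helpers

set_option autoImplicit false
set_option linter.style.haveILetI false
open CategoryTheory CategoryTheory.Limits AlgebraicGeometry

namespace T1607

open Groth.Agent.Lib.Helper39

theorem mem_basicOpen_iff (X : Scheme.{u}) [IsAffine X] (x : X) (f : Γ(X, ⊤)) :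
    x ∈ X.basicOpen f ↔ f ∉ ((isAffineOpen_top X).primeIdealOf ⟨x, trivial⟩).asIdeal := by
  have h1 := (isAffineOpen_top X).fromSpec_primeIdealOf ⟨x, trivial⟩
  have h2 := (isAffineOpen_top X).fromSpec_preimage_basicOpen f
  have h3 : (isAffineOpen_top X).primeIdealOf ⟨x, trivial⟩ ∈
      (isAffineOpen_top X).fromSpec ⁻¹ᵁ X.basicOpen f ↔ x ∈ X.basicOpen f := by
    show (isAffineOpen_top X).fromSpec ((isAffineOpen_top X).primeIdealOf ⟨x, trivial⟩) ∈
      X.basicOpen f ↔ _
    rw [h1]
  rw [← h3, h2]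
  exact PrimeSpectrum.mem_basicOpen _ _

theorem exists_nhd (X : Scheme.{u}) [IsAffine X]
    (hX : ∀ x : X, IsNoetherianRing (X.presheaf.stalk x) ∧ ringKrullDim (X.presheaf.stalk x) ≤ 1)
    (U : X.Opens) (hU : IsCompact (U : Set X)) (x : X) :
    ∃ g h : Γ(X, ⊤), x ∈ X.basicOpen g ∧ U ⊓ X.basicOpen g = X.basicOpen (g * h) := by
  classical
  obtain ⟨s, hs, hUs⟩ :=
    isCompact_and_isOpen_iff_finite_and_eq_biUnion_basicOpen.mp ⟨hU, U.isOpen⟩
  have hT := isAffineOpen_top X
  let px := hT.primeIdealOf ⟨x, trivial⟩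
  let _ := TopCat.Presheaf.algebra_section_stalk X.presheaf (⟨x, trivial⟩ : (⊤ : X.Opens))
  have hloc : IsLocalization.AtPrime (X.presheaf.stalk x) px.asIdeal :=
    hT.isLocalization_stalk ⟨x, trivial⟩
  let e : X.presheaf.stalk x ≃ₐ[Γ(X, ⊤)] Localization.AtPrime px.asIdeal :=
    IsLocalization.algEquiv px.asIdeal.primeCompl _ _
  haveI : IsNoetherianRing (X.presheaf.stalk x) := (hX x).1
  haveI : IsNoetherianRing (Localization.AtPrime px.asIdeal) :=
    isNoetherianRing_of_ringEquiv _ e.toRingEquiv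
  have hdim : ringKrullDim (Localization.AtPrime px.asIdeal) ≤ 1 := by
    rw [← ringKrullDim_eq_of_ringEquiv e.toRingEquiv]
    exact (hX x).2
  obtain ⟨g, hgp, h, hgh⟩ := DimOneAff.exists_local_principal Γ(X, ⊤) px.asIdeal hdim hs.toFinset
  refine ⟨g, h, (mem_basicOpen_iff X x g).mpr hgp, ?_⟩
  ext y
  have hyU : y ∈ U ↔ ∃ f ∈ hs.toFinset, f ∉ (hT.primeIdealOf ⟨y, trivial⟩).asIdeal := by
    have h1 : y ∈ U ↔ y ∈ (U : Set X) := Iff.rfl
    rw [h1, hUs]
    simp only [Set.mem_iUnion, SetLike.mem_coe, exists_prop, Set.Finite.mem_toFinset]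
    refine exists_congr fun f => and_congr_right fun _ => ?_
    exact mem_basicOpen_iff X y f
  have := hgh (hT.primeIdealOf ⟨y, trivial⟩).asIdeal inferInstance
  show y ∈ (U ⊓ X.basicOpen g : X.Opens) ↔ y ∈ X.basicOpen (g * h)
  rw [mem_basicOpen_iff X y (g * h), ← this, ← hyU, ← mem_basicOpen_iff X y g]
  exact ⟨fun hy => ⟨hy.2, hy.1⟩, fun hy => ⟨hy.2, hy.1⟩⟩

theorem main1607 (X : Scheme.{u}) [IsAffine X]
    (hX : ∀ x : X, IsNoetherianRing (X.presheaf.stalk x) ∧ ringKrullDim (X.presheaf.stalk x) ≤ 1)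
    (U : X.Opens) (hU : IsCompact (U : Set X)) : IsAffineOpen U := by
  haveI : IsAffineHom U.ι := by
    apply isAffineHom_of_forall_exists_isAffineOpen
    intro x
    obtain ⟨g, h, hxg, hgh⟩ := exists_nhd X hX U hU x
    refine ⟨X.basicOpen g, hxg, (isAffineOpen_top X).basicOpen g, ?_⟩
    rw [← U.ι.isAffineOpen_iff_of_isOpenImmersion, Scheme.Hom.image_preimage_eq_opensRange_inf,
      Scheme.Opens.opensRange_ι, hgh]
    exact (isAffineOpen_top X).basicOpen (g * h)
  exact isAffine_of_isAffineHom U.ι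

end T1607

end Helpers

/-- If X is affine and each of its local rings is Noetherian of dimension at most one, then every
quasi-compact open subscheme of X is affine. -/
theorem result (X : Scheme.{u}) [IsAffine X]
    (hX : ∀ x : X, IsNoetherianRing (X.presheaf.stalk x) ∧ ringKrullDim (X.presheaf.stalk x) ≤ 1)
    (U : X.Opens) (hU : IsCompact (U : Set X)) : IsAffineOpen U := by
  exact T1607.main1607 X hX U hU

end Groth.Agent.S1607
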