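import Groth.Statements.S16072
import Mathlib
-- import your own Groth.Agent.* helpers here

set_option autoImplicit false
universe u
open Hopf

namespace Groth.Agent.S16072


/-- The constant-group function algebra has two distinct algebra maps to a residue field. -/
theorem two_homs (p : ℕ) [Fact p.Prime] (R : Type u) [CommRing R] (k : Type u) [Field k] [Algebra R k] :
    ∃ φ₀ φ₁ : ConstGrp.F R (Multiplicative (ZMod p)) →ₐ[R] k, φ₀ ≠ φ₁ := by
  classical
  refine ⟨(Algebra.ofId R k).comp (ConstGrp.ev R (Multiplicative.ofAdd (0 : ZMod p))),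
    (Algebra.ofId R k).comp (ConstGrp.ev R (Multiplicative.ofAdd (1 : ZMod p))), ?_⟩
  intro h
  have h1 := AlgHom.congr_fun h (ConstGrp.e R (Multiplicative.ofAdd (0 : ZMod p)))
  simp only [AlgHom.comp_apply, ConstGrp.ev_apply, ConstGrp.e_apply_self] at h1
  rw [ConstGrp.e_apply_of_ne] at h1
  · simp at h1
  · intro h01
    have h10 : (1 : ZMod p) = 0 := Multiplicative.ofAdd.injective h01
    have : Fact (1 < p) := ⟨(Fact.out : p.Prime).one_lt⟩
    exact one_ne_zero h10

/-- Let p be a prime and R a commutative ring of characteristic p (p = 0 in R, R nonzero). Then the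
constant group scheme ℤ/p and the group scheme μ_p of p-th roots of unity over Spec R are not
isomorphic: there is no R-bialgebra isomorphism between the Hopf algebra Maps(ℤ/p, R) of functions
on the cyclic group of order p and the group algebra R[ℤ/p]. (Any nonzero commutative base ring of
characteristic p is allowed. The published statement allows any ring R with p·R = 0; over the zero
ring both Hopf algebras are the zero ring and hence isomorphic, so R is assumed nonzero here.) -/
theorem result (p : ℕ) [Fact p.Prime] (R : Type u) [CommRing R]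
    [CharP R p] :
    IsEmpty (ConstGrp.F R (Multiplicative (ZMod p)) ≃ₐc[R] MonoidAlgebra R (Multiplicative (ZMod p))) := by
  classical
  constructor
  intro e
  have : Nontrivial R := CharP.nontrivial_of_char_ne_one (Fact.out : p.Prime).ne_one
  obtain ⟨m, hm⟩ := Ideal.exists_maximal R
  let _ : Field (R ⧸ m) := Ideal.Quotient.field m
  have hp0 : ((p : ℕ) : R ⧸ m) = 0 := by
    rw [← map_natCast (algebraMap R (R ⧸ m)), CharP.cast_eq_zero, map_zero]
  have : CharP (R ⧸ m) p := ringChar.of_eq (CharP.ringChar_of_prime_eq_zero Fact.out hp0)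
  obtain ⟨φ₀, φ₁, hne⟩ := two_homs p R (R ⧸ m)
  apply hne
  -- all algebra maps from the group algebra to the field coincide
  have huniq : ∀ ψ : MonoidAlgebra R (Multiplicative (ZMod p)) →ₐ[R] (R ⧸ m),
      ∀ g : Multiplicative (ZMod p), ψ (MonoidAlgebra.of R _ g) = 1 := by
    intro ψ g
    have hgp : g ^ p = 1 := by
      have : p • (Multiplicative.toAdd g) = 0 := by
        rw [nsmul_eq_mul, CharP.cast_eq_zero, zero_mul]
      rw [← ofAdd_toAdd g, ← ofAdd_nsmul, this, ofAdd_zero]
    have h1 : ψ (MonoidAlgebra.of R _ g) ^ p = 1 := by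
      rw [← map_pow, ← map_pow, hgp, map_one, map_one]
    have h2 : (ψ (MonoidAlgebra.of R _ g) - 1) ^ p = 0 := by
      rw [sub_pow_char, h1, one_pow, sub_self]
    have h3 := pow_eq_zero_iff (Fact.out : p.Prime).ne_zero |>.mp h2
    exact sub_eq_zero.mp h3
  have hψ : φ₀.comp (e.symm : MonoidAlgebra R (Multiplicative (ZMod p)) →ₐ[R] _) =
      φ₁.comp (e.symm : MonoidAlgebra R (Multiplicative (ZMod p)) →ₐ[R] _) := by
    apply MonoidAlgebra.algHom_ext
    · intro g
      have := huniq (φ₀.comp (e.symm : MonoidAlgebra R (Multiplicative (ZMod p)) →ₐ[R] _)) g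
      have h' := huniq (φ₁.comp (e.symm : MonoidAlgebra R (Multiplicative (ZMod p)) →ₐ[R] _)) g
      simp only [MonoidAlgebra.of_apply] at this h'
      rw [this, h']
    · exact Subsingleton.elim _ _
  apply AlgHom.ext
  intro f
  have := AlgHom.congr_fun hψ (e f)
  simpa using this

end Groth.Agent.S16072
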