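import Groth.Statements.S16073
import Mathlib
-- import your own Groth.Agent.* helpers here

set_option autoImplicit false
universe u
open Hopf

namespace Groth.Agent.S16073


/-- The constant-group function algebra has two distinct algebra maps to a residue field. -/
theorem two_homs (p : ℕ) [Fact p.Prime] (R : Type u) [CommRing R] (k : Type u) [Field k] [Algebra R k] :
    ∃ φ₀ φ₁ : ConstGrp.F R (Multiplicative (ZMod p)) →ₐ[R] k, φ₀ ≠ φ₁ := by
  classical
  refine ⟨(Algebra.ofId R k).comp (ConstGrp.ev R (Multiplicative.ofAdd (0 : ZMod p))),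
    (Algebra.ofId R k).comp (ConstGrp.ev R (Multiplicative.ofAdd (1 : ZMod p))), ?_⟩
  intro h
  have h1 := AlgHom.congr_fun h (ConstGrp.e R (Multiplicative.ofAdd (0 : ZMod p)))
  simp only [AlgHom.comp_apply, ConstGrp.ev_apply, ConstGrp.e_apply_self] at h1
  rw [ConstGrp.e_apply_of_ne] at h1
  · simp at h1
  · intro h01
    have h10 : (1 : ZMod p) = 0 := Multiplicative.ofAdd.injective h01
    have : Fact (1 < p) := ⟨(Fact.out : p.Prime).one_lt⟩
    exact one_ne_zero h10

/-- Let p be a prime and R a commutative ring of characteristic p (p = 0 in R, R nonzero). Then the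
constant group scheme ℤ/p and α_p over Spec R are not isomorphic: there is no R-bialgebra
isomorphism between the Hopf algebra Maps(ℤ/p, R) of functions on the cyclic group of order p and
the Hopf algebra R[X]/(X^p) of α_p (X primitive). (Any nonzero commutative base ring of
characteristic p is allowed. The published statement allows any ring R with p·R = 0; over the zero
ring both Hopf algebras are the zero ring and hence isomorphic, so R is assumed nonzero here.) -/
theorem result (p : ℕ) [Fact p.Prime] (R : Type u) [CommRing R] [CharP R p] :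
    IsEmpty (ConstGrp.F R (Multiplicative (ZMod p)) ≃ₐc[R] AlphaP.A p R) := by
  classical
  constructor
  intro e
  have : Nontrivial R := CharP.nontrivial_of_char_ne_one (Fact.out : p.Prime).ne_one
  obtain ⟨m, hm⟩ := Ideal.exists_maximal R
  let _ : Field (R ⧸ m) := Ideal.Quotient.field m
  obtain ⟨φ₀, φ₁, hne⟩ := two_homs p R (R ⧸ m)
  apply hne
  -- all algebra maps from the alpha_p algebra to the field coincide
  have huniq : ∀ ψ : AlphaP.A p R →ₐ[R] (R ⧸ m), ψ (AlphaP.x p R) = 0 := by
    intro ψ
    have h1 : ψ (AlphaP.x p R) ^ p = 0 := by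
      rw [← map_pow, AlphaP.x_pow, map_zero]
    exact pow_eq_zero_iff (Fact.out : p.Prime).ne_zero |>.mp h1
  have hψ : φ₀.comp (e.symm : AlphaP.A p R →ₐ[R] _) = φ₁.comp (e.symm : AlphaP.A p R →ₐ[R] _) := by
    apply AlphaP.algHom_ext
    rw [huniq, huniq]
  apply AlgHom.ext
  intro f
  have := AlgHom.congr_fun hψ (e f)
  simpa using this

end Groth.Agent.S16073
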