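import Groth.Statements.S16074
import Mathlib
-- import your own Groth.Agent.* helpers here

set_option autoImplicit false
universe u
open Hopf

namespace Groth.Agent.S16074


open TensorProduct in
/-- The coefficient functional at `g`. -/
noncomputable def cf (R : Type u) [CommRing R] (G : Type) [Group G] (g : G) : MonoidAlgebra R G →ₗ[R] R :=
  (Finsupp.lapply g).comp (MonoidAlgebra.coeffLinearEquiv R).toLinearMap

theorem cf_apply (R : Type u) [CommRing R] (G : Type) [Group G] (g : G) (y : MonoidAlgebra R G) :
    cf R G g y = y.coeff g := rfl

open TensorProduct in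
/-- The functional reading the coefficient of `g ⊗ h`. -/
noncomputable def L (R : Type u) [CommRing R] (G : Type) [Group G] (g h : G) :
    MonoidAlgebra R G ⊗[R] MonoidAlgebra R G →ₗ[R] R :=
  (LinearMap.mul' R R).comp (TensorProduct.map (cf R G g) (cf R G h))

open TensorProduct in
theorem L_tmul (R : Type u) [CommRing R] (G : Type) [Group G] (g h : G) (a b : MonoidAlgebra R G) :
    L R G g h (a ⊗ₜ b) = a.coeff g * b.coeff h := by
  simp [L, cf_apply]

theorem L_comul (R : Type u) [CommRing R] (G : Type) [Group G] (g : G) (y : MonoidAlgebra R G) :
    L R G g g (Coalgebra.comul (R := R) y) = y.coeff g := by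
  classical
  induction y using MonoidAlgebra.induction_linear with
  | zero => simp
  | add a b ha hb => simp only [map_add, ha, hb, MonoidAlgebra.coeff_add, Finsupp.add_apply]
  | single a r =>
    rw [MonoidAlgebra.comul_single, CommSemiring.comul_apply, TensorProduct.map_tmul, L_tmul]
    simp only [MonoidAlgebra.lsingle_apply, MonoidAlgebra.coeff_single, Finsupp.single_apply]
    split_ifs <;> simp

open TensorProduct in
/-- The group algebra has no nonzero primitive elements. -/
theorem primitive_eq_zero (R : Type u) [CommRing R] (G : Type) [Group G] (y : MonoidAlgebra R G)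
    (hy : Coalgebra.comul (R := R) y = y ⊗ₜ[R] 1 + 1 ⊗ₜ[R] y) : y = 0 := by
  classical
  have key : ∀ g : G, y.coeff g = 0 := by
    intro g
    have h1 := L_comul R G g y
    rw [hy, map_add, L_tmul, L_tmul, MonoidAlgebra.one_def, MonoidAlgebra.coeff_single,
      Finsupp.single_apply] at h1
    by_cases hg : (1 : G) = g
    · rw [if_pos hg] at h1
      have : y.coeff g + y.coeff g = y.coeff g := by simpa using h1
      exact add_eq_right.mp this
    · rw [if_neg hg] at h1
      simpa using h1.symm
  have : y.coeff = 0 := Finsupp.ext key
  calc y = MonoidAlgebra.ofCoeff y.coeff := rfl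
    _ = 0 := by rw [this]; rfl

/-- Let p be a prime and R a commutative ring of characteristic p (p = 0 in R, R nonzero). Then μ_p and
α_p over Spec R are not isomorphic: there is no R-bialgebra isomorphism between the group algebra
R[ℤ/p] of the cyclic group of order p (group elements group-like) and the Hopf algebra R[X]/(X^p) of
α_p (X primitive), although the underlying R-algebras R[ℤ/p] = R[Y]/(Y^p) and R[X]/(X^p) are
isomorphic. (Any nonzero commutative base ring of characteristic p is allowed. The published
statement allows any ring R with p·R = 0; over the zero ring both Hopf algebras are the zero ring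
and hence isomorphic, so R is assumed nonzero here.) -/
theorem result (p : ℕ) [Fact p.Prime] (R : Type u) [CommRing R] [CharP R p] :
    IsEmpty (MonoidAlgebra R (Multiplicative (ZMod p)) ≃ₐc[R] AlphaP.A p R) := by
  classical
  constructor
  intro e
  have hnt : Nontrivial R := CharP.nontrivial_of_char_ne_one (Fact.out : p.Prime).ne_one
  have hprim : Coalgebra.comul (R := R) (e.symm (AlphaP.x p R)) =
      e.symm (AlphaP.x p R) ⊗ₜ[R] 1 + 1 ⊗ₜ[R] e.symm (AlphaP.x p R) := by
    have h1 := CoalgHomClass.map_comp_comul_apply e.symm (AlphaP.x p R)
    rw [← h1, AlphaP.comul_x, map_add, TensorProduct.map_tmul, TensorProduct.map_tmul]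
    simp
  have h0 := primitive_eq_zero R _ _ hprim
  have hx0 : AlphaP.x p R = 0 := by
    have := congrArg e h0
    simpa using this
  -- but x is a basis element
  have hb := (AlphaP.basis p R).ne_zero ⟨1, (Fact.out : p.Prime).one_lt⟩
  rw [AlphaP.basis_apply] at hb
  apply hb
  simp [hx0]

end Groth.Agent.S16074
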