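import Groth.Statements.S16075
import Mathlib
-- import your own Groth.Agent.* helpers here

set_option autoImplicit false
universe u
open Hopf

namespace Groth.Agent.S16075


open TensorProduct

variable (p : ℕ) [Fact p.Prime] (T : Type u) [CommRing T] [CharP T p]

theorem comul_x_pow (k : ℕ) :
    Coalgebra.comul (R := T) (AlphaP.x p T ^ k) =
      ∑ m ∈ Finset.range (k + 1), (k.choose m : T) • ((AlphaP.x p T ^ m) ⊗ₜ[T] (AlphaP.x p T ^ (k - m))) := by
  have h1 : Coalgebra.comul (R := T) (AlphaP.x p T ^ k) = (Coalgebra.comul (R := T) (AlphaP.x p T)) ^ k := by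
    have := map_pow (Bialgebra.comulAlgHom T (AlphaP.A p T)) (AlphaP.x p T) k
    exact this
  rw [h1, AlphaP.comul_x, add_pow]
  refine Finset.sum_congr rfl fun m _ => ?_
  rw [Algebra.TensorProduct.tmul_pow, Algebra.TensorProduct.tmul_pow, one_pow, one_pow,
    Algebra.TensorProduct.tmul_mul_tmul, mul_one, one_mul, mul_comm, ← nsmul_eq_mul, Nat.cast_smul_eq_nsmul]

variable [Nontrivial T]

/-- coefficient functional -/
noncomputable def ell (i : Fin p) : AlphaP.A p T →ₗ[T] T := (AlphaP.basis p T).coord i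

theorem ell_x_pow (i : Fin p) (m : ℕ) (hm : m < p) :
    ell p T i (AlphaP.x p T ^ m) = if m = (i : ℕ) then 1 else 0 := by
  have : AlphaP.x p T ^ m = AlphaP.basis p T ⟨m, hm⟩ := by rw [AlphaP.basis_apply]
  rw [this, ell, Module.Basis.coord_apply, Module.Basis.repr_self, Finsupp.single_apply]
  simp only [Fin.ext_iff]

noncomputable def LL (i j : Fin p) : AlphaP.A p T ⊗[T] AlphaP.A p T →ₗ[T] T :=
  (LinearMap.mul' T T).comp (TensorProduct.map (ell p T i) (ell p T j))

theorem LL_tmul (i j : Fin p) (a b : AlphaP.A p T) : LL p T i j (a ⊗ₜ b) = ell p T i a * ell p T j b := by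
  simp [LL]

theorem LL_comul_pow (j : Fin p) (hj : 2 ≤ (j : ℕ)) (k : ℕ) (hk : k < p) :
    LL p T ⟨1, (Fact.out : p.Prime).one_lt⟩ ⟨(j : ℕ) - 1, by omega⟩ (Coalgebra.comul (R := T) (AlphaP.x p T ^ k)) =
      if k = (j : ℕ) then ((j : ℕ) : T) else 0 := by
  rw [comul_x_pow, map_sum]
  simp only [map_smul, LL_tmul, smul_eq_mul]
  by_cases hkj : k = (j : ℕ)
  · rw [if_pos hkj]
    rw [Finset.sum_eq_single 1]
    · rw [ell_x_pow p T _ 1 (Fact.out : p.Prime).one_lt, ell_x_pow p T _ (k - 1) (by omega)]
      simp [hkj]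
    · intro m _ hm1
      rw [ell_x_pow p T _ m (by simp only [Finset.mem_range] at *; omega)]
      simp [hm1]
    · intro h
      exfalso; apply h; simp only [Finset.mem_range]; omega
  · rw [if_neg hkj]
    apply Finset.sum_eq_zero
    intro m hm
    simp only [Finset.mem_range] at hm
    rw [ell_x_pow p T _ m (by omega), ell_x_pow p T _ (k - m) (by omega)]
    by_cases hm1 : m = 1
    · subst hm1
      have : ¬ (k - 1 = (j : ℕ) - 1) := by omega
      simp [this]
    · simp [hm1]

omit [Nontrivial T] in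
theorem isUnit_natCast_of_lt (j : ℕ) (h0 : 0 < j) (hj : j < p) : IsUnit ((j : ℕ) : T) := by
  rw [CharP.isUnit_natCast_iff (p := p) Fact.out]
  intro hdvd
  have := Nat.le_of_dvd h0 hdvd
  omega

theorem expand (y : AlphaP.A p T) : y = ∑ k : Fin p, ell p T k y • AlphaP.x p T ^ (k : ℕ) := by
  have := (AlphaP.basis p T).sum_repr y
  conv_lhs => rw [← this]
  refine Finset.sum_congr rfl fun k _ => ?_
  rw [AlphaP.basis_apply]
  rfl

omit [Nontrivial T] in
theorem counit_x_pow (k : ℕ) : Coalgebra.counit (R := T) (AlphaP.x p T ^ k) = if k = 0 then 1 else 0 := by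
  have h1 : Coalgebra.counit (R := T) (AlphaP.x p T ^ k) = (Coalgebra.counit (R := T) (AlphaP.x p T)) ^ k :=
    map_pow (Bialgebra.counitAlgHom T (AlphaP.A p T)) (AlphaP.x p T) k
  rw [h1, AlphaP.counit_x]
  split_ifs with h
  · subst h; simp
  · exact zero_pow h

theorem primitive_form (y : AlphaP.A p T)
    (hy : Coalgebra.comul (R := T) y = y ⊗ₜ[T] 1 + 1 ⊗ₜ[T] y) (hc : Coalgebra.counit (R := T) y = 0) :
    y = ell p T ⟨1, (Fact.out : p.Prime).one_lt⟩ y • AlphaP.x p T := by
  have hp1 : 1 < p := (Fact.out : p.Prime).one_lt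
  have hone : (1 : AlphaP.A p T) = AlphaP.x p T ^ 0 := (pow_zero _).symm
  -- coefficient 0 vanishes
  have h0 : ell p T ⟨0, by omega⟩ y = 0 := by
    have h1 := congrArg (Coalgebra.counit (R := T)) (expand p T y)
    rw [hc, map_sum] at h1
    simp only [map_smul, counit_x_pow, smul_eq_mul] at h1
    rw [Finset.sum_eq_single ⟨0, by omega⟩] at h1
    · simpa using h1.symm
    · intro k _ hk
      have : (k : ℕ) ≠ 0 := fun h => hk (Fin.ext h)
      simp [this]
    · intro h; exact absurd (Finset.mem_univ _) h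
  -- higher coefficients vanish
  have hhigh : ∀ j : Fin p, 2 ≤ (j : ℕ) → ell p T j y = 0 := by
    intro j hj
    have hL : LL p T ⟨1, hp1⟩ ⟨(j : ℕ) - 1, by omega⟩ (Coalgebra.comul (R := T) y) = 0 := by
      rw [hy, map_add, LL_tmul, LL_tmul, hone, ell_x_pow p T _ 0 (by omega), ell_x_pow p T _ 0 (by omega)]
      have h1 : ¬ (0 = (j : ℕ) - 1) := by omega
      simp [h1]
    have hR : LL p T ⟨1, hp1⟩ ⟨(j : ℕ) - 1, by omega⟩ (Coalgebra.comul (R := T) y) =
        ell p T j y * ((j : ℕ) : T) := by
      conv_lhs => rw [expand p T y]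
      rw [map_sum, map_sum]
      simp only [map_smul, smul_eq_mul]
      rw [Finset.sum_eq_single j]
      · rw [LL_comul_pow p T j hj (j : ℕ) j.2, if_pos rfl]
      · intro k _ hk
        rw [LL_comul_pow p T j hj (k : ℕ) k.2, if_neg (fun h => hk (Fin.ext h)), mul_zero]
      · intro h; exact absurd (Finset.mem_univ _) h
    rw [hR] at hL
    exact (isUnit_natCast_of_lt p T j (by omega) j.2).mul_left_eq_zero.mp hL
  conv_lhs => rw [expand p T y]
  rw [Finset.sum_eq_single ⟨1, hp1⟩]
  · simp
  · intro k _ hk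
    have hk1 : (k : ℕ) ≠ 1 := fun h => hk (Fin.ext h)
    by_cases hk0 : (k : ℕ) = 0
    · have : k = ⟨0, by omega⟩ := Fin.ext hk0
      rw [this, h0, zero_smul]
    · rw [hhigh k (by omega), zero_smul]
  · intro h; exact absurd (Finset.mem_univ _) h

/-- Let p be a prime, T a commutative ring of characteristic p (p = 0 in T, T nonzero) and A =
T[X]/(X^p) the Hopf algebra of α_p over Spec T, with X primitive. Then the endomorphisms of the
T-group α_{p,T} are exactly the scalings: every T-bialgebra endomorphism f of A has f(X) = λ·X for a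
unique λ ∈ T, and for every λ ∈ T there is a T-bialgebra endomorphism f of A with f(X) = λ·X. So the
endomorphisms of α_{p,T} correspond bijectively to the elements of T. (Only this bijection is
stated; that it turns addition and composition of endomorphisms into addition and multiplication in
T, and its naturality in T, are not stated here. The zero ring, allowed as T in the published
statement, is excluded by the characteristic hypothesis here.) -/
theorem result (p : ℕ) [Fact p.Prime] (T : Type u) [CommRing T] [CharP T p] :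
    (∀ f : AlphaP.A p T →ₐc[T] AlphaP.A p T, ∃! c : T, f (AlphaP.x p T) = c • AlphaP.x p T) ∧
      (∀ c : T, ∃ f : AlphaP.A p T →ₐc[T] AlphaP.A p T, f (AlphaP.x p T) = c • AlphaP.x p T) := by
  have hnt : Nontrivial T := CharP.nontrivial_of_char_ne_one (Fact.out : p.Prime).ne_one
  have hp1 : 1 < p := (Fact.out : p.Prime).one_lt
  constructor
  · intro f
    have hprim : Coalgebra.comul (R := T) (f (AlphaP.x p T)) =
        f (AlphaP.x p T) ⊗ₜ[T] 1 + 1 ⊗ₜ[T] f (AlphaP.x p T) := by
      have h1 := CoalgHomClass.map_comp_comul_apply f (AlphaP.x p T)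
      rw [← h1, AlphaP.comul_x, map_add, TensorProduct.map_tmul, TensorProduct.map_tmul]
      simp
    have hcounit : Coalgebra.counit (R := T) (f (AlphaP.x p T)) = 0 := by
      rw [CoalgHomClass.counit_comp_apply, AlphaP.counit_x]
    refine ⟨ell p T ⟨1, hp1⟩ (f (AlphaP.x p T)), primitive_form p T _ hprim hcounit, ?_⟩
    intro c hc
    have := congrArg (ell p T ⟨1, hp1⟩) hc
    rw [map_smul, ← pow_one (AlphaP.x p T), ell_x_pow p T _ 1 hp1] at this
    simpa using this.symm
  · intro c
    have hpow : (c • AlphaP.x p T) ^ p = 0 := by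
      rw [smul_pow, AlphaP.x_pow, smul_zero]
    refine ⟨BialgHom.ofAlgHom (AlphaP.lift p T (c • AlphaP.x p T) hpow) ?_ ?_, ?_⟩
    · apply AlphaP.algHom_ext
      simp
    · apply AlphaP.algHom_ext
      simp [TensorProduct.smul_tmul', TensorProduct.tmul_smul]
    · simp

end Groth.Agent.S16075
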