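import Groth.Statements.S16081
import Groth.Agent.Lib.QCoh.Helper74_RefHullRefl
import Groth.Agent.Lib.Helper93.Reflexive3
import Groth.Agent.Lib.QCoh.Helper18_PullbackSupport

set_option autoImplicit false
universe u
open CategoryTheory CategoryTheory.Limits AlgebraicGeometry TopologicalSpace
open SDiv

namespace Groth.Agent.S16081

/-- Let X be an integral locally Noetherian scheme and F, G coherent O_X-modules with G reflexive. Then
the sheaf Hom 𝓗om_{O_X}(F, G) is reflexive: its canonical map into its reflexive hull is an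
isomorphism. -/
theorem result (X : Scheme.{u}) [IsIntegral X] [IsLocallyNoetherian X] (F G : X.Modules)
    (hF : Coh.IsCoh F) (hG : Coh.IsCoh G) (hGr : RefHull.IsReflexive G) :
    RefHull.IsReflexive (RefHull.homSh F G) := by
  have hqF : F.IsQuasicoherent := hF.1
  have hfF : F.IsFiniteType := hF.2
  have hqG : G.IsQuasicoherent := hG.1
  have hfG : G.IsFiniteType := hG.2
  have hpF : F.IsFinitePresentation :=
    Groth.Agent.Lib.QCoh.isFinitePresentation_of_isLocallyNoetherian F
  have hH := Groth.Agent.Lib.QCoh.RefHull74.isCoh_homSh F G hF hG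
  rw [Groth.Agent.Lib.QCoh.RefHull74.isReflexive_iff_forall_isReflexiveAt _ hH]
  intro x
  have hGx : Module.IsReflexive (X.presheaf.stalk x) (G.presheaf.stalk x) :=
    (Groth.Agent.Lib.QCoh.RefHull74.isReflexive_iff_forall_isReflexiveAt G hG).1 hGr x
  have h1 : Module.Finite (X.presheaf.stalk x) (F.presheaf.stalk x) :=
    Groth.Agent.Lib.QCoh.finite_stalk F x
  have h2 : Module.Finite (X.presheaf.stalk x) (G.presheaf.stalk x) :=
    Groth.Agent.Lib.QCoh.finite_stalk G x
  have h3 : Module.IsReflexive (X.presheaf.stalk x)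
      (F.presheaf.stalk x →ₗ[X.presheaf.stalk x] G.presheaf.stalk x) :=
    Groth.Agent.Lib.Helper93.Reflexive.isReflexive_linearMap _ _
  exact Module.equiv (Groth.Agent.Lib.QCoh.RefHull74.evalStalkEquiv F G x).symm

end Groth.Agent.S16081
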