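import Groth.Statements.S16083
import Groth.Agent.Lib.QCoh.Helper74_RefHullExtend
import Groth.Agent.Lib.QCoh.Helper74_RefHullQc

set_option autoImplicit false
universe u
open CategoryTheory CategoryTheory.Limits AlgebraicGeometry TopologicalSpace
open SDiv

namespace Groth.Agent.S16083

/-- Suppose X is a normal scheme that is integral and locally Noetherian, write η for its generic point,
let F and G be coherent O_X-modules, and let T : G_η → F_η be an O_{X,η}-linear map of generic
stalks. Then T extends to a morphism G ⟶ F^** — there is a morphism ψ whose stalk map at η is T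
followed by the stalk map at η of the canonical map F ⟶ F^** — if and only if for every point x with
dim O_{X,x} = 1 the map T sends the image of G_x in G_η into the image of F_x in F_η. -/
theorem result (X : Scheme.{u}) [IsIntegral X] [IsLocallyNoetherian X]
    (hX : Pi1.IsNormalScheme X) (F G : X.Modules) (hF : Coh.IsCoh F) (hG : Coh.IsCoh G)
    (T : ↑(G.presheaf.stalk (genericPoint ↥X)) →ₗ[↑(X.presheaf.stalk (genericPoint ↥X))]
      ↑(F.presheaf.stalk (genericPoint ↥X))) :
    (∃ ψ : G ⟶ RefHull.ddual F, RefHull.stalkMapₗ ψ (genericPoint ↥X) =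
        (RefHull.stalkMapₗ (RefHull.bidualMap F) (genericPoint ↥X)).comp T) ↔
      ∀ x : ↥X, ringKrullDim ↑(X.presheaf.stalk x) = 1 →
        Set.MapsTo ⇑T
          (Set.range ⇑(G.presheaf.stalkSpecializes ((genericPoint_spec ↥X).specializes (Set.mem_univ x))).hom)
          (Set.range ⇑(F.presheaf.stalkSpecializes ((genericPoint_spec ↥X).specializes (Set.mem_univ x))).hom) := by
  classical
  have hqF : F.IsQuasicoherent := hF.1
  have hfF : F.IsFiniteType := hF.2
  have hD := Groth.Agent.Lib.QCoh.RefHull74.isCoh_dual F hF
  have hqD : (RefHull.dual F).IsQuasicoherent := hD.1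
  have hfD : (RefHull.dual F).IsFiniteType := hD.2
  constructor
  · rintro ⟨ψ, hψ⟩ x hdim _ ⟨g, rfl⟩
    have : IsIntegrallyClosed (X.presheaf.stalk x) := (hX x).2
    have : IsPrincipalIdealRing (X.presheaf.stalk x) :=
      Groth.Agent.Lib.Helper49.Serre.isPrincipalIdealRing_of_isIntegrallyClosed_of_dim_le_one
        (X.presheaf.stalk x) hdim.le
    obtain ⟨f, hf⟩ := Groth.Agent.Lib.QCoh.RefHull74.stalkMapₗ_bidualMap_surjective_of_pid F hF x
      (RefHull.stalkMapₗ ψ x g)
    refine ⟨f, ?_⟩
    have hfield : IsField (X.presheaf.stalk (genericPoint X)) :=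
      Field.toIsField X.functionField
    apply Groth.Agent.Lib.QCoh.RefHull74.stalkMapₗ_bidualMap_injective_of_field F hF
      (genericPoint X) hfield
    rw [Groth.Agent.Lib.QCoh.RefHull74.stalkMapₗ_sp, hf,
      ← Groth.Agent.Lib.QCoh.RefHull74.stalkMapₗ_sp, hψ]
    rfl
  · intro h
    let B : G.presheaf.stalk (genericPoint X) →ₗ[X.presheaf.stalk (genericPoint X)]
        (RefHull.dual F).presheaf.stalk (genericPoint X) →ₗ[X.presheaf.stalk (genericPoint X)]
          X.presheaf.stalk (genericPoint X) :=
      LinearMap.mk₂ (X.presheaf.stalk (genericPoint X))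
        (fun g θ => Groth.Agent.Lib.QCoh.RefHull74.oxEquiv (genericPoint X)
          (RefHull.evalStalk F (Coh.structureModule X) (genericPoint X) θ (T g)))
        (fun g g' θ => by simp only [map_add])
        (fun r g θ => by
          simp only [LinearMap.map_smul]
          exact LinearEquiv.map_smul _ _ _)
        (fun g θ θ' => by simp only [map_add, LinearMap.add_apply])
        (fun r g θ => by
          simp only [LinearMap.map_smul, LinearMap.smul_apply]
          exact LinearEquiv.map_smul _ _ _)
    have hB : ∀ x : X, ringKrullDim (X.presheaf.stalk x) = 1 →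
        ∀ (g : G.presheaf.stalk x) (θ : (RefHull.dual F).presheaf.stalk x),
          B ((G.presheaf.stalkSpecializes
              (Groth.Agent.Lib.QCoh.RefHull74.genericPoint_specializes x)).hom g)
            (((RefHull.dual F).presheaf.stalkSpecializes
              (Groth.Agent.Lib.QCoh.RefHull74.genericPoint_specializes x)).hom θ) ∈
            Set.range (X.presheaf.stalkSpecializes
              (Groth.Agent.Lib.QCoh.RefHull74.genericPoint_specializes x)).hom := by
      intro x hdim g θ
      obtain ⟨f, hf⟩ := h x hdim ⟨g, rfl⟩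
      refine ⟨Groth.Agent.Lib.QCoh.RefHull74.oxEquiv x
        (RefHull.evalStalk F (Coh.structureModule X) x θ f), ?_⟩
      rw [← Groth.Agent.Lib.QCoh.RefHull74.oxEquiv_sp,
        ← Groth.Agent.Lib.QCoh.RefHull74.evalStalk_sp]
      change _ = Groth.Agent.Lib.QCoh.RefHull74.oxEquiv (genericPoint X)
          (RefHull.evalStalk F (Coh.structureModule X) (genericPoint X) _ (T _))
      rw [← hf]
    refine ⟨Groth.Agent.Lib.QCoh.RefHull74.extMap hX G (RefHull.dual F) B hB, ?_⟩
    apply LinearMap.ext
    intro g
    apply Groth.Agent.Lib.QCoh.RefHull74.evalStalk_injective (RefHull.dual F)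
      (Coh.structureModule X) (genericPoint X)
    apply LinearMap.ext
    intro θ
    apply (Groth.Agent.Lib.QCoh.RefHull74.oxEquiv (genericPoint X)).injective
    rw [Groth.Agent.Lib.QCoh.RefHull74.oxEquiv_evalStalk_extMap]
    change B g θ = Groth.Agent.Lib.QCoh.RefHull74.oxEquiv (genericPoint X)
      (RefHull.evalStalk (RefHull.dual F) (Coh.structureModule X) (genericPoint X)
        (RefHull.stalkMapₗ (RefHull.bidualMap F) (genericPoint X) (T g)) θ)
    rw [Groth.Agent.Lib.QCoh.RefHull74.evalStalk_stalkMapₗ_bidualMap, RefHull.bidualAt_apply]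
    rfl

end Groth.Agent.S16083
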