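import Groth.Statements.S1609
-- import your own Groth.Agent.* helpers here

set_option autoImplicit false
universe u
open CategoryTheory CategoryTheory.Limits AlgebraicGeometry
open Variety

namespace Groth.Agent.S1609

/-- Geometric irreducibility of a k-scheme can be checked after an arbitrary extension of the base
field. -/
theorem result (k : Type u) [Field k] (X : Scheme.{u}) [X.Over (Spec (CommRingCat.of k))] (k' : Type u) [Field k'] [Algebra k k']
    [GeometricallyIrreducible (Curv2.bcSnd k X k')] : GeometricallyIrreducible (X ↘ (Spec (CommRingCat.of k))) := by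
  rw [GeometricallyIrreducible.eq_geometrically]
  rw [geometrically_iff_of_commRing_of_isClosedUnderIsomorphisms]
  intro K _ _
  -- a common field extension `L` of `K` and `k'`
  obtain ⟨m, hm⟩ := Ideal.exists_maximal (TensorProduct k K k')
  let _ : Field (TensorProduct k K k' ⧸ m) := Ideal.Quotient.field m
  let ψK : K →+* (TensorProduct k K k' ⧸ m) :=
    (Ideal.Quotient.mk m).comp (Algebra.TensorProduct.includeLeft (R := k) (S := k) (A := K) (B := k')).toRingHom
  let ψ' : k' →+* (TensorProduct k K k' ⧸ m) :=
    (Ideal.Quotient.mk m).comp (Algebra.TensorProduct.includeRight (R := k) (A := K) (B := k')).toRingHom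
  have hψ : ψK.comp (algebraMap k K) = ψ'.comp (algebraMap k k') := by
    ext x
    simp only [ψK, ψ', RingHom.comp_apply]
    congr 1
    simp [Algebra.TensorProduct.includeRight_apply, Algebra.TensorProduct.includeLeft_apply,
      Algebra.algebraMap_eq_smul_one]
  set f := X ↘ Spec (CommRingCat.of k) with hf
  have hSpec : Spec.map (CommRingCat.ofHom ψK) ≫ Spec.map (CommRingCat.ofHom (algebraMap k K)) =
      Spec.map (CommRingCat.ofHom ψ') ≫ Spec.map (CommRingCat.ofHom (algebraMap k k')) := by
    rw [← Spec.map_comp, ← Spec.map_comp, ← CommRingCat.ofHom_comp, ← CommRingCat.ofHom_comp, hψ]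
  -- `X_L` is irreducible
  have hirr : IrreducibleSpace ↥(Limits.pullback (Curv2.bcSnd k X k') (Spec.map (CommRingCat.ofHom ψ'))) :=
    pullback_of_geometrically
      (GeometricallyIrreducible.eq_geometrically ▸ (inferInstance : GeometricallyIrreducible (Curv2.bcSnd k X k')))
      _ _
  have H1 := IsPullback.of_hasPullback (Curv2.bcSnd k X k') (Spec.map (CommRingCat.ofHom ψ'))
  have H2 := IsPullback.of_hasPullback f (Spec.map (CommRingCat.ofHom (algebraMap k k')))
  have H3 := IsPullback.of_hasPullback f (Spec.map (CommRingCat.ofHom (algebraMap k K)))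
  have H12 := H1.paste_horiz H2
  let g : Limits.pullback (Curv2.bcSnd k X k') (Spec.map (CommRingCat.ofHom ψ')) ⟶
      Limits.pullback f (Spec.map (CommRingCat.ofHom (algebraMap k K))) :=
    Limits.pullback.lift (Limits.pullback.fst _ _ ≫ Curv2.bcFst k X k')
      (Limits.pullback.snd _ _ ≫ Spec.map (CommRingCat.ofHom ψK)) (by
        rw [Category.assoc, Category.assoc, hSpec]
        simpa only [Category.assoc] using H12.w)
  have H4 : IsPullback g (Limits.pullback.snd _ _) (Limits.pullback.snd _ _)
      (Spec.map (CommRingCat.ofHom ψK)) := by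
    refine IsPullback.of_right ?_ (Limits.pullback.lift_snd _ _ _) H3
    rw [Limits.pullback.lift_fst, hSpec]
    exact H12
  have hsurj : Surjective (Spec.map (CommRingCat.ofHom ψK)) :=
    ⟨fun x => ⟨default, Subsingleton.elim _ _⟩⟩
  have hg : Surjective g := MorphismProperty.of_isPullback H4.flip hsurj
  exact Function.Surjective.irreducibleSpace g.continuous hg.surj

end Groth.Agent.S1609
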