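import Groth.Statements.S16092
import Mathlib
import Groth.Agent.Lib.Helper22.TensorOrd
import Groth.Agent.Lib.Helper22.FlatDiv
-- import your own Groth.Agent.* helpers here

set_option autoImplicit false
universe u
open CategoryTheory CategoryTheory.Limits AlgebraicGeometry TopologicalSpace
open SDiv

namespace Groth.Agent.S16092

section PRE
open Groth.Agent.Lib.Helper22.TensorOrd
open Groth.Agent.Lib.Helper22.FlatDiv (locQuot_isFractionRing)
open Cyc IsLocalRing

lemma conds_of_dim_one {X : Scheme.{u}} [IsLocallyNoetherian X] (x ξ : X) (h : ξ ⤳ x)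
    (hd : ringKrullDim (X.presheaf.stalk x) = 1) : Conds x ξ h := by
  haveI : IsNoetherianRing (X.presheaf.stalk x) := inferInstance
  refine ⟨inferInstance, ?_, Ideal.Quotient.nontrivial_iff.mpr (RingHom.ker_ne_top _),
    locQuot_isFractionRing x ξ h⟩
  rw [Ring.krullDimLE_iff]
  refine le_trans (ringKrullDim_quotient_le _) ?_
  rw [hd]
  rfl

theorem main (X : Scheme.{u}) [IsIntegral X] [IsLocallyNoetherian X] (L N : X.Modules)
    (hL : PicF.IsInvertible L) (hN : PicF.IsInvertible N)
    (s : Cyc.secFibre L (genericPoint ↥X)) (hs : s ≠ 0)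
    (t : Cyc.secFibre N (genericPoint ↥X)) (ht : t ≠ 0) :
    ∃ w : Cyc.secFibre (CohB1.tensorMod L N) (genericPoint ↥X), w ≠ 0 ∧
      ∀ (x : ↥X), ringKrullDim ↑(X.presheaf.stalk x) = 1 →
        Cyc.secOrdAt (CohB1.tensorMod L N) (genericPoint ↥X) x
          ((genericPoint_spec ↥X).specializes (Set.mem_univ x)) w =
          Cyc.secOrdAt L (genericPoint ↥X) x
            ((genericPoint_spec ↥X).specializes (Set.mem_univ x)) s +
            Cyc.secOrdAt N (genericPoint ↥X) x
              ((genericPoint_spec ↥X).specializes (Set.mem_univ x)) t := by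
  obtain ⟨w, hw0, hw⟩ := exists_tensor_section hL hN (genericPoint X) s t hs ht
  exact ⟨w, hw0, fun x hd => hw x _ (conds_of_dim_one x _ _ hd)⟩

end PRE

/-- Let X be an integral scheme that is locally Noetherian, with generic point η, let L and N be
invertible O_X-modules and s ∈ L_η, t ∈ N_η nonzero rational sections, with orders ord_{x,L}(s),
ord_{x,N}(t) along the prime divisors, i.e. at the points x with dim O_{X,x} = 1, taken with respect
to generators of the stalks. Then L ⊗_{O_X} N has a nonzero rational section w with ord_{x,L ⊗ N}(w)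
= ord_{x,L}(s) + ord_{x,N}(t) at every such x; hence the Weil divisor class of L ⊗ N is the sum of
the classes of L and N. The published statement names w as the product s·t; here only the existence
of such a w is asserted. -/
theorem result (X : Scheme.{u}) [IsIntegral X] [IsLocallyNoetherian X] (L N : X.Modules)
    (hL : PicF.IsInvertible L) (hN : PicF.IsInvertible N) (s : Cyc.secFibre L (genericPoint ↥X)) (hs : s ≠ 0)
    (t : Cyc.secFibre N (genericPoint ↥X)) (ht : t ≠ 0) :
    ∃ w : Cyc.secFibre (CohB1.tensorMod L N) (genericPoint ↥X), w ≠ 0 ∧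
      ∀ (x : ↥X), ringKrullDim ↑(X.presheaf.stalk x) = 1 →
        Cyc.secOrdAt (CohB1.tensorMod L N) (genericPoint ↥X) x ((genericPoint_spec ↥X).specializes (Set.mem_univ x)) w =
          Cyc.secOrdAt L (genericPoint ↥X) x ((genericPoint_spec ↥X).specializes (Set.mem_univ x)) s +
            Cyc.secOrdAt N (genericPoint ↥X) x ((genericPoint_spec ↥X).specializes (Set.mem_univ x)) t := by
  exact main X L N hL hN s hs t ht

end Groth.Agent.S16092
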