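import Groth.Statements.S16104
import Mathlib
-- import your own Groth.Agent.* helpers here

set_option autoImplicit false
universe u v
open LunaSt

namespace Groth.Agent.S16104

open IsLocalRing

theorem map_max_le {A : Type u} {B : Type v} [CommRing A] [CommRing B] [IsLocalRing A]
    [IsLocalRing B] (φ : A →+* B) [IsLocalHom φ] :
    (maximalIdeal A).map φ ≤ maximalIdeal B := by
  rw [Ideal.map_le_iff_le_comap]
  intro a ha
  rw [Ideal.mem_comap, mem_maximalIdeal, mem_nonunits_iff] at *
  exact fun h => ha (isUnit_of_map_unit φ a h)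

theorem length_quot_ne_top (A : Type u) [CommRing A] [IsLocalRing A] [IsNoetherianRing A] (n : ℕ) :
    Module.length A (A ⧸ maximalIdeal A ^ (n + 1)) ≠ ⊤ := by
  have hmin : maximalIdeal A ∈ (maximalIdeal A ^ (n + 1)).minimalPrimes := by
    refine ⟨⟨inferInstance, Ideal.pow_le_self (by omega)⟩, fun q hq _ => hq.1.le_of_pow_le hq.2⟩
  have := IsLocalRing.quotient_artinian_of_mem_minimalPrimes_of_isLocalRing _ hmin
  rw [Module.length_eq_of_surjective (R := A ⧸ maximalIdeal A ^ (n + 1))
    Ideal.Quotient.mk_surjective]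
  exact Module.length_ne_top

/-- Nakayama: `m_B = m_A B`. -/
theorem max_le_map {A : Type u} {B : Type v} [CommRing A] [CommRing B] [IsLocalRing A]
    [IsLocalRing B] [IsNoetherianRing B] (φ : A →+* B) [IsLocalHom φ]
    (h1 : Function.Surjective ((Ideal.Quotient.mk (maximalIdeal B ^ 2)).comp φ)) :
    maximalIdeal B ≤ (maximalIdeal A).map φ := by
  apply Submodule.le_of_le_smul_of_le_jacobson_bot (I := maximalIdeal B)
    (IsNoetherian.noetherian _) (IsLocalRing.maximalIdeal_le_jacobson _)
  intro b hb
  obtain ⟨a, ha⟩ := h1 (Ideal.Quotient.mk _ b)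
  rw [RingHom.comp_apply, Ideal.Quotient.eq] at ha
  have hsq : maximalIdeal B ^ 2 ≤ maximalIdeal B := Ideal.pow_le_self (by omega)
  have hφa : φ a ∈ maximalIdeal B := by
    have := (maximalIdeal B).add_mem (hsq ha) hb
    simpa using this
  have haA : a ∈ maximalIdeal A := by
    rw [mem_maximalIdeal, mem_nonunits_iff]
    intro hu
    exact (mem_maximalIdeal _).1 hφa (hu.map φ)
  have : b = φ a - (φ a - b) := by ring
  rw [this]
  refine Submodule.sub_mem _ (Submodule.mem_sup_left (Ideal.mem_map_of_mem _ haA))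
    (Submodule.mem_sup_right ?_)
  rw [smul_eq_mul, ← pow_two]
  exact ha

theorem approx {A : Type u} {B : Type v} [CommRing A] [CommRing B] [IsLocalRing A]
    [IsLocalRing B] [IsNoetherianRing B] (φ : A →+* B) [IsLocalHom φ]
    (h1 : Function.Surjective ((Ideal.Quotient.mk (maximalIdeal B ^ 2)).comp φ)) (n : ℕ) :
    ∀ b : B, ∃ a : A, b - φ a ∈ maximalIdeal B ^ (n + 1) := by
  have h0 : ∀ b : B, ∃ a : A, b - φ a ∈ maximalIdeal B := by
    intro b
    obtain ⟨a, ha⟩ := h1 (Ideal.Quotient.mk _ b)
    rw [RingHom.comp_apply, Ideal.Quotient.eq] at ha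
    refine ⟨a, ?_⟩
    have hsq : maximalIdeal B ^ 2 ≤ maximalIdeal B := Ideal.pow_le_self (by omega)
    have := (maximalIdeal B).neg_mem (hsq ha)
    simpa using this
  induction n with
  | zero => simpa using h0
  | succ n ih =>
    intro b
    obtain ⟨a0, ha0⟩ := ih b
    have hle : maximalIdeal B ^ (n + 1) ≤ (maximalIdeal A ^ (n + 1)).map φ := by
      rw [Ideal.map_pow]
      exact Ideal.pow_right_mono (max_le_map φ h1) _
    have hle' : (maximalIdeal A ^ (n + 1)).map φ ≤ maximalIdeal B ^ (n + 1) := by
      rw [Ideal.map_pow]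
      exact Ideal.pow_right_mono (map_max_le φ) _
    have key : ∀ x ∈ (maximalIdeal A ^ (n + 1)).map φ,
        ∃ a ∈ maximalIdeal A ^ (n + 1), x - φ a ∈ maximalIdeal B ^ (n + 1 + 1) := by
      intro x hx
      refine Submodule.span_induction (p := fun x _ => ∃ a ∈ maximalIdeal A ^ (n + 1),
        x - φ a ∈ maximalIdeal B ^ (n + 1 + 1)) ?_ ?_ ?_ ?_ hx
      · rintro _ ⟨a, ha, rfl⟩
        exact ⟨a, ha, by simp⟩
      · exact ⟨0, Ideal.zero_mem _, by simp⟩
      · rintro x y _ _ ⟨a, ha, hxa⟩ ⟨a', ha', hya'⟩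
        refine ⟨a + a', Ideal.add_mem _ ha ha', ?_⟩
        have : x + y - φ (a + a') = (x - φ a) + (y - φ a') := by rw [map_add]; ring
        rw [this]
        exact Ideal.add_mem _ hxa hya'
      · rintro c x _ ⟨a, ha, hxa⟩
        obtain ⟨a', ha'⟩ := h0 c
        refine ⟨a' * a, Ideal.mul_mem_left _ _ ha, ?_⟩
        have : c • x - φ (a' * a) = c * (x - φ a) + (c - φ a') * φ a := by
          rw [map_mul, smul_eq_mul]; ring
        rw [this]
        refine Ideal.add_mem _ (Ideal.mul_mem_left _ _ hxa) ?_
        rw [pow_succ' _ (n + 1)]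
        exact Ideal.mul_mem_mul ha' (hle' (Ideal.mem_map_of_mem _ ha))
    obtain ⟨a, -, ha⟩ := key _ (hle ha0)
    refine ⟨a0 + a, ?_⟩
    have : b - φ (a0 + a) = b - φ a0 - φ a := by rw [map_add]; ring
    rw [this]
    exact ha

/-- Case of local rings. Let φ : A → B be a local homomorphism of Noetherian local rings whose composite
A → B/m_B² is surjective (the first infinitesimal neighbourhoods give a closed immersion), and
assume that A/m_A^(n+1) and B/m_B^(n+1) have the same length for every n (the associated graded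
modules of the two maximal ideals have pieces of the same dimension over the common residue field).
Then for every n the composite A → B/m_B^(n+1) is surjective with kernel m_A^(n+1): φ identifies all
infinitesimal neighbourhoods. (The published statement is for a pointed morphism of Noetherian local
algebraic stacks; its proof reduces to this case of local rings.) -/
theorem result
    (A : Type u) (B : Type v) [CommRing A] [CommRing B] [IsLocalRing A] [IsLocalRing B]
    [IsNoetherianRing A] [IsNoetherianRing B] (φ : A →+* B) [IsLocalHom φ]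
    (h1 : Function.Surjective ((Ideal.Quotient.mk (IsLocalRing.maximalIdeal B ^ 2)).comp φ))
    (hlen : ∀ n : ℕ, Module.length A (A ⧸ IsLocalRing.maximalIdeal A ^ (n + 1)) =
      Module.length B (B ⧸ IsLocalRing.maximalIdeal B ^ (n + 1))) (n : ℕ) :
    Function.Surjective ((Ideal.Quotient.mk (IsLocalRing.maximalIdeal B ^ (n + 1))).comp φ) ∧
      RingHom.ker ((Ideal.Quotient.mk (IsLocalRing.maximalIdeal B ^ (n + 1))).comp φ) =
        IsLocalRing.maximalIdeal A ^ (n + 1) := by
  set mA := maximalIdeal A with hmA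
  set mB := maximalIdeal B with hmB
  set f : A →+* (B ⧸ mB ^ (n + 1)) := (Ideal.Quotient.mk (mB ^ (n + 1))).comp φ with hf
  have hsurj : Function.Surjective f := by
    intro c
    obtain ⟨b, rfl⟩ := Ideal.Quotient.mk_surjective c
    obtain ⟨a, ha⟩ := approx φ h1 n b
    refine ⟨a, ?_⟩
    rw [hf, RingHom.comp_apply, Ideal.Quotient.eq]
    have := (mB ^ (n + 1)).neg_mem ha
    simpa using this
  refine ⟨hsurj, ?_⟩
  have hJK : mA ^ (n + 1) ≤ RingHom.ker f := by
    intro a ha
    rw [RingHom.mem_ker, hf, RingHom.comp_apply, Ideal.Quotient.eq_zero_iff_mem]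
    have : (mA ^ (n + 1)).map φ ≤ mB ^ (n + 1) := by
      rw [Ideal.map_pow]
      exact Ideal.pow_right_mono (map_max_le φ) _
    exact this (Ideal.mem_map_of_mem _ ha)
  refine le_antisymm ?_ hJK
  -- length argument
  algebraize [f]
  have hlenC : Module.length A (B ⧸ mB ^ (n + 1)) = Module.length B (B ⧸ mB ^ (n + 1)) := by
    rw [Module.length_eq_of_surjective (S := A) (R := B ⧸ mB ^ (n + 1)) hsurj,
      Module.length_eq_of_surjective (S := B) (R := B ⧸ mB ^ (n + 1)) Ideal.Quotient.mk_surjective]
  let g : (A ⧸ mA ^ (n + 1)) →ₗ[A] (B ⧸ mB ^ (n + 1)) :=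
    Submodule.liftQ (mA ^ (n + 1)) (Algebra.linearMap A (B ⧸ mB ^ (n + 1))) (by
      intro a ha
      exact hJK ha)
  have hg : Function.Surjective g := by
    intro c
    obtain ⟨a, rfl⟩ := hsurj c
    exact ⟨Submodule.Quotient.mk a, rfl⟩
  have hadd := Module.length_eq_add_of_exact (LinearMap.ker g).subtype g
    (Submodule.subtype_injective _) hg (LinearMap.exact_subtype_ker_map g)
  rw [hlenC, ← hlen n] at hadd
  have hfin := length_quot_ne_top A n
  have hker0 : Module.length A (LinearMap.ker g) = 0 := by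
    have h2 : Module.length A (A ⧸ mA ^ (n + 1)) + 0 =
        Module.length A (A ⧸ mA ^ (n + 1)) + Module.length A (LinearMap.ker g) := by
      rw [add_zero]; exact hadd.trans (add_comm _ _)
    exact (WithTop.add_left_cancel hfin h2).symm
  rw [Module.length_eq_zero_iff] at hker0
  intro a ha
  have : (⟨Submodule.Quotient.mk a, by
      rw [LinearMap.mem_ker]; exact ha⟩ : LinearMap.ker g) = 0 := Subsingleton.elim _ _
  have h3 := congrArg Subtype.val this
  simp only [ZeroMemClass.coe_zero] at h3
  exact (Submodule.Quotient.mk_eq_zero _).1 h3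

end Groth.Agent.S16104
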