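import Groth.Statements.S16124
import Groth.Agent.Lib.Ample.Helper50_Avoid
import Groth.Agent.Lib.Ample.Restrict

set_option autoImplicit false
universe u
open CategoryTheory MonoidalCategory CartesianMonoidalCategory MonObj GrpObj AlgebraicGeometry CategoryTheory.Limits
open AlgGrp

namespace Groth.Agent.S16124

/-- Over an algebraically closed field k, let X be a quasi-projective variety (a reduced separated
k-scheme, quasi-projective over k) with an action of a finite group Γ by k-automorphisms. Then X is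
covered by Γ-stable affine open subschemes: every point x of X lies in an affine open U with σ⁻¹(U)
= U for every σ in Γ. -/
theorem result (k : Type u) [Field k] [IsAlgClosed k]
    (X : Over (Spec (CommRingCat.of k))) [IsReduced X.left] [IsSeparated X.hom] (hX : RelProj.IsQuasiProjective X.hom)
    (Γgrp : Type u) [Group Γgrp] [Finite Γgrp] (ρ : Γgrp →* Aut X.left)
    (hρ : ∀ σ : Γgrp, (ρ σ).hom ≫ X.hom = X.hom) (x : ↥X.left) :
    ∃ U : X.left.Opens, x ∈ U ∧ IsAffineOpen U ∧ ∀ σ : Γgrp, (ρ σ).hom ⁻¹ᵁ U = U := by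
  classical
  obtain ⟨-, -, L, hL⟩ := hX
  have hA : CohB1.IsAmple L :=
    Groth.Agent.Lib.Ample.isAmple_of_isAmple_restrict_of_eq_top (X.hom ⁻¹ᵁ ⊤) rfl
      (hL.2 ⟨⊤, isAffineOpen_top _⟩)
  have hsep : X.left.IsSeparated := (HasAffineProperty.iff_of_isAffine (P := @IsSeparated)).mp ‹_›
  have hZ : (Set.range (fun σ : Γgrp => (ρ σ).hom x)).Finite := Set.finite_range _
  obtain ⟨n, t, hZt, -, haff⟩ := Groth.Agent.Lib.Ample.Avoid.exists_affine_genLocus_of_finite hA _ hZ ⊤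
    (fun _ _ => trivial)
  have hmul : ∀ (σ τ : Γgrp) (y : X.left), (ρ σ).hom ((ρ τ).hom y) = (ρ (σ * τ)).hom y := by
    intro σ τ y
    rw [map_mul]
    rfl
  have hmem : ∀ y : X.left, y ∈ (⨅ σ : Γgrp, (ρ σ).hom ⁻¹ᵁ CohB1.genLocus _ t) ↔
      ∀ σ : Γgrp, (ρ σ).hom y ∈ CohB1.genLocus _ t := by
    intro y
    rw [← SetLike.mem_coe, TopologicalSpace.Opens.coe_iInf, Set.mem_iInter]
    rfl
  refine ⟨⨅ σ : Γgrp, (ρ σ).hom ⁻¹ᵁ CohB1.genLocus _ t, ?_, ?_, fun τ => ?_⟩
  · rw [hmem]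
    exact fun σ => hZt ⟨σ, rfl⟩
  · exact IsAffineOpen.iInf (fun σ => haff.preimage_of_isIso (ρ σ).hom)
  · ext y
    change (ρ τ).hom y ∈ (⨅ σ : Γgrp, (ρ σ).hom ⁻¹ᵁ CohB1.genLocus _ t) ↔
      y ∈ (⨅ σ : Γgrp, (ρ σ).hom ⁻¹ᵁ CohB1.genLocus _ t)
    rw [hmem, hmem]
    constructor
    · intro h σ
      have := h (σ * τ⁻¹)
      rwa [hmul, inv_mul_cancel_right] at this
    · intro h σ
      rw [hmul]
      exact h _

end Groth.Agent.S16124
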