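import Groth.Statements.S16127
-- import your own Groth.Agent.* helpers here
import Groth.Agent.Lib.Helper40.TorsorInv2
import Groth.Agent.Lib.Helper40.GrpPts

set_option autoImplicit false
universe u
open CategoryTheory MonoidalCategory CartesianMonoidalCategory MonObj GrpObj AlgebraicGeometry CategoryTheory.Limits
open AlgGrp

namespace Groth.Agent.S16127

/-- Over an algebraically closed field k, let G be an algebraic group (a smooth k-group scheme of finite
type) acting by σ on a variety X, and let f : X → Y be a principal G-bundle over a variety Y (X, Y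
reduced separated k-schemes of finite type; f flat and surjective, the square σ, p₂ : G × X → X, f,
f cartesian). Then f^* identifies Γ(Y, O_Y) with the invariants Γ(X, O_X)^G: f^* on global sections
is injective and its range is the set of global functions s on X with σ^*(s) = p₂^*(s). -/
theorem result (k : Type u) [Field k] [IsAlgClosed k]
    (G X Y : Over (Spec (CommRingCat.of k))) [GrpObj G] [Smooth G.hom] [QuasiCompact G.hom]
    [IsReduced X.left] [IsSeparated X.hom] [LocallyOfFiniteType X.hom] [QuasiCompact X.hom]
    [IsReduced Y.left] [IsSeparated Y.hom] [LocallyOfFiniteType Y.hom] [QuasiCompact Y.hom]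
    (a : AlgGrp.Action G X) (f : X ⟶ Y) [Flat f.left] [Surjective f.left]
    (hsq : IsPullback a.act.left (snd G X).left f.left f.left) :
    Function.Injective (f.left.appTop) ∧
      Set.range (f.left.appTop) = {s : Γ(X.left, ⊤) | a.act.left.appTop s = (snd G X).left.appTop s} := by
  have hqc : QuasiCompact f.left := Groth.Agent.Lib.Helper40.GrpPts.quasiCompact_left_of_field f
  have hcov : Groth.Agent.Lib.Helper40.FpqcCov.IsCov f.left :=
    (Groth.Agent.Lib.Helper40.FpqcCov.IsQCov.of_quasiCompact f.left).isCov
  obtain ⟨h1, h2⟩ := Groth.Agent.Lib.Helper40.TorsorInv.appTop_of_isPullback f.left hcov _ _ hsq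
  refine ⟨h1, ?_⟩
  ext s
  exact h2 s

end Groth.Agent.S16127
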