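import Groth.Statements.S1615
-- import your own Groth.Agent.* helpers here

set_option autoImplicit false
universe u
open CategoryTheory CategoryTheory.Limits AlgebraicGeometry
open Constr

namespace Groth.Agent.S1615

/-- For a graded ring A, quasi-compactness of Proj A is equivalent to the existence of finitely many
homogeneous elements of positive degree generating an ideal whose radical contains the irrelevant
ideal A_+. -/
theorem result {R A : Type u} [CommRing R] [CommRing A] [Algebra R A] (𝒜 : ℕ → Submodule R A) [GradedAlgebra 𝒜] :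
    CompactSpace ↥(Proj 𝒜) ↔ ∃ s : Finset A, (∀ f ∈ s, ∃ d : ℕ, 0 < d ∧ f ∈ 𝒜 d) ∧
      (HomogeneousIdeal.irrelevant 𝒜).toIdeal ≤ (Ideal.span (s : Set A)).radical := by
  classical
  constructor
  · intro hc
    -- the basic opens of positive-degree homogeneous elements cover
    have hcov : (⨆ i : (Σ i : PNat, 𝒜 i), Proj.basicOpen 𝒜 (i.2 : A)) = ⊤ := by
      apply Proj.iSup_basicOpen_eq_top
      intro z hz
      rw [← DirectSum.sum_support_decompose 𝒜 z]
      refine Ideal.sum_mem _ fun c hc ↦ if hc0 : c = 0 then ?_ else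
        Ideal.subset_span ⟨⟨⟨c, Nat.pos_iff_ne_zero.mpr hc0⟩, _⟩, rfl⟩
      convert Ideal.zero_mem _
      subst hc0
      exact hz
    obtain ⟨t, ht⟩ := isCompact_univ.elim_finite_subcover
      (fun i : (Σ i : PNat, 𝒜 i) ↦ ((Proj.basicOpen 𝒜 (i.2 : A) : (Proj 𝒜).Opens) : Set (Proj 𝒜)))
      (fun i ↦ (Proj.basicOpen 𝒜 (i.2 : A)).isOpen)
      (by
        intro x _
        have hx : x ∈ (⨆ i : (Σ i : PNat, 𝒜 i), Proj.basicOpen 𝒜 (i.2 : A)) := hcov ▸ trivial
        obtain ⟨i, hi⟩ := TopologicalSpace.Opens.mem_iSup.mp hx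
        exact Set.mem_iUnion.mpr ⟨i, hi⟩)
    refine ⟨t.image (fun i ↦ (i.2 : A)), ?_, ?_⟩
    · intro f hf
      obtain ⟨i, -, rfl⟩ := Finset.mem_image.mp hf
      exact ⟨i.1, i.1.2, i.2.2⟩
    · have hhom : (Ideal.span ((t.image (fun i ↦ (i.2 : A)) : Finset A) : Set A)).IsHomogeneous 𝒜 := by
        refine Ideal.homogeneous_span _ _ fun x hx ↦ ?_
        obtain ⟨i, -, rfl⟩ := Finset.mem_image.mp (Finset.mem_coe.mp hx)
        exact ⟨i.1, i.2.2⟩
      rw [hhom.radical_eq]
      refine le_sInf fun J ⟨hJh, hJs, hJp⟩ ↦ ?_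
      by_contra hJ
      let x : ProjectiveSpectrum 𝒜 := ⟨⟨J, hJh⟩, hJp, fun h ↦ hJ h⟩
      obtain ⟨i, hi⟩ := Set.mem_iUnion.mp (ht (Set.mem_univ (x : Proj 𝒜)))
      obtain ⟨hit, hi⟩ := Set.mem_iUnion.mp hi
      exact hi (hJs (Ideal.subset_span (Finset.mem_coe.mpr (Finset.mem_image_of_mem _ hit))))
  · rintro ⟨s, hs, hle⟩
    refine ⟨?_⟩
    have huniv : (Set.univ : Set (Proj 𝒜)) = ⋃ f ∈ s, ((Proj.basicOpen 𝒜 f : (Proj 𝒜).Opens) : Set (Proj 𝒜)) := by
      refine (Set.eq_univ_of_forall fun x ↦ ?_).symm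
      by_contra hx
      simp only [Set.mem_iUnion, not_exists] at hx
      apply x.not_irrelevant_le
      have : Ideal.span (s : Set A) ≤ x.asHomogeneousIdeal.toIdeal := by
        rw [Ideal.span_le]
        intro f hf
        by_contra hfx
        exact hx f hf hfx
      intro z hz
      exact (x.isPrime.radical_le_iff.mpr this) (hle hz)
    rw [huniv]
    refine s.isCompact_biUnion fun f hf ↦ ?_
    obtain ⟨d, hd, hfd⟩ := hs f hf
    exact (Proj.isAffineOpen_basicOpen 𝒜 f hfd hd).isCompact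

end Groth.Agent.S1615
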