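import Groth.Statements.S16152
import Mathlib.Tactic
-- import your own Groth.Agent.* helpers here

set_option autoImplicit false
universe u
open WGauss

namespace Groth.Agent.S16152

open MvPolynomial in
/-- Over a field k of characteristic zero, for e, a, b positive integers with a < b, the weighted
Gaussian map of the line bundle O(e) on projective n-space is surjective. Concretely, identifying
global sections of O(m) with homogeneous polynomials of degree m in X_0, ..., X_n and global
sections of the twisted cotangent sheaf Omega^1(t) with the (n+1)-tuples of homogeneous polynomials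
of degree t - 1 killed by the Euler map (f_i) to sum_i X_i f_i, every such tuple with t = (a+b)e is
a k-linear combination of the tuples (b tau (d sigma / d X_i) - a sigma (d tau / d X_i))_i with
sigma homogeneous of degree ae and tau homogeneous of degree be. (The source works over the complex
numbers; the statement is one of linear algebra and is given here over any field of characteristic
zero.) -/
theorem result
    (k : Type u) [Field k] [CharZero k] (n e a b : ℕ) (he : 0 < e) (ha : 0 < a) (hab : a < b)
    (f : Fin (n + 1) → MvPolynomial (Fin (n + 1)) k)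
    (hf : ∀ i, (f i).IsHomogeneous ((a + b) * e - 1))
    (hEuler : ∑ i, X i * f i = 0) :
    f ∈ Submodule.span k
      {g : Fin (n + 1) → MvPolynomial (Fin (n + 1)) k |
        ∃ σ τ : MvPolynomial (Fin (n + 1)) k, σ.IsHomogeneous (a * e) ∧ τ.IsHomogeneous (b * e) ∧
          g = fun i => (b : k) • (τ * pderiv i σ) - (a : k) • (σ * pderiv i τ)} := by
  classical
  set S := Submodule.span k
      {g : Fin (n + 1) → MvPolynomial (Fin (n + 1)) k |
        ∃ σ τ : MvPolynomial (Fin (n + 1)) k, σ.IsHomogeneous (a * e) ∧ τ.IsHomogeneous (b * e) ∧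
          g = fun i => (b : k) • (τ * pderiv i σ) - (a : k) • (σ * pderiv i τ)} with hS
  have hp1 : 1 ≤ a * e := Nat.succ_le_of_lt (Nat.mul_pos ha he)
  have hq1 : 1 ≤ b * e := Nat.succ_le_of_lt (Nat.mul_pos (lt_trans ha hab) he)
  have hpq : a * e + b * e = (a + b) * e := by ring
  have hab0 : ((a : k) + b) ≠ 0 := by
    have : a + b ≠ 0 := by omega
    exact_mod_cast this
  -- the generators on monomials
  let w : (Fin (n + 1) →₀ ℕ) → (Fin (n + 1) →₀ ℕ) → (Fin (n + 1) → MvPolynomial (Fin (n + 1)) k) :=
    fun α β l => (b : k) • (monomial β 1 * pderiv l (monomial α 1)) -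
      (a : k) • (monomial α 1 * pderiv l (monomial β 1))
  have hwS : ∀ α β : Fin (n + 1) →₀ ℕ, α.degree = a * e → β.degree = b * e → w α β ∈ S :=
    fun α β hα hβ => Submodule.subset_span
      ⟨monomial α 1, monomial β 1, isHomogeneous_monomial _ hα, isHomogeneous_monomial _ hβ, rfl⟩
  have hw : ∀ (α β : Fin (n + 1) →₀ ℕ) (l : Fin (n + 1)), w α β l =
      monomial (α + β - Finsupp.single l 1) ((b : k) * α l - (a : k) * β l) := by
    intro α β l
    simp only [w, pderiv_monomial, monomial_mul, one_mul, smul_monomial, smul_eq_mul]
    have h1 : monomial (β + (α - Finsupp.single l 1)) ((b : k) * (α l : k)) =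
        monomial (α + β - Finsupp.single l 1) ((b : k) * (α l : k)) := by
      by_cases h : α l = 0
      · simp [h]
      · have hexp : β + (α - Finsupp.single l 1) = α + β - Finsupp.single l 1 := by
          ext m
          by_cases hm : m = l
          · subst hm
            simp only [Finsupp.add_apply, Finsupp.tsub_apply, Finsupp.single_eq_same]
            omega
          · simp only [Finsupp.add_apply, Finsupp.tsub_apply, Finsupp.single_apply,
              if_neg (Ne.symm hm)]
            omega
        rw [hexp]
    have h2 : monomial (α + (β - Finsupp.single l 1)) ((a : k) * (β l : k)) =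
        monomial (α + β - Finsupp.single l 1) ((a : k) * (β l : k)) := by
      by_cases h : β l = 0
      · simp [h]
      · have hexp : α + (β - Finsupp.single l 1) = α + β - Finsupp.single l 1 := by
          ext m
          by_cases hm : m = l
          · subst hm
            simp only [Finsupp.add_apply, Finsupp.tsub_apply, Finsupp.single_eq_same]
            omega
          · simp only [Finsupp.add_apply, Finsupp.tsub_apply, Finsupp.single_apply,
              if_neg (Ne.symm hm)]
            omega
        rw [hexp]
    rw [h1, h2, ← map_sub]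
  -- elementary tuples
  let E : (Fin (n + 1) →₀ ℕ) → Fin (n + 1) → (Fin (n + 1) → MvPolynomial (Fin (n + 1)) k) :=
    fun γ i => Pi.single i (monomial (γ - Finsupp.single i 1) 1)
  have hB : ∀ (γ : Fin (n + 1) →₀ ℕ) (i j : Fin (n + 1)), γ.degree = (a + b) * e → γ i ≠ 0 →
      γ j ≠ 0 → E γ i - E γ j ∈ S := by
    intro γ i j hγ hi hj
    by_cases hij : i = j
    · subst hij; simp
    set γ' := γ - Finsupp.single i 1 - Finsupp.single j 1 with hγ'
    have hγeq : γ = γ' + Finsupp.single i 1 + Finsupp.single j 1 := by
      ext m
      simp only [hγ', Finsupp.add_apply, Finsupp.tsub_apply, Finsupp.single_apply]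
      by_cases hmi : i = m
      · subst hmi
        rw [if_pos rfl, if_neg (Ne.symm hij)]
        omega
      · by_cases hmj : j = m
        · subst hmj
          rw [if_neg hmi, if_pos rfl]
          omega
        · rw [if_neg hmi, if_neg hmj]
          omega
    have hdeg' : γ'.degree + 2 = (a + b) * e := by
      rw [← hγ, hγeq]
      simp only [map_add, Finsupp.degree_single]
    obtain ⟨g, hgle, hgdeg⟩ := Finsupp.exists_le_degree_eq γ' (a * e - 1) (by omega)
    set ρ := γ' - g with hρ
    have hγ'eq : γ' = g + ρ := by rw [hρ, add_tsub_cancel_of_le hgle]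
    have hρdeg : ρ.degree = b * e - 1 := by
      have : γ'.degree = g.degree + ρ.degree := by rw [hγ'eq, map_add]
      omega
    have e1 : (g + Finsupp.single i 1) + (ρ + Finsupp.single j 1) = γ := by
      rw [hγeq, hγ'eq]; abel
    have e2 : (g + Finsupp.single j 1) + (ρ + Finsupp.single i 1) = γ := by
      rw [hγeq, hγ'eq]; abel
    have hd1 : (g + Finsupp.single i 1).degree = a * e := by
      simp only [map_add, Finsupp.degree_single]; omega
    have hd2 : (ρ + Finsupp.single j 1).degree = b * e := by
      simp only [map_add, Finsupp.degree_single]; omega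
    have hd3 : (g + Finsupp.single j 1).degree = a * e := by
      simp only [map_add, Finsupp.degree_single]; omega
    have hd4 : (ρ + Finsupp.single i 1).degree = b * e := by
      simp only [map_add, Finsupp.degree_single]; omega
    have hEq : E γ i - E γ j = ((a : k) + b)⁻¹ •
        (w (g + Finsupp.single i 1) (ρ + Finsupp.single j 1) -
          w (g + Finsupp.single j 1) (ρ + Finsupp.single i 1)) := by
      funext l
      simp only [Pi.sub_apply, Pi.smul_apply, hw, e1, e2, E, Pi.single_apply, ← map_sub,
        smul_monomial, smul_eq_mul, Finsupp.add_apply, Finsupp.single_apply]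
      by_cases hli : l = i
      · subst hli
        rw [if_pos rfl, if_neg hij, if_neg (Ne.symm hij), if_pos rfl, sub_zero]
        congr 1
        field_simp
        push_cast
        ring
      · by_cases hlj : l = j
        · subst hlj
          rw [if_neg hli, if_pos rfl, if_neg (Ne.symm hli), if_pos rfl, zero_sub, ← map_neg]
          congr 1
          field_simp
          push_cast
          ring
        · rw [if_neg hli, if_neg hlj, if_neg (Ne.symm hli), if_neg (Ne.symm hlj), sub_zero]
          simp
    rw [hEq]
    exact S.smul_mem _ (S.sub_mem (hwS _ _ hd1 hd2) (hwS _ _ hd3 hd4))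
  -- quotient argument
  let i₀ : (Fin (n + 1) →₀ ℕ) → Fin (n + 1) :=
    fun γ => if h : γ.support.Nonempty then h.choose else 0
  let u : (Fin (n + 1) →₀ ℕ) → ((Fin (n + 1) → MvPolynomial (Fin (n + 1)) k) ⧸ S) :=
    fun γ => S.mkQ (E γ (i₀ γ))
  have hu : ∀ (γ : Fin (n + 1) →₀ ℕ) (i : Fin (n + 1)), γ.degree = (a + b) * e → γ i ≠ 0 →
      S.mkQ (E γ i) = u γ := by
    intro γ i hγ hi
    have hne : γ.support.Nonempty := ⟨i, Finsupp.mem_support_iff.mpr hi⟩
    have h0 : γ (i₀ γ) ≠ 0 := by
      simp only [i₀, dif_pos hne]
      exact Finsupp.mem_support_iff.mp hne.choose_spec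
    simp only [u, Submodule.mkQ_apply]
    exact (Submodule.Quotient.eq S).mpr (hB γ i (i₀ γ) hγ hi h0)
  let Φ : MvPolynomial (Fin (n + 1)) k →ₗ[k] ((Fin (n + 1) → MvPolynomial (Fin (n + 1)) k) ⧸ S) :=
    (basisMonomials (Fin (n + 1)) k).constr k u
  have hΦ : ∀ (γ : Fin (n + 1) →₀ ℕ) (c : k), Φ (monomial γ c) = c • u γ := by
    intro γ c
    have h1 : monomial γ c = c • (basisMonomials (Fin (n + 1)) k) γ := by
      rw [coe_basisMonomials, smul_monomial, smul_eq_mul, mul_one]
    rw [h1, map_smul, Module.Basis.constr_basis]
  have key : ∀ (i : Fin (n + 1)) (P : MvPolynomial (Fin (n + 1)) k),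
      P.IsHomogeneous ((a + b) * e - 1) → S.mkQ (Pi.single i P) = Φ (X i * P) := by
    intro i P hP
    have h1 : Pi.single i P = ∑ δ ∈ P.support,
        (coeff δ P) • E (δ + Finsupp.single i 1) i := by
      conv_lhs => rw [P.as_sum]
      funext l
      simp only [E, add_tsub_cancel_right, Finset.sum_apply, Pi.smul_apply, Pi.single_apply]
      by_cases hl : l = i
      · simp only [if_pos hl, smul_monomial, smul_eq_mul, mul_one]
      · simp only [if_neg hl, smul_zero, Finset.sum_const_zero]
    have h2 : X i * P = ∑ δ ∈ P.support, monomial (δ + Finsupp.single i 1) (coeff δ P) := by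
      conv_lhs => rw [P.as_sum]
      rw [Finset.mul_sum]
      apply Finset.sum_congr rfl
      intro δ _
      rw [X, monomial_mul, one_mul, add_comm δ]
    rw [h1, h2, map_sum, map_sum]
    apply Finset.sum_congr rfl
    intro δ hδ
    have hδdeg : δ.degree = (a + b) * e - 1 := by
      have := hP.degree_eq_sum_deg_support hδ
      rw [Finsupp.degree_apply]; exact this.symm
    rw [map_smul, hΦ, hu]
    · simp only [map_add, Finsupp.degree_single, hδdeg]; omega
    · simp
  have hfsum : f = ∑ i, Pi.single i (f i) := (Finset.univ_sum_single f).symm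
  have hzero : S.mkQ f = 0 := by
    rw [hfsum, map_sum]
    rw [Finset.sum_congr rfl (fun i _ => key i (f i) (hf i)), ← map_sum, hEuler, map_zero]
  exact (Submodule.Quotient.mk_eq_zero S).mp hzero

end Groth.Agent.S16152
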