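import Groth.Statements.S16153
import Mathlib

set_option autoImplicit false
universe u
open SpinRat

namespace Groth.Agent.S16153

open MvPolynomial

section
variable {k : Type u} [Field k]

/-- bidegree `(1,1)` forms: first weight -/
lemma wh1_xy (i j : Fin 4) (hi : (![1, 1, 0, 0] : Fin 4 → ℕ) i = 1)
    (hj : (![1, 1, 0, 0] : Fin 4 → ℕ) j = 0) :
    (X i * X j : MvPolynomial (Fin 4) k).IsWeightedHomogeneous (![1, 1, 0, 0] : Fin 4 → ℕ) 1 := by
  have := (isWeightedHomogeneous_X k (![1, 1, 0, 0] : Fin 4 → ℕ) i).mul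
    (isWeightedHomogeneous_X k (![1, 1, 0, 0] : Fin 4 → ℕ) j)
  rwa [hi, hj] at this

lemma wh2_xy (i j : Fin 4) (hi : (![0, 0, 1, 1] : Fin 4 → ℕ) i = 0)
    (hj : (![0, 0, 1, 1] : Fin 4 → ℕ) j = 1) :
    (X i * X j : MvPolynomial (Fin 4) k).IsWeightedHomogeneous (![0, 0, 1, 1] : Fin 4 → ℕ) 1 := by
  have := (isWeightedHomogeneous_X k (![0, 0, 1, 1] : Fin 4 → ℕ) i).mul
    (isWeightedHomogeneous_X k (![0, 0, 1, 1] : Fin 4 → ℕ) j)
  rwa [hi, hj] at this

/-- a `k`-combination of the four `x_i y_j` is of bidegree `(1,1)`. -/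
lemma bideg11 (a b c d : k) :
    (C a * (X 0 * X 2) + C b * (X 0 * X 3) + C c * (X 1 * X 2) + C d * (X 1 * X 3) :
      MvPolynomial (Fin 4) k).IsWeightedHomogeneous (![1, 1, 0, 0] : Fin 4 → ℕ) 1 ∧
    (C a * (X 0 * X 2) + C b * (X 0 * X 3) + C c * (X 1 * X 2) + C d * (X 1 * X 3) :
      MvPolynomial (Fin 4) k).IsWeightedHomogeneous (![0, 0, 1, 1] : Fin 4 → ℕ) 1 := by
  have hC : ∀ (w : Fin 4 → ℕ) (r : k) (φ : MvPolynomial (Fin 4) k), φ.IsWeightedHomogeneous w 1 →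
      (C r * φ).IsWeightedHomogeneous w 1 := by
    intro w r φ h
    have := (isWeightedHomogeneous_C w r).mul h
    rwa [zero_add] at this
  constructor
  · exact (((hC _ _ _ (wh1_xy 0 2 rfl rfl)).add (hC _ _ _ (wh1_xy 0 3 rfl rfl))).add
      (hC _ _ _ (wh1_xy 1 2 rfl rfl))).add (hC _ _ _ (wh1_xy 1 3 rfl rfl))
  · exact (((hC _ _ _ (wh2_xy 0 2 rfl rfl)).add (hC _ _ _ (wh2_xy 0 3 rfl rfl))).add
      (hC _ _ _ (wh2_xy 1 2 rfl rfl))).add (hC _ _ _ (wh2_xy 1 3 rfl rfl))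

end


section
variable {k : Type u} [Field k]

/-- the shape of a bidegree `(1,1)` form -/
def IsB11 (p : MvPolynomial (Fin 4) k) : Prop :=
  p.IsWeightedHomogeneous (![1, 1, 0, 0] : Fin 4 → ℕ) 1 ∧
    p.IsWeightedHomogeneous (![0, 0, 1, 1] : Fin 4 → ℕ) 1

lemma isB11_of (a b c d : k) (p : MvPolynomial (Fin 4) k)
    (hp : p = C a * (X 0 * X 2) + C b * (X 0 * X 3) + C c * (X 1 * X 2) + C d * (X 1 * X 3)) :
    IsB11 p := by
  rw [hp]; exact bideg11 a b c d

lemma isB11_l : IsB11 (X 0 * X 3 - X 1 * X 2 : MvPolynomial (Fin 4) k) :=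
  isB11_of 0 1 (-1) 0 _ (by simp only [map_zero, map_one, map_neg]; ring)

lemma isB11_h : IsB11 (X 0 * (X 3 - X 2) + X 2 * (X 1 - X 0) + (X 1 * (X 2 - X 3) + X 3 * (X 0 - X 1)) +
    (X 0 * X 3 + X 1 * X 2) : MvPolynomial (Fin 4) k) :=
  isB11_of (-2) 3 3 (-2) _ (by simp only [map_neg, map_ofNat]; ring)

lemma isB11_h13 : IsB11 (X 0 * (X 3 - X 2) + X 2 * (X 1 - X 0) -
    (X 0 * X 3 + X 1 * X 2) : MvPolynomial (Fin 4) k) :=
  isB11_of (-2) 0 0 0 _ (by simp only [map_neg, map_ofNat, map_zero]; ring)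

lemma isB11_h23 : IsB11 (X 1 * (X 2 - X 3) + X 3 * (X 0 - X 1) -
    (X 0 * X 3 + X 1 * X 2) : MvPolynomial (Fin 4) k) :=
  isB11_of 0 0 0 (-2) _ (by simp only [map_neg, map_ofNat, map_zero]; ring)

lemma wh_mul3 {p q r : MvPolynomial (Fin 4) k} (hp : IsB11 p) (hq : IsB11 q) (hr : IsB11 r) :
    (p * q * r).IsWeightedHomogeneous (![1, 1, 0, 0] : Fin 4 → ℕ) 3 ∧
      (p * q * r).IsWeightedHomogeneous (![0, 0, 1, 1] : Fin 4 → ℕ) 3 :=
  ⟨(hp.1.mul hq.1).mul hr.1, (hp.2.mul hq.2).mul hr.2⟩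

lemma wh_c : (X 0 * X 1 * (X 0 - X 1) * (X 2 * X 3 * (X 2 - X 3)) :
      MvPolynomial (Fin 4) k).IsWeightedHomogeneous (![1, 1, 0, 0] : Fin 4 → ℕ) 3 ∧
    (X 0 * X 1 * (X 0 - X 1) * (X 2 * X 3 * (X 2 - X 3)) :
      MvPolynomial (Fin 4) k).IsWeightedHomogeneous (![0, 0, 1, 1] : Fin 4 → ℕ) 3 := by
  have hx : ∀ (w : Fin 4 → ℕ) (i : Fin 4), (X i : MvPolynomial (Fin 4) k).IsWeightedHomogeneous w (w i) :=
    fun w i => isWeightedHomogeneous_X k w i
  constructor
  · exact (((hx _ 0).mul (hx _ 1)).mul ((hx _ 0).sub (hx _ 1))).mul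
      (((hx _ 2).mul (hx _ 3)).mul ((hx _ 2).sub (hx _ 3)))
  · exact (((hx _ 0).mul (hx _ 1)).mul ((hx _ 0).sub (hx _ 1))).mul
      (((hx _ 2).mul (hx _ 3)).mul ((hx _ 2).sub (hx _ 3)))

lemma rename_l : rename (![0, 1, 0, 1] : Fin 4 → Fin 2) (X 0 * X 3 - X 1 * X 2 : MvPolynomial (Fin 4) k) = 0 := by
  simp only [map_sub, map_mul, rename_X]
  simp
  ring

end

noncomputable def mon (a b : Fin 4) : Fin 4 →₀ ℕ :=
  Finsupp.equivFunOnFinite.symm ![(a : ℕ), 3 - (a : ℕ), (b : ℕ), 3 - (b : ℕ)]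

lemma mon_inj {a b a' b' : Fin 4} (h : mon a b = mon a' b') : a = a' ∧ b = b' := by
  have h0 := DFunLike.congr_fun h 0
  have h2 := DFunLike.congr_fun h 2
  simp [mon] at h0 h2
  exact ⟨Fin.ext h0, Fin.ext h2⟩

lemma weight_eq (w : Fin 4 → ℕ) (m : Fin 4 →₀ ℕ) :
    Finsupp.weight w m = m 0 * w 0 + m 1 * w 1 + m 2 * w 2 + m 3 * w 3 := by
  rw [Finsupp.weight_apply, Finsupp.sum_fintype _ _ (by simp), Fin.sum_univ_four]
  simp

lemma eq_mon (m : Fin 4 →₀ ℕ) (h1 : m 0 + m 1 = 3) (h2 : m 2 + m 3 = 3) :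
    ∃ a b : Fin 4, m = mon a b := by
  refine ⟨⟨m 0, by omega⟩, ⟨m 2, by omega⟩, ?_⟩
  ext i
  fin_cases i <;> simp [mon] <;> omega

lemma monomial_mon {k : Type*} [CommRing k] (a b : Fin 4) (c : k) :
    monomial (mon a b) c = C c * (X 0 ^ (a : ℕ) * X 1 ^ (3 - (a : ℕ)) * X 2 ^ (b : ℕ) * X 3 ^ (3 - (b : ℕ))) := by
  rw [MvPolynomial.monomial_eq, Finsupp.prod_fintype _ _ (by simp), Fin.prod_univ_four]
  simp [mon]

lemma decomp {k : Type*} [Field k] (f : MvPolynomial (Fin 4) k)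
    (h1 : f.IsWeightedHomogeneous (![1, 1, 0, 0] : Fin 4 → ℕ) 3)
    (h2 : f.IsWeightedHomogeneous (![0, 0, 1, 1] : Fin 4 → ℕ) 3) :
    f = ∑ a : Fin 4, ∑ b : Fin 4, monomial (mon a b) (coeff (mon a b) f) := by
  classical
  ext m
  simp only [coeff_sum, coeff_monomial]
  by_cases hm : coeff m f = 0
  · rw [hm]
    symm
    refine Finset.sum_eq_zero fun a _ => Finset.sum_eq_zero fun b _ => ?_
    split_ifs with h
    · rw [h, hm]
    · rfl
  · have e1 := h1 hm
    have e2 := h2 hm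
    rw [weight_eq] at e1 e2
    simp at e1 e2
    obtain ⟨a0, b0, rfl⟩ := eq_mon m e1 e2
    rw [Finset.sum_eq_single a0, Finset.sum_eq_single b0]
    · simp
    · intro b _ hb
      rw [if_neg]
      intro h; exact hb (mon_inj h).2
    · simp
    · intro a _ ha
      refine Finset.sum_eq_zero fun b _ => ?_
      rw [if_neg]
      intro h; exact ha (mon_inj h).1
    · simp

open DualNumber in
lemma dual_eval {k : Type*} [Field k] (F : Fin 4 → Fin 4 → k) (P : Fin 2 → DualNumber k)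
    (hP : (P 0 * P 1 * (P 0 - P 1)) ^ 2 = 0)
    (hdiv : (X 0 * X 1 * (X 0 - X 1)) ^ 2 ∣ rename (![0, 1, 0, 1] : Fin 4 → Fin 2)
      (∑ a : Fin 4, ∑ b : Fin 4, monomial (mon a b) (F a b))) :
    ∑ a : Fin 4, ∑ b : Fin 4, F a b • (P 0 ^ (a : ℕ) * P 1 ^ (3 - (a : ℕ)) * P 0 ^ (b : ℕ) * P 1 ^ (3 - (b : ℕ))) = 0 := by
  obtain ⟨q, hq⟩ := hdiv
  have h1 := congrArg (aeval P) hq
  rw [map_mul, map_pow, map_mul, map_mul, map_sub, aeval_X, aeval_X, hP, zero_mul, aeval_rename] at h1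
  rw [← h1, map_sum]
  refine Finset.sum_congr rfl fun a _ => ?_
  rw [map_sum]
  refine Finset.sum_congr rfl fun b _ => ?_
  rw [monomial_mon, map_mul, aeval_C, Algebra.smul_def]
  simp only [map_mul, map_pow, aeval_X, Function.comp]
  simp


lemma sigma_inj : Function.Injective (![2, 3, 0, 1] : Fin 4 → Fin 4) := by decide

lemma mapDomain_mon (a b : Fin 4) :
    (mon a b).mapDomain (![2, 3, 0, 1] : Fin 4 → Fin 4) = mon b a := by
  ext i
  fin_cases i
  · show (Finsupp.mapDomain (![2, 3, 0, 1] : Fin 4 → Fin 4) (mon a b)) ((![2, 3, 0, 1] : Fin 4 → Fin 4) 2) = _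
    rw [Finsupp.mapDomain_apply sigma_inj]; simp [mon]
  · show (Finsupp.mapDomain (![2, 3, 0, 1] : Fin 4 → Fin 4) (mon a b)) ((![2, 3, 0, 1] : Fin 4 → Fin 4) 3) = _
    rw [Finsupp.mapDomain_apply sigma_inj]; simp [mon]
  · show (Finsupp.mapDomain (![2, 3, 0, 1] : Fin 4 → Fin 4) (mon a b)) ((![2, 3, 0, 1] : Fin 4 → Fin 4) 0) = _
    rw [Finsupp.mapDomain_apply sigma_inj]; simp [mon]
  · show (Finsupp.mapDomain (![2, 3, 0, 1] : Fin 4 → Fin 4) (mon a b)) ((![2, 3, 0, 1] : Fin 4 → Fin 4) 1) = _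
    rw [Finsupp.mapDomain_apply sigma_inj]; simp [mon]

lemma coeff_sigma {k : Type*} [Field k] (f : MvPolynomial (Fin 4) k) (a b : Fin 4) :
    coeff (mon b a) (rename (![2, 3, 0, 1] : Fin 4 → Fin 4) f) = coeff (mon a b) f := by
  rw [← mapDomain_mon a b, coeff_rename_mapDomain _ sigma_inj]

open DualNumber in
lemma constraints {k : Type u} [Field k] (F : Fin 4 → Fin 4 → k)
    (hdiv : (X 0 * X 1 * (X 0 - X 1)) ^ 2 ∣ rename (![0, 1, 0, 1] : Fin 4 → Fin 2)
      (∑ a : Fin 4, ∑ b : Fin 4, monomial (mon a b) (F a b))) :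
    F 0 0 = 0 ∧ F 0 1 + F 1 0 = 0 ∧ F 3 3 = 0 ∧ F 3 2 + F 2 3 = 0 ∧
    (F 0 0 + F 0 1 + F 0 2 + F 0 3 + (F 1 0 + F 1 1 + F 1 2 + F 1 3) + (F 2 0 + F 2 1 + F 2 2 + F 2 3) +
      (F 3 0 + F 3 1 + F 3 2 + F 3 3) = 0) ∧
    (F 0 1 + F 0 2 * 2 + F 0 3 * 3 + (F 1 0 + F 1 1 * 2 + F 1 2 * 3 + F 1 3 * 4) +
        (F 2 0 * 2 + F 2 1 * 3 + F 2 2 * 4 + F 2 3 * 5) +
      (F 3 0 * 3 + F 3 1 * 4 + F 3 2 * 5 + F 3 3 * 6) = 0) := by
  have E1 := dual_eval F (![ε, 1] : Fin 2 → DualNumber k) (by apply TrivSqZeroExt.ext <;> simp) hdiv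
  have E2 := dual_eval F (![1, ε] : Fin 2 → DualNumber k) (by apply TrivSqZeroExt.ext <;> simp) hdiv
  have E3 := dual_eval F (![1 + ε, 1] : Fin 2 → DualNumber k) (by apply TrivSqZeroExt.ext <;> simp) hdiv
  have h1 := congrArg TrivSqZeroExt.fst E1
  have h2 := congrArg TrivSqZeroExt.snd E1
  have h3 := congrArg TrivSqZeroExt.fst E2
  have h4 := congrArg TrivSqZeroExt.snd E2
  have h5 := congrArg TrivSqZeroExt.fst E3
  have h6 := congrArg TrivSqZeroExt.snd E3
  simp [Fin.sum_univ_four] at h1 h2 h3 h4 h5 h6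
  refine ⟨?_, ?_, ?_, ?_, ?_, ?_⟩
  · linear_combination h1
  · linear_combination h2
  · linear_combination h3
  · linear_combination h4
  · linear_combination h5
  · linear_combination h6

lemma sym_core {k : Type u} [Field k] [CharZero k] (f c l h h13 h23 : MvPolynomial (Fin 4) k)
    (hc : c = X 0 * X 1 * (X 0 - X 1) * (X 2 * X 3 * (X 2 - X 3)))
    (hl : l = X 0 * X 3 - X 1 * X 2)
    (hh : h = X 0 * (X 3 - X 2) + X 2 * (X 1 - X 0) + (X 1 * (X 2 - X 3) + X 3 * (X 0 - X 1)) +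
      (X 0 * X 3 + X 1 * X 2))
    (hh13 : h13 = X 0 * (X 3 - X 2) + X 2 * (X 1 - X 0) - (X 0 * X 3 + X 1 * X 2))
    (hh23 : h23 = X 1 * (X 2 - X 3) + X 3 * (X 0 - X 1) - (X 0 * X 3 + X 1 * X 2))
    (hw1 : f.IsWeightedHomogeneous (![1, 1, 0, 0] : Fin 4 → ℕ) 3)
    (hw2 : f.IsWeightedHomogeneous (![0, 0, 1, 1] : Fin 4 → ℕ) 3)
    (hdiv : (X 0 * X 1 * (X 0 - X 1)) ^ 2 ∣ rename (![0, 1, 0, 1] : Fin 4 → Fin 2) f)
    (hσ : rename (![2, 3, 0, 1] : Fin 4 → Fin 4) f = f) :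
    ∃ α0 α1 α2 α3 : k, (6 : k) • f =
      α0 • c + α1 • (l ^ 2 * h) + α2 • (l ^ 2 * h13) + α3 • (l ^ 2 * h23) := by
  subst hc hl hh hh13 hh23
  obtain ⟨F, hF⟩ : ∃ F : Fin 4 → Fin 4 → k, F = fun a b => coeff (mon a b) f := ⟨_, rfl⟩
  have hdec : f = ∑ a : Fin 4, ∑ b : Fin 4, monomial (mon a b) (F a b) := by
    rw [hF]; exact decomp f hw1 hw2
  have hsym : ∀ a b, F b a = F a b := by
    intro a b
    rw [hF]
    show coeff (mon b a) f = coeff (mon a b) f
    conv_lhs => rw [← hσ]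
    exact coeff_sigma f a b
  have hdiv' : (X 0 * X 1 * (X 0 - X 1)) ^ 2 ∣ rename (![0, 1, 0, 1] : Fin 4 → Fin 2)
      (∑ a : Fin 4, ∑ b : Fin 4, monomial (mon a b) (F a b)) := by
    rw [← hdec]; exact hdiv
  obtain ⟨c1, c2, c3, c4, c5, c6⟩ := constraints F hdiv'
  have h10 : F 1 0 = F 0 1 := hsym 0 1
  have h20 : F 2 0 = F 0 2 := hsym 0 2
  have h30 : F 3 0 = F 0 3 := hsym 0 3
  have h21 : F 2 1 = F 1 2 := hsym 1 2
  have h31 : F 3 1 = F 1 3 := hsym 1 3
  have h32 : F 3 2 = F 2 3 := hsym 2 3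
  have h01 : F 0 1 = 0 := by linear_combination (1 / 2 : k) * c2 - (1 / 2 : k) * h10
  have h23 : F 2 3 = 0 := by linear_combination (1 / 2 : k) * c4 - (1 / 2 : k) * h32
  simp only [h10, h20, h30, h21, h31, h32, c1, c3, h01, h23] at c5 c6
  have h22 : F 2 2 = -(F 0 3 + F 1 2 + 2 * F 1 3) := by linear_combination (1 / 2 : k) * c6 - c5
  have h11 : F 1 1 = -2 * F 0 2 - F 0 3 - F 1 2 := by linear_combination 2 * c5 - (1 / 2 : k) * c6
  refine ⟨-6 * F 1 2 - 6 * F 0 3, 2 * F 0 3, -3 * F 1 3 - 2 * F 0 3, -3 * F 0 2 - 2 * F 0 3, ?_⟩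
  rw [hdec]
  simp only [Fin.sum_univ_four, monomial_mon]
  simp only [h10, h20, h30, h21, h31, h32, c1, c3, h01, h23, h11, h22, smul_eq_C_mul]
  simp only [map_add, map_neg, map_mul, map_sub, map_zero, map_ofNat]
  simp
  ring

lemma anti_core {k : Type u} [Field k] [CharZero k] (f l h h13 h23 : MvPolynomial (Fin 4) k)
    (hl : l = X 0 * X 3 - X 1 * X 2)
    (hh : h = X 0 * (X 3 - X 2) + X 2 * (X 1 - X 0) + (X 1 * (X 2 - X 3) + X 3 * (X 0 - X 1)) +
      (X 0 * X 3 + X 1 * X 2))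
    (hh13 : h13 = X 0 * (X 3 - X 2) + X 2 * (X 1 - X 0) - (X 0 * X 3 + X 1 * X 2))
    (hh23 : h23 = X 1 * (X 2 - X 3) + X 3 * (X 0 - X 1) - (X 0 * X 3 + X 1 * X 2))
    (hw1 : f.IsWeightedHomogeneous (![1, 1, 0, 0] : Fin 4 → ℕ) 3)
    (hw2 : f.IsWeightedHomogeneous (![0, 0, 1, 1] : Fin 4 → ℕ) 3)
    (hσ : rename (![2, 3, 0, 1] : Fin 4 → Fin 4) f = -f) :
    ∃ β0 β1 β2 β3 β4 β5 : k, (36 : k) • f =
      β0 • (l * h ^ 2) + β1 • (l * h * h13) + β2 • (l * h * h23) + β3 • (l * h13 ^ 2) +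
      β4 • (l * h23 ^ 2) + β5 • (l * h13 * h23) := by
  subst hl hh hh13 hh23
  obtain ⟨F, hF⟩ : ∃ F : Fin 4 → Fin 4 → k, F = fun a b => coeff (mon a b) f := ⟨_, rfl⟩
  have hdec : f = ∑ a : Fin 4, ∑ b : Fin 4, monomial (mon a b) (F a b) := by
    rw [hF]; exact decomp f hw1 hw2
  have hanti : ∀ a b, F b a = -F a b := by
    intro a b
    rw [hF]
    show coeff (mon b a) f = -coeff (mon a b) f
    rw [← coeff_sigma f a b, hσ, coeff_neg, neg_neg]
  have h10 : F 1 0 = -F 0 1 := hanti 0 1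
  have h20 : F 2 0 = -F 0 2 := hanti 0 2
  have h30 : F 3 0 = -F 0 3 := hanti 0 3
  have h21 : F 2 1 = -F 1 2 := hanti 1 2
  have h31 : F 3 1 = -F 1 3 := hanti 1 3
  have h32 : F 3 2 = -F 2 3 := hanti 2 3
  have h00 : F 0 0 = 0 := by linear_combination (1 / 2 : k) * hanti 0 0
  have h11 : F 1 1 = 0 := by linear_combination (1 / 2 : k) * hanti 1 1
  have h22 : F 2 2 = 0 := by linear_combination (1 / 2 : k) * hanti 2 2
  have h33 : F 3 3 = 0 := by linear_combination (1 / 2 : k) * hanti 3 3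
  refine ⟨-4 * F 0 3, 6 * F 1 3 + 8 * F 0 3, 6 * F 0 2 + 8 * F 0 3, -9 * F 2 3 - 6 * F 1 3 - 4 * F 0 3,
    -9 * F 0 1 - 6 * F 0 2 - 4 * F 0 3, -9 * F 1 2 + F 0 3 - 6 * F 1 3 - 6 * F 0 2, ?_⟩
  rw [hdec]
  simp only [Fin.sum_univ_four, monomial_mon]
  simp only [h10, h20, h30, h21, h31, h32, h00, h11, h22, h33, smul_eq_C_mul]
  simp only [map_add, map_neg, map_mul, map_sub, map_zero, map_ofNat]
  simp
  ring

open MvPolynomial in
/-- In the bigraded polynomial ring k[x0, x1, y0, y1] of the quadric surface (variables X 0, X 1, X 2, X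
3 in this order), over a field k of characteristic zero, let iota exchange x_i with y_i, let l = x0
y1 - x1 y0 be the diagonal, h1 = x0 (y1 - y0) + y0 (x1 - x0), h2 = x1 (y0 - y1) + y1 (x0 - x1), h3 =
x0 y1 + x1 y0, h = h1 + h2 + h3, h13 = h1 - h3, h23 = h2 - h3, and let c = x0 x1 (x0 - x1) y0 y1 (y0
- y1) be the product of the six rulings through the three diagonal points (1:0)x(1:0), (0:1)x(0:1),
(1:1)x(1:1). Let I be the space of forms of bidegree (3,3) whose restriction to the diagonal is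
divisible by (x0 x1 (x0 - x1))^2, that is, the bidegree-(3,3) forms through the length-six subscheme
of the diagonal doubled at those three points. Then the iota-invariant forms in I are exactly the
span of c, l^2 h, l^2 h13, l^2 h23; the iota-anti-invariant forms in I are exactly the span of l
h^2, l h h13, l h h23, l h13^2, l h23^2, l h13 h23; and these ten forms are linearly independent.
(The source works over the complex numbers and writes the two eigenspaces as direct sums of the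
displayed pieces; the six-line form c is read as the product of the two cubic factors.) -/
theorem result
    (k : Type u) [Field k] [CharZero k]
    (l h1 h2 h3 h h13 h23 c : MvPolynomial (Fin 4) k)
    (hl : l = X 0 * X 3 - X 1 * X 2)
    (hh1 : h1 = X 0 * (X 3 - X 2) + X 2 * (X 1 - X 0))
    (hh2 : h2 = X 1 * (X 2 - X 3) + X 3 * (X 0 - X 1))
    (hh3 : h3 = X 0 * X 3 + X 1 * X 2)
    (hh : h = h1 + h2 + h3) (hh13 : h13 = h1 - h3) (hh23 : h23 = h2 - h3)
    (hc : c = X 0 * X 1 * (X 0 - X 1) * (X 2 * X 3 * (X 2 - X 3)))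
    (I : Submodule k (MvPolynomial (Fin 4) k))
    (hI : ∀ f, f ∈ I ↔
      (f.IsWeightedHomogeneous (![1, 1, 0, 0] : Fin 4 → ℕ) 3 ∧
       f.IsWeightedHomogeneous (![0, 0, 1, 1] : Fin 4 → ℕ) 3 ∧
       (X 0 * X 1 * (X 0 - X 1)) ^ 2 ∣ rename (![0, 1, 0, 1] : Fin 4 → Fin 2) f)) :
    (∀ f, (f ∈ I ∧ rename (![2, 3, 0, 1] : Fin 4 → Fin 4) f = f) ↔
        f ∈ Submodule.span k ({c, l ^ 2 * h, l ^ 2 * h13, l ^ 2 * h23} : Set (MvPolynomial (Fin 4) k))) ∧
    (∀ f, (f ∈ I ∧ rename (![2, 3, 0, 1] : Fin 4 → Fin 4) f = -f) ↔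
        f ∈ Submodule.span k ({l * h ^ 2, l * h * h13, l * h * h23, l * h13 ^ 2, l * h23 ^ 2, l * h13 * h23} :
          Set (MvPolynomial (Fin 4) k))) ∧
    LinearIndependent k
      ![c, l ^ 2 * h, l ^ 2 * h13, l ^ 2 * h23, l * h ^ 2, l * h * h13, l * h * h23, l * h13 ^ 2, l * h23 ^ 2,
        l * h13 * h23] := by
  subst hl hh hh13 hh23 hh1 hh2 hh3 hc
  have hmem3 : ∀ p q r : MvPolynomial (Fin 4) k, IsB11 p → IsB11 q → IsB11 r →
      rename (![0, 1, 0, 1] : Fin 4 → Fin 2) p = 0 → p * q * r ∈ I := by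
    intro p q r hp hq hr h0
    rw [hI]
    refine ⟨(wh_mul3 hp hq hr).1, (wh_mul3 hp hq hr).2, ?_⟩
    rw [map_mul, map_mul, h0, zero_mul, zero_mul]
    exact dvd_zero _
  have hcmem : (X 0 * X 1 * (X 0 - X 1) * (X 2 * X 3 * (X 2 - X 3)) : MvPolynomial (Fin 4) k) ∈ I := by
    rw [hI]
    refine ⟨wh_c.1, wh_c.2, ?_⟩
    have : rename (![0, 1, 0, 1] : Fin 4 → Fin 2)
        (X 0 * X 1 * (X 0 - X 1) * (X 2 * X 3 * (X 2 - X 3)) : MvPolynomial (Fin 4) k) =
        (X 0 * X 1 * (X 0 - X 1)) ^ 2 := by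
      simp only [map_sub, map_mul, rename_X]
      simp
      ring
    rw [this]
  have hσX : ∀ i : Fin 4, rename (![2, 3, 0, 1] : Fin 4 → Fin 4) (X i : MvPolynomial (Fin 4) k) =
      X ((![2, 3, 0, 1] : Fin 4 → Fin 4) i) := fun i => rename_X _ _
  have hσ0 : rename (![2, 3, 0, 1] : Fin 4 → Fin 4) (X 0 : MvPolynomial (Fin 4) k) = X 2 := hσX 0
  have hσ1 : rename (![2, 3, 0, 1] : Fin 4 → Fin 4) (X 1 : MvPolynomial (Fin 4) k) = X 3 := hσX 1
  have hσ2 : rename (![2, 3, 0, 1] : Fin 4 → Fin 4) (X 2 : MvPolynomial (Fin 4) k) = X 0 := hσX 2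
  have hσ3 : rename (![2, 3, 0, 1] : Fin 4 → Fin 4) (X 3 : MvPolynomial (Fin 4) k) = X 1 := hσX 3
  -- the ten generators
  have g0 := hcmem
  have g1 := hmem3 _ _ _ isB11_l isB11_l isB11_h rename_l
  have g2 := hmem3 _ _ _ isB11_l isB11_l isB11_h13 rename_l
  have g3 := hmem3 _ _ _ isB11_l isB11_l isB11_h23 rename_l
  have g4 := hmem3 _ _ _ isB11_l isB11_h isB11_h rename_l
  have g5 := hmem3 _ _ _ isB11_l isB11_h isB11_h13 rename_l
  have g6 := hmem3 _ _ _ isB11_l isB11_h isB11_h23 rename_l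
  have g7 := hmem3 _ _ _ isB11_l isB11_h13 isB11_h13 rename_l
  have g8 := hmem3 _ _ _ isB11_l isB11_h23 isB11_h23 rename_l
  have g9 := hmem3 _ _ _ isB11_l isB11_h13 isB11_h23 rename_l
  rw [← pow_two] at g1 g2 g3
  rw [mul_assoc, ← pow_two] at g4 g7 g8
  refine ⟨fun f => ⟨?_, ?_⟩, fun f => ⟨?_, ?_⟩, ?_⟩
  · rintro ⟨hfI, hfσ⟩
    obtain ⟨hw1, hw2, hdiv⟩ := (hI f).1 hfI
    obtain ⟨α0, α1, α2, α3, h6⟩ := sym_core f _ _ _ _ _ rfl rfl rfl rfl rfl hw1 hw2 hdiv hfσ
    refine (Submodule.smul_mem_iff _ (by norm_num : (6 : k) ≠ 0)).1 ?_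
    · rw [h6]
      refine Submodule.add_mem _ (Submodule.add_mem _ (Submodule.add_mem _ ?_ ?_) ?_) ?_
      · exact Submodule.smul_mem _ _ (Submodule.subset_span (Set.mem_insert _ _))
      · exact Submodule.smul_mem _ _ (Submodule.subset_span
          (Set.mem_insert_of_mem _ (Set.mem_insert _ _)))
      · exact Submodule.smul_mem _ _ (Submodule.subset_span
          (Set.mem_insert_of_mem _ (Set.mem_insert_of_mem _ (Set.mem_insert _ _))))
      · exact Submodule.smul_mem _ _ (Submodule.subset_span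
          (Set.mem_insert_of_mem _ (Set.mem_insert_of_mem _ (Set.mem_insert_of_mem _ rfl))))
  · intro hf
    suffices h : f ∈ I ⊓ LinearMap.eqLocus
        (rename (![2, 3, 0, 1] : Fin 4 → Fin 4) : MvPolynomial (Fin 4) k →ₐ[k] _).toLinearMap
        LinearMap.id from ⟨h.1, h.2⟩
    refine Submodule.span_le.2 ?_ hf
    · intro g hg
      simp only [Set.mem_insert_iff, Set.mem_singleton_iff] at hg
      rcases hg with rfl | rfl | rfl | rfl
      · refine ⟨g0, ?_⟩
        simp only [SetLike.mem_coe, LinearMap.mem_eqLocus, AlgHom.toLinearMap_apply, LinearMap.id_apply,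
          map_mul, map_sub, map_add, map_pow, hσ0, hσ1, hσ2, hσ3]
        ring
      · refine ⟨g1, ?_⟩
        simp only [SetLike.mem_coe, LinearMap.mem_eqLocus, AlgHom.toLinearMap_apply, LinearMap.id_apply,
          map_mul, map_sub, map_add, map_pow, hσ0, hσ1, hσ2, hσ3]
        ring
      · refine ⟨g2, ?_⟩
        simp only [SetLike.mem_coe, LinearMap.mem_eqLocus, AlgHom.toLinearMap_apply, LinearMap.id_apply,
          map_mul, map_sub, map_add, map_pow, hσ0, hσ1, hσ2, hσ3]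
        ring
      · refine ⟨g3, ?_⟩
        simp only [SetLike.mem_coe, LinearMap.mem_eqLocus, AlgHom.toLinearMap_apply, LinearMap.id_apply,
          map_mul, map_sub, map_add, map_pow, hσ0, hσ1, hσ2, hσ3]
        ring
  · rintro ⟨hfI, hfσ⟩
    obtain ⟨hw1, hw2, hdiv⟩ := (hI f).1 hfI
    obtain ⟨β0, β1, β2, β3, β4, β5, h6⟩ := anti_core f _ _ _ _ rfl rfl rfl rfl hw1 hw2 hfσ
    refine (Submodule.smul_mem_iff _ (by norm_num : (36 : k) ≠ 0)).1 ?_
    · rw [h6]
      refine Submodule.add_mem _ (Submodule.add_mem _ (Submodule.add_mem _ (Submodule.add_mem _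
        (Submodule.add_mem _ ?_ ?_) ?_) ?_) ?_) ?_
      · exact Submodule.smul_mem _ _ (Submodule.subset_span (Set.mem_insert _ _))
      · exact Submodule.smul_mem _ _ (Submodule.subset_span
          (Set.mem_insert_of_mem _ (Set.mem_insert _ _)))
      · exact Submodule.smul_mem _ _ (Submodule.subset_span
          (Set.mem_insert_of_mem _ (Set.mem_insert_of_mem _ (Set.mem_insert _ _))))
      · exact Submodule.smul_mem _ _ (Submodule.subset_span
          (Set.mem_insert_of_mem _ (Set.mem_insert_of_mem _ (Set.mem_insert_of_mem _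
            (Set.mem_insert _ _)))))
      · exact Submodule.smul_mem _ _ (Submodule.subset_span
          (Set.mem_insert_of_mem _ (Set.mem_insert_of_mem _ (Set.mem_insert_of_mem _
            (Set.mem_insert_of_mem _ (Set.mem_insert _ _))))))
      · exact Submodule.smul_mem _ _ (Submodule.subset_span
          (Set.mem_insert_of_mem _ (Set.mem_insert_of_mem _ (Set.mem_insert_of_mem _
            (Set.mem_insert_of_mem _ (Set.mem_insert_of_mem _ rfl))))))
  · intro hf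
    suffices h : f ∈ I ⊓ LinearMap.eqLocus
        (rename (![2, 3, 0, 1] : Fin 4 → Fin 4) : MvPolynomial (Fin 4) k →ₐ[k] _).toLinearMap
        (-LinearMap.id) from ⟨h.1, h.2⟩
    refine Submodule.span_le.2 ?_ hf
    · intro g hg
      simp only [Set.mem_insert_iff, Set.mem_singleton_iff] at hg
      rcases hg with rfl | rfl | rfl | rfl | rfl | rfl
      · refine ⟨g4, ?_⟩
        simp only [SetLike.mem_coe, LinearMap.mem_eqLocus, AlgHom.toLinearMap_apply, LinearMap.neg_apply,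
          LinearMap.id_apply, map_mul, map_sub, map_add, map_pow, hσ0, hσ1, hσ2, hσ3]
        ring
      · refine ⟨g5, ?_⟩
        simp only [SetLike.mem_coe, LinearMap.mem_eqLocus, AlgHom.toLinearMap_apply, LinearMap.neg_apply,
          LinearMap.id_apply, map_mul, map_sub, map_add, map_pow, hσ0, hσ1, hσ2, hσ3]
        ring
      · refine ⟨g6, ?_⟩
        simp only [SetLike.mem_coe, LinearMap.mem_eqLocus, AlgHom.toLinearMap_apply, LinearMap.neg_apply,
          LinearMap.id_apply, map_mul, map_sub, map_add, map_pow, hσ0, hσ1, hσ2, hσ3]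
        ring
      · refine ⟨g7, ?_⟩
        simp only [SetLike.mem_coe, LinearMap.mem_eqLocus, AlgHom.toLinearMap_apply, LinearMap.neg_apply,
          LinearMap.id_apply, map_mul, map_sub, map_add, map_pow, hσ0, hσ1, hσ2, hσ3]
        ring
      · refine ⟨g8, ?_⟩
        simp only [SetLike.mem_coe, LinearMap.mem_eqLocus, AlgHom.toLinearMap_apply, LinearMap.neg_apply,
          LinearMap.id_apply, map_mul, map_sub, map_add, map_pow, hσ0, hσ1, hσ2, hσ3]
        ring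
      · refine ⟨g9, ?_⟩
        simp only [SetLike.mem_coe, LinearMap.mem_eqLocus, AlgHom.toLinearMap_apply, LinearMap.neg_apply,
          LinearMap.id_apply, map_mul, map_sub, map_add, map_pow, hσ0, hσ1, hσ2, hσ3]
        ring
  · rw [Fintype.linearIndependent_iff]
    intro g hg
    simp only [Fin.sum_univ_succ, Fin.sum_univ_zero, Matrix.cons_val_zero, Matrix.cons_val_succ,
      add_zero] at hg
    simp only [Fin.isValue, Fin.succ_zero_eq_one, Fin.succ_one_eq_two, Fin.reduceSucc] at hg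
    have e0 : (-24) * g 1 + (-72) * g 4 = 0 := by
      have := congrArg (MvPolynomial.eval (![2, 0, 0, -1] : Fin 4 → k)) hg
      rw [map_zero] at this
      refine Eq.trans ?_ this
      simp only [map_add, map_mul, map_sub, map_pow, eval_X, eval_C, smul_eq_C_mul]
      simp
      ring
    have e1 : (-4) * g 0 + (-45) * g 1 + (-36) * g 2 + 18 * g 3 + (-75) * g 4 + (-60) * g 5 + 30 * g 6 + (-48) * g 7 + (-12) * g 8 + 24 * g 9 = 0 := by
      have := congrArg (MvPolynomial.eval (![2, 1, 1, -1] : Fin 4 → k)) hg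
      rw [map_zero] at this
      refine Eq.trans ?_ this
      simp only [map_add, map_mul, map_sub, map_pow, eval_X, eval_C, smul_eq_C_mul]
      simp
      ring
    have e2 : (-4) * g 0 = 0 := by
      have := congrArg (MvPolynomial.eval (![1, -1, -1, 1] : Fin 4 → k)) hg
      rw [map_zero] at this
      refine Eq.trans ?_ this
      simp only [map_add, map_mul, map_sub, map_pow, eval_X, eval_C, smul_eq_C_mul]
      simp
      ring
    have e3 : 3 * g 1 + (-2) * g 2 + (-4) * g 3 + (-9) * g 4 + 6 * g 5 + 12 * g 6 + (-4) * g 7 + (-16) * g 8 + (-8) * g 9 = 0 := by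
      have := congrArg (MvPolynomial.eval (![1, 2, 1, 1] : Fin 4 → k)) hg
      rw [map_zero] at this
      refine Eq.trans ?_ this
      simp only [map_add, map_mul, map_sub, map_pow, eval_X, eval_C, smul_eq_C_mul]
      simp
      ring
    have e4 : (-1) * g 1 + 2 * g 3 + 1 * g 4 + (-2) * g 6 + 4 * g 8 = 0 := by
      have := congrArg (MvPolynomial.eval (![0, 1, -1, -1] : Fin 4 → k)) hg
      rw [map_zero] at this
      refine Eq.trans ?_ this
      simp only [map_add, map_mul, map_sub, map_pow, eval_X, eval_C, smul_eq_C_mul]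
      simp
      ring
    have e5 : 5 * g 1 + 2 * g 3 + 25 * g 4 + 10 * g 6 + 4 * g 8 = 0 := by
      have := congrArg (MvPolynomial.eval (![1, -1, 0, 1] : Fin 4 → k)) hg
      rw [map_zero] at this
      refine Eq.trans ?_ this
      simp only [map_add, map_mul, map_sub, map_pow, eval_X, eval_C, smul_eq_C_mul]
      simp
      ring
    have e6 : (-32) * g 1 + (-8) * g 3 + (-128) * g 4 + (-32) * g 6 + (-8) * g 8 = 0 := by
      have := congrArg (MvPolynomial.eval (![2, -1, 0, -1] : Fin 4 → k)) hg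
      rw [map_zero] at this
      refine Eq.trans ?_ this
      simp only [map_add, map_mul, map_sub, map_pow, eval_X, eval_C, smul_eq_C_mul]
      simp
      ring
    have e7 : 8 * g 1 + (-16) * g 2 + (-8) * g 4 + 16 * g 5 + (-32) * g 7 = 0 := by
      have := congrArg (MvPolynomial.eval (![1, 1, 2, 0] : Fin 4 → k)) hg
      rw [map_zero] at this
      refine Eq.trans ?_ this
      simp only [map_add, map_mul, map_sub, map_pow, eval_X, eval_C, smul_eq_C_mul]
      simp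
      ring
    have e8 : 8 * g 2 + (-8) * g 3 + 8 * g 7 + 8 * g 8 + (-8) * g 9 = 0 := by
      have := congrArg (MvPolynomial.eval (![1, 1, -1, 1] : Fin 4 → k)) hg
      rw [map_zero] at this
      refine Eq.trans ?_ this
      simp only [map_add, map_mul, map_sub, map_pow, eval_X, eval_C, smul_eq_C_mul]
      simp
      ring
    have e9 : (-1) * g 1 + (-4) * g 3 + (-1) * g 4 + (-4) * g 6 + (-16) * g 8 = 0 := by
      have := congrArg (MvPolynomial.eval (![0, 1, 1, 2] : Fin 4 → k)) hg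
      rw [map_zero] at this
      refine Eq.trans ?_ this
      simp only [map_add, map_mul, map_sub, map_pow, eval_X, eval_C, smul_eq_C_mul]
      simp
      ring
    have a0 : g 0 = 0 := by linear_combination (-1/4) * e2
    have a1 : g 1 = 0 := by linear_combination (1/16) * e0 + (-1/3) * e4 + (-2/3) * e5 + (-1/6) * e6 + (-1/6) * e9
    have a2 : g 2 = 0 := by linear_combination (25/32) * e0 + (-1/4) * e3 + (-2/3) * e4 + (-10/3) * e5 + (-13/12) * e6 + (3/32) * e7 + (1/4) * e8 + (-1/12) * e9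
    have a3 : g 3 = 0 := by linear_combination (7/32) * e0 + (1/12) * e4 + (-13/12) * e5 + (-1/3) * e6 + (-1/12) * e9
    have a4 : g 4 = 0 := by linear_combination (-5/144) * e0 + (1/9) * e4 + (2/9) * e5 + (1/18) * e6 + (1/18) * e9
    have a5 : g 5 = 0 := by linear_combination (-7/288) * e0 + (-1/72) * e1 + (1/72) * e2 + (5/72) * e4 + (7/18) * e5 + (7/72) * e6 + (1/96) * e7 + (-1/24) * e8 + (1/18) * e9
    have a6 : g 6 = 0 := by linear_combination (11/288) * e0 + (-5/36) * e4 + (-1/36) * e5 + (-1/36) * e6 + (-1/36) * e9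
    have a7 : g 7 = 0 := by linear_combination (-109/288) * e0 + (-1/144) * e1 + (1/144) * e2 + (1/8) * e3 + (37/144) * e4 + (59/36) * e5 + (77/144) * e6 + (-7/96) * e7 + (-7/48) * e8 + (1/72) * e9
    have a8 : g 8 = 0 := by linear_combination (-19/288) * e0 + (1/36) * e4 + (11/36) * e5 + (7/72) * e6 + (-1/36) * e9
    have a9 : g 9 = 0 := by linear_combination (17/144) * e0 + (-1/144) * e1 + (1/144) * e2 + (-1/8) * e3 + (-67/144) * e4 + (-11/36) * e5 + (-17/144) * e6 + (1/48) * e7 + (-1/48) * e8 + (-1/72) * e9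
    intro i
    fin_cases i
    · exact a0
    · exact a1
    · exact a2
    · exact a3
    · exact a4
    · exact a5
    · exact a6
    · exact a7
    · exact a8
    · exact a9

end Groth.Agent.S16153
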