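import Groth.Statements.S16156
import Mathlib.Tactic
-- import your own Groth.Agent.* helpers here

set_option autoImplicit false
universe u
open MukaiVec

namespace Groth.Agent.S16156

/-- Let N be an abelian group with a symmetric integer-valued bilinear form and H an element with H·H =
2n for some n > 0 such that every x with x·H = 0 satisfies x·x ≤ 0 (the Hodge index inequality). Fix
integers r ≥ 2, d > 0 and χ < 0 (a Mukai vector v = (r, dH, χ)) and an isotropic Mukai vector u =
(p, η, q), p ≥ 0, η ∈ N, η·η = 2pq, whose pairing ⟨v, u⟩ = d(H·η) − rq − χp has absolute value 1 or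
2. Exclude the case d = 1, χ = −1, H·η = 1, η·η = 0, and when r = 2 also the case p = 0, H·η = 0.
Then the pairings of u∨ = (p, −η, q) with w₀ = (0, rH, −2nd) and with w₁ = (2nd, −χH, 0) are both
non-negative or both negative: 2ndp − r(H·η) ≥ 0 holds if and only if χ(H·η) − 2ndq ≥ 0 holds. -/
theorem result
    (N : Type u) [AddCommGroup N] (B : LinearMap.BilinForm ℤ N) (hB : ∀ x y : N, B x y = B y x)
    (H : N) (n : ℤ) (hn : 0 < n) (hH : B H H = 2 * n) (hodge : ∀ x : N, B x H = 0 → B x x ≤ 0)
    (r d χ p q : ℤ) (η : N) (hr : 2 ≤ r) (hd : 0 < d) (hχ : χ < 0) (hp : 0 ≤ p)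
    (hiso : B η η = 2 * p * q)
    (hvu : 1 ≤ |d * B H η - r * q - χ * p| ∧ |d * B H η - r * q - χ * p| ≤ 2)
    (hexc : ¬ (d = 1 ∧ χ = -1 ∧ B H η = 1 ∧ B η η = 0))
    (hr2 : r = 2 → ¬ (p = 0 ∧ B H η = 0)) :
    (0 ≤ 2 * n * d * p - r * B H η ↔ 0 ≤ χ * B H η - 2 * n * d * q) := by
  obtain ⟨hm1, hm2⟩ := hvu
  -- Hodge index inequality applied to x = 2n η - a H
  have hodge' : 4 * n * p * q ≤ B H η * B H η := by
    have hx : B ((2 * n) • η - (B H η) • H) H = 0 := by
      simp only [map_sub, map_smul, LinearMap.sub_apply, LinearMap.smul_apply, smul_eq_mul]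
      rw [hB η H, hH]; ring
    have h1 := hodge _ hx
    have h2 : B ((2 * n) • η - (B H η) • H) ((2 * n) • η - (B H η) • H) =
        (2 * n) * (2 * n) * B η η - 2 * (2 * n) * (B H η) * B H η + B H η * B H η * B H H := by
      simp only [map_sub, map_smul, LinearMap.sub_apply, LinearMap.smul_apply, smul_eq_mul]
      rw [hB η H]; ring
    rw [h2, hiso, hH] at h1
    have h3 : 2 * n * (4 * n * p * q - B H η * B H η) ≤ 0 := by nlinarith
    by_contra hcon
    rw [not_le] at hcon
    have : 0 < 2 * n * (4 * n * p * q - B H η * B H η) := by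
      apply mul_pos (by linarith) (by linarith)
    linarith
  rw [hiso] at hexc
  generalize B H η = a at *
  rw [abs_le] at hm2
  obtain ⟨hm2a, hm2b⟩ := hm2
  constructor
  · intro hX
    by_contra hY
    rw [not_le] at hY
    rcases lt_trichotomy a 0 with ha | ha | ha
    · -- a < 0
      have hχa : 0 < χ * a := mul_pos_of_neg_of_neg hχ ha
      have hq : 0 < q := by
        by_contra hq
        rw [not_lt] at hq
        have : 2 * n * d * q ≤ 0 := by
          have : 0 ≤ 2 * n * d := by positivity
          nlinarith
        linarith
      -- 2 (-χ) p (-a) ≤ d a^2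
      have h1 : χ * a * p ≤ 2 * n * d * q * p := by nlinarith
      have h2 : 2 * (χ * a * p) ≤ d * (a * a) := by nlinarith
      have h3 : 2 * (-χ) * p ≤ d * (-a) := by
        by_contra hcon
        rw [not_le] at hcon
        have : d * (-a) * (-a) < 2 * (-χ) * p * (-a) := by
          apply mul_lt_mul_of_pos_right hcon (by linarith)
        nlinarith
      have h4 : d * a ≤ -1 := by nlinarith
      have h5 : 2 ≤ r * q := by nlinarith
      nlinarith
    · -- a = 0
      rw [ha] at hY hm1 hm2a hm2b hodge' hX
      simp only [mul_zero, sub_zero, zero_sub, zero_mul] at hY hm1 hm2a hm2b hodge' hX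
      have hq : 0 < q := by
        by_contra hq
        rw [not_lt] at hq
        have : 0 ≤ 2 * n * d := by positivity
        nlinarith
      have hp0 : p = 0 := by
        by_contra hp0
        have hp' : 0 < p := lt_of_le_of_ne hp (Ne.symm hp0)
        have : 0 < 4 * n * p * q := by positivity
        linarith
      rw [hp0] at hm1 hm2a hm2b
      simp only [mul_zero, sub_zero] at hm1 hm2a hm2b
      have hr2' : r = 2 := by nlinarith
      exact hr2 hr2' ⟨hp0, ha⟩
    · -- a > 0
      have hp' : 0 < p := by
        by_contra hp'
        have hp0 : p = 0 := le_antisymm (not_lt.mp hp') hp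
        subst hp0
        have : 0 < r * a := by positivity
        simp at hX
        nlinarith
      rcases le_or_gt q 0 with hq | hq
      · -- q ≤ 0
        have h1 : 1 ≤ d * a := by nlinarith
        have h2 : 1 ≤ -χ * p := by nlinarith
        have h3 : 0 ≤ r * (-q) := by nlinarith
        have h4 : d * a = 1 := by nlinarith
        have h5 : -χ * p = 1 := by nlinarith
        have h6 : r * (-q) = 0 := by nlinarith
        have hd1 : d = 1 := by nlinarith
        have ha1 : a = 1 := by subst hd1; linarith
        have hχ1 : χ = -1 := by nlinarith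
        have hp1 : p = 1 := by subst hχ1; linarith
        have hq0 : q = 0 := by
          rcases mul_eq_zero.mp h6 with h | h
          · linarith
          · linarith
        apply hexc
        refine ⟨hd1, hχ1, ha1, ?_⟩
        rw [hq0]; ring
      · -- q > 0
        have h1 : r * a * q ≤ 2 * n * d * p * q := by nlinarith
        have h2 : 2 * (r * a * q) ≤ d * (a * a) := by nlinarith
        have h3 : 2 * (r * q) ≤ d * a := by
          by_contra hcon
          rw [not_le] at hcon
          have : d * a * a < 2 * (r * q) * a := mul_lt_mul_of_pos_right hcon ha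
          nlinarith
        have h4 : 1 ≤ d * a := by nlinarith
        have h5 : 1 ≤ -χ * p := by nlinarith
        have h6 : -χ * p = 1 := by nlinarith
        have hχ1 : χ = -1 := by nlinarith
        have hp1 : p = 1 := by subst hχ1; linarith
        subst hχ1 hp1
        have h7 : d * a ≤ 2 := by nlinarith
        have h8 : 1 ≤ n * q := by nlinarith
        have h9 : 2 ≤ a := by nlinarith
        have hd1 : d = 1 := by nlinarith
        subst hd1
        have ha2 : a = 2 := by linarith
        subst ha2
        nlinarith
  · intro hY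
    by_contra hX
    rw [not_le] at hX
    have ha : 0 < a := by
      by_contra ha
      rw [not_lt] at ha
      have : 0 ≤ 2 * n * d * p := by positivity
      nlinarith
    have hq : q < 0 := by
      by_contra hq
      rw [not_lt] at hq
      have : 0 ≤ 2 * n * d * q := by positivity
      nlinarith
    have h1 : 1 ≤ d * a := by nlinarith
    have h2 : 2 ≤ r * (-q) := by nlinarith
    have h3 : 0 ≤ -χ * p := by nlinarith
    nlinarith

end Groth.Agent.S16156
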