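import Groth.Statements.S16158
import Mathlib.Tactic
import Mathlib.RingTheory.Ideal.AssociatedPrime.Finiteness
-- import your own Groth.Agent.* helpers here

set_option autoImplicit false
universe u v w
open MadRed

namespace Groth.Agent.S16158

/-- Let R be a commutative Noetherian ring and M a finitely generated R-module. Then there is a natural
number n such that in every decomposition of M as an internal direct sum of a family of submodules,
at most n of the summands are nonzero (the nonzero summands are indexed by a finite set of size at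
most n). -/
theorem result (R : Type u) [CommRing R] [IsNoetherianRing R]
    (M : Type v) [AddCommGroup M] [Module R M] [Module.Finite R M] :
    ∃ n : ℕ, ∀ (ι : Type w) [DecidableEq ι] (N : ι → Submodule R M), DirectSum.IsInternal N →
      ∃ s : Finset ι, s.card ≤ n ∧ ∀ i, N i ≠ ⊥ → i ∈ s := by
  classical
  have hfin : (associatedPrimes R M).Finite := associatedPrimes.finite R M
  let g : Ideal R → ℕ := fun 𝔮 => Module.finrank (R ⧸ 𝔮) (Submodule.torsionBySet R M (𝔮 : Set R))
  refine ⟨∑ 𝔮 ∈ hfin.toFinset, g 𝔮, ?_⟩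
  intro ι _ N hN
  have hind := hN.submodule_iSupIndep
  -- directness
  have hdirect : ∀ (t : Finset ι) (y : ι → M), (∀ i ∈ t, y i ∈ N i) → ∑ i ∈ t, y i = 0 →
      ∀ i ∈ t, y i = 0 := by
    intro t y hy hsum j hj
    have h1 : y j = - ∑ i ∈ t.erase j, y i := by
      rw [← Finset.add_sum_erase t y hj] at hsum
      exact eq_neg_of_add_eq_zero_left hsum
    have h2 : y j ∈ ⨆ (i) (_ : i ≠ j), N i := by
      rw [h1]
      apply Submodule.neg_mem
      apply Submodule.sum_mem
      intro i hi
      exact Submodule.mem_iSup_of_mem i (Submodule.mem_iSup_of_mem (Finset.ne_of_mem_erase hi)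
        (hy i (Finset.mem_of_mem_erase hi)))
    exact (Submodule.disjoint_def.mp (hind j)) _ (hy j hj) h2
  -- choices
  have hex : ∀ i, N i ≠ ⊥ → ∃ (𝔭 : Ideal R) (x : M),
      𝔭 ∈ associatedPrimes R M ∧ x ∈ N i ∧ ∀ r, r ∈ 𝔭 ↔ r • x = 0 := by
    intro i hi
    have : Nontrivial (N i) := Submodule.nontrivial_iff_ne_bot.mpr hi
    obtain ⟨𝔭, h𝔭⟩ := associatedPrimes.nonempty R (N i)
    refine ⟨𝔭, ?_⟩
    obtain ⟨hp, x, hx⟩ := (isAssociatedPrime_iff).mp h𝔭
    refine ⟨x, associatedPrimes.subset_of_injective (f := (N i).subtype) (N i).subtype_injective h𝔭,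
      x.2, ?_⟩
    intro r
    rw [hx, Submodule.mem_colon_singleton, Submodule.mem_bot]
    rw [← Submodule.coe_smul, Submodule.coe_eq_zero]
  choose! 𝔭 x h𝔭 hxN hx using hex
  -- bound for finsets
  have hbound : ∀ t : Finset ι, (∀ i ∈ t, N i ≠ ⊥) → t.card ≤ ∑ 𝔮 ∈ hfin.toFinset, g 𝔮 := by
    intro t ht
    rw [Finset.card_eq_sum_card_fiberwise (f := 𝔭) (t := hfin.toFinset)
      (fun i hi => by simpa using h𝔭 i (ht i hi))]
    apply Finset.sum_le_sum
    intro 𝔮 h𝔮
    have h𝔮' : 𝔮.IsPrime := ((hfin.mem_toFinset).mp h𝔮).isPrime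
    set t' := t.filter (fun i => 𝔭 i = 𝔮) with ht'
    have hmem : ∀ i : t', x i ∈ Submodule.torsionBySet R M (𝔮 : Set R) := by
      intro i
      rw [Submodule.mem_torsionBySet_iff]
      rintro ⟨a, ha⟩
      have hi := Finset.mem_filter.mp i.2
      exact (hx i (ht i hi.1) a).mp (by rw [hi.2]; exact ha)
    let v : t' → Submodule.torsionBySet R M (𝔮 : Set R) := fun i => ⟨x i, hmem i⟩
    have hv : LinearIndependent (R ⧸ 𝔮) v := by
      rw [Fintype.linearIndependent_iff]
      intro c hc i
      choose r hr using fun i => Ideal.Quotient.mk_surjective (c i)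
      have h1 : ∑ j : t', r j • x j = 0 := by
        have := congrArg (Subtype.val) hc
        simp only [← hr, Submodule.torsionBySet.mk_smul] at this
        simpa [v] using this
      have h2 : ∑ j ∈ t', (if h : j ∈ t' then r ⟨j, h⟩ • x j else 0) = 0 := by
        rw [← Finset.sum_coe_sort t']
        rw [← h1]
        apply Finset.sum_congr rfl
        intro j _
        simp
      have h3 := hdirect t' _ (fun j hj => by
        rw [dif_pos hj]
        exact (N j).smul_mem _ (hxN j (ht j (Finset.mem_filter.mp hj).1))) h2 i i.2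
      rw [dif_pos i.2] at h3
      have hi := Finset.mem_filter.mp i.2
      have h4 : r i ∈ 𝔮 := by
        rw [← hi.2]
        exact (hx i (ht i hi.1) (r i)).mpr h3
      rw [← hr i]
      exact Ideal.Quotient.eq_zero_iff_mem.mpr h4
    have : Module.Finite R (Submodule.torsionBySet R M (𝔮 : Set R)) := inferInstance
    have : Module.Finite (R ⧸ 𝔮) (Submodule.torsionBySet R M (𝔮 : Set R)) :=
      Module.Finite.of_restrictScalars_finite R _ _
    have h5 := hv.fintype_card_le_finrank
    simpa using h5
  have hAfin : {i | N i ≠ ⊥}.Finite := by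
    by_contra hinf
    obtain ⟨t, ht, htc⟩ := Set.Infinite.exists_subset_card_eq hinf (∑ 𝔮 ∈ hfin.toFinset, g 𝔮 + 1)
    have := hbound t (fun i hi => ht hi)
    omega
  refine ⟨hAfin.toFinset, hbound _ (fun i hi => by simpa using hi), fun i hi => by simpa using hi⟩

end Groth.Agent.S16158
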