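import Groth.Statements.S16159
import Mathlib.Tactic
-- import your own Groth.Agent.* helpers here

set_option autoImplicit false
universe u v w x
open MadRed

namespace Groth.Agent.S16159

/-- components of a vector of a stable subspace along eigenspaces lie in the subspace -/
theorem comp_mem {k : Type*} [Field k] {V : Type*} [AddCommGroup V] [Module k V]
    (g : V →ₗ[k] V) (Q : Submodule k V) (hQ : ∀ x ∈ Q, g x ∈ Q) :
    ∀ (s : Finset k) (y : k → V), (∀ μ ∈ s, g (y μ) = μ • y μ) → ∑ μ ∈ s, y μ ∈ Q →
      ∀ μ ∈ s, y μ ∈ Q := by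
  classical
  intro s
  induction s using Finset.induction_on with
  | empty => intro y _ _ μ hμ; simp at hμ
  | insert ν t hν ih =>
    intro y hy hsum
    have h1 : ∑ μ ∈ t, (μ - ν) • y μ ∈ Q := by
      have h2 := Q.sub_mem (hQ _ hsum) (Q.smul_mem ν hsum)
      convert h2 using 1
      rw [Finset.sum_insert hν, map_add, map_sum, hy ν (Finset.mem_insert_self _ _), smul_add,
        Finset.smul_sum, add_sub_add_left_eq_sub, ← Finset.sum_sub_distrib]
      apply Finset.sum_congr rfl
      intro μ hμ
      rw [hy μ (Finset.mem_insert_of_mem hμ), sub_smul]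
    have h3 : ∀ μ ∈ t, y μ ∈ Q := by
      intro μ hμ
      have := ih (fun μ => (μ - ν) • y μ) (fun μ hμ => by
        simp only [map_smul, hy μ (Finset.mem_insert_of_mem hμ)]; rw [smul_comm]) h1 μ hμ
      have hne : μ - ν ≠ 0 := sub_ne_zero.mpr (fun h => hν (h ▸ hμ))
      simpa [smul_smul, inv_mul_cancel₀ hne] using Q.smul_mem (μ - ν)⁻¹ this
    intro μ hμ
    rcases Finset.mem_insert.mp hμ with rfl | hμ
    · have : y μ = ∑ μ' ∈ insert μ t, y μ' - ∑ μ' ∈ t, y μ' := by
        rw [Finset.sum_insert hν]; abel
      rw [this]; exact Q.sub_mem hsum (Q.sum_mem h3)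
    · exact h3 μ hμ

/-- Let k be a field, R a commutative Noetherian k-algebra and V an R-module, viewed also as a k-vector
space through k → R. Let (f_i) be a family of pairwise commuting R-linear endomorphisms of V such
that each f_i, as a k-linear map, is diagonalizable over k (its eigenspaces span V), and such that
every vector of V lies in a finitely generated R-submodule stable under every f_i. Then the family
is simultaneously diagonalizable over k: the common eigenspaces ⨅_i Eig(f_i, χ(i)), over all
assignments χ of eigenvalues in k, span V. The source states this for the endomorphisms given by an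
abelian group acting R-linearly; the row takes any commuting family, which is what the argument
uses, and neither k algebraically closed nor of characteristic zero is needed. -/
theorem result
    (k : Type u) [Field k] (R : Type v) [CommRing R] [Algebra k R] [IsNoetherianRing R]
    (V : Type w) [AddCommGroup V] [Module R V] [Module k V] [IsScalarTower k R V]
    (ι : Type x) (f : ι → Module.End R V)
    (hcomm : ∀ i j, Commute (f i) (f j))
    (hdiag : ∀ i, ⨆ μ : k, Module.End.eigenspace ((f i).restrictScalars k) μ = ⊤)
    (hfin : ∀ v : V, ∃ W : Submodule R V, v ∈ W ∧ W.FG ∧ ∀ i, ∀ w ∈ W, f i w ∈ W) :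
    ⨆ χ : ι → k, ⨅ i, Module.End.eigenspace ((f i).restrictScalars k) (χ i) = ⊤ := by
  classical
  rw [eq_top_iff]
  intro v _
  obtain ⟨W, hvW, hWfg, hWstab⟩ := hfin v
  have : IsNoetherian R W := isNoetherian_of_fg_of_noetherian W hWfg
  -- decomposition of elements of a stable R-submodule
  have dec : ∀ (i : ι) (Q : Submodule R V), (∀ x ∈ Q, f i x ∈ Q) → ∀ x ∈ Q,
      ∃ c : k →₀ V, (∀ μ, c μ ∈ Q ∧ f i (c μ) = μ • c μ) ∧ (c.sum fun _ w => w) = x := by
    intro i Q hQ x hx
    have hx' : x ∈ ⨆ μ, Module.End.eigenspace ((f i).restrictScalars k) μ := by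
      rw [hdiag i]; trivial
    obtain ⟨c, hc, hcx⟩ := (Submodule.mem_iSup_iff_exists_finsupp _ _).mp hx'
    have hc' : ∀ μ, f i (c μ) = μ • c μ := fun μ => Module.End.mem_eigenspace_iff.mp (hc μ)
    refine ⟨c, fun μ => ⟨?_, hc' μ⟩, hcx⟩
    by_cases hμ : μ ∈ c.support
    · exact comp_mem ((f i).restrictScalars k) (Q.restrictScalars k) hQ c.support c
        (fun μ _ => hc' μ) (by rw [Finsupp.sum] at hcx; rw [hcx]; exact hx) μ hμ
    · rw [Finsupp.notMem_support_iff.mp hμ]; exact Q.zero_mem
  have key : ∀ P : Submodule R W, ∀ Q : Submodule R V, Q ≤ W → (∀ i, ∀ x ∈ Q, f i x ∈ Q) →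
      Disjoint (P.map W.subtype) Q → ∀ x ∈ Q,
        x ∈ ⨆ χ : ι → k, ⨅ i, Module.End.eigenspace ((f i).restrictScalars k) (χ i) := by
    intro P
    induction P using WellFoundedGT.induction with
    | ind P ih =>
      intro Q hQW hQs hd x hx
      by_cases hB : ∀ i, ∃ μ : k, ∀ y ∈ Q, f i y = μ • y
      · choose χ hχ using hB
        apply Submodule.mem_iSup_of_mem χ
        rw [Submodule.mem_iInf]
        intro i
        rw [Module.End.mem_eigenspace_iff]
        exact hχ i x hx
      · push Not at hB
        obtain ⟨i, hi⟩ := hB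
        obtain ⟨c, hc, hcx⟩ := dec i Q (hQs i) x hx
        rw [← hcx]
        apply Submodule.sum_mem
        intro μ _
        -- find another eigenvalue with nonzero eigenvector in Q
        obtain ⟨y, hyQ, hy⟩ := hi μ
        obtain ⟨c', hc', hcy⟩ := dec i Q (hQs i) y hyQ
        obtain ⟨ν, hνμ, hν0⟩ : ∃ ν, ν ≠ μ ∧ c' ν ≠ 0 := by
          by_contra hcon
          push Not at hcon
          apply hy
          have : y = c' μ := by
            rw [← hcy, Finsupp.sum]
            by_cases hμs : μ ∈ c'.support
            · rw [Finset.sum_eq_single_of_mem μ hμs]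
              intro ν _ hνμ
              exact hcon ν hνμ
            · rw [Finsupp.notMem_support_iff.mp hμs]
              apply Finset.sum_eq_zero
              intro ν hν
              by_cases hνμ : ν = μ
              · rw [hνμ, Finsupp.notMem_support_iff.mp hμs]
              · exact hcon ν hνμ
          rw [this]
          exact (hc' μ).2
        -- R-eigenspaces
        let E : k → Submodule R V := fun μ =>
          LinearMap.ker (f i - algebraMap k R μ • (1 : Module.End R V))
        have hE : ∀ (μ : k) (x : V), x ∈ E μ ↔ f i x = μ • x := by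
          intro μ x
          simp only [E, LinearMap.mem_ker, LinearMap.sub_apply, LinearMap.smul_apply,
            Module.End.one_apply, algebraMap_smul, sub_eq_zero]
        have hstab : ∀ (μ : k) (j : ι), ∀ x ∈ Q ⊓ E μ, f j x ∈ Q ⊓ E μ := by
          intro μ j x hx
          refine ⟨hQs j x hx.1, ?_⟩
          apply (hE μ _).mpr
          have h1 : f i (f j x) = f j (f i x) := by
            have := LinearMap.congr_fun (hcomm i j).eq x
            simpa using this
          rw [h1, (hE μ x).mp hx.2, LinearMap.map_smul_of_tower]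
        have hdisj2 : Disjoint (Q ⊓ E ν) (Q ⊓ E μ) := by
          rw [Submodule.disjoint_def]
          intro x hx1 hx2
          have h1 := (hE ν x).mp hx1.2
          have h2 := (hE μ x).mp hx2.2
          have h3 : (ν - μ) • x = 0 := by rw [sub_smul, ← h1, ← h2, sub_self]
          rcases smul_eq_zero.mp h3 with h | h
          · exact absurd (sub_eq_zero.mp h) hνμ
          · exact h
        have hmap : (P ⊔ (Q ⊓ E ν).comap W.subtype).map W.subtype =
            P.map W.subtype ⊔ (Q ⊓ E ν) := by
          rw [Submodule.map_sup, Submodule.map_comap_subtype,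
            inf_eq_right.mpr (inf_le_left.trans hQW)]
        have hlt : P < P ⊔ (Q ⊓ E ν).comap W.subtype := by
          rw [SetLike.lt_iff_le_and_exists]
          refine ⟨le_sup_left, ⟨c' ν, hQW (hc' ν).1⟩, ?_, ?_⟩
          · apply Submodule.mem_sup_right
            exact ⟨(hc' ν).1, (hE ν _).mpr (hc' ν).2⟩
          · intro hP
            apply hν0
            have h1 : c' ν ∈ P.map W.subtype := ⟨⟨c' ν, hQW (hc' ν).1⟩, hP, rfl⟩
            exact (Submodule.disjoint_def.mp hd) _ h1 (hc' ν).1
        refine ih _ hlt (Q ⊓ E μ) (inf_le_left.trans hQW) (hstab μ) ?_ (c μ)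
          ⟨(hc μ).1, (hE μ _).mpr (hc μ).2⟩
        rw [hmap]
        apply Disjoint.disjoint_sup_left_of_disjoint_sup_right hdisj2
        exact hd.mono_right (sup_le inf_le_left inf_le_left)
  exact key ⊥ W le_rfl hWstab (by simp) v hvW

end Groth.Agent.S16159
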