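import Groth.Statements.S16160
import Mathlib
-- import your own Groth.Agent.* helpers here

set_option autoImplicit false
universe u v w
open scoped TensorProduct
open MadRed

namespace Groth.Agent.S16160

open Module.End

section Core
variable {k R M : Type*} [Field k] [CommRing R] [Algebra k R] [AddCommGroup M] [Module R M]

lemma inv_aux (f : M →ₗ[R] M) (p : Submodule R M) (hp : ∀ x ∈ p, f x ∈ p) (S : Finset k) :
    ∀ (v : k → M), (∀ μ ∈ S, f (v μ) = algebraMap k R μ • v μ) → ∑ μ ∈ S, v μ ∈ p →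
      ∀ μ ∈ S, v μ ∈ p := by
  classical
  induction S using Finset.induction_on with
  | empty => intro v _ _ μ hμ; simp at hμ
  | insert μ₀ S hμ₀ ih =>
    intro v hv hsum
    rw [Finset.sum_insert hμ₀] at hsum
    have h1 : f (v μ₀ + ∑ μ ∈ S, v μ) - algebraMap k R μ₀ • (v μ₀ + ∑ μ ∈ S, v μ) ∈ p :=
      p.sub_mem (hp _ hsum) (p.smul_mem _ hsum)
    have h2 : f (v μ₀ + ∑ μ ∈ S, v μ) - algebraMap k R μ₀ • (v μ₀ + ∑ μ ∈ S, v μ)
        = ∑ μ ∈ S, (algebraMap k R (μ - μ₀)) • v μ := by
      rw [map_add, map_sum, hv μ₀ (Finset.mem_insert_self _ _), smul_add, Finset.smul_sum,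
        add_sub_add_left_eq_sub, ← Finset.sum_sub_distrib]
      refine Finset.sum_congr rfl fun μ hμ => ?_
      rw [hv μ (Finset.mem_insert_of_mem hμ), map_sub, sub_smul]
    have h3 := ih (fun μ => algebraMap k R (μ - μ₀) • v μ)
      (fun μ hμ => by rw [map_smul, hv μ (Finset.mem_insert_of_mem hμ), smul_comm]) (h2 ▸ h1)
    have h4 : ∀ μ ∈ S, v μ ∈ p := fun μ hμ => by
      have hne : μ - μ₀ ≠ 0 := sub_ne_zero.mpr (fun h => hμ₀ (h ▸ hμ))
      have := p.smul_mem (algebraMap k R (μ - μ₀)⁻¹) (h3 μ hμ)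
      rwa [smul_smul, ← map_mul, inv_mul_cancel₀ hne, map_one, one_smul] at this
    intro μ hμ
    rcases Finset.mem_insert.mp hμ with rfl | hμ
    · have := p.sub_mem hsum (p.sum_mem h4); simpa using this
    · exact h4 μ hμ

lemma inf_iSup_eig (f : M →ₗ[R] M) (p : Submodule R M) (hp : ∀ x ∈ p, f x ∈ p) :
    p ⊓ ⨆ μ : k, eigenspace f (algebraMap k R μ) ≤ ⨆ μ : k, p ⊓ eigenspace f (algebraMap k R μ) := by
  classical
  rintro x ⟨hxp, hx⟩
  obtain ⟨v, hv, rfl⟩ := (Submodule.mem_iSup_iff_exists_finsupp _ _).mp hx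
  have := inv_aux f p hp v.support v (fun μ _ => mem_eigenspace_iff.mp (hv μ)) hxp
  exact Submodule.sum_mem _ fun μ hμ => Submodule.mem_iSup_of_mem μ ⟨this μ hμ, hv μ⟩

lemma eig_disjoint (f : M →ₗ[R] M) (μ : k) :
    eigenspace f (algebraMap k R μ) ⊓ (⨆ ν : k, ⨆ (_ : ν ≠ μ), eigenspace f (algebraMap k R ν)) = ⊥ := by
  classical
  rw [eq_bot_iff]
  rintro x ⟨hx, hx'⟩
  obtain ⟨v, hv, rfl⟩ := (Submodule.mem_iSup_iff_exists_finsupp _ _).mp hx'
  have hvμ : v μ = 0 := by
    have := hv μ
    simpa using this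
  have hv' : ∀ ν, v ν ∈ eigenspace f (algebraMap k R ν) := by
    intro ν
    by_cases hν : ν = μ
    · rw [hν, hvμ]; exact Submodule.zero_mem _
    · have := hv ν
      rwa [iSup_pos hν] at this
  have hinv : ∀ y ∈ eigenspace f (algebraMap k R μ), f y ∈ eigenspace f (algebraMap k R μ) := by
    intro y hy
    rw [mem_eigenspace_iff.mp hy]
    exact Submodule.smul_mem _ _ hy
  have h := inv_aux f _ hinv v.support v (fun ν _ => mem_eigenspace_iff.mp (hv' ν)) hx
  have h0 : ∀ ν ∈ v.support, v ν = 0 := by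
    intro ν hν
    by_cases hνμ : ν = μ
    · rw [hνμ, hvμ]
    · have e1 := mem_eigenspace_iff.mp (h ν hν)
      have e2 := mem_eigenspace_iff.mp (hv' ν)
      have e3 : algebraMap k R (ν - μ) • v ν = 0 := by
        rw [map_sub, sub_smul, ← e1, ← e2, sub_self]
      have hne : ν - μ ≠ 0 := sub_ne_zero.mpr hνμ
      have : algebraMap k R (ν - μ)⁻¹ • (algebraMap k R (ν - μ) • v ν) = 0 := by
        rw [e3, smul_zero]
      rwa [smul_smul, ← map_mul, inv_mul_cancel₀ hne, map_one, one_smul] at this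
  rw [Submodule.mem_bot]
  exact Finset.sum_eq_zero h0

theorem simul_diag [IsNoetherian R M] {ι : Type*} (T : ι → M →ₗ[R] M)
    (hcomm : ∀ i j, T i ∘ₗ T j = T j ∘ₗ T i)
    (hdiag : ∀ i, ⨆ μ : k, eigenspace (T i) (algebraMap k R μ) = ⊤) :
    ⨆ χ : ι → k, ⨅ i, eigenspace (T i) (algebraMap k R (χ i)) = ⊤ := by
  classical
  set E := ⨆ χ : ι → k, ⨅ i, eigenspace (T i) (algebraMap k R (χ i)) with hE
  by_contra hne
  let Stable : Submodule R M → Prop := fun N => ∀ i, ∀ x ∈ N, T i x ∈ N
  have stable_sup : ∀ N₁ N₂, Stable N₁ → Stable N₂ → Stable (N₁ ⊔ N₂) := by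
    intro N₁ N₂ h₁ h₂ i x hx
    obtain ⟨a, ha, b, hb, rfl⟩ := Submodule.mem_sup.mp hx
    rw [map_add]
    exact Submodule.add_mem_sup (h₁ i a ha) (h₂ i b hb)
  have stable_eig : ∀ i (μ : k), Stable (eigenspace (T i) (algebraMap k R μ)) := by
    intro i μ j x hx
    rw [mem_eigenspace_iff] at hx ⊢
    have := LinearMap.congr_fun (hcomm i j) x
    simp only [LinearMap.comp_apply] at this
    rw [this, hx, map_smul]
  let PP : Set (Submodule R M) := {N | Stable N ∧ ∃ D, Stable D ∧ IsCompl N D ∧ ¬ D ≤ E}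
  have hne' : PP.Nonempty :=
    ⟨⊥, fun i x hx => by rw [Submodule.mem_bot] at hx; rw [hx, map_zero]; exact Submodule.zero_mem _,
      ⊤, fun _ _ _ => Submodule.mem_top, isCompl_bot_top, fun h => hne (top_le_iff.mp h)⟩
  obtain ⟨N, ⟨hN, D, hD, hND, hDE⟩, hmax⟩ :=
    WellFounded.has_min (wellFounded_gt (α := Submodule R M)) PP hne'
  have key : ∀ i, ∃ μ : k, D ≤ eigenspace (T i) (algebraMap k R μ) := by
    intro i
    have hDdec : D ≤ ⨆ μ : k, D ⊓ eigenspace (T i) (algebraMap k R μ) := by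
      refine le_trans ?_ (inf_iSup_eig (T i) D (hD i))
      rw [hdiag i]; simp
    have : ∃ μ : k, ¬ (D ⊓ eigenspace (T i) (algebraMap k R μ) ≤ E) := by
      by_contra hall
      rw [not_exists] at hall
      exact hDE (hDdec.trans (iSup_le fun μ => not_not.mp (hall μ)))
    obtain ⟨μ, hμ⟩ := this
    refine ⟨μ, ?_⟩
    set D' := D ⊓ eigenspace (T i) (algebraMap k R μ) with hD'
    set D'' := D ⊓ ⨆ ν : k, ⨆ (_ : ν ≠ μ), eigenspace (T i) (algebraMap k R ν) with hD''
    have hD'st : Stable D' := fun j x hx => ⟨hD j x hx.1, stable_eig i μ j x hx.2⟩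
    have hD''st : Stable D'' := by
      intro j x hx
      refine ⟨hD j x hx.1, ?_⟩
      have hx2 := hx.2
      refine Submodule.iSup_induction (fun ν : k => ⨆ (_ : ν ≠ μ), eigenspace (T i) (algebraMap k R ν))
        (motive := fun y => T j y ∈ ⨆ ν : k, ⨆ (_ : ν ≠ μ), eigenspace (T i) (algebraMap k R ν)) hx2 ?_ ?_ ?_
      · intro ν y hy
        by_cases hν : ν = μ
        · have : y = 0 := by simpa [hν] using hy
          rw [this, map_zero]; exact Submodule.zero_mem _
        · rw [iSup_pos hν] at hy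
          refine Submodule.mem_iSup_of_mem ν ?_
          rw [iSup_pos hν]
          exact stable_eig i ν j y hy
      · rw [map_zero]; exact Submodule.zero_mem _
      · intro y z hy hz; rw [map_add]; exact Submodule.add_mem _ hy hz
    have hsup : D' ⊔ D'' = D := by
      apply le_antisymm (sup_le inf_le_left inf_le_left)
      refine hDdec.trans (iSup_le fun ν => ?_)
      by_cases hν : ν = μ
      · rw [hν]; exact le_sup_left
      · refine le_trans ?_ le_sup_right
        refine inf_le_inf_left _ ?_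
        refine le_trans ?_ (le_iSup _ ν)
        rw [iSup_pos hν]
    have hdisj : D' ⊓ D'' = ⊥ := by
      rw [eq_bot_iff]
      refine le_trans ?_ (eig_disjoint (T i) μ).le
      exact inf_le_inf inf_le_right inf_le_right
    have hmem : N ⊔ D'' ∈ PP := by
      refine ⟨stable_sup _ _ hN hD''st, D', hD'st, ⟨?_, ?_⟩, hμ⟩
      · rw [disjoint_iff, eq_bot_iff]
        rintro x ⟨hx1, hx2⟩
        obtain ⟨n, hn, d, hd, rfl⟩ := Submodule.mem_sup.mp hx1
        have hnD : n ∈ D := by
          have := D.sub_mem hx2.1 hd.1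
          simpa using this
        have hn0 : n = 0 := by
          have := hND.disjoint.le_bot (show n ∈ N ⊓ D from ⟨hn, hnD⟩)
          simpa using this
        rw [hn0, zero_add] at hx2 ⊢
        exact hdisj.le ⟨hx2, hd⟩
      · rw [codisjoint_iff, sup_assoc, sup_comm D'' D', hsup]
        exact hND.sup_eq_top
    have hnot : ¬ (N ⊔ D'' > N) := hmax _ hmem
    have hD''N : D'' ≤ N := by
      by_contra h
      exact hnot (lt_of_le_of_ne le_sup_left (fun heq => h (heq ▸ le_sup_right)))
    have hD''bot : D'' = ⊥ := by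
      rw [eq_bot_iff]
      exact le_trans (le_inf hD''N inf_le_left) hND.disjoint.le_bot
    rw [← hsup, hD''bot, sup_bot_eq]
    exact inf_le_right
  choose χ hχ using key
  exact hDE (le_trans (le_iInf hχ)
    (le_iSup (fun χ : ι → k => ⨅ i, eigenspace (T i) (algebraMap k R (χ i))) χ))

end Core

section Hopf
open TensorProduct MadRed WithConv Coalgebra
variable (k : Type u) [Field k] (A : Type v) [CommRing A] [HopfAlgebra k A] (R : Type w) [CommRing R] [Algebra k R]

lemma ptAct_tmul (g : A →ₐ[k] R) (r : R) (a : A) :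
    ptAct k A R g (r ⊗ₜ a) = r • translAux k A R g a := by
  unfold ptAct
  rw [Algebra.TensorProduct.lift_tmul, Algebra.smul_def]
  rfl

lemma translAux_repr (g : A →ₐ[k] R) (a : A) {ι : Type*} (repr : Coalgebra.Repr k a ι) :
    translAux k A R g a = ∑ i ∈ repr.index, g (repr.right i) ⊗ₜ[k] repr.left i := by
  unfold translAux
  simp only [AlgHom.comp_apply, Bialgebra.comulAlgHom_apply, AlgEquiv.toAlgHom_eq_coe, AlgHom.coe_coe]
  rw [← repr.eq]
  simp [map_sum]

lemma ptAct_comp (g h : A →ₐ[k] R) (x : R ⊗[k] A) :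
    ptAct k A R g (ptAct k A R h x) = ptAct k A R (ofConv (toConv g * toConv h)) x := by
  induction x using TensorProduct.induction_on with
  | zero => simp
  | add x y hx hy => simp only [map_add, hx, hy]
  | tmul r a =>
    rw [ptAct_tmul, ptAct_tmul, map_smul]
    congr 1
    let Ψ : A ⊗[k] (A ⊗[k] A) →ₗ[k] R ⊗[k] A :=
      (TensorProduct.comm k A R).toLinearMap ∘ₗ
        (LinearMap.lTensor A (Algebra.TensorProduct.lift g h (fun _ _ => Commute.all _ _)).toLinearMap)
    have hΨ : ∀ x y z, Ψ (x ⊗ₜ (y ⊗ₜ z)) = (g y * h z) ⊗ₜ x := by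
      intro x y z; simp [Ψ]
    rw [translAux_repr k A R h a (ℛ k a), map_sum, translAux_repr k A R _ a (ℛ k a)]
    have e1 : ∀ i ∈ (ℛ k a).index, ptAct k A R g (h ((ℛ k a).right i) ⊗ₜ[k] (ℛ k a).left i)
        = ∑ j ∈ (ℛ k ((ℛ k a).left i)).index,
          Ψ ((ℛ k ((ℛ k a).left i)).left j ⊗ₜ ((ℛ k ((ℛ k a).left i)).right j ⊗ₜ (ℛ k a).right i)) := by
      intro i _
      rw [ptAct_tmul, translAux_repr k A R g _ (ℛ k ((ℛ k a).left i)), Finset.smul_sum]
      refine Finset.sum_congr rfl fun j _ => ?_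
      rw [hΨ, TensorProduct.smul_tmul', smul_eq_mul, mul_comm]
    have e2 : ∀ i ∈ (ℛ k a).index,
        (ofConv (toConv g * toConv h)) ((ℛ k a).right i) ⊗ₜ[k] (ℛ k a).left i
        = ∑ j ∈ (ℛ k ((ℛ k a).right i)).index,
          Ψ ((ℛ k a).left i ⊗ₜ ((ℛ k ((ℛ k a).right i)).left j ⊗ₜ (ℛ k ((ℛ k a).right i)).right j)) := by
      intro i _
      have : (ofConv (toConv g * toConv h)) ((ℛ k a).right i)
          = ∑ j ∈ (ℛ k ((ℛ k a).right i)).index,
            g ((ℛ k ((ℛ k a).right i)).left j) * h ((ℛ k ((ℛ k a).right i)).right j) := by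
        have := AlgHom.convMul_apply (toConv g) (toConv h) ((ℛ k a).right i)
        rw [← (ℛ k ((ℛ k a).right i)).eq, map_sum] at this
        simpa using this
      rw [this, TensorProduct.sum_tmul]
      refine Finset.sum_congr rfl fun j _ => ?_
      rw [hΨ]
    rw [Finset.sum_congr rfl e1, Finset.sum_congr rfl e2]
    simp only [← map_sum]
    rw [Coalgebra.sum_tmul_tmul_eq (ℛ k a) (fun i => ℛ k ((ℛ k a).left i)) (fun i => ℛ k ((ℛ k a).right i))]

lemma exists_fg (x : R ⊗[k] A) : ∃ F : Submodule R (R ⊗[k] A), F.FG ∧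
    ∀ g : A →ₐ[k] R, ptAct k A R g x ∈ F := by
  induction x using TensorProduct.induction_on with
  | zero => exact ⟨⊥, Submodule.fg_bot, fun g => by simp⟩
  | add x y hx hy =>
    obtain ⟨F₁, h₁, h₁'⟩ := hx
    obtain ⟨F₂, h₂, h₂'⟩ := hy
    exact ⟨F₁ ⊔ F₂, h₁.sup h₂, fun g => by
      rw [map_add]; exact Submodule.add_mem_sup (h₁' g) (h₂' g)⟩
  | tmul r a =>
    refine ⟨Submodule.span R ((fun i => (1:R) ⊗ₜ[k] (ℛ k a).left i) '' (ℛ k a).index),
      Submodule.fg_span (Set.Finite.image _ (Finset.finite_toSet _)), fun g => ?_⟩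
    rw [ptAct_tmul, translAux_repr k A R g a (ℛ k a)]
    refine Submodule.smul_mem _ _ (Submodule.sum_mem _ fun i hi => ?_)
    have : g ((ℛ k a).right i) ⊗ₜ[k] (ℛ k a).left i
        = g ((ℛ k a).right i) • ((1:R) ⊗ₜ[k] (ℛ k a).left i) := by
      rw [TensorProduct.smul_tmul', smul_eq_mul, mul_one]
    rw [this]
    exact Submodule.smul_mem _ _ (Submodule.subset_span ⟨i, hi, rfl⟩)

end Hopf


/-- Let k be a field, G = Spec A an affine k-group with A a commutative Hopf algebra over k, and R a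
commutative Noetherian k-algebra, so that R ⊗ A is the coordinate ring of the base change G_R and
the k-algebra maps A → R are its R-valued points. Let H be a set of R-valued points which pairwise
commute for the convolution product of G(R) (the case of an abelian subgroup of G(R)). If every g in
H is diagonalizable over k on R ⊗ A, meaning that the eigenspaces of right translation by g, for
eigenvalues in k, span R ⊗ A, then H is simultaneously diagonalizable over k on R ⊗ A: the common
eigenspaces of the right translations by all g in H span R ⊗ A. The standing assumptions of the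
source at this point (k algebraically closed of characteristic zero, G reductive) are not used. -/
theorem result (k : Type u) [Field k]
    (A : Type v) [CommRing A] [HopfAlgebra k A] (R : Type w) [CommRing R] [Algebra k R]
    [IsNoetherianRing R] (H : Set (A →ₐ[k] R))
    (hcomm : ∀ g ∈ H, ∀ h ∈ H,
      WithConv.toConv g * WithConv.toConv h = WithConv.toConv h * WithConv.toConv g)
    (hdiag : ∀ g ∈ H, ⨆ μ : k,
      Module.End.eigenspace (((MadRed.ptAct k A R g).toLinearMap).restrictScalars k) μ = ⊤) :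
    ⨆ χ : H → k, ⨅ g : H,
      Module.End.eigenspace (((MadRed.ptAct k A R g.1).toLinearMap).restrictScalars k) (χ g) = ⊤ := by
  classical
  rw [eq_top_iff]
  intro x _
  obtain ⟨F, hFfg, hF⟩ := exists_fg k A R x
  set P : Submodule R (R ⊗[k] A) :=
    Submodule.span R (insert x (Set.range fun g : A →ₐ[k] R => ptAct k A R g x)) with hP
  have hxP : x ∈ P := Submodule.subset_span (Set.mem_insert _ _)
  have hPF : P ≤ F ⊔ Submodule.span R {x} := by
    rw [hP]; apply Submodule.span_le.mpr
    rintro y (hy | ⟨g, hy⟩)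
    · rw [hy]; exact (le_sup_right : _ ≤ F ⊔ _) (Submodule.subset_span rfl)
    · rw [← hy]; exact (le_sup_left : F ≤ _) (hF g)
  have hPst : ∀ g : A →ₐ[k] R, ∀ y ∈ P, (ptAct k A R g).toLinearMap y ∈ P := by
    intro g y hy
    have : P ≤ P.comap (ptAct k A R g).toLinearMap := by
      rw [hP]; apply Submodule.span_le.mpr
      rintro y (hy | ⟨h, hy⟩)
      · rw [← hP, hy]
        show (ptAct k A R g) x ∈ P
        rw [hP]; exact Submodule.subset_span (Set.mem_insert_of_mem _ ⟨g, rfl⟩)
      · rw [← hP, ← hy]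
        show (ptAct k A R g) (ptAct k A R h x) ∈ P
        rw [ptAct_comp, hP]; exact Submodule.subset_span (Set.mem_insert_of_mem _ ⟨_, rfl⟩)
    exact this hy
  haveI : IsNoetherian R P := by
    haveI := isNoetherian_of_fg_of_noetherian _ (hFfg.sup (Submodule.fg_span_singleton x))
    exact isNoetherian_of_le hPF
  let T : H → (P →ₗ[R] P) := fun g => (ptAct k A R g.1).toLinearMap.restrict (hPst g.1)
  have hT : ∀ (g : H) (y : P), ((T g y : P) : R ⊗[k] A) = ptAct k A R g.1 y.1 := fun g y => rfl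
  have hcommT : ∀ i j, T i ∘ₗ T j = T j ∘ₗ T i := by
    intro i j
    ext y
    simp only [LinearMap.comp_apply, hT]
    rw [ptAct_comp, ptAct_comp, hcomm i.1 i.2 j.1 j.2]
  have hdiagT : ∀ i, ⨆ μ : k, eigenspace (T i) (algebraMap k R μ) = ⊤ := by
    intro i
    rw [eq_top_iff]
    rintro ⟨y, hy⟩ _
    have hy' : y ∈ ⨆ μ : k,
        eigenspace (((ptAct k A R i.1).toLinearMap).restrictScalars k) μ := by
      rw [hdiag i.1 i.2]; trivial
    obtain ⟨v, hv, hvy⟩ := (Submodule.mem_iSup_iff_exists_finsupp _ _).mp hy'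
    have hv' : ∀ μ, (ptAct k A R i.1).toLinearMap (v μ) = algebraMap k R μ • v μ := by
      intro μ
      have := mem_eigenspace_iff.mp (hv μ)
      rw [algebraMap_smul]
      exact this
    have hsum : ∑ μ ∈ v.support, v μ ∈ P := by
      have : ∑ μ ∈ v.support, v μ = y := hvy
      rw [this]; exact hy
    have hvP := inv_aux (ptAct k A R i.1).toLinearMap P (hPst i.1) v.support v
      (fun μ _ => hv' μ) hsum
    let w : k → P := fun μ => if h : v μ ∈ P then ⟨v μ, h⟩ else 0
    have hw : ∀ μ ∈ v.support, ((w μ : P) : R ⊗[k] A) = v μ := by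
      intro μ hμ
      simp only [w, dif_pos (hvP μ hμ)]
    have hyw : (⟨y, hy⟩ : P) = ∑ μ ∈ v.support, w μ := by
      apply Subtype.ext
      rw [Submodule.coe_sum, Finset.sum_congr rfl hw]
      exact hvy.symm
    rw [hyw]
    refine Submodule.sum_mem _ fun μ hμ => Submodule.mem_iSup_of_mem μ ?_
    rw [mem_eigenspace_iff]
    apply Subtype.ext
    rw [hT, Submodule.coe_smul, hw μ hμ]
    exact hv' μ
  have main := simul_diag (k := k) T hcommT hdiagT
  have hx' : (⟨x, hxP⟩ : P) ∈ ⨆ χ : H → k, ⨅ i, eigenspace (T i) (algebraMap k R (χ i)) := by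
    rw [main]; trivial
  refine Submodule.iSup_induction (fun χ : H → k => ⨅ i, eigenspace (T i) (algebraMap k R (χ i)))
    (motive := fun y : P => (y : R ⊗[k] A) ∈ ⨆ χ : H → k, ⨅ g : H,
      eigenspace (((ptAct k A R g.1).toLinearMap).restrictScalars k) (χ g)) hx' ?_ ?_ ?_
  · intro χ y hy
    refine Submodule.mem_iSup_of_mem χ ?_
    rw [Submodule.mem_iInf]
    intro g
    have := mem_eigenspace_iff.mp ((Submodule.mem_iInf _).mp hy g)
    rw [mem_eigenspace_iff]
    have h2 := congrArg Subtype.val this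
    rw [hT, Submodule.coe_smul, algebraMap_smul] at h2
    exact h2
  · exact Submodule.zero_mem _
  · intro y z hy hz
    exact Submodule.add_mem _ hy hz

end Groth.Agent.S16160
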