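import Groth.Statements.S16161
import Mathlib
-- import your own Groth.Agent.* helpers here

set_option autoImplicit false
universe u v
open MadRed

namespace Groth.Agent.S16161


open Polynomial in
theorem ker_aeval_prod_X_sub_C {K : Type*} {V : Type*} [Field K] [AddCommGroup V] [Module K V]
    (f : Module.End K V) (s : Finset K) :
    LinearMap.ker (aeval f (∏ μ ∈ s, (X - C μ))) = ⨆ μ ∈ s, Module.End.eigenspace f μ := by
  classical
  induction s using Finset.induction_on with
  | empty =>
    simp only [Finset.prod_empty, map_one, Finset.notMem_empty, iSup_false, iSup_bot]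
    rw [LinearMap.ker_eq_bot]
    exact fun _ _ h => h
  | insert a s ha ih =>
    rw [Finset.prod_insert ha, Finset.iSup_insert, ← ih]
    rw [← sup_ker_aeval_eq_ker_aeval_mul_of_coprime]
    · congr 1
      rw [Module.End.eigenspace_def]
      congr 1
      simp [Algebra.algebraMap_eq_smul_one]
    · apply IsCoprime.prod_right
      intro μ hμ
      apply isCoprime_X_sub_C_of_isUnit_sub
      apply IsUnit.mk0
      intro h
      apply ha
      rw [sub_eq_zero] at h
      rw [h]; exact hμ

open Polynomial in
theorem iSup_eigenspace_eq_top_of_pow_eq_one {K : Type*} {V : Type*} [Field K] [IsAlgClosed K]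
    [AddCommGroup V] [Module K V] (f : Module.End K V) (m : ℕ) (hm : (m : K) ≠ 0)
    (hf : f ^ m = 1) : ⨆ μ : K, Module.End.eigenspace f μ = ⊤ := by
  classical
  have hsep : (X ^ m - C (1 : K)).Separable := separable_X_pow_sub_C 1 hm one_ne_zero
  have hsplit : (X ^ m - C (1 : K)).Splits := IsAlgClosed.splits _
  have hmonic : (X ^ m - C (1 : K)).Monic := by
    apply monic_X_pow_sub_C
    rintro rfl
    simp at hm
  have hprod : (X ^ m - C (1 : K)) = ∏ μ ∈ (X ^ m - C (1 : K)).roots.toFinset, (X - C μ) := by
    conv_lhs => rw [hsplit.eq_prod_roots_of_monic hmonic]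
    rw [Finset.prod_eq_multiset_prod, Multiset.toFinset_val, (nodup_roots hsep).dedup]
  have hker : LinearMap.ker (aeval f (X ^ m - C (1 : K))) = ⊤ := by
    rw [LinearMap.ker_eq_top]
    simp [hf]
  rw [hprod, ker_aeval_prod_X_sub_C] at hker
  rw [eq_top_iff, ← hker]
  exact iSup₂_le fun μ _ => le_iSup (fun μ => Module.End.eigenspace f μ) μ

/-- Let k be an algebraically closed field of characteristic zero and R a reduced finitely generated
commutative k-algebra whose spectrum is connected (R has no idempotents besides 0 and 1); let W =
R^n be a free R-module of finite rank and g an R-linear endomorphism of W of finite order, g^m = 1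
with m > 0 (an element of finite order of GL(W)(R)). Then the action of g on W is diagonalizable
over k: viewing g as a k-linear map, its eigenspaces for eigenvalues in k span W. The source also
assumes that g is diagonalizable over k on every fibre W ⊗ k(x), x a point of Spec R; for g of
finite order this holds automatically (k is algebraically closed of characteristic zero), as the
source itself notes, so that hypothesis is omitted. -/
theorem result
    (k : Type u) [Field k] [IsAlgClosed k] [CharZero k]
    (R : Type v) [CommRing R] [Algebra k R] [IsReduced R] [Algebra.FiniteType k R]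
    (hconn : ∀ e : R, IsIdempotentElem e → e = 0 ∨ e = 1)
    (n : ℕ) (g : Module.End R (Fin n → R)) (m : ℕ) (hm : 0 < m) (hg : g ^ m = 1) :
    ⨆ μ : k, Module.End.eigenspace (g.restrictScalars k) μ = ⊤ := by
  apply iSup_eigenspace_eq_top_of_pow_eq_one (g.restrictScalars k) m
  · exact_mod_cast hm.ne'
  · apply LinearMap.ext
    intro v
    have h1 := LinearMap.congr_fun hg v
    rw [Module.End.pow_apply] at h1 ⊢
    exact h1

end Groth.Agent.S16161
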