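import Groth.Statements.S16170
import Mathlib.Tactic
-- import your own Groth.Agent.* helpers here

set_option autoImplicit false
open Neron

namespace Groth.Agent.S16170


open Matrix in
theorem symm_dot {ι : Type} [Fintype ι] (A : Matrix ι ι ℤ) (hA : A.IsSymm) (u w : ι → ℤ) :
    u ⬝ᵥ A *ᵥ w = w ⬝ᵥ A *ᵥ u := by
  rw [Matrix.dotProduct_mulVec, ← Matrix.mulVec_transpose, hA.eq, dotProduct_comm]

open Matrix in
/-- The product `χ₁ * χ₂` kills every vector. -/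
theorem key {ι : Type} [Fintype ι] [DecidableEq ι]
    (M N χ₁ χ₂ : Matrix ι ι ℤ) (hM : M.IsSymm) (hN : N.IsSymm)
    (hMpos : ∀ v : ι → ℤ, 0 ≤ v ⬝ᵥ M.mulVec v) (hNpos : ∀ v : ι → ℤ, 0 ≤ v ⬝ᵥ N.mulVec v)
    (hpos : ∀ v : ι → ℤ, v ≠ 0 → 0 < v ⬝ᵥ (M + N).mulVec v)
    (hsum : χ₁ + χ₂ = 1) (hrel : M * χ₂ = N * χ₁) :
    ∀ (k : ℕ) (v : ι → ℤ), (v ⬝ᵥ (M + N) *ᵥ v).toNat ≤ k → (χ₁ * χ₂) *ᵥ v = 0 := by
  have hS : (M + N).IsSymm := hM.add hN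
  have hSχ₂ : (M + N) * χ₂ = N := by
    rw [add_mul, hrel, ← mul_add, hsum, mul_one]
  have hcomm : χ₁ * χ₂ = χ₂ * χ₁ := by
    have h2 : χ₂ = 1 - χ₁ := by rw [← hsum]; abel
    rw [h2, mul_sub, sub_mul, mul_one, one_mul]
  intro k
  induction k using Nat.strong_induction_on with
  | _ k ih =>
    intro v hv
    set u := χ₁ *ᵥ v with hu
    set w := χ₂ *ᵥ v with hw
    have huw : u + w = v := by
      rw [hu, hw, ← Matrix.add_mulVec, hsum, Matrix.one_mulVec]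
    by_cases hu0 : u = 0
    · rw [hcomm, ← Matrix.mulVec_mulVec, ← hu, hu0, Matrix.mulVec_zero]
    by_cases hw0 : w = 0
    · rw [← Matrix.mulVec_mulVec, ← hw, hw0, Matrix.mulVec_zero]
    -- the cross term is nonnegative
    have hcross : u ⬝ᵥ (M + N) *ᵥ w = u ⬝ᵥ N *ᵥ u + w ⬝ᵥ M *ᵥ w := by
      have h1 : (M + N) *ᵥ w = N *ᵥ v := by
        rw [hw, Matrix.mulVec_mulVec, hSχ₂]
      have h2 : N *ᵥ u = M *ᵥ w := by
        rw [hu, hw, Matrix.mulVec_mulVec, Matrix.mulVec_mulVec, hrel]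
      rw [h1, ← huw, Matrix.mulVec_add, dotProduct_add, symm_dot N hN u w, h2]
    have hexp : v ⬝ᵥ (M + N) *ᵥ v =
        u ⬝ᵥ (M + N) *ᵥ u + w ⬝ᵥ (M + N) *ᵥ w + 2 * (u ⬝ᵥ (M + N) *ᵥ w) := by
      rw [← huw, Matrix.mulVec_add, dotProduct_add, add_dotProduct, add_dotProduct,
        symm_dot (M + N) hS w u]
      ring
    have hupos := hpos u hu0
    have hwpos := hpos w hw0
    have hc0 : 0 ≤ u ⬝ᵥ (M + N) *ᵥ w := by
      rw [hcross]; exact add_nonneg (hNpos u) (hMpos w)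
    have hult : (u ⬝ᵥ (M + N) *ᵥ u).toNat < k := by
      have : u ⬝ᵥ (M + N) *ᵥ u < v ⬝ᵥ (M + N) *ᵥ v := by rw [hexp]; linarith
      omega
    have hwlt : (w ⬝ᵥ (M + N) *ᵥ w).toNat < k := by
      have : w ⬝ᵥ (M + N) *ᵥ w < v ⬝ᵥ (M + N) *ᵥ v := by rw [hexp]; linarith
      omega
    have h1 := ih _ hult u le_rfl
    have h2 := ih _ hwlt w le_rfl
    rw [← huw, Matrix.mulVec_add, h1, h2, add_zero]

/-- Let M and N be symmetric positive-semidefinite integer matrices on the same finite index set whose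
sum M + N is positive definite, and let χ₁, χ₂ be integer matrices with χ₁ + χ₂ = 1 and M χ₂ = N χ₁.
Then χ₁ and χ₂ are idempotent. (In the intended application M = Pᵀ Ψ₁ P and N = Qᵀ Ψ₂ Q for
surjective integer matrices P, Q and positive-definite Ψ₁, Ψ₂.) -/
theorem result
    {ι : Type} [Fintype ι] [DecidableEq ι]
    (M N χ₁ χ₂ : Matrix ι ι ℤ) (hM : M.IsSymm) (hN : N.IsSymm)
    (hMpos : ∀ v : ι → ℤ, 0 ≤ v ⬝ᵥ M.mulVec v) (hNpos : ∀ v : ι → ℤ, 0 ≤ v ⬝ᵥ N.mulVec v)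
    (hpos : ∀ v : ι → ℤ, v ≠ 0 → 0 < v ⬝ᵥ (M + N).mulVec v)
    (hsum : χ₁ + χ₂ = 1) (hrel : M * χ₂ = N * χ₁) :
    χ₁ * χ₁ = χ₁ ∧ χ₂ * χ₂ = χ₂ := by
  have hzero : χ₁ * χ₂ = 0 := by
    ext i j
    have := key M N χ₁ χ₂ hM hN hMpos hNpos hpos hsum hrel _ (Pi.single j 1) le_rfl
    have h2 := congrFun this i
    simpa using h2
  have h2 : χ₂ = 1 - χ₁ := by rw [← hsum]; abel
  have h1 : χ₁ = 1 - χ₂ := by rw [← hsum]; abel
  constructor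
  · have : χ₁ * χ₁ = χ₁ - χ₁ * χ₂ := by
      rw [h2, mul_sub, mul_one]; abel
    rw [this, hzero, sub_zero]
  · have : χ₂ * χ₂ = χ₂ - χ₁ * χ₂ := by
      calc χ₂ * χ₂ = (1 - χ₁) * χ₂ := by rw [← h2]
        _ = χ₂ - χ₁ * χ₂ := by rw [sub_mul, one_mul]
    rw [this, hzero, sub_zero]

end Groth.Agent.S16170
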