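import Groth.Statements.S16164
import Groth.Agent.S16170
import Mathlib.Tactic
-- import your own Groth.Agent.* helpers here

set_option autoImplicit false
open Neron

namespace Groth.Agent.S16164


open Matrix in
/-- `v ⬝ (Pᵀ Ψ P) v = (P v) ⬝ Ψ (P v)`. -/
theorem quad_pull {ι κ : Type} [Fintype ι] [Fintype κ] (P : Matrix κ ι ℤ) (Ψ : Matrix κ κ ℤ)
    (v w : ι → ℤ) :
    v ⬝ᵥ (Pᵀ * Ψ * P) *ᵥ w = (P *ᵥ v) ⬝ᵥ Ψ *ᵥ (P *ᵥ w) := by
  rw [← Matrix.mulVec_mulVec, ← Matrix.mulVec_mulVec, Matrix.dotProduct_mulVec,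
    Matrix.vecMul_transpose]

open Matrix in
theorem posdef_zero {κ : Type} [Fintype κ] (Ψ : Matrix κ κ ℤ)
    (hpos : ∀ y : κ → ℤ, y ≠ 0 → 0 < y ⬝ᵥ Ψ.mulVec y) (y : κ → ℤ) (h : y ⬝ᵥ Ψ *ᵥ y = 0) : y = 0 := by
  by_contra hne
  have := hpos y hne
  omega

open Matrix in
theorem possemi {κ : Type} [Fintype κ] (Ψ : Matrix κ κ ℤ)
    (hpos : ∀ y : κ → ℤ, y ≠ 0 → 0 < y ⬝ᵥ Ψ.mulVec y) (y : κ → ℤ) : 0 ≤ y ⬝ᵥ Ψ *ᵥ y := by
  by_cases hy : y = 0
  · subst hy; simp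
  · exact (hpos y hy).le

/-- Let X, Y₁, Y₂ be finitely generated free abelian groups with chosen bases, so that homomorphisms are
integer matrices acting on column vectors and each group is identified with its dual; let P : X → Y₁
and Q : X → Y₂ be surjective with A = (P over Q) : X → Y₁ ⊕ Y₂ injective, and let Ψ₁, Ψ₂ be
symmetric positive-definite integer matrices on Y₁ and Y₂, Ψ their block-diagonal sum. If the image
of Aᵀ Ψ : Y₁ ⊕ Y₂ → X coincides with the image of Aᵀ Ψ A : X → X (the reverse inclusion always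
holds), then A is bijective. (In the source X, Y₁, Y₂ are character groups of maximal tori, P and Q
specialization maps, Ψ₁ and Ψ₂ monodromy pairings, and the hypothesis expresses that two groups of
components coincide.) -/
theorem result
    {ι κ₁ κ₂ : Type} [Fintype ι] [Fintype κ₁] [Fintype κ₂]
    (P : Matrix κ₁ ι ℤ) (Q : Matrix κ₂ ι ℤ)
    (hP : Function.Surjective P.mulVec) (hQ : Function.Surjective Q.mulVec)
    (hA : Function.Injective (Matrix.fromRows P Q).mulVec)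
    (Ψ₁ : Matrix κ₁ κ₁ ℤ) (Ψ₂ : Matrix κ₂ κ₂ ℤ) (hΨ₁ : Ψ₁.IsSymm) (hΨ₂ : Ψ₂.IsSymm)
    (hΨ₁pos : ∀ y : κ₁ → ℤ, y ≠ 0 → 0 < y ⬝ᵥ Ψ₁.mulVec y)
    (hΨ₂pos : ∀ y : κ₂ → ℤ, y ≠ 0 → 0 < y ⬝ᵥ Ψ₂.mulVec y)
    (himage : LinearMap.range ((Matrix.fromRows P Q).transpose * Matrix.fromBlocks Ψ₁ 0 0 Ψ₂).mulVecLin =
      LinearMap.range ((Matrix.fromRows P Q).transpose * Matrix.fromBlocks Ψ₁ 0 0 Ψ₂ * Matrix.fromRows P Q).mulVecLin) :
    Function.Bijective (Matrix.fromRows P Q).mulVec := by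
  classical
  refine ⟨hA, ?_⟩
  set M : Matrix ι ι ℤ := P.transpose * Ψ₁ * P with hMdef
  set N : Matrix ι ι ℤ := Q.transpose * Ψ₂ * Q with hNdef
  have hAΨ : (Matrix.fromRows P Q).transpose * Matrix.fromBlocks Ψ₁ 0 0 Ψ₂ =
      Matrix.fromCols (P.transpose * Ψ₁) (Q.transpose * Ψ₂) := by
    rw [Matrix.transpose_fromRows, Matrix.fromCols_mul_fromBlocks]
    simp
  have hAΨA : (Matrix.fromRows P Q).transpose * Matrix.fromBlocks Ψ₁ 0 0 Ψ₂ * Matrix.fromRows P Q =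
      M + N := by
    rw [hAΨ, Matrix.fromCols_mul_fromRows]
  rw [hAΨ, Matrix.fromCols_mul_fromRows] at himage
  have hMsymm : M.IsSymm := by
    unfold Matrix.IsSymm
    rw [hMdef, Matrix.transpose_mul, Matrix.transpose_mul, Matrix.transpose_transpose, hΨ₁.eq,
      Matrix.mul_assoc]
  have hNsymm : N.IsSymm := by
    unfold Matrix.IsSymm
    rw [hNdef, Matrix.transpose_mul, Matrix.transpose_mul, Matrix.transpose_transpose, hΨ₂.eq,
      Matrix.mul_assoc]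
  have hMpos : ∀ v : ι → ℤ, 0 ≤ v ⬝ᵥ M.mulVec v := fun v => by
    rw [hMdef, quad_pull]; exact possemi Ψ₁ hΨ₁pos _
  have hNpos : ∀ v : ι → ℤ, 0 ≤ v ⬝ᵥ N.mulVec v := fun v => by
    rw [hNdef, quad_pull]; exact possemi Ψ₂ hΨ₂pos _
  have hpos : ∀ v : ι → ℤ, v ≠ 0 → 0 < v ⬝ᵥ (M + N).mulVec v := by
    intro v hv
    rw [Matrix.add_mulVec, dotProduct_add]
    have hAv : (Matrix.fromRows P Q).mulVec v ≠ 0 := by
      intro h0
      apply hv
      apply hA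
      rw [h0, Matrix.mulVec_zero]
    rw [Matrix.fromRows_mulVec] at hAv
    by_cases hPv : P.mulVec v = 0
    · have hQv : Q.mulVec v ≠ 0 := by
        intro hQv
        apply hAv
        rw [hPv, hQv]
        funext i
        cases i <;> rfl
      have h1 := hMpos v
      have h2 : 0 < v ⬝ᵥ N.mulVec v := by
        rw [hNdef, quad_pull]; exact hΨ₂pos _ hQv
      omega
    · have h1 : 0 < v ⬝ᵥ M.mulVec v := by
        rw [hMdef, quad_pull]; exact hΨ₁pos _ hPv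
      have h2 := hNpos v
      omega
  -- construct χ₁ column by column
  have hcol : ∀ j : ι, ∃ x : ι → ℤ, (M + N).mulVec x = M.mulVec (Pi.single j 1) := by
    intro j
    have hmem : M.mulVec (Pi.single j 1) ∈
        LinearMap.range (Matrix.fromCols (P.transpose * Ψ₁) (Q.transpose * Ψ₂)).mulVecLin := by
      refine ⟨Sum.elim (P.mulVec (Pi.single j 1)) 0, ?_⟩
      rw [Matrix.mulVecLin_apply, Matrix.fromCols_mulVec_sumElim, Matrix.mulVec_zero, add_zero,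
        Matrix.mulVec_mulVec]
    rw [himage] at hmem
    obtain ⟨x, hx⟩ := hmem
    exact ⟨x, by rwa [Matrix.mulVecLin_apply] at hx⟩
  choose x hx using hcol
  set χ₁ : Matrix ι ι ℤ := Matrix.of (fun i j => x j i) with hχ₁def
  have hχ₁col : ∀ j, χ₁.mulVec (Pi.single j 1) = x j := by
    intro j
    funext i
    simp [hχ₁def]
  have hSχ₁ : (M + N) * χ₁ = M := by
    apply Matrix.ext_of_mulVec_single
    intro j
    rw [← Matrix.mulVec_mulVec, hχ₁col, hx]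
  set χ₂ : Matrix ι ι ℤ := 1 - χ₁ with hχ₂def
  have hsum : χ₁ + χ₂ = 1 := by rw [hχ₂def]; abel
  have hrel : M * χ₂ = N * χ₁ := by
    have h1 : N * χ₁ = M - M * χ₁ := by
      have : N = (M + N) - M := by abel
      rw [this, Matrix.sub_mul, hSχ₁]
    rw [h1, hχ₂def, Matrix.mul_sub, Matrix.mul_one]
  obtain ⟨hid₁, hid₂⟩ := Groth.Agent.S16170.result M N χ₁ χ₂ hMsymm hNsymm hMpos hNpos hpos hsum hrel
  have hχ₁χ₂ : χ₁ * χ₂ = 0 := by
    rw [hχ₂def, Matrix.mul_sub, Matrix.mul_one, hid₁, sub_self]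
  have hχ₂χ₁ : χ₂ * χ₁ = 0 := by
    rw [hχ₂def, Matrix.sub_mul, Matrix.one_mul, hid₁, sub_self]
  have hMχ₂ : M * χ₂ = 0 := by
    rw [← hSχ₁, Matrix.mul_assoc, hχ₁χ₂, Matrix.mul_zero]
  have hNχ₁ : N * χ₁ = 0 := by rw [← hrel, hMχ₂]
  have hPχ₂ : ∀ v : ι → ℤ, P.mulVec (χ₂.mulVec v) = 0 := by
    intro v
    apply posdef_zero Ψ₁ hΨ₁pos
    rw [← quad_pull, ← hMdef, Matrix.mulVec_mulVec, hMχ₂, Matrix.zero_mulVec, dotProduct_zero]
  have hQχ₁ : ∀ v : ι → ℤ, Q.mulVec (χ₁.mulVec v) = 0 := by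
    intro v
    apply posdef_zero Ψ₂ hΨ₂pos
    rw [← quad_pull, ← hNdef, Matrix.mulVec_mulVec, hNχ₁, Matrix.zero_mulVec, dotProduct_zero]
  have hsplit : ∀ v : ι → ℤ, χ₁.mulVec v + χ₂.mulVec v = v := by
    intro v
    rw [← Matrix.add_mulVec, hsum, Matrix.one_mulVec]
  intro y
  obtain ⟨x₁, hx₁⟩ := hP (y ∘ Sum.inl)
  obtain ⟨x₂, hx₂⟩ := hQ (y ∘ Sum.inr)
  refine ⟨χ₁.mulVec x₁ + χ₂.mulVec x₂, ?_⟩
  rw [Matrix.fromRows_mulVec, Matrix.mulVec_add, Matrix.mulVec_add, hPχ₂, hQχ₁, add_zero, zero_add]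
  have e1 : P.mulVec (χ₁.mulVec x₁) = y ∘ Sum.inl := by
    have := congrArg P.mulVec (hsplit x₁)
    rw [Matrix.mulVec_add, hPχ₂, add_zero] at this
    rw [this, hx₁]
  have e2 : Q.mulVec (χ₂.mulVec x₂) = y ∘ Sum.inr := by
    have := congrArg Q.mulVec (hsplit x₂)
    rw [Matrix.mulVec_add, hQχ₁, zero_add] at this
    rw [this, hx₂]
  rw [e1, e2]
  funext i
  cases i <;> rfl

end Groth.Agent.S16164
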