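import Groth.Statements.S1621
import Mathlib
import Groth.Agent.Lib.Helper21.FieldDimBC
-- import your own Groth.Agent.* helpers here

set_option autoImplicit false
universe u
open CategoryTheory CategoryTheory.Limits AlgebraicGeometry
attribute [local instance] Curv2.stalkAlgebra Curv2.resAlgebra
open Variety

namespace Groth.Agent.S1621

/-- Let X be locally of finite type over a field k and x a point whose residue field has transcendence
degree a over k and whose local ring has dimension b. Then the local dimension of X at x is a + b. -/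
theorem result (k : Type u) [Field k] (X : Scheme.{u}) [X.Over (Spec (CommRingCat.of k))] [LocallyOfFiniteType (X ↘ (Spec (CommRingCat.of k)))] (x : X) (a b : ℕ)
    (ha : Algebra.trdeg k (X.residueField x) = a) (hb : ringKrullDim (X.presheaf.stalk x) = b) :
    FlatMor.localDim X x = (a + b : ℕ) := by
  have : IsLocallyNoetherian X :=
    LocallyOfFiniteType.isLocallyNoetherian (X ↘ Spec (CommRingCat.of k))
  have ha' := Groth.Agent.Lib.Helper21.FieldDim.td_eq_of_resAlgebra k X x a ha
  have hco : Order.coheight x = (b : ℕ∞) := by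
    have h1 := AlgebraicGeometry.ringKrullDim_stalk_eq_coheight x
    rw [hb] at h1
    have : ((b : ℕ∞) : WithBot ℕ∞) = ((Order.coheight x : ℕ∞) : WithBot ℕ∞) := by
      rw [← h1]; rfl
    exact (WithBot.coe_injective this).symm
  -- upper bound on td of generizations
  have hup : ∀ ξ : X, ξ ⤳ x →
      Groth.Agent.Lib.Helper21.FieldDim.td (X ↘ Spec (CommRingCat.of k)) ξ ≤ a + b := by
    intro ξ hξ
    have h1 := Groth.Agent.Lib.Helper21.FieldDim.relHt_add_td (X ↘ Spec (CommRingCat.of k)) hξ
    have h2 := Groth.Agent.Lib.Helper73.RelHt.relHt_le_coheight x ξ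
    rw [hco, ha'] at *
    have h3 : ((Groth.Agent.Lib.Helper21.FieldDim.td (X ↘ Spec (CommRingCat.of k)) ξ : ℕ) : ℕ∞) ≤
        (b : ℕ∞) + (a : ℕ∞) := by
      rw [← h1]
      exact add_le_add_left h2 _
    have h4 : Groth.Agent.Lib.Helper21.FieldDim.td (X ↘ Spec (CommRingCat.of k)) ξ ≤ b + a := by
      exact_mod_cast h3
    omega
  -- a generization attaining the bound
  obtain ⟨ξ₀, hξ₀, hrel⟩ := Groth.Agent.Lib.Helper73.RelHt.exists_relHt_eq_coheight x
    (by rw [hco]; exact ENat.natCast_lt_top b)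
  have hξ₀td : Groth.Agent.Lib.Helper21.FieldDim.td (X ↘ Spec (CommRingCat.of k)) ξ₀ = a + b := by
    have h1 := Groth.Agent.Lib.Helper21.FieldDim.relHt_add_td (X ↘ Spec (CommRingCat.of k))
      (show ξ₀ ⤳ x from hξ₀)
    rw [hrel, hco, ha'] at h1
    have : b + a = Groth.Agent.Lib.Helper21.FieldDim.td (X ↘ Spec (CommRingCat.of k)) ξ₀ := by
      exact_mod_cast h1
    omega
  apply le_antisymm
  · obtain ⟨U, hxU, hU⟩ :=
      Groth.Agent.Lib.Helper73.SchemeDim.exists_open_forall_exists_specializes X x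
    refine (iInf_le _ (⟨U, hxU⟩ : {U : TopologicalSpace.Opens X // x ∈ U})).trans ?_
    rw [Groth.Agent.Lib.Helper21.FieldDim.dim_le_iff_of_isLocallyClosed
      (X ↘ Spec (CommRingCat.of k)) (U : Set X) U.isOpen.isLocallyClosed]
    intro u hu
    obtain ⟨ξ, hξu, hξx⟩ := hU u hu
    have h1 := Groth.Agent.Lib.Helper21.FieldDim.td_le_of_specializes
      (X ↘ Spec (CommRingCat.of k)) hξu
    have h2 := hup ξ hξx
    have h3 : Groth.Agent.Lib.Helper21.FieldDim.td (X ↘ Spec (CommRingCat.of k)) u ≤ a + b :=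
      h1.trans h2
    exact_mod_cast h3
  · refine le_iInf (fun U => ?_)
    have hmem : ξ₀ ∈ (U.1 : Set X) := (show ξ₀ ⤳ x from hξ₀).mem_open U.1.isOpen U.2
    have := (Groth.Agent.Lib.Helper21.FieldDim.dim_le_iff_of_isLocallyClosed
      (X ↘ Spec (CommRingCat.of k)) (U.1 : Set X) U.1.isOpen.isLocallyClosed _).mp le_rfl ξ₀ hmem
    rw [hξ₀td] at this
    exact this

end Groth.Agent.S1621
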