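import Groth.Statements.S1617
import Mathlib
import Groth.Agent.Lib.Helper21.FieldDimPts
import Groth.Agent.S1621
-- import your own Groth.Agent.* helpers here

set_option autoImplicit false
universe u
open CategoryTheory CategoryTheory.Limits AlgebraicGeometry
open Variety

namespace Groth.Agent.S1617

/-- Let X be locally of finite type over a field k and x a closed point. Then the local dimension of X
at x (infimum of the dimensions of open neighbourhoods) equals the Krull dimension of the local ring
at x. -/
theorem result (k : Type u) [Field k] (X : Scheme.{u}) [X.Over (Spec (CommRingCat.of k))] [LocallyOfFiniteType (X ↘ (Spec (CommRingCat.of k)))] (x : X) (hx : IsClosed ({x} : Set X)) :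
    FlatMor.localDim X x = ringKrullDim (X.presheaf.stalk x) := by
  have hloc : IsLocallyNoetherian X :=
    LocallyOfFiniteType.isLocallyNoetherian (X ↘ Spec (CommRingCat.of k))
  have hfin : ringKrullDim (X.presheaf.stalk x) < ⊤ := ringKrullDim_lt_top
  have hbot : ringKrullDim (X.presheaf.stalk x) ≠ ⊥ := ringKrullDim_ne_bot
  obtain ⟨b, hb⟩ : ∃ b : ℕ, ringKrullDim (X.presheaf.stalk x) = b := by
    generalize ringKrullDim (X.presheaf.stalk x) = r at hfin hbot
    induction r with
    | bot => exact absurd rfl hbot
    | coe r =>
      induction r with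
      | top => exact absurd hfin (lt_irrefl _)
      | coe n => exact ⟨n, rfl⟩
  have h0 := Groth.Agent.Lib.Helper21.FieldDim.td_eq_zero_of_isClosed_singleton
    (X ↘ Spec (CommRingCat.of k)) hx
  have ha : @Algebra.trdeg k (X.residueField x) _ _ (Curv2.resAlgebra k X x) = (0 : ℕ) := by
    rw [Groth.Agent.Lib.Helper21.FieldDim.resAlgebra_trdeg_eq_td k X x, h0]
  have := Groth.Agent.S1621.result k X x 0 b ha hb
  rw [this, hb]
  simp

end Groth.Agent.S1617
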