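import Groth.Statements.S16174
import Groth.Agent.Lib.Helper9.HenselLift
-- import your own Groth.Agent.* helpers here

set_option autoImplicit false
universe u
open Hensel

namespace Groth.Agent.S16174

/-- Let V be a Henselian valuation ring and p a prime ideal of V. Then the local rings V_p (localisation
at p) and V/p are Henselian. (Both are again valuation rings, which is elementary and not restated.) -/
theorem result (V : Type u) [CommRing V]
    [IsDomain V] [ValuationRing V] [HenselianLocalRing V] (p : Ideal V) [p.IsPrime] :
    HenselianLocalRing (Localization.AtPrime p) ∧ HenselianLocalRing (V ⧸ p) := by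
  have hVm : HenselianRing V
      (@IsLocalRing.maximalIdeal V _ (‹HenselianLocalRing V›).toIsLocalRing) := inferInstance
  have hpm : p ≤ IsLocalRing.maximalIdeal V := IsLocalRing.le_maximalIdeal (Ideal.IsPrime.ne_top ‹_›)
  -- general principle: Henselian at the maximal ideal of a local ring gives `HenselianLocalRing`
  have key : ∀ (R : Type u) [CommRing R] [IsLocalRing R],
      HenselianRing R (IsLocalRing.maximalIdeal R) → HenselianLocalRing R := by
    intro R _ _ hH
    refine { is_henselian := ?_ }
    intro f hf a₀ h₁ h₂
    exact hH.is_henselian f hf a₀ h₁ (h₂.map _)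
  constructor
  · -- the localisation
    have hVp : HenselianRing V p := Groth.Agent.Lib.Helper37.henselianRing_of_le hpm
    have hmap : p.map (algebraMap V (Localization.AtPrime p)) =
        IsLocalRing.maximalIdeal (Localization.AtPrime p) :=
      Localization.AtPrime.map_eq_maximalIdeal
    have hjac : p.map (algebraMap V (Localization.AtPrime p)) ≤ Ideal.jacobson ⊥ := by
      rw [hmap]
      exact IsLocalRing.maximalIdeal_le_jacobson _
    have hlift : ∀ b ∈ p.map (algebraMap V (Localization.AtPrime p)),
        ∃ a ∈ p, algebraMap V (Localization.AtPrime p) a = b := by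
      intro b hb
      rw [IsLocalization.mem_map_algebraMap_iff p.primeCompl] at hb
      obtain ⟨⟨⟨a, ha⟩, ⟨s, hs⟩⟩, h⟩ := hb
      simp only at h
      rcases ValuationRing.dvd_total a s with hdvd | hdvd
      · exfalso
        obtain ⟨c, rfl⟩ := hdvd
        exact hs (p.mul_mem_right c ha)
      · obtain ⟨c, rfl⟩ := hdvd
        have hc : c ∈ p := by
          rcases Ideal.IsPrime.mem_or_mem ‹_› ha with h' | h'
          · exact absurd h' hs
          · exact h'
        refine ⟨c, hc, ?_⟩
        have hsu : IsUnit (algebraMap V (Localization.AtPrime p) s) :=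
          IsLocalization.map_units _ (⟨s, hs⟩ : p.primeCompl)
        apply hsu.mul_left_cancel
        rw [← map_mul, ← h, mul_comm]
    have := Groth.Agent.Lib.Helper9.henselianRing_map_of_lift
      (algebraMap V (Localization.AtPrime p)) p hjac hlift
    rw [hmap] at this
    exact key _ this
  · -- the quotient
    have hsurj : Function.Surjective (Ideal.Quotient.mk p) := Ideal.Quotient.mk_surjective
    have hloc : IsLocalRing (V ⧸ p) := IsLocalRing.of_surjective' (Ideal.Quotient.mk p) hsurj
    have hH := Groth.Agent.Lib.Helper37.henselianRing_map_of_surjective (Ideal.Quotient.mk p) hsurj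
      (IsLocalRing.maximalIdeal V)
    have hmap : (IsLocalRing.maximalIdeal V).map (Ideal.Quotient.mk p) =
        IsLocalRing.maximalIdeal (V ⧸ p) :=
      IsLocalRing.map_maximalIdeal_of_surjective _ hsurj
    rw [hmap] at hH
    exact key _ hH

end Groth.Agent.S16174
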