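import Groth.Statements.S16179
-- import your own Groth.Agent.* helpers here
import Mathlib
import Groth.Agent.S16178
import Groth.Agent.Lib.Helper36.Nagata.FP
import Groth.Agent.Lib.Helper46.TorShift

set_option autoImplicit false
universe u
open CategoryTheory
open CAlg

namespace Groth.Agent.S16179

/-- Let V be a valuation ring, B a flat V-algebra of finite presentation, q a prime ideal of B lying
over the prime p of V, A = B_q the local ring of Spec B at q, and suppose that the local ring A/pA
of the fibre over p at q is a regular local ring of dimension n. Then every finitely presented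
A-module M has projective dimension at most n + 1 over A. -/
theorem result (V : Type u) [CommRing V] [IsDomain V] [ValuationRing V]
    (B : Type u) [CommRing B] [Algebra V B] [Module.Flat V B] [Algebra.FinitePresentation V B]
    (q : Ideal B) [q.IsPrime] (n : ℕ)
    (hreg : IsRegularLocalRing (Localization.AtPrime q ⧸ Ideal.map (algebraMap V (Localization.AtPrime q)) (Ideal.comap (algebraMap V B) q)))
    (hn : ringKrullDim (Localization.AtPrime q ⧸ Ideal.map (algebraMap V (Localization.AtPrime q)) (Ideal.comap (algebraMap V B) q)) = n)
    (M : Type u) [AddCommGroup M] [Module (Localization.AtPrime q) M] [Module.FinitePresentation (Localization.AtPrime q) M] :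
    HasProjectiveDimensionLE (ModuleCat.of (Localization.AtPrime q) M) (n + 1) := by
  classical
  obtain ⟨r, π, hπ⟩ := Module.Finite.exists_fin' (Localization.AtPrime q) M
  have hKfg : (LinearMap.ker π).FG := Module.FinitePresentation.fg_ker π hπ
  have hfinK : Module.Finite (Localization.AtPrime q) (LinearMap.ker π) :=
    Module.Finite.iff_fg.2 hKfg
  -- torsion-freeness over `V`
  have hflatA : Module.Flat V (Localization.AtPrime q) := Module.Flat.trans V B _
  have htfK : Module.IsTorsionFree V (LinearMap.ker π) :=
    Function.Injective.moduleIsTorsionFree ((LinearMap.ker π).subtype : LinearMap.ker π → _)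
      (LinearMap.ker π).subtype_injective (fun _ _ => rfl)
  have hBA : IsScalarTower B (Localization.AtPrime q) (LinearMap.ker π) := inferInstance
  have hVB : IsScalarTower V B (LinearMap.ker π) := inferInstance
  have hfpK : Module.FinitePresentation (Localization.AtPrime q) (LinearMap.ker π) :=
    Groth.Agent.Lib.Helper36.Nagata.finitePresentation_of_isLocalization (V := V) B q.primeCompl
      (Localization.AtPrime q) (LinearMap.ker π)
  have hflK : Module.Flat V (LinearMap.ker π) := by
    rw [Module.Flat.flat_iff_torsion_eq_bot_of_isBezout]
    exact Submodule.isTorsionFree_iff_torsion_eq_bot.1 htfK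
  have hK := Groth.Agent.S16178.result V B q n hreg hn (LinearMap.ker π)
  have hses := Groth.Agent.Lib.Helper46.TorShift.sesSC_shortExact (LinearMap.ker π).subtype π
    (LinearMap.ker π).subtype_injective (LinearMap.exact_subtype_ker_map π) hπ
  have hproj : Projective (ModuleCat.of (Localization.AtPrime q) (Fin r → Localization.AtPrime q)) :=
    ModuleCat.projective_of_free (Pi.basisFun (Localization.AtPrime q) (Fin r))
  exact (hses.hasProjectiveDimensionLT_X₃_iff n hproj).2 hK

end Groth.Agent.S16179
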