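import Groth.Statements.S1618
import Mathlib
import Groth.Agent.Lib.Helper21.FieldDim
-- import your own Groth.Agent.* helpers here

set_option autoImplicit false
universe u
open CategoryTheory CategoryTheory.Limits AlgebraicGeometry
open Variety

namespace Groth.Agent.S1618

/-- Let X be irreducible and locally of finite type over a field k. Then every nonempty open subset of X
has the same Krull dimension as X. -/
theorem result (k : Type u) [Field k] (X : Scheme.{u}) [X.Over (Spec (CommRingCat.of k))] [LocallyOfFiniteType (X ↘ (Spec (CommRingCat.of k)))] [IrreducibleSpace X]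
    (U : X.Opens) (hU : (U : Set X).Nonempty) : topologicalKrullDim U = topologicalKrullDim X := by
  apply le_antisymm
  · exact topologicalKrullDim_subspace_le X (U : Set X)
  · have h := Groth.Agent.Lib.Helper21.FieldDim.dim_eq_td_genericPoint (X ↘ Spec (CommRingCat.of k))
    rw [h]
    have hmem : genericPoint X ∈ (U : Set X) :=
      ((genericPoint_spec X).mem_open_set_iff U.isOpen).mpr (by simpa using hU)
    exact (Groth.Agent.Lib.Helper21.FieldDim.dim_le_iff_of_isLocallyClosed
      (X ↘ Spec (CommRingCat.of k)) (U : Set X) U.isOpen.isLocallyClosed _).mp le_rfl _ hmem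

end Groth.Agent.S1618
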