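import Groth.Statements.S16180
-- import your own Groth.Agent.* helpers here
import Mathlib
import Groth.Agent.S16178
import Groth.Agent.Lib.Helper36.Nagata.FP
import Groth.Agent.Lib.Helper36.Nagata.Reflexive
import Groth.Agent.Lib.Helper46.TorShift

set_option autoImplicit false
universe u
open CategoryTheory
open CAlg

namespace Groth.Agent.S16180

/-- Let V be a valuation ring, B a flat V-algebra of finite presentation, q a prime ideal of B lying
over the prime p of V, A = B_q the local ring of Spec B at q, and suppose that the local ring A/pA
of the fibre over p at q is a regular local ring of dimension n. Then every finitely presented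
A-module M which is reflexive (the evaluation map into its double A-dual is bijective) has
projective dimension at most max(0, n - 1) over A (written with truncated subtraction of natural
numbers). -/
theorem result (V : Type u) [CommRing V] [IsDomain V] [ValuationRing V]
    (B : Type u) [CommRing B] [Algebra V B] [Module.Flat V B] [Algebra.FinitePresentation V B]
    (q : Ideal B) [q.IsPrime] (n : ℕ)
    (hreg : IsRegularLocalRing (Localization.AtPrime q ⧸ Ideal.map (algebraMap V (Localization.AtPrime q)) (Ideal.comap (algebraMap V B) q)))
    (hn : ringKrullDim (Localization.AtPrime q ⧸ Ideal.map (algebraMap V (Localization.AtPrime q)) (Ideal.comap (algebraMap V B) q)) = n)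
    (M : Type u) [AddCommGroup M] [Module (Localization.AtPrime q) M] [Module.FinitePresentation (Localization.AtPrime q) M]
    [Module.IsReflexive (Localization.AtPrime q) M] :
    HasProjectiveDimensionLE (ModuleCat.of (Localization.AtPrime q) M) (n - 1) := by
  classical
  have hflatA : Module.Flat V (Localization.AtPrime q) := Module.Flat.trans V B _
  -- coherence input from Nagata's theorem
  have hcoh : ∀ (s : ℕ) (W : Submodule (Localization.AtPrime q)
      (Module.Dual (Localization.AtPrime q) (Fin s → Localization.AtPrime q))), W.FG →
      Module.FinitePresentation (Localization.AtPrime q) W := by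
    intro s W hW
    have hfin : Module.Finite (Localization.AtPrime q) W := Module.Finite.iff_fg.2 hW
    have htfD : Module.IsTorsionFree V
        (Module.Dual (Localization.AtPrime q) (Fin s → Localization.AtPrime q)) :=
      Function.Injective.moduleIsTorsionFree
        (fun ℓ : Module.Dual (Localization.AtPrime q) (Fin s → Localization.AtPrime q) =>
          (ℓ : (Fin s → Localization.AtPrime q) → Localization.AtPrime q))
        DFunLike.coe_injective (fun _ _ => rfl)
    have htfW : Module.IsTorsionFree V W :=
      Function.Injective.moduleIsTorsionFree (W.subtype : W → _) W.subtype_injective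
        (fun _ _ => rfl)
    exact Groth.Agent.Lib.Helper36.Nagata.finitePresentation_of_isLocalization (V := V) B
      q.primeCompl (Localization.AtPrime q) W
  have hfinD : Module.Finite (Localization.AtPrime q) (Module.Dual (Localization.AtPrime q) M) :=
    Groth.Agent.Lib.Helper36.Nagata.finite_dual_of_finitePresentation hcoh M
  obtain ⟨b, ψ, hψ⟩ := Module.Finite.exists_fin' (Localization.AtPrime q)
    (Module.Dual (Localization.AtPrime q) M)
  have hj : Function.Injective (ψ.dualMap ∘ₗ Module.Dual.eval (Localization.AtPrime q) M) :=
    Groth.Agent.Lib.Helper36.Nagata.injective_dualMap_comp_eval ψ hψ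
  -- the cokernel
  have hfpC : Module.FinitePresentation (Localization.AtPrime q)
      (Module.Dual (Localization.AtPrime q) (Fin b → Localization.AtPrime q) ⧸
        LinearMap.range (ψ.dualMap ∘ₗ Module.Dual.eval (Localization.AtPrime q) M)) := by
    have hfpD : Module.FinitePresentation (Localization.AtPrime q)
        (Module.Dual (Localization.AtPrime q) (Fin b → Localization.AtPrime q)) :=
      Module.finitePresentation_of_projective _ _
    refine Module.finitePresentation_of_surjective
      (LinearMap.range (ψ.dualMap ∘ₗ Module.Dual.eval (Localization.AtPrime q) M)).mkQ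
      (Submodule.mkQ_surjective _) ?_
    rw [Submodule.ker_mkQ, LinearMap.range_eq_map]
    exact (Module.Finite.fg_top).map _
  have htfC : Module.IsTorsionFree V
      (Module.Dual (Localization.AtPrime q) (Fin b → Localization.AtPrime q) ⧸
        LinearMap.range (ψ.dualMap ∘ₗ Module.Dual.eval (Localization.AtPrime q) M)) := by
    refine Module.IsTorsionFree.of_smul_eq_zero fun v x hvx => ?_
    obtain ⟨y, rfl⟩ := Submodule.Quotient.mk_surjective _ x
    by_cases hv : v = 0
    · exact Or.inl hv
    · right
      rw [← Submodule.Quotient.mk_smul, Submodule.Quotient.mk_eq_zero] at hvx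
      rw [Submodule.Quotient.mk_eq_zero]
      have hreg : IsSMulRegular (Localization.AtPrime q)
          (algebraMap V (Localization.AtPrime q) v) := by
        intro a₁ a₂ h
        simp only [smul_eq_mul, ← Algebra.smul_def] at h
        exact (smul_right_inj hv).1 h
      refine Groth.Agent.Lib.Helper36.Nagata.mem_range_of_smul_mem_range ψ hψ
        (algebraMap V (Localization.AtPrime q) v) hreg y ?_
      rwa [algebraMap_smul]
  have hflC : Module.Flat V
      (Module.Dual (Localization.AtPrime q) (Fin b → Localization.AtPrime q) ⧸
        LinearMap.range (ψ.dualMap ∘ₗ Module.Dual.eval (Localization.AtPrime q) M)) := by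
    rw [Module.Flat.flat_iff_torsion_eq_bot_of_isBezout]
    exact Submodule.isTorsionFree_iff_torsion_eq_bot.1 htfC
  have hC := Groth.Agent.S16178.result V B q n hreg hn
    (Module.Dual (Localization.AtPrime q) (Fin b → Localization.AtPrime q) ⧸
        LinearMap.range (ψ.dualMap ∘ₗ Module.Dual.eval (Localization.AtPrime q) M))
  have hses := Groth.Agent.Lib.Helper46.TorShift.sesSC_shortExact
    (ψ.dualMap ∘ₗ Module.Dual.eval (Localization.AtPrime q) M)
    (LinearMap.range (ψ.dualMap ∘ₗ Module.Dual.eval (Localization.AtPrime q) M)).mkQ
    hj (LinearMap.exact_map_mkQ_range _) (Submodule.mkQ_surjective _)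
  have hproj : Projective (ModuleCat.of (Localization.AtPrime q)
      (Module.Dual (Localization.AtPrime q) (Fin b → Localization.AtPrime q))) :=
    (IsProjective.iff_projective _).1 inferInstance
  have h₂ : HasProjectiveDimensionLT (ModuleCat.of (Localization.AtPrime q)
      (Module.Dual (Localization.AtPrime q) (Fin b → Localization.AtPrime q))) (n - 1 + 1) :=
    hasProjectiveDimensionLT_of_ge _ 1 (n - 1 + 1) (by omega)
  have h₃ : HasProjectiveDimensionLT (ModuleCat.of (Localization.AtPrime q)
      (Module.Dual (Localization.AtPrime q) (Fin b → Localization.AtPrime q) ⧸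
        LinearMap.range (ψ.dualMap ∘ₗ Module.Dual.eval (Localization.AtPrime q) M)))
      (n - 1 + 1 + 1) :=
    hasProjectiveDimensionLT_of_ge _ (n + 1) (n - 1 + 1 + 1) (by omega)
  exact hses.hasProjectiveDimensionLT_X₁ (n - 1 + 1) h₂ h₃

end Groth.Agent.S16180
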