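import Groth.Statements.S16185
import Mathlib
import Groth.Agent.Lib.Helper33.PullbackStalk2
import Groth.Agent.Lib.Helper33.GorComp

set_option autoImplicit false
universe u
open CategoryTheory CategoryTheory.Limits AlgebraicGeometry
open Dual3

namespace Groth.Agent.S16185

/-- Let A be an Artinian local ring with maximal ideal m and let f : P → Spec A be a flat morphism of
schemes whose closed fibre X = P ×_{Spec A} Spec (A/m) is a Gorenstein scheme (locally Noetherian,
all local rings Gorenstein). Then f is a Gorenstein morphism: flat at every point with Gorenstein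
local rings on its fibres. (The source takes A to be a local Artinian algebra over a field k with
residue field k and X a k-scheme deformed flatly over A; the k-algebra structure plays no role, so
the residue field of A is used directly.) -/
theorem result
    {A : Type u} [CommRing A] [IsArtinianRing A] [IsLocalRing A]
    {P X : Scheme.{u}} (f : P ⟶ Spec (CommRingCat.of A)) [Flat f]
    (i : X ⟶ P) (q : X ⟶ Spec (CommRingCat.of (IsLocalRing.ResidueField A)))
    (hsq : IsPullback i q f (Spec.map (CommRingCat.ofHom (IsLocalRing.residue A))))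
    (hX : Dual3.IsGorenstein X) : Dual3.IsGorensteinMor f := by
  intro x
  refine ⟨AlgebraicGeometry.Flat.stalkMap f x, ?_⟩
  -- every point of `Spec A` is the closed point
  have hpt : ∀ y : Spec (CommRingCat.of A), y.asIdeal = IsLocalRing.maximalIdeal A := by
    intro y
    haveI : y.asIdeal.IsPrime := y.isPrime
    haveI : y.asIdeal.IsMaximal := IsArtinianRing.isMaximal_of_isPrime y.asIdeal
    exact IsLocalRing.eq_maximalIdeal ‹_›
  -- a point of `X` over `x`
  obtain ⟨x', hx'⟩ : ∃ x' : X, i.base x' = x := by
    have hy : f.base x = (Spec.map (CommRingCat.ofHom (IsLocalRing.residue A))).base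
        (IsLocalRing.closedPoint (IsLocalRing.ResidueField A)) := by
      apply PrimeSpectrum.ext
      rw [hpt, hpt]
    obtain ⟨z, hz1, -⟩ := AlgebraicGeometry.Scheme.Pullback.exists_preimage_pullback x _ hy
    refine ⟨hsq.isoPullback.inv.base z, ?_⟩
    rw [← Scheme.Hom.comp_apply, hsq.isoPullback_inv_fst]
    exact hz1
  subst hx'
  obtain ⟨π, hπ, hkerπ⟩ := Groth.Agent.Lib.Helper33.GorComp.exists_fibre_proj f (i.base x')
  have hφ : Function.Surjective (CommRingCat.ofHom (IsLocalRing.residue A)).hom :=
    IsLocalRing.residue_surjective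
  have hker := Groth.Agent.Lib.Helper33.PullbackStalk.ker_stalkMap f q i
    (CommRingCat.ofHom (IsLocalRing.residue A)) hφ hsq x'
  have hsurj := Groth.Agent.Lib.Helper33.PullbackStalk.stalkMap_surjective f q i
    (CommRingCat.ofHom (IsLocalRing.residue A)) hφ hsq x'
  refine Groth.Agent.Lib.Helper33.PullbackStalk.gorenstein_of_ker_eq (i.stalkMap x').hom π hsurj hπ
    ?_ (hX.2 x')
  rw [hker, hkerπ, ← Groth.Agent.Lib.Helper33.PullbackStalk.map_asIdeal_gl, hpt]
  congr 1
  exact IsLocalRing.ker_residue

end Groth.Agent.S16185
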