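import Groth.Statements.S16188
-- import your own Groth.Agent.* helpers here
import Mathlib
import Groth.Agent.S2285

set_option autoImplicit false
universe u
open CategoryTheory AlgebraicGeometry TopologicalSpace
open SchMor

namespace Groth.Agent.S16188

/-- Let f : X → Y be a morphism of schemes with X reduced and irreducible. Then f factors through an
irreducible component of Y carrying its reduced closed-subscheme structure: there are an irreducible
component Z of Y and a morphism g from X to the closed subscheme of Y cut out by the vanishing ideal
sheaf of Z with g followed by the inclusion equal to f; that closed subscheme is integral. -/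
theorem result
    {X Y : Scheme.{u}} (f : X ⟶ Y) [IsReduced X] [IrreducibleSpace X] :
    ∃ (Z : Closeds Y) (_ : (Z : Set Y) ∈ irreducibleComponents Y)
      (_ : IsIntegral (Scheme.IdealSheafData.vanishingIdeal Z).subscheme)
      (g : X ⟶ (Scheme.IdealSheafData.vanishingIdeal Z).subscheme),
      g ≫ (Scheme.IdealSheafData.vanishingIdeal Z).subschemeι = f := by
  have hirr : IsIrreducible (Set.range f) := by
    rw [← Set.image_univ]
    exact (IrreducibleSpace.isIrreducible_univ X).image f f.continuous.continuousOn
  obtain ⟨Z', hZ', hsub⟩ := exists_mem_irreducibleComponents_subset_of_isIrreducible _ hirr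
  let Z : Closeds Y := ⟨Z', isClosed_of_mem_irreducibleComponents Z' hZ'⟩
  have hred : IsReduced (Scheme.IdealSheafData.vanishingIdeal Z).subscheme :=
    Groth.Agent.S2285.isReduced_vanishingIdeal_subscheme Z
  have hrange : Set.range (Scheme.IdealSheafData.vanishingIdeal Z).subschemeι = Z' := by
    rw [Scheme.IdealSheafData.range_subschemeι, Scheme.IdealSheafData.coe_support_vanishingIdeal]
    rfl
  have hirrsp : IrreducibleSpace (Scheme.IdealSheafData.vanishingIdeal Z).subscheme := by
    have h : IsIrreducible ((Scheme.IdealSheafData.vanishingIdeal Z).support : Set Y) := by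
      rw [Scheme.IdealSheafData.coe_support_vanishingIdeal]
      exact hZ'.1
    exact Subtype.irreducibleSpace h
  have hint : IsIntegral (Scheme.IdealSheafData.vanishingIdeal Z).subscheme :=
    (isIntegral_iff_irreducibleSpace_and_isReduced _).mpr ⟨hirrsp, hred⟩
  obtain ⟨g, hg⟩ := Groth.Agent.S2285.exists_factor_of_isReduced f
    (Scheme.IdealSheafData.vanishingIdeal Z).subschemeι (by rw [hrange]; exact hsub)
  exact ⟨Z, hZ', hint, g, hg⟩

end Groth.Agent.S16188
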