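import Groth.Statements.S16194
import Mathlib.Tactic
-- import your own Groth.Agent.* helpers here

set_option autoImplicit false
universe u
open DivAlg

namespace Groth.Agent.S16194


theorem exists_left_inv {R : Type u} [Ring R] (r : R) (hr : r ∈ Ring.jacobson R) :
    ∃ s : R, s * (1 - r) = 1 := by
  by_contra hcon
  have hne : Ideal.span {(1 - r : R)} ≠ ⊤ := by
    intro htop
    have h1 : (1 : R) ∈ Ideal.span {(1 - r : R)} := by rw [htop]; trivial
    obtain ⟨s, hs⟩ := Ideal.mem_span_singleton'.mp h1
    exact hcon ⟨s, hs⟩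
  obtain ⟨m, hm, hle⟩ := Ideal.exists_le_maximal _ hne
  have hrm : r ∈ m := by
    have := Ring.jacobson_le_of_isMaximal m hr
    exact this
  have h1r : (1 - r : R) ∈ m := hle (Ideal.subset_span rfl)
  have : (1 : R) ∈ m := by
    have := m.add_mem h1r hrm
    simpa using this
  exact hm.ne_top ((Ideal.eq_top_iff_one m).mpr this)

/-- In an associative unital ring R, not necessarily commutative, every element r of the Jacobson
radical (the set of elements lying in every maximal left ideal) is quasiregular, i.e. 1 - r is a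
two-sided unit. -/
theorem result {R : Type u} [Ring R] (r : R)
    (hr : r ∈ Ring.jacobson R) : IsUnit (1 - r) := by
  obtain ⟨s, hs⟩ := exists_left_inv r hr
  have hsr : -(s * r) ∈ Ring.jacobson R :=
    (Ring.jacobson R).neg_mem ((Ring.jacobson R).mul_mem_left s hr)
  obtain ⟨t, ht⟩ := exists_left_inv (-(s * r)) hsr
  have hs' : s = 1 - (-(s * r)) := by
    have : s * (1 - r) = s - s * r := by rw [mul_sub, mul_one]
    rw [this] at hs
    rw [sub_neg_eq_add, ← hs]; abel
  rw [← hs'] at ht
  -- t * s = 1 and s * (1 - r) = 1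
  have hte : t = 1 - r := by
    calc t = t * (s * (1 - r)) := by rw [hs, mul_one]
      _ = (t * s) * (1 - r) := by rw [mul_assoc]
      _ = 1 - r := by rw [ht, one_mul]
  rw [hte] at ht
  exact ⟨⟨1 - r, s, ht, hs⟩, rfl⟩

end Groth.Agent.S16194
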