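import Groth.Statements.S16196
import Mathlib.Tactic
-- import your own Groth.Agent.* helpers here

set_option autoImplicit false
universe u v
open DivAlg

namespace Groth.Agent.S16196

/-- Let R be a ring (associative, unital, not necessarily commutative) and M a left R-module which is a
generator, in the form: for some n there is an R-linear surjection from M^n onto R. Then the natural
ring homomorphism from R to the double endomorphism ring BiEnd_R(M) = End_{End_R(M)}(M)
(endomorphisms of M commuting with every R-linear endomorphism), r ↦ multiplication by r, is
bijective. (The printed form takes R an algebra over a commutative ring k, embeds R in E = End_k(M)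
and asserts R = C_E(C_E(R)); the double centralizer there is BiEnd_R(M).) -/
theorem result {R : Type u} [Ring R] (M : Type v)
    [AddCommGroup M] [Module R M]
    (hgen : ∃ (n : ℕ) (f : (Fin n → M) →ₗ[R] R), Function.Surjective f) :
    Function.Bijective (Module.toModuleEnd (Module.End R M) (S := R) M) := by
  classical
  obtain ⟨n, f, hf⟩ := hgen
  obtain ⟨v, hv⟩ := hf 1
  constructor
  · -- injective
    rw [injective_iff_map_eq_zero]
    intro r hr
    have h0 : ∀ m : M, r • m = 0 := by
      intro m
      have := LinearMap.congr_fun hr m
      simpa using this
    have : r • v = 0 := by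
      funext j
      simp [h0]
    calc r = r • f v := by rw [hv, smul_eq_mul, mul_one]
      _ = f (r • v) := by rw [map_smul]
      _ = 0 := by rw [this, map_zero]
  · -- surjective
    intro T
    refine ⟨f (fun j => T (v j)), ?_⟩
    apply LinearMap.ext
    intro m
    -- the R-linear maps x ↦ f (single j x) • m
    let φ : Fin n → Module.End R M := fun j =>
      (LinearMap.toSpanSingleton R M m).comp (f.comp (LinearMap.single R (fun _ : Fin n => M) j))
    have hφ : ∀ j x, φ j x = f (Pi.single j x) • m := by
      intro j x
      simp [φ, LinearMap.toSpanSingleton_apply]
    have hT : ∀ j x, T (φ j x) = φ j (T x) := by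
      intro j x
      have := T.map_smul (φ j) x
      simpa [Module.End.smul_def] using this
    have hsum : ∀ w : Fin n → M, f w = ∑ j, f (Pi.single j (w j)) := by
      intro w
      rw [← map_sum]
      congr 1
      exact (Finset.univ_sum_single w).symm
    have h1 : m = ∑ j, φ j (v j) := by
      simp_rw [hφ, ← Finset.sum_smul, ← hsum, hv, one_smul]
    have h2 : T m = ∑ j, φ j (T (v j)) := by
      conv_lhs => rw [h1]
      rw [map_sum]
      exact Finset.sum_congr rfl fun j _ => hT j (v j)
    rw [h2]
    simp_rw [hφ, ← Finset.sum_smul]
    rw [← hsum (fun j => T (v j))]
    simp

end Groth.Agent.S16196
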