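import Groth.Statements.S16197
import Mathlib.Tactic
-- import your own Groth.Agent.* helpers here

set_option autoImplicit false
universe u v w
open DivAlg

namespace Groth.Agent.S16197

/-- Let R be a ring (associative, unital, not necessarily commutative) and M a left R-module which is a
generator, used here only through the existence of an R-linear surjection from a direct sum of
copies of M, indexed by an arbitrary type, onto R. Then some finite power M^n decomposes as R × Q
for a submodule Q of M^n. (The published statement is an equivalence; this row states only the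
implication from the existence of such a surjection to the splitting.) -/
theorem result {R : Type u} [Ring R] (M : Type v)
    [AddCommGroup M] [Module R M]
    (hgen : ∃ (ι : Type w) (f : (ι →₀ M) →ₗ[R] R), Function.Surjective f) :
    ∃ (n : ℕ) (Q : Submodule R (Fin n → M)), Nonempty ((Fin n → M) ≃ₗ[R] (R × Q)) := by
  classical
  obtain ⟨ι, f, hf⟩ := hgen
  obtain ⟨x, hx⟩ := hf 1
  let s := x.support
  let n := s.card
  let e : s ≃ Fin n := s.equivFin
  -- the restricted map
  let g : (Fin n → M) →ₗ[R] R :=
    ∑ j : Fin n, (f.comp (Finsupp.lsingle ((e.symm j : s) : ι))).comp (LinearMap.proj j)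
  let v₀ : Fin n → M := fun j => x ((e.symm j : s) : ι)
  have hg : g v₀ = 1 := by
    have h1 : g v₀ = ∑ j : Fin n, f (Finsupp.single ((e.symm j : s) : ι) (x ((e.symm j : s) : ι))) := by
      simp [g, v₀, LinearMap.sum_apply]
    rw [h1, ← map_sum]
    have h2 : ∑ j : Fin n, Finsupp.single ((e.symm j : s) : ι) (x ((e.symm j : s) : ι)) = x := by
      rw [Fintype.sum_equiv e.symm (fun j => Finsupp.single ((e.symm j : s) : ι) (x ((e.symm j : s) : ι)))
        (fun i : s => Finsupp.single (i : ι) (x (i : ι))) (fun _ => rfl)]
      rw [Finset.sum_coe_sort s (fun i => Finsupp.single i (x i))]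
      exact x.sum_single
    rw [h2, hx]
  refine ⟨n, LinearMap.ker g, ⟨?_⟩⟩
  refine
    { toFun := fun v => (g v, ⟨v - g v • v₀, by
        rw [LinearMap.mem_ker, map_sub, map_smul, hg, smul_eq_mul, mul_one, sub_self]⟩)
      map_add' := fun a b => by
        ext1
        · simp
        · apply Subtype.ext
          simp only [map_add, add_smul, Prod.snd_add, Submodule.coe_add]
          abel
      map_smul' := fun r a => by
        ext1
        · simp
        · apply Subtype.ext
          simp only [map_smul, smul_eq_mul, RingHom.id_apply, Prod.smul_snd, Submodule.coe_smul, mul_smul, smul_sub]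
      invFun := fun p => p.1 • v₀ + (p.2 : Fin n → M)
      left_inv := fun v => by simp
      right_inv := fun p => by
        have hp : g (p.2 : Fin n → M) = 0 := p.2.2
        ext1
        · simp [hg, hp]
        · apply Subtype.ext
          simp [hg, hp] }

end Groth.Agent.S16197
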