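import Groth.Statements.S16199
import Groth.Agent.Lib.Helper98.MoritaInner

set_option autoImplicit false
universe u
open DivAlg
open scoped TensorProduct

namespace Groth.Agent.S16199

/-- Let R be a commutative ring and n ≥ 1. The natural map from GL_n(R) to the R-algebra automorphisms
of M_n(R) is surjective (every automorphism is inner) if and only if Pic_(n)(R) = 0, i.e. every
invertible R-module N with N^n ≅ R^n is free. (For n = 0 the left side holds trivially while the
right side fails whenever Pic(R) ≠ 0, so this row assumes n ≥ 1, which the published statement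
leaves implicit; invertible modules are quantified in the universe of R, which loses nothing since
every invertible module is finitely generated.) -/
theorem result {R : Type u} [CommRing R] (n : ℕ)
    (hn : 1 ≤ n) :
    (∀ φ : Matrix (Fin n) (Fin n) R ≃ₐ[R] Matrix (Fin n) (Fin n) R,
        ∃ P : GL (Fin n) R, ∀ A : Matrix (Fin n) (Fin n) R, φ A = P.1 * A * (P⁻¹).1) ↔
      (∀ (N : Type u) [AddCommGroup N] [Module R N] [Module.Invertible R N],
        Nonempty ((Fin n → N) ≃ₗ[R] (Fin n → R)) → Module.Free R N) := by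
  classical
  rcases subsingleton_or_nontrivial R with hR | hR
  · constructor
    · intro _ N _ _ _ _
      have : Subsingleton N := Module.subsingleton R N
      exact Module.Free.of_subsingleton R N
    · intro _ φ
      exact ⟨1, fun A => Subsingleton.elim _ _⟩
  have hne : Nonempty (Fin n) := ⟨⟨0, hn⟩⟩
  let T : Module.End R (Fin n → R) ≃ₐ[R] Matrix (Fin n) (Fin n) R := LinearMap.toMatrixAlgEquiv'
  constructor
  · intro H N _ _ _ hι
    obtain ⟨ι⟩ := hι
    let ξ₀ : (Fin n → R) ⊗[R] N ≃ₗ[R] (Fin n → R) :=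
      TensorProduct.comm R (Fin n → R) N ≪≫ₗ TensorProduct.piScalarRight R R N (Fin n) ≪≫ₗ ι
    obtain ⟨φ', hφ'⟩ :=
      Groth.Agent.Lib.Helper98.MoritaInner.exists_algEquiv_of_tensor_equiv (A := R) N ξ₀
    obtain ⟨P, hP⟩ := H ((T.symm.trans φ').trans T)
    have hPQ : T.symm P.1 * T.symm (P⁻¹).1 = 1 := by
      rw [← map_mul, ← Units.val_mul, mul_inv_cancel, Units.val_one, map_one]
    have hQP : T.symm (P⁻¹).1 * T.symm P.1 = 1 := by
      rw [← map_mul, ← Units.val_mul, inv_mul_cancel, Units.val_one, map_one]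
    obtain ⟨e⟩ := Groth.Agent.Lib.Helper98.MoritaInner.nonempty_equiv_of_inner (A := R) N ξ₀
      (T.symm P.1) (T.symm (P⁻¹).1) hPQ hQP (by
        intro f
        rw [← hφ']
        have h1 := hP (T f)
        simp only [AlgEquiv.trans_apply, AlgEquiv.symm_apply_apply] at h1
        apply T.injective
        rw [h1, map_mul, map_mul, AlgEquiv.apply_symm_apply, AlgEquiv.apply_symm_apply])
    exact Module.Free.of_equiv e.symm
  · intro H φ
    let φ' : Module.End R (Fin n → R) ≃ₐ[R] Module.End R (Fin n → R) := (T.trans φ).trans T.symm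
    obtain ⟨hinv, ξ, -, -⟩ :=
      Groth.Agent.Lib.Helper98.MoritaEnd.exists_invertible_tensor_equiv (A := R) φ'
    let ι : (Fin n → Groth.Agent.Lib.Helper98.MoritaEnd.HomE
        (φ' : Module.End R (Fin n → R) →ₐ[R] Module.End R (Fin n → R))) ≃ₗ[R] (Fin n → R) :=
      (TensorProduct.piScalarRight R R _ (Fin n)).symm ≪≫ₗ TensorProduct.comm R _ (Fin n → R) ≪≫ₗ ξ
    have hfree := H (Groth.Agent.Lib.Helper98.MoritaEnd.HomE
        (φ' : Module.End R (Fin n → R) →ₐ[R] Module.End R (Fin n → R))) ⟨ι⟩
    obtain ⟨e⟩ := Module.Invertible.free_iff_linearEquiv.mp hfree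
    obtain ⟨ξ', hξ'⟩ := Groth.Agent.Lib.Helper98.MoritaInner.exists_conj_of_equiv (A := R) φ' e
    have h12 : T ξ'.toLinearMap * T ξ'.symm.toLinearMap = 1 := by
      rw [← map_mul, Module.End.mul_eq_comp, LinearEquiv.comp_symm]
      exact map_one T
    have h21 : T ξ'.symm.toLinearMap * T ξ'.toLinearMap = 1 := by
      rw [← map_mul, Module.End.mul_eq_comp, LinearEquiv.symm_comp]
      exact map_one T
    refine ⟨⟨T ξ'.toLinearMap, T ξ'.symm.toLinearMap, h12, h21⟩, fun A => ?_⟩
    show φ A = T ξ'.toLinearMap * A * T ξ'.symm.toLinearMap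
    have h1 := hξ' (T.symm A)
    have h2 : φ' (T.symm A) = T.symm (φ A) := by
      simp only [φ', AlgEquiv.trans_apply, AlgEquiv.apply_symm_apply]
    rw [h2, LinearEquiv.conj_apply] at h1
    have h3 := congrArg T h1
    rw [AlgEquiv.apply_symm_apply] at h3
    rw [h3, ← Module.End.mul_eq_comp, ← Module.End.mul_eq_comp, map_mul, map_mul,
      AlgEquiv.apply_symm_apply]

end Groth.Agent.S16199
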