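import Groth.Statements.S1620
import Mathlib
import Groth.Agent.Lib.Helper21.FieldDim
-- import your own Groth.Agent.* helpers here

set_option autoImplicit false
universe u
open CategoryTheory CategoryTheory.Limits AlgebraicGeometry
attribute [local instance] Curv2.stalkAlgebra Curv2.resAlgebra
open Variety

namespace Groth.Agent.S1620

/-- Let X be locally of finite type over a field k and x ⤳ x' an immediate specialisation (x ≠ x' and no
point strictly in between). If the residue field of x' has transcendence degree n over k then the
residue field of x has transcendence degree n + 1. -/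
theorem result (k : Type u) [Field k] (X : Scheme.{u}) [X.Over (Spec (CommRingCat.of k))] [LocallyOfFiniteType (X ↘ (Spec (CommRingCat.of k)))] (x x' : X) (hne : x ≠ x') (hsp : x ⤳ x')
    (himm : ∀ y : X, x ⤳ y → y ⤳ x' → y = x ∨ y = x')
    (n : ℕ) (hn : Algebra.trdeg k (X.residueField x') = n) : Algebra.trdeg k (X.residueField x) = n + 1 := by
  have h1 := Groth.Agent.Lib.Helper21.FieldDim.td_eq_of_resAlgebra k X x' n hn
  have h2 := Groth.Agent.Lib.Helper21.FieldDim.td_eq_succ_of_immediate
    (X ↘ Spec (CommRingCat.of k)) hsp hne himm
  rw [Groth.Agent.Lib.Helper21.FieldDim.resAlgebra_trdeg_eq_td k X x, h2, h1]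
  push_cast
  rfl

end Groth.Agent.S1620
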