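import Groth.Statements.S16206
import Mathlib

set_option autoImplicit false
open RatCurv

namespace Groth.Agent.S16206

open W4c3cyccovratcurv SimpleGraph

variable {n k : ℕ}

lemma conicAdj_symm {T₁ T₂ : MarkedTree k} : ConicAdj T₁ T₂ → ConicAdj T₂ T₁ := by
  rintro ⟨u₁, w₁, u₂, w₂, h₁, h₂, φ, hφ, hm⟩
  refine ⟨u₂, w₂, u₁, w₁, h₂, h₁, φ.symm, ?_, ?_⟩
  · rw [← hφ]; simp
  · intro i; rw [← hm i]; simp

lemma conicAdj_of_eq (G G' : SimpleGraph (Fin n)) (t : G.IsTree) (t' : G'.IsTree)
    (m m' : Fin k → Fin n)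
    (u w : Fin n) (h : G.Adj u w) (h' : G'.Adj u w)
    (hc : contract G u w = contract G' u w)
    (hm : ∀ i, contractMark m u w h.ne i = contractMark m' u w h.ne i) :
    ConicAdj ⟨n, G, t, m⟩ ⟨n, G', t', m'⟩ := by
  refine ⟨u, w, u, w, h, h', ⟨Equiv.refl _, ?_⟩, rfl, ?_⟩
  · intro a b
    simp only [Equiv.refl_apply]
    rw [hc]
  · intro i; exact hm i

lemma rtg_symm {T₁ T₂ : MarkedTree k} (h : Relation.ReflTransGen ConicAdj T₁ T₂) :
    Relation.ReflTransGen ConicAdj T₂ T₁ := by
  induction h with
  | refl => exact .refl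
  | tail _ hbc ih => exact Relation.ReflTransGen.head (conicAdj_symm hbc) ih

/-- slide the edge `wx` to `ux`. -/
def slide (G : SimpleGraph (Fin n)) (u w x : Fin n) : SimpleGraph (Fin n) :=
  G.deleteEdges {s(w, x)} ⊔ edge u x

lemma reach_of_adj {V : Type*} {G H : SimpleGraph V} (h : ∀ a b, G.Adj a b → H.Reachable a b)
    {a b : V} (p : G.Walk a b) : H.Reachable a b := by
  induction p with
  | nil => exact Reachable.refl _
  | cons hadj _ ih => exact (h _ _ hadj).trans ih

lemma slide_isTree (G : SimpleGraph (Fin n)) (t : G.IsTree) (u w x : Fin n)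
    (huw : G.Adj u w) (hwx : G.Adj w x) (hxu : x ≠ u) : (slide G u w x).IsTree := by
  have h0 : (G.deleteEdges {s(w, x)}).Adj u w := by
    rw [deleteEdges_adj]
    refine ⟨huw, ?_⟩
    simp only [Set.mem_singleton_iff, Sym2.eq_iff, not_or, not_and]
    exact ⟨fun h _ => huw.ne h, fun h => absurd h.symm hxu⟩
  have hbr : ¬ (G.deleteEdges {s(w, x)}).Reachable w x :=
    isBridge_iff.mp (isAcyclic_iff_forall_adj_isBridge.mp t.isAcyclic hwx)
  have hnr : ¬ (G.deleteEdges {s(w, x)}).Reachable u x := fun h =>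
    hbr (h0.symm.reachable.trans h)
  have := t.connected.nonempty
  refine ⟨⟨?_⟩, ?_⟩
  · intro a b
    obtain ⟨p⟩ := t.connected.preconnected a b
    refine reach_of_adj ?_ p
    intro a b hab
    by_cases he : s(a, b) = s(w, x)
    · have h1 : (slide G u w x).Adj w u := Or.inl h0.symm
      have h2 : (slide G u w x).Adj u x := Or.inr (by rw [edge_adj]; exact ⟨Or.inl ⟨rfl, rfl⟩, hxu.symm⟩)
      have h3 : (slide G u w x).Reachable w x := h1.reachable.trans h2.reachable
      rcases Sym2.eq_iff.mp he with ⟨rfl, rfl⟩ | ⟨rfl, rfl⟩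
      · exact h3
      · exact h3.symm
    · exact Adj.reachable (Or.inl (by rw [deleteEdges_adj]; exact ⟨hab, he⟩) : (slide G u w x).Adj a b)
  · exact IsAcyclic.sup_edge_of_not_reachable hnr (t.isAcyclic.anti (deleteEdges_le _))

lemma slide_adj (G : SimpleGraph (Fin n)) (u w x a b : Fin n) :
    (slide G u w x).Adj a b ↔
      (G.Adj a b ∧ s(a, b) ≠ s(w, x)) ∨ ((a = u ∧ b = x ∨ a = x ∧ b = u) ∧ a ≠ b) := by
  unfold slide
  rw [sup_adj, deleteEdges_adj, edge_adj]
  simp

lemma contract_slide (G : SimpleGraph (Fin n)) (u w x : Fin n)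
    (huw : G.Adj u w) (hwx : G.Adj w x) (hxu : x ≠ u) :
    contract G u w = contract (slide G u w x) u w := by
  ext ⟨a, ha⟩ ⟨b, hb⟩
  simp only [contract, fromRel_adj, slide_adj, ne_eq, Subtype.mk.injEq, Sym2.eq_iff, not_or, not_and]
  have hwu : w ≠ u := huw.ne'
  have hwx' : w ≠ x := hwx.ne
  have hc := G.adj_comm a b
  grind

lemma exists_crossing {V : Type*} {G : SimpleGraph V} (S : Set V) {a b : V} (p : G.Walk a b)
    (ha : a ∈ S) (hb : b ∉ S) : ∃ w x, w ∈ S ∧ x ∉ S ∧ G.Adj w x := by
  induction p with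
  | nil => exact absurd ha hb
  | @cons a c b hadj p ih =>
    by_cases hc : c ∈ S
    · exact ih hc hb
    · exact ⟨a, c, ha, hc, hadj⟩

open Classical in
/-- vertices not in the closed neighbourhood of `r` -/
noncomputable def bad (G : SimpleGraph (Fin n)) (r : Fin n) : Finset (Fin n) :=
  Finset.univ.filter (fun v => v ≠ r ∧ ¬ G.Adj r v)

lemma mem_bad (G : SimpleGraph (Fin n)) (r v : Fin n) : v ∈ bad G r ↔ v ≠ r ∧ ¬ G.Adj r v := by
  classical
  simp [bad]

lemma slide_conicAdj (G : SimpleGraph (Fin n)) (t : G.IsTree) (m : Fin k → Fin n) (u w x : Fin n)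
    (huw : G.Adj u w) (hwx : G.Adj w x) (hxu : x ≠ u) :
    ConicAdj ⟨n, G, t, m⟩ ⟨n, slide G u w x, slide_isTree G t u w x huw hwx hxu, m⟩ := by
  refine conicAdj_of_eq G _ t _ m m u w huw ?_ (contract_slide G u w x huw hwx hxu) (fun i => rfl)
  rw [slide_adj]
  refine Or.inl ⟨huw, ?_⟩
  simp only [ne_eq, Sym2.eq_iff, not_or, not_and]
  exact ⟨fun h _ => huw.ne h, fun h => absurd h.symm hxu⟩

lemma phase2 (r : Fin n) (m : Fin k → Fin n) : ∀ (c : ℕ) (G : SimpleGraph (Fin n)) (t : G.IsTree),
    (bad G r).card = c → ∃ (G' : SimpleGraph (Fin n)) (t' : G'.IsTree),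
      (∀ v, v ≠ r → G'.Adj r v) ∧
      Relation.ReflTransGen ConicAdj (⟨n, G, t, m⟩ : MarkedTree k) ⟨n, G', t', m⟩ := by
  intro c
  induction c using Nat.strong_induction_on with
  | _ c ih =>
    intro G t hc
    by_cases hb : bad G r = ∅
    · refine ⟨G, t, ?_, Relation.ReflTransGen.refl⟩
      intro v hv
      by_contra hadj
      have : v ∈ bad G r := (mem_bad G r v).mpr ⟨hv, hadj⟩
      rw [hb] at this
      simp at this
    · obtain ⟨y, hy⟩ := Finset.nonempty_iff_ne_empty.mpr hb
      rw [mem_bad] at hy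
      obtain ⟨p⟩ := t.connected.preconnected r y
      obtain ⟨w, x, hw, hx, hwx⟩ := exists_crossing {v | v = r ∨ G.Adj r v} p (Or.inl rfl)
        (by simp only [Set.mem_setOf_eq, not_or]; exact hy)
      simp only [Set.mem_setOf_eq, not_or] at hw hx
      have hrw : G.Adj r w := by
        rcases hw with rfl | hw
        · exact absurd hwx hx.2
        · exact hw
      have hsub : bad (slide G r w x) r ⊂ bad G r := by
        rw [Finset.ssubset_iff_of_subset]
        · refine ⟨x, (mem_bad _ _ _).mpr hx, ?_⟩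
          rw [mem_bad, not_and_not_right]
          intro _
          rw [slide_adj]
          exact Or.inr ⟨Or.inl ⟨rfl, rfl⟩, Ne.symm hx.1⟩
        · intro v hv
          rw [mem_bad] at hv ⊢
          refine ⟨hv.1, fun hadj => hv.2 ?_⟩
          rw [slide_adj]
          refine Or.inl ⟨hadj, ?_⟩
          simp only [ne_eq, Sym2.eq_iff, not_or, not_and]
          exact ⟨fun h => absurd h hrw.ne, fun h => absurd h.symm hx.1⟩
      obtain ⟨G', t', hstar, hrel⟩ := ih _ (hc ▸ Finset.card_lt_card hsub) (slide G r w x)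
        (slide_isTree G t r w x hrw hwx hx.1) rfl
      exact ⟨G', t', hstar, Relation.ReflTransGen.head (slide_conicAdj G t m r w x hrw hwx hx.1) hrel⟩

lemma star_unique (G : SimpleGraph (Fin n)) (t : G.IsTree) (r : Fin n)
    (hstar : ∀ v, v ≠ r → G.Adj r v) (a b : Fin n) :
    G.Adj a b ↔ a ≠ b ∧ (a = r ∨ b = r) := by
  constructor
  · intro hab
    refine ⟨hab.ne, ?_⟩
    by_contra hcon
    rw [not_or] at hcon
    have hbr : ¬ (G.deleteEdges {s(a, b)}).Reachable a b :=
      isBridge_iff.mp (isAcyclic_iff_forall_adj_isBridge.mp t.isAcyclic hab)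
    apply hbr
    have h1 : (G.deleteEdges {s(a, b)}).Adj a r := by
      rw [deleteEdges_adj]
      refine ⟨(hstar a hcon.1).symm, ?_⟩
      simp only [Set.mem_singleton_iff, Sym2.eq_iff, not_or, not_and]
      exact ⟨fun _ h => hcon.2 h.symm, fun h => absurd h hab.ne⟩
    have h2 : (G.deleteEdges {s(a, b)}).Adj r b := by
      rw [deleteEdges_adj]
      refine ⟨hstar b hcon.2, ?_⟩
      simp only [Set.mem_singleton_iff, Sym2.eq_iff, not_or, not_and]
      exact ⟨fun h => absurd h.symm hcon.1, fun h => absurd h.symm hcon.2⟩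
    exact h1.reachable.trans h2.reachable
  · rintro ⟨hab, rfl | rfl⟩
    · exact hstar b (Ne.symm hab)
    · exact (hstar a hab).symm

lemma phase1 (G : SimpleGraph (Fin n)) (t : G.IsTree) (r : Fin n)
    (hstar : ∀ v, v ≠ r → G.Adj r v) : ∀ (c : ℕ) (m : Fin k → Fin n),
    (Finset.univ.filter (fun i => m i ≠ r)).card = c →
      Relation.ReflTransGen ConicAdj (⟨n, G, t, m⟩ : MarkedTree k) ⟨n, G, t, fun _ => r⟩ := by
  intro c
  induction c using Nat.strong_induction_on with
  | _ c ih =>
    intro m hc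
    by_cases hb : Finset.univ.filter (fun i => m i ≠ r) = ∅
    · have : m = fun _ => r := by
        funext i
        by_contra hi
        have : i ∈ Finset.univ.filter (fun i => m i ≠ r) := by simp [hi]
        rw [hb] at this
        simp at this
      subst this
      exact Relation.ReflTransGen.refl
    · obtain ⟨i, hi⟩ := Finset.nonempty_iff_ne_empty.mpr hb
      simp only [Finset.mem_filter, Finset.mem_univ, true_and] at hi
      have hrw : G.Adj r (m i) := hstar _ hi
      have hstep : ConicAdj (⟨n, G, t, m⟩ : MarkedTree k) ⟨n, G, t, Function.update m i r⟩ := by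
        refine conicAdj_of_eq G G t t m _ r (m i) hrw hrw rfl ?_
        intro j
        unfold contractMark
        by_cases hj : j = i
        · subst hj
          simp [hi.symm]
        · rw [Function.update_of_ne hj]
      have hsub : Finset.univ.filter (fun j => Function.update m i r j ≠ r) ⊂
          Finset.univ.filter (fun j => m j ≠ r) := by
        rw [Finset.ssubset_iff_of_subset]
        · exact ⟨i, by simp [hi], by simp⟩
        · intro j hj
          simp only [Finset.mem_filter, Finset.mem_univ, true_and] at hj ⊢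
          by_cases hji : j = i
          · subst hji; exact hi
          · rwa [Function.update_of_ne hji] at hj
      exact Relation.ReflTransGen.head hstep (ih _ (hc ▸ Finset.card_lt_card hsub) _ rfl)

lemma to_normal (G : SimpleGraph (Fin n)) (t : G.IsTree) (m : Fin k → Fin n) (r : Fin n) :
    ∃ (G' : SimpleGraph (Fin n)) (t' : G'.IsTree),
      (∀ a b, G'.Adj a b ↔ a ≠ b ∧ (a = r ∨ b = r)) ∧
      Relation.ReflTransGen ConicAdj (⟨n, G, t, m⟩ : MarkedTree k) ⟨n, G', t', fun _ => r⟩ := by
  obtain ⟨G', t', hstar, hrel⟩ := phase2 r m _ G t rfl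
  exact ⟨G', t', star_unique G' t' r hstar, hrel.trans (phase1 G' t' r hstar _ m rfl)⟩


/-- Let G₁ and G₂ be dual graphs of linear trees of the same total degree e and with k marked points
each, that is finite trees with e vertices, every vertex of degree one, together with a list of k
marked vertices (repetitions allowed). Then a finite chain of conic deformations leads from G₁ to
G₂. Here a conic deformation of such a graph is the marked graph obtained by contracting one edge
(the contracted vertex being the unique vertex of degree two), two marked trees are one step apart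
when they have isomorphic conic deformations, the isomorphism matching the contracted vertices and
the i-th marked vertices, and the conclusion is that G₁ and G₂ are related by the
reflexive-transitive closure of this one-step relation. -/
theorem result (k : ℕ) (T₁ T₂ : W4c3cyccovratcurv.MarkedTree k)
    (h : T₁.n = T₂.n) :
    Relation.ReflTransGen W4c3cyccovratcurv.ConicAdj T₁ T₂ := by
  obtain ⟨n, G₁, t₁, m₁⟩ := T₁
  obtain ⟨n', G₂, t₂, m₂⟩ := T₂
  simp only at h
  subst h
  have hne : Nonempty (Fin n) := t₁.connected.nonempty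
  obtain ⟨r⟩ := hne
  obtain ⟨G₁', t₁', h₁, hrel₁⟩ := to_normal G₁ t₁ m₁ r
  obtain ⟨G₂', t₂', h₂, hrel₂⟩ := to_normal G₂ t₂ m₂ r
  have hG : G₁' = G₂' := by
    ext a b
    rw [h₁, h₂]
  subst hG
  exact hrel₁.trans (rtg_symm hrel₂)

end Groth.Agent.S16206
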