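import Groth.Statements.S16211
import Mathlib
-- import your own Groth.Agent.* helpers here

set_option autoImplicit false
universe u v
open InvTh

namespace Groth.Agent.S16211


lemma key {ι B : Type*} [Fintype ι] [CommRing B] (x y : ι → B) (i₀ : ι)
    (h : ∀ i j k, (x i - x i₀) * (y j - y k) = 0) :
    (Fintype.card ι : B) * ∑ i, x i * y i = (∑ i, x i) * (∑ j, y j) := by
  have h1 : (Fintype.card ι : B) * ∑ i, x i * y i = ∑ i, ∑ _j : ι, x i * y i := by
    rw [Finset.mul_sum]
    refine Finset.sum_congr rfl fun i _ => ?_
    rw [Finset.sum_const, Finset.card_univ, nsmul_eq_mul]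
  rw [h1, Finset.sum_mul_sum, ← sub_eq_zero, ← Finset.sum_sub_distrib]
  have h2 : ∀ i, (∑ _j : ι, x i * y i) - ∑ j, x i * y j = x i₀ * ∑ j, (y i - y j) := by
    intro i
    rw [← Finset.sum_sub_distrib, Finset.mul_sum]
    refine Finset.sum_congr rfl fun j _ => ?_
    have := h i i j
    linear_combination this
  rw [Finset.sum_congr rfl fun i _ => h2 i, ← Finset.mul_sum]
  have h3 : ∑ i, ∑ j, (y i - y j) = 0 := by
    simp only [Finset.sum_sub_distrib]
    rw [sub_eq_zero]
    exact Finset.sum_comm
  rw [h3, mul_zero]


/-- Let R be a commutative ring, O a formally smooth R-algebra and G a finite group whose order is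
invertible in R, acting on O by R-algebra automorphisms. Then the largest quotient algebra of O on
which G acts trivially, namely the quotient of O by the ideal generated by all g • f - f (the
coordinate ring of the subscheme of G-fixed points of Spec O), is again formally smooth over R:
invariant homomorphisms lift along square-zero extensions. The published statement is about a scheme
X smooth and of finite presentation over the base and concludes that its fixed-point scheme is
smooth; this row, the affine step of its proof, assumes only that O is formally smooth over R and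
concludes only formal smoothness. -/
theorem result (R : Type u) [CommRing R]
    (O : Type u) [CommRing O] [Algebra R O] [Algebra.FormallySmooth R O]
    (G : Type v) [Group G] [Finite G] [MulSemiringAction G O] [SMulCommClass G R O]
    (hG : IsUnit (Nat.card G : R)) :
    Algebra.FormallySmooth R (O ⧸ Ideal.span {x : O | ∃ (g : G) (f : O), x = g • f - f}) := by
  classical
  haveI : Fintype G := Fintype.ofFinite G
  set J := Ideal.span {x : O | ∃ (g : G) (f : O), x = g • f - f} with hJ
  obtain ⟨c, hc⟩ := hG.exists_right_inv
  rw [Nat.card_eq_fintype_card] at hc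
  apply Algebra.FormallySmooth.of_comp_surjective
  intro B _ _ I hI φbar
  let φ : O →ₐ[R] B ⧸ I := φbar.comp (Ideal.Quotient.mkₐ R J)
  obtain ⟨ψ, hψ⟩ := Algebra.FormallySmooth.comp_surjective R O I hI φ
  have hφ : ∀ f, Ideal.Quotient.mk I (ψ f) = φ f := fun f => by rw [← hψ]; rfl
  have hφG : ∀ (g : G) (f : O), φ (g • f) = φ f := by
    intro g f
    show φbar (Ideal.Quotient.mk J (g • f)) = φbar (Ideal.Quotient.mk J f)
    congr 1
    rw [Ideal.Quotient.eq]
    exact Ideal.subset_span ⟨g, f, rfl⟩
  have hmk : ∀ (g : G) (f : O), ψ (g • f) - ψ f ∈ I := by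
    intro g f
    rw [← Ideal.Quotient.eq, hφ, hφ, hφG]
  have hsq : ∀ x ∈ I, ∀ y ∈ I, x * y = 0 := by
    intro x hx y hy
    have : x * y ∈ I ^ 2 := by rw [pow_two]; exact Ideal.mul_mem_mul hx hy
    rw [hI] at this; simpa using this
  let s : O → B := fun f => ∑ g : G, ψ (g • f)
  have hcB : (c • (Fintype.card G : B)) = 1 := by
    have : ((Fintype.card G : R) * c) • (1 : B) = 1 := by rw [hc, one_smul]
    rw [← this, mul_comm, mul_smul]
    congr 1
    rw [Nat.cast_smul_eq_nsmul, nsmul_eq_mul, mul_one]
  have hs_mul : ∀ a b, (Fintype.card G : B) * s (a * b) = s a * s b := by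
    intro a b
    have := key (fun g : G => ψ (g • a)) (fun g : G => ψ (g • b)) 1 ?_
    · simp only [s]
      rw [← this]
      congr 1
      refine Finset.sum_congr rfl fun g _ => ?_
      rw [smul_mul', map_mul]
    · intro i j k
      apply hsq
      · simpa using hmk i a
      · have h1 := hmk j b
        have h2 := hmk k b
        have : ψ (j • b) - ψ (k • b) = (ψ (j • b) - ψ b) - (ψ (k • b) - ψ b) := by ring
        rw [this]
        exact I.sub_mem h1 h2
  have hs_inv : ∀ (h : G) (f : O), s (h • f) = s f := by
    intro h f
    simp only [s]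
    refine Fintype.sum_equiv (Equiv.mulRight h) _ _ fun g => ?_
    simp [mul_smul]
  let ψ' : O →ₐ[R] B :=
    { toFun := fun f => c • s f
      map_one' := by
        simp only [s, smul_one, map_one, Finset.sum_const, Finset.card_univ, nsmul_eq_mul, mul_one]
        exact hcB
      map_mul' := by
        intro a b
        rw [smul_mul_smul_comm, ← hs_mul, ← smul_eq_mul c c, smul_assoc]
        congr 1
        rw [← smul_mul_assoc, hcB, one_mul]
      map_zero' := by simp [s]
      map_add' := by
        intro a b
        simp [s, smul_add, Finset.sum_add_distrib]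
      commutes' := by
        intro r
        simp only [s, smul_algebraMap, AlgHom.commutes, Finset.sum_const, Finset.card_univ,
          nsmul_eq_mul]
        rw [← smul_mul_assoc, hcB, one_mul] }
  have hψ'app : ∀ f, ψ' f = c • s f := fun f => rfl
  have hkill : ∀ a ∈ J, ψ' a = 0 := by
    intro a ha
    have : J ≤ RingHom.ker (ψ' : O →+* B) := by
      rw [hJ, Ideal.span_le]
      rintro _ ⟨g, f, rfl⟩
      rw [SetLike.mem_coe, RingHom.mem_ker]
      show ψ' (g • f - f) = 0
      rw [map_sub, hψ'app, hψ'app, hs_inv, sub_self]
    exact this ha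
  refine ⟨Ideal.Quotient.liftₐ J ψ' hkill, ?_⟩
  apply Ideal.Quotient.algHom_ext
  ext f
  show Ideal.Quotient.mk I (ψ' f) = φ f
  rw [hψ'app]
  have : Ideal.Quotient.mk I (c • s f) = c • Ideal.Quotient.mk I (s f) := rfl
  rw [this]
  simp only [s, map_sum, hφ, hφG, Finset.sum_const, Finset.card_univ]
  rw [← Nat.cast_smul_eq_nsmul R, ← mul_smul, mul_comm, hc, one_smul]

end Groth.Agent.S16211
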