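import Groth.Statements.S16212
import Groth.Agent.Lib.Helper79.FixLocusSmooth

set_option autoImplicit false
universe u v
open CategoryTheory AlgebraicGeometry
open AlgGrp

namespace Groth.Agent.S16212

/-- Let S be a scheme, X an S-scheme that is smooth, separated and of finite presentation over S, and G
a finite group whose order is invertible on S (a unit among the global functions of S) acting on X
by S-automorphisms. Then the scheme of G-fixed points of X, namely any S-scheme Z with an S-morphism
ι to X that is itself fixed by every element of G (ι followed by the automorphism of each g equals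
ι) and such that an S-morphism T → X is fixed by every element of G exactly when it factors through
ι, and then uniquely, is a closed subscheme of X (ι is a closed immersion) which is smooth and of
finite presentation over S (smooth, quasi-compact and quasi-separated). The published statement
assumes X only smooth and of finite presentation over S; this row also assumes X separated over S. -/
theorem result (S : Scheme.{u})
    (X : Over S) [Smooth X.hom] [QuasiCompact X.hom] [IsSeparated X.hom]
    (G : Type v) [Group G] [Finite G] (ρ : G →* Aut X)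
    (hG : IsUnit (Nat.card G : Γ(S, ⊤)))
    (Z : Over S) (ι : Z ⟶ X) (hι : ∀ g : G, ι ≫ (ρ g).hom = ι)
    (hZ : ∀ (T : Over S) (t : T ⟶ X), (∀ g : G, t ≫ (ρ g).hom = t) ↔ ∃! t' : T ⟶ Z, t' ≫ ι = t) :
    IsClosedImmersion ι.left ∧ Smooth Z.hom ∧ QuasiCompact Z.hom ∧ QuasiSeparated Z.hom := by
  -- absolute data
  have hσ : ∀ g : G, (ρ g).hom.left ≫ X.hom = X.hom := fun g => Over.w (ρ g).hom
  have hfl : Groth.Agent.Lib.Helper79.FixLocus.IsFixedLocus
      (fun g : G => (ρ g).hom.left) ι.left := by
    constructor
    · intro g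
      have := congrArg CommaMorphism.left (hι g)
      exact this
    · intro T t ht
      have hfix : ∀ g : G, (Over.homMk t rfl : Over.mk (t ≫ X.hom) ⟶ X) ≫ (ρ g).hom =
          Over.homMk t rfl := by
        intro g
        apply Over.OverMorphism.ext
        exact ht g
      obtain ⟨t', ht', huniq⟩ := (hZ (Over.mk (t ≫ X.hom)) (Over.homMk t rfl)).mp hfix
      refine ⟨t'.left, congrArg CommaMorphism.left ht', ?_⟩
      intro s hs
      have hs' : s ≫ ι.left = t := hs
      have hw : s ≫ Z.hom = t ≫ X.hom := by rw [← hs', Category.assoc, Over.w ι]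
      have h1 := huniq (Over.homMk s hw) (by
        apply Over.OverMorphism.ext
        exact hs')
      exact congrArg CommaMorphism.left h1
  obtain ⟨Z', ι', hcl, hfl'⟩ :=
    Groth.Agent.Lib.Helper79.FixLocus.exists_isFixedLocus_closedImmersion X.hom
      (fun g : G => (ρ g).hom.left) hσ
  obtain ⟨e, he⟩ := hfl.iso hfl'
  have hclosed : IsClosedImmersion ι.left := by
    rw [← he]
    infer_instance
  have hZhom : Z.hom = ι.left ≫ X.hom := (Over.w ι).symm
  -- the image group
  let ρ₀ : G →* Aut X.left := ((Over.forget S).mapAut X).comp ρ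
  have hρ₀ : ∀ g : G, (ρ₀ g).hom = (ρ g).hom.left := fun g => rfl
  have hfin : Finite ρ₀.range := Finite.of_surjective ρ₀.rangeRestrict ρ₀.rangeRestrict_surjective
  have hn : IsUnit ((Nat.card ρ₀.range : ℕ) : Γ(S, ⊤)) := by
    obtain ⟨k, hk⟩ := Subgroup.card_range_dvd ρ₀
    have h1 : ((Nat.card G : ℕ) : Γ(S, ⊤)) =
        ((Nat.card ρ₀.range : ℕ) : Γ(S, ⊤)) * ((k : ℕ) : Γ(S, ⊤)) := by
      rw [hk, Nat.cast_mul]
    rw [h1] at hG
    exact isUnit_of_mul_isUnit_left hG
  have hρ' : ∀ h : ρ₀.range, (ρ₀.range.subtype h).hom ≫ X.hom = X.hom := by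
    rintro ⟨_, g, rfl⟩
    exact hσ g
  have hfl'' : Groth.Agent.Lib.Helper79.FixLocus.IsFixedLocus
      (fun h : ρ₀.range => (ρ₀.range.subtype h).hom) ι.left := by
    constructor
    · rintro ⟨_, g, rfl⟩
      exact hfl.1 g
    · intro T t ht
      exact hfl.2 T t (fun g => ht ⟨ρ₀ g, g, rfl⟩)
  have hsm : Smooth (ι.left ≫ X.hom) :=
    Groth.Agent.Lib.Helper79.FixLocusSmooth.smooth_of_isFixedLocus X.hom ρ₀.range.subtype hρ' hn
      ι.left hfl''
  refine ⟨hclosed, ?_, ?_, ?_⟩
  · rw [hZhom]
    exact hsm
  · rw [hZhom]
    infer_instance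
  · rw [hZhom]
    infer_instance

end Groth.Agent.S16212
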