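import Groth.Statements.S16219
import Mathlib

set_option autoImplicit false
universe u
open Lim

section S16219helpers
set_option linter.style.haveILetI false
open CategoryTheory AlgebraicGeometry Limits

namespace Groth.Agent.S16219

/-- lift a ring hom through an injective ring hom when the range condition holds -/
theorem ring_lift {B E L : Type u} [CommRing B] [CommRing E] [CommRing L]
    (α : B →+* L) (π : E →+* L) (hπ : Function.Injective π)
    (h : ∀ b : B, ∃ e : E, π e = α b) : ∃ β : B →+* E, π.comp β = α := by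
  choose e he using h
  refine ⟨{ toFun := e
            map_one' := hπ (by simp [he])
            map_mul' := fun x y => hπ (by simp [he])
            map_zero' := hπ (by simp [he])
            map_add' := fun x y => hπ (by simp [he]) }, RingHom.ext he⟩

section abstract
variable {I : Type u} [Category.{u} I] {S X : Scheme.{u}} (D : I ⥤ Scheme.{u})
  (t : D ⟶ (Functor.const I).obj S) (f : X ⟶ S) (c : Cone D) (hc : IsLimit c)

include hc in
theorem exists_common [IsCofiltered I] [∀ i, IsAffine (D.obj i)] (T : Finset Γ(c.pt, ⊤)) :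
    ∃ i : I, ∀ s ∈ T, ∃ e : Γ(D.obj i, ⊤), (c.π.app i).appTop e = s := by
  classical
  induction T using Finset.induction_on with
  | empty => exact ⟨IsCofiltered.nonempty.some, by simp⟩
  | insert s T _ ih =>
    obtain ⟨i₁, h₁⟩ := ih
    obtain ⟨i₂, e₂, h₂⟩ := exists_appTop_π_eq_of_isAffine_of_isLimit D c hc s
    refine ⟨IsCofiltered.min i₁ i₂, ?_⟩
    intro s' hs'
    rw [Finset.mem_insert] at hs'
    rcases hs' with rfl | hs'
    · refine ⟨(D.map (IsCofiltered.minToRight i₁ i₂)).appTop e₂, ?_⟩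
      rw [← h₂, ← c.w (IsCofiltered.minToRight i₁ i₂), Scheme.Hom.comp_appTop]
      rfl
    · obtain ⟨e₁, he₁⟩ := h₁ s' hs'
      refine ⟨(D.map (IsCofiltered.minToLeft i₁ i₂)).appTop e₁, ?_⟩
      rw [← he₁, ← c.w (IsCofiltered.minToLeft i₁ i₂), Scheme.Hom.comp_appTop]
      rfl

include hc in
theorem affine_piece [IsCofiltered I] [LocallyOfFiniteType f]
    [IsAffine S] [IsAffine X] [∀ i, IsAffine (D.obj i)]
    (hinj : ∀ i, Function.Injective (c.π.app i).appTop)
    (a : c.pt ⟶ X) (ha : c.π ≫ t = (Functor.const _).map (a ≫ f)) :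
    ∃ (i : I) (g : D.obj i ⟶ X), c.π.app i ≫ g = a ∧ g ≫ f = t.app i := by
  classical
  have hft : f.appTop.hom.FiniteType :=
    (HasRingHomProperty.iff_of_isAffine (P := @LocallyOfFiniteType)).mp ‹_›
  letI := f.appTop.hom.toAlgebra
  obtain ⟨T, hT⟩ := (hft : @Algebra.FiniteType _ _ _ _ f.appTop.hom.toAlgebra).out
  obtain ⟨i, hi⟩ := exists_common D c hc (T.image a.appTop.hom)
  have hcomm : c.π.app i ≫ t.app i = a ≫ f := by
    have := congrArg (fun η => η.app i) ha
    simpa using this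
  have hcomm' : ∀ r, (c.π.app i).appTop.hom ((t.app i).appTop.hom r) =
      a.appTop.hom (f.appTop.hom r) := by
    intro r
    have := congrArg (fun η => η.appTop) hcomm
    simp only [Scheme.Hom.comp_appTop] at this
    exact congrArg (fun ψ => ψ.hom r) this
  have hrange : ∀ b : Γ(X, ⊤), ∃ e : Γ(D.obj i, ⊤),
      (c.π.app i).appTop.hom e = a.appTop.hom b := by
    intro b
    have hb : b ∈ Algebra.adjoin Γ(S, ⊤) (T : Set Γ(X, ⊤)) := by rw [hT]; trivial
    induction hb using Algebra.adjoin_induction with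
    | mem x hx =>
      exact hi _ (Finset.mem_image_of_mem _ hx)
    | algebraMap r => exact ⟨(t.app i).appTop.hom r, hcomm' r⟩
    | add x y _ _ hx hy =>
      obtain ⟨ex, hex⟩ := hx
      obtain ⟨ey, hey⟩ := hy
      exact ⟨ex + ey, by rw [map_add, map_add, hex, hey]⟩
    | mul x y _ _ hx hy =>
      obtain ⟨ex, hex⟩ := hx
      obtain ⟨ey, hey⟩ := hy
      exact ⟨ex * ey, by rw [map_mul, map_mul, hex, hey]⟩
  obtain ⟨β, hβ⟩ := ring_lift a.appTop.hom (c.π.app i).appTop.hom (hinj i) hrange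
  have hβ' : CommRingCat.ofHom β ≫ (c.π.app i).appTop = a.appTop := by
    ext x; exact RingHom.congr_fun hβ x
  have hβ'' : f.appTop ≫ CommRingCat.ofHom β = (t.app i).appTop := by
    ext r
    apply hinj i
    have := RingHom.congr_fun hβ (f.appTop.hom r)
    simp only [RingHom.comp_apply] at this
    simp only [CommRingCat.hom_comp, CommRingCat.hom_ofHom, RingHom.comp_apply]
    erw [this, hcomm' r]
  refine ⟨i, (D.obj i).toSpecΓ ≫ Spec.map (CommRingCat.ofHom β) ≫ X.isoSpec.inv, ?_, ?_⟩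
  · rw [← cancel_mono X.isoSpec.hom]
    simp only [Category.assoc, Iso.inv_hom_id, Category.comp_id]
    rw [Scheme.isoSpec_hom, Scheme.toSpecΓ_naturality, Scheme.toSpecΓ_naturality_assoc,
      ← Spec.map_comp, hβ']
  · rw [← cancel_mono S.isoSpec.hom]
    simp only [Category.assoc]
    have h1 : t.app i ≫ S.toSpecΓ = (D.obj i).toSpecΓ ≫ Spec.map (t.app i).appTop :=
      Scheme.toSpecΓ_naturality (t.app i)
    rw [Scheme.isoSpec_hom, h1, Scheme.toSpecΓ_naturality f,
      ← Scheme.isoSpec_hom X, Iso.inv_hom_id_assoc, ← Spec.map_comp, hβ'']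

end abstract

theorem injective_resLE_appTop {X Y : Scheme.{u}} (f : X ⟶ Y) (U : Y.Opens) (V : X.Opens)
    (e : V ≤ f ⁻¹ᵁ U) (e' : f ⁻¹ᵁ U ≤ V) (h : ∀ W : Y.Opens, Function.Injective (f.app W)) :
    Function.Injective (f.resLE U V e).appTop := by
  obtain rfl : V = f ⁻¹ᵁ U := le_antisymm e e'
  rw [Scheme.Hom.resLE_eq_morphismRestrict]
  have key := morphismRestrict_appTop f U
  intro x y hxy
  have h2 : (X.presheaf.map (eqToHom (image_morphismRestrict_preimage f U ⊤)).op)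
      (f.app (U.ι ''ᵁ ⊤) (x : Γ(Y, U.ι ''ᵁ ⊤))) =
      (X.presheaf.map (eqToHom (image_morphismRestrict_preimage f U ⊤)).op)
      (f.app (U.ι ''ᵁ ⊤) (y : Γ(Y, U.ι ''ᵁ ⊤))) := by
    rw [key] at hxy; exact hxy
  exact h _ ((ConcreteCategory.bijective_of_isIso
    (X.presheaf.map (eqToHom (image_morphismRestrict_preimage f U ⊤)).op)).1 h2)

end Groth.Agent.S16219

namespace AlgebraicGeometry.Scheme.S16219aux

open TopologicalSpace
attribute [local simp] Scheme.Hom.resLE_comp_resLE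

variable {I : Type u} [Category.{u} I] {S X : Scheme.{u}} (D : I ⥤ Scheme.{u})
  (t : D ⟶ (Functor.const I).obj S) (f : X ⟶ S) (c : Cone D) (hc : IsLimit c)

set_option backward.defeqAttrib.useBackward true in
set_option backward.isDefEq.respectTransparency false in
include hc in
theorem main
    [IsCofiltered I] [LocallyOfFiniteType f]
    [∀ {i j} (f : i ⟶ j), IsAffineHom (D.map f)]
    [∀ i, CompactSpace (D.obj i)] [∀ i, QuasiSeparatedSpace (D.obj i)]
    (hinj : ∀ (i : I) (U : (D.obj i).Opens), Function.Injective ((c.π.app i).app U))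
    (a : c.pt ⟶ X) (ha : c.π ≫ t = (Functor.const _).map (a ≫ f)) :
    ∃ (i : I) (g : D.obj i ⟶ X), c.π.app i ≫ g = a ∧ g ≫ f = t.app i := by
  -- The open cover of `c := lim Dᵢ` indexed by triplets of affine opens `(U, V, W)` with
  -- `U ⊆ c`, `V ⊆ X`, `W ⊆ S` such that `U` maps to `V` maps to `W`.
  have 𝒰 := (c.pt.isBasis_affineOpens).isOpenCover_mem_and_le
    (((X.isBasis_affineOpens).isOpenCover_mem_and_le
    ((S.isBasis_affineOpens).isOpenCover.comap f.base.hom)).comap a.base.hom)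
  -- By qcqs, this cover descends to some finite affine open cover `𝒱` of `Dᵢ`.
  obtain ⟨i, s, 𝒱, h𝒱, h𝒱𝒰⟩ := Scheme.exists_isOpenCover_and_isAffine D c hc _ 𝒰 fun U ↦ U.2.1
  obtain ⟨i', fi'i, hi'⟩ : ∃ (i' : I) (fi'i : i' ⟶ i),
      ∀ j, D.map fi'i ⁻¹ᵁ 𝒱 j ≤ t.app i' ⁻¹ᵁ j.1.1.2.1.2.1 := by
    choose k fk hk using fun j ↦ exists_map_preimage_le_map_preimage D c hc (h𝒱𝒰 j).1.isCompact
      (V := t.app i ⁻¹ᵁ j.1.1.2.1.2.1) (by
      rw [← Hom.comp_preimage, ← NatTrans.comp_app, ha]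
      exact (h𝒱𝒰 j).2.symm.trans_le (j.1.prop.2.trans (a.preimage_mono j.1.1.2.prop.2)))
    obtain ⟨i', fi'i, fi', hfi'⟩ := IsCofiltered.wideCospan fk
    refine ⟨i', fi'i, fun j ↦ ?_⟩
    rw [← hfi', Functor.map_comp, Hom.comp_preimage]
    refine (Hom.preimage_mono _ (hk _)).trans ?_
    simp only [← Hom.comp_preimage, t.naturality, Functor.const_obj_obj,
      Functor.const_obj_map, Category.comp_id, le_refl]
  -- Using the affine version,
  -- one can now factor `Dⱼ ⁻¹ 𝒱ⱼ ⟶ lim Dᵢ ⟶ X` through some `Dⱼₖ ⁻¹ 𝒱ⱼ` for each `𝒱ⱼ`,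
  -- and by finite-ness we may chose a fixed `k` that works for every `j`.
  have : ∃ k, ∃ (fk : k ⟶ i), ∀ j, ∃ (ak : ↑(D.map fk ⁻¹ᵁ 𝒱 j) ⟶ X),
      ak ≫ f = Opens.ι _ ≫ t.app k ∧ c.π.app _ ∣_ _ ≫ ak = Opens.ι _ ≫ a := by
    let 𝒱' := (D.map fi'i ⁻¹ᵁ 𝒱 ·)
    have h𝒱'𝒰 (j : s) : c.π.app i' ⁻¹ᵁ 𝒱' j = j.1.1.1 := by
      rw [← Hom.comp_preimage, c.w fi'i]; exact (h𝒱𝒰 j).2.symm
    have _ (j k) : IsAffine ((opensDiagram D i' (𝒱' j)).obj k) := ((h𝒱𝒰 _).1.preimage _).preimage _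
    let t𝒱 (j : _) : opensDiagram D i' (𝒱' j) ⟶ (Functor.const (Over i')).obj j.1.1.2.1.2 :=
    { app k := (t.app k.left).resLE _ _ <| by
        refine (Hom.preimage_mono _ (hi' _)).trans ?_
        simp only [Functor.const_obj_obj, ← Hom.comp_preimage, t.naturality,
          Functor.const_obj_map, Category.comp_id, le_refl]
      naturality {k₁ k₂} f₁₂ := by simp [Hom.resLE_comp_resLE] }
    have (j : s) : IsAffine j.1.1.2.1.1 := j.1.1.2.prop.1
    have hinj' (j : s) (k : Over i') :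
        Function.Injective ((opensCone D c i' (𝒱' j)).π.app k).appTop := by
      refine Groth.Agent.S16219.injective_resLE_appTop _ _ _ _ ?_ (hinj k.left)
      rw [← Hom.comp_preimage, c.w]
    choose k ak hk hk' using fun j ↦ Groth.Agent.S16219.affine_piece
      _ (t𝒱 j) (f.resLE _ _ j.1.1.2.prop.2) _ (isLimitOpensCone D c hc i' (𝒱' j)) (hinj' j)
      (a.resLE _ _ ((h𝒱'𝒰 _).trans_le j.1.prop.2)) (by
      ext k
      simp [t𝒱, Hom.resLE_comp_resLE, show c.π.app k.left ≫ t.app k.left = a ≫ f from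
        congr(($ha).app k.left)])
    obtain ⟨i'', fi''i', fi'', hi''⟩ := IsCofiltered.wideCospan fun j ↦ (k j).hom
    refine ⟨i'', fi''i' ≫ fi'i, fun j ↦
      ⟨Scheme.homOfLE _ ?_ ≫ D.map (fi'' _) ∣_ _ ≫ ak j ≫ Opens.ι _, ?_, ?_⟩⟩
    · simp only [← Hom.comp_preimage, ← Functor.map_comp, 𝒱', reassoc_of% hi'']; rfl
    · have : ak j ≫ Opens.ι _ ≫ f = Opens.ι _ ≫ t.app (k j).left := by
        simpa [t𝒱] using! congr($(hk' j) ≫ Opens.ι _)
      simp [this]
    · have e : c.π.app i'' ⁻¹ᵁ D.map (fi''i' ≫ fi'i) ⁻¹ᵁ 𝒱 j ≤ c.π.app i' ⁻¹ᵁ 𝒱' j := by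
        simp only [← Hom.comp_preimage, Cone.w, 𝒱']; rfl
      simpa [← AlgebraicGeometry.Scheme.Hom.resLE_eq_morphismRestrict,
        Scheme.Hom.resLE_comp_resLE_assoc] using! congr(Scheme.homOfLE _ e ≫ $(hk j) ≫ Opens.ι _)
  choose k fki ak hak hak' using this
  -- We may then find an `l` for each `j₁` and `j₂` such that the map `Dⱼ₁ₗ ⁻¹ 𝒱ⱼ₁ ⟶ X` and
  -- `Dⱼ₂ₗ ⁻¹ 𝒱ⱼ₂ ⟶ X` agrees on the intersection in `Dₗ`.
  -- And again by finiteness we may choose a global `l`.
  obtain ⟨l, flk, hl⟩ : ∃ (l : I) (flk : l ⟶ k), ∀ j₁ j₂, Scheme.homOfLE _ inf_le_left ≫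
      D.map flk ∣_ _ ≫ ak j₁ = Scheme.homOfLE _ inf_le_right ≫ D.map flk ∣_ _ ≫ ak j₂ := by
    let 𝒱' := (D.map fki ⁻¹ᵁ 𝒱 ·)
    have (j₁ j₂ : s) : ∃ (l : I) (flk : l ⟶ k), Scheme.homOfLE _ inf_le_left ≫ D.map flk ∣_ _ ≫
        ak j₁ = Scheme.homOfLE _ inf_le_right ≫ D.map flk ∣_ _ ≫ ak j₂ := by
      have _ (x) : CompactSpace ↥((opensDiagram D k (𝒱' j₁ ⊓ 𝒱' j₂)).obj x) :=
        isCompact_iff_compactSpace.mp (QuasiCompact.isCompact_preimage _ (𝒱' j₁ ⊓ 𝒱' j₂).isOpen
          (((h𝒱𝒰 _).1.preimage _).isCompact.inter_of_isOpen ((h𝒱𝒰 _).1.preimage _).isCompact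
            (D.map fki ⁻¹ᵁ 𝒱 j₁).2 (D.map fki ⁻¹ᵁ 𝒱 j₂).2))
      obtain ⟨⟨l, ⟨⟨⟩⟩, flk⟩, ⟨flk', ⟨⟨⟨⟩⟩⟩, h⟩, e⟩ :=
        Scheme.exists_hom_comp_eq_comp_of_locallyOfFiniteType _
          (opensDiagramι .. ≫ (Over.forget k).whiskerLeft t) f _
          (isLimitOpensCone D c hc k (𝒱' j₁ ⊓ 𝒱' j₂)) (i := .mk (𝟙 k))
          (Scheme.homOfLE _ (by simp [𝒱']) ≫ ak j₁) (Scheme.homOfLE _ (by simp [𝒱']) ≫ ak j₂)
          (by simp [hak]) (by simp [hak]) (by simp; simp [Hom.resLE, hak'])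
      obtain rfl : flk = flk' := by simpa using! h.symm
      refine ⟨l, flk, by simpa [← Scheme.Hom.resLE_eq_morphismRestrict] using! e⟩
    choose l flk hflk using this
    obtain ⟨l', fl'k, fl'l, hl'⟩ := IsCofiltered.wideCospan (I := s × s) fun x ↦ flk x.1 x.2
    refine ⟨l', fl'k, fun j₁ j₂ ↦ ?_⟩
    have H : (D.map fl'k ≫ D.map fki) ⁻¹ᵁ (𝒱 j₁ ⊓ 𝒱 j₂) ≤
        (D.map (fl'l (j₁, j₂)) ≫ D.map (flk j₁ j₂) ≫ D.map fki) ⁻¹ᵁ (𝒱 j₁ ⊓ 𝒱 j₂) := by
      simp only [← Functor.map_comp, reassoc_of% hl']; rfl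
    simpa [← Scheme.Hom.resLE_eq_morphismRestrict, Scheme.Hom.resLE_comp_resLE_assoc,
      ← Functor.map_comp, hl'] using! congr((D.map (fl'l (j₁, j₂))).resLE _ _ H ≫ $(hflk j₁ j₂))
  -- We may glue the morphisms into `Dₗ ⟶ X` and verify that it indeed satisfies the hypothesis.
  let h𝒲 := (h𝒱.comap (D.map fki).base.hom).comap (D.map flk).base.hom
  let 𝒲 := Scheme.openCoverOfIsOpenCover _ (D.map flk ⁻¹ᵁ D.map fki ⁻¹ᵁ 𝒱 ·) h𝒲
  let F := 𝒲.glueMorphisms (fun j ↦ D.map flk ∣_ D.map fki ⁻¹ᵁ 𝒱 j ≫ ak j) (fun j₁ j₂ ↦ by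
      rw [← cancel_epi (isPullback_opens_inf _ _).isoPullback.hom]
      simpa [𝒲] using! hl j₁ j₂)
  have hF (j : s) : (D.map flk ⁻¹ᵁ D.map fki ⁻¹ᵁ 𝒱 j).ι ≫ F = D.map flk ∣_ _ ≫ ak j :=
    Scheme.Cover.ι_glueMorphisms ..
  refine ⟨l, F, ?_, ?_⟩
  · refine Cover.hom_ext (𝒲.pullback₁ (c.π.app l)) _ _ fun j ↦ ?_
    rw [← cancel_epi (isPullback_morphismRestrict _ _).flip.isoPullback.hom]
    dsimp [𝒲]
    simp only [pullback.condition_assoc, IsPullback.isoPullback_hom_snd_assoc,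
      IsPullback.isoPullback_hom_fst_assoc, hF]
    have h : c.π.app l ⁻¹ᵁ D.map flk ⁻¹ᵁ D.map fki ⁻¹ᵁ 𝒱 j ≤ c.π.app k ⁻¹ᵁ D.map fki ⁻¹ᵁ 𝒱 j := by
      simp only [← Hom.comp_preimage, c.w_assoc, c.w]; rfl
    simpa [← Scheme.Hom.resLE_eq_morphismRestrict, Scheme.Hom.resLE_comp_resLE_assoc] using!
      congr(Scheme.homOfLE _ h ≫ $(hak' j))
  · refine 𝒲.hom_ext _ _ fun j ↦ ?_
    simp [F, Cover.ι_glueMorphisms_assoc, hak]; rfl

end AlgebraicGeometry.Scheme.S16219aux


namespace Groth.Agent.S16219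

section concrete
variable {ι : Type u} {A C : Type u} [CommRing A] [CommRing C] [Algebra A C]

/-- index type with preorder induced by `S` -/
structure Idx (S : ι → Subalgebra A C) : Type u where
  /-- the underlying index -/
  get : ι

instance (S : ι → Subalgebra A C) : Preorder (Idx S) := Preorder.lift (fun i : Idx S => S i.get)

theorem Idx.le_iff (S : ι → Subalgebra A C) (i j : Idx S) : i ≤ j ↔ S i.get ≤ S j.get := Iff.rfl

/-- the functor -/
def FF (S : ι → Subalgebra A C) : Idx S ⥤ CommRingCat.{u} where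
  obj i := CommRingCat.of (S i.get)
  map {i j} h := CommRingCat.ofHom (Subalgebra.inclusion (leOfHom h)).toRingHom
  map_id i := by ext x; rfl
  map_comp f g := by ext x; rfl

/-- the cocone -/
def cocone (S : ι → Subalgebra A C) : Cocone (FF S) where
  pt := CommRingCat.of C
  ι := { app := fun i => CommRingCat.ofHom (S i.get).val.toRingHom
         naturality := fun i j h => by ext x; rfl }

noncomputable def isColimitCocone (S : ι → Subalgebra A C) (hdir : Directed (· ≤ ·) S)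
    (hcov : ∀ c : C, ∃ i, c ∈ S i) : IsColimit (cocone S) := by
  haveI : Nonempty (Idx S) := ⟨⟨(hcov 0).choose⟩⟩
  haveI : IsDirected (Idx S) (· ≤ ·) := ⟨fun i j => by
    obtain ⟨k, hik, hjk⟩ := hdir i.get j.get
    exact ⟨⟨k⟩, hik, hjk⟩⟩
  haveI : IsFiltered (Idx S) := isFiltered_of_directed_le_nonempty _
  haveI : ReflectsColimit (FF S) (forget CommRingCat) :=
    reflectsColimit_of_reflectsIsomorphisms _ _
  refine isColimitOfReflects (forget CommRingCat) ?_
  refine Types.FilteredColimit.isColimitOf _ _ ?_ ?_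
  · intro x
    obtain ⟨i, hi⟩ := hcov x
    exact ⟨⟨i⟩, ⟨x, hi⟩, rfl⟩
  · intro i j xi xj h
    obtain ⟨k, hik, hjk⟩ := hdir i.get j.get
    refine ⟨⟨k⟩, homOfLE hik, homOfLE hjk, ?_⟩
    apply Subtype.ext
    exact h

end concrete

/-- `Spec.map` of an injective ring map is injective on sections over every open. -/
theorem app_injective_of_injective {R R' : CommRingCat.{u}} (φ : R ⟶ R')
    (hφ : Function.Injective φ.hom) (U : (Spec R).Opens) :
    Function.Injective ((Spec.map φ).app U) := by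
  have htop : Function.Injective (Spec.map φ).appTop.hom := by
    have h := Scheme.ΓSpecIso_naturality φ
    intro x y hxy
    have h1 := congrArg (fun ψ => ψ.hom x) h
    have h2 := congrArg (fun ψ => ψ.hom y) h
    simp only [CommRingCat.hom_comp, RingHom.comp_apply] at h1 h2
    have h3 : φ.hom ((Scheme.ΓSpecIso R).hom.hom x) = φ.hom ((Scheme.ΓSpecIso R).hom.hom y) := by
      rw [← h1, ← h2, hxy]
    exact (ConcreteCategory.bijective_of_isIso (Scheme.ΓSpecIso R).hom).1 (hφ h3)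
  have hker : (Spec.map φ).ker = ⊥ := Scheme.IdealSheafData.ext_of_isAffine
    (by
      rw [(Spec.map φ).ker_apply ⟨⊤, isAffineOpen_top (Spec R)⟩]
      simp only [Scheme.IdealSheafData.ideal_bot, Pi.bot_apply]
      exact (RingHom.injective_iff_ker_eq_bot _).mp htop)
  haveI : IsSchemeTheoreticallyDominant (Spec.map φ) := ⟨hker⟩
  exact (Spec.map φ).app_injective U

end Groth.Agent.S16219

namespace Groth.Agent.S16219

theorem main
    {ι : Type u} (A C : Type u) [CommRing A] [CommRing C] [Algebra A C]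
    (S : ι → Subalgebra A C) (hdir : Directed (· ≤ ·) S) (hcov : ∀ c : C, ∃ i, c ∈ S i)
    (X : Scheme.{u}) (f : X ⟶ Spec (CommRingCat.of A))
    [LocallyOfFiniteType f] [QuasiCompact f]
    (g : Spec (CommRingCat.of C) ⟶ X)
    (hg : g ≫ f = Spec.map (CommRingCat.ofHom (algebraMap A C))) :
    ∃ (i : ι) (g' : Spec (CommRingCat.of (S i)) ⟶ X),
      g' ≫ f = Spec.map (CommRingCat.ofHom (algebraMap A (S i))) ∧
      Spec.map (CommRingCat.ofHom (S i).val.toRingHom) ≫ g' = g := by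
  haveI : Nonempty (Idx S) := ⟨⟨(hcov 0).choose⟩⟩
  haveI : IsDirected (Idx S) (· ≤ ·) := ⟨fun i j => by
    obtain ⟨k, hik, hjk⟩ := hdir i.get j.get
    exact ⟨⟨k⟩, hik, hjk⟩⟩
  haveI : IsFiltered (Idx S) := isFiltered_of_directed_le_nonempty _
  let D : (Idx S)ᵒᵖ ⥤ Scheme.{u} := (FF S).op ⋙ Scheme.Spec
  let c : Cone D := Scheme.Spec.mapCone (cocone S).op
  let hc : IsLimit c := isLimitOfPreserves Scheme.Spec (isColimitCocone S hdir hcov).op
  let t : D ⟶ (Functor.const _).obj (Spec (CommRingCat.of A)) :=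
    { app := fun i => Spec.map (CommRingCat.ofHom (algebraMap A (S i.unop.get)))
      naturality := fun i j h => by
        dsimp [D, FF]
        rw [Category.comp_id, ← Spec.map_comp]
        rfl }
  haveI : ∀ {i j : (Idx S)ᵒᵖ} (h : i ⟶ j), IsAffineHom (D.map h) := by
    intro i j h; dsimp [D]; infer_instance
  haveI : ∀ i, CompactSpace (D.obj i) := by
    intro i; dsimp [D]; infer_instance
  haveI : ∀ i, QuasiSeparatedSpace (D.obj i) := by
    intro i; dsimp [D]; infer_instance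
  have hinj : ∀ (i : (Idx S)ᵒᵖ) (U : (D.obj i).Opens),
      Function.Injective ((c.π.app i).app U) := by
    intro i U
    exact app_injective_of_injective (CommRingCat.ofHom (S i.unop.get).val.toRingHom)
      Subtype.val_injective U
  obtain ⟨i, g', h1, h2⟩ := AlgebraicGeometry.Scheme.S16219aux.main D t f c hc hinj g (by
    ext i : 2
    change Spec.map (CommRingCat.ofHom (S i.unop.get).val.toRingHom) ≫
      Spec.map (CommRingCat.ofHom (algebraMap A (S i.unop.get))) = g ≫ f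
    rw [hg, ← Spec.map_comp]
    rfl)
  exact ⟨i.unop.get, g', h2, h1⟩

end Groth.Agent.S16219

end S16219helpers

namespace Groth.Agent.S16219

open AlgebraicGeometry CategoryTheory in
/-- Let A be a commutative ring, X a scheme of finite type over Spec A (quasi-compact and locally of
finite type), C an A-algebra that is an integral domain and the union of a directed family of
A-subalgebras C_i, and g : Spec C → X an A-morphism. Then for some index i there is an A-morphism
Spec C_i → X whose composite with the morphism Spec C → Spec C_i induced by the inclusion is g. The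
published statement asserts that the map from the colimit of the sets of A-morphisms Spec C_i → X to
the set of A-morphisms Spec C → X is bijective; this row states only that it is surjective
(injectivity holds for every filtered colimit of A-algebras). -/
theorem result
    {ι : Type u} (A C : Type u) [CommRing A] [CommRing C] [Algebra A C] [IsDomain C]
    (S : ι → Subalgebra A C) (hdir : Directed (· ≤ ·) S) (hcov : ∀ c : C, ∃ i, c ∈ S i)
    (X : Scheme.{u}) (f : X ⟶ Spec (CommRingCat.of A))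
    [LocallyOfFiniteType f] [QuasiCompact f]
    (g : Spec (CommRingCat.of C) ⟶ X)
    (hg : g ≫ f = Spec.map (CommRingCat.ofHom (algebraMap A C))) :
    ∃ (i : ι) (g' : Spec (CommRingCat.of (S i)) ⟶ X),
      g' ≫ f = Spec.map (CommRingCat.ofHom (algebraMap A (S i))) ∧
      Spec.map (CommRingCat.ofHom (S i).val.toRingHom) ≫ g' = g := by

  exact Groth.Agent.S16219.main A C S hdir hcov X f g hg

end Groth.Agent.S16219
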