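import Groth.Statements.S16220
import Mathlib.RingTheory.WittVector.Identities
import Mathlib.RingTheory.Ideal.Operations
import Mathlib.Tactic

set_option autoImplicit false
universe u v
open Disp

namespace Groth.Agent.S16220

section aux

variable (p : ℕ) [Fact p.Prime] (k : Type u) [CommRing k] [CharP k p] [PerfectRing k p]

/-- `p` is a non-zero-divisor in `W(k)` for `k` perfect of characteristic `p`. -/
theorem witt_p_cancel (x : WittVector p k) (hx : x * (p : WittVector p k) = 0) : x = 0 := by
  rw [← WittVector.verschiebung_frobenius] at hx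
  have h1 : WittVector.frobenius x = 0 := by
    ext i
    have := congrArg (fun w => WittVector.coeff w (i + 1)) hx
    simpa [WittVector.verschiebung_coeff_succ] using this
  have h2 := (WittVector.frobenius_bijective p k).1
  exact h2 (h1.trans (map_zero _).symm)

variable {p k}

local notation "W" => WittVector p k
local notation "I" n => (Ideal.span {((p : WittVector p k)) ^ n} : Ideal (WittVector p k))

/-- `p`-torsion of a projective `W/p^n`-module is `p^(n-1) M`. -/
theorem tors_lemma (n : ℕ) (hn : 1 ≤ n)
    (M : Type v) [AddCommGroup M] [Module (WittVector p k) M]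
    [Module (WittVector p k ⧸ Ideal.span {(p : WittVector p k) ^ n}) M]
    [IsScalarTower (WittVector p k) (WittVector p k ⧸ Ideal.span {(p : WittVector p k) ^ n}) M]
    [Module.Projective (WittVector p k ⧸ Ideal.span {(p : WittVector p k) ^ n}) M]
    (x : M) (hx : (p : WittVector p k) • x = 0) :
    ∃ z : M, x = ((p : WittVector p k) ^ (n - 1)) • z := by
  classical
  obtain ⟨s, hs⟩ := (Module.projective_def' (R := W ⧸ (I n)) (P := M)).mp inferInstance
  -- coefficientwise division
  have hdiv : ∀ c : W ⧸ (I n), Ideal.Quotient.mk (I n) (p : W) * c = 0 →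
      ∃ c', c = Ideal.Quotient.mk (I n) ((p : W) ^ (n - 1)) * c' := by
    intro c hc
    obtain ⟨w, rfl⟩ := Ideal.Quotient.mk_surjective c
    rw [← map_mul, Ideal.Quotient.eq_zero_iff_mem, Ideal.mem_span_singleton] at hc
    obtain ⟨v, hv⟩ := hc
    have h1 : (w - (p : W) ^ (n - 1) * v) * (p : W) = 0 := by
      have : (p : W) ^ n = (p : W) ^ (n - 1) * p := by
        rw [← pow_succ, Nat.sub_add_cancel hn]
      rw [this] at hv
      linear_combination hv
    have h2 := witt_p_cancel p k _ h1
    refine ⟨Ideal.Quotient.mk (I n) v, ?_⟩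
    rw [← map_mul]
    congr 1
    exact sub_eq_zero.mp h2
  choose! φ hφ using hdiv
  let φ' : W ⧸ (I n) → W ⧸ (I n) := fun c => if c = 0 then 0 else φ c
  have hφ'0 : φ' 0 = 0 := by simp [φ']
  have hφ' : ∀ c : W ⧸ (I n), Ideal.Quotient.mk (I n) (p : W) * c = 0 →
      c = Ideal.Quotient.mk (I n) ((p : W) ^ (n - 1)) * φ' c := by
    intro c hc
    by_cases h0 : c = 0
    · simp [φ', h0]
    · simp only [φ', h0, if_false]; exact hφ c hc
  set t := s x with ht
  have hpt : Ideal.Quotient.mk (I n) (p : W) • t = 0 := by
    rw [ht, ← map_smul]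
    have : Ideal.Quotient.mk (I n) (p : W) • x = (p : W) • x := by
      rw [← Ideal.Quotient.algebraMap_eq, algebraMap_smul]
    rw [this, hx, map_zero]
  have hcoef : ∀ a : M, Ideal.Quotient.mk (I n) (p : W) * t a = 0 := by
    intro a
    have := congrArg (fun f => f a) hpt
    simpa using this
  have ht' : t = Ideal.Quotient.mk (I n) ((p : W) ^ (n - 1)) • t.mapRange φ' hφ'0 := by
    ext a
    simp only [Finsupp.smul_apply, Finsupp.mapRange_apply, smul_eq_mul]
    exact hφ' _ (hcoef a)
  refine ⟨Finsupp.linearCombination (W ⧸ (I n)) id (t.mapRange φ' hφ'0), ?_⟩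
  have hx' : x = Finsupp.linearCombination (W ⧸ (I n)) id t := by
    have := congrArg (fun f => f x) hs
    simpa using this.symm
  calc x = Finsupp.linearCombination (W ⧸ (I n)) id t := hx'
    _ = Finsupp.linearCombination (W ⧸ (I n)) id
          (Ideal.Quotient.mk (I n) ((p : W) ^ (n - 1)) • t.mapRange φ' hφ'0) := by rw [← ht']
    _ = Ideal.Quotient.mk (I n) ((p : W) ^ (n - 1)) •
          Finsupp.linearCombination (W ⧸ (I n)) id (t.mapRange φ' hφ'0) := map_smul _ _ _
    _ = ((p : W) ^ (n - 1)) • Finsupp.linearCombination (W ⧸ (I n)) id (t.mapRange φ' hφ'0) := by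
          rw [← Ideal.Quotient.algebraMap_eq, algebraMap_smul]

/-- the abstract half of the statement -/
theorem half (n : ℕ) (hn : 2 ≤ n)
    (M : Type v) [AddCommGroup M] [Module (WittVector p k) M]
    [Module (WittVector p k ⧸ Ideal.span {(p : WittVector p k) ^ n}) M]
    [IsScalarTower (WittVector p k) (WittVector p k ⧸ Ideal.span {(p : WittVector p k) ^ n}) M]
    [Module.Projective (WittVector p k ⧸ Ideal.span {(p : WittVector p k) ^ n}) M]
    (σ τ : WittVector p k →+* WittVector p k)
    (F : M →ₛₗ[σ] M) (V : M →ₛₗ[τ] M)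
    (hFV : ∀ m : M, F (V m) = (p : WittVector p k) • m) (hVF : ∀ m : M, V (F m) = (p : WittVector p k) • m) :
    (Ideal.span {(p : WittVector p k)} • (⊤ : Submodule (WittVector p k) M)).comap F =
        Submodule.span (WittVector p k) (Set.range V) ⊔ Ideal.span {(p : WittVector p k)} • (⊤ : Submodule (WittVector p k) M) := by
  have hmem : ∀ x : M, x ∈ Ideal.span {(p : W)} • (⊤ : Submodule W M) ↔ ∃ y : M, (p : W) • y = x := by
    intro x
    rw [Submodule.ideal_span_singleton_smul, Submodule.mem_smul_pointwise_iff_exists]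
    simp
  apply le_antisymm
  · intro x hx
    rw [Submodule.mem_comap, hmem] at hx
    obtain ⟨y, hy⟩ := hx
    have h1 : (p : W) • (x - V y) = 0 := by
      rw [smul_sub, ← hVF x, ← hy, map_smulₛₗ, map_natCast, sub_self]
    obtain ⟨z, hz⟩ := tors_lemma n (by omega) M (x - V y) h1
    have h2 : x = V y + (p : W) • ((p : W) ^ (n - 2) • z) := by
      rw [smul_smul, ← pow_succ', show n - 2 + 1 = n - 1 by omega, ← hz]
      abel
    rw [h2]
    exact Submodule.add_mem_sup (Submodule.subset_span ⟨y, rfl⟩) ((hmem _).mpr ⟨_, rfl⟩)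
  · apply sup_le
    · rw [Submodule.span_le]
      rintro _ ⟨m, rfl⟩
      rw [SetLike.mem_coe, Submodule.mem_comap, hFV]
      exact (hmem _).mpr ⟨m, rfl⟩
    · intro x hx
      obtain ⟨y, rfl⟩ := (hmem x).mp hx
      rw [Submodule.mem_comap, map_smulₛₗ, map_natCast]
      exact (hmem _).mpr ⟨F y, rfl⟩

end aux

/-- Let p be a prime and k a perfect ring of characteristic p, so that the Frobenius σ of W = W(k) is
bijective, W has no p-torsion and W/p^n W = W_n(k) (the ideal p^n W is the kernel of the truncation
to length n). Let n ≥ 2 and let M be a truncated Dieudonné module of level n over k: a W-module on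
which W acts through W/p^n W, finitely generated and projective over W/p^n W, with a σ-semilinear F
: M → M and a σ⁻¹-semilinear V : M → M such that FV = VF = p. Then on M/pM the kernel of F is the
image of V and the kernel of V is the image of F; stated inside M: the preimage of pM under F is VM
+ pM, and the preimage of pM under V is FM + pM. -/
theorem result (p : ℕ) [Fact p.Prime] (k : Type u) [CommRing k]
    [CharP k p] [PerfectRing k p] (n : ℕ) (hn : 2 ≤ n)
    (M : Type v) [AddCommGroup M] [Module (WittVector p k) M]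
    [Module (WittVector p k ⧸ Ideal.span {(p : WittVector p k) ^ n}) M] [IsScalarTower (WittVector p k) (WittVector p k ⧸ Ideal.span {(p : WittVector p k) ^ n}) M]
    [Module.Finite (WittVector p k ⧸ Ideal.span {(p : WittVector p k) ^ n}) M] [Module.Projective (WittVector p k ⧸ Ideal.span {(p : WittVector p k) ^ n}) M]
    (F : M →ₛₗ[(WittVector.frobenius : WittVector p k →+* WittVector p k)] M)
    (V : M →ₛₗ[((WittVector.frobeniusEquiv p k).symm : WittVector p k →+* WittVector p k)] M)
    (hFV : ∀ m : M, F (V m) = (p : WittVector p k) • m) (hVF : ∀ m : M, V (F m) = (p : WittVector p k) • m) :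
    (Ideal.span {(p : WittVector p k)} • (⊤ : Submodule (WittVector p k) M)).comap F =
        Submodule.span (WittVector p k) (Set.range V) ⊔ Ideal.span {(p : WittVector p k)} • (⊤ : Submodule (WittVector p k) M) ∧
      (Ideal.span {(p : WittVector p k)} • (⊤ : Submodule (WittVector p k) M)).comap V =
        Submodule.span (WittVector p k) (Set.range F) ⊔ Ideal.span {(p : WittVector p k)} • (⊤ : Submodule (WittVector p k) M) := by
  exact ⟨half n hn M _ _ F V hFV hVF, half n hn M _ _ V F hVF hFV⟩

end Groth.Agent.S16220
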