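import Groth.Statements.S16221
import Groth.Statements.S16221
import Groth.Agent.Lib.Helper60.DieuFibre

set_option autoImplicit false
set_option maxHeartbeats 400000
universe u v
open Disp

namespace Groth.Agent.S16221

open Groth.Agent.Lib.Helper60.DieuFibre Groth.Agent.Lib.Helper60.WittSqZero

/-- Let p be a prime and k a perfect ring of characteristic p, so that the Frobenius σ of W = W(k) is
bijective, W has no p-torsion and W/p^n W = W_n(k) (the ideal p^n W is the kernel of the truncation
to length n). Let n ≥ 2 and let M be a truncated Dieudonné module of level n over k: a W-module on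
which W acts through W/p^n W, finitely generated and projective over W/p^n W, with a σ-semilinear F
: M → M and a σ⁻¹-semilinear V : M → M such that FV = VF = p. Then M/VM is a projective k-module;
here VM ⊇ VFM = pM, and the statement is made for the W/pW-module obtained from M/pM by dividing out
the image of V, W/pW being identified with k by the first Witt component. -/
theorem result (p : ℕ) [Fact p.Prime] (k : Type u) [CommRing k]
    [CharP k p] [PerfectRing k p] (n : ℕ) (hn : 2 ≤ n)
    (M : Type v) [AddCommGroup M] [Module (WittVector p k) M]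
    [Module (WittVector p k ⧸ Ideal.span {(p : WittVector p k) ^ n}) M] [IsScalarTower (WittVector p k) (WittVector p k ⧸ Ideal.span {(p : WittVector p k) ^ n}) M]
    [Module.Finite (WittVector p k ⧸ Ideal.span {(p : WittVector p k) ^ n}) M] [Module.Projective (WittVector p k ⧸ Ideal.span {(p : WittVector p k) ^ n}) M]
    (F : M →ₛₗ[(WittVector.frobenius : WittVector p k →+* WittVector p k)] M)
    (V : M →ₛₗ[((WittVector.frobeniusEquiv p k).symm : WittVector p k →+* WittVector p k)] M)
    (hFV : ∀ m : M, F (V m) = (p : WittVector p k) • m) (hVF : ∀ m : M, V (F m) = (p : WittVector p k) • m) :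
    Module.Projective (WittVector p k ⧸ Ideal.span {(p : WittVector p k)})
      ((M ⧸ (Ideal.span {(p : WittVector p k)} • (⊤ : Submodule (WittVector p k) M))) ⧸
        Submodule.span (WittVector p k ⧸ Ideal.span {(p : WittVector p k)})
          (Set.range fun m : M => (Ideal.span {(p : WittVector p k)} • (⊤ : Submodule (WittVector p k) M)).mkQ (V m))) := by
  have hII' : Ideal.span {(p : WittVector p k) ^ n} ≤ Ideal.span {(p : WittVector p k)} := by
    rw [Ideal.span_singleton_le_span_singleton]
    exact dvd_pow_self _ (by omega)
  haveI : Module.Finite (WittVector p k) M :=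
    Module.Finite.trans (WittVector p k ⧸ Ideal.span {(p : WittVector p k) ^ n}) M
  haveI := projective_quotient_smul_top' (W := WittVector p k) (M := M)
    (Ideal.span {(p : WittVector p k) ^ n}) (Ideal.span {(p : WittVector p k)}) hII'
  apply projective_coker p F V hFV hVF
  intro 𝔞 h𝔞 z hz
  haveI := h𝔞
  have h := tors_of_projective (W := WittVector p k)
    (A := WittVector p k ⧸ Ideal.span {(p : WittVector p k) ^ n}) (M := M)
    Ideal.Quotient.mk_surjective (Jid p 𝔞)
    (Jid p 𝔞 ⊔ Ideal.span {(p : WittVector p k) ^ (n - 1)}) (p : WittVector p k) (by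
      intro a ha
      rw [Ideal.Quotient.algebraMap_eq] at ha ⊢
      obtain ⟨j, hj, hja⟩ := (Ideal.mem_map_iff_of_surjective _ Ideal.Quotient.mk_surjective).mp ha
      rw [Ideal.Quotient.eq, Ideal.mem_span_singleton] at hja
      obtain ⟨w, hw⟩ := hja
      have h1 : (p : WittVector p k) * (a - (p : WittVector p k) ^ (n - 1) * (-w)) ∈ Jid p 𝔞 := by
        have : (p : WittVector p k) ^ n = (p : WittVector p k) * (p : WittVector p k) ^ (n - 1) := by
          rw [← pow_succ', Nat.sub_add_cancel (by omega)]
        rw [this] at hw
        have : (p : WittVector p k) * (a - (p : WittVector p k) ^ (n - 1) * (-w)) = j := by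
          linear_combination (-1 : WittVector p k) * hw
        rw [this]
        exact hj
      have h2 := mem_Jid_of_p_mul_mem p 𝔞 _ h1
      apply Ideal.mem_map_of_mem
      have : a = (a - (p : WittVector p k) ^ (n - 1) * (-w)) + (p : WittVector p k) ^ (n - 1) * (-w) := by
        ring
      rw [this]
      exact Submodule.add_mem_sup h2 (Ideal.mul_mem_right _ _ (Ideal.subset_span rfl))) z hz
  refine Submodule.smul_mono_left (sup_le (Jid_le_nn p 𝔞) ?_) h
  rw [Ideal.span_le]
  rintro _ rfl
  have : (p : WittVector p k) ^ (n - 1) = (p : WittVector p k) * (p : WittVector p k) ^ (n - 2) := by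
    rw [← pow_succ', show n - 2 + 1 = n - 1 by omega]
  rw [SetLike.mem_coe, this]
  exact Ideal.mul_mem_right _ _ (p_mem_nn p 𝔞)

end Groth.Agent.S16221
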