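import Groth.Statements.S16225
import Mathlib

set_option autoImplicit false
set_option maxHeartbeats 400000
open scoped TensorProduct
universe u v
open CAlg

namespace Groth.Agent.S16225

/-- Let p be a prime, n a natural number and R → R' a faithfully flat homomorphism of commutative rings
in which p is nilpotent. Regard W_n(R') and W_n(R' ⊗_R R') as W_n(R)-algebras through the
componentwise maps induced by R → R' and R → R' ⊗_R R', and let ψ₁, ψ₂ : W_n(R') → W_n(R' ⊗_R R') be
the componentwise maps induced by the two inclusions of R' (these are W_n(R)-algebra maps). Then for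
every flat W_n(R)-module M the sequence 0 → M → M ⊗_{W_n(R)} W_n(R') ⇉ M ⊗_{W_n(R)} W_n(R' ⊗_R R')
is exact: m ↦ m ⊗ 1 is injective and its image is the equalizer of id ⊗ ψ₁ and id ⊗ ψ₂. (This is the
beginning, in degrees 0 and 1, of a complex continued by the higher tensor powers of R', which the
published proof asserts to be exact throughout; W_n(R) → W_n(R') is not flat in general, so this is
not faithfully flat descent.) -/
theorem result (p : ℕ) [Fact p.Prime] (n : ℕ)
    (R R' : Type u) [CommRing R] [CommRing R'] [Algebra R R'] [Module.FaithfullyFlat R R']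
    (hp : IsNilpotent (p : R))
    [Algebra (TruncatedWittVector p n R) (TruncatedWittVector p n R')]
    (h₁ : algebraMap (TruncatedWittVector p n R) (TruncatedWittVector p n R') = WittGrp.truncMap p n (algebraMap R R'))
    [Algebra (TruncatedWittVector p n R) (TruncatedWittVector p n (TensorProduct R R' R'))]
    (h₂ : algebraMap (TruncatedWittVector p n R) (TruncatedWittVector p n (TensorProduct R R' R')) =
      WittGrp.truncMap p n (algebraMap R (TensorProduct R R' R')))
    (ψ₁ ψ₂ : TruncatedWittVector p n R' →ₐ[TruncatedWittVector p n R] TruncatedWittVector p n (TensorProduct R R' R'))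
    (hψ₁ : (ψ₁ : TruncatedWittVector p n R' →+* TruncatedWittVector p n (TensorProduct R R' R')) =
      WittGrp.truncMap p n (Algebra.TensorProduct.includeLeftRingHom : R' →+* TensorProduct R R' R'))
    (hψ₂ : (ψ₂ : TruncatedWittVector p n R' →+* TruncatedWittVector p n (TensorProduct R R' R')) =
      WittGrp.truncMap p n ((Algebra.TensorProduct.includeRight : R' →ₐ[R] TensorProduct R R' R') : R' →+* TensorProduct R R' R'))
    (M : Type v) [AddCommGroup M] [Module (TruncatedWittVector p n R) M] [Module.Flat (TruncatedWittVector p n R) M] :
    Function.Injective (fun m : M => m ⊗ₜ[TruncatedWittVector p n R] (1 : TruncatedWittVector p n R')) ∧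
      ∀ x : M ⊗[TruncatedWittVector p n R] TruncatedWittVector p n R',
        LinearMap.lTensor M ψ₁.toLinearMap x = LinearMap.lTensor M ψ₂.toLinearMap x →
          x ∈ Set.range (fun m : M => m ⊗ₜ[TruncatedWittVector p n R] (1 : TruncatedWittVector p n R')) := by
  classical
  have hinjR : Function.Injective (algebraMap R R') := FaithfulSMul.algebraMap_injective R R'
  set f : TruncatedWittVector p n R →ₗ[TruncatedWittVector p n R] TruncatedWittVector p n R' :=
    Algebra.linearMap _ _ with hf
  set g : TruncatedWittVector p n R' →ₗ[TruncatedWittVector p n R]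
      TruncatedWittVector p n (TensorProduct R R' R') := ψ₁.toLinearMap - ψ₂.toLinearMap with hg
  have e1 : ∀ x, ψ₁ x = WittGrp.truncMap p n
      (Algebra.TensorProduct.includeLeftRingHom : R' →+* TensorProduct R R' R') x := by
    intro x
    rw [← hψ₁]
    rfl
  have e2 : ∀ x, ψ₂ x = WittGrp.truncMap p n
      ((Algebra.TensorProduct.includeRight : R' →ₐ[R] TensorProduct R R' R') :
        R' →+* TensorProduct R R' R') x := by
    intro x
    rw [← hψ₂]
    rfl
  have finj : Function.Injective f := by
    intro x y hxy
    ext i
    have := congrArg (fun z => z.coeff i) hxy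
    simp only [hf, Algebra.linearMap_apply, h₁, WittGrp.coeff_truncMap] at this
    exact hinjR this
  have hex : Function.Exact f g := by
    intro x
    constructor
    · intro hx
      have h12 : ψ₁ x = ψ₂ x := by
        have : ψ₁ x - ψ₂ x = 0 := hx
        exact sub_eq_zero.mp this
      have hc : ∀ i, x.coeff i ∈ Set.range (algebraMap R R') := by
        intro i
        have h3 := congrArg (fun z => z.coeff i) h12
        simp only [e1, e2, WittGrp.coeff_truncMap] at h3
        rw [← Algebra.IsEffective.eqLocus_includeLeft_includeRight
          (Algebra.IsEffective.of_faithfullyFlat R R')]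
        exact h3
      choose c hc using hc
      refine ⟨TruncatedWittVector.mk p c, ?_⟩
      ext i
      simp only [hf, Algebra.linearMap_apply, h₁, WittGrp.coeff_truncMap,
        TruncatedWittVector.coeff_mk, hc]
    · rintro ⟨y, rfl⟩
      show ψ₁ (algebraMap _ _ y) - ψ₂ (algebraMap _ _ y) = 0
      rw [AlgHom.commutes, AlgHom.commutes, sub_self]
  have hex' := Module.Flat.lTensor_exact M hex
  have finj' := Module.Flat.lTensor_preserves_injective_linearMap (M := M) f finj
  have hkey : ∀ m : M, m ⊗ₜ[TruncatedWittVector p n R] (1 : TruncatedWittVector p n R') =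
      LinearMap.lTensor M f ((TensorProduct.rid (TruncatedWittVector p n R) M).symm m) := by
    intro m
    rw [TensorProduct.rid_symm_apply, LinearMap.lTensor_tmul, hf, Algebra.linearMap_apply, map_one]
  constructor
  · intro m m' hmm
    simp only [hkey] at hmm
    exact (TensorProduct.rid (TruncatedWittVector p n R) M).symm.injective (finj' hmm)
  · intro x hx
    have hx0 : LinearMap.lTensor M g x = 0 := by
      rw [hg, LinearMap.lTensor_sub, LinearMap.sub_apply, hx, sub_self]
    obtain ⟨y, rfl⟩ := (hex' x).mp hx0
    refine ⟨TensorProduct.rid (TruncatedWittVector p n R) M y, ?_⟩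
    simp only [hkey]
    rw [LinearEquiv.symm_apply_apply]

end Groth.Agent.S16225
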