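import Groth.Statements.S1623
import Groth.Agent.Lib.BlowUp.GenCover

set_option autoImplicit false
universe u
open CategoryTheory CategoryTheory.Limits AlgebraicGeometry
open Resolve

namespace Groth.Agent.S1623

/-- Let A be a regular local ring of dimension two and b : X → Spec A a blowing up in the maximal ideal.
For every quasi-coherent O_X-module F and every p ≥ 2, H^p(X, F) = 0. -/
theorem result (A : Type u) [CommRing A] [IsRegularLocalRing A] (hA : ringKrullDim A = 2)
    (X : Scheme.{u}) (b : X ⟶ Spec (CommRingCat.of A)) (hb : BlowUp.IsBlowUp b (Curv2.idealSheaf A (IsLocalRing.maximalIdeal A)))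
    (F : X.Modules) (hF : Coh.IsQCoh F) (p : ℕ) (hp : 2 ≤ p) : Subsingleton (Coh.HH X F p) := by
  have hfg : (IsLocalRing.maximalIdeal A).FG := IsNoetherian.noetherian _
  have hcard : (Submodule.generators (IsLocalRing.maximalIdeal A)).ncard = 2 := by
    rw [Submodule.FG.generators_ncard hfg]
    have h := IsRegularLocalRing.spanFinrank_maximalIdeal (R := A)
    rw [hA] at h
    exact_mod_cast h
  obtain ⟨x, y, -, hxy⟩ := Set.ncard_eq_two.1 hcard
  have hspan : Ideal.span (Set.range ![x, y]) = IsLocalRing.maximalIdeal A := by
    have h := Submodule.span_generators (IsLocalRing.maximalIdeal A)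
    rw [hxy] at h
    rw [Matrix.range_cons, Matrix.range_cons, Matrix.range_empty, Set.union_empty]
    exact h
  exact Groth.Agent.Lib.BlowUp.GenCover.subsingleton_HH_of_span (IsLocalRing.maximalIdeal A)
    ![x, y] hspan b hb F hF p hp

end Groth.Agent.S1623
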