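import Groth.Statements.S16230
import Groth.Agent.Lib.Helper76.PSMorse

set_option autoImplicit false
universe u
open VanCyc
open Groth.Agent.Lib.Helper76.PSInv Groth.Agent.Lib.Helper76.LT

namespace Groth.Agent.S16230

/-- Let A be a local ring, n and m natural numbers with 2 ≤ m, q an n × n coefficient table over A whose
quadratic form Q(x) = Σ_{i≤j} q_ij x_i x_j is non-degenerate (the polar bilinear form has unit Gram
determinant, i.e. is a perfect pairing — the reading of non-degeneracy over the local ring A used
here), a an element of A, and F a formal power series in x_1, …, x_n over A all of whose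
coefficients in total degree at most m agree with those of Q + a. Then there are power series h_1,
…, h_n with no terms of total degree less than m such that substituting x_i + h_i for x_i in F gives
exactly Q + a; consequently A[[x]]/(F) and A[[x]]/(Q + a) are isomorphic as A-algebras. -/
theorem result
    (A : Type u) [CommRing A] [IsLocalRing A] (n m : ℕ) (hm : 2 ≤ m)
    (q : Fin n → Fin n → A) (hq : VanCyc.QuadNondeg q) (a : A)
    (F : MvPowerSeries (Fin n) A)
    (hF : ∀ e : Fin n →₀ ℕ, e.degree ≤ m →
      MvPowerSeries.coeff e F = MvPowerSeries.coeff e ((VanCyc.quadPoly q + MvPolynomial.C a : MvPolynomial (Fin n) A) : MvPowerSeries (Fin n) A)) :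
    ∃ h : Fin n → MvPowerSeries (Fin n) A,
      (∀ (i : Fin n) (e : Fin n →₀ ℕ), e.degree < m → MvPowerSeries.coeff e (h i) = 0) ∧
      MvPowerSeries.HasSubst (fun i => MvPowerSeries.X i + h i) ∧
      MvPowerSeries.subst (fun i => MvPowerSeries.X i + h i) F = ((VanCyc.quadPoly q + MvPolynomial.C a : MvPolynomial (Fin n) A) : MvPowerSeries (Fin n) A) ∧
      Nonempty ((MvPowerSeries (Fin n) A ⧸ Ideal.span {F}) ≃ₐ[A]
        (MvPowerSeries (Fin n) A ⧸ Ideal.span {((VanCyc.quadPoly q + MvPolynomial.C a : MvPolynomial (Fin n) A) : MvPowerSeries (Fin n) A)})) := by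
  classical
  let c : Matrix (Fin n) (Fin n) A := fun i j => if i ≤ j then q i j else 0
  have hQ : ((VanCyc.quadPoly q : MvPolynomial (Fin n) A) : MvPowerSeries (Fin n) A) =
      qev c XX := by
    unfold VanCyc.quadPoly qev
    rw [← MvPolynomial.coeToMvPowerSeries.ringHom_apply, map_sum]
    refine Finset.sum_congr rfl fun i _ => ?_
    rw [map_sum]
    refine Finset.sum_congr rfl fun j _ => ?_
    simp only [c, XX]
    split_ifs
    · simp [MvPolynomial.coeToMvPowerSeries.ringHom_apply]
    · simp
  have hpol : c + c.transpose = VanCyc.polarMatrix q := by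
    ext i j
    rw [Matrix.add_apply, Matrix.transpose_apply]
    simp only [c, VanCyc.polarMatrix]
    rcases lt_trichotomy i j with h | h | h
    · rw [if_pos h.le, if_neg (not_le.mpr h), if_neg h.ne, if_pos h, add_zero]
    · subst h
      simp [two_mul]
    · rw [if_neg (not_le.mpr h), if_pos h.le, if_neg h.ne', if_neg (not_lt.mpr h.le), zero_add]
  have hB : IsUnit (c + c.transpose).det := by rw [hpol]; exact hq
  have hQa : ((VanCyc.quadPoly q + MvPolynomial.C a : MvPolynomial (Fin n) A) :
      MvPowerSeries (Fin n) A) = qev c XX + MvPowerSeries.C a := by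
    rw [MvPolynomial.coe_add, MvPolynomial.coe_C, hQ]
  rw [hQa] at hF ⊢
  have hG : Ord (m + 1) ((F - MvPowerSeries.C a) - qev c XX) := by
    intro e he
    rw [map_sub, map_sub, hF e (by omega), map_add]
    ring
  obtain ⟨h, hh, hsub⟩ := morse_B hB hm hG
  have hy0 : ∀ i, MvPowerSeries.constantCoeff ((fun i => MvPowerSeries.X i + h i) i) = 0 := by
    intro i
    simp only [map_add, MvPowerSeries.constantCoeff_X, zero_add]
    exact (hh i).constantCoeff_eq_zero (by omega)
  have hsy : MvPowerSeries.HasSubst (fun i => MvPowerSeries.X i + h i) :=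
    MvPowerSeries.hasSubst_of_constantCoeff_zero hy0
  have hsubF : MvPowerSeries.subst (fun i => MvPowerSeries.X i + h i) F =
      qev c XX + MvPowerSeries.C a := by
    have e : F = (F - MvPowerSeries.C a) + MvPowerSeries.C a := by ring
    have hC : MvPowerSeries.subst (fun i => MvPowerSeries.X i + h i)
        (MvPowerSeries.C a : MvPowerSeries (Fin n) A) = MvPowerSeries.C a :=
      MvPowerSeries.subst_C a
    rw [e, MvPowerSeries.subst_add hsy, hC]
    congr 1
  refine ⟨h, fun i e he => hh i e he, hsy, hsubF, ?_⟩
  have hJ : IsUnit (jac (fun i => MvPowerSeries.X i + h i)).det := by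
    have : jac (fun i => MvPowerSeries.X i + h i) = 1 := by
      ext s t
      simp only [jac, map_add, MvPowerSeries.coeff_index_single_X, Matrix.one_apply]
      rw [hh s _ (by simp; omega), add_zero]
      by_cases hst : s = t
      · simp [hst]
      · rw [if_neg hst, if_neg (fun h' => hst h'.symm)]
    rw [this, Matrix.det_one]
    exact isUnit_one
  let ψ := substEquiv hy0 hJ
  refine ⟨Ideal.quotientEquivAlg _ _ ψ ?_⟩
  rw [Ideal.map_span, Set.image_singleton]
  congr 2
  show _ = substEquiv hy0 hJ F
  rw [substEquiv_apply, hsubF]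

end Groth.Agent.S16230
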