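import Groth.Statements.S16231
import Groth.Agent.Lib.Helper76.PSHensel
import Groth.Agent.Lib.Helper76.PSQuad
import Groth.Agent.S16230

set_option autoImplicit false
universe u
open VanCyc
open Groth.Agent.Lib.Helper76.PSInv Groth.Agent.Lib.Helper76.LT Groth.Agent.Lib.Helper76.PSEval

namespace Groth.Agent.S16231

/-- Let A be a local ring with maximal ideal m that is separated and complete for the m-adic topology (A
is not assumed Noetherian), n a natural number, q an n × n coefficient table over A whose quadratic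
form Q(x) = Σ_{i≤j} q_ij x_i x_j is non-degenerate (unit Gram determinant of the polar bilinear
form), a and ℓ_1, …, ℓ_n elements of m, and F a formal power series in x_1, …, x_n over A whose
coefficients in total degree at most 2 agree with those of a + Σ ℓ_i x_i + Q(x). Then there are an
element a' of m and a non-degenerate coefficient table q' such that A[[x]]/(F) and A[[x]]/(Q'(x) +
a') are isomorphic as A-algebras, Q' the quadratic form of q'. -/
theorem result
    (A : Type u) [CommRing A] [IsLocalRing A]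
    [IsAdicComplete (IsLocalRing.maximalIdeal A) A] (n : ℕ)
    (q : Fin n → Fin n → A) (hq : VanCyc.QuadNondeg q)
    (a : A) (ha : a ∈ IsLocalRing.maximalIdeal A)
    (ℓ : Fin n → A) (hℓ : ∀ i, ℓ i ∈ IsLocalRing.maximalIdeal A)
    (F : MvPowerSeries (Fin n) A)
    (hF : ∀ e : Fin n →₀ ℕ, e.degree ≤ 2 →
      MvPowerSeries.coeff e F = MvPowerSeries.coeff e ((VanCyc.quadPoly q + ∑ i, MvPolynomial.C (ℓ i) * MvPolynomial.X i + MvPolynomial.C a : MvPolynomial (Fin n) A) : MvPowerSeries (Fin n) A)) :
    ∃ (a' : A) (q' : Fin n → Fin n → A), a' ∈ IsLocalRing.maximalIdeal A ∧ VanCyc.QuadNondeg q' ∧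
      Nonempty ((MvPowerSeries (Fin n) A ⧸ Ideal.span {F}) ≃ₐ[A]
        (MvPowerSeries (Fin n) A ⧸ Ideal.span {((VanCyc.quadPoly q' + MvPolynomial.C a' : MvPolynomial (Fin n) A) : MvPowerSeries (Fin n) A)})) := by
  classical
  set I := IsLocalRing.maximalIdeal A with hI
  set c₀ := upperOf q with hc₀
  have hQ := quadPoly_eq_qev q
  have hpol := upperOf_add_transpose q
  set L : MvPowerSeries (Fin n) A := ∑ i, MvPowerSeries.C (ℓ i) * MvPowerSeries.X i with hL
  have hL0 : MvPowerSeries.constantCoeff L = 0 := by simp [hL]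
  have hL1 : ∀ s, MvPowerSeries.coeff (Finsupp.single s 1) L = ℓ s := by
    intro s
    simp only [hL, map_sum, MvPowerSeries.coeff_C_mul, MvPowerSeries.coeff_index_single_X]
    simp
  have hpL : ∀ t, MvPowerSeries.pderiv A t L = MvPowerSeries.C (ℓ t) := by
    intro t
    simp only [hL, map_sum, Derivation.leibniz, MvPowerSeries.pderiv_C, add_zero,
      MvPowerSeries.pderiv_X, Pi.single_apply, smul_eq_mul, mul_ite, mul_one, mul_zero,
      Finset.sum_ite_eq', Finset.mem_univ, if_true]
  have hcoe : ((VanCyc.quadPoly q + ∑ i, MvPolynomial.C (ℓ i) * MvPolynomial.X i +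
      MvPolynomial.C a : MvPolynomial (Fin n) A) : MvPowerSeries (Fin n) A) =
      qev c₀ XX + L + MvPowerSeries.C a := by
    rw [MvPolynomial.coe_add, MvPolynomial.coe_add, MvPolynomial.coe_C, hQ]
    congr 2
    rw [← MvPolynomial.coeToMvPowerSeries.ringHom_apply, map_sum]
    refine Finset.sum_congr rfl fun i _ => ?_
    simp [MvPolynomial.coeToMvPowerSeries.ringHom_apply]
  rw [hcoe] at hF
  have hF3 : Ord 3 ((F - MvPowerSeries.C a - L) - qev c₀ XX) := by
    intro e he
    rw [map_sub, map_sub, map_sub, hF e (by omega), map_add, map_add]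
    ring
  -- the gradient
  set P : Fin n → MvPowerSeries (Fin n) A := fun s => MvPowerSeries.pderiv A s F with hP
  have hjacP : jac P = c₀ + c₀.transpose := by
    rw [← jac_pderiv hF3]
    ext t s
    simp only [jac, hP, map_sub, MvPowerSeries.pderiv_C, hpL, sub_zero]
    rw [MvPowerSeries.coeff_C, if_neg (by simp), sub_zero]
  have hqev2 : Ord 2 (qev c₀ (XX : Fin n → MvPowerSeries (Fin n) A)) :=
    ord_qev c₀ (m := 1) (n := 1) (b := XX)
      (fun s => ord_one_iff.mpr (MvPowerSeries.constantCoeff_X s))
      (fun s => ord_one_iff.mpr (MvPowerSeries.constantCoeff_X s))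
  have hconstF : MvPowerSeries.constantCoeff F = a := by
    have := hF3 0 (by simp)
    rw [MvPowerSeries.coeff_zero_eq_constantCoeff_apply, map_sub, map_sub, map_sub, hL0,
      MvPowerSeries.constantCoeff_C,
      hqev2.constantCoeff_eq_zero (by norm_num)] at this
    linear_combination this
  have hP0 : ∀ s, MvPowerSeries.constantCoeff (P s) ∈ I := by
    intro s
    rw [hP, ← coeff_single_eq_constantCoeff_pderiv]
    have := hF3 (Finsupp.single s 1) (by simp)
    rw [map_sub, map_sub, map_sub, hL1, MvPowerSeries.coeff_C, if_neg (by simp),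
      hqev2 (Finsupp.single s 1) (by simp)] at this
    have e : MvPowerSeries.coeff (Finsupp.single s 1) F = ℓ s := by linear_combination this
    rw [e]
    exact hℓ s
  have hJ : IsUnit (jac P).det := by rw [hjacP, hpol]; exact hq
  obtain ⟨cpt, hcI, hcrit⟩ := hensel I P hP0 hJ
  set G := trans I cpt hcI F with hG
  have hlinG : ∀ s, MvPowerSeries.coeff (Finsupp.single s 1) G = 0 := by
    intro s
    rw [coeff_single_eq_constantCoeff_pderiv, hG, pderiv_trans]
    exact hcrit s
  set a' := MvPowerSeries.constantCoeff G with ha'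
  have ha'I : a' ∈ I := constantCoeff_ev_mem I _ _ (by rw [hconstF]; exact ha)
  have hG2 : Ord 2 (G - MvPowerSeries.C a') := by
    rw [ord_two_iff]
    refine ⟨by simp [ha'], fun t => ?_⟩
    rw [map_sub, hlinG, MvPowerSeries.coeff_C, if_neg (by simp), sub_zero]
  obtain ⟨c', hc'⟩ := exists_qev_of_ord_two hG2
  -- the polar matrix of `c'` is congruent to that of `q` modulo `I`
  have hjacG : c' + c'.transpose = jac (fun t => MvPowerSeries.pderiv A t G) := by
    rw [← jac_pderiv hc']
    ext t s
    simp only [jac, map_sub, MvPowerSeries.pderiv_C, sub_zero]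
  have hcong : ∀ t s, (c' + c'.transpose) t s - (c₀ + c₀.transpose) t s ∈ I := by
    intro t s
    rw [hjacG, ← hjacP]
    simp only [jac, hP, hG, pderiv_trans]
    have h1 := red_trans_of_mem I cpt hcI (k := 1) (fun s => by rw [pow_one]; exact hcI s)
      (MvPowerSeries.pderiv A t F)
    have h2 := congrArg (MvPowerSeries.coeff (Finsupp.single s 1)) h1
    rw [MvPowerSeries.coeff_map, MvPowerSeries.coeff_map, Ideal.Quotient.eq, pow_one] at h2
    exact h2
  have hdet : (c' + c'.transpose).det - (c₀ + c₀.transpose).det ∈ I := by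
    rw [← Ideal.Quotient.eq, RingHom.map_det, RingHom.map_det]
    congr 1
    ext t s
    simp only [RingHom.mapMatrix_apply, Matrix.map_apply]
    exact Ideal.Quotient.eq.mpr (hcong t s)
  have hunit : IsUnit (c' + c'.transpose).det := by
    by_contra hnu
    have h1 : (c' + c'.transpose).det ∈ I := (IsLocalRing.mem_maximalIdeal _).mpr hnu
    have h2 : (c₀ + c₀.transpose).det ∈ I := by
      have := I.sub_mem h1 hdet
      rwa [sub_sub_cancel] at this
    rw [hpol] at h2
    exact (IsLocalRing.mem_maximalIdeal _).mp h2 hq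
  set q' := tableOf c' with hq'
  have hq'nd : VanCyc.QuadNondeg q' := by
    unfold VanCyc.QuadNondeg
    rw [hq', polarMatrix_tableOf]
    exact hunit
  have hG' : ∀ e : Fin n →₀ ℕ, e.degree ≤ 2 →
      MvPowerSeries.coeff e G = MvPowerSeries.coeff e ((VanCyc.quadPoly q' + MvPolynomial.C a' :
        MvPolynomial (Fin n) A) : MvPowerSeries (Fin n) A) := by
    intro e he
    rw [MvPolynomial.coe_add, MvPolynomial.coe_C, quadPoly_eq_qev, hq', qev_upperOf_tableOf]
    have := hc' e (by omega)
    rw [map_sub, map_sub] at this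
    rw [map_add]
    linear_combination this
  obtain ⟨-, -, -, -, ⟨iso2⟩⟩ := Groth.Agent.S16230.result A n 2 le_rfl q' hq'nd a' G hG'
  have iso1 : (MvPowerSeries (Fin n) A ⧸ Ideal.span {F}) ≃ₐ[A]
      (MvPowerSeries (Fin n) A ⧸ Ideal.span {G}) :=
    Ideal.quotientEquivAlg _ _ (transEquiv I cpt hcI) (by
      rw [Ideal.map_span, Set.image_singleton]
      rfl)
  exact ⟨a', q', ha'I, hq'nd, ⟨iso1.trans iso2⟩⟩

end Groth.Agent.S16231
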