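import Groth.Statements.S16232
import Groth.Agent.Lib.Helper10.TameTop

set_option autoImplicit false
set_option linter.style.haveILetI false
universe u v
open VanCyc

namespace Groth.Agent.S16232

/-- Let R be a strictly Henselian discrete valuation ring (Henselian, with separably closed residue
field), K its fraction field, Ω a separable closure of K and G the group of K-algebra automorphisms
of Ω; let r ≥ 1 be an integer invertible in the residue field of R, ϖ a uniformizer of R and ρ an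
r-th root of ϖ in Ω, so that the fundamental character χ : G → μ_r(Ω) is σ ↦ σ(ρ)/ρ. Then every
homomorphism φ of the abstract group G into an abelian group M with rM = 0 factors uniquely through
χ: there is exactly one homomorphism u : μ_r(Ω) → M with φ(σ) = u(χ(σ)) for every σ in G.
(Homomorphisms are written as maps respecting the group laws; χ(σ) is the root of unity ζ with ζρ =
σ(ρ).) -/
theorem result
    (R : Type u) [CommRing R] [IsDomain R] [IsDiscreteValuationRing R] [HenselianLocalRing R]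
    [IsSepClosed (IsLocalRing.ResidueField R)]
    (K : Type u) [Field K] [Algebra R K] [IsFractionRing R K]
    (Ω : Type u) [Field Ω] [Algebra K Ω] [IsSepClosure K Ω]
    (r : ℕ) [NeZero r] (hr : IsUnit (r : IsLocalRing.ResidueField R))
    (ϖ : R) (hϖ : Irreducible ϖ) (ρ : Ω) (hρ : ρ ^ r = algebraMap K Ω (algebraMap R K ϖ))
    (M : Type v) [AddCommGroup M] (hM : ∀ x : M, r • x = 0)
    (φ : (Ω ≃ₐ[K] Ω) → M) (hφ : ∀ σ τ : Ω ≃ₐ[K] Ω, φ (σ * τ) = φ σ + φ τ) :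
    ∃! u : ↥(rootsOfUnity r Ω) → M, (∀ ζ ξ : ↥(rootsOfUnity r Ω), u (ζ * ξ) = u ζ + u ξ) ∧
      ∀ (σ : Ω ≃ₐ[K] Ω) (ζ : ↥(rootsOfUnity r Ω)), ((ζ : Ωˣ) : Ω) * ρ = σ ρ → φ σ = u ζ := by
  classical
  have hr0 : 0 < r := Nat.pos_of_ne_zero (NeZero.ne r)
  have hφ1 : φ 1 = 0 := by
    have h := hφ 1 1
    rw [mul_one] at h
    have : φ 1 + 0 = φ 1 + φ 1 := by rw [add_zero]; exact h
    exact (add_left_cancel this).symm
  have hφpow : ∀ (g : Ω ≃ₐ[K] Ω) (n : ℕ), φ (g ^ n) = n • φ g := by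
    intro g n
    induction n with
    | zero => rw [pow_zero, zero_smul]; exact hφ1
    | succ n ih => rw [pow_succ, hφ, ih, succ_nsmul]
  have hφinv : ∀ g : Ω ≃ₐ[K] Ω, φ g⁻¹ = - φ g := by
    intro g
    have h := hφ g⁻¹ g
    rw [inv_mul_cancel, hφ1] at h
    exact eq_neg_of_add_eq_zero_left h.symm
  have hker : ∀ σ : Ω ≃ₐ[K] Ω, σ ρ = ρ → φ σ = 0 := by
    intro σ hσ
    obtain ⟨τ, π', h⟩ := Groth.Agent.Lib.Helper10.TameTop.exists_pow_mul_pow R K Ω r hr ϖ hϖ ρ hρ σ hσ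
    rw [h, hφ, hφpow, hφpow, hM, hM, add_zero]
  have heq : ∀ g h : Ω ≃ₐ[K] Ω, g ρ = h ρ → φ g = φ h := by
    intro g h hgh
    have h1 : (h⁻¹ * g) ρ = ρ := by
      rw [AlgEquiv.mul_apply, hgh]
      exact h.symm_apply_apply ρ
    have h2 := hker _ h1
    rw [hφ, hφinv] at h2
    exact (neg_add_eq_zero.mp h2).symm
  obtain ⟨ζr, hζr⟩ := Groth.Agent.Lib.Helper10.TameInst.exists_primitiveRoot R r hr
  have hζΩ : IsPrimitiveRoot (algebraMap K Ω (algebraMap R K ζr)) r :=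
    (hζr.map_of_injective (IsFractionRing.injective R K)).map_of_injective (algebraMap K Ω).injective
  have hfix : ∀ ξ : Ω, ξ ^ r = 1 → ∀ σ : Ω ≃ₐ[K] Ω, σ ξ = ξ := by
    intro ξ hξ σ
    obtain ⟨i, _, rfl⟩ := hζΩ.eq_pow_of_pow_eq_one hξ
    rw [map_pow, AlgEquiv.commutes]
  have hpow1 : ∀ ζ : ↥(rootsOfUnity r Ω), (((ζ : Ωˣ) : Ω)) ^ r = 1 := by
    intro ζ
    have := (mem_rootsOfUnity r (ζ : Ωˣ)).mp ζ.2
    rw [← Units.val_pow_eq_pow_val, this, Units.val_one]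
  have hex : ∀ ζ : ↥(rootsOfUnity r Ω), ∃ σ : Ω ≃ₐ[K] Ω, σ ρ = ((ζ : Ωˣ) : Ω) * ρ := fun ζ =>
    Groth.Agent.Lib.Helper10.TameInst.exists_conj R K Ω ϖ hϖ r hr0 ρ hρ _ (hpow1 ζ)
  choose s hs using hex
  refine ⟨fun ζ => φ (s ζ), ⟨?_, ?_⟩, ?_⟩
  · intro ζ ξ
    show φ (s (ζ * ξ)) = φ (s ζ) + φ (s ξ)
    rw [← hφ]
    apply heq
    rw [hs, AlgEquiv.mul_apply, hs, map_mul, hs, hfix _ (hpow1 ξ)]
    rw [Subgroup.coe_mul, Units.val_mul]
    ring
  · intro σ ζ hζ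
    show φ σ = φ (s ζ)
    apply heq
    rw [hs, hζ]
  · intro u' ⟨_, hu'⟩
    funext ζ
    exact (hu' (s ζ) ζ (hs ζ).symm).symm

end Groth.Agent.S16232
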