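import Groth.Statements.S16233
import Groth.Agent.S4239
import Mathlib.RingTheory.AlgebraTower
import Mathlib.Algebra.MonoidAlgebra.Module
import Mathlib.Tactic

set_option autoImplicit false
open NCTr

namespace Groth.Agent.S16233

/-- Let Λ be a ring, not necessarily commutative, G a finite group, P a left Λ[G]-module with a finite
Λ[G]-basis b, regarded also as a Λ-module by restriction of scalars and equipped with any finite
Λ-basis c, and u a Λ[G]-linear endomorphism of P with diagonal matrix entries u_ii = (b.repr (u (b
i))) i in Λ[G]. Then the trace of u as a Λ-linear endomorphism, taken in Λ modulo additive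
commutators with respect to c, equals |G| times the class of the sum over i of the coefficients of
the identity element of G in the u_ii (that sum of coefficients is the value at the identity class
of the Λ[G]-trace of u, the G-trace of u). The source states this for P finitely generated
projective over Λ[G]; this row is the free case. -/
theorem result
    (Λ : Type*) [Ring Λ] (G : Type*) [Group G] [Fintype G]
    (P : Type*) [AddCommGroup P] [Module Λ P] [Module (MonoidAlgebra Λ G) P]
    [IsScalarTower Λ (MonoidAlgebra Λ G) P]
    {ι κ : Type*} [Fintype ι] [Fintype κ]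
    (b : Module.Basis ι (MonoidAlgebra Λ G) P) (c : Module.Basis κ Λ P)
    (u : P →ₗ[MonoidAlgebra Λ G] P) :
    NCTr.hsTrace c (u.restrictScalars Λ) =
      Fintype.card G • ∑ i, (QuotientAddGroup.mk ((b.repr (u (b i)) i).coeff 1) : NCTr.Abel Λ) := by
  classical
  rw [Groth.Agent.S4239.result Λ P c ((MonoidAlgebra.basis G Λ).smulTower b) (u.restrictScalars Λ)]
  unfold NCTr.hsTrace
  rw [Fintype.sum_prod_type]
  have hrepr : ∀ (m : MonoidAlgebra Λ G) (h : G),
      (MonoidAlgebra.basis G Λ).repr m h = m.coeff h := fun m h => rfl
  have key : ∀ (g : G) (i : ι),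
      ((MonoidAlgebra.basis G Λ).smulTower b).repr ((u.restrictScalars Λ)
        (((MonoidAlgebra.basis G Λ).smulTower b) (g, i))) (g, i) = (b.repr (u (b i)) i).coeff 1 := by
    intro g i
    simp only [Module.Basis.smulTower_repr, Module.Basis.smulTower_apply,
      LinearMap.restrictScalars_apply, map_smul, MonoidAlgebra.basis_apply]
    rw [hrepr, Finsupp.smul_apply, smul_eq_mul, MonoidAlgebra.coeff_single_mul_apply]
    simp
  simp_rw [key]
  rw [Finset.sum_const, Finset.card_univ]

end Groth.Agent.S16233
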