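import Groth.Statements.S16235
import Mathlib
-- import your own Groth.Agent.* helpers here

set_option autoImplicit false
universe u
open CAlg

namespace Groth.Agent.S16235


theorem not_mem_minimalPrime_of_regular {A : Type u} [CommRing A] [IsNoetherianRing A]
    (J : Ideal A) (x : A) (hx : IsSMulRegular (A ⧸ (J • ⊤ : Submodule A A)) x)
    (q : Ideal A) (hq : q ∈ J.minimalPrimes) : x ∉ q := by
  intro hxq
  have hJ : (J • ⊤ : Submodule A A) = J := by
    rw [smul_eq_mul, Ideal.mul_top]
  have hann : Module.annihilator A (A ⧸ (J • ⊤ : Submodule A A)) = J := by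
    rw [hJ]; exact Ideal.annihilator_quotient
  have hq' : q ∈ (Module.annihilator A (A ⧸ (J • ⊤ : Submodule A A))).minimalPrimes := by
    rw [hann]; exact hq
  have hass := Module.associatedPrimes.minimalPrimes_annihilator_subset_associatedPrimes A _ hq'
  rw [AssociatedPrimes.mem_iff, isAssociatedPrime_iff] at hass
  obtain ⟨hprime, m, hm⟩ := hass
  have hxm : x • m = 0 := by
    have : x ∈ (⊥ : Submodule A (A ⧸ (J • ⊤ : Submodule A A))).colon {m} := hm ▸ hxq
    rw [Submodule.mem_colon_singleton] at this
    simpa using this
  have hm0 : m = 0 := by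
    apply hx
    simp only [hxm, smul_zero]
  apply hprime.ne_top
  rw [hm, hm0, Ideal.eq_top_iff_one, Submodule.mem_colon_singleton]
  simp

theorem le_height_of_regular {A : Type u} [CommRing A] [IsNoetherianRing A] (rs : List A)
    (hreg : RingTheory.Sequence.IsWeaklyRegular A rs) :
    ∀ k ≤ rs.length, ∀ p : Ideal A, p.IsPrime → Ideal.ofList (rs.take k) ≤ p →
      (k : ℕ∞) ≤ p.height := by
  intro k
  induction k with
  | zero => intro _ p _ _; simp
  | succ k ih =>
    intro hk p hp hle
    have hk' : k < rs.length := hk
    rw [List.take_succ_eq_append_getElem hk', Ideal.ofList_append, Ideal.ofList_singleton,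
      sup_le_iff] at hle
    obtain ⟨hle1, hle2⟩ := hle
    have hmem : rs[k] ∈ p := hle2 (Ideal.subset_span rfl)
    obtain ⟨q, hq, hqp⟩ := Ideal.exists_minimalPrimes_le hle1
    have hqprime : q.IsPrime := hq.1.1
    have hnot := not_mem_minimalPrime_of_regular _ _ (hreg.regular_mod_prev k hk') q hq
    have hlt : q < p := lt_of_le_of_ne hqp (fun h => hnot (h ▸ hmem))
    have h1 := ih hk'.le q hqprime hq.1.2
    have h2 := Ideal.height_add_one_le_of_lt_of_isPrime hlt
    calc ((k + 1 : ℕ) : ℕ∞) = (k : ℕ∞) + 1 := by push_cast; rfl
      _ ≤ q.height + 1 := by gcongr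
      _ ≤ p.height := h2

/-- Let A be a Noetherian commutative ring and x_1, …, x_r a regular sequence on A (each x_i a
non-zero-divisor on A/(x_1, …, x_{i-1})) generating an ideal I ≠ A. Then the height of I, the
infimum of the heights of the minimal primes over I, equals r. -/
theorem result (A : Type u) [CommRing A] [IsNoetherianRing A]
    (r : ℕ) (x : Fin r → A) (hx : RingTheory.Sequence.IsWeaklyRegular A (List.ofFn x))
    (hI : Ideal.span (Set.range x) ≠ ⊤) :
    (Ideal.span (Set.range x)).height = r := by
  have hspan : Ideal.span (Set.range x) = Ideal.ofList (List.ofFn x) := by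
    congr 1
    ext a
    simp [List.mem_ofFn]
  apply le_antisymm
  · calc (Ideal.span (Set.range x)).height ≤ (Ideal.span (Set.range x)).spanFinrank :=
          Ideal.height_le_spanFinrank _ hI
      _ ≤ (r : ℕ∞) := by
          have h1 := Submodule.spanFinrank_span_le_ncard_of_finite (R := A) (Set.finite_range x)
          have h2 : (Set.range x).ncard ≤ r := by
            have := Set.ncard_image_le (f := x) (Set.finite_univ (α := Fin r))
            simpa [Set.image_univ] using this
          exact_mod_cast h1.trans h2
  · rw [Ideal.height_eq_inf_minimalPrimes]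
    refine le_iInf₂ fun p hp => ?_
    have hlen : (List.ofFn x).length = r := List.length_ofFn
    have := le_height_of_regular (List.ofFn x) hx (List.ofFn x).length le_rfl p hp.1.1
      (by rw [List.take_length, ← hspan]; exact hp.1.2)
    rw [hlen] at this
    exact this

end Groth.Agent.S16235
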