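import Groth.Statements.S6315
import Groth.Agent.Lib.Helper46.TorShift
import Mathlib.RingTheory.Noetherian.Basic
import Mathlib.RingTheory.TensorProduct.Finite

set_option autoImplicit false
universe u
open CategoryTheory
open CAlg

namespace Groth.Agent.S6315

/-- Let R be a Noetherian ring and M, N finite R-modules. Then Tor_pᴿ(M, N) is a finite R-module for all
p. -/
theorem result (R : Type u) [CommRing R] [IsNoetherianRing R] (M N : Type u) [AddCommGroup M] [Module R M] [AddCommGroup N] [Module R N] [Module.Finite R M] [Module.Finite R N] (p : ℕ) : Module.Finite R (((CategoryTheory.Tor (ModuleCat.{u} R) p).obj (ModuleCat.of R M)).obj (ModuleCat.of R N)) := by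
  induction p generalizing N with
  | zero =>
    exact Module.Finite.equiv (Groth.Agent.Lib.Helper46.TorShift.torZeroEquiv M N).symm
  | succ p ih =>
    obtain ⟨k, f, hf⟩ := Module.Finite.exists_fin' R N
    obtain ⟨g, hg⟩ := Groth.Agent.Lib.Helper46.TorShift.exists_injective₂ (N := M)
      (LinearMap.ker f).subtype f Subtype.val_injective (LinearMap.exact_subtype_ker_map f) hf p
      (Groth.Agent.Lib.Helper46.TorShift.isZero_of_flat_right M (Fin k → R) p)
    haveI := ih (LinearMap.ker f)
    haveI : IsNoetherian R (Groth.Agent.Lib.Helper46.TorShift.T R p M (LinearMap.ker f)) :=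
      isNoetherian_of_isNoetherianRing_of_finite R _
    exact Module.Finite.of_injective g hg

end Groth.Agent.S6315
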