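import Groth.Statements.S16238
import Groth.Agent.Lib.Helper46.TorLinear
import Groth.Agent.S6315
import Mathlib.RingTheory.Regular.RegularSequence
import Mathlib.LinearAlgebra.TensorProduct.Quotient
import Mathlib.RingTheory.LocalRing.MaximalIdeal.Basic
import Mathlib.RingTheory.Jacobson.Ideal

set_option backward.isDefEq.respectTransparency false
set_option backward.defeqAttrib.useBackward true

set_option autoImplicit false
universe u
open CategoryTheory
open CAlg

namespace Groth.Agent.S16238

open Groth.Agent.Lib.Helper46 Groth.Agent.Lib.Helper46.TorShift RingTheory.Sequence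

/-- exactness of `A/I' --r--> A/I' --> A/(I' + (r))`. -/
theorem exact_aux (A : Type u) [CommRing A] (l : List A) (r : A)
    (hle : Ideal.ofList l ≤ Ideal.ofList (l ++ [r])) :
    Function.Exact (r • (LinearMap.id : (A ⧸ Ideal.ofList l) →ₗ[A] (A ⧸ Ideal.ofList l)))
      (Submodule.factor hle) := by
  intro y
  obtain ⟨a, rfl⟩ := Submodule.Quotient.mk_surjective (Ideal.ofList l) y
  have hmk : Submodule.factor hle (Submodule.Quotient.mk (p := Ideal.ofList l) a) =
      Submodule.Quotient.mk (p := Ideal.ofList (l ++ [r])) a :=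
    Submodule.factor_mk hle a
  rw [hmk, Submodule.Quotient.mk_eq_zero, Ideal.ofList_append, Ideal.ofList_singleton]
  constructor
  · intro ha
    obtain ⟨y, hy, z, hz, rfl⟩ := Submodule.mem_sup.mp ha
    obtain ⟨c, rfl⟩ := Ideal.mem_span_singleton'.mp hz
    refine ⟨Submodule.Quotient.mk (p := Ideal.ofList l) c, ?_⟩
    simp only [LinearMap.smul_apply, LinearMap.id_coe, id_eq]
    rw [← Submodule.Quotient.mk_smul, Submodule.Quotient.mk_add,
      (Submodule.Quotient.mk_eq_zero _).mpr hy, zero_add, smul_eq_mul, mul_comm]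
  · rintro ⟨z, hz⟩
    obtain ⟨c, rfl⟩ := Submodule.Quotient.mk_surjective (Ideal.ofList l) z
    simp only [LinearMap.smul_apply, LinearMap.id_coe, id_eq] at hz
    rw [← Submodule.Quotient.mk_smul, Submodule.Quotient.eq] at hz
    have h1 : r • c ∈ Ideal.ofList l ⊔ Ideal.span {r} :=
      Submodule.mem_sup_right (by
        rw [smul_eq_mul, mul_comm]; exact Ideal.mul_mem_left _ _ (Ideal.mem_span_singleton_self r))
    have h2 : r • c - a ∈ Ideal.ofList l ⊔ Ideal.span {r} := Submodule.mem_sup_left hz
    have := Submodule.sub_mem _ h1 h2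
    simpa using this

/-- General form: for a finite module `N` over a Noetherian local ring and a sequence `rs` in the
maximal ideal that is weakly regular on `A`, `rs` is weakly regular on `N` iff
`Torᵢ(A/(rs), N) = 0` for all `i ≥ 1`. -/
theorem main (A : Type u) [CommRing A] [IsNoetherianRing A] [IsLocalRing A]
    (N : Type u) [AddCommGroup N] [Module A N] [Module.Finite A N] (rs : List A)
    (hm : ∀ r ∈ rs, r ∈ IsLocalRing.maximalIdeal A) (hA : IsWeaklyRegular A rs) :
    IsWeaklyRegular N rs ↔
      ∀ i : ℕ, 1 ≤ i → Limits.IsZero (T A i (A ⧸ Ideal.ofList rs) N) := by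
  induction rs using List.reverseRecOn with
  | nil =>
    refine ⟨fun _ i hi => ?_, fun _ => .nil A N⟩
    obtain ⟨k, rfl⟩ : ∃ k, i = k + 1 := ⟨i - 1, by omega⟩
    have e : (A ⧸ Ideal.ofList ([] : List A)) ≃ₗ[A] A :=
      Submodule.quotEquivOfEqBot _ Ideal.ofList_nil
    exact isZero_congr e.symm (LinearEquiv.refl A N) (k + 1) (isZero_of_flat_left A N k)
  | append_singleton l r ih =>
    rw [isWeaklyRegular_append_iff] at hA
    obtain ⟨hA1, hA2⟩ := hA
    have ih' := ih (fun s hs => hm s (List.mem_append_left _ hs)) hA1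
    have hr : r ∈ IsLocalRing.maximalIdeal A := hm r (by simp)
    have e1 : (A ⧸ (Ideal.ofList l • ⊤ : Submodule A A)) ≃ₗ[A] (A ⧸ Ideal.ofList l) :=
      Submodule.quotEquivOfEq _ _ (by simp)
    have hreg : IsSMulRegular (A ⧸ Ideal.ofList l) r :=
      (e1.isSMulRegular_congr r).mp ((isWeaklyRegular_singleton_iff _ r).mp hA2)
    have hle : Ideal.ofList l ≤ Ideal.ofList (l ++ [r]) := by
      rw [Ideal.ofList_append]; exact le_sup_left
    have hπ : Function.Surjective (Submodule.factor hle) := Submodule.factor_surjective hle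
    have hex := exact_aux A l r hle
    have hjac : r ∈ (⊥ : Ideal A).jacobson := by
      rw [IsLocalRing.jacobson_eq_maximalIdeal ⊥ bot_ne_top]; exact hr
    have e2 := TensorProduct.quotTensorEquivQuotSMul N (Ideal.ofList l)
    rw [isWeaklyRegular_append_iff, isWeaklyRegular_singleton_iff, ih',
      ← e2.isSMulRegular_congr r]
    constructor
    · rintro ⟨h1, h2⟩
      exact TorLinear.isZero_tor_quot_of_regular r _ hreg hex hπ h1 h2
    · intro h
      exact TorLinear.isZero_tor_and_regular_of_quot r _ hreg hex hπ hjac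
        (fun i => Groth.Agent.S6315.result A (A ⧸ Ideal.ofList l) N i) h

/-- Let A be a Noetherian local ring, x_1, …, x_n a regular sequence on A (each x_i a non-zero-divisor
on A/(x_1, …, x_{i-1})) generating the ideal I, and J an ideal with I + J ≠ A. Then the images of
x_1, …, x_n form a regular sequence on A/J if and only if Tor_i^A(A/I, A/J) = 0 for all i ≥ 1 (in
degree 0 the Tor is A/(I + J) in any case). (The published statement does not ask the x_i to form a
regular sequence on A itself; without this the equivalence fails, for instance for A = k[e]/(e²), n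
= 1, x_1 = e and J = 0, where every higher Tor of A/(e) against the free module A vanishes although
e is a zero-divisor.) -/
theorem result (A : Type u) [CommRing A] [IsNoetherianRing A] [IsLocalRing A]
    (n : ℕ) (x : Fin n → A) (hx : RingTheory.Sequence.IsWeaklyRegular A (List.ofFn x))
    (J : Ideal A) (hIJ : Ideal.span (Set.range x) ⊔ J ≠ ⊤) :
    RingTheory.Sequence.IsWeaklyRegular (A ⧸ J) (List.ofFn (fun i : Fin n => Ideal.Quotient.mk J (x i))) ↔
      ∀ i : ℕ, 1 ≤ i → Limits.IsZero (((Tor (ModuleCat.{u} A) i).obj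
        (ModuleCat.of A (A ⧸ Ideal.span (Set.range x)))).obj (ModuleCat.of A (A ⧸ J))) := by
  have hI : Ideal.ofList (List.ofFn x) = Ideal.span (Set.range x) := by
    apply congrArg Ideal.span
    ext a
    simp [List.mem_ofFn]
  have hm : ∀ r ∈ List.ofFn x, r ∈ IsLocalRing.maximalIdeal A := by
    intro r hr
    have hle : Ideal.span (Set.range x) ⊔ J ≤ IsLocalRing.maximalIdeal A :=
      IsLocalRing.le_maximalIdeal hIJ
    refine hle (Submodule.mem_sup_left (Ideal.subset_span ?_))
    obtain ⟨i, rfl⟩ := (List.mem_ofFn' x r).mp hr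
    exact ⟨i, rfl⟩
  have hmap : List.ofFn (fun i : Fin n => Ideal.Quotient.mk J (x i)) =
      (List.ofFn x).map (algebraMap A (A ⧸ J)) := by
    rw [List.map_ofFn]; rfl
  rw [hmap, isWeaklyRegular_map_algebraMap_iff, ← hI]
  exact main A (A ⧸ J) (List.ofFn x) hm hx

end Groth.Agent.S16238
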