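import Groth.Statements.S1624
import Groth.Agent.Lib.BlowUp.TwoCharts
import Groth.Agent.Lib.BlowUp.MVH1
import Groth.Agent.Lib.BlowUp.GlobGenSpan

set_option autoImplicit false
universe u
open CategoryTheory CategoryTheory.Limits AlgebraicGeometry
open Resolve

namespace Groth.Agent.S1624

open Groth.Agent.Lib.BlowUp.Rees Groth.Agent.Lib.BlowUp.ReesProj Groth.Agent.Lib.BlowUp.RegSurfAlg
  Groth.Agent.Lib.BlowUp.TwoCharts Groth.Agent.Lib.BlowUp.GlobGenSpan IsLocalRing TopologicalSpace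

/-- transport a decomposition statement along an equality of opens -/
lemma ring_decomp_of_eq {X : Scheme.{u}} {U V W : X.Opens} (hW : W = U ⊓ V) (hWU : W ≤ U)
    (hWV : W ≤ V)
    (h : ∀ r : Γ(X, W), ∃ (r₁ : Γ(X, U)) (r₂ : Γ(X, V)),
      r = X.presheaf.map (homOfLE hWU).op r₁ + X.presheaf.map (homOfLE hWV).op r₂) :
    ∀ r : Γ(X, U ⊓ V), ∃ (r₁ : Γ(X, U)) (r₂ : Γ(X, V)),
      r = X.presheaf.map (homOfLE (inf_le_left : U ⊓ V ≤ U)).op r₁ +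
        X.presheaf.map (homOfLE (inf_le_right : U ⊓ V ≤ V)).op r₂ := by
  subst hW
  exact h

/-- from functions to sections of a globally generated quasi-coherent module -/
lemma module_decomp {X : Scheme.{u}} (F : X.Modules) [F.IsQuasicoherent]
    (hgg : Curv2.IsGloballyGenerated F) {U V : X.Opens} (hUV : IsAffineOpen (U ⊓ V))
    (h : ∀ r : Γ(X, U ⊓ V), ∃ (r₁ : Γ(X, U)) (r₂ : Γ(X, V)),
      r = X.presheaf.map (homOfLE (inf_le_left : U ⊓ V ≤ U)).op r₁ +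
        X.presheaf.map (homOfLE (inf_le_right : U ⊓ V ≤ V)).op r₂) :
    ∀ m : Γ(F, U ⊓ V), ∃ (a : Γ(F, U)) (b : Γ(F, V)),
      m = F.presheaf.map (homOfLE (inf_le_left : U ⊓ V ≤ U)).op a +
        F.presheaf.map (homOfLE (inf_le_right : U ⊓ V ≤ V)).op b := by
  intro m
  have hm := mem_span_of_isGloballyGenerated F hgg hUV m
  induction hm using Submodule.closure_induction with
  | zero => exact ⟨0, 0, by rw [map_zero, map_zero, add_zero]⟩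
  | add m₁ m₂ _ _ h₁ h₂ =>
    obtain ⟨a₁, b₁, rfl⟩ := h₁
    obtain ⟨a₂, b₂, rfl⟩ := h₂
    exact ⟨a₁ + a₂, b₁ + b₂, by rw [map_add, map_add]; abel⟩
  | smul_mem r m hm =>
    obtain ⟨t, rfl⟩ := hm
    obtain ⟨r₁, r₂, rfl⟩ := h r
    refine ⟨r₁ • F.presheaf.map (homOfLE (le_top : U ≤ ⊤)).op t,
      r₂ • F.presheaf.map (homOfLE (le_top : V ≤ ⊤)).op t, ?_⟩
    rw [Scheme.Modules.map_smul, Scheme.Modules.map_smul, add_smul]
    congr 2
    · exact (Groth.Agent.Lib.QCoh.map_map_apply F _ _ _ t).symm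
    · exact (Groth.Agent.Lib.QCoh.map_map_apply F _ _ _ t).symm

/-- Let A be a regular local ring of dimension two and b : X → Spec A the blowing up in the maximal
ideal. If F is a quasi-coherent O_X-module which is globally generated, then H¹(X, F) = 0. -/
theorem result (A : Type u) [CommRing A] [IsRegularLocalRing A] (hA : ringKrullDim A = 2)
    (X : Scheme.{u}) (b : X ⟶ Spec (CommRingCat.of A)) (hb : BlowUp.IsBlowUp b (Curv2.idealSheaf A (IsLocalRing.maximalIdeal A)))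
    (F : X.Modules) (hF : Coh.IsQCoh F) (hgg : Curv2.IsGloballyGenerated F) : Subsingleton (Coh.HH X F 1) := by
  obtain ⟨x, y, hxy⟩ := exists_gens hA
  have hxy' : Ideal.span {y, x} = maximalIdeal A := by rw [Set.pair_comm]; exact hxy
  have hx : x ∈ maximalIdeal A := mem_maximalIdeal_left hxy
  have hy : y ∈ maximalIdeal A := mem_maximalIdeal_left hxy'
  obtain ⟨e, -⟩ := Groth.Agent.Lib.BlowUp.UP.exists_iso_of_isBlowUp b (π (maximalIdeal A)) hb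
    (isBlowUp_π (maximalIdeal A))
  have : F.IsQuasicoherent := hF
  -- the two charts
  obtain ⟨D₁, hD₁⟩ : ∃ D : (Bl (maximalIdeal A)).Opens,
      D = Proj.basicOpen (deg (maximalIdeal A)) (T (maximalIdeal A) x hx) := ⟨_, rfl⟩
  obtain ⟨D₂, hD₂⟩ : ∃ D : (Bl (maximalIdeal A)).Opens,
      D = Proj.basicOpen (deg (maximalIdeal A)) (T (maximalIdeal A) y hy) := ⟨_, rfl⟩
  obtain ⟨D₁₂, hD₁₂⟩ : ∃ D : (Bl (maximalIdeal A)).Opens,
      D = Proj.basicOpen (deg (maximalIdeal A))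
        (T (maximalIdeal A) x hx * T (maximalIdeal A) y hy) := ⟨_, rfl⟩
  have hD : D₁₂ = D₁ ⊓ D₂ := by rw [hD₁₂, hD₁, hD₂]; exact Proj.basicOpen_mul _ _ _
  have hD₁aff : IsAffineOpen D₁ := hD₁ ▸
    Proj.isAffineOpen_basicOpen (deg (maximalIdeal A)) _ (T_mem _ _ _) Nat.one_pos
  have hD₂aff : IsAffineOpen D₂ := hD₂ ▸
    Proj.isAffineOpen_basicOpen (deg (maximalIdeal A)) _ (T_mem _ _ _) Nat.one_pos
  have hD₁₂aff : IsAffineOpen D₁₂ := hD₁₂ ▸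
    Proj.isAffineOpen_basicOpen (deg (maximalIdeal A)) _
      (T_mul_T_mem (maximalIdeal A) x y hx hy) (by norm_num)
  have hcovD : D₁ ⊔ D₂ = ⊤ := by
    have hcov := Groth.Agent.Lib.BlowUp.GenCover.iSup_basicOpen_gen (maximalIdeal A) ![x, y]
      (fun i => by fin_cases i <;> assumption)
      (by rw [Matrix.range_cons, Matrix.range_cons, Matrix.range_empty, Set.union_empty]
          exact hxy)
    rw [eq_top_iff]
    intro p _
    have hmem : p ∈ (⊤ : (Bl (maximalIdeal A)).Opens) := trivial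
    rw [← hcov] at hmem
    obtain ⟨i, hi⟩ := TopologicalSpace.Opens.mem_iSup.1 hmem
    fin_cases i
    · exact Or.inl (hD₁ ▸ hi)
    · exact Or.inr (hD₂ ▸ hi)
  -- ring decomposition on the blow-up
  have hringD : ∀ r : Γ(Bl (maximalIdeal A), D₁₂), ∃ (r₁ : Γ(Bl (maximalIdeal A), D₁))
      (r₂ : Γ(Bl (maximalIdeal A), D₂)),
      r = (Bl (maximalIdeal A)).presheaf.map (homOfLE (hD ▸ inf_le_left : D₁₂ ≤ D₁)).op r₁ +
        (Bl (maximalIdeal A)).presheaf.map (homOfLE (hD ▸ inf_le_right : D₁₂ ≤ D₂)).op r₂ := by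
    subst hD₁ hD₂ hD₁₂
    exact exists_res_add (maximalIdeal A) x y hx hy hxy
  -- transport to `X`
  have hU : IsAffineOpen (e.hom ⁻¹ᵁ D₁) := hD₁aff.preimage_of_isIso e.hom
  have hV : IsAffineOpen (e.hom ⁻¹ᵁ D₂) := hD₂aff.preimage_of_isIso e.hom
  have hW : IsAffineOpen (e.hom ⁻¹ᵁ D₁₂) := hD₁₂aff.preimage_of_isIso e.hom
  have hWeq : e.hom ⁻¹ᵁ D₁₂ = e.hom ⁻¹ᵁ D₁ ⊓ e.hom ⁻¹ᵁ D₂ := by rw [hD]; rfl
  have hcov : e.hom ⁻¹ᵁ D₁ ⊔ e.hom ⁻¹ᵁ D₂ = ⊤ := by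
    have : e.hom ⁻¹ᵁ (D₁ ⊔ D₂) = ⊤ := by rw [hcovD]; rfl
    exact this
  have hWU : e.hom ⁻¹ᵁ D₁₂ ≤ e.hom ⁻¹ᵁ D₁ := hWeq ▸ inf_le_left
  have hWV : e.hom ⁻¹ᵁ D₁₂ ≤ e.hom ⁻¹ᵁ D₂ := hWeq ▸ inf_le_right
  have hringX : ∀ r : Γ(X, e.hom ⁻¹ᵁ D₁₂), ∃ (r₁ : Γ(X, e.hom ⁻¹ᵁ D₁)) (r₂ : Γ(X, e.hom ⁻¹ᵁ D₂)),
      r = X.presheaf.map (homOfLE hWU).op r₁ + X.presheaf.map (homOfLE hWV).op r₂ := by
    intro r
    obtain ⟨r', rfl⟩ := (ConcreteCategory.bijective_of_isIso (e.hom.app D₁₂)).2 r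
    obtain ⟨r₁, r₂, rfl⟩ := hringD r'
    refine ⟨e.hom.app D₁ r₁, e.hom.app D₂ r₂, ?_⟩
    rw [map_add]
    congr 1
    · exact ConcreteCategory.congr_hom
        (e.hom.naturality (homOfLE (hD ▸ inf_le_left : D₁₂ ≤ D₁)).op) r₁
    · exact ConcreteCategory.congr_hom
        (e.hom.naturality (homOfLE (hD ▸ inf_le_right : D₁₂ ≤ D₂)).op) r₂
  have hring := ring_decomp_of_eq hWeq hWU hWV hringX
  have hUV : IsAffineOpen (e.hom ⁻¹ᵁ D₁ ⊓ e.hom ⁻¹ᵁ D₂) := hWeq ▸ hW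
  exact Groth.Agent.Lib.BlowUp.MVH1.subsingleton_HH_one_of_decomp _ _ hU hV hcov F
    (module_decomp F hgg hUV hring)

end Groth.Agent.S1624
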