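import Groth.Statements.S16240
import Mathlib
import Groth.Agent.S0563
import Groth.Agent.Lib.Helper33.SyzygyStalk
import Groth.Agent.Lib.QCoh.CohKernel
import Groth.Agent.Lib.QCoh.Helper74_TorsionFreeDimOne

set_option autoImplicit false
universe u
open CategoryTheory CategoryTheory.Limits AlgebraicGeometry
open Coh

namespace Groth.Agent.S16240

open Groth.Agent.Lib.QCoh Groth.Agent.Lib.Helper33.SyzygyStalk FlatMod in
theorem isCoh_of_isFinLocFree {X : Scheme.{u}} {M : X.Modules} (h : FlatMod.IsFinLocFree M) :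
    Coh.IsCoh M :=
  ⟨isQuasicoherent_of_isFinLocFree h, isFiniteType_of_isFinLocFree h⟩

open Groth.Agent.Lib.QCoh Groth.Agent.Lib.Helper33.SyzygyStalk FlatMod in
theorem pdLT_one_of_isFinLocFree {X : Scheme.{u}} {M : X.Modules} (h : FlatMod.IsFinLocFree M)
    (x : X) : PdLT x M 1 := by
  obtain ⟨hfree, -⟩ := free_finite_stalk_of_isFinLocFree h x
  have hproj : Module.Projective (X.presheaf.stalk x) (M.presheaf.stalk x) := inferInstance
  have : Projective (ModuleCat.of (X.presheaf.stalk x) (M.presheaf.stalk x)) :=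
    (IsProjective.iff_projective _).mp hproj
  exact projective_iff_hasProjectiveDimensionLT_one.mp this

/-- Let X be a Noetherian scheme all of whose local rings are regular, of (topological Krull) dimension
at most m, and let S be an exact sequence of O_X-modules G ⟶ E_m ⟶ ⋯ ⟶ E_1 ⟶ F with m + 2 terms (G
in position 0, F in position m + 1), injective at the first map and surjective at the last, in which
F is coherent and E_1, …, E_m are finite locally free. Then G is finite locally free. (The source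
asks for p + 1 vector bundles with p ≥ dim X − 1, i.e. at least dim X of them, and finite dimension;
here m bounds the dimension.) -/
theorem result (X : Scheme.{u}) [IsNoetherian X]
    (hreg : ∀ x : X, IsRegularLocalRing (X.presheaf.stalk x)) (m : ℕ)
    (hdim : topologicalKrullDim ↥X ≤ (m : WithBot ℕ∞))
    (S : ComposableArrows X.Modules (m + 1)) (hS : S.Exact)
    (hmono : Mono (S.map' 0 1 (Nat.zero_le 1) (Nat.le_add_left 1 m)))
    (hepi : Epi (S.map' m (m + 1) (Nat.le_succ m) (le_refl (m + 1))))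
    (hE : ∀ i : Fin m, FlatMod.IsFinLocFree (S.obj ⟨i.1 + 1, Nat.succ_lt_succ (Nat.lt_succ_of_lt i.2)⟩))
    (hF : Coh.IsCoh (S.obj (Fin.last (m + 1)))) :
    FlatMod.IsFinLocFree (S.obj 0) := by
  classical
  have hcohj : ∀ (j : ℕ) (_ : 1 ≤ j) (hj : j ≤ m + 1), Coh.IsCoh (S.obj' j) := by
    intro j hj1 hj
    by_cases hjm : j ≤ m
    · obtain ⟨i, rfl⟩ : ∃ i, j = i + 1 := ⟨j - 1, by omega⟩
      exact isCoh_of_isFinLocFree (hE ⟨i, by omega⟩)
    · obtain rfl : j = m + 1 := by omega
      exact hF
  -- coherence of the first term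
  have hG : Coh.IsCoh (S.obj 0) := by
    rcases m with _ | m'
    · haveI := hmono
      haveI := hepi
      haveI : IsIso (S.map' 0 1 (Nat.zero_le 1) (Nat.le_add_left 1 0)) :=
        isIso_of_mono_of_epi _
      exact Groth.Agent.Lib.QCoh.isCoh_of_iso
        (asIso (S.map' 0 1 (Nat.zero_le 1) (Nat.le_add_left 1 0))).symm hF
    · have hex : (ShortComplex.mk (S.map' 0 1) (S.map' 1 2) (hS.toIsComplex.zero 0)).Exact :=
        hS.exact 0
      haveI : Mono (ShortComplex.mk (S.map' 0 1) (S.map' 1 2) (hS.toIsComplex.zero 0)).f := hmono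
      have hker := hex.fIsKernel
      have e := IsLimit.conePointUniqueUpToIso hker (kernelIsKernel (S.map' 1 2))
      refine Groth.Agent.Lib.QCoh.isCoh_of_iso (M := kernel (S.map' 1 2)) (N := S.obj 0) e.symm
        (Groth.Agent.Lib.QCoh.isCoh_kernel (hcohj 1 le_rfl (by omega)) (hcohj 2 (by omega) (by omega)) _)
  haveI : (S.obj 0).IsQuasicoherent := hG.1
  haveI : (S.obj 0).IsFiniteType := hG.2
  haveI := Groth.Agent.Lib.QCoh.isFinitePresentation_of_isLocallyNoetherian (S.obj 0)
  apply Groth.Agent.Lib.QCoh.isFinLocFree_of_isFlat_of_isFinitePresentation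
  intro x
  haveI : IsRegularLocalRing (X.presheaf.stalk x) := hreg x
  have hle : ringKrullDim (X.presheaf.stalk x) ≤ (m : WithBot ℕ∞) :=
    (Groth.Agent.Lib.QCoh.TFDimOne74.ringKrullDim_stalk_le X x).trans hdim
  obtain ⟨d, hd⟩ : ∃ d : ℕ, ringKrullDim (X.presheaf.stalk x) = d := by
    have h0 : (0 : WithBot ℕ∞) ≤ ringKrullDim (X.presheaf.stalk x) := ringKrullDim_nonneg_of_nontrivial
    generalize ringKrullDim (X.presheaf.stalk x) = r at hle h0
    induction r using WithBot.recBotCoe with
    | bot => exact absurd h0 (by simp)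
    | coe r =>
      have h1 : r ≤ (m : ℕ∞) := by exact_mod_cast hle
      obtain ⟨k, rfl⟩ := ENat.ne_top_iff_exists.mp (ne_top_of_le_ne_top (ENat.natCast_ne_top m) h1)
      exact ⟨k, rfl⟩
  have hdm : d ≤ m := by
    rw [hd] at hle
    exact_mod_cast hle
  have hpdall : ∀ M : X.Modules, Groth.Agent.Lib.Helper33.SyzygyStalk.PdLT x M (d + 1) :=
    fun M => Groth.Agent.S0563.result (X.presheaf.stalk x) d hd (M.presheaf.stalk x)
  have hpd1 : Groth.Agent.Lib.Helper33.SyzygyStalk.PdLT x (S.obj 0) 1 := by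
    rcases m with _ | m'
    · obtain rfl : d = 0 := by omega
      exact hpdall _
    · have hprojj : ∀ (j : ℕ) (_ : 1 ≤ j) (hj : j ≤ m' + 1),
          Groth.Agent.Lib.Helper33.SyzygyStalk.PdLT x (S.obj' j) 1 := by
        intro j hj1 hj
        obtain ⟨i, rfl⟩ : ∃ i, j = i + 1 := ⟨j - 1, by omega⟩
        exact pdLT_one_of_isFinLocFree (hE ⟨i, by omega⟩) x
      have hcok := Groth.Agent.Lib.Helper33.SyzygyStalk.pdLT_cokernel x m' 1 S hS hepi hprojj
        (Groth.Agent.Lib.Helper33.SyzygyStalk.pdLT_of_ge x _ (by omega) (hpdall _))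
      have hSES : (ShortComplex.mk (S.map' 0 1) (cokernel.π (S.map' 0 1))
          (cokernel.condition _)).ShortExact :=
        ShortComplex.ShortExact.mk' (ShortComplex.exact_cokernel _) hmono inferInstance
      exact Groth.Agent.Lib.Helper33.SyzygyStalk.pdLT_X₁ x _ hSES 0 (hprojj 1 le_rfl (by omega)) hcok
  have hproj : Projective (ModuleCat.of (X.presheaf.stalk x) ((S.obj 0).presheaf.stalk x)) :=
    projective_iff_hasProjectiveDimensionLT_one.mpr hpd1
  have hproj' : Module.Projective (X.presheaf.stalk x) ((S.obj 0).presheaf.stalk x) :=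
    (IsProjective.iff_projective _).mpr hproj
  exact (inferInstance : Module.Flat (X.presheaf.stalk x) ((S.obj 0).presheaf.stalk x))

end Groth.Agent.S16240
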