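import Groth.Statements.S16242
import Mathlib
import Groth.Agent.S3194
-- import your own Groth.Agent.* helpers here

set_option autoImplicit false
universe u
open CategoryTheory
open KZero

namespace Groth.Agent.S16242

section ring

open MvPolynomial

variable (k : Type u) [Field k]

/-- evaluation killing `X i` and sending the other variable to `X`. -/
noncomputable def phi (i : Fin 2) : MvPolynomial (Fin 2) k →ₐ[k] Polynomial k :=
  MvPolynomial.aeval (fun l => if l = i then 0 else Polynomial.X)

/-- section: `X ↦ X j`. -/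
noncomputable def sig (j : Fin 2) : Polynomial k →ₐ[k] MvPolynomial (Fin 2) k :=
  Polynomial.aeval (MvPolynomial.X j)

lemma phi_sig (i j : Fin 2) (hij : i ≠ j) (q : Polynomial k) : phi k i (sig k j q) = q := by
  have : (phi k i).comp (sig k j) = AlgHom.id k _ := by
    apply Polynomial.algHom_ext
    simp [phi, sig, Ne.symm hij]
  exact congrArg (fun f => f q) this

lemma sub_sig_phi_mem (i j : Fin 2) (hij : i ≠ j) (p : MvPolynomial (Fin 2) k) :
    p - sig k j (phi k i p) ∈ Ideal.span {(X i : MvPolynomial (Fin 2) k)} := by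
  induction p using MvPolynomial.induction_on with
  | C a => simp [phi, sig]
  | add p q hp hq =>
    have : p + q - sig k j (phi k i (p + q)) =
        (p - sig k j (phi k i p)) + (q - sig k j (phi k i q)) := by
      rw [map_add, map_add]; ring
    rw [this]
    exact Ideal.add_mem _ hp hq
  | mul_X p l hp =>
    by_cases hl : l = i
    · subst hl
      have h0 : phi k l (X l) = 0 := by simp [phi]
      rw [map_mul, h0, mul_zero, map_zero, sub_zero]
      exact Ideal.mul_mem_left _ _ (Ideal.mem_span_singleton_self _)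
    · have hlj : l = j := by
        fin_cases l <;> fin_cases i <;> fin_cases j <;> simp_all
      subst hlj
      have h1 : phi k i (X l) = Polynomial.X := by simp [phi, hl]
      have h2 : sig k l (Polynomial.X) = X l := by simp [sig]
      rw [map_mul, h1, map_mul, h2, ← sub_mul]
      exact Ideal.mul_mem_right _ _ hp

/-- the node ideal -/
noncomputable abbrev II : Ideal (MvPolynomial (Fin 2) k) :=
  Ideal.span {(MvPolynomial.X 0 * MvPolynomial.X 1 : MvPolynomial (Fin 2) k)}
/-- the node ring -/
abbrev AA := MvPolynomial (Fin 2) k ⧸ II k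
/-- the coordinate functions -/
noncomputable abbrev xx (i : Fin 2) : AA k := Ideal.Quotient.mk (II k) (MvPolynomial.X i)

lemma phi_II (i : Fin 2) : ∀ a ∈ II k, phi k i a = 0 := by
  intro a ha
  obtain ⟨c, rfl⟩ := Ideal.mem_span_singleton'.mp ha
  rw [map_mul, map_mul]
  fin_cases i <;> simp [phi]

/-- the induced map `A → k[X]`. -/
noncomputable def psi (i : Fin 2) : AA k →+* Polynomial k :=
  Ideal.Quotient.lift (II k) (phi k i).toRingHom (phi_II k i)

lemma psi_mk (i : Fin 2) (p : MvPolynomial (Fin 2) k) :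
    psi k i (Ideal.Quotient.mk (II k) p) = phi k i p := rfl

lemma psi_surjective (i j : Fin 2) (hij : i ≠ j) : Function.Surjective (psi k i) := by
  intro q
  exact ⟨Ideal.Quotient.mk (II k) (sig k j q), by rw [psi_mk, phi_sig k i j hij]⟩

lemma ker_psi (i j : Fin 2) (hij : i ≠ j) : RingHom.ker (psi k i) = Ideal.span {xx k i} := by
  apply le_antisymm
  · intro a ha
    obtain ⟨p, rfl⟩ := Ideal.Quotient.mk_surjective a
    rw [RingHom.mem_ker, psi_mk] at ha
    have h := sub_sig_phi_mem k i j hij p
    rw [ha, map_zero, sub_zero] at h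
    obtain ⟨c, rfl⟩ := Ideal.mem_span_singleton'.mp h
    rw [map_mul]
    exact Ideal.mul_mem_left _ _ (Ideal.mem_span_singleton_self _)
  · rw [Ideal.span_singleton_le_iff_mem, RingHom.mem_ker, psi_mk]
    simp [phi]

lemma xx_mul (i j : Fin 2) (hij : i ≠ j) : xx k i * xx k j = 0 := by
  rw [← map_mul, Ideal.Quotient.eq_zero_iff_mem]
  have : (X i * X j : MvPolynomial (Fin 2) k) = X 0 * X 1 := by
    fin_cases i <;> fin_cases j <;> simp_all [mul_comm]
  rw [this]
  exact Ideal.mem_span_singleton_self _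

lemma xx_not_mem (i j : Fin 2) (hij : i ≠ j) : xx k j ∉ Ideal.span {xx k i} := by
  intro h
  rw [← ker_psi k i j hij, RingHom.mem_ker, psi_mk] at h
  have h1 : phi k i (X j) = Polynomial.X := by simp [phi, Ne.symm hij]
  rw [h1] at h
  exact Polynomial.X_ne_zero h

instance span_xx_isPrime (i : Fin 2) : (Ideal.span {xx k i}).IsPrime := by
  obtain ⟨j, hij⟩ : ∃ j : Fin 2, i ≠ j := by
    fin_cases i
    · exact ⟨1, by decide⟩
    · exact ⟨0, by decide⟩
  rw [← ker_psi k i j hij]
  exact RingHom.ker_isPrime _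

/-- every ideal containing `x_i` is generated by `x_i` and one more element. -/
lemma exists_gen (i j : Fin 2) (hij : i ≠ j) (p : Ideal (AA k)) (hp : xx k i ∈ p) :
    ∃ g : AA k, p = Ideal.span {xx k i} ⊔ Ideal.span {g} := by
  have hsurj := psi_surjective k i j hij
  obtain ⟨g', hg'⟩ : ∃ g', Ideal.map (psi k i) p = Ideal.span {g'} :=
    ⟨_, (Submodule.IsPrincipal.span_singleton_generator (Ideal.map (psi k i) p)).symm⟩
  obtain ⟨g, rfl⟩ := hsurj g'
  have hker : RingHom.ker (psi k i) ≤ p := by
    rw [ker_psi k i j hij, Ideal.span_singleton_le_iff_mem]; exact hp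
  have hgp : g ∈ p := by
    have : psi k i g ∈ Ideal.map (psi k i) p := by
      rw [hg']; exact Ideal.mem_span_singleton_self _
    obtain ⟨z, hz, hzg⟩ := (Ideal.mem_map_iff_of_surjective _ hsurj).mp this
    have : g - z ∈ p := hker (by rw [RingHom.mem_ker, map_sub, hzg, sub_self])
    have h2 : g = (g - z) + z := by ring
    rw [h2]; exact Ideal.add_mem _ this hz
  refine ⟨g, le_antisymm ?_ ?_⟩
  · intro z hz
    have : psi k i z ∈ Ideal.span {psi k i g} := by
      rw [← hg']; exact Ideal.mem_map_of_mem _ hz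
    obtain ⟨c', hc'⟩ := Ideal.mem_span_singleton'.mp this
    obtain ⟨c, rfl⟩ := hsurj c'
    have hk : z - c * g ∈ RingHom.ker (psi k i) := by
      rw [RingHom.mem_ker, map_sub, map_mul, hc', sub_self]
    rw [ker_psi k i j hij] at hk
    have h2 : z = (z - c * g) + c * g := by ring
    rw [h2]
    exact Ideal.add_mem _ (Ideal.mem_sup_left hk)
      (Ideal.mem_sup_right (Ideal.mul_mem_left _ _ (Ideal.mem_span_singleton_self _)))
  · rw [sup_le_iff, Ideal.span_singleton_le_iff_mem, Ideal.span_singleton_le_iff_mem]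
    exact ⟨hp, hgp⟩

end ring

section gen

open Groth.Agent.S3194

variable (k : Type u) [Field k]

/-- class of `A/(x_i)` -/
noncomputable abbrev cc (i : Fin 2) : K0sub (P (AA k)) :=
  clSub (P (AA k)) (ModuleCat.of (AA k) (AA k ⧸ Ideal.span {xx k i}))

lemma cl_quot_of_mem (i j : Fin 2) (hij : i ≠ j) (p : Ideal (AA k)) (hp : xx k i ∈ p) :
    ∃ a : ℤ, clSub (P (AA k)) (ModuleCat.of (AA k) (AA k ⧸ p)) = a • cc k i := by
  obtain ⟨g, rfl⟩ := exists_gen k i j hij p hp
  by_cases hg : g ∈ Ideal.span {xx k i}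
  · have : Ideal.span {xx k i} ⊔ Ideal.span {g} = Ideal.span {xx k i} :=
      sup_eq_left.mpr ((Ideal.span_singleton_le_iff_mem _).mpr hg)
    rw [this]
    exact ⟨1, by rw [one_smul]⟩
  · refine ⟨0, ?_⟩
    rw [zero_smul]
    let f : (AA k ⧸ Ideal.span {xx k i}) →ₗ[AA k] (AA k ⧸ Ideal.span {xx k i}) :=
      LinearMap.lsmul (AA k) _ g
    let π : (AA k ⧸ Ideal.span {xx k i}) →ₗ[AA k]
        (AA k ⧸ (Ideal.span {xx k i} ⊔ Ideal.span {g})) :=
      Submodule.mapQ _ _ LinearMap.id le_sup_left
    have hπ : Function.Surjective π := by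
      intro x
      obtain ⟨r, rfl⟩ := Submodule.Quotient.mk_surjective _ x
      exact ⟨Submodule.Quotient.mk r, rfl⟩
    have hf : Function.Injective f := by
      rw [← LinearMap.ker_eq_bot, LinearMap.ker_eq_bot']
      intro x hx
      obtain ⟨r, rfl⟩ := Submodule.Quotient.mk_surjective _ x
      simp only [f, LinearMap.lsmul_apply] at hx
      rw [← Submodule.Quotient.mk_smul, Submodule.Quotient.mk_eq_zero, smul_eq_mul] at hx
      rw [Submodule.Quotient.mk_eq_zero]
      exact ((span_xx_isPrime k i).mem_or_mem hx).resolve_left hg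
    have hex : Function.Exact f π := by
      intro y
      obtain ⟨r, rfl⟩ := Submodule.Quotient.mk_surjective _ y
      simp only [π, f, Submodule.mapQ_apply, LinearMap.id_coe, id_eq,
        Submodule.Quotient.mk_eq_zero, Set.mem_range, LinearMap.lsmul_apply]
      constructor
      · intro hr
        obtain ⟨u, hu, v, hv, rfl⟩ := Submodule.mem_sup.mp hr
        obtain ⟨c, rfl⟩ := Ideal.mem_span_singleton'.mp hv
        refine ⟨Submodule.Quotient.mk c, ?_⟩
        rw [← Submodule.Quotient.mk_smul, Submodule.Quotient.eq, smul_eq_mul]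
        have : g * c - (u + c * g) = -u := by ring
        rw [this]
        exact Submodule.neg_mem _ hu
      · rintro ⟨x, hx⟩
        obtain ⟨c, rfl⟩ := Submodule.Quotient.mk_surjective _ x
        rw [← Submodule.Quotient.mk_smul, Submodule.Quotient.eq, smul_eq_mul] at hx
        have : r = -(g * c - r) + c * g := by ring
        rw [this]
        exact Ideal.add_mem _ (Ideal.mem_sup_left (Submodule.neg_mem _ hx))
          (Ideal.mem_sup_right (Ideal.mul_mem_left _ _ (Ideal.mem_span_singleton_self _)))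
    have h := rel (A := AA k) f π hex hf hπ
    have h2 : cc k i + 0 = cc k i +
        clSub (P (AA k)) (ModuleCat.of (AA k) (AA k ⧸ (Ideal.span {xx k i} ⊔ Ideal.span {g}))) := by
      rw [add_zero]; exact h
    exact (add_left_cancel h2).symm

lemma cl_mem (M : Type u) [AddCommGroup M] [Module (AA k) M] [Module.Finite (AA k) M] :
    ∃ a b : ℤ, clSub (P (AA k)) (ModuleCat.of (AA k) M) = a • cc k 0 + b • cc k 1 := by
  induction ‹Module.Finite (AA k) M› using
    IsNoetherianRing.induction_on_isQuotientEquivQuotientPrime (AA k) with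
  | subsingleton N => exact ⟨0, 0, by rw [cl_zero]; simp⟩
  | quotient N p e =>
    rw [cl_iso e]
    have h0 : xx k 0 * xx k 1 ∈ p.asIdeal := by
      rw [xx_mul k 0 1 (by decide)]; exact Ideal.zero_mem _
    rcases p.2.mem_or_mem h0 with h | h
    · obtain ⟨a, ha⟩ := cl_quot_of_mem k 0 1 (by decide) p.asIdeal h
      exact ⟨a, 0, by rw [ha]; simp⟩
    · obtain ⟨b, hb⟩ := cl_quot_of_mem k 1 0 (by decide) p.asIdeal h
      exact ⟨0, b, by rw [hb]; simp⟩
  | exact N₁ N₂ N₃ f g hf hg hfg h₁ h₃ =>
    obtain ⟨a₁, b₁, e₁⟩ := h₁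
    obtain ⟨a₃, b₃, e₃⟩ := h₃
    refine ⟨a₁ + a₃, b₁ + b₃, ?_⟩
    rw [rel (A := AA k) f g hfg hf hg, e₁, e₃, add_smul, add_smul]
    abel

end gen

lemma length_le_one_of_cyclic {L : Type*} [CommRing L] [IsLocalRing L] {M' : Type*}
    [AddCommGroup M'] [Module L M'] (e : M')
    (hgen : Function.Surjective (LinearMap.toSpanSingleton L M' e))
    (hker : IsLocalRing.maximalIdeal L ≤ LinearMap.ker (LinearMap.toSpanSingleton L M' e)) :
    Module.length L M' ≤ 1 := by
  have hsimple : IsSimpleModule L (L ⧸ IsLocalRing.maximalIdeal L) :=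
    isSimpleModule_iff_isCoatom.mpr
      (Ideal.isMaximal_def.mp (IsLocalRing.maximalIdeal.isMaximal _))
  calc Module.length L M'
      ≤ Module.length L (L ⧸ IsLocalRing.maximalIdeal L) :=
        Module.length_le_of_surjective (Submodule.liftQ _ _ hker) (by
          intro y
          obtain ⟨l, rfl⟩ := hgen y
          exact ⟨Submodule.Quotient.mk l, rfl⟩)
    _ = 1 := Module.length_eq_one _ _

section inv

open Groth.Agent.S3194

variable (k : Type u) [Field k]

lemma span_xx_mem_minimalPrimes (i j : Fin 2) (hij : i ≠ j) :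
    Ideal.span {xx k i} ∈ minimalPrimes (AA k) := by
  rw [minimalPrimes_eq_minimals]
  refine ⟨span_xx_isPrime k i, fun q hq hle => ?_⟩
  rw [Ideal.span_singleton_le_iff_mem]
  have h0 : xx k i * xx k j ∈ q := by rw [xx_mul k i j hij]; exact q.zero_mem
  rcases hq.mem_or_mem h0 with h | h
  · exact h
  · exact absurd (hle h) (xx_not_mem k i j hij)

/-- the localization at `(x_i)` -/
abbrev LL (i : Fin 2) := Localization.AtPrime (Ideal.span {xx k i})

lemma LL_artinian (i j : Fin 2) (hij : i ≠ j) : IsArtinianRing (LL k i) := by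
  have h : Ring.KrullDimLE 0 (LL k i) :=
    Ring.KrullDimLE.of_isLocalization _ (span_xx_mem_minimalPrimes k i j hij) (LL k i)
  exact (isArtinianRing_iff_krullDimLE_zero (R := LL k i)).mpr h

/-- localized length -/
noncomputable def lam (i : Fin 2) (M : Type u) [AddCommGroup M] [Module (AA k) M] : ℕ∞ :=
  Module.length (LL k i) (LocalizedModule (Ideal.span {xx k i}).primeCompl M)

lemma lam_ne_top (i j : Fin 2) (hij : i ≠ j) (M : Type u) [AddCommGroup M] [Module (AA k) M]
    [Module.Finite (AA k) M] : lam k i M ≠ ⊤ := by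
  have h1 := LL_artinian k i j hij
  have h2 : Module.Finite (LL k i) (LocalizedModule (Ideal.span {xx k i}).primeCompl M) :=
    inferInstance
  have h3 : IsArtinian (LL k i) (LocalizedModule (Ideal.span {xx k i}).primeCompl M) :=
    @isArtinian_of_fg_of_artinian' (LL k i)
      (LocalizedModule (Ideal.span {xx k i}).primeCompl M) _ _ _ h1 h2
  have h4 : IsNoetherianRing (LL k i) :=
    IsLocalization.isNoetherianRing (Ideal.span {xx k i}).primeCompl (LL k i) inferInstance
  have h5 : IsNoetherian (LL k i) (LocalizedModule (Ideal.span {xx k i}).primeCompl M) :=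
    @isNoetherian_of_isNoetherianRing_of_finite (LL k i)
      (LocalizedModule (Ideal.span {xx k i}).primeCompl M) _ _ _ h4 h2
  exact Module.length_ne_top

lemma lam_add (i : Fin 2) {N₁ N₂ N₃ : Type u} [AddCommGroup N₁] [Module (AA k) N₁]
    [AddCommGroup N₂] [Module (AA k) N₂] [AddCommGroup N₃] [Module (AA k) N₃]
    (f : N₁ →ₗ[AA k] N₂) (g : N₂ →ₗ[AA k] N₃) (hf : Function.Injective f)
    (hg : Function.Surjective g) (hex : Function.Exact f g) :
    lam k i N₂ = lam k i N₁ + lam k i N₃ :=
  Module.length_eq_add_of_exact (LocalizedModule.map (Ideal.span {xx k i}).primeCompl f)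
    (LocalizedModule.map (Ideal.span {xx k i}).primeCompl g)
    (LocalizedModule.map_injective _ f hf) (LocalizedModule.map_surjective _ g hg)
    (LocalizedModule.map_exact _ f g hex)

lemma lam_other (i j : Fin 2) (hij : i ≠ j) : lam k i (AA k ⧸ Ideal.span {xx k j}) = 0 := by
  unfold lam
  rw [Module.length_eq_zero_iff, LocalizedModule.subsingleton_iff]
  intro m
  refine ⟨xx k j, xx_not_mem k i j hij, ?_⟩
  obtain ⟨r, rfl⟩ := Submodule.Quotient.mk_surjective _ m
  rw [← Submodule.Quotient.mk_smul, Submodule.Quotient.mk_eq_zero, smul_eq_mul]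
  exact Ideal.mul_mem_right _ _ (Ideal.mem_span_singleton_self _)

lemma lam_self (i : Fin 2) : lam k i (AA k ⧸ Ideal.span {xx k i}) = 1 := by
  unfold lam
  apply le_antisymm
  · refine length_le_one_of_cyclic (L := LL k i)
      (LocalizedModule.mk (Submodule.Quotient.mk 1) 1 :
        LocalizedModule (Ideal.span {xx k i}).primeCompl (AA k ⧸ Ideal.span {xx k i})) ?_ ?_
    · intro y
      induction y using LocalizedModule.induction_on with
      | h m s =>
        obtain ⟨a, rfl⟩ := Submodule.Quotient.mk_surjective _ m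
        refine ⟨Localization.mk a s, ?_⟩
        simp only [LinearMap.toSpanSingleton_apply, LocalizedModule.mk_smul_mk, mul_one]
        rw [← Submodule.Quotient.mk_smul, smul_eq_mul, mul_one]
    · rw [← Localization.AtPrime.map_eq_maximalIdeal, Ideal.map_le_iff_le_comap]
      intro a ha
      rw [Ideal.mem_comap]
      change LinearMap.toSpanSingleton (LL k i) _ _ (algebraMap (AA k) (LL k i) a) = 0
      simp only [LinearMap.toSpanSingleton_apply, algebraMap_smul, LocalizedModule.smul'_mk]
      rw [← Submodule.Quotient.mk_smul, smul_eq_mul, mul_one,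
        (Submodule.Quotient.mk_eq_zero _).mpr ha, LocalizedModule.zero_mk]
  · rw [Order.one_le_iff_pos, Module.length_pos_iff, ← not_subsingleton_iff_nontrivial,
      LocalizedModule.subsingleton_iff]
    intro h
    obtain ⟨r, hr, hr0⟩ := h (Submodule.Quotient.mk 1)
    rw [← Submodule.Quotient.mk_smul, Submodule.Quotient.mk_eq_zero, smul_eq_mul, mul_one] at hr0
    exact hr hr0

/-- the rank homomorphism at the generic point of `V(x_i)` -/
noncomputable def rho (i j : Fin 2) (hij : i ≠ j) : K0sub (P (AA k)) →+ ℤ :=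
  QuotientAddGroup.lift (relSub (P (AA k)))
    (FreeAbelianGroup.lift (fun X : Subtype (P (AA k)) => ((lam k i X.1).toNat : ℤ)))
    (by
      unfold relSub
      rw [AddSubgroup.closure_le]
      rintro _ ⟨S, h₁, h₂, h₃, hS, rfl⟩
      simp only [SetLike.mem_coe, AddMonoidHom.mem_ker, map_sub, FreeAbelianGroup.lift_apply_of]
      have i1 : Module.Finite (AA k) S.X₁ := h₁
      have i2 : Module.Finite (AA k) S.X₂ := h₂
      have i3 : Module.Finite (AA k) S.X₃ := h₃
      have hadd := lam_add k i S.f.hom S.g.hom hS.moduleCat_injective_f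
        hS.moduleCat_surjective_g
        ((ShortComplex.ShortExact.moduleCat_exact_iff_function_exact S).1 hS.exact)
      have t1 := lam_ne_top k i j hij S.X₁
      have t3 := lam_ne_top k i j hij S.X₃
      have : (lam k i S.X₂).toNat = (lam k i S.X₁).toNat + (lam k i S.X₃).toNat := by
        rw [hadd, ENat.toNat_add t1 t3]
      omega)

lemma rho_cl (i j : Fin 2) (hij : i ≠ j) (M : Type u) [AddCommGroup M] [Module (AA k) M]
    [Module.Finite (AA k) M] :
    rho k i j hij (clSub (P (AA k)) (ModuleCat.of (AA k) M)) = ((lam k i M).toNat : ℤ) := by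
  rw [cl_eq]
  simp [rho]

end inv

/-- Let k be a field and A = k[x, y]/(xy) (polynomial ring in two variables x = X_0, y = X_1 modulo xy).
In the Grothendieck group of finitely generated A-modules (free abelian group on them modulo short
exact sequences), the classes of A/(x) ≅ k[y] and A/(y) ≅ k[x] form a basis: the homomorphism ℤ × ℤ
⟶ K₀ sending (a, b) to a·[A/(x)] + b·[A/(y)] is bijective. -/
theorem result (k : Type u) [Field k] :
    Function.Bijective (fun p : ℤ × ℤ =>
      p.1 • KZero.clSub (fun M : ModuleCat.{u} (MvPolynomial (Fin 2) k ⧸ Ideal.span {(MvPolynomial.X 0 * MvPolynomial.X 1 : MvPolynomial (Fin 2) k)}) => Module.Finite (MvPolynomial (Fin 2) k ⧸ Ideal.span {(MvPolynomial.X 0 * MvPolynomial.X 1 : MvPolynomial (Fin 2) k)}) M)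
          (ModuleCat.of (MvPolynomial (Fin 2) k ⧸ Ideal.span {(MvPolynomial.X 0 * MvPolynomial.X 1 : MvPolynomial (Fin 2) k)}) ((MvPolynomial (Fin 2) k ⧸ Ideal.span {(MvPolynomial.X 0 * MvPolynomial.X 1 : MvPolynomial (Fin 2) k)}) ⧸ Ideal.span {Ideal.Quotient.mk (Ideal.span {(MvPolynomial.X 0 * MvPolynomial.X 1 : MvPolynomial (Fin 2) k)}) (MvPolynomial.X 0)})) +
        p.2 • KZero.clSub (fun M : ModuleCat.{u} (MvPolynomial (Fin 2) k ⧸ Ideal.span {(MvPolynomial.X 0 * MvPolynomial.X 1 : MvPolynomial (Fin 2) k)}) => Module.Finite (MvPolynomial (Fin 2) k ⧸ Ideal.span {(MvPolynomial.X 0 * MvPolynomial.X 1 : MvPolynomial (Fin 2) k)}) M)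
          (ModuleCat.of (MvPolynomial (Fin 2) k ⧸ Ideal.span {(MvPolynomial.X 0 * MvPolynomial.X 1 : MvPolynomial (Fin 2) k)}) ((MvPolynomial (Fin 2) k ⧸ Ideal.span {(MvPolynomial.X 0 * MvPolynomial.X 1 : MvPolynomial (Fin 2) k)}) ⧸ Ideal.span {Ideal.Quotient.mk (Ideal.span {(MvPolynomial.X 0 * MvPolynomial.X 1 : MvPolynomial (Fin 2) k)}) (MvPolynomial.X 1)}))) := by
  constructor
  · rintro ⟨a, b⟩ ⟨a', b'⟩ h
    have h0 := congrArg (rho k 0 1 (by decide)) h
    have h1 := congrArg (rho k 1 0 (by decide)) h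
    simp only [map_add, map_zsmul] at h0 h1
    have e00 := rho_cl k 0 1 (by decide) (AA k ⧸ Ideal.span {xx k 0})
    have e01 := rho_cl k 0 1 (by decide) (AA k ⧸ Ideal.span {xx k 1})
    have e10 := rho_cl k 1 0 (by decide) (AA k ⧸ Ideal.span {xx k 0})
    have e11 := rho_cl k 1 0 (by decide) (AA k ⧸ Ideal.span {xx k 1})
    rw [lam_self] at e00 e11
    rw [lam_other k 0 1 (by decide)] at e01
    rw [lam_other k 1 0 (by decide)] at e10
    rw [e00, e01] at h0
    rw [e10, e11] at h1
    simp at h0 h1
    rw [h0, h1]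
  · intro x
    induction x using QuotientAddGroup.induction_on with
    | H z =>
      induction z using FreeAbelianGroup.induction_on with
      | zero => exact ⟨(0, 0), by simp⟩
      | of X =>
        obtain ⟨M, hM⟩ := X
        have : Module.Finite (AA k) M := hM
        obtain ⟨a, b, hab⟩ := cl_mem k M
        refine ⟨(a, b), ?_⟩
        change a • cc k 0 + b • cc k 1 = _
        rw [← hab]
        exact Groth.Agent.S3194.cl_eq (A := AA k) M
      | neg X hX =>
        obtain ⟨⟨a, b⟩, hk⟩ := hX
        refine ⟨(-a, -b), ?_⟩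
        simp only [neg_smul, QuotientAddGroup.mk_neg] at hk ⊢
        rw [← hk, neg_add]
      | add X Y hX hY =>
        obtain ⟨⟨a, b⟩, hk⟩ := hX
        obtain ⟨⟨a', b'⟩, hk'⟩ := hY
        refine ⟨(a + a', b + b'), ?_⟩
        simp only [add_smul, QuotientAddGroup.mk_add] at hk hk' ⊢
        rw [← hk, ← hk']
        abel


end Groth.Agent.S16242
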