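import Groth.Statements.S16244
import Mathlib

set_option autoImplicit false
universe u
open Curves

namespace Groth.Agent.S16244

open WeierstrassCurve in
theorem stab_iff {k : Type u} [Field k] (h2 : (2 : k) ≠ 0) (h3 : (3 : k) ≠ 0)
    (W : WeierstrassCurve k) [W.IsShortNF] (C : WeierstrassCurve.VariableChange k) :
    C ∈ MulAction.stabilizer (WeierstrassCurve.VariableChange k) W ↔
      (C.r = 0 ∧ C.s = 0 ∧ C.t = 0 ∧ (C.u : k) ^ 4 * W.a₄ = W.a₄ ∧ (C.u : k) ^ 6 * W.a₆ = W.a₆) := by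
  have ha1 : W.a₁ = 0 := IsShortNF.a₁
  have ha2 : W.a₂ = 0 := IsShortNF.a₂
  have ha3 : W.a₃ = 0 := IsShortNF.a₃
  have hu : (C.u : k) ≠ 0 := C.u.ne_zero
  have hui : ((C.u⁻¹ : kˣ) : k) ≠ 0 := (C.u⁻¹).ne_zero
  have huu : (C.u : k) * ((C.u⁻¹ : kˣ) : k) = 1 := by simp
  rw [MulAction.mem_stabilizer_iff]
  constructor
  · intro h
    have e1 := congrArg WeierstrassCurve.a₁ h
    have e2 := congrArg WeierstrassCurve.a₂ h
    have e3 := congrArg WeierstrassCurve.a₃ h
    have e4 := congrArg WeierstrassCurve.a₄ h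
    have e6 := congrArg WeierstrassCurve.a₆ h
    rw [variableChange_def] at e1 e2 e3 e4 e6
    simp only [ha1, ha2, ha3] at e1 e2 e3 e4 e6
    have hs : C.s = 0 := by
      have : ((C.u⁻¹ : kˣ) : k) * (2 * C.s) = 0 := by simpa using e1
      rcases mul_eq_zero.mp this with h | h
      · exact absurd h hui
      · rcases mul_eq_zero.mp h with h | h
        · exact absurd h h2
        · exact h
    have hr : C.r = 0 := by
      have : ((C.u⁻¹ : kˣ) : k) ^ 2 * (3 * C.r) = 0 := by simpa [hs] using e2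
      rcases mul_eq_zero.mp this with h | h
      · exact absurd (pow_eq_zero_iff (by norm_num) |>.mp h) hui
      · rcases mul_eq_zero.mp h with h | h
        · exact absurd h h3
        · exact h
    have ht : C.t = 0 := by
      have : ((C.u⁻¹ : kˣ) : k) ^ 3 * (2 * C.t) = 0 := by simpa [hr] using e3
      rcases mul_eq_zero.mp this with h | h
      · exact absurd (pow_eq_zero_iff (by norm_num) |>.mp h) hui
      · rcases mul_eq_zero.mp h with h | h
        · exact absurd h h2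
        · exact h
    refine ⟨hr, hs, ht, ?_, ?_⟩
    · have e4' : ((C.u⁻¹ : kˣ) : k) ^ 4 * W.a₄ = W.a₄ := by simpa [hr, hs, ht] using e4
      calc (C.u : k) ^ 4 * W.a₄ = (C.u : k) ^ 4 * (((C.u⁻¹ : kˣ) : k) ^ 4 * W.a₄) := by rw [e4']
        _ = ((C.u : k) * ((C.u⁻¹ : kˣ) : k)) ^ 4 * W.a₄ := by ring
        _ = W.a₄ := by rw [huu]; ring
    · have e6' : ((C.u⁻¹ : kˣ) : k) ^ 6 * W.a₆ = W.a₆ := by simpa [hr, hs, ht] using e6
      calc (C.u : k) ^ 6 * W.a₆ = (C.u : k) ^ 6 * (((C.u⁻¹ : kˣ) : k) ^ 6 * W.a₆) := by rw [e6']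
        _ = ((C.u : k) * ((C.u⁻¹ : kˣ) : k)) ^ 6 * W.a₆ := by ring
        _ = W.a₆ := by rw [huu]; ring
  · rintro ⟨hr, hs, ht, h4, h6⟩
    rw [variableChange_def]
    ext
    · simp [ha1, hs]
    · simp [ha1, ha2, hs, hr]
    · simp [ha1, ha3, hr, ht]
    · simp only [ha1, ha2, ha3, hr, hs, ht]
      calc ((C.u⁻¹ : kˣ) : k) ^ 4 * (W.a₄ - 0 * 0 + 2 * 0 * 0 - (0 + 0 * 0) * 0 + 3 * 0 ^ 2 - 2 * 0 * 0)
          = ((C.u⁻¹ : kˣ) : k) ^ 4 * W.a₄ := by ring
        _ = ((C.u⁻¹ : kˣ) : k) ^ 4 * ((C.u : k) ^ 4 * W.a₄) := by rw [h4]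
        _ = ((C.u : k) * ((C.u⁻¹ : kˣ) : k)) ^ 4 * W.a₄ := by ring
        _ = W.a₄ := by rw [huu]; ring
    · simp only [ha1, ha2, ha3, hr, hs, ht]
      calc ((C.u⁻¹ : kˣ) : k) ^ 6 * (W.a₆ + 0 * W.a₄ + 0 ^ 2 * 0 + 0 ^ 3 - 0 * 0 - 0 ^ 2 - 0 * 0 * 0)
          = ((C.u⁻¹ : kˣ) : k) ^ 6 * W.a₆ := by ring
        _ = ((C.u⁻¹ : kˣ) : k) ^ 6 * ((C.u : k) ^ 6 * W.a₆) := by rw [h6]
        _ = ((C.u : k) * ((C.u⁻¹ : kˣ) : k)) ^ 6 * W.a₆ := by ring
        _ = W.a₆ := by rw [huu]; ring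

/-- the key: if the stabilizer condition on `u` is `u ^ n = 1`, stabilizer ≃* rootsOfUnity n k -/
theorem key {k : Type u} [Field k] [IsAlgClosed k] (h2 : (2 : k) ≠ 0) (h3 : (3 : k) ≠ 0)
    (W : WeierstrassCurve k) [W.IsShortNF] (n : ℕ) (hn : (n : k) ≠ 0)
    (H : ∀ v : kˣ, ((v : k) ^ 4 * W.a₄ = W.a₄ ∧ (v : k) ^ 6 * W.a₆ = W.a₆) ↔ v ^ n = 1) :
    IsCyclic ↥(MulAction.stabilizer (WeierstrassCurve.VariableChange k) W) ∧
      Nat.card ↥(MulAction.stabilizer (WeierstrassCurve.VariableChange k) W) = n := by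
  haveI : NeZero (n : k) := ⟨hn⟩
  haveI : NeZero n := .of_neZero_natCast k
  let G := ↥(MulAction.stabilizer (WeierstrassCurve.VariableChange k) W)
  let f : G →* rootsOfUnity n k :=
    { toFun := fun C => ⟨C.1.u, by
        rw [mem_rootsOfUnity]
        exact (H _).mp ((stab_iff h2 h3 W C.1).mp C.2).2.2.2⟩
      map_one' := rfl
      map_mul' := fun C C' => rfl }
  have hinj : Function.Injective f := by
    intro C C' h
    have hu : C.1.u = C'.1.u := congrArg Subtype.val h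
    have hC := (stab_iff h2 h3 W C.1).mp C.2
    have hC' := (stab_iff h2 h3 W C'.1).mp C'.2
    apply Subtype.ext
    ext
    · rw [hu]
    · rw [hC.1, hC'.1]
    · rw [hC.2.1, hC'.2.1]
    · rw [hC.2.2.1, hC'.2.2.1]
  have hsurj : Function.Surjective f := by
    intro v
    have hv : v.1 ^ n = 1 := (mem_rootsOfUnity _ _).mp v.2
    have := (H v.1).mpr hv
    refine ⟨⟨⟨v.1, 0, 0, 0⟩, (stab_iff h2 h3 W _).mpr ⟨rfl, rfl, rfl, this.1, this.2⟩⟩, ?_⟩
    apply Subtype.ext
    rfl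
  let e : G ≃* rootsOfUnity n k := MulEquiv.ofBijective f ⟨hinj, hsurj⟩
  refine ⟨isCyclic_of_surjective e.symm e.symm.surjective, ?_⟩
  rw [Nat.card_congr e.toEquiv]
  exact HasEnoughRootsOfUnity.natCard_rootsOfUnity k n

/-- Let k be an algebraically closed field in which 2 and 3 are nonzero, and W a short Weierstrass
equation y² = x³ + a₄x + a₆ over k with nonzero discriminant. The admissible changes of variables
(u, r, s, t) that fix W form a cyclic group, of order 6 when a₄ = 0, of order 4 when a₆ = 0, and of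
order 2 when a₄ and a₆ are both nonzero. (The published statement says the automorphism group of the
elliptic curve is cyclic of order 2, 4 or 6; the automorphisms are rendered here as the changes of
variables preserving the equation, and the case distinction is the one the computation gives.) -/
theorem result
    (k : Type u) [Field k] [IsAlgClosed k] (h2 : (2 : k) ≠ 0) (h3 : (3 : k) ≠ 0)
    (W : WeierstrassCurve k) [W.IsShortNF] (hΔ : W.Δ ≠ 0) :
    IsCyclic ↥(MulAction.stabilizer (WeierstrassCurve.VariableChange k) W) ∧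
      (W.a₄ = 0 → Nat.card ↥(MulAction.stabilizer (WeierstrassCurve.VariableChange k) W) = 6) ∧
      (W.a₆ = 0 → Nat.card ↥(MulAction.stabilizer (WeierstrassCurve.VariableChange k) W) = 4) ∧
      (W.a₄ ≠ 0 → W.a₆ ≠ 0 → Nat.card ↥(MulAction.stabilizer (WeierstrassCurve.VariableChange k) W) = 2) := by
  have ha1 : W.a₁ = 0 := WeierstrassCurve.IsShortNF.a₁
  have ha2 : W.a₂ = 0 := WeierstrassCurve.IsShortNF.a₂
  have ha3 : W.a₃ = 0 := WeierstrassCurve.IsShortNF.a₃
  have hΔ' : W.Δ = -16 * (4 * W.a₄ ^ 3 + 27 * W.a₆ ^ 2) := WeierstrassCurve.Δ_of_isShortNF W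
  have h46 : W.a₄ ≠ 0 ∨ W.a₆ ≠ 0 := by
    by_contra hcon
    push Not at hcon
    apply hΔ
    rw [hΔ', hcon.1, hcon.2]; ring
  have h6 : ((6 : ℕ) : k) ≠ 0 := by
    have : ((6 : ℕ) : k) = 2 * 3 := by norm_num
    rw [this]; exact mul_ne_zero h2 h3
  have h4 : ((4 : ℕ) : k) ≠ 0 := by
    have : ((4 : ℕ) : k) = 2 * 2 := by norm_num
    rw [this]; exact mul_ne_zero h2 h2
  have h2' : ((2 : ℕ) : k) ≠ 0 := by
    have : ((2 : ℕ) : k) = 2 := by norm_num
    rw [this]; exact h2
  have unit_pow : ∀ (v : kˣ) (m : ℕ), v ^ m = 1 ↔ (v : k) ^ m = 1 := by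
    intro v m
    rw [← Units.val_pow_eq_pow_val, Units.val_eq_one]
  -- the three cases
  have case6 : W.a₄ = 0 → IsCyclic ↥(MulAction.stabilizer (WeierstrassCurve.VariableChange k) W) ∧
      Nat.card ↥(MulAction.stabilizer (WeierstrassCurve.VariableChange k) W) = 6 := by
    intro h0
    have h6' : W.a₆ ≠ 0 := by
      rcases h46 with h | h
      · exact absurd h0 h
      · exact h
    apply key h2 h3 W 6 h6
    intro v
    rw [unit_pow, h0]
    constructor
    · rintro ⟨-, h⟩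
      have : ((v : k) ^ 6 - 1) * W.a₆ = 0 := by rw [sub_mul, h]; ring
      rcases mul_eq_zero.mp this with h | h
      · exact sub_eq_zero.mp h
      · exact absurd h h6'
    · intro h
      exact ⟨by ring, by rw [h, one_mul]⟩
  have case4 : W.a₆ = 0 → IsCyclic ↥(MulAction.stabilizer (WeierstrassCurve.VariableChange k) W) ∧
      Nat.card ↥(MulAction.stabilizer (WeierstrassCurve.VariableChange k) W) = 4 := by
    intro h0
    have h4' : W.a₄ ≠ 0 := by
      rcases h46 with h | h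
      · exact h
      · exact absurd h0 h
    apply key h2 h3 W 4 h4
    intro v
    rw [unit_pow, h0]
    constructor
    · rintro ⟨h, -⟩
      have : ((v : k) ^ 4 - 1) * W.a₄ = 0 := by rw [sub_mul, h]; ring
      rcases mul_eq_zero.mp this with h | h
      · exact sub_eq_zero.mp h
      · exact absurd h h4'
    · intro h
      exact ⟨by rw [h, one_mul], by ring⟩
  have case2 : W.a₄ ≠ 0 → W.a₆ ≠ 0 →
      IsCyclic ↥(MulAction.stabilizer (WeierstrassCurve.VariableChange k) W) ∧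
      Nat.card ↥(MulAction.stabilizer (WeierstrassCurve.VariableChange k) W) = 2 := by
    intro h4' h6'
    apply key h2 h3 W 2 h2'
    intro v
    rw [unit_pow]
    constructor
    · rintro ⟨h, h'⟩
      have e4 : (v : k) ^ 4 = 1 := by
        have : ((v : k) ^ 4 - 1) * W.a₄ = 0 := by rw [sub_mul, h]; ring
        rcases mul_eq_zero.mp this with h | h
        · exact sub_eq_zero.mp h
        · exact absurd h h4'
      have e6 : (v : k) ^ 6 = 1 := by
        have : ((v : k) ^ 6 - 1) * W.a₆ = 0 := by rw [sub_mul, h']; ring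
        rcases mul_eq_zero.mp this with h | h
        · exact sub_eq_zero.mp h
        · exact absurd h h6'
      calc (v : k) ^ 2 = (v : k) ^ 2 * (v : k) ^ 4 := by rw [e4, mul_one]
        _ = (v : k) ^ 6 := by ring
        _ = 1 := e6
    · intro h
      have e4 : (v : k) ^ 4 = 1 := by
        calc (v : k) ^ 4 = ((v : k) ^ 2) ^ 2 := by ring
          _ = 1 := by rw [h]; ring
      have e6 : (v : k) ^ 6 = 1 := by
        calc (v : k) ^ 6 = ((v : k) ^ 2) ^ 3 := by ring
          _ = 1 := by rw [h]; ring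
      exact ⟨by rw [e4, one_mul], by rw [e6, one_mul]⟩
  refine ⟨?_, fun h => (case6 h).2, fun h => (case4 h).2, fun h h' => (case2 h h').2⟩
  by_cases h0 : W.a₄ = 0
  · exact (case6 h0).1
  · by_cases h0' : W.a₆ = 0
    · exact (case4 h0').1
    · exact (case2 h0 h0').1

end Groth.Agent.S16244
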