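import Groth.Statements.S16251
import Groth.Agent.Lib.Cohomology.Helper3_SubConst
-- import your own Groth.Agent.* helpers here

set_option autoImplicit false
open CategoryTheory CategoryTheory.Limits AlgebraicGeometry Opposite
universe u
open EtPBC

namespace Groth.Agent.S16251

lemma epi_of_isQuot {C : Type*} [Category C] [Preadditive C] {A : Type*} [CommRing A] [Linear A C]
    {I : Ideal A} {Y Q : C} {p : Y ⟶ Q} (h : ARSys.IsQuot I p) : Epi p := by
  constructor
  intro Z a b hab
  have hk : ARSys.HomKilledBy I (p ≫ a) := by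
    intro c hc
    have h1 : c • (p ≫ a) = p ≫ ((c • 𝟙 Q) ≫ a) := by
      rw [Linear.smul_comp, Category.id_comp, Linear.comp_smul]
    rw [h1, h.1 c hc, zero_comp, comp_zero]
  obtain ⟨ψ, -, huniq⟩ := h.2 Z (p ≫ a) hk
  exact (huniq a rfl).trans (huniq b hab.symm).symm

theorem isConstructible_extension' {X : Scheme.{u}} (S : ShortComplex (EtCoh.Ab X))
    (hS : S.ShortExact) (h1 : EtPBC.IsConstructible S.X₁) (h3 : EtPBC.IsConstructible S.X₃) :
    EtPBC.IsConstructible S.X₂ := by
  intro U hU
  obtain ⟨k, T, g, himm, hcons, hdisj, hun, hflc⟩ :=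
    Groth.Agent.Lib.Cohomology.Constr.adaptedStrata_common (h1 U hU) (h3 U hU)
  refine ⟨k, T, g, himm, hcons, hdisj, hun, fun i _ => ?_⟩
  have hS' := hS.map_of_exact (EtCoh.pull (g i))
  exact Groth.Agent.Lib.Cohomology.LocConst.isFLC_extension hS' (hflc i).1 (hflc i).2

/-- Let ℓ be a prime, X a locally Noetherian scheme and F = (F_n) an ℓ-adic projective system of abelian
sheaves on the small étale site of X, indexed from 0 (so ℓ^(n+1) F_n = 0 and, for n ≤ m, the
transition map F_m ⟶ F_n is a quotient map modulo ℓ^(n+1)). If the first member F_0 is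
constructible, then every member F_n is constructible. (The converse is trivial. The published
statement indexes the system from 1, with ℓ^n killing the n-th member; the statement here indexes it
from 0.) -/
theorem result (ℓ : ℕ) [Fact ℓ.Prime]
    (X : Scheme.{u}) [IsLocallyNoetherian X]
    (F : ARSys.PS (EtCoh.Ab X)) (hF : ARSys.IsAdic (Ideal.span {(ℓ : ℤ)}) F)
    (h0 : EtPBC.IsConstructible (F.obj (op 0))) (n : ℕ) :
    EtPBC.IsConstructible (F.obj (op n)) := by
  obtain ⟨hkill, hquot⟩ := hF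
  induction n with
  | zero => exact h0
  | succ n ih =>
    have hp := hquot n (n + 1) (Nat.le_succ n)
    have hq := hquot 0 (n + 1) (Nat.zero_le _)
    haveI hpe : Epi (ARSys.tr F (Nat.le_succ n)) := epi_of_isQuot hp
    haveI hqe : Epi (ARSys.tr F (Nat.zero_le (n + 1))) := epi_of_isQuot hq
    set p := ARSys.tr F (Nat.le_succ n) with hpdef
    set q := ARSys.tr F (Nat.zero_le (n + 1)) with hqdef
    let μ : F.obj (op (n + 1)) ⟶ F.obj (op (n + 1)) := ((ℓ : ℤ) ^ (n + 1)) • 𝟙 _
    have hℓmem : ((ℓ : ℤ) ^ (n + 1)) ∈ (Ideal.span {(ℓ : ℤ)}) ^ (n + 1) :=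
      Ideal.pow_mem_pow (Ideal.mem_span_singleton_self _) _
    -- μ is killed by (ℓ)
    have hμk : ARSys.HomKilledBy ((Ideal.span {(ℓ : ℤ)}) ^ (0 + 1)) μ := by
      intro a ha
      rw [zero_add, pow_one] at ha
      have h1 : a • μ = (a * (ℓ : ℤ) ^ (n + 1)) • 𝟙 _ := by
        change a • (((ℓ : ℤ) ^ (n + 1)) • 𝟙 _) = _
        rw [smul_smul]
      rw [h1]
      apply hkill (n + 1)
      rw [pow_succ' _ (n + 1)]
      exact Ideal.mul_mem_mul ha hℓmem
    obtain ⟨ψ, hψ, -⟩ := hq.2 _ μ hμk
    -- μ ≫ p = 0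
    have hμp : μ ≫ p = 0 := by
      change (((ℓ : ℤ) ^ (n + 1)) • 𝟙 _) ≫ p = 0
      have h1 : (((ℓ : ℤ) ^ (n + 1)) • 𝟙 (F.obj (op (n + 1)))) ≫ p =
          p ≫ (((ℓ : ℤ) ^ (n + 1)) • 𝟙 (F.obj (op n))) := by
        rw [Linear.smul_comp, Category.id_comp, Linear.comp_smul, Category.comp_id]
      rw [h1, hkill n _ hℓmem, comp_zero]
    -- cokernel.π μ is killed by (ℓ)^(n+1)
    have hπk : ARSys.HomKilledBy ((Ideal.span {(ℓ : ℤ)}) ^ (n + 1)) (cokernel.π μ) := by
      intro a ha
      rw [Ideal.span_singleton_pow, Ideal.mem_span_singleton'] at ha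
      obtain ⟨b, rfl⟩ := ha
      have h1 : (b * (ℓ : ℤ) ^ (n + 1)) • cokernel.π μ = b • (μ ≫ cokernel.π μ) := by
        change _ = b • ((((ℓ : ℤ) ^ (n + 1)) • 𝟙 _) ≫ cokernel.π μ)
        rw [Linear.smul_comp, Category.id_comp, smul_smul]
      rw [h1, cokernel.condition, smul_zero]
    obtain ⟨θ, hθ, -⟩ := hp.2 _ (cokernel.π μ) hπk
    -- image μ is a quotient of F_0
    have hsq : CommSq (factorThruImage μ) q (image.ι μ) ψ :=
      ⟨by rw [hψ, image.fac]⟩
    haveI : HasLiftingProperty q (image.ι μ) := (strongEpi_of_epi q).llp (image.ι μ)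
    have hdι : hsq.lift ≫ image.ι μ = ψ := hsq.fac_right
    have hqd : q ≫ hsq.lift = factorThruImage μ := hsq.fac_left
    haveI : Epi (q ≫ hsq.lift) := by rw [hqd]; infer_instance
    haveI : Epi hsq.lift := epi_of_epi q hsq.lift
    have himg : EtPBC.IsConstructible (image μ) :=
      Groth.Agent.Lib.Cohomology.SubConst.isConstructible_of_epi hsq.lift h0
    -- short exact sequence 0 → image μ → F_{n+1} → F_n → 0
    have hιp : image.ι μ ≫ p = 0 := by
      rw [← cancel_epi (factorThruImage μ), ← Category.assoc, image.fac, hμp, comp_zero]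
    let S : ShortComplex (EtCoh.Ab X) := ShortComplex.mk (image.ι μ) p hιp
    have hS : S.ShortExact := by
      haveI hm : Mono S.f := inferInstanceAs (Mono (image.ι μ))
      haveI he : Epi S.g := hpe
      refine ShortComplex.ShortExact.mk' (S := S) ?_ hm he
      rw [ShortComplex.exact_iff_kernel_ι_comp_cokernel_π_zero]
      change kernel.ι p ≫ cokernel.π (image.ι μ) = 0
      have h0' : μ ≫ cokernel.π (image.ι μ) = 0 := by
        have e1 : μ ≫ cokernel.π (image.ι μ) =
            factorThruImage μ ≫ (image.ι μ ≫ cokernel.π (image.ι μ)) := by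
          rw [← Category.assoc, image.fac]
        rw [e1, cokernel.condition, comp_zero]
      have h1 : cokernel.π (image.ι μ) = cokernel.π μ ≫ cokernel.desc μ (cokernel.π (image.ι μ))
          h0' := by
        rw [cokernel.π_desc]
      rw [h1, ← hθ, ← Category.assoc, ← Category.assoc, kernel.condition, zero_comp, zero_comp]
    exact isConstructible_extension' S hS himg ih

end Groth.Agent.S16251
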