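import Groth.Statements.S16253
import Groth.Agent.Lib.Helper45.JacSmooth
import Groth.Agent.Lib.QCoh.Helper50_OmegaFT
import Groth.Agent.Lib.QCoh.Helper74_FittSheaf

set_option autoImplicit false
universe u
open CategoryTheory CategoryTheory.Limits AlgebraicGeometry TopologicalSpace
open SDiv


section S16253helpers
set_option linter.style.haveILetI false
open CategoryTheory.Limits TopologicalSpace Opposite
namespace Groth.Agent.S16253

open Groth.Agent.Lib.QCoh Groth.Agent.Lib.Helper45.JacSmooth Groth.Agent.Lib.Helper45.Fitting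
  Groth.Agent.Lib.QCoh.FittSheaf74

theorem forward {X Y : Scheme.{u}} (f : X ⟶ Y) [LocallyOfFinitePresentation f] [QuasiSeparated f]
    (p : ℕ) (x : ↥X) (hx : x ∉ (Fitt.sheafIdeal (Omega.sheaf f) p).support) :
    ∃ (U : X.Opens) (U' : Scheme.{u}) (i : (U : Scheme.{u}) ⟶ U') (g : U' ⟶ Y),
      x ∈ U ∧ IsClosedImmersion i ∧ SmoothOfRelativeDimension p g ∧ i ≫ g = U.ι ≫ f := by
  haveI hft : (Omega.sheaf f).IsFiniteType := OmegaFT.isFiniteType_omega f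
  obtain ⟨W, hW, hfx⟩ : ∃ W : Y.Opens, IsAffineOpen W ∧ f x ∈ W := by
    obtain ⟨_, ⟨W, hW : IsAffineOpen W, rfl⟩, hfx, -⟩ :=
      (Y.isBasis_affineOpens).exists_subset_of_mem_open (Set.mem_univ (f x)) isOpen_univ
    exact ⟨W, hW, hfx⟩
  obtain ⟨V, hV, hxV, e⟩ : ∃ V : X.Opens, IsAffineOpen V ∧ x ∈ V ∧ V ≤ f ⁻¹ᵁ W := by
    obtain ⟨_, ⟨V, hV : IsAffineOpen V, rfl⟩, hxV, e⟩ :=
      (X.isBasis_affineOpens).exists_subset_of_mem_open (show x ∈ ((f ⁻¹ᵁ W : X.Opens) : Set X)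
        from hfx) (f ⁻¹ᵁ W).2
    exact ⟨V, hV, hxV, e⟩
  letI : Algebra Γ(Y, W) Γ(X, V) := (f.appLE W V e).hom.toAlgebra
  haveI : Algebra.FiniteType Γ(Y, W) Γ(X, V) :=
    (Scheme.Hom.finiteType_appLE f hW hV e : (f.appLE W V e).hom.FiniteType)
  rw [mem_support_iff_le (Omega.sheaf f) p hV hxV] at hx
  let T : Ω[Γ(X, V)⁄Γ(Y, W)] ≃ₗ[Γ(X, V)] Γ(Omega.sheaf f, V) :=
    LinearEquiv.ofBijective (OmAff.toSect f W V e).hom (OmAffGen.bijective_toSect f hV hW e)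
  rw [← fitt_congr T p] at hx
  obtain ⟨Δ, hΔ, T', _, _, hstd, hS'⟩ :=
    exists_stdSmooth_surj p (hV.primeIdealOf ⟨x, hxV⟩).asIdeal hx
  have hU : IsAffineOpen (X.basicOpen Δ) := hV.basicOpen Δ
  haveI : IsLocalization.Away Δ Γ(X, X.basicOpen Δ) := hV.isLocalization_basicOpen Δ
  obtain ⟨ψ, hψs, hψc⟩ := hS' Γ(X, X.basicOpen Δ)
  have eU : X.basicOpen Δ ≤ f ⁻¹ᵁ W := le_trans (X.basicOpen_le Δ) e
  have hψc' : CommRingCat.ofHom (algebraMap Γ(Y, W) T') ≫ CommRingCat.ofHom ψ =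
      f.appLE W (X.basicOpen Δ) eU := by
    rw [← CommRingCat.ofHom_comp, hψc]
    rw [← Scheme.Hom.appLE_map f e (homOfLE (X.basicOpen_le Δ)).op]
    rfl
  have hxU : x ∈ X.basicOpen Δ := (notMem_primeIdealOf_iff hV x hxV Δ).1 hΔ
  refine ⟨X.basicOpen Δ, Spec (CommRingCat.of T'), hU.isoSpec.hom ≫ Spec.map (CommRingCat.ofHom ψ),
    Spec.map (CommRingCat.ofHom (algebraMap Γ(Y, W) T')) ≫ hW.fromSpec, hxU, ?_, ?_, ?_⟩
  · haveI : IsClosedImmersion (Spec.map (CommRingCat.ofHom ψ)) :=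
      IsClosedImmersion.spec_of_surjective _ hψs
    infer_instance
  · haveI : SmoothOfRelativeDimension p (Spec.map (CommRingCat.ofHom (algebraMap Γ(Y, W) T'))) := by
      rw [HasRingHomProperty.Spec_iff (P := @SmoothOfRelativeDimension p)]
      exact RingHom.locally_of RingHom.isStandardSmoothOfRelativeDimension_respectsIso _
        ((RingHom.isStandardSmoothOfRelativeDimension_algebraMap p).2 hstd)
    exact inferInstanceAs (SmoothOfRelativeDimension (p + 0) _)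
  · rw [Category.assoc, ← Category.assoc (Spec.map _), ← Spec.map_comp, hψc',
      IsAffineOpen.SpecMap_appLE_fromSpec f hW hU eU, hU.isoSpec_hom_fromSpec_assoc]

theorem backward {X Y : Scheme.{u}} (f : X ⟶ Y) [LocallyOfFinitePresentation f] [QuasiSeparated f]
    (p : ℕ) (x : ↥X) (U : X.Opens) (U' : Scheme.{u}) (i : (U : Scheme.{u}) ⟶ U') (g : U' ⟶ Y)
    (hxU : x ∈ U) [IsClosedImmersion i] [hsm : SmoothOfRelativeDimension p g]
    (hcomp : i ≫ g = U.ι ≫ f) :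
    x ∉ (Fitt.sheafIdeal (Omega.sheaf f) p).support := by
  haveI hft : (Omega.sheaf f).IsFiniteType := OmegaFT.isFiniteType_omega f
  obtain ⟨W, hW, V', hV', hx'V', e', hstd⟩ :=
    hsm.exists_isStandardSmoothOfRelativeDimension (i ⟨x, hxU⟩)
  have hV₁ : IsAffineOpen (i ⁻¹ᵁ V') := hV'.preimage i
  have hV : IsAffineOpen (U.ι ''ᵁ (i ⁻¹ᵁ V')) := hV₁.image_of_isOpenImmersion U.ι
  have hxV : x ∈ U.ι ''ᵁ (i ⁻¹ᵁ V') := ⟨⟨x, hxU⟩, hx'V', rfl⟩
  have e₁ : i ⁻¹ᵁ V' ≤ (U.ι ≫ f) ⁻¹ᵁ W := by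
    intro y hy
    change (U.ι ≫ f) y ∈ W
    rw [← hcomp]
    exact e' hy
  have e : U.ι ''ᵁ (i ⁻¹ᵁ V') ≤ f ⁻¹ᵁ W := by
    rintro _ ⟨y, hy, rfl⟩
    exact e₁ hy
  have hcompat : g.appLE W V' e' ≫ i.app V' = f.appLE W (U.ι ''ᵁ (i ⁻¹ᵁ V')) e := by
    rw [← OmegaFT.comp_ι_appLE f U W (i ⁻¹ᵁ V') e₁]
    have key : ∀ (h₁ h₂ : (U : Scheme.{u}) ⟶ Y) (hh : h₁ = h₂) (e₂ : i ⁻¹ᵁ V' ≤ h₁ ⁻¹ᵁ W)
        (e₃ : i ⁻¹ᵁ V' ≤ h₂ ⁻¹ᵁ W), h₁.appLE W (i ⁻¹ᵁ V') e₂ = h₂.appLE W (i ⁻¹ᵁ V') e₃ := by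
      rintro h₁ _ rfl e₂ e₃; rfl
    rw [← key (i ≫ g) (U.ι ≫ f) hcomp (fun y hy => e' hy) e₁]
    rw [Scheme.Hom.app_eq_appLE, Scheme.Hom.appLE_comp_appLE]
  have hsurj : Function.Surjective (i.app V') := Scheme.Hom.app_surjective i V' hV'
  letI : Algebra Γ(Y, W) Γ(U', V') := (g.appLE W V' e').hom.toAlgebra
  letI : Algebra Γ(Y, W) Γ(X, U.ι ''ᵁ (i ⁻¹ᵁ V')) := (f.appLE W (U.ι ''ᵁ (i ⁻¹ᵁ V')) e).hom.toAlgebra
  letI : Algebra Γ(U', V') Γ(X, U.ι ''ᵁ (i ⁻¹ᵁ V')) := (i.app V').hom.toAlgebra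
  haveI : IsScalarTower Γ(Y, W) Γ(U', V') Γ(X, U.ι ''ᵁ (i ⁻¹ᵁ V')) :=
    IsScalarTower.of_algebraMap_eq' (congrArg CommRingCat.Hom.hom hcompat).symm
  haveI : Algebra.IsStandardSmoothOfRelativeDimension p Γ(Y, W) Γ(U', V') := hstd
  have hfit := fitt_kaehler_eq_top_of_surjective (R := Γ(Y, W)) (A := Γ(U', V'))
    (B := Γ(X, U.ι ''ᵁ (i ⁻¹ᵁ V'))) p hsurj
  let T : Ω[Γ(X, U.ι ''ᵁ (i ⁻¹ᵁ V'))⁄Γ(Y, W)] ≃ₗ[Γ(X, U.ι ''ᵁ (i ⁻¹ᵁ V'))]
      Γ(Omega.sheaf f, U.ι ''ᵁ (i ⁻¹ᵁ V')) :=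
    LinearEquiv.ofBijective (OmAff.toSect f W (U.ι ''ᵁ (i ⁻¹ᵁ V')) e).hom
      (OmAffGen.bijective_toSect f hV hW e)
  rw [mem_support_iff_le (Omega.sheaf f) p hV hxV, ← fitt_congr T p, hfit, top_le_iff]
  exact (hV.primeIdealOf ⟨x, hxV⟩).isPrime.ne_top

end Groth.Agent.S16253
end S16253helpers

namespace Groth.Agent.S16253

/-- Let f : X ⟶ Y be locally of finite presentation and quasi-separated and p ≥ 0, and let J^p(X/Y) ⊆ X
be the closed subset cut out by the p-th Fitting ideal of the module of differentials Ω_{X/Y} (the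
p-th Jacobian locus). Then a point x of X lies outside J^p(X/Y) if and only if x has an open
neighbourhood U admitting a closed immersion over Y into a Y-scheme U' which is smooth of relative
dimension p over Y. (The published statement takes f of finite presentation and asks U' smooth over
Y with fibre dimension p at x; after shrinking U' this is smoothness of relative dimension p.
Quasi-separatedness of f is assumed because the module Ω_{X/Y} used here is defined for such f.) -/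
theorem result
    {X Y : Scheme.{u}} (f : X ⟶ Y) [LocallyOfFinitePresentation f] [QuasiSeparated f] (p : ℕ) (x : ↥X) :
    x ∉ (Fitt.sheafIdeal (Omega.sheaf f) p).support ↔
      ∃ (U : X.Opens) (U' : Scheme.{u}) (i : (U : Scheme.{u}) ⟶ U') (g : U' ⟶ Y),
        x ∈ U ∧ IsClosedImmersion i ∧ SmoothOfRelativeDimension p g ∧ i ≫ g = U.ι ≫ f := by
  constructor
  · exact forward f p x
  · rintro ⟨U, U', i, g, hxU, hi, hg, hcomp⟩
    exact backward f p x U U' i g hxU hcomp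

end Groth.Agent.S16253
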