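import Groth.Statements.S5019
import Groth.Agent.Lib.Helper45.RestrictDer
import Groth.Agent.Lib.Helper73.SmoothFibreDim2
import Groth.Agent.S10937

set_option autoImplicit false
universe u
open CategoryTheory CategoryTheory.Limits AlgebraicGeometry TopologicalSpace
open Unram17

section S5019helpers
set_option linter.style.haveILetI false
open CategoryTheory.Limits TopologicalSpace Opposite
namespace Groth.Agent.S5019

open Groth.Agent.Lib.QCoh Groth.Agent.Lib.Helper45.RestrictDer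
  Groth.Agent.Lib.Helper73.SmoothFibreDim

variable {X Y : Scheme.{u}} {f : X ⟶ Y} {Ω' : X.Modules}

/-- the chart `V → Y` of a standard smooth chart is smooth of relative dimension `n`. -/
theorem smoothOfRelDim_chart (f : X ⟶ Y) (n : ℕ) {U₀ : Y.Opens} (hU₀ : IsAffineOpen U₀)
    {V : X.Opens} (hV : IsAffineOpen V) (e : V ≤ f ⁻¹ᵁ U₀)
    (hstd : RingHom.IsStandardSmoothOfRelativeDimension n (f.appLE U₀ V e).hom) :
    SmoothOfRelativeDimension n (V.ι ≫ f) := by
  refine ⟨fun x' => ?_⟩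
  haveI : IsAffine (↑V : Scheme) := hV
  have e' : (⊤ : (↑V : Scheme).Opens) ≤ (V.ι ≫ f) ⁻¹ᵁ U₀ := by
    rw [Scheme.Hom.comp_preimage]
    exact le_trans (by rw [Scheme.Opens.ι_preimage_self]) (V.ι.preimage_mono e)
  refine ⟨U₀, hU₀, ⊤, isAffineOpen_top _, trivial, e', ?_⟩
  have h1 : (V.ι ≫ f).appLE U₀ ⊤ e' = f.appLE U₀ V e ≫ V.topIso.inv := by
    have e₂ : (⊤ : (↑V : Scheme).Opens) ≤ V.ι ⁻¹ᵁ V := by rw [Scheme.Opens.ι_preimage_self]
    rw [← Scheme.Hom.appLE_comp_appLE V.ι f U₀ V ⊤ e e₂]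
    congr 1
    rw [Scheme.Opens.ι_appLE, Scheme.Opens.topIso_inv]
    rfl
  rw [h1]
  exact RingHom.isStandardSmoothOfRelativeDimension_respectsIso.left _
    V.topIso.symm.commRingCatIsoToRingEquiv hstd

theorem main {X Y : Scheme.{u}} (f : X ⟶ Y) [Smooth f]
    (Ω' : X.Modules) (d : OmegaSh.Der f Ω') (hd : OmegaSh.IsUniversal d) (x : ↥X) :
    ∃ (U : X.Opens) (n : ℕ), x ∈ U ∧ Nonempty (Ω'.restrict U.ι ≅ FlatMod.freeMod (↑U) n) ∧
      FlatMor.fibreDimAt f x = (n : WithBot ℕ∞) := by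
  obtain ⟨n, hn⟩ := exists_smoothOfRelDimAt f x
  have hdim := fibreDimAt_eq_of_smoothOfRelDimAt n f x hn
  obtain ⟨U₀, hU₀, V, hV, hxV, e, hstd⟩ := hn
  haveI : IsAffine (↑V : Scheme) := hV
  haveI := smoothOfRelDim_chart f n hU₀ hV e hstd
  obtain ⟨i₁⟩ := nonempty_restrict_iso_omega d hd V
  have hfr := Groth.Agent.S10937.isFinLocFreeOfRank_omega_of_smooth (V.ι ≫ f) n
  obtain ⟨W, hxW, ⟨i₂⟩⟩ := hfr ⟨x, hxV⟩
  let j := W.ι ≫ V.ι
  let i : Ω'.restrict j ≅ FlatMod.freeMod (↑W) n :=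
    (Scheme.Modules.restrictFunctorComp W.ι V.ι).app Ω' ≪≫
      (Scheme.Modules.restrictFunctor W.ι).mapIso i₁ ≪≫ i₂
  exact ⟨j.opensRange, n, ⟨⟨⟨x, hxV⟩, hxW⟩, rfl⟩, ⟨trivOpensRange j i⟩, hdim⟩


end Groth.Agent.S5019
end S5019helpers

namespace Groth.Agent.S5019

/-- Let f : X ⟶ Y be smooth and let (Ω', d) be a sheaf of differentials of X over Y (d a universal
Y-derivation). Then for every point x of X there are an open neighbourhood U of x and an integer n
such that Ω' restricted to U is free of rank n and n is the local dimension at x of the fibre of f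
through x. -/
theorem result {X Y : Scheme.{u}} (f : X ⟶ Y) [Smooth f]
    (Ω' : X.Modules) (d : OmegaSh.Der f Ω') (hd : OmegaSh.IsUniversal d) (x : ↥X) :
    ∃ (U : X.Opens) (n : ℕ), x ∈ U ∧ Nonempty (Ω'.restrict U.ι ≅ FlatMod.freeMod (↑U) n) ∧
      FlatMor.fibreDimAt f x = (n : WithBot ℕ∞) := by
  exact main f Ω' d hd x

end Groth.Agent.S5019
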