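import Groth.Statements.S16256
import Groth.Agent.Lib.Helper45.LciJac
import Groth.Agent.Lib.QCoh.Helper50_OmegaFT
import Groth.Agent.Lib.QCoh.Helper74_FittSheaf
import Groth.Agent.Lib.Helper91.KRegComp1
import Groth.Agent.Lib.Helper22.KoszulH1
import Groth.Agent.S2103
import Groth.Agent.S5019

set_option autoImplicit false
universe u
open CategoryTheory CategoryTheory.Limits AlgebraicGeometry TopologicalSpace
open SDiv


section S16256helpers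
set_option linter.style.haveILetI false
open CategoryTheory.Limits TopologicalSpace Opposite
namespace Groth.Agent.S16256

open Groth.Agent.Lib.QCoh Groth.Agent.Lib.Helper45.JacSmooth Groth.Agent.Lib.Helper45.Fitting
  Groth.Agent.Lib.QCoh.FittSheaf74 Groth.Agent.Lib.Helper45.LciJac

/-- if `V.ι ≫ f` is smooth then the ring maps of `f` on affine opens inside `V` are smooth -/
lemma smooth_appLE_of_le {Y X : Scheme.{u}} (f : Y ⟶ X) (V : Y.Opens) [Smooth (V.ι ≫ f)] {W : X.Opens}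
    (hW : IsAffineOpen W) {Z : Y.Opens} (hZ : IsAffineOpen Z) (hZV : Z ≤ V) (e : Z ≤ f ⁻¹ᵁ W) :
    (f.appLE W Z e).hom.Smooth := by
  haveI : Smooth (Z.ι ≫ f) := by
    have : Z.ι = Y.homOfLE hZV ≫ V.ι := (Y.homOfLE_ι hZV).symm
    rw [this, Category.assoc]
    infer_instance
  haveI : IsAffine (Z : Scheme.{u}) := hZ
  have e' : (⊤ : (Z : Scheme.{u}).Opens) ≤ (Z.ι ≫ f) ⁻¹ᵁ W := by
    intro u _
    exact e u.2
  have h := Scheme.Hom.smooth_appLE (Z.ι ≫ f) hW (isAffineOpen_top _) e'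
  rw [OmegaFT.comp_ι_appLE] at h
  exact (f.appLE_congr _ rfl (Scheme.Opens.ι_image_top Z) (fun g => g.hom.Smooth)).mp h

/-- a common chart for the regular immersion and the smooth morphism, inside a given open -/
theorem chart {Z P X : Scheme.{u}} (i : Z ⟶ P) (π : P ⟶ X) (n c : ℕ)
    (hreg : RegImm.IsRegularImmersionOfCodim RegImm.Kind.koszul c i) [hsm : SmoothOfRelativeDimension n π]
    (z : Z) (O : P.Opens) (hzO : i z ∈ O) :
    ∃ (W : X.Opens) (_ : IsAffineOpen W) (V' : P.Opens) (_ : IsAffineOpen V') (_ : i z ∈ V') (_ : V' ≤ O)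
      (e : V' ≤ π ⁻¹ᵁ W), RingHom.IsStandardSmoothOfRelativeDimension n (π.appLE W V' e).hom ∧
        IsClosedImmersion (i ∣_ V') ∧ ∃ rs : List Γ(P, V'), rs.length = c ∧
          LCI.IsKoszulRegularSeq Γ(P, V') rs ∧ RingHom.ker (i.app V').hom = Ideal.ofList rs := by
  obtain ⟨himm, hreg⟩ := hreg
  obtain ⟨U₁, hzU₁, hcl, rs, hlen, hK, hker⟩ := hreg z
  obtain ⟨W, hW, V₁, hV₁, hzV₁, eV₁, hstd⟩ := hsm.exists_isStandardSmoothOfRelativeDimension (i z)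
  obtain ⟨g, hgle, hzg⟩ := hV₁.exists_basicOpen_le (V := U₁.1 ⊓ O) ⟨i z, ⟨hzU₁, hzO⟩⟩ hzV₁
  have hV' : IsAffineOpen (P.basicOpen g) := hV₁.basicOpen g
  have hV'V₁ : P.basicOpen g ≤ V₁ := P.basicOpen_le g
  have e' : P.basicOpen g ≤ π ⁻¹ᵁ W := hV'V₁.trans eV₁
  obtain ⟨hcl', hK', hker'⟩ := Groth.Agent.Lib.Helper91.KRegComp.shrink i .koszul U₁ hcl rs hK hker
    ⟨P.basicOpen g, hV'⟩ (hgle.trans inf_le_left) z hzg
  refine ⟨W, hW, P.basicOpen g, hV', hzg, hgle.trans inf_le_right, e', ?_, hcl', _, ?_, hK', hker'⟩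
  · have h1 : π.appLE W (P.basicOpen g) e' =
        π.appLE W V₁ eV₁ ≫ P.presheaf.map (homOfLE hV'V₁).op :=
      (Scheme.Hom.appLE_map π eV₁ (homOfLE hV'V₁).op).symm
    rw [h1, CommRingCat.hom_comp]
    haveI : IsLocalization.Away g Γ(P, P.basicOpen g) := hV₁.isLocalization_basicOpen g
    exact (RingHom.isStandardSmoothOfRelativeDimension_stableUnderCompositionWithLocalizationAway n).2
      Γ(P, P.basicOpen g) g _ hstd
  · rw [List.length_map, hlen]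

theorem local_chart {Y X : Scheme.{u}} (f : Y ⟶ X) [LocallyOfFinitePresentation f] [QuasiSeparated f]
    (m : ℕ) (y : ↥Y) (U : Y.Opens) (P : Scheme.{u}) (i : (U : Scheme.{u}) ⟶ P) (π : P ⟶ X) (c : ℕ)
    (hreg : RegImm.IsRegularImmersionOfCodim RegImm.Kind.koszul c i)
    [SmoothOfRelativeDimension (m + c) π] (hcomp : i ≫ π = U.ι ≫ f)
    (z : ↥(U : Scheme.{u})) (hz : U.ι z = y) (O : P.Opens) (hzO : i z ∈ O) :
    ∃ (W : X.Opens) (_ : IsAffineOpen W) (Z'' : Y.Opens) (_ : IsAffineOpen Z'') (_ : y ∈ Z'')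
      (e'' : Z'' ≤ f ⁻¹ᵁ W), Z'' ≤ U.ι ''ᵁ (i ⁻¹ᵁ O) ∧
      ((f.appLE W Z'' e'').hom.Smooth → y ∉ (Fitt.sheafIdeal (Omega.sheaf f) m).support) ∧
      (y ∉ (Fitt.sheafIdeal (Omega.sheaf f) m).support →
        ∃ V : Y.Opens, y ∈ V ∧ Smooth (V.ι ≫ f)) := by
  haveI hft : (Omega.sheaf f).IsFiniteType := OmegaFT.isFiniteType_omega f
  obtain ⟨W, hW, V', hV', hzV', hV'O, e', hstd, hcl, rs, hlen, hK, hker⟩ :=
    chart i π (m + c) c hreg z O hzO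
  subst hlen
  haveI := hcl
  have hV₁ : IsAffineOpen (i ⁻¹ᵁ V') :=
    Groth.Agent.Lib.Helper91.ImmStalk.isAffineOpen_preimage_of_restrict i ⟨V', hV'⟩
  have hsurj : Function.Surjective (i.app V').hom :=
    Groth.Agent.Lib.Helper91.ImmStalk.app_surjective_of_restrict i ⟨V', hV'⟩
  have hV : IsAffineOpen (U.ι ''ᵁ (i ⁻¹ᵁ V')) := hV₁.image_of_isOpenImmersion U.ι
  have hxV : y ∈ U.ι ''ᵁ (i ⁻¹ᵁ V') := ⟨z, hzV', hz⟩
  have e₁ : i ⁻¹ᵁ V' ≤ (U.ι ≫ f) ⁻¹ᵁ W := by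
    intro y hy
    change (U.ι ≫ f) y ∈ W
    rw [← hcomp]
    exact e' hy
  have e : U.ι ''ᵁ (i ⁻¹ᵁ V') ≤ f ⁻¹ᵁ W := by
    rintro _ ⟨y, hy, rfl⟩
    exact e₁ hy
  have hcompat : π.appLE W V' e' ≫ i.app V' = f.appLE W (U.ι ''ᵁ (i ⁻¹ᵁ V')) e := by
    rw [← OmegaFT.comp_ι_appLE f U W (i ⁻¹ᵁ V') e₁]
    have key : ∀ (h₁ h₂ : (U : Scheme.{u}) ⟶ X) (hh : h₁ = h₂) (e₂ : i ⁻¹ᵁ V' ≤ h₁ ⁻¹ᵁ W)
        (e₃ : i ⁻¹ᵁ V' ≤ h₂ ⁻¹ᵁ W), h₁.appLE W (i ⁻¹ᵁ V') e₂ = h₂.appLE W (i ⁻¹ᵁ V') e₃ := by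
      rintro h₁ _ rfl e₂ e₃; rfl
    rw [← key (i ≫ π) (U.ι ≫ f) hcomp (fun y hy => e' hy) e₁]
    rw [Scheme.Hom.app_eq_appLE, Scheme.Hom.appLE_comp_appLE]
  refine ⟨W, hW, U.ι ''ᵁ (i ⁻¹ᵁ V'), hV, hxV, e, U.ι.image_mono (i.preimage_mono hV'O), ?_, ?_⟩
  all_goals
    letI : Algebra Γ(X, W) Γ(P, V') := (π.appLE W V' e').hom.toAlgebra
    letI : Algebra Γ(X, W) Γ(Y, U.ι ''ᵁ (i ⁻¹ᵁ V')) := (f.appLE W (U.ι ''ᵁ (i ⁻¹ᵁ V')) e).hom.toAlgebra
    letI : Algebra Γ(P, V') Γ(Y, U.ι ''ᵁ (i ⁻¹ᵁ V')) := (i.app V').hom.toAlgebra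
    haveI : IsScalarTower Γ(X, W) Γ(P, V') Γ(Y, U.ι ''ᵁ (i ⁻¹ᵁ V')) :=
      IsScalarTower.of_algebraMap_eq' (congrArg CommRingCat.Hom.hom hcompat).symm
    haveI : Algebra.IsStandardSmoothOfRelativeDimension (m + rs.length) Γ(X, W) Γ(P, V') := hstd
    let T : Ω[Γ(Y, U.ι ''ᵁ (i ⁻¹ᵁ V'))⁄Γ(X, W)] ≃ₗ[Γ(Y, U.ι ''ᵁ (i ⁻¹ᵁ V'))]
        Γ(Omega.sheaf f, U.ι ''ᵁ (i ⁻¹ᵁ V')) :=
      LinearEquiv.ofBijective (OmAff.toSect f W (U.ι ''ᵁ (i ⁻¹ᵁ V')) e).hom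
        (OmAffGen.bijective_toSect f hV hW e)
    have hkerspan : RingHom.ker (algebraMap Γ(P, V') Γ(Y, U.ι ''ᵁ (i ⁻¹ᵁ V'))) =
        Ideal.span (Set.range rs.get) := by
      rw [Set.range_list_get]
      exact hker
    rw [mem_support_iff_le (Omega.sheaf f) m hV hxV, ← fitt_congr T m]
  · intro hsmooth
    haveI : Algebra.Smooth Γ(X, W) Γ(Y, U.ι ''ᵁ (i ⁻¹ᵁ V')) := hsmooth
    haveI : Nontrivial Γ(Y, U.ι ''ᵁ (i ⁻¹ᵁ V')) :=
      ⟨⟨0, 1, fun h01 => (hV.primeIdealOf ⟨y, hxV⟩).isPrime.ne_top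
        ((Ideal.eq_top_iff_one _).mpr (h01 ▸ Ideal.zero_mem _))⟩⟩
    haveI : Nontrivial Γ(P, V') := (algebraMap Γ(P, V') Γ(Y, U.ι ''ᵁ (i ⁻¹ᵁ V'))).domain_nontrivial
    haveI : Algebra.IsStandardSmooth Γ(X, W) Γ(P, V') :=
      Algebra.IsStandardSmoothOfRelativeDimension.isStandardSmooth (m + rs.length)
    have hrank := Algebra.IsStandardSmoothOfRelativeDimension.rank_kaehlerDifferential
      (R := Γ(X, W)) (S := Γ(P, V')) (m + rs.length)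
    have hfinrank : Module.finrank Γ(P, V') Ω[Γ(P, V')⁄Γ(X, W)] = m + rs.length := by
      rw [Module.finrank, hrank]
      simp
    let b : Module.Basis (Fin (m + rs.length)) Γ(P, V') Ω[Γ(P, V')⁄Γ(X, W)] :=
      Module.finBasisOfFinrankEq _ _ hfinrank
    have hqr : CAlgX.IsQuasiRegular rs.get := Groth.Agent.S2103.result _
      (Groth.Agent.Lib.Helper22.KoszulH1.isH1Regular_of_isKoszulRegularSeq rs hK)
    have hfit := fitt_eq_top_of_formallySmooth (A := Γ(X, W)) (C := Γ(P, V'))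
      (B := Γ(Y, U.ι ''ᵁ (i ⁻¹ᵁ V'))) hsurj b rs.get hkerspan hqr
    rw [hfit, top_le_iff]
    exact (hV.primeIdealOf ⟨y, hxV⟩).isPrime.ne_top
  · intro hy
    let φ : Γ(P, V') →ₐ[Γ(X, W)] Γ(Y, U.ι ''ᵁ (i ⁻¹ᵁ V')) := IsScalarTower.toAlgHom _ _ _
    obtain ⟨Δ, hΔ, hS'⟩ := exists_away_stdSmooth φ hsurj m rs.length rs.get hkerspan
      (hV.primeIdealOf ⟨y, hxV⟩).asIdeal hy
    have hU : IsAffineOpen (Y.basicOpen Δ) := hV.basicOpen Δ
    haveI : IsLocalization.Away Δ Γ(Y, Y.basicOpen Δ) := hV.isLocalization_basicOpen Δ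
    have eU : Y.basicOpen Δ ≤ f ⁻¹ᵁ W := le_trans (Y.basicOpen_le Δ) e
    letI : Algebra Γ(X, W) Γ(Y, Y.basicOpen Δ) :=
      ((algebraMap Γ(Y, U.ι ''ᵁ (i ⁻¹ᵁ V')) Γ(Y, Y.basicOpen Δ)).comp
        (algebraMap Γ(X, W) Γ(Y, U.ι ''ᵁ (i ⁻¹ᵁ V')))).toAlgebra
    haveI : IsScalarTower Γ(X, W) Γ(Y, U.ι ''ᵁ (i ⁻¹ᵁ V')) Γ(Y, Y.basicOpen Δ) :=
      IsScalarTower.of_algebraMap_eq' rfl
    have hstd' := hS' Γ(Y, Y.basicOpen Δ)
    have hxU : y ∈ Y.basicOpen Δ := (notMem_primeIdealOf_iff hV y hxV Δ).1 hΔ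
    have hg : (f.appLE W (Y.basicOpen Δ) eU).hom =
        (algebraMap Γ(Y, U.ι ''ᵁ (i ⁻¹ᵁ V')) Γ(Y, Y.basicOpen Δ)).comp
          (f.appLE W (U.ι ''ᵁ (i ⁻¹ᵁ V')) e).hom := by
      rw [← Scheme.Hom.appLE_map f e (homOfLE (Y.basicOpen_le Δ)).op]
      rfl
    have hstd'' : RingHom.IsStandardSmoothOfRelativeDimension m (f.appLE W (Y.basicOpen Δ) eU).hom := by
      rw [hg]
      exact hstd'
    haveI := Groth.Agent.S5019.smoothOfRelDim_chart f m hW hU eU hstd''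
    exact ⟨Y.basicOpen Δ, hxU, SmoothOfRelativeDimension.smooth m _⟩

end Groth.Agent.S16256
end S16256helpers

namespace Groth.Agent.S16256

/-- Let f : Y ⟶ X be locally of finite presentation and quasi-separated, m ≥ 0, and y a point of Y near
which f is a local complete intersection of virtual dimension m, in the factorisation sense: some
open neighbourhood U of y admits a Koszul-regular immersion i of constant codimension c into a
scheme P smooth of relative dimension m + c over X, compatibly with f. Then f is smooth on some open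
neighbourhood of y if and only if y does not lie in the m-th Jacobian locus of Y over X, the closed
subset cut out by the m-th Fitting ideal of Ω_{Y/X}. (Quasi-separatedness of f is assumed because
the module Ω_{Y/X} used here is defined for such f.) -/
theorem result
    {Y X : Scheme.{u}} (f : Y ⟶ X) [LocallyOfFinitePresentation f] [QuasiSeparated f] (m : ℕ) (y : ↥Y)
    (hlci : ∃ (U : Y.Opens) (P : Scheme.{u}) (i : (U : Scheme.{u}) ⟶ P) (π : P ⟶ X) (c : ℕ),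
      y ∈ U ∧ RegImm.IsRegularImmersionOfCodim RegImm.Kind.koszul c i ∧
        SmoothOfRelativeDimension (m + c) π ∧ i ≫ π = U.ι ≫ f) :
    (∃ V : Y.Opens, y ∈ V ∧ Smooth (V.ι ≫ f)) ↔ y ∉ (Fitt.sheafIdeal (Omega.sheaf f) m).support := by
  obtain ⟨U, P, i, π, c, hyU, hreg, hsm, hcomp⟩ := hlci
  have := hsm
  obtain ⟨z, hzdef⟩ : ∃ z : ↥(U : Scheme.{u}), z = ⟨y, hyU⟩ := ⟨_, rfl⟩
  have hz : U.ι z = y := by rw [hzdef]; rfl
  constructor
  · rintro ⟨V, hyV, hVsm⟩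
    have := hVsm
    have := hreg.1
    obtain ⟨O, hOo, hO⟩ := i.isEmbedding.isInducing.isOpen_iff.mp (U.ι ⁻¹ᵁ V).2
    have hzO : i z ∈ (⟨O, hOo⟩ : P.Opens) := by
      show i z ∈ O
      have : z ∈ i ⁻¹' O := by
        rw [hO]
        show U.ι z ∈ V
        rw [hz]
        exact hyV
      exact this
    obtain ⟨W, hW, Z'', hZ'', hyZ'', e'', hle, h1, -⟩ :=
      local_chart f m y U P i π c hreg hcomp z hz ⟨O, hOo⟩ hzO
    have hZV : Z'' ≤ V := by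
      intro t ht
      obtain ⟨u, hu, rfl⟩ := hle ht
      have : u ∈ i ⁻¹' O := hu
      rw [hO] at this
      exact this
    exact h1 (smooth_appLE_of_le f V hW hZ'' hZV e'')
  · intro hy
    obtain ⟨W, hW, Z'', hZ'', hyZ'', e'', hle, -, h2⟩ :=
      local_chart f m y U P i π c hreg hcomp z hz ⊤ trivial
    exact h2 hy

end Groth.Agent.S16256
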