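import Groth.Statements.S16260
import Mathlib

set_option autoImplicit false
open W4c3wronskmg

namespace Groth.Agent.S16260

open Polynomial

section aux

variable {k : Type*} [Field k] [CharZero k]

/-- the operator `u ↦ (X - c) u' - m u`. -/
noncomputable def Nop (c : k) (m : ℕ) : k[X] →ₗ[k] k[X] :=
  LinearMap.mulLeft k (X - C c) ∘ₗ derivative - (m : k) • LinearMap.id

lemma Nop_apply (c : k) (m : ℕ) (u : k[X]) :
    Nop c m u = (X - C c) * derivative u - (m : k) • u := by
  simp [Nop]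

lemma Nop_coeff_natDegree (c : k) (m : ℕ) (u : k[X]) :
    (Nop c m u).coeff u.natDegree = ((u.natDegree : k) - m) * u.leadingCoeff := by
  have h1 : (derivative u).coeff u.natDegree = 0 := by
    rw [coeff_derivative, coeff_eq_zero_of_natDegree_lt (Nat.lt_succ_self _), zero_mul]
  have h2 : (X * derivative u).coeff u.natDegree = (u.natDegree : k) * u.leadingCoeff := by
    rcases Nat.eq_zero_or_pos u.natDegree with h | h
    · rw [h]; simp
    · obtain ⟨n, hn⟩ := Nat.exists_eq_succ_of_ne_zero h.ne'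
      rw [hn, coeff_X_mul, coeff_derivative, ← Nat.succ_eq_add_one, ← hn, coeff_natDegree, mul_comm]
      congr 1
      rw [hn]; push_cast; ring
  rw [Nop_apply, coeff_sub, coeff_smul, sub_mul, coeff_sub, coeff_C_mul, h1, h2]
  simp [sub_mul]

lemma Nop_mem_degreeLT (c : k) (m : ℕ) (u : k[X]) (hu : u ∈ degreeLT k m) :
    Nop c m u ∈ degreeLT k m := by
  rw [mem_degreeLT] at hu ⊢
  rw [Nop_apply]
  refine lt_of_le_of_lt (degree_sub_le _ _) (max_lt ?_ ?_)
  · by_cases hu0 : derivative u = 0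
    · rw [hu0, mul_zero, degree_zero]; exact WithBot.bot_lt_coe _
    · have hune : u ≠ 0 := fun h => hu0 (by rw [h, derivative_zero])
      rw [degree_mul, degree_X_sub_C]
      have h1 : (derivative u).degree < u.degree := degree_derivative_lt hune
      have h2 : (derivative u).degree + 1 ≤ u.degree := by
        rw [degree_eq_natDegree hune, degree_eq_natDegree hu0] at *
        exact_mod_cast Nat.succ_le_of_lt (by exact_mod_cast h1)
      rw [add_comm]
      exact lt_of_le_of_lt h2 hu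
  · exact lt_of_le_of_lt (degree_smul_le _ _) hu

lemma Nop_surj (c : k) (m : ℕ) (g : k[X]) (hg : g ∈ degreeLT k m) :
    ∃ u ∈ degreeLT k m, Nop c m u = g := by
  let f : degreeLT k m →ₗ[k] degreeLT k m := (Nop c m).restrict (Nop_mem_degreeLT c m)
  have : FiniteDimensional k (degreeLT k m) := Module.Finite.equiv (degreeLTEquiv k m).symm
  have hinj : Function.Injective f := by
    rw [← LinearMap.ker_eq_bot, LinearMap.ker_eq_bot']
    rintro ⟨u, hu⟩ h
    have h0 : Nop c m u = 0 := congrArg Subtype.val h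
    by_contra hne
    have hune : u ≠ 0 := fun h => hne (Subtype.ext h)
    have := Nop_coeff_natDegree c m u
    rw [h0, coeff_zero] at this
    rcases mul_eq_zero.mp this.symm with h1 | h1
    · rw [mem_degreeLT, degree_eq_natDegree hune] at hu
      have hlt : u.natDegree < m := by exact_mod_cast hu
      rw [sub_eq_zero] at h1
      have : u.natDegree = m := by exact_mod_cast h1
      omega
    · exact hune (leadingCoeff_eq_zero.mp h1)
  obtain ⟨⟨u, hu⟩, h⟩ := (LinearMap.injective_iff_surjective.mp hinj) ⟨g, hg⟩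
  exact ⟨u, hu, congrArg Subtype.val h⟩


/-- the operator `w ↦ X (X-1) w' - (a (X-1) + b X) w`, i.e. `X^{a+1}(X-1)^{b+1} (w / (X^a (X-1)^b))'`. -/
noncomputable def Lop (a b : ℕ) : k[X] →ₗ[k] k[X] :=
  LinearMap.mulLeft k (X * (X - 1)) ∘ₗ derivative -
    LinearMap.mulLeft k ((a : k[X]) * (X - 1) + (b : k[X]) * X)

lemma Lop_apply (a b : ℕ) (w : k[X]) :
    Lop a b w = X * (X - 1) * derivative w - ((a : k[X]) * (X - 1) + (b : k[X]) * X) * w := by
  simp [Lop, mul_assoc]

lemma Lop_w0 (a b : ℕ) : Lop (k := k) (a + 1) (b + 1) (X ^ (a + 1) * (X - 1) ^ (b + 1)) = 0 := by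
  rw [Lop_apply]
  simp only [derivative_mul, derivative_X_pow, derivative_pow, derivative_sub, derivative_X,
    derivative_one, sub_zero, mul_one, Nat.add_sub_cancel]
  push_cast
  simp only [map_add, map_one, map_natCast, map_ofNat]
  ring

lemma Lop_piece3 (a b : ℕ) : Lop (k := k) (a + 1) (b + 1) (X ^ (a + 2) * (X - 1) ^ (b + 1)) =
    X ^ (a + 2) * (X - 1) ^ (b + 2) := by
  rw [Lop_apply]
  simp only [derivative_mul, derivative_X_pow, derivative_pow, derivative_sub, derivative_X,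
    derivative_one, sub_zero, mul_one, Nat.add_sub_cancel]
  push_cast
  simp only [map_add, map_one, map_natCast, map_ofNat]
  ring

lemma Lop_piece2 (a b : ℕ) (u : k[X]) : Lop (k := k) (a + 1) (b + 1) ((X - 1) ^ (b + 1) * u) =
    (X - 1) ^ (b + 2) * Nop 0 (a + 1) u := by
  rw [Lop_apply, Nop_apply]
  simp only [derivative_mul, derivative_X_pow, derivative_pow, derivative_sub, derivative_X,
    derivative_one, sub_zero, mul_one, Nat.add_sub_cancel, map_zero, smul_eq_C_mul]
  push_cast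
  simp only [map_add, map_one, map_natCast, map_ofNat]
  ring

lemma Lop_piece1 (a b : ℕ) (u : k[X]) : Lop (k := k) (a + 1) (b + 1) (X ^ (a + 1) * u) =
    X ^ (a + 2) * Nop 1 (b + 1) u := by
  rw [Lop_apply, Nop_apply]
  simp only [derivative_mul, derivative_X_pow, derivative_pow, derivative_sub, derivative_X,
    derivative_one, sub_zero, mul_one, Nat.add_sub_cancel, map_one, smul_eq_C_mul]
  push_cast
  simp only [map_add, map_one, map_natCast, map_ofNat]
  ring

lemma key_dvd (a b : ℕ) (p : k) (hp0 : p ≠ 0) (hp1 : p ≠ 1) (w : k[X]) (hw : (X - C p) ∣ w) :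
    ∀ m : ℕ, (X - C p) ^ m ∣ Lop a b w → (X - C p) ^ (m + 1) ∣ w := by
  intro m
  induction m with
  | zero => intro _; simpa using hw
  | succ m ih =>
    intro h
    obtain ⟨t, ht⟩ := ih (dvd_trans (pow_dvd_pow _ (Nat.le_succ m)) h)
    have hL : Lop a b w = (X - C p) ^ m * (((m + 1 : ℕ) : k[X]) * (X * (X - 1)) * t) +
        (X - C p) ^ (m + 1) * (X * (X - 1) * derivative t -
          ((a : k[X]) * (X - 1) + (b : k[X]) * X) * t) := by
      rw [Lop_apply, ht]
      simp only [derivative_mul, derivative_pow, derivative_sub, derivative_X, derivative_C,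
        sub_zero, mul_one, Nat.add_sub_cancel]
      push_cast
      simp only [map_add, map_one, map_natCast, map_ofNat]
      ring
    have h1 : (X - C p) ^ (m + 1) ∣ (X - C p) ^ m * (((m + 1 : ℕ) : k[X]) * (X * (X - 1)) * t) := by
      have := dvd_sub h (Dvd.intro _ rfl : (X - C p) ^ (m + 1) ∣ (X - C p) ^ (m + 1) *
        (X * (X - 1) * derivative t - ((a : k[X]) * (X - 1) + (b : k[X]) * X) * t))
      rwa [hL, add_sub_cancel_right] at this
    rw [pow_succ, mul_dvd_mul_iff_left (pow_ne_zero _ (X_sub_C_ne_zero p))] at h1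
    rw [dvd_iff_isRoot, IsRoot.def] at h1
    simp only [eval_mul, eval_natCast, eval_X, eval_sub, eval_one] at h1
    have hm : ((m + 1 : ℕ) : k) ≠ 0 := Nat.cast_ne_zero.mpr (Nat.succ_ne_zero m)
    have hp1' : p - 1 ≠ 0 := sub_ne_zero.mpr hp1
    have ht0 : eval p t = 0 := by
      rcases mul_eq_zero.mp h1 with h2 | h2
      · rcases mul_eq_zero.mp h2 with h3 | h3
        · exact absurd h3 hm
        · rcases mul_eq_zero.mp h3 with h4 | h4
          · exact absurd h4 hp0
          · exact absurd h4 hp1'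
      · exact h2
    obtain ⟨t', ht'⟩ := dvd_iff_isRoot.mpr ht0
    exact ⟨t', by rw [ht, ht']; ring⟩


lemma deg_helper (q g : k[X]) (hq : q.Monic) (n : ℕ)
    (h : (q * g).degree ≤ ((q.natDegree + n : ℕ) : WithBot ℕ)) : g ∈ degreeLT k (n + 1) := by
  by_cases hg : g = 0
  · rw [hg]; exact Submodule.zero_mem _
  · rw [mem_degreeLT, degree_eq_natDegree hg]
    have h1 := natDegree_le_of_degree_le h
    rw [hq.natDegree_mul' hg] at h1
    exact_mod_cast Nat.lt_succ_of_le (by omega)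

lemma natDegree_lt_of_mem {u : k[X]} {n : ℕ} (hn : 0 < n) (hu : u ∈ degreeLT k n) :
    u.natDegree < n := by
  by_cases h : u = 0
  · rw [h, natDegree_zero]; exact hn
  · exact (natDegree_lt_iff_degree_lt h).mpr (mem_degreeLT.mp hu)

lemma V_le (a b : ℕ) :
    ((Ideal.span {(X : k[X]) ^ (a + 1 + 1)}).restrictScalars k ⊓
        Polynomial.degreeLE k ↑(a + 1 + (b + 1))) ⊔
      ((Ideal.span {((X : k[X]) - 1) ^ (b + 1 + 1)}).restrictScalars k ⊓
        Polynomial.degreeLE k ↑(a + 1 + (b + 1))) ⊔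
      Submodule.span k {(X : k[X]) ^ (a + 1 + 1) * (X - 1) ^ (b + 1 + 1)} ≤
    Submodule.map (Lop (k := k) (a + 1) (b + 1)) (degreeLE k ↑(a + 1 + (b + 1) + 1)) := by
  refine sup_le (sup_le ?_ ?_) ?_
  · rintro v ⟨hv1, hv2⟩
    simp only [Submodule.restrictScalars_mem, SetLike.mem_coe, Ideal.mem_span_singleton] at hv1
    obtain ⟨g, rfl⟩ := hv1
    rw [SetLike.mem_coe, mem_degreeLE] at hv2
    have hg : g ∈ degreeLT k (b + 1) := by
      refine deg_helper _ g (monic_X_pow (a + 1 + 1)) b ?_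
      rw [natDegree_X_pow]
      refine le_trans hv2 ?_
      exact_mod_cast (by omega : a + 1 + (b + 1) ≤ a + 1 + 1 + b)
    obtain ⟨u, hu, hug⟩ := Nop_surj 1 (b + 1) g hg
    refine ⟨X ^ (a + 1) * u, ?_, ?_⟩
    · rw [SetLike.mem_coe, mem_degreeLE]
      refine degree_le_of_natDegree_le (le_trans natDegree_mul_le ?_)
      rw [natDegree_X_pow]
      have := natDegree_lt_of_mem (Nat.succ_pos b) hu
      omega
    · rw [Lop_piece1, hug]
  · rintro v ⟨hv1, hv2⟩
    simp only [Submodule.restrictScalars_mem, SetLike.mem_coe, Ideal.mem_span_singleton] at hv1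
    obtain ⟨g, rfl⟩ := hv1
    rw [SetLike.mem_coe, mem_degreeLE] at hv2
    have e1 : (X : k[X]) - 1 = X - C 1 := by rw [C_1]
    have hg : g ∈ degreeLT k (a + 1) := by
      have hmon : (((X : k[X]) - 1) ^ (b + 1 + 1)).Monic := by
        rw [e1]; exact (monic_X_sub_C (1 : k)).pow (b + 1 + 1)
      refine deg_helper _ g hmon a ?_
      have : (((X : k[X]) - 1) ^ (b + 1 + 1)).natDegree = b + 1 + 1 := by
        rw [e1, natDegree_pow, natDegree_X_sub_C, mul_one]
      rw [this]
      refine le_trans hv2 ?_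
      exact_mod_cast (by omega : a + 1 + (b + 1) ≤ b + 1 + 1 + a)
    obtain ⟨u, hu, hug⟩ := Nop_surj 0 (a + 1) g hg
    refine ⟨(X - 1) ^ (b + 1) * u, ?_, ?_⟩
    · rw [SetLike.mem_coe, mem_degreeLE]
      refine degree_le_of_natDegree_le (le_trans natDegree_mul_le ?_)
      have : (((X : k[X]) - 1) ^ (b + 1)).natDegree = b + 1 := by
        rw [e1, natDegree_pow, natDegree_X_sub_C, mul_one]
      rw [this]
      have := natDegree_lt_of_mem (Nat.succ_pos a) hu
      omega
    · rw [Lop_piece2, hug]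
  · rw [Submodule.span_le, Set.singleton_subset_iff]
    refine ⟨X ^ (a + 2) * (X - 1) ^ (b + 1), ?_, Lop_piece3 a b⟩
    rw [SetLike.mem_coe, mem_degreeLE]
    have e1 : (X : k[X]) - 1 = X - C 1 := by rw [C_1]
    refine degree_le_of_natDegree_le (le_trans natDegree_mul_le ?_)
    rw [natDegree_X_pow, e1, natDegree_pow, natDegree_X_sub_C, mul_one]
    omega

omit [CharZero k] in
lemma exists_ker3 (x₁ x₂ x₃ y₁ y₂ y₃ : k) :
    ∃ α β γ : k, ¬ (α = 0 ∧ β = 0 ∧ γ = 0) ∧ α * x₁ + β * x₂ + γ * x₃ = 0 ∧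
      α * y₁ + β * y₂ + γ * y₃ = 0 := by
  let M : Matrix (Fin 2) (Fin 3) k := !![x₁, x₂, x₃; y₁, y₂, y₃]
  have hlt : Module.finrank k (Fin 2 → k) < Module.finrank k (Fin 3 → k) := by simp
  have hker := LinearMap.ker_ne_bot_of_finrank_lt (f := Matrix.mulVecLin M) hlt
  obtain ⟨c, hc, hc0⟩ := (Submodule.ne_bot_iff _).mp hker
  rw [LinearMap.mem_ker, Matrix.mulVecLin_apply] at hc
  refine ⟨c 0, c 1, c 2, ?_, ?_, ?_⟩
  · rintro ⟨h0, h1, h2⟩
    apply hc0
    ext i
    fin_cases i <;> simp [h0, h1, h2]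
  · have := congrFun hc 0
    simp [M, Matrix.mulVec, dotProduct, Fin.sum_univ_three] at this
    linear_combination this
  · have := congrFun hc 1
    simp [M, Matrix.mulVec, dotProduct, Fin.sum_univ_three] at this
    linear_combination this

end aux


open Polynomial in
/-- Let `k` be a field of characteristic zero, `a, b, i` positive integers with `i ≤ a + b`, and `j = a
+ b + 2 - i`. On the projective line with three marked points `A = 0`, `B = 1`, `C = ∞`, the
`(a+b+1)`-dimensional linear system `V = H⁰(ω((1+a)A)) ⊕ H⁰(ω((1+b)B)) ⊕ H⁰(ω(2C)) ⊆ H⁰(ω((1+a)A +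
(1+b)B + 2C)) ≅ H⁰(O(a+b+2))` becomes, in the affine coordinate, the span of the multiples of
`X^(a+1)` of degree at most `a+b`, the multiples of `(X-1)^(b+1)` of degree at most `a+b`, and
`X^(a+1) (X-1)^(b+1)`; and `V(-iP-jQ)` is the subspace of members divisible by `(X-p)^i (X-q)^j`.
Then there are no points `P = p`, `Q = q` other than `A, B, C` (that is, `p, q ∉ {0, 1}`; `p = q`
allowed) with both `dim V(-iP-jQ) ≥ 1` and `dim V(-(i-1)P-(j-1)Q) ≥ 2`. (The published statement is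
over the complex numbers.) -/
theorem result
    (k : Type*) [Field k] [CharZero k] (a b i j : ℕ) (ha : 0 < a) (hb : 0 < b) (hi : 0 < i) (hiab : i ≤ a + b)
    (hj : i + j = a + b + 2)
    (V : Submodule k (Polynomial k))
    (hV : V = ((Ideal.span {(X : Polynomial k) ^ (a + 1)}).restrictScalars k ⊓ Polynomial.degreeLE k ↑(a + b)) ⊔
      ((Ideal.span {((X : Polynomial k) - 1) ^ (b + 1)}).restrictScalars k ⊓ Polynomial.degreeLE k ↑(a + b)) ⊔
      Submodule.span k {(X : Polynomial k) ^ (a + 1) * (X - 1) ^ (b + 1)})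
    (p q : k) (hp0 : p ≠ 0) (hp1 : p ≠ 1) (hq0 : q ≠ 0) (hq1 : q ≠ 1) :
    ¬ (1 ≤ Module.finrank k ↥(V ⊓ (Ideal.span {(X - C p) ^ i * (X - C q) ^ j}).restrictScalars k) ∧
       2 ≤ Module.finrank k ↥(V ⊓ (Ideal.span {(X - C p) ^ (i - 1) * (X - C q) ^ (j - 1)}).restrictScalars k)) := by
  rintro ⟨-, h2⟩
  obtain ⟨a, rfl⟩ := Nat.exists_eq_succ_of_ne_zero ha.ne'
  obtain ⟨b, rfl⟩ := Nat.exists_eq_succ_of_ne_zero hb.ne'
  set S := V ⊓ (Ideal.span {(X - C p) ^ (i - 1) * (X - C q) ^ (j - 1)}).restrictScalars k with hS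
  have hnt : Nontrivial S := Module.nontrivial_of_finrank_pos (R := k) (by omega)
  obtain ⟨x, hx⟩ := exists_ne (0 : S)
  obtain ⟨y, hxy⟩ := exists_linearIndependent_pair_of_one_lt_finrank (R := k) (by omega) hx
  rw [LinearIndependent.pair_iff] at hxy
  obtain ⟨v₁, hv₁V, hv₁G⟩ := x
  obtain ⟨v₂, hv₂V, hv₂G⟩ := y
  simp only [Submodule.restrictScalars_mem, SetLike.mem_coe, Ideal.mem_span_singleton] at hv₁G hv₂G
  rw [hV] at hv₁V hv₂V
  obtain ⟨w₁, hw₁d, hw₁⟩ := V_le a b hv₁V
  obtain ⟨w₂, hw₂d, hw₂⟩ := V_le a b hv₂V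
  set w₀ : k[X] := X ^ (a + 1) * (X - 1) ^ (b + 1) with hw₀
  have hw₀L : Lop (k := k) (a + 1) (b + 1) w₀ = 0 := Lop_w0 a b
  have e1 : (X : k[X]) - 1 = X - C 1 := by rw [C_1]
  have hw₀ne : w₀ ≠ 0 := by
    rw [hw₀, e1]
    exact mul_ne_zero (pow_ne_zero _ X_ne_zero) (pow_ne_zero _ (X_sub_C_ne_zero 1))
  have hw₀d : w₀ ∈ degreeLE k ↑(a + 1 + (b + 1) + 1) := by
    rw [mem_degreeLE]
    refine degree_le_of_natDegree_le (le_trans natDegree_mul_le ?_)
    rw [natDegree_X_pow, e1, natDegree_pow, natDegree_X_sub_C, mul_one]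
    omega
  -- common facts for a combination
  have hcomb : ∀ α β γ : k, ¬ (α = 0 ∧ β = 0 ∧ γ = 0) →
      (α • w₀ + β • w₁ + γ • w₂ ≠ 0 ∧
        (α • w₀ + β • w₁ + γ • w₂).natDegree ≤ a + 1 + (b + 1) + 1 ∧
        (X - C p) ^ (i - 1) * (X - C q) ^ (j - 1) ∣
          Lop (k := k) (a + 1) (b + 1) (α • w₀ + β • w₁ + γ • w₂)) := by
    intro α β γ hne
    have hL : Lop (k := k) (a + 1) (b + 1) (α • w₀ + β • w₁ + γ • w₂) = β • v₁ + γ • v₂ := by
      rw [map_add, map_add, map_smul, map_smul, map_smul, hw₀L, hw₁, hw₂, smul_zero, zero_add]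
    refine ⟨?_, ?_, ?_⟩
    · intro h0
      rw [h0, map_zero] at hL
      have := hxy β γ (Subtype.ext hL.symm)
      obtain ⟨hβ, hγ⟩ := this
      rw [hβ, hγ, zero_smul, zero_smul, add_zero, add_zero] at h0
      rcases smul_eq_zero.mp h0 with h | h
      · exact hne ⟨h, hβ, hγ⟩
      · exact hw₀ne h
    · refine natDegree_le_of_degree_le (mem_degreeLE.mp ?_)
      exact Submodule.add_mem _ (Submodule.add_mem _ (Submodule.smul_mem _ _ hw₀d)
        (Submodule.smul_mem _ _ hw₁d)) (Submodule.smul_mem _ _ hw₂d)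
    · rw [hL, smul_eq_C_mul, smul_eq_C_mul]
      exact dvd_add (Dvd.dvd.mul_left hv₁G _) (Dvd.dvd.mul_left hv₂G _)
  have hi1 : i - 1 + 1 = i := Nat.sub_add_cancel hi
  have hj1 : j - 1 + 1 = j := by omega
  by_cases hpq : p = q
  · subst hpq
    obtain ⟨α, β, γ, hne, hx0, hy0⟩ := exists_ker3 (eval p w₀) (eval p w₁) (eval p w₂)
      (w₀.coeff (a + 1 + (b + 1) + 1)) (w₁.coeff (a + 1 + (b + 1) + 1))
      (w₂.coeff (a + 1 + (b + 1) + 1))
    obtain ⟨hw0, hwd, hG⟩ := hcomb α β γ hne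
    set w := α • w₀ + β • w₁ + γ • w₂ with hw
    have hroot : (X - C p) ∣ w := by
      rw [dvd_iff_isRoot, IsRoot.def, hw]
      simp only [eval_add, eval_smul, smul_eq_mul]
      exact hx0
    rw [← pow_add] at hG
    have hdvd := key_dvd (a + 1) (b + 1) p hp0 hp1 w hroot _ hG
    have hexp : i - 1 + (j - 1) + 1 = a + 1 + (b + 1) + 1 := by omega
    rw [hexp] at hdvd
    have hge := natDegree_le_of_dvd hdvd hw0
    rw [natDegree_pow, natDegree_X_sub_C, mul_one] at hge
    have heq : w.natDegree = a + 1 + (b + 1) + 1 := le_antisymm hwd hge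
    have hc : w.coeff (a + 1 + (b + 1) + 1) = 0 := by
      rw [hw]
      simp only [coeff_add, coeff_smul, smul_eq_mul]
      exact hy0
    rw [← heq, coeff_natDegree, leadingCoeff_eq_zero] at hc
    exact hw0 hc
  · obtain ⟨α, β, γ, hne, hx0, hy0⟩ := exists_ker3 (eval p w₀) (eval p w₁) (eval p w₂)
      (eval q w₀) (eval q w₁) (eval q w₂)
    obtain ⟨hw0, hwd, hG⟩ := hcomb α β γ hne
    set w := α • w₀ + β • w₁ + γ • w₂ with hw
    have hrootp : (X - C p) ∣ w := by
      rw [dvd_iff_isRoot, IsRoot.def, hw]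
      simp only [eval_add, eval_smul, smul_eq_mul]
      exact hx0
    have hrootq : (X - C q) ∣ w := by
      rw [dvd_iff_isRoot, IsRoot.def, hw]
      simp only [eval_add, eval_smul, smul_eq_mul]
      exact hy0
    have hdp := key_dvd (a + 1) (b + 1) p hp0 hp1 w hrootp _ (dvd_trans (Dvd.intro _ rfl) hG)
    have hdq := key_dvd (a + 1) (b + 1) q hq0 hq1 w hrootq _ (dvd_trans (Dvd.intro_left _ rfl) hG)
    rw [hi1] at hdp
    rw [hj1] at hdq
    have hcop : IsCoprime ((X - C p) ^ i) ((X - C q) ^ j) :=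
      (isCoprime_X_sub_C_of_isUnit_sub (sub_ne_zero.mpr hpq).isUnit).pow
    have hprod := hcop.mul_dvd hdp hdq
    have hge := natDegree_le_of_dvd hprod hw0
    rw [natDegree_mul (pow_ne_zero _ (X_sub_C_ne_zero p)) (pow_ne_zero _ (X_sub_C_ne_zero q)),
      natDegree_pow, natDegree_pow, natDegree_X_sub_C, natDegree_X_sub_C] at hge
    omega

end Groth.Agent.S16260
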