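import Groth.Statements.S16261
import Mathlib
-- import your own Groth.Agent.* helpers here

set_option autoImplicit false
open W4c3wronskmg

namespace Groth.Agent.S16261

section helpers
open Polynomial

lemma choose_identity (m b s : ℕ) (hs : s ≤ m) :
    (m + b).choose s * (b + (m - s)).choose b = (m + b).choose b * m.choose s := by
  have h1 := Nat.choose_mul (n := m + b) (k := b + s) (s := s) (by omega)
  have h2 := Nat.choose_mul (n := m + b) (k := b + s) (s := b) (by omega)
  have e1 : b + s - s = b := by omega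
  have e2 : b + s - b = s := by omega
  have e3 : m + b - s = b + (m - s) := by omega
  have e4 : m + b - b = m := by omega
  rw [e1, e3] at h1
  rw [e2, e4] at h2
  have e5 : (b + s).choose s = (b + s).choose b := by
    rw [add_comm b s]; exact Nat.choose_symm_add
  rw [← h1, ← h2, e5]

/-- key non-membership -/
lemma key3 {k : Type*} [Field k] [CharZero k] (m b : ℕ) (q : k) (hq0 : q ≠ 0) (hq1 : q ≠ 1)
    (F3 K : k[X]) (hF3 : F3.coeff m = 0)
    (h : (X - C q) ^ (m + b) = (X - 1) ^ (b + 1) * F3 + X ^ (m + 1) * K) : False := by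
  obtain ⟨W, hW⟩ : ∃ W : PowerSeries k, W = PowerSeries.mk fun n => ((b + n).choose b : k) := ⟨_, rfl⟩
  have hWinv : W * (1 - PowerSeries.X) ^ (b + 1) = 1 := by
    rw [hW]; exact PowerSeries.mk_add_choose_mul_one_sub_pow_eq_one k b
  have hcoe : (((X - C q) ^ (m + b) : k[X]) : PowerSeries k) * W =
      PowerSeries.C ((-1) ^ (b + 1)) * (F3 : PowerSeries k) +
        PowerSeries.X ^ (m + 1) * ((K : PowerSeries k) * W) := by
    rw [h, Polynomial.coe_add, Polynomial.coe_mul, Polynomial.coe_mul, Polynomial.coe_pow,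
      Polynomial.coe_pow, Polynomial.coe_X]
    have : (((X : k[X]) - 1 : k[X]) : PowerSeries k) = -(1 - PowerSeries.X) := by
      rw [Polynomial.coe_sub, Polynomial.coe_X, Polynomial.coe_one]; ring
    rw [this, neg_pow]
    have h2 : PowerSeries.C ((-1 : k) ^ (b + 1)) = (-1 : PowerSeries k) ^ (b + 1) := by
      rw [map_pow, map_neg, map_one]
    rw [h2]
    linear_combination ((-1 : PowerSeries k) ^ (b + 1) * (F3 : PowerSeries k)) * hWinv
  have hcoeff := congrArg (PowerSeries.coeff m) hcoe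
  rw [map_add, PowerSeries.coeff_C_mul, Polynomial.coeff_coe, hF3, mul_zero, zero_add,
    PowerSeries.coeff_X_pow_mul', if_neg (by omega), PowerSeries.coeff_mul,
    Finset.Nat.sum_antidiagonal_eq_sum_range_succ_mk] at hcoeff
  have hsum : ∑ s ∈ Finset.range (m + 1), (PowerSeries.coeff s) (((X - C q) ^ (m + b) : k[X]) : PowerSeries k) *
      (PowerSeries.coeff (m - s)) W = ((m + b).choose b : k) * (-q) ^ b * (1 - q) ^ m := by
    have hbin : (1 - q) ^ m = ∑ s ∈ Finset.range (m + 1), (1 : k) ^ s * (-q) ^ (m - s) * (m.choose s : k) := by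
      rw [← add_pow]; ring
    rw [hbin, Finset.mul_sum]
    refine Finset.sum_congr rfl (fun s hs => ?_)
    have hs' : s ≤ m := by have := Finset.mem_range.1 hs; omega
    have hXq : (X : k[X]) - C q = X + C (-q) := by simp [sub_eq_add_neg]
    rw [Polynomial.coeff_coe, hXq, coeff_X_add_C_pow, hW, PowerSeries.coeff_mk]
    have hid := congrArg (Nat.cast (R := k)) (choose_identity m b s hs')
    push_cast at hid
    have hpow : (-q) ^ (m + b - s) = (-q) ^ b * (-q) ^ (m - s) := by
      rw [← pow_add]; congr 1; omega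
    rw [hpow, one_pow, one_mul]
    linear_combination ((-q) ^ b * (-q) ^ (m - s)) * hid
  rw [hsum] at hcoeff
  have hne : ((m + b).choose b : k) * (-q) ^ b * (1 - q) ^ m ≠ 0 := by
    refine mul_ne_zero (mul_ne_zero ?_ (pow_ne_zero _ (neg_ne_zero.2 hq0)))
      (pow_ne_zero _ (sub_ne_zero.2 (Ne.symm hq1)))
    exact Nat.cast_ne_zero.2 (Nat.choose_pos (by omega)).ne'
  exact hne hcoeff

variable {k : Type*} [Field k]

/-- decomposition of elements of V -/
lemma V_decomp (a b : ℕ) (V : Submodule k k[X])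
    (hV : V = ((Ideal.span {(X : Polynomial k) ^ (a + 1)}).restrictScalars k ⊓ Polynomial.degreeLE k ↑(a + b)) ⊔
      ((Ideal.span {((X : Polynomial k) - 1) ^ (b + 1)}).restrictScalars k ⊓ Polynomial.degreeLE k ↑(a + b)) ⊔
      Submodule.span k {(X : Polynomial k) ^ (a + 1) * (X - 1) ^ (b + 1)})
    (f : k[X]) (hf : f ∈ V) :
    ∃ (F1 F2 : k[X]) (c : k), f = X ^ (a + 1) * F1 + (X - 1) ^ (b + 1) * F2 +
        C c * (X ^ (a + 1) * (X - 1) ^ (b + 1)) ∧
      (X ^ (a + 1) * F1).degree ≤ ↑(a + b) ∧ ((X - 1) ^ (b + 1) * F2).degree ≤ ↑(a + b) := by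
  rw [hV] at hf
  obtain ⟨y, hy, z, hz, rfl⟩ := Submodule.mem_sup.1 hf
  obtain ⟨y1, hy1, y2, hy2, rfl⟩ := Submodule.mem_sup.1 hy
  obtain ⟨c, rfl⟩ := Submodule.mem_span_singleton.1 hz
  have h1 : y1 ∈ Ideal.span {(X : k[X]) ^ (a + 1)} := hy1.1
  have h1d : y1 ∈ degreeLE k ↑(a + b) := hy1.2
  have h2 : y2 ∈ Ideal.span {((X : k[X]) - 1) ^ (b + 1)} := hy2.1
  have h2d : y2 ∈ degreeLE k ↑(a + b) := hy2.2
  obtain ⟨F1, rfl⟩ := Ideal.mem_span_singleton.1 h1
  obtain ⟨F2, rfl⟩ := Ideal.mem_span_singleton.1 h2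
  refine ⟨F1, F2, c, ?_, mem_degreeLE.1 h1d, mem_degreeLE.1 h2d⟩
  rw [Algebra.smul_def, algebraMap_eq]

lemma coeff_M (a b : ℕ) :
    ((X : k[X]) ^ (a + 1) * (X - 1) ^ (b + 1)).coeff (a + b + 2) = 1 ∧
    ((X : k[X]) ^ (a + 1) * (X - 1) ^ (b + 1)).coeff (a + b + 1) = -((b : k) + 1) := by
  have hX1 : (X : k[X]) - 1 = X + C (-1) := by simp [sub_eq_add_neg]
  have e1 : a + b + 2 = (b + 1) + (a + 1) := by omega
  have e2 : a + b + 1 = b + (a + 1) := by omega
  constructor
  · rw [e1, coeff_X_pow_mul, hX1, coeff_X_add_C_pow]; simp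
  · rw [e2, coeff_X_pow_mul, hX1, coeff_X_add_C_pow]
    have : b + 1 - b = 1 := by omega
    rw [this, Nat.choose_succ_self_right]
    push_cast; ring

/-- the functional at infinity vanishes on V, and degrees are bounded -/
lemma V_props (a b : ℕ) (V : Submodule k k[X])
    (hV : V = ((Ideal.span {(X : Polynomial k) ^ (a + 1)}).restrictScalars k ⊓ Polynomial.degreeLE k ↑(a + b)) ⊔
      ((Ideal.span {((X : Polynomial k) - 1) ^ (b + 1)}).restrictScalars k ⊓ Polynomial.degreeLE k ↑(a + b)) ⊔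
      Submodule.span k {(X : Polynomial k) ^ (a + 1) * (X - 1) ^ (b + 1)})
    (f : k[X]) (hf : f ∈ V) :
    f.coeff (a + b + 1) + ((b : k) + 1) * f.coeff (a + b + 2) = 0 ∧ f.natDegree ≤ a + b + 2 := by
  obtain ⟨F1, F2, c, rfl, hd1, hd2⟩ := V_decomp a b V hV f hf
  have z1 : ∀ n, a + b < n → (X ^ (a + 1) * F1 : k[X]).coeff n = 0 := fun n hn =>
    coeff_eq_zero_of_degree_lt (lt_of_le_of_lt hd1 (by exact_mod_cast hn))
  have z2 : ∀ n, a + b < n → ((X - 1) ^ (b + 1) * F2 : k[X]).coeff n = 0 := fun n hn =>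
    coeff_eq_zero_of_degree_lt (lt_of_le_of_lt hd2 (by exact_mod_cast hn))
  obtain ⟨m1, m2⟩ := coeff_M (k := k) a b
  constructor
  · simp only [coeff_add, coeff_C_mul, z1 (a + b + 1) (by omega), z1 (a + b + 2) (by omega),
      z2 (a + b + 1) (by omega), z2 (a + b + 2) (by omega), m1, m2]
    ring
  · rw [natDegree_le_iff_coeff_eq_zero]
    intro n hn
    simp only [coeff_add, coeff_C_mul, z1 n (by omega), z2 n (by omega)]
    have : ((X : k[X]) ^ (a + 1) * (X - 1) ^ (b + 1)).coeff n = 0 := by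
      apply coeff_eq_zero_of_natDegree_lt
      have hX1 : (X : k[X]) - 1 = X - C 1 := by simp
      have : ((X : k[X]) ^ (a + 1) * (X - 1) ^ (b + 1)).natDegree ≤ (a + 1) + (b + 1) := by
        refine natDegree_mul_le.trans (add_le_add (natDegree_X_pow_le _) ?_)
        rw [hX1]
        exact (natDegree_pow_le).trans (by rw [natDegree_X_sub_C, mul_one])
      omega
    rw [this]; simp

/-- Step 3: `S ∈ V` is impossible when `i ≤ a`. -/
lemma step3 [CharZero k] (a b i' j' : ℕ) (hi : i' + 1 ≤ a) (hij : i' + j' = a + b)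
    (V : Submodule k k[X])
    (hV : V = ((Ideal.span {(X : Polynomial k) ^ (a + 1)}).restrictScalars k ⊓ Polynomial.degreeLE k ↑(a + b)) ⊔
      ((Ideal.span {((X : Polynomial k) - 1) ^ (b + 1)}).restrictScalars k ⊓ Polynomial.degreeLE k ↑(a + b)) ⊔
      Submodule.span k {(X : Polynomial k) ^ (a + 1) * (X - 1) ^ (b + 1)})
    (q : k) (hq0 : q ≠ 0) (hq1 : q ≠ 1)
    (hS : (X : k[X]) ^ i' * (X - C q) ^ j' ∈ V) : False := by
  obtain ⟨F1, F2, c, hdec, hd1, hd2⟩ := V_decomp a b V hV _ hS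
  obtain ⟨m1, m2⟩ := coeff_M (k := k) a b
  -- c = 0
  have hSmonic : ((X : k[X]) ^ i' * (X - C q) ^ j').Monic :=
    (monic_X_pow i').mul ((monic_X_sub_C q).pow j')
  have hSdeg : ((X : k[X]) ^ i' * (X - C q) ^ j').natDegree = a + b := by
    rw [Monic.natDegree_mul (monic_X_pow i') ((monic_X_sub_C q).pow j'), natDegree_X_pow,
      (monic_X_sub_C q).natDegree_pow, natDegree_X_sub_C, mul_one, hij]
  have hc : c = 0 := by
    have h := congrArg (fun p => p.coeff (a + b + 2)) hdec
    simp only [coeff_add, coeff_C_mul, m1] at h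
    rw [coeff_eq_zero_of_natDegree_lt (by rw [hSdeg]; omega),
      coeff_eq_zero_of_degree_lt (lt_of_le_of_lt hd1 (by exact_mod_cast (by omega : a + b < a + b + 2))),
      coeff_eq_zero_of_degree_lt (lt_of_le_of_lt hd2 (by exact_mod_cast (by omega : a + b < a + b + 2)))] at h
    simpa using h.symm
  rw [hc, C_0, zero_mul, add_zero] at hdec
  -- X^i' ∣ F2
  have hcop : IsCoprime ((X : k[X]) ^ i') ((X - 1) ^ (b + 1)) := by
    apply IsCoprime.pow
    exact ⟨1, -1, by ring⟩
  have hdvd : (X : k[X]) ^ i' ∣ (X - 1) ^ (b + 1) * F2 := by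
    have h1 : (X : k[X]) ^ i' ∣ X ^ i' * (X - C q) ^ j' := dvd_mul_right _ _
    have h2 : (X : k[X]) ^ i' ∣ X ^ (a + 1) * F1 :=
      dvd_mul_of_dvd_left (pow_dvd_pow _ (by omega)) _
    have : (X - 1) ^ (b + 1) * F2 = X ^ i' * (X - C q) ^ j' - X ^ (a + 1) * F1 := by
      rw [hdec]; ring
    rw [this]
    exact dvd_sub h1 h2
  obtain ⟨F3, hF3⟩ := hcop.dvd_of_dvd_mul_left hdvd
  obtain ⟨m, hm⟩ : ∃ m, a + 1 = i' + (m + 1) := ⟨a - i', by omega⟩
  have hj' : j' = m + b := by omega
  -- cancel X^i'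
  have hcancel : (X - C q) ^ (m + b) = (X - 1) ^ (b + 1) * F3 + X ^ (m + 1) * F1 := by
    have hX : (X : k[X]) ^ i' ≠ 0 := pow_ne_zero _ X_ne_zero
    apply mul_left_cancel₀ hX
    rw [← hj', hdec, hF3, hm, pow_add]
    ring
  -- F3.coeff m = 0
  have hF3m : F3.coeff m = 0 := by
    by_cases hF30 : F3 = 0
    · rw [hF30]; simp
    · apply coeff_eq_zero_of_natDegree_lt
      have hne : (X - 1 : k[X]) ^ (b + 1) ≠ 0 := by
        apply pow_ne_zero
        have : (X : k[X]) - 1 = X - C 1 := by simp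
        rw [this]; exact X_sub_C_ne_zero 1
      have hF2ne : F2 ≠ 0 := by
        rw [hF3]; exact mul_ne_zero (pow_ne_zero _ X_ne_zero) hF30
      have hnd : ((X - 1 : k[X]) ^ (b + 1) * F2).natDegree ≤ a + b :=
        natDegree_le_iff_degree_le.2 hd2
      rw [natDegree_mul hne hF2ne, hF3, natDegree_mul (pow_ne_zero _ X_ne_zero) hF30,
        natDegree_X_pow] at hnd
      have hnd2 : ((X - 1 : k[X]) ^ (b + 1)).natDegree = b + 1 := by
        have : (X : k[X]) - 1 = X - C 1 := by simp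
        rw [this, (monic_X_sub_C (1 : k)).natDegree_pow, natDegree_X_sub_C, mul_one]
      rw [hnd2] at hnd
      omega
  exact key3 m b q hq0 hq1 F3 F1 hF3m hcancel

end helpers

open Polynomial in
/-- With `k` of characteristic zero, `a, b, i` positive, `i ≤ a + b`, `j = a + b + 2 - i` and `V ⊆ k[X]`
the linear system of the first assertion (marked points `A = 0`, `B = 1`, `C = ∞`; `V` spanned by
the multiples of `X^(a+1)` of degree at most `a+b`, the multiples of `(X-1)^(b+1)` of degree at most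
`a+b`, and `X^(a+1) (X-1)^(b+1)`): if the point `P` is put at `A` and `Q = q` is any point other
than `C`, and both `dim V(-iA-jQ) ≥ 1` and `dim V(-(i-1)A-(j-1)Q) ≥ 2` hold, then `i ≥ a + 1`. (The
published statement is over the complex numbers.) -/
theorem result
    (k : Type*) [Field k] [CharZero k] (a b i j : ℕ) (ha : 0 < a) (hb : 0 < b) (hi : 0 < i) (hiab : i ≤ a + b)
    (hj : i + j = a + b + 2)
    (V : Submodule k (Polynomial k))
    (hV : V = ((Ideal.span {(X : Polynomial k) ^ (a + 1)}).restrictScalars k ⊓ Polynomial.degreeLE k ↑(a + b)) ⊔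
      ((Ideal.span {((X : Polynomial k) - 1) ^ (b + 1)}).restrictScalars k ⊓ Polynomial.degreeLE k ↑(a + b)) ⊔
      Submodule.span k {(X : Polynomial k) ^ (a + 1) * (X - 1) ^ (b + 1)})
    (q : k)
    (h1 : 1 ≤ Module.finrank k ↥(V ⊓ (Ideal.span {(X : Polynomial k) ^ i * (X - C q) ^ j}).restrictScalars k))
    (h2 : 2 ≤ Module.finrank k ↥(V ⊓ (Ideal.span {(X : Polynomial k) ^ (i - 1) * (X - C q) ^ (j - 1)}).restrictScalars k)) :
    a + 1 ≤ i := by
  by_contra hcon
  push Not at hcon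
  obtain ⟨i', rfl⟩ : ∃ i', i = i' + 1 := ⟨i - 1, by omega⟩
  obtain ⟨j', rfl⟩ : ∃ j', j = j' + 1 := ⟨j - 1, by omega⟩
  have hij : i' + j' = a + b := by omega
  rw [Nat.add_sub_cancel, Nat.add_sub_cancel] at h2
  obtain ⟨T, hT⟩ : ∃ T : k[X], T = X ^ (i' + 1) * (X - C q) ^ (j' + 1) := ⟨_, rfl⟩
  obtain ⟨S, hS⟩ : ∃ S : k[X], S = X ^ i' * (X - C q) ^ j' := ⟨_, rfl⟩
  rw [← hT] at h1
  rw [← hS] at h2
  have hTS : T = S * (X * (X - C q)) := by rw [hT, hS]; ring
  have hTmonic : T.Monic := by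
    rw [hT]; exact (monic_X_pow _).mul ((monic_X_sub_C q).pow _)
  have hSmonic : S.Monic := by
    rw [hS]; exact (monic_X_pow _).mul ((monic_X_sub_C q).pow _)
  have hTdeg : T.natDegree = a + b + 2 := by
    rw [hT, Monic.natDegree_mul (monic_X_pow _) ((monic_X_sub_C q).pow _), natDegree_X_pow,
      (monic_X_sub_C q).natDegree_pow, natDegree_X_sub_C, mul_one]
    omega
  have hSdeg : S.natDegree = a + b := by
    rw [hS, Monic.natDegree_mul (monic_X_pow _) ((monic_X_sub_C q).pow _), natDegree_X_pow,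
      (monic_X_sub_C q).natDegree_pow, natDegree_X_sub_C, mul_one]
    omega
  -- Step 1: T ∈ V
  have hTV : T ∈ V := by
    have hex : ∃ x : ↥(V ⊓ (Ideal.span {T}).restrictScalars k), x ≠ 0 := by
      by_contra hno
      push Not at hno
      have : Subsingleton ↥(V ⊓ (Ideal.span {T}).restrictScalars k) :=
        ⟨fun x y => (hno x).trans (hno y).symm⟩
      rw [Module.finrank_zero_of_subsingleton] at h1
      omega
    obtain ⟨⟨f, hfV, hfJ⟩, hfne⟩ := hex
    have hf0 : f ≠ 0 := fun h => hfne (Subtype.ext h)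
    have hfJ' : f ∈ Ideal.span {T} := hfJ
    obtain ⟨r, hr⟩ := Ideal.mem_span_singleton.1 hfJ'
    have hr0 : r ≠ 0 := by rintro rfl; exact hf0 (by rw [hr, mul_zero])
    have hfd := (V_props a b V hV f hfV).2
    rw [hr, natDegree_mul hTmonic.ne_zero hr0, hTdeg] at hfd
    have hrC := eq_C_of_natDegree_eq_zero (by omega : r.natDegree = 0)
    have hc0 : r.coeff 0 ≠ 0 := by
      intro h; rw [h, C_0] at hrC; exact hr0 hrC
    have : T = (r.coeff 0)⁻¹ • f := by
      rw [hr, hrC, Algebra.smul_def, algebraMap_eq, coeff_C_zero]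
      rw [← mul_assoc, mul_comm _ T, mul_assoc, ← C_mul, inv_mul_cancel₀ hc0, C_1, mul_one]
    rw [this]
    exact V.smul_mem _ hfV
  -- jq = b + 1
  have hjq : ((j' : k) + 1) * q = (b : k) + 1 := by
    have h := (V_props a b V hV T hTV).1
    have hXq : (X : k[X]) - C q = X + C (-q) := by simp [sub_eq_add_neg]
    have e1 : a + b + 2 = (j' + 1) + (i' + 1) := by omega
    have e2 : a + b + 1 = j' + (i' + 1) := by omega
    have c2 : T.coeff (a + b + 2) = 1 := by
      rw [hT, e1, coeff_X_pow_mul, hXq, coeff_X_add_C_pow]; simp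
    have c1 : T.coeff (a + b + 1) = -(q * ((j' : k) + 1)) := by
      rw [hT, e2, coeff_X_pow_mul, hXq, coeff_X_add_C_pow]
      have : j' + 1 - j' = 1 := by omega
      rw [this, Nat.choose_succ_self_right]
      push_cast; ring
    rw [c1, c2] at h
    linear_combination -h
  have hq0 : q ≠ 0 := by
    rintro rfl
    rw [mul_zero] at hjq
    have : ((b + 1 : ℕ) : k) = 0 := by push_cast; exact hjq.symm
    exact (Nat.cast_ne_zero.2 (by omega)) this
  have hq1 : q ≠ 1 := by
    rintro rfl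
    rw [mul_one] at hjq
    have : ((j' + 1 : ℕ) : k) = ((b + 1 : ℕ) : k) := by push_cast; exact hjq
    have := Nat.cast_injective this
    omega
  -- Step 2: S ∈ V
  have hSV : S ∈ V := by
    have hex : ∃ f ∈ V ⊓ (Ideal.span {S}).restrictScalars k, f ∉ Submodule.span k {T} := by
      by_contra hno
      push Not at hno
      have hle : V ⊓ (Ideal.span {S}).restrictScalars k ≤ Submodule.span k {T} := hno
      have hfin3 : Module.Finite k ↥(Submodule.span k ({T} : Set k[X])) :=
        Module.Finite.span_of_finite k (Set.toFinite _)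
      have := Submodule.finrank_mono hle
      have h3 : Module.finrank k ↥(Submodule.span k ({T} : Set k[X])) ≤ 1 :=
        (finrank_span_le_card ({T} : Set k[X])).trans (by simp)
      omega
    obtain ⟨f, ⟨hfV, hfJ⟩, hfT⟩ := hex
    have hfJ' : f ∈ Ideal.span {S} := hfJ
    obtain ⟨E, hE⟩ := Ideal.mem_span_singleton.1 hfJ'
    have hE0 : E ≠ 0 := by
      rintro rfl
      apply hfT
      rw [hE, mul_zero]; exact Submodule.zero_mem _
    have hfd := (V_props a b V hV f hfV).2
    rw [hE, natDegree_mul hSmonic.ne_zero hE0, hSdeg] at hfd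
    have hEdeg : E.natDegree < 3 := by omega
    have hEsum := as_sum_range' E 3 hEdeg
    simp only [Finset.sum_range_succ, Finset.sum_range_zero, zero_add] at hEsum
    obtain ⟨e0, he0⟩ : ∃ e0 : k, e0 = E.coeff 0 := ⟨_, rfl⟩
    obtain ⟨e1, he1⟩ : ∃ e1 : k, e1 = E.coeff 1 := ⟨_, rfl⟩
    obtain ⟨e2, he2⟩ : ∃ e2 : k, e2 = E.coeff 2 := ⟨_, rfl⟩
    rw [← he0, ← he1, ← he2] at hEsum
    have hEform : E = C e0 + C e1 * X + C e2 * X ^ 2 := by
      rw [hEsum]
      simp only [← C_mul_X_pow_eq_monomial, pow_zero, mul_one, pow_one]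
    -- g = f - e2 • T
    have hgV : f - e2 • T ∈ V := V.sub_mem hfV (V.smul_mem _ hTV)
    have hg : f - e2 • T = S * C e0 + S * C (e1 + e2 * q) * X := by
      rw [hE, hEform, hTS, Algebra.smul_def, algebraMap_eq, C_add, C_mul]; ring
    have hgprop := (V_props a b V hV _ hgV).1
    rw [hg] at hgprop
    have c2 : (S * C e0 + S * C (e1 + e2 * q) * X).coeff (a + b + 2) = 0 := by
      rw [coeff_add, coeff_mul_C, coeff_mul_X, coeff_mul_C,
        coeff_eq_zero_of_natDegree_lt (by rw [hSdeg]; omega),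
        coeff_eq_zero_of_natDegree_lt (by rw [hSdeg]; omega)]
      simp
    have c1 : (S * C e0 + S * C (e1 + e2 * q) * X).coeff (a + b + 1) = e1 + e2 * q := by
      rw [coeff_add, coeff_mul_C, coeff_mul_X, coeff_mul_C,
        coeff_eq_zero_of_natDegree_lt (by rw [hSdeg]; omega)]
      have : S.coeff (a + b) = 1 := by rw [← hSdeg]; exact hSmonic.coeff_natDegree
      rw [this]; ring
    rw [c1, c2, mul_zero, add_zero] at hgprop
    rw [hgprop, C_0, mul_zero, zero_mul, add_zero] at hg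
    have he0ne : e0 ≠ 0 := by
      rintro rfl
      apply hfT
      rw [C_0, mul_zero] at hg
      have : f = e2 • T := by linear_combination hg
      rw [this]
      exact Submodule.smul_mem _ _ (Submodule.mem_span_singleton_self T)
    have : S = e0⁻¹ • (f - e2 • T) := by
      rw [hg, Algebra.smul_def, algebraMap_eq, mul_comm S, ← mul_assoc, ← C_mul,
        inv_mul_cancel₀ he0ne, C_1, one_mul]
    rw [this]
    exact V.smul_mem _ hgV
  rw [hS] at hSV
  exact step3 a b i' j' (by omega) hij V hV q hq0 hq1 hSV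

end Groth.Agent.S16261
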