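import Groth.Statements.S16262
import Mathlib
import Groth.Agent.Lib.Helper82.PolyODE
-- import your own Groth.Agent.* helpers here

set_option autoImplicit false
open W4c3wronskmg

namespace Groth.Agent.S16262

section helpers
open Polynomial Groth.Agent.Lib.Helper82.PolyODE
variable {k : Type*} [Field k]

lemma reflect_X_add_C_pow (w : k) (n : ℕ) : reflect n ((X + C w) ^ n) = (1 + C w * X) ^ n := by
  induction n with
  | zero => simp [reflect_one]
  | succ n ih =>
    rw [pow_succ, reflect_mul _ _ (F := n) (G := 1), ih, pow_succ]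
    · congr 1
      rw [reflect_add, reflect_one_X, reflect_C, pow_one]
    · exact (natDegree_pow_le_of_le n (natDegree_X_add_C w).le).trans (by simp)
    · exact (natDegree_X_add_C w).le

lemma coeff_one_add_C_mul_X_pow (w : k) (n l : ℕ) :
    ((1 + C w * X) ^ n).coeff l = (n.choose l : k) * w ^ l := by
  have : (1 + C w * X) ^ n = ((1 + X) ^ n).comp (C w * X) := by
    simp [pow_comp, add_comp]
  rw [this, comp_C_mul_X_coeff, coeff_one_add_X_pow]

lemma claimA (i j n a : ℕ) (hsum : a + n = i + j) (w : k) :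
    eval w (∑ l ∈ Finset.range (n + 1),
        C (((i.choose l) * (j.choose (n - l)) : ℕ) : k) * X ^ (n - l)) =
      (((X : k[X]) + 1) ^ i * (X + C w) ^ j).coeff a := by
  have hrev : revAt (i + j) n = a := by
    rw [revAt_le (by omega)]; omega
  have h1 : (((X : k[X]) + 1) ^ i * (X + C w) ^ j).coeff a =
      (reflect (i + j) (((X : k[X]) + 1) ^ i * (X + C w) ^ j)).coeff n := by
    rw [coeff_reflect, hrev]
  have h2 : reflect (i + j) (((X : k[X]) + 1) ^ i * (X + C w) ^ j) =
      (1 + C 1 * X) ^ i * (1 + C w * X) ^ j := by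
    have hX1 : ((X : k[X]) + 1) = X + C 1 := by simp
    rw [hX1, reflect_mul _ _ (F := i) (G := j), reflect_X_add_C_pow, reflect_X_add_C_pow]
    · exact (natDegree_pow_le_of_le i (natDegree_X_add_C 1).le).trans (by simp)
    · exact (natDegree_pow_le_of_le j (natDegree_X_add_C w).le).trans (by simp)
  rw [h1, h2, coeff_mul, Finset.Nat.sum_antidiagonal_eq_sum_range_succ_mk, eval_finsetSum]
  refine Finset.sum_congr rfl (fun l _ => ?_)
  simp only [coeff_one_add_C_mul_X_pow, eval_mul, eval_C, eval_pow, eval_X, one_pow, mul_one]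
  push_cast
  ring

lemma claimB (i N' b' : ℕ) :
    derivative (∑ l ∈ Finset.range (b' + 1 + 1),
        C (((i.choose l) * ((N' + 1).choose (b' + 1 - l)) : ℕ) : k) * X ^ (b' + 1 - l)) =
      C ((N' + 1 : ℕ) : k) * (∑ l ∈ Finset.range (b' + 1),
        C (((i.choose l) * (N'.choose (b' - l)) : ℕ) : k) * X ^ (b' - l)) := by
  ext m
  rw [coeff_derivative, coeff_C_mul, coeff_h, coeff_h]
  unfold aco
  by_cases hm : m ≤ b'
  · rw [if_pos hm, if_pos (by omega)]
    have e : b' + 1 - (m + 1) = b' - m := by omega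
    rw [e]
    have := Nat.add_one_mul_choose_eq N' m
    have h2 : (((N' + 1).choose (m + 1) : ℕ) : k) * ((m : k) + 1) = ((N' + 1 : ℕ) : k) * (N'.choose m : k) := by
      have := congrArg (Nat.cast (R := k)) this
      push_cast at this ⊢
      linear_combination -this
    push_cast at h2 ⊢
    linear_combination (i.choose (b' - m) : k) * h2
  · rw [if_neg hm, if_neg (by omega)]
    simp

lemma not_both_zero {k : Type*} [Field k] [CharZero k] (a b' i N' : ℕ)
    (hsum : a + b' = i + N') (q : k) (hq : q ≠ 0)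
    (hu : (((X : k[X]) + 1) ^ i * ((X - C q) ^ N' * X)).coeff a = 0)
    (hv : (((X : k[X]) + 1) ^ i * (X - C q) ^ N').coeff a = 0) : False := by
  have hXq : (X : k[X]) - C q = X + C (-q) := by simp [sub_eq_add_neg]
  -- v = h2(-q)
  have A2 := claimA (k := k) i N' b' a hsum (-q)
  rw [← hXq, hv] at A2
  have A1 := claimA (k := k) i (N' + 1) (b' + 1) a (by omega) (-q)
  rw [← hXq] at A1
  have hu' : (((X : k[X]) + 1) ^ i * (X - C q) ^ (N' + 1)).coeff a = 0 := by
    have e : ((X : k[X]) + 1) ^ i * (X - C q) ^ (N' + 1) =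
        ((X : k[X]) + 1) ^ i * ((X - C q) ^ N' * X) - C q * (((X : k[X]) + 1) ^ i * (X - C q) ^ N') := by
      ring
    rw [e, coeff_sub, coeff_C_mul, hu, hv]; simp
  rw [hu'] at A1
  -- h1 ≠ 0
  have A1one := claimA (k := k) i (N' + 1) (b' + 1) a (by omega) 1
  have hne : (∑ l ∈ Finset.range (b' + 1 + 1),
        C (((i.choose l) * ((N' + 1).choose (b' + 1 - l)) : ℕ) : k) * X ^ (b' + 1 - l)) ≠ 0 := by
    intro h0
    rw [h0, eval_zero, C_1, ← pow_add, coeff_X_add_one_pow] at A1one
    have : (i + (N' + 1)).choose a ≠ 0 := (Nat.choose_pos (by omega)).ne'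
    exact (Nat.cast_ne_zero.2 this) A1one.symm
  have hmult : 1 < rootMultiplicity (-q) (∑ l ∈ Finset.range (b' + 1 + 1),
        C (((i.choose l) * ((N' + 1).choose (b' + 1 - l)) : ℕ) : k) * X ^ (b' + 1 - l)) := by
    rw [one_lt_rootMultiplicity_iff_isRoot hne]
    refine ⟨A1, ?_⟩
    rw [IsRoot, claimB, eval_mul, A2, mul_zero]
  by_cases hq1 : -q = 1
  · have A2one := claimA (k := k) i N' b' a hsum 1
    rw [← hq1, ← hXq] at A2one
    rw [hq1] at A2
    have hv1 : (((X : k[X]) + 1) ^ i * (X - C q) ^ N').coeff a = ((i + N').choose a : k) := by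
      rw [hXq, hq1, C_1, ← pow_add, coeff_X_add_one_pow]
    rw [hv] at hv1
    have : (i + N').choose a ≠ 0 := (Nat.choose_pos (by omega)).ne'
    exact (Nat.cast_ne_zero.2 this) hv1.symm
  · have := hyp_rootMultiplicity_le_one (k := k) i (N' + 1) (b' + 1) (-q) (neg_ne_zero.2 hq) hq1
    omega

end helpers

open Polynomial in
/-- Let `k` be a field of characteristic zero and `a, b, i` positive integers with `i < a + b`. On the
projective line with `A = 0`, `B = ∞`, `P = -1`, the system `V_{a,b} = H⁰(ω((1+a)A)) ⊕ H⁰(ω((1+b)B))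
⊆ H⁰(O(a+b))` is the space of polynomials of degree at most `a+b` with vanishing coefficient of
`X^a`, and `V = V_{a,b}(-iP)` (divided by `(X+1)^i`) is the space of `G` of degree at most `a+b-i`
such that the coefficient of `X^a` in `(X+1)^i G` vanishes; it is a linear system of dimension and
degree `a+b-i`. Then no point of the projective line other than `A` and `B` is a special
ramification point of `V` (a point of weight at least two); for such a system a point `q` of the
affine line is special exactly when two independent members are divisible by `(X-q)^(a+b-i-1)`, so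
the statement is that this fails for every `q ≠ 0`. (The published statement does not except `A` and
`B`, but `A` has weight `max(b-i, 0)` in `V`, which is `2` for `a = 1, b = 3, i = 1`: there `X^3`
and `X^2` both lie in `V`. It is stated over the complex numbers.) -/
theorem result
    (k : Type*) [Field k] [CharZero k] (a b i : ℕ) (ha : 0 < a) (hb : 0 < b) (hi : 0 < i) (hiab : i < a + b)
    (V : Submodule k (Polynomial k))
    (hV : V = Polynomial.degreeLE k ↑(a + b - i) ⊓
      LinearMap.ker ((Polynomial.lcoeff k a).comp (LinearMap.mulLeft k (((X : Polynomial k) + 1) ^ i))))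
    (q : k) (hq : q ≠ 0) :
    Module.finrank k ↥(V ⊓ (Ideal.span {(X - C q) ^ (a + b - i - 1)}).restrictScalars k) ≤ 1 := by
  obtain ⟨N', hN'⟩ : ∃ N', a + b - i = N' + 1 := ⟨a + b - i - 1, by omega⟩
  obtain ⟨b', hb'⟩ : ∃ b', b = b' + 1 := ⟨b - 1, by omega⟩
  have hsum : a + b' = i + N' := by omega
  rw [hN'] at hV ⊢
  rw [Nat.add_sub_cancel]
  obtain ⟨P, hP⟩ : ∃ P : k[X], P = (X - C q) ^ N' := ⟨_, rfl⟩
  rw [← hP]
  obtain ⟨u, hu⟩ : ∃ u : k, u = (((X : k[X]) + 1) ^ i * (P * X)).coeff a := ⟨_, rfl⟩
  obtain ⟨v, hv⟩ : ∃ v : k, v = (((X : k[X]) + 1) ^ i * P).coeff a := ⟨_, rfl⟩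
  have huv : ¬ (u = 0 ∧ v = 0) := by
    rintro ⟨hu0, hv0⟩
    rw [hu, hP] at hu0
    rw [hv, hP] at hv0
    exact not_both_zero a b' i N' hsum q hq hu0 hv0
  have hPne : P ≠ 0 := by rw [hP]; exact pow_ne_zero _ (X_sub_C_ne_zero q)
  have hPdeg : P.natDegree = N' := by
    rw [hP, natDegree_pow, natDegree_X_sub_C, mul_one]
  have hle : V ⊓ (Ideal.span {P}).restrictScalars k ≤ Submodule.span k {P * (C v * X - C u)} := by
    intro G hG
    obtain ⟨hGV, hGJ⟩ := hG
    rw [hV] at hGV
    obtain ⟨hGdeg, hGker⟩ := hGV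
    have hGJ' : G ∈ Ideal.span {P} := hGJ
    obtain ⟨r, hr⟩ := Ideal.mem_span_singleton.1 hGJ'
    by_cases hr0 : r = 0
    · rw [hr, hr0, mul_zero]; exact Submodule.zero_mem _
    · have hnd : G.natDegree ≤ N' + 1 := by
        have hGdeg' : G ∈ degreeLE k ↑(N' + 1) := hGdeg
        rw [mem_degreeLE] at hGdeg'
        exact natDegree_le_iff_degree_le.2 hGdeg'
      have hrdeg : r.natDegree ≤ 1 := by
        rw [hr, natDegree_mul hPne hr0, hPdeg] at hnd
        omega
      obtain ⟨α, β, hαβ⟩ := exists_eq_X_add_C_of_natDegree_le_one hrdeg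
      have hlin : α * u + β * v = 0 := by
        have h0 : (((X : k[X]) + 1) ^ i * G).coeff a = 0 := hGker
        have e : ((X : k[X]) + 1) ^ i * G = C α * (((X : k[X]) + 1) ^ i * (P * X)) +
            C β * (((X : k[X]) + 1) ^ i * P) := by
          rw [hr, hαβ]; ring
        rw [e, coeff_add, coeff_C_mul, coeff_C_mul, ← hu, ← hv] at h0
        exact h0
      obtain ⟨t, ht1, ht2⟩ : ∃ t : k, α = t * v ∧ β = -(t * u) := by
        by_cases hv0 : v = 0
        · have hu0 : u ≠ 0 := fun h => huv ⟨h, hv0⟩
          rw [hv0, mul_zero, add_zero] at hlin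
          have hα : α = 0 := by
            rcases mul_eq_zero.1 hlin with h | h
            · exact h
            · exact absurd h hu0
          refine ⟨-β / u, ?_, ?_⟩
          · rw [hα, hv0, mul_zero]
          · field_simp
        · refine ⟨α / v, ?_, ?_⟩
          · field_simp
          · field_simp
            linear_combination hlin
      rw [Submodule.mem_span_singleton]
      refine ⟨t, ?_⟩
      rw [hr, hαβ, ht1, ht2, Algebra.smul_def, algebraMap_eq]
      simp only [C_mul, C_neg]
      ring
  calc Module.finrank k ↥(V ⊓ (Ideal.span {P}).restrictScalars k)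
      ≤ Module.finrank k ↥(Submodule.span k {P * (C v * X - C u)}) := Submodule.finrank_mono hle
    _ ≤ 1 := by
        refine (finrank_span_le_card ({P * (C v * X - C u)} : Set k[X])).trans ?_
        simp

end Groth.Agent.S16262
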