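import Groth.Statements.S16263
import Mathlib
-- import your own Groth.Agent.* helpers here

set_option autoImplicit false
open W4c3wronskmg

namespace Groth.Agent.S16263

open Polynomial in
/-- Let `k` be a field of characteristic zero and `a` a positive integer. On the projective line with `A
= 0`, `B = -1`, `C = ∞`, the `(a+1)`-dimensional system `V = H⁰(ω((1+a)C)) ⊕ H⁰(ω(A+B)) ⊆
H⁰(ω((1+a)C + A + B)) ≅ H⁰(O(a+1))` is, in the affine coordinate, the space of polynomials `c + X
(X+1) F` with `c` a constant and `deg F ≤ a - 1`. Then `V` has no special ramification point (no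
point of weight at least two): since the members have degree at most `a + 1`, this says that for
every point `p` of the affine line at most a one-dimensional subspace of `V` is divisible by
`(X-p)^a`, and at `C` that at most a one-dimensional subspace has degree at most one (degree less
than two). (The published statement carries two further positive integers `i, j` with `i + j = a -
1`, used only in its second assertion, and is over the complex numbers.) -/
theorem result
    (k : Type*) [Field k] [CharZero k] (a : ℕ) (ha : 0 < a)
    (V : Submodule k (Polynomial k))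
    (hV : V = Submodule.span k {(1 : Polynomial k)} ⊔
      ((Ideal.span {(X : Polynomial k) * (X + 1)}).restrictScalars k ⊓ Polynomial.degreeLE k ↑(a + 1))) :
    (∀ p : k, Module.finrank k ↥(V ⊓ (Ideal.span {(X - C p) ^ a}).restrictScalars k) ≤ 1) ∧
      Module.finrank k ↥(V ⊓ Polynomial.degreeLT k 2) ≤ 1 := by
  subst hV
  constructor
  · intro p
    set A : k := (-1 - p) ^ a with hA
    set Bc : k := (-p) ^ a - (-1 - p) ^ a with hBc
    set v0 : k[X] := (X - C p) ^ a * (C Bc * X - C A) with hv0
    have hle : (Submodule.span k {(1 : Polynomial k)} ⊔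
        ((Ideal.span {(X : Polynomial k) * (X + 1)}).restrictScalars k ⊓
          Polynomial.degreeLE k ↑(a + 1))) ⊓
        (Ideal.span {(X - C p) ^ a}).restrictScalars k ≤ Submodule.span k {v0} := by
      rintro w ⟨hwV, hwI⟩
      obtain ⟨u, hu, y, ⟨hyI, hyd⟩, rfl⟩ := Submodule.mem_sup.1 hwV
      obtain ⟨c, rfl⟩ := Submodule.mem_span_singleton.1 hu
      rw [SetLike.mem_coe, Submodule.restrictScalars_mem, Ideal.mem_span_singleton] at hyI
      obtain ⟨G, rfl⟩ := hyI
      rw [SetLike.mem_coe, Submodule.restrictScalars_mem, Ideal.mem_span_singleton] at hwI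
      obtain ⟨Q, hQ⟩ := hwI
      rw [SetLike.mem_coe, Polynomial.mem_degreeLE] at hyd
      -- degree bound
      have hdeg : (c • (1 : k[X]) + X * (X + 1) * G).degree ≤ ((a + 1 : ℕ) : WithBot ℕ) := by
        refine (degree_add_le _ _).trans (max_le ?_ hyd)
        rw [Algebra.smul_def, mul_one]
        exact (degree_C_le).trans (by exact_mod_cast Nat.zero_le _)
      have hQdeg : Q.natDegree ≤ 1 := by
        by_cases hQ0 : Q = 0
        · rw [hQ0]; simp
        · have hne : (X - C p) ^ a ≠ 0 := pow_ne_zero _ (X_sub_C_ne_zero p)
          have h1 := natDegree_le_of_degree_le hdeg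
          rw [hQ, natDegree_mul hne hQ0, natDegree_pow, natDegree_X_sub_C, mul_one] at h1
          omega
      have hQeq := eq_X_add_C_of_natDegree_le_one hQdeg
      set α := Q.coeff 1
      set β := Q.coeff 0
      -- evaluate at 0 and -1
      have e0 := congrArg (eval 0) hQ
      have e1 := congrArg (eval (-1)) hQ
      rw [hQeq] at e0 e1
      simp only [eval_add, eval_smul, eval_one, eval_mul, eval_X, eval_pow, eval_sub, eval_C,
        smul_eq_mul, mul_one, zero_mul, mul_zero, add_zero, zero_add, zero_sub] at e0 e1
      have e1' : c = (-1 - p) ^ a * (-α + β) := by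
        have : (-1 + 1 : k) = 0 := by ring
        rw [this] at e1
        simp only [mul_zero, zero_mul, add_zero] at e1
        rw [e1]; ring
      have hrel : A * α + Bc * β = 0 := by
        rw [hA, hBc]
        have : (-p) ^ a * β = (-1 - p) ^ a * (-α + β) := by rw [← e0, e1']
        linear_combination this
      rw [hQ, hQeq, Submodule.mem_span_singleton]
      by_cases hA0 : A = 0
      · have hB0 : Bc ≠ 0 := by
          rw [hBc]
          rw [hA, pow_eq_zero_iff ha.ne'] at hA0
          have hp : p = -1 := by linear_combination -hA0
          rw [hp]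
          simp [zero_pow ha.ne']
        have hβ : β = 0 := by
          rw [hA0, zero_mul, zero_add] at hrel
          exact (mul_eq_zero.1 hrel).resolve_left hB0
        refine ⟨α / Bc, ?_⟩
        rw [hv0, hA0, hβ, Algebra.smul_def, algebraMap_eq]
        simp only [map_zero, sub_zero, add_zero]
        have : C (α / Bc) * ((X - C p) ^ a * (C Bc * X)) = (X - C p) ^ a * (C (α / Bc * Bc) * X) := by
          rw [C_mul]; ring
        rw [this, div_mul_cancel₀ _ hB0]
      · refine ⟨-β / A, ?_⟩
        have hα : α = -β / A * Bc := by
          field_simp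
          linear_combination hrel
        rw [hv0, Algebra.smul_def, algebraMap_eq]
        have : C (-β / A) * ((X - C p) ^ a * (C Bc * X - C A)) =
            (X - C p) ^ a * (C (-β / A * Bc) * X + C (-(-β / A * A))) := by
          simp only [C_mul, C_neg]; ring
        rw [this, ← hα, div_mul_cancel₀ _ hA0, neg_neg]
    calc Module.finrank k _ ≤ Module.finrank k (Submodule.span k {v0}) :=
          Submodule.finrank_mono hle
      _ ≤ 1 := (finrank_span_le_card {v0}).trans (by simp)
  · have hle : (Submodule.span k {(1 : Polynomial k)} ⊔
        ((Ideal.span {(X : Polynomial k) * (X + 1)}).restrictScalars k ⊓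
          Polynomial.degreeLE k ↑(a + 1))) ⊓ Polynomial.degreeLT k 2 ≤
        Submodule.span k {(1 : k[X])} := by
      rintro w ⟨hwV, hwd⟩
      obtain ⟨u, hu, y, ⟨hyI, -⟩, rfl⟩ := Submodule.mem_sup.1 hwV
      obtain ⟨c, rfl⟩ := Submodule.mem_span_singleton.1 hu
      rw [SetLike.mem_coe, Submodule.restrictScalars_mem, Ideal.mem_span_singleton] at hyI
      obtain ⟨G, rfl⟩ := hyI
      rw [SetLike.mem_coe, Polynomial.mem_degreeLT] at hwd
      have hG : G = 0 := by
        by_contra hG0
        have hX1 : (X : k[X]) + 1 ≠ 0 := by rw [← C_1]; exact X_add_C_ne_zero 1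
        have hXX : (X : k[X]) * (X + 1) ≠ 0 := mul_ne_zero X_ne_zero hX1
        have hd2 : (X * (X + 1) * G).natDegree = 2 + G.natDegree := by
          rw [natDegree_mul hXX hG0, natDegree_mul X_ne_zero hX1, natDegree_X]
          have : ((X : k[X]) + 1).natDegree = 1 := by rw [← C_1]; exact natDegree_X_add_C 1
          rw [this]
        have hlt : (c • (1 : k[X])).degree < (X * (X + 1) * G).degree := by
          rw [Algebra.smul_def, mul_one]
          refine lt_of_le_of_lt degree_C_le ?_
          rw [degree_eq_natDegree (mul_ne_zero hXX hG0), hd2]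
          exact_mod_cast (by omega : 0 < 2 + G.natDegree)
        rw [degree_add_eq_right_of_degree_lt hlt,
          degree_eq_natDegree (mul_ne_zero hXX hG0), hd2] at hwd
        have : (2 + G.natDegree : ℕ) < 2 := by exact_mod_cast hwd
        omega
      rw [hG, mul_zero, add_zero]
      exact Submodule.smul_mem _ _ (Submodule.mem_span_singleton_self _)
    calc Module.finrank k _ ≤ Module.finrank k (Submodule.span k {(1 : k[X])}) :=
          Submodule.finrank_mono hle
      _ ≤ 1 := (finrank_span_le_card {(1 : k[X])}).trans (by simp)

end Groth.Agent.S16263
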