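import Groth.Statements.S16264
import Mathlib
-- import your own Groth.Agent.* helpers here

set_option autoImplicit false
open W4c3wronskmg

namespace Groth.Agent.S16264

open Polynomial in
/-- Let `k` be a field of characteristic zero and `a, i, j` positive integers with `i + j = a - 1`. With
`A = 0`, `B = -1`, `C = ∞` on the projective line and `V` the `(a+1)`-dimensional system of
polynomials `c + X (X+1) F`, `deg F ≤ a - 1` (that is, `H⁰(ω((1+a)C)) ⊕ H⁰(ω(A+B)) ⊆ H⁰(O(a+1))`),
the pairs of points `(P, Q) = (p, q)` of the affine line with `dim V(-iP-jQ) ≥ 3`, i.e. with at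
least a three-dimensional subspace of `V` divisible by `(X-p)^i (X-q)^j`, are exactly `(A, B)` and
`(B, A)`. (Here `P, Q` range over the points other than `C`; when one of them is `C` the dimension
is at most two for degree reasons. The published statement is over the complex numbers.) -/
theorem result
    (k : Type*) [Field k] [CharZero k] (a i j : ℕ) (hi : 0 < i) (hj : 0 < j) (hij : i + j + 1 = a)
    (V : Submodule k (Polynomial k))
    (hV : V = Submodule.span k {(1 : Polynomial k)} ⊔
      ((Ideal.span {(X : Polynomial k) * (X + 1)}).restrictScalars k ⊓ Polynomial.degreeLE k ↑(a + 1)))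
    (p q : k) :
    3 ≤ Module.finrank k ↥(V ⊓ (Ideal.span {(X - C p) ^ i * (X - C q) ^ j}).restrictScalars k) ↔
      (p = 0 ∧ q = -1) ∨ (p = -1 ∧ q = 0) := by
  classical
  obtain ⟨D, hD⟩ : ∃ D : k[X], D = (X - C p) ^ i * (X - C q) ^ j := ⟨_, rfl⟩
  rw [← hD]
  have hDne : D ≠ 0 := by
    rw [hD]
    exact mul_ne_zero (pow_ne_zero _ (X_sub_C_ne_zero p)) (pow_ne_zero _ (X_sub_C_ne_zero q))
  have hDdeg : D.natDegree = i + j := by
    rw [hD, natDegree_mul (pow_ne_zero _ (X_sub_C_ne_zero p)) (pow_ne_zero _ (X_sub_C_ne_zero q)),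
      natDegree_pow, natDegree_pow, natDegree_X_sub_C, natDegree_X_sub_C, mul_one, mul_one]
  have hD0 : eval 0 D = 0 ↔ (p = 0 ∨ q = 0) := by
    rw [hD]
    simp only [eval_mul, eval_pow, eval_sub, eval_X, eval_C, zero_sub, mul_eq_zero, pow_eq_zero_iff hi.ne',
      pow_eq_zero_iff hj.ne', neg_eq_zero]
  have hD1 : eval (-1) D = 0 ↔ (p = -1 ∨ q = -1) := by
    rw [hD]
    simp only [eval_mul, eval_pow, eval_sub, eval_X, eval_C, mul_eq_zero, pow_eq_zero_iff hi.ne',
      pow_eq_zero_iff hj.ne', sub_eq_zero]
    constructor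
    · rintro (h | h)
      · exact Or.inl h.symm
      · exact Or.inr h.symm
    · rintro (h | h)
      · exact Or.inl h.symm
      · exact Or.inr h.symm
  have h01 : (0 : k) ≠ -1 := by
    intro h
    have : (1 : k) = 0 := by linear_combination h
    exact one_ne_zero this
  have hcond : (p = 0 ∧ q = -1) ∨ (p = -1 ∧ q = 0) ↔ (eval 0 D = 0 ∧ eval (-1) D = 0) := by
    rw [hD0, hD1]
    constructor
    · rintro (⟨h1, h2⟩ | ⟨h1, h2⟩)
      · exact ⟨Or.inl h1, Or.inr h2⟩
      · exact ⟨Or.inr h2, Or.inl h1⟩
    · rintro ⟨h1 | h1, h2 | h2⟩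
      · exact absurd (h1.symm.trans h2) h01
      · exact Or.inl ⟨h1, h2⟩
      · exact Or.inr ⟨h2, h1⟩
      · exact absurd (h1.symm.trans h2) h01
  rw [hcond]
  -- membership in V forces G(0) = G(-1)
  have hVeval : ∀ G ∈ V, eval 0 G = eval (-1) G := by
    intro G hG
    rw [hV] at hG
    obtain ⟨y, hy, z, hz, rfl⟩ := Submodule.mem_sup.1 hG
    obtain ⟨c, rfl⟩ := Submodule.mem_span_singleton.1 hy
    have hz' : z ∈ Ideal.span {(X : k[X]) * (X + 1)} := hz.1
    obtain ⟨F, rfl⟩ := Ideal.mem_span_singleton.1 hz'
    simp [Algebra.smul_def]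
  have hVdeg : V ≤ degreeLE k ↑(a + 1) := by
    rw [hV]
    apply sup_le
    · rw [Submodule.span_singleton_le_iff_mem, mem_degreeLE]
      exact degree_one_le.trans (by exact_mod_cast Nat.zero_le _)
    · exact inf_le_right
  have hfin : Module.Finite k ↥(degreeLE k (↑(a + 1) : WithBot ℕ)) := by
    rw [degreeLE_eq_span_X_pow]
    exact Module.Finite.span_of_finite k (Finset.finite_toSet _)
  have hfin' : Module.Finite k ↥(V ⊓ (Ideal.span {D}).restrictScalars k) :=
    Submodule.finiteDimensional_of_le (inf_le_left.trans hVdeg)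
  constructor
  · -- (⇒) by contraposition
    intro h3
    by_contra hnot
    obtain ⟨l0, hl0⟩ : ∃ l0 : k, l0 = eval 0 D := ⟨_, rfl⟩
    obtain ⟨l1, hl1⟩ : ∃ l1 : k, l1 = eval (-1) D := ⟨_, rfl⟩
    rw [← hl0, ← hl1] at hnot
    have hle : V ⊓ (Ideal.span {D}).restrictScalars k ≤
        Submodule.span k {D * (X * (X + 1)), D * (C l1 + C (l1 - l0) * X)} := by
      intro G hG
      obtain ⟨hGV, hGJ⟩ := hG
      have hGJ' : G ∈ Ideal.span {D} := hGJ
      obtain ⟨R, hR⟩ := Ideal.mem_span_singleton.1 hGJ'
      by_cases hR0 : R = 0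
      · rw [hR, hR0, mul_zero]; exact Submodule.zero_mem _
      · have hnd : G.natDegree ≤ a + 1 := by
          have hGdeg' : G ∈ degreeLE k ↑(a + 1) := hVdeg hGV
          rw [mem_degreeLE] at hGdeg'
          exact natDegree_le_iff_degree_le.2 hGdeg'
        have hRdeg : R.natDegree < 3 := by
          rw [hR, natDegree_mul hDne hR0, hDdeg] at hnd
          omega
        have hRsum := as_sum_range' R 3 hRdeg
        simp only [Finset.sum_range_succ, Finset.sum_range_zero, zero_add] at hRsum
        obtain ⟨r0, hr0⟩ : ∃ r0 : k, r0 = R.coeff 0 := ⟨_, rfl⟩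
        obtain ⟨r1, hr1⟩ : ∃ r1 : k, r1 = R.coeff 1 := ⟨_, rfl⟩
        obtain ⟨r2, hr2⟩ : ∃ r2 : k, r2 = R.coeff 2 := ⟨_, rfl⟩
        rw [← hr0, ← hr1, ← hr2] at hRsum
        have hRform : R = C r0 + C r1 * X + C r2 * X ^ 2 := by
          rw [hRsum]
          simp only [← C_mul_X_pow_eq_monomial, pow_zero, mul_one, pow_one]
        have hev := hVeval G hGV
        rw [hR, eval_mul, eval_mul, ← hl0, ← hl1, hRform] at hev
        simp only [eval_add, eval_mul, eval_C, eval_X, eval_pow] at hev
        have hlin : (l0 - l1) * r0 + l1 * (r1 - r2) = 0 := by linear_combination hev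
        obtain ⟨t, ht1, ht2⟩ : ∃ t : k, r0 = t * l1 ∧ r1 - r2 = t * (l1 - l0) := by
          by_cases h1z : l1 = 0
          · have h0nz : l0 ≠ 0 := fun h => hnot ⟨h, h1z⟩
            rw [h1z] at hlin
            have hr0z : r0 = 0 := by
              have : l0 * r0 = 0 := by linear_combination hlin
              rcases mul_eq_zero.1 this with h | h
              · exact absurd h h0nz
              · exact h
            refine ⟨-(r1 - r2) / l0, ?_, ?_⟩
            · rw [hr0z, h1z, mul_zero]
            · rw [h1z]; field_simp; ring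
          · refine ⟨r0 / l1, ?_, ?_⟩
            · field_simp
            · field_simp
              linear_combination hlin
        rw [Submodule.mem_span_pair]
        refine ⟨r2, t, ?_⟩
        have hr1' : r1 = r2 + t * (l1 - l0) := by linear_combination ht2
        rw [hR, hRform, ht1, hr1', Algebra.smul_def, Algebra.smul_def, algebraMap_eq]
        simp only [C_mul, C_add, C_sub]
        ring
    have hfin2 : Module.finrank k ↥(Submodule.span k
        ({D * (X * (X + 1)), D * (C l1 + C (l1 - l0) * X)} : Set k[X])) ≤ 2 := by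
      have := finrank_span_finset_le_card (R := k)
        ({D * (X * (X + 1)), D * (C l1 + C (l1 - l0) * X)} : Finset k[X])
      rw [Finset.coe_pair] at this
      exact this.trans Finset.card_le_two
    have hfin3 : Module.Finite k ↥(Submodule.span k
        ({D * (X * (X + 1)), D * (C l1 + C (l1 - l0) * X)} : Set k[X])) :=
      Module.Finite.span_of_finite k (Set.toFinite _)
    have := Submodule.finrank_mono hle
    omega
  · rintro ⟨h0, h1⟩
    have hX : (X : k[X]) ∣ D := by
      have := (dvd_iff_isRoot (p := D) (a := 0)).2 h0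
      simpa using this
    have hX1 : (X : k[X]) + 1 ∣ D := by
      have := (dvd_iff_isRoot (p := D) (a := -1)).2 h1
      simpa using this
    have hcop : IsCoprime (X : k[X]) (X + 1) := ⟨-1, 1, by ring⟩
    have hXX1 : (X : k[X]) * (X + 1) ∣ D := hcop.mul_dvd hX hX1
    have hmem : ∀ t : Fin 3, D * X ^ (t : ℕ) ∈ V ⊓ (Ideal.span {D}).restrictScalars k := by
      intro t
      refine ⟨?_, ?_⟩
      · rw [hV]
        apply Submodule.mem_sup_right
        refine ⟨?_, ?_⟩
        · show D * X ^ (t : ℕ) ∈ Ideal.span {(X : k[X]) * (X + 1)}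
          exact Ideal.mem_span_singleton.2 (dvd_mul_of_dvd_left hXX1 _)
        · show D * X ^ (t : ℕ) ∈ degreeLE k ↑(a + 1)
          rw [mem_degreeLE]
          refine (degree_le_natDegree).trans ?_
          have : (D * X ^ (t : ℕ)).natDegree ≤ a + 1 := by
            rw [natDegree_mul hDne (pow_ne_zero _ X_ne_zero), hDdeg, natDegree_X_pow]
            have := t.2
            omega
          exact_mod_cast this
      · show D * X ^ (t : ℕ) ∈ Ideal.span {D}
        exact Ideal.mem_span_singleton.2 (dvd_mul_right _ _)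
    have hli : LinearIndependent k (fun t : Fin 3 => (⟨D * X ^ (t : ℕ), hmem t⟩ :
        ↥(V ⊓ (Ideal.span {D}).restrictScalars k))) := by
      apply LinearIndependent.of_comp (V ⊓ (Ideal.span {D}).restrictScalars k).subtype
      have hmono : LinearIndependent k (fun t : Fin 3 => (X : k[X]) ^ (t : ℕ)) := by
        have := (Polynomial.basisMonomials k).linearIndependent
        have h2 := this.comp (fun t : Fin 3 => (t : ℕ)) Fin.val_injective
        convert h2 using 1
        funext t
        simp [X_pow_eq_monomial]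
      have hinj : LinearMap.ker (LinearMap.mulLeft k D) = ⊥ := by
        rw [LinearMap.ker_eq_bot]
        intro x y hxy
        exact mul_left_cancel₀ hDne hxy
      exact hmono.map' (LinearMap.mulLeft k D) hinj
    have := hli.fintype_card_le_finrank
    simpa using this

end Groth.Agent.S16264
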