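import Groth.Statements.S16265
import Mathlib
import Groth.Agent.S18177
import Groth.Agent.Lib.Helper91.GenusOneTools

set_option autoImplicit false
open FunFld

namespace Groth.Agent.S16265

/-- Let `K/k` be a function field of one variable over an algebraically closed field `k` of
characteristic zero (the function field of a smooth projective curve), `D` a divisor and `V ⊆ L(D)`
a linear system of dimension `r + 1`; write `V(-mP-nQ) = V ∩ L(D - mP - nQ)` for the members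
vanishing to the indicated orders. Assume `V` has no special ramification point, i.e. no place of
weight at least two: for every place `R`, `dim V(-rR) ≤ 1` and `V(-(r+2)R) = 0`. Let `P ≠ Q` be
places and `a, b ≥ 1` with `a + b = r + 1` (so that `V(-aP)` and `V(-bQ)` have dimensions `b` and
`a`). Then the following are equivalent: (1) the system `V(-aP)` has weight at least two at `Q`,
that is `dim V(-aP-(b-1)Q) ≥ 2` or `dim V(-aP-(b+1)Q) ≥ 1`, and the system `V(-bQ)` has weight at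
least two at `P`, that is `dim V(-(a-1)P-bQ) ≥ 2` or `dim V(-(a+1)P-bQ) ≥ 1`; (2) one of (a) `dim
V(-(a+1)P-(b+1)Q) ≥ 1`, (b) `dim V(-(a-1)P-(b-1)Q) ≥ 3`, (c) `dim V(-aP-(b+1)Q) ≥ 1` and `dim
V(-(a-1)P-bQ) ≥ 2`, (d) `dim V(-(a+1)P-bQ) ≥ 1` and `dim V(-aP-(b-1)Q) ≥ 2`. (The published
statement is for a smooth curve over the complex numbers.) -/
theorem result
    (k K : Type*) [Field k] [IsAlgClosed k] [CharZero k] [Field K] [Algebra k K]
    (hK : FunFld.IsFunctionField k K) (D : FunFld.Divisor k K)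
    (V : Submodule k K) (hVD : V ≤ FunFld.L D) (r : ℕ) (hr : Module.finrank k ↥V = r + 1)
    (hns : ∀ R : FunFld.Place k K,
      Module.finrank k ↥(V ⊓ FunFld.L (D - Finsupp.single R (r : ℤ))) ≤ 1 ∧
        V ⊓ FunFld.L (D - Finsupp.single R ((r : ℤ) + 2)) = ⊥)
    (P Q : FunFld.Place k K) (hPQ : P ≠ Q) (a b : ℕ) (ha : 1 ≤ a) (hb : 1 ≤ b) (hab : a + b = r + 1) :
    ((2 ≤ Module.finrank k ↥(V ⊓ FunFld.L (D - Finsupp.single P (a : ℤ) - Finsupp.single Q ((b : ℤ) - 1 : ℤ))) ∨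
        1 ≤ Module.finrank k ↥(V ⊓ FunFld.L (D - Finsupp.single P (a : ℤ) - Finsupp.single Q ((b : ℤ) + 1 : ℤ)))) ∧
      (2 ≤ Module.finrank k ↥(V ⊓ FunFld.L (D - Finsupp.single P ((a : ℤ) - 1 : ℤ) - Finsupp.single Q (b : ℤ))) ∨
        1 ≤ Module.finrank k ↥(V ⊓ FunFld.L (D - Finsupp.single P ((a : ℤ) + 1 : ℤ) - Finsupp.single Q (b : ℤ))))) ↔
    (1 ≤ Module.finrank k ↥(V ⊓ FunFld.L (D - Finsupp.single P ((a : ℤ) + 1 : ℤ) - Finsupp.single Q ((b : ℤ) + 1 : ℤ))) ∨
      3 ≤ Module.finrank k ↥(V ⊓ FunFld.L (D - Finsupp.single P ((a : ℤ) - 1 : ℤ) - Finsupp.single Q ((b : ℤ) - 1 : ℤ))) ∨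
      (1 ≤ Module.finrank k ↥(V ⊓ FunFld.L (D - Finsupp.single P (a : ℤ) - Finsupp.single Q ((b : ℤ) + 1 : ℤ))) ∧
        2 ≤ Module.finrank k ↥(V ⊓ FunFld.L (D - Finsupp.single P ((a : ℤ) - 1 : ℤ) - Finsupp.single Q (b : ℤ)))) ∨
      (1 ≤ Module.finrank k ↥(V ⊓ FunFld.L (D - Finsupp.single P ((a : ℤ) + 1 : ℤ) - Finsupp.single Q (b : ℤ))) ∧
        2 ≤ Module.finrank k ↥(V ⊓ FunFld.L (D - Finsupp.single P (a : ℤ) - Finsupp.single Q ((b : ℤ) - 1 : ℤ))))) := by
  classical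
  open FunFld Module Groth.Agent.Lib.Helper55 Groth.Agent.Lib.Helper91.GenusOne in
  have hVfin : Module.Finite k V := Module.finite_of_finrank_pos (by omega)
  set w : ℤ → ℤ → ℕ := fun m n =>
    finrank k ↥(V ⊓ L (D - Finsupp.single P m - Finsupp.single Q n)) with hw
  have hfin : ∀ m n : ℤ, FiniteDimensional k ↥(V ⊓ L (D - Finsupp.single P m - Finsupp.single Q n)) :=
    fun m n => Submodule.finiteDimensional_of_le inf_le_left
  -- monotonicity
  have hmono : ∀ m m' n n' : ℤ, m ≤ m' → n ≤ n' → w m' n' ≤ w m n := by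
    intro m m' n n' hm hn
    apply Submodule.finrank_mono
    apply inf_le_inf_left
    apply ff_L_mono
    apply sub_le_sub (sub_le_sub_left _ _)
    · rw [Finsupp.single_le_single]; exact hn
    · rw [Finsupp.single_le_single]; exact hm
  -- steps
  have hstepQ : ∀ m n : ℤ, w m n ≤ w m (n + 1) + 1 := by
    intro m n
    exact Groth.Agent.S18177.step hK (D - Finsupp.single P m) V Q n
  have hstepP : ∀ m n : ℤ, w m n ≤ w (m + 1) n + 1 := by
    intro m n
    have := Groth.Agent.S18177.step hK (D - Finsupp.single Q n) V P m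
    rw [sub_right_comm D (Finsupp.single Q n) (Finsupp.single P m),
      sub_right_comm D (Finsupp.single Q n) (Finsupp.single P (m + 1))] at this
    exact this
  -- intersection
  have hinter : ∀ m n : ℤ, w (m + 1) n + w m (n + 1) ≤ w m n + w (m + 1) (n + 1) := by
    intro m n
    have h1 : finrank k ↥((V ⊓ L (D - Finsupp.single P (m + 1) - Finsupp.single Q n)) ⊔
        (V ⊓ L (D - Finsupp.single P m - Finsupp.single Q (n + 1)))) +
        finrank k ↥((V ⊓ L (D - Finsupp.single P (m + 1) - Finsupp.single Q n)) ⊓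
        (V ⊓ L (D - Finsupp.single P m - Finsupp.single Q (n + 1)))) =
        w (m + 1) n + w m (n + 1) := Submodule.finrank_sup_add_finrank_inf_eq
      (V ⊓ L (D - Finsupp.single P (m + 1) - Finsupp.single Q n))
      (V ⊓ L (D - Finsupp.single P m - Finsupp.single Q (n + 1)))
    have h2 : finrank k ↥((V ⊓ L (D - Finsupp.single P (m + 1) - Finsupp.single Q n)) ⊔
        (V ⊓ L (D - Finsupp.single P m - Finsupp.single Q (n + 1)))) ≤ w m n := by
      apply Submodule.finrank_mono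
      apply sup_le
      · apply inf_le_inf_left
        apply ff_L_mono
        apply sub_le_sub_right
        apply sub_le_sub_left
        rw [Finsupp.single_le_single]; omega
      · apply inf_le_inf_left
        apply ff_L_mono
        apply sub_le_sub_left
        rw [Finsupp.single_le_single]; omega
    have h3 : finrank k ↥((V ⊓ L (D - Finsupp.single P (m + 1) - Finsupp.single Q n)) ⊓
        (V ⊓ L (D - Finsupp.single P m - Finsupp.single Q (n + 1)))) ≤ w (m + 1) (n + 1) := by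
      apply Submodule.finrank_mono
      rintro x ⟨⟨hxV, hx1⟩, ⟨_, hx2⟩⟩
      refine ⟨hxV, ?_⟩
      apply L_inf_le_of_pointwise _ _ _ _ ⟨hx1, hx2⟩
      intro R
      by_cases hR : R = Q
      · right
        subst hR
        simp [Finsupp.single_apply, hPQ]
      · left
        simp [Finsupp.single_apply, Ne.symm hR]
    omega
  -- instances used
  have s1 := hstepP ((a : ℤ) - 1) ((b : ℤ) - 1)
  have s2 := hstepQ ((a : ℤ) - 1) ((b : ℤ) - 1)
  have s3 := hstepP (a : ℤ) (b : ℤ)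
  have i1 := hinter ((a : ℤ) - 1) ((b : ℤ) - 1)
  have i2 := hinter (a : ℤ) (b : ℤ)
  have m1 := hmono (a : ℤ) (a : ℤ) ((b : ℤ) - 1) (b : ℤ) le_rfl (by omega)
  have m2 := hmono (a : ℤ) ((a : ℤ) + 1) ((b : ℤ) + 1) ((b : ℤ) + 1) (by omega) le_rfl
  have m3 := hmono ((a : ℤ) + 1) ((a : ℤ) + 1) (b : ℤ) ((b : ℤ) + 1) le_rfl (by omega)
  rw [sub_add_cancel] at s1 s2 i1
  rw [sub_add_cancel] at i1
  show (2 ≤ w (a : ℤ) ((b : ℤ) - 1) ∨ 1 ≤ w (a : ℤ) ((b : ℤ) + 1)) ∧
      (2 ≤ w ((a : ℤ) - 1) (b : ℤ) ∨ 1 ≤ w ((a : ℤ) + 1) (b : ℤ)) ↔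
    (1 ≤ w ((a : ℤ) + 1) ((b : ℤ) + 1) ∨ 3 ≤ w ((a : ℤ) - 1) ((b : ℤ) - 1) ∨
      (1 ≤ w (a : ℤ) ((b : ℤ) + 1) ∧ 2 ≤ w ((a : ℤ) - 1) (b : ℤ)) ∨
      (1 ≤ w ((a : ℤ) + 1) (b : ℤ) ∧ 2 ≤ w (a : ℤ) ((b : ℤ) - 1)))
  omega

end Groth.Agent.S16265
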