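import Groth.Statements.S16266
import Mathlib
import Groth.Agent.S18176
import Groth.Agent.Lib.Helper55.FunFld.Divisors

set_option autoImplicit false
open FunFld

namespace Groth.Agent.S16266

/-- Let `K/k` be a function field of one variable over an algebraically closed field `k` of
characteristic zero, `D` a divisor, `V ⊆ L(D)` a linear system of dimension `r + 1` with `r ≥ 1`,
and `P` a place with `V' = V(-P) = V ∩ L(D - P) ≠ V`, an `r`-dimensional system in `L(D - P)`.
Assume that neither `V` nor `V'` has a special ramification point (a place of weight at least two):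
for every place `R`, `dim V ∩ L(D - rR) ≤ 1`, `V ∩ L(D - (r+2)R) = 0`, `dim V' ∩ L(D - P - (r-1)R) ≤
1` and `V' ∩ L(D - P - (r+1)R) = 0`. Then no place `Q ≠ P` is a ramification point of both `V` and
`V'`: for no such `Q` are both `V ∩ L(D - (r+1)Q)` and `V' ∩ L(D - P - rQ)` nonzero. (The published
statement is for a smooth curve over the complex numbers.) -/
theorem result
    (k K : Type*) [Field k] [IsAlgClosed k] [CharZero k] [Field K] [Algebra k K]
    (hK : FunFld.IsFunctionField k K) (D : FunFld.Divisor k K)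
    (V : Submodule k K) (hVD : V ≤ FunFld.L D) (r : ℕ) (hr : Module.finrank k ↥V = r + 1) (hr1 : 1 ≤ r)
    (P : FunFld.Place k K) (hP : V ⊓ FunFld.L (D - Finsupp.single P 1) ≠ V)
    (hns : ∀ R : FunFld.Place k K,
      Module.finrank k ↥(V ⊓ FunFld.L (D - Finsupp.single R (r : ℤ))) ≤ 1 ∧
        V ⊓ FunFld.L (D - Finsupp.single R ((r : ℤ) + 2)) = ⊥)
    (hns' : ∀ R : FunFld.Place k K,
      Module.finrank k ↥(V ⊓ FunFld.L (D - Finsupp.single P 1 - Finsupp.single R ((r : ℤ) - 1))) ≤ 1 ∧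
        V ⊓ FunFld.L (D - Finsupp.single P 1 - Finsupp.single R ((r : ℤ) + 1)) = ⊥)
    (Q : FunFld.Place k K) (hQP : Q ≠ P) :
    ¬ (V ⊓ FunFld.L (D - Finsupp.single Q ((r : ℤ) + 1)) ≠ ⊥ ∧
       V ⊓ FunFld.L (D - Finsupp.single P 1 - Finsupp.single Q (r : ℤ)) ≠ ⊥) := by
  classical
  open FunFld Module Groth.Agent.Lib.Helper55 in
  rintro ⟨h1, h2⟩
  obtain ⟨g, hg, hg0⟩ := Submodule.exists_mem_ne_zero_of_ne_bot h1
  obtain ⟨f, hf, hf0⟩ := Submodule.exists_mem_ne_zero_of_ne_bot h2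
  have hVfin : Module.Finite k V := Module.finite_of_finrank_pos (by omega)
  -- both lie in the at most one-dimensional `V(-rQ)`
  have hle1 : D - Finsupp.single Q ((r : ℤ) + 1) ≤ D - Finsupp.single Q (r : ℤ) := by
    apply sub_le_sub_left
    rw [Finsupp.single_le_single]
    omega
  have hle2 : D - Finsupp.single P 1 - Finsupp.single Q (r : ℤ) ≤ D - Finsupp.single Q (r : ℤ) := by
    have : (0 : Divisor k K) ≤ Finsupp.single P 1 := by
      rw [Finsupp.single_nonneg]; norm_num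
    have h3 : D - Finsupp.single P 1 ≤ D := sub_le_self D this
    exact sub_le_sub_right h3 _
  have hle3 : D - Finsupp.single P 1 - Finsupp.single Q (r : ℤ) ≤ D - Finsupp.single P 1 := by
    apply sub_le_self
    rw [Finsupp.single_nonneg]
    omega
  have hgW : g ∈ V ⊓ L (D - Finsupp.single Q (r : ℤ)) := ⟨hg.1, ff_L_mono hle1 hg.2⟩
  have hfW : f ∈ V ⊓ L (D - Finsupp.single Q (r : ℤ)) := ⟨hf.1, ff_L_mono hle2 hf.2⟩
  have hWfin : Module.Finite k ↥(V ⊓ L (D - Finsupp.single Q (r : ℤ))) :=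
    Submodule.finiteDimensional_of_le inf_le_left
  have hdim := (hns Q).1
  -- f is a multiple of g
  obtain ⟨c, hc⟩ : ∃ c : k, c • g = f := by
    have hg' : (⟨g, hgW⟩ : ↥(V ⊓ L (D - Finsupp.single Q (r : ℤ)))) ≠ 0 := by
      intro h
      exact hg0 (congrArg Subtype.val h)
    have hpos : 0 < finrank k ↥(V ⊓ L (D - Finsupp.single Q (r : ℤ))) :=
      Module.finrank_pos_iff_exists_ne_zero.mpr ⟨_, hg'⟩
    have h1' : finrank k ↥(V ⊓ L (D - Finsupp.single Q (r : ℤ))) = 1 := by omega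
    obtain ⟨c, hc⟩ := (finrank_eq_one_iff_of_nonzero' _ hg').mp h1' ⟨f, hfW⟩
    exact ⟨c, congrArg Subtype.val hc⟩
  have hfQ : f ∈ L (D - Finsupp.single Q ((r : ℤ) + 1)) := by
    rw [← hc]
    exact Submodule.smul_mem _ c hg.2
  have hfP : f ∈ L (D - Finsupp.single P 1) := ff_L_mono hle3 hf.2
  have hfPQ : f ∈ L (D - Finsupp.single P 1 - Finsupp.single Q ((r : ℤ) + 1)) :=
    Groth.Agent.S18176.L_inf_le D P Q hQP.symm _ _ ⟨hfP, hfQ⟩
  have hbot := (hns' Q).2
  have : f ∈ (⊥ : Submodule k K) := by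
    rw [← hbot]
    exact ⟨hf.1, hfPQ⟩
  exact hf0 ((Submodule.mem_bot k).mp this)

end Groth.Agent.S16266
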