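import Groth.Statements.S16268
import Mathlib
-- import your own Groth.Agent.* helpers here

set_option autoImplicit false
universe u w
open CategoryTheory CategoryTheory.Limits AlgebraicGeometry Opposite
open EtCore

namespace Groth.Agent.S16268

/-- Let X be a scheme, Y an etale X-scheme with Y -> X surjective, and G a finite group acting on Y by
X-automorphisms such that the morphisms (id, g) : Y -> Y x_X Y exhibit Y x_X Y as the coproduct of
copies of Y indexed by G (Y -> X is a Galois covering with group G). Let P be a presheaf of sets on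
the small etale site of X which takes this coproduct to a product: s |-> (g |-> (id, g)^* s) is a
bijection from P(Y x_X Y) onto the G-indexed families in P(Y). Then P satisfies the sheaf condition
for the covering consisting of the single morphism Y -> X if and only if the restriction P(X) ->
P(Y) is injective and its image is the set of G-invariant elements of P(Y). -/
theorem result (X : Scheme.{u})
    (Y : X.Etale) (hY : Function.Surjective Y.hom.base)
    {G : Type u} [Group G] [Finite G] (σ : G →* Aut Y)
    (hgal : Nonempty (IsColimit (Cofan.mk (Y ⨯ Y) (fun g : G => prod.lift (𝟙 Y) (σ g).hom))))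
    (P : X.Etaleᵒᵖ ⥤ Type w)
    (hP : Function.Bijective (fun s : P.obj (op (Y ⨯ Y)) => fun g : G => P.map (prod.lift (𝟙 Y) (σ g).hom).op s)) :
    Presieve.IsSheafFor P (Presieve.singleton ((EtCore.topIsTerminal X).from Y)) ↔
      (Function.Injective (P.map ((EtCore.topIsTerminal X).from Y).op) ∧
        Set.range (P.map ((EtCore.topIsTerminal X).from Y).op) = {s | ∀ g : G, P.map (σ g).hom.op s = s}) := by
  rw [Presieve.isSheafFor_singleton]
  have hterm : ∀ {Z : X.Etale} (a b : Z ⟶ EtCoh.top X), a = b :=
    fun a b => (EtCore.topIsTerminal X).hom_ext a b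
  -- invariants give compatible
  have hinv : ∀ s : P.obj (op Y), (∀ g : G, P.map (σ g).hom.op s = s) →
      ∀ {Z : X.Etale} (p₁ p₂ : Z ⟶ Y), P.map p₁.op s = P.map p₂.op s := by
    intro s hs Z p₁ p₂
    have hfs : P.map (prod.fst : Y ⨯ Y ⟶ Y).op s = P.map (prod.snd : Y ⨯ Y ⟶ Y).op s := by
      apply hP.1
      funext g
      show P.map (prod.lift (𝟙 Y) (σ g).hom).op (P.map (prod.fst : Y ⨯ Y ⟶ Y).op s) =
        P.map (prod.lift (𝟙 Y) (σ g).hom).op (P.map (prod.snd : Y ⨯ Y ⟶ Y).op s)
      rw [← FunctorToTypes.map_comp_apply, ← FunctorToTypes.map_comp_apply, ← op_comp, ← op_comp,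
        prod.lift_fst, prod.lift_snd, hs g]
      simp
    have h1 : P.map p₁.op s = P.map (prod.lift p₁ p₂).op (P.map (prod.fst : Y ⨯ Y ⟶ Y).op s) := by
      rw [← FunctorToTypes.map_comp_apply, ← op_comp, prod.lift_fst]
    have h2 : P.map p₂.op s = P.map (prod.lift p₁ p₂).op (P.map (prod.snd : Y ⨯ Y ⟶ Y).op s) := by
      rw [← FunctorToTypes.map_comp_apply, ← op_comp, prod.lift_snd]
    rw [h1, h2, hfs]
  have hrange : ∀ t, ∀ g : G, P.map (σ g).hom.op (P.map ((EtCore.topIsTerminal X).from Y).op t) =
      P.map ((EtCore.topIsTerminal X).from Y).op t := by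
    intro t g
    rw [← FunctorToTypes.map_comp_apply, ← op_comp, hterm ((σ g).hom ≫ _) _]
  constructor
  · intro H
    refine ⟨?_, ?_⟩
    · intro t₁ t₂ h
      obtain ⟨y, _, hy⟩ := H (P.map ((EtCore.topIsTerminal X).from Y).op t₁)
        (fun p₁ p₂ _ => hinv _ (hrange t₁) p₁ p₂)
      rw [hy t₁ rfl, hy t₂ h.symm]
    · ext s
      constructor
      · rintro ⟨t, rfl⟩
        exact hrange t
      · intro hs
        obtain ⟨y, hy, _⟩ := H s (fun p₁ p₂ _ => hinv s hs p₁ p₂)
        exact ⟨y, hy⟩
  · rintro ⟨hinj, hr⟩ s hs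
    have hs' : s ∈ {s | ∀ g : G, P.map (σ g).hom.op s = s} := by
      intro g
      have := hs (σ g).hom (𝟙 Y) (hterm _ _)
      simpa using this
    rw [← hr] at hs'
    obtain ⟨t, ht⟩ := hs'
    exact ⟨t, ht, fun t' ht' => hinj (ht'.trans ht.symm)⟩

end Groth.Agent.S16268
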