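import Groth.Statements.S16269
import Mathlib
import Groth.Agent.S16268
import Groth.Agent.Lib.Helper11.SmallEtOpens

set_option autoImplicit false
set_option linter.style.haveILetI false
set_option linter.unusedSimpArgs false
set_option linter.deprecated false
universe u w
open CategoryTheory CategoryTheory.Limits AlgebraicGeometry Opposite
open EtCore

namespace Groth.Agent.S16269

open Groth.Agent.Lib.Helper11.SmallEtOpens

variable {X : Scheme.{u}}

/-- the injections of a coproduct cofan in `X.Etale` are jointly surjective -/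
theorem cofan_jointly_surjective {ι : Type u} {Z : ι → X.Etale} (c : Cofan Z) (hc : IsColimit c)
    (x : c.pt.left) : ∃ (i : ι) (y : (Z i).left), (c.inj i).left y = x := by
  let W : c.pt.left.Opens := ⟨⋃ i, Set.range (c.inj i).left,
    isOpen_iUnion fun i => (c.inj i).left.isOpenMap.isOpen_range⟩
  have hW : ∀ i, Set.range (c.inj i).left ⊆ (W : Set c.pt.left) := fun i y hy =>
    Set.mem_iUnion.2 ⟨i, hy⟩
  let r : c.pt ⟶ opn c.pt W := Cofan.IsColimit.desc hc (fun i => opnLift (c.inj i) W (hW i))
  have hr : r ≫ opnι c.pt W = 𝟙 _ := by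
    apply Cofan.IsColimit.hom_ext hc
    intro i
    rw [← Category.assoc, Cofan.IsColimit.fac, opnLift_ι, Category.comp_id]
  have hx : x ∈ Set.range (opnι c.pt W).left := by
    refine ⟨r.left x, ?_⟩
    have e := congrArg (fun t => t.left) hr
    have e2 : r.left ≫ (opnι c.pt W).left = 𝟙 _ := e
    have e3 := congrArg (fun φ => φ.base x) e2
    exact e3
  rw [range_opnι] at hx
  obtain ⟨i, y, hy⟩ := Set.mem_iUnion.1 hx
  exact ⟨i, y, hy⟩

/-- the injections of a coproduct cofan in `X.Etale` are disjoint -/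
theorem cofan_disjoint {ι : Type u} {Z : ι → X.Etale} (c : Cofan Z) (hc : IsColimit c)
    {i j : ι} (hij : i ≠ j) {T : X.Etale} (a : T ⟶ Z i) (b : T ⟶ Z j)
    (e : a ≫ c.inj i = b ≫ c.inj j) : IsEmpty T.left := by
  haveI : Etale (Sigma.desc fun m : ι => (Z m).hom) :=
    IsZariskiLocalAtSource.sigmaDesc (fun m => inferInstance)
  let E : X.Etale := Scheme.Etale.mk (Sigma.desc fun m : ι => (Z m).hom)
  let ιE : ∀ m : ι, Z m ⟶ E := fun m =>
    MorphismProperty.Over.homMk (Sigma.ι (fun m : ι => (Z m).left) m)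
      (Sigma.ι_desc _ _) trivial
  let d : c.pt ⟶ E := Cofan.IsColimit.desc hc ιE
  have hd : ∀ m, c.inj m ≫ d = ιE m := fun m => Cofan.IsColimit.fac hc ιE m
  have e2 : a ≫ ιE i = b ≫ ιE j := by
    rw [← hd, ← hd, ← Category.assoc, ← Category.assoc, e]
  have e3 : a.left ≫ Sigma.ι (fun m : ι => (Z m).left) i =
      b.left ≫ Sigma.ι (fun m : ι => (Z m).left) j := congrArg (fun t => t.left) e2
  exact AlgebraicGeometry.isEmpty_of_commSq_sigmaι_of_ne ⟨e3⟩ hij

/-- sections over an empty object of a sheaf of types are unique -/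
theorem subsingleton_of_isEmpty (P : X.Etaleᵒᵖ ⥤ Type w)
    (hP : Presieve.IsSheaf X.smallEtaleTopology P) (T : X.Etale) [IsEmpty T.left] :
    Subsingleton (P.obj (op T)) := by
  have hbot : (⊥ : Sieve T) ∈ X.smallEtaleTopology T := by
    rw [mem_et_iff]
    intro x
    exact (IsEmpty.false x).elim
  refine ⟨fun s t => ?_⟩
  exact (hP _ hbot).isSeparatedFor.ext (fun _ _ h => h.elim)

theorem top_from_left (Y : X.Etale) : ((EtCore.topIsTerminal X).from Y).left = Y.hom := by
  have h := Over.w ((EtCore.topIsTerminal X).from Y).hom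
  have h2 : ((EtCore.topIsTerminal X).from Y).left ≫ 𝟙 X = Y.hom := h
  exact (Category.comp_id _).symm.trans h2

theorem galois_bij (Y : X.Etale)
    {G : Type u} (σ : G → (Y ⟶ Y))
    (hgal : Nonempty (IsColimit (Cofan.mk (Y ⨯ Y) (fun g : G => prod.lift (𝟙 Y) (σ g)))))
    (P : X.Etaleᵒᵖ ⥤ Type w) (hP : Presieve.IsSheaf X.smallEtaleTopology P) :
    Function.Bijective (fun s : P.obj (op (Y ⨯ Y)) => fun g : G =>
      P.map (prod.lift (𝟙 Y) (σ g)).op s) := by
  classical
  obtain ⟨hc⟩ := hgal
  set c : Cofan (fun _ : G => Y) := Cofan.mk (Y ⨯ Y) (fun g : G => prod.lift (𝟙 Y) (σ g)) with hcdef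
  have hinj : ∀ g, c.inj g = prod.lift (𝟙 Y) (σ g) := fun g => rfl
  have hcov : Sieve.ofArrows (fun _ : G => Y)
      (fun g : G => prod.lift (𝟙 Y) (σ g)) ∈ X.smallEtaleTopology (Y ⨯ Y) := by
    rw [mem_et_iff]
    intro x
    obtain ⟨g, y, hy⟩ := cofan_jointly_surjective c hc x
    exact ⟨Y, prod.lift (𝟙 Y) (σ g), y,
      Sieve.ofArrows_mk _ _ g, hy⟩
  have hsh := (Presieve.isSheafFor_iff_generate _).2 (hP _ hcov)
  rw [Presieve.isSheafFor_arrows_iff] at hsh
  constructor
  · intro s s' h
    have hs : Presieve.Arrows.Compatible P (fun g : G => prod.lift (𝟙 Y) (σ g))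
        (fun g => P.map (prod.lift (𝟙 Y) (σ g)).op s) := by
      intro g h Z a b e
      rw [← FunctorToTypes.map_comp_apply, ← FunctorToTypes.map_comp_apply, ← op_comp, ← op_comp, e]
    obtain ⟨t, -, ht⟩ := hsh _ hs
    rw [ht s (fun _ => rfl), ht s' (fun g => (congrFun h g).symm)]
  · intro t
    have hcompat : Presieve.Arrows.Compatible P (fun g : G => prod.lift (𝟙 Y) (σ g)) t := by
      intro g h Z a b e
      have hab : a = b := by
        have h1 : a ≫ prod.lift (𝟙 Y) (σ g) ≫ prod.fst = b ≫ prod.lift (𝟙 Y) (σ h) ≫ prod.fst := by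
          rw [← Category.assoc, e, Category.assoc]
        rwa [prod.lift_fst, prod.lift_fst, Category.comp_id, Category.comp_id] at h1
      subst hab
      by_cases hgh : g = h
      · subst hgh; rfl
      · haveI : IsEmpty Z.left := cofan_disjoint c hc hgh a a e
        haveI := subsingleton_of_isEmpty P hP Z
        exact Subsingleton.elim _ _
    obtain ⟨s, hs, -⟩ := hsh t hcompat
    exact ⟨s, funext hs⟩


/-- Let X be a scheme, Y an etale X-scheme with Y -> X surjective, and G a finite group acting on Y by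
X-automorphisms such that the morphisms (id, g) : Y -> Y x_X Y exhibit Y x_X Y as the coproduct of
copies of Y indexed by G (a Galois covering with group G). For an abelian sheaf F on the small etale
site of X, the restriction map F(X) -> F(Y) is injective and its image is the set of sections of F
over Y fixed by every element of G. -/
theorem result (X : Scheme.{u})
    (Y : X.Etale) (hY : Function.Surjective Y.hom.base)
    {G : Type u} [Group G] [Finite G] (σ : G →* Aut Y)
    (hgal : Nonempty (IsColimit (Cofan.mk (Y ⨯ Y) (fun g : G => prod.lift (𝟙 Y) (σ g).hom))))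
    (F : EtCoh.Ab X) :
    Function.Injective (F.obj.map ((EtCore.topIsTerminal X).from Y).op) ∧
      Set.range (F.obj.map ((EtCore.topIsTerminal X).from Y).op) =
        {s : EtCoh.sect F Y | ∀ g : G, F.obj.map (σ g).hom.op s = s} := by
  let P : X.Etaleᵒᵖ ⥤ Type (u + 1) := F.obj ⋙ forget AddCommGrpCat.{u + 1}
  have hPsh : Presieve.IsSheaf X.smallEtaleTopology P := by
    rw [← isSheaf_iff_isSheaf_of_type]
    exact (Presheaf.isSheaf_iff_isSheaf_forget _ _ (forget AddCommGrpCat.{u + 1})).1 F.cond
  have hcov : Sieve.generate (Presieve.singleton ((EtCore.topIsTerminal X).from Y)) ∈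
      X.smallEtaleTopology (EtCoh.top X) := by
    rw [mem_et_iff]
    intro x
    obtain ⟨y, hy⟩ := hY x
    refine ⟨Y, (EtCore.topIsTerminal X).from Y, y,
      ⟨Y, 𝟙 Y, (EtCore.topIsTerminal X).from Y, Presieve.singleton.mk, Category.id_comp _⟩, ?_⟩
    rw [top_from_left]
    exact hy
  have hA : Presieve.IsSheafFor P (Presieve.singleton ((EtCore.topIsTerminal X).from Y)) :=
    (Presieve.isSheafFor_iff_generate _).2 (hPsh _ hcov)
  have hP := galois_bij Y (fun g => (σ g).hom) hgal P hPsh
  exact (Groth.Agent.S16268.result X Y hY σ hgal P hP).1 hA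

end Groth.Agent.S16269
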