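import Groth.Statements.S1628
import Mathlib
import Groth.Agent.S1548
import Groth.Agent.Lib.Helper62.SmoothStalk

set_option autoImplicit false
set_option linter.style.haveILetI false
universe u
open CategoryTheory CategoryTheory.Limits AlgebraicGeometry
open Variety

namespace Groth.Agent.S1628

open Groth.Agent.Lib.Helper62

theorem main (k : Type u) [Field k] (X : Scheme.{u}) [X.Over (Spec (CommRingCat.of k))]
    [Smooth (X ↘ (Spec (CommRingCat.of k)))] :
    GeometricallyReduced (X ↘ (Spec (CommRingCat.of k))) ∧
      ∀ x : X, Curv2.IsGeomRegularAt k X x := by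
  constructor
  · apply Groth.Agent.S1548.geometricallyReduced_of_forall
    intro x
    letI := Curv2.stalkAlgebra k X x
    haveI := SmoothStalk.isGeometricallyReduced_stalk (X ↘ Spec (CommRingCat.of k)) x rfl
    exact Groth.Agent.S1541.backward k X x
  · intro x k' _ _ _ x' _
    haveI : Smooth (Curv2.bcSnd k X k') := by
      unfold Curv2.bcSnd
      infer_instance
    exact SmoothStalk.isRegularLocalRing_stalk (Curv2.bcSnd k X k') x'


/-- If X is smooth over a field k then X is geometrically reduced over k and geometrically regular at
every point. -/
theorem result (k : Type u) [Field k] (X : Scheme.{u}) [X.Over (Spec (CommRingCat.of k))] [Smooth (X ↘ (Spec (CommRingCat.of k)))] :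
    GeometricallyReduced (X ↘ (Spec (CommRingCat.of k))) ∧ ∀ x : X, Curv2.IsGeomRegularAt k X x := by
  exact main k X

end Groth.Agent.S1628
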