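import Groth.Statements.S16283
import Groth.Agent.Lib.Helper34.SSGrothFlex
import Groth.Agent.Lib.Helper94.HomFlasque
import Groth.Agent.Lib.Helper19.CechPushHU
import Groth.Agent.Lib.Cohomology.helper5_SiteRpushSheafify
import Groth.Agent.S6166
import Groth.Agent.S11319

set_option autoImplicit false
universe u
open CategoryTheory CategoryTheory.Limits AlgebraicGeometry ZeroObject
open Coherent

namespace Groth.Agent.S16283

open TopologicalSpace Opposite

/-- an object of `Z.Modules` whose underlying abelian sheaf is zero is zero -/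
lemma isZero_of_isZero_toAb {Z : Scheme.{u}} (M : Z.Modules) (h : IsZero (Coh.toAb M)) : IsZero M := by
  rw [IsZero.iff_id_eq_zero]
  have h1 : (SheafOfModules.toSheaf Z.ringCatSheaf).map (𝟙 M) =
      (SheafOfModules.toSheaf Z.ringCatSheaf).map 0 := h.eq_of_src _ _
  exact (SheafOfModules.toSheaf Z.ringCatSheaf).map_injective h1

attribute [local instance] CategoryTheory.Limits.reflectsLimits_of_reflectsIsomorphisms in
instance pullType_pfl {X Y : TopCat.{u}} (f : X ⟶ Y) :
    PreservesFiniteLimits ((Opens.map f).sheafPullback (Type u)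
      (Opens.grothendieckTopology Y) (Opens.grothendieckTopology X)) := by
  apply Functor.sheafPullbackConstruction.preservesFiniteLimits

/-- the higher direct images along `g` of `f_*` of an internal Hom into an injective vanish -/
theorem isZero_Rpush_push_sheafHom (X Y Z : Scheme.{u}) (f : X ⟶ Y) (g : Y ⟶ Z)
    (F : X.Modules) [ModSite.HasSheafHom (O := X.sheaf) F] [HasInjectiveResolutions Y.Modules]
    (Q : ModSite.Mod X.sheaf) [Injective Q] (k : ℕ) :
    IsZero (((Scheme.Modules.pushforward g).rightDerived (k + 1)).obj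
      ((Scheme.Modules.pushforward f).obj ((ModSite.sheafHom (O := X.sheaf) F).obj Q))) := by
  obtain ⟨e⟩ := Groth.Agent.S11319.result g
    ((Scheme.Modules.pushforward f).obj ((ModSite.sheafHom (O := X.sheaf) F).obj Q)) (k + 1)
  apply isZero_of_isZero_toAb
  refine IsZero.of_iso ?_ e
  -- the abelian sheaf `A = toAb ℋom(F, Q)` is totally acyclic
  have hA : CohCx.IsTotallyAcyclic (ModSite.toAb ((ModSite.sheafHom (O := X.sheaf) F).obj Q)) :=
    Groth.Agent.Lib.Helper94.HomFlasque.isTotallyAcyclic_sheafHom X.sheaf F Q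
  have hF : ∀ (U : Opens X) (q : ℕ), Subsingleton
      (CohSite.HU (ModSite.toAb ((ModSite.sheafHom (O := X.sheaf) F).obj Q)) (q + 1) U) :=
    fun U q => Groth.Agent.Lib.Helper19.CechPushHU.hu_subsingleton_of_isTotallyAcyclic _ hA U q
  obtain ⟨e2⟩ := Groth.Agent.Lib.Cohomology.SiteRpushSh.rpush_iso_sheafify
    (Opens.grothendieckTopology Y) (Opens.grothendieckTopology Z) (Opens.map g.base) (k + 1)
    ((CohSite.push (Opens.grothendieckTopology X) (Opens.grothendieckTopology Y)
      (Opens.map f.base)).obj (ModSite.toAb ((ModSite.sheafHom (O := X.sheaf) F).obj Q)))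
  refine IsZero.of_iso ?_ e2
  apply Functor.map_isZero
  apply Functor.isZero
  intro V
  have h6 := Groth.Agent.S6166.result (Opens.grothendieckTopology X) (Opens.grothendieckTopology Y)
    (Opens.map f.base) _ hF ((Opens.map g.base).obj V.unop) k
  exact @AddCommGrpCat.isZero_of_subsingleton _ h6


/-- Let f : X → Y and g : Y → Z be morphisms of schemes, h = g ∘ f, and F, G O_X-modules. For a morphism
u out of X write Ext^b_u(F, -) for the b-th right derived functor of the left exact functor G ↦ u_*
Hom_{O_X}(F, G) from O_X-modules. Then there is an E₂ spectral sequence of O_Z-modules with E₂^{a,b}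
≅ R^a g_*(Ext^b_f(F, G)) for a, b ≥ 0 (and 0 otherwise), bounded, abutting with finite filtrations
to Ext^n_h(F, G) (n ≥ 0; 0 for n < 0). (Stated for schemes, the published statement being for ringed
spaces. Existence only: the E₂ identifications and the abutment are some isomorphisms. The internal
Hom functor of F, injective resolutions on X and Y and additivity of the composite functors are the
stated instance hypotheses, all true.) -/
theorem result (X Y Z : Scheme.{u}) (f : X ⟶ Y) (g : Y ⟶ Z)
    (F G : X.Modules)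
    [ModSite.HasSheafHom (O := X.sheaf) F] [HasInjectiveResolutions (ModSite.Mod X.sheaf)] [HasInjectiveResolutions Y.Modules]
    [(ModSite.sheafHom (O := X.sheaf) F ⋙ Scheme.Modules.pushforward f).Additive]
    [(ModSite.sheafHom (O := X.sheaf) F ⋙ Scheme.Modules.pushforward (f ≫ g)).Additive] :
    ∃ (E : E₂CohomologicalSpectralSequence Z.Modules)
      (a : SpSeq.Abutment E (fun n : ℤ =>
        if 0 ≤ n then ((ModSite.sheafHom (O := X.sheaf) F ⋙ Scheme.Modules.pushforward (f ≫ g)).rightDerived n.toNat).obj G else (0 : Z.Modules))),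
      (∀ n : ℤ, a.IsFinite n) ∧ SpSeq.IsBounded E ∧
      ∀ p q : ℤ, Nonempty ((E.page 2 le_rfl).X (p, q) ≅
        (if 0 ≤ p ∧ 0 ≤ q then (Coh.Rpush g p.toNat).obj (((ModSite.sheafHom (O := X.sheaf) F ⋙ Scheme.Modules.pushforward f).rightDerived q.toNat).obj G)
          else (0 : Z.Modules))) := by
  classical
  have hT : ∀ Q : ModSite.Mod X.sheaf, Injective Q → ∀ q : ℕ, 0 < q →
      IsZero (((Scheme.Modules.pushforward g).rightDerived q).obj
        ((ModSite.sheafHom (O := X.sheaf) F ⋙ Scheme.Modules.pushforward f).obj Q)) := by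
    intro Q hQ q hq
    obtain ⟨k, rfl⟩ := Nat.exists_eq_succ_of_ne_zero hq.ne'
    exact isZero_Rpush_push_sheafHom X Y Z f g F Q k
  let e0 : (ModSite.sheafHom (O := X.sheaf) F ⋙ Scheme.Modules.pushforward f) ⋙
      Scheme.Modules.pushforward g ≅
      ModSite.sheafHom (O := X.sheaf) F ⋙ Scheme.Modules.pushforward (f ≫ g) :=
    Functor.associator _ _ _ ≪≫ Functor.isoWhiskerLeft _ (Scheme.Modules.pushforwardComp f g)
  refine Groth.Agent.Lib.Helper34.SS.grothendieck_spectralSequence_flex
    (ModSite.sheafHom (O := X.sheaf) F ⋙ Scheme.Modules.pushforward f)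
    (Scheme.Modules.pushforward g) hT G _ _ ?_ ?_ ?_ ?_
  · intro n
    rw [if_pos (Int.natCast_nonneg n), Int.toNat_natCast]
    exact ⟨((Groth.Agent.Lib.Helper34.SS.rightDerivedIsoOfIso e0 n).app G).symm⟩
  · intro n hn
    rw [if_neg (by lia)]
    exact isZero_zero _
  · intro p q
    rw [if_pos ⟨Int.natCast_nonneg p, Int.natCast_nonneg q⟩, Int.toNat_natCast, Int.toNat_natCast]
    exact ⟨Iso.refl _⟩
  · intro p q h
    rw [if_neg h]
    exact isZero_zero _

end Groth.Agent.S16283
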