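import Groth.Statements.S1629
import Groth.Agent.S1543
import Groth.Agent.S1562
import Groth.Agent.Lib.Helper62.PerfDescentFamily
import Groth.Agent.Lib.Helper70.FibreReduced
import Mathlib

set_option autoImplicit false
set_option linter.style.haveILetI false
universe u
open CategoryTheory CategoryTheory.Limits AlgebraicGeometry
open Variety

namespace Groth.Agent.S1629

open Groth.Agent.Lib.Helper62 Groth.Agent.Lib.Helper70.FibreReduced
open scoped TensorProduct

/-- a surjection of `K`-algebras with kernel the nilradical transports geometric reducedness of the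
reduction. -/
theorem isGeometricallyReduced_of_surjective_ker_nilradical (K B C : Type u) [Field K]
    [CommRing B] [CommRing C] [Algebra K B] [Algebra K C] (φ : B →ₐ[K] C)
    (hφ : Function.Surjective φ) (hker : RingHom.ker φ = nilradical B)
    [h : Algebra.IsGeometricallyReduced K (B ⧸ nilradical B)] :
    Algebra.IsGeometricallyReduced K C := by
  let ψ : B ⧸ nilradical B →ₐ[K] C :=
    Ideal.Quotient.liftₐ (nilradical B) φ (fun a ha => by rw [← hker] at ha; exact ha)
  have hψ : Function.Bijective ψ := by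
    constructor
    · rw [injective_iff_map_eq_zero]
      intro x hx
      obtain ⟨a, rfl⟩ := Ideal.Quotient.mk_surjective x
      have h1 : φ a = 0 := hx
      have h2 : a ∈ nilradical B := hker ▸ (RingHom.mem_ker.mpr h1)
      exact Ideal.Quotient.eq_zero_iff_mem.mpr h2
    · intro c
      obtain ⟨a, rfl⟩ := hφ c
      exact ⟨Ideal.Quotient.mk _ a, rfl⟩
  let e := AlgEquiv.ofBijective ψ hψ
  exact Algebra.IsGeometricallyReduced.of_injective e.symm.toAlgHom e.symm.injective

/-- compatibility of the structure maps `K → Γ` with pullback of sections. -/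
theorem app_comp_toSection {K : Type u} [CommRing K] {T Y : Scheme.{u}}
    (g : T ⟶ Spec (CommRingCat.of K)) (h : Y ⟶ T) (V : T.Opens) (c : K) :
    (h.app V).hom (BCStalk.toSection g V c) = BCStalk.toSection (h ≫ g) (h ⁻¹ᵁ V) c := by
  simp only [BCStalk.toSection, RingHom.comp_apply]
  rw [Scheme.Hom.app_eq_appLE, ← CommRingCat.comp_apply, Scheme.Hom.appLE_comp_appLE]

/-- the reduction of `X_{k'}` is geometrically reduced over `k'` as soon as every maximal point of
`X` has an affine neighbourhood `U` such that the reduction of `k' ⊗ Γ(X, U)` is geometrically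
reduced over `k'`. -/
theorem geometricallyReduced_reduction (k : Type u) [Field k] (X : Scheme.{u})
    [X.Over (Spec (CommRingCat.of k))] (k' : Type u) [Field k'] [Algebra k k']
    (h : ∀ x : X, (∀ ζ : X, ζ ⤳ x → ζ = x) → ∃ U : X.Opens, IsAffineOpen U ∧ x ∈ U ∧
      (letI := (BCStalk.toSection (X ↘ Spec (CommRingCat.of k)) U).toAlgebra
       Algebra.IsGeometricallyReduced k'
        ((k' ⊗[k] Γ(X, U)) ⧸ nilradical (k' ⊗[k] Γ(X, U))))) :
    GeometricallyReduced
      ((Curv2.bc k X k').nilradical.subschemeι ≫ Curv2.bcSnd k X k') := by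
  letI : (Curv2.bc k X k').nilradical.subscheme.Over (Spec (CommRingCat.of k')) :=
    ⟨(Curv2.bc k X k').nilradical.subschemeι ≫ Curv2.bcSnd k X k'⟩
  haveI : IsReduced (Curv2.bc k X k').nilradical.subscheme := isReduced_nilradical_subscheme _
  refine Groth.Agent.S1543.main k' (Curv2.bc k X k').nilradical.subscheme ?_
  intro Z hZ η hη
  have hmaxη : ∀ y : (Curv2.bc k X k').nilradical.subscheme, y ⤳ η → y = η :=
    eq_of_specializes_genericPoint η Z hZ hη
  have hmaxx : ∀ ζ : X, ζ ⤳ (Curv2.bcFst k X k')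
      ((Curv2.bc k X k').nilradical.subschemeι η) →
      ζ = (Curv2.bcFst k X k') ((Curv2.bc k X k').nilradical.subschemeι η) := by
    intro ζ hζ
    haveI : Flat (Spec.map (CommRingCat.ofHom (algebraMap k k'))) :=
      Flat.SpecMap_iff.mpr (RingHom.Flat.of_isField (Field.toIsField k) _)
    haveI : Flat (Curv2.bcFst k X k') := inferInstance
    obtain ⟨ζ', hζ', rfl⟩ := Flat.generalizingMap (Curv2.bcFst k X k') hζ
    have hrange : ζ' ∈ Set.range (Curv2.bc k X k').nilradical.subschemeι := by
      rw [Scheme.IdealSheafData.range_subschemeι, Scheme.support_nilradical]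
      trivial
    obtain ⟨y, rfl⟩ := hrange
    have hy : y ⤳ η :=
      ((Curv2.bc k X k').nilradical.subschemeι.isEmbedding.isInducing.specializes_iff).mp hζ'
    rw [hmaxη y hy]
  obtain ⟨U, hU, hxU, hgrU⟩ := h _ hmaxx
  have hV : IsAffineOpen ((Curv2.bcFst k X k') ⁻¹ᵁ U) :=
    hU.preimage (BCStalk.bcπ (X ↘ Spec (CommRingCat.of k)) k')
  have hW : IsAffineOpen ((Curv2.bc k X k').nilradical.subschemeι ⁻¹ᵁ
      ((Curv2.bcFst k X k') ⁻¹ᵁ U)) := hV.preimage _
  have hηW : η ∈ (Curv2.bc k X k').nilradical.subschemeι ⁻¹ᵁ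
      ((Curv2.bcFst k X k') ⁻¹ᵁ U) := hxU
  letI : Algebra k Γ(X, U) := (BCStalk.toSection (X ↘ Spec (CommRingCat.of k)) U).toAlgebra
  letI : Algebra k' Γ((Curv2.bc k X k').nilradical.subscheme,
      (Curv2.bc k X k').nilradical.subschemeι ⁻¹ᵁ ((Curv2.bcFst k X k') ⁻¹ᵁ U)) :=
    (BCStalk.toSection ((Curv2.bc k X k').nilradical.subschemeι ≫ Curv2.bcSnd k X k')
      ((Curv2.bc k X k').nilradical.subschemeι ⁻¹ᵁ ((Curv2.bcFst k X k') ⁻¹ᵁ U))).toAlgebra
  haveI hgrW : Algebra.IsGeometricallyReduced k'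
      Γ((Curv2.bc k X k').nilradical.subscheme,
        (Curv2.bc k X k').nilradical.subschemeι ⁻¹ᵁ ((Curv2.bcFst k X k') ⁻¹ᵁ U)) := by
    obtain ⟨e, -, he2⟩ :=
      BCStalk.exists_ringEquiv_sections (f := X ↘ Spec (CommRingCat.of k)) k' hU
    let φ₀ : k' ⊗[k] Γ(X, U) →+* Γ((Curv2.bc k X k').nilradical.subscheme,
        (Curv2.bc k X k').nilradical.subschemeι ⁻¹ᵁ ((Curv2.bcFst k X k') ⁻¹ᵁ U)) :=
      ((Curv2.bc k X k').nilradical.subschemeι.app ((Curv2.bcFst k X k') ⁻¹ᵁ U)).hom.comp
        e.toRingHom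
    let φ : k' ⊗[k] Γ(X, U) →ₐ[k'] Γ((Curv2.bc k X k').nilradical.subscheme,
        (Curv2.bc k X k').nilradical.subschemeι ⁻¹ᵁ ((Curv2.bcFst k X k') ⁻¹ᵁ U)) :=
      { φ₀ with
        commutes' := fun c => by
          change ((Curv2.bc k X k').nilradical.subschemeι.app
            ((Curv2.bcFst k X k') ⁻¹ᵁ U)).hom (e (c ⊗ₜ 1)) = _
          rw [he2]
          exact app_comp_toSection (Curv2.bcSnd k X k') _ _ c }
    have hφs : Function.Surjective φ :=
      ((Curv2.bc k X k').nilradical.subschemeι_app_surjective ⟨_, hV⟩).comp e.surjective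
    have hker : RingHom.ker φ = nilradical (k' ⊗[k] Γ(X, U)) := by
      ext t
      rw [RingHom.mem_ker, mem_nilradical]
      change ((Curv2.bc k X k').nilradical.subschemeι.app
        ((Curv2.bcFst k X k') ⁻¹ᵁ U)).hom (e t) = 0 ↔ IsNilpotent t
      rw [← RingHom.mem_ker, (Curv2.bc k X k').nilradical.ker_subschemeι_app ⟨_, hV⟩]
      have h1 : (Curv2.bc k X k').nilradical.ideal ⟨_, hV⟩ =
          nilradical Γ(Curv2.bc k X k', (Curv2.bcFst k X k') ⁻¹ᵁ U) := by
        simp [Scheme.nilradical, nilradical]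
      rw [h1, mem_nilradical]
      exact ⟨fun h => (IsNilpotent.map_iff e.injective).mp h, fun h => h.map e⟩
    exact isGeometricallyReduced_of_surjective_ker_nilradical k' _ _ φ hφs hker
  letI := Curv2.stalkAlgebra k' (Curv2.bc k X k').nilradical.subscheme η
  letI : Algebra Γ((Curv2.bc k X k').nilradical.subscheme,
      (Curv2.bc k X k').nilradical.subschemeι ⁻¹ᵁ ((Curv2.bcFst k X k') ⁻¹ᵁ U))
      ((Curv2.bc k X k').nilradical.subscheme.presheaf.stalk η) :=
    (Curv2.bc k X k').nilradical.subscheme.presheaf.algebra_section_stalk ⟨η, hηW⟩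
  haveI : IsScalarTower k' Γ((Curv2.bc k X k').nilradical.subscheme,
      (Curv2.bc k X k').nilradical.subschemeι ⁻¹ᵁ ((Curv2.bcFst k X k') ⁻¹ᵁ U))
      ((Curv2.bc k X k').nilradical.subscheme.presheaf.stalk η) :=
    BCStalk.chart_aux ((Curv2.bc k X k').nilradical.subschemeι ≫ Curv2.bcSnd k X k') η hηW rfl
  haveI := hW.isLocalization_stalk ⟨η, hηW⟩
  haveI := Groth.Agent.S1543.geomReduced_localization k'
    Γ((Curv2.bc k X k').nilradical.subscheme,
      (Curv2.bc k X k').nilradical.subschemeι ⁻¹ᵁ ((Curv2.bcFst k X k') ⁻¹ᵁ U))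
    (hW.primeIdealOf ⟨η, hηW⟩).asIdeal
    ((Curv2.bc k X k').nilradical.subscheme.presheaf.stalk η)
  exact Groth.Agent.S1541.backward k' (Curv2.bc k X k').nilradical.subscheme η

theorem main (k : Type u) [Field k] (X : Scheme.{u}) [X.Over (Spec (CommRingCat.of k))] [LocallyOfFiniteType (X ↘ (Spec (CommRingCat.of k)))]
    (hirr : (irreducibleComponents (X : Type u)).Finite) :
    ∃ (k' : Type u) (_ : Field k') (_ : Algebra k k'), FiniteDimensional k k' ∧ IsPurelyInseparable k k' ∧
      GeometricallyReduced ((Curv2.bc k X k').nilradical.subschemeι ≫ Curv2.bcSnd k X k') := by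
  classical
  haveI : Finite (irreducibleComponents (X : Type u)) := hirr.to_subtype
  have hgen : ∀ Z : irreducibleComponents (X : Type u), ∃ (η : X) (U : X.Opens),
      IsGenericPoint η Z.1 ∧ IsAffineOpen U ∧ η ∈ U := by
    intro Z
    obtain ⟨η, hη⟩ := QuasiSober.sober Z.2.1 (isClosed_of_mem_irreducibleComponents Z.1 Z.2)
    obtain ⟨_, ⟨U, hU, rfl⟩, hηU, -⟩ :=
      X.isBasis_affineOpens.exists_subset_of_mem_open (Set.mem_univ η) isOpen_univ
    exact ⟨η, U, hη, hU, hηU⟩
  choose η U hη hU hηU using hgen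
  letI : ∀ Z, Algebra k Γ(X, U Z) :=
    fun Z => (BCStalk.toSection (X ↘ Spec (CommRingCat.of k)) (U Z)).toAlgebra
  have hN : ∀ Z, IsNoetherianRing
      ((perfectClosure k (AlgebraicClosure k)) ⊗[k] Γ(X, U Z)) := by
    intro Z
    haveI : Algebra.FiniteType k Γ(X, U Z) :=
      Groth.Agent.S1562.finiteType_sections k X (X ↘ Spec (CommRingCat.of k)) (hU Z)
    haveI : Algebra.FiniteType (perfectClosure k (AlgebraicClosure k))
        ((perfectClosure k (AlgebraicClosure k)) ⊗[k] Γ(X, U Z)) := inferInstance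
    exact Algebra.FiniteType.isNoetherianRing (perfectClosure k (AlgebraicClosure k))
      ((perfectClosure k (AlgebraicClosure k)) ⊗[k] Γ(X, U Z))
  obtain ⟨k', hF, hA, hfin, hpi, hgr⟩ :=
    PerfDescent.main_family k (perfectClosure k (AlgebraicClosure k))
      (fun Z : irreducibleComponents (X : Type u) => Γ(X, U Z)) hN
  refine ⟨k', hF, hA, hfin, hpi, ?_⟩
  apply geometricallyReduced_reduction k X k'
  intro x hx
  have hcomp : closure {x} ∈ irreducibleComponents (X : Type u) :=
    Groth.Agent.S1543.closure_mem_irreducibleComponents Set.univ isOpen_univ x trivial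
      (fun ζ _ hζ => hx ζ hζ)
  have hxη : η ⟨_, hcomp⟩ = x := IsGenericPoint.eq (hη ⟨_, hcomp⟩) isGenericPoint_closure
  refine ⟨U ⟨_, hcomp⟩, hU _, ?_, hgr ⟨_, hcomp⟩⟩
  have h1 := hηU ⟨_, hcomp⟩
  rwa [hxη] at h1


/-- Let X be a k-scheme locally of finite type, having only finitely many irreducible components. There
is then a finite purely inseparable extension k' of k for which the reduction of X_{k'} (the closed
subscheme defined by the nilradical) is geometrically reduced over k'. -/
theorem result (k : Type u) [Field k] (X : Scheme.{u}) [X.Over (Spec (CommRingCat.of k))] [LocallyOfFiniteType (X ↘ (Spec (CommRingCat.of k)))]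
    (hirr : (irreducibleComponents (X : Type u)).Finite) :
    ∃ (k' : Type u) (_ : Field k') (_ : Algebra k k'), FiniteDimensional k k' ∧ IsPurelyInseparable k k' ∧
      GeometricallyReduced ((Curv2.bc k X k').nilradical.subschemeι ≫ Curv2.bcSnd k X k') := by
  exact main k X hirr

end Groth.Agent.S1629
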