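import Groth.Statements.S1630
-- import your own Groth.Agent.* helpers here

set_option autoImplicit false
universe u
open CategoryTheory CategoryTheory.Limits AlgebraicGeometry
open Variety

namespace Groth.Agent.S1630

open TopologicalSpace in
lemma irreducibleSpace_of_cover {Z : Type*} [TopologicalSpace Z] {ι : Type*} [Nonempty ι]
    (V : ι → Opens Z) (hcov : (⨆ i, V i) = ⊤) (hV : ∀ i, IrreducibleSpace (V i))
    (hmeet : ∀ i j, ((V i : Set Z) ∩ (V j : Set Z)).Nonempty) : IrreducibleSpace Z := by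
  have hirr : ∀ i, IsIrreducible (V i : Set Z) := fun i ↦
    isIrreducible_iff_irreducibleSpace.mpr (hV i)
  have hne : Nonempty Z := by
    obtain ⟨i⟩ := ‹Nonempty ι›
    obtain ⟨x, -⟩ := (hirr i).nonempty
    exact ⟨x⟩
  have hpre : PreirreducibleSpace Z := by
    refine ⟨fun u v hu hv hau hbv ↦ ?_⟩
    obtain ⟨a, -, ha⟩ := hau
    obtain ⟨b, -, hb⟩ := hbv
    have ha' : a ∈ (⨆ i, V i) := hcov ▸ trivial
    have hb' : b ∈ (⨆ i, V i) := hcov ▸ trivial
    obtain ⟨i, hai⟩ := Opens.mem_iSup.mp ha'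
    obtain ⟨j, hbj⟩ := Opens.mem_iSup.mp hb'
    obtain ⟨c, hci, hcu, hcj⟩ := (hirr i).isPreirreducible u (V j : Set Z) hu (V j).isOpen
      ⟨a, hai, ha⟩ (hmeet i j)
    obtain ⟨d, -, hdu, hdv⟩ := (hirr j).isPreirreducible u v hu hv ⟨c, hcj, hcu⟩ ⟨b, hbj, hb⟩
    exact ⟨d, trivial, hdu, hdv⟩
  exact { toPreirreducibleSpace := hpre, toNonempty := hne }

/-- Let X be a scheme over k. If X has a cover by a nonempty family of open subschemes, each
geometrically irreducible over k and any two of which meet, then X is geometrically irreducible over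
k. -/
theorem result (k : Type u) [Field k] (X : Scheme.{u}) [X.Over (Spec (CommRingCat.of k))]
    (ι : Type u) (U : ι → X.Opens) (hne : Nonempty ι) (hcov : (⨆ i, U i) = ⊤)
    (hmeet : ∀ i j, ((U i : Set X) ∩ (U j : Set X)).Nonempty)
    (hU : ∀ i, GeometricallyIrreducible ((U i).ι ≫ (X ↘ (Spec (CommRingCat.of k))))) : GeometricallyIrreducible (X ↘ (Spec (CommRingCat.of k))) := by
  refine ⟨geometrically_iff_of_isClosedUnderIsomorphisms.mpr fun K _ y ↦ ?_⟩
  let f : X ⟶ Spec (CommRingCat.of k) := X ↘ (Spec (CommRingCat.of k))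
  let p : pullback f y ⟶ X := pullback.fst f y
  have hy : Surjective y := by
    refine ⟨fun a ↦ ?_⟩
    obtain ⟨b⟩ : Nonempty (Spec (CommRingCat.of K)) := inferInstance
    exact ⟨b, Subsingleton.elim _ _⟩
  have hp : Surjective p := inferInstanceAs (Surjective (pullback.fst f y))
  have hV : ∀ i, IrreducibleSpace (p ⁻¹ᵁ U i) := by
    intro i
    have h1 : IrreducibleSpace ↥(pullback ((U i).ι ≫ f) y) :=
      (hU i).geometrically_irreducibleSpace _ _ _ (.of_hasPullback _ _)
    let e : pullback ((U i).ι ≫ f) y ≅ (p ⁻¹ᵁ U i : Scheme) :=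
      (pullbackRightPullbackFstIso f y (U i).ι).symm ≪≫ pullbackSymmetry _ _ ≪≫
        pullbackRestrictIsoRestrict p (U i)
    exact e.hom.homeomorph.irreducibleSpace_iff.mp h1
  have := hne
  refine irreducibleSpace_of_cover (fun i ↦ p ⁻¹ᵁ U i) ?_ hV ?_
  · ext z
    simp only [TopologicalSpace.Opens.coe_iSup, TopologicalSpace.Opens.coe_top, Set.mem_iUnion, Set.mem_univ, iff_true]
    have : p.base z ∈ (⨆ i, U i) := hcov ▸ trivial
    obtain ⟨i, hi⟩ := TopologicalSpace.Opens.mem_iSup.mp this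
    exact ⟨i, hi⟩
  · intro i j
    obtain ⟨x, hxi, hxj⟩ := hmeet i j
    obtain ⟨z, rfl⟩ := hp.surj x
    exact ⟨z, hxi, hxj⟩

end Groth.Agent.S1630
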