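import Groth.Statements.S1631
import Groth.Agent.Lib.Helper76.NodeChar2

set_option autoImplicit false
universe u
open Curves

namespace Groth.Agent.S1631

/-- For a Noetherian local k-algebra (A, m, κ), these two conditions are equivalent: (i) κ is separable
over k, A is reduced, m/m^2 has dimension two, and there are x, y spanning m modulo m^2 and a, b, c
∈ A whose residues form a nondegenerate quadratic form with a x^2 + b xy + c y^2 ∈ m^3; (ii) κ is
separable over k and the m-adic completion of A is isomorphic, compatibly with the maps from k, to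
κ[[u, v]]/(a' u^2 + b' uv + c' v^2) for a nondegenerate quadratic form over κ. -/
theorem result (k : Type u) [Field k] (A : Type u) [CommRing A] [IsLocalRing A] [IsNoetherianRing A]
    [Algebra k A] :
    (Algebra.IsSeparable k (IsLocalRing.ResidueField A) ∧ IsReduced A ∧
      Module.finrank (IsLocalRing.ResidueField A) (IsLocalRing.CotangentSpace A) = 2 ∧
      ∃ x y a b c : A, x ∈ IsLocalRing.maximalIdeal A ∧ y ∈ IsLocalRing.maximalIdeal A ∧
        Ideal.span {x, y} ⊔ IsLocalRing.maximalIdeal A ^ 2 = IsLocalRing.maximalIdeal A ∧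
        IsLocalRing.residue A (4 * a * c - b ^ 2) ≠ 0 ∧
        a * x ^ 2 + b * x * y + c * y ^ 2 ∈ IsLocalRing.maximalIdeal A ^ 3) ↔
    (Algebra.IsSeparable k (IsLocalRing.ResidueField A) ∧
      ∃ a b c : IsLocalRing.ResidueField A, 4 * a * c - b ^ 2 ≠ 0 ∧
        ∃ e : AdicCompletion (IsLocalRing.maximalIdeal A) A ≃+*
            (MvPowerSeries (Fin 2) (IsLocalRing.ResidueField A) ⧸ Ideal.span
              {(MvPowerSeries.C a * MvPowerSeries.X 0 ^ 2 + MvPowerSeries.C b * MvPowerSeries.X 0 * MvPowerSeries.X 1 +
                MvPowerSeries.C c * MvPowerSeries.X 1 ^ 2 : MvPowerSeries (Fin 2) (IsLocalRing.ResidueField A))}),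
          ∀ t : k, e (algebraMap A _ (algebraMap k A t)) =
            Ideal.Quotient.mk _ (MvPowerSeries.C (algebraMap A (IsLocalRing.ResidueField A) (algebraMap k A t)))) := by
  constructor
  · rintro ⟨hsep, hred, hfin, x, y, a, b, c, hx, hy, hsp, hnd, hq⟩
    have hnd' : 4 * IsLocalRing.residue A a * IsLocalRing.residue A c -
        IsLocalRing.residue A b ^ 2 ≠ 0 := by
      have e : 4 * IsLocalRing.residue A a * IsLocalRing.residue A c -
          IsLocalRing.residue A b ^ 2 = IsLocalRing.residue A (4 * a * c - b ^ 2) := by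
        simp only [map_sub, map_mul, map_pow, map_ofNat]
      rw [e]
      exact hnd
    refine ⟨hsep, IsLocalRing.residue A a, IsLocalRing.residue A b, IsLocalRing.residue A c,
      hnd', ?_⟩
    exact Groth.Agent.Lib.Helper76.NodeChar.completion_equiv hfin x y a b c hx hy hsp hnd hq
  · rintro ⟨hsep, a, b, c, hnd, e, -⟩
    exact ⟨hsep, Groth.Agent.Lib.Helper76.NodeChar.of_completion_equiv hnd e⟩

end Groth.Agent.S1631
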