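import Groth.Statements.S16312
import Mathlib
-- import your own Groth.Agent.* helpers here

set_option autoImplicit false
universe u
open W4c3irrattreebun

namespace Groth.Agent.S16312

/-- Let N be a closed cone in real n-space, f a function continuous on N, positive at the nonzero points
of N and homogeneous of degree one under scaling by nonnegative reals, and Λ a discrete additive
subgroup. Then for every real c the set of points H of Λ lying in N with f(H) ≤ c is finite. (The
published statement takes Λ to be a lattice; this row allows any discrete additive subgroup.) -/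
theorem result (n : ℕ)
    (N : Set (EuclideanSpace ℝ (Fin n))) (hN : IsClosed N)
    (hcone : ∀ x ∈ N, ∀ r : ℝ, 0 ≤ r → r • x ∈ N)
    (f : EuclideanSpace ℝ (Fin n) → ℝ) (hf : ContinuousOn f N)
    (hpos : ∀ x ∈ N, x ≠ 0 → 0 < f x)
    (hhom : ∀ x ∈ N, ∀ r : ℝ, 0 ≤ r → f (r • x) = r * f x)
    (Λ : Submodule ℤ (EuclideanSpace ℝ (Fin n))) [DiscreteTopology Λ] (c : ℝ) :
    ({x : EuclideanSpace ℝ (Fin n) | x ∈ N ∧ f x ≤ c} ∩ (Λ : Set (EuclideanSpace ℝ (Fin n)))).Finite := by
  classical
  have hΛd : IsDiscrete (Λ : Set (EuclideanSpace ℝ (Fin n))) :=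
    isDiscrete_iff_discreteTopology.mpr ‹DiscreteTopology Λ›
  have hΛc : IsClosed (Λ : Set (EuclideanSpace ℝ (Fin n))) := by
    have : DiscreteTopology Λ.toAddSubgroup := ‹DiscreteTopology Λ›
    rw [← Submodule.coe_toAddSubgroup]
    exact AddSubgroup.isClosed_of_discrete
  suffices hb : Bornology.IsBounded {x : EuclideanSpace ℝ (Fin n) | x ∈ N ∧ f x ≤ c} from
    Metric.finite_isBounded_inter_isClosed hΛd hb hΛc
  set K := N ∩ Metric.sphere (0 : EuclideanSpace ℝ (Fin n)) 1 with hKdef
  have hK : IsCompact K := (isCompact_sphere 0 1).inter_left hN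
  have hunit : ∀ x ∈ N, x ≠ 0 → (‖x‖⁻¹ • x) ∈ K := by
    intro x hx hx0
    have hnorm : 0 < ‖x‖ := norm_pos_iff.2 hx0
    refine ⟨hcone x hx _ (inv_nonneg.2 hnorm.le), ?_⟩
    rw [mem_sphere_zero_iff_norm, norm_smul, norm_inv, norm_norm, inv_mul_cancel₀ hnorm.ne']
  by_cases hKe : K.Nonempty
  · obtain ⟨x0, hx0K, hx0⟩ := hK.exists_isMinOn hKe (hf.mono Set.inter_subset_left)
    have hδ : 0 < f x0 := by
      apply hpos x0 hx0K.1
      intro h
      have := hx0K.2
      rw [h, mem_sphere_zero_iff_norm, norm_zero] at this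
      exact zero_ne_one this
    have key : ∀ x ∈ N, f x0 * ‖x‖ ≤ f x := by
      intro x hx
      by_cases hx0' : x = 0
      · subst hx0'
        have := hhom 0 hx 0 le_rfl
        rw [zero_smul, zero_mul] at this
        rw [this, norm_zero, mul_zero]
      · have hnorm : 0 < ‖x‖ := norm_pos_iff.2 hx0'
        have h1 : f x0 ≤ f (‖x‖⁻¹ • x) := hx0 (hunit x hx hx0')
        rw [hhom x hx _ (inv_nonneg.2 hnorm.le)] at h1
        calc f x0 * ‖x‖ ≤ (‖x‖⁻¹ * f x) * ‖x‖ := by gcongr
          _ = f x := by field_simp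
    refine (Metric.isBounded_closedBall (x := (0 : EuclideanSpace ℝ (Fin n)))
      (r := c / f x0)).subset ?_
    rintro x ⟨hxN, hxc⟩
    rw [mem_closedBall_zero_iff, le_div_iff₀ hδ]
    linarith [key x hxN]
  · refine (Metric.isBounded_closedBall (x := (0 : EuclideanSpace ℝ (Fin n)))
      (r := 0)).subset ?_
    rintro x ⟨hxN, -⟩
    by_contra hne
    apply hKe
    refine ⟨_, hunit x hxN ?_⟩
    rintro rfl
    exact hne (by simp)

end Groth.Agent.S16312
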