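import Groth.Statements.S16325
import Mathlib
import Groth.Agent.Lib.Helper82.CxGroupoid
-- import your own Groth.Agent.* helpers here

set_option autoImplicit false
universe u v
open CategoryTheory
open W4c3biextchow

namespace Groth.Agent.S16325

/-- Let f : C ⟶ D be a chain map of ℕ-indexed chain complexes of modules over a ring R, and consider the
functor it induces between the groupoids attached to C and D (objects: degree-0 elements; morphisms
a ⟶ b: degree-1 elements with boundary b - a, modulo boundaries of degree-2 elements). This functor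
is faithful if and only if f is injective on homology in degree 1. (The published statement is for
complexes of abelian groups; this row allows modules over any ring R.) -/
theorem result
    (R : Type u) [Ring R] (C D : ChainComplex (ModuleCat.{v} R) ℕ) (f : C ⟶ D) :
    (W4c3biextchow.cxFunctor f).Faithful ↔ Mono (HomologicalComplex.homologyMap f 1) := by
  rw [Groth.Agent.Lib.Helper82.CxGroupoid.mono_H1_iff]
  constructor
  · intro hF x hx ⟨y, hy⟩
    let a : Obj C := ⟨0⟩
    let φ : a ⟶ a := (⟨Submodule.Quotient.mk x, by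
      show delta C (Submodule.Quotient.mk x) = (0 : C.X 0) - 0
      rw [delta_mk, hx, sub_zero]⟩ : Hom C a a)
    have h : (cxFunctor f).map φ = (cxFunctor f).map (𝟙 a) := by
      apply Hom.ext
      show q1Map f (Submodule.Quotient.mk x) = q1Map f 0
      rw [q1Map_mk, map_zero, Groth.Agent.Lib.Helper82.CxGroupoid.mk_eq_zero_iff]
      exact ⟨y, hy⟩
    have h2 := hF.map_injective h
    have h3 : (Submodule.Quotient.mk x : Q1 C) = 0 := congrArg Hom.cl h2
    exact (Groth.Agent.Lib.Helper82.CxGroupoid.mk_eq_zero_iff C x).mp h3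
  · intro H
    refine ⟨fun {a b} φ ψ h => ?_⟩
    apply Hom.ext
    have h1 : q1Map f ((φ : Hom C a b).cl - (ψ : Hom C a b).cl) = 0 := by
      rw [map_sub, sub_eq_zero]; exact congrArg Hom.cl h
    have h2 : delta C ((φ : Hom C a b).cl - (ψ : Hom C a b).cl) = 0 := by
      rw [map_sub, (φ : Hom C a b).delta_cl, (ψ : Hom C a b).delta_cl, sub_self]
    obtain ⟨x, hx⟩ := Submodule.Quotient.mk_surjective _ ((φ : Hom C a b).cl - (ψ : Hom C a b).cl)
    rw [← hx] at h1 h2
    rw [q1Map_mk, Groth.Agent.Lib.Helper82.CxGroupoid.mk_eq_zero_iff] at h1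
    rw [delta_mk] at h2
    obtain ⟨z, hz⟩ := H x h2 h1
    have h3 : (Submodule.Quotient.mk x : Q1 C) = 0 :=
      (Groth.Agent.Lib.Helper82.CxGroupoid.mk_eq_zero_iff C x).mpr ⟨z, hz⟩
    rw [hx] at h3
    exact sub_eq_zero.mp h3

end Groth.Agent.S16325
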