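import Groth.Statements.S16326
import Mathlib
import Groth.Agent.Lib.Helper82.CxGroupoid
-- import your own Groth.Agent.* helpers here

set_option autoImplicit false
universe u v
open CategoryTheory
open W4c3biextchow

namespace Groth.Agent.S16326

/-- Let f : C ⟶ D be a chain map of ℕ-indexed chain complexes of modules over a ring R, and consider the
functor it induces between the groupoids attached to C and D (objects: degree-0 elements; morphisms
a ⟶ b: degree-1 elements with boundary b - a, modulo boundaries of degree-2 elements). This functor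
is full if and only if f is surjective on homology in degree 1 and injective on homology in degree
0. (The published statement is for complexes of abelian groups; this row allows modules over any
ring R.) -/
theorem result
    (R : Type u) [Ring R] (C D : ChainComplex (ModuleCat.{v} R) ℕ) (f : C ⟶ D) :
    (W4c3biextchow.cxFunctor f).Full ↔
      Epi (HomologicalComplex.homologyMap f 1) ∧ Mono (HomologicalComplex.homologyMap f 0) := by
  rw [Groth.Agent.Lib.Helper82.CxGroupoid.epi_H1_iff,
    Groth.Agent.Lib.Helper82.CxGroupoid.mono_H0_iff]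
  constructor
  · intro hF
    refine ⟨?_, ?_⟩
    · intro y hy
      let a : Obj C := ⟨0⟩
      let ψ : (cxFunctor f).obj a ⟶ (cxFunctor f).obj a := (⟨Submodule.Quotient.mk y, by
        rw [delta_mk, hy, sub_self]⟩ : Hom D ((cxFunctor f).obj a) ((cxFunctor f).obj a))
      obtain ⟨φ, hφ⟩ := hF.map_surjective ψ
      obtain ⟨x, hx⟩ := Submodule.Quotient.mk_surjective _ (φ : Hom C a a).cl
      have h1 := (φ : Hom C a a).delta_cl
      rw [← hx, delta_mk, sub_self] at h1
      have h2 : q1Map f (φ : Hom C a a).cl = Submodule.Quotient.mk y := congrArg Hom.cl hφ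
      rw [← hx, q1Map_mk, Submodule.Quotient.eq] at h2
      obtain ⟨w, hw⟩ := h2
      exact ⟨x, h1, w, hw.symm⟩
    · intro x ⟨y, hy⟩
      let a : Obj C := ⟨0⟩
      let b : Obj C := ⟨x⟩
      let ψ : (cxFunctor f).obj a ⟶ (cxFunctor f).obj b := (⟨Submodule.Quotient.mk y, by
        rw [delta_mk, hy]
        show (f.f 0).hom x = (f.f 0).hom x - (f.f 0).hom 0
        rw [map_zero, sub_zero]⟩ : Hom D ((cxFunctor f).obj a) ((cxFunctor f).obj b))
      obtain ⟨φ, _⟩ := hF.map_surjective ψ
      obtain ⟨z, hz⟩ := Submodule.Quotient.mk_surjective _ (φ : Hom C a b).cl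
      have h1 := (φ : Hom C a b).delta_cl
      rw [← hz, delta_mk] at h1
      refine ⟨z, h1.trans ?_⟩
      show x - 0 = x
      rw [sub_zero]
  · rintro ⟨hE, hM⟩
    refine ⟨fun {a b} ψ => ?_⟩
    obtain ⟨y, hy⟩ := Submodule.Quotient.mk_surjective _ (ψ : Hom D _ _).cl
    have h1 := (ψ : Hom D _ _).delta_cl
    rw [← hy, delta_mk] at h1
    have h1' : (D.d 1 0).hom y = (f.f 0).hom (b.pt - a.pt) := by
      rw [h1, map_sub]; rfl
    obtain ⟨z, hz⟩ := hM (b.pt - a.pt) ⟨y, h1'⟩
    have h2 : (D.d 1 0).hom (y - (f.f 1).hom z) = 0 := by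
      have hc := congrArg (fun φ => φ.hom z) (f.comm 1 0)
      simp only [ModuleCat.hom_comp, LinearMap.comp_apply] at hc
      rw [map_sub, h1', hc, hz, sub_self]
    obtain ⟨x', hx', w', hw'⟩ := hE _ h2
    let φ : a ⟶ b := (⟨Submodule.Quotient.mk (z + x'), by
      rw [delta_mk, map_add, hz, hx', add_zero]⟩ : Hom C a b)
    refine ⟨φ, ?_⟩
    apply Hom.ext
    show q1Map f (Submodule.Quotient.mk (z + x')) = (ψ : Hom D _ _).cl
    rw [q1Map_mk, ← hy, Submodule.Quotient.eq]
    refine ⟨w', ?_⟩
    rw [← hw', map_add]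
    abel

end Groth.Agent.S16326
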