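import Groth.Statements.S16327
import Mathlib
import Groth.Agent.Lib.Helper82.CxGroupoid
-- import your own Groth.Agent.* helpers here

set_option autoImplicit false
universe u v
open CategoryTheory
open W4c3biextchow

namespace Groth.Agent.S16327

/-- Let f : C ⟶ D be a chain map of ℕ-indexed chain complexes of modules over a ring R, and consider the
functor it induces between the groupoids attached to C and D (objects: degree-0 elements; morphisms
a ⟶ b: degree-1 elements with boundary b - a, modulo boundaries of degree-2 elements). This functor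
is essentially surjective if and only if f is surjective on homology in degree 0. (The published
statement is for complexes of abelian groups; this row allows modules over any ring R.) -/
theorem result
    (R : Type u) [Ring R] (C D : ChainComplex (ModuleCat.{v} R) ℕ) (f : C ⟶ D) :
    (W4c3biextchow.cxFunctor f).EssSurj ↔ Epi (HomologicalComplex.homologyMap f 0) := by
  rw [Groth.Agent.Lib.Helper82.CxGroupoid.epi_H0_iff]
  constructor
  · intro hE y
    obtain ⟨a, ⟨e⟩⟩ := hE.mem_essImage (⟨y⟩ : Obj D)
    obtain ⟨w, hw⟩ := Submodule.Quotient.mk_surjective _ (e.inv : Hom D _ _).cl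
    have h1 := (e.inv : Hom D _ _).delta_cl
    rw [← hw, delta_mk] at h1
    exact ⟨a.pt, w, h1.symm⟩
  · intro H
    refine ⟨fun b => ?_⟩
    obtain ⟨x, w, hw⟩ := H b.pt
    let a : Obj C := ⟨x⟩
    let ψ : b ⟶ (cxFunctor f).obj a := (⟨Submodule.Quotient.mk w, by
      rw [delta_mk, ← hw]; rfl⟩ : Hom D b ((cxFunctor f).obj a))
    exact ⟨a, ⟨(Groth.Agent.Lib.Helper82.CxGroupoid.isoOfHom ψ).symm⟩⟩

end Groth.Agent.S16327
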