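import Groth.Statements.S16329
import Groth.Agent.Lib.Helper57.ChainSplit
-- import your own Groth.Agent.* helpers here

set_option autoImplicit false
universe v
open CategoryTheory
open W4c3biextchow

namespace Groth.Agent.S16329

/-- projectivity does not depend on the chosen `ℤ`-module structure. -/
theorem projective_of_free_int (X : Type*) [AddCommGroup X] (m1 m2 : Module ℤ X)
    (h : @Module.Free ℤ X _ _ m1) : @Module.Projective ℤ _ X _ m2 := by
  have : m1 = m2 := Subsingleton.elim _ _
  subst this
  exact Module.Projective.of_free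

/-- Let f : A' ⟶ A be a chain map of ℕ-indexed chain complexes of free abelian groups which is injective
in every degree, whose degreewise quotients A_q / f(A'_q) are free abelian groups, and which is a
quasi-isomorphism. Then there is a chain map g : A ⟶ A' with f ≫ g the identity of A' (a chain-level
inverse of f that restricts to the identity on the subcomplex A'). (The source allows complexes
indexed by all integers; stated here for complexes in non-negative degrees.) -/
theorem result
    (A' A : ChainComplex (ModuleCat.{v} ℤ) ℕ) (f : A' ⟶ A)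
    [∀ q, Module.Free ℤ (A'.X q)] [∀ q, Module.Free ℤ (A.X q)]
    (hf : ∀ q, Function.Injective (f.f q).hom)
    (hq : ∀ q, Module.Free ℤ ((A.X q) ⧸ LinearMap.range (f.f q).hom)) [QuasiIso f] :
    ∃ g : A ⟶ A', f ≫ g = 𝟙 A' := by
  obtain ⟨Q, p, h, hfp, hhp, hex, -⟩ :=
    Groth.Agent.Lib.Helper57.ChainSplit.exists_quotient_section f hf
      (fun q => projective_of_free_int _ _ _ (hq q)) inferInstance
  have hph : ∀ q (x : Q.X q), (p.f q).hom ((h.f q).hom x) = x := by
    intro q x
    have h2 : ((h ≫ p).f q).hom x = ((𝟙 Q : Q ⟶ Q).f q).hom x := by rw [hhp]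
    exact h2
  have hpf : ∀ q (x : A'.X q), (p.f q).hom ((f.f q).hom x) = 0 := fun q x =>
    (hex q).apply_apply_eq_zero x
  -- the components of the retraction
  have hg : ∀ q, ∃ g : A.X q →ₗ[ℤ] A'.X q,
      (f.f q).hom ∘ₗ g = LinearMap.id - (h.f q).hom ∘ₗ (p.f q).hom := by
    intro q
    apply Groth.Agent.Lib.Helper57.ChainSplit.exists_factor_of_injective _ (hf q)
    rintro _ ⟨a, rfl⟩
    apply ((hex q) _).mp
    simp only [LinearMap.sub_apply, LinearMap.id_apply, LinearMap.comp_apply, map_sub, hph,
      sub_self]
  choose g hgspec using hg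
  have hgs : ∀ q (a : A.X q), (f.f q).hom (g q a) = a - (h.f q).hom ((p.f q).hom a) :=
    fun q a => LinearMap.congr_fun (hgspec q) a
  refine ⟨{ f := fun q => ModuleCat.ofHom (g q), comm' := ?_ }, ?_⟩
  · intro i j _
    ext a
    apply hf j
    show (f.f j).hom ((A'.d i j).hom (g i a)) = (f.f j).hom (g j ((A.d i j).hom a))
    rw [hgs, Groth.Agent.Lib.Helper57.ChainSplit.comm_apply f, hgs, map_sub,
      Groth.Agent.Lib.Helper57.ChainSplit.comm_apply p,
      Groth.Agent.Lib.Helper57.ChainSplit.comm_apply h]
  · ext q a
    apply hf q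
    show (f.f q).hom (g q ((f.f q).hom a)) = (f.f q).hom a
    rw [hgs, hpf, map_zero, sub_zero]

end Groth.Agent.S16329
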