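import Groth.Statements.S16330
import Groth.Agent.Lib.Helper57.ChainSplit
-- import your own Groth.Agent.* helpers here

set_option autoImplicit false
universe v
open CategoryTheory
open W4c3biextchow

namespace Groth.Agent.S16330

/-- projectivity does not depend on the chosen `ℤ`-module structure. -/
theorem projective_of_free_int (X : Type*) [AddCommGroup X] (m1 m2 : Module ℤ X)
    (h : @Module.Free ℤ X _ _ m1) : @Module.Projective ℤ _ X _ m2 := by
  have : m1 = m2 := Subsingleton.elim _ _
  subst this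
  exact Module.Projective.of_free

/-- Let f : A' ⟶ A be a chain map of ℕ-indexed chain complexes of free abelian groups which is injective
in every degree, whose degreewise quotients A_q / f(A'_q) are free abelian groups, and which is a
quasi-isomorphism. Then any two chain maps g₁, g₂ : A ⟶ A' with f ≫ g₁ = f ≫ g₂ = 𝟙 differ by a
null-homotopic map: there is a chain homotopy between g₁ and g₂ all of whose components vanish on
the image of f (so g₁ - g₂ factors through the quotient complex A / A', and the homotopy does too).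
(The source allows complexes indexed by all integers; stated here for complexes in non-negative
degrees.) -/
theorem result
    (A' A : ChainComplex (ModuleCat.{v} ℤ) ℕ) (f : A' ⟶ A)
    [∀ q, Module.Free ℤ (A'.X q)] [∀ q, Module.Free ℤ (A.X q)]
    (hf : ∀ q, Function.Injective (f.f q).hom)
    (hq : ∀ q, Module.Free ℤ ((A.X q) ⧸ LinearMap.range (f.f q).hom)) [QuasiIso f]
    (g₁ g₂ : A ⟶ A') (h₁ : f ≫ g₁ = 𝟙 A') (h₂ : f ≫ g₂ = 𝟙 A') :
    ∃ H : Homotopy g₁ g₂, ∀ i j : ℕ, f.f i ≫ H.hom i j = 0 := by
  obtain ⟨Q, p, h, hfp, hhp, hex, ⟨hc⟩⟩ :=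
    Groth.Agent.Lib.Helper57.ChainSplit.exists_quotient_section f hf
      (fun q => projective_of_free_int _ _ _ (hq q)) inferInstance
  have hph : ∀ q (x : Q.X q), (p.f q).hom ((h.f q).hom x) = x := by
    intro q x
    have h2 : ((h ≫ p).f q).hom x = ((𝟙 Q : Q ⟶ Q).f q).hom x := by rw [hhp]
    exact h2
  have hg₁ : ∀ q (x : A'.X q), (g₁.f q).hom ((f.f q).hom x) = x := by
    intro q x
    have h2 : ((f ≫ g₁).f q).hom x = ((𝟙 A' : A' ⟶ A').f q).hom x := by rw [h₁]
    exact h2
  have hg₂ : ∀ q (x : A'.X q), (g₂.f q).hom ((f.f q).hom x) = x := by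
    intro q x
    have h2 : ((f ≫ g₂).f q).hom x = ((𝟙 A' : A' ⟶ A').f q).hom x := by rw [h₂]
    exact h2
  -- `g₁ - g₂` factors through `p`
  have hfac : p ≫ h ≫ (g₁ - g₂) = g₁ - g₂ := by
    ext q a
    show (g₁.f q).hom ((h.f q).hom ((p.f q).hom a)) - (g₂.f q).hom ((h.f q).hom ((p.f q).hom a)) =
      (g₁.f q).hom a - (g₂.f q).hom a
    have h1 : (p.f q).hom (a - (h.f q).hom ((p.f q).hom a)) = 0 := by
      rw [map_sub, hph, sub_self]
    obtain ⟨b, hb⟩ := ((hex q) _).mp h1
    have h3 : (h.f q).hom ((p.f q).hom a) = a - (f.f q).hom b := by rw [hb]; abel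
    rw [h3, map_sub, map_sub, hg₁, hg₂]
    abel
  let H0 : Homotopy (g₁ - g₂) 0 :=
    (Homotopy.ofEq (by rw [Category.id_comp, hfac])).trans
      (((hc.compRight (h ≫ (g₁ - g₂))).compLeft p).trans
        (Homotopy.ofEq (by rw [Limits.zero_comp, Limits.comp_zero])))
  refine ⟨Homotopy.equivSubZero.symm H0, ?_⟩
  intro i j
  show f.f i ≫ H0.hom i j = 0
  simp only [H0, Homotopy.trans_hom, Homotopy.ofEq_hom, Homotopy.compLeft_hom,
    Homotopy.compRight_hom, Pi.zero_apply, zero_add, add_zero]
  rw [← Category.assoc, ← HomologicalComplex.comp_f, hfp]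
  simp

end Groth.Agent.S16330
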