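import Groth.Statements.S16331
import Mathlib
import Groth.Agent.S16330
-- import your own Groth.Agent.* helpers here

set_option autoImplicit false
universe v
open CategoryTheory
open W4c3biextchow

namespace Groth.Agent.S16331

/-- every morphism of the groupoid of a chain complex is an isomorphism -/
def isoOfHom {R : Type*} [Ring R] {C : ChainComplex (ModuleCat.{v} R) ℕ} {a b : Obj C}
    (φ : a ⟶ b) : a ≅ b where
  hom := φ
  inv := (⟨-(φ : Hom C a b).cl, by rw [map_neg, (φ : Hom C a b).delta_cl]; abel⟩ : Hom C b a)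
  hom_inv_id := Hom.ext (by simp)
  inv_hom_id := Hom.ext (by simp)

/-- Let f : A' ⟶ A be a chain map of ℕ-indexed chain complexes of free abelian groups which is injective
in every degree, with free degreewise quotients A_q / f(A'_q), and a quasi-isomorphism; let h' : A'
⟶ B be a chain map to another complex of free abelian groups and g₁, g₂ : A ⟶ A' two chain maps with
f ≫ g₁ = f ≫ g₂ = 𝟙. Consider the functors induced by g₁ ≫ h' and g₂ ≫ h' between the groupoids
attached to A and B (objects: degree-0 elements; morphisms a ⟶ b: degree-1 elements with boundary b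
- a, modulo boundaries of degree-2 elements). Then there is a natural isomorphism between these two
functors whose component at every object of the form f(a'), a' a degree-0 element of A', is the zero
class, i.e. the identity morphism of h'(a'). -/
theorem result
    (A' A B : ChainComplex (ModuleCat.{v} ℤ) ℕ) (f : A' ⟶ A) (h' : A' ⟶ B)
    [∀ q, Module.Free ℤ (A'.X q)] [∀ q, Module.Free ℤ (A.X q)] [∀ q, Module.Free ℤ (B.X q)]
    (hf : ∀ q, Function.Injective (f.f q).hom)
    (hq : ∀ q, Module.Free ℤ ((A.X q) ⧸ LinearMap.range (f.f q).hom)) [QuasiIso f]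
    (g₁ g₂ : A ⟶ A') (h₁ : f ≫ g₁ = 𝟙 A') (h₂ : f ≫ g₂ = 𝟙 A') :
    ∃ N : W4c3biextchow.cxFunctor (g₁ ≫ h') ≅ W4c3biextchow.cxFunctor (g₂ ≫ h'),
      ∀ a : W4c3biextchow.Obj A',
        (N.hom.app ((W4c3biextchow.cxFunctor f).obj a) : W4c3biextchow.Hom B _ _).cl = 0 := by
  classical
  obtain ⟨H, hH⟩ := Groth.Agent.S16330.result A' A f hf hq g₁ g₂ h₁ h₂
  have key0 : ∀ a : A.X 0,
      (g₁.f 0).hom a - (g₂.f 0).hom a = (A'.d 1 0).hom ((H.hom 0 1).hom a) := by
    intro a
    have h0 := H.comm 0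
    rw [Homotopy.dNext_zero_chainComplex, Homotopy.prevD_chainComplex] at h0
    have h1 := congrArg (fun φ => φ.hom a) h0
    simp at h1
    rw [h1]; abel
  have key1 : ∀ x : A.X 1, (g₁.f 1).hom x - (g₂.f 1).hom x =
      (H.hom 0 1).hom ((A.d 1 0).hom x) + (A'.d 2 1).hom ((H.hom 1 2).hom x) := by
    intro x
    have h0 := H.comm 1
    rw [Homotopy.dNext_succ_chainComplex, Homotopy.prevD_chainComplex] at h0
    have h1 := congrArg (fun φ => φ.hom x) h0
    simp at h1
    rw [h1]; abel
  have hd10 : ∀ y : A'.X 1, (B.d 1 0).hom ((h'.f 1).hom y) = (h'.f 0).hom ((A'.d 1 0).hom y) := by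
    intro y
    have := congrArg (fun φ => φ.hom y) (h'.comm 1 0)
    simpa only [ModuleCat.hom_comp, LinearMap.comp_apply] using this
  have hd21 : ∀ y : A'.X 2, (B.d 2 1).hom ((h'.f 2).hom y) = (h'.f 1).hom ((A'.d 2 1).hom y) := by
    intro y
    have := congrArg (fun φ => φ.hom y) (h'.comm 2 1)
    simpa only [ModuleCat.hom_comp, LinearMap.comp_apply] using this
  let comp : ∀ a : Obj A, (cxFunctor (g₁ ≫ h')).obj a ⟶ (cxFunctor (g₂ ≫ h')).obj a := fun a =>
    (⟨Submodule.Quotient.mk (-(h'.f 1).hom ((H.hom 0 1).hom a.pt)), by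
      rw [delta_mk, map_neg, hd10, ← key0]
      simp⟩ : Hom B _ _)
  refine ⟨NatIso.ofComponents (fun a => isoOfHom (comp a)) ?_, ?_⟩
  · intro a b φ
    apply Hom.ext
    simp only [comp_cl, cxFunctor_map_cl, isoOfHom, comp]
    obtain ⟨x, hx⟩ := Submodule.Quotient.mk_surjective _ (φ : Hom A a b).cl
    have hdx : (A.d 1 0).hom x = b.pt - a.pt := by
      have := (φ : Hom A a b).delta_cl
      rwa [← hx, delta_mk] at this
    rw [← hx, q1Map_mk, q1Map_mk, ← Submodule.Quotient.mk_add, ← Submodule.Quotient.mk_add,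
      Submodule.Quotient.eq]
    refine ⟨(h'.f 2).hom ((H.hom 1 2).hom x), ?_⟩
    rw [hd21]
    have e1 : ((g₁ ≫ h').f 1).hom x = (h'.f 1).hom ((g₁.f 1).hom x) := by simp
    have e2 : ((g₂ ≫ h').f 1).hom x = (h'.f 1).hom ((g₂.f 1).hom x) := by simp
    have k := key1 x
    rw [hdx, map_sub] at k
    have k' : (g₁.f 1).hom x = (g₂.f 1).hom x + ((H.hom 0 1).hom b.pt - (H.hom 0 1).hom a.pt
        + (A'.d 2 1).hom ((H.hom 1 2).hom x)) := by rw [← k]; abel
    rw [e1, e2, k']
    simp only [map_add, map_sub]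
    abel
  · intro a
    have h0 : (H.hom 0 1).hom ((f.f 0).hom a.pt) = 0 := by
      have := congrArg (fun φ => φ.hom a.pt) (hH 0 1)
      simpa using this
    change (Submodule.Quotient.mk (-(h'.f 1).hom ((H.hom 0 1).hom ((f.f 0).hom a.pt))) : Q1 B) = 0
    rw [h0]; simp

end Groth.Agent.S16331
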