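import Groth.Statements.S16333
import Mathlib
import Groth.Agent.S0212
import Groth.Agent.Lib.Helper52.HMinusOne

set_option autoImplicit false
universe u
open GalCoh

namespace Groth.Agent.S16333

/-- Let k be an algebraically closed field, K an extension field of k which is finitely generated of
transcendence degree 1 (the function field of an irreducible curve over k), and L a finite Galois
extension of K. Then (1) the norm map from L to K is surjective, and (2) a nonzero element of L has
norm 1 if and only if it lies in the subgroup of units generated by the elements w / g(w), w a unit
of L and g an automorphism of L over K. (The published statement is for the function fields of an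
irreducible curve and of a component of its preimage under a finite abelian étale cover of the
ambient variety; this row takes any finite Galois extension of a function field of transcendence
degree 1 over an algebraically closed field.) -/
theorem result
    (k : Type u) [Field k] [IsAlgClosed k] (K L : Type u) [Field K] [Field L]
    [Algebra k K] [Algebra K L] [FiniteDimensional K L] [IsGalois K L]
    (hfg : (⊤ : IntermediateField k K).FG) (htr : Algebra.trdeg k K = 1) :
    Function.Surjective (Algebra.norm K : L → K) ∧
      ∀ u : Lˣ, Algebra.norm K (u : L) = 1 ↔
        u ∈ Subgroup.closure {v : Lˣ | ∃ (w : Lˣ) (g : L ≃ₐ[K] L), (v : L) = (w : L) / g (w : L)} := by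
  have hCi : Curves.IsCi K 1 := Groth.Agent.S0212.result k K 1 (by rw [htr]; simp)
  have hK : Curves.IsCr K 1 := Groth.Agent.Lib.Helper52.NormC1.isCr_of_isCi hCi
  refine ⟨Groth.Agent.Lib.Helper52.NormC1.norm_surjective hK, fun u => ⟨fun hu => ?_, fun hu => ?_⟩⟩
  · exact Groth.Agent.Lib.Helper52.HMinusOne.mem_aug_of_norm_eq_one hK u hu
  · exact Groth.Agent.Lib.Helper52.HMinusOne.norm_eq_one_of_mem_aug u hu

end Groth.Agent.S16333
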