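import Groth.Statements.S16335
import Mathlib
-- import your own Groth.Agent.* helpers here

set_option autoImplicit false
universe u v w w'
open TensorProduct
open InvTh

namespace Groth.Agent.S16335

/-- Let `R` be a commutative ring with an action of a finite group `Γ` by ring automorphisms such that
the order of `Γ` is invertible in `R`, and let `A → R` be injective with image exactly the
invariants `R^Γ`, the action being `A`-linear. Then for every commutative `A`-algebra `S`, with `Γ`
acting on `S ⊗_A R` through the factor `R`, the map `S → S ⊗_A R`, `s ↦ s ⊗ 1`, is injective and its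
image is exactly the set of `Γ`-fixed elements: `S ≅ (S ⊗_A R)^Γ`. No flatness of `S` over `A` is
assumed; the invertibility of the order of `Γ` replaces it. This is the affine statement that for a
tame quotient the coarse space commutes with arbitrary base change. (The published lemma is the
statement that the coarse moduli space of a tame Deligne–Mumford stack commutes with arbitrary base
change, whose proof reduces to this ring statement. The published lemma also asserts the analogous
statement for the reduced fibre product when the base-change scheme is reduced; that clause is not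
part of this row.) -/
theorem result
    (A : Type u) [CommRing A] (R : Type v) [CommRing R] [Algebra A R]
    (Γ : Type w) [Group Γ] [Finite Γ] [MulSemiringAction Γ R] [SMulCommClass Γ A R]
    [Algebra.IsInvariant A R Γ] (hinj : Function.Injective (algebraMap A R))
    (hΓ : IsUnit (Nat.card Γ : R))
    (S : Type w') [CommRing S] [Algebra A S] :
    Function.Injective (fun s : S => s ⊗ₜ[A] (1 : R)) ∧
      ∀ x : S ⊗[A] R,
        (∀ γ : Γ, Algebra.TensorProduct.map (AlgHom.id A S) (MulSemiringAction.toAlgHom A R γ) x = x) →
          x ∈ Set.range (fun s : S => s ⊗ₜ[A] (1 : R)) := by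
  classical
  have : Fintype Γ := Fintype.ofFinite Γ
  -- elements of `A` are fixed
  have hfixA : ∀ (γ : Γ) (a : A), γ • algebraMap A R a = algebraMap A R a := by
    intro γ a
    rw [Algebra.algebraMap_eq_smul_one, smul_comm, smul_one]
  -- the inverse of the cardinality comes from `A`
  obtain ⟨c, hc⟩ := hΓ.exists_left_inv
  have hcfix : ∀ γ : Γ, γ • c = c := by
    intro γ
    have h1 : γ • c * (Nat.card Γ : R) = 1 := by
      have hn : γ • ((Nat.card Γ : ℕ) : R) = (Nat.card Γ : R) :=
        map_natCast (MulSemiringAction.toRingHom Γ R γ) _
      have := congrArg (fun z => γ • z) hc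
      simp only [smul_mul', smul_one] at this
      rw [hn] at this
      exact this
    calc γ • c = γ • c * ((Nat.card Γ : R) * c) := by rw [mul_comm _ c, hc, mul_one]
      _ = (γ • c * (Nat.card Γ : R)) * c := by ring
      _ = c := by rw [h1, one_mul]
  obtain ⟨c', hc'⟩ := Algebra.IsInvariant.isInvariant (A := A) (G := Γ) c hcfix
  have hc'1 : c' * (Nat.card Γ : A) = 1 := by
    apply hinj
    rw [map_mul, hc', map_natCast, hc, map_one]
  -- the averaging operator on `R`, as an `A`-linear map
  let act : Γ → (R →ₗ[A] R) := fun γ => (MulSemiringAction.toAlgHom A R γ).toLinearMap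
  let avg : R →ₗ[A] R := c' • ∑ γ : Γ, act γ
  have havg_apply : ∀ r : R, avg r = c * ∑ γ : Γ, γ • r := by
    intro r
    show (c' • ∑ γ : Γ, act γ) r = _
    rw [LinearMap.smul_apply, LinearMap.sum_apply, Algebra.smul_def, hc']
    rfl
  have havg_fixed : ∀ (r : R) (γ : Γ), γ • avg r = avg r := by
    intro r γ
    rw [havg_apply, smul_mul', hcfix, Finset.smul_sum]
    congr 1
    exact Fintype.sum_bijective (fun g => γ * g) (Group.mulLeft_bijective γ) _ _
      (fun g => (mul_smul γ g r).symm)
  -- Reynolds operator
  have hex : ∀ r : R, ∃ a : A, algebraMap A R a = avg r := fun r =>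
    Algebra.IsInvariant.isInvariant (A := A) (G := Γ) (avg r) (havg_fixed r)
  choose ρf hρf using hex
  let ρ : R →ₗ[A] A :=
    { toFun := ρf
      map_add' := fun r₁ r₂ => hinj (by rw [map_add, hρf, hρf, hρf, map_add])
      map_smul' := fun a r => hinj (by
        rw [RingHom.id_apply, hρf, map_smul, smul_eq_mul, map_mul, hρf, Algebra.smul_def]) }
  have hρ : ∀ r, algebraMap A R (ρ r) = avg r := hρf
  have hρ1 : ρ 1 = 1 := by
    apply hinj
    rw [hρ, havg_apply, map_one]
    simp only [smul_one, Finset.sum_const, Finset.card_univ, nsmul_eq_mul, mul_one]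
    rw [← Nat.card_eq_fintype_card, hc]
  have hcomp : (Algebra.linearMap A R) ∘ₗ ρ = avg := by
    ext r
    exact hρ r
  refine ⟨?_, ?_⟩
  · -- injectivity through the retraction
    let φ : S ⊗[A] R →ₗ[A] S := (TensorProduct.rid A S).toLinearMap ∘ₗ (LinearMap.lTensor S ρ)
    have hφ : ∀ s : S, φ (s ⊗ₜ[A] (1 : R)) = s := by
      intro s
      simp [φ, hρ1]
    intro s₁ s₂ h
    have := congrArg φ h
    simpa [hφ] using this
  · intro x hx
    have hxact : ∀ γ : Γ, (LinearMap.lTensor S (act γ)) x = x := by
      intro γ
      have h2 : ∀ y : S ⊗[A] R, (LinearMap.lTensor S (act γ)) y =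
          Algebra.TensorProduct.map (AlgHom.id A S) (MulSemiringAction.toAlgHom A R γ) y := by
        intro y
        induction y using TensorProduct.induction_on with
        | zero => simp
        | tmul s r => simp [act]
        | add y₁ y₂ h₁ h₂ => rw [map_add, map_add, h₁, h₂]
      rw [h2, hx]
    have hx2 : (LinearMap.lTensor S avg) x = x := by
      have : LinearMap.lTensor S avg = c' • ∑ γ : Γ, LinearMap.lTensor S (act γ) := by
        simp only [avg, LinearMap.lTensor_smul]
        congr 1
        exact map_sum (LinearMap.lTensorHom (R := A) S) _ _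
      rw [this, LinearMap.smul_apply, LinearMap.sum_apply]
      simp only [hxact]
      rw [Finset.sum_const, Finset.card_univ, ← Nat.card_eq_fintype_card, ← Nat.cast_smul_eq_nsmul A,
        smul_smul, hc'1, one_smul]
    refine ⟨TensorProduct.rid A S (LinearMap.lTensor S ρ x), ?_⟩
    show (TensorProduct.rid A S (LinearMap.lTensor S ρ x)) ⊗ₜ[A] (1 : R) = x
    conv_rhs => rw [← hx2, ← hcomp, LinearMap.lTensor_comp, LinearMap.comp_apply]
    generalize LinearMap.lTensor S ρ x = y
    induction y using TensorProduct.induction_on with
    | zero => simp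
    | tmul s a =>
      simp only [TensorProduct.rid_tmul, LinearMap.lTensor_tmul, Algebra.linearMap_apply]
      rw [TensorProduct.smul_tmul, Algebra.algebraMap_eq_smul_one]
    | add y₁ y₂ h₁ h₂ => rw [map_add, map_add, TensorProduct.add_tmul, h₁, h₂]

end Groth.Agent.S16335
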