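import Groth.Statements.S16337
import Mathlib
-- import your own Groth.Agent.* helpers here

set_option autoImplicit false
universe u v w
open InvTh

namespace Groth.Agent.S16337

/-- Let `A` be a commutative ring, `Γ` a finite group whose order is invertible in `A`, `M` an
`A`-module with an `A`-linear action of `Γ`, and `I` an ideal of `A`. Then reduction modulo `I`
induces a bijection `M^Γ / I·M^Γ ≅ (M / IM)^Γ`: (a) an element of `M` fixed by `Γ` modulo `IM` is
congruent modulo `IM` to a `Γ`-fixed element, and (b) a `Γ`-fixed element lying in `IM` lies in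
`I·M^Γ`, where `M^Γ` is the submodule of `Γ`-fixed elements. (The published lemma says that
push-forward to the coarse space of a tame stack over a complete local base commutes with reduction
modulo powers of the maximal ideal; this row is the module statement its proof establishes, for an
arbitrary ideal.) -/
theorem result
    (A : Type u) [CommRing A] (Γ : Type v) [Group Γ] [Finite Γ] (hΓ : IsUnit (Nat.card Γ : A))
    (M : Type w) [AddCommGroup M] [Module A M] [DistribMulAction Γ M] [SMulCommClass Γ A M]
    (I : Ideal A) :
    (∀ x : M, (∀ γ : Γ, γ • x - x ∈ I • (⊤ : Submodule A M)) →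
        ∃ y : M, (∀ γ : Γ, γ • y = y) ∧ x - y ∈ I • (⊤ : Submodule A M)) ∧
      ∀ y : M, (∀ γ : Γ, γ • y = y) → y ∈ I • (⊤ : Submodule A M) →
        y ∈ I • Submodule.span A {m : M | ∀ γ : Γ, γ • m = m} := by
  classical
  have : Fintype Γ := Fintype.ofFinite Γ
  obtain ⟨c, hc⟩ := hΓ.exists_left_inv
  -- the averaging operator
  have havg_fixed : ∀ m : M, ∀ γ : Γ, γ • (c • ∑ g : Γ, g • m) = c • ∑ g : Γ, g • m := by
    intro m γ
    rw [smul_comm γ c, Finset.smul_sum]
    congr 1
    exact Fintype.sum_bijective (fun g => γ * g) (Group.mulLeft_bijective γ) _ _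
      (fun g => (mul_smul γ g m).symm)
  have havg_of_fixed : ∀ m : M, (∀ γ : Γ, γ • m = m) → c • ∑ g : Γ, g • m = m := by
    intro m hm
    simp only [hm]
    rw [Finset.sum_const, Finset.card_univ, ← Nat.card_eq_fintype_card, ← Nat.cast_smul_eq_nsmul A,
      smul_smul, hc, one_smul]
  have hcard : ∀ m : M, c • ∑ _g : Γ, m = m := by
    intro m
    rw [Finset.sum_const, Finset.card_univ, ← Nat.card_eq_fintype_card, ← Nat.cast_smul_eq_nsmul A,
      smul_smul, hc, one_smul]
  refine ⟨?_, ?_⟩
  · intro x hx
    refine ⟨c • ∑ g : Γ, g • x, havg_fixed x, ?_⟩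
    have : x - c • ∑ g : Γ, g • x = c • ∑ g : Γ, (x - g • x) := by
      rw [Finset.sum_sub_distrib, smul_sub, hcard]
    rw [this]
    refine Submodule.smul_mem _ _ (Submodule.sum_mem _ fun g _ => ?_)
    have := hx g
    rw [← neg_sub]
    exact Submodule.neg_mem _ this
  · intro y hy hyI
    -- the averaging map sends I • ⊤ into I • span(fixed)
    have key : ∀ z ∈ I • (⊤ : Submodule A M),
        c • ∑ g : Γ, g • z ∈ I • Submodule.span A {m : M | ∀ γ : Γ, γ • m = m} := by
      intro z hz
      refine Submodule.smul_induction_on hz ?_ ?_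
      · intro a ha m _
        have : c • ∑ g : Γ, g • (a • m) = a • (c • ∑ g : Γ, g • m) := by
          rw [smul_comm a c]
          congr 1
          rw [Finset.smul_sum]
          exact Finset.sum_congr rfl fun g _ => smul_comm g a m
        rw [this]
        exact Submodule.smul_mem_smul ha (Submodule.subset_span (havg_fixed m))
      · intro z₁ z₂ h₁ h₂
        have : c • ∑ g : Γ, g • (z₁ + z₂) = c • ∑ g : Γ, g • z₁ + c • ∑ g : Γ, g • z₂ := by
          simp only [smul_add, Finset.sum_add_distrib]
        rw [this]
        exact Submodule.add_mem _ h₁ h₂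
    have := key y hyI
    rwa [havg_of_fixed y hy] at this

end Groth.Agent.S16337
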