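import Groth.Statements.S16343
import Mathlib
-- import your own Groth.Agent.* helpers here

set_option autoImplicit false
open KatoHom

namespace Groth.Agent.S16343


lemma exists_split (P : Set ℕ) (n : ℕ) (hn : 0 < n) :
    ∃ a b : ℕ, n = a * b ∧ 0 < a ∧ 0 < b ∧ (∀ p : ℕ, p.Prime → p ∣ a → p ∈ P) ∧
      (∀ p : ℕ, p.Prime → p ∣ b → p ∉ P) := by
  induction n using Nat.strong_induction_on with
  | _ n ih =>
    by_cases h1 : n = 1
    · exact ⟨1, 1, by simp [h1], one_pos, one_pos,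
        fun p hp h => absurd (Nat.dvd_one.mp h) hp.ne_one,
        fun p hp h => absurd (Nat.dvd_one.mp h) hp.ne_one⟩
    · have hp := Nat.minFac_prime h1
      obtain ⟨m, hm⟩ := Nat.minFac_dvd n
      have hmpos : 0 < m := by
        rcases Nat.eq_zero_or_pos m with h0 | h0
        · rw [h0, mul_zero] at hm; omega
        · exact h0
      have hmlt : m < n := by
        have := hp.one_lt
        nlinarith
      obtain ⟨a, b, hab, ha, hb, haP, hbP⟩ := ih m hmlt hmpos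
      by_cases hpP : n.minFac ∈ P
      · refine ⟨n.minFac * a, b, by rw [mul_assoc, ← hab]; exact hm, Nat.mul_pos hp.pos ha, hb, ?_, hbP⟩
        intro p hpp hd
        rcases (Nat.Prime.dvd_mul hpp).mp hd with h | h
        · rwa [(Nat.prime_dvd_prime_iff_eq hpp hp).mp h]
        · exact haP p hpp h
      · refine ⟨a, n.minFac * b, by rw [mul_left_comm, ← hab]; exact hm, ha, Nat.mul_pos hp.pos hb, haP, ?_⟩
        intro p hpp hd
        rcases (Nat.Prime.dvd_mul hpp).mp hd with h | h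
        · rwa [(Nat.prime_dvd_prime_iff_eq hpp hp).mp h]
        · exact hbP p hpp h

lemma coprime_of (P : Set ℕ) (a b : ℕ) (haP : ∀ p : ℕ, p.Prime → p ∣ a → p ∈ P)
    (hbP : ∀ p : ℕ, p.Prime → p ∣ b → p ∉ P) : Nat.Coprime a b :=
  Nat.coprime_of_dvd (fun k hk hka hkb => hbP k hk hkb (haP k hk hka))

lemma bezout_smul {M : Type*} [AddCommGroup M] (a b : ℕ) (hab : Nat.Coprime a b) (t : M) :
    ∃ u v : ℤ, t = a • (u • t) + b • (v • t) := by
  refine ⟨a.gcdA b, a.gcdB b, ?_⟩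
  have h := Nat.gcd_eq_gcd_ab a b
  rw [hab.gcd_eq_one] at h
  have h2 : t = ((a : ℤ) * a.gcdA b + (b : ℤ) * a.gcdB b) • t := by
    rw [← h]; simp
  rw [add_smul, mul_smul, mul_smul, natCast_zsmul, natCast_zsmul] at h2
  exact h2

lemma div_of_primes {A : Type*} [AddCommGroup A] (H : AddSubgroup A) (Pr : ℕ → Prop)
    (hH : ∀ q : ℕ, q.Prime → Pr q → ∀ x ∈ H, ∃ y ∈ H, q • y = x) :
    ∀ n : ℕ, 0 < n → (∀ p : ℕ, p.Prime → p ∣ n → Pr p) → ∀ x ∈ H, ∃ y ∈ H, n • y = x := by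
  intro n
  induction n using Nat.strong_induction_on with
  | _ n ih =>
    intro hn hnP x hx
    by_cases h1 : n = 1
    · exact ⟨x, hx, by rw [h1, one_smul]⟩
    · have hp : (Nat.minFac n).Prime := Nat.minFac_prime h1
      obtain ⟨m, hm⟩ := Nat.minFac_dvd n
      have hmpos : 0 < m := by
        rcases Nat.eq_zero_or_pos m with h0 | h0
        · rw [h0, mul_zero] at hm; omega
        · exact h0
      have hmlt : m < n := by
        have := hp.one_lt
        nlinarith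
      obtain ⟨y, hyH, hy⟩ := hH _ hp (hnP _ hp (Nat.minFac_dvd n)) x hx
      obtain ⟨z, hzH, hz⟩ := ih m hmlt hmpos (fun p hpp hd => hnP p hpp (by
        rw [hm]; exact Dvd.dvd.mul_left hd _)) y hyH
      refine ⟨z, hzH, ?_⟩
      rw [← hy, ← hz, ← mul_smul, ← hm]

/-- P-primary torsion subgroup -/
def primTors (P : Set ℕ) (M : Type*) [AddCommGroup M] : AddSubgroup M where
  carrier := {t | ∃ n : ℕ, 0 < n ∧ (∀ p : ℕ, p.Prime → p ∣ n → p ∈ P) ∧ n • t = 0}
  zero_mem' := ⟨1, one_pos, fun p hp h => absurd (Nat.dvd_one.mp h) hp.ne_one, by simp⟩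
  add_mem' := by
    rintro a b ⟨n, hn, hnP, hna⟩ ⟨m, hm, hmP, hmb⟩
    refine ⟨n * m, Nat.mul_pos hn hm, ?_, ?_⟩
    · intro p hp hd
      rcases (Nat.Prime.dvd_mul hp).mp hd with h | h
      · exact hnP p hp h
      · exact hmP p hp h
    · rw [smul_add, mul_comm, mul_smul, hna, smul_zero, mul_comm, mul_smul, hmb, smul_zero, add_zero]
  neg_mem' := by
    rintro a ⟨n, hn, hnP, hna⟩
    exact ⟨n, hn, hnP, by rw [smul_neg, hna, neg_zero]⟩

lemma mem_primTors (P : Set ℕ) (M : Type*) [AddCommGroup M] (t : M) :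
    t ∈ primTors P M ↔ ∃ n : ℕ, 0 < n ∧ (∀ p : ℕ, p.Prime → p ∣ n → p ∈ P) ∧ n • t = 0 := Iff.rfl


/-- Let P be a set of primes and π : A → T a surjection of abelian groups whose kernel is ℓ-divisible
for every ℓ ∈ P, with T a torsion group; let T(P) be the subgroup of elements of T killed by a
positive integer all of whose prime factors lie in P, and T' the subgroup of elements killed by a
positive integer none of whose prime factors lies in P. Then the preimage π⁻¹(T') is ℓ-divisible for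
every ℓ ∈ P, and π has a section s over T(P) for which (d, t) ↦ d + s(t) is a bijection from π⁻¹(T')
× T(P) onto A, so that A is the direct sum of π⁻¹(T') and a copy of T(P). (The decomposition is
expressed through a section of π over T(P).) -/
theorem result
    {A T : Type*} [AddCommGroup A] [AddCommGroup T] (P : Set ℕ) (hP : ∀ p ∈ P, p.Prime)
    (π : A →+ T) (hπ : Function.Surjective π) (hT : ∀ t : T, ∃ n : ℕ, 0 < n ∧ n • t = 0)
    (hD : ∀ ℓ ∈ P, ∀ x ∈ π.ker, ∃ y ∈ π.ker, ℓ • y = x)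
    (TP T' : AddSubgroup T)
    (hTP : ∀ t, t ∈ TP ↔ ∃ n : ℕ, 0 < n ∧ (∀ p : ℕ, p.Prime → p ∣ n → p ∈ P) ∧ n • t = 0)
    (hT' : ∀ t, t ∈ T' ↔ ∃ n : ℕ, 0 < n ∧ (∀ p : ℕ, p.Prime → p ∣ n → p ∉ P) ∧ n • t = 0) :
    (∀ ℓ ∈ P, ∀ x ∈ T'.comap π, ∃ y ∈ T'.comap π, ℓ • y = x) ∧
    ∃ s : TP →+ A, (∀ t : TP, π (s t) = (t : T)) ∧
      Function.Bijective (fun q : (T'.comap π) × TP => (q.1 : A) + s q.2) := by
  classical
  have hprimeP : ∀ q ∈ P, ∀ p : ℕ, p.Prime → p ∣ q → p ∈ P := by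
    intro q hq p hp hd
    rw [(Nat.prime_dvd_prime_iff_eq hp (hP q hq)).mp hd]; exact hq
  have hDdiv := div_of_primes π.ker (fun q => q ∈ P) (fun q _ hq x hx => hD q hq x hx)
  -- Part 1
  have part1 : ∀ ℓ ∈ P, ∀ x ∈ T'.comap π, ∃ y ∈ T'.comap π, ℓ • y = x := by
    intro ℓ hℓ x hx
    obtain ⟨n, hn, hnP, hnx⟩ := (hT' _).mp (AddSubgroup.mem_comap.mp hx)
    have hcop : Nat.Coprime ℓ n := coprime_of P ℓ n (hprimeP ℓ hℓ) hnP
    obtain ⟨u, v, huv⟩ := bezout_smul ℓ n hcop x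
    have hker : n • (v • x) ∈ π.ker := by
      rw [AddMonoidHom.mem_ker, map_nsmul, map_zsmul, smul_comm, hnx, smul_zero]
    obtain ⟨y', hy'ker, hy'⟩ := hD ℓ hℓ _ hker
    refine ⟨u • x + y', ?_, ?_⟩
    · rw [AddSubgroup.mem_comap, map_add, map_zsmul, AddMonoidHom.mem_ker.mp hy'ker, add_zero]
      exact T'.zsmul_mem (AddSubgroup.mem_comap.mp hx) u
    · rw [smul_add, hy']; exact huv.symm
  refine ⟨part1, ?_⟩
  -- disjointness
  have hdisj : ∀ t : T, t ∈ TP → t ∈ T' → t = 0 := by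
    intro t h1 h2
    obtain ⟨n, hn, hnP, hnt⟩ := (hTP t).mp h1
    obtain ⟨m, hm, hmP, hmt⟩ := (hT' t).mp h2
    obtain ⟨u, v, huv⟩ := bezout_smul n m (coprime_of P n m hnP hmP) t
    rw [huv, smul_comm, hnt, smul_zero, smul_comm, hmt, smul_zero, add_zero]
  -- E and Q
  let E : AddSubgroup A := primTors P A
  let Q : AddSubgroup A := π.ker ⊓ E
  have hQprime : ∀ q : ℕ, q.Prime → True → ∀ x ∈ Q, ∃ y ∈ Q, q • y = x := by
    rintro q hq - x ⟨hxker, n, hn, hnP, hnx⟩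
    by_cases hqP : q ∈ P
    · obtain ⟨y, hyker, hy⟩ := hD q hqP x hxker
      refine ⟨y, ⟨hyker, n * q, Nat.mul_pos hn hq.pos, ?_, ?_⟩, hy⟩
      · intro p hp hd
        rcases (Nat.Prime.dvd_mul hp).mp hd with h | h
        · exact hnP p hp h
        · exact hprimeP q hqP p hp h
      · rw [mul_smul, hy, hnx]
    · have hcop : Nat.Coprime n q := coprime_of P n q hnP (fun p hp hd => by
        rw [(Nat.prime_dvd_prime_iff_eq hp hq).mp hd]; exact hqP)
      obtain ⟨u, v, huv⟩ := bezout_smul n q hcop x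
      have h0 : n • (u • x) = 0 := by rw [smul_comm, hnx, smul_zero]
      refine ⟨v • x, Q.zsmul_mem ⟨hxker, n, hn, hnP, hnx⟩ v, ?_⟩
      calc q • (v • x) = n • (u • x) + q • (v • x) := by rw [h0, zero_add]
        _ = x := huv.symm
  have hQdiv : ∀ n : ℕ, 0 < n → ∀ x ∈ Q, ∃ y ∈ Q, n • y = x :=
    fun n hn => div_of_primes Q (fun _ => True) hQprime n hn (fun _ _ _ => trivial)
  haveI : DivisibleBy Q ℕ := divisibleByOfSMulRightSurj Q ℕ (by
    intro n hn a
    obtain ⟨y, hy, e⟩ := hQdiv n (Nat.pos_of_ne_zero hn) a.1 a.2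
    exact ⟨⟨y, hy⟩, Subtype.ext e⟩)
  haveI : DivisibleBy Q ℤ := AddGroup.divisibleByIntOfDivisibleByNat Q
  have hBaer : Module.Baer ℤ Q := Module.Baer.of_divisible Q
  have hQE : Q ≤ E := inf_le_right
  obtain ⟨r, hr⟩ := hBaer.extension_property_addMonoidHom (AddSubgroup.inclusion hQE)
    (AddSubgroup.inclusion_injective hQE) (AddMonoidHom.id Q)
  let σ : E →+ A := E.subtype - Q.subtype.comp r
  have hσ1 : ∀ e : E, π (σ e) = π e := by
    intro e
    show π ((e : A) - ((r e : Q) : A)) = π e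
    rw [map_sub, AddMonoidHom.mem_ker.mp (r e).2.1, sub_zero]
  have hσ2 : ∀ e : E, (e : A) ∈ π.ker → σ e = 0 := by
    intro e he
    have hq : (e : A) ∈ Q := ⟨he, e.2⟩
    have h1 : r e = ⟨e, hq⟩ := by
      have h0 : (AddSubgroup.inclusion hQE) ⟨(e : A), hq⟩ = e := Subtype.ext rfl
      have := DFunLike.congr_fun hr ⟨e, hq⟩
      rw [AddMonoidHom.comp_apply, h0] at this
      exact this
    show (e : A) - ((r e : Q) : A) = 0
    rw [h1, sub_self]
  have hlift : ∀ t : TP, ∃ e : E, π e = t := by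
    intro t
    obtain ⟨n, hn, hnP, hnt⟩ := (hTP t).mp t.2
    obtain ⟨a₀, ha₀⟩ := hπ t
    have hk : n • a₀ ∈ π.ker := by rw [AddMonoidHom.mem_ker, map_nsmul, ha₀, hnt]
    obtain ⟨d, hdker, hd⟩ := hDdiv n hn hnP _ hk
    refine ⟨⟨a₀ - d, n, hn, hnP, by rw [smul_sub, hd, sub_self]⟩, ?_⟩
    show π (a₀ - d) = t
    rw [map_sub, AddMonoidHom.mem_ker.mp hdker, sub_zero, ha₀]
  choose lift hl using hlift
  let s : TP →+ A := AddMonoidHom.mk' (fun t => σ (lift t)) (by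
    intro t t'
    rw [← map_add, ← sub_eq_zero, ← map_sub]
    apply hσ2
    rw [AddMonoidHom.mem_ker]
    show π ((lift (t + t') : A) - ((lift t : A) + (lift t' : A))) = 0
    rw [map_sub, map_add, hl, hl, hl]
    simp)
  have hs : ∀ t : TP, π (s t) = (t : T) := by
    intro t
    show π (σ (lift t)) = t
    rw [hσ1, hl]
  refine ⟨s, hs, ?_, ?_⟩
  · rintro ⟨d, t⟩ ⟨d', t'⟩ h
    have h' : (d : A) + s t = (d' : A) + s t' := h
    have h1 := congrArg π h'
    rw [map_add, map_add, hs, hs] at h1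
    have h2 : ((t : T) - (t' : T)) = π d' - π d := by
      rw [sub_eq_sub_iff_add_eq_add, add_comm, h1, add_comm]
    have h3 : ((t : T) - (t' : T)) = 0 := hdisj _ (TP.sub_mem t.2 t'.2) (by
      rw [h2]; exact T'.sub_mem (AddSubgroup.mem_comap.mp d'.2) (AddSubgroup.mem_comap.mp d.2))
    have h4 : t = t' := Subtype.ext (sub_eq_zero.mp h3)
    subst h4
    have h5 : (d : A) = (d' : A) := add_right_cancel h'
    exact Prod.ext (Subtype.ext h5) rfl
  · intro a
    obtain ⟨n, hn, hnτ⟩ := hT (π a)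
    obtain ⟨n₁, n₂, hsplit, hn₁, hn₂, hn₁P, hn₂P⟩ := exists_split P n hn
    obtain ⟨u, v, huv⟩ := bezout_smul n₁ n₂ (coprime_of P n₁ n₂ hn₁P hn₂P) (π a)
    have ht : n₂ • (v • π a) ∈ TP := by
      rw [hTP]
      refine ⟨n₁, hn₁, hn₁P, ?_⟩
      rw [← mul_smul, smul_comm, ← hsplit, hnτ, smul_zero]
    have ht' : n₁ • (u • π a) ∈ T' := by
      rw [hT']
      refine ⟨n₂, hn₂, hn₂P, ?_⟩
      rw [← mul_smul, smul_comm, mul_comm, ← hsplit, hnτ, smul_zero]
    have hd : a - s ⟨_, ht⟩ ∈ T'.comap π := by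
      rw [AddSubgroup.mem_comap, map_sub, hs]
      show π a - n₂ • (v • π a) ∈ T'
      have : π a - n₂ • (v • π a) = n₁ • (u • π a) := by
        rw [sub_eq_iff_eq_add]; exact huv
      rw [this]; exact ht'
    refine ⟨⟨⟨_, hd⟩, ⟨_, ht⟩⟩, ?_⟩
    show a - s ⟨_, ht⟩ + s ⟨_, ht⟩ = a
    rw [sub_add_cancel]

end Groth.Agent.S16343
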