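import Groth.Statements.S16344
import Mathlib
-- import your own Groth.Agent.* helpers here

set_option autoImplicit false
universe u v
open IdeleMod

namespace Groth.Agent.S16344

theorem exists_compatible {ι : Type u} [Preorder ι] [IsDirected ι (· ≤ ·)]
    (X : ι → Type v) [∀ i, TopologicalSpace (X i)] [∀ i, CompactSpace (X i)] [∀ i, T2Space (X i)]
    (f : ∀ ⦃i j : ι⦄, i ≤ j → X j → X i) (hf : ∀ i j (h : i ≤ j), Continuous (f h))
    (hid : ∀ i (x : X i), f (le_refl i) x = x)
    (hcomp : ∀ i j k (hij : i ≤ j) (hjk : j ≤ k) (x : X k), f hij (f hjk x) = f (hij.trans hjk) x)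
    (K : ∀ i, Set (X i)) (hK : ∀ i, IsClosed (K i)) (hne : ∀ i, (K i).Nonempty)
    (hmap : ∀ i j (h : i ≤ j), ∀ x ∈ K j, f h x ∈ K i) :
    ∃ z : ∀ i, X i, (∀ i, z i ∈ K i) ∧ ∀ i j (h : i ≤ j), f h (z j) = z i := by
  classical
  rcases isEmpty_or_nonempty ι with hι | hι
  · exact ⟨fun i => (hι.false i).elim, fun i => (hι.false i).elim, fun i => (hι.false i).elim⟩
  let S : ι → Set (∀ i, X i) :=
    fun k => {z | (∀ i, z i ∈ K i) ∧ ∀ i (h : i ≤ k), f h (z k) = z i}
  have hsub : ∀ a c, a ≤ c → S c ⊆ S a := by
    rintro a c hac z ⟨hz1, hz2⟩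
    refine ⟨hz1, fun i h => ?_⟩
    rw [← hz2 a hac, hcomp, hz2]
  have hdir : Directed (· ⊇ ·) S := by
    intro a b
    obtain ⟨c, hac, hbc⟩ := exists_ge_ge a b
    exact ⟨c, hsub a c hac, hsub b c hbc⟩
  have hne' : ∀ k, (S k).Nonempty := by
    intro k
    obtain ⟨p, hp⟩ := hne k
    choose q hq using hne
    refine ⟨fun i => if h : i ≤ k then f h p else q i, ?_, ?_⟩
    · intro i
      by_cases h : i ≤ k
      · simp only [h, dif_pos]; exact hmap i k h p hp
      · simp only [h, dif_neg, not_false_iff]; exact hq i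
    · intro i h
      simp only [h, dif_pos, le_refl]
      rw [hid]
  have hcl : ∀ k, IsClosed (S k) := by
    intro k
    have : S k = (⋂ i, {z | z i ∈ K i}) ∩ ⋂ i, ⋂ (h : i ≤ k), {z | f h (z k) = z i} := by
      ext z; simp [S]
    rw [this]
    exact IsClosed.inter (isClosed_iInter fun i => (hK i).preimage (continuous_apply i))
      (isClosed_iInter fun i => isClosed_iInter fun h =>
        isClosed_eq ((hf i k h).comp (continuous_apply k)) (continuous_apply i))
  obtain ⟨z, hz⟩ := IsCompact.nonempty_iInter_of_directed_nonempty_isCompact_isClosed S hdir hne'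
    (fun k => (hcl k).isCompact) hcl
  rw [Set.mem_iInter] at hz
  exact ⟨z, (hz (Classical.arbitrary ι)).1, fun i j h => (hz j).2 i h⟩

/-- Let (G_i) be an inverse system, indexed by a directed preorder, of compact Hausdorff topological
abelian groups with continuous surjective transition maps, let G be its limit (the group of
compatible families) and let m be a natural number. Then the canonical map G/mG → lim G_i/mG_i is
bijective: a compatible family that lies in mG_i at every index is m times a compatible family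
(injectivity), and every family that is compatible modulo m agrees modulo m, index by index, with a
compatible family (surjectivity). -/
theorem result
    {ι : Type u} [Preorder ι] [IsDirected ι (· ≤ ·)]
    (G : ι → Type v) [∀ i, AddCommGroup (G i)] [∀ i, TopologicalSpace (G i)]
    [∀ i, IsTopologicalAddGroup (G i)] [∀ i, CompactSpace (G i)] [∀ i, T2Space (G i)]
    (f : ∀ ⦃i j : ι⦄, i ≤ j → (G j →+ G i)) (hf : ∀ i j (h : i ≤ j), Continuous (f h))
    (hid : ∀ i (x : G i), f (le_refl i) x = x)
    (hcomp : ∀ i j k (hij : i ≤ j) (hjk : j ≤ k) (x : G k), f hij (f hjk x) = f (hij.trans hjk) x)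
    (hsurj : ∀ i j (h : i ≤ j), Function.Surjective (f h)) (m : ℕ) :
    (∀ x : ∀ i, G i, (∀ i j (h : i ≤ j), f h (x j) = x i) → (∀ i, ∃ y : G i, m • y = x i) →
        ∃ z : ∀ i, G i, (∀ i j (h : i ≤ j), f h (z j) = z i) ∧ ∀ i, m • z i = x i) ∧
    (∀ y : ∀ i, G i, (∀ i j (h : i ≤ j), ∃ w : G i, f h (y j) - y i = m • w) →
        ∃ x : ∀ i, G i, (∀ i j (h : i ≤ j), f h (x j) = x i) ∧ ∀ i, ∃ w : G i, x i - y i = m • w) := by
  have hmclosed : ∀ i, IsClosed (Set.range (fun y : G i => m • y)) := fun i =>
    (isCompact_range (continuous_const_smul m)).isClosed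
  constructor
  · intro x hx hdiv
    obtain ⟨z, hz1, hz2⟩ := exists_compatible G (fun i j h => f h) hf hid hcomp
      (fun i => {y | m • y = x i})
      (fun i => isClosed_eq (continuous_const_smul m) continuous_const)
      (fun i => hdiv i)
      (fun i j h y hy => by
        show m • f h y = x i
        rw [← map_nsmul, show m • y = x j from hy, hx i j h])
    exact ⟨z, hz2, hz1⟩
  · intro y hy
    obtain ⟨x, hx1, hx2⟩ := exists_compatible G (fun i j h => f h) hf hid hcomp
      (fun i => {x | x - y i ∈ Set.range (fun w : G i => m • w)})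
      (fun i => (hmclosed i).preimage (continuous_id.sub continuous_const))
      (fun i => ⟨y i, 0, by simp⟩)
      (fun i j h x hx => by
        obtain ⟨w, hw⟩ := hx
        obtain ⟨w', hw'⟩ := hy i j h
        refine ⟨f h w + w', ?_⟩
        show m • (f h w + w') = f h x - y i
        rw [smul_add, ← map_nsmul, show m • w = x - y j from hw, ← hw', map_sub]
        abel)
    refine ⟨x, hx2, fun i => ?_⟩
    obtain ⟨w, hw⟩ := hx1 i
    exact ⟨w, hw.symm⟩

end Groth.Agent.S16344
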