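import Groth.Statements.S16346
import Mathlib
-- import your own Groth.Agent.* helpers here

set_option autoImplicit false
universe u v
open KatoHom

namespace Groth.Agent.S16346

section Aux
variable (P : Set ℕ)

def Pn (n : ℕ) : Prop := 0 < n ∧ ∀ p : ℕ, p.Prime → p ∣ n → p ∈ P

lemma Pn_mul {a b : ℕ} (ha : Pn P a) (hb : Pn P b) : Pn P (a * b) :=
  ⟨Nat.mul_pos ha.1 hb.1, fun p hp hdvd => by
    rcases (Nat.Prime.dvd_mul hp).mp hdvd with h | h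
    · exact ha.2 p hp h
    · exact hb.2 p hp h⟩

lemma Pn_of_mul {a b : ℕ} (h : Pn P (a * b)) : Pn P a ∧ Pn P b := by
  have hpos := h.1
  have ha : 0 < a := Nat.pos_of_ne_zero (by rintro rfl; simp at hpos)
  have hb : 0 < b := Nat.pos_of_ne_zero (by rintro rfl; simp at hpos)
  exact ⟨⟨ha, fun p hp hd => h.2 p hp (Dvd.dvd.mul_right hd b)⟩,
    ⟨hb, fun p hp hd => h.2 p hp (Dvd.dvd.mul_left hd a)⟩⟩

lemma div_Pn {A : Type*} [AddCommGroup A] (D : AddSubgroup A)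
    (hD : ∀ ℓ ∈ P, ∀ x ∈ D, ∃ y ∈ D, ℓ • y = x) :
    ∀ n : ℕ, Pn P n → ∀ x ∈ D, ∃ y ∈ D, n • y = x := by
  intro n
  induction n using Nat.recOnMul with
  | zero => intro h; exact absurd h.1 (lt_irrefl 0)
  | one => intro _ x hx; exact ⟨x, hx, one_nsmul x⟩
  | prime p hp => intro h x hx; exact hD p (h.2 p hp dvd_rfl) x hx
  | mul a b iha ihb =>
    intro h x hx
    obtain ⟨ha, hb⟩ := Pn_of_mul P h
    obtain ⟨y1, hy1, e1⟩ := iha ha x hx
    obtain ⟨y2, hy2, e2⟩ := ihb hb y1 hy1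
    exact ⟨y2, hy2, by rw [mul_smul, e2, e1]⟩

end Aux

/-- Let P be a set of primes and I_P the set of positive integers all of whose prime factors lie in P.
Let A be an abelian group, (B_n)_{n ∈ I_P} an inverse system of abelian groups with transition maps
B_n → B_m for m ∣ n, and φ_n : A → B_n homomorphisms vanishing on nA and compatible with the
transition maps, so that they induce φ̂ : Â → B̂ on the limits Â = lim A/nA and B̂ = lim B_n (limits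
taken as compatible families). Suppose some N ∈ I_P kills the torsion subgroup of B̂ and kills the
kernel of φ̂ (the latter meaning: a compatible family of residues (a_n) with φ_n(a_n) = 0 for all n
has N a_n ∈ nA for all n). Then the subgroup ⋂_{n ∈ I_P} nA is ℓ-divisible for every ℓ ∈ P, and it
contains every subgroup of A that is ℓ-divisible for all ℓ ∈ P; that is, it is the largest
P-divisible subgroup of A. -/
theorem result
    {A : Type u} [AddCommGroup A] (P : Set ℕ) (hP : ∀ p ∈ P, p.Prime)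
    (IP : Set ℕ) (hIP : ∀ n, n ∈ IP ↔ 0 < n ∧ ∀ p : ℕ, p.Prime → p ∣ n → p ∈ P)
    (B : IP → Type v) [∀ n, AddCommGroup (B n)]
    (g : ∀ ⦃m n : IP⦄, (m : ℕ) ∣ (n : ℕ) → (B n →+ B m))
    (hgid : ∀ (n : IP) (b : B n), g (dvd_refl (n : ℕ)) b = b)
    (hgcomp : ∀ (k m n : IP) (hkm : (k : ℕ) ∣ (m : ℕ)) (hmn : (m : ℕ) ∣ (n : ℕ)) (b : B n),
      g hkm (g hmn b) = g (hkm.trans hmn) b)
    (φ : ∀ n : IP, A →+ B n) (hφ : ∀ (n : IP) (a : A), φ n ((n : ℕ) • a) = 0)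
    (hφg : ∀ (m n : IP) (h : (m : ℕ) ∣ (n : ℕ)) (a : A), g h (φ n a) = φ m a)
    (N : ℕ) (hN : N ∈ IP)
    (htor : ∀ b : ∀ n : IP, B n, (∀ (m n : IP) (h : (m : ℕ) ∣ (n : ℕ)), g h (b n) = b m) →
      (∃ k : ℕ, 0 < k ∧ ∀ n, k • b n = 0) → ∀ n, N • b n = 0)
    (hker : ∀ a : IP → A, (∀ m n : IP, (m : ℕ) ∣ (n : ℕ) → ∃ c : A, a n - a m = (m : ℕ) • c) →
      (∀ n, φ n (a n) = 0) → ∀ n : IP, ∃ c : A, N • a n = (n : ℕ) • c) :
    (∀ ℓ ∈ P, ∀ x : A, (∀ n ∈ IP, ∃ y : A, x = n • y) →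
        ∃ y : A, (∀ n ∈ IP, ∃ z : A, y = n • z) ∧ ℓ • y = x) ∧
    (∀ H : AddSubgroup A, (∀ ℓ ∈ P, ∀ x ∈ H, ∃ y ∈ H, ℓ • y = x) →
        ∀ x ∈ H, ∀ n ∈ IP, ∃ y : A, x = n • y) := by
  classical
  have hIP' : ∀ n, n ∈ IP ↔ Pn P n := hIP
  have hmulIP : ∀ a b, a ∈ IP → b ∈ IP → a * b ∈ IP := fun a b ha hb =>
    (hIP' _).mpr (Pn_mul P ((hIP' a).mp ha) ((hIP' b).mp hb))
  refine ⟨?_, ?_⟩
  · intro ℓ hℓ x hx
    have hℓIP : ℓ ∈ IP := (hIP ℓ).mpr ⟨(hP ℓ hℓ).pos, fun p hp hd => by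
      rwa [(Nat.prime_dvd_prime_iff_eq hp (hP ℓ hℓ)).mp hd]⟩
    have hNpos : 0 < N := ((hIP N).mp hN).1
    have hkIP : ℓ * (N * N) ∈ IP := hmulIP _ _ hℓIP (hmulIP _ _ hN hN)
    obtain ⟨w, hw⟩ := hx (ℓ * (N * N)) hkIP
    have hNb : ∀ n : IP, N • φ n w = 0 := by
      apply htor (fun n => φ n w)
      · intro m n h; exact hφg m n h w
      · refine ⟨ℓ * (N * N), ((hIP _).mp hkIP).1, fun n => ?_⟩
        rw [← map_nsmul, ← hw]
        obtain ⟨c, hc⟩ := hx n n.2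
        rw [hc]
        exact hφ n c
    have hc := hker (fun _ => N • w) (fun m n _ => ⟨0, by simp⟩)
      (fun n => by rw [map_nsmul]; exact hNb n)
    refine ⟨N • (N • w), ?_, ?_⟩
    · intro n hn
      obtain ⟨c, hcn⟩ := hc ⟨n, hn⟩
      exact ⟨c, hcn⟩
    · rw [hw, mul_smul, mul_smul]
  · intro H hH x hxH n hn
    obtain ⟨y, _, hy⟩ := div_Pn P H hH n ((hIP' n).mp hn) x hxH
    exact ⟨y, hy.symm⟩

end Groth.Agent.S16346
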