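import Groth.Statements.S16351
import Mathlib

set_option autoImplicit false
universe u
open Cubic

namespace Groth.Agent.S16351

/-- Let K be a field of characteristic zero and S = V(F) ⊂ P^3_K a cone over a plane cubic curve C,
normalised so that the vertex is [1 : 0 : 0 : 0], i.e. F is a homogeneous cubic in K[x_0, …, x_3]
not involving x_0 and C = V(F) in the plane P^2 of the coordinates x_1, x_2, x_3. If C has five
K-rational points no three of which are collinear, then S has five K-rational points in general
position (no four coplanar: any four representing vectors linearly independent). -/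
theorem result (K : Type u) [Field K] [CharZero K]
    (G : MvPolynomial (Fin 3) K) (hG : G.IsHomogeneous 3) (F : MvPolynomial (Fin 4) K)
    (hF : F = MvPolynomial.rename Fin.succ G)
    (b : Fin 5 → (Fin 3 → K)) (hb : ∀ j : Fin 5, MvPolynomial.eval (b j) G = 0)
    (h3 : ∀ i j l : Fin 5, i ≠ j → j ≠ l → i ≠ l → LinearIndependent K ![b i, b j, b l]) :
    ∃ p : Fin 5 → (Fin 4 → K), (∀ j : Fin 5, MvPolynomial.eval (p j) F = 0) ∧
      ∀ j : Fin 5, LinearIndependent K (fun i : Fin 4 => p (j.succAbove i)) := by
  classical
  -- Step A: a nontrivial relation among any four of the `b`'s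
  have hA : ∀ j : Fin 5, ∃ c : Fin 4 → K, (∑ i, c i • b (j.succAbove i) = 0) ∧ ∃ i, c i ≠ 0 := by
    intro j
    have hnot : ¬ LinearIndependent K (fun i : Fin 4 => b (j.succAbove i)) := by
      intro hli
      have := hli.fintype_card_le_finrank
      simp at this
    exact Fintype.not_linearIndependent_iff.1 hnot
  choose c hc hcne using hA
  -- Step B: a relation vanishing at one index is zero
  have hB : ∀ (j : Fin 5) (i₀ : Fin 4) (d : Fin 4 → K), d i₀ = 0 →
      ∑ i, d i • b (j.succAbove i) = 0 → d = 0 := by
    intro j i₀ d hd0 hrel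
    rw [Fin.sum_univ_succAbove _ i₀, hd0, zero_smul, zero_add] at hrel
    have hli := h3 (j.succAbove (i₀.succAbove 0)) (j.succAbove (i₀.succAbove 1))
      (j.succAbove (i₀.succAbove 2))
      (fun h => by
        have := Fin.succAbove_right_injective (Fin.succAbove_right_injective h)
        exact absurd this (by decide))
      (fun h => by
        have := Fin.succAbove_right_injective (Fin.succAbove_right_injective h)
        exact absurd this (by decide))
      (fun h => by
        have := Fin.succAbove_right_injective (Fin.succAbove_right_injective h)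
        exact absurd this (by decide))
    have hz := (Fintype.linearIndependent_iff.1 hli) (fun l => d (i₀.succAbove l)) (by
      rw [Fin.sum_univ_three] at hrel ⊢
      simpa using hrel)
    funext i
    by_cases hi : i = i₀
    · rw [hi, hd0]; rfl
    · obtain ⟨l, rfl⟩ := Fin.exists_succAbove_eq hi
      exact hz l
  -- Step C: the relation space is spanned by `c j`
  have hC : ∀ (j : Fin 5) (d : Fin 4 → K), ∑ i, d i • b (j.succAbove i) = 0 →
      ∃ μ : K, d = μ • c j := by
    intro j d hrel
    obtain ⟨i₀, hi₀⟩ := hcne j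
    refine ⟨d i₀ / c j i₀, ?_⟩
    have := hB j i₀ (d - (d i₀ / c j i₀) • c j) (by simp [hi₀]) (by
      simp only [Pi.sub_apply, Pi.smul_apply, smul_eq_mul, sub_smul, Finset.sum_sub_distrib, hrel,
        mul_smul, ← Finset.smul_sum, hc j, smul_zero, sub_zero])
    exact sub_eq_zero.1 this
  -- Step D: choose `t` off five hyperplanes
  let ℓ : Fin 5 → ((Fin 5 → K) →ₗ[K] K) := fun j =>
    ∑ i : Fin 4, c j i • LinearMap.proj (j.succAbove i)
  have hℓ : ∀ j t, ℓ j t = ∑ i : Fin 4, c j i * t (j.succAbove i) := by
    intro j t
    simp [ℓ, LinearMap.sum_apply]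
  have hℓne : ∀ j, LinearMap.ker (ℓ j) ≠ ⊤ := by
    intro j htop
    obtain ⟨i₀, hi₀⟩ := hcne j
    have hmem : (Pi.single (j.succAbove i₀) 1 : Fin 5 → K) ∈ LinearMap.ker (ℓ j) := by
      rw [htop]; trivial
    rw [LinearMap.mem_ker, hℓ] at hmem
    apply hi₀
    rw [Finset.sum_eq_single i₀] at hmem
    · simpa using hmem
    · intro i _ hi
      rw [Pi.single_eq_of_ne (fun h => hi (Fin.succAbove_right_injective h)), mul_zero]
    · intro h; exact absurd (Finset.mem_univ _) h
  have hex : ∃ t : Fin 5 → K, ∀ j, ℓ j t ≠ 0 := by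
    by_contra hcon
    push Not at hcon
    have hcov : ⋃ j, ((LinearMap.ker (ℓ j) : Submodule K (Fin 5 → K)) : Set (Fin 5 → K)) =
        Set.univ := by
      rw [Set.eq_univ_iff_forall]
      intro t
      obtain ⟨j, hj⟩ := hcon t
      exact Set.mem_iUnion.2 ⟨j, hj⟩
    obtain ⟨j, hj⟩ := Subspace.exists_eq_top_of_iUnion_eq_univ hcov
    exact hℓne j hj
  obtain ⟨t, ht⟩ := hex
  refine ⟨fun j => Fin.cons (t j) (b j), ?_, ?_⟩
  · intro j
    rw [hF, MvPolynomial.eval_rename]
    have : (Fin.cons (t j) (b j) : Fin 4 → K) ∘ Fin.succ = b j := by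
      funext i; simp
    rw [this]; exact hb j
  · intro j
    rw [Fintype.linearIndependent_iff]
    intro d hd
    have hd0 := congrFun hd 0
    have hds : ∑ i, d i • b (j.succAbove i) = 0 := by
      funext m
      have := congrFun hd m.succ
      simpa using this
    obtain ⟨μ, rfl⟩ := hC j d hds
    have hμ : μ * ℓ j t = 0 := by
      rw [hℓ, Finset.mul_sum]
      simpa [mul_assoc] using hd0
    rcases mul_eq_zero.1 hμ with h | h
    · intro i; simp [h]
    · exact absurd h (ht j)

end Groth.Agent.S16351
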