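import Groth.Statements.S16352
-- import your own Groth.Agent.* helpers here
import Groth.Agent.Lib.Helper72.CubicPolarB

set_option autoImplicit false
universe u
open Cubic

namespace Groth.Agent.S16352

/-- Let K be an algebraically closed field of characteristic zero and S = V(F) ⊂ P^3_K a cubic surface
which is irreducible and not a cone (no nonzero vector v has Σ_i v_i ∂F/∂x_i = 0). Let a be a smooth
point of S which is not a T-point: with ℓ = Σ_i ∂F/∂x_i(a) · x_i the (nonzero) linear form of the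
tangent plane T_a S, F is not congruent modulo ℓ to a product of three linear forms (i.e. T_a S ∩ S
is not set-theoretically a union of lines). Let P = Σ_i a_i ∂F/∂x_i be the first polar of a. Then
V(P) ∩ T_a S is a union of at most two lines through a, and every line through a lying on S lies in
V(P) ∩ T_a S; lines are 2-dimensional subspaces of K^4 and T_a S is the 3-dimensional subspace where
ℓ vanishes. -/
theorem result (K : Type u) [Field K] [IsAlgClosed K] [CharZero K]
    (F : MvPolynomial (Fin 4) K) (hF : F.IsHomogeneous 3) (hirr : Irreducible F)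
    (hcone : ¬ ∃ v : Fin 4 → K, v ≠ 0 ∧ ∑ i : Fin 4, v i • MvPolynomial.pderiv i F = 0)
    (a : Fin 4 → K) (ha : a ≠ 0) (hFa : MvPolynomial.eval a F = 0)
    (hsm : ∃ i : Fin 4, MvPolynomial.eval a (MvPolynomial.pderiv i F) ≠ 0)
    (ℓ : MvPolynomial (Fin 4) K)
    (hℓ : ℓ = ∑ i : Fin 4, MvPolynomial.C (MvPolynomial.eval a (MvPolynomial.pderiv i F)) * MvPolynomial.X i)
    (hT : ¬ ∃ L₁ L₂ L₃ : MvPolynomial (Fin 4) K, L₁.IsHomogeneous 1 ∧ L₂.IsHomogeneous 1 ∧ L₃.IsHomogeneous 1 ∧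
      F - L₁ * L₂ * L₃ ∈ Ideal.span {ℓ})
    (P : MvPolynomial (Fin 4) K) (hP : P = ∑ i : Fin 4, a i • MvPolynomial.pderiv i F)
    (H : Submodule K (Fin 4 → K)) (hH : ∀ x : Fin 4 → K, x ∈ H ↔ MvPolynomial.eval x ℓ = 0) :
    (∃ U₁ U₂ : Submodule K (Fin 4 → K), Module.finrank K ↥U₁ = 2 ∧ Module.finrank K ↥U₂ = 2 ∧ a ∈ U₁ ∧ a ∈ U₂ ∧
        U₁ ≤ H ∧ U₂ ≤ H ∧ {x : Fin 4 → K | x ∈ H ∧ MvPolynomial.eval x P = 0} = (U₁ : Set (Fin 4 → K)) ∪ (U₂ : Set (Fin 4 → K))) ∧
      ∀ U : Submodule K (Fin 4 → K), a ∈ U → Module.finrank K ↥U = 2 → (∀ u ∈ U, MvPolynomial.eval u F = 0) →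
        U ≤ H ∧ ∀ u ∈ U, MvPolynomial.eval u P = 0 := by
  classical
  subst hℓ hP
  have hDaa : Groth.Agent.Lib.Helper72.CubicForm.D F a a = 0 := by
    rw [Groth.Agent.Lib.Helper72.CubicForm.D_self hF, hFa, mul_zero]
  have hHD : ∀ x, x ∈ H ↔ Groth.Agent.Lib.Helper72.CubicForm.D F a x = 0 := by
    intro x
    rw [hH, Groth.Agent.Lib.Helper72.CubicForm.D_eq_sum, map_sum]
    simp only [map_mul, MvPolynomial.eval_C, MvPolynomial.eval_X]
  have hPD : ∀ x, MvPolynomial.eval x (∑ i : Fin 4, a i • MvPolynomial.pderiv i F) =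
      Groth.Agent.Lib.Helper72.CubicForm.D F x a := by
    intro x
    rw [map_sum]
    unfold Groth.Agent.Lib.Helper72.CubicForm.D
    refine Finset.sum_congr rfl fun i _ => ?_
    rw [MvPolynomial.smul_eval]
  constructor
  · obtain ⟨m₁, m₂, h1a, h2a, ⟨x₁, hx₁, hm₁⟩, ⟨x₂, hx₂, hm₂⟩, hprod⟩ :=
      Groth.Agent.Lib.Helper72.CubicForm.polar_two_lines hF ha hFa hsm hT
    obtain ⟨j, hj⟩ := hsm
    have hb : Groth.Agent.Lib.Helper72.CubicForm.Dlin F a (Pi.single j 1) ≠ 0 := by
      rw [Groth.Agent.Lib.Helper72.CubicForm.Dlin_apply,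
        Groth.Agent.Lib.Helper72.CubicForm.D_single]
      exact hj
    refine ⟨LinearMap.ker ((Groth.Agent.Lib.Helper72.CubicForm.Dlin F a).prod m₁),
      LinearMap.ker ((Groth.Agent.Lib.Helper72.CubicForm.Dlin F a).prod m₂),
      Groth.Agent.Lib.Helper72.CubicForm.finrank_ker_prod _ m₁ hb hx₁ hm₁,
      Groth.Agent.Lib.Helper72.CubicForm.finrank_ker_prod _ m₂ hb hx₂ hm₂, ?_, ?_, ?_, ?_, ?_⟩
    · rw [Groth.Agent.Lib.Helper72.CubicForm.mem_ker_prod]
      exact ⟨hDaa, h1a⟩
    · rw [Groth.Agent.Lib.Helper72.CubicForm.mem_ker_prod]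
      exact ⟨hDaa, h2a⟩
    · intro x hx
      rw [Groth.Agent.Lib.Helper72.CubicForm.mem_ker_prod] at hx
      exact (hHD x).2 hx.1
    · intro x hx
      rw [Groth.Agent.Lib.Helper72.CubicForm.mem_ker_prod] at hx
      exact (hHD x).2 hx.1
    · ext x
      simp only [Set.mem_ofPred_eq, Set.mem_union, SetLike.mem_coe,
        Groth.Agent.Lib.Helper72.CubicForm.mem_ker_prod,
        Groth.Agent.Lib.Helper72.CubicForm.Dlin_apply]
      rw [hHD, hPD]
      constructor
      · rintro ⟨h1, h2⟩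
        rw [hprod x h1] at h2
        rcases mul_eq_zero.1 h2 with h | h
        · exact Or.inl ⟨h1, h⟩
        · exact Or.inr ⟨h1, h⟩
      · rintro (⟨h1, h2⟩ | ⟨h1, h2⟩)
        · exact ⟨h1, by rw [hprod x h1, h2, zero_mul]⟩
        · exact ⟨h1, by rw [hprod x h1, h2, mul_zero]⟩
  · intro U haU hU hUF
    obtain ⟨u, hu, rfl⟩ := Groth.Agent.Lib.Helper72.CubicForm.exists_dir U hU ha haU
    have hline := Groth.Agent.Lib.Helper72.CubicForm.onLine_of_span hUF
    obtain ⟨-, h1, h2, h3⟩ := (Groth.Agent.Lib.Helper72.CubicForm.onLine_iff hF a u).1 hline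
    have hmem : ∀ x ∈ Submodule.span K (Set.range ![a, u]),
        Groth.Agent.Lib.Helper72.CubicForm.D F a x = 0 ∧
          Groth.Agent.Lib.Helper72.CubicForm.D F x a = 0 := by
      intro x hx
      rw [Groth.Agent.Lib.Helper72.CubicForm.mem_span_pair_range] at hx
      obtain ⟨s, t, rfl⟩ := hx
      constructor
      · rw [Groth.Agent.Lib.Helper72.CubicForm.D_add_right,
          Groth.Agent.Lib.Helper72.CubicForm.D_smul_right,
          Groth.Agent.Lib.Helper72.CubicForm.D_smul_right, hDaa, h1, mul_zero, mul_zero,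
          add_zero]
      · rw [Groth.Agent.Lib.Helper72.CubicForm.D_add_left hF,
          Groth.Agent.Lib.Helper72.CubicForm.D_smul_left hF,
          Groth.Agent.Lib.Helper72.CubicForm.D_smul_left hF, hDaa, h2,
          Groth.Agent.Lib.Helper72.CubicForm.T_smul_left,
          Groth.Agent.Lib.Helper72.CubicForm.T_smul_mid,
          Groth.Agent.Lib.Helper72.CubicForm.T_swap23,
          ← Groth.Agent.Lib.Helper72.CubicForm.two_D hF, h1]
        ring
    constructor
    · intro x hx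
      exact (hHD x).2 (hmem x hx).1
    · intro x hx
      rw [hPD]
      exact (hmem x hx).2

end Groth.Agent.S16352
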