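import Groth.Statements.S16353
import Mathlib

set_option autoImplicit false
universe u
open DegLoci

namespace Groth.Agent.S16353

open W4c3degenlocivb

section
variable {k : Type u} [Field k] {m : ℕ}

/-- multi-index falling factorial -/
def cf (β α : Fin m →₀ ℕ) : ℕ := ∏ i, Nat.descFactorial (β i) (α i)

lemma support_prod_eq_cf (β α : Fin m →₀ ℕ) (h : α ≤ β) :
    (β.support.prod fun i => Nat.descFactorial (β i) (α i)) = cf β α := by
  unfold cf
  apply Finset.prod_subset (Finset.subset_univ _)
  intro i _ hi
  have hb : β i = 0 := by simpa using hi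
  have ha : α i = 0 := Nat.le_zero.1 (hb ▸ h i)
  rw [hb, ha]; rfl

lemma coeff_contract (D G : MvPolynomial (Fin m) k) (γ : Fin m →₀ ℕ) :
    MvPolynomial.coeff γ (contract D G) =
      ∑ α ∈ D.support, MvPolynomial.coeff α D * MvPolynomial.coeff (γ + α) G * (cf (γ + α) α : k) := by
  classical
  unfold contract
  rw [MvPolynomial.coeff_sum]
  refine Finset.sum_congr rfl fun α _ => ?_
  rw [MvPolynomial.coeff_sum]
  by_cases hmem : γ + α ∈ G.support
  · rw [Finset.sum_eq_single (γ + α)]
    · have hle : α ≤ γ + α := le_add_self
      rw [if_pos hle, MvPolynomial.coeff_monomial, if_pos (add_tsub_cancel_right γ α),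
        support_prod_eq_cf _ _ hle]
    · intro β _ hβ
      split_ifs with hle
      · rw [MvPolynomial.coeff_monomial, if_neg]
        intro h
        apply hβ
        rw [← h, tsub_add_cancel_of_le hle]
      · simp
    · intro h; exact absurd hmem h
  · rw [MvPolynomial.notMem_support_iff.1 hmem, mul_zero, zero_mul]
    refine Finset.sum_eq_zero fun β hβ => ?_
    split_ifs with hle
    · rw [MvPolynomial.coeff_monomial, if_neg]
      intro h
      apply hmem
      rw [← h, tsub_add_cancel_of_le hle]
      exact hβ
    · simp

lemma descFactorial_swap (g a b : ℕ) :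
    Nat.descFactorial (g + a + b) b * Nat.descFactorial (g + a) a =
      Nat.descFactorial (g + b + a) a * Nat.descFactorial (g + b) b := by
  have h1 : g.factorial * (Nat.descFactorial (g + a + b) b * Nat.descFactorial (g + a) a) =
      (g + a + b).factorial := by
    have e1 := Nat.factorial_mul_descFactorial (n := g + a) (k := a) (Nat.le_add_left _ _)
    have e2 := Nat.factorial_mul_descFactorial (n := g + a + b) (k := b) (Nat.le_add_left _ _)
    rw [Nat.add_sub_cancel] at e1 e2
    rw [← e2, ← e1]; ring
  have h2 : g.factorial * (Nat.descFactorial (g + b + a) a * Nat.descFactorial (g + b) b) =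
      (g + a + b).factorial := by
    have e1 := Nat.factorial_mul_descFactorial (n := g + b) (k := b) (Nat.le_add_left _ _)
    have e2 := Nat.factorial_mul_descFactorial (n := g + b + a) (k := a) (Nat.le_add_left _ _)
    rw [Nat.add_sub_cancel] at e1 e2
    rw [show g + a + b = g + b + a by ring, ← e2, ← e1]; ring
  exact Nat.eq_of_mul_eq_mul_left (Nat.factorial_pos g) (h1.trans h2.symm)

lemma cf_swap (γ α β : Fin m →₀ ℕ) :
    cf (γ + α + β) β * cf (γ + α) α = cf (γ + β + α) α * cf (γ + β) β := by
  unfold cf
  rw [← Finset.prod_mul_distrib, ← Finset.prod_mul_distrib]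
  refine Finset.prod_congr rfl fun i _ => ?_
  simp only [Finsupp.coe_add, Pi.add_apply]
  exact descFactorial_swap _ _ _

lemma contract_comm (D E F : MvPolynomial (Fin m) k) :
    contract D (contract E F) = contract E (contract D F) := by
  ext γ
  rw [coeff_contract, coeff_contract]
  simp only [coeff_contract, Finset.mul_sum, Finset.sum_mul]
  rw [Finset.sum_comm]
  refine Finset.sum_congr rfl fun β _ => Finset.sum_congr rfl fun α _ => ?_
  have h := cf_swap γ α β
  have e : γ + α + β = γ + β + α := add_right_comm _ _ _
  have h' : ((cf (γ + α + β) β : ℕ) : k) * (cf (γ + α) α : k) =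
      (cf (γ + β + α) α : k) * (cf (γ + β) β : k) := by
    rw [← Nat.cast_mul, ← Nat.cast_mul, h]
  rw [e] at h' ⊢
  linear_combination (MvPolynomial.coeff α D * MvPolynomial.coeff β E *
    MvPolynomial.coeff (γ + β + α) F) * h'

end
/-- Let k be a field of characteristic zero, R = k[y_0, …, y_{m−1}] acting on S = k[∂_0, …, ∂_{m−1}] by
apolarity (y_i acts as the derivative with respect to ∂_i), F ∈ S homogeneous of degree e and d ≤ e.
Then the degree-d part of the apolar ideal of F is the orthogonal complement of the partial
derivatives of F of order e − d: a homogeneous D ∈ R_d satisfies D(F) = 0 if and only if D(y^α(F)) =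
0 for every multi-index α with |α| = e − d (each D(y^α(F)) being a constant, the value of the
apolarity pairing of D with y^α(F)). -/
theorem result (k : Type u) [Field k] [CharZero k] (m : ℕ)
    (F : MvPolynomial (Fin m) k) (e : ℕ) (hF : F.IsHomogeneous e) (d : ℕ) (hd : d ≤ e)
    (D : MvPolynomial (Fin m) k) (hD : D.IsHomogeneous d) :
    W4c3degenlocivb.contract D F = 0 ↔
      ∀ α : Fin m →₀ ℕ, α.degree = e - d → W4c3degenlocivb.contract D (W4c3degenlocivb.contract (MvPolynomial.monomial α 1) F) = 0 := by
  classical
  have hzero : ∀ E : MvPolynomial (Fin m) k, contract E (0 : MvPolynomial (Fin m) k) = 0 := by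
    intro E
    ext γ
    rw [coeff_contract]
    simp
  constructor
  · intro h α _
    rw [contract_comm, h, hzero]
  · intro h
    ext γ
    rw [MvPolynomial.coeff_zero]
    by_cases hγ : γ.degree = e - d
    · have h1 := h γ hγ
      rw [contract_comm] at h1
      have h2 := congrArg (MvPolynomial.coeff 0) h1
      rw [coeff_contract, MvPolynomial.coeff_zero] at h2
      have hsupp : (MvPolynomial.monomial γ (1 : k)).support = {γ} :=
        MvPolynomial.support_monomial.trans (if_neg one_ne_zero)
      rw [hsupp, Finset.sum_singleton, MvPolynomial.coeff_monomial, if_pos rfl, one_mul, zero_add]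
        at h2
      have hcf : ((cf γ γ : ℕ) : k) ≠ 0 := by
        rw [Nat.cast_ne_zero]
        unfold cf
        rw [Finset.prod_ne_zero_iff]
        intro i _
        rw [Nat.descFactorial_self]
        exact Nat.factorial_ne_zero _
      exact (mul_eq_zero.1 h2).resolve_right hcf
    · rw [coeff_contract]
      refine Finset.sum_eq_zero fun α hα => ?_
      have hαd : α.degree = d := by
        by_contra hne
        exact (MvPolynomial.mem_support_iff.1 hα) (hD.coeff_eq_zero hne)
      have : MvPolynomial.coeff (γ + α) F = 0 := by
        apply hF.coeff_eq_zero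
        rw [map_add, hαd]
        omega
      rw [this, mul_zero, zero_mul]

end Groth.Agent.S16353
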