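import Groth.Statements.S16356
import Mathlib

set_option autoImplicit false
universe u
open OrdAV

namespace Groth.Agent.S16356

section
variable (p : ℕ) [hp : Fact p.Prime] (k : Type u) [Field k] [CharP k p] [PerfectRing k p]

lemma prime_p : Prime (p : WittVector p k) :=
  (WittVector.irreducible p).prime

lemma p_dvd_iff (a : WittVector p k) : (p : WittVector p k) ∣ a ↔ a.coeff 0 = 0 := by
  constructor
  · rintro ⟨b, rfl⟩
    rw [mul_comm]
    exact WittVector.mul_charP_coeff_zero b
  · intro h0
    by_cases ha : a = 0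
    · rw [ha]; exact dvd_zero _
    obtain ⟨m, b, hb, rfl⟩ := WittVector.exists_eq_pow_p_mul a ha
    rcases m with _ | m
    · rw [pow_zero, one_mul] at h0
      exact absurd h0 hb
    · rw [pow_succ']
      exact Dvd.intro _ (mul_assoc _ _ _).symm

end
/-- For an odd prime p and a perfect field k of characteristic p, a root of unity in the ring of Witt
vectors W(k) whose residue in k is 1 is itself 1: if x ^ n = 1 with n ≥ 1 and the zeroth Witt
component of x is 1, then x = 1. (For p = 2 this fails: -1 in W(F_2).) -/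
theorem result (p : ℕ) [Fact p.Prime] (hp : p ≠ 2)
    (k : Type u) [Field k] [CharP k p] [PerfectRing k p]
    (x : WittVector p k) (n : ℕ) (hn : 0 < n) (hx : x ^ n = 1) (h0 : x.coeff 0 = 1) : x = 1 := by
  by_contra hne
  have hpr := prime_p p k
  have hodd : Odd p := (Fact.out : p.Prime).odd_of_ne_two hp
  have hx1 : (p : WittVector p k) ∣ x - 1 := by
    rw [p_dvd_iff]
    have : (x - 1).coeff 0 = WittVector.constantCoeff (x - 1) := rfl
    rw [this, map_sub, map_one]
    show x.coeff 0 - 1 = 0
    rw [h0, sub_self]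
  have hxp : ¬ (p : WittVector p k) ∣ x := by
    rw [p_dvd_iff, h0]; exact one_ne_zero
  -- write n = p ^ a * m
  obtain ⟨a, m, hm, rfl⟩ := Nat.exists_eq_pow_mul_and_not_dvd hn.ne' p (Fact.out : p.Prime).ne_one
  have h1 := emultiplicity_pow_prime_pow_sub_pow_prime_pow hpr hodd hx1 hxp a
  rw [one_pow] at h1
  have hy1 : (p : WittVector p k) ∣ x ^ p ^ a - 1 := by
    have : x ^ p ^ a - 1 = (x - 1) * ∑ i ∈ Finset.range (p ^ a), x ^ i := by
      rw [mul_comm, geom_sum_mul]
    rw [this]
    exact Dvd.dvd.mul_right hx1 _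
  have hyp : ¬ (p : WittVector p k) ∣ x ^ p ^ a := fun h => hxp (hpr.dvd_of_dvd_pow h)
  have hmp : ¬ (p : WittVector p k) ∣ (m : WittVector p k) := by
    rw [p_dvd_iff]
    have : (m : WittVector p k).coeff 0 = WittVector.constantCoeff (m : WittVector p k) := rfl
    rw [this, map_natCast, CharP.cast_eq_zero_iff k p]
    exact hm
  have h2 := emultiplicity_pow_sub_pow_of_prime hpr (x := x ^ p ^ a) (y := 1) hy1 hyp hmp
  rw [one_pow, ← pow_mul, hx, sub_self, emultiplicity_zero, h1] at h2
  have hfin : FiniteMultiplicity (p : WittVector p k) (x - 1) :=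
    FiniteMultiplicity.of_not_isUnit hpr.not_unit (sub_ne_zero.2 hne)
  have h3 := hfin.emultiplicity_eq_multiplicity
  rw [h3] at h2
  exact absurd h2.symm (by
    rw [← Nat.cast_add]
    exact ENat.coe_ne_top _)

end Groth.Agent.S16356
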