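import Groth.Statements.S16357
import Mathlib
-- import your own Groth.Agent.* helpers here

set_option autoImplicit false
universe u
open OrdAV

namespace Groth.Agent.S16357

/-- Over a field L of characteristic zero, a monic polynomial h whose square has rational coefficients
has rational coefficients itself. -/
theorem result (L : Type u) [Field L] [CharZero L]
    (h : Polynomial L) (hm : h.Monic) (f : Polynomial ℚ)
    (hf : h ^ 2 = Polynomial.map (algebraMap ℚ L) f) :
    ∃ g : Polynomial ℚ, Polynomial.map (algebraMap ℚ L) g = h := by
  classical
  set Q : Subfield L := (algebraMap ℚ L).fieldRange with hQ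
  set n := h.natDegree with hn
  have hfQ : ∀ i, (h ^ 2).coeff i ∈ Q := by
    intro i
    rw [hf, Polynomial.coeff_map]
    exact ⟨_, rfl⟩
  have key : ∀ k : ℕ, ∀ m : ℕ, n - k ≤ m → h.coeff m ∈ Q := by
    intro k
    induction k with
    | zero =>
      intro m hmm
      rw [Nat.sub_zero] at hmm
      rcases hmm.eq_or_lt with rfl | hlt
      · rw [hn, Polynomial.coeff_natDegree, hm.leadingCoeff]; exact Q.one_mem
      · rw [Polynomial.coeff_eq_zero_of_natDegree_lt hlt]; exact Q.zero_mem
    | succ k ih =>
      intro m hmm
      by_cases hmk : n - k ≤ m
      · exact ih m hmk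
      · have hmn : m < n := by omega
        have hm1 : ∀ i, m < i → h.coeff i ∈ Q := fun i hi => ih i (by omega)
        have hc := hfQ (n + m)
        rw [pow_two, Polynomial.coeff_mul] at hc
        have h1 : (m, n) ∈ Finset.HasAntidiagonal.antidiagonal (n + m) := by
          rw [Finset.HasAntidiagonal.mem_antidiagonal]; omega
        have h2 : (n, m) ∈ (Finset.HasAntidiagonal.antidiagonal (n + m)).erase (m, n) := by
          rw [Finset.mem_erase, Finset.HasAntidiagonal.mem_antidiagonal]
          refine ⟨?_, rfl⟩
          intro heq
          have := congrArg Prod.fst heq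
          simp at this
          omega
        rw [← Finset.add_sum_erase _ _ h1, ← Finset.add_sum_erase _ _ h2] at hc
        have hn1 : h.coeff n = 1 := by rw [hn, Polynomial.coeff_natDegree, hm.leadingCoeff]
        rw [hn1, mul_one, one_mul, ← add_assoc] at hc
        have hrest : ∑ x ∈ ((Finset.HasAntidiagonal.antidiagonal (n + m)).erase (m, n)).erase (n, m),
            h.coeff x.1 * h.coeff x.2 ∈ Q := by
          refine Q.sum_mem fun x hx => ?_
          rw [Finset.mem_erase, Finset.mem_erase, Finset.HasAntidiagonal.mem_antidiagonal] at hx
          obtain ⟨hx1, hx2, hx3⟩ := hx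
          by_cases hi : n < x.1
          · rw [Polynomial.coeff_eq_zero_of_natDegree_lt hi, zero_mul]; exact Q.zero_mem
          by_cases hj : n < x.2
          · rw [Polynomial.coeff_eq_zero_of_natDegree_lt hj, mul_zero]; exact Q.zero_mem
          have hxi : m < x.1 := by
            by_contra hcon
            apply hx2
            ext <;> simp <;> omega
          have hxj : m < x.2 := by
            by_contra hcon
            apply hx1
            ext <;> simp <;> omega
          exact Q.mul_mem (hm1 _ hxi) (hm1 _ hxj)
        have h2m : h.coeff m + h.coeff m ∈ Q := by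
          have := Q.sub_mem hc hrest
          simpa using this
        have h2' : (2 : L) * h.coeff m ∈ Q := by rwa [two_mul]
        have h2inv : (2 : L)⁻¹ ∈ Q := Q.inv_mem (by exact_mod_cast natCast_mem Q 2)
        have := Q.mul_mem h2inv h2'
        rwa [← mul_assoc, inv_mul_cancel₀ (two_ne_zero), one_mul] at this
  have hall : ∀ m, h.coeff m ∈ Set.range (algebraMap ℚ L) := by
    intro m
    have := key n m (by omega)
    exact this
  have hlift : h ∈ Polynomial.lifts (algebraMap ℚ L) :=
    (Polynomial.lifts_iff_coeff_lifts h).2 hall
  rw [Polynomial.mem_lifts] at hlift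
  exact hlift

end Groth.Agent.S16357
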