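import Groth.Statements.S16358
import Mathlib
-- import your own Groth.Agent.* helpers here

set_option autoImplicit false
universe u v w
open OrdAV

namespace Groth.Agent.S16358

open TensorProduct in
/-- a saturated submodule stays injective modulo `a`. -/
theorem lTensor_quot_injective_of_saturated {W : Type*} [CommRing W] {M : Type*} [AddCommGroup M]
    [Module W M] (a : W) (N : Submodule W M) (hsat : ∀ m : M, a • m ∈ N → m ∈ N) :
    Function.Injective (LinearMap.lTensor (W ⧸ Ideal.span {a}) N.subtype) := by
  rw [injective_iff_map_eq_zero]
  intro x hx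
  obtain ⟨n, hn⟩ := Submodule.Quotient.mk_surjective _ (quotTensorEquivQuotSMul N (Ideal.span {a}) x)
  have hx1 : x = (1 : W ⧸ Ideal.span {a}) ⊗ₜ[W] n := by
    rw [← (quotTensorEquivQuotSMul N (Ideal.span {a})).symm_apply_apply x, ← hn]
    rfl
  rw [hx1, LinearMap.lTensor_tmul, Submodule.subtype_apply] at hx
  have h2 := congrArg (quotTensorEquivQuotSMul M (Ideal.span {a})) hx
  rw [quotTensorEquivQuotSMul_mk_one_tmul, map_zero, Submodule.Quotient.mk_eq_zero,
    Submodule.ideal_span_singleton_smul, Submodule.mem_smul_pointwise_iff_exists] at h2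
  obtain ⟨m, -, hm⟩ := h2
  have hmN : m ∈ N := hsat m (by rw [hm]; exact n.2)
  have hn0 : (Submodule.Quotient.mk n : N ⧸ ((Ideal.span {a} : Ideal W) • ⊤ : Submodule W N)) = 0 := by
    rw [Submodule.Quotient.mk_eq_zero]
    have : n = a • (⟨m, hmN⟩ : N) := Subtype.ext hm.symm
    rw [this]
    exact Submodule.smul_mem_smul (Ideal.mem_span_singleton_self a) Submodule.mem_top
  rw [← (quotTensorEquivQuotSMul N (Ideal.span {a})).map_eq_zero_iff, ← hn, hn0]

/-- Let k be a perfect field of characteristic p > 0 and W = W(k); let M be a finitely generated free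
W-module on which a finite group G acts W-linearly, with invariant submodule M^G. Then the map
(W/pW) ⊗ M^G → (W/pW) ⊗ M induced by the inclusion is injective. Since M^G is free, this implies
rank_W M^G ≤ dim_k (M/pM)^G; the published statement is that inequality, and this row states the
stronger injectivity. -/
theorem result (p : ℕ) [Fact p.Prime]
    (k : Type u) [Field k] [CharP k p] [PerfectRing k p]
    (M : Type v) [AddCommGroup M] [Module (WittVector p k) M]
    [Module.Free (WittVector p k) M] [Module.Finite (WittVector p k) M]
    (G : Type w) [Group G] [Finite G] (ρ : Representation (WittVector p k) G M) :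
    Function.Injective
      (LinearMap.lTensor (WittVector p k ⧸ Ideal.span {(p : WittVector p k)}) ρ.invariants.subtype) := by
  apply lTensor_quot_injective_of_saturated
  intro m hm
  rw [Representation.mem_invariants] at hm ⊢
  intro g
  have h1 : (p : WittVector p k) • (ρ g m - m) = 0 := by
    rw [smul_sub, ← map_smul, hm g, sub_self]
  have hp : (p : WittVector p k) ≠ 0 := WittVector.p_nonzero p k
  have := (smul_eq_zero.1 h1).resolve_left hp
  exact sub_eq_zero.1 this

end Groth.Agent.S16358
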