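import Groth.Statements.S16362
import Mathlib
-- import your own Groth.Agent.* helpers here

set_option autoImplicit false
universe u
open MovLem

namespace Groth.Agent.S16362

private lemma hkey0 {K : Type*} [Field K] (v : K) (hv0 : v ≠ 0) (c w : K) (m i : ℕ) :
    v ^ m * v ^ i * (c * (w ^ m / v ^ m)) = c * w ^ m * v ^ i := by
  have : v ^ m ≠ 0 := pow_ne_zero m hv0
  field_simp

/-- Let A be a commutative ring, p a prime ideal of A, and ζ, u elements of A with u not in p. Then the
quotient of the classes of ζ and u in the fraction field of the domain A ⧸ p is integral over A ⧸ p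
if and only if there exist a natural number N and elements a_1, …, a_N of A such that ζ^N + a_1
ζ^(N-1) u + ⋯ + a_N u^N lies in p; equivalently, some binary form of degree N with coefficients in
A, monic in the first variable, evaluated at (ζ, u), lies in p. -/
theorem result
    {A : Type u} [CommRing A] (p : Ideal A) [p.IsPrime] (ζ u : A) (hu : u ∉ p) :
    IsIntegral (A ⧸ p)
        (algebraMap (A ⧸ p) (FractionRing (A ⧸ p)) (Ideal.Quotient.mk p ζ) /
          algebraMap (A ⧸ p) (FractionRing (A ⧸ p)) (Ideal.Quotient.mk p u)) ↔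
      ∃ (N : ℕ) (a : ℕ → A),
        ζ ^ N + ∑ i ∈ Finset.Icc 1 N, a i * ζ ^ (N - i) * u ^ i ∈ p := by
  set R := A ⧸ p with hR
  set K := FractionRing R with hK
  set z : K := algebraMap R K (Ideal.Quotient.mk p ζ) with hz
  set v : K := algebraMap R K (Ideal.Quotient.mk p u) with hv
  have hv0 : v ≠ 0 := by
    intro h
    have h1 : (Ideal.Quotient.mk p u) = 0 := by
      apply IsFractionRing.injective R K
      rw [map_zero]; exact h
    exact hu (Ideal.Quotient.eq_zero_iff_mem.mp h1)
  have hkey : ∀ (c w : K) (m i : ℕ),
      v ^ m * v ^ i * (c * (w ^ m / v ^ m)) = c * w ^ m * v ^ i :=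
    fun c w m i => hkey0 v hv0 c w m i
  constructor
  · rintro ⟨P, hP, hPz⟩
    set N := P.natDegree with hN
    have hsurj := Ideal.Quotient.mk_surjective (I := p)
    choose lift hlift using hsurj
    refine ⟨N, fun i => lift (P.coeff (N - i)), ?_⟩
    rw [← Ideal.Quotient.eq_zero_iff_mem]
    apply IsFractionRing.injective R K
    rw [map_zero]
    simp only [map_add, map_pow, map_sum, map_mul, hlift]
    rw [Polynomial.eval₂_eq_sum_range, Finset.sum_range_succ, ← hN, hP.coeff_natDegree, map_one,
      one_mul] at hPz
    have h2 : v ^ N * (∑ j ∈ Finset.range N, algebraMap R K (P.coeff j) * (z / v) ^ j +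
        (z / v) ^ N) = 0 := by rw [hPz, mul_zero]
    rw [mul_add, Finset.mul_sum] at h2
    have h3 : v ^ N * (z / v) ^ N = z ^ N := by
      rw [div_pow, mul_div_cancel₀ _ (pow_ne_zero N hv0)]
    rw [h3, add_comm] at h2
    rw [← h2]
    congr 1
    apply Finset.sum_nbij' (fun i => N - i) (fun j => N - j)
    · intro i hi
      simp only [Finset.mem_Icc] at hi
      simp only [Finset.mem_range]; omega
    · intro j hj
      simp only [Finset.mem_range] at hj
      simp only [Finset.mem_Icc]; omega
    · intro i hi
      simp only [Finset.mem_Icc] at hi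
      omega
    · intro j hj
      simp only [Finset.mem_range] at hj
      omega
    · intro i hi
      simp only [Finset.mem_Icc] at hi
      have hNi : N = (N - i) + i := by omega
      have : v ^ N = v ^ (N - i) * v ^ i := by rw [← pow_add, ← hNi]
      rw [this, div_pow]
      exact (hkey _ _ _ _).symm
  · rintro ⟨N, a, ha⟩
    rw [← Ideal.Quotient.eq_zero_iff_mem] at ha
    have ha' := congrArg (algebraMap R K) ha
    simp only [map_add, map_pow, map_sum, map_mul, map_zero] at ha'
    rcases Nat.eq_zero_or_pos N with hN0 | hNpos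
    · exfalso
      subst hN0
      simp at ha'
    set q : Polynomial R := ∑ i ∈ Finset.Icc 1 N,
      Polynomial.C (Ideal.Quotient.mk p (a i)) * Polynomial.X ^ (N - i) with hq
    have hqdeg : q.degree < (N : WithBot ℕ) := by
      refine lt_of_le_of_lt (Polynomial.degree_sum_le _ _) ?_
      refine (Finset.sup_lt_iff (WithBot.bot_lt_coe N)).mpr ?_
      intro i hi
      simp only [Finset.mem_Icc] at hi
      refine lt_of_le_of_lt (Polynomial.degree_C_mul_X_pow_le _ _) ?_
      first
        | exact WithBot.coe_lt_coe.mpr (by omega)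
        | exact Nat.cast_lt.mpr (by omega)
    refine ⟨Polynomial.X ^ N + q, Polynomial.monic_X_pow_add hqdeg, ?_⟩
    rw [Polynomial.eval₂_add, Polynomial.eval₂_X_pow, hq, Polynomial.eval₂_finsetSum]
    simp only [Polynomial.eval₂_mul, Polynomial.eval₂_C, Polynomial.eval₂_X_pow]
    have hvN : v ^ N ≠ 0 := pow_ne_zero N hv0
    apply mul_left_cancel₀ hvN
    rw [mul_zero, mul_add, Finset.mul_sum]
    have h3 : v ^ N * (z / v) ^ N = z ^ N := by
      rw [div_pow, mul_div_cancel₀ _ (pow_ne_zero N hv0)]
    rw [h3, ← ha']
    congr 1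
    apply Finset.sum_congr rfl
    intro i hi
    simp only [Finset.mem_Icc] at hi
    have hNi : N = (N - i) + i := by omega
    have : v ^ N = v ^ (N - i) * v ^ i := by rw [← pow_add, ← hNi]
    rw [this, div_pow]
    exact hkey _ _ _ _

end Groth.Agent.S16362
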