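import Groth.Statements.S16367
import Mathlib
-- import your own Groth.Agent.* helpers here

set_option autoImplicit false
universe u
open MovLem

namespace Groth.Agent.S16367

open Polynomial in
section
variable {k : Type u} [CommRing k] {d n : ℕ}

local notation "R" => MvPolynomial (Fin d ⊕ Fin n) k

/-- x-degree -/
def xdeg (m : (Fin d ⊕ Fin n) →₀ ℕ) : ℕ := ∑ i : Fin d, m (Sum.inl i)

noncomputable def T0 (N : ℕ) (m : (Fin d ⊕ Fin n) →₀ ℕ) (a : k) : Polynomial R :=
  Polynomial.C (MvPolynomial.C a) * Polynomial.X ^ (N - ∑ i : Fin d, m (Sum.inl i)) *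
    (∏ i : Fin d, (Polynomial.X * Polynomial.C (MvPolynomial.X (Sum.inl i))) ^ m (Sum.inl i)) *
    ∏ j : Fin n, Polynomial.C (MvPolynomial.X (Sum.inr j)) ^ m (Sum.inr j)

noncomputable def T1 (N : ℕ) (W : Fin d → R) (m : (Fin d ⊕ Fin n) →₀ ℕ) (a : k) : Polynomial R :=
  Polynomial.C (MvPolynomial.C a) * Polynomial.X ^ (N - ∑ i : Fin d, m (Sum.inl i)) *
    (∏ i : Fin d, (Polynomial.X * Polynomial.C (MvPolynomial.X (Sum.inl i)) +
      Polynomial.C (W i)) ^ m (Sum.inl i)) *
    ∏ j : Fin n, Polynomial.C (MvPolynomial.X (Sum.inr j)) ^ m (Sum.inr j)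

lemma monomial_split (m : (Fin d ⊕ Fin n) →₀ ℕ) (a : k) :
    (MvPolynomial.monomial m a : R) = MvPolynomial.C a *
      (∏ i : Fin d, MvPolynomial.X (Sum.inl i) ^ m (Sum.inl i)) *
      ∏ j : Fin n, MvPolynomial.X (Sum.inr j) ^ m (Sum.inr j) := by
  rw [MvPolynomial.monomial_eq, Finsupp.prod_fintype _ _ (fun i => pow_zero _),
    Fintype.prod_sum_type, mul_assoc]

lemma T0_eq (N : ℕ) (m : (Fin d ⊕ Fin n) →₀ ℕ) (a : k)
    (hm : ∑ i : Fin d, m (Sum.inl i) ≤ N) :
    T0 N m a = Polynomial.X ^ N * Polynomial.C (MvPolynomial.monomial m a : R) := by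
  rw [monomial_split, T0]
  simp only [mul_pow, Finset.prod_mul_distrib, Finset.prod_pow_eq_pow_sum, map_mul, map_prod,
    map_pow]
  have : (Polynomial.X : Polynomial R) ^ N =
      Polynomial.X ^ (N - ∑ i : Fin d, m (Sum.inl i)) * Polynomial.X ^ (∑ i : Fin d, m (Sum.inl i)) := by
    rw [← pow_add, Nat.sub_add_cancel hm]
  rw [this]
  ring

lemma T1_sub_T0_mem (N : ℕ) (W : Fin d → R) (t : R) (hW : ∀ i, ∃ q, W i = q * t)
    (m : (Fin d ⊕ Fin n) →₀ ℕ) (a : k) :
    T1 N W m a - T0 N m a ∈ Ideal.span {(Polynomial.C t : Polynomial R)} := by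
  rw [← Ideal.Quotient.eq]
  simp only [T1, T0, map_mul, map_prod, map_pow, map_add]
  have : ∀ i, Ideal.Quotient.mk (Ideal.span {(Polynomial.C t : Polynomial R)})
      (Polynomial.C (W i)) = 0 := by
    intro i
    obtain ⟨q, hq⟩ := hW i
    rw [Ideal.Quotient.eq_zero_iff_mem, hq, map_mul]
    exact Ideal.mul_mem_left _ _ (Ideal.subset_span rfl)
  simp only [this, add_zero]

lemma T1_eq_T0_of_zero (N : ℕ) (W : Fin d → R) (m : (Fin d ⊕ Fin n) →₀ ℕ) (a : k)
    (hm : ∀ i, m (Sum.inl i) = 0) : T1 N W m a = T0 N m a := by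
  simp only [T1, T0, hm, pow_zero]

end


/-- The chart computation of its proof: let k be a commutative ring, P = k[x_1, …, x_d, w_1, …, w_n] a
polynomial ring in two groups of variables, u a polynomial in the x-variables alone, v a vector in
k^d, J a set of indices among the w-variables with ζ = ∏_{j ∈ J} w_j, and N ≤ s natural numbers. Let
(f_λ) be a finite family of elements of P, each of total degree at most N in the x-variables, and
assume that ζ^N + c_1 ζ^(N-1) u + ⋯ + c_N u^N lies in the ideal generated by the f_λ for some c_1,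
…, c_N ∈ P. For each λ let φ_λ ∈ P[τ] be the polynomial τ^N · f_λ(x + u^s v/τ, w), written out
monomial by monomial: a monomial a·x^m·w^m' of x-degree e = |m| contributes a · τ^(N-e) · ∏_i (τ x_i
+ u^s v_i)^(m_i) · w^m'. Then there are c'_1, …, c'_N ∈ P[τ] with (τζ)^N + c'_1 (τζ)^(N-1) u + ⋯ +
c'_N u^N in the ideal of P[τ] generated by the φ_λ. (This identity is what shows that translating a
cycle by t·u^s·v preserves the modulus condition on the chart whose coordinates are the z_i and the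
1/z_j, with τ = 1/t; integrality of ζ/u, resp. τζ/u, is expressed by such monic binary forms.) -/
theorem result
    {k : Type u} [CommRing k] (d n : ℕ) (u : MvPolynomial (Fin d) k) (v : Fin d → k)
    (J : Finset (Fin n)) (N s : ℕ) (hs : N ≤ s)
    {Λ : Type u} [Fintype Λ] (f : Λ → MvPolynomial (Fin d ⊕ Fin n) k)
    (hdeg : ∀ l, ∀ m ∈ (f l).support, ∑ i : Fin d, m (Sum.inl i) ≤ N)
    (c : ℕ → MvPolynomial (Fin d ⊕ Fin n) k)
    (hE : (∏ j ∈ J, MvPolynomial.X (Sum.inr j)) ^ N +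
        ∑ i ∈ Finset.Icc 1 N, c i * (∏ j ∈ J, MvPolynomial.X (Sum.inr j)) ^ (N - i) *
          MvPolynomial.rename Sum.inl u ^ i ∈ Ideal.span (Set.range f)) :
    ∃ c' : ℕ → Polynomial (MvPolynomial (Fin d ⊕ Fin n) k),
      (Polynomial.X * Polynomial.C (∏ j ∈ J, MvPolynomial.X (Sum.inr j))) ^ N +
        ∑ i ∈ Finset.Icc 1 N, c' i *
          (Polynomial.X * Polynomial.C (∏ j ∈ J, MvPolynomial.X (Sum.inr j))) ^ (N - i) *
            Polynomial.C (MvPolynomial.rename Sum.inl u) ^ i ∈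
      Ideal.span (Set.range fun l : Λ =>
        ∑ m ∈ (f l).support,
          Polynomial.C (MvPolynomial.C (MvPolynomial.coeff m (f l))) *
            Polynomial.X ^ (N - ∑ i : Fin d, m (Sum.inl i)) *
            (∏ i : Fin d, (Polynomial.X * Polynomial.C (MvPolynomial.X (Sum.inl i)) +
                Polynomial.C (MvPolynomial.rename Sum.inl u ^ s * MvPolynomial.C (v i))) ^ m (Sum.inl i)) *
            ∏ j : Fin n, Polynomial.C (MvPolynomial.X (Sum.inr j)) ^ m (Sum.inr j)) := by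
  classical
  obtain ⟨U, hU⟩ : ∃ U : MvPolynomial (Fin d ⊕ Fin n) k, U = MvPolynomial.rename Sum.inl u :=
    ⟨_, rfl⟩
  obtain ⟨ζ, hζ⟩ : ∃ ζ : MvPolynomial (Fin d ⊕ Fin n) k,
    ζ = ∏ j ∈ J, MvPolynomial.X (Sum.inr j) := ⟨_, rfl⟩
  rw [← hU, ← hζ] at hE
  simp only [← hU, ← hζ]
  let W : Fin d → MvPolynomial (Fin d ⊕ Fin n) k := fun i => U ^ s * MvPolynomial.C (v i)
  have hW : ∀ i, ∃ q, W i = q * U ^ s := fun i => ⟨MvPolynomial.C (v i), mul_comm _ _⟩
  let φ : Λ → Polynomial (MvPolynomial (Fin d ⊕ Fin n) k) := fun l =>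
    ∑ m ∈ (f l).support, T1 N W m (MvPolynomial.coeff m (f l))
  show ∃ c' : ℕ → Polynomial (MvPolynomial (Fin d ⊕ Fin n) k),
      (Polynomial.X * Polynomial.C ζ) ^ N +
        ∑ i ∈ Finset.Icc 1 N, c' i * (Polynomial.X * Polynomial.C ζ) ^ (N - i) *
            Polynomial.C U ^ i ∈ Ideal.span (Set.range φ)
  have hsum0 : ∀ l, ∑ m ∈ (f l).support, T0 N m (MvPolynomial.coeff m (f l)) =
      Polynomial.X ^ N * Polynomial.C (f l) := by
    intro l
    rw [Finset.sum_congr rfl (fun m hm => T0_eq N m _ (hdeg l m hm)), ← Finset.mul_sum,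
      ← map_sum, MvPolynomial.support_sum_monomial_coeff]
  have hφ : ∀ l, φ l - Polynomial.X ^ N * Polynomial.C (f l) ∈
      Ideal.span {(Polynomial.C (U ^ s) : Polynomial (MvPolynomial (Fin d ⊕ Fin n) k))} := by
    intro l
    rw [← hsum0 l, ← Finset.sum_sub_distrib]
    exact Ideal.sum_mem _ (fun m _ => T1_sub_T0_mem N W (U ^ s) hW m _)
  have hφ0 : N = 0 → ∀ l, φ l = Polynomial.X ^ N * Polynomial.C (f l) := by
    intro hN l
    rw [← hsum0 l]
    refine Finset.sum_congr rfl (fun m hm => T1_eq_T0_of_zero N W m _ (fun i => ?_))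
    have h1 := hdeg l m hm
    rw [hN, Nat.le_zero, Finset.sum_eq_zero_iff] at h1
    exact h1 i (Finset.mem_univ i)
  obtain ⟨g, hg⟩ := Ideal.mem_span_range_iff_exists_fun.mp hE
  have hZmem : ∑ l, Polynomial.C (g l) * φ l ∈ Ideal.span (Set.range φ) :=
    Ideal.sum_mem _ (fun l _ => Ideal.mul_mem_left _ _ (Ideal.subset_span ⟨l, rfl⟩))
  -- the expansion of X^N * C E
  have hXE : ∀ a : ℕ → Polynomial (MvPolynomial (Fin d ⊕ Fin n) k),
      (∀ i ∈ Finset.Icc 1 N, a i = Polynomial.C (c i) * Polynomial.X ^ i) →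
      Polynomial.X ^ N * Polynomial.C (ζ ^ N + ∑ i ∈ Finset.Icc 1 N, c i * ζ ^ (N - i) * U ^ i) =
      (Polynomial.X * Polynomial.C ζ) ^ N +
        ∑ i ∈ Finset.Icc 1 N, a i * (Polynomial.X * Polynomial.C ζ) ^ (N - i) *
            Polynomial.C U ^ i := by
    intro a ha
    have hsum : ∑ i ∈ Finset.Icc 1 N, a i * (Polynomial.X * Polynomial.C ζ) ^ (N - i) *
            Polynomial.C U ^ i = ∑ i ∈ Finset.Icc 1 N, Polynomial.X ^ N *
            Polynomial.C (c i * ζ ^ (N - i) * U ^ i) := by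
      refine Finset.sum_congr rfl (fun i hi => ?_)
      rw [ha i hi]
      have hiN : i ≤ N := (Finset.mem_Icc.mp hi).2
      have : (Polynomial.X : Polynomial (MvPolynomial (Fin d ⊕ Fin n) k)) ^ N =
          Polynomial.X ^ i * Polynomial.X ^ (N - i) := by
        rw [← pow_add, Nat.add_sub_cancel' hiN]
      rw [this]
      simp only [map_mul, map_pow, mul_pow]
      ring
    rw [hsum, map_add, mul_add, map_pow, mul_pow, map_sum, Finset.mul_sum]
  rcases Nat.eq_zero_or_pos N with hN | hN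
  · refine ⟨fun i => Polynomial.C (c i) * Polynomial.X ^ i, ?_⟩
    rw [← hXE _ (fun i _ => rfl), ← hg, map_sum, Finset.mul_sum]
    have : ∑ l, Polynomial.X ^ N * Polynomial.C (g l * f l) = ∑ l, Polynomial.C (g l) * φ l := by
      refine Finset.sum_congr rfl (fun l _ => ?_)
      rw [hφ0 hN l, map_mul]; ring
    rw [this]
    exact hZmem
  · -- N ≥ 1
    have hdiff : ∑ l, Polynomial.C (g l) * φ l - Polynomial.X ^ N *
        Polynomial.C (ζ ^ N + ∑ i ∈ Finset.Icc 1 N, c i * ζ ^ (N - i) * U ^ i) ∈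
        Ideal.span {(Polynomial.C (U ^ s) : Polynomial (MvPolynomial (Fin d ⊕ Fin n) k))} := by
      rw [← hg, map_sum, Finset.mul_sum, ← Finset.sum_sub_distrib]
      refine Ideal.sum_mem _ (fun l _ => ?_)
      have : Polynomial.C (g l) * φ l - Polynomial.X ^ N * Polynomial.C (g l * f l) =
          Polynomial.C (g l) * (φ l - Polynomial.X ^ N * Polynomial.C (f l)) := by
        rw [map_mul]; ring
      rw [this]
      exact Ideal.mul_mem_left _ _ (hφ l)
    obtain ⟨Ψ, hΨ⟩ := Ideal.mem_span_singleton'.mp hdiff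
    refine ⟨fun i => Polynomial.C (c i) * Polynomial.X ^ i +
      (if i = N then Ψ * Polynomial.C U ^ (s - N) else 0), ?_⟩
    have hNmem : N ∈ Finset.Icc 1 N := Finset.mem_Icc.mpr ⟨hN, le_refl N⟩
    have hexp : (Polynomial.X * Polynomial.C ζ) ^ N +
        ∑ i ∈ Finset.Icc 1 N, (Polynomial.C (c i) * Polynomial.X ^ i +
          (if i = N then Ψ * Polynomial.C U ^ (s - N) else 0)) *
          (Polynomial.X * Polynomial.C ζ) ^ (N - i) * Polynomial.C U ^ i =
        ∑ l, Polynomial.C (g l) * φ l := by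
      have h1 : ∀ i ∈ Finset.Icc 1 N, (Polynomial.C (c i) * Polynomial.X ^ i +
          (if i = N then Ψ * Polynomial.C U ^ (s - N) else 0)) *
          (Polynomial.X * Polynomial.C ζ) ^ (N - i) * Polynomial.C U ^ i =
          (Polynomial.C (c i) * Polynomial.X ^ i) *
          (Polynomial.X * Polynomial.C ζ) ^ (N - i) * Polynomial.C U ^ i +
          (if i = N then Ψ * Polynomial.C U ^ (s - N) *
            (Polynomial.X * Polynomial.C ζ) ^ (N - i) * Polynomial.C U ^ i else 0) := by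
        intro i _
        split_ifs <;> ring
      rw [Finset.sum_congr rfl h1, Finset.sum_add_distrib, Finset.sum_ite_eq' _ N, if_pos hNmem,
        ← add_assoc, ← hXE _ (fun i _ => rfl), Nat.sub_self, pow_zero, mul_one, mul_assoc,
        ← pow_add, Nat.sub_add_cancel hs, ← map_pow, hΨ]
      ring
    rw [hexp]
    exact hZmem

end Groth.Agent.S16367
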