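import Groth.Statements.S16368
import Mathlib.RingTheory.LocalRing.Module
import Mathlib.RingTheory.Nakayama
import Mathlib.RingTheory.OrzechProperty
import Mathlib.LinearAlgebra.TensorProduct.RightExactness
import Mathlib.Algebra.Module.FinitePresentation

set_option autoImplicit false
universe u v
open TensorProduct
open FrobAlg

namespace Groth.Agent.S16368

section Helpers

variable {R : Type u} [CommRing R]

/-- a vector all of whose coordinates lie in an ideal `I` lies in `I • ⊤`. -/
theorem mem_smul_top_of_coord {n : ℕ} (I : Ideal R) (r : Fin n → R) (h : ∀ i, r i ∈ I) :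
    r ∈ (I • ⊤ : Submodule R (Fin n → R)) := by
  have : r = ∑ i, r i • (Pi.single i 1 : Fin n → R) := by
    ext j
    simp [Finset.sum_apply, Pi.single_apply]
  rw [this]
  exact Submodule.sum_mem _ fun i _ => Submodule.smul_mem_smul (h i) Submodule.mem_top

/-- coordinates of the image under a linear map lie in the ideal generated by the coordinates -/
theorem coord_map_mem {n : ℕ} (I : Ideal R) (θ : (Fin n → R) →ₗ[R] (Fin n → R)) (s : Fin n → R)
    (h : ∀ j, s j ∈ I) (i : Fin n) : θ s i ∈ I := by
  have : s = ∑ j, s j • (Pi.single j 1 : Fin n → R) := by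
    ext j
    simp [Finset.sum_apply, Pi.single_apply]
  rw [this, map_sum, Finset.sum_apply]
  refine Ideal.sum_mem _ fun j _ => ?_
  rw [map_smul, Pi.smul_apply, smul_eq_mul]
  exact Ideal.mul_mem_right _ _ (h j)

end Helpers

/-- Let R be a local ring of prime characteristic p and M a finitely presented R-module. Write R' for R
regarded as an R-algebra through its Frobenius a ↦ a^p, so that R' ⊗_R M is the pull-back of M along
the absolute Frobenius of Spec R, an R'-module. If this pull-back is isomorphic to M — there is a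
bijective map e : R' ⊗_R M → M, additive and semilinear for the identification R' = R — then M is
free. -/
theorem result
    (p : ℕ) [Fact p.Prime] (R : Type u) [CommRing R] [IsLocalRing R] [CharP R p]
    (M : Type v) [AddCommGroup M] [Module R M] [Module.FinitePresentation R M]
    (e : (FrobAlg.Twist p R ⊗[R] M) →ₛₗ[((FrobAlg.toTwist p R).symm : FrobAlg.Twist p R →+* R)] M)
    (he : Function.Bijective e) :
    Module.Free R M := by
  classical
  let σ : FrobAlg.Twist p R →+* R := ((FrobAlg.toTwist p R).symm : FrobAlg.Twist p R →+* R)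
  have hσ : ∀ a : R, σ (FrobAlg.toTwist p R a) = a := fun a => RingEquiv.symm_apply_apply _ a
  have hσ' : ∀ t : FrobAlg.Twist p R, FrobAlg.toTwist p R (σ t) = t :=
    fun t => RingEquiv.apply_symm_apply _ t
  let 𝔪 := IsLocalRing.maximalIdeal R
  let k := IsLocalRing.ResidueField R
  -- minimal generators
  obtain ⟨n, hn⟩ : ∃ n, n = Module.finrank k (k ⊗[R] M) := ⟨_, rfl⟩
  let b : Module.Basis (Fin n) k (k ⊗[R] M) := hn ▸ Module.finBasis k (k ⊗[R] M)
  obtain ⟨x, hx⟩ := (TensorProduct.mk_surjective R M k Ideal.Quotient.mk_surjective).comp_left b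
  have hxspan : Submodule.span R (Set.range x) = ⊤ :=
    IsLocalRing.span_eq_top_of_tmul_eq_basis x b (fun i => congr_fun hx i)
  let π : (Fin n → R) →ₗ[R] M := Fintype.linearCombination R x
  have hπsurj : Function.Surjective π := by
    rw [← LinearMap.range_eq_top, Fintype.range_linearCombination]
    exact hxspan
  obtain ⟨K, hK⟩ : ∃ K, K = LinearMap.ker π := ⟨_, rfl⟩
  have hKm : ∀ r ∈ K, ∀ i, r i ∈ 𝔪 := by
    intro r hr i
    have h0 : π r = 0 := by rw [hK] at hr; exact hr
    have h1 : ∑ j, (algebraMap R k (r j)) • b j = 0 := by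
      have := congr_arg (TensorProduct.mk R k M 1) h0
      rw [map_zero, Fintype.linearCombination_apply, map_sum] at this
      rw [← this]
      refine Finset.sum_congr rfl fun j _ => ?_
      rw [map_smul, ← hx, algebraMap_smul]
      rfl
    have h2 := Fintype.linearIndependent_iff.1 b.linearIndependent _ h1 i
    exact (IsLocalRing.residue_eq_zero_iff _).1 h2
  -- the twisted generators
  let y : Fin n → M := fun i => e ((1 : FrobAlg.Twist p R) ⊗ₜ[R] x i)
  let π' : (Fin n → R) →ₗ[R] M := Fintype.linearCombination R y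
  have hkey : ∀ r : Fin n → R, e (∑ i, (FrobAlg.toTwist p R (r i)) ⊗ₜ[R] x i) = π' r := by
    intro r
    rw [map_sum, Fintype.linearCombination_apply]
    refine Finset.sum_congr rfl fun i _ => ?_
    have : (FrobAlg.toTwist p R (r i)) ⊗ₜ[R] x i =
        (FrobAlg.toTwist p R (r i)) • ((1 : FrobAlg.Twist p R) ⊗ₜ[R] x i) := by
      rw [TensorProduct.smul_tmul', smul_eq_mul, mul_one]
    rw [this, map_smulₛₗ]
    show σ (FrobAlg.toTwist p R (r i)) • y i = r i • y i
    rw [hσ]
  have hπ'surj : Function.Surjective π' := by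
    intro m
    obtain ⟨z, rfl⟩ := he.2 m
    have : ∀ z : FrobAlg.Twist p R ⊗[R] M, e z ∈ LinearMap.range π' := by
      intro z
      induction z using TensorProduct.induction_on with
      | zero => rw [map_zero]; exact Submodule.zero_mem _
      | add a b ha hb => rw [map_add]; exact Submodule.add_mem _ ha hb
      | tmul t m' =>
        obtain ⟨r, rfl⟩ := hπsurj m'
        have h1 : t ⊗ₜ[R] π r = ∑ i, (FrobAlg.toTwist p R (σ (r i • t))) ⊗ₜ[R] x i := by
          rw [Fintype.linearCombination_apply, TensorProduct.tmul_sum]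
          refine Finset.sum_congr rfl fun i _ => ?_
          rw [TensorProduct.tmul_smul, TensorProduct.smul_tmul', hσ']
        rw [h1, hkey]
        exact LinearMap.mem_range_self _ _
    exact this z
  -- the ideal of p-th powers of coordinates of relations
  let J : Ideal R := Ideal.span {a | ∃ k' ∈ K, ∃ j, a = (k' j) ^ p}
  let I : Ideal R := ⨆ j : Fin n, K.map (LinearMap.proj j : (Fin n → R) →ₗ[R] R)
  have hmemI : ∀ k' ∈ K, ∀ j, k' j ∈ I := fun k' hk' j =>
    Submodule.mem_iSup_of_mem j (Submodule.mem_map_of_mem (f := LinearMap.proj j) hk')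
  let c : Fin n → (FrobAlg.Twist p R ⊗[R] (Fin n → R)) →ₗ[R] FrobAlg.Twist p R := fun i =>
    TensorProduct.lift (((LinearMap.lsmul R (FrobAlg.Twist p R)).comp
      (LinearMap.proj i : (Fin n → R) →ₗ[R] R)).flip)
  have hc : ∀ i (t : FrobAlg.Twist p R) (f : Fin n → R), c i (t ⊗ₜ f) = f i • t :=
    fun i t f => by simp [c]
  have hJ1 : ∀ (i : Fin n) (u : FrobAlg.Twist p R ⊗[R] K),
      σ (c i (LinearMap.lTensor (FrobAlg.Twist p R) K.subtype u)) ∈ J := by
    intro i u
    induction u using TensorProduct.induction_on with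
    | zero => simp
    | add a b ha hb => rw [map_add, map_add, map_add]; exact J.add_mem ha hb
    | tmul t k' =>
      rw [LinearMap.lTensor_tmul, hc, Submodule.subtype_apply, Algebra.smul_def,
        FrobAlg.algebraMap_twist, map_mul, hσ]
      exact Ideal.mul_mem_right _ _ (Ideal.subset_span ⟨k', k'.2, i, rfl⟩)
  have hK'J : ∀ r ∈ LinearMap.ker π', ∀ i, r i ∈ J := by
    intro r hr i
    obtain ⟨w, hw⟩ : ∃ w : FrobAlg.Twist p R ⊗[R] (Fin n → R),
        w = ∑ j, (FrobAlg.toTwist p R (r j)) ⊗ₜ[R] (Pi.single j 1 : Fin n → R) := ⟨_, rfl⟩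
    have h1 : LinearMap.lTensor (FrobAlg.Twist p R) π w = 0 := by
      rw [hw, map_sum]
      have : ∀ j, LinearMap.lTensor (FrobAlg.Twist p R) π
          ((FrobAlg.toTwist p R (r j)) ⊗ₜ[R] (Pi.single j 1 : Fin n → R)) =
          (FrobAlg.toTwist p R (r j)) ⊗ₜ[R] x j := by
        intro j
        rw [LinearMap.lTensor_tmul]
        congr 1
        exact Fintype.linearCombination_apply_single R x j 1 |>.trans (one_smul _ _)
      simp_rw [this]
      apply he.1
      rw [hkey, map_zero]
      exact hr
    have hex := lTensor_exact (FrobAlg.Twist p R) (LinearMap.exact_subtype_ker_map π) hπsurj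
    obtain ⟨u, hu⟩ := (hex w).1 h1
    have h2 : c i w = FrobAlg.toTwist p R (r i) := by
      rw [hw, map_sum]
      simp_rw [hc]
      rw [Finset.sum_eq_single i]
      · simp
      · intro j _ hji
        simp [hji.symm]
      · simp
    subst hK
    have := hJ1 i u
    rw [hu, h2, hσ] at this
    exact this
  have hJI : J ≤ 𝔪 * I := by
    rw [Ideal.span_le]
    rintro _ ⟨k', hk', j, rfl⟩
    have hp1 : k' j ^ p = k' j ^ (p - 1) * k' j := by
      rw [← pow_succ, Nat.sub_add_cancel (Fact.out : p.Prime).one_le]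
    rw [hp1]
    have hpos : 0 < p - 1 := by have := (Fact.out : p.Prime).two_le; omega
    exact Ideal.mul_mem_mul (Ideal.pow_mem_of_mem _ (hKm k' hk' j) _ hpos) (hmemI k' hk' j)
  have h𝔪I : 𝔪 * I ≤ 𝔪 := Ideal.mul_le_left
  -- the comparison automorphism
  obtain ⟨θ, hθ⟩ := Module.projective_lifting_property π' π hπ'surj
  have hθsurj : Function.Surjective θ := by
    rw [← LinearMap.range_eq_top, ← IsLocalRing.map_mkQ_eq_top, Submodule.map_mkQ_eq_top, eq_top_iff]
    intro v _
    obtain ⟨a, ha⟩ := hπsurj (π' v)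
    have hv : v - θ a ∈ LinearMap.ker π' := by
      rw [LinearMap.mem_ker, map_sub, ← LinearMap.comp_apply, hθ, ha, sub_self]
    have : v = (v - θ a) + θ a := by abel
    rw [this]
    have hcoord : ∀ i, (v - θ a) i ∈ 𝔪 := fun i => h𝔪I (hJI (hK'J _ hv i))
    exact Submodule.add_mem_sup (mem_smul_top_of_coord 𝔪 _ hcoord) (LinearMap.mem_range_self _ _)
  have hθinj : Function.Injective θ := OrzechProperty.injective_of_surjective_endomorphism θ hθsurj
  let θe := LinearEquiv.ofBijective θ ⟨hθinj, hθsurj⟩
  have hI : I ≤ 𝔪 • I := by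
    rw [smul_eq_mul]
    refine iSup_le fun j => ?_
    rw [Submodule.map_le_iff_le_comap]
    intro k' hk'
    rw [Submodule.mem_comap, LinearMap.proj_apply]
    have h1 : θ k' ∈ LinearMap.ker π' := by
      rw [LinearMap.mem_ker, ← LinearMap.comp_apply, hθ]
      rw [hK] at hk'
      exact hk'
    have h2 : ∀ i, θ k' i ∈ 𝔪 * I := fun i => hJI (hK'J _ h1 i)
    have h3 : k' = θe.symm (θ k') := (θe.symm_apply_apply k').symm
    rw [h3]
    exact coord_map_mem (𝔪 * I) θe.symm.toLinearMap (θ k') h2 j
  have hKfg : K.FG := by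
    rw [hK]
    exact Module.FinitePresentation.fg_ker π hπsurj
  have hIfg : I.FG := Submodule.fg_iSup _ fun j => hKfg.map _
  have hI0 : I = ⊥ := Submodule.eq_bot_of_le_smul_of_le_jacobson_bot 𝔪 I hIfg hI
    (IsLocalRing.maximalIdeal_le_jacobson ⊥)
  have hK0 : LinearMap.ker π = ⊥ := by
    rw [← hK, eq_bot_iff]
    intro k' hk'
    rw [Submodule.mem_bot]
    ext j
    have := hmemI k' hk' j
    rw [hI0] at this
    exact this
  have hπinj : Function.Injective π := LinearMap.ker_eq_bot.1 hK0
  exact Module.Free.of_equiv (LinearEquiv.ofBijective π ⟨hπinj, hπsurj⟩)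

end Groth.Agent.S16368
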