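import Groth.Statements.S16373
import Groth.Agent.S16372
import Mathlib.RingTheory.WittVector.Teichmuller

set_option autoImplicit false
universe u
open FrobAlg

namespace Groth.Agent.S16373

/-- Let p be a prime, m ≥ 1, R a commutative ring with p = 0 in R and σ : W_m(R) → R a quasi-F-splitting
of level m (additive, σ(1) = 1, σ(F(x)·y) = x₀·σ(y) with F the componentwise p-th power). Let I ⊆
W_{m+1}(R) be the ideal generated by the shifts V(x) of the x with σ(x) = 0, and Q = W_{m+1}(R)/I.
Then Q is a flat lifting of R modulo p²: an element of Q lies in pQ exactly when the first Witt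
component of a representative vanishes (so Q/pQ is R through the first component), and an element of
Q is killed by p exactly when it lies in pQ. (Stated for a ring; the source has a scheme over the
prime field. For m = 1 this is the lifting attached to a Frobenius splitting.) -/
theorem result
    (p : ℕ) [Fact p.Prime] (m : ℕ) (hm : 0 < m) (R : Type u) [CommRing R] (hp : (p : R) = 0)
    (σ : TruncatedWittVector p m R →+ R) (h1 : σ 1 = 1)
    (hF : ∀ x y : TruncatedWittVector p m R, σ (WittGrp.frob p m hp x * y) = x.coeff ⟨0, hm⟩ * σ y)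
    (I : Ideal (TruncatedWittVector p (m + 1) R))
    (hI : I = Ideal.span (WittGrp.shift p (Nat.le_succ m) '' {x : TruncatedWittVector p m R | σ x = 0})) :
    (∀ w : TruncatedWittVector p (m + 1) R,
        Ideal.Quotient.mk I w ∈ Ideal.span ({(p : TruncatedWittVector p (m + 1) R ⧸ I)} : Set _) ↔
          w.coeff 0 = 0) ∧
    (∀ q : TruncatedWittVector p (m + 1) R ⧸ I,
        (p : TruncatedWittVector p (m + 1) R ⧸ I) * q = 0 ↔
          q ∈ Ideal.span ({(p : TruncatedWittVector p (m + 1) R ⧸ I)} : Set _)) := by
  classical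
  rcases subsingleton_or_nontrivial R with hR | hR
  · have hW : Subsingleton (TruncatedWittVector p (m + 1) R) :=
      ⟨fun a b => TruncatedWittVector.ext fun i => Subsingleton.elim _ _⟩
    have hQ : Subsingleton (TruncatedWittVector p (m + 1) R ⧸ I) :=
      ⟨fun a b => by
        obtain ⟨a', rfl⟩ := Ideal.Quotient.mk_surjective a
        obtain ⟨b', rfl⟩ := Ideal.Quotient.mk_surjective b
        rw [Subsingleton.elim a' b']⟩
    refine ⟨fun w => ⟨fun _ => Subsingleton.elim _ _, fun _ => ?_⟩,
      fun q => ⟨fun _ => ?_, fun _ => Subsingleton.elim _ _⟩⟩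
    · rw [Subsingleton.elim (Ideal.Quotient.mk I w) 0]; exact Ideal.zero_mem _
    · rw [Subsingleton.elim q 0]; exact Ideal.zero_mem _
  haveI : CharP R p := (CharP.charP_iff_prime_eq_zero (Fact.out : p.Prime)).mpr hp
  set V := WittGrp.shift (R := R) p (Nat.le_succ m) with hV
  set F := WittGrp.frob (R := R) p m hp with hFdef
  set tr := TruncatedWittVector.truncate (p := p) (R := R) (Nat.le_succ m) with htr
  -- (F1) multiplication by p
  have F1 : ∀ w : TruncatedWittVector p (m + 1) R,
      (p : TruncatedWittVector p (m + 1) R) * w = V (F (tr w)) := by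
    intro w
    obtain ⟨X, rfl⟩ := WittVector.truncate_surjective p (m + 1) R w
    rw [htr, TruncatedWittVector.truncate_wittVector_truncate, hFdef, WittGrp.frob_truncate, hV,
      WittGrp.shift_truncate]
    have h1 : m.succ - m = 1 := by omega
    rw [h1, Function.iterate_one, WittVector.verschiebung_frobenius, map_mul, map_natCast,
      mul_comm]
  -- (F5) coefficient zero
  have c0_add : ∀ a b : TruncatedWittVector p (m + 1) R,
      (a + b).coeff 0 = a.coeff 0 + b.coeff 0 := by
    intro a b
    obtain ⟨X, rfl⟩ := WittVector.truncate_surjective p (m + 1) R a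
    obtain ⟨Y, rfl⟩ := WittVector.truncate_surjective p (m + 1) R b
    rw [← map_add, WittVector.coeff_truncate, WittVector.coeff_truncate, WittVector.coeff_truncate]
    exact WittVector.add_coeff_zero X Y
  have c0_V : ∀ x, (V x).coeff 0 = 0 := by
    intro x
    rw [hV, WittGrp.coeff_shift, dif_neg]
    simp
  -- (F4) injectivity of the shift
  have V_inj : Function.Injective V := by
    intro x y hxy
    apply TruncatedWittVector.ext
    intro i
    have h1 := congrArg (fun z => TruncatedWittVector.coeff (⟨(i : ℕ) + 1, by omega⟩ : Fin (m + 1)) z) hxy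
    simp only [hV, WittGrp.coeff_shift] at h1
    rw [dif_pos (by simp), dif_pos (by simp)] at h1
    convert h1 using 2 <;> (apply Fin.ext; simp)
  -- (F3) elements with vanishing zeroth coefficient are shifts
  have F3 : ∀ w : TruncatedWittVector p (m + 1) R, w.coeff 0 = 0 → ∃ x, w = V x := by
    intro w hw
    refine ⟨TruncatedWittVector.mk p fun i => w.coeff ⟨(i : ℕ) + 1, by omega⟩, ?_⟩
    apply TruncatedWittVector.ext
    intro i
    rw [hV, WittGrp.coeff_shift]
    by_cases hi : m.succ - m ≤ (i : ℕ)
    · rw [dif_pos hi, TruncatedWittVector.coeff_mk]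
      congr 1
      apply Fin.ext
      simp only
      omega
    · rw [dif_neg hi]
      have : i = 0 := by apply Fin.ext; simp only [Fin.val_zero]; omega
      rw [this, hw]
  -- (F2) elements of `I` are shifts of elements of `ker σ`
  have F2 : ∀ i ∈ I, ∃ x, σ x = 0 ∧ i = V x := by
    intro i hi
    rw [hI] at hi
    induction hi using Submodule.span_induction with
    | mem y hy =>
      obtain ⟨x, hx, rfl⟩ := hy
      exact ⟨x, hx, rfl⟩
    | zero => exact ⟨0, map_zero σ, (map_zero V).symm⟩
    | add y z _ _ hy hz =>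
      obtain ⟨x, hx, rfl⟩ := hy
      obtain ⟨x', hx', rfl⟩ := hz
      exact ⟨x + x', by rw [map_add, hx, hx', add_zero], (map_add V x x').symm⟩
    | smul a y _ hy =>
      obtain ⟨x, hx, rfl⟩ := hy
      obtain ⟨x', hx', h⟩ := Groth.Agent.S16372.result p m hm R hp σ h1 hF a x hx
      exact ⟨x', hx', h⟩
  have VI : ∀ x, σ x = 0 → V x ∈ I := by
    intro x hx
    rw [hI]
    exact Ideal.subset_span ⟨x, hx, rfl⟩
  -- (F6)
  have F6 : ∀ u, σ (F u) = u.coeff ⟨0, hm⟩ := by
    intro u
    have := hF u 1
    rwa [mul_one, h1, mul_one] at this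
  have hpQ : (p : TruncatedWittVector p (m + 1) R ⧸ I)
      = Ideal.Quotient.mk I (p : TruncatedWittVector p (m + 1) R) := (map_natCast _ p).symm
  have partA : ∀ w : TruncatedWittVector p (m + 1) R,
      Ideal.Quotient.mk I w ∈ Ideal.span ({(p : TruncatedWittVector p (m + 1) R ⧸ I)} : Set _) ↔
        w.coeff 0 = 0 := by
    intro w
    constructor
    · intro hw
      obtain ⟨q', hq'⟩ := Ideal.mem_span_singleton'.1 hw
      obtain ⟨w', rfl⟩ := Ideal.Quotient.mk_surjective q'
      rw [hpQ, ← map_mul, Ideal.Quotient.eq] at hq'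
      obtain ⟨x, hx, hx'⟩ := F2 _ hq'
      have hw2 : w = w' * (p : TruncatedWittVector p (m + 1) R) - V x := by
        rw [← hx']; ring
      rw [hw2, mul_comm, F1, ← map_sub, c0_V]
    · intro hw
      obtain ⟨x, rfl⟩ := F3 w hw
      set w' : TruncatedWittVector p (m + 1) R :=
        WittVector.truncate (m + 1) (WittVector.teichmuller p (σ x)) with hw'
      have hu : (tr w').coeff ⟨0, hm⟩ = σ x := by
        rw [htr, hw', TruncatedWittVector.truncate_wittVector_truncate, WittVector.coeff_truncate]
        exact WittVector.teichmuller_coeff_zero p (σ x)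
      have hker : σ (x - F (tr w')) = 0 := by
        rw [map_sub, F6, hu, sub_self]
      have hx : V x = (p : TruncatedWittVector p (m + 1) R) * w' + V (x - F (tr w')) := by
        rw [F1, ← map_add]
        congr 1
        ring
      rw [hx, map_add, Ideal.Quotient.eq_zero_iff_mem.2 (VI _ hker), add_zero, map_mul, ← hpQ]
      exact Ideal.mul_mem_right _ _ (Ideal.subset_span rfl)
  refine ⟨partA, fun q => ?_⟩
  obtain ⟨w, rfl⟩ := Ideal.Quotient.mk_surjective q
  constructor
  · intro h
    rw [partA]
    rw [hpQ, ← map_mul, Ideal.Quotient.eq_zero_iff_mem, F1] at h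
    obtain ⟨x, hx, hx'⟩ := F2 _ h
    have h2 : F (tr w) = x := V_inj hx'
    have h3 : (tr w).coeff ⟨0, hm⟩ = 0 := by rw [← F6, h2, hx]
    rw [htr, TruncatedWittVector.coeff_truncate] at h3
    exact h3
  · intro h
    obtain ⟨q', hq'⟩ := Ideal.mem_span_singleton'.1 h
    obtain ⟨w', rfl⟩ := Ideal.Quotient.mk_surjective q'
    have e : (p : TruncatedWittVector p (m + 1) R) * (w' * (p : TruncatedWittVector p (m + 1) R))
        = V (p • F (tr w')) := by
      rw [mul_comm w', F1 w', map_nsmul, nsmul_eq_mul]
    rw [← hq', hpQ, ← map_mul, ← map_mul, Ideal.Quotient.eq_zero_iff_mem, e]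
    apply VI
    rw [map_nsmul, nsmul_eq_mul, hp, zero_mul]

end Groth.Agent.S16373
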