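import Groth.Statements.S16374
import Mathlib
-- import your own Groth.Agent.* helpers here

set_option autoImplicit false
universe u v w
open FrobAlg

namespace Groth.Agent.S16374

/-- Let p be a prime, A a commutative ring, B and C commutative A-algebras with p² = 0 in B, and g : C →
B an A-algebra map such that every g(c) is congruent modulo p to an element of the A-subalgebra of B
generated by the p-th powers (g lifts a relative Frobenius). Then d(g(x)) = 0 in the module of
Kähler differentials of B over A for every x ∈ C that is congruent modulo p to an element of the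
A-subalgebra of C generated by the p-th powers. (The source works with a lifting of the relative
Frobenius of a smooth scheme over a ℤ/p²-thickening and the subsheaf of functions whose reduction
comes from the Frobenius twist; smoothness is not needed for this vanishing.) -/
theorem result
    (p : ℕ) [Fact p.Prime] (A : Type u) [CommRing A] (B : Type v) [CommRing B] [Algebra A B]
    (C : Type w) [CommRing C] [Algebra A C] (hp : (p : B) ^ 2 = 0)
    (g : C →ₐ[A] B)
    (hg : ∀ c : C, ∃ u ∈ Algebra.adjoin A (Set.range fun b : B => b ^ p),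
      g c - u ∈ Ideal.span ({(p : B)} : Set B))
    (x y : C) (hy : y ∈ Algebra.adjoin A (Set.range fun c : C => c ^ p))
    (hxy : x - y ∈ Ideal.span ({(p : C)} : Set C)) :
    KaehlerDifferential.D A B (g x) = 0 := by
  have hp2 : ((p : B) ^ (1 + 1)) = 0 := by simpa using hp
  have hsq : (p : B) * (p : B) = 0 := by rw [← sq]; exact hp
  set D := KaehlerDifferential.D A B with hD
  -- (a) D u ∈ p Ω for u in the adjoin of p-th powers in B
  have ha : ∀ u ∈ Algebra.adjoin A (Set.range fun b : B => b ^ p),
      ∃ ω : Ω[B⁄A], D u = (p : B) • ω := by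
    intro u hu
    induction hu using Algebra.adjoin_induction with
    | mem u hu =>
      obtain ⟨b, rfl⟩ := hu
      refine ⟨b ^ (p - 1) • D b, ?_⟩
      show D (b ^ p) = _
      rw [Derivation.leibniz_pow, Nat.cast_smul_eq_nsmul]
    | algebraMap r => exact ⟨0, by simp⟩
    | add a b _ _ ha hb =>
      obtain ⟨ωa, ha⟩ := ha
      obtain ⟨ωb, hb⟩ := hb
      exact ⟨ωa + ωb, by rw [map_add, ha, hb, smul_add]⟩
    | mul a b _ _ ha hb =>
      obtain ⟨ωa, ha⟩ := ha
      obtain ⟨ωb, hb⟩ := hb
      refine ⟨a • ωb + b • ωa, ?_⟩
      rw [Derivation.leibniz, ha, hb, smul_add, smul_comm a, smul_comm b]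
  -- (b) p • D u = 0 for such u
  have hb : ∀ u ∈ Algebra.adjoin A (Set.range fun b : B => b ^ p), (p : B) • D u = 0 := by
    intro u hu
    obtain ⟨ω, hω⟩ := ha u hu
    rw [hω, smul_smul, hsq, zero_smul]
  -- (c) p • D (g z) = 0 for all z
  have hc : ∀ z : C, (p : B) • D (g z) = 0 := by
    intro z
    obtain ⟨u, hu, hzu⟩ := hg z
    obtain ⟨b, hb'⟩ := Ideal.mem_span_singleton.mp hzu
    have : g z = u + (p : B) * b := by rw [← hb']; ring
    rw [this, map_add, smul_add, hb u hu, zero_add, Derivation.leibniz, smul_add, smul_smul,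
      hsq, zero_smul, zero_add]
    have : D ((p : B)) = 0 := by
      have : ((p : B)) = algebraMap A B (p : A) := by simp
      rw [this, Derivation.map_algebraMap]
    rw [this, smul_zero, smul_zero]
  -- (d) D (g (c^p)) = 0
  have hd : ∀ c : C, D (g (c ^ p)) = 0 := by
    intro c
    obtain ⟨u, hu, hcu⟩ := hg c
    have hdvd : (p : B) ∣ g c - u := Ideal.mem_span_singleton.mp hcu
    have h := dvd_sub_pow_of_dvd_sub hdvd 1
    rw [hp2, pow_one, zero_dvd_iff, sub_eq_zero] at h
    rw [map_pow, h, Derivation.leibniz_pow, ← Nat.cast_smul_eq_nsmul B, smul_comm, hb u hu,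
      smul_zero]
  -- (e) D (g y) = 0 for y in adjoin
  have he : ∀ y ∈ Algebra.adjoin A (Set.range fun c : C => c ^ p), D (g y) = 0 := by
    intro y hy
    induction hy using Algebra.adjoin_induction with
    | mem y hy =>
      obtain ⟨c, rfl⟩ := hy
      exact hd c
    | algebraMap r => rw [AlgHom.commutes, Derivation.map_algebraMap]
    | add a b _ _ ha hb => rw [map_add, map_add, ha, hb, add_zero]
    | mul a b _ _ ha hb => rw [map_mul, Derivation.leibniz, ha, hb, smul_zero, smul_zero, add_zero]
  obtain ⟨z, hz⟩ := Ideal.mem_span_singleton.mp hxy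
  have hx : x = y + (p : C) * z := by rw [← hz]; ring
  rw [hx, map_add, map_mul, map_natCast, map_add, he y hy, zero_add, Derivation.leibniz,
    hc z]
  have : D ((p : B)) = 0 := by
    have : ((p : B)) = algebraMap A B (p : A) := by simp
    rw [this, Derivation.map_algebraMap]
  rw [this, smul_zero, add_zero]

end Groth.Agent.S16374
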