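import Groth.Statements.S1638
import Mathlib.LinearAlgebra.Basis.VectorSpace
import Mathlib.RingTheory.Flat.Basic
-- import your own Groth.Agent.* helpers here

set_option autoImplicit false
universe u
open Brauer
open scoped TensorProduct

namespace Groth.Agent.S1638

/-- Let A and A' be algebras over a field k with subalgebras B ⊆ A and B' ⊆ A' having centralizers C and
C'. Then the centralizer of the image of B ⊗ B' in A ⊗_k A' is the image of C ⊗_k C'. -/
theorem result (k : Type u) [Field k] (A A' : Type u) [Ring A] [Ring A'] [Algebra k A] [Algebra k A']
    (B : Subalgebra k A) (B' : Subalgebra k A') :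
    Subalgebra.centralizer k ((Algebra.TensorProduct.map B.val B'.val).range : Set (TensorProduct k A A')) =
      (Algebra.TensorProduct.map (Subalgebra.centralizer k (B : Set A)).val (Subalgebra.centralizer k (B' : Set A')).val).range := by
  classical
  ext w
  constructor
  · intro hw
    rw [Subalgebra.mem_centralizer_iff] at hw
    -- Step 1: w commutes with `B ⊗ 1`, so it comes from `C ⊗ A'`
    have h1 : w ∈ Subalgebra.centralizer k
        ((Algebra.TensorProduct.includeLeft (R := k) (S := k) (A := A) (B := A')) '' (B : Set A)) := by
      rw [Subalgebra.mem_centralizer_iff]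
      rintro _ ⟨b, hb, rfl⟩
      exact hw _ ⟨(⟨b, hb⟩ : B) ⊗ₜ[k] (1 : B'), by simp⟩
    rw [Subalgebra.centralizer_coe_image_includeLeft_eq_center_tensorProduct k A A'] at h1
    obtain ⟨w₁, rfl⟩ := h1
    -- injectivity of `C ⊗ A' → A ⊗ A'`
    have hinj : Function.Injective
        (Algebra.TensorProduct.map (Subalgebra.centralizer k (B : Set A)).val (AlgHom.id k A')) := by
      have : Function.Injective (LinearMap.rTensor A'
          (Subalgebra.centralizer k (B : Set A)).val.toLinearMap) :=
        Module.Flat.rTensor_preserves_injective_linearMap _ Subtype.val_injective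
      intro x y hxy
      exact this hxy
    -- Step 2: w₁ commutes with `1 ⊗ B'` inside `C ⊗ A'`
    have h2 : w₁ ∈ Subalgebra.centralizer k
        ((Algebra.TensorProduct.includeRight (R := k)
          (A := Subalgebra.centralizer k (B : Set A)) (B := A')) '' (B' : Set A')) := by
      rw [Subalgebra.mem_centralizer_iff]
      rintro _ ⟨b', hb', rfl⟩
      apply hinj
      rw [map_mul, map_mul]
      have := hw ((1 : A) ⊗ₜ[k] b') ⟨(1 : B) ⊗ₜ[k] (⟨b', hb'⟩ : B'), by simp⟩
      simpa using this
    rw [Subalgebra.centralizer_coe_image_includeRight_eq_center_tensorProduct k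
      (Subalgebra.centralizer k (B : Set A)) A'] at h2
    obtain ⟨w₂, rfl⟩ := h2
    have key : ∀ z : TensorProduct k (Subalgebra.centralizer k (B : Set A))
        (Subalgebra.centralizer k (B' : Set A')),
        (Algebra.TensorProduct.map (Subalgebra.centralizer k (B : Set A)).val
          (Subalgebra.centralizer k (B' : Set A')).val) z =
        (Algebra.TensorProduct.map (Subalgebra.centralizer k (B : Set A)).val (AlgHom.id k A'))
          ((Algebra.TensorProduct.map (AlgHom.id k (Subalgebra.centralizer k (B : Set A)))
            (Subalgebra.centralizer k (B' : Set A')).val) z) := by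
      intro z
      induction z using TensorProduct.induction_on with
      | zero => simp
      | tmul c c' => simp
      | add x y hx hy => simp only [map_add, hx, hy]
    exact ⟨w₂, key w₂⟩
  · rintro ⟨w, rfl⟩
    rw [Subalgebra.mem_centralizer_iff]
    rintro _ ⟨g, rfl⟩
    induction w using TensorProduct.induction_on with
    | zero => simp
    | tmul c c' =>
      induction g using TensorProduct.induction_on with
      | zero => simp
      | tmul b b' =>
        have e1 : (b : A) * (c : A) = (c : A) * (b : A) :=
          (Subalgebra.mem_centralizer_iff k).1 c.2 b b.2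
        have e2 : (b' : A') * (c' : A') = (c' : A') * (b' : A') :=
          (Subalgebra.mem_centralizer_iff k).1 c'.2 b' b'.2
        simp [e1, e2]
      | add x y hx hy => simp only [map_add, add_mul, mul_add, hx, hy]
    | add x y hx hy => simp only [map_add, add_mul, mul_add, hx, hy]

end Groth.Agent.S1638
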