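import Groth.Statements.S16390
import Mathlib
-- import your own Groth.Agent.* helpers here

set_option autoImplicit false
open AbVar

namespace Groth.Agent.S16390

/-- Let p be a prime number, r > 2 and q = p^r. The polynomial x² − p x + q is irreducible over ℚ, each
of its complex roots has absolute value √q (so its roots are Weil q-numbers), and it has two
distinct roots in ℚ_p, of p-adic valuations 1 and r − 1. The published lemma also computes the index
of the endomorphism algebra of the simple abelian variety attached to a root; this row does not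
state that part. -/
theorem result (p r : ℕ) [Fact p.Prime] (hr : 2 < r) :
    Irreducible (Polynomial.X ^ 2 - Polynomial.C (p : ℚ) * Polynomial.X + Polynomial.C ((p : ℚ) ^ r)) ∧
      (∀ π : ℂ, π ^ 2 - (p : ℂ) * π + (p : ℂ) ^ r = 0 → ‖π‖ = Real.sqrt ((p : ℝ) ^ r)) ∧
      ∃ a b : ℚ_[p], a ≠ b ∧ a ^ 2 - (p : ℚ_[p]) * a + (p : ℚ_[p]) ^ r = 0 ∧
        b ^ 2 - (p : ℚ_[p]) * b + (p : ℚ_[p]) ^ r = 0 ∧ a.valuation = 1 ∧ b.valuation = (r : ℤ) - 1 := by
  have hp : p.Prime := Fact.out
  have hp1 : (1 : ℝ) ≤ p := by exact_mod_cast hp.one_lt.le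
  have hp1q : (1 : ℚ) ≤ p := by exact_mod_cast hp.one_lt.le
  -- p^r ≥ p^2
  have hpowR : (p : ℝ) ^ 2 ≤ (p : ℝ) ^ r := pow_le_pow_right₀ hp1 (by omega)
  have hpowQ : (p : ℚ) ^ 2 ≤ (p : ℚ) ^ r := pow_le_pow_right₀ hp1q (by omega)
  refine ⟨?_, ?_, ?_⟩
  · -- irreducibility
    have hform : (Polynomial.X ^ 2 - Polynomial.C (p : ℚ) * Polynomial.X + Polynomial.C ((p : ℚ) ^ r)
        : Polynomial ℚ) = Polynomial.X ^ 2 +
          (Polynomial.C (-(p : ℚ)) * Polynomial.X + Polynomial.C ((p : ℚ) ^ r)) := by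
      rw [map_neg]; ring
    have hdeg : (Polynomial.C (-(p : ℚ)) * Polynomial.X + Polynomial.C ((p : ℚ) ^ r)
        : Polynomial ℚ).degree < ((2 : ℕ) : WithBot ℕ) :=
      lt_of_le_of_lt Polynomial.degree_linear_le (by exact_mod_cast (by norm_num : (1 : ℕ) < 2))
    have hmonic : (Polynomial.X ^ 2 - Polynomial.C (p : ℚ) * Polynomial.X +
        Polynomial.C ((p : ℚ) ^ r) : Polynomial ℚ).Monic := by
      rw [hform]; exact Polynomial.monic_X_pow_add hdeg
    have hnat : (Polynomial.X ^ 2 - Polynomial.C (p : ℚ) * Polynomial.X +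
        Polynomial.C ((p : ℚ) ^ r) : Polynomial ℚ).natDegree = 2 := by
      rw [hform, Polynomial.natDegree_add_eq_left_of_degree_lt
        (by rw [Polynomial.degree_X_pow]; exact hdeg), Polynomial.natDegree_X_pow]
    rw [Polynomial.Monic.irreducible_iff_roots_eq_zero_of_degree_le_three hmonic
      (by rw [hnat]) (by rw [hnat]; norm_num)]
    apply Multiset.eq_zero_of_forall_notMem
    intro x hx
    rw [Polynomial.mem_roots hmonic.ne_zero] at hx
    have hx' : x ^ 2 - (p : ℚ) * x + (p : ℚ) ^ r = 0 := by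
      have := hx
      simp only [Polynomial.IsRoot.def, Polynomial.eval_add, Polynomial.eval_sub,
        Polynomial.eval_pow, Polynomial.eval_X, Polynomial.eval_mul, Polynomial.eval_C] at this
      exact this
    nlinarith [sq_nonneg (x - p / 2), hpowQ, hp1q]
  · -- complex roots
    intro π hπ
    have hπ' : π ^ 2 - ((p : ℝ) : ℂ) * π + (((p : ℝ) ^ r : ℝ) : ℂ) = 0 := by
      push_cast; exact hπ
    have hre := congrArg Complex.re hπ'
    have him := congrArg Complex.im hπ'
    simp only [sq, Complex.add_re, Complex.sub_re, Complex.mul_re, Complex.ofReal_re,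
      Complex.ofReal_im, Complex.zero_re, Complex.add_im, Complex.sub_im, Complex.mul_im,
      Complex.zero_im, zero_mul, sub_zero, add_zero] at hre him
    have hb : π.im ≠ 0 := by
      intro hb
      rw [hb] at hre
      nlinarith [sq_nonneg (π.re - p / 2), hpowR, hp1]
    have ha : 2 * π.re = p := by
      have : π.im * (2 * π.re - p) = 0 := by nlinarith
      rcases mul_eq_zero.mp this with h | h
      · exact absurd h hb
      · linarith
    rw [Complex.norm_def]
    congr 1
    rw [Complex.normSq_apply]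
    nlinarith
  · -- p-adic roots
    obtain ⟨m, hm⟩ : ∃ m, r = m + 3 := ⟨r - 3, by omega⟩
    set F : Polynomial ℤ_[p] := Polynomial.X ^ 2 - Polynomial.X +
      Polynomial.C ((p : ℤ_[p]) ^ (r - 2)) with hF
    have hF1 : Polynomial.aeval (1 : ℤ_[p]) F = (p : ℤ_[p]) ^ (r - 2) := by
      simp [hF]
    have hF'1 : Polynomial.aeval (1 : ℤ_[p]) (Polynomial.derivative F) = 1 := by
      rw [hF]
      simp only [Polynomial.derivative_add, Polynomial.derivative_sub, Polynomial.derivative_X_pow,
        Polynomial.derivative_X, Polynomial.derivative_C]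
      simp
      norm_num
    have hnorm : ‖Polynomial.aeval (1 : ℤ_[p]) F‖ <
        ‖Polynomial.aeval (1 : ℤ_[p]) (Polynomial.derivative F)‖ ^ 2 := by
      rw [hF1, hF'1, norm_one, one_pow, PadicInt.norm_lt_one_iff_dvd]
      exact dvd_pow_self _ (by omega)
    obtain ⟨y, hy0, hy1, -, -⟩ := hensels_lemma hnorm
    rw [hF'1, norm_one] at hy1
    have hyeq : y ^ 2 - y + (p : ℤ_[p]) ^ (r - 2) = 0 := by
      have := hy0
      simp [hF] at this
      exact this
    -- ‖y‖ = 1
    have hynorm : ‖y‖ = 1 := by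
      rcases lt_or_eq_of_le (PadicInt.norm_le_one y) with h | h
      · exfalso
        rw [PadicInt.norm_lt_one_iff_dvd] at h hy1
        have h1 : (p : ℤ_[p]) ∣ 1 := by
          have := dvd_sub h hy1
          simpa using this
        rw [← PadicInt.norm_lt_one_iff_dvd, norm_one] at h1
        exact lt_irrefl _ h1
      · exact h
    have hyne : (y : ℚ_[p]) ≠ 0 := by
      intro h
      have : y = 0 := PadicInt.coe_eq_zero.mp h
      rw [this, norm_zero] at hynorm
      exact zero_ne_one hynorm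
    have hyval : (y : ℚ_[p]).valuation = 0 := by
      have h1 := Padic.norm_eq_zpow_neg_valuation hyne
      have h2 : ‖(y : ℚ_[p])‖ = 1 := by rw [← PadicInt.norm_def]; exact hynorm
      rw [h2] at h1
      have hp0 : (0 : ℝ) ≤ p := by positivity
      have hpne1 : (p : ℝ) ≠ 1 := by exact_mod_cast hp.one_lt.ne'
      have := (zpow_eq_one_iff_right₀ hp0 hpne1).mp h1.symm
      omega
    have hpne : (p : ℚ_[p]) ≠ 0 := by exact_mod_cast hp.ne_zero
    -- the equation in ℚ_p
    have hyeqQ : (y : ℚ_[p]) ^ 2 - (y : ℚ_[p]) + (p : ℚ_[p]) ^ (r - 2) = 0 := by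
      have := congrArg (fun z : ℤ_[p] => (z : ℚ_[p])) hyeq
      simpa only [PadicInt.coe_add, PadicInt.coe_sub, PadicInt.coe_pow, PadicInt.coe_natCast,
        PadicInt.coe_zero] using this
    have hpr : (p : ℚ_[p]) ^ r = (p : ℚ_[p]) ^ 2 * (p : ℚ_[p]) ^ (r - 2) := by
      rw [← pow_add]; congr 1; omega
    have hprod : (y : ℚ_[p]) * (1 - (y : ℚ_[p])) = (p : ℚ_[p]) ^ (r - 2) := by
      linear_combination (-1 : ℚ_[p]) * hyeqQ
    have hy0ne : (1 - (y : ℚ_[p])) ≠ 0 := by
      intro h
      rw [h, mul_zero] at hprod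
      exact pow_ne_zero _ hpne hprod.symm
    have hy0val : (1 - (y : ℚ_[p])).valuation = (r : ℤ) - 2 := by
      have h1 := congrArg Padic.valuation hprod
      rw [Padic.valuation_mul hyne hy0ne, hyval, zero_add, Padic.valuation_pow,
        Padic.valuation_p, mul_one] at h1
      rw [h1]
      omega
    refine ⟨(p : ℚ_[p]) * (y : ℚ_[p]), (p : ℚ_[p]) * (1 - (y : ℚ_[p])), ?_, ?_, ?_, ?_, ?_⟩
    · intro h
      have h1 := congrArg Padic.valuation h
      rw [Padic.valuation_mul hpne hyne, Padic.valuation_mul hpne hy0ne, hyval, hy0val,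
        Padic.valuation_p] at h1
      omega
    · rw [hpr]; linear_combination (p : ℚ_[p]) ^ 2 * hyeqQ
    · rw [hpr]; linear_combination (p : ℚ_[p]) ^ 2 * hyeqQ
    · rw [Padic.valuation_mul hpne hyne, hyval, Padic.valuation_p]; norm_num
    · rw [Padic.valuation_mul hpne hy0ne, hy0val, Padic.valuation_p]; ring

end Groth.Agent.S16390
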