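import Groth.Statements.S4362
import Mathlib
-- import your own Groth.Agent.* helpers here

set_option autoImplicit false
universe u
open FinCond

namespace Groth.Agent.S4362

open AlgebraicGeometry in
open CategoryTheory in
/-- If X is a Noetherian scheme, every increasing sequence of quasi-coherent sheaves of ideals of the
structure sheaf is eventually constant; equivalently the ordered set of quasi-coherent ideal sheaves
of X is well-founded for the reverse order. (On a locally Noetherian scheme quasi-coherent and
coherent ideal sheaves coincide.) -/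
theorem result
    (X : Scheme.{u}) [IsNoetherian X] : WellFoundedGT X.IdealSheafData := by
  classical
  obtain ⟨s, hs, e⟩ := (AlgebraicGeometry.isCompact_iff_finite_and_eq_biUnion_affineOpens
    (U := (⊤ : X.Opens))).mp CompactSpace.isCompact_univ
  have hfin : Finite s := hs
  have hcov : ⨆ U : s, (U : X.affineOpens).1 = ⊤ := by
    apply le_antisymm le_top
    intro x hx
    have hx' : x ∈ (⨆ i ∈ s, (i : X.Opens) : X.Opens) := e ▸ hx
    simp only [TopologicalSpace.Opens.mem_iSup] at hx'
    obtain ⟨i, hi, hx'⟩ := hx'
    exact TopologicalSpace.Opens.mem_iSup.mpr ⟨⟨i, hi⟩, hx'⟩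
  have hN : ∀ U : s, IsNoetherianRing Γ(X, (U : X.affineOpens).1) := fun U =>
    AlgebraicGeometry.IsLocallyNoetherian.component_noetherian U.1
  let φ : X.IdealSheafData → (∀ U : s, (Ideal Γ(X, (U : X.affineOpens).1))ᵒᵈ) :=
    fun I U => OrderDual.toDual (I.ideal U.1)
  have hφ : StrictAnti φ := by
    intro I J hIJ
    have hle : φ J ≤ φ I := fun U => OrderDual.toDual_le_toDual.mpr (hIJ.le U.1)
    refine lt_of_le_of_ne hle ?_
    intro h
    apply hIJ.ne
    refine AlgebraicGeometry.Scheme.IdealSheafData.ext_of_iSup_eq_top (fun U : s => U.1) hcov ?_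
    intro U
    have := congr_fun h U
    exact (OrderDual.toDual.injective this).symm
  exact hφ.wellFoundedGT

end Groth.Agent.S4362
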