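import Groth.Statements.S16394
import Mathlib
import Groth.Agent.S4362

set_option autoImplicit false
universe u
open CategoryTheory MonoidalCategory CartesianMonoidalCategory MonObj GrpObj AlgebraicGeometry
open AbVar

namespace Groth.Agent.S16394

/-- (b₁) ⇒ (c₁): let k be a finite field and X, A abelian varieties over k (proper, geometrically
integral commutative group schemes over k). Suppose the common kernel of all homomorphisms X → A is
trivial: every T-valued point of X over k that is sent to the unit by every homomorphism X → A is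
the unit point (this is condition (b₁) for the trivial subgroup). Then there are finitely many
homomorphisms ψ_1, …, ψ_n : X → A which are jointly monomorphic on T-valued points — two T-valued
points of X with the same image under every ψ_i are equal — so that (ψ_i) is an injective
homomorphism X → A^n. The published statement restricts X and A to abelian varieties whose Frobenius
is killed by a fixed polynomial; this row has no such restriction. -/
theorem result
    (k : Type u) [Field k] [Finite k] (X A : Over (Spec (CommRingCat.of k))) [GrpObj X] [IsCommMonObj X] [IsProper X.hom] [GeometricallyIntegral X.hom]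
    [GrpObj A] [IsCommMonObj A] [IsProper A.hom] [GeometricallyIntegral A.hom]
    (hsep : ∀ (T : Over (Spec (CommRingCat.of k))) (x : T ⟶ X), (∀ f : EndAV.Hom X A, x ≫ f.toHom = 1) → x = 1) :
    ∃ (n : ℕ) (ψ : Fin n → EndAV.Hom X A), ∀ (T : Over (Spec (CommRingCat.of k))) (x y : T ⟶ X),
      (∀ i, x ≫ (ψ i).toHom = y ≫ (ψ i).toHom) → x = y := by
  classical
  haveI : LocallyOfFiniteType X.hom := inferInstance
  haveI : QuasiCompact X.hom := inferInstance
  haveI : IsLocallyNoetherian X.left := LocallyOfFiniteType.isLocallyNoetherian X.hom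
  haveI : CompactSpace X.left := QuasiCompact.compactSpace_of_compactSpace X.hom
  haveI : IsNoetherian X.left := {}
  haveI hwf : WellFoundedGT X.left.IdealSheafData := Groth.Agent.S4362.result X.left
  haveI : IsSeparated A.hom := inferInstance
  haveI hη : IsClosedImmersion η[A].left := by
    haveI : IsClosedImmersion (η[A].left ≫ A.hom) := by
      rw [Over.w η[A]]
      exact inferInstanceAs (IsClosedImmersion (𝟙 (Spec (CommRingCat.of k))))
    exact IsClosedImmersion.of_comp η[A].left A.hom
  let κ : ∀ ψ : EndAV.Hom X A, Limits.pullback ψ.toHom.left η[A].left ⟶ X.left :=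
    fun ψ => Limits.pullback.fst _ _
  haveI : ∀ ψ, IsClosedImmersion (κ ψ) := fun ψ => inferInstance
  let I : EndAV.Hom X A → X.left.IdealSheafData := fun ψ => (κ ψ).ker
  let J : Finset (EndAV.Hom X A) → X.left.IdealSheafData := fun F => F.sup I
  obtain ⟨_, ⟨F₀, rfl⟩, hmax⟩ := hwf.wf.has_min (Set.range J) ⟨J ∅, ∅, rfl⟩
  have hle : ∀ ψ, I ψ ≤ J F₀ := by
    intro ψ
    have h1 : J F₀ ≤ J (insert ψ F₀) := Finset.sup_mono (Finset.subset_insert _ _)
    have h2 : ¬ (J F₀ < J (insert ψ F₀)) := hmax _ ⟨_, rfl⟩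
    have h3 : J F₀ = J (insert ψ F₀) := eq_of_le_of_not_lt h1 h2
    rw [h3]
    exact Finset.le_sup (f := I) (Finset.mem_insert_self ψ F₀)
  let j₀ : (J F₀).subscheme ⟶ X.left := (J F₀).subschemeι
  let Zo : Over (Spec (CommRingCat.of k)) := Over.mk (j₀ ≫ X.hom)
  let κ₀ : Zo ⟶ X := Over.homMk j₀ rfl
  have hsnd : ∀ ψ : EndAV.Hom X A, Limits.pullback.snd ψ.toHom.left η[A].left = κ ψ ≫ X.hom := by
    intro ψ
    have h1 : η[A].left ≫ A.hom = 𝟙 _ := Over.w η[A]
    have h2 : ψ.toHom.left ≫ A.hom = X.hom := Over.w ψ.toHom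
    calc Limits.pullback.snd ψ.toHom.left η[A].left
        = Limits.pullback.snd ψ.toHom.left η[A].left ≫ η[A].left ≫ A.hom := by
          rw [h1]; exact (Category.comp_id _).symm
      _ = (Limits.pullback.fst ψ.toHom.left η[A].left ≫ ψ.toHom.left) ≫ A.hom := by
          rw [Limits.pullback.condition, Category.assoc]
      _ = κ ψ ≫ X.hom := by rw [Category.assoc, h2]
  have hκ₀ : ∀ ψ : EndAV.Hom X A, κ₀ ≫ ψ.toHom = 1 := by
    intro ψ
    have hker : (κ ψ).ker ≤ j₀.ker := by
      rw [Scheme.IdealSheafData.ker_subschemeι]; exact hle ψ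
    have hl : IsClosedImmersion.lift (κ ψ) j₀ hker ≫ κ ψ = j₀ := IsClosedImmersion.lift_fac _ _ _
    rw [Hom.one_def]
    ext1
    rw [Over.comp_left, Over.comp_left, CategoryTheory.Over.toUnit_left]
    show j₀ ≫ ψ.toHom.left = (j₀ ≫ X.hom) ≫ η[A].left
    calc j₀ ≫ ψ.toHom.left
        = IsClosedImmersion.lift (κ ψ) j₀ hker ≫ (Limits.pullback.fst ψ.toHom.left η[A].left ≫
            ψ.toHom.left) := by rw [← Category.assoc]; exact congrArg (· ≫ ψ.toHom.left) hl.symm
      _ = IsClosedImmersion.lift (κ ψ) j₀ hker ≫ (κ ψ ≫ X.hom) ≫ η[A].left := by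
          rw [Limits.pullback.condition, hsnd]
      _ = (j₀ ≫ X.hom) ≫ η[A].left := by
          rw [← Category.assoc, ← Category.assoc, hl]
  have hκ₀one : κ₀ = 1 := hsep Zo κ₀ hκ₀
  refine ⟨F₀.card, fun i => ((F₀.equivFin.symm i : F₀) : EndAV.Hom X A), ?_⟩
  intro T x y hxy
  have hxy' : ∀ ψ ∈ F₀, x ≫ ψ.toHom = y ≫ ψ.toHom := by
    intro ψ hψ
    have := hxy (F₀.equivFin ⟨ψ, hψ⟩)
    simpa using this
  have hwψ : ∀ ψ ∈ F₀, (x * y⁻¹) ≫ ψ.toHom = 1 := by
    intro ψ hψ
    rw [MonObj.mul_comp, GrpObj.inv_comp, hxy' ψ hψ, mul_inv_cancel]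
  have hker : j₀.ker ≤ (x * y⁻¹).left.ker := by
    rw [Scheme.IdealSheafData.ker_subschemeι]
    apply Finset.sup_le
    intro ψ hψ
    have hcond : (x * y⁻¹).left ≫ ψ.toHom.left = (toUnit T).left ≫ η[A].left := by
      have := congrArg (fun m => m.left) (hwψ ψ hψ)
      rw [Hom.one_def] at this
      exact this
    have h4 : (x * y⁻¹).left = Limits.pullback.lift (x * y⁻¹).left (toUnit T).left hcond ≫ κ ψ :=
      (Limits.pullback.lift_fst _ _ _).symm
    rw [h4]
    exact Scheme.Hom.le_ker_comp _ _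
  have hz' : IsClosedImmersion.lift j₀ (x * y⁻¹).left hker ≫ j₀ = (x * y⁻¹).left :=
    IsClosedImmersion.lift_fac _ _ _
  let z : T ⟶ Zo := Over.homMk (IsClosedImmersion.lift j₀ (x * y⁻¹).left hker) (by
    show IsClosedImmersion.lift j₀ (x * y⁻¹).left hker ≫ j₀ ≫ X.hom = T.hom
    rw [← Category.assoc, hz']; exact Over.w (x * y⁻¹))
  have hzw : z ≫ κ₀ = x * y⁻¹ := by
    ext1; exact hz'
  have hw1 : x * y⁻¹ = 1 := by rw [← hzw, hκ₀one, MonObj.comp_one]
  exact mul_inv_eq_one.mp hw1

end Groth.Agent.S16394
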