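import Groth.Statements.S16396
import Mathlib
-- import your own Groth.Agent.* helpers here

set_option autoImplicit false
universe u
open CAlg

namespace Groth.Agent.S16396

open Polynomial in
/-- For a commutative ℚ-algebra A, a ℚ-subalgebra B of the polynomial algebra A[X] that contains X and
is closed under d/dX consists exactly of the polynomials each of whose coefficients is the value at
0 of some element of B; in other words B = ev(B)[X], with ev the evaluation at 0. -/
theorem result
    (A : Type u) [CommRing A] [Algebra ℚ A] (B : Subalgebra ℚ A[X])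
    (hX : (X : A[X]) ∈ B) (hD : ∀ P ∈ B, Polynomial.derivative P ∈ B) (P : A[X]) :
    P ∈ B ↔ ∀ i : ℕ, ∃ Q ∈ B, Polynomial.eval 0 Q = P.coeff i := by
  -- key lemma: all constant coefficients of members of B lie in B
  have key : ∀ n : ℕ, ∀ Q ∈ B, Q.natDegree ≤ n → ∀ i, C (Q.coeff i) ∈ B := by
    intro n
    induction n with
    | zero =>
      intro Q hQ hdeg i
      have hQC : Q = C (Q.coeff 0) := Polynomial.eq_C_of_natDegree_le_zero hdeg
      rcases Nat.eq_zero_or_pos i with h0 | hpos
      · subst h0; rw [← hQC]; exact hQ
      · have : Q.coeff i = 0 := by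
          rw [hQC, Polynomial.coeff_C, if_neg (by omega)]
        rw [this, map_zero]; exact B.zero_mem
    | succ n ih =>
      intro Q hQ hdeg
      have hder : derivative Q ∈ B := hD Q hQ
      have hderdeg : (derivative Q).natDegree ≤ n :=
        le_trans (Polynomial.natDegree_derivative_le Q) (by omega)
      have hpos : ∀ i, C (Q.coeff (i + 1)) ∈ B := by
        intro i
        have h1 := ih (derivative Q) hder hderdeg i
        rw [Polynomial.coeff_derivative] at h1
        have h2 : ((i + 1 : ℚ)⁻¹) • C (Q.coeff (i + 1) * ((i : A) + 1)) ∈ B := B.smul_mem h1 _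
        have h3 : ((i + 1 : ℚ)⁻¹) • C (Q.coeff (i + 1) * ((i : A) + 1)) = C (Q.coeff (i + 1)) := by
          rw [Polynomial.smul_C]
          congr 1
          have : ((i : A) + 1) = algebraMap ℚ A ((i : ℚ) + 1) := by simp
          rw [this, Algebra.smul_def, mul_comm (Q.coeff (i + 1)), ← mul_assoc, ← map_mul,
            inv_mul_cancel₀ (by positivity), map_one, one_mul]
        rw [h3] at h2
        exact h2
      intro i
      rcases Nat.eq_zero_or_pos i with h0 | hipos
      · subst h0
        have hsum := Polynomial.as_sum_range' Q (n + 2) (by omega)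
        rw [Finset.sum_range_succ'] at hsum
        have : C (Q.coeff 0) = Q - ∑ k ∈ Finset.range (n + 1), monomial (k + 1) (Q.coeff (k + 1)) := by
          rw [eq_sub_iff_add_eq, add_comm]
          conv_rhs => rw [hsum]
          simp [Polynomial.monomial_zero_left]
        rw [this]
        refine B.sub_mem hQ (B.sum_mem ?_)
        intro k _
        rw [← Polynomial.C_mul_X_pow_eq_monomial]
        exact B.mul_mem (hpos k) (B.pow_mem hX _)
      · obtain ⟨j, rfl⟩ : ∃ j, i = j + 1 := ⟨i - 1, by omega⟩
        exact hpos j
  constructor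
  · intro hP i
    exact ⟨C (P.coeff i), key _ P hP le_rfl i, by simp⟩
  · intro h
    rw [Polynomial.as_sum_range' P (P.natDegree + 1) (by omega)]
    refine B.sum_mem ?_
    intro i _
    obtain ⟨Q, hQ, hQi⟩ := h i
    rw [← Polynomial.C_mul_X_pow_eq_monomial, ← hQi, ← Polynomial.coeff_zero_eq_eval_zero]
    exact B.mul_mem (key _ Q hQ le_rfl 0) (B.pow_mem hX _)

end Groth.Agent.S16396
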