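import Groth.Statements.S1640
import Groth.Agent.Lib.Helper39.DimOneSemilocal
-- import your own Groth.Agent.* helpers here

set_option autoImplicit false
universe u
open Variety

namespace Groth.Agent.S1640

section Helpers

open Groth.Agent.Lib.Helper39

theorem main1640 (K : Type u) [Field K] (A : Subring K) [IsFractionRing A K]
    (r : ℕ) (B : Fin r → Subring K) [∀ i, IsNoetherianRing (B i)] [∀ i, IsFractionRing (B i) K]
    (hdim : ∀ i, ringKrullDim (B i) = 1) (hsl : ∀ i, Finite (MaximalSpectrum (B i)))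
    (hgen : ∀ i, A ⊔ B i = ⊤) :
    ∃ x : K, x ∈ A ∧ x ≠ 0 ∧ ∀ i, ∃ hx : x⁻¹ ∈ B i, (⟨x⁻¹, hx⟩ : B i) ∈ (⊥ : Ideal (B i)).jacobson := by
  classical
  have hKd : ∀ i, Ring.KrullDimLE 1 (B i) := fun i => KA.krullDimLE_one_of_eq (hdim i)
  have hnf : ∀ i, ¬ IsField (B i) := by
    intro i hf
    have := ringKrullDim_eq_zero_of_isField hf
    rw [hdim i] at this
    exact one_ne_zero this
  choose W hW1 hW2 using fun i => KA.exists_finset_valuation (B i) K (hnf i)
  let Wall : Finset (Valuation K (WithZero (Multiplicative ℤ))) := Finset.univ.biUnion W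
  have h : ∀ w ∈ Wall, ∃ a ∈ A, 1 < w a := by
    intro w hw
    obtain ⟨i, -, hwi⟩ := Finset.mem_biUnion.mp hw
    by_contra hcon
    push Not at hcon
    obtain ⟨hB, z, hz⟩ := hW1 i w hwi
    have hA' : A ≤ w.valuationSubring.toSubring := fun a ha => hcon a ha
    have hB' : B i ≤ w.valuationSubring.toSubring := fun b hb => hB ⟨b, hb⟩
    have htop : (⊤ : Subring K) ≤ w.valuationSubring.toSubring := by
      rw [← hgen i]; exact sup_le hA' hB'
    have : w z ≤ 1 := htop (Subring.mem_top z)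
    exact not_lt_of_ge this hz
  obtain ⟨x, hxA, hx0, hx⟩ := KA.exists_forall_one_lt_valuation A Wall h
  choose n₀ hn₀ using fun i => hW2 i x
    (fun w hw => hx w (Finset.mem_biUnion.mpr ⟨i, Finset.mem_univ i, hw⟩))
  let N := Finset.univ.sup n₀
  refine ⟨x ^ N, A.pow_mem hxA N, pow_ne_zero _ hx0, fun i => ?_⟩
  obtain ⟨b, hb, hbj⟩ := hn₀ i N (Finset.le_sup (Finset.mem_univ i))
  have hbx : (b : K) = (x ^ N)⁻¹ := by
    rw [← inv_pow]; exact hb
  refine ⟨hbx ▸ b.2, ?_⟩
  convert hbj
  exact hbx.symm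

end Helpers

/-- Let K be a field, A ⊆ K a subring with fraction field K, and B_1, …, B_r ⊆ K Noetherian
one-dimensional subrings with finitely many maximal ideals and fraction field K, such that for each
i the subring generated by A and B_i is all of K. Then some nonzero x ∈ A has x⁻¹ lying in B_i and
in the Jacobson radical of B_i for every i. -/
theorem result (K : Type u) [Field K] (A : Subring K) [IsFractionRing A K]
    (r : ℕ) (B : Fin r → Subring K) [∀ i, IsNoetherianRing (B i)] [∀ i, IsFractionRing (B i) K]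
    (hdim : ∀ i, ringKrullDim (B i) = 1) (hsl : ∀ i, Finite (MaximalSpectrum (B i)))
    (hgen : ∀ i, A ⊔ B i = ⊤) :
    ∃ x : K, x ∈ A ∧ x ≠ 0 ∧ ∀ i, ∃ hx : x⁻¹ ∈ B i, (⟨x⁻¹, hx⟩ : B i) ∈ (⊥ : Ideal (B i)).jacobson := by
  exact main1640 K A r B hdim hsl hgen

end Groth.Agent.S1640
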