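import Groth.Statements.S16400
import Mathlib

set_option autoImplicit false
universe u v
open CAlgX

namespace Groth.Agent.S16400

section
variable {K : Type*} [Field K]

/-- select a finset of indices on which a finite family is linearly independent with the same span -/
lemma exists_finset_basis {V ι : Type*} [AddCommGroup V] [Module K V] [Fintype ι]
    (v : ι → V) :
    ∃ c : Finset ι, LinearIndependent K (fun j : c => v j) ∧
      Submodule.span K (Set.range v) ≤ Submodule.span K (Set.range fun j : c => v j) := by
  classical
  obtain ⟨b, -, -, hsp, hli⟩ := exists_linearIndepOn_extension (K := K) (v := v)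
    (linearIndepOn_empty K v) (Set.empty_subset Set.univ)
  refine ⟨b.toFinset, ?_, ?_⟩
  · have : LinearIndependent K (fun j : b => v j) := hli
    exact this.comp (fun j : b.toFinset => (⟨j.1, Set.mem_toFinset.1 j.2⟩ : b))
      (fun x y h => Subtype.ext (congrArg (fun z : b => (z : ι)) h))
  · rw [Submodule.span_le]
    rintro _ ⟨i, rfl⟩
    have h1 : v i ∈ Submodule.span K (v '' b) := hsp ⟨i, Set.mem_univ i, rfl⟩
    refine Submodule.span_mono ?_ h1
    rintro _ ⟨j, hj, rfl⟩
    exact ⟨⟨j, Set.mem_toFinset.2 hj⟩, rfl⟩

/-- column selection for a matrix with surjective action -/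
lemma exists_cols_bijective {m n : Type*} [Fintype m] [Fintype n] [DecidableEq n]
    (B : Matrix m n K) (hB : Function.Surjective B.mulVecLin) :
    ∃ c : Finset n, Function.Bijective (B.submatrix id (Subtype.val : c → n)).mulVecLin := by
  obtain ⟨c, hli, hsp⟩ := exists_finset_basis (K := K) B.col
  refine ⟨c, ?_, ?_⟩
  · show Function.Injective (B.submatrix id (Subtype.val : c → n)).mulVec
    rw [Matrix.mulVec_injective_iff]
    exact hli
  · rw [← LinearMap.range_eq_top, Matrix.range_mulVecLin, eq_top_iff]
    have h1 : (⊤ : Submodule K (m → K)) = Submodule.span K (Set.range B.col) := by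
      rw [← Matrix.range_mulVecLin, LinearMap.range_eq_top.2 hB]
    rw [h1]
    exact hsp

lemma surjective_transpose_of_injective {m n : Type*} [Fintype m] [Fintype n] [DecidableEq n]
    [DecidableEq m]
    (B : Matrix m n K) (hB : Function.Injective B.mulVecLin) :
    Function.Surjective B.transpose.mulVecLin := by
  rw [← LinearMap.range_eq_top]
  apply Submodule.eq_top_of_finrank_eq
  have h1 : Module.finrank K (LinearMap.range B.transpose.mulVecLin) = B.transpose.rank := rfl
  rw [h1, Matrix.rank_transpose]
  show Module.finrank K (LinearMap.range B.mulVecLin) = _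
  rw [LinearMap.finrank_range_of_inj hB]

lemma bijective_of_transpose {r n : Type*} [Fintype r] [Fintype n] [DecidableEq n]
    [DecidableEq r]
    (M : Matrix r n K) (hM : Function.Bijective M.transpose.mulVecLin) :
    Function.Bijective M.mulVecLin := by
  have hcard : Module.finrank K (r → K) = Module.finrank K (n → K) :=
    (LinearEquiv.ofBijective _ hM).finrank_eq
  have hsurj : Function.Surjective M.mulVecLin := by
    have := surjective_transpose_of_injective M.transpose hM.1
    rwa [Matrix.transpose_transpose] at this
  exact ⟨(LinearMap.injective_iff_surjective_of_finrank_eq_finrank hcard.symm).2 hsurj, hsurj⟩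

end
/-- Let K be a field, N a finite index set and A a square matrix over K indexed by N whose linear map on
column vectors has kernel equal to its range (so A composed with A is zero and the three-term
sequence it defines is exact in the middle). Then there are subsets N₁₂, N₂₁, N₃₁ of N such that the
block of A with rows in N₃₁ and columns in N₂₁, and the block of A with rows outside N₂₁ and columns
in N₁₂, both act bijectively on column vectors. (In the original setting K is the prime field and
middle exactness is supplied by the Cartier isomorphism; here exactness is the hypothesis and K is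
any field.) -/
theorem result
    {K : Type u} [Field K] {N : Type v} [Fintype N] [DecidableEq N]
    (A : Matrix N N K)
    (hA : LinearMap.ker A.mulVecLin = LinearMap.range A.mulVecLin) :
    ∃ N₁₂ N₂₁ N₃₁ : Finset N,
      Function.Bijective (A.submatrix (Subtype.val : ↥N₃₁ → N) (Subtype.val : ↥N₂₁ → N)).mulVecLin ∧
      Function.Bijective
        (A.submatrix (Subtype.val : {x : N // x ∉ N₂₁} → N) (Subtype.val : ↥N₁₂ → N)).mulVecLin := by
  classical
  obtain ⟨c, hli, hsp⟩ := exists_finset_basis (K := K) A.col
  -- cardinalities
  have hrank : Module.finrank K (LinearMap.range A.mulVecLin) = c.card := by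
    rw [Matrix.range_mulVecLin]
    have h1 : Submodule.span K (Set.range A.col) = Submodule.span K (Set.range fun j : c => A.col j) :=
      le_antisymm hsp (Submodule.span_mono (by rintro _ ⟨j, rfl⟩; exact ⟨j.1, rfl⟩))
    rw [h1, finrank_span_eq_card hli, Fintype.card_coe]
  have htot : Module.finrank K (LinearMap.range A.mulVecLin) +
      Module.finrank K (LinearMap.ker A.mulVecLin) = Fintype.card N := by
    rw [LinearMap.finrank_range_add_finrank_ker, Module.finrank_fintype_fun_eq_card]
  rw [hA, hrank] at htot
  -- step 1
  let B : Matrix N c K := A.submatrix id (Subtype.val : c → N)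
  have hBinj : Function.Injective B.mulVecLin := by
    show Function.Injective B.mulVec
    rw [Matrix.mulVec_injective_iff]
    exact hli
  obtain ⟨rr, hrr⟩ := exists_cols_bijective B.transpose (surjective_transpose_of_injective B hBinj)
  have h1 : Function.Bijective (A.submatrix (Subtype.val : ↥rr → N) (Subtype.val : ↥c → N)).mulVecLin := by
    apply bijective_of_transpose
    exact hrr
  -- step 2
  let B' : Matrix {x : N // x ∉ c} N K := A.submatrix (Subtype.val : {x : N // x ∉ c} → N) id
  have hB'surj : Function.Surjective B'.mulVecLin := by
    rw [← LinearMap.range_eq_top]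
    apply Submodule.eq_top_of_finrank_eq
    let π : (N → K) →ₗ[K] ({x : N // x ∉ c} → K) := LinearMap.funLeft K K Subtype.val
    have hfac : B'.mulVecLin = π ∘ₗ A.mulVecLin := by
      apply LinearMap.ext
      intro x
      funext i
      rfl
    have hrange : LinearMap.range B'.mulVecLin = (LinearMap.range A.mulVecLin).map π := by
      rw [hfac, LinearMap.range_comp]
    have hinj : Function.Injective (π.domRestrict (LinearMap.range A.mulVecLin)) := by
      rw [injective_iff_map_eq_zero]
      rintro ⟨y, hy⟩ hpy
      have hy0 : ∀ i : N, i ∉ c → y i = 0 := by
        intro i hi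
        have := congrFun hpy ⟨i, hi⟩
        simpa [π, LinearMap.funLeft] using this
      have hker : A.mulVec y = 0 := by
        have : y ∈ LinearMap.ker A.mulVecLin := hA ▸ hy
        exact this
      -- y = Σ_{j∈c} y_j e_j so A y = Σ y_j col_j
      have hsum : ∑ j : c, y j • A.col j = 0 := by
        rw [← hker]
        ext i
        simp only [Finset.sum_apply, Pi.smul_apply, Matrix.col_apply, smul_eq_mul, Matrix.mulVec,
          dotProduct]
        rw [← Finset.sum_subset (Finset.subset_univ c) (fun j _ hj => by rw [hy0 j hj, mul_zero]),
          ← Finset.sum_coe_sort c]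
        exact Finset.sum_congr rfl fun j _ => mul_comm _ _
      have hz := (Fintype.linearIndependent_iff.1 hli) (fun j => y j) hsum
      apply Subtype.ext
      funext i
      by_cases hi : i ∈ c
      · exact hz ⟨i, hi⟩
      · exact hy0 i hi
    have hfr : Module.finrank K ((LinearMap.range A.mulVecLin).map π) =
        Module.finrank K (LinearMap.range A.mulVecLin) := by
      have := LinearMap.finrank_range_of_inj hinj
      rw [LinearMap.range_domRestrict] at this
      exact this
    rw [hrange, hfr, hrank, Module.finrank_fintype_fun_eq_card, Fintype.card_subtype_compl,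
      Fintype.card_coe]
    omega
  obtain ⟨c', hc'⟩ := exists_cols_bijective B' hB'surj
  exact ⟨c', c, rr, h1, hc'⟩

end Groth.Agent.S16400
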