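import Groth.Statements.S16401
import Mathlib

set_option autoImplicit false
universe u v
open CAlgX

namespace Groth.Agent.S16401

section
variable {R : Type u} [CommRing R] {ι : Type v} [AddCommGroup ι]
  (E : ι → AddSubgroup R) (h0 : E 0 = ⊤)
  (hmul : ∀ a b : ι, ∀ x ∈ E a, ∀ y ∈ E b, x * y ∈ E (a + b))

include h0 hmul in
lemma prod_mem {α : Type*} (s : Finset α) (x : α → R) (w : α → ι) (hx : ∀ i ∈ s, x i ∈ E (w i)) :
    ∏ i ∈ s, x i ∈ E (∑ i ∈ s, w i) := by
  classical
  induction s using Finset.induction_on with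
  | empty => simp [h0]
  | insert a s ha ih =>
    rw [Finset.prod_insert ha, Finset.sum_insert ha]
    exact hmul _ _ _ (hx a (Finset.mem_insert_self a s)) _
      (ih fun i hi => hx i (Finset.mem_insert_of_mem hi))

include h0 hmul in
lemma det_mem {r : ℕ} (wβ wγ : Fin r → ι) (M : Matrix (Fin r) (Fin r) R)
    (hM : ∀ i j, M i j ∈ E (wγ i - wβ j)) : M.det ∈ E (∑ i, wγ i - ∑ j, wβ j) := by
  rw [Matrix.det_apply]
  refine AddSubgroup.sum_mem _ fun σ _ => ?_
  have hterm : ∏ i, M (σ i) i ∈ E (∑ i, wγ i - ∑ j, wβ j) := by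
    have := prod_mem E h0 hmul Finset.univ (fun i => M (σ i) i) (fun i => wγ (σ i) - wβ i)
      (fun i _ => hM (σ i) i)
    rw [Finset.sum_sub_distrib, Equiv.sum_comp σ wγ] at this
    exact this
  rcases Int.units_eq_one_or (Equiv.Perm.sign σ) with h | h
  · rw [h, one_smul]; exact hterm
  · rw [h, Units.neg_smul, one_smul]; exact AddSubgroup.neg_mem _ hterm

end
/-- Let R be a commutative ring and (E_a), a ∈ ι, a family of additive subgroups of R indexed by an
additive commutative group ι, with E_0 = R and E_a · E_b ⊆ E_{a+b}. Let β, γ : Fin r → ι be weight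
vectors with Σ_j β_j = Σ_i γ_i, and let ϑ be an r × r matrix over R with ϑ_{ij} ∈ E_{γ_i − β_j} for
all i, j and with unit determinant. Then a column vector u satisfies u_j ∈ E_{β_j} for every j if
and only if (ϑ u)_i ∈ E_{γ_i} for every i; since ϑ is invertible this says that ϑ maps the box Π_j
E_{β_j} bijectively onto the box Π_i E_{γ_i}. -/
theorem result
    {R : Type u} [CommRing R] {ι : Type v} [AddCommGroup ι]
    (E : ι → AddSubgroup R) (h0 : E 0 = ⊤)
    (hmul : ∀ a b : ι, ∀ x ∈ E a, ∀ y ∈ E b, x * y ∈ E (a + b))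
    {r : ℕ} (wβ wγ : Fin r → ι) (hsum : ∑ j, wβ j = ∑ i, wγ i)
    (ϑ : Matrix (Fin r) (Fin r) R) (hϑ : ∀ i j, ϑ i j ∈ E (wγ i - wβ j))
    (hdet : IsUnit ϑ.det) (u : Fin r → R) :
    (∀ j, u j ∈ E (wβ j)) ↔ ∀ i, ϑ.mulVec u i ∈ E (wγ i) := by
  have hfwd : ∀ (wβ wγ : Fin r → ι) (M : Matrix (Fin r) (Fin r) R),
      (∀ i j, M i j ∈ E (wγ i - wβ j)) → ∀ u : Fin r → R, (∀ j, u j ∈ E (wβ j)) →
      ∀ i, M.mulVec u i ∈ E (wγ i) := by
    intro wβ wγ M hM u hu i
    rw [Matrix.mulVec, dotProduct]
    refine AddSubgroup.sum_mem _ fun j _ => ?_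
    have := hmul _ _ _ (hM i j) _ (hu j)
    rwa [sub_add_cancel] at this
  constructor
  · exact hfwd wβ wγ ϑ hϑ u
  · intro hv
    -- adjugate entries
    have hadj : ∀ i j, ϑ.adjugate i j ∈ E (wβ i - wγ j) := by
      intro i j
      rw [Matrix.adjugate_apply]
      have := det_mem E h0 hmul wβ (Function.update wγ j (wβ i))
        (ϑ.updateRow j (Pi.single i 1)) (by
          intro l m
          by_cases hl : l = j
          · subst hl
            rw [Matrix.updateRow_self, Function.update_self]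
            by_cases hm : m = i
            · subst hm
              rw [Pi.single_eq_same, sub_self, h0]; trivial
            · rw [Pi.single_eq_of_ne hm]; exact AddSubgroup.zero_mem _
          · rw [Matrix.updateRow_ne hl, Function.update_of_ne hl]
            exact hϑ l m)
      have hs : ∑ l, Function.update wγ j (wβ i) l - ∑ m, wβ m = wβ i - wγ j := by
        have h1 : ∑ l, Function.update wγ j (wβ i) l = ∑ l, wγ l - wγ j + wβ i := by
          rw [← Finset.add_sum_erase _ _ (Finset.mem_univ j), Function.update_self,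
            ← Finset.add_sum_erase _ wγ (Finset.mem_univ j)]
          have : ∑ x ∈ Finset.univ.erase j, Function.update wγ j (wβ i) x =
              ∑ x ∈ Finset.univ.erase j, wγ x :=
            Finset.sum_congr rfl fun x hx => Function.update_of_ne (Finset.ne_of_mem_erase hx) _ _
          rw [this]; abel
        rw [h1, hsum]; abel
      rwa [hs] at this
    obtain ⟨d, hd⟩ := hdet
    have hu : u = (↑d⁻¹ : R) • ϑ.adjugate.mulVec (ϑ.mulVec u) := by
      rw [Matrix.mulVec_mulVec, Matrix.adjugate_mul, Matrix.smul_mulVec, Matrix.one_mulVec, ← hd,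
        smul_smul, Units.inv_mul, one_smul]
    intro j
    rw [hu, Pi.smul_apply, smul_eq_mul]
    have h1 := hfwd wγ wβ ϑ.adjugate hadj (ϑ.mulVec u) hv j
    have h2 : (↑d⁻¹ : R) ∈ E 0 := by rw [h0]; trivial
    have := hmul _ _ _ h2 _ h1
    rwa [zero_add] at this

end Groth.Agent.S16401
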