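import Groth.Statements.S16402
import Groth.Agent.Lib.Helper26.Staircase

set_option autoImplicit false
open SymBasis

namespace Groth.Agent.S16402

/-- For n ≥ 2, the polynomial ring ℤ[t_1, …, t_n] is a free module of rank n! over ℤ[c_1, …, c_n] acting
through c_i ↦ e_i(t), the i-th elementary symmetric polynomial in the t_j, and the monomials
t_1^{d_1} ⋯ t_n^{d_n} with 0 ≤ d_i ≤ n − i form a basis: every polynomial is in exactly one way a
sum Σ_d f(p_d) · t^d with p_d ∈ ℤ[c_1, …, c_n], f the substitution c_i ↦ e_i(t). The published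
statement is phrased for the Chow ring of the classifying stack of the diagonal torus as a module
over that of the classifying stack of GL_n, identified with ℤ[t_1, …, t_n] ⊇ ℤ[c_1, …, c_n] in this
way. -/
theorem result (n : ℕ) (hn : 2 ≤ n) :
    Function.Bijective (fun p : (Π i : Fin n, Fin (n - (i : ℕ))) → MvPolynomial (Fin n) ℤ =>
      ∑ d : (Π i : Fin n, Fin (n - (i : ℕ))),
        (MvPolynomial.aeval (fun i : Fin n => MvPolynomial.esymm (Fin n) ℤ ((i : ℕ) + 1))) (p d) *
          ∏ i : Fin n, MvPolynomial.X i ^ ((d i : ℕ))) := by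
  have hF := Groth.Agent.Lib.Helper26.SplitAlg.bijective_staircase ℤ n
  have hG : (fun p : (Π i : Fin n, Fin (n - (i : ℕ))) → MvPolynomial (Fin n) ℤ =>
      ∑ d : (Π i : Fin n, Fin (n - (i : ℕ))),
        (MvPolynomial.aeval (fun i : Fin n => MvPolynomial.esymm (Fin n) ℤ ((i : ℕ) + 1))) (p d) *
          ∏ i : Fin n, MvPolynomial.X i ^ ((d i : ℕ))) =
      (fun p : Groth.Agent.Lib.Helper26.SplitAlg.Stair n → MvPolynomial (Fin n) ℤ =>
        ∑ d, Groth.Agent.Lib.Helper26.SplitAlg.sig ℤ n (p d) *
          Groth.Agent.Lib.Helper26.SplitAlg.mon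
            (fun i => (MvPolynomial.X i : MvPolynomial (Fin n) ℤ)) d) ∘
        (fun p => p ∘ Groth.Agent.Lib.Helper26.SplitAlg.stairPi n) := by
    funext p
    simp only [Function.comp_apply]
    rw [← Equiv.sum_comp (Groth.Agent.Lib.Helper26.SplitAlg.stairPi n)]
    apply Finset.sum_congr rfl
    intro s _
    rw [Groth.Agent.Lib.Helper26.SplitAlg.mon_eq_prod]
    rfl
  rw [hG]
  exact hF.comp (Equiv.arrowCongr (Groth.Agent.Lib.Helper26.SplitAlg.stairPi n).symm
    (Equiv.refl _)).bijective

end Groth.Agent.S16402
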