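import Groth.Statements.S16404
import Groth.Agent.Lib.Helper26.Staircase

set_option autoImplicit false
universe u
open SymBasis

namespace Groth.Agent.S16404

/-- Let R be a commutative ring and a_1, …, a_n ∈ R with n ≥ 2; write I for the ideal of R[t_1, …, t_n]
generated by the elements e_i(t) − a_i (e_i the i-th elementary symmetric polynomial), so that
R[t_1, …, t_n]/I is the base change R ⊗ ℤ[t_1, …, t_n] over ℤ[c_1, …, c_n] (c_i ↦ a_i on one side,
c_i ↦ e_i(t) on the other). For an ideal J of R, a polynomial x lies in I + J·R[t], i.e. its class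
lies in the extension of J to R[t]/I, if and only if x ≡ Σ_d j_d t^d mod I for some family (j_d) of
elements of J indexed by the exponent vectors d with 0 ≤ d_i ≤ n − i. With the companion uniqueness
statement this says the extension of J is the direct sum of the submodules t^d · J. The published
statement takes R positively graded over ℤ[c_1, …, c_n]; this row takes any commutative ring R with
chosen elements a_1, …, a_n. -/
theorem result {R : Type u} [CommRing R] (n : ℕ) (hn : 2 ≤ n)
    (a : Fin n → R) (J : Ideal R) (x : MvPolynomial (Fin n) R) :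
    x ∈ Ideal.span (Set.range fun i : Fin n => MvPolynomial.esymm (Fin n) R ((i : ℕ) + 1) - MvPolynomial.C (a i))
        ⊔ Ideal.map (MvPolynomial.C : R →+* MvPolynomial (Fin n) R) J
    ↔ ∃ j : (Π i : Fin n, Fin (n - (i : ℕ))) → R, (∀ d : (Π i : Fin n, Fin (n - (i : ℕ))), j d ∈ J) ∧
        x - (∑ d : (Π i : Fin n, Fin (n - (i : ℕ))), MvPolynomial.C (j d) * ∏ i : Fin n, MvPolynomial.X i ^ ((d i : ℕ)))
          ∈ Ideal.span (Set.range fun i : Fin n => MvPolynomial.esymm (Fin n) R ((i : ℕ) + 1) - MvPolynomial.C (a i)) := by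
  obtain ⟨b, hb⟩ := Groth.Agent.Lib.Helper26.SplitAlg.exists_basis_quotient a
  have key := Groth.Agent.Lib.Helper26.SplitAlg.mem_sup_iff a b J
  constructor
  · intro hx
    have h := (key x).mp hx
    refine ⟨fun d => b.repr (Ideal.Quotient.mk (Groth.Agent.Lib.Helper26.SplitAlg.esIdeal a) x)
      ((Groth.Agent.Lib.Helper26.SplitAlg.stairPi n).symm d), fun d => h _, ?_⟩
    show _ ∈ Groth.Agent.Lib.Helper26.SplitAlg.esIdeal a
    rw [← Ideal.Quotient.eq, Groth.Agent.Lib.Helper26.SplitAlg.mk_sum_eq a b hb]
    simp only [Equiv.symm_apply_apply]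
    exact (b.sum_repr _).symm
  · rintro ⟨j, hj, hmem⟩
    have hsum : (∑ d : (Π i : Fin n, Fin (n - (i : ℕ))), MvPolynomial.C (j d) *
        ∏ i : Fin n, (MvPolynomial.X i : MvPolynomial (Fin n) R) ^ ((d i : ℕ))) ∈
        Ideal.map (MvPolynomial.C : R →+* MvPolynomial (Fin n) R) J := by
      apply Ideal.sum_mem
      intro d _
      exact Ideal.mul_mem_right _ _ (Ideal.mem_map_of_mem _ (hj d))
    have := Submodule.add_mem_sup hmem hsum
    rwa [sub_add_cancel] at this

end Groth.Agent.S16404
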