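import Groth.Statements.S16405
import Mathlib
-- import your own Groth.Agent.* helpers here

set_option autoImplicit false
universe u v
open InvQ

namespace Groth.Agent.S16405

/-- In weight form. Let b : L → ℤ^r be an injective homomorphism of abelian groups (the case in view: L
the character group of a maximal torus T of a semisimple group over ℂ and b the map dual to the
surjection of the rank-r split torus T' onto T that sends the i-th coordinate cocharacter to the
primitive generator of the i-th ray of the Weyl chamber; only the injectivity of b is used, and ℂ is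
replaced by any commutative ring k). Grade the monoid algebra k[L × ℕ^r] (the coordinate ring of T ×
𝔸^r) by ℤ^r, the monomial (w, n) having weight b(w) + n (the weights of the T'-action u·(t, v) =
(b^∨(u) t, u v)), and grade k[ℕ^r] by ℤ^r/b(L), the monomial n having weight the class of n (the
weights of the action on 𝔸^r of the diagonalizable kernel Z of T' → T, a finite group in the case in
view). For a diagonalizable group acting on an affine scheme the ring of invariants is the
weight-zero part, so the two weight-zero parts are the coordinate rings of the quotients (T ×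
𝔸^r)//T' and 𝔸^r//Z. The statement: the algebra map k[L × ℕ^r] → k[ℕ^r] induced by the projection L
× ℕ^r → ℕ^r (restriction to the slice 1 × 𝔸^r) maps the weight-zero part of k[L × ℕ^r] bijectively
onto the weight-zero part of k[ℕ^r]; hence it induces an isomorphism of k-algebras between them. -/
theorem result
    (k : Type u) [CommRing k] (r : ℕ) (L : Type v) [AddCommGroup L]
    (b : L →+ (Fin r → ℤ)) (hb : Function.Injective b) :
    Set.BijOn
      (AddMonoidAlgebra.mapDomainAlgHom k k (AddMonoidHom.snd L (Fin r → ℕ)))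
      (AddMonoidAlgebra.gradeBy k
        (b.comp (AddMonoidHom.fst L (Fin r → ℕ)) +
          (AddMonoidHom.compLeft (Nat.castAddMonoidHom ℤ) (Fin r)).comp (AddMonoidHom.snd L (Fin r → ℕ))) 0 :
        Set (AddMonoidAlgebra k (L × (Fin r → ℕ))))
      (AddMonoidAlgebra.gradeBy k
        ((QuotientAddGroup.mk' b.range).comp (AddMonoidHom.compLeft (Nat.castAddMonoidHom ℤ) (Fin r))) 0 :
        Set (AddMonoidAlgebra k (Fin r → ℕ))) := by
  classical
  have hF : ∀ x : AddMonoidAlgebra k (L × (Fin r → ℕ)),
      (AddMonoidAlgebra.mapDomainAlgHom k k (AddMonoidHom.snd L (Fin r → ℕ)) x).coeff =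
        Finsupp.mapDomain Prod.snd x.coeff := fun x => rfl
  set c : (Fin r → ℕ) →+ (Fin r → ℤ) := AddMonoidHom.compLeft (Nat.castAddMonoidHom ℤ) (Fin r)
    with hc
  set w1 : L × (Fin r → ℕ) →+ (Fin r → ℤ) :=
    b.comp (AddMonoidHom.fst L (Fin r → ℕ)) + c.comp (AddMonoidHom.snd L (Fin r → ℕ)) with hw1
  set w2 : (Fin r → ℕ) →+ (Fin r → ℤ) ⧸ b.range := (QuotientAddGroup.mk' b.range).comp c with hw2
  have hw1' : ∀ p : L × (Fin r → ℕ), w1 p = b p.1 + c p.2 := fun p => rfl
  have hw2' : ∀ n, w2 n = 0 ↔ c n ∈ b.range := by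
    intro n
    rw [hw2, AddMonoidHom.comp_apply, QuotientAddGroup.mk'_apply, QuotientAddGroup.eq_zero_iff]
  refine ⟨?_, ?_, ?_⟩
  · -- MapsTo
    intro x hx
    rw [SetLike.mem_coe, AddMonoidAlgebra.mem_gradeBy_iff] at hx ⊢
    intro n hn
    rw [hF] at hn
    have := Finsupp.mapDomain_support hn
    rw [Finset.mem_image] at this
    obtain ⟨p, hp, rfl⟩ := this
    have hp0 : w1 p = 0 := hx hp
    rw [hw1'] at hp0
    rw [Set.mem_preimage, Set.mem_singleton_iff, hw2']
    refine ⟨-p.1, ?_⟩
    rw [map_neg]
    exact (eq_neg_of_add_eq_zero_right hp0).symm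
  · -- InjOn
    intro x hx y hy hxy
    rw [SetLike.mem_coe, AddMonoidAlgebra.mem_gradeBy_iff] at hx hy
    have hinj : Set.InjOn (Prod.snd : L × (Fin r → ℕ) → (Fin r → ℕ)) (w1 ⁻¹' {0}) := by
      rintro ⟨l, n⟩ hp ⟨l', n'⟩ hp' (rfl : n = n')
      rw [Set.mem_preimage, Set.mem_singleton_iff, hw1'] at hp hp'
      have : b l = b l' := by
        have h1 := eq_neg_of_add_eq_zero_left hp
        have h2 := eq_neg_of_add_eq_zero_left hp'
        rw [h1, h2]
      rw [hb this]
    have h1 := congrArg AddMonoidAlgebra.coeff hxy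
    rw [hF, hF] at h1
    have h2 := Finsupp.mapDomain_injOn _ hinj (show x.coeff ∈ {w : _ →₀ k | (w.support : Set _) ⊆ w1 ⁻¹' {0}} from hx)
      (show y.coeff ∈ {w : _ →₀ k | (w.support : Set _) ⊆ w1 ⁻¹' {0}} from hy) h1
    exact AddMonoidAlgebra.coeff_injective h2
  · -- SurjOn
    intro y hy
    rw [SetLike.mem_coe, AddMonoidAlgebra.mem_gradeBy_iff] at hy
    let σ : (Fin r → ℕ) → L × (Fin r → ℕ) := fun n =>
      (if h : c n ∈ b.range then -(h.choose) else 0, n)
    refine ⟨AddMonoidAlgebra.ofCoeff (Finsupp.mapDomain σ y.coeff), ?_, ?_⟩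
    · rw [SetLike.mem_coe, AddMonoidAlgebra.mem_gradeBy_iff]
      intro p hp
      have := Finsupp.mapDomain_support hp
      rw [Finset.mem_image] at this
      obtain ⟨n, hn, rfl⟩ := this
      have hn0 : w2 n = 0 := hy hn
      rw [hw2'] at hn0
      rw [Set.mem_preimage, Set.mem_singleton_iff, hw1']
      simp only [σ, dif_pos hn0, map_neg]
      rw [hn0.choose_spec]
      exact neg_add_cancel _
    · apply AddMonoidAlgebra.coeff_injective
      rw [hF]
      change Finsupp.mapDomain Prod.snd (Finsupp.mapDomain σ y.coeff) = y.coeff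
      rw [← Finsupp.mapDomain_comp]
      have : Prod.snd ∘ σ = id := rfl
      rw [this, Finsupp.mapDomain_id]

end Groth.Agent.S16405
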