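import Groth.Statements.S16415
import Mathlib
-- import your own Groth.Agent.* helpers here

set_option autoImplicit false
open Dieud

namespace Groth.Agent.S16415

/-- Let μ be a rational number with 0 < μ ≤ 1, N a natural number and i an integer. The minimum of m +
jμ over all pairs of integers (m, j) with m ≥ max(−i−j, −j, 0) and 2m + i + 2j ≥ N exists and equals
μ · max(⌈(N−i)/2⌉, −i, 0). (The published statement prints the value as max(⌈(N−i)/2⌉, −iμ, 0),
without the factor μ on the first term; the printed argument computes μ · max(⌈(N−i)/2⌉, −i, 0),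
attained at m = 0, and for N = 2, i = 0, μ = 1/2 the pair (m, j) = (0, 1) gives 1/2 < 1, so the
value with the factor μ is stated here.) -/
theorem result (μ : ℚ) (hμ0 : 0 < μ) (hμ1 : μ ≤ 1)
    (N : ℕ) (i : ℤ) :
    IsLeast {x : ℚ | ∃ m j : ℤ, max (max (-i - j) (-j)) 0 ≤ m ∧ (N : ℤ) ≤ 2 * m + i + 2 * j ∧
        x = (m : ℚ) + (j : ℚ) * μ}
      (((max (max ⌈((N : ℚ) - i) / 2⌉ (-i)) 0 : ℤ) : ℚ) * μ) := by
  set c : ℤ := ⌈((N : ℚ) - i) / 2⌉ with hc
  set J : ℤ := max (max c (-i)) 0 with hJ
  have hJc : c ≤ J := le_trans (le_max_left _ _) (le_max_left _ _)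
  have hJi : -i ≤ J := le_trans (le_max_right _ _) (le_max_left _ _)
  have hJ0 : 0 ≤ J := le_max_right _ _
  constructor
  · refine ⟨0, J, ?_, ?_, ?_⟩
    · omega
    · have h1 : ((N : ℚ) - i) / 2 ≤ (c : ℚ) := Int.le_ceil _
      have h2 : (c : ℚ) ≤ (J : ℚ) := by exact_mod_cast hJc
      have h3 : ((N : ℤ) : ℚ) ≤ ((2 * 0 + i + 2 * J : ℤ) : ℚ) := by
        push_cast
        linarith
      exact_mod_cast h3
    · push_cast
      ring
  · rintro x ⟨m, j, hm, hN, rfl⟩
    have hm0 : (0 : ℤ) ≤ m := le_trans (le_max_right _ _) hm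
    have hm1 : -j ≤ m := le_trans (le_trans (le_max_right _ _) (le_max_left _ _)) hm
    have hm2 : -i - j ≤ m := le_trans (le_trans (le_max_left _ _) (le_max_left _ _)) hm
    have hm0' : (0 : ℚ) ≤ (m : ℚ) := by exact_mod_cast hm0
    have hm1' : -(j : ℚ) ≤ (m : ℚ) := by exact_mod_cast hm1
    have hm2' : -(i : ℚ) - (j : ℚ) ≤ (m : ℚ) := by exact_mod_cast hm2
    have hcmj : c ≤ m + j := by
      rw [hc, Int.ceil_le]
      have : ((N : ℤ) : ℚ) ≤ ((2 * m + i + 2 * j : ℤ) : ℚ) := by exact_mod_cast hN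
      push_cast at this ⊢
      linarith
    have hcmj' : (c : ℚ) ≤ (m : ℚ) + (j : ℚ) := by exact_mod_cast hcmj
    -- three cases for J
    have hJcases : J = c ∨ J = -i ∨ J = 0 := by omega
    rcases hJcases with h | h | h
    · rw [h]
      nlinarith
    · rw [h]
      push_cast
      rcases le_total 0 ((i : ℚ) + j) with h' | h'
      · nlinarith
      · nlinarith
    · rw [h]
      push_cast
      rcases le_total 0 (j : ℚ) with h' | h'
      · nlinarith
      · nlinarith

end Groth.Agent.S16415
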