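import Groth.Statements.S16416
import Mathlib
-- import your own Groth.Agent.* helpers here

set_option autoImplicit false
universe u v w
open Dieud

namespace Groth.Agent.S16416

/-- For a prime p and a perfect field k of characteristic p, write W = W(k) for the ring of Witt vectors
and σ for its Frobenius; let M and N be free W-modules of finite rank, each with additive maps F
(σ-semilinear) and V (with V(σ(a)m) = aV(m)) satisfying FV = VF = p, and H = Hom_W(M, N). On H the
operator F acts through h ↦ F ∘ h ∘ V, and V acts partially: V·h is the W-linear map h' with h'(V m)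
= V(h(m)) for all m, when it exists. Let H₁ be the largest W-submodule of H stable under both (it
contains every submodule stable under both). Then H₁ ∩ V·H = V·H₁: if y ∈ H and V·y exists and lies
in H₁, then y ∈ H₁, so that H₁/VH₁ → H/(H ∩ VH) is injective. (The published statement is for the
Cartier modules of two p-divisible formal groups over k, every slope of the first below every slope
of the second; only the structure just listed is used, so connectedness and the slope condition are
not assumed.) -/
theorem result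
    (p : ℕ) [Fact p.Prime] (k : Type u) [Field k] [CharP k p] [PerfectRing k p]
    (M : Type v) [AddCommGroup M] [Module (WittVector p k) M]
    [Module.Free (WittVector p k) M] [Module.Finite (WittVector p k) M]
    (N : Type w) [AddCommGroup N] [Module (WittVector p k) N]
    [Module.Free (WittVector p k) N] [Module.Finite (WittVector p k) N]
    (FM VM : M →+ M) (FN VN : N →+ N)
    (hFM : ∀ (a : WittVector p k) (m : M), FM (a • m) = WittVector.frobenius a • FM m)
    (hVM : ∀ (a : WittVector p k) (m : M), VM (WittVector.frobenius a • m) = a • VM m)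
    (hFVM : ∀ m : M, FM (VM m) = (p : WittVector p k) • m)
    (hVFM : ∀ m : M, VM (FM m) = (p : WittVector p k) • m)
    (hFN : ∀ (a : WittVector p k) (n : N), FN (a • n) = WittVector.frobenius a • FN n)
    (hVN : ∀ (a : WittVector p k) (n : N), VN (WittVector.frobenius a • n) = a • VN n)
    (hFVN : ∀ n : N, FN (VN n) = (p : WittVector p k) • n)
    (hVFN : ∀ n : N, VN (FN n) = (p : WittVector p k) • n)
    (H₁ : Submodule (WittVector p k) (M →ₗ[WittVector p k] N))
    (hF : ∀ h ∈ H₁, ∃ h' ∈ H₁, ∀ m : M, h' m = FN (h (VM m)))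
    (hV : ∀ h ∈ H₁, ∃ h' ∈ H₁, ∀ m : M, h' (VM m) = VN (h m))
    (hmax : ∀ S : Submodule (WittVector p k) (M →ₗ[WittVector p k] N),
      (∀ h ∈ S, ∃ h' ∈ S, ∀ m : M, h' m = FN (h (VM m))) →
      (∀ h ∈ S, ∃ h' ∈ S, ∀ m : M, h' (VM m) = VN (h m)) → S ≤ H₁)
    (y : M →ₗ[WittVector p k] N) (x : M →ₗ[WittVector p k] N) (hx : x ∈ H₁)
    (hxy : ∀ m : M, x (VM m) = VN (y m)) :
    y ∈ H₁ := by
  classical
  set W := WittVector p k with hW
  -- inverse of frobenius
  have hbij : Function.Bijective (WittVector.frobenius : W →+* W) :=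
    WittVector.frobenius_bijective p k
  -- the F-operator on Hom
  have Fop_exists : ∀ h : M →ₗ[W] N, ∃ h' : M →ₗ[W] N, ∀ m : M, h' m = FN (h (VM m)) := by
    intro h
    refine ⟨{ toFun := fun m => FN (h (VM m))
              map_add' := fun a b => by rw [map_add, map_add, map_add]
              map_smul' := fun a m => by
                obtain ⟨b, rfl⟩ := hbij.2 a
                rw [hVM, map_smul, hFN, RingHom.id_apply] }, fun m => rfl⟩
  choose Fop hFop using Fop_exists
  have Fop_add : ∀ h₁ h₂, Fop (h₁ + h₂) = Fop h₁ + Fop h₂ := by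
    intro h₁ h₂
    ext m
    rw [LinearMap.add_apply, hFop, hFop, hFop, LinearMap.add_apply, map_add]
  have Fop_smul : ∀ (a : W) h, Fop (a • h) = WittVector.frobenius a • Fop h := by
    intro a h
    ext m
    rw [LinearMap.smul_apply, hFop, hFop, LinearMap.smul_apply, hFN]
  -- the submodule S
  let S : Submodule W (M →ₗ[W] N) := H₁ ⊔ Submodule.span W (Set.range fun n : ℕ => Fop^[n] y)
  have hyS : y ∈ S := Submodule.mem_sup_right (Submodule.subset_span ⟨0, rfl⟩)
  have hFspan : ∀ b ∈ Submodule.span W (Set.range fun n : ℕ => Fop^[n] y),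
      Fop b ∈ Submodule.span W (Set.range fun n : ℕ => Fop^[n] y) := by
    intro b hb
    induction hb using Submodule.span_induction with
    | mem z hz =>
      obtain ⟨n, rfl⟩ := hz
      refine Submodule.subset_span ⟨n + 1, ?_⟩
      show Fop^[n + 1] y = Fop (Fop^[n] y)
      rw [Function.iterate_succ_apply']
    | zero =>
      have : Fop 0 = 0 := by
        ext m
        rw [hFop]; simp
      rw [this]; exact Submodule.zero_mem _
    | add u v _ _ hu hv => rw [Fop_add]; exact Submodule.add_mem _ hu hv
    | smul c u _ hu => rw [Fop_smul]; exact Submodule.smul_mem _ _ hu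
  have hVspan : ∀ b ∈ Submodule.span W (Set.range fun n : ℕ => Fop^[n] y),
      ∃ b' ∈ S, ∀ m : M, b' (VM m) = VN (b m) := by
    intro b hb
    induction hb using Submodule.span_induction with
    | mem z hz =>
      obtain ⟨n, rfl⟩ := hz
      cases n with
      | zero => exact ⟨x, Submodule.mem_sup_left hx, hxy⟩
      | succ n =>
        refine ⟨(p : W) • Fop^[n] y, Submodule.smul_mem _ _
          (Submodule.mem_sup_right (Submodule.subset_span ⟨n, rfl⟩)), fun m => ?_⟩
        show ((p : W) • Fop^[n] y) (VM m) = VN ((Fop^[n + 1] y) m)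
        rw [Function.iterate_succ_apply', hFop, hVFN, LinearMap.smul_apply]
    | zero => exact ⟨0, Submodule.zero_mem _, fun m => by simp⟩
    | add u v _ _ hu hv =>
      obtain ⟨u', hu', huu'⟩ := hu
      obtain ⟨v', hv', hvv'⟩ := hv
      exact ⟨u' + v', Submodule.add_mem _ hu' hv', fun m => by
        rw [LinearMap.add_apply, huu', hvv', LinearMap.add_apply, map_add]⟩
    | smul c u _ hu =>
      obtain ⟨u', hu', huu'⟩ := hu
      obtain ⟨c', rfl⟩ := hbij.2 c
      exact ⟨c' • u', Submodule.smul_mem _ _ hu', fun m => by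
        rw [LinearMap.smul_apply, huu', LinearMap.smul_apply, hVN]⟩
  have hSF : ∀ h ∈ S, ∃ h' ∈ S, ∀ m : M, h' m = FN (h (VM m)) := by
    intro h hh
    refine ⟨Fop h, ?_, hFop h⟩
    obtain ⟨a, ha, b, hb, rfl⟩ := Submodule.mem_sup.mp hh
    rw [Fop_add]
    refine Submodule.add_mem _ (Submodule.mem_sup_left ?_) (Submodule.mem_sup_right (hFspan b hb))
    obtain ⟨a', ha', haa'⟩ := hF a ha
    have : Fop a = a' := by
      ext m
      rw [hFop, haa']
    rw [this]; exact ha'
  have hSV : ∀ h ∈ S, ∃ h' ∈ S, ∀ m : M, h' (VM m) = VN (h m) := by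
    intro h hh
    obtain ⟨a, ha, b, hb, rfl⟩ := Submodule.mem_sup.mp hh
    obtain ⟨a', ha', haa'⟩ := hV a ha
    obtain ⟨b', hb'S, hbb'⟩ := hVspan b hb
    exact ⟨a' + b', Submodule.add_mem _ (Submodule.mem_sup_left ha') hb'S, fun m => by
      rw [LinearMap.add_apply, haa', hbb', LinearMap.add_apply, map_add]⟩
  exact hmax S hSF hSV hyS

end Groth.Agent.S16416
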