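import Groth.Statements.S16418
import Mathlib

set_option autoImplicit false
universe u v
open Dieud

namespace Groth.Agent.S16418

/-- Step of the proof: for a prime p and a perfect field k of characteristic p, write W = W(k) and σ for
its Frobenius; let M be a W-module with additive maps F (σ-semilinear) and V (with V(σ(a)m) = aV(m))
such that FV = VF = p, V is injective, ⋂_n V^n M = 0 and M/VM is finitely generated over W. Put M₁ =
{x ∈ M : for every n there is m with V^m x ∈ F^n M} and M₂ = {x ∈ M : F^n x = 0 for some n}. Then M₂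
is killed by a single power of F, and F is injective on M₁. (The published text makes these
assertions inside a proof, for the V-reduced Cartier module of a connected smooth formal group of
finite dimension over k; only the listed structure is used, and V-adic completeness is not needed.) -/
theorem result
    (p : ℕ) [Fact p.Prime] (k : Type u) [Field k] [CharP k p] [PerfectRing k p]
    (M : Type v) [AddCommGroup M] [Module (WittVector p k) M]
    (F V : M →+ M)
    (hF : ∀ (a : WittVector p k) (m : M), F (a • m) = WittVector.frobenius a • F m)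
    (hV : ∀ (a : WittVector p k) (m : M), V (WittVector.frobenius a • m) = a • V m)
    (hFV : ∀ m : M, F (V m) = (p : WittVector p k) • m)
    (hVF : ∀ m : M, V (F m) = (p : WittVector p k) • m)
    (hVinj : Function.Injective V)
    (hsep : ∀ x : M, (∀ n : ℕ, ∃ y : M, x = (⇑V)^[n] y) → x = 0)
    (hfin : Module.Finite (WittVector p k) (M ⧸ Submodule.span (WittVector p k) (Set.range V))) :
    (∃ c : ℕ, ∀ x : M, (∃ n : ℕ, (⇑F)^[n] x = 0) → (⇑F)^[c] x = 0) ∧
    (∀ x : M, (∀ n : ℕ, ∃ (m : ℕ) (y : M), (⇑V)^[m] x = (⇑F)^[n] y) → F x = 0 → x = 0) := by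
  classical
  have hcomm : Function.Commute (⇑F) (⇑V) := fun x => by rw [hFV, hVF]
  have hF0 : ∀ n, (⇑F)^[n] 0 = 0 := by
    intro n
    induction n with
    | zero => rfl
    | succ n ih => rw [Function.iterate_succ_apply', ih, map_zero]
  have hV0 : ∀ n, (⇑V)^[n] 0 = 0 := by
    intro n
    induction n with
    | zero => rfl
    | succ n ih => rw [Function.iterate_succ_apply', ih, map_zero]
  have hFsub : ∀ n a b, (⇑F)^[n] (a - b) = (⇑F)^[n] a - (⇑F)^[n] b := by
    intro n
    induction n with
    | zero => intro a b; rfl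
    | succ n ih =>
      intro a b
      simp only [Function.iterate_succ_apply', ih, map_sub]
  have hFadd : ∀ n a b, (⇑F)^[n] (a + b) = (⇑F)^[n] a + (⇑F)^[n] b := by
    intro n
    induction n with
    | zero => intro a b; rfl
    | succ n ih =>
      intro a b
      simp only [Function.iterate_succ_apply', ih, map_add]
  have hFsmul : ∀ n (a : WittVector p k) x, ∃ a' : WittVector p k,
      (⇑F)^[n] (a • x) = a' • (⇑F)^[n] x := by
    intro n
    induction n with
    | zero => intro a x; exact ⟨a, rfl⟩
    | succ n ih =>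
      intro a x
      obtain ⟨a', h⟩ := ih a x
      exact ⟨WittVector.frobenius a', by simp only [Function.iterate_succ_apply', h, hF]⟩
  let K : ℕ → Submodule (WittVector p k) M := fun n =>
    { carrier := {x | (⇑F)^[n] x = 0}
      zero_mem' := hF0 n
      add_mem' := by
        intro a b ha hb
        change _ = 0
        rw [hFadd, ha, hb, add_zero]
      smul_mem' := by
        intro a x hx
        obtain ⟨a', h⟩ := hFsmul n a x
        change _ = 0
        rw [h, hx, smul_zero] }
  have hKmem : ∀ n x, x ∈ K n ↔ (⇑F)^[n] x = 0 := fun n x => Iff.rfl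
  have hKmono : Monotone K := by
    intro m n hmn x hx
    rw [hKmem] at hx ⊢
    obtain ⟨d, rfl⟩ := Nat.exists_eq_add_of_le hmn
    rw [add_comm, Function.iterate_add_apply, hx, hF0]
  have hnoeth : IsNoetherian (WittVector p k)
      (M ⧸ Submodule.span (WittVector p k) (Set.range V)) :=
    isNoetherian_of_isNoetherianRing_of_finite (WittVector p k) _
  let Kbar : ℕ →o Submodule (WittVector p k)
      (M ⧸ Submodule.span (WittVector p k) (Set.range V)) :=
    ⟨fun n => (K n).map (Submodule.span (WittVector p k) (Set.range V)).mkQ,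
      fun m n hmn => Submodule.map_mono (hKmono hmn)⟩
  obtain ⟨c, hc⟩ := monotone_stabilizes_iff_noetherian.mpr hnoeth Kbar
  have hspan : ∀ z ∈ Submodule.span (WittVector p k) (Set.range V), ∃ y, V y = z := by
    intro z hz
    induction hz using Submodule.span_induction with
    | mem z hz => exact hz
    | zero => exact ⟨0, map_zero V⟩
    | add a b _ _ ha hb =>
      obtain ⟨a', rfl⟩ := ha
      obtain ⟨b', rfl⟩ := hb
      exact ⟨a' + b', map_add V _ _⟩
    | smul a z _ hz =>
      obtain ⟨z', rfl⟩ := hz
      exact ⟨WittVector.frobenius a • z', hV a z'⟩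
  have key : ∀ n, c ≤ n → ∀ x, (⇑F)^[n] x = 0 → (⇑F)^[c] x = 0 := by
    intro n hcn x hx
    apply hsep
    have step : ∀ y, (⇑F)^[n] y = 0 →
        ∃ y', (⇑F)^[n] y' = 0 ∧ (⇑F)^[c] y = V ((⇑F)^[c] y') := by
      intro y hy
      have h1 : (Submodule.span (WittVector p k) (Set.range V)).mkQ y ∈ Kbar n :=
        ⟨y, hy, rfl⟩
      rw [← hc n hcn] at h1
      obtain ⟨x', hx', hxy⟩ := h1
      have h2 : y - x' ∈ Submodule.span (WittVector p k) (Set.range V) := by
        rw [← Submodule.Quotient.mk_eq_zero, Submodule.Quotient.mk_sub, sub_eq_zero]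
        exact hxy.symm
      obtain ⟨y', hy'⟩ := hspan _ h2
      have hx'c : (⇑F)^[c] x' = 0 := hx'
      have hx'n : (⇑F)^[n] x' = 0 := hKmono hcn hx'
      refine ⟨y', ?_, ?_⟩
      · apply hVinj
        rw [map_zero, ← (hcomm.iterate_left n) y', hy', hFsub, hy, hx'n, sub_zero]
      · have h3 : y = x' + V y' := by
          rw [hy']
          abel
        rw [h3, hFadd, hx'c, zero_add, (hcomm.iterate_left c) y']
    intro j
    have hj : ∃ y, (⇑F)^[n] y = 0 ∧ (⇑F)^[c] x = (⇑V)^[j] ((⇑F)^[c] y) := by
      induction j with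
      | zero => exact ⟨x, hx, rfl⟩
      | succ j ih =>
        obtain ⟨y, hy, e⟩ := ih
        obtain ⟨y', hy', e'⟩ := step y hy
        exact ⟨y', hy', by rw [e, e', ← Function.iterate_succ_apply]⟩
    obtain ⟨y, _, e⟩ := hj
    exact ⟨_, e⟩
  refine ⟨⟨c, ?_⟩, ?_⟩
  · rintro x ⟨n, hn⟩
    exact key (max n c) (le_max_right _ _) x (hKmono (le_max_left n c) hn)
  · intro x hx hFx
    obtain ⟨m, y, e⟩ := hx c
    have h1 : (⇑F)^[c + 1] y = 0 := by
      rw [Function.iterate_succ_apply', ← e, (hcomm.iterate_right m) x, hFx, hV0]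
    have h2 : (⇑F)^[c] y = 0 := key (c + 1) (Nat.le_succ c) y h1
    rw [h2] at e
    exact (hVinj.iterate m) (by rw [e, hV0])

end Groth.Agent.S16418
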