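import Groth.Statements.S16420
import Mathlib
-- import your own Groth.Agent.* helpers here

set_option autoImplicit false
universe u v
open CAlg

namespace Groth.Agent.S16420
open TensorProduct

section gen
variable {R : Type u} [CommRing R] {M : Type v} [AddCommGroup M] [Module R M]

/-- a projection onto a submodule with projective quotient -/
lemma exists_proj (p : Submodule R M) [Module.Projective R (M ⧸ p)] :
    ∃ π : M →ₗ[R] M, (∀ x, π x ∈ p) ∧ (∀ x ∈ p, π x = x) := by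
  obtain ⟨s, hs⟩ := Module.projective_lifting_property p.mkQ LinearMap.id (Submodule.mkQ_surjective p)
  refine ⟨LinearMap.id - s ∘ₗ p.mkQ, ?_, ?_⟩
  · intro x
    rw [← Submodule.Quotient.mk_eq_zero]
    have := congrArg (fun φ => φ (p.mkQ x)) hs
    simp only [LinearMap.comp_apply, LinearMap.id_apply] at this
    simp only [LinearMap.sub_apply, LinearMap.id_apply, LinearMap.comp_apply,
      Submodule.Quotient.mk_sub]
    rw [← Submodule.mkQ_apply, ← Submodule.mkQ_apply, this, sub_self]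
  · intro x hx
    simp only [LinearMap.sub_apply, LinearMap.id_apply, LinearMap.comp_apply, Submodule.mkQ_apply]
    rw [(Submodule.Quotient.mk_eq_zero p).mpr hx, map_zero, sub_zero]

lemma inf_smul_top_le (p : Submodule R M) [Module.Projective R (M ⧸ p)] (I : Ideal R) :
    p ⊓ I • (⊤ : Submodule R M) ≤ I • p := by
  obtain ⟨π, hπ1, hπ2⟩ := exists_proj p
  intro x hx
  have h1 : π x ∈ Submodule.map π (I • (⊤ : Submodule R M)) := Submodule.mem_map_of_mem hx.2
  rw [Submodule.map_smul''] at h1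
  rw [hπ2 x hx.1] at h1
  refine Submodule.smul_mono le_rfl ?_ h1
  rintro _ ⟨y, -, rfl⟩
  exact hπ1 y

/-- elements killed by `1 ⊗ -` -/
lemma one_tmul_eq_zero (I : Ideal R) (z : M) (hz : z ∈ I • (⊤ : Submodule R M)) :
    (1 : R ⧸ I) ⊗ₜ[R] z = 0 := by
  have := quotTensorEquivQuotSMul_mk_one_tmul (M := M) I z
  rw [(Submodule.Quotient.mk_eq_zero _).mpr hz] at this
  exact (quotTensorEquivQuotSMul M I).map_eq_zero_iff.mp this

lemma le_sup_of_baseChange_le (I : Ideal R) (F F' : Submodule R M)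
    (h : Submodule.baseChange (R ⧸ I) F ≤ Submodule.baseChange (R ⧸ I) F') :
    F ≤ F' ⊔ I • (⊤ : Submodule R M) := by
  have key : ∀ w ∈ Submodule.baseChange (R ⧸ I) F',
      quotTensorEquivQuotSMul M I w ∈ Submodule.map (Submodule.mkQ (I • (⊤ : Submodule R M))) F' := by
    intro w hw
    rw [Submodule.baseChange_eq_span] at hw
    induction hw using Submodule.span_induction with
    | mem w hw =>
      obtain ⟨x, hx, rfl⟩ := hw
      rw [TensorProduct.mk_apply, quotTensorEquivQuotSMul_mk_one_tmul]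
      exact ⟨x, hx, rfl⟩
    | zero => rw [map_zero]; exact Submodule.zero_mem _
    | add a b _ _ ha hb => rw [map_add]; exact Submodule.add_mem _ ha hb
    | smul r a _ ha =>
      obtain ⟨r, rfl⟩ := Ideal.Quotient.mk_surjective r
      have : (Ideal.Quotient.mk I r) • a = r • a := by
        rw [← Ideal.Quotient.algebraMap_eq, algebraMap_smul]
      rw [this, map_smul]
      exact Submodule.smul_mem _ _ ha
  intro x hx
  have h1 : (1 : R ⧸ I) ⊗ₜ[R] x ∈ Submodule.baseChange (R ⧸ I) F' :=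
    h (Submodule.tmul_mem_baseChange_of_mem _ hx)
  have h2 := key _ h1
  rw [quotTensorEquivQuotSMul_mk_one_tmul] at h2
  obtain ⟨x', hx', hxx'⟩ := h2
  rw [Submodule.mkQ_apply, Submodule.Quotient.eq] at hxx'
  rw [Submodule.mem_sup]
  refine ⟨x', hx', x - x', ?_, by abel⟩
  have := Submodule.neg_mem _ hxx'
  rwa [neg_sub] at this

end gen


section main
variable {R : Type u} [CommRing R] {H₁ H H₂ : Type v}
  [AddCommGroup H₁] [Module R H₁] [AddCommGroup H] [Module R H] [AddCommGroup H₂] [Module R H₂]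
  (f : H₁ →ₗ[R] H) (g : H →ₗ[R] H₂)

/-- the automorphism `x ↦ x + f(u(g x))` -/
def phi (u : H₂ →ₗ[R] H₁) : H →ₗ[R] H := LinearMap.id + f ∘ₗ u ∘ₗ g

lemma phi_apply (u : H₂ →ₗ[R] H₁) (x : H) : phi f g u x = x + f (u (g x)) := rfl

variable (hfg : Function.Exact f g)
include hfg

lemma g_f (z : H₁) : g (f z) = 0 := hfg.apply_apply_eq_zero z

lemma g_phi (u : H₂ →ₗ[R] H₁) (x : H) : g (phi f g u x) = g x := by
  rw [phi_apply, map_add, g_f f g hfg, add_zero]

lemma phi_f (u : H₂ →ₗ[R] H₁) (z : H₁) : phi f g u (f z) = f z := by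
  rw [phi_apply, g_f f g hfg, map_zero, map_zero, add_zero]

lemma phi_neg_phi (u : H₂ →ₗ[R] H₁) (x : H) : phi f g (-u) (phi f g u x) = x := by
  rw [phi_apply, g_phi f g hfg, phi_apply, LinearMap.neg_apply, map_neg]
  abel

lemma phi_phi_neg (u : H₂ →ₗ[R] H₁) (x : H) : phi f g u (phi f g (-u) x) = x := by
  have := phi_neg_phi f g hfg (-u) x
  rwa [neg_neg] at this

/-- `phi u` as a linear equivalence -/
def phiEquiv (u : H₂ →ₗ[R] H₁) : H ≃ₗ[R] H :=
  LinearEquiv.ofLinearMap (phi f g u) (phi f g (-u))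
    (LinearMap.ext (phi_phi_neg f g hfg u)) (LinearMap.ext (phi_neg_phi f g hfg u))

lemma isCompl_map_phi (u : H₂ →ₗ[R] H₁) (F C : Submodule R H) (h : IsCompl F C) :
    IsCompl (Submodule.map (phi f g u) F) (Submodule.map (phi f g u) C) := by
  have := (Submodule.orderIsoMapComap (phiEquiv f g hfg u)).isCompl_iff.mp h
  exact this

lemma map_phi_inf_range (u : H₂ →ₗ[R] H₁) (F : Submodule R H) (F₁ : Submodule R H₁)
    (h : F ⊓ LinearMap.range f = Submodule.map f F₁) :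
    Submodule.map (phi f g u) F ⊓ LinearMap.range f = Submodule.map f F₁ := by
  apply le_antisymm
  · rintro _ ⟨⟨x, hx, rfl⟩, ⟨z, hz⟩⟩
    have hgx : g x = 0 := by
      rw [← g_phi f g hfg u x, ← hz, g_f f g hfg]
    have hx2 : phi f g u x = x := by rw [phi_apply, hgx, map_zero, map_zero, add_zero]
    rw [hx2, ← h]
    exact ⟨hx, (hfg x).mp hgx⟩
  · rw [← h]
    rintro x ⟨hx, ⟨z, rfl⟩⟩
    exact ⟨⟨f z, hx, phi_f f g hfg u z⟩, ⟨z, rfl⟩⟩

lemma map_g_map_phi (u : H₂ →ₗ[R] H₁) (F : Submodule R H) :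
    Submodule.map g (Submodule.map (phi f g u) F) = Submodule.map g F := by
  rw [← Submodule.map_comp]
  congr 1
  ext x
  exact g_phi f g hfg u x

omit hfg in
lemma baseChange_map_phi (𝔫 : Ideal R) (u : H₂ →ₗ[R] H₁)
    (hu : ∀ y, u y ∈ 𝔫 • (⊤ : Submodule R H₁)) (F : Submodule R H) :
    Submodule.baseChange (R ⧸ 𝔫) (Submodule.map (phi f g u) F) = Submodule.baseChange (R ⧸ 𝔫) F := by
  rw [Submodule.baseChange_eq_span, Submodule.baseChange_eq_span]
  congr 1
  ext w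
  have hz : ∀ x, (1 : R ⧸ 𝔫) ⊗ₜ[R] (phi f g u x) = (1 : R ⧸ 𝔫) ⊗ₜ[R] x := by
    intro x
    rw [phi_apply, TensorProduct.tmul_add]
    have : f (u (g x)) ∈ 𝔫 • (⊤ : Submodule R H) := by
      have h1 : f (u (g x)) ∈ Submodule.map f (𝔫 • (⊤ : Submodule R H₁)) :=
        Submodule.mem_map_of_mem (hu (g x))
      rw [Submodule.map_smul''] at h1
      exact Submodule.smul_mono le_rfl le_top h1
    rw [one_tmul_eq_zero 𝔫 _ this, add_zero]
  constructor
  · rintro ⟨_, ⟨x, hx, rfl⟩, rfl⟩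
    exact ⟨x, hx, by rw [TensorProduct.mk_apply, TensorProduct.mk_apply, hz]⟩
  · rintro ⟨x, hx, rfl⟩
    exact ⟨phi f g u x, ⟨x, hx, rfl⟩, by rw [TensorProduct.mk_apply, TensorProduct.mk_apply, hz]⟩


omit hfg in
lemma map_phi_le (u : H₂ →ₗ[R] H₁) (F : Submodule R H) (F₁ : Submodule R H₁) (F₂ : Submodule R H₂)
    (h1 : F ⊓ LinearMap.range f = Submodule.map f F₁) (h2 : Submodule.map g F = F₂)
    (hu : ∀ y ∈ F₂, u y ∈ F₁) : Submodule.map (phi f g u) F ≤ F := by
  rintro _ ⟨x, hx, rfl⟩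
  rw [phi_apply]
  refine Submodule.add_mem _ hx ?_
  have : f (u (g x)) ∈ Submodule.map f F₁ :=
    Submodule.mem_map_of_mem (hu _ (h2 ▸ Submodule.mem_map_of_mem hx))
  rw [← h1] at this
  exact this.1

lemma map_phi_eq_iff (hf : Function.Injective f) (𝔫 : Ideal R) (u : H₂ →ₗ[R] H₁)
    (hu : ∀ y, u y ∈ 𝔫 • (⊤ : Submodule R H₁))
    (F : Submodule R H) (F₁ : Submodule R H₁) (F₂ : Submodule R H₂)
    [Module.Projective R (H₁ ⧸ F₁)]
    (h1 : F ⊓ LinearMap.range f = Submodule.map f F₁) (h2 : Submodule.map g F = F₂) :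
    Submodule.map (phi f g u) F = F ↔ ∀ y ∈ F₂, u y ∈ 𝔫 • F₁ := by
  constructor
  · intro h y hy
    rw [← h2] at hy
    obtain ⟨x, hx, rfl⟩ := hy
    have h3 : phi f g u x ∈ F := by
      rw [← h]; exact Submodule.mem_map_of_mem hx
    have h4 : f (u (g x)) ∈ F := by
      have : f (u (g x)) = phi f g u x - x := by rw [phi_apply]; abel
      rw [this]
      exact Submodule.sub_mem _ h3 hx
    have h5 : f (u (g x)) ∈ Submodule.map f F₁ := by
      rw [← h1]; exact ⟨h4, ⟨_, rfl⟩⟩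
    obtain ⟨z, hz, hz'⟩ := h5
    have h6 : u (g x) ∈ F₁ := by rw [← hf hz']; exact hz
    exact inf_smul_top_le F₁ 𝔫 ⟨h6, hu _⟩
  · intro h
    have hle : ∀ y ∈ F₂, u y ∈ F₁ := fun y hy => Submodule.smul_le_right (h y hy)
    have hle' : ∀ y ∈ F₂, (-u) y ∈ F₁ := fun y hy => by
      rw [LinearMap.neg_apply]; exact Submodule.neg_mem _ (hle y hy)
    apply le_antisymm (map_phi_le f g u F F₁ F₂ h1 h2 hle)
    intro x hx
    refine ⟨phi f g (-u) x, ?_, phi_phi_neg f g hfg u x⟩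
    exact map_phi_le f g (-u) F F₁ F₂ h1 h2 hle' (Submodule.mem_map_of_mem hx)


omit hfg in
lemma forall_mem_of_basis {ι : Type*} {N : Type*} [AddCommGroup N] [Module R N]
    (b : Module.Basis ι R H₂) (L : H₂ →ₗ[R] N) (P : Submodule R N)
    (h : ∀ j, L (b j) ∈ P) : ∀ y, L y ∈ P := by
  have : Submodule.comap L P = ⊤ := by
    rw [eq_top_iff, ← b.span_eq, Submodule.span_le]
    rintro _ ⟨j, rfl⟩
    exact h j
  intro y
  have hy : y ∈ Submodule.comap L P := this ▸ Submodule.mem_top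
  exact hy

lemma exists_u (hg : Function.Surjective g) [Module.Free R H₂]
    (𝔫 : Ideal R) (F F' : Submodule R H) (F₁ : Submodule R H₁) (F₂ : Submodule R H₂)
    [Module.Projective R (H₂ ⧸ F₂)]
    (h1 : F ⊓ LinearMap.range f = Submodule.map f F₁)
    (h1' : F' ⊓ LinearMap.range f = Submodule.map f F₁)
    (h2 : Submodule.map g F = F₂) (h2' : Submodule.map g F' = F₂)
    (hb : Submodule.baseChange (R ⧸ 𝔫) F = Submodule.baseChange (R ⧸ 𝔫) F') :
    ∃ u : H₂ →ₗ[R] H₁, (∀ y, u y ∈ 𝔫 • (⊤ : Submodule R H₁)) ∧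
      F' = Submodule.map (phi f g u) F := by
  classical
  have hker : LinearMap.ker g = LinearMap.range f := LinearMap.exact_iff.mp hfg
  have hproj : Module.Projective R (H ⧸ LinearMap.range f) := by
    rw [← hker]
    exact Module.Projective.of_equiv (g.quotKerEquivOfSurjective hg).symm
  have hrange : LinearMap.range f ⊓ 𝔫 • (⊤ : Submodule R H) ≤
      Submodule.map f (𝔫 • (⊤ : Submodule R H₁)) := by
    refine (inf_smul_top_le (LinearMap.range f) 𝔫).trans ?_
    rw [Submodule.map_smul'', Submodule.map_top]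
  -- step (3c)
  have step : ∀ x ∈ F, ∃ h ∈ 𝔫 • (⊤ : Submodule R H₁), x + f h ∈ F' := by
    intro x hx
    have hx' := le_sup_of_baseChange_le 𝔫 F F' hb.le hx
    obtain ⟨x'', hx'', z, hz, rfl⟩ := Submodule.mem_sup.mp hx'
    have hgz1 : g z ∈ F₂ := by
      have e : g z = g (x'' + z) - g x'' := by rw [map_add]; abel
      rw [e]
      refine Submodule.sub_mem _ ?_ ?_
      · rw [← h2]; exact Submodule.mem_map_of_mem hx
      · rw [← h2']; exact Submodule.mem_map_of_mem hx''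
    have hgz2 : g z ∈ 𝔫 • (⊤ : Submodule R H₂) := by
      have : g z ∈ Submodule.map g (𝔫 • (⊤ : Submodule R H)) := Submodule.mem_map_of_mem hz
      rw [Submodule.map_smul''] at this
      exact Submodule.smul_mono le_rfl le_top this
    have hgz3 : g z ∈ Submodule.map g (𝔫 • F') := by
      rw [Submodule.map_smul'', h2']
      exact inf_smul_top_le F₂ 𝔫 ⟨hgz1, hgz2⟩
    obtain ⟨z', hz', hgz'⟩ := hgz3
    have hd1 : z' - z ∈ LinearMap.range f := by
      rw [← hker, LinearMap.mem_ker, map_sub, hgz', sub_self]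
    have hd2 : z' - z ∈ 𝔫 • (⊤ : Submodule R H) :=
      Submodule.sub_mem _ (Submodule.smul_mono le_rfl le_top hz') hz
    obtain ⟨h, hh, hfh⟩ := hrange ⟨hd1, hd2⟩
    refine ⟨h, hh, ?_⟩
    rw [hfh]
    have : x'' + z + (z' - z) = x'' + z' := by abel
    rw [this]
    exact Submodule.add_mem _ hx'' (Submodule.smul_le_right hz')
  -- step (3d)
  obtain ⟨π₂, hπ1, hπ2⟩ := exists_proj F₂
  let b := Module.Free.chooseBasis R H₂
  have hxs : ∀ j, ∃ x ∈ F, g x = π₂ (b j) := by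
    intro j
    have : π₂ (b j) ∈ Submodule.map g F := by rw [h2]; exact hπ1 _
    obtain ⟨x, hx, hgx⟩ := this
    exact ⟨x, hx, hgx⟩
  choose xs hxsF hxsg using hxs
  have hhs : ∀ j, ∃ h ∈ 𝔫 • (⊤ : Submodule R H₁), xs j + f h ∈ F' := fun j => step _ (hxsF j)
  choose hs hhsn hhsF' using hhs
  let ξ : H₂ →ₗ[R] H := b.constr R xs
  let u : H₂ →ₗ[R] H₁ := b.constr R hs
  have hξb : ∀ j, ξ (b j) = xs j := fun j => b.constr_basis R xs j
  have hub : ∀ j, u (b j) = hs j := fun j => b.constr_basis R hs j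
  have hξF : ∀ y, ξ y ∈ F := forall_mem_of_basis b ξ F (fun j => by rw [hξb]; exact hxsF j)
  have hun : ∀ y, u y ∈ 𝔫 • (⊤ : Submodule R H₁) :=
    forall_mem_of_basis b u _ (fun j => by rw [hub]; exact hhsn j)
  have hgξ : ∀ y, g (ξ y) = π₂ y := by
    have : g ∘ₗ ξ = π₂ := b.ext (fun j => by rw [LinearMap.comp_apply, hξb, hxsg])
    intro y
    rw [← this, LinearMap.comp_apply]
  have hξu : ∀ y, ξ y + f (u y) ∈ F' := by
    have := forall_mem_of_basis b (ξ + f ∘ₗ u) F' (fun j => by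
      rw [LinearMap.add_apply, LinearMap.comp_apply, hξb, hub]; exact hhsF' j)
    intro y
    exact this y
  -- step (3e)
  have hge : Submodule.map (phi f g u) F ≤ F' := by
    rintro _ ⟨x, hx, rfl⟩
    have e : phi f g u x = (x - ξ (g x)) + (ξ (g x) + f (u (g x))) := by rw [phi_apply]; abel
    rw [e]
    refine Submodule.add_mem _ ?_ (hξu _)
    have hgx : g x ∈ F₂ := by rw [← h2]; exact Submodule.mem_map_of_mem hx
    have h3 : x - ξ (g x) ∈ F ⊓ LinearMap.range f := by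
      refine Submodule.mem_inf.mpr ⟨Submodule.sub_mem _ hx (hξF _), ?_⟩
      rw [← hker, LinearMap.mem_ker, map_sub, hgξ, hπ2 _ hgx, sub_self]
    rw [h1, ← h1'] at h3
    exact h3.1
  refine ⟨u, hun, le_antisymm ?_ hge⟩
  intro x' hx'
  have : g x' ∈ Submodule.map g F := by rw [h2, ← h2']; exact Submodule.mem_map_of_mem hx'
  obtain ⟨x, hx, hgx⟩ := this
  have h3 : phi f g u x ∈ F' := hge (Submodule.mem_map_of_mem hx)
  have h4 : x' - phi f g u x ∈ F' ⊓ LinearMap.range f := by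
    refine Submodule.mem_inf.mpr ⟨Submodule.sub_mem _ hx' h3, ?_⟩
    rw [← hker, LinearMap.mem_ker, map_sub, g_phi f g hfg, hgx, sub_self]
  rw [h1'] at h4
  obtain ⟨z, hz, hfz⟩ := h4
  have h5 : f z ∈ F := by
    have : f z ∈ Submodule.map f F₁ := Submodule.mem_map_of_mem hz
    rw [← h1] at this
    exact this.1
  refine ⟨x + f z, Submodule.add_mem _ hx h5, ?_⟩
  rw [map_add, phi_f f g hfg, hfz]
  abel

end main


open TensorProduct in
/-- For a commutative local Artinian ring R and an exact sequence 0 → H₁ → H → H₂ → 0 of finite free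
R-modules, let F₁ ⊆ H₁ and F₂ ⊆ H₂ be submodules with free quotients, 𝔫 an ideal of R of square
zero, R̄ = R/𝔫, and F̄ ⊆ H̄ = R̄ ⊗ H an R̄-submodule with free quotient meeting the image of R̄ ⊗ H₁
in the image of R̄ ⊗ F₁ and mapping onto the image of R̄ ⊗ F₂; let L be the set of direct summands F
of H with F ∩ H₁ = F₁, with image F̄ in H̄ and with image F₂ in H₂. Then L is a torsor under
Hom_R(F₂, 𝔫(H₁/F₁)), acting as follows: an R-linear u : H₂ → H₁ with u(H₂) ⊆ 𝔫H₁ moves F ∈ L to the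
image of F under x ↦ x + f(u(g(x))). Precisely, for F ∈ L: (1) that image again lies in L; (2) it
equals F if and only if u(F₂) ⊆ 𝔫F₁; (3) every F' ∈ L is obtained from F in this way for some such
u. (The published statement phrases the torsor under the R̄-linear maps from F̄₂ to 𝔫 ⊗ (H̄₁/F̄₁), a
group identified with the maps u as above modulo those with u(F₂) ⊆ 𝔫F₁, and describes the action
through a lift F₂ → 𝔫 ⊗ H₁ composed with F → F/F₁ ≅ F₂; restricted to F this is x ↦ f(u(g(x))).) -/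
theorem result
    (R : Type u) [CommRing R] [IsArtinianRing R] [IsLocalRing R]
    (H₁ : Type v) (H : Type v) (H₂ : Type v)
    [AddCommGroup H₁] [Module R H₁] [AddCommGroup H] [Module R H] [AddCommGroup H₂] [Module R H₂]
    [Module.Free R H₁] [Module.Finite R H₁] [Module.Free R H] [Module.Finite R H]
    [Module.Free R H₂] [Module.Finite R H₂]
    (f : H₁ →ₗ[R] H) (g : H →ₗ[R] H₂) (hf : Function.Injective f) (hg : Function.Surjective g)
    (hfg : Function.Exact f g)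
    (F₁ : Submodule R H₁) (F₂ : Submodule R H₂) [Module.Free R (H₁ ⧸ F₁)] [Module.Free R (H₂ ⧸ F₂)]
    (𝔫 : Ideal R) (hn : 𝔫 * 𝔫 = ⊥)
    (Fb : Submodule (R ⧸ 𝔫) ((R ⧸ 𝔫) ⊗[R] H))
    [Module.Free (R ⧸ 𝔫) (((R ⧸ 𝔫) ⊗[R] H) ⧸ Fb)]
    (h1 : Fb ⊓ LinearMap.range (f.baseChange (R ⧸ 𝔫)) =
      Submodule.map (f.baseChange (R ⧸ 𝔫)) (F₁.baseChange (R ⧸ 𝔫)))
    (h2 : Submodule.map (g.baseChange (R ⧸ 𝔫)) Fb = F₂.baseChange (R ⧸ 𝔫))
    (F F' : Submodule R H)
    (hF : (∃ C : Submodule R H, IsCompl (F) C) ∧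
      (F) ⊓ LinearMap.range f = Submodule.map f F₁ ∧
      Submodule.baseChange (R ⧸ 𝔫) (F) = Fb ∧ Submodule.map g (F) = F₂)
    (hF' : (∃ C : Submodule R H, IsCompl (F') C) ∧
      (F') ⊓ LinearMap.range f = Submodule.map f F₁ ∧
      Submodule.baseChange (R ⧸ 𝔫) (F') = Fb ∧ Submodule.map g (F') = F₂) :
    (∀ u : H₂ →ₗ[R] H₁, (∀ y : H₂, u y ∈ 𝔫 • (⊤ : Submodule R H₁)) →
      (∃ C : Submodule R H, IsCompl (Submodule.map (LinearMap.id + f ∘ₗ u ∘ₗ g) F) C) ∧
      (Submodule.map (LinearMap.id + f ∘ₗ u ∘ₗ g) F) ⊓ LinearMap.range f = Submodule.map f F₁ ∧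
      Submodule.baseChange (R ⧸ 𝔫) (Submodule.map (LinearMap.id + f ∘ₗ u ∘ₗ g) F) = Fb ∧ Submodule.map g (Submodule.map (LinearMap.id + f ∘ₗ u ∘ₗ g) F) = F₂) ∧
    (∀ u : H₂ →ₗ[R] H₁, (∀ y : H₂, u y ∈ 𝔫 • (⊤ : Submodule R H₁)) →
      (Submodule.map (LinearMap.id + f ∘ₗ u ∘ₗ g) F = F ↔ ∀ y ∈ F₂, u y ∈ 𝔫 • F₁)) ∧
    (∃ u : H₂ →ₗ[R] H₁, (∀ y : H₂, u y ∈ 𝔫 • (⊤ : Submodule R H₁)) ∧
      F' = Submodule.map (LinearMap.id + f ∘ₗ u ∘ₗ g) F) := by
  obtain ⟨⟨C, hC⟩, hF1, hF3, hF2⟩ := hF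
  obtain ⟨-, hF'1, hF'3, hF'2⟩ := hF'
  refine ⟨fun u hu => ⟨⟨_, isCompl_map_phi f g hfg u F C hC⟩,
      map_phi_inf_range f g hfg u F F₁ hF1, ?_, ?_⟩,
    fun u hu => map_phi_eq_iff f g hfg hf 𝔫 u hu F F₁ F₂ hF1 hF2,
    exists_u f g hfg hg 𝔫 F F' F₁ F₂ hF1 hF'1 hF2 hF'2 (hF3.trans hF'3.symm)⟩
  · rw [← hF3]; exact baseChange_map_phi f g 𝔫 u hu F
  · exact (map_g_map_phi f g hfg u F).trans hF2

end Groth.Agent.S16420
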