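import Groth.Statements.S16421
import Groth.Agent.Lib.Helper13.PerfFlat
open Groth.Agent.Lib.Helper13.PerfFlat

set_option autoImplicit false
universe u
open FrobAlg

namespace Groth.Agent.S16421

/-- Let p be a prime and R a commutative ring of characteristic p with a p-basis (x_i), meaning that the
monomials ∏ x_i^(e i) with every exponent e i < p form a basis of R as a module over itself through
the Frobenius, i.e. the map sending a finitely supported family of coefficients c to ∑_e (c e)^p · ∏
x_i^(e i) is a bijection onto R. Then the canonical ring map from R to its perfect closure is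
faithfully flat. -/
theorem result (p : ℕ) [Fact p.Prime]
    (R : Type u) [CommRing R] [CharP R p] (ι : Type u) (x : ι → R)
    (hx : Function.Bijective
      (fun c : {e : ι →₀ ℕ // ∀ i, e i < p} →₀ R =>
        c.sum (fun e r => r ^ p * e.1.prod (fun i n => x i ^ n)))) :
    (PerfectClosure.of R p).FaithfullyFlat := by
  classical
  -- `R` is reduced
  have hred : ∀ r : R, r ^ p = 0 → r = 0 := by
    intro r hr
    let e₀ : {e : ι →₀ ℕ // ∀ i, e i < p} := ⟨0, fun i => (Fact.out : p.Prime).pos⟩
    have h1 : (fun c : {e : ι →₀ ℕ // ∀ i, e i < p} →₀ R =>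
        c.sum (fun e r => r ^ p * e.1.prod (fun i n => x i ^ n))) (Finsupp.single e₀ r) =
        (fun c : {e : ι →₀ ℕ // ∀ i, e i < p} →₀ R =>
        c.sum (fun e r => r ^ p * e.1.prod (fun i n => x i ^ n))) 0 := by
      simp only [Finsupp.sum_zero_index]
      rw [Finsupp.sum_single_index (by rw [zero_pow (Fact.out : p.Prime).ne_zero, zero_mul]), hr,
        zero_mul]
    have h2 := hx.1 h1
    have h3 := DFunLike.congr_fun h2 e₀
    simpa using h3
  haveI : IsReduced R := by
    rw [isReduced_iff_pow_one_lt p (Fact.out : p.Prime).one_lt]
    exact hred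
  have hF : (frobenius R p).Flat :=
    flat_of_bijective_sum (frobenius R p)
      (fun e : {e : ι →₀ ℕ // ∀ i, e i < p} => e.1.prod (fun i n => x i ^ n)) hx
  exact faithfullyFlat_perfectClosure p R hF

end Groth.Agent.S16421
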