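import Groth.Statements.S16422
import Mathlib
-- import your own Groth.Agent.* helpers here

set_option autoImplicit false
universe u
open GrMod

namespace Groth.Agent.S16422

section aux
variable {S : Type u} [CommRing S] (𝒜 : ℤ → AddSubgroup S) [GradedRing 𝒜]
  {M : Type u} [AddCommGroup M] [Module S M] (ℳ : ℤ → AddSubgroup M)
  [DirectSum.Decomposition ℳ] [SetLike.GradedSMul 𝒜 ℳ]

lemma decompose_smul_of_mem (a : S) {y : M} {d : ℤ} (hy : y ∈ ℳ d) (n : ℤ) :
    (DirectSum.decompose ℳ (a • y) n : M) = (DirectSum.decompose 𝒜 a (n - d) : S) • y := by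
  classical
  have key : ∀ k : ℤ, (DirectSum.decompose ℳ ((DirectSum.decompose 𝒜 a k : S) • y) n : M) =
      if k = n - d then (DirectSum.decompose 𝒜 a k : S) • y else 0 := by
    intro k
    have hmem : (DirectSum.decompose 𝒜 a k : S) • y ∈ ℳ (k + d) := by
      have := SetLike.GradedSMul.smul_mem (A := 𝒜) (B := ℳ)
        (SetLike.coe_mem (DirectSum.decompose 𝒜 a k)) hy
      simpa using this
    split_ifs with h
    · have : k + d = n := by omega
      rw [← this]
      exact DirectSum.decompose_of_mem_same ℳ hmem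
    · have : k + d ≠ n := by omega
      exact DirectSum.decompose_of_mem_ne ℳ hmem this
  conv_lhs => rw [← DirectSum.sum_support_decompose 𝒜 a, Finset.sum_smul, DirectSum.decompose_sum]
  rw [DFinsupp.finsetSum_apply, AddSubmonoidClass.coe_finsetSum]
  rw [Finset.sum_congr rfl (fun k _ => key k), Finset.sum_ite_eq']
  split_ifs with h
  · rfl
  · rw [DFinsupp.notMem_support_iff.mp h]; simp

/-- A finitely generated projective graded module has a finite homogeneous "dual basis". -/
lemma exists_homogeneous_dualBasis [Module.Finite S M] [Module.Projective S M] :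
    ∃ (ι : Type u) (_ : Fintype ι) (x : ι → M) (d : ι → ℤ) (c : ι → M →ₗ[S] S),
      (∀ i, x i ∈ ℳ (d i)) ∧ ∀ m : M, ∑ i, c i m • x i = m := by
  classical
  obtain ⟨T, hT⟩ := (Module.Finite.fg_top : (⊤ : Submodule S M).FG)
  let P : Finset (M × ℤ) :=
    T.biUnion (fun t => (DFinsupp.support (DirectSum.decompose ℳ t)).image (fun n => (t, n)))
  let ι : Type u := {q : M × ℤ // q ∈ P}
  let x : ι → M := fun q => (DirectSum.decompose ℳ q.1.1 q.1.2 : M)
  have hspan : Submodule.span S (Set.range x) = ⊤ := by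
    rw [eq_top_iff, ← hT, Submodule.span_le]
    intro t ht
    rw [SetLike.mem_coe, ← DirectSum.sum_support_decompose ℳ t]
    refine Submodule.sum_mem _ (fun n hn => Submodule.subset_span ?_)
    have hq : (t, n) ∈ P := by
      simp only [P, Finset.mem_biUnion, Finset.mem_image]
      exact ⟨t, ht, n, hn, rfl⟩
    exact ⟨⟨(t, n), hq⟩, rfl⟩
  have hsurj : Function.Surjective (Fintype.linearCombination S x) := by
    rw [← LinearMap.range_eq_top, Fintype.range_linearCombination, hspan]
  obtain ⟨s, hs⟩ := Module.projective_lifting_property (Fintype.linearCombination S x)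
    (LinearMap.id : M →ₗ[S] M) hsurj
  refine ⟨ι, inferInstance, x, fun q => q.1.2, fun i => (LinearMap.proj i).comp s,
    fun q => SetLike.coe_mem _, fun m => ?_⟩
  have := LinearMap.congr_fun hs m
  simpa [Fintype.linearCombination_apply] using this

omit [DirectSum.Decomposition ℳ] [SetLike.GradedSMul 𝒜 ℳ] in
lemma map_mem_of_mem_smul_top (I : Ideal S) (c : M →ₗ[S] S) {z : M}
    (hz : z ∈ I • (⊤ : Submodule S M)) : c z ∈ I := by
  refine Submodule.smul_induction_on hz ?_ ?_
  · intro r hr y _
    rw [map_smul, smul_eq_mul]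
    exact I.mul_mem_right _ hr
  · intro a b ha hb
    rw [map_add]; exact I.add_mem ha hb

end aux

/-- Let S be a commutative ring graded by ℤ with pieces 𝒜 n, and V a decreasing sequence of homogeneous
ideals for which S is graded-complete, i.e. for each degree n the map from 𝒜 n to the inverse limit
of the quotients 𝒜 n / (𝒜 n ∩ V m) is bijective (stated as: a degree-n element in every V m
vanishes, and every sequence in 𝒜 n whose consecutive differences lie in the V m has a limit in 𝒜
n). Then every graded S-module M which is finitely generated and projective as an S-module is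
graded-complete in the same sense for the submodules V m · M: for each n the map from ℳ n to the
inverse limit of ℳ n / (ℳ n ∩ V m · M) is bijective. -/
theorem result
    (S : Type u) [CommRing S] (𝒜 : ℤ → AddSubgroup S) [GradedRing 𝒜]
    (V : ℕ → HomogeneousIdeal 𝒜) (hV : ∀ m, (V (m + 1)).toIdeal ≤ (V m).toIdeal)
    (hsep : ∀ (n : ℤ) (s : S), s ∈ 𝒜 n → (∀ m, s ∈ (V m).toIdeal) → s = 0)
    (hcpl : ∀ (n : ℤ) (f : ℕ → S), (∀ m, f m ∈ 𝒜 n) →
      (∀ m, f (m + 1) - f m ∈ (V m).toIdeal) → ∃ s ∈ 𝒜 n, ∀ m, s - f m ∈ (V m).toIdeal)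
    (M : Type u) [AddCommGroup M] [Module S M] (ℳ : ℤ → AddSubgroup M)
    [DirectSum.Decomposition ℳ] [SetLike.GradedSMul 𝒜 ℳ]
    [Module.Finite S M] [Module.Projective S M] :
    (∀ (n : ℤ) (x : M), x ∈ ℳ n → (∀ m, x ∈ (V m).toIdeal • (⊤ : Submodule S M)) → x = 0) ∧
    (∀ (n : ℤ) (g : ℕ → M), (∀ m, g m ∈ ℳ n) →
      (∀ m, g (m + 1) - g m ∈ (V m).toIdeal • (⊤ : Submodule S M)) →
      ∃ x ∈ ℳ n, ∀ m, x - g m ∈ (V m).toIdeal • (⊤ : Submodule S M)) := by
  classical
  obtain ⟨ι, _, x, d, c, hxd, hc⟩ := exists_homogeneous_dualBasis (S := S) ℳ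
  -- homogeneous coefficients
  let a : ι → ℤ → M → S := fun i n m => (DirectSum.decompose 𝒜 (c i m) (n - d i) : S)
  have ha_mem : ∀ i n m, a i n m ∈ 𝒜 (n - d i) := fun i n m => SetLike.coe_mem _
  have ha_sub : ∀ i n m m', a i n (m - m') = a i n m - a i n m' := by
    intro i n m m'
    simp only [a, map_sub, DirectSum.decompose_sub]
    rw [DirectSum.sub_apply]
    rfl
  have ha_V : ∀ i n k m, m ∈ (V k).toIdeal • (⊤ : Submodule S M) → a i n m ∈ (V k).toIdeal := by
    intro i n k m hm
    exact (V k).isHomogeneous _ (map_mem_of_mem_smul_top (V k).toIdeal (c i) hm)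
  have hrepr : ∀ n m, m ∈ ℳ n → ∑ i, a i n m • x i = m := by
    intro n m hm
    have h1 : (DirectSum.decompose ℳ m n : M) = m := DirectSum.decompose_of_mem_same ℳ hm
    conv_rhs => rw [← h1, ← hc m, DirectSum.decompose_sum, DFinsupp.finsetSum_apply,
      AddSubmonoidClass.coe_finsetSum]
    refine Finset.sum_congr rfl (fun i _ => ?_)
    exact (decompose_smul_of_mem 𝒜 ℳ (c i m) (hxd i) n).symm
  have hsmul_mem : ∀ i n (y : S), y ∈ 𝒜 (n - d i) → y • x i ∈ ℳ n := by
    intro i n y hy
    have := SetLike.GradedSMul.smul_mem (A := 𝒜) (B := ℳ) hy (hxd i)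
    simpa using this
  refine ⟨?_, ?_⟩
  · intro n m hm hmV
    rw [← hrepr n m hm]
    refine Finset.sum_eq_zero (fun i _ => ?_)
    rw [hsep (n - d i) (a i n m) (ha_mem i n m) (fun k => ha_V i n k m (hmV k)), zero_smul]
  · intro n g hg hgV
    have hex : ∀ i, ∃ y ∈ 𝒜 (n - d i), ∀ k, y - a i n (g k) ∈ (V k).toIdeal := by
      intro i
      refine hcpl (n - d i) (fun k => a i n (g k)) (fun k => ha_mem i n (g k)) (fun k => ?_)
      rw [← ha_sub]
      exact ha_V i n k _ (hgV k)
    choose y hy hyV using hex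
    refine ⟨∑ i, y i • x i, ?_, fun k => ?_⟩
    · exact (ℳ n).sum_mem (fun i _ => hsmul_mem i n (y i) (hy i))
    · have : ∑ i, y i • x i - g k = ∑ i, (y i - a i n (g k)) • x i := by
        conv_lhs => rw [← hrepr n (g k) (hg k), ← Finset.sum_sub_distrib]
        refine Finset.sum_congr rfl (fun i _ => ?_)
        rw [sub_smul]
      rw [this]
      exact Submodule.sum_mem _ (fun i _ => Submodule.smul_mem_smul (hyV i k) Submodule.mem_top)

end Groth.Agent.S16422
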