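import Groth.Statements.S16431
import Groth.Agent.Lib.Helper37.Hz74

set_option autoImplicit false
universe u
open Hensel

namespace Groth.Agent.S16431

/-- Let A be an excellent reduced local ring with residue field k, let A' be the integral closure of A
in its total ring of fractions, let A^h be a henselization and A^hs a strict henselization of A, and
let A^h → A^hs be the A-algebra map between them (it is the unique one). Then the residue field of
A' at every maximal ideal is purely inseparable over k — every element has some p^n-th power in the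
image of A, p the characteristic exponent — if and only if every minimal prime ideal of A^hs is
generated by its contraction to A^h. -/
theorem result
    (A Ah Ash : Type u) [CommRing A] [IsLocalRing A] [IsReduced A] (hA : EGA4.IsExcellent A)
    [CommRing Ah] [IsLocalRing Ah] [Algebra A Ah] [IsLocalHom (algebraMap A Ah)]
    [Hensel.IsHenselization A Ah]
    [CommRing Ash] [IsLocalRing Ash] [Algebra A Ash] [IsLocalHom (algebraMap A Ash)]
    [Hensel.IsStrictHenselization A Ash] [Algebra Ah Ash] [IsScalarTower A Ah Ash] :
    (∀ (M : Ideal (integralClosure A (FractionRing A))) [M.IsMaximal], ∀ x : (integralClosure A (FractionRing A)) ⧸ M, ∃ n : ℕ,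
        x ^ (ringExpChar ((integralClosure A (FractionRing A)) ⧸ M)) ^ n ∈
          ((Ideal.Quotient.mk M).comp (algebraMap A (integralClosure A (FractionRing A)))).range) ↔
      (∀ Q ∈ minimalPrimes Ash, Q = Ideal.map (algebraMap Ah Ash) (Q.comap (algebraMap Ah Ash))) := by
  classical
  haveI hN : IsNoetherianRing A := hA.1
  haveI : IsNoetherianRing Ah :=
    (Groth.Agent.Lib.Helper37.Hz.isNoetherianRing_iff_of_isHenselization A Ah).mp hN
  haveI : IsNoetherianRing Ash :=
    (Groth.Agent.Lib.Helper37.Hz.isNoetherianRing_iff_of_isStrictHenselization A Ash).mp hN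
  have hfin : (minimalPrimes A).Finite := minimalPrimes.finite_of_isNoetherianRing A
  have hfinh : (minimalPrimes Ah).Finite := minimalPrimes.finite_of_isNoetherianRing Ah
  have hfinsh : (minimalPrimes Ash).Finite := minimalPrimes.finite_of_isNoetherianRing Ash
  have hb := Groth.Agent.Lib.Helper37.Hz.Branches.card_minimalPrimes_eq_numBranches A Ah
  have hg := Groth.Agent.Lib.Helper37.Hz.Branches.card_minimalPrimes_eq_numGeomBranches A Ash
  unfold Brnch.numBranches at hb
  unfold Brnch.numGeomBranches at hg
  rw [if_pos hfin] at hb hg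
  rw [Groth.Agent.Lib.Helper37.Hz.Tower.forall_eq_map_comap_iff A Ah Ash hfinh hfinsh, hb, hg]
  haveI : Finite (MaximalSpectrum (CAlg2.normRed A)) := by
    rw [← ENat.card_lt_top, ← hb]
    haveI := hfinh.to_subtype
    exact ENat.card_lt_top_of_finite
  have key : ∀ m' : MaximalSpectrum (CAlg2.normRed A),
      ((∀ x : CAlg2.normRed A ⧸ m'.asIdeal, ∃ n : ℕ,
        x ^ (ringExpChar (CAlg2.normRed A ⧸ m'.asIdeal)) ^ n ∈ (Brnch.toResidue A m').range) ↔
        Subsingleton (Brnch.Emb A m')) ∧ Nonempty (Brnch.Emb A m') := fun m' =>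
    haveI := m'.isMaximal
    Groth.Agent.Lib.Helper37.Hz.PIEmb.subsingleton_emb_iff_and_nonempty A (CAlg2.normRed A)
      m'.asIdeal (AlgebraicClosure (IsLocalRing.ResidueField A)) (Brnch.toResidue A m') rfl
      (Brnch.toClosure A) rfl
  rw [Groth.Agent.Lib.Helper37.Hz.PIEmb.card_sigma_eq_iff (fun m' => Brnch.Emb A m')
    (fun m' => (key m').2)]
  obtain ⟨ψ, hψ⟩ := Groth.Agent.Lib.Helper37.Hz.NormBridge.exists_equiv_normRed A
  constructor
  · intro h m'
    rw [← (key m').1]
    haveI := m'.isMaximal
    exact Groth.Agent.Lib.Helper37.Hz.PIEmb.pow_mem_range_transfer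
      (algebraMap A (integralClosure A (FractionRing A)))
      ((algebraMap (CAlg2.red A) (CAlg2.normRed A)).comp (Ideal.Quotient.mk (nilradical A)))
      ψ hψ (fun M _ x => h M x) m'.asIdeal
  · intro h M _ x
    refine Groth.Agent.Lib.Helper37.Hz.PIEmb.pow_mem_range_transfer
      ((algebraMap (CAlg2.red A) (CAlg2.normRed A)).comp (Ideal.Quotient.mk (nilradical A)))
      (algebraMap A (integralClosure A (FractionRing A))) ψ.symm ?_ ?_ M x
    · intro a
      rw [RingEquiv.symm_apply_eq, hψ]
      rfl
    · intro M' hM' y
      exact ((key ⟨M', hM'⟩).1).mpr (h ⟨M', hM'⟩) y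

end Groth.Agent.S16431
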