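import Groth.Statements.S16432
import Groth.Agent.Lib.Helper37.Hz99

set_option autoImplicit false
universe u
open EGA4loc

namespace Groth.Agent.S16432

/-- Let A be an excellent normal local domain and S a strict henselization of A; let D be an
A-subalgebra of S which is a local ring dominated by S (the inclusion is a local homomorphism), an
integrally closed domain, and whose fraction field is generated as a field over the image of A by
finitely many elements of D. Then D is an essentially etale local A-algebra: A-isomorphic to the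
localization of an etale A-algebra at a prime ideal over the maximal ideal of A. -/
theorem result
    (A S : Type u) [CommRing A] [IsLocalRing A] [IsDomain A] [IsIntegrallyClosed A]
    (hA : EGA4.IsExcellent A) [CommRing S] [IsLocalRing S] [Algebra A S] [IsLocalHom (algebraMap A S)]
    [Hensel.IsStrictHenselization A S] (D : Subalgebra A S) [IsLocalRing D]
    [IsLocalHom (algebraMap D S)] [IsDomain D] [IsIntegrallyClosed D]
    (hfg : ∃ s : Finset D, Subfield.closure (Set.range (algebraMap A (FractionRing D)) ∪
        (algebraMap D (FractionRing D)) '' (s : Set D)) = ⊤) :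
    EGA4loc.IsEssentiallyEtale A D := by
  classical
  haveI : IsNoetherianRing A := hA.1
  haveI : IsDomain S := Groth.Agent.Lib.Helper37.Hz.Gal.isDomain_of_normal A S
  haveI : Module.FaithfullyFlat A S :=
    Groth.Agent.Lib.Helper37.Hz.faithfullyFlat_of_isStrictHenselization A S
  have hinjAS : Function.Injective (algebraMap A S) := FaithfulSMul.algebraMap_injective A S
  have hinjAD : Function.Injective (algebraMap A D) := by
    intro a b hab
    apply hinjAS
    have := congrArg (algebraMap D S) hab
    rwa [← IsScalarTower.algebraMap_apply, ← IsScalarTower.algebraMap_apply] at this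
  obtain ⟨s, hs⟩ := hfg
  obtain ⟨sS, hsS⟩ : ∃ sS : Finset S, sS = s.image (fun d : D => (d : S)) := ⟨_, rfl⟩
  have hsScoe : (sS : Set S) = (D.val : D → S) '' (s : Set D) := by
    rw [hsS, Finset.coe_image]
    rfl
  have hsSD : (sS : Set S) ⊆ D := by
    rw [hsScoe]
    rintro _ ⟨d, -, rfl⟩
    exact d.2
  obtain ⟨D', hsD', ⟨hloc, hlocS, hess⟩, hP1, hP2⟩ :=
    Groth.Agent.Lib.Helper37.Hz.Gal.exists_essEtale_sub_of_normal A S sS
  have hle₁ : D' ≤ D :=
    Groth.Agent.Lib.Helper37.Hz.Gal.le_of_forall_frac D (sS : Set S) hsSD D' hP1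
  have hle₂ : D ≤ D' := by
    intro x hx
    obtain ⟨u, hu, v, hv, hv0, h⟩ :=
      Groth.Agent.Lib.Helper37.Hz.Gal.exists_frac_of_closure_eq_top A D hinjAD s hs ⟨x, hx⟩
    have hadj : (Algebra.adjoin A (s : Set D)).map D.val = Algebra.adjoin A (sS : Set S) := by
      rw [AlgHom.map_adjoin, hsScoe]
    apply hP2
    refine ⟨(u : S), ?_, (v : S), ?_, fun h0 => hv0 (Subtype.ext h0), congrArg Subtype.val h⟩
    · rw [← hadj]; exact ⟨u, hu, rfl⟩
    · rw [← hadj]; exact ⟨v, hv, rfl⟩
  have hEq : D = D' := le_antisymm hle₂ hle₁
  rw [hEq]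
  exact hess

end Groth.Agent.S16432
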