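import Groth.Statements.S16436
import Groth.Agent.Lib.Helper37.Hz79

set_option autoImplicit false
universe u
open Hensel

namespace Groth.Agent.S16436

/-- Let A be an excellent henselian reduced local ring, S a strict henselization of A and D an
A-subalgebra of S which is finitely generated as an A-module. Write D' for the integral closure of D
in its total ring of fractions. Then D is etale over A and every minimal prime ideal of S is
generated by its contraction to D, if and only if, for every maximal ideal M of D' with residue
field l, writing k_0 for the subfield of l generated by the image of D (the image itself, a copy of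
the residue field of D), k_0 is separably closed in l: every element of l separable over k_0 lies in
k_0. -/
theorem result
    (A S : Type u) [CommRing A] [HenselianLocalRing A] [IsReduced A] (hA : EGA4.IsExcellent A)
    [CommRing S] [IsLocalRing S] [Algebra A S] [IsLocalHom (algebraMap A S)]
    [Hensel.IsStrictHenselization A S] (D : Subalgebra A S) [Module.Finite A D] :
    (Algebra.Etale A D ∧
        ∀ Q ∈ minimalPrimes S, Q = Ideal.map (algebraMap D S) (Q.comap (algebraMap D S))) ↔
      ∀ (M : Ideal (integralClosure D (FractionRing D))) [M.IsMaximal],
        separableClosure (Subfield.closure (Set.range ((algebraMap (integralClosure D (FractionRing D)) M.ResidueField).comp (algebraMap D (integralClosure D (FractionRing D)))))) M.ResidueField = ⊥ := by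
  classical
  haveI hN : IsNoetherianRing A := hA.1
  haveI hDloc : IsLocalRing D := Groth.Agent.Lib.Helper37.Hz.FinSub.isLocalRing_sub A S D
  haveI hDS : IsLocalHom (algebraMap D S) := Groth.Agent.Lib.Helper37.Hz.FinSub.isLocalHom_sub A S D
  haveI hAD : IsLocalHom (algebraMap A D) := Groth.Agent.Lib.Helper37.Hz.FinSub.isLocalHom_base A S D
  haveI hDh : HenselianLocalRing D := Groth.Agent.Lib.Helper37.Hz.FinSub.henselianLocalRing_sub A S D
  haveI : IsReduced S :=
    (Groth.Agent.Lib.Helper37.Hz.isReduced_iff_of_isStrictHenselization A S).mp inferInstance
  have hinj : Function.Injective (algebraMap D S) := Subtype.val_injective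
  haveI : IsReduced D := isReduced_of_injective (algebraMap D S) hinj
  haveI : IsNoetherianRing D := IsNoetherianRing.of_finite A D
  haveI : IsNoetherianRing S :=
    (Groth.Agent.Lib.Helper37.Hz.isNoetherianRing_iff_of_isStrictHenselization A S).mp hN
  have hfinD : (minimalPrimes D).Finite := minimalPrimes.finite_of_isNoetherianRing D
  have hfinS : (minimalPrimes S).Finite := minimalPrimes.finite_of_isNoetherianRing S
  haveI hself : Hensel.IsHenselization D D :=
    Groth.Agent.Lib.Helper37.Hz.Compare.isHenselization_self D
  haveI : Algebra.IsIntegral D (integralClosure D (FractionRing D)) :=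
    integralClosure.AlgebraIsIntegral
  -- translation of the residue field condition
  have htrans : (∀ (M : Ideal (integralClosure D (FractionRing D))) [M.IsMaximal],
      ∀ x : (integralClosure D (FractionRing D)) ⧸ M, ∃ n : ℕ,
        x ^ (ringExpChar ((integralClosure D (FractionRing D)) ⧸ M)) ^ n ∈
          ((Ideal.Quotient.mk M).comp
            (algebraMap D (integralClosure D (FractionRing D)))).range) ↔
      (∀ (M : Ideal (integralClosure D (FractionRing D))) [M.IsMaximal],
        separableClosure (Subfield.closure (Set.range ((algebraMap (integralClosure D (FractionRing D)) M.ResidueField).comp (algebraMap D (integralClosure D (FractionRing D)))))) M.ResidueField = ⊥) := by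
    refine forall_congr' fun M => forall_congr' fun hM => ?_
    haveI := hM
    let r : D →+* ((integralClosure D (FractionRing D)) ⧸ M) :=
      (Ideal.Quotient.mk M).comp (algebraMap D (integralClosure D (FractionRing D)))
    have hr : ∀ d, r d ≠ 0 → ∃ d', r d * r d' = 1 := by
      intro d hd
      have hdm : d ∉ IsLocalRing.maximalIdeal D := by
        rw [← Groth.Agent.Lib.Helper37.Hz.PIEmb.comap_eq D (integralClosure D (FractionRing D)) M]
        intro hmem
        apply hd
        change Ideal.Quotient.mk M (algebraMap D (integralClosure D (FractionRing D)) d) = 0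
        rw [Ideal.Quotient.eq_zero_iff_mem]
        exact hmem
      have hu : IsUnit d := by
        by_contra hnu
        exact hdm ((IsLocalRing.mem_maximalIdeal d).mpr hnu)
      obtain ⟨u, rfl⟩ := hu
      refine ⟨((u⁻¹ : Dˣ) : D), ?_⟩
      rw [← map_mul, Units.mul_inv, map_one]
    have halg : ∀ x : (integralClosure D (FractionRing D)) ⧸ M, ∃ p : Polynomial D,
        p.Monic ∧ Polynomial.eval₂ r x p = 0 := by
      intro x
      obtain ⟨b, rfl⟩ := Ideal.Quotient.mk_surjective x
      obtain ⟨p, hp, hpb⟩ := Algebra.IsIntegral.isIntegral (R := D) b
      refine ⟨p, hp, ?_⟩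
      change Polynomial.eval₂ ((Ideal.Quotient.mk M).comp
        (algebraMap D (integralClosure D (FractionRing D)))) (Ideal.Quotient.mk M b) p = 0
      rw [← Polynomial.hom_eval₂, hpb, map_zero]
    exact Groth.Agent.Lib.Helper37.Hz.PIEmb.pow_mem_range_iff_separableClosure_eq_bot'
      (algebraMap ((integralClosure D (FractionRing D)) ⧸ M) M.ResidueField)
      (Ideal.bijective_algebraMap_quotient_residueField M) r hr halg
      ((algebraMap (integralClosure D (FractionRing D)) M.ResidueField).comp
        (algebraMap D (integralClosure D (FractionRing D))))
      (fun d => IsScalarTower.algebraMap_apply (integralClosure D (FractionRing D))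
        ((integralClosure D (FractionRing D)) ⧸ M) M.ResidueField _)
  rw [← htrans]
  constructor
  · rintro ⟨hét, hQ⟩
    haveI := hét
    haveI hst : Hensel.IsStrictHenselization D S :=
      Groth.Agent.Lib.Helper37.Hz.FinSub.isStrictHenselization_of_etale A S D
    rw [Groth.Agent.Lib.Helper37.Hz.Tower.pi_iff_card_eq D D S]
    exact (Groth.Agent.Lib.Helper37.Hz.Tower.forall_eq_map_comap_iff D D S hfinD hfinS).mp hQ
  · intro h
    have hcard := (Groth.Agent.Lib.Helper37.Hz.Tower.pi_iff_card_eq D D
      (Groth.Agent.Lib.Helper37.Hz.SHens D)).mp h
    haveI hst : Hensel.IsStrictHenselization D S :=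
      Groth.Agent.Lib.Helper37.Hz.FinSub.isStrictHenselization_of_card_eq A D S hinj hcard
    refine ⟨Groth.Agent.Lib.Helper37.Hz.FinSub.etale_of_isStrictHenselization A S D, ?_⟩
    rw [Groth.Agent.Lib.Helper37.Hz.Tower.forall_eq_map_comap_iff D D S hfinD hfinS]
    exact (Groth.Agent.Lib.Helper37.Hz.Tower.pi_iff_card_eq D D S).mp h

end Groth.Agent.S16436
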