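import Groth.Statements.S16440
import Groth.Agent.Lib.Helper37.Hz92

set_option autoImplicit false
universe u
open Hensel

namespace Groth.Agent.S16440

/-- Let A be an excellent henselian reduced local ring, S a strict henselization of A and Q a minimal
prime ideal of S; let K be the fraction field of the domain S/Q and L the subfield of K generated
over the image of A by a finite subset t of K (an intermediate field between the fraction field of
A/(Q ∩ A) and K, finitely generated over the former). Then the intersection of L with S/Q is (the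
underlying set of) an A-subalgebra D' of S/Q which is a finitely generated A-module and formally
unramified over A. (The source adds that S/Q is a strict henselization of D'; that assertion is not
stated here.) -/
theorem result
    (A S : Type u) [CommRing A] [HenselianLocalRing A] [IsReduced A] (hA : EGA4.IsExcellent A)
    [CommRing S] [IsLocalRing S] [Algebra A S] [IsLocalHom (algebraMap A S)]
    [Hensel.IsStrictHenselization A S] (Q : Ideal S) (hQ : Q ∈ minimalPrimes S) [Q.IsPrime]
    (t : Finset (FractionRing (S ⧸ Q))) :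
    ∃ D' : Subalgebra A (S ⧸ Q), (D' : Set (S ⧸ Q)) = (algebraMap (S ⧸ Q) (FractionRing (S ⧸ Q))) ⁻¹'
        (Subfield.closure (Set.range (algebraMap A (FractionRing (S ⧸ Q))) ∪
          (t : Set (FractionRing (S ⧸ Q)))) : Set (FractionRing (S ⧸ Q))) ∧
      Module.Finite A D' ∧ Algebra.FormallyUnramified A D' := by
  classical
  haveI : IsNoetherianRing A := hA.1
  obtain ⟨D₀, hfin, het, hiff⟩ := Groth.Agent.Lib.Helper37.Hz.Gal.exists_etale_sub_quotient A S Q
    (FractionRing (S ⧸ Q)) hQ t
  haveI := hfin
  haveI := het
  have hLA : Set.range (algebraMap A (FractionRing (S ⧸ Q))) ⊆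
      ((Subfield.closure (Set.range (algebraMap A (FractionRing (S ⧸ Q))) ∪
        (t : Set (FractionRing (S ⧸ Q)))) : Subfield (FractionRing (S ⧸ Q))) :
          Set (FractionRing (S ⧸ Q))) :=
    fun x hx => Subfield.subset_closure (Or.inl hx)
  refine ⟨Groth.Agent.Lib.Helper37.Hz.Gal.interSub A (S ⧸ Q) (FractionRing (S ⧸ Q)) _ hLA,
    rfl, ?_⟩
  let f : D₀ →ₐ[A] Groth.Agent.Lib.Helper37.Hz.Gal.interSub A (S ⧸ Q)
      (FractionRing (S ⧸ Q)) _ hLA :=
    AlgHom.codRestrict ((Ideal.Quotient.mkₐ A Q).comp D₀.val) _ (fun d =>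
      (hiff (d : S)).mpr ⟨d, d.2, by rw [sub_self]; exact Q.zero_mem⟩)
  have hsurj : Function.Surjective f := by
    rintro ⟨xb, hxb⟩
    obtain ⟨x, rfl⟩ := Ideal.Quotient.mk_surjective xb
    obtain ⟨d, hd, hxd⟩ := (hiff x).mp hxb
    refine ⟨⟨d, hd⟩, Subtype.ext ?_⟩
    change Ideal.Quotient.mk Q d = Ideal.Quotient.mk Q x
    rw [Ideal.Quotient.eq]
    have h1 : d - x = -(x - d) := by ring
    rw [h1]
    exact Q.neg_mem hxd
  exact ⟨Module.Finite.of_surjective f.toLinearMap hsurj,
    Algebra.FormallyUnramified.of_surjective f hsurj⟩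

end Groth.Agent.S16440
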