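import Groth.Statements.S16442
import Groth.Agent.Lib.Helper90.SHensUnion
-- import your own Groth.Agent.* helpers here

set_option autoImplicit false
universe u
open EGA4loc

namespace Groth.Agent.S16442

/-- Let A be a reduced local ring with finitely many minimal prime ideals, S a strict henselization of
A, and D an A-subalgebra of S which is a local ring dominated by S (local inclusion) and essentially
of finite type over A. Then D is contained in some A-subalgebra E of S which is a local ring and an
essentially etale local A-algebra. -/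
theorem result
    (A S : Type u) [CommRing A] [IsLocalRing A] [IsReduced A] (hmin : (minimalPrimes A).Finite)
    [CommRing S] [IsLocalRing S] [Algebra A S] [IsLocalHom (algebraMap A S)]
    [Hensel.IsStrictHenselization A S] (D : Subalgebra A S) [IsLocalRing D]
    [IsLocalHom (algebraMap D S)] [Algebra.EssFiniteType A D] :
    ∃ E : Subalgebra A S, D ≤ E ∧ ∃ _ : IsLocalRing E, EGA4loc.IsEssentiallyEtale A E := by
  classical
  obtain ⟨σ, hσ⟩ := (Algebra.essFiniteType_iff A D).mp inferInstance
  obtain ⟨E, hσE, hunit, hloc, hess⟩ :=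
    Groth.Agent.Lib.Helper90.SHensUnion.exists_essEtale_sub A S (σ.image D.val)
  refine ⟨E, ?_, hloc, hess⟩
  have h0 : ∀ d ∈ Algebra.adjoin A (σ : Set D), (d : S) ∈ E := by
    intro d hd
    have h1 : D.val d ∈ (Algebra.adjoin A (σ : Set D)).map D.val := ⟨d, hd, rfl⟩
    rw [AlgHom.map_adjoin] at h1
    refine Algebra.adjoin_le ?_ h1
    intro x hx
    apply hσE
    rw [Finset.coe_image]
    exact hx
  intro x hx
  obtain ⟨t, ht, htu, hdt⟩ := hσ ⟨x, hx⟩
  have h1 : (t : S) ∈ E := h0 t ht
  have h2 : IsUnit (t : S) := htu.map D.val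
  obtain ⟨y, hy, hty⟩ := hunit _ h1 h2
  have h3 : x * (t : S) ∈ E := h0 _ hdt
  have h4 : x = (x * (t : S)) * y := by rw [mul_assoc, hty, mul_one]
  rw [h4]
  exact E.mul_mem h3 hy

end Groth.Agent.S16442
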