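import Groth.Statements.S16445
import Groth.Agent.Lib.Helper37.Hz92
import Groth.Agent.Lib.Helper37.Hz93
import Groth.Agent.Lib.Helper37.Hz50

set_option autoImplicit false
universe u
open Hensel

namespace Groth.Agent.S16445

/-- Let A be an excellent henselian reduced local ring, S a strict henselization of A and Q a minimal
prime ideal of S; let K be the fraction field of the domain S/Q and L the subfield of K generated
over the image of A by a finite subset t of K. Then the intersection of L with S/Q is (the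
underlying set of) an A-subalgebra D' of S/Q which is an excellent henselian local ring (a domain,
as a subring of S/Q) whose fraction field is L: every element of L is the quotient of the images of
two elements of D'. (The source's further description of the completion of D' is not stated here.) -/
theorem result
    (A S : Type u) [CommRing A] [HenselianLocalRing A] [IsReduced A] (hA : EGA4.IsExcellent A)
    [CommRing S] [IsLocalRing S] [Algebra A S] [IsLocalHom (algebraMap A S)]
    [Hensel.IsStrictHenselization A S] (Q : Ideal S) (hQ : Q ∈ minimalPrimes S) [Q.IsPrime]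
    (t : Finset (FractionRing (S ⧸ Q))) :
    ∃ D' : Subalgebra A (S ⧸ Q), (D' : Set (S ⧸ Q)) = (algebraMap (S ⧸ Q) (FractionRing (S ⧸ Q))) ⁻¹'
        (Subfield.closure (Set.range (algebraMap A (FractionRing (S ⧸ Q))) ∪
          (t : Set (FractionRing (S ⧸ Q)))) : Set (FractionRing (S ⧸ Q))) ∧
      EGA4.IsExcellent D' ∧ ∃ _ : HenselianLocalRing D',
        ∀ l ∈ Subfield.closure (Set.range (algebraMap A (FractionRing (S ⧸ Q))) ∪
            (t : Set (FractionRing (S ⧸ Q)))),
          ∃ a ∈ D', ∃ b ∈ D', algebraMap (S ⧸ Q) (FractionRing (S ⧸ Q)) b ≠ 0 ∧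
            l * algebraMap (S ⧸ Q) (FractionRing (S ⧸ Q)) b =
              algebraMap (S ⧸ Q) (FractionRing (S ⧸ Q)) a := by
  classical
  haveI : IsNoetherianRing A := hA.1
  obtain ⟨D₀, hfin, het, hiff⟩ := Groth.Agent.Lib.Helper37.Hz.Gal.exists_etale_sub_quotient A S Q
    (FractionRing (S ⧸ Q)) hQ t
  haveI := hfin
  haveI := het
  have hLA : Set.range (algebraMap A (FractionRing (S ⧸ Q))) ⊆
      ((Subfield.closure (Set.range (algebraMap A (FractionRing (S ⧸ Q))) ∪
        (t : Set (FractionRing (S ⧸ Q)))) : Subfield (FractionRing (S ⧸ Q))) :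
          Set (FractionRing (S ⧸ Q))) :=
    fun x hx => Subfield.subset_closure (Or.inl hx)
  obtain ⟨D', hD'⟩ : ∃ D' : Subalgebra A (S ⧸ Q),
      D' = Groth.Agent.Lib.Helper37.Hz.Gal.interSub A (S ⧸ Q) (FractionRing (S ⧸ Q)) _ hLA :=
    ⟨_, rfl⟩
  have hmem : ∀ x : S ⧸ Q, x ∈ D' ↔ algebraMap (S ⧸ Q) (FractionRing (S ⧸ Q)) x ∈
      Subfield.closure (Set.range (algebraMap A (FractionRing (S ⧸ Q))) ∪
        (t : Set (FractionRing (S ⧸ Q)))) := fun x => by rw [hD']; rfl
  let f : D₀ →ₐ[A] D' :=
    AlgHom.codRestrict ((Ideal.Quotient.mkₐ A Q).comp D₀.val) _ (fun d =>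
      (hmem _).mpr ((hiff (d : S)).mpr ⟨d, d.2, by rw [sub_self]; exact Q.zero_mem⟩))
  have hsurj : Function.Surjective f := by
    rintro ⟨xb, hxb⟩
    obtain ⟨x, rfl⟩ := Ideal.Quotient.mk_surjective xb
    obtain ⟨d, hd, hxd⟩ := (hiff x).mp ((hmem _).mp hxb)
    refine ⟨⟨d, hd⟩, Subtype.ext ?_⟩
    change Ideal.Quotient.mk Q d = Ideal.Quotient.mk Q x
    rw [Ideal.Quotient.eq]
    have h1 : d - x = -(x - d) := by ring
    rw [h1]
    exact Q.neg_mem hxd
  haveI hfinD' : Module.Finite A D' := Module.Finite.of_surjective f.toLinearMap hsurj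
  haveI : Algebra.IsIntegral A D' := Algebra.IsIntegral.of_finite A D'
  haveI : IsLocalRing D' :=
    Groth.Agent.Lib.Helper37.Hz.TotNorm.isLocalRing_of_isIntegral_of_isDomain A D'
  have hhens : HenselianLocalRing D' :=
    Groth.Agent.Lib.Helper37.Hz.henselianLocalRing_of_isIntegral A D'
  refine ⟨D', ?_, Groth.Agent.Lib.Helper37.Hz.Gal.isExcellent_of_finite A D' hA, hhens, ?_⟩
  · rw [hD']; rfl
  · intro l hl
    obtain ⟨a, ha, s, hs⟩ := Groth.Agent.Lib.Helper37.Hz.Gal.exists_num_den A S Q
      (FractionRing (S ⧸ Q)) l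
    have haL : algebraMap A (FractionRing (S ⧸ Q)) a ∈
        Subfield.closure (Set.range (algebraMap A (FractionRing (S ⧸ Q))) ∪
          (t : Set (FractionRing (S ⧸ Q)))) := hLA ⟨a, rfl⟩
    refine ⟨Ideal.Quotient.mk Q s, ?_, algebraMap A (S ⧸ Q) a, D'.algebraMap_mem a, ?_, ?_⟩
    · rw [hmem]
      have : algebraMap (S ⧸ Q) (FractionRing (S ⧸ Q)) (Ideal.Quotient.mk Q s) =
          algebraMap A (FractionRing (S ⧸ Q)) a * l := hs.symm
      rw [this]
      exact Subfield.mul_mem _ haL hl
    · rw [← IsScalarTower.algebraMap_apply,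
        Groth.Agent.Lib.Helper37.Hz.Gal.algebraMap_eq_ιq A S Q (FractionRing (S ⧸ Q))]
      intro h0
      exact ha ((Groth.Agent.Lib.Helper37.Hz.Gal.ιq_eq_zero_iff S Q (FractionRing (S ⧸ Q)) _).mp h0)
    · rw [← IsScalarTower.algebraMap_apply, mul_comm]
      exact hs

end Groth.Agent.S16445
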