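import Groth.Statements.S16446
import Groth.Agent.Lib.Helper37.Hz92

set_option autoImplicit false
universe u
open Hensel

namespace Groth.Agent.S16446

/-- Let A be an excellent henselian reduced local ring, S a strict henselization of A and Q a minimal
prime ideal of S with contraction q to A; let K be the fraction field of S/Q and L the subfield of K
generated over the image of A by a finite subset t of K. Then there is an A-subalgebra E of S, a
local ring and an essentially etale local A-algebra, such that (i) every minimal prime ideal of S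
over the ideal qS is generated by its contraction to E, and (ii) every element of S/Q whose image in
K lies in L is the class of an element of E — so that the intersection of L with S/Q equals its
intersection with the image of E. -/
theorem result
    (A S : Type u) [CommRing A] [HenselianLocalRing A] [IsReduced A] (hA : EGA4.IsExcellent A)
    [CommRing S] [IsLocalRing S] [Algebra A S] [IsLocalHom (algebraMap A S)]
    [Hensel.IsStrictHenselization A S] (Q : Ideal S) (hQ : Q ∈ minimalPrimes S) [Q.IsPrime]
    (t : Finset (FractionRing (S ⧸ Q))) :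
    ∃ E : Subalgebra A S, ∃ _ : IsLocalRing E, EGA4loc.IsEssentiallyEtale A E ∧
      (∀ Q' ∈ ((Q.comap (algebraMap A S)).map (algebraMap A S)).minimalPrimes,
        Q' = Ideal.map (algebraMap E S) (Q'.comap (algebraMap E S))) ∧
      ∀ x : S, algebraMap (S ⧸ Q) (FractionRing (S ⧸ Q)) (Ideal.Quotient.mk Q x) ∈
          Subfield.closure (Set.range (algebraMap A (FractionRing (S ⧸ Q))) ∪
            (t : Set (FractionRing (S ⧸ Q)))) →
        ∃ e ∈ E, Ideal.Quotient.mk Q e = Ideal.Quotient.mk Q x := by
  classical
  haveI : IsNoetherianRing A := hA.1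
  haveI : IsNoetherianRing S :=
    (Groth.Agent.Lib.Helper37.Hz.isNoetherianRing_iff_of_isStrictHenselization A S).mp
      inferInstance
  obtain ⟨D₀, hfin, het, hiff⟩ := Groth.Agent.Lib.Helper37.Hz.Gal.exists_etale_sub_quotient A S Q
    (FractionRing (S ⧸ Q)) hQ t
  haveI := hfin
  -- generators
  have hMfin : (((Q.comap (algebraMap A S)).map (algebraMap A S)).minimalPrimes).Finite :=
    Ideal.finite_minimalPrimes_of_isNoetherianRing S _
  have hfg : ∀ Q' : Ideal S, ∃ G : Finset S, Ideal.span (G : Set S) = Q' := fun Q' =>
    (IsNoetherian.noetherian Q')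
  choose G hG using hfg
  obtain ⟨n, gen, hgen⟩ := Module.Finite.exists_fin (R := A) (M := D₀)
  obtain ⟨E, hσE, -, -, -, hEloc, hE⟩ :=
    Groth.Agent.Lib.Helper90.SHensUnion.exists_essEtale_sub' A S
      (hMfin.toFinset.biUnion G ∪ Finset.univ.image (fun i => (gen i : S)))
  have hD₀E : ∀ d ∈ D₀, d ∈ E := by
    intro d hd
    have hmem : (⟨d, hd⟩ : D₀) ∈ Submodule.span A (Set.range gen) := by
      rw [hgen]; trivial
    obtain ⟨c, hc⟩ := (Submodule.mem_span_range_iff_exists_fun A).mp hmem
    have hd' : d = ∑ i, c i • (gen i : S) := by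
      have h1 := congrArg (fun x : D₀ => (x : S)) hc
      simp only [AddSubmonoidClass.coe_finset_sum, Subalgebra.coe_smul] at h1
      exact h1.symm
    rw [hd']
    refine Subalgebra.sum_mem _ (fun i _ => Subalgebra.smul_mem _ ?_ _)
    exact hσE (Finset.mem_coe.mpr (Finset.mem_union_right _
      (Finset.mem_image_of_mem _ (Finset.mem_univ i))))
  refine ⟨E, hEloc, hE, ?_, ?_⟩
  · intro Q' hQ'
    apply le_antisymm
    · conv_lhs => rw [← hG Q']
      rw [Ideal.span_le]
      intro γ hγ
      have hγE : γ ∈ E := hσE (Finset.mem_coe.mpr (Finset.mem_union_left _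
        (Finset.mem_biUnion.mpr ⟨Q', hMfin.mem_toFinset.mpr hQ', hγ⟩)))
      have hγQ' : γ ∈ Q' := by
        rw [← hG Q']
        exact Ideal.subset_span hγ
      have h1 : (⟨γ, hγE⟩ : E) ∈ Q'.comap (algebraMap E S) := hγQ'
      exact Ideal.mem_map_of_mem (algebraMap E S) h1
    · exact Ideal.map_comap_le
  · intro x hx
    obtain ⟨d, hd, hxd⟩ := (hiff x).mp hx
    refine ⟨d, hD₀E d hd, ?_⟩
    rw [Ideal.Quotient.eq]
    have h1 : d - x = -(x - d) := by ring
    rw [h1]
    exact Q.neg_mem hxd

end Groth.Agent.S16446
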