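import Groth.Statements.S16452
import Groth.Agent.Lib.Helper83.GrMapCrit
import Mathlib.RingTheory.Smooth.Basic
import Mathlib.RingTheory.Unramified.Basic
import Mathlib.RingTheory.Etale.Basic

set_option autoImplicit false
universe u
open CAlg

namespace Groth.Agent.S16452

/-- For `R → S` formally étale and `R → S/J` surjective, `R/Iⁿ → S/Jⁿ` is bijective, in the
elementwise form: (A) `φ a ∈ Jⁿ → a ∈ Iⁿ` and (B) every `b` is congruent mod `Jⁿ` to some `φ a`. -/
theorem key_succ (R : Type u) [CommRing R] (S : Type u)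
    [CommRing S] [Algebra R S] [Algebra.FormallyEtale R S] (J : Ideal S)
    (hJ : Function.Surjective (algebraMap R (S ⧸ J))) (n : ℕ) :
    (∀ a : R, algebraMap R S a ∈ J ^ (n + 1) → a ∈ (J.comap (algebraMap R S)) ^ (n + 1)) ∧
      ∀ b : S, ∃ a : R, algebraMap R S a - b ∈ J ^ (n + 1) := by
  set I : Ideal R := J.comap (algebraMap R S) with hI
  have hIJ : I.map (algebraMap R S) ≤ J := Ideal.map_comap_le
  have hIJn : ∀ a ∈ I ^ (n + 1), algebraMap R S a ∈ J ^ (n + 1) := by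
    intro a ha
    have := Ideal.mem_map_of_mem (algebraMap R S) ha
    rw [Ideal.map_pow] at this
    exact Ideal.pow_right_mono hIJ (n + 1) this
  have hmkJ : ∀ a : R, algebraMap R (S ⧸ J) a = Ideal.Quotient.mk J (algebraMap R S a) :=
    fun a => rfl
  -- g : R ⧸ I ^ (n+1) → S ⧸ J
  let g : R ⧸ I ^ (n + 1) →ₐ[R] S ⧸ J :=
    Ideal.Quotient.liftₐ (I ^ (n + 1)) (Algebra.ofId R (S ⧸ J)) (by
      intro a ha
      change algebraMap R (S ⧸ J) a = 0
      rw [hmkJ, Ideal.Quotient.eq_zero_iff_mem]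
      exact hIJ (Ideal.mem_map_of_mem _ (Ideal.pow_le_self (Nat.succ_ne_zero n) ha)))
  have hg_mk : ∀ a : R, g (Ideal.Quotient.mk (I ^ (n + 1)) a) =
      Ideal.Quotient.mk J (algebraMap R S a) := fun a => rfl
  have hg_surj : Function.Surjective g := by
    intro y
    obtain ⟨a, ha⟩ := hJ y
    exact ⟨Ideal.Quotient.mk (I ^ (n + 1)) a, by rw [hg_mk, ← hmkJ, ha]⟩
  have hker_le : RingHom.ker (g : R ⧸ I ^ (n + 1) →+* S ⧸ J) ≤
      I.map (Ideal.Quotient.mk (I ^ (n + 1))) := by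
    intro x hx
    obtain ⟨a, rfl⟩ := Ideal.Quotient.mk_surjective x
    rw [RingHom.mem_ker] at hx
    have hx' : g (Ideal.Quotient.mk (I ^ (n + 1)) a) = 0 := hx
    rw [hg_mk, Ideal.Quotient.eq_zero_iff_mem] at hx'
    exact Ideal.mem_map_of_mem _ hx'
  have hmap_pow : (I.map (Ideal.Quotient.mk (I ^ (n + 1)))) ^ (n + 1) = ⊥ := by
    rw [← Ideal.map_pow, Ideal.map_quotient_self]
  have hker_pow : (RingHom.ker (g : R ⧸ I ^ (n + 1) →+* S ⧸ J)) ^ (n + 1) = ⊥ := by
    rw [eq_bot_iff, ← hmap_pow]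
    exact Ideal.pow_right_mono hker_le (n + 1)
  have hnil : IsNilpotent (RingHom.ker (g : R ⧸ I ^ (n + 1) →+* S ⧸ J)) := ⟨n + 1, hker_pow⟩
  -- the lift ψ
  let ψ : S →ₐ[R] R ⧸ I ^ (n + 1) :=
    Algebra.FormallySmooth.liftOfSurjective (Ideal.Quotient.mkₐ R J) g hg_surj hnil
  have hψ : ∀ x : S, g (ψ x) = Ideal.Quotient.mk J x := fun x =>
    Algebra.FormallySmooth.liftOfSurjective_apply (Ideal.Quotient.mkₐ R J) g hg_surj hnil x
  have hψJ : ∀ x ∈ J ^ (n + 1), ψ x = 0 := by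
    intro x hx
    have h1 : J.map (ψ : S →+* R ⧸ I ^ (n + 1)) ≤
        RingHom.ker (g : R ⧸ I ^ (n + 1) →+* S ⧸ J) := by
      rw [Ideal.map_le_iff_le_comap]
      intro j hj
      rw [Ideal.mem_comap, RingHom.mem_ker]
      change g (ψ j) = 0
      rw [hψ, Ideal.Quotient.eq_zero_iff_mem]
      exact hj
    have h2 : ψ x ∈ (J ^ (n + 1)).map (ψ : S →+* R ⧸ I ^ (n + 1)) :=
      Ideal.mem_map_of_mem _ hx
    rw [Ideal.map_pow] at h2
    have h3 := Ideal.pow_right_mono h1 (n + 1) h2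
    rw [hker_pow] at h3
    exact h3
  have hA : ∀ a : R, algebraMap R S a ∈ J ^ (n + 1) → a ∈ I ^ (n + 1) := by
    intro a ha
    have h1 := hψJ _ ha
    rw [ψ.commutes] at h1
    exact Ideal.Quotient.eq_zero_iff_mem.mp h1
  refine ⟨hA, ?_⟩
  -- surjectivity via uniqueness
  let h : R ⧸ I ^ (n + 1) →ₐ[R] S ⧸ J ^ (n + 1) :=
    Ideal.Quotient.liftₐ (I ^ (n + 1)) (Algebra.ofId R (S ⧸ J ^ (n + 1))) (by
      intro a ha
      change algebraMap R (S ⧸ J ^ (n + 1)) a = 0
      change Ideal.Quotient.mk (J ^ (n + 1)) (algebraMap R S a) = 0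
      rw [Ideal.Quotient.eq_zero_iff_mem]
      exact hIJn a ha)
  have hh_mk : ∀ a : R, h (Ideal.Quotient.mk (I ^ (n + 1)) a) =
      Ideal.Quotient.mk (J ^ (n + 1)) (algebraMap R S a) := fun a => rfl
  have hnil' : IsNilpotent (J.map (Ideal.Quotient.mk (J ^ (n + 1)))) :=
    ⟨n + 1, by rw [← Ideal.map_pow, Ideal.map_quotient_self]; rfl⟩
  have heq : Ideal.Quotient.mkₐ R (J ^ (n + 1)) = h.comp ψ := by
    refine Algebra.FormallyUnramified.ext (J.map (Ideal.Quotient.mk (J ^ (n + 1)))) hnil' ?_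
    intro x
    rw [Ideal.Quotient.eq]
    obtain ⟨a, ha⟩ := Ideal.Quotient.mk_surjective (ψ x)
    rw [AlgHom.comp_apply, ← ha, hh_mk, Ideal.Quotient.mkₐ_eq_mk, ← map_sub]
    refine Ideal.mem_map_of_mem _ ?_
    have h1 := hψ x
    rw [← ha, hg_mk] at h1
    rw [← Ideal.Quotient.eq]
    exact h1.symm
  intro b
  obtain ⟨a, ha⟩ := Ideal.Quotient.mk_surjective (ψ b)
  refine ⟨a, ?_⟩
  have h1 := AlgHom.congr_fun heq b
  rw [AlgHom.comp_apply, ← ha, hh_mk, Ideal.Quotient.mkₐ_eq_mk] at h1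
  rw [← Ideal.Quotient.eq]
  exact h1.symm

/-- Let R → S be formally étale and J an ideal of S such that the composite R → S → S/J is surjective;
let I ⊆ R be its kernel, the preimage of J in R. Then the homomorphism of associated graded rings ⊕ₙ
Iⁿ/Iⁿ⁺¹ → ⊕ₙ Jⁿ/Jⁿ⁺¹ induced by R → S (which carries I into J) is bijective. -/
theorem result (R : Type u) [CommRing R] (S : Type u)
    [CommRing S] [Algebra R S] [Algebra.FormallyEtale R S] (J : Ideal S)
    (hJ : Function.Surjective (algebraMap R (S ⧸ J))) :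
    Function.Bijective (AssocGr.map (AssocGr.IsFiltHom.adic
      (Ideal.map_comap_le : (J.comap (algebraMap R S)).map (algebraMap R S) ≤ J))) := by
  have hA : ∀ n : ℕ, ∀ a : R, algebraMap R S a ∈ J ^ n → a ∈ (J.comap (algebraMap R S)) ^ n := by
    intro n
    rcases n with _ | n
    · intro a _
      rw [pow_zero, Ideal.one_eq_top]
      trivial
    · exact (key_succ R S J hJ n).1
  have hB : ∀ n : ℕ, ∀ b : S, ∃ a : R, algebraMap R S a - b ∈ J ^ n := by
    intro n
    rcases n with _ | n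
    · intro b
      exact ⟨0, by rw [pow_zero, Ideal.one_eq_top]; trivial⟩
    · exact (key_succ R S J hJ n).2
  refine Groth.Agent.Lib.Helper83.grMap_bijective_of_degreewise _ ?_ ?_
  · intro n a _ h
    exact hA (n + 1) a h
  · intro n b hb
    obtain ⟨a, ha⟩ := hB (n + 1) b
    refine ⟨a, ?_, ha⟩
    refine hA n a ?_
    have h1 : algebraMap R S a = (algebraMap R S a - b) + b := by ring
    rw [h1]
    exact Ideal.add_mem _ (Ideal.pow_le_pow_right (Nat.le_succ n) ha) hb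

end Groth.Agent.S16452
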