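import Groth.Statements.S16454
import Groth.Agent.Lib.Helper54.LocalFlat2
import Mathlib.LinearAlgebra.TensorProduct.Quotient

set_option autoImplicit false
universe u
open TensorProduct
open EGA43

namespace Groth.Agent.S16454

open Function

section Aux

variable {A : Type u} [CommRing A] (I : Ideal A) (M : Type u) [AddCommGroup M] [Module A M]

/-- the inclusion `I^(n+1) → I^n` -/
noncomputable def incl (n : ℕ) : ↥((FiltBl.IdealFiltration.adic I).F (n + 1)) →ₗ[A]
    ↥((FiltBl.IdealFiltration.adic I).F n) :=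
  Submodule.inclusion ((FiltBl.IdealFiltration.adic I).antitone (Nat.le_succ n))

theorem subtype_comp_incl (n : ℕ) :
    ((FiltBl.IdealFiltration.adic I).F n).subtype ∘ₗ incl I n =
      ((FiltBl.IdealFiltration.adic I).F (n + 1)).subtype := rfl

theorem tmul_mem_range (n : ℕ) (z : M) (hz : z ∈ (I • ⊤ : Submodule A M))
    (a : ↥((FiltBl.IdealFiltration.adic I).F n)) :
    a ⊗ₜ[A] z ∈ LinearMap.range ((incl I n).rTensor M) := by
  refine Submodule.smul_induction_on hz ?_ ?_
  · intro b hb m _
    have hmem : b * (a : A) ∈ (FiltBl.IdealFiltration.adic I).F (n + 1) := by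
      have h1 : (a : A) ∈ I ^ n := a.2
      change b * (a : A) ∈ I ^ (n + 1)
      rw [pow_succ']
      exact Ideal.mul_mem_mul hb h1
    refine ⟨(⟨b * (a : A), hmem⟩ : ↥((FiltBl.IdealFiltration.adic I).F (n + 1))) ⊗ₜ[A] m, ?_⟩
    rw [LinearMap.rTensor_tmul, TensorProduct.tmul_smul, TensorProduct.smul_tmul']
    congr 1
  · intro z₁ z₂ h₁ h₂
    rw [TensorProduct.tmul_add]
    exact Submodule.add_mem _ h₁ h₂

theorem step (hinj' : ∀ (n k : ℕ) (a : Fin k → ↥((FiltBl.IdealFiltration.adic I).F n))
      (m : Fin k → M), (∑ i, (a i : A) • m i) = 0 →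
      (∑ i, (AssocGr.inDeg (FiltBl.IdealFiltration.adic I) n (a i)) ⊗ₜ[A]
          (Submodule.Quotient.mk (m i)) :
        ↥(AssocGr.gr (FiltBl.IdealFiltration.adic I) n) ⊗[A] (M ⧸ (I • (⊤ : Submodule A M)))) = 0)
    (n : ℕ) (h : Injective (((FiltBl.IdealFiltration.adic I).F (n + 1)).subtype.rTensor M)) :
    Injective (((FiltBl.IdealFiltration.adic I).F n).subtype.rTensor M) := by
  rw [injective_iff_map_eq_zero]
  intro x hx
  obtain ⟨k, a, m, rfl⟩ := TensorProduct.exists_sum_tmul_eq x
  have h0 : (∑ i, (a i : A) • m i) = 0 := by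
    have := congrArg (TensorProduct.lid A M) hx
    rw [map_sum, map_zero, map_sum] at this
    simpa using this
  have hρ := hinj' n k a m h0
  -- the kernel of `ρ`
  have hker := TensorProduct.map_ker (R := A)
    (f := (LinearMap.ker (AssocGr.inDeg (FiltBl.IdealFiltration.adic I) n)).subtype)
    (g := AssocGr.inDeg (FiltBl.IdealFiltration.adic I) n)
    (LinearMap.exact_subtype_ker_map _) (AssocGr.inDeg_surjective _ n)
    (f' := (I • ⊤ : Submodule A M).subtype) (g' := (I • ⊤ : Submodule A M).mkQ)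
    (LinearMap.exact_subtype_mkQ _) (Submodule.mkQ_surjective _)
  have hmem : (∑ j, a j ⊗ₜ[A] m j) ∈ LinearMap.ker (TensorProduct.map
      (AssocGr.inDeg (FiltBl.IdealFiltration.adic I) n) (I • ⊤ : Submodule A M).mkQ) := by
    rw [LinearMap.mem_ker, map_sum]
    exact hρ
  rw [hker] at hmem
  have hle : LinearMap.range (LinearMap.lTensor ↥((FiltBl.IdealFiltration.adic I).F n)
        (I • ⊤ : Submodule A M).subtype) ⊔
      LinearMap.range (LinearMap.rTensor M
        (LinearMap.ker (AssocGr.inDeg (FiltBl.IdealFiltration.adic I) n)).subtype) ≤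
      LinearMap.range ((incl I n).rTensor M) := by
    apply sup_le
    · rintro _ ⟨w, rfl⟩
      induction w using TensorProduct.induction_on with
      | zero => rw [map_zero]; exact Submodule.zero_mem _
      | tmul a z =>
        rw [LinearMap.lTensor_tmul]
        exact tmul_mem_range I M n z.1 z.2 a
      | add w₁ w₂ h₁ h₂ =>
        rw [map_add]
        exact Submodule.add_mem _ h₁ h₂
    · let θ : ↥(LinearMap.ker (AssocGr.inDeg (FiltBl.IdealFiltration.adic I) n)) →ₗ[A]
          ↥((FiltBl.IdealFiltration.adic I).F (n + 1)) :=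
        { toFun := fun a => ⟨(a.1 : A),
            (AssocGr.inDeg_eq_zero_iff (FiltBl.IdealFiltration.adic I) n a.1).1 a.2⟩
          map_add' := fun _ _ => rfl
          map_smul' := fun _ _ => rfl }
      have hθ : (incl I n) ∘ₗ θ =
          (LinearMap.ker (AssocGr.inDeg (FiltBl.IdealFiltration.adic I) n)).subtype := rfl
      rw [← hθ, LinearMap.rTensor_comp]
      exact LinearMap.range_comp_le_range _ _
  obtain ⟨y, hy⟩ := hle hmem
  rw [← hy] at hx ⊢
  rw [← LinearMap.comp_apply, ← LinearMap.rTensor_comp, subtype_comp_incl] at hx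
  have hy0 : y = 0 := (injective_iff_map_eq_zero _).1 h y hx
  rw [hy0, map_zero]

end Aux

/-- Let A be a commutative ring, I a nilpotent ideal of A and M an A-module, and form the associated
graded ring G = ⊕ₙ Iⁿ/Iⁿ⁺¹ and the associated graded G-module gr_I(M) = ⊕ₙ IⁿM/Iⁿ⁺¹M. Assume that
M/IM is flat over A/I and that the canonical homomorphism (M/IM) ⊗ G → gr_I(M), [x] ⊗ [a] ↦ [a·x],
is injective: degree by degree, whenever elements a_i ∈ Iⁿ and x_i ∈ M satisfy Σ_i [a_i]·[x_i] = 0
in gr_I(M) (that is Σ a_i x_i ∈ Iⁿ⁺¹M), the element Σ_i [a_i] ⊗ [x_i] of (Iⁿ/Iⁿ⁺¹) ⊗ (M/IM) is zero.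
Then M is a flat A-module. (The published lemma is stated for any finite decreasing multiplicative
filtration A = J₀ ⊇ J₁ ⊇ … ⊇ J_N₊₁ = 0 of A with M filtered by the submodules JₙM; this row is its
case Jₙ = Iⁿ.) -/
theorem result (A : Type u) [CommRing A] (I : Ideal A)
    (hI : IsNilpotent I) (M : Type u) [AddCommGroup M] [Module A M]
    (hflat : Module.Flat (A ⧸ I) (M ⧸ (I • (⊤ : Submodule A M))))
    (hinj : ∀ (n k : ℕ) (a : Fin k → ↥((FiltBl.IdealFiltration.adic I).F n))
      (x : Fin k → ↥((Rees.powFilt I M).N 0)),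
      (∑ i, (AssocGr.inDeg (FiltBl.IdealFiltration.adic I) n (a i) :
          AssocGr.GrRing (FiltBl.IdealFiltration.adic I)) •
        (AssocGr.inDegM (Rees.powFilt I M) 0 (x i) : AssocGr.GrMod (Rees.powFilt I M))) = 0 →
      (∑ i, (AssocGr.inDeg (FiltBl.IdealFiltration.adic I) n (a i)) ⊗ₜ[A]
          (Submodule.Quotient.mk (x i : M)) :
        ↥(AssocGr.gr (FiltBl.IdealFiltration.adic I) n) ⊗[A] (M ⧸ (I • (⊤ : Submodule A M)))) = 0) :
    Module.Flat A M := by
  classical
  -- reformulate `hinj`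
  have h0 : ∀ m : M, m ∈ (Rees.powFilt I M).N 0 := by
    intro m
    change m ∈ I ^ 0 • (⊤ : Submodule A M)
    simp
  have hinj' : ∀ (n k : ℕ) (a : Fin k → ↥((FiltBl.IdealFiltration.adic I).F n))
      (m : Fin k → M), (∑ i, (a i : A) • m i) = 0 →
      (∑ i, (AssocGr.inDeg (FiltBl.IdealFiltration.adic I) n (a i)) ⊗ₜ[A]
          (Submodule.Quotient.mk (m i)) :
        ↥(AssocGr.gr (FiltBl.IdealFiltration.adic I) n) ⊗[A] (M ⧸ (I • (⊤ : Submodule A M)))) = 0 := by
    intro n k a m hsum
    apply hinj n k a (fun i => ⟨m i, h0 (m i)⟩)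
    simp only [AssocGr.inDeg_smul_inDegM]
    rw [← AddSubmonoidClass.coe_finsetSum, ← map_sum]
    have gen : ∀ (y : Fin k → ↥((Rees.powFilt I M).N (n + 0))), (∑ i, (y i : M)) = 0 →
        ((AssocGr.inDegM (Rees.powFilt I M) (n + 0) (∑ i, y i) :
          ↥(AssocGr.grM (Rees.powFilt I M) (n + 0))) : AssocGr.GrMod (Rees.powFilt I M)) = 0 := by
      intro y hy
      have : (∑ i, y i) = 0 := by
        apply Subtype.ext
        rw [AddSubmonoidClass.coe_finsetSum]
        exact hy
      rw [this, map_zero]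
      rfl
    apply gen
    exact hsum
  obtain ⟨N, hN⟩ := hI
  have claim : ∀ d n : ℕ, N ≤ n + d →
      Function.Injective (((FiltBl.IdealFiltration.adic I).F n).subtype.rTensor M) := by
    intro d
    induction d with
    | zero =>
      intro n hn
      have hbot : (FiltBl.IdealFiltration.adic I).F n = ⊥ := by
        change I ^ n = ⊥
        rw [← Ideal.zero_eq_bot]
        exact pow_eq_zero_of_le hn hN
      have hsub : Subsingleton ↥((FiltBl.IdealFiltration.adic I).F n) := by
        rw [hbot]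
        infer_instance
      have : Subsingleton (↥((FiltBl.IdealFiltration.adic I).F n) ⊗[A] M) := inferInstance
      exact Function.injective_of_subsingleton _
    | succ d ih =>
      intro n hn
      exact step I M hinj' n (ih (n + 1) (by omega))
  have h1 : Function.Injective (((FiltBl.IdealFiltration.adic I).F 1).subtype.rTensor M) :=
    claim N 1 (by omega)
  have hI1 : (FiltBl.IdealFiltration.adic I).F 1 = I := pow_one I
  have htor : Function.Injective (I.subtype.rTensor M) := by
    have key : ∀ K : Ideal A, K = I → Function.Injective (K.subtype.rTensor M) →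
        Function.Injective (I.subtype.rTensor M) := by
      rintro K rfl h
      exact h
    exact key _ hI1 h1
  let e : (A ⧸ I) ⊗[A] M ≃ₗ[A ⧸ I] M ⧸ (I • (⊤ : Submodule A M)) :=
    (TensorProduct.quotTensorEquivQuotSMul M I).extendScalarsOfSurjective
      Ideal.Quotient.mk_surjective
  haveI : Module.Flat (A ⧸ I) ((A ⧸ I) ⊗[A] M) := Module.Flat.of_linearEquiv e
  exact Groth.Agent.Lib.Helper54.LocalFlat.flat_of_isNilpotent I M ⟨N, hN⟩ htor

end Groth.Agent.S16454
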