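import Groth.Statements.S16456
import Groth.Agent.Lib.Helper83.GrMapCrit
import Groth.Agent.Lib.Helper83.AdicConv

set_option autoImplicit false
universe u
open AdicGr

namespace Groth.Agent.S16456

open Groth.Agent.Lib.Helper83 in
theorem exists_preimage (A : Type u) [CommRing A] (B : Type u)
    [CommRing B] (φ : A →+* B) (I : Ideal A) (J : Ideal B) (hIJ : I.map φ ≤ J)
    [IsPrecomplete I A] [IsHausdorff J B]
    (H : ∀ n : ℕ, ∀ b ∈ J ^ n, ∃ a ∈ I ^ n, φ a - b ∈ J ^ (n + 1)) :
    ∀ n : ℕ, ∀ b ∈ J ^ n, ∃ a ∈ I ^ n, φ a = b := by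
  let _ : Module A B := Module.compHom B φ
  have hsmul : ∀ (a : A) (b : B), a • b = φ a * b := fun _ _ => rfl
  let F : I.Filtration B :=
    { N := fun n =>
        { carrier := ((J ^ n : Ideal B) : Set B)
          add_mem' := fun ha hb => (J ^ n).add_mem ha hb
          zero_mem' := (J ^ n).zero_mem
          smul_mem' := fun a b hb => (J ^ n).mul_mem_left (φ a) hb }
      mono := fun i b hb => Ideal.pow_le_pow_right (Nat.le_succ i) hb
      smul_le := fun i => by
        rw [Submodule.smul_le]
        intro a ha b hb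
        change φ a * b ∈ J ^ (i + 1)
        rw [pow_succ']
        exact Ideal.mul_mem_mul (hIJ (Ideal.mem_map_of_mem φ ha)) hb }
  have hFN : ∀ n (b : B), b ∈ F.N n ↔ b ∈ J ^ n := fun _ _ => Iff.rfl
  have hsep : ⨅ n, F.N n = ⊥ := by
    rw [eq_bot_iff]
    intro b hb
    rw [Submodule.mem_iInf] at hb
    rw [Submodule.mem_bot]
    refine IsHausdorff.haus' (I := J) b fun n => ?_
    rw [SModEq.sub_mem, sub_zero, smul_eq_mul, Ideal.mul_top]
    exact hb n
  intro n b hb
  obtain ⟨a, ha, hab⟩ := exists_eq_sum_of_step F hsep (ι := Fin 1) (fun _ => 0) (fun _ => (1 : B))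
    (fun _ => by rw [hFN, pow_zero, Ideal.one_eq_top]; trivial) (fun _ => True)
    (fun n m _ hm => by
      obtain ⟨a, ha, ham⟩ := H n m hm
      refine ⟨fun _ => a, fun _ => by simpa using ha, trivial, ?_⟩
      rw [hFN]
      simp only [Finset.univ_unique, Finset.sum_singleton, hsmul, mul_one]
      rw [← neg_sub]
      exact (Ideal.neg_mem_iff _).mpr ham) n b trivial hb
  refine ⟨a 0, by simpa using ha 0, ?_⟩
  rw [hab]
  simp [hsmul]

/-- Let φ : A → B be a ring homomorphism, I ⊆ A and J ⊆ B ideals with φ(I)B ⊆ J, so that φ is a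
homomorphism of filtered rings for the I-adic and J-adic filtrations. Assume that A is I-adically
complete in the sense that every I-adically Cauchy sequence has a limit, that B is J-adically
separated, and that the induced homomorphism of associated graded rings ⊕ₙ Iⁿ/Iⁿ⁺¹ → ⊕ₙ Jⁿ/Jⁿ⁺¹ is
surjective. Then φ is surjective, φ is strict (Jⁿ = φ(Iⁿ)B for all n, that is J = φ(I)B), and B is
J-adically separated and complete. (The published statement is for a homomorphism of filtered
modules over a filtered ring, with arbitrary compatible filtrations; this row is its case of a ring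
homomorphism with adic filtrations.) -/
theorem result (A : Type u) [CommRing A] (B : Type u)
    [CommRing B] (φ : A →+* B) (I : Ideal A) (J : Ideal B) (hIJ : I.map φ ≤ J)
    [IsPrecomplete I A] [IsHausdorff J B]
    (h : Function.Surjective (AssocGr.map (AssocGr.IsFiltHom.adic hIJ))) :
    Function.Surjective φ ∧ I.map φ = J ∧ IsAdicComplete J B := by
  have H := Groth.Agent.Lib.Helper83.degreewise_of_grMap_surjective _ h
  have key := exists_preimage A B φ I J hIJ H
  have hmapI : ∀ n : ℕ, ∀ a ∈ I ^ n, φ a ∈ J ^ n := fun n a ha =>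
    (AssocGr.IsFiltHom.adic hIJ).apply_mem (n := n) ha
  refine ⟨?_, ?_, ?_⟩
  · intro b
    obtain ⟨a, _, hab⟩ := key 0 b (by rw [pow_zero, Ideal.one_eq_top]; trivial)
    exact ⟨a, hab⟩
  · refine le_antisymm hIJ fun b hb => ?_
    obtain ⟨a, ha, hab⟩ := key 1 b (by rwa [pow_one])
    rw [pow_one] at ha
    rw [← hab]
    exact Ideal.mem_map_of_mem φ ha
  · refine { toIsHausdorff := inferInstance, toIsPrecomplete := ⟨fun f hf => ?_⟩ }
    have hc : ∀ k : ℕ, ∃ c ∈ I ^ k, φ c = f (k + 1) - f k := by
      intro k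
      refine key k _ ?_
      have := hf (Nat.le_succ k)
      rw [SModEq.sub_mem, smul_eq_mul, Ideal.mul_top] at this
      rw [← neg_sub]
      exact (Ideal.neg_mem_iff _).mpr this
    choose c hcI hcφ using hc
    obtain ⟨a0, _, ha0⟩ := key 0 (f 0) (by rw [pow_zero, Ideal.one_eq_top]; trivial)
    obtain ⟨L, hL⟩ := Groth.Agent.Lib.Helper83.exists_series_limit (I := I) c 0 0
      (fun k => by simpa using hcI k)
    have hfk : ∀ k, f k = φ (a0 + ∑ j ∈ Finset.range k, c j) := by
      intro k
      induction k with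
      | zero => simp [ha0]
      | succ k ih =>
        rw [Finset.sum_range_succ, ← add_assoc, map_add, ← ih, hcφ]
        ring
    refine ⟨φ (a0 + L), fun k => ?_⟩
    rw [SModEq.sub_mem, smul_eq_mul, Ideal.mul_top, hfk k, ← map_sub]
    have h1 := hL k
    simp only [zero_add, Nat.sub_zero] at h1
    have h2 : a0 + ∑ j ∈ Finset.range k, c j - (a0 + L) = -(L - ∑ j ∈ Finset.range k, c j) := by
      ring
    rw [h2]
    exact hmapI k _ ((Ideal.neg_mem_iff _).mpr h1)

end Groth.Agent.S16456
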