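import Groth.Statements.S16458
import Groth.Agent.Lib.Helper83.GrModApprox

set_option autoImplicit false
universe u
open AdicGr

namespace Groth.Agent.S16458

/-- Let A be a commutative ring and I an ideal such that every I-adically Cauchy sequence in A has a
limit, and let M be an A-module with an I-filtration M = N₀ ⊇ N₁ ⊇ … (I·Nₙ ⊆ Nₙ₊₁) which is
separated, ⋂ₙ Nₙ = 0. If the associated graded module gr(M) = ⊕ₙ Nₙ/Nₙ₊₁ is finitely generated as a
module over the associated graded ring ⊕ₙ Iⁿ/Iⁿ⁺¹, then M is a finitely generated A-module. (The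
published statement allows any complete filtered ring and also concludes that M is complete for its
filtration; this row takes the I-adic filtration on A and states the finiteness.) -/
theorem result (A : Type u) [CommRing A] (I : Ideal A)
    [IsPrecomplete I A] (M : Type u) [AddCommGroup M] [Module A M] (F : I.Filtration M)
    (h0 : F.N 0 = ⊤) (hsep : ⨅ n, F.N n = ⊥)
    [Module.Finite (AssocGr.GrRing (FiltBl.IdealFiltration.adic I)) (AssocGr.GrMod F)] :
    Module.Finite A M := by
  obtain ⟨r, s, hs⟩ := Module.Finite.exists_fin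
    (R := AssocGr.GrRing (FiltBl.IdealFiltration.adic I)) (M := AssocGr.GrMod F)
  have hy : ∀ j, ∃ y : AssocGr.ReesM F, AssocGr.mkGM F y = s j :=
    fun j => AssocGr.mkGM_surjective F (s j)
  choose y hy using hy
  let supp : Fin r → Finset ℕ := fun j =>
    ((AssocGr.toReesM F).symm (y j) : PolynomialModule A M).coeff.support
  let d : ((j : Fin r) × ↥(supp j)) → ℕ := fun p => p.2.1
  let x : (p : (j : Fin r) × ↥(supp j)) → ↥(F.N (d p)) := fun p =>
    ⟨AssocGr.ReesM.coeff F (y p.1) p.2.1, AssocGr.ReesM.coeff_mem F _ _⟩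
  have hgen : Submodule.span (AssocGr.GrRing (FiltBl.IdealFiltration.adic I))
      (Set.range fun p => (AssocGr.inDegM F (d p) (x p) : AssocGr.GrMod F)) = ⊤ := by
    rw [eq_top_iff, ← hs, Submodule.span_le]
    rintro _ ⟨j, rfl⟩
    rw [← hy j, ← AssocGr.sum_termM F (y j), map_sum]
    refine Submodule.sum_mem _ fun n hn => ?_
    exact Submodule.subset_span ⟨⟨j, ⟨n, hn⟩⟩, rfl⟩
  have key := Groth.Agent.Lib.Helper83.exists_eq_sum_of_span_eq_top F hsep d x hgen
  have hspan : Submodule.span A (Set.range fun p => ((x p : ↥(F.N (d p))) : M)) = ⊤ := by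
    rw [eq_top_iff]
    intro m _
    obtain ⟨a, _, hm⟩ := key 0 m (by rw [h0]; trivial)
    rw [hm]
    exact Submodule.sum_mem _ fun i _ =>
      Submodule.smul_mem _ _ (Submodule.subset_span ⟨i, rfl⟩)
  exact ⟨hspan ▸ Submodule.fg_span (Set.finite_range _)⟩

end Groth.Agent.S16458
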