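import Groth.Statements.S16459
import Groth.Agent.Lib.Helper83.GrModApprox

set_option autoImplicit false
universe u
open AdicGr

namespace Groth.Agent.S16459

open Groth.Agent.Lib.Helper83 in
theorem key (A : Type u) [CommRing A]
    (I : Ideal A) [IsPrecomplete I A] (M : Type u) [AddCommGroup M] [Module A M] (F : I.Filtration M)
    (hsep : ⨅ n, F.N n = ⊥)
    [IsNoetherian (AssocGr.GrRing (FiltBl.IdealFiltration.adic I)) (AssocGr.GrMod F)]
    (M' : Submodule A M) :
    ∃ (ι : Type u) (_ : Fintype ι) (d : ι → ℕ) (x : ι → M),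
      (∀ i, x i ∈ M') ∧ (∀ i, x i ∈ F.N (d i)) ∧ ∀ n, ∀ m ∈ M', m ∈ F.N n →
        ∃ a : ι → A, (∀ i, a i ∈ I ^ (n - d i)) ∧ m = ∑ i, a i • x i := by
  let S : Set (AssocGr.GrMod F) :=
    {e | ∃ (n : ℕ) (m : F.N n), (m : M) ∈ M' ∧ (AssocGr.inDegM F n m : AssocGr.GrMod F) = e}
  have hfg : (Submodule.span (AssocGr.GrRing (FiltBl.IdealFiltration.adic I)) S).FG :=
    IsNoetherian.noetherian _
  obtain ⟨s', hs'S, hs'⟩ := (Submodule.fg_span_iff_fg_span_finset_subset S).mp hfg
  have hch : ∀ e : ↥s', ∃ (n : ℕ) (m : F.N n), (m : M) ∈ M' ∧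
      (AssocGr.inDegM F n m : AssocGr.GrMod F) = e := fun e => hs'S e.2
  choose d x hxM' hxe using hch
  refine ⟨↥s', inferInstance, d, fun i => (x i : M), hxM', fun i => (x i).2, ?_⟩
  have hrange : Set.range (fun i : ↥s' => (AssocGr.inDegM F (d i) (x i) : AssocGr.GrMod F)) =
      ↑s' := by
    ext e
    constructor
    · rintro ⟨i, rfl⟩
      dsimp only
      rw [hxe i]
      exact i.2
    · intro he
      exact ⟨⟨e, he⟩, hxe ⟨e, he⟩⟩
  refine exists_eq_sum_of_step F hsep d (fun i => (x i : M)) (fun i => (x i).2) (· ∈ M')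
    (fun n m hmM' hm => ?_)
  obtain ⟨a, ha, ham⟩ := exists_approx_of_mem_span F d x n ⟨m, hm⟩ (by
    rw [hrange, ← hs']
    exact Submodule.subset_span ⟨n, ⟨m, hm⟩, hmM', rfl⟩)
  exact ⟨a, ha, M'.sub_mem hmM' (M'.sum_mem fun i _ => M'.smul_mem _ (hxM' i)), ham⟩

/-- Let A be a commutative ring and I an ideal such that every I-adically Cauchy sequence in A has a
limit, and let M be an A-module with an I-filtration M = N₀ ⊇ N₁ ⊇ … (I·Nₙ ⊆ Nₙ₊₁) which is
separated, ⋂ₙ Nₙ = 0. If the associated graded module gr(M) = ⊕ₙ Nₙ/Nₙ₊₁ is a Noetherian module over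
the associated graded ring ⊕ₙ Iⁿ/Iⁿ⁺¹, then M is a Noetherian A-module and every submodule M' of M
is closed for the topology defined by the filtration, that is ⋂ₙ (M' + Nₙ) = M'. (The published
statement allows any complete filtered ring; this row takes the I-adic filtration on A.) -/
theorem result (A : Type u) [CommRing A]
    (I : Ideal A) [IsPrecomplete I A] (M : Type u) [AddCommGroup M] [Module A M] (F : I.Filtration M)
    (h0 : F.N 0 = ⊤) (hsep : ⨅ n, F.N n = ⊥)
    [IsNoetherian (AssocGr.GrRing (FiltBl.IdealFiltration.adic I)) (AssocGr.GrMod F)] :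
    IsNoetherian A M ∧ ∀ M' : Submodule A M, ⨅ n, M' ⊔ F.N n = M' := by
  refine ⟨?_, fun M' => ?_⟩
  · rw [isNoetherian_def]
    intro M'
    obtain ⟨ι, _, d, x, hxM', hxN, hx⟩ := key A I M F hsep M'
    have : M' = Submodule.span A (Set.range x) := by
      apply le_antisymm
      · intro m hm
        obtain ⟨a, _, ham⟩ := hx 0 m hm (by rw [h0]; trivial)
        rw [ham]
        exact Submodule.sum_mem _ fun i _ =>
          Submodule.smul_mem _ _ (Submodule.subset_span ⟨i, rfl⟩)
      · rw [Submodule.span_le]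
        rintro _ ⟨i, rfl⟩
        exact hxM' i
    rw [this]
    exact Submodule.fg_span (Set.finite_range x)
  · refine le_antisymm ?_ (le_iInf fun n => le_sup_left)
    intro m hm
    rw [Submodule.mem_iInf] at hm
    obtain ⟨ι, _, d, x, hxM', hxN, hx⟩ := key A I M F hsep M'
    have hdec : ∀ n, ∃ m' ∈ M', ∃ r ∈ F.N n, m' + r = m := fun n => Submodule.mem_sup.mp (hm n)
    choose m' hm' r hr hsum using hdec
    have hdiff : ∀ n, ∃ a : ι → A, (∀ i, a i ∈ I ^ (n - d i)) ∧
        m' (n + 1) - m' n = ∑ i, a i • x i := by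
      intro n
      refine hx n _ (M'.sub_mem (hm' _) (hm' _)) ?_
      have h1 : m' (n + 1) - m' n = r n - r (n + 1) := by
        have e1 := hsum n
        have e2 := hsum (n + 1)
        rw [sub_eq_sub_iff_add_eq_add, e2, add_comm, e1]
      rw [h1]
      exact Submodule.sub_mem _ (hr n) (F.mono n (hr (n + 1)))
    choose a haI ha using hdiff
    have hL : ∀ i, ∃ L : A, ∀ K, L - ∑ j ∈ Finset.range K, a j i ∈ I ^ (0 + K - d i) := fun i =>
      Groth.Agent.Lib.Helper83.exists_series_limit (fun j => a j i) 0 (d i)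
        (fun k => by simpa using haI k i)
    choose L hL using hL
    have hmK : ∀ K, m' K = m' 0 + ∑ i, (∑ j ∈ Finset.range K, a j i) • x i := by
      intro K
      induction K with
      | zero => simp
      | succ K ih =>
        simp only [Finset.sum_range_succ, add_smul, Finset.sum_add_distrib]
        rw [← add_assoc, ← ih, ← ha K]
        abel
    have hmem : ∀ K, m - (m' 0 + ∑ i, L i • x i) ∈ F.N K := by
      intro K
      have h1 : m - (m' 0 + ∑ i, L i • x i) =
          r K - ∑ i, (L i - ∑ j ∈ Finset.range K, a j i) • x i := by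
        rw [← hsum K, hmK K]
        simp only [sub_smul, Finset.sum_sub_distrib]
        abel
      rw [h1]
      refine Submodule.sub_mem _ (hr K) (Submodule.sum_mem _ fun i _ => ?_)
      have h2 := F.pow_smul_le (0 + K - d i) (d i) (Submodule.smul_mem_smul (hL i K) (hxN i))
      exact F.antitone (by omega) h2
    have h0' : m - (m' 0 + ∑ i, L i • x i) ∈ ⨅ n, F.N n := (Submodule.mem_iInf _).mpr hmem
    rw [hsep, Submodule.mem_bot, sub_eq_zero] at h0'
    rw [h0']
    exact M'.add_mem (hm' 0) (M'.sum_mem fun i _ => M'.smul_mem _ (hxM' i))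

end Groth.Agent.S16459
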