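import Groth.Statements.S1646
import Groth.Agent.Lib.QCoh.Helper50_GlobGen

set_option autoImplicit false
universe u
open CategoryTheory CategoryTheory.Limits AlgebraicGeometry
open Variety

namespace Groth.Agent.S1646

/-- Let A → A' be a faithfully flat ring map, f : X → Spec A a quasi-compact and quasi-separated
morphism, and F a quasi-coherent O_X-module. F is generated by its global sections exactly when its
pullback to X ×_{Spec A} Spec A' is generated by its global sections. (Quasi-compactness and
quasi-separatedness of f are assumed here on top of the published hypotheses.) -/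
theorem result (A A' : Type u) [CommRing A] [CommRing A'] [Algebra A A']
    [Module.FaithfullyFlat A A'] (X : Scheme.{u}) (f : X ⟶ Spec (CommRingCat.of A)) [QuasiCompact f] [QuasiSeparated f]
    (F : X.Modules) (hF : Coh.IsQCoh F) :
    Curv2.IsGloballyGenerated F ↔ Curv2.IsGloballyGenerated
      ((Scheme.Modules.pullback (pullback.fst f (Spec.map (CommRingCat.ofHom (algebraMap A A'))))).obj F) := by
  have hFq : F.IsQuasicoherent := hF
  let g : Spec (CommRingCat.of A') ⟶ Spec (CommRingCat.of A) :=
    Spec.map (CommRingCat.ofHom (algebraMap A A'))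
  have hff : (CommRingCat.ofHom (algebraMap A A')).hom.FaithfullyFlat :=
    (RingHom.faithfullyFlat_algebraMap_iff).2 ‹_›
  obtain ⟨hflat, hsurj⟩ := (flat_and_surjective_SpecMap_iff _).2 hff
  have hflat' : Flat g := hflat
  have hsurj' : Surjective g := hsurj
  let g' : Limits.pullback f g ⟶ X := Limits.pullback.fst f g
  have hpb : IsPullback g' (Limits.pullback.snd f g) f g := IsPullback.of_hasPullback f g
  constructor
  · rintro ⟨ι, p, hp⟩
    let p₀ : Groth.Agent.Lib.QCoh.freeModule X ι ⟶ F := p
    have hp₀ : Epi p₀ := hp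
    have : (Scheme.Modules.pullback g').IsLeftAdjoint :=
      (Scheme.Modules.pullbackPushforwardAdjunction g').isLeftAdjoint
    have h1 : Epi ((Scheme.Modules.pullback g').map p₀) := inferInstance
    have h2 : Epi ((Groth.Agent.Lib.QCoh.pullbackFreeIso g' ι).inv ≫
        (Scheme.Modules.pullback g').map p₀) := epi_comp _ _
    exact ⟨ι, (Groth.Agent.Lib.QCoh.pullbackFreeIso g' ι).inv ≫ (Scheme.Modules.pullback g').map p₀,
      h2⟩
  · rintro ⟨ι', p', hp'⟩
    let p₀ : Groth.Agent.Lib.QCoh.freeModule _ ι' ⟶
      (Scheme.Modules.pullback g').obj F := p'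
    have hp₀ : Epi p₀ := hp'
    have key : Epi (Groth.Agent.Lib.QCoh.canonicalFreeHom F) := by
      apply Groth.Agent.Lib.QCoh.epi_of_epi_pullback_map g'
      have h1 : Function.Surjective
          (((Scheme.Modules.pullback g').map (Groth.Agent.Lib.QCoh.canonicalFreeHom F)).app ⊤) :=
        Groth.Agent.Lib.QCoh.surjective_pullback_map_app_top f g g' (Limits.pullback.snd f g) hpb
          (Groth.Agent.Lib.QCoh.canonicalFreeHom F)
          (Groth.Agent.Lib.QCoh.canonicalFreeHom_app_top_surjective F)
      exact Groth.Agent.Lib.QCoh.epi_of_surjective_top_of_epi_free _ h1 p₀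
    exact ⟨Γ(F, ⊤), Groth.Agent.Lib.QCoh.canonicalFreeHom F, key⟩

end Groth.Agent.S1646
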