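import Groth.Statements.S16460
-- import your own Groth.Agent.* helpers here

set_option autoImplicit false
universe u
open AdicGr

namespace Groth.Agent.S16460


/-- a nonzero element has an order: the largest `m` with `a ∈ F m`. -/
theorem exists_order {A : Type u} [CommRing A] (𝓕 : FiltBl.IdealFiltration A)
    (hsep : ⨅ n, 𝓕.F n = ⊥) {a : A} (ha : a ≠ 0) :
    ∃ m : ℕ, a ∈ 𝓕.F m ∧ a ∉ 𝓕.F (m + 1) := by
  classical
  have hex : ∃ n, a ∉ 𝓕.F n := by
    by_contra hcon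
    push Not at hcon
    apply ha
    have : a ∈ ⨅ n, 𝓕.F n := by
      rw [Ideal.mem_iInf]; exact hcon
    rw [hsep] at this
    simpa using this
  have h0 : Nat.find hex ≠ 0 := by
    intro h0
    have := Nat.find_spec hex
    rw [h0, 𝓕.zero_eq] at this
    exact this trivial
  obtain ⟨m, hm⟩ := Nat.exists_eq_succ_of_ne_zero h0
  refine ⟨m, ?_, ?_⟩
  · by_contra hcon
    have := Nat.find_min' hex hcon
    omega
  · have := Nat.find_spec hex
    rw [hm] at this
    exact this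

/-- Let A be a commutative ring with a decreasing filtration by ideals A = F₀ ⊇ F₁ ⊇ F₂ ⊇ … satisfying
F_m·F_n ⊆ F_{m+n}, and assume the filtration is separated, ⋂ₙ Fₙ = 0. If the associated graded ring
⊕ₙ Fₙ/Fₙ₊₁ is an integral domain, then A is an integral domain. -/
theorem result (A : Type u) [CommRing A]
    (𝓕 : FiltBl.IdealFiltration A) (hsep : ⨅ n, 𝓕.F n = ⊥) [IsDomain (AssocGr.GrRing 𝓕)] :
    IsDomain A := by
  have hnt : Nontrivial A := by
    by_contra hcon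
    rw [not_nontrivial_iff_subsingleton] at hcon
    have h1 : (1 : AssocGr.GrRing 𝓕) = 0 := by
      rw [← map_one (algebraMap A (AssocGr.GrRing 𝓕)), ← map_zero (algebraMap A (AssocGr.GrRing 𝓕))]
      congr 1
      exact Subsingleton.elim _ _
    exact one_ne_zero h1
  have hnzd : NoZeroDivisors A := by
    refine ⟨fun {a b} hab => ?_⟩
    by_contra hcon
    push Not at hcon
    obtain ⟨ha, hb⟩ := hcon
    obtain ⟨m, hm1, hm2⟩ := exists_order 𝓕 hsep ha
    obtain ⟨n, hn1, hn2⟩ := exists_order 𝓕 hsep hb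
    have h1 : (AssocGr.inDeg 𝓕 m ⟨a, hm1⟩ : AssocGr.GrRing 𝓕) ≠ 0 := by
      intro h
      rw [Submodule.coe_eq_zero, AssocGr.inDeg_eq_zero_iff] at h
      exact hm2 h
    have h2 : (AssocGr.inDeg 𝓕 n ⟨b, hn1⟩ : AssocGr.GrRing 𝓕) ≠ 0 := by
      intro h
      rw [Submodule.coe_eq_zero, AssocGr.inDeg_eq_zero_iff] at h
      exact hn2 h
    have h3 := AssocGr.coe_inDeg_mul 𝓕 m n ⟨a, hm1⟩ ⟨b, hn1⟩
    have h4 : (AssocGr.inDeg 𝓕 (m + n) ⟨(⟨a, hm1⟩ : 𝓕.F m) * (⟨b, hn1⟩ : 𝓕.F n),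
        𝓕.mul_le m n (Ideal.mul_mem_mul hm1 hn1)⟩ : AssocGr.GrRing 𝓕) = 0 := by
      rw [Submodule.coe_eq_zero, AssocGr.inDeg_eq_zero_iff]
      change a * b ∈ _
      rw [hab]
      exact Ideal.zero_mem _
    rw [h4] at h3
    exact (mul_ne_zero h1 h2) h3
  exact { }

end Groth.Agent.S16460
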