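import Groth.Statements.S16462
import Groth.Agent.Lib.Cohomology.helper5_HomologyComparison
import Groth.Agent.Lib.Cohomology.helper5_HHLES
import Groth.Agent.Lib.Helper47.RDerLES
import Groth.Agent.Lib.Cohomology.Helper3_Flasque
import Groth.Agent.Lib.Helper19.CechPushHU
import Groth.Agent.Lib.Helper19.CechMod
import Groth.Agent.Lib.Cohomology.helper5_SiteRpushSheafify
import Groth.Agent.S6166
import Groth.Agent.S0030
import Groth.Agent.S0028

set_option autoImplicit false
universe u
open Coherent

namespace Groth.Agent.S16462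

section Aux

open CategoryTheory CategoryTheory.Limits AlgebraicGeometry AlgebraicGeometry.Scheme.Modules
  TopologicalSpace Opposite
open Groth.Agent.Lib.Cohomology.HHLES Groth.Agent.Lib.Cohomology.HomCmp

variable {X Y Z : Scheme.{u}}

/-- the class of `O_Y`-modules whose underlying abelian sheaf is `g_*`-acyclic -/
def Acyc (g : Y ⟶ Z) (N : Y.Modules) : Prop :=
  ∀ a : ℕ, IsZero ((Coh.RpushAb g (a + 1)).obj (Coh.toAb N))

lemma epi_push_of_acyc (g : Y ⟶ Z) (S : ShortComplex Y.Modules) (hS : S.ShortExact)
    (h1 : Acyc g S.X₁) : Epi ((pushforward g).map S.g) := by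
  have hT := toAb_shortExact hS
  have hex := (Groth.Agent.Lib.Helper47.RDerLES.derivedLES (Coh.pushAb g)).exact₃ _ hT 0 1 rfl
  have hepi : Epi (((Coh.pushAb g).rightDerived 0).map (S.map (toAbF Y)).g) :=
    hex.epi_f ((h1 0).eq_of_tgt _ _)
  have hnat := (Coh.pushAb g).toRightDerivedZero.naturality (S.map (toAbF Y)).g
  have h2 : (Coh.pushAb g).map (S.map (toAbF Y)).g =
      ((Coh.pushAb g).toRightDerivedZero.app _ ≫
        ((Coh.pushAb g).rightDerived 0).map (S.map (toAbF Y)).g) ≫
        inv ((Coh.pushAb g).toRightDerivedZero.app _) := by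
    rw [← hnat, Category.assoc, IsIso.hom_inv_id, Category.comp_id]
  have h3 : Epi ((Coh.pushAb g).map (S.map (toAbF Y)).g) := by
    rw [h2]; infer_instance
  have h4 : Epi ((toAbF Z).map ((pushforward g).map S.g)) := h3
  have hfaith : (toAbF Z).Faithful :=
    inferInstanceAs ((SheafOfModules.toSheaf.{u} Z.ringCatSheaf).Faithful)
  exact (toAbF Z).epi_of_epi_map h4

theorem acycClass (g : Y ⟶ Z) : AcycClass (pushforward g) (Acyc g) where
  of_iso := by
    intro A A' e h a
    exact (h a).of_iso ((Coh.RpushAb g (a + 1)).mapIso ((toAbF Y).mapIso e.symm))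
  coker := by
    intro S hS h1 h2 a
    have hT := toAb_shortExact hS
    have hex := (Groth.Agent.Lib.Helper47.RDerLES.derivedLES (Coh.pushAb g)).exact₃ _ hT
      (a + 1) (a + 1 + 1) rfl
    exact hex.isZero_of_both_zeros ((h2 a).eq_of_src _ _) ((h1 (a + 1)).eq_of_tgt _ _)
  ext := by
    intro S hS h1 h3 a
    have hT := toAb_shortExact hS
    have hex := (Groth.Agent.Lib.Helper47.RDerLES.derivedLES (Coh.pushAb g)).exact₂ _ hT (a + 1)
    exact hex.isZero_of_both_zeros ((h1 a).eq_of_src _ _) ((h3 a).eq_of_tgt _ _)
  epi := epi_push_of_acyc g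

attribute [local instance] CategoryTheory.Limits.reflectsLimits_of_reflectsIsomorphisms in
instance pullType_pfl {X Y : TopCat.{u}} (f : X ⟶ Y) :
    PreservesFiniteLimits ((Opens.map f).sheafPullback (Type u)
      (Opens.grothendieckTopology Y) (Opens.grothendieckTopology X)) := by
  apply Functor.sheafPullbackConstruction.preservesFiniteLimits

/-- `f_*` of an injective module is `g_*`-acyclic -/
theorem acyc_push_injective (f : X ⟶ Y) (g : Y ⟶ Z) (I : X.Modules) [Injective I] :
    Acyc g ((pushforward f).obj I) := by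
  intro k
  have hI : @Injective (SheafOfModules.{u} X.ringCatSheaf) _ I := ‹Injective I›
  have hA : CohCx.IsTotallyAcyclic (Coh.toAb I) :=
    Groth.Agent.Lib.Helper19.CechMod.isTotallyAcyclic_toSheaf_of_injective X.ringCatSheaf I
  have hF : ∀ (U : Opens X) (q : ℕ), Subsingleton (CohSite.HU (Coh.toAb I) (q + 1) U) :=
    fun U q => Groth.Agent.Lib.Helper19.CechPushHU.hu_subsingleton_of_isTotallyAcyclic _ hA U q
  obtain ⟨e2⟩ := Groth.Agent.Lib.Cohomology.SiteRpushSh.rpush_iso_sheafify
    (Opens.grothendieckTopology Y) (Opens.grothendieckTopology Z) (Opens.map g.base) (k + 1)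
    ((CohSite.push (Opens.grothendieckTopology X) (Opens.grothendieckTopology Y)
      (Opens.map f.base)).obj (Coh.toAb I))
  refine IsZero.of_iso ?_ e2
  apply Functor.map_isZero
  apply Functor.isZero
  intro V
  have h6 := Groth.Agent.S6166.result (Opens.grothendieckTopology X) (Opens.grothendieckTopology Y)
    (Opens.map f.base) _ hF ((Opens.map g.base).obj V.unop) k
  exact @AddCommGrpCat.isZero_of_subsingleton _ h6

/-- `R^q f_* M` is `g_*`-acyclic for `g` affine, `f` qcqs, `M` quasi-coherent -/
theorem acyc_Rpush (f : X ⟶ Y) (g : Y ⟶ Z) [QuasiCompact f] [QuasiSeparated f] [IsAffineHom g]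
    [HasInjectiveResolutions X.Modules] (M : X.Modules) [Coh.IsQCoh M] (q : ℕ) :
    Acyc g ((Coh.Rpush f q).obj M) := by
  intro a
  have hq : Coh.IsQCoh ((Coh.Rpush f q).obj M) := Groth.Agent.S0030.result f M q
  exact Groth.Agent.S0028.result g ((Coh.Rpush f q).obj M) (a + 1) (Nat.succ_pos a)

theorem main (f : X ⟶ Y) (g : Y ⟶ Z)
    [QuasiCompact f] [QuasiSeparated f] [IsAffineHom g] [HasInjectiveResolutions X.Modules]
    (M : X.Modules) [Coh.IsQCoh M] (p : ℕ) :
    IsIso (CohBC.lerayEdgeOut f g p M) := by
  have hK : IsIso (RDer.homologyComparison (pushforward g)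
      (((pushforward f).mapHomologicalComplex _).obj (injectiveResolution M).cocomplex) p) := by
    apply isIso_homologyComparison (acycClass g)
    · intro n
      have : Injective ((injectiveResolution M).cocomplex.X n) := (injectiveResolution M).injective n
      exact acyc_push_injective f g _
    · intro n
      exact (acycClass g).of_iso ((injectiveResolution M).isoRightDerivedObj (pushforward f) n)
        (acyc_Rpush f g M n)
  unfold CohBC.lerayEdgeOut RDer.edgeOut
  have h1 : IsIso ((RDer.rightDerivedIso (pushforwardComp f g) p).inv.app M) := inferInstance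
  have h2 : IsIso ((pushforward g).map
      ((injectiveResolution M).isoRightDerivedObj (pushforward f) p).inv) := inferInstance
  have h3 : IsIso ((injectiveResolution M).isoRightDerivedObj
      (pushforward f ⋙ pushforward g) p).hom := inferInstance
  exact IsIso.comp_isIso' h1 (IsIso.comp_isIso' h3 (IsIso.comp_isIso' hK h2))

end Aux

open CategoryTheory AlgebraicGeometry AlgebraicGeometry.Scheme.Modules in
/-- Let f : X → Y be a quasi-compact quasi-separated morphism of schemes, g : Y → Z an affine morphism
and M a quasi-coherent O_X-module. Then for every p ≥ 0 the canonical edge morphism R^p (g ∘ f)_* M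
→ g_*(R^p f_* M) is an isomorphism (higher direct images as right derived functors of direct image
on O-modules). (The published statement assumes f separated; this row assumes only f
quasi-separated.) -/
theorem result {X Y Z : Scheme.{u}} (f : X ⟶ Y) (g : Y ⟶ Z)
    [QuasiCompact f] [QuasiSeparated f] [IsAffineHom g] [HasInjectiveResolutions X.Modules]
    (M : X.Modules) [Coh.IsQCoh M] (p : ℕ) :
    IsIso (CohBC.lerayEdgeOut f g p M) := by
  exact main f g M p

end Groth.Agent.S16462
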