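import Groth.Statements.S16474
import Groth.Agent.S12560
import Groth.Agent.Lib.Helper75.GLnWeight
import Groth.Agent.Lib.Helper75.CTSplit
import Groth.Agent.Lib.Helper75.CTWord

set_option autoImplicit false
open LaurentPolynomial
open ComodTens

namespace Groth.Agent.S16474

/-- Let r ≥ 1 and let V be a finite-dimensional rational representation of the general linear group GL_r
over the complex numbers (a finite-dimensional comodule over its coordinate Hopf algebra) which is
homogeneous of some integer degree h, i.e. restricted to the scalar one-parameter subgroup t ↦ t·1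
every vector of V has weight h. Then there are natural numbers a, b, c with c > 0 such that V is a
direct summand, as a representation, of ((ℂ^r)^(⊗a))^(⊕b) ⊗ det^(-c): there are equivariant linear
maps i : V → E and p : E → V with p ∘ i the identity, where E is the direct sum of b copies of the
a-th tensor power of the standard representation on ℂ^r, twisted by the (−c)-th power of the
determinant character. -/
theorem result (r : ℕ) (hr : 0 < r)
    (V : Type) [AddCommGroup V] [Module ℂ V] [Module.Finite ℂ V] (ρ : HopfRep.Comod ℂ (CoordGrp.GLn r ℂ) V)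
    (h : ℤ)
    (hh : @HopfRep.eigenspace ℂ ℂ[T;T⁻¹] _ _ _ V _ _
      (GLin.comodAlong (CoordGrp.GLn.diag r ℂ (fun _ => 1)) ρ) (T h) = ⊤) :
    ∃ (a b c : ℕ), 0 < c ∧
      ∃ (i : V →ₗ[ℂ] (Fin b → TensorPower ℂ a (Fin r → ℂ)))
        (p : (Fin b → TensorPower ℂ a (Fin r → ℂ)) →ₗ[ℂ] V),
        p ∘ₗ i = LinearMap.id ∧
        @Hoch.IsComodHom ℂ _ (CoordGrp.GLn r ℂ) _ _ _ V _ _ ρ (Fin b → TensorPower ℂ a (Fin r → ℂ)) _ _
          (ComodTens.Comod.twist
            (ComodTens.Comod.pi fun _ : Fin b =>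
              ComodTens.Comod.tpow (GLin.comodAlong (CoordGrp.Mat.toGLn r ℂ) (ComodTens.stdVec r ℂ)) a)
            (CoordGrp.GLn.Dinv ^ c) (IsGroupLikeElem.pow ⟨CoordGrp.GLn.counit_Dinv, CoordGrp.GLn.comul_Dinv⟩)) i ∧
        @Hoch.IsComodHom ℂ _ (CoordGrp.GLn r ℂ) _ _ _ (Fin b → TensorPower ℂ a (Fin r → ℂ)) _ _
          (ComodTens.Comod.twist
            (ComodTens.Comod.pi fun _ : Fin b =>
              ComodTens.Comod.tpow (GLin.comodAlong (CoordGrp.Mat.toGLn r ℂ) (ComodTens.stdVec r ℂ)) a)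
            (CoordGrp.GLn.Dinv ^ c) (IsGroupLikeElem.pow ⟨CoordGrp.GLn.counit_Dinv, CoordGrp.GLn.comul_Dinv⟩)) V _ _ ρ p := by
  classical
  open Groth.Agent.Lib.Helper75 Groth.Agent.Lib.Helper75.CT Groth.Agent.Lib.Helper75.GLnWeight
    Groth.Agent.Lib.Helper75.GLnRed Groth.Agent.Lib.Helper75.LineStab CoordGrp in
  -- the hypothesis on weights, pointwise
  have hh' : ∀ v : V, (GLin.comodAlong (scal r) ρ).coact v = v ⊗ₜ[ℂ] (T h : ℂ[T;T⁻¹]) := by
    intro v
    have hv : v ∈ @HopfRep.eigenspace ℂ ℂ[T;T⁻¹] _ _ _ V _ _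
        (GLin.comodAlong (CoordGrp.GLn.diag r ℂ (fun _ => 1)) ρ) (T h) := by rw [hh]; trivial
    exact hv
  -- a basis and the common level
  let n := Module.finrank ℂ V
  let bas : Module.Basis (Fin n) ℂ V := Module.finBasis ℂ V
  obtain ⟨a, C, hC, -, hmem⟩ := exists_common r hr ρ h hh' bas
  -- group-like elements
  have hDinv : IsGroupLikeElem ℂ (GLn.Dinv : GLn r ℂ) := ⟨GLn.counit_Dinv, GLn.comul_Dinv⟩
  have hdet : IsGroupLikeElem ℂ (GLn.det : GLn r ℂ) := ⟨GLn.counit_det, GLn.comul_det⟩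
  -- the twisted structure on `V`
  set σ' : HopfRep.Comod ℂ (GLn r ℂ) V := ComodTens.Comod.twist ρ (GLn.det ^ C) hdet.pow with hσ'
  have hcoef : ∀ (j : Fin n) (w : V), cfE σ' (bas.coord j) w ∈ Lw r a := by
    intro j w
    rw [hσ', cfE_twist]
    exact mul_det_pow_mem_Lw r a C _ (hmem j w)
  -- the standard comodule and the word maps
  set c₀ : HopfRep.Comod ℂ (GLn r ℂ) (Fin r → ℂ) :=
    GLin.comodAlong (CoordGrp.Mat.toGLn r ℂ) (ComodTens.stdVec r ℂ) with hc₀
  have hc₀coact : ∀ j : Fin r, c₀.coact (Pi.single j 1) = ∑ l : Fin r, Pi.single l (1 : ℂ) ⊗ₜ[ℂ] GLn.X l j := by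
    intro j
    rw [hc₀, GLin.comodAlong_coact, ComodTens.stdVec_coact_single, map_sum]
    apply Finset.sum_congr rfl
    intro l _
    rw [TensorProduct.map_tmul, LinearMap.id_apply]
    congr 1
    show CoordGrp.Mat.toGLn r ℂ (CoordGrp.Mat.X l j) = _
    rw [CoordGrp.Mat.toGLn_X]
  have hcf₀ : ∀ i j : Fin r, cfE c₀ (LinearMap.proj i) (Pi.single j 1) = GLn.X i j := by
    intro i j
    rw [cfE_apply, hc₀coact, map_sum, Finset.sum_eq_single i]
    · rw [contractL_tmul, LinearMap.proj_apply, Pi.single_eq_same, one_smul]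
    · intro l _ hl
      rw [contractL_tmul, LinearMap.proj_apply, Pi.single_eq_of_ne hl.symm, zero_smul]
    · intro h; exact absurd (Finset.mem_univ i) h
  let Θ : (Fin a → Fin r) → (TensorPower ℂ a (Fin r → ℂ) →ₗ[ℂ] GLn r ℂ) :=
    fun S => wordMap a (fun t => cfE c₀ (LinearMap.proj (S t)))
  have hΘ : ∀ S, IsHom (ComodTens.Comod.tpow c₀ a) (HopfRep.Comod.regular ℂ (GLn r ℂ)) (Θ S) :=
    fun S => isHom_wordMap c₀ a _ (fun t => isHom_cfE c₀ _)
  have hΘtup : ∀ S T' : Fin a → Fin r,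
      Θ S (PiTensorProduct.tprod ℂ (fun t => Pi.single (T' t) (1 : ℂ))) =
        tupMat (ι₁ := Fin a) (GLn.genMat r ℂ) S T' := by
    intro S T'
    show wordMap a _ _ = _
    rw [wordMap_tprod]
    unfold tupMat
    apply Finset.prod_congr rfl
    intro t _
    exact hcf₀ _ _
  -- the row sum
  let rowSum : ((Fin a → Fin r) → TensorPower ℂ a (Fin r → ℂ)) →ₗ[ℂ] GLn r ℂ :=
    ∑ S, Θ S ∘ₗ LinearMap.proj S
  have hrow : Lw r a ≤ LinearMap.range rowSum := by
    unfold Lw
    rw [Submodule.span_le]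
    rintro _ ⟨S, T', rfl⟩
    refine ⟨Pi.single S (PiTensorProduct.tprod ℂ (fun t => Pi.single (T' t) (1 : ℂ))), ?_⟩
    simp only [rowSum, LinearMap.sum_apply, LinearMap.coe_comp, Function.comp_apply, LinearMap.proj_apply]
    rw [Finset.sum_eq_single S]
    · rw [Pi.single_eq_same, hΘtup]
    · intro S' _ hS'
      rw [Pi.single_eq_of_ne hS', map_zero]
    · intro h; exact absurd (Finset.mem_univ S) h
  -- the index set
  let I := Fin n × (Fin a → Fin r)
  let b := Fintype.card I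
  let e : I ≃ Fin b := Fintype.equivFin I
  let lab : Fin b → Fin n := fun y => (e.symm y).1
  let cE₀ : HopfRep.Comod ℂ (GLn r ℂ) (Fin b → TensorPower ℂ a (Fin r → ℂ)) :=
    ComodTens.Comod.pi fun _ : Fin b => ComodTens.Comod.tpow c₀ a
  let Ψ : Fin n → ((Fin b → TensorPower ℂ a (Fin r → ℂ)) →ₗ[ℂ] GLn r ℂ) := fun j =>
    ∑ y, if lab y = j then Θ (e.symm y).2 ∘ₗ LinearMap.proj y else 0
  have hΨapp : ∀ j (x : Fin b → TensorPower ℂ a (Fin r → ℂ)),
      Ψ j x = ∑ y, if lab y = j then Θ (e.symm y).2 (x y) else 0 := by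
    intro j x
    simp only [Ψ, LinearMap.sum_apply]
    apply Finset.sum_congr rfl
    intro y _
    split_ifs <;> simp
  have hΨ : ∀ j, IsHom cE₀ (HopfRep.Comod.regular ℂ (GLn r ℂ)) (Ψ j) := by
    intro j
    apply isHom_sum
    intro y _
    split_ifs
    · exact (hΘ _).comp (isHom_proj (fun _ : Fin b => ComodTens.Comod.tpow c₀ a) y)
    · exact isHom_zero _ _
  have hsurj : ∀ w : V, ∃ x : Fin b → TensorPower ℂ a (Fin r → ℂ),
      ∀ j, Ψ j x = cfE σ' (bas.coord j) w := by
    intro w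
    have hz : ∀ j : Fin n, ∃ z : (Fin a → Fin r) → TensorPower ℂ a (Fin r → ℂ),
        rowSum z = cfE σ' (bas.coord j) w := fun j => hrow (hcoef j w)
    choose z hz using hz
    refine ⟨fun y => z (lab y) (e.symm y).2, ?_⟩
    intro j
    rw [hΨapp, ← hz j]
    simp only [rowSum, LinearMap.sum_apply, LinearMap.coe_comp, Function.comp_apply, LinearMap.proj_apply]
    rw [← Equiv.sum_comp e (fun y => if lab y = j then Θ (e.symm y).2 (z (lab y) (e.symm y).2) else 0)]
    rw [Fintype.sum_prod_type]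
    rw [Finset.sum_eq_single j]
    · apply Finset.sum_congr rfl
      intro S _
      have key : ∀ q : I, q = (j, S) →
          (if q.1 = j then Θ q.2 (z q.1 q.2) else 0) = Θ S (z j S) := by
        rintro _ rfl
        simp
      exact key _ (e.symm_apply_apply (j, S))
    · intro j' _ hj'
      apply Finset.sum_eq_zero
      intro S _
      have key : ∀ q : I, q = (j', S) →
          (if q.1 = j then Θ q.2 (z q.1 q.2) else 0) = 0 := by
        rintro _ rfl
        simp [hj']
      exact key _ (e.symm_apply_apply (j', S))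
    · intro h; exact absurd (Finset.mem_univ j) h
  -- semisimplicity of the sum of tensor powers
  have hss : @HopfRep.IsSemisimpleComod ℂ (GLn r ℂ) _ _ _ _ (Fin b → TensorPower ℂ a (Fin r → ℂ)) _ _ cE₀ :=
    @Groth.Agent.S12560.result ℂ _ _ _ r (Fin b → TensorPower ℂ a (Fin r → ℂ)) _ _ cE₀ inferInstance
  obtain ⟨i, p, hpi, hi, hp⟩ := exists_split σ' cE₀ hss bas Ψ hΨ hsurj
  -- twist back
  have hone : (GLn.det : GLn r ℂ) ^ C * GLn.Dinv ^ C = 1 := by
    rw [← mul_pow, GLn.det_mul_Dinv, one_pow]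
  have hback : (ComodTens.Comod.twist σ' (GLn.Dinv ^ C) hDinv.pow).coact = ρ.coact :=
    twist_twist_coact ρ _ _ hdet.pow hDinv.pow hone
  have hi' := isHom_twist hi (GLn.Dinv ^ C) hDinv.pow
  have hp' := isHom_twist hp (GLn.Dinv ^ C) hDinv.pow
  refine ⟨a, b, C, hC, i, p, hpi, ?_, ?_⟩
  · rw [← isHom_iff_isComodHom]
    unfold IsHom at hi' ⊢
    rw [hback] at hi'
    exact hi'
  · rw [← isHom_iff_isComodHom]
    unfold IsHom at hp' ⊢
    rw [hback] at hp'
    exact hp'

end Groth.Agent.S16474
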