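import Groth.Statements.S16478
import Mathlib
-- import your own Groth.Agent.* helpers here

set_option autoImplicit false
universe u
open GaDual

namespace Groth.Agent.S16478

open TensorProduct

section
variable (p : ℕ) [Fact p.Prime] (A : Type u) [CommRing A] [CharP A p] (n : ℕ)

theorem nontriv (p : ℕ) [Fact p.Prime] (A : Type u) [CommRing A] [CharP A p] : Nontrivial A :=
  CharP.nontrivial_of_char_ne_one (R := A) (Fact.out : Nat.Prime p).ne_one

/-- the linear section `x^i ↦ t^i` -/
noncomputable def sec : AlphaPn.A p n A →ₗ[A] SekSuwa.A A 0 :=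
  haveI := nontriv p A
  (AlphaPn.basis p n A).constr A (fun i => (SekSuwa.A.t : SekSuwa.A A 0) ^ (i : ℕ))

theorem sec_x_pow (k : ℕ) (hk : k < p ^ n) :
    sec p A n (AlphaPn.x p n A ^ k) = (SekSuwa.A.t : SekSuwa.A A 0) ^ k := by
  haveI := nontriv p A
  have h := (AlphaPn.basis p n A).constr_basis A
    (fun i => (SekSuwa.A.t : SekSuwa.A A 0) ^ (i : ℕ)) ⟨k, hk⟩
  rw [AlphaPn.basis_apply] at h
  exact h

theorem comul_t0 : CoalgebraStruct.comul (R := A) (SekSuwa.A.t : SekSuwa.A A 0) =
    SekSuwa.A.t ⊗ₜ[A] 1 + 1 ⊗ₜ[A] SekSuwa.A.t := by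
  rw [SekSuwa.A.comul_t, zero_smul, add_zero]

theorem comul_t_pow (k : ℕ) : CoalgebraStruct.comul (R := A) ((SekSuwa.A.t : SekSuwa.A A 0) ^ k) =
    ∑ m ∈ Finset.range (k + 1), (k.choose m) •
      (((SekSuwa.A.t : SekSuwa.A A 0) ^ m) ⊗ₜ[A] ((SekSuwa.A.t : SekSuwa.A A 0) ^ (k - m))) := by
  rw [Bialgebra.comul_pow, comul_t0, (Commute.all _ _).add_pow]
  refine Finset.sum_congr rfl ?_
  intro m _
  rw [Algebra.TensorProduct.tmul_pow, Algebra.TensorProduct.tmul_pow, one_pow, one_pow,
    Algebra.TensorProduct.tmul_mul_tmul, mul_one, one_mul, nsmul_eq_mul']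

theorem comul_x_pow (k : ℕ) : CoalgebraStruct.comul (R := A) (AlphaPn.x p n A ^ k) =
    ∑ m ∈ Finset.range (k + 1), (k.choose m) •
      ((AlphaPn.x p n A ^ m) ⊗ₜ[A] (AlphaPn.x p n A ^ (k - m))) := by
  rw [Bialgebra.comul_pow, AlphaPn.comul_x, (Commute.all _ _).add_pow]
  refine Finset.sum_congr rfl ?_
  intro m _
  rw [Algebra.TensorProduct.tmul_pow, Algebra.TensorProduct.tmul_pow, one_pow, one_pow,
    Algebra.TensorProduct.tmul_mul_tmul, mul_one, one_mul, nsmul_eq_mul']

theorem comul_sec : (CoalgebraStruct.comul (R := A) (A := SekSuwa.A A 0)).comp (sec p A n) =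
    (TensorProduct.map (sec p A n) (sec p A n)).comp
      (CoalgebraStruct.comul (R := A) (A := AlphaPn.A p n A)) := by
  haveI := nontriv p A
  apply (AlphaPn.basis p n A).ext
  intro i
  rw [AlphaPn.basis_apply, LinearMap.comp_apply, LinearMap.comp_apply, sec_x_pow p A n i i.2,
    comul_t_pow, comul_x_pow, map_sum]
  refine Finset.sum_congr rfl ?_
  intro m hm
  rw [Finset.mem_range] at hm
  rw [map_nsmul, TensorProduct.map_tmul,
    sec_x_pow p A n m (by have := i.2; omega), sec_x_pow p A n (i - m) (by have := i.2; omega)]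

theorem counit_sec : (CoalgebraStruct.counit (R := A) (A := SekSuwa.A A 0)).comp (sec p A n) =
    (CoalgebraStruct.counit (R := A) (A := AlphaPn.A p n A)) := by
  haveI := nontriv p A
  apply (AlphaPn.basis p n A).ext
  intro i
  rw [AlphaPn.basis_apply, LinearMap.comp_apply, sec_x_pow p A n i i.2, Bialgebra.counit_pow,
    Bialgebra.counit_pow, SekSuwa.A.counit_t, AlphaPn.counit_x]

end


/-- Let A be a commutative ring of prime characteristic p and n ≥ 1, and let φ be the comorphism of the
closed immersion α_{p^n} → G_a over A: the bialgebra map from the Hopf algebra of the additive group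
(generator t primitive) to A[x]/(x^(p^n)) (x primitive) sending t to x. Then the restriction map on
characters, from those of the additive group over A to those of α_{p^n} over A, is surjective: every
group-like element of A[x]/(x^(p^n)) is the image under φ of a group-like element of the Hopf
algebra of the additive group. -/
theorem result (p : ℕ) [Fact p.Prime] (A : Type u) [CommRing A] [CharP A p]
    (n : ℕ) (hn : 1 ≤ n) (φ : SekSuwa.A A 0 →ₐc[A] AlphaPn.A p n A) (hφ : φ SekSuwa.A.t = AlphaPn.x p n A)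
    (u : AlphaPn.A p n A) (hu : IsGroupLikeElem A u) :
    ∃ g : SekSuwa.A A 0, IsGroupLikeElem A g ∧ φ g = u := by
  haveI := nontriv p A
  refine ⟨sec p A n u, ⟨?_, ?_⟩, ?_⟩
  · have h := LinearMap.congr_fun (counit_sec p A n) u
    rw [LinearMap.comp_apply] at h
    rw [h]
    exact hu.counit_eq_one
  · have h := LinearMap.congr_fun (comul_sec p A n) u
    rw [LinearMap.comp_apply, LinearMap.comp_apply] at h
    rw [h, hu.comul_eq_tmul_self, TensorProduct.map_tmul]
  · have h : (φ : SekSuwa.A A 0 →ₗ[A] AlphaPn.A p n A).comp (sec p A n) = LinearMap.id := by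
      apply (AlphaPn.basis p n A).ext
      intro i
      rw [AlphaPn.basis_apply, LinearMap.comp_apply, sec_x_pow p A n i i.2, LinearMap.id_apply]
      change φ (SekSuwa.A.t ^ (i : ℕ)) = _
      rw [map_pow, hφ]
    exact LinearMap.congr_fun h u

end Groth.Agent.S16478
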