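import Groth.Statements.S5971
import Groth.Agent.S5965
import Groth.Agent.Lib.QCoh.Helper50_FPPush
import Groth.Agent.Lib.QCoh.Helper50_FPPullback
import Groth.Agent.Lib.Helper24.LfpOfComp

set_option autoImplicit false
universe u
open CategoryTheory CategoryTheory.Limits AlgebraicGeometry TopologicalSpace Opposite
open Nrm16

namespace Groth.Agent.S5971

/-- Let f : X ⟶ S be a morphism locally of finite presentation, n a natural number and F a
quasi-coherent O_X-module of finite presentation. Then the sheaf of principal parts P^n_{X/S}(F),
with its left O_X-module structure, is of finite presentation. (The published statement asserts this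
for either of the two O_X-module structures of P^n_{X/S}(F); this row states it for the left
structure, the one the sheaf of principal parts carries here.) -/
theorem result {X S : Scheme.{u}} (f : X ⟶ S) [LocallyOfFinitePresentation f] (n : ℕ)
    (F : X.Modules) (hF : CohB1.IsFP F) :
    CohB1.IsFP (PrinPart.PMod f n F) := by
  haveI hF' : F.IsFinitePresentation := hF
  haveI hlft : LocallyOfFiniteType f := inferInstance
  let ι := (Limits.pullback.diagonal f).coborderRange.ι
  let g : ((Limits.pullback.diagonal f).coborderRange : Scheme.{u}) ⟶ X :=
    ι ≫ Limits.pullback.fst f f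
  have hsec : PrinPart.diagCl f ≫ g = 𝟙 X := by
    change (Limits.pullback.diagonal f).liftCoborder ≫
      (Limits.pullback.diagonal f).coborderRange.ι ≫ Limits.pullback.fst f f = 𝟙 X
    rw [← Category.assoc, Scheme.Hom.liftCoborder_ι]
    exact Limits.pullback.diagonal_fst f
  have e : PrinPart.pr1 f n = PrinPart.infNbhdι (PrinPart.diagCl f) n ≫ g := by
    change (PrinPart.infNbhdι (PrinPart.diagCl f) n ≫
      (Limits.pullback.diagonal f).coborderRange.ι) ≫ Limits.pullback.fst f f = _
    rw [Category.assoc]
  have hfin : IsFinite (PrinPart.pr1 f n) := by
    have h := Groth.Agent.S5965.result g (PrinPart.diagCl f) hsec n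
    rw [e]
    exact h
  -- the diagonal is locally of finite presentation
  have hdiag : LocallyOfFinitePresentation (Limits.pullback.diagonal f) := by
    have h1 : LocallyOfFiniteType (Limits.pullback.fst f f) :=
      MorphismProperty.pullback_fst (P := @LocallyOfFiniteType) _ _ inferInstance
    have h2 : LocallyOfFinitePresentation
        (Limits.pullback.diagonal f ≫ Limits.pullback.fst f f) := by
      rw [Limits.pullback.diagonal_fst]; infer_instance
    exact Groth.Agent.Lib.Helper24.locallyOfFinitePresentation_of_comp _ (Limits.pullback.fst f f)
  have hdiagCl : LocallyOfFinitePresentation (PrinPart.diagCl f) := by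
    have h2 : LocallyOfFinitePresentation (PrinPart.diagCl f ≫ ι) := by
      change LocallyOfFinitePresentation ((Limits.pullback.diagonal f).liftCoborder ≫
        (Limits.pullback.diagonal f).coborderRange.ι)
      rw [Scheme.Hom.liftCoborder_ι]
      exact hdiag
    exact Groth.Agent.Lib.Helper24.locallyOfFinitePresentation_of_comp _ ι
  have hinf : LocallyOfFinitePresentation (PrinPart.infNbhdι (PrinPart.diagCl f) n) :=
    Groth.Agent.Lib.QCoh.FPPullback.locallyOfFinitePresentation_subschemeι_ker_pow
      (PrinPart.diagCl f) (n + 1)
  have hg : LocallyOfFinitePresentation g := by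
    have h1 : LocallyOfFinitePresentation (Limits.pullback.fst f f) :=
      MorphismProperty.pullback_fst (P := @LocallyOfFinitePresentation) _ _ inferInstance
    change LocallyOfFinitePresentation (ι ≫ Limits.pullback.fst f f)
    infer_instance
  have hlfp : LocallyOfFinitePresentation (PrinPart.pr1 f n) := by
    rw [e]
    infer_instance
  have hP1 : ((Scheme.Modules.pullback (PrinPart.pr2 f n)).obj F).IsQuasicoherent :=
    Groth.Agent.Lib.QCoh.isQuasicoherent_pullback (PrinPart.pr2 f n) F
  have hP2 : ((Scheme.Modules.pullback (PrinPart.pr2 f n)).obj F).IsFinitePresentation :=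
    Groth.Agent.Lib.QCoh.FPPullback.isFinitePresentation_pullback (PrinPart.pr2 f n) F
  exact Groth.Agent.Lib.QCoh.isFinitePresentation_pushforward_of_isFinite (PrinPart.pr1 f n) _

end Groth.Agent.S5971
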