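import Groth.Statements.S16488
import Groth.Agent.Lib.QCoh.Helper74_RefHullRefl
import Groth.Agent.Lib.QCoh.Helper74_ReflexiveRegular
import Groth.Agent.Lib.QCoh.Helper18_PullbackSupport

set_option autoImplicit false
universe u
open CategoryTheory CategoryTheory.Limits AlgebraicGeometry TopologicalSpace
open VBPn

namespace Groth.Agent.S16488

/-- Let X be an integral locally Noetherian scheme all of whose local rings are regular, and F a
coherent O_X-module which is reflexive, i.e. the canonical map F → F^** is an isomorphism. Then the
singularity set of F (the set of points at which the stalk of F is not free) has codimension at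
least 3: for every point x such that F_x is not a free O_{X,x}-module, the local ring O_{X,x} has
dimension at least 3. The published statement is for reflexive coherent analytic sheaves on a
complex manifold; this row is its statement for coherent sheaves on a regular integral locally
Noetherian scheme, where the same argument (a reflexive sheaf is locally a second syzygy sheaf)
applies. -/
theorem result (X : Scheme.{u}) [IsIntegral X] [IsLocallyNoetherian X]
    (hreg : ∀ x : X, IsRegularLocalRing (X.presheaf.stalk x)) (F : X.Modules) (hF : Coh.IsCoh F)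
    (hrefl : RefHull.IsReflexive F) (x : X) (hx : ¬ Module.Free (X.presheaf.stalk x) (F.presheaf.stalk x)) :
    (3 : WithBot ℕ∞) ≤ ringKrullDim (X.presheaf.stalk x) := by
  have : F.IsQuasicoherent := hF.1
  have : F.IsFiniteType := hF.2
  by_contra hcon
  apply hx
  have hdim : ringKrullDim (X.presheaf.stalk x) ≤ 2 := by
    have := hreg x
    have h1 : ringKrullDim (X.presheaf.stalk x) ≠ ⊥ := ringKrullDim_ne_bot
    have h2 : ringKrullDim (X.presheaf.stalk x) ≠ ⊤ := ringKrullDim_ne_top
    obtain ⟨n, hn⟩ := WithBot.ne_bot_iff_exists.1 h1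
    have hntop : n ≠ ⊤ := by
      rintro rfl
      exact h2 hn.symm
    obtain ⟨d, rfl⟩ := ENat.ne_top_iff_exists.1 hntop
    rw [← hn] at hcon ⊢
    have h3 : ¬ (3 ≤ d) := fun h => hcon (by
      have h' : ((3 : ℕ∞) : WithBot ℕ∞) ≤ ((d : ℕ∞) : WithBot ℕ∞) :=
        WithBot.coe_le_coe.2 (by exact_mod_cast h)
      exact h')
    have h4 : d ≤ 2 := by omega
    have h5 : ((d : ℕ∞) : WithBot ℕ∞) ≤ ((2 : ℕ∞) : WithBot ℕ∞) :=
      WithBot.coe_le_coe.2 (by exact_mod_cast h4)
    exact h5
  have := hreg x
  have hrefl' : Module.IsReflexive (X.presheaf.stalk x) (F.presheaf.stalk x) :=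
    (Groth.Agent.Lib.QCoh.RefHull74.isReflexive_iff_forall_isReflexiveAt F hF).1 hrefl x
  have hfin : Module.Finite (X.presheaf.stalk x) (F.presheaf.stalk x) :=
    Groth.Agent.Lib.QCoh.finite_stalk F x
  exact Groth.Agent.Lib.QCoh.ReflReg74.free_of_isReflexive _ hdim _

end Groth.Agent.S16488
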