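import Groth.Statements.S16490
import Groth.Agent.Lib.QCoh.Helper74_RefHullNormal
import Groth.Agent.Lib.Helper29.DepthSES

set_option autoImplicit false
set_option linter.style.haveILetI false
universe u
open CategoryTheory CategoryTheory.Limits AlgebraicGeometry TopologicalSpace
open VBPn

namespace Groth.Agent.S16490

open Groth.Agent.Lib.QCoh Groth.Agent.Lib.QCoh.RefHull74 IsLocalRing in
/-- A torsion-free finite module over a Noetherian local domain that is not a field has depth ≥ 1. -/
theorem one_le_depth_of_torsionFree (R : Type u) [CommRing R] [IsLocalRing R] [IsDomain R]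
    (hm : maximalIdeal R ≠ ⊥) (M : Type u) [AddCommGroup M] [Module R M]
    [NoZeroSMulDivisors R M] : (1 : ℕ∞) ≤ LocCoh.depth R M := by
  by_cases htop : maximalIdeal R • (⊤ : Submodule R M) = ⊤
  · unfold LocCoh.depth LocCoh.idealDepth
    rw [if_pos htop]
    exact le_top
  · by_contra hcon
    have h0 : LocCoh.depth R M = 0 := by
      rw [not_le] at hcon
      exact Order.lt_one_iff.1 hcon
    rw [Groth.Agent.Lib.Helper29.depth_eq_zero_iff_forall_not_isSMulRegular R M htop] at h0
    obtain ⟨a, ha, ha0⟩ := Submodule.exists_mem_ne_zero_of_ne_bot hm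
    apply h0 a ha
    intro m m' hmm
    have h1 : a • (m - m') = 0 := by rw [smul_sub]; exact sub_eq_zero.2 hmm
    rcases smul_eq_zero.1 h1 with h | h
    · exact absurd h ha0
    · exact sub_eq_zero.1 h

/-- Let X be an integral locally Noetherian scheme all of whose local rings are regular, and let 0 → F →
E → Q → 0 be a short exact sequence of coherent O_X-modules in which E is reflexive (the canonical
map E → E^** is an isomorphism) and Q is torsion-free (every stalk Q_x is a torsion-free
O_{X,x}-module). Then F is normal: for all open subsets V ⊆ U of X such that every point of U not in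
V has local ring of dimension at least 2, the restriction map F(U) → F(V) is bijective. The
published statement is for coherent analytic sheaves on a complex manifold, a sheaf being called
normal when for every open U and every analytic subset A ⊆ U of codimension at least 2 the
restriction F(U) → F(U ∖ A) is bijective; this row is its statement for coherent sheaves on a
regular integral locally Noetherian scheme, with normality phrased through open subsets V ⊆ U whose
complement in U consists of points with local ring of dimension at least 2, where the same argument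
applies. -/
theorem result (X : Scheme.{u}) [IsIntegral X] [IsLocallyNoetherian X]
    (hreg : ∀ x : X, IsRegularLocalRing (X.presheaf.stalk x)) (S : ShortComplex X.Modules) (hS : S.ShortExact)
    (hF : Coh.IsCoh S.X₁) (hE : Coh.IsCoh S.X₂) (hQ : Coh.IsCoh S.X₃)
    (hErefl : RefHull.IsReflexive S.X₂) (hQtf : TorSh.IsTorsionFree S.X₃) :
    (∀ (U V : X.Opens) (hVU : V ≤ U), (∀ x : X, x ∈ U → x ∉ V → (2 : WithBot ℕ∞) ≤ ringKrullDim (X.presheaf.stalk x)) →
        Function.Bijective (S.X₁.presheaf.map (homOfLE hVU).op)) := by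
  intro U V hVU hdim
  have hqF : S.X₁.IsQuasicoherent := hF.1
  have hfF : S.X₁.IsFiniteType := hF.2
  have hqE : S.X₂.IsQuasicoherent := hE.1
  have hfE : S.X₂.IsFiniteType := hE.2
  have hqQ : S.X₃.IsQuasicoherent := hQ.1
  have hfQ : S.X₃.IsFiniteType := hQ.2
  have hst := (Groth.Agent.Lib.QCoh.RefHull74.isReflexive_iff_forall_isReflexiveAt S.X₂ hE).1 hErefl
  apply Groth.Agent.Lib.QCoh.RefHull74.bijective_res_of_depth S.X₁ hVU
  intro x hxU hxV
  have h2 := hdim x hxU hxV
  haveI := hreg x
  haveI : Module.IsReflexive (X.presheaf.stalk x) (S.X₂.presheaf.stalk x) := hst x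
  haveI : Module.Finite (X.presheaf.stalk x) (S.X₁.presheaf.stalk x) :=
    Groth.Agent.Lib.QCoh.finite_stalk S.X₁ x
  haveI : Module.Finite (X.presheaf.stalk x) (S.X₂.presheaf.stalk x) :=
    Groth.Agent.Lib.QCoh.finite_stalk S.X₂ x
  haveI : Module.Finite (X.presheaf.stalk x) (S.X₃.presheaf.stalk x) :=
    Groth.Agent.Lib.QCoh.finite_stalk S.X₃ x
  have hdE : (2 : ℕ∞) ≤ LocCoh.depth (X.presheaf.stalk x) (S.X₂.presheaf.stalk x) :=
    Groth.Agent.Lib.QCoh.RefHull74.two_le_depth_of_isReflexive _ h2 _
  have hm : IsLocalRing.maximalIdeal (X.presheaf.stalk x) ≠ ⊥ := by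
    intro hbot
    have hfld : IsField (X.presheaf.stalk x) := IsLocalRing.isField_iff_maximalIdeal_eq.2 hbot
    have h0 := ringKrullDim_eq_zero_of_isField hfld
    rw [h0] at h2
    exact absurd h2 (by decide)
  haveI : NoZeroSMulDivisors (X.presheaf.stalk x) (S.X₃.presheaf.stalk x) :=
    Groth.Agent.Lib.QCoh.RefHull74.noZeroSMulDivisors_of_isTorsionFree _ _ (hQtf x)
  have hdQ : (1 : ℕ∞) ≤ LocCoh.depth (X.presheaf.stalk x) (S.X₃.presheaf.stalk x) :=
    one_le_depth_of_torsionFree _ hm _
  obtain ⟨hinj, hsurj, hex⟩ := Groth.Agent.Lib.QCoh.stalk_exact_of_shortExact S hS x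
  have hfg : Function.Exact (Groth.Agent.Lib.QCoh.stalkMapₗ S.f x)
      (Groth.Agent.Lib.QCoh.stalkMapₗ S.g x) := by
    intro m
    constructor
    · intro hm0
      obtain ⟨m₁, hm₁⟩ := hex m hm0
      exact ⟨m₁, hm₁⟩
    · rintro ⟨m₁, rfl⟩
      obtain ⟨W, hxW, t, rfl⟩ := TopCat.Presheaf.exists_germ_eq S.X₁.presheaf m₁
      change Groth.Agent.Lib.QCoh.stalkMap S.g x (Groth.Agent.Lib.QCoh.stalkMap S.f x _) = 0
      rw [Groth.Agent.Lib.QCoh.stalkMap_germ, Groth.Agent.Lib.QCoh.stalkMap_germ]
      have hzero : S.g.app W (S.f.app W t) = 0 := by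
        have : (S.f ≫ S.g).app W t = 0 := by rw [S.zero]; rfl
        exact this
      rw [hzero, map_zero]
  have key := Groth.Agent.Lib.Helper29.DepthSES.min_le_idealDepth_left
    (IsLocalRing.maximalIdeal (X.presheaf.stalk x)) (S.X₁.presheaf.stalk x)
    (S.X₂.presheaf.stalk x) (S.X₃.presheaf.stalk x)
    (Groth.Agent.Lib.QCoh.stalkMapₗ S.f x) (Groth.Agent.Lib.QCoh.stalkMapₗ S.g x) hinj hsurj hfg
  refine le_trans (le_min hdE ?_) key
  have : (1 : ℕ∞) + 1 ≤ LocCoh.idealDepth (IsLocalRing.maximalIdeal (X.presheaf.stalk x))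
      (S.X₃.presheaf.stalk x) + 1 := add_le_add_left hdQ 1
  exact le_trans (by norm_num) this

end Groth.Agent.S16490
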