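import Groth.Statements.S16496
import Groth.Agent.Lib.QCoh.Helper18_HartogsFlat
import Groth.Agent.Lib.Helper49.Serre3

set_option autoImplicit false
universe u
open CategoryTheory AlgebraicGeometry
open SGA3

namespace Groth.Agent.S16496

/-- Let S be a Noetherian normal scheme, A a flat quasi-coherent O_S-module (not assumed of finite type)
and j : U → S the inclusion of an open subscheme containing every point of S whose local ring has
dimension at most 1. Then A = j_* j^* A: the unit A → j_*(A|_U) of the adjunction between
restriction to U and direct image along j is an isomorphism. In the source U is the flatness locus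
of a finite type submodule of A, an open which contains all points of codimension at most 1; the
printed argument uses only this property of U. -/
theorem result (S : Scheme.{u}) [IsNoetherian S]
    (hS : Pi1.IsNormalScheme S) (A : S.Modules) (hA : Coh.IsQCoh A) (hAfl : FlatMod.IsFlat A)
    (U : S.Opens) (hU : ∀ s : S, ringKrullDim (S.presheaf.stalk s) ≤ 1 → s ∈ U) :
    IsIso ((Scheme.Modules.restrictAdjunction U.ι).unit.app A) := by
  have : A.IsQuasicoherent := hA
  apply Groth.Agent.Lib.QCoh.Hartogs.isIso_unit_of_flat_of_depth U ?_ A hAfl
  intro s hs
  have hdim : ¬ ringKrullDim (S.presheaf.stalk s) ≤ 1 := fun h => hs (hU s h)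
  have := (hS s).1
  have := (hS s).2
  have h1 := Groth.Agent.Lib.Helper49.Serre.min_two_le_depth_of_isIntegrallyClosed
    (R := S.presheaf.stalk s)
  have h2 : (2 : WithBot ℕ∞) ≤ ringKrullDim (S.presheaf.stalk s) := by
    by_contra hlt
    apply hdim
    rw [not_le] at hlt
    generalize ringKrullDim (S.presheaf.stalk s) = d at hlt ⊢
    induction d using WithBot.recBotCoe with
    | bot => exact bot_le
    | coe d =>
      have h3 : d < 2 := WithBot.coe_lt_coe.1 hlt
      have h4 : d ≤ 1 := Order.le_of_lt_add_one (by simpa [one_add_one_eq_two] using h3)
      exact WithBot.coe_le_coe.2 h4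
  rw [min_eq_left h2] at h1
  exact WithBot.coe_le_coe.1 h1

end Groth.Agent.S16496
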