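import Groth.Statements.S16516
import Groth.Agent.Lib.Helper83.BinaryForms

set_option autoImplicit false
universe u
open RatCurv

namespace Groth.Agent.S16516

/-- A smooth nondegenerate rational quintic curve C ⊂ P^4 has exactly one 3-secant line. Stated for C
given as the image of P^1 under a 5-dimensional linear series V of binary quintic forms which
separates every length-2 subscheme of P^1 (for every nonzero quadratic form e the forms of V
together with the multiples of e span all quintic forms), so that P^1 → P(V^*) = P^4 is a closed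
embedding with nondegenerate image; the linear forms on P^4 are the elements of V, a line L ⊂ P^4 is
recorded by the 3-dimensional space of linear forms vanishing on it, and L ∩ C has length at least 3
exactly when that space consists of the multiples g · K[s,t]_2 of a cubic form g. The conclusion: a
nonzero cubic g with g · K[s,t]_2 ⊆ V exists and is unique up to a scalar. (That such a line meets C
in length exactly 3, i.e. is not 4-secant, is immediate in this description and is not restated; the
ground field is algebraically closed of characteristic zero in place of the complex numbers.) -/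
theorem result (K : Type u) [Field K] [IsAlgClosed K]
    [CharZero K] (V : Submodule K (MvPolynomial (Fin 2) K))
    (hV : V ≤ MvPolynomial.homogeneousSubmodule (Fin 2) K 5) (hdim : Module.finrank K ↥V = 5)
    (hsep : ∀ e ∈ MvPolynomial.homogeneousSubmodule (Fin 2) K 2, e ≠ 0 →
      ∀ F ∈ MvPolynomial.homogeneousSubmodule (Fin 2) K 5, ∃ v ∈ V,
        ∃ h ∈ MvPolynomial.homogeneousSubmodule (Fin 2) K 3, F = v + e * h) :
    ∃ g ∈ MvPolynomial.homogeneousSubmodule (Fin 2) K 3, g ≠ 0 ∧
      (∀ h ∈ MvPolynomial.homogeneousSubmodule (Fin 2) K 2, g * h ∈ V) ∧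
      ∀ g' ∈ MvPolynomial.homogeneousSubmodule (Fin 2) K 3,
        (∀ h ∈ MvPolynomial.homogeneousSubmodule (Fin 2) K 2, g' * h ∈ V) → ∃ c : K, g' = c • g := by
  classical
  open Groth.Agent.Lib.Helper83 in
  have hsep' : ∀ e ∈ MvPolynomial.homogeneousSubmodule (Fin 2) K 2, e ≠ 0 →
      ∃ g ∈ MvPolynomial.homogeneousSubmodule (Fin 2) K 3, g * e ∉ V := by
    intro e he hne
    by_contra hcon
    push Not at hcon
    have hle : MvPolynomial.homogeneousSubmodule (Fin 2) K 5 ≤ V := by
      intro F hF
      obtain ⟨v, hv, h, hh, rfl⟩ := hsep e he hne F hF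
      refine V.add_mem hv ?_
      rw [mul_comm]
      exact hcon h hh
    have heq : V = MvPolynomial.homogeneousSubmodule (Fin 2) K 5 := le_antisymm hV hle
    rw [heq, finrank_homogeneousSubmodule_fin_two] at hdim
    omega
  open Groth.Agent.Lib.Helper83 in
  have hle := finrank_ker_mulModForms_le K 3 2 1 V hV (by rw [hdim]) hsep'
  open Groth.Agent.Lib.Helper83 in
  obtain ⟨g, hg, hg0, hgV⟩ := exists_ne_zero_mul_mem K 3 2 1 V hV (by rw [hdim]) (by norm_num)
  refine ⟨g, hg, hg0, hgV, ?_⟩
  intro g' hg' hg'V
  open Groth.Agent.Lib.Helper83 in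
  have hgL : (⟨g, hg⟩ : MvPolynomial.homogeneousSubmodule (Fin 2) K 3) ∈
      LinearMap.ker (mulModForms K 3 2 V) := (mem_ker_mulModForms_iff K 3 2 V ⟨g, hg⟩).2 hgV
  open Groth.Agent.Lib.Helper83 in
  have hg'L : (⟨g', hg'⟩ : MvPolynomial.homogeneousSubmodule (Fin 2) K 3) ∈
      LinearMap.ker (mulModForms K 3 2 V) := (mem_ker_mulModForms_iff K 3 2 V ⟨g', hg'⟩).2 hg'V
  open Groth.Agent.Lib.Helper83 in
  have hpos : 1 ≤ Module.finrank K (LinearMap.ker (mulModForms K 3 2 V)) := by
    rw [Submodule.one_le_finrank_iff]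
    intro hbot
    rw [hbot, Submodule.mem_bot] at hgL
    exact hg0 (congrArg Subtype.val hgL)
  open Groth.Agent.Lib.Helper83 in
  have hone : Module.finrank K (LinearMap.ker (mulModForms K 3 2 V)) = 1 := by omega
  open Groth.Agent.Lib.Helper83 in
  have hgne : (⟨⟨g, hg⟩, hgL⟩ : LinearMap.ker (mulModForms K 3 2 V)) ≠ 0 := by
    intro h
    exact hg0 (congrArg (fun x => x.1.1) h)
  open Groth.Agent.Lib.Helper83 in
  have huniq : ∀ w : LinearMap.ker (mulModForms K 3 2 V), ∃ c : K,
      c • (⟨⟨g, hg⟩, hgL⟩ : LinearMap.ker (mulModForms K 3 2 V)) = w :=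
    by
      have h := (finrank_eq_one_iff_of_nonzero'
        (⟨⟨g, hg⟩, hgL⟩ : LinearMap.ker (mulModForms K 3 2 V)) hgne).1 hone
      intro w
      obtain ⟨c, hc⟩ := h w
      exact ⟨c, hc⟩
  obtain ⟨c, hc⟩ := huniq ⟨⟨g', hg'⟩, hg'L⟩
  refine ⟨c, ?_⟩
  have := congrArg (fun x => x.1.1) hc
  simpa using this.symm

end Groth.Agent.S16516
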