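import Groth.Statements.S16519
import Mathlib
-- import your own Groth.Agent.* helpers here

set_option autoImplicit false
open CubicSurf

namespace Groth.Agent.S16519


abbrev T := Fin 5 × Fin 3 × Fin 3 × Fin 3 × Fin 3 × Fin 3 × Fin 3

def enc (t : T) : ℤ × (Fin 6 → ℤ) :=
  ((t.1.val : ℤ) + 1, ![(t.2.1.val : ℤ), (t.2.2.1.val : ℤ), (t.2.2.2.1.val : ℤ),
    (t.2.2.2.2.1.val : ℤ), (t.2.2.2.2.2.1.val : ℤ), (t.2.2.2.2.2.2.val : ℤ)])

def good (t : T) : Prop :=
  3 * (t.1.val + 1) = 3 + (t.2.1.val + t.2.2.1.val + t.2.2.2.1.val + t.2.2.2.2.1.val +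
      t.2.2.2.2.2.1.val + t.2.2.2.2.2.2.val) ∧
  (t.1.val + 1) ^ 2 = 1 + (t.2.1.val ^ 2 + t.2.2.1.val ^ 2 + t.2.2.2.1.val ^ 2 +
      t.2.2.2.2.1.val ^ 2 + t.2.2.2.2.2.1.val ^ 2 + t.2.2.2.2.2.2.val ^ 2)

instance : DecidablePred good := fun t => by unfold good; infer_instance

theorem card_good : (Finset.univ.filter good).card = 72 := by
  decide +kernel


theorem enc_injective : Function.Injective enc := by
  rintro ⟨a, b0, b1, b2, b3, b4, b5⟩ ⟨a', c0, c1, c2, c3, c4, c5⟩ h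
  simp only [enc, Prod.mk.injEq] at h
  obtain ⟨h1, h2⟩ := h
  have e0 := congrFun h2 0
  have e1 := congrFun h2 1
  have e2 := congrFun h2 2
  have e3 := congrFun h2 3
  have e4 := congrFun h2 4
  have e5 := congrFun h2 5
  simp at e0 e1 e2 e3 e4 e5
  have : a = a' := by apply Fin.ext; omega
  subst this
  simp [Fin.ext_iff, e0, e1, e2, e3, e4, e5]

theorem enc_mem_of_good (t : T) (ht : good t) :
    3 * (enc t).1 - (Finset.univ.sum fun i => (enc t).2 i) = 3 ∧
      (enc t).1 ^ 2 - (Finset.univ.sum fun i => (enc t).2 i ^ 2) = 1 := by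
  obtain ⟨a, b0, b1, b2, b3, b4, b5⟩ := t
  obtain ⟨h1, h2⟩ := ht
  simp only at h1 h2
  zify at h1 h2
  simp only [enc, Fin.sum_univ_six]
  simp
  constructor <;> linarith

theorem exists_of_mem (a : ℤ) (b : Fin 6 → ℤ)
    (h1 : 3 * a - (Finset.univ.sum fun i => b i) = 3)
    (h2 : a ^ 2 - (Finset.univ.sum fun i => b i ^ 2) = 1) :
    ∃ t : T, good t ∧ enc t = (a, b) := by
  have e : (Finset.univ.sum fun j => (2 * b j - (a - 1)) ^ 2) = 2 * (a - 1) * (5 - a) := by
    have e1 : (Finset.univ.sum fun j => (2 * b j - (a - 1)) ^ 2) =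
        4 * (Finset.univ.sum fun i => b i ^ 2) - 4 * (a - 1) * (Finset.univ.sum fun i => b i)
          + 6 * (a - 1) ^ 2 := by
      simp only [Fin.sum_univ_six]; ring
    have s1 : (Finset.univ.sum fun i => b i) = 3 * a - 3 := by linarith
    have s2 : (Finset.univ.sum fun i => b i ^ 2) = a ^ 2 - 1 := by linarith
    rw [e1, s1, s2]; ring
  have key : ∀ i, (2 * b i - (a - 1)) ^ 2 ≤ 2 * (a - 1) * (5 - a) := by
    intro i
    rw [← e]
    exact Finset.single_le_sum (f := fun j => (2 * b j - (a - 1)) ^ 2)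
      (fun j _ => sq_nonneg _) (Finset.mem_univ i)
  have hpos : 0 ≤ 2 * (a - 1) * (5 - a) := le_trans (sq_nonneg _) (key 0)
  have ha1 : 1 ≤ a := by by_contra hlt; rw [not_le] at hlt; nlinarith
  have ha5 : a ≤ 5 := by by_contra hlt; rw [not_le] at hlt; nlinarith
  have hb : ∀ i, 0 ≤ b i ∧ b i ≤ 2 := by
    intro i
    have hi := key i
    interval_cases a <;> constructor <;> nlinarith
  have hc : ∀ i, ∃ c : Fin 3, (c.val : ℤ) = b i := fun i =>
    ⟨⟨(b i).toNat, by have := hb i; omega⟩, by have := hb i; simp; omega⟩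
  choose c hc using hc
  obtain ⟨a', ha'⟩ : ∃ a' : Fin 5, (a'.val : ℤ) + 1 = a :=
    ⟨⟨(a - 1).toNat, by omega⟩, by simp; omega⟩
  refine ⟨(a', c 0, c 1, c 2, c 3, c 4, c 5), ?_, ?_⟩
  · simp only [Fin.sum_univ_six] at h1 h2
    constructor
    · simp only
      zify
      rw [ha', hc, hc, hc, hc, hc, hc]; linarith
    · simp only
      zify
      rw [ha', hc, hc, hc, hc, hc, hc]; linarith
  · simp only [enc, Prod.mk.injEq]
    refine ⟨ha', ?_⟩
    funext i
    fin_cases i <;> simp [hc]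

/-- On a smooth cubic surface there are exactly 72 divisor classes L with L² = 1 and L · K = −3. Stated
in the lattice ℤ^{1,6} with basis l, e_1, …, e_6 (l² = 1, e_i² = −1, K = −3l + Σ e_i): the integer
vectors (a, b) ∈ ℤ × ℤ^6, standing for a·l − Σ b_i e_i, with 3a − Σ b_i = 3 and a² − Σ b_i² = 1 form
a set of exactly 72 elements. -/
theorem result :
    {p : ℤ × (Fin 6 → ℤ) | 3 * p.1 - (Finset.univ.sum fun i => p.2 i) = 3 ∧
        p.1 ^ 2 - (Finset.univ.sum fun i => p.2 i ^ 2) = 1}.ncard = 72 := by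
  have hS : {p : ℤ × (Fin 6 → ℤ) | 3 * p.1 - (Finset.univ.sum fun i => p.2 i) = 3 ∧
        p.1 ^ 2 - (Finset.univ.sum fun i => p.2 i ^ 2) = 1} =
      ↑((Finset.univ.filter good).image enc) := by
    ext ⟨a, b⟩
    simp only [Set.mem_ofPred_eq, Finset.coe_image, Finset.coe_filter, Finset.mem_univ, true_and,
      Set.mem_image]
    constructor
    · rintro ⟨h1, h2⟩
      exact exists_of_mem a b h1 h2
    · rintro ⟨t, ht, hte⟩
      have := enc_mem_of_good t ht
      rw [hte] at this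
      exact this
  rw [hS, Set.ncard_coe_finset, Finset.card_image_of_injective _ enc_injective, card_good]

end Groth.Agent.S16519
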