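import Groth.Statements.S16537
import Mathlib
import Groth.Agent.Lib.Helper60.BCComp

set_option autoImplicit false
universe u v
open Disp

namespace Groth.Agent.S16537

open Groth.Agent.Lib.Helper60.BCComp Dieu

section

variable {p : ℕ} [Fact p.Prime] {R : Type u} [CommRing R]

local notation "σ" => (WittVector.frobenius : WittVector p R →+* WittVector p R)

theorem pow_succ_apply' (t : ℕ) (w : WittVector p R) : (σ ^ (t + 1)) w = (σ ^ t) (σ w) := by
  rw [pow_succ]; rfl

theorem pow_natCast (t : ℕ) : (σ ^ t) (p : WittVector p R) = (p : WittVector p R) :=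
  map_natCast _ _

/-- `σ^(t+1)` maps `I_R + pW` into `pW`. -/
theorem map_pow_le (t : ℕ) :
    (W4c1extbt610.IV p R ⊔ Ideal.span {(p : WittVector p R)}).map (σ ^ (t + 1)) ≤
      Ideal.span {(p : WittVector p R)} := by
  rw [Ideal.map_sup, sup_le_iff]
  constructor
  · rw [W4c1extbt610.IV, Ideal.map_span, Ideal.span_le]
    rintro _ ⟨_, ⟨w, rfl⟩, rfl⟩
    rw [pow_succ_apply', WittVector.frobenius_verschiebung, map_mul, pow_natCast]
    exact Ideal.mul_mem_left _ _ (Ideal.subset_span rfl)
  · rw [Ideal.map_span, Ideal.span_le]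
    rintro _ ⟨_, rfl, rfl⟩
    rw [pow_natCast]
    exact Ideal.subset_span rfl

/-- If `p^e = 0` in `R` then `p^e • I_m ⊆ I_{m+1}`. -/
theorem pow_mul_mem_ker (e : ℕ) (he : (p : R) ^ e = 0) (m : ℕ) (x : WittVector p R)
    (hx : x ∈ RingHom.ker (WittVector.truncate (p := p) (R := R) m)) :
    (p : WittVector p R) ^ e * x ∈ RingHom.ker (WittVector.truncate (p := p) (R := R) (m + 1)) := by
  rw [WittVector.mem_ker_truncate] at hx ⊢
  have hx' := WittVector.eq_iterate_verschiebung hx
  set y := x.shift m
  have h1 : (p : WittVector p R) ^ e * x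
      = (WittVector.verschiebung^[m]) (y * (p : WittVector p R) ^ e) := by
    rw [hx', mul_comm, WittVector.iterate_verschiebung_mul_left]
    congr 2
    clear hx' hx
    induction m with
    | zero => rfl
    | succ m ih => rw [Function.iterate_succ_apply', ih, map_pow, map_natCast]
  intro i hi
  rw [h1]
  rcases Nat.lt_succ_iff_lt_or_eq.mp hi with h | h
  · exact WittVector.iterate_verschiebung_coeff_eq_zero _ h
  · subst h
    have := WittVector.iterate_verschiebung_coeff (p := p) (y * (p : WittVector p R) ^ e) i 0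
    rw [zero_add] at this
    rw [this, WittVector.mul_coeff_zero]
    have h2 : ((p : WittVector p R) ^ e).coeff 0 = (p : R) ^ e := by
      have := map_pow (WittVector.constantCoeff (p := p) (R := R)) (p : WittVector p R) e
      rw [map_natCast] at this
      exact this
    rw [h2, he, mul_zero]

theorem pow_mem_ker (e : ℕ) (he : (p : R) ^ e = 0) (n : ℕ) :
    (p : WittVector p R) ^ (e * n) ∈ RingHom.ker (WittVector.truncate (p := p) (R := R) n) := by
  induction n with
  | zero =>
    rw [WittVector.mem_ker_truncate]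
    intro i hi
    exact absurd hi (Nat.not_lt_zero i)
  | succ n ih =>
    rw [Nat.mul_succ, pow_add, mul_comm]
    exact pow_mul_mem_ker e he n _ ih

variable {P : Type v} [AddCommGroup P] [Module (WittVector p R) P]

/-- Iterating the nilpotence condition gains powers of `p`. -/
theorem exists_index (Vs : P →ₗ[WittVector p R] BC σ P) (n1 : ℕ)
    (h1 : ∀ x : P, vSharpPow Vs n1 x ∈
      (W4c1extbt610.IV p R ⊔ Ideal.span {(p : WittVector p R)}) •
        (⊤ : Submodule (WittVector p R) (BC (σ ^ (n1 + 1)) P))) (k : ℕ) :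
    ∃ N : ℕ, ∀ x : P, vSharpPow Vs N x ∈
      (Ideal.span {(p : WittVector p R)} ^ k) •
        (⊤ : Submodule (WittVector p R) (BC (σ ^ (N + 1)) P)) := by
  induction k with
  | zero =>
    refine ⟨0, fun x => ?_⟩
    rw [pow_zero, Ideal.one_eq_top, Submodule.top_smul]
    exact Submodule.mem_top
  | succ k ih =>
    obtain ⟨N, hN⟩ := ih
    refine ⟨N + n1 + 1, fun x => ?_⟩
    have := vSharpPow_add_mem Vs N n1 _ _ hN h1 x
    refine Submodule.smul_mono_left ?_ this
    rw [pow_succ]
    exact Ideal.mul_mono_right (map_pow_le N)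

end

/-- Let p be a prime and R a commutative ring in which p is nilpotent; write W = W(R) with Frobenius σ
and, for n ≥ 0, I_n ⊆ W for the kernel of the truncation W → W_n(R). Let (P, Q, F, V⁻¹) be a display
over R: a 3n-display whose operator V# : P → W ⊗_{σ,W} P (the W-linear map with V#(w·F x) = p·(w ⊗
x) and V#(w·V⁻¹ y) = w ⊗ y) satisfies the nilpotence condition. Then for every n there is an N such
that the iterate V^{(N+1)#} : P → W ⊗_{σ^(N+1),W} P has image in I_n·(W ⊗_{σ^(N+1),W} P);
equivalently the map W_n(R) ⊗_W P → W_n(R) ⊗_{σ^(N+1),W} P induced by V^{(N+1)#} is zero. -/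
theorem result (p : ℕ) [Fact p.Prime]
    (R : Type u) [CommRing R] (hp : IsNilpotent (p : R))
    (P : Type v) [AddCommGroup P] [Module (WittVector p R) P] (D : W4c1extbt610.Display3n p R P)
    (Vs : P →ₗ[WittVector p R] Dieu.BC (WittVector.frobenius : WittVector p R →+* WittVector p R) P) (hVs : Dieu.IsVSharp D Vs)
    (hnil : Dieu.IsVNilpotent Vs) (n : ℕ) :
    ∃ N : ℕ, ∀ x : P, Dieu.vSharpPow Vs N x ∈
      (RingHom.ker (WittVector.truncate (p := p) (R := R) n)) •
        (⊤ : Submodule (WittVector p R) (Dieu.BC ((WittVector.frobenius : WittVector p R →+* WittVector p R) ^ (N + 1)) P)) := by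
  have _ := hVs
  obtain ⟨e, he⟩ := hp
  obtain ⟨n1, h1⟩ := hnil
  obtain ⟨N, hN⟩ := exists_index Vs n1 h1 (e * n)
  refine ⟨N, fun x => Submodule.smul_mono_left ?_ (hN x)⟩
  rw [Ideal.span_singleton_pow, Ideal.span_le]
  rintro _ rfl
  exact pow_mem_ker e he n

end Groth.Agent.S16537
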