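import Groth.Statements.S16539
import Mathlib
import Groth.Agent.Lib.Helper60.BCComp
import Groth.Agent.Lib.Helper60.BCBij

set_option autoImplicit false
universe u v
open Disp

namespace Groth.Agent.S16539

open Groth.Agent.Lib.Helper60.BCComp Groth.Agent.Lib.Helper60.BCBij Dieu

section

variable {p : ℕ} [Fact p.Prime] {k : Type u} [CommRing k] [CharP k p] [PerfectRing k p]
variable {M : Type v} [AddCommGroup M] [Module (WittVector p k) M]

local notation "σ" => (WittVector.frobenius : WittVector p k →+* WittVector p k)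
/-- The inverse Frobenius of `W(k)` as a ring endomorphism. -/
noncomputable abbrev tauHom (p : ℕ) [Fact p.Prime] (k : Type u) [CommRing k] [CharP k p]
    [PerfectRing k p] : WittVector p k →+* WittVector p k :=
  ((WittVector.frobeniusEquiv p k).symm : WittVector p k →+* WittVector p k)

local notation "τ" => tauHom p k

theorem sigma_tau (w : WittVector p k) : σ (τ w) = w :=
  (WittVector.frobeniusEquiv p k).apply_symm_apply w

theorem IV_le : W4c1extbt610.IV p k ≤ Ideal.span {(p : WittVector p k)} := by
  rw [W4c1extbt610.IV, Ideal.span_le]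
  rintro _ ⟨w, rfl⟩
  obtain ⟨u, rfl⟩ := (WittVector.frobenius_bijective p k).surjective w
  rw [SetLike.mem_coe, WittVector.verschiebung_frobenius]
  exact Ideal.mul_mem_left _ _ (Ideal.subset_span rfl)

theorem J_le : W4c1extbt610.IV p k ⊔ Ideal.span {(p : WittVector p k)} ≤
    Ideal.span {(p : WittVector p k)} := sup_le IV_le le_rfl

theorem pow_bijective (n : ℕ) : Function.Bijective (σ ^ n) := by
  rw [RingHom.coe_pow]
  exact (WittVector.frobenius_bijective p k).iterate n

theorem comap_le (n : ℕ) :
    (Ideal.span {(p : WittVector p k)}).comap (σ ^ n) ≤ Ideal.span {(p : WittVector p k)} := by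
  intro r hr
  rw [Ideal.mem_comap, Ideal.mem_span_singleton'] at hr
  obtain ⟨a, ha⟩ := hr
  obtain ⟨a', rfl⟩ := (pow_bijective (p := p) (k := k) n).surjective a
  have : (σ ^ n) (a' * (p : WittVector p k)) = (σ ^ n) r := by
    rw [map_mul, map_natCast, ha]
  rw [← (pow_bijective (p := p) (k := k) n).injective this]
  exact Ideal.mul_mem_left _ _ (Ideal.subset_span rfl)

theorem map_eq (n : ℕ) :
    (Ideal.span {(p : WittVector p k)}).map (σ ^ n) = Ideal.span {(p : WittVector p k)} := by
  rw [Ideal.map_span, Set.image_singleton, map_natCast]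

/-- The operator `V^#` of a Dieudonné module: `m ↦ 1 ⊗ V m`. -/
noncomputable def VsOf (Dm : DieuMod p k M) : M →ₗ[WittVector p k] BC σ M where
  toFun m := BC.tmul σ 1 (Dm.V m)
  map_add' x y := by rw [map_add, BC.tmul_add]
  map_smul' w m := by
    rw [RingHom.id_apply, map_smulₛₗ, ← BC.tmul_mul_apply, one_mul, sigma_tau,
      BC.tmul_eq_smul_tmul_one]

theorem VsOf_apply (Dm : DieuMod p k M) (m : M) : VsOf Dm m = BC.tmul σ 1 (Dm.V m) := rfl

theorem vSharpPow_eq (Vs : M →ₗ[WittVector p k] BC σ M) (V : M → M)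
    (hVs : ∀ m, Vs m = BC.tmul σ 1 (V m)) (n : ℕ) :
    ∀ m, vSharpPow Vs n m = BC.tmul (σ ^ (n + 1)) 1 (V^[n + 1] m) := by
  induction n with
  | zero =>
    intro m
    rw [vSharpPow_zero_apply, hVs, BC.castHom_tmul]
    rfl
  | succ n ih =>
    intro m
    rw [vSharpPow_succ_eq, hVs, L_tmul, one_smul, ih, BC.push_tmul, BC.castHom_tmul, map_one]
    rfl

theorem iterate_V_smul (Dm : DieuMod p k M) (j : ℕ) :
    ∀ (r : WittVector p k) (m : M), (⇑Dm.V)^[j] (r • m) = ((τ ^ j) r) • (⇑Dm.V)^[j] m := by
  induction j with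
  | zero => intro r m; rfl
  | succ j ih =>
    intro r m
    rw [Function.iterate_succ_apply, Function.iterate_succ_apply, map_smulₛₗ, ih, pow_succ]
    rfl

theorem stepUp (Dm : DieuMod p k M) (N : ℕ)
    (hN : ∀ m, (⇑Dm.V)^[N] m ∈
      Ideal.span {(p : WittVector p k)} • (⊤ : Submodule (WittVector p k) M))
    (e : ℕ) (x : M)
    (hx : x ∈ (Ideal.span {(p : WittVector p k)} ^ e) • (⊤ : Submodule (WittVector p k) M)) :
    (⇑Dm.V)^[N] x ∈
      (Ideal.span {(p : WittVector p k)} ^ (e + 1)) • (⊤ : Submodule (WittVector p k) M) := by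
  refine Submodule.smul_induction_on hx (fun r hr n _ => ?_) (fun x y hx hy => ?_)
  · rw [iterate_V_smul, pow_succ, Submodule.mul_smul]
    refine Submodule.smul_mem_smul ?_ (hN n)
    rw [Ideal.span_singleton_pow, Ideal.mem_span_singleton'] at hr ⊢
    obtain ⟨a, rfl⟩ := hr
    exact ⟨(τ ^ N) a, by rw [map_mul, map_pow, map_natCast]⟩
  · rw [iterate_map_add]; exact Submodule.add_mem _ hx hy

theorem topNilp_of (Dm : DieuMod p k M) (N : ℕ)
    (hN : ∀ m, (⇑Dm.V)^[N] m ∈
      Ideal.span {(p : WittVector p k)} • (⊤ : Submodule (WittVector p k) M)) (e : ℕ) :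
    ∀ m, (⇑Dm.V)^[N * e] m ∈
      (Ideal.span {(p : WittVector p k)} ^ e) • (⊤ : Submodule (WittVector p k) M) := by
  induction e with
  | zero =>
    intro m
    rw [pow_zero, Ideal.one_eq_top, Submodule.top_smul]
    exact Submodule.mem_top
  | succ e ih =>
    intro m
    rw [Nat.mul_succ, Nat.add_comm (N * e) N, Function.iterate_add_apply]
    exact stepUp Dm N hN e _ (ih m)

end

/-- Let p be a prime, k a perfect commutative ring of characteristic p, W = W(k) with Frobenius
automorphism σ, and M a finitely generated projective W-module carrying a Dieudonné module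
structure, a σ-semilinear F and a σ⁻¹-semilinear V with FV = VF = p. Let D be the associated
3n-display (M, VM, F, V⁻¹): the 3n-display structure on M whose submodule is the image of V, whose
Frobenius operator is F and whose inverse operator sends V m to m. Then D is a display, i.e. its
operator V# satisfies the nilpotence condition, if and only if V is topologically nilpotent for the
p-adic topology on M: for every e some power of V maps M into p^e M. -/
theorem result (p : ℕ) [Fact p.Prime] (k : Type u) [CommRing k]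
    [CharP k p] [PerfectRing k p]
    (M : Type v) [AddCommGroup M] [Module (WittVector p k) M] [Module.Finite (WittVector p k) M]
    [Module.Projective (WittVector p k) M] (Dm : Dieu.DieuMod p k M) (D : W4c1extbt610.Display3n p k M)
    (hF : D.F = Dm.F) (hQ : ∀ x : M, x ∈ D.Q ↔ x ∈ Set.range Dm.V)
    (hV : ∀ (m : M) (h : Dm.V m ∈ D.Q), D.Vinv ⟨Dm.V m, h⟩ = m) :
    Dieu.IsDisplay D ↔ Dm.VTopNilp := by
  constructor
  · rintro ⟨Vs, hVs, n, hn⟩
    have hVsm : ∀ m, Vs m = BC.tmul
        (WittVector.frobenius : WittVector p k →+* WittVector p k) 1 (Dm.V m) := by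
      intro m
      have hmem : Dm.V m ∈ D.Q := (hQ _).mpr ⟨m, rfl⟩
      have := hVs.app_smul_Vinv 1 ⟨Dm.V m, hmem⟩
      rw [hV m hmem, one_smul] at this
      exact this
    have h1 : ∀ m, (⇑Dm.V)^[n + 1] m ∈
        Ideal.span {(p : WittVector p k)} • (⊤ : Submodule (WittVector p k) M) := by
      intro m
      have h2 := hn m
      rw [vSharpPow_eq Vs Dm.V hVsm] at h2
      have h3 := Submodule.smul_mono_left J_le h2
      have h4 := mem_of_tmul_one_mem _ (pow_bijective (n + 1)) _ _ h3
      exact Submodule.smul_mono_left (comap_le (n + 1)) h4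
    intro e
    exact ⟨(n + 1) * e, topNilp_of Dm (n + 1) h1 e⟩
  · intro h
    obtain ⟨n, hn⟩ := h 1
    refine ⟨VsOf Dm, ⟨?_, ?_⟩, n, ?_⟩
    · intro w x
      rw [map_smul, hF, VsOf_apply, Dm.V_F, ← BC.tmul_apply_eq, map_natCast, BC.smul_tmul,
        BC.smul_tmul, mul_comm]
    · rintro w ⟨y, hy⟩
      obtain ⟨m, rfl⟩ := (hQ y).mp hy
      rw [hV m hy, map_smul, VsOf_apply, BC.smul_tmul, mul_one]
    · intro x
      rw [vSharpPow_eq (VsOf Dm) Dm.V (fun m => rfl), Function.iterate_succ_apply]
      have h2 := hn (Dm.V x)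
      rw [pow_one] at h2
      have h3 := tmul_one_mem ((WittVector.frobenius : WittVector p k →+* WittVector p k) ^ (n + 1))
        _ _ h2
      rw [map_eq] at h3
      exact Submodule.smul_mono_left le_sup_right h3

end Groth.Agent.S16539
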