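import Groth.Statements.S4646
import Groth.Agent.Lib.Helper21.SepFibreIrr
import Groth.Agent.Lib.Helper21.GaloisSplit
-- import your own Groth.Agent.* helpers here

set_option autoImplicit false
open CategoryTheory AlgebraicGeometry
universe u
open FBase

namespace Groth.Agent.S4646

/-- Let X be a scheme over a field k having finitely many irreducible components, such that for the
generic point x of each irreducible component the separable algebraic closure of k in κ(x) has
finite degree over k. Then there is a finite separable extension L of k such that all irreducible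
components of X ⊗_k L are geometrically irreducible over L: for every extension field K of L and
every irreducible component Z' of X ⊗_k L, the inverse image of Z' in (X ⊗_k L) ⊗_L K is
irreducible. (No finite-type hypothesis on X.) -/
theorem result {k : Type u} [Field k] {X : Scheme.{u}}
    (f : X ⟶ Spec (CommRingCat.of k)) [Finite ↥(irreducibleComponents ↥X)]
    (hx : ∀ (Z : Set ↥X) (hZ : Z ∈ irreducibleComponents ↥X),
      FBase.ResidueFieldProp f hZ.1.genericPoint (fun K _ _ => FiniteDimensional k (separableClosure k K))) :
    ∃ (L : Type u) (_ : Field L) (_ : Algebra k L), FiniteDimensional k L ∧ Algebra.IsSeparable k L ∧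
      ∀ (K : Type u) [Field K] [Algebra L K] (Z' : Set ↥(FBase.bc f L)), Z' ∈ irreducibleComponents ↥(FBase.bc f L) →
        IsIrreducible (⇑(FBase.bcπ (FBase.bcStr f L) K) ⁻¹' Z') := by
  classical
  choose φZ hφZ using hx
  let alg : ∀ Zc : ↥(irreducibleComponents ↥X),
      Algebra k (X.residueField Zc.2.1.genericPoint) := fun Zc => (φZ Zc.1 Zc.2).toAlgebra
  have hfd : ∀ Zc : ↥(irreducibleComponents ↥X),
      FiniteDimensional k (separableClosure k (X.residueField Zc.2.1.genericPoint)) :=
    fun Zc => (hφZ Zc.1 Zc.2).2
  obtain ⟨L, i1, i2, hfin, hsep, hN⟩ :=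
    Groth.Agent.Lib.Helper21.exists_finite_separable_splitting k
      (fun Zc : ↥(irreducibleComponents ↥X) =>
        separableClosure k (X.residueField Zc.2.1.genericPoint))
  refine ⟨L, i1, i2, hfin, hsep, ?_⟩
  intro K _ _ Z' hZ'
  have hZ : irreducibleComponent (Groth.Agent.Lib.Helper21.bcπ' f L hZ'.1.genericPoint) ∈
      irreducibleComponents ↥X := irreducibleComponent_mem_irreducibleComponents _
  have hπ := Groth.Agent.Lib.Helper21.map_genericPoint_irreducibleComponent f L Z' hZ' _ hZ
    mem_irreducibleComponent
  let _ : Algebra k (X.residueField hZ.1.genericPoint) := alg ⟨_, hZ⟩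
  have hN' : ∀ a : separableClosure k (X.residueField hZ.1.genericPoint),
      ((minpoly k (a : X.residueField hZ.1.genericPoint)).map (algebraMap k L)).Splits := by
    intro a
    rw [← IntermediateField.minpoly_eq]
    exact hN ⟨_, hZ⟩ a
  exact Groth.Agent.Lib.Helper21.isIrreducible_preimage_irreducibleComponent f hZ.1.genericPoint
    (hφZ _ hZ).1 L hN' Z' hZ' hπ K

end Groth.Agent.S4646
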