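import Groth.Statements.S1654
import Groth.Agent.Lib.Helper21.ResFieldEFT
import Groth.Agent.S4646
-- import your own Groth.Agent.* helpers here

set_option autoImplicit false
universe u
open CategoryTheory CategoryTheory.Limits AlgebraicGeometry
open Variety

namespace Groth.Agent.S1654

/-- Let X be a k-scheme locally of finite type, having only finitely many irreducible components. There
is then a finite separable extension k' of k such that every irreducible component of X_{k'}, with
its reduced induced structure, is geometrically irreducible over k'. -/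
theorem result (k : Type u) [Field k] (X : Scheme.{u}) [X.Over (Spec (CommRingCat.of k))] [LocallyOfFiniteType (X ↘ (Spec (CommRingCat.of k)))]
    (hirr : (irreducibleComponents (X : Type u)).Finite) :
    ∃ (k' : Type u) (_ : Field k') (_ : Algebra k k'), FiniteDimensional k k' ∧ Algebra.IsSeparable k k' ∧
      ∀ (T : Set (Curv2.bc k X k')) (hT : T ∈ irreducibleComponents (Curv2.bc k X k' : Type u)),
        GeometricallyIrreducible
          ((Scheme.IdealSheafData.vanishingIdeal ⟨T, isClosed_of_mem_irreducibleComponents T hT⟩).subschemeι ≫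
            Curv2.bcSnd k X k') := by
  have hfinite : Finite ↥(irreducibleComponents ↥X) := hirr.to_subtype
  have hx : ∀ (Z : Set ↥X) (hZ : Z ∈ irreducibleComponents ↥X),
      FBase.ResidueFieldProp (X ↘ Spec (CommRingCat.of k)) hZ.1.genericPoint
        (fun K _ _ => FiniteDimensional k (separableClosure k K)) := by
    intro Z hZ
    exact ⟨Curv2.resMap k X _, Groth.Agent.Lib.Helper21.SpecMap_resMap k X _,
      Groth.Agent.Lib.Helper21.finiteDimensional_separableClosure_residueField
        (X ↘ Spec (CommRingCat.of k)) _ _ (Groth.Agent.Lib.Helper21.SpecMap_resMap k X _)⟩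
  obtain ⟨L, hLf, hLa, hfd, hsep, hL⟩ := Groth.Agent.S4646.result (X ↘ Spec (CommRingCat.of k)) hx
  refine ⟨L, hLf, hLa, hfd, hsep, ?_⟩
  intro T hT
  refine ⟨geometrically_iff_of_commRing_of_isClosedUnderIsomorphisms.mpr ?_⟩
  intro K _ _
  have hrange : Set.range (Scheme.IdealSheafData.vanishingIdeal
      ⟨T, isClosed_of_mem_irreducibleComponents T hT⟩).subschemeι = T := by
    rw [Scheme.IdealSheafData.range_subschemeι, Scheme.IdealSheafData.coe_support_vanishingIdeal]
    rfl
  have hirrT : IsIrreducible ((pullback.fst (Curv2.bcSnd k X L)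
      (Spec.map (CommRingCat.ofHom (algebraMap L K)))).base ⁻¹' T) := hL K T hT
  have hP : IrreducibleSpace ↥(pullback (Scheme.IdealSheafData.vanishingIdeal
      ⟨T, isClosed_of_mem_irreducibleComponents T hT⟩).subschemeι
      (pullback.fst (Curv2.bcSnd k X L) (Spec.map (CommRingCat.ofHom (algebraMap L K))))) := by
    apply Groth.Agent.Lib.Helper21.irreducibleSpace_of_isInducing_of_isIrreducible_range
      (Scheme.Hom.isClosedEmbedding (pullback.snd (Scheme.IdealSheafData.vanishingIdeal
        ⟨T, isClosed_of_mem_irreducibleComponents T hT⟩).subschemeι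
        (pullback.fst (Curv2.bcSnd k X L)
          (Spec.map (CommRingCat.ofHom (algebraMap L K)))))).isInducing
    rw [Scheme.Pullback.range_snd, hrange]
    exact hirrT
  exact ((pullbackRightPullbackFstIso (Curv2.bcSnd k X L)
    (Spec.map (CommRingCat.ofHom (algebraMap L K)))
    (Scheme.IdealSheafData.vanishingIdeal
      ⟨T, isClosed_of_mem_irreducibleComponents T hT⟩).subschemeι).hom.homeomorph.irreducibleSpace_iff).1 hP

end Groth.Agent.S1654
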