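import Groth.Statements.S16541
import Mathlib.RingTheory.TensorProduct.IncludeLeftSubRight
import Mathlib.RingTheory.Flat.Basic
-- import your own Groth.Agent.* helpers here

set_option autoImplicit false
universe u v
open CAlg

namespace Groth.Agent.S16541

section abstract
open TensorProduct Dieu
variable {A B C : Type u} [CommRing A] [CommRing B] [CommRing C]
  (g : A →+* B) (h₁ h₂ : B →+* C) (e : h₁.comp g = h₂.comp g)
  (M : Type v) [AddCommGroup M] [Module A M]

/-- `a ↦ g a` as an `A`-linear map `A → Res g`. -/
def gam : A →ₗ[A] Res g where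
  toFun a := Res.mk g (g a)
  map_add' a b := by apply Res.ext; simp [Res.val_mk, map_add]
  map_smul' a b := by apply Res.ext; simp [Res.val_mk, Res.val_smul]

/-- `h₂` as an `A`-linear map. -/
def phi2 : Res g →ₗ[A] Res (h₂.comp g) where
  toFun t := Res.mk _ (h₂ t.val)
  map_add' a b := by apply Res.ext; simp [Res.val_mk, map_add]
  map_smul' a b := by apply Res.ext; simp [Res.val_mk, Res.val_smul]

include e in
/-- `h₁` as an `A`-linear map (uses `e`). -/
def phi1 : Res g →ₗ[A] Res (h₂.comp g) where
  toFun t := Res.mk _ (h₁ t.val)
  map_add' a b := by apply Res.ext; simp [Res.val_mk, map_add]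
  map_smul' a b := by
    apply Res.ext
    have := congrArg (fun f => f a) e
    simp only [RingHom.comp_apply] at this
    simp [Res.val_mk, Res.val_smul, this]

variable {M}

/-- the identity, as an additive equivalence between `BC g M` and the underlying tensor product -/
def toTP : BC g M ≃+ Res g ⊗[A] M := AddEquiv.refl _

lemma toTP_tmul (b : B) (x : M) : toTP g (BC.tmul g b x) = (Res.mk g b) ⊗ₜ[A] x := rfl

lemma ι_eq (x : M) : toTP g (BC.ι g M x) = (gam g).rTensor M ((1 : A) ⊗ₜ[A] x) := by
  rw [BC.ι_apply, toTP_tmul, LinearMap.rTensor_tmul]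
  congr 1
  apply Res.ext
  simp [gam]

lemma push2_eq (z : BC g M) :
    toTP (h₂.comp g) (BC.push g h₂ z) = (phi2 g h₂).rTensor M (toTP g z) := by
  induction z using BC.induction_on g with
  | zero => simp only [map_zero]
  | tmul b x => rw [BC.push_tmul, toTP_tmul, toTP_tmul, LinearMap.rTensor_tmul]; rfl
  | add z₁ z₂ h₁ h₂ => simp only [map_add, h₁, h₂]

lemma push1_eq (z : BC g M) :
    toTP (h₂.comp g) (BC.castHom e (BC.push g h₁ z)) =
      (phi1 g h₁ h₂ e).rTensor M (toTP g z) := by
  induction z using BC.induction_on g with
  | zero => simp only [map_zero]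
  | tmul b x =>
    rw [BC.push_tmul, BC.castHom_tmul, toTP_tmul, toTP_tmul, LinearMap.rTensor_tmul]; rfl
  | add z₁ z₂ h₁ h₂ => simp only [map_add, h₁, h₂]

theorem abstract_descent [Module.Flat A M] (hg : Function.Injective g)
    (heq : ∀ b : B, h₁ b = h₂ b → b ∈ Set.range g) :
    Function.Injective (BC.ι g M) ∧
      ∀ z : BC g M, (BC.castHom e (BC.push g h₁ z) = BC.push g h₂ z ↔
        z ∈ Set.range (BC.ι g M)) := by
  have hγ : Function.Injective (gam g) := by
    intro a b hab
    exact hg (congrArg Res.val hab)
  have hex : Function.Exact (gam g) (phi1 g h₁ h₂ e - phi2 g h₂) := by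
    intro t
    constructor
    · intro ht
      have h' : h₁ t.val = h₂ t.val := by
        have := congrArg Res.val ht
        exact sub_eq_zero.mp this
      obtain ⟨a, ha⟩ := heq _ h'
      exact ⟨a, Res.ext g ha⟩
    · rintro ⟨a, rfl⟩
      apply Res.ext
      have := congrArg (fun f => f a) e
      simp only [RingHom.comp_apply] at this
      exact sub_eq_zero.mpr this
  have hγM : Function.Injective ((gam g).rTensor M) :=
    Module.Flat.rTensor_preserves_injective_linearMap _ hγ
  have hexM : Function.Exact ((gam g).rTensor M) ((phi1 g h₁ h₂ e - phi2 g h₂).rTensor M) :=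
    Module.Flat.rTensor_exact M hex
  have hrange : ∀ z : BC g M, z ∈ Set.range (BC.ι g M) ↔
      toTP g z ∈ Set.range ((gam g).rTensor M) := by
    intro z
    constructor
    · rintro ⟨x, rfl⟩
      exact ⟨_, (ι_eq g x).symm⟩
    · rintro ⟨y, hy⟩
      obtain ⟨x, rfl⟩ := (TensorProduct.lid A M).symm.surjective y
      refine ⟨x, (toTP g).injective ?_⟩
      rw [ι_eq, ← hy]; rfl
  refine ⟨?_, fun z => ?_⟩
  · intro x y hxy
    have h2 := congrArg (toTP g) hxy
    rw [ι_eq, ι_eq] at h2
    have := hγM h2
    exact (TensorProduct.lid A M).symm.injective this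
  · rw [hrange, ← (toTP (h₂.comp g)).injective.eq_iff, push1_eq, push2_eq, ← sub_eq_zero,
      ← LinearMap.sub_apply, ← LinearMap.rTensor_sub]
    exact hexM (toTP g z)

end abstract

/-- Let p be a prime, S → R a faithfully flat homomorphism of commutative rings and M a flat
W(S)-module; write ι₁, ι₂ : R → R ⊗_S R for the two coprojections, M_R = W(R) ⊗_{W(S)} M and M_{R ⊗
R} = W(R ⊗_S R) ⊗_{W(S)} M for the scalar extensions along W(S) → W(R) and W(S) → W(R ⊗_S R). Then 0
→ M → M_R ⇉ M_{R ⊗ R} is exact: the map x ↦ 1 ⊗ x from M to M_R is injective, and an element of M_R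
has the same image under the two maps w ⊗ x ↦ W(ι₁)(w) ⊗ x and w ⊗ x ↦ W(ι₂)(w) ⊗ x exactly when it
is of the form 1 ⊗ x. The hypothesis e records that the two composite ring maps W(S) → W(R) → W(R
⊗_S R) agree (both coprojections are S-algebra maps); it serves to identify the two targets. -/
theorem result (p : ℕ) [Fact p.Prime]
    (S R : Type u) [CommRing S] [CommRing R] [Algebra S R] [Module.FaithfullyFlat S R]
    (M : Type v) [AddCommGroup M] [Module (WittVector p S) M] [Module.Flat (WittVector p S) M]
    (e : (WittVector.map (Algebra.TensorProduct.includeLeftRingHom : R →+* TensorProduct S R R) : WittVector p R →+* WittVector p (TensorProduct S R R)).comp (WittVector.map (algebraMap S R) : WittVector p S →+* WittVector p R) = (WittVector.map ((Algebra.TensorProduct.includeRight : R →ₐ[S] TensorProduct S R R) : R →+* TensorProduct S R R) : WittVector p R →+* WittVector p (TensorProduct S R R)).comp (WittVector.map (algebraMap S R) : WittVector p S →+* WittVector p R)) :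
    Function.Injective (Dieu.BC.ι (WittVector.map (algebraMap S R) : WittVector p S →+* WittVector p R) M) ∧
      ∀ z : Dieu.BC (WittVector.map (algebraMap S R) : WittVector p S →+* WittVector p R) M,
        (Dieu.BC.castHom e (Dieu.BC.push (WittVector.map (algebraMap S R) : WittVector p S →+* WittVector p R) (WittVector.map (Algebra.TensorProduct.includeLeftRingHom : R →+* TensorProduct S R R) : WittVector p R →+* WittVector p (TensorProduct S R R)) z) = Dieu.BC.push (WittVector.map (algebraMap S R) : WittVector p S →+* WittVector p R) (WittVector.map ((Algebra.TensorProduct.includeRight : R →ₐ[S] TensorProduct S R R) : R →+* TensorProduct S R R) : WittVector p R →+* WittVector p (TensorProduct S R R)) z ↔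
          z ∈ Set.range (Dieu.BC.ι (WittVector.map (algebraMap S R) : WittVector p S →+* WittVector p R) M)) := by
  apply abstract_descent
  · exact WittVector.map_injective _ (FaithfulSMul.algebraMap_injective S R)
  · intro b hb
    have heff := Algebra.IsEffective.of_faithfullyFlat S R
    have hc : ∀ n, ∃ s : S, algebraMap S R s = b.coeff n := by
      intro n
      have h1 := congrArg (fun w => w.coeff n) hb
      simp only [WittVector.map_coeff] at h1
      have h2 : Algebra.TensorProduct.includeLeftSubRight S R (b.coeff n) = 0 := by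
        rw [Algebra.TensorProduct.includeLeftSubRight_apply, sub_eq_zero]
        exact h1
      exact (heff (b.coeff n)).mp h2
    choose s hs using hc
    refine ⟨WittVector.mk p s, ?_⟩
    ext n
    rw [WittVector.map_coeff, WittVector.coeff_mk, hs]

end Groth.Agent.S16541
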