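import Groth.Statements.S16542
import Mathlib.RingTheory.Flat.FaithfullyFlat.Algebra
import Mathlib.RingTheory.WittVector.Domain
-- import your own Groth.Agent.* helpers here

set_option autoImplicit false
universe u v
open Disp

namespace Groth.Agent.S16542

section aux
open TensorProduct Dieu

lemma BC_ι_injective {W S R : Type u} [CommRing W] [CommRing S] [CommRing R] [Algebra S R]
    [Module.FaithfullyFlat S R]
    (π₀ : W →+* S) (hπ : Function.Surjective π₀) (g : W →+* R)
    (hg : ∀ w, g w = algebraMap S R (π₀ w))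
    (N : Type v) [AddCommGroup N] [Module W N] (hN : ∀ w, π₀ w = 0 → ∀ y : N, w • y = 0) :
    Function.Injective (BC.ι g N) := by
  classical
  let σ : S → W := Function.surjInv hπ
  have hσ : ∀ s, π₀ (σ s) = s := Function.surjInv_eq hπ
  let : SMul S N := ⟨fun s y => σ s • y⟩
  have hsmul : ∀ (w : W) (y : N), π₀ w • y = w • y := by
    intro w y
    change σ (π₀ w) • y = w • y
    have h0 : π₀ (σ (π₀ w) - w) = 0 := by rw [map_sub, hσ, sub_self]
    have := hN _ h0 y
    rwa [sub_smul, sub_eq_zero] at this
  let : Module S N := Function.Surjective.moduleLeft π₀ hπ hsmul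
  let F : Res g →+ N →+ R ⊗[S] N :=
    { toFun := fun t => ((TensorProduct.mk S R N) t.val).toAddMonoidHom
      map_zero' := by ext y; simp
      map_add' := by intro s t; ext y; simp }
  have hbal : ∀ (w : W) (t : Res g) (y : N), F (w • t) y = F t (w • y) := by
    intro w t y
    change (g w * t.val) ⊗ₜ[S] y = t.val ⊗ₜ[S] (w • y)
    rw [← hsmul w y, TensorProduct.tmul_smul, TensorProduct.smul_tmul', hg, Algebra.smul_def]
  let c : Res g ⊗[W] N →+ R ⊗[S] N := TensorProduct.liftAddHom F hbal
  rw [injective_iff_map_eq_zero]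
  intro y hy
  have h1 : c ((Res.mk g 1) ⊗ₜ[W] y) = (1 : R) ⊗ₜ[S] y := rfl
  have h2 : ((Res.mk g 1) ⊗ₜ[W] y : Res g ⊗[W] N) = 0 := hy
  rw [h2, map_zero] at h1
  exact (injective_iff_map_eq_zero (TensorProduct.mk S R N 1)).mp
    (Module.FaithfullyFlat.tensorProduct_mk_injective (A := S) (B := R) N) y h1.symm

lemma mem_IV_of_coeff_zero (p : ℕ) [Fact p.Prime] (S : Type u) [CommRing S] (w : WittVector p S)
    (h : w.coeff 0 = 0) : w ∈ W4c1extbt610.IV p S := by
  have := WittVector.verschiebung_shift w 0 (by intro i hi; rw [Nat.lt_one_iff.mp hi]; exact h)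
  have h0 : w.shift 0 = w := by
    ext i; rw [WittVector.shift_coeff, zero_add]
  rw [h0] at this
  rw [← this]
  exact W4c1extbt610.verschiebung_mem_IV p S _

end aux

/-- Let p be a prime, S → R a faithfully flat homomorphism of commutative rings with p nilpotent in S,
(P, Q, F, V⁻¹) a display over S, and (P_R, Q_R, F_R, V_R⁻¹) a 3n-display structure on P_R = W(R)
⊗_{W(S)} P which is its base change along S → R (Q_R the kernel of P_R → R ⊗_S (P/Q), F_R(w ⊗ x) =
σ(w) ⊗ F x, V_R⁻¹(w ⊗ y) = σ(w) ⊗ V⁻¹ y for y ∈ Q, V_R⁻¹(V(w) ⊗ x) = w ⊗ F x). Then for x ∈ P one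
has x ∈ Q if and only if 1 ⊗ x ∈ Q_R: together with the exactness of 0 → P → P_R ⇉ P_{R ⊗ R} this is
the exactness of 0 → Q → Q_R ⇉ Q_{R ⊗ R} at Q. -/
theorem result (p : ℕ) [Fact p.Prime]
    (S R : Type u) [CommRing S] [CommRing R] [Algebra S R] [Module.FaithfullyFlat S R] (hp : IsNilpotent (p : S))
    (P : Type v) [AddCommGroup P] [Module (WittVector p S) P] (D : W4c1extbt610.Display3n p S P)
    (hD : Dieu.IsDisplay D)
    (DR : W4c1extbt610.Display3n p R (Dieu.BC (WittVector.map (algebraMap S R) : WittVector p S →+* WittVector p R) P))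
    (hDR : Dieu.IsDispBaseChange (algebraMap S R) D DR) (x : P) :
    x ∈ D.Q ↔ Dieu.BC.ι (WittVector.map (algebraMap S R) : WittVector p S →+* WittVector p R) P x ∈ DR.Q := by
  open Dieu in
  rw [hDR.Q_eq, LinearMap.mem_ker, BC.ι_apply, bcQuotMap_tmul, map_one]
  constructor
  · intro hx
    have : D.Q.mkQ x = 0 := (Submodule.Quotient.mk_eq_zero _).mpr hx
    rw [this, BC.tmul_zero]
  · intro h
    have hinj := BC_ι_injective (W := WittVector p S) (S := S) (R := R)
      (WittVector.constantCoeff : WittVector p S →+* S)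
      (fun s => ⟨WittVector.mk p (fun n => if n = 0 then s else 0), by
        simp [WittVector.constantCoeff_apply, WittVector.coeff_mk]⟩)
      ((WittVector.constantCoeff : WittVector p R →+* R).comp
          (WittVector.map (algebraMap S R) : WittVector p S →+* WittVector p R))
      (by intro w; simp [WittVector.constantCoeff_apply, WittVector.map_coeff])
      (P ⧸ D.Q) (by
        intro w hw y
        obtain ⟨x, rfl⟩ := Submodule.Quotient.mk_surjective _ y
        rw [← Submodule.Quotient.mk_smul, Submodule.Quotient.mk_eq_zero]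
        apply D.IV_smul_le
        exact Submodule.smul_mem_smul (mem_IV_of_coeff_zero p S w hw) Submodule.mem_top)
    have h2 := (injective_iff_map_eq_zero _).mp hinj (D.Q.mkQ x) h
    exact (Submodule.Quotient.mk_eq_zero _).mp h2

end Groth.Agent.S16542
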