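import Groth.Statements.S16543
import Mathlib
import Groth.Agent.Lib.Helper60.DispRigid

set_option autoImplicit false
set_option maxHeartbeats 400000
universe u v
open Disp

namespace Groth.Agent.S16543

open Dieu Groth.Agent.Lib.Helper60 Groth.Agent.Lib.Helper60.WittSqZero Groth.Agent.S16538

section

variable {p : ℕ} [Fact p.Prime] {S R : Type u} [CommRing S] [CommRing R] (f : S →+* R)
variable {P : Type v} [AddCommGroup P] [Module (WittVector p S) P]
variable {P' : Type v} [AddCommGroup P'] [Module (WittVector p S) P']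

local notation "φ" => (WittVector.map f : WittVector p S →+* WittVector p R)

theorem Vinv_congr {R₀ : Type u} [CommRing R₀] {N : Type v} [AddCommGroup N]
    [Module (WittVector p R₀) N] (E : W4c1extbt610.Display3n p R₀ N) {a b : N} (hab : a = b)
    (ha : a ∈ E.Q) (hb : b ∈ E.Q) : E.Vinv ⟨a, ha⟩ = E.Vinv ⟨b, hb⟩ := by
  subst hab; rfl

theorem ker_map_eq_Jid : RingHom.ker φ = Jid p (RingHom.ker f) := by
  ext x
  rw [WittNilFrob.mem_ker_map_iff, mem_Jid_iff]
  simp only [RingHom.mem_ker]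

theorem tmul_one_eq_zero_of_mem (z : P')
    (hz : z ∈ Jid p (RingHom.ker f) • (⊤ : Submodule (WittVector p S) P')) :
    BC.tmul φ 1 z = 0 := by
  refine Submodule.smul_induction_on hz (fun ξ hξ n _ => ?_) (fun x y hx hy => ?_)
  · rw [← ker_map_eq_Jid, RingHom.mem_ker] at hξ
    rw [← BC.tmul_apply_eq, hξ, BC.zero_tmul]
  · rw [BC.tmul_add, hx, hy, add_zero]

theorem mem_of_tmul_one_eq_zero (D' : W4c1extbt610.Display3n p S P') (X' : Aux D') (z : P') (h : BC.tmul φ 1 z = 0) :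
    z ∈ Jid p (RingHom.ker f) • (⊤ : Submodule (WittVector p S) P') := by
  rw [X'.dual z]
  refine Submodule.sum_mem _ (fun i _ => ?_)
  refine Submodule.smul_mem_smul ?_ Submodule.mem_top
  rw [← ker_map_eq_Jid, RingHom.mem_ker]
  have := congrArg (BCSem.coord φ (X'.g i)) h
  rw [BCSem.coord_tmul, one_mul, map_zero] at this
  exact this

theorem mem_of_tmul_one_mem_ker (D' : W4c1extbt610.Display3n p S P') (X' : Aux D') (x : P') (h : bcQuotMap f D'.Q (BC.tmul φ 1 x) = 0) :
    x ∈ D'.Q ⊔ Jid p (RingHom.ker f) • (⊤ : Submodule (WittVector p S) P') := by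
  have h1 := kappa_key f D' X' (BC.tmul φ 1 x)
  rw [h, map_zero, prTR_tmul, BC.push_tmul, map_one] at h1
  -- coordinates of `prT x`
  have hc : ∀ i, X'.g i (prT D' X' x) ∈
      W4c1extbt610.IV p S ⊔ Jid p (RingHom.ker f) := by
    intro i
    have h2 := congrArg (BCSem.coord _ (X'.g i)) h1
    rw [BCSem.coord_tmul, one_mul, map_zero] at h2
    set ξ := X'.g i (prT D' X' x) with hξ
    have h3 : ξ.coeff 0 ∈ RingHom.ker f := by
      rw [RingHom.mem_ker]
      have : f (WittVector.constantCoeff ξ) = 0 := by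
        have h4 : (WittVector.constantCoeff (p := p) (R := R)) (φ ξ) = 0 := h2.symm
        rw [← h4]
        change f (ξ.coeff 0) = (WittVector.map f ξ).coeff 0
        rw [WittVector.map_coeff]
      exact this
    have h5 : ξ - WittVector.teichmuller p (ξ.coeff 0) ∈ W4c1extbt610.IV p S := by
      apply mem_IV_of_constantCoeff_eq_zero
      rw [map_sub]
      change ξ.coeff 0 - (WittVector.teichmuller p (ξ.coeff 0)).coeff 0 = 0
      rw [WittVector.teichmuller_coeff_zero, sub_self]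
    have : ξ = (ξ - WittVector.teichmuller p (ξ.coeff 0)) + WittVector.teichmuller p (ξ.coeff 0) := by
      ring
    rw [this]
    exact Submodule.add_mem_sup h5 (teichmuller_mem_Jid _ _ h3)
  have hT : prT D' X' x ∈ D'.Q ⊔ Jid p (RingHom.ker f) • (⊤ : Submodule (WittVector p S) P') := by
    have h6 : prT D' X' x = ∑ i, X'.g i (prT D' X' x) • prT D' X' (X'.e i) := by
      conv_lhs => rw [← prT_of_mem_T D' X' _ (prT_mem D' X' x), X'.dual (prT D' X' x), map_sum]
      refine Finset.sum_congr rfl (fun i _ => ?_)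
      rw [map_smul]
    rw [h6]
    refine Submodule.sum_mem _ (fun i _ => ?_)
    obtain ⟨v, hv, j, hj, hvj⟩ := Submodule.mem_sup.mp (hc i)
    rw [← hvj, add_smul]
    refine Submodule.add_mem_sup ?_ (Submodule.smul_mem_smul hj Submodule.mem_top)
    rw [X'.hQ]
    exact Submodule.mem_sup_right (Submodule.smul_mem_smul hv (prT_mem D' X' _))
  rw [← prL_add_prT D' X' x]
  exact Submodule.add_mem _ (Submodule.mem_sup_left (X'.hLQ D' (prL_mem D' X' x))) hT


theorem tmul_one_surjective (hf : Function.Surjective f) (z : BC φ P') :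
    ∃ y : P', BC.tmul φ 1 y = z := by
  induction z using BC.induction_on φ with
  | zero => exact ⟨0, BC.tmul_zero _ _⟩
  | tmul b x =>
    obtain ⟨b', rfl⟩ := WittVector.map_surjective f hf b
    exact ⟨b' • x, (BC.tmul_apply_eq _ _ _).symm⟩
  | add z₁ z₂ h₁ h₂ =>
    obtain ⟨y₁, rfl⟩ := h₁
    obtain ⟨y₂, rfl⟩ := h₂
    exact ⟨y₁ + y₂, BC.tmul_add _ _ _ _⟩

/-- a `W(S)`-linear lift of a `W(R)`-linear map between the base changes -/
theorem exists_lift (hf : Function.Surjective f) (D : W4c1extbt610.Display3n p S P) (X : Aux D)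
    (χ : BC φ P →ₗ[WittVector p R] BC φ P') :
    ∃ ψ₀ : P →ₗ[WittVector p S] P', ∀ x, BC.tmul φ 1 (ψ₀ x) = χ (BC.tmul φ 1 x) := by
  choose c hc using fun i => tmul_one_surjective (P' := P') f hf (χ (BC.tmul φ 1 (X.e i)))
  refine ⟨∑ i, (X.g i).smulRight (c i), fun x => ?_⟩
  have h1 : BC.tmul φ 1 ((∑ i, (X.g i).smulRight (c i)) x) =
      ∑ i, φ (X.g i x) • BC.tmul φ 1 (c i) := by
    rw [LinearMap.sum_apply]
    have := map_sum (BC.ι φ P') (fun i => ((X.g i).smulRight (c i)) x) Finset.univ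
    change BC.ι φ P' (∑ i, ((X.g i).smulRight (c i)) x) = _
    rw [this]
    refine Finset.sum_congr rfl (fun i _ => ?_)
    rw [LinearMap.smulRight_apply, map_smulₛₗ, BC.ι_apply]
  have h2 : BC.tmul φ 1 x = ∑ i, φ (X.g i x) • BC.tmul φ 1 (X.e i) := by
    conv_lhs => rw [X.dual x]
    have := map_sum (BC.ι φ P) (fun i => X.g i x • X.e i) Finset.univ
    change BC.ι φ P (∑ i, X.g i x • X.e i) = _
    rw [this]
    refine Finset.sum_congr rfl (fun i _ => ?_)
    rw [map_smulₛₗ, BC.ι_apply]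
  rw [h1, h2, map_sum]
  refine Finset.sum_congr rfl (fun i _ => ?_)
  rw [map_smul, hc]

/-- a power of `p` kills `W(a)` -/
theorem exists_pow_mul_eq_zero (hp : IsNilpotent (p : S)) (a : Ideal S) (ha : IsNilpotent a) :
    ∃ N : ℕ, ∀ ξ ∈ Jid p a, (p : WittVector p S) ^ N * ξ = 0 := by
  obtain ⟨k, hk⟩ := chain_eq_bot a ha hp
  refine ⟨k, fun ξ hξ => ?_⟩
  have h : ∀ m : ℕ, (p : WittVector p S) ^ m * ξ ∈ Jid p (chain p a m) := by
    intro m
    induction m with
    | zero => rw [pow_zero, one_mul, chain_zero]; exact hξ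
    | succ m ih =>
      rw [pow_succ', mul_assoc]
      exact p_mul_mem _ _ (chain_step a m) _ ih
  have := h k
  rwa [hk, Jid_bot, Ideal.mem_bot] at this

theorem pow_smul_eq_zero {N : ℕ} (a : Ideal S)
    (hN : ∀ ξ ∈ Jid p a, (p : WittVector p S) ^ N * ξ = 0) (z : P')
    (hz : z ∈ Jid p a • (⊤ : Submodule (WittVector p S) P')) :
    (p : WittVector p S) ^ N • z = 0 := by
  refine Submodule.smul_induction_on hz (fun ξ hξ n _ => ?_) (fun x y hx hy => ?_)
  · rw [smul_smul, hN ξ hξ, zero_smul]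
  · rw [smul_add, hx, hy, add_zero]


theorem isHom_sub (D : W4c1extbt610.Display3n p S P) (D' : W4c1extbt610.Display3n p S P')
    (ψ χ : P →ₗ[WittVector p S] P') (hψ : W4c1extbt610.IsHom D D' ψ)
    (hχ : W4c1extbt610.IsHom D D' χ) : W4c1extbt610.IsHom D D' (ψ - χ) where
  mapsTo q hq := by
    rw [LinearMap.sub_apply]; exact D'.Q.sub_mem (hψ.mapsTo q hq) (hχ.mapsTo q hq)
  comm_F x := by
    rw [LinearMap.sub_apply, LinearMap.sub_apply, map_sub, hψ.comm_F, hχ.comm_F]
  comm_Vinv q := by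
    rw [LinearMap.sub_apply, hψ.comm_Vinv, hχ.comm_Vinv, ← map_sub]
    exact congrArg D'.Vinv (Subtype.ext rfl)

theorem part1 (hp : IsNilpotent (p : S)) (hker : IsNilpotent (RingHom.ker f))
    (D : W4c1extbt610.Display3n p S P) (D' : W4c1extbt610.Display3n p S P')
    (hD : IsDisplay D) (ψ χ : P →ₗ[WittVector p S] P') (hψ : W4c1extbt610.IsHom D D' ψ)
    (hχ : W4c1extbt610.IsHom D D' χ) (h : BC.map φ ψ = BC.map φ χ) : ψ = χ := by
  obtain ⟨X'⟩ := nonempty_aux D'
  have h0 := DispRigid.hom_eq_zero hp (RingHom.ker f) hker D hD D' (ψ - χ)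
    (isHom_sub D D' ψ χ hψ hχ) ?_
  · exact sub_eq_zero.mp h0
  · intro u
    apply mem_of_tmul_one_eq_zero f D' X'
    have h1 : BC.tmul φ 1 (ψ u) = BC.tmul φ 1 (χ u) := by
      rw [← BC.map_tmul, ← BC.map_tmul φ χ, h]
    rw [LinearMap.sub_apply, ← BC.ι_apply, map_sub, BC.ι_apply, BC.ι_apply, h1, sub_self]

theorem part2 (hp : IsNilpotent (p : S)) (hf : Function.Surjective f)
    (hker : IsNilpotent (RingHom.ker f))
    (D : W4c1extbt610.Display3n p S P) (D' : W4c1extbt610.Display3n p S P')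
    (DR : W4c1extbt610.Display3n p R (BC φ P)) (hDR : IsDispBaseChange f D DR)
    (DR' : W4c1extbt610.Display3n p R (BC φ P')) (hDR' : IsDispBaseChange f D' DR')
    (χ : BC φ P →ₗ[WittVector p R] BC φ P') (hχ : W4c1extbt610.IsHom DR DR' χ) :
    ∃ (n : ℕ) (ψ : P →ₗ[WittVector p S] P'), W4c1extbt610.IsHom D D' ψ ∧
      BC.map φ ψ = ((p : WittVector p R) ^ n) • χ := by
  obtain ⟨X⟩ := nonempty_aux D
  obtain ⟨X'⟩ := nonempty_aux D'
  obtain ⟨ψ₀, hψ₀⟩ := exists_lift f hf D X χ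
  obtain ⟨N, hN⟩ := exists_pow_mul_eq_zero hp (RingHom.ker f) hker
  have hQ1 : ∀ y ∈ D.Q, BC.tmul φ 1 y ∈ DR.Q := by
    intro y hy
    rw [hDR.Q_eq, LinearMap.mem_ker]; exact tmul_mem_ker f D 1 y hy
  have hQ1' : ∀ y ∈ D'.Q, BC.tmul φ 1 y ∈ DR'.Q := by
    intro y hy
    rw [hDR'.Q_eq, LinearMap.mem_ker]; exact tmul_mem_ker f D' 1 y hy
  have F1 : ∀ y ∈ D.Q, ψ₀ y ∈
      D'.Q ⊔ Jid p (RingHom.ker f) • (⊤ : Submodule (WittVector p S) P') := by
    intro y hy
    apply mem_of_tmul_one_mem_ker f D' X'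
    rw [hψ₀]
    have h2 := hχ.mapsTo _ (hQ1 y hy)
    rw [hDR'.Q_eq, LinearMap.mem_ker] at h2
    exact h2
  have F2 : ∀ x, ψ₀ (D.F x) - D'.F (ψ₀ x) ∈
      Jid p (RingHom.ker f) • (⊤ : Submodule (WittVector p S) P') := by
    intro x
    apply mem_of_tmul_one_eq_zero f D' X'
    have h1 := hDR.F_tmul 1 x
    rw [map_one] at h1
    have h2 := hDR'.F_tmul 1 (ψ₀ x)
    rw [map_one] at h2
    rw [← BC.ι_apply, map_sub, BC.ι_apply, BC.ι_apply, hψ₀, ← h1, hχ.comm_F, ← hψ₀, h2, sub_self]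
  have F3 : ∀ (y : D.Q) (q' : P') (hq' : q' ∈ D'.Q),
      ψ₀ y - q' ∈ Jid p (RingHom.ker f) • (⊤ : Submodule (WittVector p S) P') →
      ψ₀ (D.Vinv y) - D'.Vinv ⟨q', hq'⟩ ∈
        Jid p (RingHom.ker f) • (⊤ : Submodule (WittVector p S) P') := by
    intro y q' hq' hc
    apply mem_of_tmul_one_eq_zero f D' X'
    have hy1 := hQ1 (y : P) y.2
    have h1 := hDR.Vinv_tmul 1 y hy1
    rw [map_one] at h1
    have hq1 := hQ1' q' hq'
    have h2 := hDR'.Vinv_tmul 1 ⟨q', hq'⟩ hq1
    rw [map_one] at h2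
    have h3 : χ (BC.tmul φ 1 (y : P)) = BC.tmul φ 1 q' := by
      rw [← hψ₀]
      have := tmul_one_eq_zero_of_mem f _ hc
      rw [← BC.ι_apply, map_sub, sub_eq_zero] at this
      exact this
    rw [← BC.ι_apply, map_sub, BC.ι_apply, BC.ι_apply, hψ₀, ← h1, hχ.comm_Vinv ⟨_, hy1⟩, ← h2,
      sub_eq_zero]
    exact Vinv_congr DR' h3 _ _
  have hmaps : ∀ q : P, q ∈ D.Q → ((p : WittVector p S) ^ N • ψ₀) q ∈ D'.Q := by
    intro q hq
    obtain ⟨q', hq', c, hc, hqc⟩ := Submodule.mem_sup.mp (F1 q hq)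
    rw [LinearMap.smul_apply, ← hqc, smul_add, pow_smul_eq_zero _ hN c hc, add_zero]
    exact D'.Q.smul_mem _ hq'
  refine ⟨N, (p : WittVector p S) ^ N • ψ₀, ⟨hmaps, ?_, ?_⟩, ?_⟩
  · intro x
    rw [LinearMap.smul_apply, LinearMap.smul_apply, map_smulₛₗ, map_pow, map_natCast]
    have := pow_smul_eq_zero _ hN _ (F2 x)
    rw [smul_sub, sub_eq_zero] at this
    exact this
  · intro q
    obtain ⟨q', hq', c, hc, hqc⟩ := Submodule.mem_sup.mp (F1 q q.2)
    have hc' : ψ₀ q - q' ∈ Jid p (RingHom.ker f) • (⊤ : Submodule (WittVector p S) P') := by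
      rw [← hqc, add_sub_cancel_left]; exact hc
    have h3 := pow_smul_eq_zero _ hN _ (F3 q q' hq' hc')
    rw [smul_sub, sub_eq_zero] at h3
    have h4 : ((p : WittVector p S) ^ N • ψ₀) q = (p : WittVector p S) ^ N • q' := by
      rw [LinearMap.smul_apply, ← hqc, smul_add, pow_smul_eq_zero _ hN c hc, add_zero]
    have h5 : D'.Vinv ⟨((p : WittVector p S) ^ N • ψ₀) q, hmaps q q.2⟩ =
        D'.Vinv ((p : WittVector p S) ^ N • ⟨q', hq'⟩) := Vinv_congr D' h4 _ _
    rw [LinearMap.smul_apply, h3, h5, map_smulₛₗ, map_pow, map_natCast]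
  · apply BC.ext
    intro x
    rw [BC.map_tmul, LinearMap.smul_apply, LinearMap.smul_apply, ← hψ₀, ← BC.ι_apply, map_smulₛₗ,
      map_pow, map_natCast, BC.ι_apply]

end

/-- Let p be a prime, S a commutative ring in which p is nilpotent, f : S → R a surjective homomorphism
of commutative rings whose kernel is a nilpotent ideal, and (P, Q, F, V⁻¹), (P', Q', F', V'⁻¹) two
displays over S, i.e. 3n-displays whose operators V# satisfy the nilpotence condition. Let (P_R,
Q_R, F_R, V_R⁻¹) and (P'_R, Q'_R, F'_R, V'_R⁻¹) be their base changes along f, the 3n-display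
structures on W(R) ⊗_{W(S)} P and W(R) ⊗_{W(S)} P' characterised by Q_R = ker(P_R → R ⊗_S P/Q),
F_R(w ⊗ x) = σ(w) ⊗ F x, V_R⁻¹(w ⊗ y) = σ(w) ⊗ V⁻¹ y for y ∈ Q and V_R⁻¹(V(w) ⊗ x) = w ⊗ F x (and
likewise for P'). Then the natural map ψ ↦ id ⊗ ψ from homomorphisms of 3n-displays P → P' to
homomorphisms P_R → P'_R is injective, and its cokernel is a p-torsion group: for every homomorphism
χ of the base-changed 3n-displays there are n and a homomorphism ψ over S with id ⊗ ψ = p^n·χ. -/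
theorem result (p : ℕ) [Fact p.Prime]
    (S R : Type u) [CommRing S] [CommRing R] (hp : IsNilpotent (p : S))
    (f : S →+* R) (hf : Function.Surjective f) (hker : IsNilpotent (RingHom.ker f))
    (P P' : Type v) [AddCommGroup P] [Module (WittVector p S) P] [AddCommGroup P'] [Module (WittVector p S) P']
    (D : W4c1extbt610.Display3n p S P) (D' : W4c1extbt610.Display3n p S P')
    (hD : Dieu.IsDisplay D) (hD' : Dieu.IsDisplay D')
    (DR : W4c1extbt610.Display3n p R (Dieu.BC (WittVector.map f : WittVector p S →+* WittVector p R) P)) (hDR : Dieu.IsDispBaseChange f D DR)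
    (DR' : W4c1extbt610.Display3n p R (Dieu.BC (WittVector.map f : WittVector p S →+* WittVector p R) P')) (hDR' : Dieu.IsDispBaseChange f D' DR') :
    (∀ ψ χ : P →ₗ[WittVector p S] P', W4c1extbt610.IsHom D D' ψ → W4c1extbt610.IsHom D D' χ →
        Dieu.BC.map (WittVector.map f : WittVector p S →+* WittVector p R) ψ = Dieu.BC.map (WittVector.map f : WittVector p S →+* WittVector p R) χ → ψ = χ) ∧
      ∀ χ : Dieu.BC (WittVector.map f : WittVector p S →+* WittVector p R) P →ₗ[WittVector p R] Dieu.BC (WittVector.map f : WittVector p S →+* WittVector p R) P', W4c1extbt610.IsHom DR DR' χ →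
        ∃ (n : ℕ) (ψ : P →ₗ[WittVector p S] P'), W4c1extbt610.IsHom D D' ψ ∧
          Dieu.BC.map (WittVector.map f : WittVector p S →+* WittVector p R) ψ = ((p : WittVector p R) ^ n) • χ := by
  have _ := hD'
  exact ⟨fun ψ χ hψ hχ h => part1 f hp hker D D' hD ψ χ hψ hχ h,
    fun χ hχ => part2 f hp hf hker D D' DR hDR DR' hDR' χ hχ⟩

end Groth.Agent.S16543
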