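import Groth.Statements.S16544
import Mathlib
import Groth.Agent.Lib.Helper60.DispRigid

set_option autoImplicit false
set_option maxHeartbeats 400000
universe u v
open Disp

namespace Groth.Agent.S16544

open Dieu Groth.Agent.Lib.Helper60 Groth.Agent.Lib.Helper60.WittSqZero

/-- Witt vectors of a reduced ring of characteristic `p` have no `p`-torsion. -/
theorem eq_zero_of_p_mul {p : ℕ} [Fact p.Prime] {R : Type u} [CommRing R] [IsReduced R] [CharP R p]
    (x : WittVector p R) (h : (p : WittVector p R) * x = 0) : x = 0 := by
  rw [mul_comm, ← WittVector.verschiebung_frobenius] at h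
  have h1 : WittVector.frobenius x = 0 :=
    (WittVector.verschiebung_injective p R) (h.trans (map_zero _).symm)
  rw [WittVector.frobenius_eq_map_frobenius] at h1
  exact WittVector.map_injective _ (frobenius_inj R p) (h1.trans (map_zero _).symm)

/-- `p`-torsion Witt vectors have nilpotent components. -/
theorem mem_Jid_nilradical_of_p_mul {p : ℕ} [hp' : Fact p.Prime] {S : Type u} [CommRing S]
    (hp : IsNilpotent (p : S)) (ξ : WittVector p S) (h : (p : WittVector p S) * ξ = 0) :
    ξ ∈ Jid p (nilradical S) := by
  by_cases htop : nilradical S = ⊤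
  · rw [mem_Jid_iff, htop]
    exact fun n => Submodule.mem_top
  · have : Nontrivial (S ⧸ nilradical S) := Ideal.Quotient.nontrivial_iff.mpr htop
    have : IsReduced (S ⧸ nilradical S) :=
      (Ideal.isRadical_iff_quotient_reduced _).mp (Ideal.radical_isRadical _)
    have hp0 : ((p : ℕ) : S ⧸ nilradical S) = 0 := by
      have : (p : S) ∈ nilradical S := (mem_nilradical).mpr hp
      rw [← map_natCast (Ideal.Quotient.mk (nilradical S)), Ideal.Quotient.eq_zero_iff_mem]
      exact this
    have : CharP (S ⧸ nilradical S) p := (CharP.charP_iff_prime_eq_zero hp'.1).mpr hp0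
    change WittVector.map (Ideal.Quotient.mk (nilradical S)) ξ = 0
    apply eq_zero_of_p_mul
    rw [← map_natCast (WittVector.map (Ideal.Quotient.mk (nilradical S))), ← map_mul, h, map_zero]

/-- Let p be a prime and S a commutative ring in which p is nilpotent and whose nilradical (the ideal of
nilpotent elements) is a nilpotent ideal; let (P, Q, F, V⁻¹) and (P', Q', F', V'⁻¹) be displays over
S, i.e. 3n-displays whose operators V# satisfy the nilpotence condition. Then the group of
homomorphisms of displays from P to P' has no p-torsion: a W(S)-linear ψ : P → P' which is a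
homomorphism of 3n-displays and satisfies p·ψ = 0 is zero. (The published statement says
torsion-free; primes other than p are units in S, and the published proof treats the prime p.) -/
theorem result (p : ℕ) [Fact p.Prime]
    (S : Type u) [CommRing S] (hp : IsNilpotent (p : S)) (hn : IsNilpotent (nilradical S))
    (P P' : Type v) [AddCommGroup P] [Module (WittVector p S) P] [AddCommGroup P'] [Module (WittVector p S) P']
    (D : W4c1extbt610.Display3n p S P) (D' : W4c1extbt610.Display3n p S P')
    (hD : Dieu.IsDisplay D) (hD' : Dieu.IsDisplay D')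
    (ψ : P →ₗ[WittVector p S] P') (hψ : W4c1extbt610.IsHom D D' ψ)
    (h : (p : WittVector p S) • ψ = 0) : ψ = 0 := by
  obtain ⟨X'⟩ := S16538.nonempty_aux D'
  apply DispRigid.hom_eq_zero hp (nilradical S) hn D hD D' ψ hψ
  intro u
  rw [X'.dual (ψ u)]
  refine Submodule.sum_mem _ (fun i _ => ?_)
  refine Submodule.smul_mem_smul ?_ Submodule.mem_top
  apply mem_Jid_nilradical_of_p_mul hp
  have h1 : (p : WittVector p S) • ψ u = 0 := by
    have := congrArg (fun φ : P →ₗ[WittVector p S] P' => φ u) h
    exact this
  rw [← smul_eq_mul, ← map_smul, h1, map_zero]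

end Groth.Agent.S16544
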