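import Groth.Statements.S16545
import Groth.Agent.S16541
import Groth.Agent.S16542
-- import your own Groth.Agent.* helpers here

set_option autoImplicit false
universe u v
open Disp

namespace Groth.Agent.S16545

section abstract
open Dieu
variable {A B C : Type u} [CommRing A] [CommRing B] [CommRing C]
  (g : A →+* B) (h₁ h₂ : B →+* C) {k : A →+* C} (e₁ : h₁.comp g = k) (e₂ : h₂.comp g = k)
  {P P' : Type v} [AddCommGroup P] [Module A P] [AddCommGroup P'] [Module A P']

lemma castHom_castHom {g₁ g₂ g₃ : A →+* B} (a : g₁ = g₂) (b : g₂ = g₃) (z : BC g₁ P) :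
    BC.castHom b (BC.castHom a z) = BC.castHom (a.trans b) z := by
  subst a; subst b; rfl

lemma castHom_symm_castHom {g₁ g₂ : A →+* B} (a : g₁ = g₂) (z : BC g₁ P) :
    BC.castHom a.symm (BC.castHom a z) = z := by
  subst a; rfl

theorem exists_descent (χ : BC g P →ₗ[B] BC g P')
    (hdesc : ∀ (z₁ : BC h₁ (BC g P)) (z₂ : BC h₂ (BC g P)),
      (BC.castHom (P := P) e₁).comp (BC.lift h₁ (BC.push g h₁)) z₁ =
        (BC.castHom (P := P) e₂).comp (BC.lift h₂ (BC.push g h₂)) z₂ →
      (BC.castHom (P := P') e₁).comp (BC.lift h₁ (BC.push g h₁)) (BC.map h₁ χ z₁) =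
        (BC.castHom (P := P') e₂).comp (BC.lift h₂ (BC.push g h₂)) (BC.map h₂ χ z₂))
    (hinj : Function.Injective (BC.ι g P'))
    (heq : ∀ z : BC g P', BC.castHom (e₁.trans e₂.symm) (BC.push g h₁ z) = BC.push g h₂ z →
      z ∈ Set.range (BC.ι g P')) :
    ∃ ψ : P →ₗ[A] P', ∀ x, BC.ι g P' (ψ x) = χ (BC.ι g P x) := by
  have key : ∀ x : P, ∃ x' : P', BC.ι g P' x' = χ (BC.ι g P x) := by
    intro x
    apply heq
    have h := hdesc (BC.tmul h₁ 1 (BC.tmul g 1 x)) (BC.tmul h₂ 1 (BC.tmul g 1 x)) (by
      simp only [LinearMap.comp_apply, BC.lift_tmul, one_smul, BC.push_tmul, map_one,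
        BC.castHom_tmul])
    simp only [LinearMap.comp_apply, BC.map_tmul, BC.lift_tmul, one_smul] at h
    have h2 := congrArg (BC.castHom e₂.symm) h
    rw [castHom_castHom, castHom_symm_castHom] at h2
    exact h2
  choose ψ hψ using key
  refine ⟨{ toFun := ψ, map_add' := ?_, map_smul' := ?_ }, hψ⟩
  · intro x y
    apply hinj
    rw [map_add, hψ, hψ, hψ, map_add, map_add]
  · intro a x
    apply hinj
    rw [RingHom.id_apply, hψ, (BC.ι g P').map_smulₛₗ, (BC.ι g P).map_smulₛₗ, χ.map_smul, hψ]

end abstract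

/-- Let p be a prime, S → R a faithfully flat homomorphism of commutative rings with p nilpotent in S,
ι₁, ι₂ : R → R ⊗_S R the two coprojections, and (P, Q, F, V⁻¹), (P', Q', F', V'⁻¹) displays over S
with base changes (P_R, Q_R, F_R, V_R⁻¹) and (P'_R, Q'_R, F'_R, V'_R⁻¹) along S → R (the 3n-display
structures on W(R) ⊗_{W(S)} P and W(R) ⊗_{W(S)} P' with Q_R = ker(P_R → R ⊗_S P/Q), F_R(w ⊗ x) =
σ(w) ⊗ F x, V_R⁻¹(w ⊗ y) = σ(w) ⊗ V⁻¹ y for y ∈ Q, V_R⁻¹(V(w) ⊗ x) = w ⊗ F x, and likewise for P').
Let χ : P_R → P'_R be a homomorphism of 3n-displays whose two scalar extensions along W(ι₁) and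
W(ι₂) agree, after the modules W(R ⊗_S R) ⊗_{W(ι_i),W(R)} (W(R) ⊗_{W(S)} P) are mapped to W(R ⊗_S R)
⊗_{W(S)} P by the canonical maps u ⊗ (w ⊗ x) ↦ u·W(ι_i)(w) ⊗ x (and likewise for P'). Then there is
exactly one homomorphism of 3n-displays ψ : P → P' over S with id ⊗ ψ = χ: the sequence 0 → Hom(P,
P') → Hom(P_R, P'_R) ⇉ Hom(P_{R⊗R}, P'_{R⊗R}) is exact. The hypotheses e₁, e₂ record that both
composite ring maps W(S) → W(R) → W(R ⊗_S R) equal W(S → R ⊗_S R); they serve to identify targets. -/
theorem result (p : ℕ) [Fact p.Prime]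
    (S R : Type u) [CommRing S] [CommRing R] [Algebra S R] [Module.FaithfullyFlat S R] (hp : IsNilpotent (p : S))
    (e₁ : (WittVector.map (Algebra.TensorProduct.includeLeftRingHom : R →+* TensorProduct S R R) : WittVector p R →+* WittVector p (TensorProduct S R R)).comp (WittVector.map (algebraMap S R) : WittVector p S →+* WittVector p R) = (WittVector.map (algebraMap S (TensorProduct S R R)) : WittVector p S →+* WittVector p (TensorProduct S R R)))
    (e₂ : (WittVector.map ((Algebra.TensorProduct.includeRight : R →ₐ[S] TensorProduct S R R) : R →+* TensorProduct S R R) : WittVector p R →+* WittVector p (TensorProduct S R R)).comp (WittVector.map (algebraMap S R) : WittVector p S →+* WittVector p R) = (WittVector.map (algebraMap S (TensorProduct S R R)) : WittVector p S →+* WittVector p (TensorProduct S R R)))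
    (P P' : Type v) [AddCommGroup P] [Module (WittVector p S) P] [AddCommGroup P'] [Module (WittVector p S) P']
    (D : W4c1extbt610.Display3n p S P) (D' : W4c1extbt610.Display3n p S P')
    (hD : Dieu.IsDisplay D) (hD' : Dieu.IsDisplay D')
    (DR : W4c1extbt610.Display3n p R (Dieu.BC (WittVector.map (algebraMap S R) : WittVector p S →+* WittVector p R) P)) (hDR : Dieu.IsDispBaseChange (algebraMap S R) D DR)
    (DR' : W4c1extbt610.Display3n p R (Dieu.BC (WittVector.map (algebraMap S R) : WittVector p S →+* WittVector p R) P')) (hDR' : Dieu.IsDispBaseChange (algebraMap S R) D' DR')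
    (χ : Dieu.BC (WittVector.map (algebraMap S R) : WittVector p S →+* WittVector p R) P →ₗ[WittVector p R] Dieu.BC (WittVector.map (algebraMap S R) : WittVector p S →+* WittVector p R) P') (hχ : W4c1extbt610.IsHom DR DR' χ)
    (hdesc : ∀ (z₁ : Dieu.BC (WittVector.map (Algebra.TensorProduct.includeLeftRingHom : R →+* TensorProduct S R R) : WittVector p R →+* WittVector p (TensorProduct S R R)) (Dieu.BC (WittVector.map (algebraMap S R) : WittVector p S →+* WittVector p R) P)) (z₂ : Dieu.BC (WittVector.map ((Algebra.TensorProduct.includeRight : R →ₐ[S] TensorProduct S R R) : R →+* TensorProduct S R R) : WittVector p R →+* WittVector p (TensorProduct S R R)) (Dieu.BC (WittVector.map (algebraMap S R) : WittVector p S →+* WittVector p R) P)),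
      (Dieu.BC.castHom (P := P) e₁).comp (Dieu.BC.lift (WittVector.map (Algebra.TensorProduct.includeLeftRingHom : R →+* TensorProduct S R R) : WittVector p R →+* WittVector p (TensorProduct S R R)) (Dieu.BC.push (WittVector.map (algebraMap S R) : WittVector p S →+* WittVector p R) (WittVector.map (Algebra.TensorProduct.includeLeftRingHom : R →+* TensorProduct S R R) : WittVector p R →+* WittVector p (TensorProduct S R R)))) z₁ = (Dieu.BC.castHom (P := P) e₂).comp (Dieu.BC.lift (WittVector.map ((Algebra.TensorProduct.includeRight : R →ₐ[S] TensorProduct S R R) : R →+* TensorProduct S R R) : WittVector p R →+* WittVector p (TensorProduct S R R)) (Dieu.BC.push (WittVector.map (algebraMap S R) : WittVector p S →+* WittVector p R) (WittVector.map ((Algebra.TensorProduct.includeRight : R →ₐ[S] TensorProduct S R R) : R →+* TensorProduct S R R) : WittVector p R →+* WittVector p (TensorProduct S R R)))) z₂ →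
        (Dieu.BC.castHom (P := P') e₁).comp (Dieu.BC.lift (WittVector.map (Algebra.TensorProduct.includeLeftRingHom : R →+* TensorProduct S R R) : WittVector p R →+* WittVector p (TensorProduct S R R)) (Dieu.BC.push (WittVector.map (algebraMap S R) : WittVector p S →+* WittVector p R) (WittVector.map (Algebra.TensorProduct.includeLeftRingHom : R →+* TensorProduct S R R) : WittVector p R →+* WittVector p (TensorProduct S R R)))) (Dieu.BC.map (WittVector.map (Algebra.TensorProduct.includeLeftRingHom : R →+* TensorProduct S R R) : WittVector p R →+* WittVector p (TensorProduct S R R)) χ z₁) =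
          (Dieu.BC.castHom (P := P') e₂).comp (Dieu.BC.lift (WittVector.map ((Algebra.TensorProduct.includeRight : R →ₐ[S] TensorProduct S R R) : R →+* TensorProduct S R R) : WittVector p R →+* WittVector p (TensorProduct S R R)) (Dieu.BC.push (WittVector.map (algebraMap S R) : WittVector p S →+* WittVector p R) (WittVector.map ((Algebra.TensorProduct.includeRight : R →ₐ[S] TensorProduct S R R) : R →+* TensorProduct S R R) : WittVector p R →+* WittVector p (TensorProduct S R R)))) (Dieu.BC.map (WittVector.map ((Algebra.TensorProduct.includeRight : R →ₐ[S] TensorProduct S R R) : R →+* TensorProduct S R R) : WittVector p R →+* WittVector p (TensorProduct S R R)) χ z₂)) :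
    ∃! ψ : P →ₗ[WittVector p S] P', W4c1extbt610.IsHom D D' ψ ∧ Dieu.BC.map (WittVector.map (algebraMap S R) : WittVector p S →+* WittVector p R) ψ = χ := by
  open Dieu in
  -- descent for `P'` (flat since projective)
  have : Module.Projective (WittVector p S) P' := D'.projective
  obtain ⟨hinj, heq⟩ := Groth.Agent.S16541.result p S R P' (e₁.trans e₂.symm)
  obtain ⟨ψ, hψ⟩ := exists_descent _ _ _ e₁ e₂ χ hdesc hinj (fun z hz => (heq z).mp hz)
  have hmap : BC.map _ ψ = χ := by
    apply BC.ext
    intro x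
    rw [BC.map_tmul]
    exact hψ x
  have hQ : ∀ x : P, x ∈ D.Q ↔ BC.ι _ P x ∈ DR.Q :=
    fun x => Groth.Agent.S16542.result p S R hp P D hD DR hDR x
  have hQ' : ∀ x : P', x ∈ D'.Q ↔ BC.ι _ P' x ∈ DR'.Q :=
    fun x => Groth.Agent.S16542.result p S R hp P' D' hD' DR' hDR' x
  have hmapsTo : ∀ q : P, q ∈ D.Q → ψ q ∈ D'.Q := by
    intro q hq
    rw [hQ', hψ]
    exact hχ.mapsTo _ ((hQ q).mp hq)
  have hhom : W4c1extbt610.IsHom D D' ψ := by
    refine ⟨hmapsTo, ?_, ?_⟩
    · intro x
      apply hinj
      rw [hψ, BC.ι_apply, BC.ι_apply]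
      have h1 := hDR.F_tmul 1 x
      rw [map_one] at h1
      rw [← h1, hχ.comm_F]
      have h2 := hψ x
      rw [BC.ι_apply, BC.ι_apply] at h2
      rw [← h2]
      have h3 := hDR'.F_tmul 1 (ψ x)
      rw [map_one] at h3
      exact h3
    · intro q
      apply hinj
      rw [hψ, BC.ι_apply, BC.ι_apply]
      have hq1 := (hQ q).mp q.2
      rw [BC.ι_apply] at hq1
      have h1 := hDR.Vinv_tmul 1 q hq1
      rw [map_one] at h1
      rw [← h1, hχ.comm_Vinv]
      have hq2 := (hQ' _).mp (hmapsTo q q.2)
      rw [BC.ι_apply] at hq2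
      have h3 := hDR'.Vinv_tmul 1 ⟨ψ q, hmapsTo q q.2⟩ hq2
      rw [map_one] at h3
      rw [← h3]
      congr 1
      apply Subtype.ext
      have h2 := hψ q
      rw [BC.ι_apply, BC.ι_apply] at h2
      exact h2.symm
  refine ⟨ψ, ⟨hhom, hmap⟩, ?_⟩
  rintro ψ' ⟨-, hmap'⟩
  ext x
  apply hinj
  rw [hψ, ← hmap', BC.ι_apply, BC.ι_apply, BC.map_tmul]

end Groth.Agent.S16545
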