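import Groth.Statements.S16546
import Mathlib
import Groth.Agent.S16538
import Groth.Agent.Lib.Helper60.WittJac

set_option autoImplicit false
set_option maxHeartbeats 400000
universe u v w
open Disp

namespace Groth.Agent.S16546

open Dieu Groth.Agent.Lib.Helper60

section JFacts

variable {p : ℕ} [Fact p.Prime] {R : Type u} [CommRing R]

local notation "σ" => (WittVector.frobenius : WittVector p R →+* WittVector p R)
local notation "𝔍" => (W4c1extbt610.IV p R ⊔ Ideal.span {(p : WittVector p R)})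

theorem p_mem_J : (p : WittVector p R) ∈ 𝔍 :=
  Ideal.mem_sup_right (Ideal.subset_span rfl)

theorem frob_mem_J (x : WittVector p R) (hx : x ∈ 𝔍) : σ x ∈ 𝔍 := by
  obtain ⟨a, ha, b, hb, rfl⟩ := Submodule.mem_sup.mp hx
  rw [map_add]
  refine Ideal.add_mem _ ?_ ?_
  · obtain ⟨u, rfl⟩ := S16535.exists_eq_verschiebung a ha
    rw [WittVector.frobenius_verschiebung]
    exact Ideal.mul_mem_left _ _ p_mem_J
  · obtain ⟨r, rfl⟩ := Ideal.mem_span_singleton'.mp hb
    rw [map_mul, map_natCast]
    exact Ideal.mul_mem_left _ _ p_mem_J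

/-- `W → R/pR` -/
noncomputable def c : WittVector p R →+* R ⧸ Ideal.span {(p : R)} :=
  (Ideal.Quotient.mk (Ideal.span {(p : R)})).comp WittVector.constantCoeff

theorem c_apply (x : WittVector p R) :
    c x = Ideal.Quotient.mk (Ideal.span {(p : R)}) (WittVector.constantCoeff x) := rfl

theorem c_p : c (p : WittVector p R) = 0 := by
  rw [c_apply, map_natCast, Ideal.Quotient.eq_zero_iff_mem]
  exact Ideal.subset_span rfl

theorem c_eq_zero_iff (x : WittVector p R) : c x = 0 ↔ x ∈ 𝔍 := by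
  constructor
  · intro h
    rw [c_apply, Ideal.Quotient.eq_zero_iff_mem] at h
    obtain ⟨r, hr⟩ := Ideal.mem_span_singleton'.mp h
    have hy : x - WittVector.teichmuller p r * (p : WittVector p R) ∈ W4c1extbt610.IV p R := by
      apply S16538.mem_IV_of_constantCoeff_eq_zero
      rw [map_sub, map_mul, map_natCast, ← hr]
      change _ - (WittVector.teichmuller p r).coeff 0 * (p : R) = 0
      rw [WittVector.teichmuller_coeff_zero, sub_self]
    have : x = (x - WittVector.teichmuller p r * (p : WittVector p R)) +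
        WittVector.teichmuller p r * (p : WittVector p R) := by ring
    rw [this]
    exact Ideal.add_mem _ (Ideal.mem_sup_left hy) (Ideal.mul_mem_left _ _ p_mem_J)
  · intro hx
    obtain ⟨a, ha, b, hb, rfl⟩ := Submodule.mem_sup.mp hx
    obtain ⟨r, rfl⟩ := Ideal.mem_span_singleton'.mp hb
    rw [map_add, map_mul, c_p, mul_zero, add_zero, c_apply,
      S16538.constantCoeff_of_mem_IV a ha, map_zero]

theorem c_frob (x : WittVector p R) : c (σ x) = (c x) ^ p := by
  have h := (c_eq_zero_iff _).mpr (WittJac.frobenius_sub_pow_mem x)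
  rw [map_sub, map_pow, sub_eq_zero] at h
  exact h

theorem c_frob_pow (i : ℕ) (x : WittVector p R) : c ((σ ^ i) x) = (c x) ^ p ^ i := by
  induction i with
  | zero => simp
  | succ i ih =>
    rw [pow_succ', RingHom.mul_def, RingHom.comp_apply, c_frob, ih, ← pow_mul, ← pow_succ]

end JFacts


section Main

variable {p : ℕ} [Fact p.Prime] {R : Type u} [CommRing R]
variable {P : Type v} [AddCommGroup P] [Module (WittVector p R) P]
variable {D : W4c1extbt610.Display3n p R P}
variable {ιT ιL : Type w} [Fintype ιT] [Fintype ιL] [DecidableEq ιT] [DecidableEq ιL]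

local notation "σ" => (WittVector.frobenius : WittVector p R →+* WittVector p R)
local notation "𝔍" => (W4c1extbt610.IV p R ⊔ Ideal.span {(p : WittVector p R)})

/-- The data of the statement. -/
structure Setup (D : W4c1extbt610.Display3n p R P) (ιT ιL : Type w) [Fintype ιT] [Fintype ιL]
    [DecidableEq ιT] [DecidableEq ιL] where
  L : Submodule (WittVector p R) P
  T : Submodule (WittVector p R) P
  hLT : IsCompl L T
  hLQ : L ≤ D.Q
  bT : Module.Basis ιT (WittVector p R) T
  bL : Module.Basis ιL (WittVector p R) L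
  α : Matrix (ιT ⊕ ιL) (ιT ⊕ ιL) (WittVector p R)
  β : Matrix (ιT ⊕ ιL) (ιT ⊕ ιL) (WittVector p R)
  hαβ : α * β = 1
  hF : ∀ j : ιT, D.F (bT j : P) =
      Finset.univ.sum fun i : ιT ⊕ ιL => α i (Sum.inl j) •
        Sum.elim (fun a : ιT => (bT a : P)) (fun a : ιL => (bL a : P)) i
  hV : ∀ k : ιL, D.Vinv ⟨(bL k : P), hLQ (bL k).2⟩ =
      Finset.univ.sum fun i : ιT ⊕ ιL => α i (Sum.inr k) •
        Sum.elim (fun a : ιT => (bT a : P)) (fun a : ιL => (bL a : P)) i

variable (X : Setup D ιT ιL)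

/-- the basis vectors -/
noncomputable def Setup.e : ιT ⊕ ιL → P :=
  Sum.elim (fun a : ιT => (X.bT a : P)) (fun a : ιL => (X.bL a : P))

/-- the coordinate functionals -/
noncomputable def Setup.g : ιT ⊕ ιL → (P →ₗ[WittVector p R] WittVector p R) :=
  Sum.elim (fun j => (X.bT.coord j).comp (X.T.projectionOnto X.L X.hLT.symm))
    (fun k => (X.bL.coord k).comp (X.L.projectionOnto X.T X.hLT))

theorem Setup.dual (x : P) : x = ∑ i, X.g i x • X.e i := by
  rw [Fintype.sum_sum_type]
  have h1 := congrArg Subtype.val (X.bT.sum_repr (X.T.projectionOnto X.L X.hLT.symm x))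
  have h2 := congrArg Subtype.val (X.bL.sum_repr (X.L.projectionOnto X.T X.hLT x))
  have h3 := Submodule.projection_add_projection_eq_self X.hLT x
  rw [Submodule.coe_sum] at h1 h2
  rw [Submodule.projection_apply, Submodule.projection_apply, ← h1, ← h2, add_comm] at h3
  conv_lhs => rw [← h3]
  rfl

/-- `p t_j`, `l_k` -/
noncomputable def Setup.z : ιT ⊕ ιL → P :=
  Sum.elim (fun a : ιT => (p : WittVector p R) • (X.bT a : P)) (fun a : ιL => (X.bL a : P))

/-- `F t_j`, `V⁻¹ l_k` -/
noncomputable def Setup.y : ιT ⊕ ιL → P :=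
  Sum.elim (fun a : ιT => D.F (X.bT a : P)) (fun a : ιL => D.Vinv ⟨(X.bL a : P), X.hLQ (X.bL a).2⟩)

theorem Setup.y_eq (i : ιT ⊕ ιL) : X.y i = ∑ a, X.α a i • X.e a := by
  rcases i with j | k
  · exact X.hF j
  · exact X.hV k

theorem Setup.e_eq (m : ιT ⊕ ιL) : X.e m = ∑ i, X.β i m • X.y i := by
  have h : ∀ a, (∑ i, X.α a i * X.β i m) = if a = m then 1 else 0 := by
    intro a
    have := congrFun (congrFun X.hαβ a) m
    rw [Matrix.mul_apply, Matrix.one_apply] at this
    exact this
  calc X.e m = ∑ a, (if a = m then (1 : WittVector p R) else 0) • X.e a := by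
        rw [Finset.sum_eq_single m]
        · rw [if_pos rfl, one_smul]
        · intro b _ hb; rw [if_neg hb, zero_smul]
        · intro hm; exact absurd (Finset.mem_univ m) hm
    _ = ∑ a, (∑ i, X.α a i * X.β i m) • X.e a := by
        refine Finset.sum_congr rfl (fun a _ => ?_); rw [h a]
    _ = ∑ a, ∑ i, X.β i m • (X.α a i • X.e a) := by
        refine Finset.sum_congr rfl (fun a _ => ?_)
        rw [Finset.sum_smul]
        refine Finset.sum_congr rfl (fun i _ => ?_)
        rw [smul_smul, mul_comm]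
    _ = ∑ i, X.β i m • X.y i := by
        rw [Finset.sum_comm]
        refine Finset.sum_congr rfl (fun i _ => ?_)
        rw [X.y_eq, Finset.smul_sum]

variable (Vs : P →ₗ[WittVector p R]
  BC (WittVector.frobenius : WittVector p R →+* WittVector p R) P) (hVs : IsVSharp D Vs)

include hVs in
theorem Vs_y (i : ιT ⊕ ιL) : Vs (X.y i) = BC.tmul σ 1 (X.z i) := by
  rcases i with j | k
  · have h := hVs.app_smul_F 1 (X.bT j : P)
    rw [one_smul] at h
    change Vs (D.F (X.bT j : P)) = BC.tmul σ 1 ((p : WittVector p R) • (X.bT j : P))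
    rw [h, ← BC.tmul_mul_apply, map_natCast, BC.smul_tmul, mul_comm]
  · have h := hVs.app_smul_Vinv 1 ⟨(X.bL k : P), X.hLQ (X.bL k).2⟩
    rw [one_smul] at h
    exact h

include hVs in
theorem Vs_e (m : ιT ⊕ ιL) : Vs (X.e m) = ∑ i, X.β i m • BC.tmul σ 1 (X.z i) := by
  rw [X.e_eq m, map_sum]
  refine Finset.sum_congr rfl (fun i _ => ?_)
  rw [map_smul, Vs_y X Vs hVs]


theorem coord_castHom {h h' : WittVector p R →+* WittVector p R} (e : h = h')
    (gj : P →ₗ[WittVector p R] WittVector p R) (t : BC h P) :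
    BCSem.coord h' gj (BC.castHom e t) = BCSem.coord h gj t := by
  subst e; rfl

theorem coord_mem_of_mem (h : WittVector p R →+* WittVector p R)
    (gj : P →ₗ[WittVector p R] WittVector p R) (I : Ideal (WittVector p R)) (t : BC h P)
    (ht : t ∈ I • (⊤ : Submodule (WittVector p R) (BC h P))) : BCSem.coord h gj t ∈ I := by
  refine Submodule.smul_induction_on ht (fun r hr n _ => ?_) (fun x y hx hy => ?_)
  · rw [map_smul, smul_eq_mul]; exact Ideal.mul_mem_right _ _ hr
  · rw [map_add]; exact Ideal.add_mem _ hx hy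

theorem dual_BC' {ι : Type w} [Fintype ι] (h : WittVector p R →+* WittVector p R) (e : ι → P)
    (g : ι → (P →ₗ[WittVector p R] WittVector p R))
    (hd : ∀ x, x = ∑ i, g i x • e i) (t : BC h P) :
    t = ∑ i, BCSem.coord h (g i) t • BC.tmul h 1 (e i) := by
  induction t using BC.induction_on h with
  | zero => simp
  | tmul b x =>
    conv_lhs => rw [hd x]
    have : BC.tmul h b (∑ i, g i x • e i) = ∑ i, BC.tmul h b (g i x • e i) := by
      have := map_sum (BC.ι h P) (fun i => g i x • e i) Finset.univ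
      rw [BC.tmul_eq_smul_tmul_one]
      change b • BC.ι h P (∑ i, g i x • e i) = _
      rw [this, Finset.smul_sum]
      refine Finset.sum_congr rfl (fun i _ => ?_)
      rw [BC.ι_apply, ← BC.tmul_eq_smul_tmul_one]
    rw [this]
    refine Finset.sum_congr rfl (fun i _ => ?_)
    rw [BCSem.coord_tmul, BC.smul_tmul, mul_one, BC.tmul_mul_apply]
  | add z₁ z₂ h₁ h₂ =>
    conv_lhs => rw [h₁, h₂]
    rw [← Finset.sum_add_distrib]
    refine Finset.sum_congr rfl (fun i _ => ?_)
    rw [map_add, add_smul]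

/-- coordinates of `V^{(n+1)#} x` -/
noncomputable def C (n : ℕ) (j : ιT ⊕ ιL) : P →ₗ[WittVector p R] WittVector p R :=
  (BCSem.coord (σ ^ (n + 1)) (X.g j)).comp (vSharpPow Vs n)

theorem C_apply (n : ℕ) (j : ιT ⊕ ιL) (x : P) :
    C X Vs n j x = BCSem.coord (σ ^ (n + 1)) (X.g j) (vSharpPow Vs n x) := rfl

include hVs in
theorem C_zero_e (j m : ιT ⊕ ιL) :
    C X Vs 0 j (X.e m) = ∑ i, X.β i m * σ (X.g j (X.z i)) := by
  rw [C_apply, vSharpPow_zero_apply, coord_castHom, Vs_e X Vs hVs, map_sum]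
  refine Finset.sum_congr rfl (fun i _ => ?_)
  rw [map_smul, BCSem.coord_tmul, one_mul, smul_eq_mul]

include hVs in
theorem C_succ_e (n : ℕ) (j m : ιT ⊕ ιL) :
    C X Vs (n + 1) j (X.e m) = ∑ i, X.β i m * σ (C X Vs n j (X.z i)) := by
  rw [C_apply, vSharpPow_succ_apply, coord_castHom, Vs_e X Vs hVs]
  simp only [map_sum, map_smul, BC.map_tmul, BC.lift_tmul, one_smul, smul_eq_mul]
  refine Finset.sum_congr rfl (fun i _ => ?_)
  rw [BCSem.coord_push]; rfl

theorem C_z_inl (n : ℕ) (j : ιT ⊕ ιL) (i : ιT) :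
    C X Vs n j (X.z (Sum.inl i)) = (p : WittVector p R) * C X Vs n j (X.e (Sum.inl i)) := by
  change C X Vs n j ((p : WittVector p R) • (X.bT i : P)) = _
  rw [map_smul, smul_eq_mul]; rfl

theorem C_z_inr (n : ℕ) (j : ιT ⊕ ιL) (k : ιL) :
    C X Vs n j (X.z (Sum.inr k)) = C X Vs n j (X.e (Sum.inr k)) := rfl

theorem g_z_inl (j : ιT ⊕ ιL) (i : ιT) : X.g j (X.z (Sum.inl i)) ∈ 𝔍 := by
  change X.g j ((p : WittVector p R) • (X.bT i : P)) ∈ _
  rw [map_smul, smul_eq_mul]; exact Ideal.mul_mem_right _ _ p_mem_J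

theorem g_inl_z_inr (j : ιT) (k : ιL) : X.g (Sum.inl j) (X.z (Sum.inr k)) = 0 := by
  change X.bT.coord j (X.T.projectionOnto X.L X.hLT.symm (X.bL k : P)) = 0
  rw [Submodule.projectionOnto_apply_of_mem_right X.hLT.symm (X.bL k).2, map_zero]

theorem g_inr_z_inr (k k' : ιL) :
    X.g (Sum.inr k) (X.z (Sum.inr k')) = if k = k' then 1 else 0 := by
  change X.bL.coord k (X.L.projectionOnto X.T X.hLT (X.bL k' : P)) = _
  rw [Submodule.projectionOnto_apply_of_mem_left X.hLT (X.bL k').2]
  change X.bL.coord k (X.bL k') = _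
  rw [Module.Basis.coord_apply, Module.Basis.repr_self, Finsupp.single_apply]
  simp [eq_comm]

/-- the matrices `𝔐_n` -/
noncomputable def M : ℕ → ιL → (ιT ⊕ ιL) → WittVector p R
  | 0 => fun k m => X.β (Sum.inr k) m
  | n + 1 => fun j m => ∑ k, X.β (Sum.inr k) m * σ (M n j (Sum.inr k))

include hVs in
theorem claimA (n : ℕ) : ∀ m : ιT ⊕ ιL, (∀ j : ιT, C X Vs n (Sum.inl j) (X.e m) ∈ 𝔍) ∧
    (∀ j : ιL, C X Vs n (Sum.inr j) (X.e m) - M X n j m ∈ 𝔍) := by
  induction n with
  | zero =>
    intro m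
    constructor
    · intro j
      rw [C_zero_e X Vs hVs]
      refine Ideal.sum_mem _ (fun i _ => ?_)
      rcases i with i | k
      · exact Ideal.mul_mem_left _ _ (frob_mem_J _ (g_z_inl X _ i))
      · rw [g_inl_z_inr, map_zero, mul_zero]; exact Ideal.zero_mem _
    · intro j
      rw [C_zero_e X Vs hVs, Fintype.sum_sum_type]
      have h2 : ∑ k, X.β (Sum.inr k) m * σ (X.g (Sum.inr j) (X.z (Sum.inr k))) = M X 0 j m := by
        simp only [g_inr_z_inr, apply_ite, map_one, map_zero, mul_one, mul_zero,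
          Finset.sum_ite_eq, Finset.mem_univ, if_true]
        rfl
      rw [h2, add_sub_cancel_right]
      refine Ideal.sum_mem _ (fun i _ => ?_)
      exact Ideal.mul_mem_left _ _ (frob_mem_J _ (g_z_inl X _ i))
  | succ n ih =>
    intro m
    constructor
    · intro j
      rw [C_succ_e X Vs hVs]
      refine Ideal.sum_mem _ (fun i _ => ?_)
      rcases i with i | k
      · rw [C_z_inl]
        exact Ideal.mul_mem_left _ _ (frob_mem_J _ (Ideal.mul_mem_right _ _ p_mem_J))
      · rw [C_z_inr]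
        exact Ideal.mul_mem_left _ _ (frob_mem_J _ ((ih (Sum.inr k)).1 j))
    · intro j
      rw [C_succ_e X Vs hVs, Fintype.sum_sum_type]
      have h1 : ∑ i, X.β (Sum.inl i) m * σ (C X Vs n (Sum.inr j) (X.z (Sum.inl i))) ∈ 𝔍 := by
        refine Ideal.sum_mem _ (fun i _ => ?_)
        rw [C_z_inl]
        exact Ideal.mul_mem_left _ _ (frob_mem_J _ (Ideal.mul_mem_right _ _ p_mem_J))
      have h2 : ∑ k, X.β (Sum.inr k) m * σ (C X Vs n (Sum.inr j) (X.z (Sum.inr k))) - M X (n + 1) j m
          ∈ 𝔍 := by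
        change ∑ k, X.β (Sum.inr k) m * σ (C X Vs n (Sum.inr j) (X.z (Sum.inr k))) -
          ∑ k, X.β (Sum.inr k) m * σ (M X n j (Sum.inr k)) ∈ 𝔍
        rw [← Finset.sum_sub_distrib]
        refine Ideal.sum_mem _ (fun k _ => ?_)
        rw [← mul_sub, ← map_sub, C_z_inr]
        exact Ideal.mul_mem_left _ _ (frob_mem_J _ ((ih (Sum.inr k)).2 j))
      have := Ideal.add_mem _ h1 h2
      rwa [← add_sub_assoc] at this


theorem nilp_iff : IsVNilpotent Vs ↔ ∃ n : ℕ, ∀ j m : ιT ⊕ ιL, C X Vs n j (X.e m) ∈ 𝔍 := by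
  constructor
  · rintro ⟨n, hn⟩
    exact ⟨n, fun j m => coord_mem_of_mem _ _ _ _ (hn (X.e m))⟩
  · rintro ⟨n, hn⟩
    refine ⟨n, fun x => ?_⟩
    rw [X.dual x, map_sum]
    refine Submodule.sum_mem _ (fun m _ => ?_)
    rw [map_smul]
    refine Submodule.smul_mem _ _ ?_
    rw [dual_BC' (σ ^ (n + 1)) X.e X.g X.dual (vSharpPow Vs n (X.e m))]
    refine Submodule.sum_mem _ (fun j _ => ?_)
    exact Submodule.smul_mem_smul (hn j m) Submodule.mem_top

include hVs in
theorem nilp_iff_M : IsVNilpotent Vs ↔ ∃ n : ℕ, ∀ (j : ιL) (m : ιT ⊕ ιL), M X n j m ∈ 𝔍 := by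
  rw [nilp_iff X Vs]
  constructor
  · rintro ⟨n, hn⟩
    refine ⟨n, fun j m => ?_⟩
    have h1 := (claimA X Vs hVs n m).2 j
    have h2 := hn (Sum.inr j) m
    have := Ideal.sub_mem _ h2 h1
    rwa [sub_sub_cancel] at this
  · rintro ⟨n, hn⟩
    refine ⟨n, fun j m => ?_⟩
    rcases j with j | j
    · exact (claimA X Vs hVs n m).1 j
    · have h1 := (claimA X Vs hVs n m).2 j
      have := Ideal.add_mem _ h1 (hn j m)
      rwa [sub_add_cancel] at this

theorem M_restrict : (∃ n : ℕ, ∀ (j : ιL) (m : ιT ⊕ ιL), M X n j m ∈ 𝔍) ↔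
    ∃ n : ℕ, ∀ j l : ιL, M X n j (Sum.inr l) ∈ 𝔍 := by
  constructor
  · rintro ⟨n, hn⟩
    exact ⟨n, fun j l => hn j _⟩
  · rintro ⟨n, hn⟩
    refine ⟨n + 1, fun j m => ?_⟩
    change ∑ k, X.β (Sum.inr k) m * σ (M X n j (Sum.inr k)) ∈ 𝔍
    refine Ideal.sum_mem _ (fun k _ => ?_)
    exact Ideal.mul_mem_left _ _ (frob_mem_J _ (hn j k))

/-- the `L`-block of `β` -/
noncomputable def BW : Matrix ιL ιL (WittVector p R) :=
  Matrix.of fun k l => X.β (Sum.inr k) (Sum.inr l)

/-- the twisted products at the level of `W` -/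
noncomputable def NW (n : ℕ) : Matrix ιL ιL (WittVector p R) :=
  ((List.range (n + 1)).reverse.map fun i : ℕ => (BW X).map (σ ^ i)).prod

theorem NW_zero : NW X 0 = BW X := by
  rw [NW]
  simp only [zero_add, List.range_one, List.reverse_singleton, List.map_singleton,
    List.prod_singleton, pow_zero]
  ext i j
  rfl

theorem NW_succ (n : ℕ) : NW X (n + 1) = (BW X).map (σ ^ (n + 1)) * NW X n := by
  rw [NW, NW, List.range_succ, List.reverse_append, List.reverse_singleton, List.singleton_append,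
    List.map_cons, List.prod_cons]

theorem NW_rec (n : ℕ) : (NW X n).map σ * BW X = NW X (n + 1) := by
  induction n with
  | zero =>
    rw [NW_succ, NW_zero, zero_add, pow_one]
  | succ n ih =>
    have h1 : ((BW X).map (σ ^ (n + 1))).map σ = (BW X).map (σ ^ (n + 1 + 1)) := by
      rw [Matrix.map_map, pow_succ' σ (n + 1)]
      rfl
    calc (NW X (n + 1)).map σ * BW X
        = ((BW X).map (σ ^ (n + 1)) * NW X n).map σ * BW X := by rw [NW_succ X n]
      _ = ((BW X).map (σ ^ (n + 1))).map σ * ((NW X n).map σ * BW X) := by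
          rw [Matrix.map_mul, Matrix.mul_assoc]
      _ = (BW X).map (σ ^ (n + 1 + 1)) * NW X (n + 1) := by rw [ih, h1]
      _ = NW X (n + 1 + 1) := (NW_succ X (n + 1)).symm

theorem M_eq_NW (n : ℕ) (j l : ιL) : M X n j (Sum.inr l) = NW X n j l := by
  induction n generalizing j l with
  | zero => rw [NW_zero]; rfl
  | succ n ih =>
    rw [← NW_rec, Matrix.mul_apply]
    change ∑ k, X.β (Sum.inr k) (Sum.inr l) * σ (M X n j (Sum.inr k)) = _
    refine Finset.sum_congr rfl (fun k _ => ?_)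
    rw [ih, mul_comm]
    rfl

/-- the `L`-block of `β` modulo `p` -/
noncomputable def Bbar : Matrix ιL ιL (R ⧸ Ideal.span {(p : R)}) :=
  Matrix.of fun k l : ιL => Ideal.Quotient.mk (Ideal.span {(p : R)})
    (WittVector.constantCoeff (X.β (Sum.inr k) (Sum.inr l)))

theorem NW_map_c (n : ℕ) :
    (NW X n).map c =
      ((List.range (n + 1)).reverse.map fun i : ℕ =>
        (Bbar X).map fun x : R ⧸ Ideal.span {(p : R)} => x ^ p ^ i).prod := by
  have h := map_list_prod (RingHom.mapMatrix (m := ιL) (c (p := p) (R := R)))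
    ((List.range (n + 1)).reverse.map fun i : ℕ => (BW X).map (σ ^ i))
  rw [RingHom.mapMatrix_apply] at h
  rw [NW, h, List.map_map]
  congr 1
  apply List.map_congr_left
  intro i _
  ext k l
  simp only [Function.comp_apply, RingHom.mapMatrix_apply, Matrix.map_apply]
  rw [c_frob_pow]
  rfl

theorem final_iff : (∃ n : ℕ, ∀ j l : ιL, M X n j (Sum.inr l) ∈ 𝔍) ↔
    ∃ N : ℕ, 0 < N ∧
      ((List.range N).reverse.map fun i : ℕ =>
        (Bbar X).map fun x : R ⧸ Ideal.span {(p : R)} => x ^ p ^ i).prod = 0 := by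
  have key : ∀ n : ℕ, (∀ j l : ιL, M X n j (Sum.inr l) ∈ 𝔍) ↔
      ((List.range (n + 1)).reverse.map fun i : ℕ =>
        (Bbar X).map fun x : R ⧸ Ideal.span {(p : R)} => x ^ p ^ i).prod = 0 := by
    intro n
    rw [← NW_map_c]
    constructor
    · intro h
      ext j l
      rw [Matrix.map_apply, Matrix.zero_apply, c_eq_zero_iff, ← M_eq_NW]
      exact h j l
    · intro h j l
      have := congrFun (congrFun h j) l
      rw [Matrix.map_apply, Matrix.zero_apply, c_eq_zero_iff, ← M_eq_NW] at this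
      exact this
  constructor
  · rintro ⟨n, hn⟩
    exact ⟨n + 1, Nat.succ_pos n, (key n).mp hn⟩
  · rintro ⟨N, hN, h⟩
    obtain ⟨n, rfl⟩ : ∃ n, N = n + 1 := ⟨N - 1, by omega⟩
    exact ⟨n, (key n).mpr h⟩

include hVs in
theorem main_iff : IsVNilpotent Vs ↔
    ∃ N : ℕ, 0 < N ∧
      ((List.range N).reverse.map fun i : ℕ =>
        (Bbar X).map fun x : R ⧸ Ideal.span {(p : R)} => x ^ p ^ i).prod = 0 := by
  rw [nilp_iff_M X Vs hVs, M_restrict, final_iff]

end Main

/-- Let p be a prime and R a commutative ring in which p is nilpotent (in particular every prime number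
other than p is a unit in R); write W = W(R) with Frobenius σ, Verschiebung V, I_R = V(W) and w₀ : W
→ R for the zeroth Witt component. Let (P, Q, F, V⁻¹) be a 3n-display over R with a normal
decomposition P = L ⊕ T, Q = L + I_R·T in which T and L are free with finite bases (t_j) and (l_k).
Let α be the square matrix over W, indexed by the disjoint union of the two index sets, such that
F(t_j) = Σ_i α_{i,j} e_i and V⁻¹(l_k) = Σ_i α_{i,k} e_i, where (e_i) is the basis of P formed by the
t_j followed by the l_k, and let β be a two-sided inverse of α. Let B be the square block of β on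
the L-indices, reduced to R/pR through w₀, and write B^{(p^i)} for the matrix whose entries are the
p^i-th powers of those of B. Then (P, Q, F, V⁻¹) is a display, i.e. its operator V# satisfies the
nilpotence condition, if and only if B^{(p^{N-1})} ⋯ B^{(p)} · B = 0 for some N ≥ 1. -/
theorem result (p : ℕ) [Fact p.Prime] (R : Type u) [CommRing R]
    (hR : ∀ ℓ : ℕ, ℓ.Prime → ℓ ≠ p → IsUnit (ℓ : R)) (hp : IsNilpotent (p : R))
    (P : Type v) [AddCommGroup P] [Module (WittVector p R) P] (D : W4c1extbt610.Display3n p R P)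
    (L T : Submodule (WittVector p R) P) (hLT : IsCompl L T)
    (hQ : D.Q = L ⊔ W4c1extbt610.IV p R • T) (hLQ : L ≤ D.Q)
    (ιT ιL : Type w) [Fintype ιT] [Fintype ιL] [DecidableEq ιT] [DecidableEq ιL]
    (bT : Module.Basis ιT (WittVector p R) T) (bL : Module.Basis ιL (WittVector p R) L)
    (α β : Matrix (ιT ⊕ ιL) (ιT ⊕ ιL) (WittVector p R)) (hαβ : α * β = 1) (hβα : β * α = 1)
    (hF : ∀ j : ιT, D.F (bT j : P) =
      Finset.univ.sum fun i : ιT ⊕ ιL => α i (Sum.inl j) • Sum.elim (fun a : ιT => (bT a : P)) (fun a : ιL => (bL a : P)) i)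
    (hV : ∀ k : ιL, D.Vinv ⟨(bL k : P), hLQ (bL k).2⟩ =
      Finset.univ.sum fun i : ιT ⊕ ιL => α i (Sum.inr k) • Sum.elim (fun a : ιT => (bT a : P)) (fun a : ιL => (bL a : P)) i) :
    Dieu.IsDisplay D ↔
      ∃ N : ℕ, 0 < N ∧
        (((List.range N).reverse.map fun i : ℕ =>
            (Matrix.of fun k l : ιL =>
                Ideal.Quotient.mk (Ideal.span {(p : R)}) (WittVector.constantCoeff (β (Sum.inr k) (Sum.inr l)))).map
              fun x : R ⧸ Ideal.span {(p : R)} => x ^ p ^ i).prod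
          = 0) := by
  have _ := hR
  have _ := hQ
  have _ := hβα
  let X : Setup D ιT ιL := ⟨L, T, hLT, hLQ, bT, bL, α, β, hαβ, hF, hV⟩
  constructor
  · rintro ⟨Vs, hVs, hnil⟩
    exact (main_iff X Vs hVs).mp hnil
  · intro h
    obtain ⟨Vs, hVs⟩ := S16535.exists_VSharp p R hp P D
    exact ⟨Vs, hVs, (main_iff X Vs hVs).mpr h⟩

end Groth.Agent.S16546
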