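import Groth.Statements.S6555
import Mathlib

set_option autoImplicit false
set_option linter.style.haveILetI false
universe u
open CategoryTheory CategoryTheory.Limits AlgebraicGeometry
attribute [local instance] Curv2.resAlgebra Curv2.stalkAlgebra
open Curves

namespace Groth.Agent.S6555

open IsLocalRing KaehlerDifferential TensorProduct


section core

variable (k : Type u) [Field k] (A : Type u) [CommRing A] [IsLocalRing A] [IsNoetherianRing A]
  [Algebra k A]

/-- algebraic core -/
theorem core [Algebra.FormallySmooth k A]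
    (φ : Ω[A⁄k] ≃ₗ[A] A)
    (κ : Type u) [Field κ] [Algebra A κ] [Algebra k κ] [IsScalarTower k A κ]
    (hsurj : Function.Surjective (algebraMap A κ))
    (hsep : Algebra.IsSeparable k κ)
    (s : A) (hs : Irreducible s) :
    Function.Bijective (fun a : A => a • KaehlerDifferential.D k A s) := by
  haveI : Algebra.FormallyEtale k κ := Algebra.FormallyEtale.of_isSeparable k κ
  haveI : Algebra.FormallySmooth k κ := inferInstance
  obtain ⟨l, hl⟩ := (Algebra.FormallySmooth.iff_split_injection (R := k) (P := A) (A := κ) hsurj).mp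
    inferInstance
  have hinj : Function.Injective (kerCotangentToTensor k A κ) := by
    intro a b hab
    have := congrArg l hab
    simpa [← LinearMap.comp_apply, hl] using this
  have hex := KaehlerDifferential.exact_kerCotangentToTensor_mapBaseChange k A κ hsurj
  haveI : Subsingleton Ω[κ⁄k] := inferInstance
  have hsurjK : Function.Surjective (kerCotangentToTensor k A κ) := by
    intro z
    exact (hex z).mp (Subsingleton.elim _ _)
  let ψ : κ ⊗[A] Ω[A⁄k] ≃ₗ[A] κ := (LinearEquiv.lTensor κ φ).trans (TensorProduct.rid A κ)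
  have hψ : ∀ x : Ω[A⁄k], ψ (1 ⊗ₜ x) = algebraMap A κ (φ x) := by
    intro x
    simp only [ψ, LinearEquiv.trans_apply, LinearEquiv.lTensor_tmul, TensorProduct.rid_tmul]
    rw [Algebra.smul_def, mul_one]
  have hcot : ∀ (y : A) (hy : y ∈ RingHom.ker (algebraMap A κ)),
      kerCotangentToTensor k A κ (Ideal.toCotangent _ ⟨y, hy⟩) = 1 ⊗ₜ D k A y := fun y hy =>
    KaehlerDifferential.kerCotangentToTensor_toCotangent k A κ ⟨y, hy⟩
  have hkerm : RingHom.ker (algebraMap A κ) = maximalIdeal A :=
    IsLocalRing.eq_maximalIdeal (RingHom.ker_isMaximal_of_surjective _ hsurj)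
  have hres0 : ∀ y : A, y ∈ maximalIdeal A → algebraMap A κ y = 0 := fun y hy =>
    RingHom.mem_ker.mp (hkerm ▸ hy)
  -- the generator t
  obtain ⟨c, hc⟩ := hsurjK (1 ⊗ₜ φ.symm 1)
  obtain ⟨⟨t, ht⟩, rfl⟩ := Ideal.toCotangent_surjective _ c
  rw [hcot t ht] at hc
  have htm : t ∈ maximalIdeal A := hkerm ▸ ht
  have hδt : IsUnit (φ (D k A t)) := by
    have h1 := congrArg ψ hc
    rw [hψ, hψ, LinearEquiv.apply_symm_apply, map_one] at h1
    by_contra hnu
    have : φ (D k A t) ∈ maximalIdeal A := (IsLocalRing.mem_maximalIdeal _).mpr hnu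
    rw [hres0 _ this] at h1
    exact zero_ne_one h1
  obtain ⟨u, hu⟩ := hδt
  -- m ≤ (t) + m^2
  have hle : maximalIdeal A ≤ Ideal.span {t} ⊔ maximalIdeal A • maximalIdeal A := by
    intro y hy
    set a : A := φ (D k A y) * ↑u⁻¹ with ha
    have hzm : y - a * t ∈ maximalIdeal A :=
      Ideal.sub_mem _ hy (Ideal.mul_mem_left _ _ htm)
    have hz : y - a * t ∈ RingHom.ker (algebraMap A κ) := hkerm ▸ hzm
    have h1 : kerCotangentToTensor k A κ (Ideal.toCotangent _ ⟨y - a * t, hz⟩) = 0 := by
      apply ψ.injective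
      rw [hcot _ hz, hψ, map_zero]
      have h2 : φ (D k A (y - a * t)) = - (t * φ (D k A a)) := by
        rw [map_sub, Derivation.leibniz, map_sub, map_add, map_smul, map_smul, smul_eq_mul,
          smul_eq_mul, ← hu, ha]
        have : φ (D k A y) * ↑u⁻¹ * ↑u = φ (D k A y) := by
          rw [mul_assoc, Units.inv_mul, mul_one]
        rw [this]
        ring
      rw [h2, map_neg, map_mul, hres0 t htm, zero_mul, neg_zero]
    have h3 : Ideal.toCotangent _ (⟨y - a * t, hz⟩ : RingHom.ker (algebraMap A κ)) = 0 :=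
      hinj (by rw [h1, map_zero])
    rw [Ideal.toCotangent_eq_zero] at h3
    have h4 : y - a * t ∈ maximalIdeal A • maximalIdeal A := by
      rw [Ideal.smul_eq_mul, ← pow_two, ← hkerm]
      exact h3
    have : y = a * t + (y - a * t) := by ring
    rw [this]
    exact Submodule.add_mem_sup (Ideal.mul_mem_left _ _ (Ideal.subset_span rfl)) h4
  have hmt : maximalIdeal A ≤ Ideal.span {t} :=
    Submodule.le_of_le_smul_of_le_jacobson_bot (IsNoetherian.noetherian _)
      (IsLocalRing.maximalIdeal_le_jacobson ⊥) hle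
  -- s = a t with a a unit
  have hsm : s ∈ maximalIdeal A := (IsLocalRing.mem_maximalIdeal _).mpr hs.not_isUnit
  obtain ⟨a, hat⟩ := Ideal.mem_span_singleton'.mp (hmt hsm)
  have hau : IsUnit a := by
    rcases hs.isUnit_or_isUnit hat.symm with h | h
    · exact h
    · exact absurd h ((IsLocalRing.mem_maximalIdeal _).mp htm)
  have hδs : IsUnit (φ (D k A s)) := by
    rw [← hat, Derivation.leibniz, map_add, map_smul, map_smul, smul_eq_mul, smul_eq_mul, ← hu]
    by_contra hnu
    have h1 : a * ↑u + t * φ (D k A a) ∈ maximalIdeal A := (IsLocalRing.mem_maximalIdeal _).mpr hnu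
    have h2 : a * ↑u ∈ maximalIdeal A := by
      have := Ideal.sub_mem _ h1 (Ideal.mul_mem_right (φ (D k A a)) _ htm)
      simpa using this
    exact (IsLocalRing.mem_maximalIdeal _).mp h2 (hau.mul u.isUnit)
  obtain ⟨v, hv⟩ := hδs
  constructor
  · intro x y hxy
    have := congrArg φ hxy
    simp only [map_smul, smul_eq_mul, ← hv] at this
    exact v.isUnit.mul_left_injective this
  · intro w
    refine ⟨φ w * ↑v⁻¹, φ.injective ?_⟩
    simp only [map_smul, smul_eq_mul, ← hv]
    rw [mul_assoc, Units.inv_mul, mul_one]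

end core


theorem core2 (k B A : Type u) [Field k] [CommRing B] [CommRing A] [Algebra k B] [Algebra B A]
    [Algebra k A] [IsScalarTower k B A]
    [Algebra.IsStandardSmoothOfRelativeDimension 1 k B] (q : Ideal B) [q.IsPrime]
    [IsLocalization.AtPrime A q] :
    IsNoetherianRing A ∧ Algebra.FormallySmooth k A ∧ Nonempty (Ω[A⁄k] ≃ₗ[A] A) := by
  haveI : Algebra.IsStandardSmooth k B :=
    Algebra.IsStandardSmoothOfRelativeDimension.isStandardSmooth 1
  haveI : Algebra.FiniteType k B := inferInstance
  haveI : IsNoetherianRing B := Algebra.FiniteType.isNoetherianRing k B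
  haveI hA : IsNoetherianRing A := IsLocalization.isNoetherianRing q.primeCompl A inferInstance
  haveI : Algebra.FormallySmooth B A := Algebra.FormallySmooth.of_isLocalization q.primeCompl
  haveI : Algebra.FormallySmooth k B := inferInstance
  have hfs : Algebra.FormallySmooth k A := Algebra.FormallySmooth.comp k B A
  haveI : Nontrivial B := ⟨⟨0, 1, fun h => (Ideal.IsPrime.ne_top inferInstance : q ≠ ⊤)
    ((Ideal.eq_top_iff_one q).mpr (h ▸ q.zero_mem))⟩⟩
  have hrank : Module.rank B Ω[B⁄k] = 1 :=
    Algebra.IsStandardSmoothOfRelativeDimension.rank_kaehlerDifferential 1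
  have hfin : Module.finrank B Ω[B⁄k] = 1 := Module.finrank_eq_of_rank_eq hrank
  let b : Module.Basis (Fin 1) B Ω[B⁄k] := Module.finBasisOfFinrankEq B _ hfin
  let b' : Module.Basis (Fin 1) A Ω[A⁄k] :=
    b.ofIsLocalizedModule A q.primeCompl (KaehlerDifferential.map k k B A)
  exact ⟨hA, hfs, ⟨b'.repr.trans (Finsupp.uniqueLinearEquiv A A (0 : Fin 1))⟩⟩


/-- structure map `k → Γ(X, V)` -/
noncomputable def toSec (k : Type u) [Field k] (X : Scheme.{u}) [X.Over (Spec (CommRingCat.of k))]
    (V : X.Opens) : k →+* Γ(X, V) :=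
  ((X ↘ Spec (CommRingCat.of k)).appLE ⊤ V le_top).hom.comp
    (Scheme.ΓSpecIso (CommRingCat.of k)).inv.hom

theorem germ_comp_toSec (k : Type u) [Field k] (X : Scheme.{u}) [X.Over (Spec (CommRingCat.of k))]
    (V : X.Opens) (x : X) (hx : x ∈ V) :
    (X.presheaf.germ V x hx).hom.comp (toSec k X V) = Curv2.stalkMap k X x := by
  ext c
  simp only [toSec, Curv2.stalkMap, Coh.toGlobal, RingHom.comp_apply]
  unfold Scheme.Hom.appLE
  simp only [CommRingCat.hom_comp, RingHom.comp_apply]
  rw [← CommRingCat.comp_apply, X.presheaf.germ_res]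
  rfl


/-- Let X be a scheme over the field k and x ∈ X a closed point near which X → Spec k is smooth of
relative dimension 1 (on some open neighbourhood of x), with κ(x)/k separable. If s is an
irreducible element of the local ring O_{X,x} (a discrete valuation ring, so s generates its maximal
ideal), then Ω_{O_{X,x}/k}, which is the stalk of Ω_{X/k} at x, is free of rank one with basis d s:
the map a ↦ a · d s from O_{X,x} to Ω_{O_{X,x}/k} is bijective. -/
theorem result (k : Type u) [Field k] (X : Scheme.{u}) [X.Over (Spec (CommRingCat.of k))]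
    (x : X) (hx : IsClosed ({x} : Set X))
    (hsm : ∃ U : X.Opens, x ∈ U ∧ SmoothOfRelativeDimension 1 (U.ι ≫ (X ↘ (Spec (CommRingCat.of k)))))
    (hsep : Algebra.IsSeparable k (X.residueField x))
    (s : X.presheaf.stalk x) (hs : Irreducible s) :
    Function.Bijective (fun a : X.presheaf.stalk x => a • KaehlerDifferential.D k (X.presheaf.stalk x) s) := by
  classical
  obtain ⟨U, hxU, hsmU⟩ := hsm
  set f := X ↘ Spec (CommRingCat.of k) with hf
  let x' : (U : Scheme.{u}) := ⟨x, hxU⟩
  obtain ⟨W, hW, V, hV, hxV, e, hstd⟩ :=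
    SmoothOfRelativeDimension.exists_isStandardSmoothOfRelativeDimension (n := 1)
      (f := U.ι ≫ f) x'
  have hWtop : W = ⊤ := by
    haveI : Subsingleton (Spec (CommRingCat.of k)) :=
      inferInstanceAs (Subsingleton (PrimeSpectrum k))
    ext y
    simp only [TopologicalSpace.Opens.coe_top, Set.mem_univ, iff_true, SetLike.mem_coe]
    have : (U.ι ≫ f) x' ∈ W := e hxV
    rwa [Subsingleton.elim y ((U.ι ≫ f) x')]
  subst hWtop
  -- the chart on X
  set V' : X.Opens := U.ι ''ᵁ V with hV'def
  have hV' : IsAffineOpen V' := hV.image_of_isOpenImmersion U.ι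
  have hxV' : x ∈ V' := ⟨x', hxV, rfl⟩
  have hle : V ≤ U.ι ⁻¹ᵁ V' := by
    rw [hV'def, Scheme.Hom.preimage_image_eq]
  have hcomp : f.appLE ⊤ V' le_top ≫ U.ι.appLE V' V hle = (U.ι ≫ f).appLE ⊤ V e :=
    Scheme.Hom.appLE_comp_appLE U.ι f ⊤ V' V le_top hle
  haveI : IsIso (U.ι.appLE V' V hle) := by
    have : U.ι.appLE V' V hle = (U.ι.appIso V).hom := by
      rw [Scheme.Hom.appIso_hom']
    rw [this]
    infer_instance
  have hstd1 : (f.appLE ⊤ V' le_top).hom.IsStandardSmoothOfRelativeDimension 1 := by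
    rw [← hcomp] at hstd
    exact (RingHom.isStandardSmoothOfRelativeDimension_respectsIso (n := 1)).cancel_right_isIso
      (f.appLE ⊤ V' le_top) (U.ι.appLE V' V hle) |>.mp hstd
  have hstd2 : (toSec k X V').IsStandardSmoothOfRelativeDimension 1 := by
    have : toSec k X V' = ((Scheme.ΓSpecIso (CommRingCat.of k)).inv ≫ f.appLE ⊤ V' le_top).hom :=
      rfl
    rw [this]
    exact (RingHom.isStandardSmoothOfRelativeDimension_respectsIso (n := 1)).cancel_left_isIso
      (Scheme.ΓSpecIso (CommRingCat.of k)).inv (f.appLE ⊤ V' le_top) |>.mpr hstd1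
  letI : Algebra k Γ(X, V') := (toSec k X V').toAlgebra
  haveI : Algebra.IsStandardSmoothOfRelativeDimension 1 k Γ(X, V') := hstd2.toAlgebra
  letI : Algebra Γ(X, V') (X.presheaf.stalk x) := X.presheaf.algebra_section_stalk ⟨x, hxV'⟩
  haveI : IsScalarTower k Γ(X, V') (X.presheaf.stalk x) := by
    refine IsScalarTower.of_algebraMap_eq fun c => ?_
    have := congrArg (fun g => g c) (germ_comp_toSec k X V' x hxV')
    exact this.symm
  haveI := hV'.isLocalization_stalk ⟨x, hxV'⟩
  obtain ⟨hN, hFS, ⟨φ⟩⟩ := core2 k Γ(X, V') (X.presheaf.stalk x)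
    (hV'.primeIdealOf ⟨x, hxV'⟩).asIdeal
  haveI := hN
  haveI := hFS
  letI : Algebra (X.presheaf.stalk x) (X.residueField x) := (X.residue x).hom.toAlgebra
  haveI : IsScalarTower k (X.presheaf.stalk x) (X.residueField x) :=
    IsScalarTower.of_algebraMap_eq fun _ => rfl
  have hsurj : Function.Surjective (algebraMap (X.presheaf.stalk x) (X.residueField x)) :=
    IsLocalRing.residue_surjective
  exact core k (X.presheaf.stalk x) φ (X.residueField x) hsurj hsep s hs

end Groth.Agent.S6555
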