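import Groth.Statements.S6556
import Groth.Agent.Lib.Helper69.RamBC
import Groth.Agent.Lib.Helper62.BCStalk2
import Groth.Agent.Lib.Helper51.SchemeResTrdegJac

set_option autoImplicit false
universe u
open CategoryTheory CategoryTheory.Limits AlgebraicGeometry
attribute [local instance] Curv2.resAlgebra
open Curves

namespace Groth.Agent.S6556

set_option linter.style.haveILetI false

/-- the residue field of a closed point of a scheme locally of finite type over a field is finite
over the base field. -/
theorem finite_resMap (k : Type u) [Field k] (X : Scheme.{u}) [X.Over (Spec (CommRingCat.of k))]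
    [LocallyOfFiniteType (X ↘ (Spec (CommRingCat.of k)))] (x : X)
    (hx : IsClosed ({x} : Set X)) : (Curv2.resMap k X x).Finite := by
  set f := X ↘ (Spec (CommRingCat.of k)) with hf
  haveI : JacobsonSpace (Spec (CommRingCat.of k)) :=
    PrimeSpectrum.isJacobsonRing_iff_jacobsonSpace.mp inferInstance
  have hfin := Groth.Agent.Lib.Helper51.finite_residueFieldMap_of_isClosed_of_jacobson f x hx
  set y := f x with hy
  let ι : k →+* (Spec (CommRingCat.of k)).residueField y :=
    ((Spec (CommRingCat.of k)).residue y).hom.comp
      (((Spec (CommRingCat.of k)).presheaf.germ ⊤ y trivial).hom.comp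
        (Scheme.ΓSpecIso (CommRingCat.of k)).inv.hom)
  haveI : y.asIdeal.IsPrime := PrimeSpectrum.isPrime y
  have hι : Function.Surjective ι := by
    have h := Scheme.Spec.algebraMap_residueFieldIso_inv (CommRingCat.of k) y
    have h' : ι = (Scheme.Spec.residueFieldIso (CommRingCat.of k) y).inv.hom.comp
        (algebraMap k y.asIdeal.ResidueField) := by
      have := congrArg (fun g => g.hom) h
      simp only [CommRingCat.hom_comp, CommRingCat.hom_ofHom] at this
      rw [this]
      rfl
    rw [h']
    haveI : y.asIdeal.IsMaximal := by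
      have : y.asIdeal = ⊥ := Ideal.eq_bot_of_prime _
      rw [this]
      exact Ideal.bot_isMaximal
    exact ((Scheme.Spec.residueFieldIso (CommRingCat.of k)
      y).symm.commRingCatIsoToRingEquiv.surjective).comp
      (Ideal.algebraMap_residueField_surjective _)
  have hcomp : Curv2.resMap k X x = (f.residueFieldMap x).hom.comp ι := by
    have h1 : (f.residueFieldMap x).hom.comp ((Spec (CommRingCat.of k)).residue y).hom =
        (X.residue x).hom.comp (f.stalkMap x).hom := by
      rw [← CommRingCat.hom_comp, ← CommRingCat.hom_comp, Scheme.residue_residueFieldMap]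
    have h2 : (f.stalkMap x).hom.comp ((Spec (CommRingCat.of k)).presheaf.germ ⊤ y trivial).hom =
        (X.presheaf.germ ⊤ x trivial).hom.comp f.appTop.hom := by
      rw [← CommRingCat.hom_comp, ← CommRingCat.hom_comp]
      exact congrArg _ (Scheme.Hom.germ_stalkMap f ⊤ x trivial)
    unfold Curv2.resMap Curv2.stalkMap Coh.toGlobal
    change _ = (f.residueFieldMap x).hom.comp
      (((Spec (CommRingCat.of k)).residue y).hom.comp
      (((Spec (CommRingCat.of k)).presheaf.germ ⊤ y trivial).hom.comp
        (Scheme.ΓSpecIso (CommRingCat.of k)).inv.hom))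
    have h1' := fun z => congr($h1 z)
    have h2' := fun z => congr($h2 z)
    simp only [RingHom.comp_apply] at h1' h2'
    ext c
    simp only [RingHom.comp_apply]
    rw [h1', h2']
  rw [hcomp]
  exact hfin.comp (RingHom.Finite.of_surjective _ hι)

/-- Let X be a smooth curve over the field k (integral, separated, of finite type and smooth over k, of
dimension one), k̄ an algebraic closure of k, x̄ ∈ X_{k̄} a closed point and x ∈ X its image. Then
the ramification index of the extension of discrete valuation rings O_{X,x} → O_{X_{k̄}, x̄} (the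
length of O_{X_{k̄},x̄} modulo the ideal generated by the maximal ideal of O_{X,x}) equals the
inseparable degree [κ(x) : k]_i. -/
theorem result (k : Type u) [Field k] (X : Scheme.{u}) [X.Over (Spec (CommRingCat.of k))]
    [IsIntegral X] [IsSeparated (X ↘ (Spec (CommRingCat.of k)))] [LocallyOfFiniteType (X ↘ (Spec (CommRingCat.of k)))] [QuasiCompact (X ↘ (Spec (CommRingCat.of k)))] (hdX : topologicalKrullDim X = 1) [Smooth (X ↘ (Spec (CommRingCat.of k)))]
    (xb : Curv2.bc k X (AlgebraicClosure k)) (hxb : IsClosed ({xb} : Set (Curv2.bc k X (AlgebraicClosure k)))) :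
    letI := ((Curv2.bcFst k X (AlgebraicClosure k)).stalkMap xb).hom.toAlgebra
    Ideal.ramificationIdx (IsLocalRing.maximalIdeal ((Curv2.bc k X (AlgebraicClosure k)).presheaf.stalk xb))
        (X.presheaf.stalk (Curv2.bcFst k X (AlgebraicClosure k) xb)) =
      Field.finInsepDegree k (X.residueField (Curv2.bcFst k X (AlgebraicClosure k) xb)) := by
  set f := X ↘ (Spec (CommRingCat.of k)) with hf
  set x := Curv2.bcFst k X (AlgebraicClosure k) xb with hxdef
  -- `x` is a closed point
  have hxcl : IsClosed ({x} : Set X) := by
    haveI : IsIntegralHom (Spec.map (CommRingCat.ofHom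
        (algebraMap k (AlgebraicClosure k)))) := by
      rw [IsIntegralHom.SpecMap_iff]
      exact algebraMap_isIntegral_iff.mpr inferInstance
    haveI : IsIntegralHom (Curv2.bcFst k X (AlgebraicClosure k)) := by
      unfold Curv2.bcFst
      infer_instance
    have := (Curv2.bcFst k X (AlgebraicClosure k)).isClosedMap _ hxb
    rwa [Set.image_singleton] at this
  letI : Algebra k (X.presheaf.stalk x) := Curv2.stalkAlgebra k X x
  obtain ⟨can, -, h2, hloc⟩ :=
    Groth.Agent.Lib.Helper62.BCStalk.exists_canMap f (AlgebraicClosure k) xb rfl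
  letI : Algebra (X.presheaf.stalk x) (X.residueField x) := (X.residue x).hom.toAlgebra
  haveI : IsScalarTower k (X.presheaf.stalk x) (X.residueField x) :=
    .of_algebraMap_eq fun c => rfl
  haveI : FiniteDimensional k (X.residueField x) := finite_resMap k X x hxcl
  letI : Algebra (X.presheaf.stalk x) ((Curv2.bc k X (AlgebraicClosure k)).presheaf.stalk xb) :=
    ((Curv2.bcFst k X (AlgebraicClosure k)).stalkMap xb).hom.toAlgebra
  haveI : IsLocalHom (algebraMap (X.presheaf.stalk x)
      ((Curv2.bc k X (AlgebraicClosure k)).presheaf.stalk xb)) :=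
    (inferInstance : IsLocalHom ((Curv2.bcFst k X (AlgebraicClosure k)).stalkMap xb).hom)
  exact Groth.Agent.Lib.Helper69.RamBC.ramificationIdx_eq_finInsepDegree
    (k := k) (K := AlgebraicClosure k) (A := X.presheaf.stalk x)
    ((Curv2.bc k X (AlgebraicClosure k)).presheaf.stalk xb) (X.residueField x)
    (X.residue_surjective x) can h2 hloc

end Groth.Agent.S6556
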