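import Groth.Statements.S16548
import Groth.Agent.Lib.Helper69.TameSep
import Groth.Agent.Lib.Helper62.DimSmooth
import Groth.Agent.S6555
import Groth.Agent.S6556

set_option autoImplicit false
universe u
open CategoryTheory CategoryTheory.Limits AlgebraicGeometry
attribute [local instance] Curv2.resAlgebra
open Curves

namespace Groth.Agent.S16548

set_option linter.style.haveILetI false

/-- local rings of a scheme smooth of relative dimension one over a field. -/
theorem stalk_props (k : Type u) [Field k] (X : Scheme.{u}) [X.Over (Spec (CommRingCat.of k))]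
    [SmoothOfRelativeDimension 1 (X ↘ Spec (CommRingCat.of k))] (x : X) :
    letI := Curv2.stalkAlgebra k X x
    IsNoetherianRing (X.presheaf.stalk x) ∧ Algebra.FormallySmooth k (X.presheaf.stalk x) ∧
      Nonempty (Ω[X.presheaf.stalk x⁄k] ≃ₗ[X.presheaf.stalk x] X.presheaf.stalk x) ∧
      Algebra.EssFiniteType k (X.presheaf.stalk x) := by
  letI := Curv2.stalkAlgebra k X x
  set f := X ↘ Spec (CommRingCat.of k) with hf
  obtain ⟨W, hW, V, hV, hxV, e, hstd⟩ :=
    SmoothOfRelativeDimension.exists_isStandardSmoothOfRelativeDimension (n := 1) (f := f) x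
  have hWtop : W = ⊤ := by
    haveI : Subsingleton (Spec (CommRingCat.of k)) :=
      inferInstanceAs (Subsingleton (PrimeSpectrum k))
    ext y
    simp only [TopologicalSpace.Opens.coe_top, Set.mem_univ, iff_true, SetLike.mem_coe]
    have : f x ∈ W := e hxV
    rwa [Subsingleton.elim y (f x)]
  subst hWtop
  have hstd2 : (Groth.Agent.S6555.toSec k X V).IsStandardSmoothOfRelativeDimension 1 := by
    have : Groth.Agent.S6555.toSec k X V =
        ((Scheme.ΓSpecIso (CommRingCat.of k)).inv ≫ f.appLE ⊤ V e).hom := rfl
    rw [this]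
    exact (RingHom.isStandardSmoothOfRelativeDimension_respectsIso (n := 1)).cancel_left_isIso
      (Scheme.ΓSpecIso (CommRingCat.of k)).inv (f.appLE ⊤ V e) |>.mpr hstd
  letI : Algebra k Γ(X, V) := (Groth.Agent.S6555.toSec k X V).toAlgebra
  haveI : Algebra.IsStandardSmoothOfRelativeDimension 1 k Γ(X, V) := hstd2.toAlgebra
  letI : Algebra Γ(X, V) (X.presheaf.stalk x) := X.presheaf.algebra_section_stalk ⟨x, hxV⟩
  haveI : IsScalarTower k Γ(X, V) (X.presheaf.stalk x) := by
    refine IsScalarTower.of_algebraMap_eq fun c => ?_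
    have := congrArg (fun g => g c) (Groth.Agent.S6555.germ_comp_toSec k X V x hxV)
    exact this.symm
  haveI := hV.isLocalization_stalk ⟨x, hxV⟩
  obtain ⟨hN, hFS, hφ⟩ := Groth.Agent.S6555.core2 k Γ(X, V) (X.presheaf.stalk x)
    (hV.primeIdealOf ⟨x, hxV⟩).asIdeal
  refine ⟨hN, hFS, hφ, ?_⟩
  haveI : Algebra.EssFiniteType Γ(X, V) (X.presheaf.stalk x) :=
    Algebra.EssFiniteType.of_isLocalization _ (hV.primeIdealOf ⟨x, hxV⟩).asIdeal.primeCompl
  haveI : Algebra.IsStandardSmooth k Γ(X, V) :=
    Algebra.IsStandardSmoothOfRelativeDimension.isStandardSmooth 1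
  exact Algebra.EssFiniteType.comp k Γ(X, V) (X.presheaf.stalk x)

/-- compatibility of structure maps on stalks with a `k`-morphism. -/
theorem stalkMap_comp (k : Type u) [Field k] (X Y : Scheme.{u}) [X.Over (Spec (CommRingCat.of k))]
    [Y.Over (Spec (CommRingCat.of k))] (f : X ⟶ Y)
    (hf : f ≫ (Y ↘ Spec (CommRingCat.of k)) = X ↘ Spec (CommRingCat.of k)) (x : X) :
    (f.stalkMap x).hom.comp (Curv2.stalkMap k Y (f x)) = Curv2.stalkMap k X x := by
  have h2 : (f.stalkMap x).hom.comp (Y.presheaf.germ ⊤ (f x) trivial).hom =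
      (X.presheaf.germ ⊤ x trivial).hom.comp f.appTop.hom := by
    rw [← CommRingCat.hom_comp, ← CommRingCat.hom_comp]
    exact congrArg _ (Scheme.Hom.germ_stalkMap f ⊤ x trivial)
  have h3 : (X ↘ Spec (CommRingCat.of k)).appTop.hom =
      f.appTop.hom.comp (Y ↘ Spec (CommRingCat.of k)).appTop.hom := by
    rw [← hf, ← CommRingCat.hom_comp]
    congr 1
  have h2' := fun z => congr($h2 z)
  have h3' := fun z => congr($h3 z)
  simp only [RingHom.comp_apply] at h2' h3'
  ext c
  simp only [Curv2.stalkMap, Coh.toGlobal, RingHom.comp_apply]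
  rw [h2', h3']

/-- Let k be a field, X and Y smooth over k of relative dimension one (not necessarily proper), f : X ->
Y a finite k-morphism and x a closed point of X, with y = f(x). Suppose f is tamely ramified at x:
m_y O_{X,x} = m_x^e for an integer e ≥ 2 prime to the characteristic of k, and κ(x) is separable
over κ(y). Then κ(x) is separable over k. (Consequently the field generated over k by the residue
fields of all such points is Galois over k.) -/
theorem result (k : Type u) [Field k]
    (X Y : Scheme.{u}) [X.Over (Spec (CommRingCat.of k))] [Y.Over (Spec (CommRingCat.of k))]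
    [SmoothOfRelativeDimension 1 (X ↘ Spec (CommRingCat.of k))]
    [SmoothOfRelativeDimension 1 (Y ↘ Spec (CommRingCat.of k))]
    (f : X ⟶ Y) [IsFinite f] (hf : f ≫ (Y ↘ Spec (CommRingCat.of k)) = X ↘ Spec (CommRingCat.of k))
    (x : X) (hx : IsClosed ({x} : Set X)) (e : ℕ)
    (he : (IsLocalRing.maximalIdeal (Y.presheaf.stalk (f.base x))).map (f.stalkMap x).hom =
      IsLocalRing.maximalIdeal (X.presheaf.stalk x) ^ e)
    (h2 : 2 ≤ e) (hp : ¬ ringChar k ∣ e)
    (hsep : @Algebra.IsSeparable (Y.residueField (f.base x)) (X.residueField x) _ _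
      (f.residueFieldMap x).hom.toAlgebra) :
    Algebra.IsSeparable k (X.residueField x) := by
  letI : Algebra k (X.presheaf.stalk x) := Curv2.stalkAlgebra k X x
  letI : Algebra k (Y.presheaf.stalk (f x)) := Curv2.stalkAlgebra k Y (f x)
  obtain ⟨hN, hFS, ⟨φ⟩, hEFT⟩ := stalk_props k X x
  haveI := hN
  haveI := hFS
  haveI := hEFT
  letI : Algebra (Y.presheaf.stalk (f x)) (X.presheaf.stalk x) := (f.stalkMap x).hom.toAlgebra
  have hcompat := stalkMap_comp k X Y f hf x
  haveI : IsScalarTower k (Y.presheaf.stalk (f x)) (X.presheaf.stalk x) :=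
    IsScalarTower.of_algebraMap_eq fun c => (congr($hcompat c)).symm
  haveI : IsLocalHom (algebraMap (Y.presheaf.stalk (f x)) (X.presheaf.stalk x)) :=
    (inferInstance : IsLocalHom (f.stalkMap x).hom)
  haveI : Algebra.EssFiniteType (Y.presheaf.stalk (f x)) (X.presheaf.stalk x) :=
    Algebra.EssFiniteType.of_comp k _ _
  -- residue fields
  letI : Algebra (X.presheaf.stalk x) (X.residueField x) := (X.residue x).hom.toAlgebra
  letI : Algebra (Y.presheaf.stalk (f x)) (Y.residueField (f x)) :=
    (Y.residue (f x)).hom.toAlgebra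
  letI : Algebra (Y.residueField (f x)) (X.residueField x) :=
    (f.residueFieldMap x).hom.toAlgebra
  haveI : IsScalarTower k (X.presheaf.stalk x) (X.residueField x) :=
    IsScalarTower.of_algebraMap_eq fun _ => rfl
  have hres : ∀ a : Y.presheaf.stalk (f x),
      (X.residue x).hom ((f.stalkMap x).hom a) =
        (f.residueFieldMap x).hom ((Y.residue (f x)).hom a) := by
    intro a
    have := congr($(Scheme.residue_residueFieldMap f x).hom a)
    simpa using this.symm
  haveI : IsScalarTower k (Y.residueField (f x)) (X.residueField x) := by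
    refine IsScalarTower.of_algebraMap_eq fun c => ?_
    change (X.residue x).hom (Curv2.stalkMap k X x c) =
      (f.residueFieldMap x).hom ((Y.residue (f x)).hom (Curv2.stalkMap k Y (f x) c))
    rw [← hres, ← hcompat]
    rfl
  haveI : Smooth (X ↘ Spec (CommRingCat.of k)) := SmoothOfRelativeDimension.smooth 1 _
  haveI : FiniteDimensional k (X.residueField x) := Groth.Agent.S6556.finite_resMap k X x hx
  haveI : Algebra.IsSeparable (Y.residueField (f x)) (X.residueField x) := hsep
  -- the local ring is not a field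
  have hB0 : IsLocalRing.maximalIdeal (X.presheaf.stalk x) ≠ ⊥ := by
    intro h0
    have hfield : IsField (X.presheaf.stalk x) := IsLocalRing.isField_iff_maximalIdeal_eq.mpr h0
    have hbij : Function.Bijective (algebraMap (X.presheaf.stalk x) (X.residueField x)) := by
      refine ⟨?_, X.residue_surjective x⟩
      letI := hfield.toField
      exact RingHom.injective _
    let ψ : X.presheaf.stalk x ≃ₐ[k] X.residueField x :=
      AlgEquiv.ofBijective (IsScalarTower.toAlgHom k _ _) hbij
    haveI : Module.Finite k (X.presheaf.stalk x) := Module.Finite.equiv ψ.symm.toLinearEquiv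
    haveI : Algebra.FiniteType k (X.presheaf.stalk x) := inferInstance
    haveI : Module.Free (X.presheaf.stalk x) Ω[X.presheaf.stalk x⁄k] := Module.Free.of_equiv φ.symm
    have hd : Module.finrank (X.presheaf.stalk x) Ω[X.presheaf.stalk x⁄k] = 1 := by
      rw [φ.finrank_eq, Module.finrank_self]
    have h1 := Groth.Agent.Lib.Helper62.DimSmooth.ringKrullDim_eq_of_smooth_of_free k
      (X.presheaf.stalk x) 1 hd
    rw [ringKrullDim_eq_zero_of_isField hfield] at h1
    exact absurd h1 (by norm_num)
  exact Groth.Agent.Lib.Helper69.TameSep.core k (Y.presheaf.stalk (f x)) (X.presheaf.stalk x)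
    (Y.residueField (f x)) (X.residueField x) (φ.symm 1)
    (fun y => ⟨φ y, by
      apply φ.injective
      rw [map_smul, LinearEquiv.apply_symm_apply, smul_eq_mul, mul_one]⟩)
    hres (Y.residue_surjective (f x)) (X.residue_surjective x) e he h2 hB0

end Groth.Agent.S16548
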