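import Groth.Statements.S16572
import Groth.Agent.Lib.Helper79.AdjoinRoots

set_option autoImplicit false
universe u
open CAlg

namespace Groth.Agent.S16572

open Polynomial

section helpers

variable (A : Type u) [CommRing A]

/-- index type: monic polynomials of positive degree -/
abbrev Idx : Type u := {P : Polynomial A // P.Monic ∧ 0 < P.natDegree}

/-- the ideal generated by the `P(X_P)` -/
noncomputable abbrev J : Ideal (MvPolynomial (Idx A) A) :=
  Ideal.span (Set.range fun P : Idx A => Polynomial.aeval (MvPolynomial.X (R := A) P) P.1)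

/-- the ring `T` -/
abbrev TT : Type u := MvPolynomial (Idx A) A ⧸ J A

theorem aeval_root (P : Idx A) :
    Polynomial.aeval (Ideal.Quotient.mk (J A) (MvPolynomial.X P) : TT A) P.1 = 0 := by
  have h := Polynomial.aeval_algHom_apply (Ideal.Quotient.mkₐ A (J A)) (MvPolynomial.X P) P.1
  rw [Ideal.Quotient.mkₐ_eq_mk] at h
  rw [h, Ideal.Quotient.eq_zero_iff_mem]
  exact Ideal.subset_span ⟨P, rfl⟩

theorem isIntegral_TT (t : TT A) : IsIntegral A t := by
  obtain ⟨r, rfl⟩ := Ideal.Quotient.mk_surjective t
  induction r using MvPolynomial.induction_on with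
  | C a =>
    have : Ideal.Quotient.mk (J A) (MvPolynomial.C a) = algebraMap A (TT A) a := rfl
    rw [this]
    exact isIntegral_algebraMap
  | add p q hp hq =>
    rw [map_add]
    exact hp.add hq
  | mul_X p i hp =>
    rw [map_mul]
    exact hp.mul ⟨i.1, i.2.1, aeval_root A i⟩

theorem surj_comap (p : PrimeSpectrum A) :
    ∃ Q : PrimeSpectrum (TT A), PrimeSpectrum.comap (algebraMap A (TT A)) Q = p := by
  classical
  let K := AlgebraicClosure p.asIdeal.ResidueField
  have hex : ∀ P : Idx A, ∃ x : K, (P.1.map (algebraMap A K)).IsRoot x := by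
    intro P
    apply IsAlgClosed.exists_root
    rw [Polynomial.degree_eq_natDegree (P.2.1.map _).ne_zero, P.2.1.natDegree_map]
    have := P.2.2
    exact_mod_cast this.ne'
  choose r hr using hex
  let φ₀ : MvPolynomial (Idx A) A →ₐ[A] K := MvPolynomial.aeval r
  have hker : ∀ a ∈ J A, φ₀ a = 0 := by
    intro a ha
    have : J A ≤ RingHom.ker φ₀.toRingHom := by
      rw [Ideal.span_le]
      rintro _ ⟨P, rfl⟩
      change φ₀ _ = 0
      have h := Polynomial.aeval_algHom_apply φ₀ (MvPolynomial.X P) P.1
      rw [← h]
      have h2 : φ₀ (MvPolynomial.X P) = r P := MvPolynomial.aeval_X r P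
      rw [h2, Polynomial.aeval_def, ← Polynomial.eval_map]
      exact hr P
    exact this ha
  let φ : TT A →ₐ[A] K := Ideal.Quotient.liftₐ (J A) φ₀ hker
  refine ⟨⟨RingHom.ker φ.toRingHom, RingHom.ker_isPrime _⟩, ?_⟩
  apply PrimeSpectrum.ext
  change Ideal.comap (algebraMap A (TT A)) (RingHom.ker φ.toRingHom) = p.asIdeal
  ext a
  rw [Ideal.mem_comap, RingHom.mem_ker]
  change φ (algebraMap A (TT A) a) = 0 ↔ _
  rw [φ.commutes, IsScalarTower.algebraMap_apply A p.asIdeal.ResidueField K, map_eq_zero,
    Ideal.algebraMap_residueField_eq_zero]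

end helpers


/-- Let A be a commutative ring and T the quotient of the polynomial ring over A in indeterminates X_P,
one for each monic polynomial P over A of positive degree, by the ideal generated by the elements
P(X_P). Then the map on prime spectra Spec T → Spec A is surjective, and for every prime ideal Q of
T, with p its contraction to A, the residue field of Q is algebraically closed and integral over the
residue field of p under the induced map of residue fields (so it is an algebraic closure of it). -/
theorem result (A : Type u) [CommRing A] :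
    Function.Surjective (PrimeSpectrum.comap (algebraMap A (MvPolynomial {P : Polynomial A // P.Monic ∧ 0 < P.natDegree} A ⧸
      Ideal.span (Set.range fun P : {P : Polynomial A // P.Monic ∧ 0 < P.natDegree} =>
        Polynomial.aeval (MvPolynomial.X (R := A) P) P.1)))) ∧
    ∀ (Q : Ideal (MvPolynomial {P : Polynomial A // P.Monic ∧ 0 < P.natDegree} A ⧸
      Ideal.span (Set.range fun P : {P : Polynomial A // P.Monic ∧ 0 < P.natDegree} =>
        Polynomial.aeval (MvPolynomial.X (R := A) P) P.1))) [Q.IsPrime],
      IsAlgClosed Q.ResidueField ∧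
      (Ideal.ResidueField.map (Q.comap (algebraMap A (MvPolynomial {P : Polynomial A // P.Monic ∧ 0 < P.natDegree} A ⧸
      Ideal.span (Set.range fun P : {P : Polynomial A // P.Monic ∧ 0 < P.natDegree} =>
        Polynomial.aeval (MvPolynomial.X (R := A) P) P.1)))) Q (algebraMap A (MvPolynomial {P : Polynomial A // P.Monic ∧ 0 < P.natDegree} A ⧸
      Ideal.span (Set.range fun P : {P : Polynomial A // P.Monic ∧ 0 < P.natDegree} =>
        Polynomial.aeval (MvPolynomial.X (R := A) P) P.1))) rfl).IsIntegral := by
  refine ⟨fun p ↦ surj_comap A p, ?_⟩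
  intro Q hQ
  set p : Ideal A := Q.comap (algebraMap A (TT A)) with hp
  set σ := Ideal.ResidueField.map p Q (algebraMap A (TT A)) rfl with hσ
  have hcomp : σ.comp (algebraMap A p.ResidueField) =
      (algebraMap (TT A) Q.ResidueField).comp (algebraMap A (TT A)) := by
    ext a
    simp only [RingHom.comp_apply]
    exact Ideal.ResidueField.map_algebraMap p Q (algebraMap A (TT A)) rfl a
  -- integrality
  have hint : σ.IsIntegral := by
    letI := σ.toAlgebra
    haveI : IsScalarTower A p.ResidueField Q.ResidueField := by
      refine IsScalarTower.of_algebraMap_eq fun a ↦ ?_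
      rw [IsScalarTower.algebraMap_apply A (TT A) Q.ResidueField]
      exact (RingHom.congr_fun hcomp a).symm
    have himg : ∀ t : TT A, IsIntegral p.ResidueField (algebraMap (TT A) Q.ResidueField t) := by
      intro t
      exact ((isIntegral_TT A t).algebraMap (B := Q.ResidueField)).tower_top
    intro x
    obtain ⟨a, b, -, rfl⟩ := IsFractionRing.div_surjective (A := TT A ⧸ Q) x
    obtain ⟨a, rfl⟩ := Ideal.Quotient.mk_surjective a
    obtain ⟨b, rfl⟩ := Ideal.Quotient.mk_surjective b
    rw [Ideal.algebraMap_quotient_residueField_mk, Ideal.algebraMap_quotient_residueField_mk,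
      div_eq_mul_inv]
    exact (himg a).mul (himg b).inv
  refine ⟨?_, hint⟩
  -- algebraically closed
  letI := σ.toAlgebra
  haveI : Algebra.IsIntegral p.ResidueField Q.ResidueField := ⟨hint⟩
  have hfrac : ∀ x : p.ResidueField, ∃ a s : A, algebraMap A p.ResidueField s ≠ 0 ∧
      x = algebraMap A p.ResidueField a / algebraMap A p.ResidueField s := by
    intro x
    obtain ⟨a, b, hb, rfl⟩ := IsFractionRing.div_surjective (A := A ⧸ p) x
    obtain ⟨a, rfl⟩ := Ideal.Quotient.mk_surjective a
    obtain ⟨b, rfl⟩ := Ideal.Quotient.mk_surjective b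
    refine ⟨a, b, ?_, rfl⟩
    rw [← Ideal.algebraMap_quotient_residueField_mk]
    exact map_ne_zero_of_mem_nonZeroDivisors _ p.injective_algebraMap_quotient_residueField hb
  have hroot : ∀ G : A[X], G.Monic → 0 < G.natDegree →
      ∃ y : Q.ResidueField, eval₂ (σ.comp (algebraMap A p.ResidueField)) y G = 0 := by
    intro G hG hGd
    refine ⟨algebraMap (TT A) Q.ResidueField (Ideal.Quotient.mk (J A) (MvPolynomial.X ⟨G, hG, hGd⟩)), ?_⟩
    rw [hcomp, ← Polynomial.hom_eval₂, ← Polynomial.aeval_def]
    have := aeval_root A ⟨G, hG, hGd⟩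
    rw [this, map_zero]
  have hcl : IsAlgClosure p.ResidueField Q.ResidueField := by
    apply IsAlgClosure.of_exists_root
    intro f hf hirr
    obtain ⟨x, hx⟩ := Groth.Agent.Lib.Helper79.exists_root_of_exists_root_lifts
      (algebraMap A p.ResidueField) σ hfrac hroot f hf hirr.natDegree_pos
    exact ⟨x, by rw [Polynomial.aeval_def]; exact hx⟩
  exact hcl.isAlgClosed

end Groth.Agent.S16572
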