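import Groth.Statements.S16573
import Mathlib
import Groth.Agent.S16572
import Groth.Agent.Lib.Helper69.SpecResidue
-- import your own Groth.Agent.* helpers here

set_option autoImplicit false
universe u
open CategoryTheory AlgebraicGeometry
open EtCore

namespace Groth.Agent.S16573
open CategoryTheory AlgebraicGeometry Limits TopologicalSpace Topology Opposite
open Groth.Agent.S16572


open Groth.Agent.S16572

lemma integral_of_eq_comp {A B C : Type*} [CommRing A] [CommRing B] [CommRing C] (f : A →+* C)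
    (g : A →+* B) (h : B →+* C) (e : f = h.comp g) (hg : g.IsIntegral) (hh : h.IsIntegral) :
    f.IsIntegral := e ▸ RingHom.IsIntegral.trans _ _ hg hh

lemma integral_of_comp_eq {A B C : Type*} [CommRing A] [CommRing B] [CommRing C] (f : A →+* C)
    (g : A →+* B) (h : B →+* C) (e : f = h.comp g) (hinj : Function.Injective h)
    (hf : f.IsIntegral) : g.IsIntegral :=
  RingHom.IsIntegral.tower_bot g h hinj (e ▸ hf)

/-- source transfer along an open immersion -/
lemma L1 {Z X' X : Scheme.{u}} (j : Z ⟶ X') [IsOpenImmersion j] (f : X' ⟶ X) (z : Z)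
    (h1 : IsAlgClosed (Z.residueField z)) (h2 : ((j ≫ f).residueFieldMap z).hom.IsIntegral) :
    IsAlgClosed (X'.residueField (j z)) ∧ (f.residueFieldMap (j z)).hom.IsIntegral := by
  constructor
  · exact IsAlgClosed.of_ringEquiv (Z.residueField z) (X'.residueField (j z))
      (asIso (j.residueFieldMap z)).commRingCatIsoToRingEquiv.symm
  · exact integral_of_comp_eq ((j ≫ f).residueFieldMap z).hom (f.residueFieldMap (j z)).hom
      (j.residueFieldMap z).hom (congrArg CommRingCat.Hom.hom (Scheme.residueFieldMap_comp j f z))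
      (ConcreteCategory.bijective_of_isIso (j.residueFieldMap z)).1 h2

/-- target transfer along an open immersion -/
lemma L2 {Z W X : Scheme.{u}} (h : Z ⟶ W) (j : W ⟶ X) [IsOpenImmersion j] (z : Z)
    (h2 : (h.residueFieldMap z).hom.IsIntegral) : ((h ≫ j).residueFieldMap z).hom.IsIntegral :=
  integral_of_eq_comp ((h ≫ j).residueFieldMap z).hom (j.residueFieldMap (h z)).hom
    (h.residueFieldMap z).hom (congrArg CommRingCat.Hom.hom (Scheme.residueFieldMap_comp h j z))
    (RingHom.isIntegral_of_surjective _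
      (ConcreteCategory.bijective_of_isIso (j.residueFieldMap (h z))).2) h2

lemma L3 {R S : CommRingCat.{u}} (φ : R ⟶ S) (y : Spec S)
    (h1 : IsAlgClosed y.asIdeal.ResidueField)
    (h2 : (Ideal.ResidueField.map ((Spec.map φ) y).asIdeal y.asIdeal φ.hom rfl).IsIntegral) :
    IsAlgClosed ((Spec S).residueField y) ∧ ((Spec.map φ).residueFieldMap y).hom.IsIntegral := by
  constructor
  · exact IsAlgClosed.of_ringEquiv y.asIdeal.ResidueField ((Spec S).residueField y)
      (Scheme.Spec.residueFieldIso S y).commRingCatIsoToRingEquiv.symm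
  · have key := Groth.Agent.Lib.Helper69.SpecResidue.residueFieldMap_SpecMap φ y
    have e : (Spec.map φ).residueFieldMap y =
        (Scheme.Spec.residueFieldIso R ((Spec.map φ) y)).hom ≫
        CommRingCat.ofHom (Ideal.ResidueField.map ((Spec.map φ) y).asIdeal y.asIdeal φ.hom rfl) ≫
          (Scheme.Spec.residueFieldIso S y).inv := by
      rw [← key, Iso.hom_inv_id_assoc]
    rw [e, CommRingCat.hom_comp, CommRingCat.hom_comp]
    refine RingHom.IsIntegral.trans _ _ (RingHom.isIntegral_of_surjective _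
      (ConcreteCategory.bijective_of_isIso (Scheme.Spec.residueFieldIso R ((Spec.map φ) y)).hom).2) ?_
    exact RingHom.IsIntegral.trans _ _ h2 (RingHom.isIntegral_of_surjective _
      (ConcreteCategory.bijective_of_isIso (Scheme.Spec.residueFieldIso S y).inv).2)


lemma isIntegral_congr {X Y : Scheme.{u}} {f g : X ⟶ Y} (e : f = g) (x : X)
    (h : (g.residueFieldMap x).hom.IsIntegral) : (f.residueFieldMap x).hom.IsIntegral := by
  subst e; exact h

/-- the ring `T(R)` as an object of `CommRingCat` -/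
noncomputable abbrev TC (R : CommRingCat.{u}) : CommRingCat.{u} := CommRingCat.of (TT R)

noncomputable abbrev φC (R : CommRingCat.{u}) : R ⟶ TC R :=
  CommRingCat.ofHom (algebraMap R (TT R))

lemma spec_props (R : CommRingCat.{u}) :
    Function.Surjective (Spec.map (φC R)) ∧
    ∀ y : Spec (TC R), IsAlgClosed ((Spec (TC R)).residueField y) ∧
      ((Spec.map (φC R)).residueFieldMap y).hom.IsIntegral := by
  obtain ⟨h1, h2⟩ := Groth.Agent.S16572.result R
  refine ⟨?_, ?_⟩
  · intro p
    obtain ⟨Q, hQ⟩ := h1 p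
    exact ⟨Q, hQ⟩
  · intro y
    haveI := y.isPrime
    obtain ⟨h3, h4⟩ := h2 y.asIdeal
    exact L3 (φC R) y h3 h4


/-- For a quasi-compact quasi-separated scheme X there are an affine scheme X' and a quasi-compact
surjective morphism f : X' → X such that for every point x' of X' the residue field of x' is
algebraically closed and integral over the residue field of f(x') under the induced map of residue
fields, that is, an algebraic closure of it. -/
theorem result
    (X : Scheme.{u}) [CompactSpace X] [QuasiSeparatedSpace X] :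
    ∃ (X' : Scheme.{u}) (f : X' ⟶ X), IsAffine X' ∧ QuasiCompact f ∧ Surjective f ∧
      ∀ x' : X', IsAlgClosed (X'.residueField x') ∧ (f.residueFieldMap x').hom.IsIntegral := by
  let 𝒰 := X.affineCover.finiteSubcover
  let R : 𝒰.I₀ → CommRingCat.{u} := fun i => Γ(𝒰.X i, ⊤)
  let Z : 𝒰.I₀ → Scheme.{u} := fun i => Spec (TC (R i))
  let g : ∀ i, Z i ⟶ X := fun i => (Spec.map (φC (R i)) ≫ (𝒰.X i).isoSpec.inv) ≫ 𝒰.f i
  let f : (∐ Z) ⟶ X := Sigma.desc g
  have hιf : ∀ i, Sigma.ι Z i ≫ f = g i := fun i => Sigma.ι_desc _ _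
  refine ⟨∐ Z, f, inferInstance, inferInstance, ⟨?_⟩, ?_⟩
  · intro x
    obtain ⟨i, y, rfl⟩ := 𝒰.exists_eq x
    obtain ⟨Q, hQ⟩ := (spec_props (R i)).1 ((𝒰.X i).isoSpec.hom y)
    refine ⟨Sigma.ι Z i Q, ?_⟩
    rw [← Scheme.Hom.comp_apply, hιf]
    simp only [g, Scheme.Hom.comp_apply]
    rw [hQ, ← Scheme.Hom.comp_apply _ (𝒰.X i).isoSpec.inv, Iso.hom_inv_id]
    rfl
  · intro x'
    obtain ⟨⟨i, Q⟩, rfl⟩ := (sigmaMk Z).surjective x'
    rw [sigmaMk_mk]
    obtain ⟨h1, h2⟩ := (spec_props (R i)).2 Q
    refine L1 (Sigma.ι Z i) f Q h1 ?_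
    have : ((g i).residueFieldMap Q).hom.IsIntegral := by
      refine L2 _ (𝒰.f i) Q ?_
      exact L2 _ (𝒰.X i).isoSpec.inv Q h2
    exact isIntegral_congr (hιf i) Q this

end Groth.Agent.S16573
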