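import Groth.Statements.S16575
-- import your own Groth.Agent.* helpers here
import Groth.Agent.Lib.Helper15.BranchDim
import Groth.Agent.Lib.Helper15.BranchDim2
import Groth.Agent.Lib.Helper83.FlatLocalDim
import Groth.Agent.Lib.Helper83.FlatCompl
import Groth.Agent.Lib.Helper37.Hz31
import Groth.Agent.Lib.Helper37.Hz20
set_option linter.style.haveILetI false

set_option autoImplicit false
universe u
open CAlg

namespace Groth.Agent.S16575

open IsLocalRing Groth.Agent.Lib.Helper37.Hz Groth.Agent.Lib.Helper15.BranchDim

/-- Let A be a Noetherian local ring, S a henselization of A, S' a strict henselization of A, A' the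
integral closure of the reduction of A in its total ring of fractions, and Â the completion of A at
its maximal ideal. The following are equivalent: (i) for every maximal ideal m' of A' the local ring
of A' at m' has Krull dimension at least 2; (ii) every irreducible component of Spec S has dimension
at least 2; (ii bis) every irreducible component of Spec S' has dimension at least 2; (iii) every
irreducible component of Spec Â has dimension at least 2. (A closed subscheme Z of a Noetherian
scheme X is called c_2 when these hold at the local ring of every point of Z; condition (i) at all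
points of Z says that the preimage of Z in the normalization has codimension at least 2.) -/
theorem result
    (A : Type u) [CommRing A] [IsNoetherianRing A] [IsLocalRing A]
    (S : Type u) [CommRing S] [IsLocalRing S] [Algebra A S] [IsLocalHom (algebraMap A S)]
    [Hensel.IsHenselization A S]
    (S' : Type u) [CommRing S'] [IsLocalRing S'] [Algebra A S'] [IsLocalHom (algebraMap A S')]
    [Hensel.IsStrictHenselization A S'] :
    List.TFAE [
      ∀ m' : MaximalSpectrum (CAlg2.normRed A), (2 : WithBot ℕ∞) ≤ ringKrullDim (Localization.AtPrime m'.asIdeal),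
      ∀ p ∈ minimalPrimes S, (2 : WithBot ℕ∞) ≤ ringKrullDim (S ⧸ p),
      ∀ p ∈ minimalPrimes S', (2 : WithBot ℕ∞) ≤ ringKrullDim (S' ⧸ p),
      ∀ q ∈ minimalPrimes (AdicCompletion (IsLocalRing.maximalIdeal A) A), (2 : WithBot ℕ∞) ≤ ringKrullDim (AdicCompletion (IsLocalRing.maximalIdeal A) A ⧸ q)] := by
  classical
  have hne : maximalIdeal A ≠ ⊤ := Ideal.IsPrime.ne_top inferInstance
  have hfg : (maximalIdeal A).FG := IsNoetherian.noetherian _
  haveI : IsNoetherianRing (AdicCompletion (maximalIdeal A) A) :=
    Groth.Agent.Lib.Helper83.isNoetherianRing_adicCompletion _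
  have hmC : (maximalIdeal A).map (algebraMap A (AdicCompletion (maximalIdeal A) A)) =
      maximalIdeal (AdicCompletion (maximalIdeal A) A) :=
    Groth.Agent.Lib.Helper83.maximalIdeal_adicCompletion_eq_map (maximalIdeal A) hfg hne
  haveI : IsAdicComplete (maximalIdeal (AdicCompletion (maximalIdeal A) A))
      (AdicCompletion (maximalIdeal A) A) := by
    rw [← hmC]; exact AdicCompletion.isAdicComplete_self _ hfg
  haveI hhC : HenselianLocalRing (AdicCompletion (maximalIdeal A) A) :=
    Compare.henselianLocalRing_of_isAdicComplete _
  have hresC : ∀ c : AdicCompletion (maximalIdeal A) A, ∃ a : A,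
      c - algebraMap A (AdicCompletion (maximalIdeal A) A) a ∈
        maximalIdeal (AdicCompletion (maximalIdeal A) A) := by
    intro c
    obtain ⟨a, ha⟩ := Groth.Agent.Lib.Helper83.FlatCompl.exists_sub_of_mem (maximalIdeal A) 1 c
    refine ⟨a, ?_⟩
    rw [pow_one, Ideal.smul_top_eq_map] at ha
    rw [← hmC]; exact ha
  have hS : Hensel.IsHenselization A S := inferInstance
  haveI : HenselianLocalRing S := hS.henselian
  haveI : IsNoetherianRing S := (isNoetherianRing_iff_of_isHenselization A S).mp inferInstance
  have hmS := map_maximalIdeal_of_isHenselization A S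
  obtain ⟨ψ, hψ, -⟩ := hS.universal (AdicCompletion (maximalIdeal A) A)
    (algebraMap A (AdicCompletion (maximalIdeal A) A)) inferInstance
  letI : Algebra S (AdicCompletion (maximalIdeal A) A) := ψ.toAlgebra
  haveI : IsScalarTower A S (AdicCompletion (maximalIdeal A) A) :=
    IsScalarTower.of_algebraMap_eq (fun a => (RingHom.congr_fun hψ a).symm)
  haveI : Algebra.WeaklyEtale A S := weaklyEtale_of_isHenselization A S
  haveI : Module.Flat S (AdicCompletion (maximalIdeal A) A) :=
    Compare.flat_of_weaklyEtale A S (AdicCompletion (maximalIdeal A) A)
  have hm : (maximalIdeal S).map (algebraMap S (AdicCompletion (maximalIdeal A) A)) =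
      maximalIdeal (AdicCompletion (maximalIdeal A) A) := by
    rw [← hmS, Ideal.map_map]
    have : (algebraMap S (AdicCompletion (maximalIdeal A) A)).comp (algebraMap A S) =
        algebraMap A (AdicCompletion (maximalIdeal A) A) := hψ
    rw [this, hmC]
  have hres : ∀ c : AdicCompletion (maximalIdeal A) A, ∃ e : S,
      c - algebraMap S (AdicCompletion (maximalIdeal A) A) e ∈
        maximalIdeal (AdicCompletion (maximalIdeal A) A) := by
    intro c
    obtain ⟨a, ha⟩ := hresC c
    refine ⟨algebraMap A S a, ?_⟩
    have : algebraMap S (AdicCompletion (maximalIdeal A) A) (algebraMap A S a) =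
        algebraMap A (AdicCompletion (maximalIdeal A) A) a := RingHom.congr_fun hψ a
    rw [this]; exact ha
  have h24 := comp_iff S (AdicCompletion (maximalIdeal A) A) hm hres
  -- henselization
  haveI : Module.FaithfullyFlat A S := faithfullyFlat_of_isHenselization A S
  have h12 := branch_iff A S (isIndEtale_of_isHenselization A S)
  -- strict henselization
  have hS' : Hensel.IsStrictHenselization A S' := inferInstance
  haveI : HenselianLocalRing S' := hS'.henselian
  haveI : Module.FaithfullyFlat A S' := faithfullyFlat_of_isStrictHenselization A S'
  have h13 := branch_iff A S' (isIndEtale_of_isStrictHenselization A S')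
  tfae_have 1 ↔ 2 := h12
  tfae_have 1 ↔ 3 := h13
  tfae_have 2 ↔ 4 := h24
  tfae_finish

end Groth.Agent.S16575
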