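import Groth.Statements.S16576
-- import your own Groth.Agent.* helpers here
import Groth.Agent.Lib.Helper15.C2Main
import Groth.Agent.Lib.Helper83.FlatCompl
import Groth.Agent.Lib.Helper20.StalkSub
import Groth.Agent.S0543

set_option autoImplicit false
universe u
open CAlg

namespace Groth.Agent.S16576

/-- Let A → B be a flat local homomorphism of Noetherian local rings and let Â, B̂ be their completions
at the maximal ideals. If every irreducible component of Spec Â has dimension at least 2, then every
irreducible component of Spec B̂ has dimension at least 2. (This is the c_2 condition in its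
completed form; globally: the preimage of a c_2 closed subset under a flat morphism of Noetherian
schemes is c_2, in particular the condition is invariant under Zariski and étale localization.) -/
theorem result
    (A B : Type u) [CommRing A] [CommRing B] [IsNoetherianRing A] [IsNoetherianRing B]
    [IsLocalRing A] [IsLocalRing B] (f : A →+* B) [IsLocalHom f] (hf : f.Flat)
    (hA : ∀ q ∈ minimalPrimes (AdicCompletion (IsLocalRing.maximalIdeal A) A), (2 : WithBot ℕ∞) ≤ ringKrullDim (AdicCompletion (IsLocalRing.maximalIdeal A) A ⧸ q)) :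
    ∀ q ∈ minimalPrimes (AdicCompletion (IsLocalRing.maximalIdeal B) B), (2 : WithBot ℕ∞) ≤ ringKrullDim (AdicCompletion (IsLocalRing.maximalIdeal B) B ⧸ q) := by
  let C₀ := AdicCompletion (IsLocalRing.maximalIdeal A) A
  let D₀ := AdicCompletion (IsLocalRing.maximalIdeal B) B
  have hle : (IsLocalRing.maximalIdeal A).map f ≤ IsLocalRing.maximalIdeal B :=
    ((IsLocalRing.local_hom_TFAE f).out 0 2).mp ‹IsLocalHom f›
  let ψ : C₀ →+* D₀ := FSch.complMap _ _ f hle
  have hψ : ∀ a, ψ (AdicCompletion.of _ A a) = AdicCompletion.of _ B (f a) :=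
    fun a => Groth.Agent.Lib.Helper20.StalkSub.complMap_of _ _ f hle a
  have hflat : ψ.Flat :=
    Groth.Agent.Lib.Helper83.FlatCompl.flat_of_map_adicCompletion _ _ f hle hf ψ hψ
  have : IsNoetherianRing C₀ := Groth.Agent.S0543.result A _
  have : IsNoetherianRing D₀ := Groth.Agent.S0543.result B _
  have : IsAdicComplete (IsLocalRing.maximalIdeal C₀) C₀ :=
    AdicCompletion.isAdicComplete_of_fg (IsLocalRing.maximalIdeal A).fg_of_isNoetherianRing
  let _ : Algebra C₀ D₀ := ψ.toAlgebra
  have : Module.Flat C₀ D₀ := hflat
  have hloc : IsLocalHom (algebraMap C₀ D₀) := by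
    apply ((IsLocalRing.local_hom_TFAE (algebraMap C₀ D₀)).out 0 2).mpr
    rw [AdicCompletion.maximalIdeal_eq_map, Ideal.map_map, Ideal.map_le_iff_le_comap]
    intro a ha
    rw [Ideal.mem_comap, RingHom.comp_apply]
    have h1 : algebraMap C₀ D₀ (algebraMap A C₀ a) = algebraMap B D₀ (f a) := by
      change ψ (algebraMap A C₀ a) = _
      rw [AdicCompletion.algebraMap_apply, Algebra.algebraMap_self, RingHom.id_apply, hψ,
        AdicCompletion.algebraMap_apply, Algebra.algebraMap_self, RingHom.id_apply]
    rw [h1, AdicCompletion.maximalIdeal_eq_map]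
    exact Ideal.mem_map_of_mem _ (hle (Ideal.mem_map_of_mem _ ha))
  intro Q hQ
  exact Groth.Agent.Lib.Helper15.C2Main.two_le_of_flat_complete C₀ D₀ hA hQ

end Groth.Agent.S16576
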