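import Groth.Statements.S16577
import Groth.Agent.Lib.Helper90.SHensIncomp
-- import your own Groth.Agent.* helpers here

set_option autoImplicit false
universe u
open Hensel

namespace Groth.Agent.S16577

/-- Let A be a Noetherian local ring with a strict henselization S', and p a prime ideal of A. Call p an
immediate étale generization of the closed point when the strict henselization S'/pS' of A/p has an
irreducible component of dimension 1, that is, some minimal prime P over pS' has dim S'/P = 1. Then
p is an immediate étale generization of the closed point if and only if p is the contraction of some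
prime ideal P of S' with dim S'/P = 1. -/
theorem result
    (A : Type u) [CommRing A] [IsNoetherianRing A] [IsLocalRing A]
    (S' : Type u) [CommRing S'] [IsLocalRing S'] [Algebra A S'] [IsLocalHom (algebraMap A S')]
    [Hensel.IsStrictHenselization A S']
    (p : Ideal A) [p.IsPrime] :
    (∃ P ∈ (p.map (algebraMap A S')).minimalPrimes, ringKrullDim (S' ⧸ P) = 1) ↔
    (∃ P : Ideal S', P.IsPrime ∧ P.comap (algebraMap A S') = p ∧ ringKrullDim (S' ⧸ P) = 1) := by
  have hff : Module.FaithfullyFlat A S' :=
    Groth.Agent.Lib.Helper37.Hz.faithfullyFlat_of_isStrictHenselization A S'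
  constructor
  · rintro ⟨P, hP, hdim⟩
    have hPprime : P.IsPrime := hP.1.1
    refine ⟨P, hPprime, ?_, hdim⟩
    have hle : p ≤ P.comap (algebraMap A S') := Ideal.map_le_iff_le_comap.mp hP.1.2
    have hover : P.LiesOver (P.comap (algebraMap A S')) := ⟨rfl⟩
    obtain ⟨Q, hQP, hQprime, hQover⟩ := Ideal.exists_ideal_le_liesOver_of_le (p := p)
      (q := P.comap (algebraMap A S')) P hle
    have hQp : Q.comap (algebraMap A S') = p := (hQover.over).symm
    have hpQ : p.map (algebraMap A S') ≤ Q := Ideal.map_le_iff_le_comap.mpr (hQp ▸ le_rfl)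
    have h1 : P ≤ Q := hP.2 ⟨hQprime, hpQ⟩ hQP
    have hPQ : P = Q := le_antisymm h1 hQP
    rw [hPQ]
    exact hQp
  · rintro ⟨P, hPprime, hPp, hdim⟩
    have hpP : p.map (algebraMap A S') ≤ P := Ideal.map_le_iff_le_comap.mpr (hPp ▸ le_rfl)
    obtain ⟨P', hP'min, hP'le⟩ := Ideal.exists_minimalPrimes_le hpP
    have hP'prime : P'.IsPrime := hP'min.1.1
    have h1 : P'.comap (algebraMap A S') = P.comap (algebraMap A S') := by
      apply le_antisymm (Ideal.comap_mono hP'le)
      rw [hPp]
      exact Ideal.map_le_iff_le_comap.mp hP'min.1.2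
    have h2 : P' = P :=
      Groth.Agent.Lib.Helper90.SHensIncomp.eq_of_le_of_comap_eq A S' P' P hP'le h1
    exact ⟨P', hP'min, h2 ▸ hdim⟩

end Groth.Agent.S16577
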