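import Groth.Statements.S16578
-- import your own Groth.Agent.* helpers here
import Groth.Agent.Lib.Helper15.BranchDim3
import Groth.Agent.Lib.Helper83.FlatLocalDim
import Groth.Agent.Lib.Helper83.FlatCompl
import Groth.Agent.Lib.Helper37.Hz31
import Groth.Agent.Lib.Helper37.Hz20
import Groth.Agent.Lib.Helper37.Hz58
import Groth.Agent.Lib.Helper37.Hz81
set_option linter.style.haveILetI false

set_option autoImplicit false
universe u
open Hensel

namespace Groth.Agent.S16578

open IsLocalRing Groth.Agent.Lib.Helper37.Hz Groth.Agent.Lib.Helper15.BranchDim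

/-- Let A be a Noetherian local ring with completion Â at its maximal ideal, S' a strict henselization
of A, T' a strict henselization of Â, and p a prime ideal of A. Say that a prime p of a Noetherian
local ring with strict henselization S is an immediate étale generization of the closed point when
some minimal prime P over pS has dim S/P = 1. Then p is an immediate étale generization of the
closed point of A if and only if some minimal prime q over pÂ (a maximal point of the fibre over p
of Spec Â → Spec A) is an immediate étale generization of the closed point of Â. -/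
theorem result
    (A : Type u) [CommRing A] [IsNoetherianRing A] [IsLocalRing A]
    (S' : Type u) [CommRing S'] [IsLocalRing S'] [Algebra A S'] [IsLocalHom (algebraMap A S')]
    [Hensel.IsStrictHenselization A S']
    (T' : Type u) [CommRing T'] [IsLocalRing T'] [Algebra (AdicCompletion (IsLocalRing.maximalIdeal A) A) T'] [IsLocalHom (algebraMap (AdicCompletion (IsLocalRing.maximalIdeal A) A) T')]
    [Hensel.IsStrictHenselization (AdicCompletion (IsLocalRing.maximalIdeal A) A) T']
    (p : Ideal A) [p.IsPrime] :
    (∃ P ∈ (p.map (algebraMap A S')).minimalPrimes, ringKrullDim (S' ⧸ P) = 1) ↔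
    (∃ q ∈ (p.map (algebraMap A (AdicCompletion (IsLocalRing.maximalIdeal A) A))).minimalPrimes,
      ∃ Q ∈ (q.map (algebraMap (AdicCompletion (IsLocalRing.maximalIdeal A) A) T')).minimalPrimes, ringKrullDim (T' ⧸ Q) = 1) := by
  classical
  have hne : maximalIdeal A ≠ ⊤ := Ideal.IsPrime.ne_top inferInstance
  have hfg : (maximalIdeal A).FG := IsNoetherian.noetherian _
  haveI : IsNoetherianRing (AdicCompletion (maximalIdeal A) A) :=
    Groth.Agent.Lib.Helper83.isNoetherianRing_adicCompletion _
  have hmC : (maximalIdeal A).map (algebraMap A (AdicCompletion (maximalIdeal A) A)) =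
      maximalIdeal (AdicCompletion (maximalIdeal A) A) :=
    Groth.Agent.Lib.Helper83.maximalIdeal_adicCompletion_eq_map (maximalIdeal A) hfg hne
  haveI : IsAdicComplete (maximalIdeal (AdicCompletion (maximalIdeal A) A))
      (AdicCompletion (maximalIdeal A) A) := by
    rw [← hmC]; exact AdicCompletion.isAdicComplete_self _ hfg
  haveI hhC : HenselianLocalRing (AdicCompletion (maximalIdeal A) A) :=
    Compare.henselianLocalRing_of_isAdicComplete _
  have hresC : ∀ c : AdicCompletion (maximalIdeal A) A, ∃ a : A,
      c - algebraMap A (AdicCompletion (maximalIdeal A) A) a ∈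
        maximalIdeal (AdicCompletion (maximalIdeal A) A) := by
    intro c
    obtain ⟨a, ha⟩ := Groth.Agent.Lib.Helper83.FlatCompl.exists_sub_of_mem (maximalIdeal A) 1 c
    refine ⟨a, ?_⟩
    rw [pow_one, Ideal.smul_top_eq_map] at ha
    rw [← hmC]; exact ha
  have hS : Hensel.IsHenselization A (Hens A) := inferInstance
  haveI : HenselianLocalRing (Hens A) := hS.henselian
  haveI : IsNoetherianRing (Hens A) :=
    (isNoetherianRing_iff_of_isHenselization A (Hens A)).mp inferInstance
  have hmS := map_maximalIdeal_of_isHenselization A (Hens A)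
  obtain ⟨ψ, hψ, -⟩ := hS.universal (AdicCompletion (maximalIdeal A) A)
    (algebraMap A (AdicCompletion (maximalIdeal A) A)) inferInstance
  letI : Algebra (Hens A) (AdicCompletion (maximalIdeal A) A) := ψ.toAlgebra
  haveI : IsScalarTower A (Hens A) (AdicCompletion (maximalIdeal A) A) :=
    IsScalarTower.of_algebraMap_eq (fun a => (RingHom.congr_fun hψ a).symm)
  haveI : Algebra.WeaklyEtale A (Hens A) := weaklyEtale_of_isHenselization A (Hens A)
  haveI : Module.Flat (Hens A) (AdicCompletion (maximalIdeal A) A) :=
    Compare.flat_of_weaklyEtale A (Hens A) (AdicCompletion (maximalIdeal A) A)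
  have hm : (maximalIdeal (Hens A)).map (algebraMap (Hens A) (AdicCompletion (maximalIdeal A) A)) =
      maximalIdeal (AdicCompletion (maximalIdeal A) A) := by
    rw [← hmS, Ideal.map_map]
    have : (algebraMap (Hens A) (AdicCompletion (maximalIdeal A) A)).comp
        (algebraMap A (Hens A)) = algebraMap A (AdicCompletion (maximalIdeal A) A) := hψ
    rw [this, hmC]
  have hres : ∀ c : AdicCompletion (maximalIdeal A) A, ∃ e : Hens A,
      c - algebraMap (Hens A) (AdicCompletion (maximalIdeal A) A) e ∈
        maximalIdeal (AdicCompletion (maximalIdeal A) A) := by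
    intro c
    obtain ⟨a, ha⟩ := hresC c
    refine ⟨algebraMap A (Hens A) a, ?_⟩
    have : algebraMap (Hens A) (AdicCompletion (maximalIdeal A) A) (algebraMap A (Hens A) a) =
        algebraMap A (AdicCompletion (maximalIdeal A) A) a := RingHom.congr_fun hψ a
    rw [this]; exact ha
  -- the strict henselization `T` of `Hens A`
  letI : Algebra A (SHens (Hens A)) :=
    ((algebraMap (Hens A) (SHens (Hens A))).comp (algebraMap A (Hens A))).toAlgebra
  haveI : IsScalarTower A (Hens A) (SHens (Hens A)) :=
    IsScalarTower.of_algebraMap_eq (fun _ => rfl)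
  haveI : IsLocalHom (algebraMap A (SHens (Hens A))) := by
    have : algebraMap A (SHens (Hens A)) =
        (algebraMap (Hens A) (SHens (Hens A))).comp (algebraMap A (Hens A)) := rfl
    rw [this]
    exact RingHom.isLocalHom_comp _ _
  haveI hT : Hensel.IsStrictHenselization A (SHens (Hens A)) :=
    SmoothBr.isStrictHenselization_of_isIndEtale A (Hens A) (SHens (Hens A))
      (isIndEtale_of_isHenselization A (Hens A))
  obtain ⟨e₁⟩ := nonempty_algEquiv_SHens A S'
  obtain ⟨e₂⟩ := nonempty_algEquiv_SHens A (SHens (Hens A))
  let e : S' ≃ₐ[A] SHens (Hens A) := e₁.trans e₂.symm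
  -- Step 1
  have hmap1 : (p.map (algebraMap A S')).map ((e : S' ≃+* SHens (Hens A)) : S' →+* SHens (Hens A)) =
      p.map (algebraMap A (SHens (Hens A))) := by
    rw [Ideal.map_map]
    congr 1
    ext a
    exact e.commutes a
  have hmap2 : (p.map (algebraMap A (SHens (Hens A)))).map
      ((e.symm : SHens (Hens A) ≃+* S') : SHens (Hens A) →+* S') =
      p.map (algebraMap A S') := by
    rw [Ideal.map_map]
    congr 1
    ext a
    exact e.symm.commutes a
  have step1 : (∃ P ∈ (p.map (algebraMap A S')).minimalPrimes, ringKrullDim (S' ⧸ P) = 1) ↔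
      (∃ P ∈ (p.map (algebraMap A (SHens (Hens A)))).minimalPrimes,
        ringKrullDim (SHens (Hens A) ⧸ P) = 1) := by
    constructor
    · intro h
      have := exists_minimalPrimes_of_ringEquiv (e : S' ≃+* SHens (Hens A))
        (p.map (algebraMap A S')) (fun d => d = 1) h
      rwa [hmap1] at this
    · intro h
      have := exists_minimalPrimes_of_ringEquiv (e.symm : SHens (Hens A) ≃+* S')
        (p.map (algebraMap A (SHens (Hens A)))) (fun d => d = 1) h
      rwa [hmap2] at this
  -- Step 2
  haveI : Algebra.IsIntegral (Hens A) (SHens (Hens A)) :=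
    Gal.isIntegral_of_henselian (Hens A) (SHens (Hens A))
  haveI : Module.FaithfullyFlat (Hens A) (SHens (Hens A)) :=
    faithfullyFlat_of_isStrictHenselization (Hens A) (SHens (Hens A))
  have step2 := integral_exists_iff (B := Hens A) (T := SHens (Hens A))
    (p.map (algebraMap A (Hens A)))
  rw [Ideal.map_map, ← IsScalarTower.algebraMap_eq A (Hens A) (SHens (Hens A))] at step2
  -- Step 3
  have hpne : p.map (algebraMap A (Hens A)) ≠ ⊤ := by
    intro htop
    have hle : p.map (algebraMap A (Hens A)) ≤ maximalIdeal (Hens A) :=
      (Ideal.map_mono (le_maximalIdeal (Ideal.IsPrime.ne_top inferInstance))).trans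
        (IsLocalRing.map_maximalIdeal_le (algebraMap A (Hens A)))
    rw [htop] at hle
    exact (Ideal.IsPrime.ne_top (inferInstance : (maximalIdeal (Hens A)).IsPrime))
      (top_le_iff.1 hle)
  have step3 := comp_exists_rel (Hens A) (AdicCompletion (maximalIdeal A) A) hm hres
    (p.map (algebraMap A (Hens A))) hpne
  rw [Ideal.map_map, ← IsScalarTower.algebraMap_eq A (Hens A)
    (AdicCompletion (maximalIdeal A) A)] at step3
  -- Step 4
  haveI : Algebra.IsIntegral (AdicCompletion (maximalIdeal A) A) T' :=
    Gal.isIntegral_of_henselian (AdicCompletion (maximalIdeal A) A) T'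
  haveI : Module.FaithfullyFlat (AdicCompletion (maximalIdeal A) A) T' :=
    faithfullyFlat_of_isStrictHenselization (AdicCompletion (maximalIdeal A) A) T'
  have step4 := integral_exists_iff' (B := AdicCompletion (maximalIdeal A) A) (T := T')
    (p.map (algebraMap A (AdicCompletion (maximalIdeal A) A)))
  rw [step1, ← step2, step3, step4]

end Groth.Agent.S16578
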