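import Groth.Statements.S16583
import Mathlib
import Groth.Agent.Lib.Helper81.LocImm
-- import your own Groth.Agent.* helpers here

set_option autoImplicit false
universe u
open CategoryTheory AlgebraicGeometry
open EtCore

namespace Groth.Agent.S16583
open CategoryTheory AlgebraicGeometry Limits TopologicalSpace Topology Opposite


lemma alg_key {A C : Type u} [CommRing A] [CommRing C] [Algebra A C] [Algebra.Etale A C]
    (q : Ideal C) [q.IsPrime] (p : Ideal A) [p.IsPrime] [q.LiesOver p]
    (hfield : IsLocalRing.maximalIdeal (Localization.AtPrime p) = ⊥)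
    [IsAlgClosed p.ResidueField] :
    Function.Surjective (Localization.localRingHom p q (algebraMap A C) (q.over_def p)) := by
  letI := Localization.AtPrime.algebraOfLiesOver p q
  haveI : Algebra.EssFiniteType A C := inferInstance
  haveI : Algebra.IsUnramifiedAt A q := inferInstance
  obtain ⟨hsep, hmap⟩ := (Algebra.isUnramifiedAt_iff_map_eq A p q).mp inferInstance
  have hmax : IsLocalRing.maximalIdeal (Localization.AtPrime q) = ⊥ := by
    rw [← hmap, eq_bot_iff, Ideal.map_le_iff_le_comap]
    intro a ha
    rw [Ideal.mem_comap, Ideal.mem_bot,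
      IsScalarTower.algebraMap_apply A (Localization.AtPrime p) (Localization.AtPrime q)]
    have : algebraMap A (Localization.AtPrime p) a ∈
        IsLocalRing.maximalIdeal (Localization.AtPrime p) := by
      rw [← Localization.AtPrime.map_eq_maximalIdeal]; exact Ideal.mem_map_of_mem _ ha
    rw [hfield, Ideal.mem_bot] at this
    rw [this, map_zero]
  have hsurj : Function.Surjective (algebraMap p.ResidueField q.ResidueField) :=
    (IsAlgClosed.algebraMap_bijective_of_isIntegral).2
  intro c
  obtain ⟨a, ha⟩ := hsurj (IsLocalRing.residue _ c)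
  obtain ⟨a, rfl⟩ := IsLocalRing.residue_surjective a
  refine ⟨a, ?_⟩
  rw [← IsLocalRing.ResidueField.algebraMap_eq, ← IsScalarTower.algebraMap_apply,
    IsScalarTower.algebraMap_apply _ (Localization.AtPrime q), IsLocalRing.ResidueField.algebraMap_eq,
    ← sub_eq_zero, ← map_sub, IsLocalRing.residue_eq_zero_iff, hmax, Ideal.mem_bot, sub_eq_zero] at ha
  exact ha

open Groth.Agent.Lib.Helper81.LocImm in
lemma stalk_surj (X Y : Scheme.{u}) (hX : ∀ x : X, IsField (X.presheaf.stalk x))
    (hX' : ∀ x : X, IsAlgClosed (X.residueField x))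
    (f : Y ⟶ X) [Etale f] (y : Y) : Function.Surjective (f.stalkMap y) := by
  obtain ⟨V₀, U₀, hVU, hV₀, hU₀, hy⟩ := exists_affine_pair f y
  have hiso := IsAffineOpen.arrowStalkMapIso f U₀ hU₀ V₀ hV₀ hVU hy
  rw [(RingHom.surjective_respectsIso.arrow_mk_iso_iff hiso)]
  have hEt : (f.appLE U₀ V₀ hVU).hom.Etale :=
    HasRingHomProperty.appLE (P := @Etale) f inferInstance ⟨U₀, hU₀⟩ ⟨V₀, hV₀⟩ hVU
  set p := (hU₀.primeIdealOf ⟨f y, hVU hy⟩).asIdeal with hp
  set q := (hV₀.primeIdealOf ⟨y, hy⟩).asIdeal with hq
  have hpq : p = q.comap (f.appLE U₀ V₀ hVU).hom :=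
    congr($(IsAffineOpen.comap_primeIdealOf_appLE U₀ hU₀ V₀ hV₀ hVU hy).1).symm
  let e : X.presheaf.stalk (f y) ≃+* Localization.AtPrime p :=
    (Arrow.leftFunc.mapIso hiso).commRingCatIsoToRingEquiv
  have hfield : IsLocalRing.maximalIdeal (Localization.AtPrime p) = ⊥ := by
    rw [← IsLocalRing.isField_iff_maximalIdeal_eq]
    exact e.symm.toMulEquiv.isField (hX (f y))
  haveI : IsAlgClosed p.ResidueField := by
    haveI := hX' (f y)
    exact IsAlgClosed.of_ringEquiv (X.residueField (f y)) p.ResidueField
      (IsLocalRing.ResidueField.mapEquiv e)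
  algebraize [(f.appLE U₀ V₀ hVU).hom]
  haveI : q.LiesOver p := ⟨hpq⟩
  exact alg_key q p hfield

open Groth.Agent.Lib.Helper81.LocImm in

/-- Let X be a scheme such that every local ring of X is a field and every residue field of X is
algebraically closed, and let f : Y → X be an étale morphism. Then f is Zariski-locally trivial: for
every point y of Y there exist an open V of X containing f(y) and a section s : V → Y of f over V
whose image contains y. (The published lemma is stated for a specific scheme X^c attached to a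
coherent scheme — the constructible topology of a suitable integral cover, which has these two
properties by construction; the row states the assertion for every scheme with these two properties,
which is all the printed proof uses. The lemma's further assertions about the étale and Zariski
topoi, torsors and gerbes on X^c are not included.) -/
theorem result
    (X Y : Scheme.{u}) (hX : ∀ x : X, IsField (X.presheaf.stalk x))
    (hX' : ∀ x : X, IsAlgClosed (X.residueField x))
    (f : Y ⟶ X) [Etale f] (y : Y) :
    ∃ (V : X.Opens) (s : (V : Scheme.{u}) ⟶ Y), f.base y ∈ V ∧ s ≫ f = V.ι ∧ y ∈ Set.range s.base := by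
  have hs := stalk_surj X Y hX hX' f y
  obtain ⟨V', U, hle, hyV', hV', hU, hcl⟩ := exists_closedImmersion_of_stalkMap_surjective f y hs
  haveI : Etale (f.resLE U V' hle) := inferInstance
  haveI : IsOpenImmersion (f.resLE U V' hle) := IsOpenImmersion.of_flat_of_mono _
  let j : (V' : Scheme.{u}) ⟶ X := f.resLE U V' hle ≫ U.ι
  have hj : j = V'.ι ≫ f := Scheme.Hom.resLE_comp_ι f hle
  refine ⟨j.opensRange, j.isoOpensRange.inv ≫ V'.ι, ?_, ?_, ?_⟩
  · refine ⟨⟨y, hyV'⟩, ?_⟩
    rw [hj]
    rfl
  · rw [Category.assoc, ← hj, Scheme.Hom.isoOpensRange_inv_comp]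
  · refine ⟨j.isoOpensRange.hom ⟨y, hyV'⟩, ?_⟩
    show (j.isoOpensRange.inv ≫ V'.ι) (j.isoOpensRange.hom ⟨y, hyV'⟩) = y
    rw [← Scheme.Hom.comp_apply, Iso.hom_inv_id_assoc]
    rfl

end Groth.Agent.S16583
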