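import Groth.Statements.S1659
import Mathlib
import Groth.Agent.Lib.Helper91.KrullEq

set_option autoImplicit false
universe u
open CategoryTheory CategoryTheory.Limits AlgebraicGeometry
open Divisors

namespace Groth.Agent.S1659

/-- Let X be Noetherian, D an effective Cartier divisor and D_1, …, D_r effective Cartier divisors which
are integral as closed subschemes, with D contained set-theoretically in their union. Then D = Σ a_i
D_i for some a_i ≥ 0, i.e. the ideal sheaf of D is the product of the a_i-th powers of the ideal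
sheaves of the D_i. -/
theorem result (X : Scheme.{u}) [IsNoetherian X] (D : X.IdealSheafData) (hD : BlowUp.IsEffCartierIdeal D)
    (r : ℕ) (Ds : Fin r → X.IdealSheafData) (hDs : ∀ i, BlowUp.IsEffCartierIdeal (Ds i)) (hint : ∀ i, IsIntegral (Ds i).subscheme)
    (hsub : (D.support : Set X) ⊆ ⋃ i, ((Ds i).support : Set X)) :
    ∃ a : Fin r → ℕ, D = ∏ i, Ds i ^ a i := by
  classical
  haveI : ∀ i, IsIntegral (Ds i).subscheme := hint
  have hcov : ∀ z ∈ D.support, 2 ≤ Order.coheight z ∨ ∃ i, z ∈ (Ds i).support := by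
    intro z hz
    right
    obtain ⟨i, hi⟩ := Set.mem_iUnion.mp (hsub hz)
    exact ⟨i, hi⟩
  obtain ⟨J, n, hle, heq⟩ := Groth.Agent.Lib.Helper91.PrimeDecomp.exists_exponents hDs hcov
  refine ⟨fun i => if i ∈ J then n i else 0, ?_⟩
  have hprod : ∏ i, Ds i ^ (if i ∈ J then n i else 0) = ∏ i ∈ J, Ds i ^ n i := by
    rw [← Finset.prod_subset (Finset.subset_univ J)]
    · apply Finset.prod_congr rfl
      intro i hi
      rw [if_pos hi]
    · intro i _ hi
      rw [if_neg hi, pow_zero]
  rw [hprod]
  apply Groth.Agent.Lib.Helper91.KrullEq.eq_of_forall_coheight_le_one hle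
  · intro x
    obtain ⟨d, _, hd⟩ := Groth.Agent.Lib.Helper91.StalkIdeal.exists_generator hD x
    exact ⟨d, hd⟩
  · intro x
    exact Groth.Agent.Lib.Helper91.KrullEq.exists_generator_prod hDs J n x
  · exact heq

end Groth.Agent.S1659
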