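import Groth.Statements.S16599
import Groth.Agent.Lib.Helper83.LGPoints

set_option autoImplicit false
open AlgebraicGeometry
universe u
open LGRing

namespace Groth.Agent.S16599

/-- Let R be an LG-ring, n ≥ 0, and U an open quasi-compact subscheme of affine n-space Spec R[X₁, …,
Xₙ]. If U has an (R ⧸ m)-valued point over R for every maximal ideal m of R, then U has an R-valued
point: some n-tuple x over R defines a section Spec R ⟶ Spec R[X₁, …, Xₙ] with image inside U. -/
theorem result {R : Type u} [CommRing R] (hR : LGRing.IsLGRing R)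
    (n : ℕ) (U : (Spec (CommRingCat.of (MvPolynomial (Fin n) R))).Opens)
    (hU : IsCompact (U : Set ↥(Spec (CommRingCat.of (MvPolynomial (Fin n) R)))))
    (h : ∀ (m : Ideal R) [m.IsMaximal], ∃ x : Fin n → R ⧸ m,
      Set.range (Spec.map (CommRingCat.ofHom (MvPolynomial.eval₂Hom (Ideal.Quotient.mk m) x))).base ⊆
        (U : Set ↥(Spec (CommRingCat.of (MvPolynomial (Fin n) R))))) :
    ∃ x : Fin n → R, Set.range (Spec.map (CommRingCat.ofHom (MvPolynomial.eval x))).base ⊆
      (U : Set ↥(Spec (CommRingCat.of (MvPolynomial (Fin n) R)))) := by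
  classical
  obtain ⟨k, f, hUf⟩ := Groth.Agent.Lib.Helper83.exists_fin_generators_of_isCompact U hU
  have hloc : ∀ (m : Ideal R) [m.IsMaximal], ∃ x : Fin n → R, ∃ i, MvPolynomial.eval x (f i) ∉ m := by
    intro m _
    obtain ⟨x, hx⟩ := h m
    have hx := (Groth.Agent.Lib.Helper83.range_specMap_subset_iff _ _ _ hUf).1 hx
    choose x' hx' using fun j => Ideal.Quotient.mk_surjective (x j)
    have hcomp : MvPolynomial.eval₂Hom (Ideal.Quotient.mk m) x =
        (Ideal.Quotient.mk m).comp (MvPolynomial.eval x') := by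
      apply MvPolynomial.ringHom_ext
      · intro r; simp
      · intro i; simp [hx']
    by_contra hcon
    push Not at hcon
    have hbot : (Ideal.span (Set.range f)).map (MvPolynomial.eval₂Hom (Ideal.Quotient.mk m) x) = ⊥ := by
      rw [Ideal.map_span, Ideal.span_eq_bot]
      rintro _ ⟨_, ⟨i, rfl⟩, rfl⟩
      rw [hcomp, RingHom.comp_apply, Ideal.Quotient.eq_zero_iff_mem]
      exact hcon x' i
    rw [hbot] at hx
    exact bot_ne_top hx
  obtain ⟨x, hx⟩ := Groth.Agent.Lib.Helper83.exists_span_eval_eq_top hR f hloc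
  refine ⟨x, (Groth.Agent.Lib.Helper83.range_specMap_subset_iff _ _ _ hUf).2 ?_⟩
  rw [Ideal.map_span, ← Set.range_comp]
  exact hx

end Groth.Agent.S16599
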