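import Groth.Statements.S1660
import Mathlib
import Groth.Agent.Lib.Helper91.CartierExt4
import Groth.Agent.Lib.Helper91.ImmRestrict
import Groth.Agent.S1570

set_option autoImplicit false
universe u
open CategoryTheory CategoryTheory.Limits AlgebraicGeometry
open Divisors

namespace Groth.Agent.S1660

/-- Let X be locally Noetherian, U open, and D an effective Cartier divisor on U. If the local ring of X
at every point outside U is a unique factorisation domain, then there is an effective Cartier
divisor D' on X whose restriction (inverse image ideal) to U is D. -/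
theorem result (X : Scheme.{u}) [IsLocallyNoetherian X] (U : X.Opens)
    (D : (U : Scheme.{u}).IdealSheafData) (hD : BlowUp.IsEffCartierIdeal D)
    (hufd : ∀ x : X, x ∉ U → IsDomain (X.presheaf.stalk x) ∧ UniqueFactorizationMonoid (X.presheaf.stalk x)) :
    ∃ D' : X.IdealSheafData, BlowUp.IsEffCartierIdeal D' ∧ D'.comap U.ι = D := by
  haveI : QuasiCompact U.ι :=
    Groth.Agent.Lib.Helper91.ImmRestrict.quasiCompact_of_isLocallyNoetherian U.ι
  refine ⟨D.map U.ι, ?_, ?_⟩
  · apply Groth.Agent.S1570.result X (D.map U.ι)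
    intro x _ W hxW
    rw [← Groth.Agent.Lib.Helper91.StalkIdeal.stalkIdeal_eq (D.map U.ι) W hxW]
    by_cases hxU : x ∈ U
    · obtain ⟨y, rfl⟩ : ∃ y : U.toScheme, U.ι y = x := ⟨⟨x, hxU⟩, rfl⟩
      exact Groth.Agent.Lib.Helper91.CartierExt.exists_generator_map_of_mem U D hD y
    · obtain ⟨h1, h2⟩ := hufd x hxU
      exact Groth.Agent.Lib.Helper91.CartierExt.exists_generator_map_of_ufd U D hD x
  · apply Groth.Agent.Lib.Helper91.StalkIdeal.eq_of_forall_stalkIdeal_eq
    intro y
    rw [Groth.Agent.Lib.Helper91.StalkIdeal.stalkIdeal_comap,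
      Groth.Agent.Lib.Helper91.CartierExt.map_stalkMap_stalkIdeal_map]

end Groth.Agent.S1660
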