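import Groth.Statements.S16600
import Groth.Agent.Lib.Helper83.LGPoints
import Groth.Agent.Lib.Helper83.SymDualPoints

set_option autoImplicit false
open AlgebraicGeometry
universe u
open LGRing

namespace Groth.Agent.S16600

/-- Let R be an LG-ring, M a finite locally free R-module, W(M) = Spec Sym(M^∨) the vector bundle of M
(its points with values in an R-algebra R' are the R-algebra maps Sym(M^∨) → R', i.e. the R-linear
maps M^∨ → R'), and U ⊆ W(M) an open quasi-compact subscheme. Then U(R) is non-empty if and only if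
U(R ⧸ m) is non-empty for every maximal ideal m of R. -/
theorem result {R : Type u} [CommRing R]
    (hR : LGRing.IsLGRing R) (M : Type u) [AddCommGroup M] [Module R M] [Module.Finite R M] [Module.Projective R M]
    (U : (Spec (CommRingCat.of (SymmetricAlgebra R (Module.Dual R M)))).Opens)
    (hU : IsCompact (U : Set ↥(Spec (CommRingCat.of (SymmetricAlgebra R (Module.Dual R M)))))) :
    (∃ φ : Module.Dual R M →ₗ[R] R,
      Set.range (Spec.map (CommRingCat.ofHom (SymmetricAlgebra.lift φ).toRingHom)).base ⊆
        (U : Set ↥(Spec (CommRingCat.of (SymmetricAlgebra R (Module.Dual R M)))))) ↔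
    ∀ (m : Ideal R) [m.IsMaximal], ∃ φ : Module.Dual R M →ₗ[R] (R ⧸ m),
      Set.range (Spec.map (CommRingCat.ofHom (SymmetricAlgebra.lift φ).toRingHom)).base ⊆
        (U : Set ↥(Spec (CommRingCat.of (SymmetricAlgebra R (Module.Dual R M))))) := by
  classical
  obtain ⟨k, g, hUg⟩ := Groth.Agent.Lib.Helper83.exists_fin_generators_of_isCompact U hU
  constructor
  · rintro ⟨φ, hφ⟩ m _
    have hφ' := (Groth.Agent.Lib.Helper83.range_specMap_subset_iff _ _ _ hUg).1 hφ
    refine ⟨(Algebra.linearMap R (R ⧸ m)) ∘ₗ φ,
      (Groth.Agent.Lib.Helper83.range_specMap_subset_iff _ _ _ hUg).2 ?_⟩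
    have hcomp : SymmetricAlgebra.lift ((Algebra.linearMap R (R ⧸ m)) ∘ₗ φ) =
        (Ideal.Quotient.mkₐ R m).comp (SymmetricAlgebra.lift φ) := by
      apply SymmetricAlgebra.algHom_ext
      ext l
      simp
    have hcomp' : (SymmetricAlgebra.lift ((Algebra.linearMap R (R ⧸ m)) ∘ₗ φ)).toRingHom =
        (Ideal.Quotient.mk m).comp (SymmetricAlgebra.lift φ).toRingHom := by
      rw [hcomp]; rfl
    rw [hcomp', ← Ideal.map_map, hφ']
    exact Ideal.map_top _
  · intro h
    obtain ⟨n, p, σ, hσ⟩ := Groth.Agent.Lib.Helper83.exists_dual_coordinates R M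
    have hloc : ∀ (m : Ideal R) [m.IsMaximal], ∃ x : Fin n → R, ∃ i,
        MvPolynomial.eval x (Groth.Agent.Lib.Helper83.symToPoly p (g i)) ∉ m := by
      intro m _
      obtain ⟨φ, hφ⟩ := h m
      have hφ' := (Groth.Agent.Lib.Helper83.range_specMap_subset_iff _ _ _ hUg).1 hφ
      rw [Groth.Agent.Lib.Helper83.eq_dualPt p σ hσ (R ⧸ m) φ] at hφ'
      choose x' hx' using fun j => Ideal.Quotient.mk_surjective (φ (σ j))
      have hfun : (fun j => φ (σ j)) = fun j => Ideal.Quotient.mk m (x' j) := by
        funext j; rw [hx']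
      rw [hfun] at hφ'
      by_contra hcon
      push Not at hcon
      have hbot : (Ideal.span (Set.range g)).map
          (SymmetricAlgebra.lift (Groth.Agent.Lib.Helper83.dualPt p (R ⧸ m)
            (fun j => Ideal.Quotient.mk m (x' j)))).toRingHom = ⊥ := by
        rw [Ideal.map_span, Ideal.span_eq_bot]
        rintro _ ⟨_, ⟨i, rfl⟩, rfl⟩
        show SymmetricAlgebra.lift (Groth.Agent.Lib.Helper83.dualPt p (R ⧸ m)
            (fun j => Ideal.Quotient.mk m (x' j))) (g i) = 0
        rw [← Groth.Agent.Lib.Helper83.aeval_symToPoly]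
        have hae : ∀ q : MvPolynomial (Fin n) R,
            MvPolynomial.aeval (fun j => Ideal.Quotient.mk m (x' j)) q =
              Ideal.Quotient.mk m (MvPolynomial.eval x' q) := by
          intro q
          have : (MvPolynomial.aeval (fun j => Ideal.Quotient.mk m (x' j)) :
              MvPolynomial (Fin n) R →ₐ[R] R ⧸ m).toRingHom =
              (Ideal.Quotient.mk m).comp (MvPolynomial.eval x') := by
            apply MvPolynomial.ringHom_ext
            · intro r; simp
            · intro i; simp
          exact congrArg (fun F : MvPolynomial (Fin n) R →+* R ⧸ m => F q) this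
        rw [hae, Ideal.Quotient.eq_zero_iff_mem]
        exact hcon x' i
      rw [hbot] at hφ'
      exact bot_ne_top hφ'
    obtain ⟨x, hx⟩ := Groth.Agent.Lib.Helper83.exists_span_eval_eq_top hR
      (fun i => Groth.Agent.Lib.Helper83.symToPoly p (g i)) hloc
    refine ⟨Groth.Agent.Lib.Helper83.dualPt p R x,
      (Groth.Agent.Lib.Helper83.range_specMap_subset_iff _ _ _ hUg).2 ?_⟩
    rw [Ideal.map_span, ← Set.range_comp]
    convert hx using 3
    funext i
    show SymmetricAlgebra.lift (Groth.Agent.Lib.Helper83.dualPt p R x) (g i) = _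
    rw [← Groth.Agent.Lib.Helper83.aeval_symToPoly]
    rfl

end Groth.Agent.S16600
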