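import Groth.Statements.S16601
import Groth.Agent.S16600

set_option autoImplicit false
open AlgebraicGeometry
universe u
open LGRing

namespace Groth.Agent.S16601

/-- Let R be an LG-ring whose residue fields at maximal ideals are all infinite (R satisfies the
primitive criterion), M a finite locally free R-module with vector bundle W(M) = Spec Sym(M^∨), and
U ⊆ W(M) an open quasi-compact subscheme which is fibrewise dense over the closed points of Spec R
(for every maximal ideal m, the trace of U on the closed fibre Spec (Sym(M^∨) ⧸ m Sym(M^∨)) is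
dense). Then U has an R-valued point. (The source asks U to be R-dense in W(M); only density of the
closed fibres is used, which is what is assumed here.) -/
theorem result {R : Type u} [CommRing R]
    (hR : LGRing.IsLGRing R) (hinf : ∀ (m : Ideal R) [m.IsMaximal], Infinite (R ⧸ m))
    (M : Type u) [AddCommGroup M] [Module R M] [Module.Finite R M] [Module.Projective R M]
    (U : (Spec (CommRingCat.of (SymmetricAlgebra R (Module.Dual R M)))).Opens)
    (hU : IsCompact (U : Set ↥(Spec (CommRingCat.of (SymmetricAlgebra R (Module.Dual R M))))))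
    (hdense : ∀ (m : Ideal R) [m.IsMaximal],
      Dense ((Spec.map (CommRingCat.ofHom (Ideal.Quotient.mk
        (Ideal.map (algebraMap R (SymmetricAlgebra R (Module.Dual R M))) m)))).base ⁻¹'
          (U : Set ↥(Spec (CommRingCat.of (SymmetricAlgebra R (Module.Dual R M))))))) :
    ∃ φ : Module.Dual R M →ₗ[R] R,
      Set.range (Spec.map (CommRingCat.ofHom (SymmetricAlgebra.lift φ).toRingHom)).base ⊆
        (U : Set ↥(Spec (CommRingCat.of (SymmetricAlgebra R (Module.Dual R M))))) := by
  classical
  refine (Groth.Agent.S16600.result hR M U hU).2 ?_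
  intro m hm
  obtain ⟨k, g, hUg⟩ := Groth.Agent.Lib.Helper83.exists_fin_generators_of_isCompact U hU
  obtain ⟨n, p, σ, hσ⟩ := Groth.Agent.Lib.Helper83.exists_dual_coordinates R M
  -- the closed fibre is non-empty
  have hne : Ideal.map (algebraMap R (SymmetricAlgebra R (Module.Dual R M))) m ≠ ⊤ := by
    intro htop
    have hle : Ideal.map (algebraMap R (SymmetricAlgebra R (Module.Dual R M))) m ≤
        RingHom.ker ((Ideal.Quotient.mkₐ R m).comp
          (SymmetricAlgebra.algebraMapInv (R := R) (M := Module.Dual R M))).toRingHom := by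
      rw [Ideal.map_le_iff_le_comap]
      intro r hr
      rw [Ideal.mem_comap, RingHom.mem_ker]
      simp only [AlgHom.toRingHom_eq_coe, RingHom.coe_coe, AlgHom.commutes]
      exact Ideal.Quotient.eq_zero_iff_mem.2 hr
    rw [htop] at hle
    have h1 := hle (Submodule.mem_top : (1 : SymmetricAlgebra R (Module.Dual R M)) ∈ ⊤)
    rw [RingHom.mem_ker, map_one] at h1
    have : Nontrivial (R ⧸ m) := Ideal.Quotient.nontrivial_iff.2 hm.ne_top
    exact one_ne_zero h1
  have hnt : Nontrivial (SymmetricAlgebra R (Module.Dual R M) ⧸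
      Ideal.map (algebraMap R (SymmetricAlgebra R (Module.Dual R M))) m) :=
    Ideal.Quotient.nontrivial_iff.2 hne
  have hnonempty : Nonempty ↥(Spec (CommRingCat.of (SymmetricAlgebra R (Module.Dual R M) ⧸
      Ideal.map (algebraMap R (SymmetricAlgebra R (Module.Dual R M))) m))) :=
    (inferInstance : Nonempty (PrimeSpectrum (SymmetricAlgebra R (Module.Dual R M) ⧸
      Ideal.map (algebraMap R (SymmetricAlgebra R (Module.Dual R M))) m)))
  obtain ⟨q, hq⟩ := (hdense m).nonempty
  -- some generator is nonzero on the closed fibre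
  have hex : ∃ i, g i ∉ Ideal.map (algebraMap R (SymmetricAlgebra R (Module.Dual R M))) m := by
    by_contra hcon
    push Not at hcon
    have hq' : (Spec.map (CommRingCat.ofHom (Ideal.Quotient.mk
        (Ideal.map (algebraMap R (SymmetricAlgebra R (Module.Dual R M))) m)))).base q ∈
          (PrimeSpectrum.zeroLocus ((Ideal.span (Set.range g) :
            Ideal (SymmetricAlgebra R (Module.Dual R M))) :
              Set (SymmetricAlgebra R (Module.Dual R M))))ᶜ := by
      rw [← hUg]; exact hq
    apply hq'
    rw [PrimeSpectrum.mem_zeroLocus, SetLike.coe_subset_coe, Ideal.span_le]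
    rintro _ ⟨i, rfl⟩
    show g i ∈ Ideal.comap _ (q : PrimeSpectrum _).asIdeal
    rw [Ideal.mem_comap]
    have : (Ideal.Quotient.mk (Ideal.map (algebraMap R (SymmetricAlgebra R (Module.Dual R M))) m))
        (g i) = 0 := Ideal.Quotient.eq_zero_iff_mem.2 (hcon i)
    simp only [CommRingCat.hom_ofHom]
    rw [this]
    exact zero_mem _
  obtain ⟨i, hi⟩ := hex
  -- its coordinate polynomial is nonzero modulo m
  have h3 : Groth.Agent.Lib.Helper83.symToPoly p (g i) ∉
      Ideal.map (MvPolynomial.C : R →+* MvPolynomial (Fin n) R) m := by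
    intro hmem
    apply hi
    have h := Ideal.mem_map_of_mem (Groth.Agent.Lib.Helper83.polyToSym σ).toRingHom hmem
    rw [Ideal.map_map] at h
    have hc : (Groth.Agent.Lib.Helper83.polyToSym σ).toRingHom.comp
        (MvPolynomial.C : R →+* MvPolynomial (Fin n) R) =
        algebraMap R (SymmetricAlgebra R (Module.Dual R M)) := by
      ext r
      simp [Groth.Agent.Lib.Helper83.polyToSym]
    rw [hc] at h
    have h5 : (Groth.Agent.Lib.Helper83.polyToSym σ).toRingHom
        (Groth.Agent.Lib.Helper83.symToPoly p (g i)) = g i :=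
      Groth.Agent.Lib.Helper83.polyToSym_symToPoly p σ hσ (g i)
    rw [h5] at h
    exact h
  have h4 : MvPolynomial.map (Ideal.Quotient.mk m)
      (Groth.Agent.Lib.Helper83.symToPoly p (g i)) ≠ 0 := by
    intro h0
    apply h3
    rw [← RingHom.mem_ker, MvPolynomial.ker_map, Ideal.mk_ker] at h0
    exact h0
  have hinf' : Infinite (R ⧸ m) := hinf m
  obtain ⟨x, hx⟩ : ∃ x : Fin n → R ⧸ m, MvPolynomial.eval x (MvPolynomial.map (Ideal.Quotient.mk m)
      (Groth.Agent.Lib.Helper83.symToPoly p (g i))) ≠ 0 := by
    by_contra hcon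
    push Not at hcon
    exact h4 (MvPolynomial.funext (fun x => by simpa using hcon x))
  refine ⟨Groth.Agent.Lib.Helper83.dualPt p (R ⧸ m) x,
    (Groth.Agent.Lib.Helper83.range_specMap_subset_iff _ _ _ hUg).2 ?_⟩
  have hunit : IsUnit ((SymmetricAlgebra.lift (Groth.Agent.Lib.Helper83.dualPt p (R ⧸ m) x)).toRingHom
      (g i)) := by
    show IsUnit (SymmetricAlgebra.lift (Groth.Agent.Lib.Helper83.dualPt p (R ⧸ m) x) (g i))
    rw [← Groth.Agent.Lib.Helper83.aeval_symToPoly]
    have : MvPolynomial.aeval x (Groth.Agent.Lib.Helper83.symToPoly p (g i)) =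
        MvPolynomial.eval x (MvPolynomial.map (Ideal.Quotient.mk m)
          (Groth.Agent.Lib.Helper83.symToPoly p (g i))) := by
      rw [MvPolynomial.eval_map, MvPolynomial.aeval_def]
      rfl
    rw [this]
    let _ := Ideal.Quotient.field m
    exact IsUnit.mk0 _ hx
  exact Ideal.eq_top_of_isUnit_mem _ (Ideal.mem_map_of_mem _ (Ideal.subset_span ⟨i, rfl⟩)) hunit

end Groth.Agent.S16601
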