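import Groth.Statements.S16602
import Groth.Agent.Lib.Helper98.AzuLG

set_option autoImplicit false
universe u v w
open Brauer

namespace Groth.Agent.S16602

theorem aux {R : Type u} [CommRing R]
    (hR : LGRing.IsLGRing R) {A : Type v} [Ring A] [Algebra R A] [IsAzumaya R A]
    (P Q : Type w) [AddCommGroup P] [Module A P] [Module R P] [IsScalarTower R A P]
    [Module.Finite A P] [Module.Projective A P]
    [AddCommGroup Q] [Module A Q] [Module R Q] [IsScalarTower R A Q]
    [Module.Finite A Q] [Module.Projective A Q] [Nontrivial Q]
    (hP : ∀ e : Module.End A P, IsIdempotentElem e → e = 0 ∨ e = 1)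
    (h : ∀ p : PrimeSpectrum R, Module.rankAtStalk Q p ≤ Module.rankAtStalk P p) :
    Nonempty (P ≃ₗ[A] Q) := by
  obtain ⟨f, hf⟩ := Groth.Agent.Lib.Helper98.AzuLG.exists_surjective_of_rankAtStalk_le (Λ := A)
    (P := P) (Q := Q) hR fun m hm => h ⟨m, hm.isPrime⟩
  obtain ⟨g, hg⟩ := LinearMap.exists_rightInverse_of_surjective f (LinearMap.range_eq_top.mpr hf)
  have hg' : ∀ q, f (g q) = q := fun q => congrArg (fun φ : Q →ₗ[A] Q => φ q) hg
  have hidem : IsIdempotentElem (g ∘ₗ f : Module.End A P) := by
    ext x
    simp [Module.End.mul_apply, hg']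
  rcases hP _ hidem with h0 | h1
  · exfalso
    obtain ⟨q, hq⟩ := exists_ne (0 : Q)
    obtain ⟨x, rfl⟩ := hf q
    apply hq
    have := congrArg (fun φ : Module.End A P => f (φ x)) h0
    simpa [hg'] using this
  · have hinj : Function.Injective f := by
      intro x y hxy
      have hx := congrArg (fun φ : Module.End A P => φ x) h1
      have hy := congrArg (fun φ : Module.End A P => φ y) h1
      simp only [LinearMap.comp_apply, Module.End.one_apply] at hx hy
      rw [← hx, ← hy, hxy]
    exact ⟨LinearEquiv.ofBijective f ⟨hinj, hf⟩⟩

/-- Let R be an LG-ring with Spec R connected and A an Azumaya R-algebra. Then any two indecomposable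
finitely generated projective left A-modules are isomorphic (a module is indecomposable when it is
non-zero and the only idempotents of its endomorphism ring are 0 and 1). (This extends the semilocal
case.) -/
theorem result {R : Type u} [CommRing R]
    (hR : LGRing.IsLGRing R) [ConnectedSpace (PrimeSpectrum R)] {A : Type v} [Ring A] [Algebra R A] [IsAzumaya R A]
    (P Q : Type w) [AddCommGroup P] [Module A P] [Module.Finite A P] [Module.Projective A P] [Nontrivial P]
    [AddCommGroup Q] [Module A Q] [Module.Finite A Q] [Module.Projective A Q] [Nontrivial Q]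
    (hP : ∀ e : Module.End A P, IsIdempotentElem e → e = 0 ∨ e = 1)
    (hQ : ∀ e : Module.End A Q, IsIdempotentElem e → e = 0 ∨ e = 1) : Nonempty (P ≃ₗ[A] Q) := by
  let _ : Module R P := Module.compHom P (algebraMap R A)
  let _ : Module R Q := Module.compHom Q (algebraMap R A)
  have tP : IsScalarTower R A P := ⟨fun r a x => by
    show (r • a) • x = algebraMap R A r • (a • x)
    rw [Algebra.smul_def, mul_smul]⟩
  have tQ : IsScalarTower R A Q := ⟨fun r a x => by
    show (r • a) • x = algebraMap R A r • (a • x)
    rw [Algebra.smul_def, mul_smul]⟩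
  have : Module.Finite R P := Module.Finite.trans A P
  have : Module.Finite R Q := Module.Finite.trans A Q
  have : Module.Projective R P := Groth.Agent.Lib.Helper98.AzuLG.projective_of_tower R A P
  have : Module.Projective R Q := Groth.Agent.Lib.Helper98.AzuLG.projective_of_tower R A Q
  have : Module.FinitePresentation R P := Module.finitePresentation_of_projective R P
  have : Module.FinitePresentation R Q := Module.finitePresentation_of_projective R Q
  have cP := Module.isLocallyConstant_rankAtStalk (R := R) (M := P)
  have cQ := Module.isLocallyConstant_rankAtStalk (R := R) (M := Q)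
  obtain ⟨p₀⟩ : Nonempty (PrimeSpectrum R) := inferInstance
  rcases le_total (Module.rankAtStalk Q p₀) (Module.rankAtStalk P p₀) with hle | hle
  · exact aux hR P Q hP fun p => by
      rw [cP.apply_eq_of_preconnectedSpace p p₀, cQ.apply_eq_of_preconnectedSpace p p₀]
      exact hle
  · obtain ⟨e⟩ := aux hR Q P hQ fun p => by
      rw [cP.apply_eq_of_preconnectedSpace p p₀, cQ.apply_eq_of_preconnectedSpace p p₀]
      exact hle
    exact ⟨e.symm⟩

end Groth.Agent.S16602
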