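import Groth.Statements.S16608
import Groth.Agent.Lib.Helper98.AzuBrauer

set_option autoImplicit false
open scoped TensorProduct
universe u v
open Brauer

namespace Groth.Agent.S16608

/-- Let R be an LG-ring and A, B, C Azumaya R-algebras. If A ⊗_R C ≅ B ⊗_R C as R-algebras then A ≅ B as
R-algebras. -/
theorem result {R : Type u} [CommRing R]
    (hR : LGRing.IsLGRing R) (A B C : Type v) [Ring A] [Algebra R A] [IsAzumaya R A] [Ring B] [Algebra R B]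
    [IsAzumaya R B] [Ring C] [Algebra R C] [IsAzumaya R C]
    (e : A ⊗[R] C ≃ₐ[R] B ⊗[R] C) : Nonempty (A ≃ₐ[R] B) := by
  -- End C ≅ C ⊗ Cᵐᵒᵖ
  let μ : C ⊗[R] Cᵐᵒᵖ ≃ₐ[R] Module.End R C :=
    AlgEquiv.ofBijective (AlgHom.mulLeftRight R C) IsAzumaya.bij
  let e₁ : A ⊗[R] Module.End R C ≃ₐ[R] A ⊗[R] (C ⊗[R] Cᵐᵒᵖ) :=
    Algebra.TensorProduct.congr AlgEquiv.refl μ.symm
  let e₂ : A ⊗[R] (C ⊗[R] Cᵐᵒᵖ) ≃ₐ[R] (A ⊗[R] C) ⊗[R] Cᵐᵒᵖ :=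
    (Algebra.TensorProduct.assoc R R R A C Cᵐᵒᵖ).symm
  let e₃ : (A ⊗[R] C) ⊗[R] Cᵐᵒᵖ ≃ₐ[R] (B ⊗[R] C) ⊗[R] Cᵐᵒᵖ :=
    Algebra.TensorProduct.congr e AlgEquiv.refl
  let e₄ : (B ⊗[R] C) ⊗[R] Cᵐᵒᵖ ≃ₐ[R] B ⊗[R] (C ⊗[R] Cᵐᵒᵖ) :=
    Algebra.TensorProduct.assoc R R R B C Cᵐᵒᵖ
  let e₅ : B ⊗[R] (C ⊗[R] Cᵐᵒᵖ) ≃ₐ[R] B ⊗[R] Module.End R C :=
    Algebra.TensorProduct.congr AlgEquiv.refl μ
  have hdeg : ∀ p : PrimeSpectrum R, Module.rankAtStalk A p = Module.rankAtStalk B p := by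
    intro p
    have r := congrFun (Module.rankAtStalk_eq_of_equiv e.toLinearEquiv) p
    rw [Module.rankAtStalk_tensorProduct, Module.rankAtStalk_tensorProduct] at r
    simp only [Pi.mul_apply] at r
    exact Nat.eq_of_mul_eq_mul_right
      (Groth.Agent.Lib.Helper98.AzuBrauer.rankAtStalk_pos_of_faithful C p) r
  exact Groth.Agent.Lib.Helper98.AzuBrauer.nonempty_algEquiv_of_tensor_end hR A B hdeg C C
    ((((e₁.trans e₂).trans e₃).trans e₄).trans e₅)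

end Groth.Agent.S16608
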