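import Groth.Statements.S5279
import Groth.Agent.Lib.Helper60.DiagChar
import Groth.Agent.Lib.Helper43.GaGm
import Groth.Agent.Lib.Helper40.FpqcCov
import Mathlib

set_option autoImplicit false
open CategoryTheory MonoidalCategory CartesianMonoidalCategory MonObj GrpObj AlgebraicGeometry
universe u
open SGA3x

namespace Groth.Agent.S5279

open Groth.Agent.Lib.Helper43 Groth.Agent.Lib.Helper60.WittTorus Groth.Agent.Lib.Helper60.DiagChar

section Alg
variable {A : Type u} [CommRing A] {M : Type} [AddCommGroup M]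

/-- the ring hom `A[M] → B` from `z : A → B` and `χ : M → B`. -/
noncomputable def ev {B : Type u} [CommRing B] (z : A →+* B) (χ : Multiplicative M →* B) :
    MonoidAlgebra A (Multiplicative M) →+* B :=
  MonoidAlgebra.liftNCRingHom z χ (fun _ _ => Commute.all _ _)

lemma ev_single {B : Type u} [CommRing B] (z : A →+* B) (χ : Multiplicative M →* B)
    (m : Multiplicative M) (a : A) : ev z χ (MonoidAlgebra.single m a) = z a * χ m :=
  MonoidAlgebra.liftNCRingHom_single _ _ _ _ _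

/-- the twisted point -/
noncomputable def op (ρ : A →+* MonoidAlgebra A (Multiplicative M)) {B : Type u} [CommRing B]
    (z : A →+* B) (χ : Multiplicative M →* B) : A →+* B := (ev z χ).comp ρ

noncomputable def chi1 (A : Type u) [CommRing A] (M : Type) [AddCommGroup M] :
    Multiplicative M →* MonoidAlgebra A (Multiplicative M × Multiplicative M) :=
  (MonoidAlgebra.of A (Multiplicative M × Multiplicative M)).comp (MonoidHom.inl _ _)

noncomputable def chi2 (A : Type u) [CommRing A] (M : Type) [AddCommGroup M] :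
    Multiplicative M →* MonoidAlgebra A (Multiplicative M × Multiplicative M) :=
  (MonoidAlgebra.of A (Multiplicative M × Multiplicative M)).comp (MonoidHom.inr _ _)

lemma sOne_apply {G : Type} [Monoid G] (c : A) :
    (MonoidAlgebra.singleOneRingHom : A →+* MonoidAlgebra A G) c = MonoidAlgebra.single 1 c := rfl

open scoped Classical in
lemma coeff_ev_diag (v : MonoidAlgebra A (Multiplicative M)) (n m : Multiplicative M) :
    (ev (MonoidAlgebra.singleOneRingHom) (chi1 A M * chi2 A M) v).coeff (n, m) =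
      if n = m then v.coeff m else 0 := by
  induction v using MonoidAlgebra.induction_linear with
  | zero => simp
  | add x y hx hy =>
    rw [map_add, MonoidAlgebra.coeff_add, Finsupp.add_apply, hx, hy, MonoidAlgebra.coeff_add,
      Finsupp.add_apply]
    split_ifs <;> simp
  | single k c =>
    rw [ev_single, sOne_apply]
    simp only [MonoidHom.mul_apply, chi1, chi2,
      MonoidHom.comp_apply, MonoidAlgebra.of_apply, MonoidHom.inl_apply, MonoidHom.inr_apply,
      MonoidAlgebra.single_mul_single, Prod.mk_mul_mk, mul_one, one_mul,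
      MonoidAlgebra.coeff_single, Finsupp.single_apply, Prod.mk.injEq]
    by_cases h1 : k = n <;> by_cases h2 : k = m <;> by_cases h3 : n = m <;> simp_all

open scoped Classical in
lemma coeff_ev_inr_mul (u : MonoidAlgebra A (Multiplicative M)) (k n m : Multiplicative M) :
    ((ev (MonoidAlgebra.singleOneRingHom) (chi2 A M) u) * MonoidAlgebra.single (k, 1) 1).coeff (n, m) =
      if k = n then u.coeff m else 0 := by
  induction u using MonoidAlgebra.induction_linear with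
  | zero => simp
  | add x y hx hy =>
    rw [map_add, add_mul, MonoidAlgebra.coeff_add, Finsupp.add_apply, hx, hy, MonoidAlgebra.coeff_add,
      Finsupp.add_apply]
    split_ifs <;> simp
  | single j c =>
    rw [ev_single, sOne_apply]
    simp only [chi2,
      MonoidHom.comp_apply, MonoidAlgebra.of_apply, MonoidHom.inr_apply,
      MonoidAlgebra.single_mul_single, Prod.mk_mul_mk, mul_one, one_mul,
      MonoidAlgebra.coeff_single, Finsupp.single_apply, Prod.mk.injEq]
    split_ifs <;> simp_all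

open scoped Classical in
lemma coeff_ev_twice (ρ : A →+* MonoidAlgebra A (Multiplicative M))
    (v : MonoidAlgebra A (Multiplicative M)) (n m : Multiplicative M) :
    (ev (op ρ (MonoidAlgebra.singleOneRingHom) (chi2 A M)) (chi1 A M) v).coeff (n, m) =
      (ρ (v.coeff n)).coeff m := by
  induction v using MonoidAlgebra.induction_linear with
  | zero => simp
  | add x y hx hy =>
    rw [map_add, MonoidAlgebra.coeff_add, Finsupp.add_apply, hx, hy, MonoidAlgebra.coeff_add,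
      Finsupp.add_apply, map_add, MonoidAlgebra.coeff_add, Finsupp.add_apply]
  | single k c =>
    rw [ev_single]
    have : (chi1 A M) k = MonoidAlgebra.single (k, 1) 1 := rfl
    rw [this]
    show MonoidAlgebra.coeff ((ev _ _ (ρ c)) * _) (n, m) = _
    rw [coeff_ev_inr_mul, MonoidAlgebra.coeff_single, Finsupp.single_apply]
    split_ifs <;> simp

lemma coeff_mem_of_mem_map {G : Type} [Monoid G] (K : Ideal A) (x : MonoidAlgebra A G)
    (hx : x ∈ K.map (MonoidAlgebra.singleOneRingHom)) (m : G) : x.coeff m ∈ K := by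
  have h1 : K.map MonoidAlgebra.singleOneRingHom ≤
      RingHom.ker (MonoidAlgebra.mapRingHom G (Ideal.Quotient.mk K)) := by
    rw [Ideal.map_le_iff_le_comap]
    intro a ha
    rw [Ideal.mem_comap, RingHom.mem_ker, sOne_apply, MonoidAlgebra.mapRingHom_single,
      Ideal.Quotient.eq_zero_iff_mem.mpr ha, MonoidAlgebra.single_zero]
  have h2 := h1 hx
  rw [RingHom.mem_ker] at h2
  have h3 := congrArg (fun v => MonoidAlgebra.coeff v m) h2
  simp only [MonoidAlgebra.coeff_mapRingHom, MonoidAlgebra.coeff_zero, Finsupp.zero_apply] at h3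
  exact Ideal.Quotient.eq_zero_iff_mem.mp h3

theorem alg_main {R : Type u} [CommRing R] (φ : R →+* A) (I : Ideal R) (hI : IsNilpotent I)
    (ρ : A →+* MonoidAlgebra A (Multiplicative M))
    (h_one : ∀ a, ev (RingHom.id A) 1 (ρ a) = a)
    (h_mul : ∀ a, ev (MonoidAlgebra.singleOneRingHom) (chi1 A M * chi2 A M) (ρ a) =
      ev (op ρ (MonoidAlgebra.singleOneRingHom) (chi2 A M)) (chi1 A M) (ρ a))
    (h_inv : ∀ r, ρ (φ r) = MonoidAlgebra.single 1 (φ r))
    (h_small : ∀ a m, m ≠ 1 → (ρ a).coeff m ∈ I.map φ) :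
    ∀ a, ρ a = MonoidAlgebra.single 1 a := by
  classical
  have idem : ∀ a n m, (ρ ((ρ a).coeff n)).coeff m = if n = m then (ρ a).coeff m else 0 := by
    intro a n m
    have := congrArg (fun v => MonoidAlgebra.coeff v (n, m)) (h_mul a)
    simp only [coeff_ev_diag, coeff_ev_twice] at this
    exact this.symm
  have lin : ∀ r a m, (ρ (φ r * a)).coeff m = φ r * (ρ a).coeff m := by
    intro r a m
    rw [map_mul, h_inv, MonoidAlgebra.coeff_single_one_mul]
  have key : ∀ (J : Ideal R) (m : Multiplicative M), m ≠ 1 → ∀ b, b ∈ J.map φ →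
      (ρ b).coeff m ∈ (J * I).map φ := by
    intro J m hm b hb
    have : ∀ c : A, (ρ (c * b)).coeff m ∈ (J * I).map φ := by
      refine Submodule.span_induction (p := fun x _ => ∀ c : A, (ρ (c * x)).coeff m ∈ (J * I).map φ)
        ?_ ?_ ?_ ?_ hb
      · rintro _ ⟨t, ht, rfl⟩ c
        rw [mul_comm c, lin, Ideal.map_mul]
        exact Ideal.mul_mem_mul (Ideal.mem_map_of_mem φ ht) (h_small c m hm)
      · intro c
        simp
      · intro x y _ _ hx hy c
        rw [mul_add, map_add, MonoidAlgebra.coeff_add, Finsupp.add_apply]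
        exact add_mem (hx c) (hy c)
      · intro a x _ hx c
        rw [smul_eq_mul, ← _root_.mul_assoc]
        exact hx (c * a)
    simpa using this 1
  have hpow : ∀ (k : ℕ) a (m : Multiplicative M), m ≠ 1 → (ρ a).coeff m ∈ (I ^ k).map φ := by
    intro k
    induction k with
    | zero =>
      intro a m _
      rw [pow_zero, Ideal.one_eq_top, Ideal.map_top]
      trivial
    | succ k ih =>
      intro a m hm
      have h1 := idem a m m
      rw [if_pos rfl] at h1
      rw [← h1, pow_succ]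
      exact key (I ^ k) m hm _ (ih a m hm)
  obtain ⟨k, hk⟩ := hI
  have hzero : ∀ a (m : Multiplicative M), m ≠ 1 → (ρ a).coeff m = 0 := by
    intro a m hm
    have := hpow k a m hm
    rw [hk, Ideal.zero_eq_bot, Ideal.map_bot] at this
    exact this
  intro a
  have h2 : ρ a = MonoidAlgebra.single 1 ((ρ a).coeff 1) := by
    ext m
    rw [MonoidAlgebra.coeff_single, Finsupp.single_apply]
    split_ifs with h
    · rw [h]
    · exact hzero a m (Ne.symm h)
  have h3 := h_one a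
  rw [h2, ev_single] at h3
  rw [h2]
  congr 1
  simpa using h3

end Alg

section Core

variable {T : Scheme.{u}} {M : Type} [AddCommGroup M] {X : Over T}

/-- a "point action" of `D_T(M)` on `X`. -/
structure PtAct (T : Scheme.{u}) (M : Type) [AddCommGroup M] (X : Over T) where
  smul : ∀ {Y : Over T}, (Y ⟶ Red.DS T M) → (Y ⟶ X) → (Y ⟶ X)
  nat : ∀ {Y Y' : Over T} (w : Y' ⟶ Y) (g : Y ⟶ Red.DS T M) (x : Y ⟶ X),
    w ≫ smul g x = smul (w ≫ g) (w ≫ x)
  one_smul : ∀ {Y : Over T} (x : Y ⟶ X), smul 1 x = x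
  mul_smul : ∀ {Y : Over T} (g₁ g₂ : Y ⟶ Red.DS T M) (x : Y ⟶ X),
    smul (g₁ * g₂) x = smul g₁ (smul g₂ x)

lemma fac {X : Scheme.{u}} {U : X.Opens} (hU : IsAffineOpen U) {C : CommRingCat.{u}}
    (k : Spec C ⟶ X) (hk : ∀ t, k t ∈ U) :
    ∃ κ : Γ(X, U) ⟶ C, Spec.map κ ≫ hU.fromSpec = k := by
  have hr : Set.range k ⊆ Set.range hU.fromSpec := by
    rw [hU.range_fromSpec]; rintro _ ⟨t, rfl⟩; exact hk t
  refine ⟨Spec.preimage (IsOpenImmersion.lift hU.fromSpec k hr), ?_⟩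
  rw [Spec.map_preimage, IsOpenImmersion.lift_fac]

lemma ring_eq_of_fromSpec {X : Scheme.{u}} {U : X.Opens} (hU : IsAffineOpen U) {C : CommRingCat.{u}}
    (κ κ' : Γ(X, U) ⟶ C) (h : Spec.map κ ≫ hU.fromSpec = Spec.map κ' ≫ hU.fromSpec) : κ = κ' :=
  Spec.map_injective ((cancel_mono _).mp h)

lemma range_of_nilpotent (C : Type u) [CommRing C] (𝔧 : Ideal C) (h𝔧 : IsNilpotent 𝔧)
    (t : ↥(Spec (CommRingCat.of C))) :
    ∃ t' : ↥(Spec (CommRingCat.of (C ⧸ 𝔧))),
      Spec.map (CommRingCat.ofHom (Ideal.Quotient.mk 𝔧)) t' = t := by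
  have hp : ∀ p : PrimeSpectrum C, p ∈ Set.range (PrimeSpectrum.comap (Ideal.Quotient.mk 𝔧)) := by
    intro p
    rw [range_comap_of_surjective _ _ Ideal.Quotient.mk_surjective,
      Ideal.mk_ker, PrimeSpectrum.mem_zeroLocus]
    intro a ha
    obtain ⟨k, hk⟩ := h𝔧
    have h2 : a ^ k ∈ p.asIdeal := by
      have : a ^ k ∈ 𝔧 ^ k := Ideal.pow_mem_pow ha k
      rw [hk] at this
      rw [(Ideal.mem_bot.mp this)]
      exact Ideal.zero_mem _
    exact p.isPrime.mem_of_pow_mem k h2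
  obtain ⟨t', ht'⟩ := hp t
  exact ⟨t', ht'⟩

variable (M) in
/-- the inclusion `A → A[M]` -/
noncomputable abbrev incl (A : CommRingCat.{u}) :
    A ⟶ CommRingCat.of (MonoidAlgebra A (Multiplicative M)) :=
  CommRingCat.ofHom MonoidAlgebra.singleOneRingHom

variable {U : X.left.Opens} (hU : IsAffineOpen U)

variable (M) in
/-- the universal object -/
noncomputable abbrev Y1 : Over T :=
  Over.mk (Spec.map (incl M Γ(X.left, U)) ≫ hU.fromSpec ≫ X.hom)

variable (M) in
noncomputable def x1 : Y1 M hU ⟶ X :=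
  Over.homMk (Spec.map (incl M Γ(X.left, U)) ≫ hU.fromSpec) (by simp [Y1])

variable (M) in
lemma exists_g1 : ∃ g : Y1 M hU ⟶ Red.DS T M, ∀ m : M, chFn m g =
    (Scheme.ΓSpecIso (CommRingCat.of (MonoidAlgebra Γ(X.left, U) (Multiplicative M)))).inv
      (MonoidAlgebra.single (Multiplicative.ofAdd m) 1) := by
  let χ : Multiplicative M →* Γ((Y1 M hU).left, ⊤) :=
    ((Scheme.ΓSpecIso (CommRingCat.of (MonoidAlgebra Γ(X.left, U)
      (Multiplicative M)))).inv.hom).toMonoidHom.comp (MonoidAlgebra.of _ _)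
  obtain ⟨g, hg⟩ := chFn_exists χ
  exact ⟨g, fun m => by rw [hg]; rfl⟩

variable (M) in
noncomputable def g1 : Y1 M hU ⟶ Red.DS T M := (exists_g1 M hU).choose

lemma chFn_g1 (m : M) : chFn m (g1 M hU) =
    (Scheme.ΓSpecIso (CommRingCat.of (MonoidAlgebra Γ(X.left, U) (Multiplicative M)))).inv
      (MonoidAlgebra.single (Multiplicative.ofAdd m) 1) := (exists_g1 M hU).choose_spec m

variable (σ : PtAct T M X)

/-- the universal action morphism -/
noncomputable def act1 : Y1 M hU ⟶ X := σ.smul (g1 M hU) (x1 M hU)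

/-- general formula -/
lemma smul_eq {Y : Over T} (g : Y ⟶ Red.DS T M) (x : Y ⟶ X)
    (ζ' : Y.left ⟶ Spec (CommRingCat.of (MonoidAlgebra Γ(X.left, U) (Multiplicative M))))
    (hx : x.left = ζ' ≫ Spec.map (incl M Γ(X.left, U)) ≫ hU.fromSpec)
    (hg : ∀ m : M, chFn m g = ptHom ζ' (MonoidAlgebra.single (Multiplicative.ofAdd m) 1)) :
    (σ.smul g x).left = ζ' ≫ (act1 hU σ).left := by
  have hw : ζ' ≫ (Y1 M hU).hom = Y.hom := by
    have := Over.w x
    rw [hx] at this
    simpa [Y1] using this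
  let w : Y ⟶ Y1 M hU := Over.homMk ζ' hw
  have h1 : w ≫ x1 M hU = x := by
    ext
    rw [hx]
    rfl
  have h2 : w ≫ g1 M hU = g := by
    apply chFn_injective
    intro m
    rw [chFn_comp, chFn_g1, hg]
    rfl
  have := σ.nat w (g1 M hU) (x1 M hU)
  rw [h1, h2] at this
  rw [← this]
  rfl

section Local

variable (P : Over T → Prop) (hP : ∀ {Y Y' : Over T} (_ : Y' ⟶ Y), P Y → P Y')
  (h0 : ∀ {Y : Over T} (g : Y ⟶ Red.DS T M) (x : Y ⟶ X), P Y → σ.smul g x = x)
  {W : T.Opens} (hW : IsAffineOpen W) (I : Ideal Γ(T, W)) (hI : IsNilpotent I)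
  (hPI : P (Over.mk (Spec.map (CommRingCat.ofHom (Ideal.Quotient.mk I)) ≫ hW.fromSpec)))
  (hUW : U ≤ X.hom ⁻¹ᵁ W)

variable (M) in
/-- the nilpotent ideal of `A[M]` -/
noncomputable abbrev JJ : Ideal (MonoidAlgebra Γ(X.left, U) (Multiplicative M)) :=
  (I.map (X.hom.appLE W U hUW).hom).map MonoidAlgebra.singleOneRingHom

include hI in
lemma JJ_nilpotent : IsNilpotent (JJ M I hUW) := by
  obtain ⟨k, hk⟩ := hI
  refine ⟨k, ?_⟩
  rw [JJ, ← Ideal.map_pow, ← Ideal.map_pow, hk, Ideal.zero_eq_bot, Ideal.map_bot, Ideal.map_bot]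
  rfl

include hP h0 hPI in
lemma act1_mod :
    Spec.map (CommRingCat.ofHom (Ideal.Quotient.mk (JJ M I hUW))) ≫ (act1 hU σ).left =
      Spec.map (CommRingCat.ofHom (Ideal.Quotient.mk (JJ M I hUW))) ≫ (x1 M hU).left := by
  let q := CommRingCat.ofHom (Ideal.Quotient.mk (JJ M I hUW))
  let Y10 : Over T := Over.mk (Spec.map q ≫ (Y1 M hU).hom)
  let w0 : Y10 ⟶ Y1 M hU := Over.homMk (Spec.map q) rfl
  have hker : ∀ r ∈ I, ((Ideal.Quotient.mk (JJ M I hUW)).comp
      ((MonoidAlgebra.singleOneRingHom).comp (X.hom.appLE W U hUW).hom)) r = 0 := by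
    intro r hr
    rw [RingHom.comp_apply, Ideal.Quotient.eq_zero_iff_mem]
    exact Ideal.mem_map_of_mem _ (Ideal.mem_map_of_mem _ hr)
  let ψ : Γ(T, W) ⧸ I →+* _ := Ideal.Quotient.lift I _ hker
  have hψ : CommRingCat.ofHom (Ideal.Quotient.mk I) ≫ CommRingCat.ofHom ψ =
      X.hom.appLE W U hUW ≫ incl M Γ(X.left, U) ≫ q := by
    ext r
    simp [ψ, q, incl]
  have hY10 : Spec.map (CommRingCat.ofHom ψ) ≫
      (Over.mk (Spec.map (CommRingCat.ofHom (Ideal.Quotient.mk I)) ≫ hW.fromSpec)).hom =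
      Y10.hom := by
    show _ ≫ _ ≫ _ = Spec.map q ≫ Spec.map (incl M Γ(X.left, U)) ≫ hU.fromSpec ≫ X.hom
    rw [← Spec.map_comp_assoc, hψ, ← IsAffineOpen.SpecMap_appLE_fromSpec X.hom hW hU hUW]
    simp only [Spec.map_comp, Category.assoc]
  have hPY : P Y10 := hP (Over.homMk (U := Y10)
    (V := Over.mk (Spec.map (CommRingCat.ofHom (Ideal.Quotient.mk I)) ≫ hW.fromSpec))
    (Spec.map (CommRingCat.ofHom ψ)) hY10) hPI
  have h1 := h0 (w0 ≫ g1 M hU) (w0 ≫ x1 M hU) hPY
  rw [← σ.nat] at h1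
  exact congrArg (fun f => f.left) h1

include hP h0 hI hPI hUW in
lemma exists_rho : ∃ ρ : Γ(X.left, U) ⟶
      CommRingCat.of (MonoidAlgebra Γ(X.left, U) (Multiplicative M)),
    Spec.map ρ ≫ hU.fromSpec = (act1 hU σ).left := by
  have key : ∀ t : ↥(Spec (CommRingCat.of (MonoidAlgebra Γ(X.left, U) (Multiplicative M)))),
      (act1 hU σ).left t ∈ U := by
    intro t
    obtain ⟨t', ht'⟩ := range_of_nilpotent _ _ (JJ_nilpotent I hI hUW) t
    have e0 := act1_mod hU σ P hP h0 hW I hPI hUW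
    have e1 : (Spec.map (CommRingCat.ofHom (Ideal.Quotient.mk (JJ M I hUW))) ≫
        (act1 hU σ).left) t' =
        (Spec.map (CommRingCat.ofHom (Ideal.Quotient.mk (JJ M I hUW))) ≫ (x1 M hU).left) t' := by
      rw [e0]
    have e2 : (act1 hU σ).left t = (x1 M hU).left t := by
      rw [← ht']; exact e1
    rw [e2]
    have : (x1 M hU).left t ∈ Set.range hU.fromSpec := ⟨Spec.map (incl M Γ(X.left, U)) t, rfl⟩
    rw [hU.range_fromSpec] at this
    exact this
  exact fac hU (act1 hU σ).left key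

end Local

section BPoints

variable {B : Type u} [CommRing B]

/-- `B`-points of `U` -/
noncomputable abbrev YB (z : Γ(X.left, U) →+* B) : Over T :=
  Over.mk (Spec.map (CommRingCat.ofHom z) ≫ hU.fromSpec ≫ X.hom)

noncomputable def xB (z : Γ(X.left, U) →+* B) : YB hU z ⟶ X :=
  Over.homMk (Spec.map (CommRingCat.ofHom z) ≫ hU.fromSpec) (by simp [YB])

lemma exists_gB (z : Γ(X.left, U) →+* B) (χ : Multiplicative M →* B) :
    ∃ g : YB hU z ⟶ Red.DS T M, ∀ m : M, chFn m g =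
      (Scheme.ΓSpecIso (CommRingCat.of B)).inv (χ (Multiplicative.ofAdd m)) := by
  let χ' : Multiplicative M →* Γ((YB hU z).left, ⊤) :=
    ((Scheme.ΓSpecIso (CommRingCat.of B)).inv.hom).toMonoidHom.comp χ
  obtain ⟨g, hg⟩ := chFn_exists χ'
  exact ⟨g, fun m => by rw [hg]; rfl⟩

noncomputable def gB (z : Γ(X.left, U) →+* B) (χ : Multiplicative M →* B) :
    YB hU z ⟶ Red.DS T M := (exists_gB hU z χ).choose

lemma chFn_gB (z : Γ(X.left, U) →+* B) (χ : Multiplicative M →* B) (m : M) :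
    chFn m (gB hU z χ) =
      (Scheme.ΓSpecIso (CommRingCat.of B)).inv (χ (Multiplicative.ofAdd m)) :=
  (exists_gB hU z χ).choose_spec m

lemma ptHom_SpecMap {A' : Type u} [CommRing A'] (f : A' →+* B) (a : A') :
    ptHom (Spec.map (CommRingCat.ofHom f)) a = (Scheme.ΓSpecIso (CommRingCat.of B)).inv (f a) := by
  rw [ptHom_apply]
  have := Scheme.ΓSpecIso_inv_naturality (CommRingCat.ofHom f)
  exact (congrArg (fun h => h.hom a) this).symm

lemma smul_B (ρ : Γ(X.left, U) ⟶ CommRingCat.of (MonoidAlgebra Γ(X.left, U) (Multiplicative M)))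
    (hρ : Spec.map ρ ≫ hU.fromSpec = (act1 hU σ).left)
    (z₀ z : Γ(X.left, U) →+* B) (χ : Multiplicative M →* B) (x : YB hU z₀ ⟶ X)
    (hx : x.left = Spec.map (CommRingCat.ofHom z) ≫ hU.fromSpec) :
    (σ.smul (gB hU z₀ χ) x).left =
      Spec.map (CommRingCat.ofHom (op ρ.hom z χ)) ≫ hU.fromSpec := by
  have hz : incl M Γ(X.left, U) ≫ CommRingCat.ofHom (ev z χ) = CommRingCat.ofHom z := by
    ext a
    show ev z χ (MonoidAlgebra.single 1 a) = z a
    rw [ev_single, map_one, _root_.mul_one]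
  rw [smul_eq hU σ (gB hU z₀ χ) x (Spec.map (CommRingCat.ofHom (ev z χ))), ← hρ,
    ← Spec.map_comp_assoc]
  · rfl
  · rw [hx, ← Spec.map_comp_assoc, hz]
  · intro m
    rw [chFn_gB, ptHom_SpecMap, ev_single, map_one, _root_.one_mul]

end BPoints

section Final

variable (P : Over T → Prop) (hP : ∀ {Y Y' : Over T} (_ : Y' ⟶ Y), P Y → P Y')
  (h0 : ∀ {Y : Over T} (g : Y ⟶ Red.DS T M) (x : Y ⟶ X), P Y → σ.smul g x = x)
  {W : T.Opens} (hW : IsAffineOpen W) (I : Ideal Γ(T, W)) (hI : IsNilpotent I)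
  (hPI : P (Over.mk (Spec.map (CommRingCat.ofHom (Ideal.Quotient.mk I)) ≫ hW.fromSpec)))
  (hUW : U ≤ X.hom ⁻¹ᵁ W)

include hP h0 hI hPI hUW in
theorem rho_eq_incl
    (ρ : Γ(X.left, U) ⟶ CommRingCat.of (MonoidAlgebra Γ(X.left, U) (Multiplicative M)))
    (hρ : Spec.map ρ ≫ hU.fromSpec = (act1 hU σ).left) : ρ = incl M Γ(X.left, U) := by
  have h_one : ∀ a, ev (RingHom.id Γ(X.left, U)) 1 (ρ.hom a) = a := by
    have hg : gB hU (RingHom.id Γ(X.left, U)) (1 : Multiplicative M →* Γ(X.left, U)) = 1 := by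
      apply chFn_injective
      intro m
      rw [chFn_gB, chFn_one]
      simp
    have h1 := smul_B hU σ ρ hρ (RingHom.id _) (RingHom.id _) 1 (xB hU (RingHom.id _)) rfl
    rw [hg, σ.one_smul] at h1
    have h2 := ring_eq_of_fromSpec hU (CommRingCat.ofHom (RingHom.id _))
      (CommRingCat.ofHom (op ρ.hom (RingHom.id _) 1)) h1
    intro a
    exact (congrArg (fun f => f.hom a) h2).symm
  have h_mul : ∀ a, ev (MonoidAlgebra.singleOneRingHom)
      (chi1 Γ(X.left, U) M * chi2 Γ(X.left, U) M) (ρ.hom a) =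
      ev (op ρ.hom (MonoidAlgebra.singleOneRingHom) (chi2 Γ(X.left, U) M))
        (chi1 Γ(X.left, U) M) (ρ.hom a) := by
    let z₀ : Γ(X.left, U) →+* MonoidAlgebra Γ(X.left, U) (Multiplicative M × Multiplicative M) :=
      MonoidAlgebra.singleOneRingHom
    have hg : gB hU z₀ (chi1 Γ(X.left, U) M) * gB hU z₀ (chi2 Γ(X.left, U) M) =
        gB hU z₀ (chi1 Γ(X.left, U) M * chi2 Γ(X.left, U) M) := by
      apply chFn_injective
      intro m
      rw [chFn_mul, chFn_gB, chFn_gB, chFn_gB, MonoidHom.mul_apply, map_mul]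
    have h1 := smul_B hU σ ρ hρ z₀ z₀ (chi1 Γ(X.left, U) M * chi2 Γ(X.left, U) M) (xB hU z₀) rfl
    have h2 := smul_B hU σ ρ hρ z₀ z₀ (chi2 Γ(X.left, U) M) (xB hU z₀) rfl
    have h3 := smul_B hU σ ρ hρ z₀ (op ρ.hom z₀ (chi2 Γ(X.left, U) M)) (chi1 Γ(X.left, U) M)
      (σ.smul (gB hU z₀ (chi2 Γ(X.left, U) M)) (xB hU z₀)) h2
    rw [← σ.mul_smul, hg, h1] at h3
    have h4 := ring_eq_of_fromSpec hU _ _ h3
    intro a
    exact congrArg (fun f => f.hom a) h4
  have h_inv : ∀ r, ρ.hom ((X.hom.appLE W U hUW).hom r) =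
      MonoidAlgebra.single 1 ((X.hom.appLE W U hUW).hom r) := by
    have h1 := Over.w (act1 hU σ)
    rw [← hρ] at h1
    change (Spec.map ρ ≫ hU.fromSpec) ≫ X.hom =
      Spec.map (incl M Γ(X.left, U)) ≫ hU.fromSpec ≫ X.hom at h1
    simp only [Category.assoc, ← IsAffineOpen.SpecMap_appLE_fromSpec X.hom hW hU hUW] at h1
    rw [← Spec.map_comp_assoc, ← Spec.map_comp_assoc] at h1
    have h2 := ring_eq_of_fromSpec hW _ _ h1
    intro r
    exact congrArg (fun f => f.hom r) h2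
  have h_small : ∀ a (m : Multiplicative M), m ≠ 1 →
      (ρ.hom a).coeff m ∈ I.map (X.hom.appLE W U hUW).hom := by
    have e0 := act1_mod hU σ P hP h0 hW I hPI hUW
    rw [← hρ] at e0
    change _ = Spec.map (CommRingCat.ofHom (Ideal.Quotient.mk (JJ M I hUW))) ≫
      Spec.map (incl M Γ(X.left, U)) ≫ hU.fromSpec at e0
    rw [← Spec.map_comp_assoc, ← Spec.map_comp_assoc] at e0
    have h2 := ring_eq_of_fromSpec hU _ _ e0
    intro a m hm
    have h3 : ρ.hom a - MonoidAlgebra.single 1 a ∈ JJ M I hUW := by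
      rw [← Ideal.Quotient.eq]
      exact congrArg (fun f => f.hom a) h2
    have h4 := coeff_mem_of_mem_map _ _ h3 m
    classical
    rw [MonoidAlgebra.coeff_sub, Finsupp.sub_apply, MonoidAlgebra.coeff_single,
      Finsupp.single_apply, if_neg hm.symm, sub_zero] at h4
    exact h4
  have := alg_main (X.hom.appLE W U hUW).hom I hI ρ.hom h_one h_mul h_inv h_small
  apply CommRingCat.hom_ext
  apply RingHom.ext
  intro a
  exact this a

include hP h0 hI hPI hUW in
theorem core_local {Y : Over T} (g : Y ⟶ Red.DS T M) (x : Y ⟶ X)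
    (ζ : Y.left ⟶ Spec (CommRingCat.of Γ(X.left, U))) (hx : x.left = ζ ≫ hU.fromSpec) :
    σ.smul g x = x := by
  obtain ⟨ρ, hρ⟩ := exists_rho hU σ P hP h0 hW I hI hPI hUW
  have hρ' := rho_eq_incl hU σ P hP h0 hW I hI hPI hUW ρ hρ
  subst hρ'
  let χg : Multiplicative M →* Γ(Y.left, ⊤) :=
    { toFun := fun k => chFn (Multiplicative.toAdd k) g
      map_one' := chFn_zero g
      map_mul' := fun a b => chFn_add _ _ g }
  let ζ' : Y.left ⟶ Spec (CommRingCat.of (MonoidAlgebra Γ(X.left, U) (Multiplicative M))) :=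
    Y.left.toSpecΓ ≫ Spec.map (CommRingCat.ofHom (ev (ptHom ζ) χg))
  have hζ' : ptHom ζ' = ev (ptHom ζ) χg := ptHom_toSpecΓ_SpecMap _
  have h1 : ζ' ≫ Spec.map (incl M Γ(X.left, U)) = ζ := by
    apply ptHom_injective
    rw [ptHom_comp_SpecMap, hζ']
    ext a
    show ev _ _ (MonoidAlgebra.single 1 a) = _
    rw [ev_single, map_one, _root_.mul_one]
  have h2 := smul_eq hU σ g x ζ' (by rw [← Category.assoc, h1, hx])
    (fun m => by rw [hζ', ev_single, map_one, _root_.one_mul]; rfl)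
  ext
  rw [h2, ← hρ, ← Category.assoc, h1, hx]

end Final

/-- the main theorem over `T` -/
theorem core (σ : PtAct T M X) (P : Over T → Prop)
    (hP : ∀ {Y Y' : Over T} (_ : Y' ⟶ Y), P Y → P Y')
    (h0 : ∀ {Y : Over T} (g : Y ⟶ Red.DS T M) (x : Y ⟶ X), P Y → σ.smul g x = x)
    (hloc : ∀ t : T, ∃ (W : T.Opens) (hW : IsAffineOpen W) (I : Ideal Γ(T, W)), t ∈ W ∧
      IsNilpotent I ∧
      P (Over.mk (Spec.map (CommRingCat.ofHom (Ideal.Quotient.mk I)) ≫ hW.fromSpec)))
    {Y : Over T} (g : Y ⟶ Red.DS T M) (x : Y ⟶ X) : σ.smul g x = x := by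
  ext
  apply Scheme.hom_ext_of_forall
  intro y
  obtain ⟨W, hW, I, htW, hI, hPI⟩ := hloc (X.hom (x.left y))
  have hy : x.left y ∈ X.hom ⁻¹ᵁ W := htW
  obtain ⟨_, ⟨U, hU : IsAffineOpen U, rfl⟩, hyU, hUW⟩ :=
    X.left.isBasis_affineOpens.exists_subset_of_mem_open hy (X.hom ⁻¹ᵁ W).2
  let V : Y.left.Opens := x.left ⁻¹ᵁ U
  refine ⟨V, hyU, ?_⟩
  let YV : Over T := Over.mk (V.ι ≫ Y.hom)
  let w : YV ⟶ Y := Over.homMk V.ι rfl
  have hr : Set.range (V.ι ≫ x.left) ⊆ Set.range hU.fromSpec := by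
    rw [hU.range_fromSpec]
    rintro _ ⟨v, rfl⟩
    exact v.2
  have h1 := core_local hU σ P hP h0 hW I hI hPI hUW (w ≫ g) (w ≫ x)
    (IsOpenImmersion.lift hU.fromSpec (V.ι ≫ x.left) hr)
    (by rw [IsOpenImmersion.lift_fac]; rfl)
  rw [← σ.nat] at h1
  exact congrArg (fun f => f.left) h1

end Core

section Reduction

lemma lift_closed {S S₀ : Scheme.{u}} (i₀ : S₀ ⟶ S) [IsClosedImmersion i₀] (V : S.affineOpens)
    {C : CommRingCat.{u}} (ψ : Γ(S, V) ⟶ C) (hψ : ∀ r ∈ i₀.ker.ideal V, ψ.hom r = 0) :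
    ∃ h : Spec C ⟶ S₀, h ≫ i₀ = Spec.map ψ ≫ V.2.fromSpec := by
  have hs : Function.Surjective (i₀.app V.1).hom := i₀.app_surjective V.1 V.2
  have hk : RingHom.ker (i₀.app V.1).hom ≤ RingHom.ker ψ.hom := by
    intro r hr
    rw [← Scheme.Hom.ker_apply] at hr
    exact hψ r hr
  let ψ' : Γ(S₀, i₀ ⁻¹ᵁ V.1) →+* C := RingHom.liftOfSurjective (i₀.app V.1).hom hs ⟨ψ.hom, hk⟩
  have hψ' : i₀.app V.1 ≫ CommRingCat.ofHom ψ' = ψ := by
    ext r
    exact RingHom.liftOfSurjective_comp_apply (i₀.app V.1).hom hs ⟨ψ.hom, hk⟩ r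
  have hV' : IsAffineOpen (i₀ ⁻¹ᵁ V.1) := V.2.preimage i₀
  refine ⟨Spec.map (CommRingCat.ofHom ψ') ≫ hV'.fromSpec, ?_⟩
  rw [Category.assoc, ← IsAffineOpen.SpecMap_appLE_fromSpec i₀ V.2 hV' le_rfl,
    ← Spec.map_comp_assoc, ← Scheme.Hom.app_eq_appLE, hψ']

variable {S : Scheme.{u}} {G X : Over S} [GrpObj G] (a : AlgGrp.Action G X)

/-- the point form of the action -/
noncomputable def pa {Y : Over S} (g : Y ⟶ G) (x : Y ⟶ X) : Y ⟶ X := lift g x ≫ a.act

lemma pa_nat {Y Y' : Over S} (w : Y' ⟶ Y) (g : Y ⟶ G) (x : Y ⟶ X) :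
    w ≫ pa a g x = pa a (w ≫ g) (w ≫ x) := by
  unfold pa
  rw [← Category.assoc, comp_lift]

lemma pa_one {Y : Over S} (x : Y ⟶ X) : pa a 1 x = x := by
  unfold pa
  have h1 : lift (1 : Y ⟶ G) x = lift (toUnit Y) x ≫ (η[G] ▷ X) := by
    rw [lift_whiskerRight]
    rfl
  rw [h1, Category.assoc, a.one_act, leftUnitor_hom, lift_snd]

lemma pa_mul {Y : Over S} (g₁ g₂ : Y ⟶ G) (x : Y ⟶ X) :
    pa a (g₁ * g₂) x = pa a g₁ (pa a g₂ x) := by
  unfold pa
  have h1 : lift (g₁ * g₂) x = lift (lift g₁ g₂) x ≫ (μ[G] ▷ X) := by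
    rw [lift_whiskerRight]
    rfl
  rw [h1, Category.assoc, a.mul_act]
  have h2 : lift (lift g₁ g₂) x ≫ (α_ G G X).hom = lift g₁ (lift g₂ x) := by
    simp
  rw [← Category.assoc, h2, ← Category.assoc, lift_whiskerLeft]

/-- inverse of `toBase` -/
noncomputable def tbInv {S B : Scheme.{u}} (f : S ⟶ B) {G : Over B} {X : Over S}
    (y : (Over.map f).obj X ⟶ G) : X ⟶ Red.bc f G :=
  (Over.mapPullbackAdj f).homEquiv X G y

lemma toBase_tbInv {S B : Scheme.{u}} (f : S ⟶ B) {G : Over B} {X : Over S}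
    (y : (Over.map f).obj X ⟶ G) : toBase f (tbInv f y) = y :=
  Equiv.symm_apply_apply _ _

lemma tbInv_toBase {S B : Scheme.{u}} (f : S ⟶ B) {G : Over B} {X : Over S}
    (x : X ⟶ Red.bc f G) : tbInv f (toBase f x) = x :=
  Equiv.apply_symm_apply _ _

/-- the induced point action over `T` -/
noncomputable def ptAct {T : Scheme.{u}} (fT : T ⟶ S) (M : Type) [AddCommGroup M]
    (e : Grp.mk (Red.bc fT G) ≅ Grp.mk (Red.DS T M)) : PtAct T M (Red.bc fT X) where
  smul c d := tbInv fT (pa a (toBase fT (c ≫ e.inv.hom.hom)) (toBase fT d))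
  nat w c d := by
    apply toBase_injective fT
    rw [toBase_comp, toBase_tbInv, toBase_tbInv, pa_nat, ← toBase_comp, ← toBase_comp,
      Category.assoc]
  one_smul d := by
    apply toBase_injective fT
    rw [toBase_tbInv, MonObj.one_comp, toBase_one, pa_one]
  mul_smul c₁ c₂ d := by
    apply toBase_injective fT
    rw [toBase_tbInv, toBase_tbInv, toBase_tbInv, MonObj.mul_comp, toBase_mul, pa_mul]

end Reduction

section LevelT

variable {S S₀ : Scheme.{u}} (i₀ : S₀ ⟶ S) [IsClosedImmersion i₀]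
    (hnil : ∀ x : S, ∃ U : S.affineOpens, x ∈ (U : S.Opens) ∧ IsNilpotent (i₀.ker.ideal U))
    {G X : Over S} [GrpObj G] (a : AlgGrp.Action G X)
    (h0 : ∀ (Y : Over S) (_ : Y ⟶ Over.mk i₀) (g : Y ⟶ G) (x : Y ⟶ X), lift g x ≫ a.act = x)

include hnil h0 in
theorem level_T {T : Scheme.{u}} (fT : T ⟶ S) (M : Type) [AddCommGroup M]
    (e : Grp.mk (Red.bc fT G) ≅ Grp.mk (Red.DS T M))
    (Y' : Over T) (g : (Over.map fT).obj Y' ⟶ G) (x : (Over.map fT).obj Y' ⟶ X) :
    lift g x ≫ a.act = x := by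
  let P : Over T → Prop := fun Y => Nonempty ((Over.map fT).obj Y ⟶ Over.mk i₀)
  have hP : ∀ {Y Y' : Over T} (_ : Y' ⟶ Y), P Y → P Y' := by
    rintro Y Y' w ⟨p⟩
    exact ⟨(Over.map fT).map w ≫ p⟩
  have h0' : ∀ {Y : Over T} (c : Y ⟶ Red.DS T M) (d : Y ⟶ Red.bc fT X), P Y →
      (ptAct a fT M e).smul c d = d := by
    rintro Y c d ⟨p⟩
    apply toBase_injective fT
    show toBase fT (tbInv fT _) = _
    rw [toBase_tbInv]
    exact h0 _ p _ _
  have hloc : ∀ t : T, ∃ (W : T.Opens) (hW : IsAffineOpen W) (I : Ideal Γ(T, W)), t ∈ W ∧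
      IsNilpotent I ∧
      P (Over.mk (Spec.map (CommRingCat.ofHom (Ideal.Quotient.mk I)) ≫ hW.fromSpec)) := by
    intro t
    obtain ⟨V, htV, hV⟩ := hnil (fT t)
    have ht : t ∈ fT ⁻¹ᵁ V.1 := htV
    obtain ⟨_, ⟨W, hW : IsAffineOpen W, rfl⟩, htW, hWV⟩ :=
      T.isBasis_affineOpens.exists_subset_of_mem_open ht (fT ⁻¹ᵁ V.1).2
    refine ⟨W, hW, (i₀.ker.ideal V).map (fT.appLE V.1 W hWV).hom, htW, ?_, ?_⟩
    · obtain ⟨k, hk⟩ := hV
      refine ⟨k, ?_⟩
      rw [← Ideal.map_pow, hk, Ideal.zero_eq_bot, Ideal.map_bot]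
      rfl
    · obtain ⟨h, hh⟩ := lift_closed i₀ V
        (fT.appLE V.1 W hWV ≫ CommRingCat.ofHom (Ideal.Quotient.mk
          ((i₀.ker.ideal V).map (fT.appLE V.1 W hWV).hom)))
        (by
          intro r hr
          show Ideal.Quotient.mk _ _ = 0
          rw [Ideal.Quotient.eq_zero_iff_mem]
          exact Ideal.mem_map_of_mem _ hr)
      refine ⟨Over.homMk h ?_⟩
      show h ≫ i₀ = (Spec.map _ ≫ hW.fromSpec) ≫ fT
      rw [hh, Spec.map_comp, Category.assoc, Category.assoc,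
        IsAffineOpen.SpecMap_appLE_fromSpec fT V.2 hW hWV]
  have h1 : e.hom.hom.hom ≫ e.inv.hom.hom = 𝟙 _ := congrArg (fun x => x.hom.hom) e.hom_inv_id
  have key := core (ptAct a fT M e) P hP h0' hloc (tbInv fT g ≫ e.hom.hom.hom) (tbInv fT x)
  have key2 := congrArg (toBase fT) key
  change toBase fT (tbInv fT _) = _ at key2
  rw [toBase_tbInv, toBase_tbInv, Category.assoc, h1, Category.comp_id, toBase_tbInv] at key2
  exact key2

end LevelT

open Groth.Agent.Lib.Helper40.FpqcCov CategoryTheory.Limits in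
theorem main_aux {S S₀ : Scheme.{u}} (i₀ : S₀ ⟶ S) [IsClosedImmersion i₀]
    (hnil : ∀ x : S, ∃ U : S.affineOpens, x ∈ (U : S.Opens) ∧ IsNilpotent (i₀.ker.ideal U))
    (G X : Over S) [GrpObj G] (hG : TwC.Locally S TwC.Topology.fpqc (fun S' f => ∃ (M : Type) (_ : AddCommGroup M), Nonempty (Grp.mk (Red.bc f G) ≅ Grp.mk (Red.DS S' M))))
    (a : AlgGrp.Action G X)
    (h0 : ∀ (Y : Over S) (_ : Y ⟶ Over.mk i₀) (g : Y ⟶ G) (x : Y ⟶ X), lift g x ≫ a.act = x) :
    ∀ (Y : Over S) (g : Y ⟶ G) (x : Y ⟶ X), lift g x ≫ a.act = x := by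
  have hact : a.act = snd G X := by
    obtain ⟨S', f, hflat, hsurj, hqc, hloc⟩ := hG
    have hq : IsQCov f := ⟨hsurj, hflat, hqc⟩
    have hq' := hq.pullback_fst (G ⊗ X).hom
    have := hq'.isCov.epi
    ext
    rw [← cancel_epi (pullback.fst (G ⊗ X).hom f)]
    apply Scheme.hom_ext_of_forall
    intro q
    obtain ⟨U, hsU, M, _, ⟨e⟩⟩ := hloc ((pullback.snd (G ⊗ X).hom f) q)
    let V := (pullback.snd (G ⊗ X).hom f) ⁻¹ᵁ U
    refine ⟨V, hsU, ?_⟩
    let Y' : Over (U : Scheme) := Over.mk ((pullback.snd (G ⊗ X).hom f) ∣_ U)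
    let c : (Over.map (U.ι ≫ f)).obj Y' ⟶ G ⊗ X := Over.homMk (V.ι ≫ pullback.fst _ _) (by
      show (V.ι ≫ pullback.fst _ _) ≫ (G ⊗ X).hom = ((pullback.snd _ _) ∣_ U) ≫ U.ι ≫ f
      rw [Category.assoc, pullback.condition, ← Category.assoc, ← Category.assoc,
        morphismRestrict_ι])
    have h1 := level_T i₀ hnil a h0 (U.ι ≫ f) M e Y' (c ≫ fst G X) (c ≫ snd G X)
    rw [← comp_lift, lift_fst_snd, Category.comp_id] at h1
    have h2 := congrArg (fun f => f.left) h1
    simpa [c] using h2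
  intro Y g x
  rw [hact, lift_snd]

/-- Let i₀ : S₀ ⟶ S be a closed immersion whose ideal is locally nilpotent (nilpotent on each member of
an affine open cover of S; in particular S₀ and S have the same underlying space), G an S-group of
multiplicative type (fpqc-locally on S isomorphic, as a group, to diagonalisable groups D(M), M
allowed to vary and taken in Type 0), X an S-scheme locally of finite presentation over S, and a an
action of G on X. If G₀ acts trivially on X₀, i.e. g · x = x for all points g of G and x of X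
defined over an S₀-scheme, then G acts trivially on X. -/
theorem result {S S₀ : Scheme.{u}} (i₀ : S₀ ⟶ S) [IsClosedImmersion i₀]
    (hnil : ∀ x : S, ∃ U : S.affineOpens, x ∈ (U : S.Opens) ∧ IsNilpotent (i₀.ker.ideal U))
    (G X : Over S) [GrpObj G] (hG : TwC.Locally S TwC.Topology.fpqc (fun S' f => ∃ (M : Type) (_ : AddCommGroup M), Nonempty (Grp.mk (Red.bc f G) ≅ Grp.mk (Red.DS S' M))))
    [LocallyOfFinitePresentation X.hom] (a : AlgGrp.Action G X)
    (h0 : ∀ (Y : Over S) (p : Y ⟶ Over.mk i₀) (g : Y ⟶ G) (x : Y ⟶ X), lift g x ≫ a.act = x) :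
    ∀ (Y : Over S) (g : Y ⟶ G) (x : Y ⟶ X), lift g x ≫ a.act = x := by
  exact main_aux i₀ hnil G X hG a h0

end Groth.Agent.S5279
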