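import Groth.Statements.S5290
import Groth.Agent.S5279
import Groth.Agent.Lib.Helper40.FpqcCov
import Mathlib

set_option autoImplicit false
open CategoryTheory MonoidalCategory CartesianMonoidalCategory MonObj GrpObj AlgebraicGeometry
universe u
open SGA3x

namespace Groth.Agent.S5290

open Groth.Agent.Lib.Helper43 Groth.Agent.Lib.Helper60.WittTorus Groth.Agent.Lib.Helper60.DiagChar
open Groth.Agent.S5279

section Alg
variable {A : Type u} [CommRing A] {N : Type} [AddCommGroup N]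

/-- comultiplicativity of an element of `A[N]` -/
def Glike1 (x : MonoidAlgebra A (Multiplicative N)) : Prop :=
  ev MonoidAlgebra.singleOneRingHom (chi1 A N * chi2 A N) x =
    ev MonoidAlgebra.singleOneRingHom (chi1 A N) x * ev MonoidAlgebra.singleOneRingHom (chi2 A N) x

/-- group-like elements -/
def Glike (x : MonoidAlgebra A (Multiplicative N)) : Prop :=
  Glike1 x ∧ ev (RingHom.id A) 1 x = 1

open scoped Classical in
lemma coeff_ev_prod (x y : MonoidAlgebra A (Multiplicative N)) (a b : Multiplicative N) :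
    ((ev MonoidAlgebra.singleOneRingHom (chi1 A N) x) *
      (ev MonoidAlgebra.singleOneRingHom (chi2 A N) y)).coeff (a, b) = x.coeff a * y.coeff b := by
  induction x using MonoidAlgebra.induction_linear with
  | zero => simp
  | add x x' hx hx' =>
    rw [map_add, add_mul, MonoidAlgebra.coeff_add, Finsupp.add_apply, hx, hx',
      MonoidAlgebra.coeff_add, Finsupp.add_apply, add_mul]
  | single k c =>
    rw [ev_single, sOne_apply]
    have h1 : (chi1 A N) k = MonoidAlgebra.single (k, 1) 1 := rfl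
    rw [h1, _root_.mul_assoc, mul_comm (MonoidAlgebra.single (k, 1) 1),
      MonoidAlgebra.coeff_single_one_mul, coeff_ev_inr_mul, MonoidAlgebra.coeff_single,
      Finsupp.single_apply]
    split_ifs <;> simp

open scoped Classical in
lemma Glike1_iff (x : MonoidAlgebra A (Multiplicative N)) :
    Glike1 x ↔ ∀ a b, x.coeff a * x.coeff b = if a = b then x.coeff b else 0 := by
  constructor
  · intro h a b
    have := congrArg (fun v => MonoidAlgebra.coeff v (a, b)) h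
    simp only [coeff_ev_diag, coeff_ev_prod] at this
    exact this.symm
  · intro h
    unfold Glike1
    ext ⟨a, b⟩
    rw [coeff_ev_diag, coeff_ev_prod, h]

lemma Glike_one : Glike (1 : MonoidAlgebra A (Multiplicative N)) := by
  refine ⟨?_, map_one _⟩
  unfold Glike1
  rw [map_one, map_one, map_one, _root_.mul_one]

lemma Glike_mul {x y : MonoidAlgebra A (Multiplicative N)} (hx : Glike x) (hy : Glike y) : Glike (x * y) := by
  refine ⟨?_, ?_⟩
  · have h1 := hx.1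
    have h2 := hy.1
    unfold Glike1 at h1 h2 ⊢
    rw [map_mul, map_mul, map_mul, h1, h2]
    ring
  · rw [map_mul, hx.2, hy.2, _root_.mul_one]

lemma eps_comp (χ : Multiplicative N →* MonoidAlgebra A (Multiplicative N × Multiplicative N))
    (hχ : ∀ n, (MonoidAlgebra.liftNCRingHom (RingHom.id A)
      (1 : Multiplicative N × Multiplicative N →* A) (fun _ _ => Commute.all _ _)) (χ n) = 1)
    (x : MonoidAlgebra A (Multiplicative N)) :
    (MonoidAlgebra.liftNCRingHom (RingHom.id A)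
      (1 : Multiplicative N × Multiplicative N →* A) (fun _ _ => Commute.all _ _))
      (ev MonoidAlgebra.singleOneRingHom χ x) = ev (RingHom.id A) 1 x := by
  have : (MonoidAlgebra.liftNCRingHom (RingHom.id A)
      (1 : Multiplicative N × Multiplicative N →* A) (fun _ _ => Commute.all _ _)).comp
      (ev MonoidAlgebra.singleOneRingHom χ) = ev (RingHom.id A) 1 := by
    apply MonoidAlgebra.ringHom_ext
    · intro r
      rw [RingHom.comp_apply, ev_single, ev_single, map_mul, hχ, sOne_apply,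
        MonoidAlgebra.liftNCRingHom_single]
      simp
    · intro m
      rw [RingHom.comp_apply, ev_single, ev_single, map_mul, hχ, sOne_apply,
        MonoidAlgebra.liftNCRingHom_single]
      simp
  exact congrArg (fun f => f x) this

lemma eps_idem {x : MonoidAlgebra A (Multiplicative N)} (hx : Glike1 x) :
    IsIdempotentElem (ev (RingHom.id A) 1 x) := by
  have h := congrArg (MonoidAlgebra.liftNCRingHom (RingHom.id A)
      (1 : Multiplicative N × Multiplicative N →* A) (fun _ _ => Commute.all _ _)) hx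
  rw [map_mul, eps_comp, eps_comp, eps_comp] at h
  · exact h.symm
  · intro n
    show MonoidAlgebra.liftNCRingHom _ _ _ (MonoidAlgebra.single _ 1) = 1
    rw [MonoidAlgebra.liftNCRingHom_single]; simp
  · intro n
    show MonoidAlgebra.liftNCRingHom _ _ _ (MonoidAlgebra.single _ 1) = 1
    rw [MonoidAlgebra.liftNCRingHom_single]; simp
  · intro n
    rw [MonoidHom.mul_apply, map_mul]
    show MonoidAlgebra.liftNCRingHom _ _ _ (MonoidAlgebra.single _ 1) *
      MonoidAlgebra.liftNCRingHom _ _ _ (MonoidAlgebra.single _ 1) = 1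
    rw [MonoidAlgebra.liftNCRingHom_single, MonoidAlgebra.liftNCRingHom_single]; simp

variable {A₀ : Type u} [CommRing A₀] (f : A →+* A₀) (hker : ∀ x ∈ RingHom.ker f, IsNilpotent x)

include hker in
lemma Glike_unique {x y : MonoidAlgebra A (Multiplicative N)} (hx : Glike1 x) (hy : Glike1 y)
    (hxy : MonoidAlgebra.mapRingHom (Multiplicative N) f x =
      MonoidAlgebra.mapRingHom (Multiplicative N) f y) : x = y := by
  classical
  ext a
  have h1 := (Glike1_iff x).mp hx a a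
  have h2 := (Glike1_iff y).mp hy a a
  rw [if_pos rfl] at h1 h2
  apply eq_of_isNilpotent_sub_of_isIdempotentElem h1 h2
  apply hker
  rw [RingHom.mem_ker, map_sub, sub_eq_zero]
  have := congrArg (fun v => MonoidAlgebra.coeff v a) hxy
  simpa [MonoidAlgebra.coeff_mapRingHom] using this

include hker in
lemma Glike_lift (hf : Function.Surjective f) {x₀ : MonoidAlgebra A₀ (Multiplicative N)} (hx₀ : Glike x₀) :
    ∃ x : MonoidAlgebra A (Multiplicative N), Glike x ∧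
      MonoidAlgebra.mapRingHom (Multiplicative N) f x = x₀ := by
  classical
  have hex : ∀ y : A₀, IsIdempotentElem y → ∃ e : A, IsIdempotentElem e ∧ f e = y := fun y hy =>
    exists_isIdempotentElem_eq_of_ker_isNilpotent f hker y ⟨_, (hf y).choose_spec⟩ hy
  let idl : A₀ → A := fun y => if h : IsIdempotentElem y then (hex y h).choose else 0
  have idl_spec : ∀ y, IsIdempotentElem y → IsIdempotentElem (idl y) ∧ f (idl y) = y := by
    intro y hy
    simp only [idl, dif_pos hy]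
    exact (hex y hy).choose_spec
  have idl_zero : idl 0 = 0 := by
    have h0 : IsIdempotentElem (0 : A₀) := IsIdempotentElem.zero
    obtain ⟨h1, h2⟩ := idl_spec 0 h0
    apply eq_of_isNilpotent_sub_of_isIdempotentElem h1 IsIdempotentElem.zero
    apply hker
    rw [RingHom.mem_ker, sub_zero, h2]
  have hc := (Glike1_iff x₀).mp hx₀.1
  have hidem : ∀ a, IsIdempotentElem (x₀.coeff a) := by
    intro a
    have := hc a a
    rwa [if_pos rfl] at this
  let x : MonoidAlgebra A (Multiplicative N) :=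
    MonoidAlgebra.ofCoeff (Finsupp.mapRange idl idl_zero x₀.coeff)
  have hxc : ∀ a, x.coeff a = idl (x₀.coeff a) := fun a => Finsupp.mapRange_apply (hf := idl_zero) ..
  have hmap : MonoidAlgebra.mapRingHom (Multiplicative N) f x = x₀ := by
    ext a
    rw [MonoidAlgebra.coeff_mapRingHom]
    show f (x.coeff a) = _
    rw [hxc, (idl_spec _ (hidem a)).2]
  have hG1 : Glike1 x := by
    rw [Glike1_iff]
    intro a b
    rw [hxc, hxc]
    split_ifs with hab
    · subst hab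
      exact (idl_spec _ (hidem a)).1
    · have h1 := (idl_spec _ (hidem a)).1
      have h2 := (idl_spec _ (hidem b)).1
      apply eq_of_isNilpotent_sub_of_isIdempotentElem (h1.mul h2) IsIdempotentElem.zero
      apply hker
      rw [RingHom.mem_ker, sub_zero, map_mul, (idl_spec _ (hidem a)).2, (idl_spec _ (hidem b)).2,
        hc a b, if_neg hab]
  refine ⟨x, ⟨hG1, ?_⟩, hmap⟩
  apply eq_of_isNilpotent_sub_of_isIdempotentElem (eps_idem hG1) IsIdempotentElem.one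
  apply hker
  rw [RingHom.mem_ker, map_sub, map_one, sub_eq_zero, ← hx₀.2, ← hmap]
  have : f.comp (ev (RingHom.id A) 1) = (ev (RingHom.id A₀) (1 : Multiplicative N →* A₀)).comp
      (MonoidAlgebra.mapRingHom (Multiplicative N) f) := by
    apply MonoidAlgebra.ringHom_ext
    · intro r
      simp [ev_single, MonoidAlgebra.mapRingHom_single]
    · intro m
      simp [ev_single, MonoidAlgebra.mapRingHom_single]
  exact congrArg (fun g => g x) this

end Alg


section Lift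

variable {B : Type u} [CommRing B] {N N' : Type} [AddCommGroup N] [AddCommGroup N']

/-- the character monoid hom of a point -/
noncomputable def chHom {T : Scheme.{u}} {Y : Over T} (c : Y ⟶ Red.DS T N) :
    Multiplicative N →* Γ(Y.left, ⊤) where
  toFun k := chFn (Multiplicative.toAdd k) c
  map_one' := chFn_zero c
  map_mul' _ _ := chFn_add _ _ c

lemma chHom_apply {T : Scheme.{u}} {Y : Over T} (c : Y ⟶ Red.DS T N) (n : N) :
    chHom c (Multiplicative.ofAdd n) = chFn n c := rfl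

lemma chHom_mul {T : Scheme.{u}} {Y : Over T} (c c' : Y ⟶ Red.DS T N) :
    chHom (c * c') = chHom c * chHom c' := by
  apply MonoidHom.ext
  intro k
  exact chFn_mul _ c c'

lemma chHom_comp {T : Scheme.{u}} {Y Y' : Over T} (w : Y' ⟶ Y) (c : Y ⟶ Red.DS T N) :
    chHom (w ≫ c) = (w.left.appTop.hom : Γ(Y.left, ⊤) →* Γ(Y'.left, ⊤)).comp (chHom c) := by
  apply MonoidHom.ext
  intro k
  exact chFn_comp _ w c

lemma ev_comp {A A' C : Type u} [CommRing A] [CommRing A'] [CommRing C] (Ξ : A' →+* C)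
    (z : A →+* A') (χ : Multiplicative N →* A') :
    Ξ.comp (ev z χ) = ev (Ξ.comp z) (Ξ.toMonoidHom.comp χ) := by
  apply MonoidAlgebra.ringHom_ext
  · intro r
    rw [RingHom.comp_apply, ev_single, ev_single, map_mul]
    rfl
  · intro m
    rw [RingHom.comp_apply, ev_single, ev_single, map_mul]
    rfl

lemma ev_map {A A₀ C : Type u} [CommRing A] [CommRing A₀] [CommRing C] (f : A →+* A₀)
    (z : A₀ →+* C) (χ : Multiplicative N →* C) (x : MonoidAlgebra A (Multiplicative N)) :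
    ev z χ (MonoidAlgebra.mapRingHom (Multiplicative N) f x) = ev (z.comp f) χ x := by
  have : (ev z χ).comp (MonoidAlgebra.mapRingHom (Multiplicative N) f) = ev (z.comp f) χ := by
    apply MonoidAlgebra.ringHom_ext
    · intro r
      rw [RingHom.comp_apply, MonoidAlgebra.mapRingHom_single, ev_single, ev_single]
      rfl
    · intro m
      rw [RingHom.comp_apply, MonoidAlgebra.mapRingHom_single, ev_single, ev_single, map_one,
        map_one, map_one]
  exact congrArg (fun g => g x) this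

local notation "TB" => Spec (CommRingCat.of B)

section Theta

variable (U : Multiplicative N' →* MonoidAlgebra B (Multiplicative N))

lemma exists_theta {Y : Over (Spec (CommRingCat.of B))} (c : Y ⟶ Red.DS (Spec (CommRingCat.of B)) N) :
    ∃ d : Y ⟶ Red.DS (Spec (CommRingCat.of B)) N', ∀ n', chFn n' d =
      ev (ptHom Y.hom) (chHom c) (U (Multiplicative.ofAdd n')) := by
  obtain ⟨d, hd⟩ := chFn_exists (X := Y) (M := N')
    (((ev (ptHom Y.hom) (chHom c)) : _ →* Γ(Y.left, ⊤)).comp U)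
  exact ⟨d, fun n' => by rw [hd]; rfl⟩

noncomputable def theta {Y : Over (Spec (CommRingCat.of B))}
    (c : Y ⟶ Red.DS (Spec (CommRingCat.of B)) N) : Y ⟶ Red.DS (Spec (CommRingCat.of B)) N' :=
  (exists_theta U c).choose

lemma chFn_theta {Y : Over (Spec (CommRingCat.of B))}
    (c : Y ⟶ Red.DS (Spec (CommRingCat.of B)) N) (n' : N') :
    chFn n' (theta U c) = ev (ptHom Y.hom) (chHom c) (U (Multiplicative.ofAdd n')) :=
  (exists_theta U c).choose_spec n'

lemma theta_nat {Y Y' : Over (Spec (CommRingCat.of B))} (w : Y' ⟶ Y)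
    (c : Y ⟶ Red.DS (Spec (CommRingCat.of B)) N) : theta U (w ≫ c) = w ≫ theta U c := by
  apply chFn_injective
  intro n'
  rw [chFn_comp, chFn_theta, chFn_theta]
  have h1 : ptHom Y'.hom = (w.left.appTop.hom).comp (ptHom Y.hom) := by
    rw [← ptHom_comp, Over.w]
  have h2 := ev_comp (w.left.appTop.hom) (ptHom Y.hom) (chHom c)
  rw [h1, chHom_comp]
  exact (RingHom.congr_fun h2 _).symm

lemma theta_mul (hU : ∀ k, Glike1 (U k)) {Y : Over (Spec (CommRingCat.of B))}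
    (c c' : Y ⟶ Red.DS (Spec (CommRingCat.of B)) N) :
    theta U (c * c') = theta U c * theta U c' := by
  apply chFn_injective
  intro n'
  rw [chFn_mul, chFn_theta, chFn_theta, chFn_theta, chHom_mul]
  let Ξ : MonoidAlgebra B (Multiplicative N × Multiplicative N) →+* Γ(Y.left, ⊤) :=
    MonoidAlgebra.liftNCRingHom (ptHom Y.hom) ((chHom c).coprod (chHom c'))
      (fun _ _ => Commute.all _ _)
  have hΞs : ∀ p a, Ξ (MonoidAlgebra.single p a) =
      ptHom Y.hom a * ((chHom c).coprod (chHom c')) p := fun p a =>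
    MonoidAlgebra.liftNCRingHom_single _ _ _ _ _
  have hΞ : Ξ.comp MonoidAlgebra.singleOneRingHom = ptHom Y.hom := by
    ext r
    rw [RingHom.comp_apply, sOne_apply, hΞs, map_one, _root_.mul_one]
  have h1 : Ξ.toMonoidHom.comp (chi1 B N) = chHom c := by
    apply MonoidHom.ext
    intro k
    show Ξ (MonoidAlgebra.single (k, 1) 1) = _
    rw [hΞs, map_one, _root_.one_mul, MonoidHom.coprod_apply,
      map_one, _root_.mul_one]
  have h2 : Ξ.toMonoidHom.comp (chi2 B N) = chHom c' := by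
    apply MonoidHom.ext
    intro k
    show Ξ (MonoidAlgebra.single (1, k) 1) = _
    rw [hΞs, map_one, _root_.one_mul, MonoidHom.coprod_apply,
      map_one, _root_.one_mul]
  have h12 : Ξ.toMonoidHom.comp (chi1 B N * chi2 B N) = chHom c * chHom c' := by
    rw [← h1, ← h2]
    apply MonoidHom.ext
    intro k
    simp only [MonoidHom.comp_apply, MonoidHom.mul_apply, map_mul]
  have e1 := ev_comp Ξ MonoidAlgebra.singleOneRingHom (chi1 B N)
  have e2 := ev_comp Ξ MonoidAlgebra.singleOneRingHom (chi2 B N)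
  have e12 := ev_comp Ξ MonoidAlgebra.singleOneRingHom (chi1 B N * chi2 B N)
  rw [hΞ, h1] at e1
  rw [hΞ, h2] at e2
  rw [hΞ, h12] at e12
  have h := congrArg Ξ (hU (Multiplicative.ofAdd n'))
  rw [map_mul] at h
  rw [← e1, ← e2, ← e12]
  exact h

end Theta


section LiftMain

lemma eq_one_of_mul_self {T : Scheme.{u}} {Y G : Over T} [GrpObj G] (a : Y ⟶ G) (h : a = a * a) :
    a = 1 := mul_eq_left.mp h.symm

lemma hom_one_mul_one {T : Scheme.{u}} {Y G : Over T} [GrpObj G] : (1 : Y ⟶ G) * 1 = 1 :=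
  _root_.mul_one (1 : Y ⟶ G)

/-- affine test objects -/
noncomputable abbrev YC {C : Type u} [CommRing C] (z : B →+* C) : Over (Spec (CommRingCat.of B)) :=
  Over.mk (Spec.map (CommRingCat.ofHom z))

lemma exists_gC {C : Type u} [CommRing C] (z : B →+* C) (χ : Multiplicative N →* C) :
    ∃ g : YC z ⟶ Red.DS (Spec (CommRingCat.of B)) N, ∀ n : N, chFn n g =
      (Scheme.ΓSpecIso (CommRingCat.of C)).inv (χ (Multiplicative.ofAdd n)) := by
  let χ' : Multiplicative N →* Γ((YC z).left, ⊤) :=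
    ((Scheme.ΓSpecIso (CommRingCat.of C)).inv.hom).toMonoidHom.comp χ
  obtain ⟨g, hg⟩ := chFn_exists χ'
  exact ⟨g, fun m => by rw [hg]; rfl⟩

noncomputable def gC {C : Type u} [CommRing C] (z : B →+* C) (χ : Multiplicative N →* C) :
    YC z ⟶ Red.DS (Spec (CommRingCat.of B)) N := (exists_gC z χ).choose

lemma chFn_gC {C : Type u} [CommRing C] (z : B →+* C) (χ : Multiplicative N →* C) (n : N) :
    chFn n (gC z χ) = (Scheme.ΓSpecIso (CommRingCat.of C)).inv (χ (Multiplicative.ofAdd n)) :=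
  (exists_gC z χ).choose_spec n

lemma chHom_gC {C : Type u} [CommRing C] (z : B →+* C) (χ : Multiplicative N →* C) :
    chHom (gC z χ) =
      ((Scheme.ΓSpecIso (CommRingCat.of C)).inv.hom).toMonoidHom.comp χ := by
  apply MonoidHom.ext
  intro k
  exact chFn_gC z χ _

lemma ptHom_YC {C : Type u} [CommRing C] (z : B →+* C) :
    ptHom (YC z).hom = ((Scheme.ΓSpecIso (CommRingCat.of C)).inv.hom).comp z := by
  ext r
  exact ptHom_SpecMap z r

lemma ΓSpecIso_inv_injective (C : Type u) [CommRing C] :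
    Function.Injective ((Scheme.ΓSpecIso (CommRingCat.of C)).inv.hom) := by
  intro a b h
  have := congrArg ((Scheme.ΓSpecIso (CommRingCat.of C)).hom.hom) h
  simpa using this


section Main

variable (𝔧 : Ideal B) (P : Over (Spec (CommRingCat.of B)) → Prop)
  (hP : ∀ {Y Y' : Over (Spec (CommRingCat.of B))} (_ : Y' ⟶ Y), P Y → P Y')
  (hP0 : P (YC (Ideal.Quotient.mk 𝔧)))
  (hPk : ∀ Y, P Y → ∀ r ∈ 𝔧, ptHom Y.hom r = 0)
  (ψ : ∀ {Y : Over (Spec (CommRingCat.of B))}, (Y ⟶ Red.DS (Spec (CommRingCat.of B)) N) →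
    (Y ⟶ Red.DS (Spec (CommRingCat.of B)) N'))
  (ψ_nat : ∀ {Y Y' : Over (Spec (CommRingCat.of B))} (w : Y' ⟶ Y)
    (c : Y ⟶ Red.DS (Spec (CommRingCat.of B)) N), P Y → ψ (w ≫ c) = w ≫ ψ c)
  (ψ_mul : ∀ {Y : Over (Spec (CommRingCat.of B))}
    (c c' : Y ⟶ Red.DS (Spec (CommRingCat.of B)) N), P Y → ψ (c * c') = ψ c * ψ c')

variable (N) in
/-- the structure map of the universal `P`-point -/
noncomputable def z1 : B →+* MonoidAlgebra (B ⧸ 𝔧) (Multiplicative N) :=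
  (MonoidAlgebra.singleOneRingHom).comp (Ideal.Quotient.mk 𝔧)

variable (N) in
/-- the universal `P`-point -/
noncomputable def c1 : YC (z1 N 𝔧) ⟶ Red.DS (Spec (CommRingCat.of B)) N :=
  gC (z1 N 𝔧) (MonoidAlgebra.of (B ⧸ 𝔧) (Multiplicative N))

/-- the characters of the image of the universal point -/
noncomputable def ubar (n' : N') : MonoidAlgebra (B ⧸ 𝔧) (Multiplicative N) :=
  (Scheme.ΓSpecIso (CommRingCat.of (MonoidAlgebra (B ⧸ 𝔧) (Multiplicative N)))).hom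
    (chFn n' (ψ (c1 N 𝔧)))

lemma ubar_add (a b : N') : ubar 𝔧 ψ (a + b) = ubar 𝔧 ψ a * ubar 𝔧 ψ b := by
  unfold ubar
  rw [chFn_add, map_mul]

lemma ubar_zero : ubar 𝔧 ψ (0 : N') = 1 := by
  unfold ubar
  rw [chFn_zero, map_one]

include hP hP0 in
lemma hPz {C : Type u} [CommRing C] (zb : B ⧸ 𝔧 →+* C) : P (YC (zb.comp (Ideal.Quotient.mk 𝔧))) :=
  hP (Over.homMk (U := YC (zb.comp (Ideal.Quotient.mk 𝔧))) (V := YC (Ideal.Quotient.mk 𝔧))
    (Spec.map (CommRingCat.ofHom zb)) (by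
      show Spec.map _ ≫ Spec.map _ = Spec.map _
      rw [← Spec.map_comp]; rfl)) hP0

include hP hP0 hPk ψ_nat in
lemma E_main {Y : Over (Spec (CommRingCat.of B))} (hY : P Y)
    (c : Y ⟶ Red.DS (Spec (CommRingCat.of B)) N) (n' : N') :
    chFn n' (ψ c) = ev (Ideal.Quotient.lift 𝔧 (ptHom Y.hom) (hPk Y hY)) (chHom c) (ubar 𝔧 ψ n') := by
  have hk : (ev (Ideal.Quotient.lift 𝔧 (ptHom Y.hom) (hPk Y hY)) (chHom c)).comp (z1 N 𝔧) =
      ptHom Y.hom := by
    ext r
    show ev _ (chHom c) (MonoidAlgebra.single 1 (Ideal.Quotient.mk 𝔧 r)) = _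
    rw [ev_single, map_one, _root_.mul_one]
    rfl
  let w : Y ⟶ YC (z1 N 𝔧) := Over.homMk (Y.left.toSpecΓ ≫ Spec.map (CommRingCat.ofHom
      (ev (Ideal.Quotient.lift 𝔧 (ptHom Y.hom) (hPk Y hY)) (chHom c)))) (by
    apply ptHom_injective
    show ptHom ((Y.left.toSpecΓ ≫ Spec.map (CommRingCat.ofHom _)) ≫
      Spec.map (CommRingCat.ofHom (z1 N 𝔧))) = ptHom Y.hom
    rw [ptHom_comp_SpecMap, ptHom_toSpecΓ_SpecMap, hk])
  have hw : ptHom w.left = ev (Ideal.Quotient.lift 𝔧 (ptHom Y.hom) (hPk Y hY)) (chHom c) :=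
    ptHom_toSpecΓ_SpecMap _
  have hwc : w ≫ c1 N 𝔧 = c := by
    apply chFn_injective
    intro n
    rw [chFn_comp, c1, chFn_gC, ← ptHom_apply, hw]
    show ev _ (chHom c) (MonoidAlgebra.single _ 1) = _
    rw [ev_single, map_one, _root_.one_mul]
    rfl
  have hP1 : P (YC (z1 N 𝔧)) := hPz 𝔧 P hP hP0 _
  have h1 : ψ c = w ≫ ψ (c1 N 𝔧) := by
    rw [← ψ_nat w (c1 N 𝔧) hP1, hwc]
  rw [h1, chFn_comp]
  have h2 : w.left.appTop (chFn n' (ψ (c1 N 𝔧))) = ptHom w.left (ubar 𝔧 ψ n') := by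
    rw [ptHom_apply, ubar]
    simp
  rw [h2, hw]

include hP hP0 hPk ψ_nat in
lemma E_aff {C : Type u} [CommRing C] (zb : B ⧸ 𝔧 →+* C) (χ : Multiplicative N →* C) (n' : N') :
    chFn n' (ψ (gC (zb.comp (Ideal.Quotient.mk 𝔧)) χ)) =
      (Scheme.ΓSpecIso (CommRingCat.of C)).inv (ev zb χ (ubar 𝔧 ψ n')) := by
  have hPC := hPz 𝔧 P hP hP0 zb
  rw [E_main 𝔧 P hP hP0 hPk ψ ψ_nat hPC]
  have h1 : Ideal.Quotient.lift 𝔧 (ptHom (YC (zb.comp (Ideal.Quotient.mk 𝔧))).hom) (hPk _ hPC) =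
      ((Scheme.ΓSpecIso (CommRingCat.of C)).inv.hom).comp zb := by
    apply Ideal.Quotient.ringHom_ext
    ext r
    rw [RingHom.comp_apply, Ideal.Quotient.lift_mk, ptHom_YC]
    rfl
  rw [h1, chHom_gC, ← ev_comp]
  rfl

include hP hP0 hPk ψ_nat ψ_mul in
lemma ubar_Glike1 (n' : N') : Glike1 (ubar 𝔧 ψ n') := by
  let s₂ : B ⧸ 𝔧 →+* MonoidAlgebra (B ⧸ 𝔧) (Multiplicative N × Multiplicative N) :=
    MonoidAlgebra.singleOneRingHom
  have hP2 := hPz 𝔧 P hP hP0 s₂
  have hg : gC (s₂.comp (Ideal.Quotient.mk 𝔧)) (chi1 (B ⧸ 𝔧) N) *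
      gC (s₂.comp (Ideal.Quotient.mk 𝔧)) (chi2 (B ⧸ 𝔧) N) =
      gC (s₂.comp (Ideal.Quotient.mk 𝔧)) (chi1 (B ⧸ 𝔧) N * chi2 (B ⧸ 𝔧) N) := by
    apply chFn_injective
    intro m
    rw [chFn_mul, chFn_gC, chFn_gC, chFn_gC, MonoidHom.mul_apply, map_mul]
  have h := congrArg (chFn n') (ψ_mul (gC (s₂.comp (Ideal.Quotient.mk 𝔧)) (chi1 (B ⧸ 𝔧) N))
    (gC (s₂.comp (Ideal.Quotient.mk 𝔧)) (chi2 (B ⧸ 𝔧) N)) hP2)
  rw [hg, chFn_mul, E_aff 𝔧 P hP hP0 hPk ψ ψ_nat, E_aff 𝔧 P hP hP0 hPk ψ ψ_nat,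
    E_aff 𝔧 P hP hP0 hPk ψ ψ_nat, ← map_mul] at h
  exact ΓSpecIso_inv_injective _ h

include hP hP0 hPk ψ_nat ψ_mul in
lemma ubar_eps (n' : N') : ev (RingHom.id (B ⧸ 𝔧)) 1 (ubar 𝔧 ψ n') = 1 := by
  have hP3 := hPz 𝔧 P hP hP0 (RingHom.id (B ⧸ 𝔧))
  have hg : gC ((RingHom.id (B ⧸ 𝔧)).comp (Ideal.Quotient.mk 𝔧)) (1 : Multiplicative N →* B ⧸ 𝔧) = 1 := by
    apply chFn_injective
    intro m
    rw [chFn_gC, chFn_one, MonoidHom.one_apply, map_one]
  have hψ1 : ψ (1 : YC ((RingHom.id (B ⧸ 𝔧)).comp (Ideal.Quotient.mk 𝔧)) ⟶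
      Red.DS (Spec (CommRingCat.of B)) N) = 1 := by
    have := ψ_mul (1 : YC ((RingHom.id (B ⧸ 𝔧)).comp (Ideal.Quotient.mk 𝔧)) ⟶
      Red.DS (Spec (CommRingCat.of B)) N) 1 hP3
    rw [hom_one_mul_one] at this
    exact eq_one_of_mul_self _ this
  have h := E_aff 𝔧 P hP hP0 hPk ψ ψ_nat (RingHom.id (B ⧸ 𝔧)) (1 : Multiplicative N →* B ⧸ 𝔧) n'
  rw [hg, hψ1, chFn_one] at h
  apply ΓSpecIso_inv_injective
  rw [map_one]
  exact h.symm

include hP hP0 hPk ψ_nat ψ_mul in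
theorem lift_main (h𝔧 : IsNilpotent 𝔧) :
    ∃ U : Multiplicative N' →* MonoidAlgebra B (Multiplicative N), (∀ k, Glike1 (U k)) ∧
      ∀ {Y : Over (Spec (CommRingCat.of B))} (c : Y ⟶ Red.DS (Spec (CommRingCat.of B)) N),
        P Y → theta U c = ψ c := by
  classical
  have hker : ∀ x ∈ RingHom.ker (Ideal.Quotient.mk 𝔧), IsNilpotent x := by
    intro x hx
    rw [Ideal.mk_ker] at hx
    obtain ⟨k, hk⟩ := h𝔧
    refine ⟨k, ?_⟩
    have : x ^ k ∈ 𝔧 ^ k := Ideal.pow_mem_pow hx k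
    rw [hk] at this
    exact this
  choose u hu using fun n' : N' => Glike_lift (Ideal.Quotient.mk 𝔧) hker Ideal.Quotient.mk_surjective
    ⟨ubar_Glike1 𝔧 P hP hP0 hPk ψ ψ_nat ψ_mul n', ubar_eps 𝔧 P hP hP0 hPk ψ ψ_nat ψ_mul n'⟩
  let U : Multiplicative N' →* MonoidAlgebra B (Multiplicative N) :=
    { toFun := fun k => u (Multiplicative.toAdd k)
      map_one' := by
        show u 0 = 1
        apply Glike_unique (Ideal.Quotient.mk 𝔧) hker (hu 0).1.1 Glike_one.1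
        rw [(hu 0).2, map_one]
        exact ubar_zero 𝔧 ψ
      map_mul' := fun a b => by
        show u (Multiplicative.toAdd a + Multiplicative.toAdd b) =
          u (Multiplicative.toAdd a) * u (Multiplicative.toAdd b)
        apply Glike_unique (Ideal.Quotient.mk 𝔧) hker (hu _).1.1 (Glike_mul (hu _).1 (hu _).1).1
        rw [(hu _).2, map_mul, (hu _).2, (hu _).2]
        exact ubar_add 𝔧 ψ _ _ }
  refine ⟨U, fun k => (hu _).1.1, ?_⟩
  intro Y c hY
  apply chFn_injective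
  intro n'
  rw [chFn_theta, E_main 𝔧 P hP hP0 hPk ψ ψ_nat hY c n']
  show ev _ _ (u n') = _
  rw [← (hu n').2, ev_map]
  have h3 : (Ideal.Quotient.lift 𝔧 (ptHom Y.hom) (hPk Y hY)).comp (Ideal.Quotient.mk 𝔧) =
      ptHom Y.hom := by
    ext r
    rw [RingHom.comp_apply, Ideal.Quotient.lift_mk]
  rw [h3]

end Main

end LiftMain

end Lift


section LemmaR

/-- an abstract "homomorphism on points" from `D_T(N)` to the restriction of `G` to `T`-schemes -/
structure PtHom {S T : Scheme.{u}} (fT : T ⟶ S) (N : Type) [AddCommGroup N] (G : Over S)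
    [GrpObj G] where
  u : ∀ {Y : Over T}, (Y ⟶ Red.DS T N) → ((Over.map fT).obj Y ⟶ G)
  nat : ∀ {Y Y' : Over T} (w : Y' ⟶ Y) (c : Y ⟶ Red.DS T N),
    u (w ≫ c) = (Over.map fT).map w ≫ u c
  mul : ∀ {Y : Over T} (c c' : Y ⟶ Red.DS T N), u (c * c') = u c * u c'

variable {S T : Scheme.{u}} {fT : T ⟶ S} {N : Type} [AddCommGroup N] {G : Over S} [GrpObj G]

lemma PtHom.one (u : PtHom fT N G) {Y : Over T} : u.u (1 : Y ⟶ Red.DS T N) = 1 :=
  eq_one_of_mul_self _ (by rw [← u.mul, hom_one_mul_one])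

lemma tbInv_comp {S B : Scheme.{u}} (f : S ⟶ B) {G : Over B} {X X' : Over S} (w : X' ⟶ X)
    (y : (Over.map f).obj X ⟶ G) :
    w ≫ tbInv f y = tbInv f ((Over.map f).map w ≫ y) := by
  apply toBase_injective f
  rw [toBase_comp, toBase_tbInv, toBase_tbInv]

lemma grp_aux {Γ : Type*} [Group Γ] (u₁ u₂ v₁ v₂ d : Γ) (hc : ∀ g, g * u₂ = u₂ * g) :
    (u₁ * u₂)⁻¹ * (v₁ * v₂) * d = u₁⁻¹ * v₁ * (u₂⁻¹ * v₂ * d) := by
  have hcomm : ∀ g : Γ, g * u₂⁻¹ = u₂⁻¹ * g := by
    intro g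
    have := hc g
    rw [eq_inv_mul_iff_mul_eq, ← _root_.mul_assoc, ← this, _root_.mul_assoc, mul_inv_cancel,
      _root_.mul_one]
  rw [_root_.mul_inv_rev, ← hcomm u₁⁻¹]
  simp only [_root_.mul_assoc]
  rw [← _root_.mul_assoc u₂⁻¹ v₁, ← hcomm v₁, _root_.mul_assoc]

/-- the translation action by `u⁻¹ v` -/
noncomputable def actR (u v : PtHom fT N G)
    (hc : ∀ {Y : Over T} (c : Y ⟶ Red.DS T N) (g : (Over.map fT).obj Y ⟶ G),
      g * u.u c = u.u c * g) : PtAct T N (Red.bc fT G) where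
  smul c d := tbInv fT ((u.u c)⁻¹ * v.u c * toBase fT d)
  nat w c d := by
    rw [tbInv_comp, MonObj.comp_mul, MonObj.comp_mul, GrpObj.comp_inv, ← u.nat, ← v.nat,
      ← toBase_comp]
  one_smul d := by
    rw [u.one, v.one, inv_one, _root_.one_mul, _root_.one_mul, tbInv_toBase]
  mul_smul c₁ c₂ d := by
    rw [toBase_tbInv, u.mul, v.mul]
    exact congrArg (tbInv fT) (grp_aux _ _ _ _ _ (hc c₂))

theorem lemmaR (u v : PtHom fT N G)
    (hc : ∀ {Y : Over T} (c : Y ⟶ Red.DS T N) (g : (Over.map fT).obj Y ⟶ G),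
      g * u.u c = u.u c * g)
    (P : Over T → Prop) (hP : ∀ {Y Y' : Over T} (_ : Y' ⟶ Y), P Y → P Y')
    (hloc : ∀ t : T, ∃ (W : T.Opens) (hW : IsAffineOpen W) (I : Ideal Γ(T, W)), t ∈ W ∧
      IsNilpotent I ∧
      P (Over.mk (Spec.map (CommRingCat.ofHom (Ideal.Quotient.mk I)) ≫ hW.fromSpec)))
    (hPuv : ∀ {Y : Over T} (c : Y ⟶ Red.DS T N), P Y → u.u c = v.u c)
    {Y : Over T} (c : Y ⟶ Red.DS T N) : u.u c = v.u c := by
  have h0' : ∀ {Y : Over T} (c : Y ⟶ Red.DS T N) (d : Y ⟶ Red.bc fT G), P Y →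
      (actR u v hc).smul c d = d := by
    intro Y c d hY
    show tbInv fT _ = d
    rw [hPuv c hY, inv_mul_cancel, _root_.one_mul, tbInv_toBase]
  have key := core (actR u v hc) P hP h0' hloc c (tbInv fT 1)
  have key2 := congrArg (toBase fT) key
  change toBase fT (tbInv fT _) = _ at key2
  rw [toBase_tbInv, toBase_tbInv, _root_.mul_one] at key2
  exact inv_mul_eq_one.mp key2

end LemmaR


section Loc

open scoped Classical in
theorem loc_main {S : Scheme.{u}} {B : Type u} [CommRing B] (fT : Spec (CommRingCat.of B) ⟶ S)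
    {N N' : Type} [AddCommGroup N] [AddCommGroup N'] {G : Over S} [GrpObj G]
    (uA : PtHom fT N G) (uB : PtHom fT N' G)
    (hinj : ∀ {Y : Over (Spec (CommRingCat.of B))} (d d' : Y ⟶ Red.DS (Spec (CommRingCat.of B)) N'),
      uB.u d = uB.u d' → d = d')
    (hc : (∀ {Y : Over (Spec (CommRingCat.of B))} (c : Y ⟶ Red.DS (Spec (CommRingCat.of B)) N)
        (g : (Over.map fT).obj Y ⟶ G), g * uA.u c = uA.u c * g) ∨
      (∀ {Y : Over (Spec (CommRingCat.of B))} (d : Y ⟶ Red.DS (Spec (CommRingCat.of B)) N')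
        (g : (Over.map fT).obj Y ⟶ G), g * uB.u d = uB.u d * g))
    (P : Over (Spec (CommRingCat.of B)) → Prop)
    (hP : ∀ {Y Y' : Over (Spec (CommRingCat.of B))} (_ : Y' ⟶ Y), P Y → P Y')
    (hloc : ∀ t : ↥(Spec (CommRingCat.of B)), ∃ (W : (Spec (CommRingCat.of B)).Opens)
      (hW : IsAffineOpen W) (I : Ideal Γ(Spec (CommRingCat.of B), W)), t ∈ W ∧
      IsNilpotent I ∧
      P (Over.mk (Spec.map (CommRingCat.ofHom (Ideal.Quotient.mk I)) ≫ hW.fromSpec)))
    (𝔧 : Ideal B) (h𝔧 : IsNilpotent 𝔧) (hP0 : P (YC (Ideal.Quotient.mk 𝔧)))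
    (hPk : ∀ Y, P Y → ∀ r ∈ 𝔧, ptHom Y.hom r = 0)
    (hagree : ∀ {Y : Over (Spec (CommRingCat.of B))} (c : Y ⟶ Red.DS (Spec (CommRingCat.of B)) N),
      P Y → ∃ d : Y ⟶ Red.DS (Spec (CommRingCat.of B)) N', uB.u d = uA.u c)
    {Y : Over (Spec (CommRingCat.of B))} (c : Y ⟶ Red.DS (Spec (CommRingCat.of B)) N) :
    ∃ d : Y ⟶ Red.DS (Spec (CommRingCat.of B)) N', uB.u d = uA.u c := by
  let ψ : ∀ {Y : Over (Spec (CommRingCat.of B))}, (Y ⟶ Red.DS (Spec (CommRingCat.of B)) N) →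
      (Y ⟶ Red.DS (Spec (CommRingCat.of B)) N') := fun {Y} c =>
    if h : ∃ d : Y ⟶ Red.DS (Spec (CommRingCat.of B)) N', uB.u d = uA.u c then h.choose else 1
  have hψ : ∀ {Y : Over (Spec (CommRingCat.of B))} (c : Y ⟶ Red.DS (Spec (CommRingCat.of B)) N),
      P Y → uB.u (ψ c) = uA.u c := by
    intro Y c hY
    have h := hagree c hY
    simp only [ψ, dif_pos h]
    exact h.choose_spec
  have ψ_nat : ∀ {Y Y' : Over (Spec (CommRingCat.of B))} (w : Y' ⟶ Y)
      (c : Y ⟶ Red.DS (Spec (CommRingCat.of B)) N), P Y → ψ (w ≫ c) = w ≫ ψ c := by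
    intro Y Y' w c hY
    apply hinj
    rw [hψ _ (hP w hY), uA.nat, uB.nat, hψ _ hY]
  have ψ_mul : ∀ {Y : Over (Spec (CommRingCat.of B))}
      (c c' : Y ⟶ Red.DS (Spec (CommRingCat.of B)) N), P Y → ψ (c * c') = ψ c * ψ c' := by
    intro Y c c' hY
    apply hinj
    rw [hψ _ hY, uA.mul, uB.mul, hψ _ hY, hψ _ hY]
  obtain ⟨U, hU1, hU2⟩ := lift_main 𝔧 P hP hP0 hPk ψ ψ_nat ψ_mul h𝔧
  let v : PtHom fT N G :=
    { u := fun c => uB.u (theta U c)
      nat := fun w c => by rw [theta_nat, uB.nat]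
      mul := fun c c' => by rw [theta_mul U hU1, uB.mul] }
  have hPuv : ∀ {Y : Over (Spec (CommRingCat.of B))} (c : Y ⟶ Red.DS (Spec (CommRingCat.of B)) N),
      P Y → uA.u c = v.u c := by
    intro Y c hY
    show _ = uB.u (theta U c)
    rw [hU2 c hY, hψ c hY]
  refine ⟨theta U c, ?_⟩
  rcases hc with hc | hc
  · exact (lemmaR uA v hc P hP hloc hPuv c).symm
  · exact lemmaR v uA (fun c g => hc _ g) P hP hloc (fun c hY => (hPuv c hY).symm) c

end Loc


section BC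

variable {S T T' : Scheme.{u}}

noncomputable def bcCompIso (fT : T ⟶ S) (g : T' ⟶ T) (H : Over S) [GrpObj H] :
    Grp.mk (Red.bc (g ≫ fT) H) ≅ Grp.mk (Red.bc g (Red.bc fT H)) :=
  (Functor.mapGrpNatIso (Over.pullbackComp g fT)).app (Grp.mk H) ≪≫
    (Functor.mapGrpCompIso (F := Over.pullback fT) (G := Over.pullback g)).app (Grp.mk H)

noncomputable def bcMapIso (g : T' ⟶ T) {A B : Over T} [GrpObj A] [GrpObj B]
    (e : Grp.mk A ≅ Grp.mk B) : Grp.mk (Red.bc g A) ≅ Grp.mk (Red.bc g B) :=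
  (Over.pullback g).mapGrp.mapIso e

noncomputable def bcEqIso {f f' : T ⟶ S} (h : f = f') (H : Over S) [GrpObj H] :
    Grp.mk (Red.bc f H) ≅ Grp.mk (Red.bc f' H) := by
  subst h
  exact Iso.refl _

theorem grpIso_bc (fT : T ⟶ S) (H : Over S) [GrpObj H] (M : Type) [AddCommGroup M]
    (e : Grp.mk (Red.bc fT H) ≅ Grp.mk (Red.DS T M)) (g : T' ⟶ T) (fT' : T' ⟶ S)
    (hf : g ≫ fT = fT') :
    Nonempty (Grp.mk (Red.bc fT' H) ≅ Grp.mk (Red.DS T' M)) := by
  subst hf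
  have hz : g ≫ toZ T = toZ T' := specULiftZIsTerminal.hom_ext _ _
  exact ⟨bcCompIso fT g H ≪≫ bcMapIso g e ≪≫
    (bcCompIso (toZ T) g (Red.diag (ULift.{u} ℤ) M)).symm ≪≫ bcEqIso hz _⟩

end BC

section Descent

open Groth.Agent.Lib.Helper40.FpqcCov CategoryTheory.Limits

variable {S : Scheme.{u}} {G A A' : Over S} (iA : A ⟶ G) (iA' : A' ⟶ G)

/-- points of `A` over `T`-schemes lie in `A'` -/
def QQ {T : Scheme.{u}} (fT : T ⟶ S) : Prop :=
  ∀ (Y : Over S) (t : Y.left ⟶ T) (_ : t ≫ fT = Y.hom) (hA : Y ⟶ A),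
    ∃ hA' : Y ⟶ A', hA' ≫ iA' = hA ≫ iA

theorem descend_QQ [Mono iA'.left] {T Z : Scheme.{u}} (fT : T ⟶ S) (q : Z ⟶ T) (hq : IsQCov q)
    (hloc : ∀ z : Z, ∃ (V : Scheme.{u}) (j : V ⟶ Z), IsOpenImmersion j ∧ z ∈ Set.range j ∧
      QQ iA iA' (j ≫ q ≫ fT)) :
    QQ iA iA' fT := by
  intro Y t ht hA
  have hqY : IsQCov (pullback.fst t q) := hq.pullback_fst t
  let m : Y.left ⟶ G.left := hA.left ≫ iA.left
  have hlocal : ∀ w : ↥(pullback t q), ∃ (U : (pullback t q).Opens) (β : (U : Scheme.{u}) ⟶ A'.left),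
      w ∈ U ∧ β ≫ iA'.left = U.ι ≫ pullback.fst t q ≫ m := by
    intro w
    obtain ⟨V, j, hj, hz, hQ⟩ := hloc ((pullback.snd t q) w)
    let U : (pullback t q).Opens := (pullback.snd t q) ⁻¹ᵁ j.opensRange
    have hr : Set.range (U.ι ≫ pullback.snd t q) ⊆ Set.range j := by
      rintro _ ⟨x, rfl⟩
      exact x.2
    let tU : (U : Scheme.{u}) ⟶ V := IsOpenImmersion.lift j (U.ι ≫ pullback.snd t q) hr
    have htU : tU ≫ j = U.ι ≫ pullback.snd t q := IsOpenImmersion.lift_fac _ _ _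
    let YU : Over S := Over.mk (U.ι ≫ pullback.fst t q ≫ Y.hom)
    let c : YU ⟶ Y := Over.homMk (U.ι ≫ pullback.fst t q) (by simp [YU])
    obtain ⟨hB, hhB⟩ := hQ YU tU (by
      show tU ≫ j ≫ q ≫ fT = U.ι ≫ pullback.fst t q ≫ Y.hom
      rw [← Category.assoc, htU, Category.assoc, ← Category.assoc (pullback.snd t q),
        ← pullback.condition, Category.assoc, ht]) (c ≫ hA)
    refine ⟨U, hB.left, hz, ?_⟩
    have := congrArg (fun f => f.left) hhB
    simpa [c, m] using this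
  choose U β hwU hβ using hlocal
  have hcov : TopologicalSpace.IsOpenCover U := by
    rw [TopologicalSpace.IsOpenCover, eq_top_iff]
    intro w _
    exact TopologicalSpace.Opens.mem_iSup.mpr ⟨w, hwU w⟩
  let 𝒰 : (pullback t q).OpenCover := Scheme.openCoverOfIsOpenCover _ U hcov
  have hf : ∀ x y : ↥(pullback t q), pullback.fst (U x).ι (U y).ι ≫ β x =
      pullback.snd (U x).ι (U y).ι ≫ β y := by
    intro x y
    rw [← cancel_mono iA'.left, Category.assoc, Category.assoc, hβ, hβ]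
    exact (pullback.condition_assoc _)
  let βW : pullback t q ⟶ A'.left := 𝒰.glueMorphisms β hf
  have hβW : βW ≫ iA'.left = pullback.fst t q ≫ m := by
    apply 𝒰.hom_ext
    intro x
    have h1 : 𝒰.f x ≫ βW = β x := 𝒰.ι_glueMorphisms β hf x
    rw [← Category.assoc, h1]
    exact hβ x
  have := hqY.isCov.effectiveEpi
  have hepi : Epi (pullback.fst t q) := hqY.isCov.epi
  let b : Y.left ⟶ A'.left := EffectiveEpi.desc (pullback.fst t q) βW (by
    intro Z' g₁ g₂ h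
    rw [← cancel_mono iA'.left, Category.assoc, Category.assoc, hβW, ← Category.assoc, h,
      Category.assoc])
  have hb : pullback.fst t q ≫ b = βW := EffectiveEpi.fac _ _ _
  have hbi : b ≫ iA'.left = m := by
    rw [← cancel_epi (pullback.fst t q), ← Category.assoc, hb, hβW]
  refine ⟨Over.homMk b ?_, ?_⟩
  · rw [← Over.w iA', ← Category.assoc, hbi]
    simp [m]
  · ext
    exact hbi

end Descent


section AtT

/-- the point-homomorphism attached to a trivialised group with a homomorphism to `G` -/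
noncomputable def ptHomOf {S T : Scheme.{u}} (fT : T ⟶ S) {A G : Over S} [GrpObj A] [GrpObj G]
    (iA : A ⟶ G) [IsMonHom iA] (N : Type) [AddCommGroup N]
    (e : Grp.mk (Red.bc fT A) ≅ Grp.mk (Red.DS T N)) : PtHom fT N G where
  u c := toBase fT (c ≫ e.inv.hom.hom) ≫ iA
  nat w c := by rw [Category.assoc, toBase_comp, Category.assoc]
  mul c c' := by rw [MonObj.mul_comp, toBase_mul, MonObj.mul_comp]

lemma ptHomOf_inj {S T : Scheme.{u}} (fT : T ⟶ S) {A G : Over S} [GrpObj A] [GrpObj G]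
    (iA : A ⟶ G) [IsMonHom iA] [Mono iA] (N : Type) [AddCommGroup N]
    (e : Grp.mk (Red.bc fT A) ≅ Grp.mk (Red.DS T N)) {Y : Over T} (d d' : Y ⟶ Red.DS T N)
    (h : (ptHomOf fT iA N e).u d = (ptHomOf fT iA N e).u d') : d = d' := by
  have h1 : toBase fT (d ≫ e.inv.hom.hom) = toBase fT (d' ≫ e.inv.hom.hom) :=
    (cancel_mono iA).mp h
  have h2 := toBase_injective fT h1
  have h3 : e.inv.hom.hom ≫ e.hom.hom.hom = 𝟙 _ := congrArg (fun x => x.hom.hom) e.inv_hom_id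
  have h4 := congrArg (fun x => x ≫ e.hom.hom.hom) h2
  simpa [Category.assoc, h3] using h4

lemma ptHomOf_surj {S T : Scheme.{u}} (fT : T ⟶ S) {A G : Over S} [GrpObj A] [GrpObj G]
    (iA : A ⟶ G) [IsMonHom iA] (N : Type) [AddCommGroup N]
    (e : Grp.mk (Red.bc fT A) ≅ Grp.mk (Red.DS T N)) {Y : Over T}
    (h : (Over.map fT).obj Y ⟶ A) :
    (ptHomOf fT iA N e).u (tbInv fT h ≫ e.hom.hom.hom) = h ≫ iA := by
  have h3 : e.hom.hom.hom ≫ e.inv.hom.hom = 𝟙 _ := congrArg (fun x => x.hom.hom) e.hom_inv_id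
  show toBase fT ((tbInv fT h ≫ e.hom.hom.hom) ≫ e.inv.hom.hom) ≫ iA = _
  rw [Category.assoc, h3, Category.comp_id, toBase_tbInv]

lemma hnil_spec {R : Type u} [CommRing R] (J : Ideal R) (hJ : IsNilpotent J) :
    ∀ x : ↥(Spec (CommRingCat.of R)), ∃ U : (Spec (CommRingCat.of R)).affineOpens,
      x ∈ (U : (Spec (CommRingCat.of R)).Opens) ∧
      IsNilpotent ((Spec.map (CommRingCat.ofHom (Ideal.Quotient.mk J))).ker.ideal U) := by
  intro x
  refine ⟨⟨⊤, isAffineOpen_top _⟩, trivial, ?_⟩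
  obtain ⟨k, hk⟩ := hJ
  refine ⟨k, ?_⟩
  rw [Ideal.zero_eq_bot, eq_bot_iff]
  have hI : ((Spec.map (CommRingCat.ofHom (Ideal.Quotient.mk J))).ker.ideal
      ⟨⊤, isAffineOpen_top _⟩).map (Scheme.ΓSpecIso (CommRingCat.of R)).hom.hom ≤ J := by
    rw [Ideal.map_le_iff_le_comap]
    intro a ha
    rw [Scheme.Hom.ker_apply, RingHom.mem_ker] at ha
    have nat := Scheme.ΓSpecIso_naturality (CommRingCat.ofHom (Ideal.Quotient.mk J))
    have h2 := congrArg (fun h => h.hom a) nat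
    simp only [CommRingCat.hom_comp, RingHom.comp_apply] at h2
    rw [Ideal.mem_comap, ← Ideal.Quotient.eq_zero_iff_mem]
    have h3 : ((Spec.map (CommRingCat.ofHom (Ideal.Quotient.mk J))).appTop).hom a = 0 := ha
    rw [h3, map_zero] at h2
    exact h2.symm
  intro a ha
  have h1 : (Scheme.ΓSpecIso (CommRingCat.of R)).hom.hom a ∈
      (((Spec.map (CommRingCat.ofHom (Ideal.Quotient.mk J))).ker.ideal
      ⟨⊤, isAffineOpen_top _⟩).map (Scheme.ΓSpecIso (CommRingCat.of R)).hom.hom) ^ k := by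
    rw [← Ideal.map_pow]
    exact Ideal.mem_map_of_mem _ ha
  have h2 := Ideal.pow_right_mono hI k h1
  rw [hk] at h2
  have h3 : (Scheme.ΓSpecIso (CommRingCat.of R)).hom.hom a = 0 := h2
  have h4 := congrArg ((Scheme.ΓSpecIso (CommRingCat.of R)).inv.hom) h3
  rw [map_zero] at h4
  rw [Ideal.mem_bot]
  simpa using h4


lemma hloc_of_hnil {S S₀ : Scheme.{u}} (i₀ : S₀ ⟶ S) [IsClosedImmersion i₀]
    (hnil : ∀ x : S, ∃ U : S.affineOpens, x ∈ (U : S.Opens) ∧ IsNilpotent (i₀.ker.ideal U))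
    {T : Scheme.{u}} (fT : T ⟶ S) (t : T) :
    ∃ (W : T.Opens) (hW : IsAffineOpen W) (I : Ideal Γ(T, W)), t ∈ W ∧ IsNilpotent I ∧
      Nonempty ((Over.map fT).obj (Over.mk (Spec.map (CommRingCat.ofHom (Ideal.Quotient.mk I)) ≫
        hW.fromSpec)) ⟶ Over.mk i₀) := by
  obtain ⟨V, htV, hV⟩ := hnil (fT t)
  have ht : t ∈ fT ⁻¹ᵁ V.1 := htV
  obtain ⟨_, ⟨W, hW : IsAffineOpen W, rfl⟩, htW, hWV⟩ :=
    T.isBasis_affineOpens.exists_subset_of_mem_open ht (fT ⁻¹ᵁ V.1).2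
  refine ⟨W, hW, (i₀.ker.ideal V).map (fT.appLE V.1 W hWV).hom, htW, ?_, ?_⟩
  · obtain ⟨k, hk⟩ := hV
    refine ⟨k, ?_⟩
    rw [← Ideal.map_pow, hk, Ideal.zero_eq_bot, Ideal.map_bot]
    rfl
  · obtain ⟨h, hh⟩ := lift_closed i₀ V
      (fT.appLE V.1 W hWV ≫ CommRingCat.ofHom (Ideal.Quotient.mk
        ((i₀.ker.ideal V).map (fT.appLE V.1 W hWV).hom)))
      (by
        intro r hr
        show Ideal.Quotient.mk _ _ = 0
        rw [Ideal.Quotient.eq_zero_iff_mem]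
        exact Ideal.mem_map_of_mem _ hr)
    refine ⟨Over.homMk h ?_⟩
    show h ≫ i₀ = (Spec.map _ ≫ hW.fromSpec) ≫ fT
    rw [hh, Spec.map_comp, Category.assoc, Category.assoc,
      IsAffineOpen.SpecMap_appLE_fromSpec fT V.2 hW hWV]

section AtTMain

variable {R : Type u} [CommRing R] (J : Ideal R) (hJ : IsNilpotent J)
  {G A A' : Over (Spec (CommRingCat.of R))} [GrpObj G] [GrpObj A] [GrpObj A']
  (iA : A ⟶ G) [IsMonHom iA] (iA' : A' ⟶ G) [IsMonHom iA'] [Mono iA']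

include hJ in
theorem at_T
    (hc : (∀ (X : Over (Spec (CommRingCat.of R))) (g : X ⟶ G) (h : X ⟶ A),
        g * (h ≫ iA) = (h ≫ iA) * g) ∨
      (∀ (X : Over (Spec (CommRingCat.of R))) (g : X ⟶ G) (h : X ⟶ A'),
        g * (h ≫ iA') = (h ≫ iA') * g))
    (h0 : ∀ (Y : Over (Spec (CommRingCat.of R)))
      (_ : Y ⟶ Over.mk (Spec.map (CommRingCat.ofHom (Ideal.Quotient.mk J)))) (h : Y ⟶ A),
      ∃ h' : Y ⟶ A', h' ≫ iA' = h ≫ iA)
    {B : Type u} [CommRing B] (φ : R →+* B) (N N' : Type) [AddCommGroup N] [AddCommGroup N']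
    (e : Grp.mk (Red.bc (Spec.map (CommRingCat.ofHom φ)) A) ≅
      Grp.mk (Red.DS (Spec (CommRingCat.of B)) N))
    (e' : Grp.mk (Red.bc (Spec.map (CommRingCat.ofHom φ)) A') ≅
      Grp.mk (Red.DS (Spec (CommRingCat.of B)) N')) :
    QQ iA iA' (Spec.map (CommRingCat.ofHom φ)) := by
  let fT := Spec.map (CommRingCat.ofHom φ)
  let i₀ := Spec.map (CommRingCat.ofHom (Ideal.Quotient.mk J))
  have : IsClosedImmersion i₀ :=
    IsClosedImmersion.spec_of_surjective _ Ideal.Quotient.mk_surjective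
  let P : Over (Spec (CommRingCat.of B)) → Prop := fun Y =>
    Nonempty ((Over.map fT).obj Y ⟶ Over.mk i₀)
  have hP : ∀ {Y Y' : Over (Spec (CommRingCat.of B))} (_ : Y' ⟶ Y), P Y → P Y' := by
    rintro Y Y' w ⟨p⟩
    exact ⟨(Over.map fT).map w ≫ p⟩
  have hloc : ∀ t : ↥(Spec (CommRingCat.of B)), ∃ (W : (Spec (CommRingCat.of B)).Opens)
      (hW : IsAffineOpen W) (I : Ideal Γ(Spec (CommRingCat.of B), W)), t ∈ W ∧
      IsNilpotent I ∧
      P (Over.mk (Spec.map (CommRingCat.ofHom (Ideal.Quotient.mk I)) ≫ hW.fromSpec)) :=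
    fun t => hloc_of_hnil i₀ (hnil_spec J hJ) fT t
  have h𝔧 : IsNilpotent (J.map φ) := by
    obtain ⟨k, hk⟩ := hJ
    refine ⟨k, ?_⟩
    rw [← Ideal.map_pow, hk, Ideal.zero_eq_bot, Ideal.map_bot]
    rfl
  have hP0 : P (YC (Ideal.Quotient.mk (J.map φ))) := by
    refine ⟨Over.homMk (Spec.map (CommRingCat.ofHom
      (Ideal.quotientMap (J.map φ) φ Ideal.le_comap_map))) ?_⟩
    show Spec.map _ ≫ Spec.map _ = Spec.map _ ≫ Spec.map _
    rw [← Spec.map_comp, ← Spec.map_comp]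
    congr 1
  have hPk : ∀ Y, P Y → ∀ r ∈ J.map φ, ptHom Y.hom r = 0 := by
    rintro Y ⟨p⟩
    have hle : J.map φ ≤ RingHom.ker (ptHom Y.hom) := by
      rw [Ideal.map_le_iff_le_comap]
      intro a ha
      rw [Ideal.mem_comap, RingHom.mem_ker]
      have h1 : (ptHom Y.hom).comp φ = ptHom (Y.hom ≫ fT) := (ptHom_comp_SpecMap _ _).symm
      have h2 : Y.hom ≫ fT = p.left ≫ i₀ := (Over.w p).symm
      have h3 : ptHom (p.left ≫ i₀) = (ptHom p.left).comp (Ideal.Quotient.mk J) :=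
        ptHom_comp_SpecMap _ _
      have h4 := RingHom.congr_fun h1 a
      rw [RingHom.comp_apply] at h4
      rw [h4, h2, h3, RingHom.comp_apply, Ideal.Quotient.eq_zero_iff_mem.mpr ha, map_zero]
    intro r hr
    exact hle hr
  let uA := ptHomOf fT iA N e
  let uA' := ptHomOf fT iA' N' e'
  have hinj : ∀ {Y : Over (Spec (CommRingCat.of B))}
      (d d' : Y ⟶ Red.DS (Spec (CommRingCat.of B)) N'), uA'.u d = uA'.u d' → d = d' :=
    fun d d' h => ptHomOf_inj fT iA' N' e' d d' h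
  have hc' : (∀ {Y : Over (Spec (CommRingCat.of B))} (c : Y ⟶ Red.DS (Spec (CommRingCat.of B)) N)
        (g : (Over.map fT).obj Y ⟶ G), g * uA.u c = uA.u c * g) ∨
      (∀ {Y : Over (Spec (CommRingCat.of B))} (d : Y ⟶ Red.DS (Spec (CommRingCat.of B)) N')
        (g : (Over.map fT).obj Y ⟶ G), g * uA'.u d = uA'.u d * g) := by
    rcases hc with hc | hc
    · exact Or.inl (fun c g => hc _ g _)
    · exact Or.inr (fun d g => hc _ g _)
  have hagree : ∀ {Y : Over (Spec (CommRingCat.of B))}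
      (c : Y ⟶ Red.DS (Spec (CommRingCat.of B)) N), P Y →
      ∃ d : Y ⟶ Red.DS (Spec (CommRingCat.of B)) N', uA'.u d = uA.u c := by
    rintro Y c ⟨p⟩
    obtain ⟨h', hh'⟩ := h0 _ p (toBase fT (c ≫ e.inv.hom.hom))
    exact ⟨tbInv fT h' ≫ e'.hom.hom.hom, by rw [ptHomOf_surj]; exact hh'⟩
  intro Y t ht hA
  let Y' : Over (Spec (CommRingCat.of B)) := Over.mk t
  let e1 : Y ⟶ (Over.map fT).obj Y' := Over.homMk (𝟙 _) (by rw [Category.id_comp]; exact ht)
  let e2 : (Over.map fT).obj Y' ⟶ Y := Over.homMk (𝟙 _) (by rw [Category.id_comp]; exact ht.symm)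
  have he12 : e1 ≫ e2 = 𝟙 Y := by
    ext
    simp [e1, e2]
  obtain ⟨d, hd⟩ := loc_main fT uA uA' hinj hc' P hP hloc (J.map φ) h𝔧 hP0 hPk hagree
    (Y := Y') (tbInv fT (e2 ≫ hA) ≫ e.hom.hom.hom)
  refine ⟨e1 ≫ toBase fT (d ≫ e'.inv.hom.hom), ?_⟩
  have hd' : toBase fT (d ≫ e'.inv.hom.hom) ≫ iA' = (e2 ≫ hA) ≫ iA := by
    have := hd
    rw [ptHomOf_surj] at this
    exact this
  rw [Category.assoc, hd', ← Category.assoc, ← Category.assoc, he12, Category.id_comp]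

end AtTMain


section Global

open Groth.Agent.Lib.Helper40.FpqcCov CategoryTheory.Limits

variable {R : Type u} [CommRing R] (J : Ideal R) (hJ : IsNilpotent J)
  {G A A' : Over (Spec (CommRingCat.of R))} [GrpObj G] [GrpObj A] [GrpObj A']
  (iA : A ⟶ G) [IsMonHom iA] (iA' : A' ⟶ G) [IsMonHom iA'] [Mono iA'.left]

include hJ in
theorem QQ_global
    (hA : TwC.Locally (Spec (CommRingCat.of R)) TwC.Topology.fpqc (fun S' f => ∃ (M : Type) (_ : AddCommGroup M), Nonempty (Grp.mk (Red.bc f A) ≅ Grp.mk (Red.DS S' M))))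
    (hA' : TwC.Locally (Spec (CommRingCat.of R)) TwC.Topology.fpqc (fun S' f => ∃ (M : Type) (_ : AddCommGroup M), Nonempty (Grp.mk (Red.bc f A') ≅ Grp.mk (Red.DS S' M))))
    (hc : (∀ (X : Over (Spec (CommRingCat.of R))) (g : X ⟶ G) (h : X ⟶ A),
        g * (h ≫ iA) = (h ≫ iA) * g) ∨
      (∀ (X : Over (Spec (CommRingCat.of R))) (g : X ⟶ G) (h : X ⟶ A'),
        g * (h ≫ iA') = (h ≫ iA') * g))
    (h0 : ∀ (Y : Over (Spec (CommRingCat.of R)))
      (_ : Y ⟶ Over.mk (Spec.map (CommRingCat.ofHom (Ideal.Quotient.mk J)))) (h : Y ⟶ A),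
      ∃ h' : Y ⟶ A', h' ≫ iA' = h ≫ iA) :
    QQ iA iA' (𝟙 (Spec (CommRingCat.of R))) := by
  have : Mono iA' := Over.mono_of_mono_left iA'
  obtain ⟨S', f, hflat, hsurj, hqc, hlocA⟩ := hA
  obtain ⟨S'', f', hflat', hsurj', hqc', hlocA'⟩ := hA'
  have hq1 : IsQCov f := ⟨hsurj, hflat, hqc⟩
  have hq2 : IsQCov f' := ⟨hsurj', hflat', hqc'⟩
  refine descend_QQ iA iA' (𝟙 _) f hq1 ?_
  intro z
  obtain ⟨U, hzU, N, _, ⟨e⟩⟩ := hlocA z
  refine ⟨U, U.ι, inferInstance, by rw [Scheme.Opens.range_ι]; exact hzU, ?_⟩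
  refine descend_QQ iA iA' (U.ι ≫ f ≫ 𝟙 _) (pullback.fst (U.ι ≫ f ≫ 𝟙 _) f')
    (hq2.pullback_fst _) ?_
  intro z₂
  obtain ⟨U'', hU'', N', _, ⟨e'⟩⟩ := hlocA' ((pullback.snd (U.ι ≫ f ≫ 𝟙 _) f') z₂)
  have hz₂ : z₂ ∈ (pullback.snd (U.ι ≫ f ≫ 𝟙 _) f') ⁻¹ᵁ U'' := hU''
  obtain ⟨_, ⟨V₂, hV₂ : IsAffineOpen V₂, rfl⟩, hzV₂, hVU⟩ :=
    (pullback (U.ι ≫ f ≫ 𝟙 _) f').isBasis_affineOpens.exists_subset_of_mem_open hz₂
      ((pullback.snd (U.ι ≫ f ≫ 𝟙 _) f') ⁻¹ᵁ U'').2
  refine ⟨_, hV₂.fromSpec, inferInstance, by rw [hV₂.range_fromSpec]; exact hzV₂, ?_⟩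
  obtain ⟨φ, hφ⟩ : ∃ φ : R →+* Γ(pullback (U.ι ≫ f ≫ 𝟙 _) f', V₂),
      hV₂.fromSpec ≫ pullback.fst (U.ι ≫ f ≫ 𝟙 _) f' ≫ U.ι ≫ f ≫ 𝟙 _ =
        Spec.map (CommRingCat.ofHom φ) := by
    refine ⟨(Spec.preimage (hV₂.fromSpec ≫ pullback.fst (U.ι ≫ f ≫ 𝟙 _) f' ≫ U.ι ≫ f ≫ 𝟙 _)).hom, ?_⟩
    rw [CommRingCat.ofHom_hom, Spec.map_preimage]
  rw [hφ]
  obtain ⟨e₁⟩ := grpIso_bc (U.ι ≫ f) A N e (hV₂.fromSpec ≫ pullback.fst (U.ι ≫ f ≫ 𝟙 _) f')
    (Spec.map (CommRingCat.ofHom φ)) (by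
      rw [← hφ]
      simp only [Category.assoc, Category.comp_id])
  have hr : Set.range (hV₂.fromSpec ≫ pullback.snd (U.ι ≫ f ≫ 𝟙 _) f') ⊆ Set.range U''.ι := by
    rw [Scheme.Opens.range_ι]
    rintro _ ⟨x, rfl⟩
    have hx : hV₂.fromSpec x ∈ V₂ := by
      have : hV₂.fromSpec x ∈ Set.range hV₂.fromSpec := ⟨x, rfl⟩
      rw [hV₂.range_fromSpec] at this
      exact this
    exact hVU hx
  obtain ⟨e₂⟩ := grpIso_bc (U''.ι ≫ f') A' N' e'
    (IsOpenImmersion.lift U''.ι (hV₂.fromSpec ≫ pullback.snd (U.ι ≫ f ≫ 𝟙 _) f') hr)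
    (Spec.map (CommRingCat.ofHom φ)) (by
      rw [← hφ]
      have h1 := IsOpenImmersion.lift_fac U''.ι
        (hV₂.fromSpec ≫ pullback.snd (U.ι ≫ f ≫ 𝟙 _) f') hr
      have h2 := pullback.condition (f := U.ι ≫ f ≫ 𝟙 _) (g := f')
      calc _ = (IsOpenImmersion.lift U''.ι
              (hV₂.fromSpec ≫ pullback.snd (U.ι ≫ f ≫ 𝟙 _) f') hr ≫ U''.ι) ≫ f' :=
            (Category.assoc _ _ _).symm
        _ = (hV₂.fromSpec ≫ pullback.snd (U.ι ≫ f ≫ 𝟙 _) f') ≫ f' := by rw [h1]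
        _ = hV₂.fromSpec ≫ pullback.fst (U.ι ≫ f ≫ 𝟙 _) f' ≫ (U.ι ≫ f ≫ 𝟙 _) := by
            rw [Category.assoc, ← h2])
  exact at_T J hJ iA iA' hc h0 φ N N' e₁ e₂


end Global

end AtT

section Final

variable {S S₀ : Scheme.{u}} (i₀ : S₀ ⟶ S) {A A' G : Over S} (iA : A ⟶ G) (iA' : A' ⟶ G)

/-- point form of an identification of the restrictions to `S₀` -/
lemma pts_of_iso (ψ : Red.bc i₀ A ≅ Red.bc i₀ A')
    (hψ : ψ.hom ≫ (Over.pullback i₀).map iA' = (Over.pullback i₀).map iA)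
    (Y : Over S) (p : Y ⟶ Over.mk i₀) (h : Y ⟶ A) : ∃ h' : Y ⟶ A', h' ≫ iA' = h ≫ iA := by
  let Y₀ : Over S₀ := Over.mk p.left
  let e1 : Y ⟶ (Over.map i₀).obj Y₀ := Over.homMk (𝟙 _) (by
    rw [Category.id_comp]; exact Over.w p)
  let e2 : (Over.map i₀).obj Y₀ ⟶ Y := Over.homMk (𝟙 _) (by
    rw [Category.id_comp]; exact (Over.w p).symm)
  have he12 : e1 ≫ e2 = 𝟙 Y := by
    ext
    simp [e1, e2]
  refine ⟨e1 ≫ toBase i₀ (tbInv i₀ (e2 ≫ h) ≫ ψ.hom), ?_⟩
  rw [Category.assoc, ← toBase_map, Category.assoc, hψ, toBase_map, toBase_tbInv,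
    ← Category.assoc, ← Category.assoc, he12, Category.id_comp]

end Final

theorem main_aux {R : Type u} [CommRing R] (J : Ideal R) (hJ : IsNilpotent J)
    (G H H' : Over (Spec (CommRingCat.of R))) [GrpObj G] [GrpObj H] [GrpObj H']
    (hH : TwC.Locally (Spec (CommRingCat.of R)) TwC.Topology.fpqc (fun S' f => ∃ (M : Type) (_ : AddCommGroup M), Nonempty (Grp.mk (Red.bc f H) ≅ Grp.mk (Red.DS S' M))))
    (hH' : TwC.Locally (Spec (CommRingCat.of R)) TwC.Topology.fpqc (fun S' f => ∃ (M : Type) (_ : AddCommGroup M), Nonempty (Grp.mk (Red.bc f H') ≅ Grp.mk (Red.DS S' M))))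
    (i : H ⟶ G) [IsMonHom i] [IsImmersion i.left] (i' : H' ⟶ G) [IsMonHom i'] [IsImmersion i'.left]
    (hc : ∀ (X : Over (Spec (CommRingCat.of R))) (g : X ⟶ G) (h : X ⟶ H), g * (h ≫ i) = (h ≫ i) * g)
    (h0 : ∃ ψ : Red.bc (Spec.map (CommRingCat.ofHom (Ideal.Quotient.mk J))) H ≅ Red.bc (Spec.map (CommRingCat.ofHom (Ideal.Quotient.mk J))) H',
      ψ.hom ≫ (Over.pullback (Spec.map (CommRingCat.ofHom (Ideal.Quotient.mk J)))).map i' = (Over.pullback (Spec.map (CommRingCat.ofHom (Ideal.Quotient.mk J)))).map i) :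
    ∃ φ : H ≅ H', φ.hom ≫ i' = i := by
  obtain ⟨ψ, hψ⟩ := h0
  have hψ' : ψ.inv ≫ (Over.pullback (Spec.map (CommRingCat.ofHom (Ideal.Quotient.mk J)))).map i =
      (Over.pullback (Spec.map (CommRingCat.ofHom (Ideal.Quotient.mk J)))).map i' := by
    rw [Iso.inv_comp_eq, hψ]
  have h01 := pts_of_iso (Spec.map (CommRingCat.ofHom (Ideal.Quotient.mk J))) i i' ψ hψ
  have h02 := pts_of_iso (Spec.map (CommRingCat.ofHom (Ideal.Quotient.mk J))) i' i ψ.symm hψ'
  have Q1 := QQ_global J hJ i i' hH hH' (Or.inl hc) h01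
  have Q2 := QQ_global J hJ i' i hH' hH (Or.inr hc) h02
  obtain ⟨φ, hφ⟩ := Q1 H H.hom (Category.comp_id _) (𝟙 H)
  obtain ⟨φ', hφ'⟩ := Q2 H' H'.hom (Category.comp_id _) (𝟙 H')
  rw [Category.id_comp] at hφ hφ'
  have : Mono i := Over.mono_of_mono_left i
  have : Mono i' := Over.mono_of_mono_left i'
  refine ⟨⟨φ, φ', ?_, ?_⟩, hφ⟩
  · rw [← cancel_mono i, Category.assoc, hφ', hφ, Category.id_comp]
  · rw [← cancel_mono i', Category.assoc, hφ, hφ', Category.id_comp]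

/-- Let S = Spec R be affine, J a nilpotent ideal of R and S₀ = Spec (R/J); let G be an arbitrary
S-group and i : H ⟶ G, i' : H' ⟶ G two sub-group-schemes (homomorphisms which are immersions) of
multiplicative type (fpqc-locally on S isomorphic, as groups, to diagonalisable groups D(M), M
allowed to vary and taken in Type 0), with H central in G (every point of G commutes with every
point of H). If H ×_S S₀ and H' ×_S S₀ coincide as subgroups of G ×_S S₀, then H = H' as subgroups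
of G: there is an isomorphism H ≅ H' compatible with i and i'. -/
theorem result {R : Type u} [CommRing R] (J : Ideal R) (hJ : IsNilpotent J)
    (G H H' : Over (Spec (CommRingCat.of R))) [GrpObj G] [GrpObj H] [GrpObj H']
    (hH : TwC.Locally (Spec (CommRingCat.of R)) TwC.Topology.fpqc (fun S' f => ∃ (M : Type) (_ : AddCommGroup M), Nonempty (Grp.mk (Red.bc f H) ≅ Grp.mk (Red.DS S' M))))
    (hH' : TwC.Locally (Spec (CommRingCat.of R)) TwC.Topology.fpqc (fun S' f => ∃ (M : Type) (_ : AddCommGroup M), Nonempty (Grp.mk (Red.bc f H') ≅ Grp.mk (Red.DS S' M))))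
    (i : H ⟶ G) [IsMonHom i] [IsImmersion i.left] (i' : H' ⟶ G) [IsMonHom i'] [IsImmersion i'.left]
    (hc : ∀ (X : Over (Spec (CommRingCat.of R))) (g : X ⟶ G) (h : X ⟶ H), g * (h ≫ i) = (h ≫ i) * g)
    (h0 : ∃ ψ : Red.bc (Spec.map (CommRingCat.ofHom (Ideal.Quotient.mk J))) H ≅ Red.bc (Spec.map (CommRingCat.ofHom (Ideal.Quotient.mk J))) H',
      ψ.hom ≫ (Over.pullback (Spec.map (CommRingCat.ofHom (Ideal.Quotient.mk J)))).map i' = (Over.pullback (Spec.map (CommRingCat.ofHom (Ideal.Quotient.mk J)))).map i) :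
    ∃ φ : H ≅ H', φ.hom ≫ i' = i := by
  exact main_aux J hJ G H H' hH hH' i i' hc h0

end Groth.Agent.S5290
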