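import Groth.Statements.S5284
import Groth.Agent.S5290
import Mathlib

set_option autoImplicit false
open CategoryTheory MonoidalCategory CartesianMonoidalCategory MonObj GrpObj AlgebraicGeometry
universe u
open SGA3x

namespace Groth.Agent.S5284

open Groth.Agent.Lib.Helper43 Groth.Agent.Lib.Helper60.WittTorus Groth.Agent.Lib.Helper60.DiagChar
open Groth.Agent.S5279

section Alg
variable {A : Type u} [CommRing A] {M : Type} [AddCommGroup M]

lemma ev_eq_sum (v : MonoidAlgebra A (Multiplicative M)) :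
    ev (RingHom.id A) 1 v = v.coeff.sum (fun _ c => c) := by
  induction v using MonoidAlgebra.induction_linear with
  | zero => simp
  | add x y hx hy =>
    rw [map_add, hx, hy, MonoidAlgebra.coeff_add, Finsupp.sum_add_index'] <;> simp
  | single k c =>
    rw [ev_single, MonoidAlgebra.coeff_single, Finsupp.sum_single_index rfl]
    simp

open scoped Classical in
theorem alg_free (ρ : A →+* MonoidAlgebra A (Multiplicative M))
    (h_one : ∀ a, ev (RingHom.id A) 1 (ρ a) = a)
    (h_mul : ∀ a, ev (MonoidAlgebra.singleOneRingHom) (chi1 A M * chi2 A M) (ρ a) =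
      ev (op ρ (MonoidAlgebra.singleOneRingHom) (chi2 A M)) (chi1 A M) (ρ a))
    (hfree : ∀ (C : Type u) [CommRing C] (z : A →+* C) (χ : Multiplicative M →* C),
      op ρ z χ = z → χ = 1) :
    Subring.closure (Set.range ρ ∪
      Set.range (MonoidAlgebra.singleOneRingHom : A →+* MonoidAlgebra A (Multiplicative M))) = ⊤ := by
  have idem : ∀ a n m, (ρ ((ρ a).coeff n)).coeff m = if n = m then (ρ a).coeff m else 0 := by
    intro a n m
    have := congrArg (fun v => MonoidAlgebra.coeff v (n, m)) (h_mul a)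
    simp only [coeff_ev_diag, coeff_ev_twice] at this
    exact this.symm
  have F1 : ∀ a n, ρ ((ρ a).coeff n) = MonoidAlgebra.single n ((ρ a).coeff n) := by
    intro a n
    ext m
    rw [idem, MonoidAlgebra.coeff_single, Finsupp.single_apply]
    split_ifs with h
    · rw [h]
    · rfl
  have hmul : ∀ n k b c, ρ b = MonoidAlgebra.single n b → ρ c = MonoidAlgebra.single k c →
      ρ (b * c) = MonoidAlgebra.single (n * k) (b * c) := by
    intro n k b c hb hc
    rw [map_mul, hb, hc, MonoidAlgebra.single_mul_single]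
  have hdec : ∀ (K : AddSubgroup A), (∀ n b, ρ b = MonoidAlgebra.single n b → b ∈ K) →
      ∀ a, a ∈ K := by
    intro K hK a
    rw [← h_one a, ev_eq_sum]
    exact K.sum_mem (fun n _ => hK n _ (F1 a n))
  -- the key claim
  have hI : ∀ m : Multiplicative M,
      Ideal.span {b | ρ b = MonoidAlgebra.single m b} = ⊤ := by
    intro m
    by_contra hne
    obtain ⟨𝔭, h𝔭max, hle⟩ := Ideal.exists_le_maximal _ hne
    have h𝔭 : 𝔭.IsPrime := h𝔭max.isPrime
    let P : Multiplicative M → Prop := fun n => ∃ b, ρ b = MonoidAlgebra.single n b ∧ b ∉ 𝔭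
    have hP1 : P 1 := ⟨1, by rw [map_one]; rfl, (Ideal.ne_top_iff_one 𝔭).mp h𝔭.ne_top⟩
    have hPmul : ∀ n k, P n → P k → P (n * k) := by
      rintro n k ⟨b, hb, hb'⟩ ⟨c, hc, hc'⟩
      exact ⟨b * c, hmul n k b c hb hc, fun h => (h𝔭.mem_or_mem h).elim hb' hc'⟩
    have hPm : ¬ P m := by
      rintro ⟨b, hb, hnb⟩
      exact hnb (hle (Ideal.subset_span hb))
    let H : Subgroup (Multiplicative M) :=
      { carrier := {n | P n ∧ P n⁻¹}
        mul_mem' := by
          rintro n k ⟨h1, h2⟩ ⟨h3, h4⟩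
          refine ⟨hPmul n k h1 h3, ?_⟩
          rw [_root_.mul_inv]
          exact hPmul _ _ h2 h4
        one_mem' := ⟨hP1, by rw [inv_one]; exact hP1⟩
        inv_mem' := by
          rintro n ⟨h1, h2⟩
          exact ⟨h2, by rw [_root_.inv_inv]; exact h1⟩ }
    have hmH : m ∉ H := fun h => hPm h.1
    let 𝔮 : Ideal A := Ideal.span {b | ∃ n, n ∉ H ∧ ρ b = MonoidAlgebra.single n b}
    have claim : ∀ b ∈ 𝔮, ∀ c : A, (ρ (c * b)).coeff 1 ∈ 𝔭 := by
      intro b hb
      refine Submodule.span_induction (p := fun x _ => ∀ c : A, (ρ (c * x)).coeff 1 ∈ 𝔭)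
        ?_ ?_ ?_ ?_ hb
      · rintro b ⟨n, hn, hb⟩ c
        rw [map_mul, hb, MonoidAlgebra.coeff_mul_single_apply, _root_.one_mul]
        by_cases h1 : P n
        · have h2 : ¬ P n⁻¹ := fun h2 => hn ⟨h1, h2⟩
          have h3 : (ρ c).coeff n⁻¹ ∈ 𝔭 := by
            by_contra h3
            exact h2 ⟨_, F1 c n⁻¹, h3⟩
          exact 𝔭.mul_mem_right _ h3
        · have h3 : b ∈ 𝔭 := by
            by_contra h3
            exact h1 ⟨b, hb, h3⟩
          exact 𝔭.mul_mem_left _ h3
      · intro c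
        simp
      · intro x y _ _ hx hy c
        rw [mul_add, map_add, MonoidAlgebra.coeff_add, Finsupp.add_apply]
        exact add_mem (hx c) (hy c)
      · intro a x _ hx c
        rw [smul_eq_mul, ← _root_.mul_assoc]
        exact hx (c * a)
    have h1𝔮 : (1 : A) ∉ 𝔮 := by
      intro h
      have h2 := claim 1 h 1
      rw [_root_.mul_one, map_one ρ, MonoidAlgebra.one_def, MonoidAlgebra.coeff_single,
        Finsupp.single_eq_same] at h2
      exact (Ideal.ne_top_iff_one 𝔭).mp h𝔭.ne_top h2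
    let C := MonoidAlgebra (A ⧸ 𝔮) (Multiplicative M ⧸ H)
    let z : A →+* C := (MonoidAlgebra.singleOneRingHom).comp (Ideal.Quotient.mk 𝔮)
    let χ : Multiplicative M →* C :=
      (MonoidAlgebra.of (A ⧸ 𝔮) (Multiplicative M ⧸ H)).comp (QuotientGroup.mk' H)
    have hz : op ρ z χ = z := by
      apply RingHom.ext
      intro a
      refine hdec ((op ρ z χ : A →+ C).eqLocus (z : A →+ C)) ?_ a
      intro n b hb
      show op ρ z χ b = z b
      show ev z χ (ρ b) = z b
      rw [hb, ev_single]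
      by_cases hn : n ∈ H
      · have : χ n = 1 := by
          show MonoidAlgebra.of _ _ (QuotientGroup.mk' H n) = 1
          rw [QuotientGroup.mk'_apply, (QuotientGroup.eq_one_iff n).mpr hn, map_one]
        rw [this, _root_.mul_one]
      · have hbq : b ∈ 𝔮 := Ideal.subset_span ⟨n, hn, hb⟩
        have : z b = 0 := by
          show MonoidAlgebra.singleOneRingHom (Ideal.Quotient.mk 𝔮 b) = 0
          rw [Ideal.Quotient.eq_zero_iff_mem.mpr hbq, map_zero]
        rw [this, zero_mul]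
    have hχ := hfree C z χ hz
    have h2 : χ m = 1 := by rw [hχ]; rfl
    have h3 : (χ m).coeff (QuotientGroup.mk' H m) = (1 : C).coeff (QuotientGroup.mk' H m) := by
      rw [h2]
    have h4 : χ m = MonoidAlgebra.single (QuotientGroup.mk' H m) 1 := rfl
    rw [h4, MonoidAlgebra.one_def, MonoidAlgebra.coeff_single, MonoidAlgebra.coeff_single,
      Finsupp.single_eq_same, Finsupp.single_apply] at h3
    have h5 : (1 : Multiplicative M ⧸ H) ≠ QuotientGroup.mk' H m := by
      intro h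
      exact hmH ((QuotientGroup.eq_one_iff m).mp h.symm)
    rw [if_neg h5] at h3
    exact h1𝔮 (Ideal.Quotient.eq_zero_iff_mem.mp (by
      rw [map_one]; exact h3))
  -- conclusion
  have hsingle : ∀ m : Multiplicative M, MonoidAlgebra.single m (1 : A) ∈
      Subring.closure (Set.range ρ ∪
        Set.range (MonoidAlgebra.singleOneRingHom : A →+* MonoidAlgebra A (Multiplicative M))) := by
    intro m
    have h1 : (1 : A) ∈ Ideal.span {b | ρ b = MonoidAlgebra.single m b} := by
      rw [hI m]; trivial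
    refine Submodule.span_induction (p := fun y _ => MonoidAlgebra.single m y ∈
      Subring.closure (Set.range ρ ∪
        Set.range (MonoidAlgebra.singleOneRingHom : A →+* MonoidAlgebra A (Multiplicative M))))
      ?_ ?_ ?_ ?_ h1
    · intro b hb
      rw [← (hb : ρ b = _)]
      exact Subring.subset_closure (Or.inl ⟨b, rfl⟩)
    · rw [MonoidAlgebra.single_zero]; exact zero_mem _
    · intro x y _ _ hx hy
      rw [MonoidAlgebra.single_add]; exact add_mem hx hy
    · intro c y _ hy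
      have : MonoidAlgebra.single m (c • y) =
          MonoidAlgebra.single (1 : Multiplicative M) c * MonoidAlgebra.single m y := by
        rw [MonoidAlgebra.single_mul_single, _root_.one_mul, smul_eq_mul]
      rw [this]
      exact mul_mem (Subring.subset_closure (Or.inr ⟨c, rfl⟩)) hy
  rw [eq_top_iff]
  intro v _
  induction v using MonoidAlgebra.induction_linear with
  | zero => exact zero_mem _
  | add x y hx hy => exact add_mem (hx trivial) (hy trivial)
  | single n c =>
    have : MonoidAlgebra.single n c =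
        MonoidAlgebra.single (1 : Multiplicative M) c * MonoidAlgebra.single n (1 : A) := by
      rw [MonoidAlgebra.single_mul_single, _root_.one_mul, _root_.mul_one]
    rw [this]
    exact mul_mem (Subring.subset_closure (Or.inr ⟨c, rfl⟩)) (hsingle n)

end Alg

section Core

variable {T : Scheme.{u}} {M : Type} [AddCommGroup M] {X : Over T}
variable {U : X.left.Opens} (hU : IsAffineOpen U) (σ : PtAct T M X)

lemma rho_h_one
    (ρ : Γ(X.left, U) ⟶ CommRingCat.of (MonoidAlgebra Γ(X.left, U) (Multiplicative M)))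
    (hρ : Spec.map ρ ≫ hU.fromSpec = (act1 hU σ).left) :
    ∀ a, ev (RingHom.id Γ(X.left, U)) 1 (ρ.hom a) = a := by
  have hg : gB hU (RingHom.id Γ(X.left, U)) (1 : Multiplicative M →* Γ(X.left, U)) = 1 := by
    apply chFn_injective
    intro m
    rw [chFn_gB, chFn_one]
    simp
  have h1 := smul_B hU σ ρ hρ (RingHom.id _) (RingHom.id _) 1 (xB hU (RingHom.id _)) rfl
  rw [hg, σ.one_smul] at h1
  have h2 := ring_eq_of_fromSpec hU (CommRingCat.ofHom (RingHom.id _))
    (CommRingCat.ofHom (op ρ.hom (RingHom.id _) 1)) h1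
  intro a
  exact (congrArg (fun f => f.hom a) h2).symm

lemma rho_h_mul
    (ρ : Γ(X.left, U) ⟶ CommRingCat.of (MonoidAlgebra Γ(X.left, U) (Multiplicative M)))
    (hρ : Spec.map ρ ≫ hU.fromSpec = (act1 hU σ).left) :
    ∀ a, ev (MonoidAlgebra.singleOneRingHom)
      (chi1 Γ(X.left, U) M * chi2 Γ(X.left, U) M) (ρ.hom a) =
      ev (op ρ.hom (MonoidAlgebra.singleOneRingHom) (chi2 Γ(X.left, U) M))
        (chi1 Γ(X.left, U) M) (ρ.hom a) := by
  let z₀ : Γ(X.left, U) →+* MonoidAlgebra Γ(X.left, U) (Multiplicative M × Multiplicative M) :=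
    MonoidAlgebra.singleOneRingHom
  have hg : gB hU z₀ (chi1 Γ(X.left, U) M) * gB hU z₀ (chi2 Γ(X.left, U) M) =
      gB hU z₀ (chi1 Γ(X.left, U) M * chi2 Γ(X.left, U) M) := by
    apply chFn_injective
    intro m
    rw [chFn_mul, chFn_gB, chFn_gB, chFn_gB, MonoidHom.mul_apply, map_mul]
  have h1 := smul_B hU σ ρ hρ z₀ z₀ (chi1 Γ(X.left, U) M * chi2 Γ(X.left, U) M) (xB hU z₀) rfl
  have h2 := smul_B hU σ ρ hρ z₀ z₀ (chi2 Γ(X.left, U) M) (xB hU z₀) rfl
  have h3 := smul_B hU σ ρ hρ z₀ (op ρ.hom z₀ (chi2 Γ(X.left, U) M)) (chi1 Γ(X.left, U) M)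
    (σ.smul (gB hU z₀ (chi2 Γ(X.left, U) M)) (xB hU z₀)) h2
  rw [← σ.mul_smul, hg, h1] at h3
  have h4 := ring_eq_of_fromSpec hU _ _ h3
  intro a
  exact congrArg (fun f => f.hom a) h4

lemma rho_free
    (hσ : ∀ {Y : Over T} (c : Y ⟶ Red.DS T M) (d : Y ⟶ X), σ.smul c d = d → c = 1)
    (ρ : Γ(X.left, U) ⟶ CommRingCat.of (MonoidAlgebra Γ(X.left, U) (Multiplicative M)))
    (hρ : Spec.map ρ ≫ hU.fromSpec = (act1 hU σ).left)
    (C : Type u) [CommRing C] (z : Γ(X.left, U) →+* C) (χ : Multiplicative M →* C)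
    (h : op ρ.hom z χ = z) : χ = 1 := by
  have h1 := smul_B hU σ ρ hρ z z χ (xB hU z) rfl
  rw [h] at h1
  have h2 : σ.smul (gB hU z χ) (xB hU z) = xB hU z := by
    ext
    exact h1
  have h3 := hσ _ _ h2
  apply MonoidHom.ext
  intro k
  have h4 := chFn_gB hU z χ (Multiplicative.toAdd k)
  rw [h3, chFn_one] at h4
  apply Groth.Agent.S5290.ΓSpecIso_inv_injective C
  rw [MonoidHom.one_apply, map_one]
  exact h4.symm

theorem closure_top
    (hσ : ∀ {Y : Over T} (c : Y ⟶ Red.DS T M) (d : Y ⟶ X), σ.smul c d = d → c = 1)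
    (ρ : Γ(X.left, U) ⟶ CommRingCat.of (MonoidAlgebra Γ(X.left, U) (Multiplicative M)))
    (hρ : Spec.map ρ ≫ hU.fromSpec = (act1 hU σ).left) :
    Subring.closure (Set.range ρ.hom ∪
      Set.range (incl M Γ(X.left, U)).hom) = ⊤ :=
  alg_free ρ.hom (rho_h_one hU σ ρ hρ) (rho_h_mul hU σ ρ hρ) (rho_free hU σ hσ ρ hρ)

/-- the universal property of `Y1` (existence) -/
lemma exists_to_Y1 {Y : Over T} (c : Y ⟶ Red.DS T M) (d : Y ⟶ X) (hd : ∀ y, d.left y ∈ U) :
    ∃ k : Y ⟶ Y1 M hU, k ≫ g1 M hU = c ∧ k ≫ x1 M hU = d := by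
  have hr : Set.range d.left ⊆ Set.range hU.fromSpec := by
    rw [hU.range_fromSpec]
    rintro _ ⟨y, rfl⟩
    exact hd y
  let ζ : Y.left ⟶ Spec (CommRingCat.of Γ(X.left, U)) := IsOpenImmersion.lift hU.fromSpec d.left hr
  have hζ : ζ ≫ hU.fromSpec = d.left := IsOpenImmersion.lift_fac _ _ _
  let χg : Multiplicative M →* Γ(Y.left, ⊤) :=
    { toFun := fun k => chFn (Multiplicative.toAdd k) c
      map_one' := chFn_zero c
      map_mul' := fun a b => chFn_add _ _ c }
  let ζ' : Y.left ⟶ Spec (CommRingCat.of (MonoidAlgebra Γ(X.left, U) (Multiplicative M))) :=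
    Y.left.toSpecΓ ≫ Spec.map (CommRingCat.ofHom (ev (ptHom ζ) χg))
  have hζ' : ptHom ζ' = ev (ptHom ζ) χg := ptHom_toSpecΓ_SpecMap _
  have h1 : ζ' ≫ Spec.map (incl M Γ(X.left, U)) = ζ := by
    apply ptHom_injective
    rw [ptHom_comp_SpecMap, hζ']
    ext a
    show ev _ _ (MonoidAlgebra.single 1 a) = _
    rw [ev_single, map_one, _root_.mul_one]
  have hw : ζ' ≫ (Y1 M hU).hom = Y.hom := by
    have := Over.w d
    rw [← hζ, ← h1] at this
    simpa [Y1] using this
  refine ⟨Over.homMk ζ' hw, ?_, ?_⟩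
  · apply chFn_injective
    intro m
    rw [chFn_comp, chFn_g1]
    show ptHom ζ' (MonoidAlgebra.single (Multiplicative.ofAdd m) 1) = _
    rw [hζ', ev_single, map_one, _root_.one_mul]
    rfl
  · ext
    show ζ' ≫ Spec.map (incl M Γ(X.left, U)) ≫ hU.fromSpec = d.left
    rw [← Category.assoc, h1, hζ]

/-- the universal property of `Y1` (uniqueness) -/
lemma Y1_hom_ext {Y : Over T} (k k' : Y ⟶ Y1 M hU) (h1 : k ≫ g1 M hU = k' ≫ g1 M hU)
    (h2 : k ≫ x1 M hU = k' ≫ x1 M hU) : k = k' := by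
  ext
  apply ptHom_injective
  apply MonoidAlgebra.ringHom_ext
  · intro a
    have h3 : k.left ≫ Spec.map (incl M Γ(X.left, U)) =
        k'.left ≫ Spec.map (incl M Γ(X.left, U)) := by
      rw [← cancel_mono hU.fromSpec]
      have := congrArg (fun f => f.left) h2
      simpa [x1] using this
    have h4 := ptHom_comp_SpecMap k.left (MonoidAlgebra.singleOneRingHom :
      Γ(X.left, U) →+* MonoidAlgebra Γ(X.left, U) (Multiplicative M))
    have h5 := ptHom_comp_SpecMap k'.left (MonoidAlgebra.singleOneRingHom :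
      Γ(X.left, U) →+* MonoidAlgebra Γ(X.left, U) (Multiplicative M))
    have h6 : (ptHom k.left).comp (MonoidAlgebra.singleOneRingHom :
      Γ(X.left, U) →+* MonoidAlgebra Γ(X.left, U) (Multiplicative M)) =
        (ptHom k'.left).comp MonoidAlgebra.singleOneRingHom := by
      rw [← h4, ← h5]
      exact congrArg ptHom h3
    exact RingHom.congr_fun h6 a
  · intro m
    have h3 := congrArg (chFn (Multiplicative.toAdd m)) h1
    rw [chFn_comp, chFn_comp, chFn_g1] at h3
    exact h3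

end Core

section LocalGeom

variable {S : Scheme.{u}} {G X : Over S} [GrpObj G] (a : AlgGrp.Action G X)
variable {T : Scheme.{u}} (fT : T ⟶ S) (M : Type) [AddCommGroup M]
  (e : Grp.mk (Red.bc fT G) ≅ Grp.mk (Red.DS T M))

/-- points of `bc (G ⊗ X)` from pairs -/
noncomputable def toQ {Y : Over T} (c : Y ⟶ Red.DS T M) (d : Y ⟶ Red.bc fT X) :
    Y ⟶ Red.bc fT (G ⊗ X) :=
  tbInv fT (lift (toBase fT (c ≫ e.inv.hom.hom)) (toBase fT d))

/-- points of `bc (X ⊗ X)` from pairs -/
noncomputable def toP {Y : Over T} (d₁ d₂ : Y ⟶ Red.bc fT X) : Y ⟶ Red.bc fT (X ⊗ X) :=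
  tbInv fT (lift (toBase fT d₁) (toBase fT d₂))

lemma toQ_graph {Y : Over T} (c : Y ⟶ Red.DS T M) (d : Y ⟶ Red.bc fT X) :
    toQ fT M e c d ≫ (Over.pullback fT).map (lift a.act (snd G X)) =
      toP fT ((ptAct a fT M e).smul c d) d := by
  apply toBase_injective fT
  rw [toBase_map]
  unfold toQ toP
  rw [toBase_tbInv, toBase_tbInv, comp_lift, lift_snd]
  congr 1
  exact (toBase_tbInv fT _).symm

lemma toQ_nat {Y Y' : Over T} (w : Y' ⟶ Y) (c : Y ⟶ Red.DS T M) (d : Y ⟶ Red.bc fT X) :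
    w ≫ toQ fT M e c d = toQ fT M e (w ≫ c) (w ≫ d) := by
  apply toBase_injective fT
  unfold toQ
  rw [toBase_comp, toBase_tbInv, toBase_tbInv, comp_lift, ← toBase_comp, ← toBase_comp,
    Category.assoc]

lemma toP_fst {Y : Over T} (d₁ d₂ : Y ⟶ Red.bc fT X) :
    toP fT d₁ d₂ ≫ (Over.pullback fT).map (fst X X) = d₁ := by
  apply toBase_injective fT
  unfold toP
  rw [toBase_map, toBase_tbInv, lift_fst]

lemma toP_snd {Y : Over T} (d₁ d₂ : Y ⟶ Red.bc fT X) :
    toP fT d₁ d₂ ≫ (Over.pullback fT).map (snd X X) = d₂ := by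
  apply toBase_injective fT
  unfold toP
  rw [toBase_map, toBase_tbInv, lift_snd]

/-- first coordinate of a point of `bc (G ⊗ X)` -/
noncomputable def cOf {Y : Over T} (q : Y ⟶ Red.bc fT (G ⊗ X)) : Y ⟶ Red.DS T M :=
  tbInv fT (toBase fT q ≫ fst G X) ≫ e.hom.hom.hom

/-- second coordinate of a point of `bc (G ⊗ X)` -/
noncomputable def dOf {Y : Over T} (q : Y ⟶ Red.bc fT (G ⊗ X)) : Y ⟶ Red.bc fT X :=
  tbInv fT (toBase fT q ≫ snd G X)

lemma toQ_cOf_dOf {Y : Over T} (q : Y ⟶ Red.bc fT (G ⊗ X)) :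
    toQ fT M e (cOf fT M e q) (dOf fT q) = q := by
  have h1 : e.hom.hom.hom ≫ e.inv.hom.hom = 𝟙 _ := congrArg (fun x => x.hom.hom) e.hom_inv_id
  unfold toQ cOf dOf
  rw [Category.assoc, h1, Category.comp_id, toBase_tbInv, toBase_tbInv, ← comp_lift,
    lift_fst_snd, Category.comp_id, tbInv_toBase]

lemma cOf_toQ {Y : Over T} (c : Y ⟶ Red.DS T M) (d : Y ⟶ Red.bc fT X) :
    cOf fT M e (toQ fT M e c d) = c := by
  have h1 : e.inv.hom.hom ≫ e.hom.hom.hom = 𝟙 _ := congrArg (fun x => x.hom.hom) e.inv_hom_id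
  unfold toQ cOf
  rw [toBase_tbInv, lift_fst, tbInv_toBase, Category.assoc, h1, Category.comp_id]

lemma dOf_toQ {Y : Over T} (c : Y ⟶ Red.DS T M) (d : Y ⟶ Red.bc fT X) :
    dOf fT (toQ fT M e c d) = d := by
  unfold toQ dOf
  rw [toBase_tbInv, lift_snd, tbInv_toBase]

variable {hU : IsAffineOpen (⊤ : (Red.bc fT X).left.Opens)}

variable (hU) in
/-- the comparison morphism -/
noncomputable def w1 : Y1 M hU ⟶ Red.bc fT (G ⊗ X) := toQ fT M e (g1 M hU) (x1 M hU)

variable (hU) in
lemma exists_inv_w1 : ∃ v : Red.bc fT (G ⊗ X) ⟶ Y1 M hU,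
    v ≫ w1 fT M e hU = 𝟙 _ ∧ w1 fT M e hU ≫ v = 𝟙 _ := by
  obtain ⟨v, hv1, hv2⟩ := exists_to_Y1 hU (cOf fT M e (𝟙 (Red.bc fT (G ⊗ X))))
    (dOf fT (𝟙 (Red.bc fT (G ⊗ X)))) (fun _ => trivial)
  have h1 : v ≫ w1 fT M e hU = 𝟙 _ := by
    unfold w1
    rw [toQ_nat, hv1, hv2, toQ_cOf_dOf]
  refine ⟨v, h1, ?_⟩
  apply Y1_hom_ext hU
  · have h2 : (w1 fT M e hU ≫ v) ≫ w1 fT M e hU = 𝟙 _ ≫ w1 fT M e hU := by
      rw [Category.assoc, h1, Category.comp_id, Category.id_comp]
    have h3 := congrArg (cOf fT M e) h2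
    unfold w1 at h3
    rw [toQ_nat, toQ_nat, cOf_toQ, cOf_toQ] at h3
    exact h3
  · have h2 : (w1 fT M e hU ≫ v) ≫ w1 fT M e hU = 𝟙 _ ≫ w1 fT M e hU := by
      rw [Category.assoc, h1, Category.comp_id, Category.id_comp]
    have h3 := congrArg (dOf fT) h2
    unfold w1 at h3
    rw [toQ_nat, toQ_nat, dOf_toQ, dOf_toQ] at h3
    exact h3

end LocalGeom

section Surj

open CategoryTheory.Limits in
set_option backward.isDefEq.respectTransparency.types false in
lemma aff_snd {X Y Z : Scheme.{u}} (f : X ⟶ Z) (g : Y ⟶ Z) (h : IsAffineHom f) :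
    IsAffineHom (pullback.snd f g) :=
  MorphismProperty.pullback_snd (P := @IsAffineHom) _ _ h

open CategoryTheory.Limits in
set_option backward.isDefEq.respectTransparency.types false in
lemma aff_fst {X Y Z : Scheme.{u}} (f : X ⟶ Z) (g : Y ⟶ Z) (h : IsAffineHom g) :
    IsAffineHom (pullback.fst f g) :=
  MorphismProperty.pullback_fst (P := @IsAffineHom) _ _ h

lemma fromSpec_appTop_top {W : Scheme.{u}} (hU : IsAffineOpen (⊤ : W.Opens)) :
    hU.fromSpec.appTop = (Scheme.ΓSpecIso Γ(W, ⊤)).inv := by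
  have := hU.fromSpec_app_self
  rw [Scheme.Hom.appTop, this]
  have h2 : (Spec Γ(W, ⊤)).presheaf.map (eqToHom hU.fromSpec_preimage_self).op = 𝟙 _ := by
    exact (Spec Γ(W, ⊤)).presheaf.map_id _
  exact (congrArg (fun t => (Scheme.ΓSpecIso Γ(W, ⊤)).inv ≫ t) h2).trans (Category.comp_id _)

lemma appTop_fromSpec_top {W : Scheme.{u}} (hU : IsAffineOpen (⊤ : W.Opens)) {R : CommRingCat.{u}}
    (r : Γ(W, ⊤) ⟶ R) :
    (Spec.map r ≫ hU.fromSpec).appTop = r ≫ (Scheme.ΓSpecIso R).inv := by
  rw [Scheme.Hom.comp_appTop, fromSpec_appTop_top, Scheme.ΓSpecIso_inv_naturality]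

lemma appTop_surj_aux {Z W : Scheme.{u}} (hU : IsAffineOpen (⊤ : W.Opens)) {R : CommRingCat.{u}}
    (ψ : Spec R ⟶ Z) (p₁ p₂ : Z ⟶ W) (r₁ r₂ : Γ(W, ⊤) ⟶ R)
    (h₁ : ψ ≫ p₁ = Spec.map r₁ ≫ hU.fromSpec) (h₂ : ψ ≫ p₂ = Spec.map r₂ ≫ hU.fromSpec)
    (hcl : Subring.closure (Set.range r₁.hom ∪ Set.range r₂.hom) = ⊤) :
    Function.Surjective ψ.appTop.hom := by
  have key : ∀ x : R, (Scheme.ΓSpecIso R).inv.hom x ∈ ψ.appTop.hom.range := by
    intro x
    have hx : x ∈ Subring.closure (Set.range r₁.hom ∪ Set.range r₂.hom) := by rw [hcl]; trivial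
    induction hx using Subring.closure_induction with
    | mem x hx =>
      rcases hx with ⟨a, rfl⟩ | ⟨a, rfl⟩
      · refine ⟨p₁.appTop a, ?_⟩
        have h3 : p₁.appTop ≫ ψ.appTop = r₁ ≫ (Scheme.ΓSpecIso R).inv := by
          rw [← Scheme.Hom.comp_appTop, h₁, appTop_fromSpec_top]
        exact congrArg (fun f => f.hom a) h3
      · refine ⟨p₂.appTop a, ?_⟩
        have h3 : p₂.appTop ≫ ψ.appTop = r₂ ≫ (Scheme.ΓSpecIso R).inv := by
          rw [← Scheme.Hom.comp_appTop, h₂, appTop_fromSpec_top]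
        exact congrArg (fun f => f.hom a) h3
    | zero => rw [map_zero]; exact zero_mem _
    | one => rw [map_one]; exact one_mem _
    | add x y _ _ hx hy => rw [map_add]; exact add_mem hx hy
    | neg x _ hx => rw [map_neg]; exact neg_mem hx
    | mul x y _ _ hx hy => rw [map_mul]; exact mul_mem hx hy
  intro y
  obtain ⟨b, hb⟩ := key ((Scheme.ΓSpecIso R).hom.hom y)
  refine ⟨b, ?_⟩
  rw [hb]
  simp

end Surj

section LocalMain

variable {S : Scheme.{u}} {G X : Over S} [GrpObj G] (a : AlgGrp.Action G X)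

open CategoryTheory.Limits in
theorem local_main (hX : IsAffineHom X.hom)
    (hfree : ∀ (Y : Over S) (g : Y ⟶ G) (x : Y ⟶ X), lift g x ≫ a.act = x → g = 1)
    {T : Scheme.{u}} (fT : T ⟶ S) (M : Type) [AddCommGroup M]
    (e : Grp.mk (Red.bc fT G) ≅ Grp.mk (Red.DS T M)) [IsAffine T] :
    IsClosedImmersion ((Over.pullback fT).map (lift a.act (snd G X))).left := by
  have : IsAffineHom X.hom := hX
  have hXX : IsAffineHom (X ⊗ X).hom := by
    rw [Over.tensorObj_hom]
    have : IsAffineHom (pullback.fst X.hom X.hom) := aff_fst _ _ hX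
    infer_instance
  have hs1 : IsAffineHom (pullback.snd X.hom fT) := aff_snd _ _ hX
  have hs2 : IsAffineHom (pullback.snd (X ⊗ X).hom fT) := aff_snd _ _ hXX
  have hA1 : IsAffine (Red.bc fT X).left := isAffine_of_isAffineHom (pullback.snd X.hom fT)
  have hA2 : IsAffine (Red.bc fT (X ⊗ X)).left :=
    isAffine_of_isAffineHom (pullback.snd (X ⊗ X).hom fT)
  have hU := isAffineOpen_top (Red.bc fT X).left
  let σ := ptAct a fT M e
  have hσ : ∀ {Y : Over T} (c : Y ⟶ Red.DS T M) (d : Y ⟶ Red.bc fT X),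
      σ.smul c d = d → c = 1 := by
    intro Y c d h
    have h1 := congrArg (toBase fT) h
    change toBase fT (tbInv fT (pa a (toBase fT (c ≫ e.inv.hom.hom)) (toBase fT d))) = _ at h1
    rw [toBase_tbInv] at h1
    have h2 := hfree _ _ _ h1
    rw [← toBase_one fT] at h2
    have h3 := toBase_injective fT h2
    have h4 : e.inv.hom.hom ≫ e.hom.hom.hom = 𝟙 _ := congrArg (fun x => x.hom.hom) e.inv_hom_id
    calc c = (c ≫ e.inv.hom.hom) ≫ e.hom.hom.hom := by
            rw [Category.assoc, h4, Category.comp_id]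
      _ = 1 ≫ e.hom.hom.hom := by rw [h3]
      _ = 1 := by
        have h : IsMonHom (M := Red.bc fT G) (N := Red.DS T M) e.hom.hom.hom :=
          e.hom.hom.isMonHom_hom
        exact MonObj.one_comp (M := Red.bc fT G) (N := Red.DS T M) e.hom.hom.hom
  obtain ⟨ρ, hρ⟩ := fac hU (act1 hU σ).left (fun _ => trivial)
  have hcl := closure_top hU σ hσ ρ hρ
  obtain ⟨v, hv1, hv2⟩ := exists_inv_w1 fT M e hU
  have hiso : IsIso v.left :=
    ⟨(w1 fT M e hU).left, congrArg (fun f => f.left) hv1, congrArg (fun f => f.left) hv2⟩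
  have hg : w1 fT M e hU ≫ (Over.pullback fT).map (lift a.act (snd G X)) =
      toP fT (act1 hU σ) (x1 M hU) := toQ_graph a fT M e _ _
  have hψ : IsClosedImmersion (toP fT (act1 hU σ) (x1 M hU)).left := by
    have : IsAffine (Y1 M hU).left := by
      show IsAffine (Spec _)
      infer_instance
    apply IsClosedImmersion.of_surjective_of_isAffine
    refine appTop_surj_aux hU _ ((Over.pullback fT).map (fst X X)).left
      ((Over.pullback fT).map (snd X X)).left ρ (incl M _) ?_ ?_ hcl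
    · rw [hρ]
      exact congrArg (fun f => f.left) (toP_fst fT (act1 hU σ) (x1 M hU))
    · exact congrArg (fun f => f.left) (toP_snd fT (act1 hU σ) (x1 M hU))
  have h5 : (Over.pullback fT).map (lift a.act (snd G X)) =
      v ≫ toP fT (act1 hU σ) (x1 M hU) := by
    rw [← hg, ← Category.assoc, hv1, Category.id_comp]
  rw [h5, Over.comp_left]
  infer_instance

end LocalMain

section Global

open Groth.Agent.Lib.Helper40.FpqcCov CategoryTheory.Limits

theorem isPullback_pullback_map_left {C : Type*} [Category C] [HasPullbacks C] {X Y : C}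
    (f : X ⟶ Y) {h k : Over Y} (g : h ⟶ k) :
    IsPullback (pullback.fst h.hom f) ((Over.pullback f).map g).left g.left
      (pullback.fst k.hom f) := by
  refine IsPullback.of_bot (v₂₁ := pullback.snd k.hom f) (v₂₂ := k.hom) (h₃₁ := f) ?_ ?_
    (IsPullback.of_hasPullback k.hom f)
  · have h1 : ((Over.pullback f).map g).left ≫ pullback.snd k.hom f = pullback.snd h.hom f := by
      exact pullback.lift_snd _ _ _
    rw [h1, Over.w g]
    exact IsPullback.of_hasPullback h.hom f
  · exact (pullback.lift_fst _ _ _).symm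

/-- compatibility of base changes along `j ≫ f` and `f` -/
theorem isPullback_bc_comp {S S' T : Scheme.{u}} (f : S' ⟶ S) (j : T ⟶ S') {h k : Over S}
    (g : h ⟶ k) :
    IsPullback (pullback.map h.hom (j ≫ f) h.hom f (𝟙 _) j (𝟙 _) (by simp) (by simp))
      ((Over.pullback (j ≫ f)).map g).left ((Over.pullback f).map g).left
      (pullback.map k.hom (j ≫ f) k.hom f (𝟙 _) j (𝟙 _) (by simp) (by simp)) := by
  have big := isPullback_pullback_map_left (j ≫ f) g
  have right := isPullback_pullback_map_left f g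
  have e1 : pullback.fst h.hom (j ≫ f) =
      pullback.map h.hom (j ≫ f) h.hom f (𝟙 _) j (𝟙 _) (by simp) (by simp) ≫
        pullback.fst h.hom f := by rw [pullback.lift_fst, Category.comp_id]
  have e2 : pullback.fst k.hom (j ≫ f) =
      pullback.map k.hom (j ≫ f) k.hom f (𝟙 _) j (𝟙 _) (by simp) (by simp) ≫
        pullback.fst k.hom f := by rw [pullback.lift_fst, Category.comp_id]
  rw [e1, e2] at big
  refine IsPullback.of_right big ?_ right
  apply pullback.hom_ext
  · simp only [Over.pullback_map_left, Category.assoc, pullback.lift_fst, pullback.lift_fst_assoc,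
      Category.comp_id]
  · simp only [Over.pullback_map_left, Category.assoc, pullback.lift_snd, pullback.lift_snd_assoc]

variable {S : Scheme.{u}} {G X : Over S} [GrpObj G] (a : AlgGrp.Action G X)

theorem bc_closed (hX : IsAffineHom X.hom)
    (hfree : ∀ (Y : Over S) (g : Y ⟶ G) (x : Y ⟶ X), lift g x ≫ a.act = x → g = 1)
    {S' : Scheme.{u}} (f : S' ⟶ S)
    (hloc : ∀ s' : S', ∃ U : S'.Opens, s' ∈ U ∧ ∃ (M : Type) (_ : AddCommGroup M),
      Nonempty (Grp.mk (Red.bc (U.ι ≫ f) G) ≅ Grp.mk (Red.DS U M))) :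
    IsClosedImmersion ((Over.pullback f).map (lift a.act (snd G X))).left := by
  have hlocW : ∀ s' : S', ∃ W : S'.Opens, s' ∈ W ∧ IsAffineOpen W ∧
      ∃ (M : Type) (_ : AddCommGroup M),
        Nonempty (Grp.mk (Red.bc (W.ι ≫ f) G) ≅ Grp.mk (Red.DS W M)) := by
    intro s'
    obtain ⟨U, hsU, M, _, ⟨e⟩⟩ := hloc s'
    obtain ⟨_, ⟨W₀, hW : IsAffineOpen W₀, rfl⟩, hsW, hWU⟩ :=
      S'.isBasis_affineOpens.exists_subset_of_mem_open hsU U.2
    let W : S'.Opens := W₀
    refine ⟨W, hsW, hW, M, inferInstance, ?_⟩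
    have hWU' : W ≤ U := hWU
    exact Groth.Agent.S5290.grpIso_bc (U.ι ≫ f) G M e (S'.homOfLE hWU') (W.ι ≫ f)
      (by rw [← Category.assoc, Scheme.homOfLE_ι])
  choose W hsW hW Mx instx ex using hlocW
  have hcov : TopologicalSpace.IsOpenCover W := by
    rw [TopologicalSpace.IsOpenCover, eq_top_iff]
    intro w _
    exact TopologicalSpace.Opens.mem_iSup.mpr ⟨w, hsW w⟩
  let 𝒰 : S'.OpenCover := Scheme.openCoverOfIsOpenCover _ W hcov
  let 𝒱 := Scheme.Pullback.openCoverOfRight 𝒰 (X ⊗ X).hom f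
  apply IsZariskiLocalAtTarget.of_openCover (P := @IsClosedImmersion) 𝒱
  intro i
  have sq := isPullback_bc_comp f (W i).ι (lift a.act (snd G X))
  have : IsAffine (W i : Scheme.{u}) := hW i
  letI : AddCommGroup (Mx i) := instx i
  obtain ⟨e⟩ := ex i
  have hcl := local_main a hX hfree ((W i).ι ≫ f) (Mx i) e
  have h1 : 𝒱.pullbackHom ((Over.pullback f).map (lift a.act (snd G X))).left i =
      sq.isoPullback.inv ≫ ((Over.pullback ((W i).ι ≫ f)).map (lift a.act (snd G X))).left :=
    (sq.isoPullback_inv_snd).symm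
  rw [h1]
  exact (MorphismProperty.cancel_left_of_respectsIso @IsClosedImmersion sq.isoPullback.inv _).mpr hcl

end Global

section Orbit

open CategoryTheory.Limits

variable {S : Scheme.{u}} {G X : Over S} [GrpObj G] (a : AlgGrp.Action G X)

theorem orbit_isPullback (σ : 𝟙_ (Over S) ⟶ X) :
    IsPullback (lift (𝟙 G) (toUnit G ≫ σ)) (a.orbitMap σ) (lift a.act (snd G X))
      (lift (𝟙 X) (toUnit X ≫ σ)) := by
  have hcomm : lift (𝟙 G) (toUnit G ≫ σ) ≫ lift a.act (snd G X) =
      a.orbitMap σ ≫ lift (𝟙 X) (toUnit X ≫ σ) := by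
    apply CartesianMonoidalCategory.hom_ext
    · rw [Category.assoc, lift_fst, Category.assoc, lift_fst, Category.comp_id]
      rfl
    · rw [Category.assoc, lift_snd, lift_snd, Category.assoc, lift_snd, ← Category.assoc]
      congr 1
      exact toUnit_unique _ _
  have hsnd : ∀ s : PullbackCone (lift a.act (snd G X)) (lift (𝟙 X) (toUnit X ≫ σ)),
      s.fst ≫ snd G X = toUnit s.pt ≫ σ := by
    intro s
    have h1 := congrArg (fun f => f ≫ snd X X) s.condition
    simp only [Category.assoc, lift_snd] at h1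
    rw [h1, ← Category.assoc]
    congr 1
    exact toUnit_unique _ _
  have hfst : ∀ s : PullbackCone (lift a.act (snd G X)) (lift (𝟙 X) (toUnit X ≫ σ)),
      s.fst ≫ a.act = s.snd := by
    intro s
    have h1 := congrArg (fun f => f ≫ fst X X) s.condition
    simp only [Category.assoc, lift_fst, Category.comp_id] at h1
    exact h1
  have hfac : ∀ s : PullbackCone (lift a.act (snd G X)) (lift (𝟙 X) (toUnit X ≫ σ)),
      (s.fst ≫ fst G X) ≫ lift (𝟙 G) (toUnit G ≫ σ) = s.fst := by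
    intro s
    apply CartesianMonoidalCategory.hom_ext
    · rw [Category.assoc, lift_fst, Category.comp_id]
    · rw [Category.assoc, lift_snd, hsnd s, ← Category.assoc]
      congr 1
      exact toUnit_unique _ _
  refine ⟨⟨hcomm⟩, ⟨PullbackCone.IsLimit.mk _ (fun s => s.fst ≫ fst G X) hfac ?_ ?_⟩⟩
  · intro s
    show (s.fst ≫ fst G X) ≫ lift (𝟙 G) (toUnit G ≫ σ) ≫ a.act = s.snd
    rw [← Category.assoc, hfac s, hfst s]
  · intro s m hm1 _
    rw [← hm1, Category.assoc, lift_fst, Category.comp_id]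

end Orbit

open Groth.Agent.Lib.Helper40.FpqcCov CategoryTheory.Limits in
theorem main_aux {S : Scheme.{u}} (G X : Over S) [GrpObj G]
    (hG : TwC.Locally S TwC.Topology.fpqc (fun S' f => ∃ (M : Type) (_ : AddCommGroup M), Nonempty (Grp.mk (Red.bc f G) ≅ Grp.mk (Red.DS S' M)))) (hX : IsAffineHom X.hom) (a : AlgGrp.Action G X)
    (hfree : ∀ (Y : Over S) (g : Y ⟶ G) (x : Y ⟶ X), lift g x ≫ a.act = x → g = 1) :
    IsClosedImmersion (lift a.act (snd G X)).left ∧
      ∀ σ : 𝟙_ (Over S) ⟶ X, IsClosedImmersion (a.orbitMap σ).left := by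
  have h1 : IsClosedImmersion (lift a.act (snd G X)).left := by
    obtain ⟨S', f, hflat, hsurj, hqc, hloc⟩ := hG
    have hq : IsQCov f := ⟨hsurj, hflat, hqc⟩
    have hq' := hq.pullback_fst (X ⊗ X).hom
    exact hq'.isCov.isClosedImmersion_of_isPullback
      (isPullback_pullback_map_left f (lift a.act (snd G X))).flip (bc_closed a hX hfree f hloc)
  refine ⟨h1, fun σ => ?_⟩
  have sq := (orbit_isPullback a σ).map (Over.forget S)
  exact MorphismProperty.of_isPullback (P := @IsClosedImmersion) sq h1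

/-- Let G be an S-group of multiplicative type (fpqc-locally on S isomorphic, as a group, to
diagonalisable groups D(M), M allowed to vary and taken in Type 0) acting on an S-scheme X which is
affine over S, the action being free (a point g of G fixing a point x of X is the unit). Then the
graph morphism G ×_S X ⟶ X ×_S X, (g, x) ↦ (g·x, x), is a closed immersion; and for every section σ
of X over S the orbit morphism G ⟶ X, g ↦ g·σ, is a closed immersion. -/
theorem result {S : Scheme.{u}} (G X : Over S) [GrpObj G]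
    (hG : TwC.Locally S TwC.Topology.fpqc (fun S' f => ∃ (M : Type) (_ : AddCommGroup M), Nonempty (Grp.mk (Red.bc f G) ≅ Grp.mk (Red.DS S' M)))) (hX : IsAffineHom X.hom) (a : AlgGrp.Action G X)
    (hfree : ∀ (Y : Over S) (g : Y ⟶ G) (x : Y ⟶ X), lift g x ≫ a.act = x → g = 1) :
    IsClosedImmersion (lift a.act (snd G X)).left ∧
      ∀ σ : 𝟙_ (Over S) ⟶ X, IsClosedImmersion (a.orbitMap σ).left := by
  exact main_aux G X hG hX a hfree

end Groth.Agent.S5284
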