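import Groth.Statements.S5274
import Groth.Agent.S5284
import Groth.Agent.Lib.Helper40.FpqcCovOver
import Mathlib

set_option autoImplicit false
open CategoryTheory MonoidalCategory CartesianMonoidalCategory MonObj GrpObj AlgebraicGeometry
universe u
open SGA3x

namespace Groth.Agent.S5274

open Groth.Agent.Lib.Helper43 Groth.Agent.Lib.Helper60.WittTorus Groth.Agent.Lib.Helper60.DiagChar
open Groth.Agent.S5279 Groth.Agent.S5290

section Alg

variable {B : Type u} [CommRing B] {M N : Type} [AddCommGroup M] [AddCommGroup N]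

lemma single_one_inj {C : Type u} [CommRing C] [Nontrivial C] {G : Type} [Monoid G] {a b : G}
    (h : MonoidAlgebra.single a (1 : C) = MonoidAlgebra.single b 1) : a = b := by
  classical
  have h1 := congrArg (fun v => MonoidAlgebra.coeff v a) h
  simp only [MonoidAlgebra.coeff_single, Finsupp.single_apply] at h1
  by_contra hne
  have hne' : ¬ b = a := fun e => hne e.symm
  simp [hne'] at h1

open scoped Classical in
lemma map_eq_single_of_isUnit {x : MonoidAlgebra B (Multiplicative M)} (hx : Glike1 x)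
    {C : Type u} [CommRing C] (z : B →+* C) (m : Multiplicative M) (hu : IsUnit (z (x.coeff m))) :
    MonoidAlgebra.mapRingHom (Multiplicative M) z x = MonoidAlgebra.single m 1 := by
  rw [Glike1_iff] at hx
  ext m'
  rw [MonoidAlgebra.coeff_mapRingHom, MonoidAlgebra.coeff_single, Finsupp.single_apply]
  by_cases hmm : m = m'
  · subst hmm
    rw [if_pos rfl]
    have h1 := hx m m
    rw [if_pos rfl] at h1
    have h2 : z (x.coeff m) * z (x.coeff m) = z (x.coeff m) := by rw [← map_mul, h1]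
    exact (IsUnit.mul_eq_left hu).mp h2
  · rw [if_neg hmm]
    have h1 := hx m' m
    rw [if_neg (fun e => hmm e.symm)] at h1
    have h2 : z (x.coeff m') * z (x.coeff m) = 0 := by rw [← map_mul, h1, map_zero]
    exact (IsUnit.mul_left_eq_zero hu).mp h2

lemma exists_coeff_notMem {x : MonoidAlgebra B (Multiplicative M)}
    (hε : ev (RingHom.id B) 1 x = 1) (𝔭 : Ideal B) [𝔭.IsPrime] : ∃ m, x.coeff m ∉ 𝔭 := by
  by_contra hcon
  push Not at hcon
  rw [Groth.Agent.S5284.ev_eq_sum] at hε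
  have : (1 : B) ∈ 𝔭 := by
    rw [← hε]
    exact Ideal.sum_mem _ (fun c _ => hcon c)
  exact (Ideal.ne_top_iff_one 𝔭).mp (Ideal.IsPrime.ne_top inferInstance) this

theorem alg_local (X : N → MonoidAlgebra B (Multiplicative M)) (hX1 : ∀ n, Glike1 (X n))
    (hXε : ∀ n, ev (RingHom.id B) 1 (X n) = 1)
    (hXadd : ∀ n n', X (n + n') = X n * X n') (hX0 : X 0 = 1) (hN : AddGroup.FG N)
    (𝔭 : Ideal B) [𝔭.IsPrime] :
    ∃ f : B, f ∉ 𝔭 ∧ ∃ φ : N →+ M, ∀ {C : Type u} [CommRing C] (z : B →+* C), IsUnit (z f) →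
      ∀ n, MonoidAlgebra.mapRingHom (Multiplicative M) z (X n) =
        MonoidAlgebra.single (Multiplicative.ofAdd (φ n)) 1 := by
  classical
  let K := 𝔭.ResidueField
  let z₀ : B →+* K := algebraMap B K
  have hz₀ : ∀ b, z₀ b = 0 ↔ b ∈ 𝔭 := fun b => Ideal.algebraMap_residueField_eq_zero
  have hex : ∀ n, ∃ m : M, (X n).coeff (Multiplicative.ofAdd m) ∉ 𝔭 := by
    intro n
    obtain ⟨m, hm⟩ := exists_coeff_notMem (hXε n) 𝔭
    exact ⟨Multiplicative.toAdd m, hm⟩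
  choose φ₀ hφ₀ using hex
  have H : ∀ n, MonoidAlgebra.mapRingHom (Multiplicative M) z₀ (X n) =
      MonoidAlgebra.single (Multiplicative.ofAdd (φ₀ n)) 1 := by
    intro n
    apply map_eq_single_of_isUnit (hX1 n)
    rw [isUnit_iff_ne_zero, Ne, hz₀]
    exact hφ₀ n
  have hadd : ∀ n n', φ₀ (n + n') = φ₀ n + φ₀ n' := by
    intro n n'
    have h1 := H (n + n')
    rw [hXadd, map_mul, H n, H n', MonoidAlgebra.single_mul_single, _root_.mul_one] at h1
    have := single_one_inj h1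
    exact (Multiplicative.ofAdd.injective this).symm
  let φ : N →+ M := AddMonoidHom.mk' φ₀ hadd
  have hfg : AddMonoid.FG N := AddGroup.fg_iff_addMonoid_fg.mp hN
  obtain ⟨gens, hgens⟩ := hfg.fg_top
  refine ⟨∏ n ∈ gens, (X n).coeff (Multiplicative.ofAdd (φ n)), ?_, φ, ?_⟩
  · intro hmem
    have h0 : z₀ (∏ n ∈ gens, (X n).coeff (Multiplicative.ofAdd (φ n))) = 0 := (hz₀ _).mpr hmem
    rw [map_prod] at h0
    have h1 : ∀ n ∈ gens, z₀ ((X n).coeff (Multiplicative.ofAdd (φ n))) = 1 := by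
      intro n _
      have := congrArg (fun v => MonoidAlgebra.coeff v (Multiplicative.ofAdd (φ₀ n))) (H n)
      simp only [MonoidAlgebra.coeff_mapRingHom, MonoidAlgebra.coeff_single,
        Finsupp.single_apply] at this
      exact this
    rw [Finset.prod_congr rfl h1, Finset.prod_const_one] at h0
    exact one_ne_zero h0
  · intro C _ z hu n
    have hn : n ∈ AddSubmonoid.closure (gens : Set N) := by rw [hgens]; trivial
    induction hn using AddSubmonoid.closure_induction with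
    | mem n hn =>
      apply map_eq_single_of_isUnit (hX1 n)
      rw [map_prod] at hu
      exact isUnit_of_dvd_unit (Finset.dvd_prod_of_mem
        (fun x => z ((X x).coeff (Multiplicative.ofAdd (φ x)))) hn) hu
    | zero =>
      rw [hX0, map_one, map_zero, ofAdd_zero]
      rfl
    | add a b _ _ ha hb =>
      rw [hXadd, map_mul, ha, hb, MonoidAlgebra.single_mul_single, _root_.mul_one, map_add,
        ofAdd_add]

end Alg

section DSLocal

variable {B : Type u} [CommRing B] {M N : Type} [AddCommGroup M] [AddCommGroup N]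

local notation "TB" => Spec (CommRingCat.of B)

theorem ds_local (θ : Red.DS TB M ⟶ Red.DS TB N) [IsMonHom θ] (hN : AddGroup.FG N)
    (𝔭 : Ideal B) [𝔭.IsPrime] :
    ∃ f : B, f ∉ 𝔭 ∧ ∃ φ : N →+ M, ∀ (Y : Over TB), IsUnit (ptHom Y.hom f) →
      ∀ c : Y ⟶ Red.DS TB M, c ≫ θ = c ≫ Red.DSmap TB φ := by
  let P : Over TB → Prop := fun _ => True
  have hP : ∀ {Y Y' : Over TB} (_ : Y' ⟶ Y), P Y → P Y' := fun _ _ => trivial
  have hP0 : P (YC (Ideal.Quotient.mk (⊥ : Ideal B))) := trivial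
  have hPk : ∀ Y, P Y → ∀ r ∈ (⊥ : Ideal B), ptHom Y.hom r = 0 := by
    intro Y _ r hr
    rw [Ideal.mem_bot.mp hr, map_zero]
  let ψ : ∀ {Y : Over TB}, (Y ⟶ Red.DS TB M) → (Y ⟶ Red.DS TB N) := fun c => c ≫ θ
  have ψ_nat : ∀ {Y Y' : Over TB} (w : Y' ⟶ Y) (c : Y ⟶ Red.DS TB M), P Y →
      ψ (w ≫ c) = w ≫ ψ c := fun w c _ => Category.assoc _ _ _
  have ψ_mul : ∀ {Y : Over TB} (c c' : Y ⟶ Red.DS TB M), P Y → ψ (c * c') = ψ c * ψ c' :=
    fun c c' _ => MonObj.mul_comp c c' θ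
  let e : B ⧸ (⊥ : Ideal B) →+* B := Ideal.Quotient.lift ⊥ (RingHom.id B) (by
    intro a ha
    rw [Ideal.mem_bot.mp ha, map_zero])
  have he : ∀ f' : B ⧸ (⊥ : Ideal B), Ideal.Quotient.mk ⊥ (e f') = f' := by
    intro f'
    obtain ⟨b, rfl⟩ := Ideal.Quotient.mk_surjective f'
    rfl
  obtain ⟨f', hf', φ, hφ⟩ := alg_local (ubar (⊥ : Ideal B) ψ)
    (ubar_Glike1 ⊥ P hP hP0 hPk ψ ψ_nat ψ_mul) (ubar_eps ⊥ P hP hP0 hPk ψ ψ_nat ψ_mul)
    (ubar_add ⊥ ψ) (ubar_zero ⊥ ψ) hN (𝔭.comap e)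
  refine ⟨e f', hf', φ, ?_⟩
  intro Y hu c
  apply chFn_injective
  intro n
  rw [chFn_DSmap]
  have hE := E_main ⊥ P hP hP0 hPk ψ ψ_nat (Y := Y) trivial c n
  refine hE.trans ?_
  have hz : IsUnit ((Ideal.Quotient.lift ⊥ (ptHom Y.hom) (hPk Y trivial)) f') := by
    rw [← he f', Ideal.Quotient.lift_mk]
    exact hu
  have h2 := hφ (Ideal.Quotient.lift ⊥ (ptHom Y.hom) (hPk Y trivial)) hz n
  have h3 := ev_map (Ideal.Quotient.lift ⊥ (ptHom Y.hom) (hPk Y trivial))
    (RingHom.id _) (chHom c) (ubar (⊥ : Ideal B) ψ n)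
  rw [RingHom.id_comp] at h3
  rw [← h3, h2, ev_single, map_one, _root_.one_mul]
  rfl

end DSLocal

section Pts

variable {S : Scheme.{u}} {G H : Over S} (u : G ⟶ H)

/-- injectivity of `u` on points lying over `g` -/
def PtsInj {Z : Scheme.{u}} (g : Z ⟶ S) : Prop :=
  ∀ (Y : Over S) (t : Y.left ⟶ Z), t ≫ g = Y.hom → ∀ a a' : Y ⟶ G, a ≫ u = a' ≫ u → a = a'

/-- surjectivity of `u` on points lying over `g` -/
def PtsSurj {Z : Scheme.{u}} (g : Z ⟶ S) : Prop :=
  ∀ (Y : Over S) (t : Y.left ⟶ Z), t ≫ g = Y.hom → ∀ b : Y ⟶ H, ∃ a : Y ⟶ G, a ≫ u = b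

/-- the comparison iso -/
noncomputable def iotaY {Z : Scheme.{u}} (g : Z ⟶ S) (Y : Over S) (t : Y.left ⟶ Z)
    (ht : t ≫ g = Y.hom) : (Over.map g).obj (Over.mk t) ≅ Y :=
  Over.isoMk (Iso.refl _) (by simpa using ht.symm)

lemma mono_bc_of_ptsInj {Z : Scheme.{u}} (g : Z ⟶ S) (h : PtsInj u g) :
    Mono ((Over.pullback g).map u) := by
  refine ⟨fun {Y} x x' hxx => ?_⟩
  apply toBase_injective g
  apply h ((Over.map g).obj Y) Y.hom rfl (toBase g x) (toBase g x')
  rw [← toBase_map, ← toBase_map, hxx]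

lemma ptsInj_of_mono_bc {Z : Scheme.{u}} (g : Z ⟶ S) [Mono ((Over.pullback g).map u)] :
    PtsInj u g := by
  intro Y t ht a a' haa
  let iY := iotaY g Y t ht
  have h1 : tbInv g (iY.hom ≫ a) ≫ (Over.pullback g).map u =
      tbInv g (iY.hom ≫ a') ≫ (Over.pullback g).map u := by
    apply toBase_injective g
    rw [toBase_map, toBase_map, toBase_tbInv, toBase_tbInv, Category.assoc, Category.assoc, haa]
  have h2 := (cancel_mono _).mp h1
  have h3 := congrArg (toBase g) h2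
  rw [toBase_tbInv, toBase_tbInv] at h3
  exact (cancel_epi _).mp h3

lemma mono_iff_ptsInj {Z : Scheme.{u}} (g : Z ⟶ S) :
    Mono ((Over.pullback g).map u).left ↔ PtsInj u g := by
  constructor
  · intro h
    have : Mono ((Over.pullback g).map u) := Over.mono_of_mono_left _
    exact ptsInj_of_mono_bc u g
  · intro h
    have := mono_bc_of_ptsInj u g h
    infer_instance

lemma isIso_iff_pts {Z : Scheme.{u}} (g : Z ⟶ S) :
    IsIso ((Over.pullback g).map u).left ↔ PtsInj u g ∧ PtsSurj u g := by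
  constructor
  · intro h
    have h' : IsIso ((Over.forget Z).map ((Over.pullback g).map u)) := h
    have : IsIso ((Over.pullback g).map u) :=
      isIso_of_reflects_iso ((Over.pullback g).map u) (Over.forget Z)
    refine ⟨ptsInj_of_mono_bc u g, ?_⟩
    intro Y t ht b
    let iY := iotaY g Y t ht
    refine ⟨iY.inv ≫ toBase g (tbInv g (iY.hom ≫ b) ≫ inv ((Over.pullback g).map u)), ?_⟩
    rw [Category.assoc, ← toBase_map, Category.assoc, IsIso.inv_hom_id, Category.comp_id,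
      toBase_tbInv, Iso.inv_hom_id_assoc]
  · rintro ⟨hi, hs⟩
    have := mono_bc_of_ptsInj u g hi
    obtain ⟨a, ha⟩ := hs ((Over.map g).obj (Red.bc g H)) (Red.bc g H).hom rfl
      (toBase g (𝟙 (Red.bc g H)))
    have h1 : tbInv g a ≫ (Over.pullback g).map u = 𝟙 _ := by
      apply toBase_injective g
      rw [toBase_map, toBase_tbInv, ha]
    have h2 : (Over.pullback g).map u ≫ tbInv g a = 𝟙 _ := by
      rw [← cancel_mono ((Over.pullback g).map u), Category.assoc, h1, Category.comp_id,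
        Category.id_comp]
    have : IsIso ((Over.pullback g).map u) := ⟨tbInv g a, h2, h1⟩
    show IsIso ((Over.forget Z).map ((Over.pullback g).map u))
    infer_instance

end Pts

section Dich

variable {B : Type u} [CommRing B] {M N : Type} [AddCommGroup M] [AddCommGroup N]

local notation "TB" => Spec (CommRingCat.of B)

/-- the basic open immersion -/
noncomputable abbrev j₀ (f : B) : Spec (CommRingCat.of (Localization.Away f)) ⟶ TB :=
  Spec.map (CommRingCat.ofHom (algebraMap B (Localization.Away f)))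

lemma isUnit_ptHom {f : B} {Z : Scheme.{u}} (k : Z ⟶ Spec (CommRingCat.of (Localization.Away f)))
    (Y : Over TB) (t : Y.left ⟶ Z) (ht : t ≫ k ≫ j₀ f = Y.hom) : IsUnit (ptHom Y.hom f) := by
  rw [← ht, ← Category.assoc, ptHom_comp_SpecMap, RingHom.comp_apply]
  exact (IsLocalization.Away.algebraMap_isUnit (S := Localization.Away f) f).map _

lemma exists_univ_pt {T : Scheme.{u}} (K : Type u) [CommRing K] [Nontrivial K]
    (σ : Spec (CommRingCat.of K) ⟶ T) (A : Type) [AddCommGroup A] :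
    ∃ (Y : Over T) (t : Y.left ⟶ Spec (CommRingCat.of K)) (_ : t ≫ σ = Y.hom)
      (c : Y ⟶ Red.DS T A), ∀ a : A, chFn a c = 1 → a = 0 := by
  let Y : Over T := Over.mk (Spec.map (CommRingCat.ofHom
    (MonoidAlgebra.singleOneRingHom : K →+* MonoidAlgebra K (Multiplicative A))) ≫ σ)
  let χ : Multiplicative A →* Γ(Y.left, ⊤) :=
    ((Scheme.ΓSpecIso (CommRingCat.of (MonoidAlgebra K (Multiplicative A)))).inv.hom).toMonoidHom.comp
      (MonoidAlgebra.of K (Multiplicative A))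
  obtain ⟨c, hc⟩ := chFn_exists χ
  refine ⟨Y, Spec.map (CommRingCat.ofHom MonoidAlgebra.singleOneRingHom), rfl, c, ?_⟩
  intro a ha
  rw [hc] at ha
  have h1 : (Scheme.ΓSpecIso (CommRingCat.of (MonoidAlgebra K (Multiplicative A)))).inv.hom
      (MonoidAlgebra.single (Multiplicative.ofAdd a) 1) =
      (Scheme.ΓSpecIso (CommRingCat.of (MonoidAlgebra K (Multiplicative A)))).inv.hom 1 := by
    rw [map_one]
    exact ha
  have h2 := ΓSpecIso_inv_injective _ h1
  rw [MonoidAlgebra.one_def] at h2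
  have h3 := single_one_inj h2
  exact Multiplicative.ofAdd.injective h3

lemma ptsInj_of_surj (θ : Red.DS TB M ⟶ Red.DS TB N) (φ : N →+ M) {Z : Scheme.{u}} (g : Z ⟶ TB)
    (hφ : ∀ (Y : Over TB) (t : Y.left ⟶ Z), t ≫ g = Y.hom →
      ∀ c : Y ⟶ Red.DS TB M, c ≫ θ = c ≫ Red.DSmap TB φ)
    (hs : Function.Surjective φ) : PtsInj θ g := by
  intro Y t ht c c' h
  rw [hφ Y t ht c, hφ Y t ht c'] at h
  apply chFn_injective
  intro m
  obtain ⟨n, rfl⟩ := hs m
  have := congrArg (chFn n) h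
  rwa [chFn_DSmap, chFn_DSmap] at this

lemma surj_of_ptsInj (θ : Red.DS TB M ⟶ Red.DS TB N) (φ : N →+ M) {Z : Scheme.{u}} (g : Z ⟶ TB) (z : Z)
    (hφ : ∀ (Y : Over TB) (t : Y.left ⟶ Z), t ≫ g = Y.hom →
      ∀ c : Y ⟶ Red.DS TB M, c ≫ θ = c ≫ Red.DSmap TB φ)
    (hi : PtsInj θ g) : Function.Surjective φ := by
  intro m
  obtain ⟨Y, t₀, ht₀, c, hc⟩ := exists_univ_pt (Z.residueField z)
    (Z.fromSpecResidueField z ≫ g) (M ⧸ φ.range)
  have ht : (t₀ ≫ Z.fromSpecResidueField z) ≫ g = Y.hom :=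
    (Category.assoc t₀ (Z.fromSpecResidueField z) g).trans ht₀
  let c₁ : Y ⟶ Red.DS TB M := c ≫ Red.DSmap TB (QuotientAddGroup.mk' φ.range)
  have h : c₁ ≫ θ = (1 : Y ⟶ Red.DS TB M) ≫ θ := by
    rw [hφ Y _ ht c₁, hφ Y _ ht 1]
    apply chFn_injective
    intro n
    rw [chFn_DSmap, chFn_DSmap, chFn_DSmap, chFn_one]
    have h0 : (QuotientAddGroup.mk' φ.range) (φ n) = 0 :=
      (QuotientAddGroup.eq_zero_iff _).mpr ⟨n, rfl⟩
    rw [h0, chFn_zero]
  have h1 := hi Y _ ht c₁ 1 h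
  have h2 : chFn m c₁ = 1 := by rw [h1, chFn_one]
  rw [chFn_DSmap] at h2
  have h3 := hc _ h2
  exact (QuotientAddGroup.eq_zero_iff _).mp h3

lemma ptsSurj_of_bij (θ : Red.DS TB M ⟶ Red.DS TB N) (φ : N →+ M) {Z : Scheme.{u}} (g : Z ⟶ TB)
    (hφ : ∀ (Y : Over TB) (t : Y.left ⟶ Z), t ≫ g = Y.hom →
      ∀ c : Y ⟶ Red.DS TB M, c ≫ θ = c ≫ Red.DSmap TB φ)
    (hb : Function.Bijective φ) : PtsSurj θ g := by
  intro Y t ht d
  let e : N ≃+ M := AddEquiv.ofBijective φ hb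
  refine ⟨d ≫ Red.DSmap TB e.symm.toAddMonoidHom, ?_⟩
  rw [hφ Y t ht]
  apply chFn_injective
  intro n
  rw [chFn_DSmap, chFn_DSmap]
  congr 1
  exact e.symm_apply_apply n

lemma inj_of_ptsSurj (θ : Red.DS TB M ⟶ Red.DS TB N) (φ : N →+ M) {Z : Scheme.{u}} (g : Z ⟶ TB) (z : Z)
    (hφ : ∀ (Y : Over TB) (t : Y.left ⟶ Z), t ≫ g = Y.hom →
      ∀ c : Y ⟶ Red.DS TB M, c ≫ θ = c ≫ Red.DSmap TB φ)
    (hs : PtsSurj θ g) : Function.Injective φ := by
  rw [injective_iff_map_eq_zero]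
  intro n hn
  obtain ⟨Y, t₀, ht₀, c, hc⟩ := exists_univ_pt (Z.residueField z)
    (Z.fromSpecResidueField z ≫ g) N
  have ht : (t₀ ≫ Z.fromSpecResidueField z) ≫ g = Y.hom :=
    (Category.assoc t₀ (Z.fromSpecResidueField z) g).trans ht₀
  obtain ⟨a, ha⟩ := hs Y _ ht c
  apply hc
  rw [← ha, hφ Y _ ht a, chFn_DSmap, hn, chFn_zero]

theorem dich_mono (θ : Red.DS TB M ⟶ Red.DS TB N) [IsMonHom θ] (hN : AddGroup.FG N)
    (𝔭 : Ideal B) [𝔭.IsPrime] :
    ∃ f : B, f ∉ 𝔭 ∧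
      ((∀ (Z : Scheme.{u}) (k : Z ⟶ Spec (CommRingCat.of (Localization.Away f))),
          Mono ((Over.pullback (k ≫ j₀ f)).map θ).left) ∨
       (∀ (Z : Scheme.{u}) (k : Z ⟶ Spec (CommRingCat.of (Localization.Away f))), Nonempty Z →
          ¬ Mono ((Over.pullback (k ≫ j₀ f)).map θ).left)) := by
  obtain ⟨f, hf, φ, hφ⟩ := ds_local θ hN 𝔭
  refine ⟨f, hf, ?_⟩
  have hφ' : ∀ (Z : Scheme.{u}) (k : Z ⟶ Spec (CommRingCat.of (Localization.Away f)))
      (Y : Over TB) (t : Y.left ⟶ Z), t ≫ k ≫ j₀ f = Y.hom →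
      ∀ c : Y ⟶ Red.DS TB M, c ≫ θ = c ≫ Red.DSmap TB φ :=
    fun Z k Y t ht c => hφ Y (isUnit_ptHom k Y t ht) c
  by_cases hs : Function.Surjective φ
  · left
    intro Z k
    rw [mono_iff_ptsInj]
    exact ptsInj_of_surj θ φ _ (hφ' Z k) hs
  · right
    rintro Z k ⟨z⟩ hm
    rw [mono_iff_ptsInj] at hm
    exact hs (surj_of_ptsInj θ φ _ z (hφ' Z k) hm)

theorem dich_iso (θ : Red.DS TB M ⟶ Red.DS TB N) [IsMonHom θ] (hN : AddGroup.FG N)
    (𝔭 : Ideal B) [𝔭.IsPrime] :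
    ∃ f : B, f ∉ 𝔭 ∧
      ((∀ (Z : Scheme.{u}) (k : Z ⟶ Spec (CommRingCat.of (Localization.Away f))),
          IsIso ((Over.pullback (k ≫ j₀ f)).map θ).left) ∨
       (∀ (Z : Scheme.{u}) (k : Z ⟶ Spec (CommRingCat.of (Localization.Away f))), Nonempty Z →
          ¬ IsIso ((Over.pullback (k ≫ j₀ f)).map θ).left)) := by
  obtain ⟨f, hf, φ, hφ⟩ := ds_local θ hN 𝔭
  refine ⟨f, hf, ?_⟩
  have hφ' : ∀ (Z : Scheme.{u}) (k : Z ⟶ Spec (CommRingCat.of (Localization.Away f)))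
      (Y : Over TB) (t : Y.left ⟶ Z), t ≫ k ≫ j₀ f = Y.hom →
      ∀ c : Y ⟶ Red.DS TB M, c ≫ θ = c ≫ Red.DSmap TB φ :=
    fun Z k Y t ht c => hφ Y (isUnit_ptHom k Y t ht) c
  by_cases hb : Function.Bijective φ
  · left
    intro Z k
    rw [isIso_iff_pts]
    exact ⟨ptsInj_of_surj θ φ _ (hφ' Z k) hb.2, ptsSurj_of_bij θ φ _ (hφ' Z k) hb⟩
  · right
    rintro Z k ⟨z⟩ hm
    rw [isIso_iff_pts] at hm
    exact hb ⟨inj_of_ptsSurj θ φ _ z (hφ' Z k) hm.2, surj_of_ptsInj θ φ _ z (hφ' Z k) hm.1⟩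

end Dich

section AtGeneric

open Groth.Agent.Lib.Helper40.FpqcCov CategoryTheory.Limits

variable (P : MorphismProperty Scheme.{u})
variable {S : Scheme.{u}} {G H : Over S} (u : G ⟶ H)

/-- the base change of `u` along `g` has property `P` -/
def At {Z : Scheme.{u}} (g : Z ⟶ S) : Prop := P ((Over.pullback g).map u).left

lemma At.comp [P.IsStableUnderBaseChange] {Z Z' : Scheme.{u}} (g : Z ⟶ S) (k : Z' ⟶ Z)
    (h : At P u g) : At P u (k ≫ g) :=
  P.of_isPullback (Groth.Agent.S5284.isPullback_bc_comp g k u) h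

lemma At.of_isCov [IsZariskiLocalAtTarget P] [P.IsStableUnderBaseChange]
    [P.DescendsAlong (@Surjective ⊓ @Flat ⊓ @QuasiCompact)] {Z Z' : Scheme.{u}} (g : Z ⟶ S)
    (k : Z' ⟶ Z) (hk : IsCov k) (h : At P u (k ≫ g)) : At P u g := by
  have sq := Groth.Agent.S5284.isPullback_bc_comp g k u
  have hbot : IsCov (pullback.map H.hom (k ≫ g) H.hom g (𝟙 _) k (𝟙 _) (by simp) (by simp)) := by
    refine hk.of_isPullback (b := pullback.snd H.hom g) (a := pullback.snd H.hom (k ≫ g)) ?_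
    have big := IsPullback.of_hasPullback H.hom (k ≫ g)
    have e2 : pullback.fst H.hom (k ≫ g) =
        pullback.map H.hom (k ≫ g) H.hom g (𝟙 _) k (𝟙 _) (by simp) (by simp) ≫
          pullback.fst H.hom g := by rw [pullback.lift_fst, Category.comp_id]
    rw [e2] at big
    exact IsPullback.of_right big (pullback.lift_snd _ _ _) (IsPullback.of_hasPullback H.hom g)
  exact hbot.descends P sq.flip h

lemma At.of_openCover [IsZariskiLocalAtTarget P] {Z : Scheme.{u}} (g : Z ⟶ S)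
    (W : Z → Z.Opens) (hW : ∀ z, z ∈ W z) (h : ∀ z, At P u ((W z).ι ≫ g)) : At P u g := by
  have hcov : TopologicalSpace.IsOpenCover W := by
    rw [TopologicalSpace.IsOpenCover, eq_top_iff]
    intro w _
    exact TopologicalSpace.Opens.mem_iSup.mpr ⟨w, hW w⟩
  let 𝒰 : Z.OpenCover := Scheme.openCoverOfIsOpenCover _ W hcov
  let 𝒱 := Scheme.Pullback.openCoverOfRight 𝒰 H.hom g
  apply IsZariskiLocalAtTarget.of_openCover (P := P) 𝒱
  intro i
  have sq := Groth.Agent.S5284.isPullback_bc_comp g (W i).ι u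
  have h1 : 𝒱.pullbackHom ((Over.pullback g).map u).left i =
      sq.isoPullback.inv ≫ ((Over.pullback ((W i).ι ≫ g)).map u).left :=
    (sq.isoPullback_inv_snd).symm
  rw [h1]
  exact (P.cancel_left_of_respectsIso sq.isoPullback.inv _).mpr (h i)

lemma at_iff_theta [P.RespectsIso] {T Z : Scheme.{u}} (fT : T ⟶ S) {A A' : Over T}
    (eG : Red.bc fT G ≅ A) (eH : Red.bc fT H ≅ A') (θ : A ⟶ A')
    (hθ : θ = eG.inv ≫ (Over.pullback fT).map u ≫ eH.hom) (k : Z ⟶ T) :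
    At P u (k ≫ fT) ↔ At P θ k := by
  unfold At
  let a := (Over.forget Z).mapIso ((Over.pullbackComp k fT).app G)
  let b := (Over.forget Z).mapIso ((Over.pullbackComp k fT).app H)
  let c := (Over.forget Z).mapIso ((Over.pullback k).mapIso eG.symm)
  let d := (Over.forget Z).mapIso ((Over.pullback k).mapIso eH)
  have e1 : ((Over.pullback (k ≫ fT)).map u).left ≫ b.hom =
      a.hom ≫ ((Over.pullback k).map ((Over.pullback fT).map u)).left :=
    congrArg CommaMorphism.left ((Over.pullbackComp k fT).hom.naturality u)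
  have e2 : ((Over.pullback k).map θ).left =
      c.hom ≫ ((Over.pullback k).map ((Over.pullback fT).map u)).left ≫ d.hom := by
    rw [hθ, Functor.map_comp, Functor.map_comp]
    rfl
  rw [e2]
  refine Iff.trans ?_ (P.cancel_left_of_respectsIso c.hom _).symm
  refine Iff.trans ?_ (P.cancel_right_of_respectsIso _ d.hom).symm
  refine Iff.trans (P.cancel_right_of_respectsIso _ b.hom).symm ?_
  have e3 : P (((Over.pullback (k ≫ fT)).map u).left ≫ b.hom) ↔
      P (a.hom ≫ ((Over.pullback k).map ((Over.pullback fT).map u)).left) := by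
    rw [e1]
    exact Iff.rfl
  exact e3.trans (P.cancel_left_of_respectsIso a.hom _)

set_option backward.isDefEq.respectTransparency.types false in
theorem isOpen_of_isQCov {Z Y : Scheme.{u}} {q : Z ⟶ Y} (hq : IsQCov q) (A : Set Y)
    (hA : IsOpen (q ⁻¹' A)) : IsOpen A := by
  rw [isOpen_iff_forall_mem_open]
  intro y hy
  obtain ⟨_, ⟨V₀, hV : IsAffineOpen V₀, rfl⟩, hyV, -⟩ :=
    Y.isBasis_affineOpens.exists_subset_of_mem_open (Set.mem_univ y) isOpen_univ
  let V : Y.Opens := V₀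
  obtain ⟨W, hWc, hWV⟩ := hq.qc V hV
  have hrange : Set.range (W.ι ≫ q).base ⊆ Set.range V.ι.base := by
    rintro _ ⟨w, rfl⟩
    have : q.base (W.ι.base w) ∈ q.base '' (W : Set Z) := ⟨W.ι.base w, w.2, rfl⟩
    rw [hWV] at this
    rw [Scheme.Opens.range_ι]
    exact this
  let hh : (W : Scheme.{u}) ⟶ (V : Scheme.{u}) := IsOpenImmersion.lift V.ι (W.ι ≫ q) hrange
  have hfac : hh ≫ V.ι = W.ι ≫ q := IsOpenImmersion.lift_fac _ _ _
  have := hq.flat
  have hflat : Flat hh :=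
    MorphismProperty.of_postcomp (W := @Flat) (W' := @IsOpenImmersion) hh V.ι
      (inferInstanceAs (IsOpenImmersion V.ι)) (by rw [hfac]; infer_instance)
  have hsurj : Surjective hh := by
    refine ⟨fun v => ?_⟩
    have hv : V.ι.base v ∈ (V : Set Y) := v.2
    rw [← hWV] at hv
    obtain ⟨w, hw, hwv⟩ := hv
    obtain ⟨x, rfl⟩ : w ∈ Set.range W.ι := by
      rw [Scheme.Opens.range_ι]
      exact hw
    refine ⟨x, ?_⟩
    apply V.ι.isOpenEmbedding.injective
    rw [← Scheme.Hom.comp_apply, hfac, Scheme.Hom.comp_apply]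
    exact hwv
  have : IsAffine (V : Scheme.{u}) := hV
  have hqc : QuasiCompact hh := by
    rw [quasiCompact_iff_compactSpace]
    exact isCompact_iff_compactSpace.mp hWc
  have hquot : Topology.IsQuotientMap hh := Flat.isQuotientMap_of_surjective hh
  have hpre : IsOpen (hh ⁻¹' (V.ι ⁻¹' A)) := by
    have h1 : hh ⁻¹' (V.ι ⁻¹' A) = W.ι ⁻¹' (q ⁻¹' A) := by
      ext w
      show V.ι (hh w) ∈ A ↔ q (W.ι w) ∈ A
      rw [← Scheme.Hom.comp_apply, hfac, Scheme.Hom.comp_apply]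
    rw [h1]
    exact hA.preimage W.ι.continuous
  have hop : IsOpen (V.ι ⁻¹' A) := hquot.isOpen_preimage.mp hpre
  refine ⟨V.ι '' (V.ι ⁻¹' A), ?_, V.ι.isOpenEmbedding.isOpenMap _ hop, ?_⟩
  · rintro _ ⟨v, hv, rfl⟩
    exact hv
  · exact ⟨⟨y, hyV⟩, hy, rfl⟩

lemma isCov_SpecMap_field {K L : Type u} [Field K] [Field L] (φ : K →+* L) :
    IsCov (Spec.map (CommRingCat.ofHom φ)) := by
  have h1 : Surjective (Spec.map (CommRingCat.ofHom φ)) := by
    refine ⟨fun y => ?_⟩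
    have hs : Subsingleton (PrimeSpectrum K) := inferInstance
    have hn : Nonempty (PrimeSpectrum L) := inferInstance
    obtain ⟨x⟩ := hn
    exact ⟨(x : ↥(Spec (CommRingCat.of L))), hs.elim _ _⟩
  have h2 : Flat (Spec.map (CommRingCat.ofHom φ)) := by
    rw [Flat.SpecMap_iff]
    algebraize [φ]
    exact (inferInstance : Module.Flat K L)
  exact (IsQCov.of_quasiCompact (Spec.map (CommRingCat.ofHom φ))).isCov

lemma at_residue_iff [IsZariskiLocalAtTarget P] [P.IsStableUnderBaseChange]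
    [P.DescendsAlong (@Surjective ⊓ @Flat ⊓ @QuasiCompact)] {S'' : Scheme.{u}} (f'' : S'' ⟶ S)
    (s'' : S'') :
    At P u (S.fromSpecResidueField (f'' s'')) ↔ At P u (S''.fromSpecResidueField s'' ≫ f'') := by
  have hk := Scheme.Hom.SpecMap_residueFieldMap_fromSpecResidueField f'' s''
  rw [← hk]
  constructor
  · intro h
    exact At.comp P u _ _ h
  · intro h
    exact At.of_isCov P u _ _ (isCov_SpecMap_field (f''.residueFieldMap s'').hom) h

/-- the local dichotomy hypothesis for `P` -/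
def LocalDich {S'' : Scheme.{u}} (f'' : S'' ⟶ S) : Prop :=
  ∀ s'' : S'', ∃ (T' : Scheme.{u}) (j : T' ⟶ S''), IsOpenImmersion j ∧ s'' ∈ Set.range j ∧
    ((∀ (Z : Scheme.{u}) (k : Z ⟶ T'), At P u (k ≫ j ≫ f'')) ∨
     (∀ (Z : Scheme.{u}) (k : Z ⟶ T'), Nonempty Z → ¬ At P u (k ≫ j ≫ f'')))

theorem main_of_localDich [IsZariskiLocalAtTarget P] [P.IsStableUnderBaseChange]
    [P.DescendsAlong (@Surjective ⊓ @Flat ⊓ @QuasiCompact)] {S'' : Scheme.{u}} (f'' : S'' ⟶ S)
    (hq : IsQCov f'') (hK : LocalDich P u f'') :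
    ∃ U : S.Opens, IsClosed (U : Set S) ∧
      (∀ s : S, s ∈ U ↔ P ((Over.pullback (S.fromSpecResidueField s)).map u).left) ∧
      P ((Over.pullback U.ι).map u).left := by
  let A : Set S := {s | At P u (S.fromSpecResidueField s)}
  let A'' : Set S'' := {s'' | At P u (S''.fromSpecResidueField s'' ≫ f'')}
  have hAA : f'' ⁻¹' A = A'' := by
    ext s''
    exact at_residue_iff P u f'' s''
  -- the residue field point factors through `j`
  have hfac : ∀ (T' : Scheme.{u}) (j : T' ⟶ S'') [IsOpenImmersion j] (y : T'),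
      ∃ k : Spec (S''.residueField (j y)) ⟶ T', k ≫ j = S''.fromSpecResidueField (j y) := by
    intro T' j _ y
    refine ⟨IsOpenImmersion.lift j (S''.fromSpecResidueField (j y)) ?_, IsOpenImmersion.lift_fac _ _ _⟩
    rw [Scheme.range_fromSpecResidueField]
    rintro _ rfl
    exact ⟨y, rfl⟩
  have hL : ∀ (T' : Scheme.{u}) (j : T' ⟶ S'') [IsOpenImmersion j],
      (∀ (Z : Scheme.{u}) (k : Z ⟶ T'), At P u (k ≫ j ≫ f'')) → Set.range j ⊆ A'' := by
    rintro T' j _ h _ ⟨y, rfl⟩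
    obtain ⟨k, hk⟩ := hfac T' j y
    show At P u (S''.fromSpecResidueField (j y) ≫ f'')
    rw [← hk, Category.assoc]
    exact h _ k
  have hR : ∀ (T' : Scheme.{u}) (j : T' ⟶ S'') [IsOpenImmersion j],
      (∀ (Z : Scheme.{u}) (k : Z ⟶ T'), Nonempty Z → ¬ At P u (k ≫ j ≫ f'')) →
      Set.range j ⊆ A''ᶜ := by
    rintro T' j _ h _ ⟨y, rfl⟩
    obtain ⟨k, hk⟩ := hfac T' j y
    show ¬ At P u (S''.fromSpecResidueField (j y) ≫ f'')
    rw [← hk, Category.assoc]
    exact h _ k inferInstance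
  have hO1 : IsOpen A'' := by
    rw [isOpen_iff_forall_mem_open]
    intro s'' hs
    obtain ⟨T', j, hj, hsj, hd⟩ := hK s''
    refine ⟨Set.range j, ?_, j.isOpenEmbedding.isOpen_range, hsj⟩
    rcases hd with hd | hd
    · exact hL T' j hd
    · exact absurd hs (hR T' j hd hsj)
  have hO2 : IsOpen A''ᶜ := by
    rw [isOpen_iff_forall_mem_open]
    intro s'' hs
    obtain ⟨T', j, hj, hsj, hd⟩ := hK s''
    refine ⟨Set.range j, ?_, j.isOpenEmbedding.isOpen_range, hsj⟩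
    rcases hd with hd | hd
    · exact absurd (hL T' j hd hsj) hs
    · exact hR T' j hd
  have hA1 : IsOpen A := isOpen_of_isQCov hq A (by rw [hAA]; exact hO1)
  have hA2 : IsOpen Aᶜ := isOpen_of_isQCov hq Aᶜ (by rw [Set.preimage_compl, hAA]; exact hO2)
  let U : S.Opens := ⟨A, hA1⟩
  refine ⟨U, ⟨hA2⟩, fun s => Iff.rfl, ?_⟩
  -- the restriction over `U`
  have hcov : IsCov (f'' ∣_ U) := hq.isCov.of_isPullback (isPullback_morphismRestrict f'' U)
  show At P u U.ι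
  apply At.of_isCov P u U.ι (f'' ∣_ U) hcov
  rw [morphismRestrict_ι]
  have hloc : ∀ z : (f'' ⁻¹ᵁ U : Scheme.{u}), ∃ W : (f'' ⁻¹ᵁ U : Scheme.{u}).Opens, z ∈ W ∧
      At P u (W.ι ≫ (f'' ⁻¹ᵁ U).ι ≫ f'') := by
    intro z
    have hz : z.1 ∈ A'' := by
      rw [← hAA]
      exact z.2
    obtain ⟨T', j, hj, hsj, hd⟩ := hK z.1
    rcases hd with hd | hd
    · refine ⟨(f'' ⁻¹ᵁ U).ι ⁻¹ᵁ j.opensRange, hsj, ?_⟩
      have hr : Set.range (((f'' ⁻¹ᵁ U).ι ⁻¹ᵁ j.opensRange).ι ≫ (f'' ⁻¹ᵁ U).ι).base ⊆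
          Set.range j.base := by
        rintro _ ⟨w, rfl⟩
        exact w.2
      have hk := IsOpenImmersion.lift_fac j (((f'' ⁻¹ᵁ U).ι ⁻¹ᵁ j.opensRange).ι ≫ (f'' ⁻¹ᵁ U).ι) hr
      rw [← Category.assoc, ← hk, Category.assoc]
      exact hd _ _
    · exact absurd hz (hR T' j hd hsj)
  choose W hW1 hW2 using hloc
  exact At.of_openCover P u _ W hW1 hW2

end AtGeneric

section Main

open Groth.Agent.Lib.Helper40.FpqcCov CategoryTheory.Limits

/-- the hypothesis on `P`: dichotomy for homomorphisms of diagonalisable groups over affine bases -/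
def DSDich (P : MorphismProperty Scheme.{u}) : Prop :=
  ∀ (B : Type u) [CommRing B] (M N : Type) [AddCommGroup M] [AddCommGroup N]
    (θ : Red.DS (Spec (CommRingCat.of B)) M ⟶ Red.DS (Spec (CommRingCat.of B)) N) [IsMonHom θ],
    AddGroup.FG N → ∀ (𝔭 : Ideal B) [𝔭.IsPrime], ∃ f : B, f ∉ 𝔭 ∧
      ((∀ (Z : Scheme.{u}) (k : Z ⟶ Spec (CommRingCat.of (Localization.Away f))),
          P ((Over.pullback (k ≫ j₀ f)).map θ).left) ∨
       (∀ (Z : Scheme.{u}) (k : Z ⟶ Spec (CommRingCat.of (Localization.Away f))), Nonempty Z →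
          ¬ P ((Over.pullback (k ≫ j₀ f)).map θ).left))

theorem exists_localDich (P : MorphismProperty Scheme.{u}) [P.RespectsIso] (hdich : DSDich P)
    {S : Scheme.{u}} (G H : Over S) [GrpObj G] [GrpObj H]
    (hG : SGA3x.IsMultTypeFT G) (hH : SGA3x.IsMultTypeFT H) (u : G ⟶ H) [IsMonHom u] :
    ∃ (S'' : Scheme.{u}) (f'' : S'' ⟶ S), IsQCov f'' ∧ LocalDich P u f'' := by
  obtain ⟨SG, fG, hflatG, hsurjG, hqcG, hlocG⟩ := hG
  obtain ⟨SH, fH, hflatH, hsurjH, hqcH, hlocH⟩ := hH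
  have hqG : IsQCov fG := ⟨hsurjG, hflatG, hqcG⟩
  have hqH : IsQCov fH := ⟨hsurjH, hflatH, hqcH⟩
  let p₁ := pullback.fst fG fH
  let p₂ := pullback.snd fG fH
  refine ⟨pullback fG fH, p₁ ≫ fG, (hqH.pullback_fst fG).comp hqG, ?_⟩
  intro s''
  obtain ⟨UG, hsG, M, instM, hMfg, ⟨eG⟩⟩ := hlocG (p₁ s'')
  obtain ⟨UH, hsH, N, instN, hNfg, ⟨eH⟩⟩ := hlocH (p₂ s'')
  have hsV : s'' ∈ p₁ ⁻¹ᵁ UG ⊓ p₂ ⁻¹ᵁ UH := ⟨hsG, hsH⟩
  obtain ⟨_, ⟨W₀, hW : IsAffineOpen W₀, rfl⟩, hsW, hWV⟩ :=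
    (pullback fG fH).isBasis_affineOpens.exists_subset_of_mem_open hsV (p₁ ⁻¹ᵁ UG ⊓ p₂ ⁻¹ᵁ UH).2
  let W : (pullback fG fH).Opens := W₀
  have hWV' : W ≤ p₁ ⁻¹ᵁ UG ⊓ p₂ ⁻¹ᵁ UH := hWV
  let fT : Spec (CommRingCat.of Γ(pullback fG fH, W)) ⟶ S := hW.fromSpec ≫ p₁ ≫ fG
  have hrG : Set.range (hW.fromSpec ≫ p₁).base ⊆ Set.range UG.ι.base := by
    rintro _ ⟨x, rfl⟩
    rw [Scheme.Opens.range_ι]
    have hx : hW.fromSpec x ∈ W := by
      have := hW.range_fromSpec
      rw [← SetLike.mem_coe, ← this]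
      exact ⟨x, rfl⟩
    exact (hWV' hx).1
  have hrH : Set.range (hW.fromSpec ≫ p₂).base ⊆ Set.range UH.ι.base := by
    rintro _ ⟨x, rfl⟩
    rw [Scheme.Opens.range_ι]
    have hx : hW.fromSpec x ∈ W := by
      have := hW.range_fromSpec
      rw [← SetLike.mem_coe, ← this]
      exact ⟨x, rfl⟩
    exact (hWV' hx).2
  let gG := IsOpenImmersion.lift UG.ι (hW.fromSpec ≫ p₁) hrG
  let gH := IsOpenImmersion.lift UH.ι (hW.fromSpec ≫ p₂) hrH
  have hgG : gG ≫ UG.ι = hW.fromSpec ≫ p₁ := IsOpenImmersion.lift_fac _ _ _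
  have hgH : gH ≫ UH.ι = hW.fromSpec ≫ p₂ := IsOpenImmersion.lift_fac _ _ _
  have hfG : gG ≫ UG.ι ≫ fG = fT := by
    rw [← Category.assoc, hgG, Category.assoc]
  have hfH : gH ≫ UH.ι ≫ fH = fT := by
    rw [← Category.assoc, hgH, Category.assoc]
    show hW.fromSpec ≫ pullback.snd fG fH ≫ fH = hW.fromSpec ≫ pullback.fst fG fH ≫ fG
    rw [pullback.condition]
  let _ : AddCommGroup M := instM
  let _ : AddCommGroup N := instN
  obtain ⟨eG'⟩ := grpIso_bc (UG.ι ≫ fG) G M eG gG fT hfG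
  obtain ⟨eH'⟩ := grpIso_bc (UH.ι ≫ fH) H N eH gH fT hfH
  let θG : Grp.mk (Red.DS (Spec (CommRingCat.of Γ(pullback fG fH, W))) M) ⟶
      Grp.mk (Red.DS (Spec (CommRingCat.of Γ(pullback fG fH, W))) N) :=
    eG'.inv ≫ (Over.pullback fT).mapGrp.map (Grp.homMk u : Grp.mk G ⟶ Grp.mk H) ≫ eH'.hom
  let θ : Red.DS (Spec (CommRingCat.of Γ(pullback fG fH, W))) M ⟶
      Red.DS (Spec (CommRingCat.of Γ(pullback fG fH, W))) N := θG.hom.hom
  let eGo : Red.bc fT G ≅ Red.DS (Spec (CommRingCat.of Γ(pullback fG fH, W))) M :=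
    (Grp.forget _).mapIso eG'
  let eHo : Red.bc fT H ≅ Red.DS (Spec (CommRingCat.of Γ(pullback fG fH, W))) N :=
    (Grp.forget _).mapIso eH'
  have hθ : θ = eGo.inv ≫ (Over.pullback fT).map u ≫ eHo.hom := rfl
  let pt := hW.primeIdealOf ⟨s'', hsW⟩
  have hpt : hW.fromSpec pt = s'' := hW.fromSpec_primeIdealOf ⟨s'', hsW⟩
  obtain ⟨f, hf, hd⟩ := hdich Γ(pullback fG fH, W) M N θ hNfg pt.asIdeal
  refine ⟨Spec (CommRingCat.of (Localization.Away f)), j₀ f ≫ hW.fromSpec, inferInstance, ?_, ?_⟩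
  · have hmem : pt ∈ (j₀ f).opensRange := by
      rw [Scheme.Hom.opensRange_localizationAway (R := CommRingCat.of Γ(pullback fG fH, W)) f]
      exact hf
    obtain ⟨y, hy⟩ := hmem
    refine ⟨y, ?_⟩
    rw [Scheme.Hom.comp_apply, hy, hpt]
  · have key : ∀ (Z : Scheme.{u}) (k : Z ⟶ Spec (CommRingCat.of (Localization.Away f))),
        At P u (k ≫ (j₀ f ≫ hW.fromSpec) ≫ p₁ ≫ fG) ↔
          P ((Over.pullback (k ≫ j₀ f)).map θ).left := by
      intro Z k
      have hkk : k ≫ (j₀ f ≫ hW.fromSpec) ≫ p₁ ≫ fG = (k ≫ j₀ f) ≫ fT := by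
        simp only [fT, Category.assoc]
      rw [hkk]
      exact at_iff_theta P u fT eGo eHo θ hθ (k ≫ j₀ f)
    rcases hd with hd | hd
    · left
      intro Z k
      exact (key Z k).mpr (hd Z k)
    · right
      intro Z k hZ h
      exact hd Z k hZ ((key Z k).mp h)

theorem main_generic (P : MorphismProperty Scheme.{u}) [IsZariskiLocalAtTarget P]
    [P.IsStableUnderBaseChange] [P.DescendsAlong (@Surjective ⊓ @Flat ⊓ @QuasiCompact)]
    (hdich : DSDich P)
    {S : Scheme.{u}} (G H : Over S) [GrpObj G] [GrpObj H]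
    (hG : SGA3x.IsMultTypeFT G) (hH : SGA3x.IsMultTypeFT H) (u : G ⟶ H) [IsMonHom u] :
    ∃ U : S.Opens, IsClosed (U : Set S) ∧
      (∀ s : S, s ∈ U ↔ P ((Over.pullback (S.fromSpecResidueField s)).map u).left) ∧
      P ((Over.pullback U.ι).map u).left := by
  obtain ⟨S'', f'', hq, hK⟩ := exists_localDich P hdich G H hG hH u
  exact main_of_localDich P u f'' hq hK

theorem mono_descendsAlong : (MorphismProperty.monomorphisms Scheme.{u}).DescendsAlong
    (@Surjective ⊓ @Flat ⊓ @QuasiCompact) := by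
  have h1 : MorphismProperty.IsStableUnderBaseChange
      (@Surjective ⊓ @Flat : MorphismProperty Scheme.{u}) :=
    MorphismProperty.IsStableUnderBaseChange.inf
  have h2 : MorphismProperty.IsStableUnderBaseChange
      (@Surjective ⊓ @Flat ⊓ @QuasiCompact : MorphismProperty Scheme.{u}) :=
    MorphismProperty.IsStableUnderBaseChange.inf
  rw [← MorphismProperty.diagonal_isomorphisms]
  infer_instance

theorem main_aux {S : Scheme.{u}} (G H : Over S) [GrpObj G] [GrpObj H]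
    (hG : SGA3x.IsMultTypeFT G) (hH : SGA3x.IsMultTypeFT H) (u : G ⟶ H) [IsMonHom u] :
    ∃ U : S.Opens, IsClosed (U : Set S) ∧
      (∀ s : S, s ∈ U ↔ Mono ((Over.pullback (S.fromSpecResidueField s)).map u).left) ∧
      Mono ((Over.pullback U.ι).map u).left := by
  have hd : DSDich (MorphismProperty.monomorphisms Scheme.{u}) := by
    intro B _ M N _ _ θ _ hN 𝔭 _
    exact dich_mono θ hN 𝔭
  have := mono_descendsAlong.{u}
  exact main_generic (MorphismProperty.monomorphisms Scheme.{u}) hd G H hG hH u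

end Main

/-- Let u : G ⟶ H be a homomorphism of S-groups of multiplicative type and of finite type. Then the set
U of points s ∈ S such that u_s : G_s ⟶ H_s is a monomorphism is open and closed in S, and the
homomorphism G|_U ⟶ H|_U induced above U is a monomorphism. -/
theorem result {S : Scheme.{u}} (G H : Over S) [GrpObj G] [GrpObj H]
    (hG : SGA3x.IsMultTypeFT G) (hH : SGA3x.IsMultTypeFT H) (u : G ⟶ H) [IsMonHom u] :
    ∃ U : S.Opens, IsClosed (U : Set S) ∧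
      (∀ s : S, s ∈ U ↔ Mono ((Over.pullback (S.fromSpecResidueField s)).map u).left) ∧
      Mono ((Over.pullback U.ι).map u).left := by
  exact main_aux G H hG hH u

end Groth.Agent.S5274
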