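import Groth.Statements.S16611
import Groth.Agent.S5275
import Mathlib

set_option autoImplicit false
open CategoryTheory MonoidalCategory CartesianMonoidalCategory MonObj GrpObj AlgebraicGeometry
universe u
open SGA3x

namespace Groth.Agent.S16611

open Groth.Agent.Lib.Helper43 Groth.Agent.Lib.Helper60.WittTorus Groth.Agent.Lib.Helper60.DiagChar
open Groth.Agent.S5279 Groth.Agent.S5290 Groth.Agent.S5274
open Groth.Agent.Lib.Helper40.FpqcCov CategoryTheory.Limits

lemma isMultTypeFT_of_isTorus {S : Scheme.{u}} {T : Over S} [GrpObj T] (h : Red.IsTorus T) :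
    SGA3x.IsMultTypeFT T := by
  obtain ⟨S', f, hfl, hsj, hqc, hloc⟩ := h
  refine ⟨S', f, hfl, hsj, hqc, fun s' => ?_⟩
  obtain ⟨U, hU, r, hr⟩ := hloc s'
  exact ⟨U, hU, Fin r → ℤ, inferInstance, Module.Finite.iff_addGroup_fg.mp inferInstance, hr⟩

/-- over a field, a monomorphism `D(ℤ^r) ⟶ D(ℤ^r)` of groups is an isomorphism -/
theorem isIso_of_mono_field {K : Type u} [Field K] (r : ℕ)
    (θ : Red.DS (Spec (CommRingCat.of K)) (Fin r → ℤ) ⟶ Red.DS (Spec (CommRingCat.of K)) (Fin r → ℤ))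
    [IsMonHom θ]
    (hm : Mono ((Over.pullback (𝟙 (Spec (CommRingCat.of K)))).map θ).left) :
    IsIso ((Over.pullback (𝟙 (Spec (CommRingCat.of K)))).map θ).left := by
  have hN : AddGroup.FG (Fin r → ℤ) := Module.Finite.iff_addGroup_fg.mp inferInstance
  obtain ⟨f₀, hf₀, φ, hφ⟩ := ds_local θ hN (⊥ : Ideal K)
  have hu : IsUnit f₀ := by
    rw [isUnit_iff_ne_zero]
    intro h0
    exact hf₀ (by rw [h0]; exact Ideal.zero_mem _)
  have hφ' : ∀ (Y : Over (Spec (CommRingCat.of K))) (t : Y.left ⟶ Spec (CommRingCat.of K)),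
      t ≫ 𝟙 _ = Y.hom → ∀ c : Y ⟶ Red.DS (Spec (CommRingCat.of K)) (Fin r → ℤ),
        c ≫ θ = c ≫ Red.DSmap (Spec (CommRingCat.of K)) φ :=
    fun Y _ _ c => hφ Y (hu.map _) c
  rw [mono_iff_ptsInj] at hm
  have z : (Spec (CommRingCat.of K) : Scheme.{u}) := (⊥ : PrimeSpectrum K)
  have hs : Function.Surjective φ := surj_of_ptsInj θ φ (𝟙 _) z hφ' hm
  have hi : Function.Injective φ :=
    OrzechProperty.injective_of_surjective_endomorphism φ.toIntLinearMap hs
  rw [isIso_iff_pts]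
  exact ⟨hm, ptsSurj_of_bij θ φ (𝟙 _) hφ' ⟨hi, hs⟩⟩

theorem main_aux {S : Scheme.{u}} {T T' : Over S} [GrpObj T] [GrpObj T']
    (hT : Red.IsTorus T) (hT' : Red.IsTorus T') (f : T ⟶ T') [IsMonHom f] [Mono f]
    (hrk : ∀ s : ↥S, ∃ r : ℕ, Red.IsSplitTorusWith (Fin r → ℤ) (Red.geomFibre s T) ∧
      Red.IsSplitTorusWith (Fin r → ℤ) (Red.geomFibre s T')) : IsIso f := by
  obtain ⟨U, -, hU, hiso⟩ := Groth.Agent.S5275.main_aux T T' (isMultTypeFT_of_isTorus hT)
    (isMultTypeFT_of_isTorus hT') f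
  have hall : ∀ s : S, s ∈ U := by
    intro s
    rw [hU]
    obtain ⟨r, ⟨e⟩, ⟨e'⟩⟩ := hrk s
    let θG : Grp.mk (Red.DS (Spec (CommRingCat.of (AlgebraicClosure (S.residueField s)))) (Fin r → ℤ)) ⟶
        Grp.mk (Red.DS (Spec (CommRingCat.of (AlgebraicClosure (S.residueField s)))) (Fin r → ℤ)) :=
      e.inv ≫ (Over.pullback (Red.geomPt s)).mapGrp.map (Grp.homMk f : Grp.mk T ⟶ Grp.mk T') ≫ e'.hom
    let θ := θG.hom.hom
    let eo : Red.bc (Red.geomPt s) T ≅ _ := (Grp.forget _).mapIso e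
    let eo' : Red.bc (Red.geomPt s) T' ≅ _ := (Grp.forget _).mapIso e'
    have hθ : θ = eo.inv ≫ (Over.pullback (Red.geomPt s)).map f ≫ eo'.hom := rfl
    have h1 := at_iff_theta (MorphismProperty.monomorphisms Scheme.{u}) f (Red.geomPt s) eo eo' θ hθ (𝟙 _)
    have h2 := at_iff_theta (MorphismProperty.isomorphisms Scheme.{u}) f (Red.geomPt s) eo eo' θ hθ (𝟙 _)
    rw [Category.id_comp] at h1 h2
    have hmono : Mono ((Over.pullback (Red.geomPt s)).map f).left := inferInstance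
    have h3 : IsIso ((Over.pullback (𝟙 _)).map θ).left := isIso_of_mono_field r θ (h1.mp hmono)
    have h4 : At (MorphismProperty.isomorphisms Scheme.{u}) f (Red.geomPt s) := h2.mpr h3
    exact At.of_isCov (MorphismProperty.isomorphisms Scheme.{u}) f (S.fromSpecResidueField s) _
      (isCov_SpecMap_field (algebraMap (S.residueField s) (AlgebraicClosure (S.residueField s)))) h4
  have hUtop : U = ⊤ := by
    ext s
    simp [hall s]
  subst hUtop
  have : IsIso (⊤ : S.Opens).ι := inferInstanceAs (IsIso S.topIso.hom)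
  have sq := Groth.Agent.S5284.isPullback_pullback_map_left (⊤ : S.Opens).ι f
  have hfl : f.left = inv (pullback.fst T.hom (⊤ : S.Opens).ι) ≫
      ((Over.pullback (⊤ : S.Opens).ι).map f).left ≫ pullback.fst T'.hom (⊤ : S.Opens).ι := by
    rw [IsIso.eq_inv_comp]
    exact sq.w
  have : IsIso f.left := by
    rw [hfl]
    infer_instance
  have : IsIso ((Over.forget S).map f) := this
  exact isIso_of_reflects_iso f (Over.forget S)

/-- Over an arbitrary scheme S, a monomorphism f : T ⟶ T' of S-tori with the same rank function (at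
every point of S the geometric fibres of T and T' are split tori of the same rank) is an
isomorphism. -/
theorem result {S : Scheme.{u}} {T T' : Over S} [GrpObj T] [GrpObj T']
    (hT : Red.IsTorus T) (hT' : Red.IsTorus T') (f : T ⟶ T') [IsMonHom f] [Mono f]
    (hrk : ∀ s : ↥S, ∃ r : ℕ, Red.IsSplitTorusWith (Fin r → ℤ) (Red.geomFibre s T) ∧
      Red.IsSplitTorusWith (Fin r → ℤ) (Red.geomFibre s T')) : IsIso f := by
  exact main_aux hT hT' f hrk

end Groth.Agent.S16611
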