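import Groth.Statements.S16614
import Groth.Agent.S16611
import Mathlib

set_option autoImplicit false
open CategoryTheory MonoidalCategory CartesianMonoidalCategory MonObj GrpObj AlgebraicGeometry
universe u
open SGA3x

namespace Groth.Agent.S16614

open Groth.Agent.Lib.Helper43 Groth.Agent.Lib.Helper60.WittTorus Groth.Agent.Lib.Helper60.DiagChar
open Groth.Agent.S5279 Groth.Agent.S5290 Groth.Agent.S5274
open Groth.Agent.Lib.Helper40.FpqcCov CategoryTheory.Limits

section BC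

variable {S S' : Scheme.{u}}

/-- base change of a split group is split -/
theorem splitBc {H : Over S} [GrpObj H] {M : Type} [AddCommGroup M]
    (e : Grp.mk H ≅ Grp.mk (Red.DS S M)) (g : S' ⟶ S) :
    Nonempty (Grp.mk (Red.bc g H) ≅ Grp.mk (Red.DS S' M)) := by
  have hz : g ≫ toZ S = toZ S' := specULiftZIsTerminal.hom_ext _ _
  exact ⟨bcMapIso g e ≪≫ (bcCompIso (toZ S) g (Red.diag (ULift.{u} ℤ) M)).symm ≪≫ bcEqIso hz _⟩

end BC

lemma finrank_le_of_surj {M N : Type} [AddCommGroup M] [AddCommGroup N] [Module.Finite ℤ M]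
    (φ : M →+ N) (hs : Function.Surjective φ) : Module.finrank ℤ N ≤ Module.finrank ℤ M := by
  have h := LinearMap.rank_le_of_surjective φ.toIntLinearMap hs
  apply Module.finrank_le_finrank_of_rank_le_rank
  · simpa using h
  · exact Module.rank_lt_aleph0 ℤ M

/-- rank bound: over a field, a monomorphism `D(ℤ^r) ⟶ D(M)` forces `r ≤ rank M` -/
theorem rank_le_of_mono_field {K : Type u} [Field K] (r : ℕ) (M : Type) [AddCommGroup M]
    (hM : AddGroup.FG M)
    (θ : Red.DS (Spec (CommRingCat.of K)) (Fin r → ℤ) ⟶ Red.DS (Spec (CommRingCat.of K)) M)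
    [IsMonHom θ]
    (hm : Mono ((Over.pullback (𝟙 (Spec (CommRingCat.of K)))).map θ).left) :
    r ≤ Module.finrank ℤ M := by
  obtain ⟨f₀, hf₀, φ, hφ⟩ := ds_local θ hM (⊥ : Ideal K)
  have hu : IsUnit f₀ := by
    rw [isUnit_iff_ne_zero]
    intro h0
    exact hf₀ (by rw [h0]; exact Ideal.zero_mem _)
  have hφ' : ∀ (Y : Over (Spec (CommRingCat.of K))) (t : Y.left ⟶ Spec (CommRingCat.of K)),
      t ≫ 𝟙 _ = Y.hom → ∀ c : Y ⟶ Red.DS (Spec (CommRingCat.of K)) (Fin r → ℤ),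
        c ≫ θ = c ≫ Red.DSmap (Spec (CommRingCat.of K)) φ :=
    fun Y _ _ c => hφ Y (hu.map _) c
  rw [mono_iff_ptsInj] at hm
  have z : (Spec (CommRingCat.of K) : Scheme.{u}) := (⊥ : PrimeSpectrum K)
  have hs : Function.Surjective φ := surj_of_ptsInj θ φ (𝟙 _) z hφ' hm
  have : Module.Finite ℤ M := Module.Finite.iff_addGroup_fg.mpr hM
  have h1 := finrank_le_of_surj φ hs
  rwa [Module.finrank_fin_fun] at h1

/-- rank bound for a split subtorus, tested at a field point where the ambient group is split -/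
theorem rank_le {S : Scheme.{u}} {G T : Over S} [GrpObj G] [GrpObj T] (j : T ⟶ G) [IsMonHom j]
    [Mono j] (r : ℕ) (eT : Grp.mk T ≅ Grp.mk (Red.DS S (Fin r → ℤ)))
    {K : Type u} [Field K] (fT : Spec (CommRingCat.of K) ⟶ S) (M : Type) [AddCommGroup M]
    (hM : AddGroup.FG M)
    (eG : Grp.mk (Red.bc fT G) ≅ Grp.mk (Red.DS (Spec (CommRingCat.of K)) M)) :
    r ≤ Module.finrank ℤ M := by
  obtain ⟨eT'⟩ := splitBc eT fT
  let θG : Grp.mk (Red.DS (Spec (CommRingCat.of K)) (Fin r → ℤ)) ⟶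
      Grp.mk (Red.DS (Spec (CommRingCat.of K)) M) :=
    eT'.inv ≫ (Over.pullback fT).mapGrp.map (Grp.homMk j : Grp.mk T ⟶ Grp.mk G) ≫ eG.hom
  let θ := θG.hom.hom
  let eo : Red.bc fT T ≅ _ := (Grp.forget _).mapIso eT'
  let eo' : Red.bc fT G ≅ _ := (Grp.forget _).mapIso eG
  have hθ : θ = eo.inv ≫ (Over.pullback fT).map j ≫ eo'.hom := rfl
  have h1 := at_iff_theta (MorphismProperty.monomorphisms Scheme.{u}) j fT eo eo' θ hθ (𝟙 _)
  rw [Category.id_comp] at h1
  have hmono : Mono ((Over.pullback fT).map j).left := inferInstance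
  exact rank_le_of_mono_field r M hM θ (h1.mp hmono)

lemma isMonHom_of_comp_mono {S : Scheme.{u}} {A B C : Over S} [MonObj A] [MonObj B] [MonObj C]
    (g : A ⟶ B) (j' : B ⟶ C) [IsMonHom j'] [Mono j'] (j : A ⟶ C) [IsMonHom j] (h : g ≫ j' = j) :
    IsMonHom g where
  one_hom := by
    rw [← cancel_mono j', Category.assoc, h, IsMonHom.one_hom, IsMonHom.one_hom]
  mul_hom := by
    rw [← cancel_mono j', Category.assoc, h, IsMonHom.mul_hom, Category.assoc, IsMonHom.mul_hom,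
      ← Category.assoc, tensorHom_comp_tensorHom, h]

theorem isTorus_of_split {S : Scheme.{u}} {T : Over S} [GrpObj T] (r : ℕ)
    (e : Grp.mk T ≅ Grp.mk (Red.DS S (Fin r → ℤ))) : Red.IsTorus T := by
  refine ⟨S, 𝟙 S, inferInstance, inferInstance, ?_, ?_⟩
  · intro V hV
    refine ⟨V, hV.isCompact, ?_⟩
    simp
  · intro s'
    exact ⟨⊤, trivial, r, splitBc e _⟩

/-- all points of `D_S(0)` coincide -/
lemma pts_eq_of_rank_zero {S : Scheme.{u}} {Y : Over S} (c c' : Y ⟶ Red.DS S (Fin 0 → ℤ)) :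
    c = c' := by
  apply chFn_injective
  intro m
  have hm : m = 0 := Subsingleton.elim _ _
  rw [hm, chFn_zero, chFn_zero]

open scoped Classical in
theorem main_aux {S : Scheme.{u}} {G : Over S} [GrpObj G]
    (hG : SGA3x.IsMultTypeFT G) :
    ∃ (T : Over S) (_ : GrpObj T) (j : T ⟶ G) (r : ℕ), IsMonHom j ∧ Mono j ∧ Red.IsSplitTorusWith (Fin r → ℤ) T ∧
      ∀ (T' : Over S) [GrpObj T'] (j' : T' ⟶ G) [IsMonHom j'] [Mono j'] (r' : ℕ) (g : T ⟶ T'),
        Red.IsSplitTorusWith (Fin r' → ℤ) T' → g ≫ j' = j → IsIso g := by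
  -- the rank zero subtorus
  have h0 : ∃ (T : Over S) (_ : GrpObj T) (j : T ⟶ G), IsMonHom j ∧ Mono j ∧
      Red.IsSplitTorusWith (Fin 0 → ℤ) T := by
    refine ⟨Red.DS S (Fin 0 → ℤ), inferInstance, toUnit _ ≫ η[G], inferInstance, ?_, ⟨Iso.refl _⟩⟩
    exact ⟨fun c c' _ => pts_eq_of_rank_zero c c'⟩
  by_cases hS : Nonempty S
  · obtain ⟨s₀⟩ := hS
    obtain ⟨S', f, -, hsurj, -, hloc⟩ := hG
    obtain ⟨s', -⟩ := hsurj.surj s₀
    obtain ⟨U, hs'U, M, instM, hMfg, ⟨eG⟩⟩ := hloc s'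
    let _ : AddCommGroup M := instM
    let x : (U : Scheme.{u}) := ⟨s', hs'U⟩
    let fT : Spec (CommRingCat.of ((U : Scheme.{u}).residueField x)) ⟶ S :=
      (U : Scheme.{u}).fromSpecResidueField x ≫ U.ι ≫ f
    obtain ⟨eGK⟩ := grpIso_bc (U.ι ≫ f) G M eG ((U : Scheme.{u}).fromSpecResidueField x) fT rfl
    let R : ℕ → Prop := fun r => ∃ (T : Over S) (_ : GrpObj T) (j : T ⟶ G), IsMonHom j ∧ Mono j ∧
      Red.IsSplitTorusWith (Fin r → ℤ) T
    have hbound : ∀ r, R r → r ≤ Module.finrank ℤ M := by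
      rintro r ⟨T, _, j, _, _, ⟨eT⟩⟩
      exact rank_le j r eT fT M hMfg eGK
    let r := Nat.findGreatest R (Module.finrank ℤ M)
    have hr : R r := Nat.findGreatest_spec (Nat.zero_le _) h0
    obtain ⟨T, instT, j, hj1, hj2, ⟨eT⟩⟩ := hr
    refine ⟨T, instT, j, r, hj1, hj2, ⟨eT⟩, ?_⟩
    intro T' _ j' _ _ r' g ⟨eT'⟩ hg
    have hgm : IsMonHom g := isMonHom_of_comp_mono g j' j hg
    have hgmono : Mono g := mono_of_mono_fac hg
    have hr'R : R r' := ⟨T', inferInstance, j', inferInstance, inferInstance, ⟨eT'⟩⟩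
    have h1 : r' ≤ r := Nat.le_findGreatest (hbound r' hr'R) hr'R
    obtain ⟨eT'K⟩ := splitBc eT' fT
    have h2 : r ≤ r' := by
      have := rank_le g r eT fT (Fin r' → ℤ) (Module.Finite.iff_addGroup_fg.mp inferInstance) eT'K
      rwa [Module.finrank_fin_fun] at this
    have hrr : r' = r := le_antisymm h1 h2
    subst hrr
    exact Groth.Agent.S16611.main_aux (isTorus_of_split _ eT) (isTorus_of_split _ eT') g
      (fun s => ⟨_, splitBc eT _, splitBc eT' _⟩)
  · obtain ⟨T, instT, j, hj1, hj2, hT⟩ := h0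
    refine ⟨T, instT, j, 0, hj1, hj2, hT, ?_⟩
    intro T' _ j' _ _ r' g _ _
    have hS' : IsEmpty S := not_nonempty_iff.mp hS
    have h1 : IsEmpty T'.left := Function.isEmpty T'.hom
    have h2 : IsIso g.left := isIso_of_isEmpty g.left
    have : IsIso ((Over.forget S).map g) := h2
    exact isIso_of_reflects_iso g (Over.forget S)

/-- Over an arbitrary scheme S, an S-group G of finite multiplicative type admits a maximal split
subtorus: a monomorphism T ⟶ G from a split torus T ≅ D_S(ℤ^r) which is maximal among split subtori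
(if T factors through a split subtorus T' ⟶ G then the factoring morphism is an isomorphism). -/
theorem result {S : Scheme.{u}} {G : Over S} [GrpObj G]
    (hG : SGA3x.IsMultTypeFT G) :
    ∃ (T : Over S) (_ : GrpObj T) (j : T ⟶ G) (r : ℕ), IsMonHom j ∧ Mono j ∧ Red.IsSplitTorusWith (Fin r → ℤ) T ∧
      ∀ (T' : Over S) [GrpObj T'] (j' : T' ⟶ G) [IsMonHom j'] [Mono j'] (r' : ℕ) (g : T ⟶ T'),
        Red.IsSplitTorusWith (Fin r' → ℤ) T' → g ≫ j' = j → IsIso g := by
  exact main_aux hG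

end Groth.Agent.S16614
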