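import Groth.Statements.S5276
import Groth.Agent.S5274
import Groth.Agent.Lib.Helper40.FlatDescentSrc
import Mathlib

set_option autoImplicit false
open CategoryTheory MonoidalCategory CartesianMonoidalCategory MonObj GrpObj AlgebraicGeometry
universe u
open SGA3x

namespace Groth.Agent.S5276

open Groth.Agent.Lib.Helper43 Groth.Agent.Lib.Helper60.WittTorus Groth.Agent.Lib.Helper60.DiagChar
open Groth.Agent.S5279 Groth.Agent.S5290 Groth.Agent.S5274
open Groth.Agent.Lib.Helper40.FpqcCov CategoryTheory.Limits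

section GroupAlgFree

variable {k : Type*} [CommRing k] {H G : Type*} [CommGroup H] [CommGroup G] (ii : H →* G)

/-- coset decomposition -/
noncomputable def betaInv : (G ⧸ ii.range) × H → G := fun p => Quotient.out p.1 * ii p.2

lemma mk_betaInv (p : (G ⧸ ii.range) × H) : (QuotientGroup.mk (betaInv ii p) : G ⧸ ii.range) = p.1 := by
  have h1 : (QuotientGroup.mk (Quotient.out p.1 * ii p.2) : G ⧸ ii.range) =
      QuotientGroup.mk (Quotient.out p.1) := by
    rw [eq_comm, QuotientGroup.eq]
    refine ⟨p.2, ?_⟩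
    simp
  rw [betaInv, h1]
  exact QuotientGroup.out_eq' p.1

lemma betaInv_bijective (hi0 : Function.Injective ii) : Function.Bijective (betaInv ii) := by
  constructor
  · rintro ⟨q, h⟩ ⟨q', h'⟩ heq
    have hq : q = q' := by
      have := congrArg (fun g => (QuotientGroup.mk g : G ⧸ ii.range)) heq
      simpa [mk_betaInv] using this
    subst hq
    have : ii h = ii h' := mul_left_cancel heq
    rw [hi0 this]
  · intro g
    have h1 : (QuotientGroup.mk (Quotient.out (QuotientGroup.mk g : G ⧸ ii.range)) : G ⧸ ii.range) =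
        QuotientGroup.mk g := QuotientGroup.out_eq' _
    rw [QuotientGroup.eq] at h1
    obtain ⟨h, hh⟩ := h1
    refine ⟨(QuotientGroup.mk g, h), ?_⟩
    simp [betaInv, hh]

variable (k) in
/-- the coset decomposition of the group algebra -/
noncomputable def EE (hi0 : Function.Injective ii) :
    MonoidAlgebra k G ≃+ MonoidAlgebra (MonoidAlgebra k H) (G ⧸ ii.range) :=
  (MonoidAlgebra.coeffAddEquiv.trans
    ((Finsupp.domCongr (Equiv.ofBijective _ (betaInv_bijective ii hi0)).symm).trans
      MonoidAlgebra.coeffAddEquiv.symm)).trans MonoidAlgebra.curryAddEquiv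

lemma EE_single (hi0 : Function.Injective ii) (q : G ⧸ ii.range) (h : H) (c : k) :
    EE k ii hi0 (MonoidAlgebra.single (betaInv ii (q, h)) c) =
      MonoidAlgebra.single q (MonoidAlgebra.single h c) := by
  have h1 : (Equiv.ofBijective _ (betaInv_bijective ii hi0)).symm (betaInv ii (q, h)) = (q, h) :=
    (Equiv.ofBijective _ (betaInv_bijective ii hi0)).symm_apply_apply (q, h)
  simp only [EE, AddEquiv.trans_apply]
  rw [← MonoidAlgebra.curryAddEquiv_single]
  congr 1
  ext p
  simp [Finsupp.domCongr, h1, MonoidAlgebra.coeffAddEquiv]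

theorem flat_surj_of_injective [Nontrivial k] (hi0 : Function.Injective ii) :
    ((MonoidAlgebra.mapDomainAlgHom k k ii).toRingHom).Flat ∧
      Function.Surjective (PrimeSpectrum.comap (MonoidAlgebra.mapDomainAlgHom k k ii).toRingHom) := by
  let alg : Algebra (MonoidAlgebra k H) (MonoidAlgebra k G) :=
    ((MonoidAlgebra.mapDomainAlgHom k k ii).toRingHom).toAlgebra
  have hsm : ∀ (r : MonoidAlgebra k H) (a : MonoidAlgebra k G),
      EE k ii hi0 (r • a) = r • EE k ii hi0 a := by
    intro r a
    rw [Algebra.smul_def, RingHom.algebraMap_toAlgebra]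
    induction a using MonoidAlgebra.induction_linear with
    | zero => simp
    | add x y hx hy => rw [mul_add, map_add, hx, hy, map_add, smul_add]
    | single g c' =>
      obtain ⟨⟨q, h⟩, rfl⟩ := (betaInv_bijective ii hi0).2 g
      induction r using MonoidAlgebra.induction_linear with
      | zero => simp
      | add x y hx hy => rw [map_add, add_mul, map_add, hx, hy, add_smul]
      | single h₀ c =>
        have h1 : (MonoidAlgebra.mapDomainAlgHom k k ii).toRingHom (MonoidAlgebra.single h₀ c) =
            MonoidAlgebra.single (ii h₀) c := by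
          simp
        have h2 : ii h₀ * betaInv ii (q, h) = betaInv ii (q, h₀ * h) := by
          simp only [betaInv, map_mul]
          exact mul_left_comm _ _ _
        rw [h1, MonoidAlgebra.single_mul_single, h2, EE_single, EE_single,
          MonoidAlgebra.smul_single, smul_eq_mul, MonoidAlgebra.single_mul_single]
  let L : MonoidAlgebra k G ≃ₗ[MonoidAlgebra k H] MonoidAlgebra (MonoidAlgebra k H) (G ⧸ ii.range) :=
    { EE k ii hi0 with map_smul' := hsm }
  have hfree : Module.Free (MonoidAlgebra k H) (MonoidAlgebra k G) :=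
    Module.Free.of_equiv L.symm
  have hff : Module.FaithfullyFlat (MonoidAlgebra k H) (MonoidAlgebra k G) := inferInstance
  refine ⟨?_, ?_⟩
  · show Module.Flat (MonoidAlgebra k H) (MonoidAlgebra k G)
    infer_instance
  · exact PrimeSpectrum.comap_surjective_of_faithfullyFlat

end GroupAlgFree

section PFF

/-- flat and surjective -/
abbrev PFF : MorphismProperty Scheme.{u} := @Flat ⊓ @Surjective

theorem pff_stable : MorphismProperty.IsStableUnderBaseChange PFF.{u} :=
  MorphismProperty.IsStableUnderBaseChange.inf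

/-- Flatness descends along flat surjective (quasi-compact) morphisms (copied from helper40). -/
theorem flat_descendsAlong_fpqc :
    MorphismProperty.DescendsAlong (@Flat : MorphismProperty Scheme.{u})
      (@Surjective ⊓ @Flat ⊓ @QuasiCompact) where
  of_isPullback {A X Y Z fst snd f g} sq hf hfst := by
    have hf1 : Surjective f := hf.1.1
    have hf2 : Flat f := hf.1.2
    have h1 : Flat snd := MorphismProperty.of_isPullback sq hf2
    have h2 : Surjective snd := MorphismProperty.of_isPullback sq hf1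
    have h3 : Flat fst := hfst
    have h4 : Flat (snd ≫ g) := by
      rw [← sq.w]
      infer_instance
    exact Groth.Agent.Lib.Helper40.FlatDescentSrc.flat_of_comp_of_flat_surjective snd g

theorem pff_descends : MorphismProperty.DescendsAlong PFF.{u}
    (@Surjective ⊓ @Flat ⊓ @QuasiCompact) := by
  have := flat_descendsAlong_fpqc.{u}
  infer_instance

end PFF

section DichFF

variable {B : Type u} [CommRing B] {M N : Type} [AddCommGroup M] [AddCommGroup N]

local notation "TB" => Spec (CommRingCat.of B)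

lemma pff_DSmap (S : Scheme.{u}) (φ : N →+ M) (hφ : Function.Injective φ) :
    PFF (Red.DSmap S φ).left := by
  have := pff_stable.{u}
  have h0 : PFF (Red.diagMap (ULift.{u} ℤ) φ).left := by
    have hinj : Function.Injective (AddMonoidHom.toMultiplicative φ) := fun a b h => hφ h
    obtain ⟨h1, h2⟩ := flat_surj_of_injective (k := ULift.{u} ℤ)
      (AddMonoidHom.toMultiplicative φ) hinj
    constructor
    · show Flat (Spec.map (CommRingCat.ofHom _))
      rw [Flat.SpecMap_iff]
      exact h1
    · exact ⟨h2⟩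
  unfold Red.DSmap
  exact MorphismProperty.of_isPullback
    (Groth.Agent.S5284.isPullback_pullback_map_left _ (Red.diagMap (ULift.{u} ℤ) φ)) h0

lemma bc_map_eq_of_pts {S : Scheme.{u}} {G H : Over S} (u v : G ⟶ H) {Z : Scheme.{u}} (g : Z ⟶ S)
    (h : ∀ (Y : Over S) (t : Y.left ⟶ Z), t ≫ g = Y.hom → ∀ c : Y ⟶ G, c ≫ u = c ≫ v) :
    (Over.pullback g).map u = (Over.pullback g).map v := by
  have h1 := h ((Over.map g).obj (Red.bc g G)) (Red.bc g G).hom rfl (toBase g (𝟙 _))
  rw [← toBase_map, ← toBase_map] at h1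
  have h2 := toBase_injective g h1
  simpa using h2

lemma isAffine_DS (M : Type) [AddCommGroup M] : IsAffine (Red.DS TB M).left := by
  have : IsAffine (Red.diag (ULift.{u} ℤ) M).left :=
    inferInstanceAs (IsAffine (Spec (CommRingCat.of (MonoidAlgebra (ULift.{u} ℤ) (Multiplicative M)))))
  show IsAffine (pullback _ _)
  infer_instance

lemma isAffine_bc_DS {K : Type u} [CommRing K] (g' : Spec (CommRingCat.of K) ⟶ TB)
    (M : Type) [AddCommGroup M] : IsAffine (Red.bc g' (Red.DS TB M)).left := by
  have : IsAffine (Red.DS TB M).left := isAffine_DS M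
  show IsAffine (pullback _ _)
  infer_instance

set_option maxHeartbeats 1000000 in
theorem inj_of_pff (θ : Red.DS TB M ⟶ Red.DS TB N) (φ : N →+ M) {Z : Scheme.{u}} (g : Z ⟶ TB) (z : Z)
    (hφ : ∀ (Y : Over TB) (t : Y.left ⟶ Z), t ≫ g = Y.hom →
      ∀ c : Y ⟶ Red.DS TB M, c ≫ θ = c ≫ Red.DSmap TB φ)
    (hP : PFF ((Over.pullback g).map θ).left) : Function.Injective φ := by
  have := pff_stable.{u}
  rw [injective_iff_map_eq_zero]
  intro n hn
  let σ := Z.fromSpecResidueField z
  let g' : Spec (CommRingCat.of (Z.residueField z)) ⟶ TB := σ ≫ g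
  have hP' : PFF ((Over.pullback g').map θ).left := At.comp PFF θ g σ hP
  let v := (Over.pullback g').map θ
  obtain ⟨Y, t₀, ht₀, c, hc⟩ := exists_univ_pt (Z.residueField z) g' N
  let iY := iotaY g' Y t₀ ht₀
  let y : Over.mk t₀ ⟶ Red.bc g' (Red.DS TB N) := tbInv g' (iY.hom ≫ c)
  have hfl : Flat v.left := hP'.1
  have hsj : Surjective v.left := hP'.2
  have hA1 : IsAffine (Red.bc g' (Red.DS TB M)).left := isAffine_bc_DS g' M
  have hA2 : IsAffine (Red.bc g' (Red.DS TB N)).left := isAffine_bc_DS g' N
  have hqc : QuasiCompact v.left := inferInstance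
  have hcov : IsQCov v.left := IsQCov.of_quasiCompact v.left
  have hepi : Epi (pullback.fst y.left v.left) := (hcov.pullback_fst y.left).isCov.epi
  let p₁ := pullback.fst y.left v.left
  let p₂ := pullback.snd y.left v.left
  let YW : Over TB := Over.mk (p₁ ≫ Y.hom)
  let w : YW ⟶ Y := Over.homMk p₁ rfl
  have hw1 : p₂ ≫ pullback.snd (Red.DS TB M).hom g' = p₁ ≫ t₀ := by
    have e1 : v.left ≫ pullback.snd (Red.DS TB N).hom g' = pullback.snd (Red.DS TB M).hom g' :=
      Over.w v
    have e2 : y.left ≫ pullback.snd (Red.DS TB N).hom g' = t₀ := Over.w y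
    rw [← e1, ← Category.assoc, ← pullback.condition, Category.assoc, e2]
  let xW : YW ⟶ Red.DS TB M := Over.homMk (p₂ ≫ pullback.fst (Red.DS TB M).hom g') (by
    show (p₂ ≫ pullback.fst (Red.DS TB M).hom g') ≫ (Red.DS TB M).hom = p₁ ≫ Y.hom
    rw [Category.assoc, pullback.condition, ← Category.assoc, hw1, Category.assoc, ht₀])
  have hxw : xW ≫ θ = w ≫ c := by
    ext
    show (p₂ ≫ pullback.fst (Red.DS TB M).hom g') ≫ θ.left = p₁ ≫ c.left
    have e1 : v.left ≫ pullback.fst (Red.DS TB N).hom g' =
        pullback.fst (Red.DS TB M).hom g' ≫ θ.left := pullback.lift_fst _ _ _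
    have e2 : y.left ≫ pullback.fst (Red.DS TB N).hom g' = c.left := by
      have := congrArg (fun m => m.left) (toBase_tbInv g' (iY.hom ≫ c))
      simp only [toBase_left, Over.comp_left] at this
      rw [this]
      show 𝟙 _ ≫ c.left = c.left
      exact Category.id_comp _
    rw [Category.assoc, ← e1, ← Category.assoc, ← pullback.condition, Category.assoc, e2]
  have htW : (p₁ ≫ t₀ ≫ σ) ≫ g = YW.hom := by
    show (p₁ ≫ t₀ ≫ σ) ≫ g = p₁ ≫ Y.hom
    rw [← ht₀]
    simp only [Category.assoc, g']
  -- the character `n` of the universal point is trivial after the cover, hence trivial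
  let ψ : ℤ →+ N := zmultiplesHom N n
  have hab : c ≫ Red.DSmap TB ψ = 1 := by
    have h1 : w ≫ (c ≫ Red.DSmap TB ψ) = w ≫ 1 := by
      apply chFn_injective
      intro m
      rw [← Category.assoc, chFn_DSmap, ← hxw, hφ YW _ htW xW, chFn_DSmap, chFn_comp, chFn_one,
        map_one]
      have : φ (ψ m) = 0 := by
        show φ (m • n) = 0
        rw [map_zsmul, hn, smul_zero]
      rw [this, chFn_zero]
    have h2 := congrArg (fun m => m.left) h1
    simp only [Over.comp_left] at h2
    have h3 : (c ≫ Red.DSmap TB ψ).left = (1 : Y ⟶ Red.DS TB ℤ).left := (cancel_epi p₁).mp h2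
    exact Over.OverMorphism.ext h3
  apply hc
  have h4 := congrArg (chFn (1 : ℤ)) hab
  rw [chFn_DSmap, chFn_one] at h4
  have : ψ 1 = n := one_zsmul n
  rwa [this] at h4

theorem dich_ff (θ : Red.DS TB M ⟶ Red.DS TB N) [IsMonHom θ] (hN : AddGroup.FG N)
    (𝔭 : Ideal B) [𝔭.IsPrime] :
    ∃ f : B, f ∉ 𝔭 ∧
      ((∀ (Z : Scheme.{u}) (k : Z ⟶ Spec (CommRingCat.of (Localization.Away f))),
          PFF ((Over.pullback (k ≫ j₀ f)).map θ).left) ∨
       (∀ (Z : Scheme.{u}) (k : Z ⟶ Spec (CommRingCat.of (Localization.Away f))), Nonempty Z →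
          ¬ PFF ((Over.pullback (k ≫ j₀ f)).map θ).left)) := by
  have := pff_stable.{u}
  obtain ⟨f, hf, φ, hφ⟩ := ds_local θ hN 𝔭
  refine ⟨f, hf, ?_⟩
  have hφ' : ∀ (Z : Scheme.{u}) (k : Z ⟶ Spec (CommRingCat.of (Localization.Away f)))
      (Y : Over TB) (t : Y.left ⟶ Z), t ≫ k ≫ j₀ f = Y.hom →
      ∀ c : Y ⟶ Red.DS TB M, c ≫ θ = c ≫ Red.DSmap TB φ :=
    fun Z k Y t ht c => hφ Y (isUnit_ptHom k Y t ht) c
  by_cases hi : Function.Injective φ
  · left
    intro Z k
    rw [bc_map_eq_of_pts θ (Red.DSmap TB φ) (k ≫ j₀ f) (hφ' Z k)]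
    exact MorphismProperty.of_isPullback
      (Groth.Agent.S5284.isPullback_pullback_map_left (k ≫ j₀ f) (Red.DSmap TB φ))
      (pff_DSmap TB φ hi)
  · right
    rintro Z k ⟨z⟩ hP
    exact hi (inj_of_pff θ φ (k ≫ j₀ f) z (hφ' Z k) hP)

end DichFF

theorem main_aux {S : Scheme.{u}} (G H : Over S) [GrpObj G] [GrpObj H]
    (hG : SGA3x.IsMultTypeFT G) (hH : SGA3x.IsMultTypeFT H) (u : G ⟶ H) [IsMonHom u] :
    ∃ U : S.Opens, IsClosed (U : Set S) ∧
      (∀ s : S, s ∈ U ↔ (Flat ((Over.pullback (S.fromSpecResidueField s)).map u).left ∧ Surjective ((Over.pullback (S.fromSpecResidueField s)).map u).left)) ∧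
      (Flat ((Over.pullback U.ι).map u).left ∧ Surjective ((Over.pullback U.ι).map u).left) := by
  have h1 := pff_stable.{u}
  have h2 := pff_descends.{u}
  have hd : DSDich PFF.{u} := by
    intro B _ M N _ _ θ _ hN 𝔭 _
    exact dich_ff θ hN 𝔭
  exact main_generic PFF.{u} hd G H hG hH u

/-- Case 'faithfully flat (flat and surjective)': Let u : G ⟶ H be a homomorphism of S-groups of
multiplicative type and of finite type. Then the set U of points s ∈ S such that u_s : G_s ⟶ H_s is
faithfully flat (flat and surjective) is open and closed in S, and the homomorphism G|_U ⟶ H|_U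
induced above U is faithfully flat (flat and surjective). -/
theorem result {S : Scheme.{u}} (G H : Over S) [GrpObj G] [GrpObj H]
    (hG : SGA3x.IsMultTypeFT G) (hH : SGA3x.IsMultTypeFT H) (u : G ⟶ H) [IsMonHom u] :
    ∃ U : S.Opens, IsClosed (U : Set S) ∧
      (∀ s : S, s ∈ U ↔ (Flat ((Over.pullback (S.fromSpecResidueField s)).map u).left ∧ Surjective ((Over.pullback (S.fromSpecResidueField s)).map u).left)) ∧
      (Flat ((Over.pullback U.ι).map u).left ∧ Surjective ((Over.pullback U.ι).map u).left) := by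
  exact main_aux G H hG hH u

end Groth.Agent.S5276
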