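import Groth.Statements.S5430
import Groth.Agent.S5274
import Mathlib

set_option autoImplicit false
universe u
open CategoryTheory MonoidalCategory CartesianMonoidalCategory MonObj GrpObj AlgebraicGeometry CategoryTheory.Limits
open SGA3x

namespace Groth.Agent.S5430

open Groth.Agent.Lib.Helper43 Groth.Agent.Lib.Helper60.WittTorus Groth.Agent.Lib.Helper60.DiagChar
open Groth.Agent.S5279 Groth.Agent.S5290 Groth.Agent.S5274
open Groth.Agent.Lib.Helper40.FpqcCov CategoryTheory.Limits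

section Abstract

variable {S₀ : Scheme.{u}} (Q : ∀ {Z : Scheme.{u}}, (Z ⟶ S₀) → Prop)

/-- a predicate on points of `S₀` which is stable under base change, descends along fpqc covers and
is Zariski local -/
structure GoodPred : Prop where
  comp : ∀ {Z Z' : Scheme.{u}} (g : Z ⟶ S₀) (k : Z' ⟶ Z), Q g → Q (k ≫ g)
  desc : ∀ {Z Z' : Scheme.{u}} (g : Z ⟶ S₀) (k : Z' ⟶ Z), IsCov k → Q (k ≫ g) → Q g
  zar : ∀ {Z : Scheme.{u}} (g : Z ⟶ S₀) (W : Z → Z.Opens), (∀ z, z ∈ W z) →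
    (∀ z, Q ((W z).ι ≫ g)) → Q g

variable {Q}

lemma GoodPred.residue_iff (hQ : GoodPred Q) {S'' : Scheme.{u}} (f'' : S'' ⟶ S₀) (s'' : S'') :
    Q (S₀.fromSpecResidueField (f'' s'')) ↔ Q (S''.fromSpecResidueField s'' ≫ f'') := by
  have hk := Scheme.Hom.SpecMap_residueFieldMap_fromSpecResidueField f'' s''
  rw [← hk]
  constructor
  · intro h
    exact hQ.comp _ _ h
  · intro h
    exact hQ.desc _ _ (isCov_SpecMap_field (f''.residueFieldMap s'').hom) h

theorem clopen_of_localDich (hQ : GoodPred Q) {S'' : Scheme.{u}} (f'' : S'' ⟶ S₀)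
    (hq : IsQCov f'')
    (hK : ∀ s'' : S'', ∃ (T' : Scheme.{u}) (j : T' ⟶ S''), IsOpenImmersion j ∧ s'' ∈ Set.range j ∧
      ((∀ (Z : Scheme.{u}) (k : Z ⟶ T'), Q (k ≫ j ≫ f'')) ∨
       (∀ (Z : Scheme.{u}) (k : Z ⟶ T'), Nonempty Z → ¬ Q (k ≫ j ≫ f'')))) :
    ∃ U : S₀.Opens, IsClosed (U : Set S₀) ∧
      (∀ s : S₀, s ∈ U ↔ Q (S₀.fromSpecResidueField s)) ∧ Q U.ι := by
  let A : Set S₀ := {s | Q (S₀.fromSpecResidueField s)}
  let A'' : Set S'' := {s'' | Q (S''.fromSpecResidueField s'' ≫ f'')}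
  have hAA : f'' ⁻¹' A = A'' := by
    ext s''
    exact hQ.residue_iff f'' s''
  have hfac : ∀ (T' : Scheme.{u}) (j : T' ⟶ S'') [IsOpenImmersion j] (y : T'),
      ∃ k : Spec (S''.residueField (j y)) ⟶ T', k ≫ j = S''.fromSpecResidueField (j y) := by
    intro T' j _ y
    refine ⟨IsOpenImmersion.lift j (S''.fromSpecResidueField (j y)) ?_, IsOpenImmersion.lift_fac _ _ _⟩
    rw [Scheme.range_fromSpecResidueField]
    rintro _ rfl
    exact ⟨y, rfl⟩
  have hL : ∀ (T' : Scheme.{u}) (j : T' ⟶ S'') [IsOpenImmersion j],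
      (∀ (Z : Scheme.{u}) (k : Z ⟶ T'), Q (k ≫ j ≫ f'')) → Set.range j ⊆ A'' := by
    rintro T' j _ h _ ⟨y, rfl⟩
    obtain ⟨k, hk⟩ := hfac T' j y
    show Q (S''.fromSpecResidueField (j y) ≫ f'')
    rw [← hk, Category.assoc]
    exact h _ k
  have hR : ∀ (T' : Scheme.{u}) (j : T' ⟶ S'') [IsOpenImmersion j],
      (∀ (Z : Scheme.{u}) (k : Z ⟶ T'), Nonempty Z → ¬ Q (k ≫ j ≫ f'')) →
      Set.range j ⊆ A''ᶜ := by
    rintro T' j _ h _ ⟨y, rfl⟩
    obtain ⟨k, hk⟩ := hfac T' j y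
    show ¬ Q (S''.fromSpecResidueField (j y) ≫ f'')
    rw [← hk, Category.assoc]
    exact h _ k inferInstance
  have hO1 : IsOpen A'' := by
    rw [isOpen_iff_forall_mem_open]
    intro s'' hs
    obtain ⟨T', j, hj, hsj, hd⟩ := hK s''
    refine ⟨Set.range j, ?_, j.isOpenEmbedding.isOpen_range, hsj⟩
    rcases hd with hd | hd
    · exact hL T' j hd
    · exact absurd hs (hR T' j hd hsj)
  have hO2 : IsOpen A''ᶜ := by
    rw [isOpen_iff_forall_mem_open]
    intro s'' hs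
    obtain ⟨T', j, hj, hsj, hd⟩ := hK s''
    refine ⟨Set.range j, ?_, j.isOpenEmbedding.isOpen_range, hsj⟩
    rcases hd with hd | hd
    · exact absurd (hL T' j hd hsj) hs
    · exact hR T' j hd
  have hA1 : IsOpen A := isOpen_of_isQCov hq A (by rw [hAA]; exact hO1)
  have hA2 : IsOpen Aᶜ := isOpen_of_isQCov hq Aᶜ (by rw [Set.preimage_compl, hAA]; exact hO2)
  let U : S₀.Opens := ⟨A, hA1⟩
  refine ⟨U, ⟨hA2⟩, fun s => Iff.rfl, ?_⟩
  have hcov : IsCov (f'' ∣_ U) := hq.isCov.of_isPullback (isPullback_morphismRestrict f'' U)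
  apply hQ.desc U.ι (f'' ∣_ U) hcov
  rw [morphismRestrict_ι]
  have hloc : ∀ z : (f'' ⁻¹ᵁ U : Scheme.{u}), ∃ W : (f'' ⁻¹ᵁ U : Scheme.{u}).Opens, z ∈ W ∧
      Q (W.ι ≫ (f'' ⁻¹ᵁ U).ι ≫ f'') := by
    intro z
    have hz : z.1 ∈ A'' := by
      rw [← hAA]
      exact z.2
    obtain ⟨T', j, hj, hsj, hd⟩ := hK z.1
    rcases hd with hd | hd
    · refine ⟨(f'' ⁻¹ᵁ U).ι ⁻¹ᵁ j.opensRange, hsj, ?_⟩
      have hr : Set.range (((f'' ⁻¹ᵁ U).ι ⁻¹ᵁ j.opensRange).ι ≫ (f'' ⁻¹ᵁ U).ι).base ⊆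
          Set.range j.base := by
        rintro _ ⟨w, rfl⟩
        exact w.2
      have hk := IsOpenImmersion.lift_fac j (((f'' ⁻¹ᵁ U).ι ⁻¹ᵁ j.opensRange).ι ≫ (f'' ⁻¹ᵁ U).ι) hr
      rw [← Category.assoc, ← hk, Category.assoc]
      exact hd _ _
    · exact absurd hz (hR T' j hd hsj)
  choose W hW1 hW2 using hloc
  exact hQ.zar _ W hW1 hW2

end Abstract

section DSLocalPts

variable {B : Type u} [CommRing B] {M N : Type} [AddCommGroup M] [AddCommGroup N]

local notation "TB" => Spec (CommRingCat.of B)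

/-- `ds_local` for natural multiplicative maps on points -/
theorem ds_local_pts (ψ : ∀ {Y : Over TB}, (Y ⟶ Red.DS TB M) → (Y ⟶ Red.DS TB N))
    (ψ_nat : ∀ {Y Y' : Over TB} (w : Y' ⟶ Y) (c : Y ⟶ Red.DS TB M), ψ (w ≫ c) = w ≫ ψ c)
    (ψ_mul : ∀ {Y : Over TB} (c c' : Y ⟶ Red.DS TB M), ψ (c * c') = ψ c * ψ c')
    (hN : AddGroup.FG N) (𝔭 : Ideal B) [𝔭.IsPrime] :
    ∃ f : B, f ∉ 𝔭 ∧ ∃ φ : N →+ M, ∀ (Y : Over TB), IsUnit (ptHom Y.hom f) →
      ∀ c : Y ⟶ Red.DS TB M, ψ c = c ≫ Red.DSmap TB φ := by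
  let P : Over TB → Prop := fun _ => True
  have hP : ∀ {Y Y' : Over TB} (_ : Y' ⟶ Y), P Y → P Y' := fun _ _ => trivial
  have hP0 : P (YC (Ideal.Quotient.mk (⊥ : Ideal B))) := trivial
  have hPk : ∀ Y, P Y → ∀ r ∈ (⊥ : Ideal B), ptHom Y.hom r = 0 := by
    intro Y _ r hr
    rw [Ideal.mem_bot.mp hr, map_zero]
  have ψ_nat' : ∀ {Y Y' : Over TB} (w : Y' ⟶ Y) (c : Y ⟶ Red.DS TB M), P Y →
      ψ (w ≫ c) = w ≫ ψ c := fun w c _ => ψ_nat w c
  have ψ_mul' : ∀ {Y : Over TB} (c c' : Y ⟶ Red.DS TB M), P Y → ψ (c * c') = ψ c * ψ c' :=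
    fun c c' _ => ψ_mul c c'
  let e : B ⧸ (⊥ : Ideal B) →+* B := Ideal.Quotient.lift ⊥ (RingHom.id B) (by
    intro a ha
    rw [Ideal.mem_bot.mp ha, map_zero])
  have he : ∀ f' : B ⧸ (⊥ : Ideal B), Ideal.Quotient.mk ⊥ (e f') = f' := by
    intro f'
    obtain ⟨b, rfl⟩ := Ideal.Quotient.mk_surjective f'
    rfl
  obtain ⟨f', hf', φ, hφ⟩ := alg_local (ubar (⊥ : Ideal B) ψ)
    (ubar_Glike1 ⊥ P hP hP0 hPk ψ ψ_nat' ψ_mul') (ubar_eps ⊥ P hP hP0 hPk ψ ψ_nat' ψ_mul')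
    (ubar_add ⊥ ψ) (ubar_zero ⊥ ψ) hN (𝔭.comap e)
  refine ⟨e f', hf', φ, ?_⟩
  intro Y hu c
  apply chFn_injective
  intro n
  rw [chFn_DSmap]
  have hE := E_main ⊥ P hP hP0 hPk ψ ψ_nat' (Y := Y) trivial c n
  refine hE.trans ?_
  have hz : IsUnit ((Ideal.Quotient.lift ⊥ (ptHom Y.hom) (hPk Y trivial)) f') := by
    rw [← he f', Ideal.Quotient.lift_mk]
    exact hu
  have h2 := hφ (Ideal.Quotient.lift ⊥ (ptHom Y.hom) (hPk Y trivial)) hz n
  have h3 := ev_map (Ideal.Quotient.lift ⊥ (ptHom Y.hom) (hPk Y trivial))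
    (RingHom.id _) (chHom c) (ubar (⊥ : Ideal B) ψ n)
  rw [RingHom.id_comp] at h3
  rw [← h3, h2, ev_single, map_one, _root_.one_mul]
  rfl

end DSLocalPts


section Ker

variable {S : Scheme.{u}} {E H U : Over S} [GrpObj E] [GrpObj H] [GrpObj U]
  {p : E ⟶ U} [IsMonHom p] {i : H ⟶ E} [IsMonHom i]

lemma i_mono (hker : AlgGrp.IsKernel i p) {Y : Over S} (a b : Y ⟶ H) (h : a ≫ i = b ≫ i) :
    a = b :=
  hker.hom_ext h (toUnit_unique _ _)

lemma i_p (hker : AlgGrp.IsKernel i p) {Y : Over S} (h : Y ⟶ H) : (h ≫ i) ≫ p = 1 := by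
  rw [Category.assoc, hker.w, ← Category.assoc, toUnit_unique (h ≫ toUnit H) (toUnit Y)]
  rfl

lemma ker_lift (hker : AlgGrp.IsKernel i p) {Y : Over S} (e : Y ⟶ E) (he : e ≫ p = 1) :
    ∃ h : Y ⟶ H, h ≫ i = e :=
  ⟨hker.lift e (toUnit Y) (by rw [he]; rfl), hker.lift_fst _ _ _⟩

lemma conj_p (hker : AlgGrp.IsKernel i p) {Y : Over S} (e : Y ⟶ E) (h : Y ⟶ H) :
    (e * (h ≫ i) * e⁻¹) ≫ p = 1 := by
  rw [MonObj.mul_comp, MonObj.mul_comp, i_p hker, _root_.mul_one, GrpObj.inv_comp,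
    mul_inv_cancel]

/-- conjugation of a point of `H` by a point of `E` -/
noncomputable def cj (hker : AlgGrp.IsKernel i p) {Y : Over S} (e : Y ⟶ E) (h : Y ⟶ H) : Y ⟶ H :=
  (ker_lift hker _ (conj_p hker e h)).choose

lemma cj_i (hker : AlgGrp.IsKernel i p) {Y : Over S} (e : Y ⟶ E) (h : Y ⟶ H) :
    cj hker e h ≫ i = e * (h ≫ i) * e⁻¹ :=
  (ker_lift hker _ (conj_p hker e h)).choose_spec

lemma cj_nat (hker : AlgGrp.IsKernel i p) {Y Y' : Over S} (w : Y' ⟶ Y) (e : Y ⟶ E) (h : Y ⟶ H) :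
    cj hker (w ≫ e) (w ≫ h) = w ≫ cj hker e h := by
  apply i_mono hker
  rw [cj_i, Category.assoc w (cj hker e h) i, cj_i, MonObj.comp_mul, MonObj.comp_mul,
    GrpObj.comp_inv, Category.assoc]

lemma cj_mul (hker : AlgGrp.IsKernel i p) {Y : Over S} (e : Y ⟶ E) (h h' : Y ⟶ H) :
    cj hker e (h * h') = cj hker e h * cj hker e h' := by
  apply i_mono hker
  rw [cj_i, MonObj.mul_comp, MonObj.mul_comp, cj_i, cj_i]
  group

lemma cj_eq_iff (hker : AlgGrp.IsKernel i p) {Y : Over S} (e : Y ⟶ E) (h : Y ⟶ H) :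
    cj hker e h = h ↔ e * (h ≫ i) = (h ≫ i) * e := by
  constructor
  · intro hc
    have h1 := cj_i hker e h
    rw [hc] at h1
    calc e * (h ≫ i) = (e * (h ≫ i) * e⁻¹) * e := by group
      _ = (h ≫ i) * e := by rw [← h1]
  · intro hc
    apply i_mono hker
    rw [cj_i, hc]
    group

/-- the point `g` of `E`, and all its translates by `H`, centralise `H` -/
def Cent (i : H ⟶ E) {Z : Scheme.{u}} (g : Z ⟶ E.left) : Prop :=
  ∀ (Y : Over S) (e : Y ⟶ E) (t : Y.left ⟶ Z), e.left = t ≫ g → ∀ h₀ h : Y ⟶ H,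
    (e * (h₀ ≫ i)) * (h ≫ i) = (h ≫ i) * (e * (h₀ ≫ i))

lemma goodPred_cent (i : H ⟶ E) : GoodPred (S₀ := E.left) (fun {Z} g => Cent i g) := by
  refine ⟨?_, ?_, ?_⟩
  · intro Z Z' g k hg Y e t ht
    exact hg Y e (t ≫ k) (by rw [ht, Category.assoc])
  · intro Z Z' g k hk hg Y e t ht h₀ h
    have hfst : IsCov (pullback.fst t k) := hk.of_isPullback (IsPullback.of_hasPullback t k)
    let Y' : Over S := Over.mk (pullback.fst t k ≫ Y.hom)
    let w : Y' ⟶ Y := Over.homMk (pullback.fst t k) rfl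
    have : Epi w := (Over.forget S).epi_of_epi_map (by exact hfst.epi)
    have h1 := hg Y' (w ≫ e) (pullback.snd t k) (by
      rw [Over.comp_left, ht]
      show pullback.fst t k ≫ t ≫ g = _
      rw [pullback.condition_assoc]) (w ≫ h₀) (w ≫ h)
    rw [← cancel_epi w]
    simpa only [MonObj.comp_mul, Category.assoc] using h1
  · intro Z g W hW hg Y e t ht h₀ h
    apply Over.OverMorphism.ext
    apply Scheme.hom_ext_of_forall
    intro y
    refine ⟨t ⁻¹ᵁ W (t y), hW (t y), ?_⟩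
    let Y' : Over S := Over.mk ((t ⁻¹ᵁ W (t y)).ι ≫ Y.hom)
    let w : Y' ⟶ Y := Over.homMk (t ⁻¹ᵁ W (t y)).ι rfl
    have h1 := hg (t y) Y' (w ≫ e) (t ∣_ W (t y)) (by
      rw [Over.comp_left, ht, ← Category.assoc (t ∣_ W (t y)), morphismRestrict_ι,
        Category.assoc]
      rfl) (w ≫ h₀) (w ≫ h)
    have h2 : w ≫ (e * (h₀ ≫ i) * (h ≫ i)) = w ≫ ((h ≫ i) * (e * (h₀ ≫ i))) := by
      simpa only [MonObj.comp_mul, Category.assoc] using h1
    exact congrArg (fun x => x.left) h2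

end Ker


section AtT

variable {S : Scheme.{u}} {E H U : Over S} [GrpObj E] [GrpObj H] [GrpObj U]
  {p : E ⟶ U} [IsMonHom p] {i : H ⟶ E} [IsMonHom i] (hker : AlgGrp.IsKernel i p)
  {T : Scheme.{u}} (gT : T ⟶ E.left) (fT : T ⟶ S) (hfT : gT ≫ E.hom = fT)
  {N : Type} [AddCommGroup N] (eN : Grp.mk (Red.bc fT H) ≅ Grp.mk (Red.DS T N))

lemma tbInv_mul {G : Over S} [GrpObj G] {Y : Over T} (a b : (Over.map fT).obj Y ⟶ G) :
    tbInv fT (a * b) = tbInv fT a * tbInv fT b := by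
  apply toBase_injective fT
  rw [toBase_mul, toBase_tbInv, toBase_tbInv, toBase_tbInv]

/-- the universal point of `E` over `Y` -/
noncomputable def eY (Y : Over T) : (Over.map fT).obj Y ⟶ E :=
  Over.homMk (Y.hom ≫ gT) (by
    rw [Category.assoc, hfT]
    rfl)

lemma eY_nat {Y Y' : Over T} (w : Y' ⟶ Y) :
    (Over.map fT).map w ≫ eY gT fT hfT Y = eY gT fT hfT Y' := by
  ext
  simp [eY]

/-- points of `H` from points of `D(N)` -/
noncomputable def back {Y : Over T} (c : Y ⟶ Red.DS T N) : (Over.map fT).obj Y ⟶ H :=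
  toBase fT (c ≫ eN.inv.hom.hom)

lemma back_mul {Y : Over T} (c c' : Y ⟶ Red.DS T N) :
    back fT eN (c * c') = back fT eN c * back fT eN c' := by
  unfold back
  rw [MonObj.mul_comp, toBase_mul]

lemma back_nat {Y Y' : Over T} (w : Y' ⟶ Y) (c : Y ⟶ Red.DS T N) :
    back fT eN (w ≫ c) = (Over.map fT).map w ≫ back fT eN c := by
  unfold back
  rw [Category.assoc, toBase_comp]

/-- points of `D(N)` from points of `H` -/
noncomputable def forth {Y : Over T} (a : (Over.map fT).obj Y ⟶ H) : Y ⟶ Red.DS T N :=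
  tbInv fT a ≫ eN.hom.hom.hom

lemma eN_hom_inv : eN.hom.hom.hom ≫ eN.inv.hom.hom = 𝟙 _ :=
  congrArg (fun x => x.hom.hom) eN.hom_inv_id

lemma eN_inv_hom : eN.inv.hom.hom ≫ eN.hom.hom.hom = 𝟙 _ :=
  congrArg (fun x => x.hom.hom) eN.inv_hom_id

lemma back_forth {Y : Over T} (a : (Over.map fT).obj Y ⟶ H) :
    back fT eN (forth fT eN a) = a := by
  unfold back forth
  rw [Category.assoc, eN_hom_inv, Category.comp_id, toBase_tbInv]

lemma forth_back {Y : Over T} (c : Y ⟶ Red.DS T N) :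
    forth fT eN (back fT eN c) = c := by
  unfold back forth
  rw [tbInv_toBase, Category.assoc, eN_inv_hom, Category.comp_id]

lemma forth_mul {Y : Over T} (a b : (Over.map fT).obj Y ⟶ H) :
    forth fT eN (a * b) = forth fT eN a * forth fT eN b := by
  unfold forth
  have hm : IsMonHom (M := Red.bc fT H) (N := Red.DS T N) eN.hom.hom.hom :=
    eN.hom.hom.isMonHom_hom
  rw [tbInv_mul]
  exact MonObj.mul_comp (M := Red.bc fT H) (N := Red.DS T N) _ _ eN.hom.hom.hom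

lemma forth_nat {Y Y' : Over T} (w : Y' ⟶ Y) (a : (Over.map fT).obj Y ⟶ H) :
    forth fT eN ((Over.map fT).map w ≫ a) = w ≫ forth fT eN a := by
  unfold forth
  rw [← tbInv_comp, Category.assoc]

lemma ds_comm {Y : Over T} (c d : Y ⟶ Red.DS T N) : c * d = d * c := by
  apply chFn_injective
  intro n
  rw [chFn_mul, chFn_mul, mul_comm]

include eN in
lemma comm_of_triv {Y : Over T} (a b : (Over.map fT).obj Y ⟶ H) : a * b = b * a := by
  rw [← back_forth fT eN a, ← back_forth fT eN b, ← back_mul, ← back_mul, ds_comm]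

/-- conjugation by the universal point, on points of `D(N)` -/
noncomputable def psi {Y : Over T} (c : Y ⟶ Red.DS T N) : Y ⟶ Red.DS T N :=
  forth fT eN (cj hker (eY gT fT hfT Y) (back fT eN c))

lemma psi_nat {Y Y' : Over T} (w : Y' ⟶ Y) (c : Y ⟶ Red.DS T N) :
    psi hker gT fT hfT eN (w ≫ c) = w ≫ psi hker gT fT hfT eN c := by
  unfold psi
  rw [back_nat, ← eY_nat gT fT hfT w, cj_nat, forth_nat]

lemma psi_mul {Y : Over T} (c c' : Y ⟶ Red.DS T N) :
    psi hker gT fT hfT eN (c * c') = psi hker gT fT hfT eN c * psi hker gT fT hfT eN c' := by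
  unfold psi
  rw [back_mul, cj_mul, forth_mul]

lemma psi_eq_iff {Y : Over T} (c : Y ⟶ Red.DS T N) :
    psi hker gT fT hfT eN c = c ↔
      eY gT fT hfT Y * (back fT eN c ≫ i) = (back fT eN c ≫ i) * eY gT fT hfT Y := by
  rw [← cj_eq_iff hker]
  unfold psi
  constructor
  · intro h
    have := congrArg (back fT eN) h
    rwa [back_forth] at this
  · intro h
    rw [h, forth_back]

end AtT


section Transl

variable {S : Scheme.{u}} {E H U : Over S} [GrpObj E] [GrpObj H] [GrpObj U]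
  {p : E ⟶ U} [IsMonHom p] {i : H ⟶ E} [IsMonHom i] (hker : AlgGrp.IsKernel i p)
  {T : Scheme.{u}} (gT : T ⟶ E.left) (fT : T ⟶ S) (hfT : gT ≫ E.hom = fT)
  {N : Type} [AddCommGroup N] (eN : Grp.mk (Red.bc fT H) ≅ Grp.mk (Red.DS T N))

/-- an object of `Over S` whose structure map factors through `fT` comes from `Over T` -/
lemma transport {Y : Over S} (t : Y.left ⟶ T) (ht : Y.hom = t ≫ fT) :
    ∃ (w : (Over.map fT).obj (Over.mk t) ⟶ Y) (w' : Y ⟶ (Over.map fT).obj (Over.mk t)),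
      w.left = 𝟙 Y.left ∧ w' ≫ w = 𝟙 Y := by
  refine ⟨Over.homMk (𝟙 Y.left) ?_, Over.homMk (𝟙 Y.left) ?_, rfl, ?_⟩
  · exact (Category.id_comp _).trans ht
  · exact (Category.id_comp _).trans ht.symm
  · ext
    simp

lemma cent_of_comm {Y : Over S} (e : Y ⟶ E) (hcomm : ∀ a b : Y ⟶ H, a * b = b * a)
    (key : ∀ a : Y ⟶ H, e * (a ≫ i) = (a ≫ i) * e) (a₀ a : Y ⟶ H) :
    (e * (a₀ ≫ i)) * (a ≫ i) = (a ≫ i) * (e * (a₀ ≫ i)) := by
  calc (e * (a₀ ≫ i)) * (a ≫ i) = e * ((a₀ * a) ≫ i) := by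
        rw [MonObj.mul_comp, _root_.mul_assoc]
    _ = e * ((a * a₀) ≫ i) := by rw [hcomm]
    _ = (e * (a ≫ i)) * (a₀ ≫ i) := by rw [MonObj.mul_comp, _root_.mul_assoc]
    _ = ((a ≫ i) * e) * (a₀ ≫ i) := by rw [key]
    _ = (a ≫ i) * (e * (a₀ ≫ i)) := by rw [_root_.mul_assoc]

lemma cent_iff {Z : Scheme.{u}} (k : Z ⟶ T) :
    Cent i (k ≫ gT) ↔ ∀ (Y : Over T) (t : Y.left ⟶ Z), Y.hom = t ≫ k →
      ∀ c : Y ⟶ Red.DS T N, psi hker gT fT hfT eN c = c := by
  constructor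
  · intro hC Y t ht c
    rw [psi_eq_iff]
    have h1 := hC ((Over.map fT).obj Y) (eY gT fT hfT Y) t (by
      show Y.hom ≫ gT = t ≫ k ≫ gT
      rw [ht, Category.assoc]) 1 (back fT eN c)
    rwa [MonObj.one_comp, _root_.mul_one] at h1
  · intro hψ Y e t ht h₀ h
    have hY : Y.hom = (t ≫ k) ≫ fT := by
      rw [← Over.w e, ht, ← hfT]
      simp only [Category.assoc]
    obtain ⟨w, w', hw, hww⟩ := transport fT (t ≫ k) hY
    have key : ∀ a : (Over.map fT).obj (Over.mk (t ≫ k)) ⟶ H,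
        eY gT fT hfT (Over.mk (t ≫ k)) * (a ≫ i) = (a ≫ i) * eY gT fT hfT (Over.mk (t ≫ k)) := by
      intro a
      have h1 := (psi_eq_iff hker gT fT hfT eN _).mp (hψ (Over.mk (t ≫ k)) t rfl (forth fT eN a))
      rwa [back_forth] at h1
    have hwe : w ≫ e = eY gT fT hfT (Over.mk (t ≫ k)) := by
      ext
      show w.left ≫ e.left = (t ≫ k) ≫ gT
      rw [hw, ht, Category.assoc]
      exact Category.id_comp _
    have h2 := cent_of_comm (i := i) (eY gT fT hfT (Over.mk (t ≫ k)))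
      (comm_of_triv fT eN) key (w ≫ h₀) (w ≫ h)
    rw [← hwe] at h2
    have h3 : w ≫ ((e * (h₀ ≫ i)) * (h ≫ i)) = w ≫ ((h ≫ i) * (e * (h₀ ≫ i))) := by
      simpa only [MonObj.comp_mul, Category.assoc] using h2
    have h4 := congrArg (fun x => w' ≫ x) h3
    simpa only [← Category.assoc, hww, Category.id_comp] using h4

end Transl

section Dich

variable {S : Scheme.{u}} {E H U : Over S} [GrpObj E] [GrpObj H] [GrpObj U]
  {p : E ⟶ U} [IsMonHom p] {i : H ⟶ E} [IsMonHom i] (hker : AlgGrp.IsKernel i p)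
  {B : Type u} [CommRing B]

local notation "TB" => Spec (CommRingCat.of B)

lemma DSmap_id {T : Scheme.{u}} {N : Type} [AddCommGroup N] {Y : Over T} (c : Y ⟶ Red.DS T N) :
    c ≫ Red.DSmap T (AddMonoidHom.id N) = c := by
  apply chFn_injective
  intro n
  rw [chFn_DSmap]
  rfl

include hker in
theorem dich_cent (gT : TB ⟶ E.left) (fT : TB ⟶ S) (hfT : gT ≫ E.hom = fT)
    {N : Type} [AddCommGroup N] (eN : Grp.mk (Red.bc fT H) ≅ Grp.mk (Red.DS TB N))
    (hN : AddGroup.FG N) (𝔭 : Ideal B) [𝔭.IsPrime] :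
    ∃ f : B, f ∉ 𝔭 ∧
      ((∀ (Z : Scheme.{u}) (k : Z ⟶ Spec (CommRingCat.of (Localization.Away f))),
          Cent i (k ≫ j₀ f ≫ gT)) ∨
       (∀ (Z : Scheme.{u}) (k : Z ⟶ Spec (CommRingCat.of (Localization.Away f))), Nonempty Z →
          ¬ Cent i (k ≫ j₀ f ≫ gT))) := by
  obtain ⟨f, hf, φ, hφ⟩ := ds_local_pts (fun {Y} c => psi hker gT fT hfT eN c)
    (fun w c => psi_nat hker gT fT hfT eN w c) (fun c c' => psi_mul hker gT fT hfT eN c c') hN 𝔭
  refine ⟨f, hf, ?_⟩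
  have hφ' : ∀ (Z : Scheme.{u}) (k : Z ⟶ Spec (CommRingCat.of (Localization.Away f)))
      (Y : Over TB) (t : Y.left ⟶ Z), Y.hom = t ≫ k ≫ j₀ f →
      ∀ c : Y ⟶ Red.DS TB N, psi hker gT fT hfT eN c = c ≫ Red.DSmap TB φ :=
    fun Z k Y t ht c => hφ Y (isUnit_ptHom k Y t ht.symm) c
  by_cases hid : φ = AddMonoidHom.id N
  · left
    intro Z k
    rw [← Category.assoc, cent_iff hker gT fT hfT eN (k ≫ j₀ f)]
    intro Y t ht c
    rw [hφ' Z k Y t ht c, hid, DSmap_id]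
  · right
    rintro Z k ⟨z⟩ hC
    apply hid
    ext n
    rw [← Category.assoc, cent_iff hker gT fT hfT eN (k ≫ j₀ f)] at hC
    obtain ⟨Y, t₀, ht₀, c, hc⟩ := exists_univ_pt (Z.residueField z)
      (Z.fromSpecResidueField z ≫ k ≫ j₀ f) N
    have ht : Y.hom = (t₀ ≫ Z.fromSpecResidueField z) ≫ k ≫ j₀ f :=
      ((Category.assoc t₀ (Z.fromSpecResidueField z) (k ≫ j₀ f)).trans ht₀).symm
    have h1 := hC Y (t₀ ≫ Z.fromSpecResidueField z) ht c
    rw [hφ' Z k Y _ ht c] at h1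
    have h2 := congrArg (chFn n) h1
    rw [chFn_DSmap] at h2
    have h3 : chFn (φ n - n) c = 1 := by
      have h4 : chFn (φ n - n) c * chFn n c = chFn n c := by
        rw [← chFn_add, sub_add_cancel, h2]
      have h5 : IsUnit (chFn n c) := by
        refine IsUnit.of_mul_eq_one (chFn (-n) c) ?_
        rw [← chFn_add, add_neg_cancel, chFn_zero]
      exact h5.mul_left_injective (by
        show chFn (φ n - n) c * chFn n c = 1 * chFn n c
        rw [h4, _root_.one_mul])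
    have h6 := hc _ h3
    exact sub_eq_zero.mp h6

end Dich


section Local

variable {S : Scheme.{u}} {E H U : Over S} [GrpObj E] [GrpObj H] [GrpObj U]
  {p : E ⟶ U} [IsMonHom p] {i : H ⟶ E} [IsMonHom i] (hker : AlgGrp.IsKernel i p)

include hker in
theorem exists_clopen (hH : SGA3x.IsMultTypeFT H) :
    ∃ W : E.left.Opens, IsClosed (W : Set E.left) ∧
      (∀ x : E.left, x ∈ W ↔ Cent i (E.left.fromSpecResidueField x)) ∧ Cent i W.ι := by
  obtain ⟨SH, fH, hflatH, hsurjH, hqcH, hlocH⟩ := hH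
  have hqH : IsQCov fH := ⟨hsurjH, hflatH, hqcH⟩
  let p₁ := pullback.fst E.hom fH
  let p₂ := pullback.snd E.hom fH
  refine clopen_of_localDich (goodPred_cent i) p₁ (hqH.pullback_fst E.hom) ?_
  intro s''
  obtain ⟨UH, hsH, N, instN, hNfg, ⟨eH⟩⟩ := hlocH (p₂ s'')
  have hsV : s'' ∈ p₂ ⁻¹ᵁ UH := hsH
  obtain ⟨_, ⟨W₀, hW : IsAffineOpen W₀, rfl⟩, hsW, hWV⟩ :=
    (pullback E.hom fH).isBasis_affineOpens.exists_subset_of_mem_open hsV (p₂ ⁻¹ᵁ UH).2
  let W : (pullback E.hom fH).Opens := W₀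
  have hWV' : W ≤ p₂ ⁻¹ᵁ UH := hWV
  let gT : Spec (CommRingCat.of Γ(pullback E.hom fH, W)) ⟶ E.left := hW.fromSpec ≫ p₁
  let fT : Spec (CommRingCat.of Γ(pullback E.hom fH, W)) ⟶ S := gT ≫ E.hom
  have hrH : Set.range (hW.fromSpec ≫ p₂).base ⊆ Set.range UH.ι.base := by
    rintro _ ⟨x, rfl⟩
    rw [Scheme.Opens.range_ι]
    have hx : hW.fromSpec x ∈ W := by
      have := hW.range_fromSpec
      rw [← SetLike.mem_coe, ← this]
      exact ⟨x, rfl⟩
    exact hWV' hx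
  let gH := IsOpenImmersion.lift UH.ι (hW.fromSpec ≫ p₂) hrH
  have hgH : gH ≫ UH.ι = hW.fromSpec ≫ p₂ := IsOpenImmersion.lift_fac _ _ _
  have hfH : gH ≫ UH.ι ≫ fH = fT := by
    rw [← Category.assoc, hgH, Category.assoc]
    show hW.fromSpec ≫ pullback.snd E.hom fH ≫ fH = (hW.fromSpec ≫ pullback.fst E.hom fH) ≫ E.hom
    rw [Category.assoc, pullback.condition]
  let _ : AddCommGroup N := instN
  obtain ⟨eN⟩ := grpIso_bc (UH.ι ≫ fH) H N eH gH fT hfH
  let pt := hW.primeIdealOf ⟨s'', hsW⟩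
  have hpt : hW.fromSpec pt = s'' := hW.fromSpec_primeIdealOf ⟨s'', hsW⟩
  obtain ⟨f, hf, hd⟩ := dich_cent hker gT fT rfl eN hNfg pt.asIdeal
  refine ⟨Spec (CommRingCat.of (Localization.Away f)), j₀ f ≫ hW.fromSpec, inferInstance, ?_, ?_⟩
  · have hmem : pt ∈ (j₀ f).opensRange := by
      rw [Scheme.Hom.opensRange_localizationAway (R := CommRingCat.of Γ(pullback E.hom fH, W)) f]
      exact hf
    obtain ⟨y, hy⟩ := hmem
    refine ⟨y, ?_⟩
    rw [Scheme.Hom.comp_apply, hy, hpt]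
  · have key : ∀ (Z : Scheme.{u}) (k : Z ⟶ Spec (CommRingCat.of (Localization.Away f))),
        k ≫ (j₀ f ≫ hW.fromSpec) ≫ p₁ = k ≫ j₀ f ≫ gT := by
      intro Z k
      simp only [gT, Category.assoc]
    rcases hd with hd | hd
    · left
      intro Z k
      rw [key]
      exact hd Z k
    · right
      intro Z k hZ
      rw [key]
      exact hd Z k hZ

end Local


section Global

variable {S : Scheme.{u}} {E H U : Over S} [GrpObj E] [GrpObj H] [GrpObj U]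
  {p : E ⟶ U} [IsMonHom p] {i : H ⟶ E} [IsMonHom i] (hker : AlgGrp.IsKernel i p)

/-- commutativity of `H` over a trivialising base -/
lemma comm_local {T : Scheme.{u}} (fT : T ⟶ S) {N : Type} [AddCommGroup N]
    (eN : Grp.mk (Red.bc fT H) ≅ Grp.mk (Red.DS T N)) {Y : Over S} (t : Y.left ⟶ T)
    (ht : Y.hom = t ≫ fT) (a b : Y ⟶ H) : a * b = b * a := by
  obtain ⟨w, w', hw, hww⟩ := transport fT t ht
  have h1 := comm_of_triv fT eN (w ≫ a) (w ≫ b)
  have h3 : w ≫ (a * b) = w ≫ (b * a) := by simpa only [MonObj.comp_mul] using h1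
  have h4 := congrArg (fun x => w' ≫ x) h3
  simpa only [← Category.assoc, hww, Category.id_comp] using h4

lemma unit_left_hom : (η[E].left : S ⟶ E.left) ≫ E.hom = 𝟙 S := Over.w η[E]

/-- points of `E` through the unit section over a trivialising base are central -/
lemma cent_unit {T : Scheme.{u}} (fT : T ⟶ S) {N : Type} [AddCommGroup N]
    (eN : Grp.mk (Red.bc fT H) ≅ Grp.mk (Red.DS T N)) :
    Cent i (fT ≫ (η[E].left : S ⟶ E.left)) := by
  intro Y e t ht h₀ h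
  have hY : Y.hom = t ≫ fT := by
    rw [← Over.w e, ht, Category.assoc, Category.assoc, unit_left_hom, Category.comp_id]
  have he : e = 1 := by
    ext
    rw [ht, Hom.one_def, Over.comp_left, Over.toUnit_left, hY, Category.assoc]
  rw [he, _root_.one_mul, ← MonObj.mul_comp, ← MonObj.mul_comp, comm_local fT eN t hY]

end Global


section Main

variable {S : Scheme.{u}} {E H U : Over S} [GrpObj E] [GrpObj H] [GrpObj U]
  {p : E ⟶ U} [IsMonHom p] {i : H ⟶ E} [IsMonHom i] (hker : AlgGrp.IsKernel i p)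

include hker in
/-- the central locus is saturated for `p` -/
lemma cent_saturated (x₁ x₂ : E.left) (hx : p.left x₁ = p.left x₂)
    (h₁ : Cent i (E.left.fromSpecResidueField x₁)) : Cent i (E.left.fromSpecResidueField x₂) := by
  have hQ := goodPred_cent i
  let σ₁ := E.left.fromSpecResidueField x₁ ≫ p.left
  let σ₂ := E.left.fromSpecResidueField x₂ ≫ p.left
  let s₁ : Spec (E.left.residueField x₁) := IsLocalRing.closedPoint (E.left.residueField x₁)
  let s₂ : Spec (E.left.residueField x₂) := IsLocalRing.closedPoint (E.left.residueField x₂)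
  have hs : σ₁ s₁ = σ₂ s₂ := by
    show (E.left.fromSpecResidueField x₁ ≫ p.left) s₁ = (E.left.fromSpecResidueField x₂ ≫ p.left) s₂
    rw [Scheme.Hom.comp_apply, Scheme.Hom.comp_apply, Scheme.fromSpecResidueField_apply,
      Scheme.fromSpecResidueField_apply, hx]
  obtain ⟨z, hz1, hz2⟩ := Scheme.Pullback.exists_preimage_pullback (f := σ₁) (g := σ₂) s₁ s₂ hs
  let ℓ := (pullback σ₁ σ₂).fromSpecResidueField z
  let k₁ := ℓ ≫ pullback.fst σ₁ σ₂
  let k₂ := ℓ ≫ pullback.snd σ₁ σ₂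
  let g₁ := k₁ ≫ E.left.fromSpecResidueField x₁
  let g₂ := k₂ ≫ E.left.fromSpecResidueField x₂
  have hg : g₁ ≫ p.left = g₂ ≫ p.left := by
    show (ℓ ≫ pullback.fst σ₁ σ₂) ≫ E.left.fromSpecResidueField x₁ ≫ p.left =
      (ℓ ≫ pullback.snd σ₁ σ₂) ≫ E.left.fromSpecResidueField x₂ ≫ p.left
    rw [Category.assoc, Category.assoc]
    exact congrArg (fun x => ℓ ≫ x) (pullback.condition (f := σ₁) (g := σ₂))
  have hC₁ : Cent i g₁ := hQ.comp _ k₁ h₁
  have hk₂ : IsCov k₂ := by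
    rw [← Spec.map_preimage k₂]
    exact isCov_SpecMap_field (Spec.preimage k₂).hom
  apply hQ.desc _ k₂ hk₂
  show Cent i g₂
  have hE : g₂ ≫ E.hom = g₁ ≫ E.hom := by
    rw [← Over.w p, ← Category.assoc, ← hg, Category.assoc]
  let YL : Over S := Over.mk (g₁ ≫ E.hom)
  let e₁ : YL ⟶ E := Over.homMk g₁ rfl
  let e₂ : YL ⟶ E := Over.homMk g₂ hE
  have hp : e₁ ≫ p = e₂ ≫ p := by
    ext
    exact hg
  have hk : (e₁⁻¹ * e₂) ≫ p = 1 := by
    rw [MonObj.mul_comp, GrpObj.inv_comp, hp, inv_mul_cancel]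
  obtain ⟨h₁₂, hh⟩ := ker_lift hker _ hk
  have he₂ : e₂ = e₁ * (h₁₂ ≫ i) := by
    rw [hh]
    group
  intro Y' e' t ht h₀ h
  have hY' : t ≫ YL.hom = Y'.hom := by
    rw [← Over.w e', ht, Category.assoc]
    exact congrArg (fun x => t ≫ x) hE.symm
  let tt : Y' ⟶ YL := Over.homMk t hY'
  have he' : e' = tt ≫ e₂ := by
    ext
    exact ht
  have h2 := hC₁ Y' (tt ≫ e₁) t rfl ((tt ≫ h₁₂) * h₀) h
  rw [MonObj.mul_comp, ← _root_.mul_assoc] at h2
  rw [he', he₂, MonObj.comp_mul, ← Category.assoc tt h₁₂ i]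
  exact h2

end Main


section Final

theorem main_aux (S : Scheme.{u}) (E H U : Over S) [GrpObj E] [GrpObj H] [GrpObj U]
    (p : E ⟶ U) [IsMonHom p] [Surjective p.left] [Flat p.left] [QuasiCompact p.left]
    (i : H ⟶ E) [IsMonHom i] (hker : AlgGrp.IsKernel i p) (hH : SGA3x.IsMultTypeFT H)
    (hU : ∀ s : S, _root_.IsConnected (U.hom.base ⁻¹' {s})) :
    ∀ (X : Over S) (h : X ⟶ H) (e : X ⟶ E), (h ≫ i) * e = e * (h ≫ i) := by
  have hQ := goodPred_cent i
  obtain ⟨W, hWc, hWmem, hQW⟩ := exists_clopen hker hH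
  have hsat : ∀ x₁ x₂ : E.left, p.left x₁ = p.left x₂ → x₁ ∈ W → x₂ ∈ W := by
    intro x₁ x₂ hx h₁
    rw [hWmem] at h₁ ⊢
    exact cent_saturated hker x₁ x₂ hx h₁
  let A : Set U.left := p.left '' (W : Set E.left)
  have hpre : p.left ⁻¹' A = (W : Set E.left) := by
    ext x
    constructor
    · rintro ⟨x₁, hx₁, hx⟩
      exact hsat x₁ x hx hx₁
    · intro hx
      exact ⟨x, hx, rfl⟩
  have hq : IsQCov p.left := IsQCov.of_quasiCompact p.left
  have hA1 : IsOpen A := isOpen_of_isQCov hq A (by rw [hpre]; exact W.2)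
  have hA2 : IsOpen Aᶜ := isOpen_of_isQCov hq Aᶜ (by
    rw [Set.preimage_compl, hpre]
    exact hWc.isOpen_compl)
  have hAclopen : IsClopen A := ⟨⟨hA2⟩, hA1⟩
  -- the unit section lies in `W`
  have hunitE : ∀ s : S, (η[E].left : S ⟶ E.left) s ∈ W := by
    obtain ⟨SH, fH, hflatH, hsurjH, hqcH, hlocH⟩ := hH
    intro s
    obtain ⟨s', rfl⟩ := hsurjH.surj s
    obtain ⟨UH, hsH, N, instN, hNfg, ⟨eH⟩⟩ := hlocH s'
    let _ : AddCommGroup N := instN
    let f₀ : SH ⟶ E.left := fH ≫ (η[E].left : S ⟶ E.left)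
    show f₀ s' ∈ W
    rw [hWmem, hQ.residue_iff f₀ s']
    have hr : Set.range (SH.fromSpecResidueField s').base ⊆ Set.range UH.ι.base := by
      rw [Scheme.range_fromSpecResidueField, Scheme.Opens.range_ι]
      rintro _ rfl
      exact hsH
    have hk := IsOpenImmersion.lift_fac UH.ι (SH.fromSpecResidueField s') hr
    rw [← hk, Category.assoc]
    apply hQ.comp
    have h1 := cent_unit (i := i) (UH.ι ≫ fH) eH
    rwa [Category.assoc] at h1
  have hpη : (η[E].left : S ⟶ E.left) ≫ p.left = (η[U].left : S ⟶ U.left) :=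
    congrArg (fun x => x.left) (IsMonHom.one_hom (f := p))
  have hunitU : ∀ s : S, (η[U].left : S ⟶ U.left) s ∈ A := by
    intro s
    refine ⟨(η[E].left : S ⟶ E.left) s, hunitE s, ?_⟩
    rw [← hpη]
    rfl
  have hallU : ∀ x : U.left, x ∈ A := by
    intro x
    have hpc := (hU (U.hom x)).isPreconnected
    refine hpc.subset_isClopen hAclopen ⟨(η[U].left : S ⟶ U.left) (U.hom x), ?_, hunitU _⟩ rfl
    show U.hom ((η[U].left : S ⟶ U.left) (U.hom x)) = U.hom x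
    rw [← Scheme.Hom.comp_apply, unit_left_hom]
    rfl
  have hall : ∀ x : E.left, x ∈ W := by
    intro x
    obtain ⟨x₁, hx₁, hx⟩ := hallU (p.left x)
    exact hsat x₁ x hx hx₁
  intro X h e
  have hr : Set.range e.left.base ⊆ Set.range W.ι.base := by
    rw [Scheme.Opens.range_ι]
    rintro _ ⟨y, rfl⟩
    exact hall _
  have ht := IsOpenImmersion.lift_fac W.ι e.left hr
  have h1 := hQW X e (IsOpenImmersion.lift W.ι e.left hr) ht.symm 1 h
  rw [MonObj.one_comp, _root_.mul_one] at h1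
  exact h1.symm

end Final

/-- Let S be a scheme and E an S-group scheme which is an extension of an S-group scheme U with
connected fibres by an S-group H of multiplicative type and of finite type: p : E → U is a
homomorphism which is surjective, flat and quasi-compact (U is the fpqc quotient E/H) and i : H → E
is its kernel. Then the extension is central: every point of H commutes with every point of E. -/
theorem result (S : Scheme.{u}) (E H U : Over S) [GrpObj E] [GrpObj H] [GrpObj U]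
    (p : E ⟶ U) [IsMonHom p] [Surjective p.left] [Flat p.left] [QuasiCompact p.left]
    (i : H ⟶ E) [IsMonHom i] (hker : AlgGrp.IsKernel i p) (hH : SGA3x.IsMultTypeFT H)
    (hU : ∀ s : S, _root_.IsConnected (U.hom.base ⁻¹' {s})) :
    ∀ (X : Over S) (h : X ⟶ H) (e : X ⟶ E), (h ≫ i) * e = e * (h ≫ i) := by
  exact main_aux S E H U p i hker hH hU

end Groth.Agent.S5430
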