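import Groth.Statements.S5255
import Groth.Agent.S5430
import Mathlib

set_option autoImplicit false
open CategoryTheory MonoidalCategory CartesianMonoidalCategory MonObj GrpObj AlgebraicGeometry
universe u
open SGA3x

namespace Groth.Agent.S5255

open Groth.Agent.Lib.Helper43 Groth.Agent.Lib.Helper60.WittTorus Groth.Agent.Lib.Helper60.DiagChar
open Groth.Agent.S5279 Groth.Agent.S5290 Groth.Agent.S5274 Groth.Agent.S5430
open Groth.Agent.Lib.Helper40.FpqcCov CategoryTheory.Limits

section Abstract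

variable {S : Scheme.{u}}

/-- a family of endomorphisms of the point-groups of `H`, parametrised by the points of `P` -/
structure PtAct (P H : Over S) [GrpObj H] where
  act : ∀ {Y : Over S}, (Y ⟶ P) → (Y ⟶ H) → (Y ⟶ H)
  nat : ∀ {Y Y' : Over S} (w : Y' ⟶ Y) (e : Y ⟶ P) (h : Y ⟶ H), act (w ≫ e) (w ≫ h) = w ≫ act e h
  mul : ∀ {Y : Over S} (e : Y ⟶ P) (h h' : Y ⟶ H), act e (h * h') = act e h * act e h'

variable {P H : Over S} [GrpObj H] (α : PtAct P H)

/-- the point `g` of `P` acts trivially on `H` -/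
def Fix {Z : Scheme.{u}} (g : Z ⟶ P.left) : Prop :=
  ∀ (Y : Over S) (e : Y ⟶ P) (t : Y.left ⟶ Z), e.left = t ≫ g → ∀ h : Y ⟶ H, α.act e h = h

lemma goodPred_fix : GoodPred (S₀ := P.left) (fun {_} g => Fix α g) := by
  refine ⟨?_, ?_, ?_⟩
  · intro Z Z' g k hg Y e t ht
    exact hg Y e (t ≫ k) (by rw [ht, Category.assoc])
  · intro Z Z' g k hk hg Y e t ht h
    have hfst : IsCov (pullback.fst t k) := hk.of_isPullback (IsPullback.of_hasPullback t k)
    let Y' : Over S := Over.mk (pullback.fst t k ≫ Y.hom)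
    let w : Y' ⟶ Y := Over.homMk (pullback.fst t k) rfl
    have : Epi w := (Over.forget S).epi_of_epi_map (by exact hfst.epi)
    have h1 := hg Y' (w ≫ e) (pullback.snd t k) (by
      rw [Over.comp_left, ht]
      show pullback.fst t k ≫ t ≫ g = _
      rw [pullback.condition_assoc]) (w ≫ h)
    rw [α.nat] at h1
    exact (cancel_epi w).mp h1
  · intro Z g W hW hg Y e t ht h
    apply Over.OverMorphism.ext
    apply Scheme.hom_ext_of_forall
    intro y
    refine ⟨t ⁻¹ᵁ W (t y), hW (t y), ?_⟩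
    let Y' : Over S := Over.mk ((t ⁻¹ᵁ W (t y)).ι ≫ Y.hom)
    let w : Y' ⟶ Y := Over.homMk (t ⁻¹ᵁ W (t y)).ι rfl
    have h1 := hg (t y) Y' (w ≫ e) (t ∣_ W (t y)) (by
      rw [Over.comp_left, ht, ← Category.assoc (t ∣_ W (t y)), morphismRestrict_ι,
        Category.assoc]
      rfl) (w ≫ h)
    rw [α.nat] at h1
    exact congrArg (fun x => x.left) h1

variable {T : Scheme.{u}} (gT : T ⟶ P.left) (fT : T ⟶ S) (hfT : gT ≫ P.hom = fT)
  {N : Type} [AddCommGroup N] (eN : Grp.mk (Red.bc fT H) ≅ Grp.mk (Red.DS T N))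

/-- the universal point of `P` over `Y` -/
noncomputable def eYP (Y : Over T) : (Over.map fT).obj Y ⟶ P :=
  Over.homMk (Y.hom ≫ gT) (by
    rw [Category.assoc, hfT]
    rfl)

lemma eYP_nat {Y Y' : Over T} (w : Y' ⟶ Y) :
    (Over.map fT).map w ≫ eYP gT fT hfT Y = eYP gT fT hfT Y' := by
  ext
  simp [eYP]

/-- the action of the universal point, on points of `D(N)` -/
noncomputable def psiA {Y : Over T} (c : Y ⟶ Red.DS T N) : Y ⟶ Red.DS T N :=
  forth fT eN (α.act (eYP gT fT hfT Y) (back fT eN c))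

lemma psiA_nat {Y Y' : Over T} (w : Y' ⟶ Y) (c : Y ⟶ Red.DS T N) :
    psiA α gT fT hfT eN (w ≫ c) = w ≫ psiA α gT fT hfT eN c := by
  unfold psiA
  rw [back_nat, ← eYP_nat gT fT hfT w, α.nat, forth_nat]

lemma psiA_mul {Y : Over T} (c c' : Y ⟶ Red.DS T N) :
    psiA α gT fT hfT eN (c * c') = psiA α gT fT hfT eN c * psiA α gT fT hfT eN c' := by
  unfold psiA
  rw [back_mul, α.mul, forth_mul]

lemma psiA_eq_iff {Y : Over T} (c : Y ⟶ Red.DS T N) :
    psiA α gT fT hfT eN c = c ↔
      α.act (eYP gT fT hfT Y) (back fT eN c) = back fT eN c := by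
  unfold psiA
  constructor
  · intro h
    have := congrArg (back fT eN) h
    rwa [back_forth] at this
  · intro h
    rw [h, forth_back]

lemma fix_iff {Z : Scheme.{u}} (k : Z ⟶ T) :
    Fix α (k ≫ gT) ↔ ∀ (Y : Over T) (t : Y.left ⟶ Z), Y.hom = t ≫ k →
      ∀ c : Y ⟶ Red.DS T N, psiA α gT fT hfT eN c = c := by
  constructor
  · intro hC Y t ht c
    rw [psiA_eq_iff]
    exact hC ((Over.map fT).obj Y) (eYP gT fT hfT Y) t (by
      show Y.hom ≫ gT = t ≫ k ≫ gT
      rw [ht, Category.assoc]) (back fT eN c)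
  · intro hψ Y e t ht h
    have hY : Y.hom = (t ≫ k) ≫ fT := by
      rw [← Over.w e, ht, ← hfT]
      simp only [Category.assoc]
    obtain ⟨w, w', hw, hww⟩ := transport fT (t ≫ k) hY
    have hwe : w ≫ e = eYP gT fT hfT (Over.mk (t ≫ k)) := by
      ext
      show w.left ≫ e.left = (t ≫ k) ≫ gT
      rw [hw, ht, Category.assoc]
      exact Category.id_comp _
    have h1 := (psiA_eq_iff α gT fT hfT eN _).mp
      (hψ (Over.mk (t ≫ k)) t rfl (forth fT eN (w ≫ h)))
    rw [back_forth, ← hwe, α.nat] at h1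
    have h4 := congrArg (fun x => w' ≫ x) h1
    simpa only [← Category.assoc, hww, Category.id_comp] using h4

end Abstract

section Dich

variable {S : Scheme.{u}} {P H : Over S} [GrpObj H] (α : PtAct P H)
  {B : Type u} [CommRing B]

local notation "TB" => Spec (CommRingCat.of B)

theorem dich_fix (gT : TB ⟶ P.left) (fT : TB ⟶ S) (hfT : gT ≫ P.hom = fT)
    {N : Type} [AddCommGroup N] (eN : Grp.mk (Red.bc fT H) ≅ Grp.mk (Red.DS TB N))
    (hN : AddGroup.FG N) (𝔭 : Ideal B) [𝔭.IsPrime] :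
    ∃ f : B, f ∉ 𝔭 ∧
      ((∀ (Z : Scheme.{u}) (k : Z ⟶ Spec (CommRingCat.of (Localization.Away f))),
          Fix α (k ≫ j₀ f ≫ gT)) ∨
       (∀ (Z : Scheme.{u}) (k : Z ⟶ Spec (CommRingCat.of (Localization.Away f))), Nonempty Z →
          ¬ Fix α (k ≫ j₀ f ≫ gT))) := by
  obtain ⟨f, hf, φ, hφ⟩ := ds_local_pts (fun {Y} c => psiA α gT fT hfT eN c)
    (fun w c => psiA_nat α gT fT hfT eN w c) (fun c c' => psiA_mul α gT fT hfT eN c c') hN 𝔭
  refine ⟨f, hf, ?_⟩
  have hφ' : ∀ (Z : Scheme.{u}) (k : Z ⟶ Spec (CommRingCat.of (Localization.Away f)))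
      (Y : Over TB) (t : Y.left ⟶ Z), Y.hom = t ≫ k ≫ j₀ f →
      ∀ c : Y ⟶ Red.DS TB N, psiA α gT fT hfT eN c = c ≫ Red.DSmap TB φ :=
    fun Z k Y t ht c => hφ Y (isUnit_ptHom k Y t ht.symm) c
  by_cases hid : φ = AddMonoidHom.id N
  · left
    intro Z k
    rw [← Category.assoc, fix_iff α gT fT hfT eN (k ≫ j₀ f)]
    intro Y t ht c
    rw [hφ' Z k Y t ht c, hid, DSmap_id]
  · right
    rintro Z k ⟨z⟩ hC
    apply hid
    ext n
    rw [← Category.assoc, fix_iff α gT fT hfT eN (k ≫ j₀ f)] at hC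
    obtain ⟨Y, t₀, ht₀, c, hc⟩ := exists_univ_pt (Z.residueField z)
      (Z.fromSpecResidueField z ≫ k ≫ j₀ f) N
    have ht : Y.hom = (t₀ ≫ Z.fromSpecResidueField z) ≫ k ≫ j₀ f :=
      ((Category.assoc t₀ (Z.fromSpecResidueField z) (k ≫ j₀ f)).trans ht₀).symm
    have h1 := hC Y (t₀ ≫ Z.fromSpecResidueField z) ht c
    rw [hφ' Z k Y _ ht c] at h1
    have h2 := congrArg (chFn n) h1
    rw [chFn_DSmap] at h2
    have h3 : chFn (φ n - n) c = 1 := by
      have h4 : chFn (φ n - n) c * chFn n c = chFn n c := by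
        rw [← chFn_add, sub_add_cancel, h2]
      have h5 : IsUnit (chFn n c) := by
        refine IsUnit.of_mul_eq_one (chFn (-n) c) ?_
        rw [← chFn_add, add_neg_cancel, chFn_zero]
      exact h5.mul_left_injective (by
        show chFn (φ n - n) c * chFn n c = 1 * chFn n c
        rw [h4, _root_.one_mul])
    have h6 := hc _ h3
    exact sub_eq_zero.mp h6

end Dich

section Local

variable {S : Scheme.{u}} {P H : Over S} [GrpObj H] (α : PtAct P H)

/-- the locus of `P` acting trivially on a group `H` of multiplicative type is open and closed -/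
theorem exists_clopen_fix (hH : SGA3x.IsMultTypeFT H) :
    ∃ W : P.left.Opens, IsClosed (W : Set P.left) ∧
      (∀ x : P.left, x ∈ W ↔ Fix α (P.left.fromSpecResidueField x)) ∧ Fix α W.ι := by
  obtain ⟨SH, fH, hflatH, hsurjH, hqcH, hlocH⟩ := hH
  have hqH : IsQCov fH := ⟨hsurjH, hflatH, hqcH⟩
  let p₁ := pullback.fst P.hom fH
  let p₂ := pullback.snd P.hom fH
  refine clopen_of_localDich (goodPred_fix α) p₁ (hqH.pullback_fst P.hom) ?_
  intro s''
  obtain ⟨UH, hsH, N, instN, hNfg, ⟨eH⟩⟩ := hlocH (p₂ s'')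
  have hsV : s'' ∈ p₂ ⁻¹ᵁ UH := hsH
  obtain ⟨_, ⟨W₀, hW : IsAffineOpen W₀, rfl⟩, hsW, hWV⟩ :=
    (pullback P.hom fH).isBasis_affineOpens.exists_subset_of_mem_open hsV (p₂ ⁻¹ᵁ UH).2
  let W : (pullback P.hom fH).Opens := W₀
  have hWV' : W ≤ p₂ ⁻¹ᵁ UH := hWV
  let gT : Spec (CommRingCat.of Γ(pullback P.hom fH, W)) ⟶ P.left := hW.fromSpec ≫ p₁
  let fT : Spec (CommRingCat.of Γ(pullback P.hom fH, W)) ⟶ S := gT ≫ P.hom
  have hrH : Set.range (hW.fromSpec ≫ p₂).base ⊆ Set.range UH.ι.base := by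
    rintro _ ⟨x, rfl⟩
    rw [Scheme.Opens.range_ι]
    have hx : hW.fromSpec x ∈ W := by
      have := hW.range_fromSpec
      rw [← SetLike.mem_coe, ← this]
      exact ⟨x, rfl⟩
    exact hWV' hx
  let gH := IsOpenImmersion.lift UH.ι (hW.fromSpec ≫ p₂) hrH
  have hgH : gH ≫ UH.ι = hW.fromSpec ≫ p₂ := IsOpenImmersion.lift_fac _ _ _
  have hfH : gH ≫ UH.ι ≫ fH = fT := by
    rw [← Category.assoc, hgH, Category.assoc]
    show hW.fromSpec ≫ pullback.snd P.hom fH ≫ fH = (hW.fromSpec ≫ pullback.fst P.hom fH) ≫ P.hom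
    rw [Category.assoc, pullback.condition]
  let _ : AddCommGroup N := instN
  obtain ⟨eN⟩ := grpIso_bc (UH.ι ≫ fH) H N eH gH fT hfH
  let pt := hW.primeIdealOf ⟨s'', hsW⟩
  have hpt : hW.fromSpec pt = s'' := hW.fromSpec_primeIdealOf ⟨s'', hsW⟩
  obtain ⟨f, hf, hd⟩ := dich_fix α gT fT rfl eN hNfg pt.asIdeal
  refine ⟨Spec (CommRingCat.of (Localization.Away f)), j₀ f ≫ hW.fromSpec, inferInstance, ?_, ?_⟩
  · have hmem : pt ∈ (j₀ f).opensRange := by
      rw [Scheme.Hom.opensRange_localizationAway (R := CommRingCat.of Γ(pullback P.hom fH, W)) f]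
      exact hf
    obtain ⟨y, hy⟩ := hmem
    refine ⟨y, ?_⟩
    rw [Scheme.Hom.comp_apply, hy, hpt]
  · have key : ∀ (Z : Scheme.{u}) (k : Z ⟶ Spec (CommRingCat.of (Localization.Away f))),
        k ≫ (j₀ f ≫ hW.fromSpec) ≫ p₁ = k ≫ j₀ f ≫ gT := by
      intro Z k
      simp only [gT, Category.assoc]
    rcases hd with hd | hd
    · left
      intro Z k
      rw [key]
      exact hd Z k
    · right
      intro Z k hZ
      rw [key]
      exact hd Z k hZ

end Local

section Normal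

variable {S : Scheme.{u}} {K H : Over S} [GrpObj K] [GrpObj H] {i : H ⟶ K} [IsMonHom i] [Mono i]

/-- conjugation on a normal subgroup -/
noncomputable def cjN (hn : AlgGrp.IsNormalHom i) {Y : Over S} (e : Y ⟶ K) (h : Y ⟶ H) : Y ⟶ H :=
  (hn Y e h).choose

lemma cjN_i (hn : AlgGrp.IsNormalHom i) {Y : Over S} (e : Y ⟶ K) (h : Y ⟶ H) :
    cjN hn e h ≫ i = e * (h ≫ i) * e⁻¹ :=
  (hn Y e h).choose_spec.symm

/-- the conjugation action of `K` on a normal subgroup `H` -/
noncomputable def conjAct (hn : AlgGrp.IsNormalHom i) : PtAct K H where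
  act e h := cjN hn e h
  nat w e h := by
    rw [← cancel_mono i, cjN_i, Category.assoc w (cjN hn e h) i, cjN_i, MonObj.comp_mul,
      MonObj.comp_mul, GrpObj.comp_inv, Category.assoc]
  mul e h h' := by
    rw [← cancel_mono i, cjN_i, MonObj.mul_comp, MonObj.mul_comp, cjN_i, cjN_i]
    group

lemma cjN_eq_iff (hn : AlgGrp.IsNormalHom i) {Y : Over S} (e : Y ⟶ K) (h : Y ⟶ H) :
    cjN hn e h = h ↔ e * (h ≫ i) = (h ≫ i) * e := by
  constructor
  · intro hc
    have h1 := cjN_i hn e h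
    rw [hc] at h1
    calc e * (h ≫ i) = (e * (h ≫ i) * e⁻¹) * e := by group
      _ = (h ≫ i) * e := by rw [← h1]
  · intro hc
    rw [← cancel_mono i, cjN_i, hc]
    group

end Normal

section Final

theorem main_aux {S : Scheme.{u}} (K H : Over S) [GrpObj K] [GrpObj H]
    (hconn : ∀ s : S, ConnectedSpace ↥(Limits.pullback K.hom (S.fromSpecResidueField s)))
    (i : H ⟶ K) [IsMonHom i] [Mono i] (hH : SGA3x.IsMultTypeFT H) (hn : AlgGrp.IsNormalHom i) :
    ∀ (X : Over S) (k : X ⟶ K) (h : X ⟶ H), k * (h ≫ i) = (h ≫ i) * k := by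
  let α := conjAct hn
  have hQ := goodPred_fix α
  obtain ⟨W, hWc, hWmem, hQW⟩ := exists_clopen_fix α hH
  -- the unit section lies in `W`
  have hunit0 : Fix α (η[K].left : S ⟶ K.left) := by
    intro Y e t ht h
    have hY : Y.hom = t := by
      rw [← Over.w e, ht, Category.assoc, unit_left_hom]
      exact Category.comp_id _
    have he : e = 1 := by
      ext
      rw [ht, Hom.one_def, Over.comp_left, Over.toUnit_left, hY]
    show cjN hn e h = h
    rw [cjN_eq_iff, he, _root_.one_mul, _root_.mul_one]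
  have hunit : ∀ s : S, (η[K].left : S ⟶ K.left) s ∈ W := by
    intro s
    rw [hWmem, hQ.residue_iff (η[K].left : S ⟶ K.left) s]
    exact hQ.comp _ _ hunit0
  have hall : ∀ x : K.left, x ∈ W := by
    intro x
    let s : S := K.hom x
    have := hconn s
    let F := pullback K.hom (S.fromSpecResidueField s)
    let pr : F ⟶ K.left := pullback.fst K.hom (S.fromSpecResidueField s)
    let s₀ : Spec (S.residueField s) := IsLocalRing.closedPoint (S.residueField s)
    have hs₀ : (S.fromSpecResidueField s) s₀ = s := Scheme.fromSpecResidueField_apply _ _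
    have hV : IsClopen (pr ⁻¹' (W : Set K.left)) :=
      IsClopen.preimage ⟨hWc, W.2⟩ pr.continuous
    have hηs : K.hom ((η[K].left : S ⟶ K.left) s) = s := by
      rw [← Scheme.Hom.comp_apply, unit_left_hom]
      rfl
    obtain ⟨z₀, hz₀, -⟩ := Scheme.Pullback.exists_preimage_pullback (f := K.hom)
      (g := S.fromSpecResidueField s) ((η[K].left : S ⟶ K.left) s) s₀ (by rw [hηs, hs₀])
    obtain ⟨z, hz, -⟩ := Scheme.Pullback.exists_preimage_pullback (f := K.hom)
      (g := S.fromSpecResidueField s) x s₀ (by rw [hs₀])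
    rcases isClopen_iff.mp hV with h0 | h1
    · exfalso
      have : z₀ ∈ pr ⁻¹' (W : Set K.left) := by
        show pr z₀ ∈ W
        rw [hz₀]
        exact hunit s
      rw [h0] at this
      exact this
    · have : z ∈ pr ⁻¹' (W : Set K.left) := by
        rw [h1]
        trivial
      have h2 : pr z ∈ W := this
      rwa [hz] at h2
  intro X k h
  have hr : Set.range k.left.base ⊆ Set.range W.ι.base := by
    rw [Scheme.Opens.range_ι]
    rintro _ ⟨y, rfl⟩
    exact hall _
  have ht := IsOpenImmersion.lift_fac W.ι k.left hr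
  have h1 := hQW X k (IsOpenImmersion.lift W.ι k.left hr) ht.symm h
  exact (cjN_eq_iff hn k h).mp h1

end Final

/-- Let K be an S-group locally of finite type over S whose fibres are connected, and i : H ⟶ K a
subgroup scheme of multiplicative type and of finite type which is normal in K. Then H is central in
K: for every S-scheme X, every X-point of K commutes with (the image of) every X-point of H. -/
theorem result {S : Scheme.{u}} (K H : Over S) [GrpObj K] [GrpObj H]
    [LocallyOfFiniteType K.hom] (hconn : ∀ s : S, ConnectedSpace ↥(Limits.pullback K.hom (S.fromSpecResidueField s)))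
    (i : H ⟶ K) [IsMonHom i] [Mono i] (hH : SGA3x.IsMultTypeFT H) (hn : AlgGrp.IsNormalHom i) :
    ∀ (X : Over S) (k : X ⟶ K) (h : X ⟶ H), k * (h ≫ i) = (h ≫ i) * k := by
  exact main_aux K H hconn i hH hn

end Groth.Agent.S5255
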