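import Groth.Statements.S16616
import Groth.Agent.S8042
import Groth.Agent.S16614
import Groth.Agent.S5276
import Groth.Agent.Lib.Helper40.Kummer
import Mathlib

set_option autoImplicit false
open CategoryTheory MonoidalCategory CartesianMonoidalCategory MonObj GrpObj AlgebraicGeometry
universe u
open SGA3x

namespace Groth.Agent.S16616

open Groth.Agent.Lib.Helper43 Groth.Agent.Lib.Helper60.WittTorus Groth.Agent.Lib.Helper60.DiagChar
open Groth.Agent.S5279 Groth.Agent.S5290 Groth.Agent.S5274 Groth.Agent.S5430 Groth.Agent.S5255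
open Groth.Agent.S8042
open Groth.Agent.Lib.Helper40.FpqcCov CategoryTheory.Limits

section ChFn

variable {S : Scheme.{u}} {M N : Type} [AddCommGroup M] [AddCommGroup N]

/-- the characters of a point, as a homomorphism to the units -/
noncomputable def chFnU {Y : Over S} (c : Y ⟶ Red.DS S M) : Multiplicative M →* Γ(Y.left, ⊤)ˣ :=
  MonoidHom.toHomUnits
    { toFun := fun m => chFn (Multiplicative.toAdd m) c
      map_one' := chFn_zero c
      map_mul' := fun m m' => chFn_add _ _ c }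

lemma chFnU_val {Y : Over S} (c : Y ⟶ Red.DS S M) (m : M) :
    ((chFnU c (Multiplicative.ofAdd m) : Γ(Y.left, ⊤)ˣ) : Γ(Y.left, ⊤)) = chFn m c := rfl

lemma comp_DSmap_eq_one_iff (φ : N →+ M) {Y : Over S} (c : Y ⟶ Red.DS S M) :
    c ≫ Red.DSmap S φ = 1 ↔ ∀ n, chFn (φ n) c = 1 := by
  constructor
  · intro h n
    rw [← chFn_DSmap, h, chFn_one]
  · intro h
    apply chFn_injective
    intro n
    rw [chFn_DSmap, h, chFn_one]

/-- a point of `D(N)` from characters of `M` killing the kernel of a surjection `M → N` -/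
lemma exists_pt_of_surj (φ : M →+ N) (hφ : Function.Surjective φ) {Y : Over S}
    (χ₀ : Multiplicative M →* Γ(Y.left, ⊤)ˣ) (h : ∀ m, φ m = 0 → χ₀ (Multiplicative.ofAdd m) = 1) :
    ∃ d : Y ⟶ Red.DS S N, ∀ m, chFn (φ m) d = ((χ₀ (Multiplicative.ofAdd m) : Γ(Y.left, ⊤)ˣ) : Γ(Y.left, ⊤)) := by
  let φm : Multiplicative M →* Multiplicative N := AddMonoidHom.toMultiplicative φ
  have hφm : Function.Surjective φm := hφ
  have hk : φm.ker ≤ χ₀.ker := by
    intro m hm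
    rw [MonoidHom.mem_ker] at hm ⊢
    have h1 : φ (Multiplicative.toAdd m) = 0 := congrArg Multiplicative.toAdd hm
    exact h _ h1
  let χ : Multiplicative N →* Γ(Y.left, ⊤)ˣ := MonoidHom.liftOfSurjective φm hφm ⟨χ₀, hk⟩
  have hχ : ∀ m, χ (φm m) = χ₀ m := fun m =>
    MonoidHom.liftOfRightInverse_comp_apply _ _ _ ⟨χ₀, hk⟩ m
  obtain ⟨d, hd⟩ := chFn_exists ((Units.coeHom _).comp χ)
  refine ⟨d, ?_⟩
  intro m
  rw [hd]
  show ((χ (φm (Multiplicative.ofAdd m)) : Γ(Y.left, ⊤)ˣ) : Γ(Y.left, ⊤)) = _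
  rw [hχ]

/-- lifting a point along `D(φ)` for `φ` surjective -/
lemma exists_lift_of_surj (φ : M →+ N) (hφ : Function.Surjective φ) {Y : Over S}
    (c : Y ⟶ Red.DS S M) (h : ∀ m, φ m = 0 → chFn m c = 1) :
    ∃ d : Y ⟶ Red.DS S N, d ≫ Red.DSmap S φ = c := by
  obtain ⟨d, hd⟩ := exists_pt_of_surj φ hφ (chFnU c) (fun m hm => Units.ext (h m hm))
  refine ⟨d, ?_⟩
  apply chFn_injective
  intro m
  rw [chFn_DSmap, hd]
  rfl

end ChFn

section KerPair

variable {S : Scheme.{u}} {T Q Q' : Over S} [GrpObj T] [GrpObj Q] [GrpObj Q']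

/-- two fpqc-covering homomorphisms with the same kernel pair have isomorphic targets -/
theorem iso_of_same_kerPair (q : T ⟶ Q) (q' : T ⟶ Q') [IsMonHom q] [IsMonHom q']
    (hq : IsCov q.left) (hq' : IsCov q'.left)
    (h : ∀ (R : Over S) (a b : R ⟶ T), a ≫ q = b ≫ q ↔ a ≫ q' = b ≫ q') :
    Nonempty (Grp.mk Q ≅ Grp.mk Q') := by
  obtain ⟨ψ, hψ⟩ := exists_desc_over hq q' (fun R a b hab => (h R a b).mp hab)
  obtain ⟨ψ', hψ'⟩ := exists_desc_over hq' q (fun R a b hab => (h R a b).mpr hab)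
  have e1 : Epi q := epi_of_isCov_left hq
  have e2 : Epi q' := epi_of_isCov_left hq'
  have h1 : ψ ≫ ψ' = 𝟙 Q := by
    rw [← cancel_epi q, ← Category.assoc, hψ, hψ', Category.comp_id]
  have h2 : ψ' ≫ ψ = 𝟙 Q' := by
    rw [← cancel_epi q', ← Category.assoc, hψ', hψ, Category.comp_id]
  have e3 : Epi (q ⊗ₘ q) := epi_of_isCov_left (isCov_tensorHom hq hq)
  have hm : IsMonHom ψ := by
    refine ⟨?_, ?_⟩
    · have : η[Q] = η[T] ≫ q := (IsMonHom.one_hom q).symm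
      rw [this, Category.assoc, hψ]
      exact IsMonHom.one_hom q'
    · rw [← cancel_epi (q ⊗ₘ q)]
      have a1 : (q ⊗ₘ q) ≫ μ[Q] ≫ ψ = μ[T] ≫ q' := by
        rw [← Category.assoc, ← IsMonHom.mul_hom q, Category.assoc, hψ]
      have a2 : (q ⊗ₘ q) ≫ (ψ ⊗ₘ ψ) ≫ μ[Q'] = μ[T] ≫ q' := by
        rw [← Category.assoc, MonoidalCategory.tensorHom_comp_tensorHom, hψ]
        exact (IsMonHom.mul_hom q').symm
      rw [a1, a2]
  have hi : IsIso ψ := ⟨ψ', h1, h2⟩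
  exact ⟨Grp.mkIso (asIso ψ) (IsMonHom.one_hom ψ) (IsMonHom.mul_hom ψ)⟩

end KerPair

section Fam

variable {S : Scheme.{u}} {H Q : Over S} [GrpObj H] [GrpObj Q] {M : Type} [AddCommGroup M]
  (j : H ⟶ Red.DS S M) [IsMonHom j] (q₁ : Red.DS S M ⟶ Q) [IsMonHom q₁] (K : AddSubgroup M)

lemma GoodPred.and {S₀ : Scheme.{u}} {Q₁ Q₂ : ∀ {Z : Scheme.{u}}, (Z ⟶ S₀) → Prop}
    (h₁ : GoodPred Q₁) (h₂ : GoodPred Q₂) : GoodPred (fun {_} g => Q₁ g ∧ Q₂ g) :=
  ⟨fun g k h => ⟨h₁.comp g k h.1, h₂.comp g k h.2⟩,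
   fun g k hk h => ⟨h₁.desc g k hk h.1, h₂.desc g k hk h.2⟩,
   fun g W hW h => ⟨h₁.zar g W hW (fun z => (h z).1), h₂.zar g W hW (fun z => (h z).2)⟩⟩

/-- the family `H → D(M) → D(K)` -/
noncomputable def fam₁ : PtHomFam (Over.mk (𝟙 S)) H (Red.DS S K) where
  act := fun _ h => h ≫ j ≫ Red.DSmap S K.subtype
  nat := fun w _ h => Category.assoc _ _ _
  mul := fun _ h h' => by
    have := Groth.Agent.Lib.Helper40.Kummer.isMonHom_DSmap S K.subtype
    exact MonObj.mul_comp h h' (j ≫ Red.DSmap S K.subtype)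

/-- the family `D(M/K) → D(M) → Q` -/
noncomputable def fam₂ : PtHomFam (Over.mk (𝟙 S)) (Red.DS S (M ⧸ K)) Q where
  act := fun _ d => d ≫ Red.DSmap S (QuotientAddGroup.mk' K) ≫ q₁
  nat := fun w _ h => Category.assoc _ _ _
  mul := fun _ h h' => by
    have := Groth.Agent.Lib.Helper40.Kummer.isMonHom_DSmap S (QuotientAddGroup.mk' K)
    exact MonObj.mul_comp h h' (Red.DSmap S (QuotientAddGroup.mk' K) ≫ q₁)

/-- `H` and `D(M/K)` have the same points over `g` -/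
def Pred {Z : Scheme.{u}} (g : Z ⟶ (Over.mk (𝟙 S)).left) : Prop :=
  TrivAt (fam₁ j K) g ∧ TrivAt (fam₂ q₁ K) g

lemma goodPred_pred : GoodPred (S₀ := (Over.mk (𝟙 S)).left) (fun {_} g => Pred j q₁ K g) :=
  GoodPred.and (goodPred_triv (fam₁ j K)) (goodPred_triv (fam₂ q₁ K))

end Fam

section Dich

variable {S : Scheme.{u}} {H Q : Over S} [GrpObj H] [GrpObj Q] {M : Type} [AddCommGroup M]
  (j : H ⟶ Red.DS S M) [IsMonHom j] (q₁ : Red.DS S M ⟶ Q) [IsMonHom q₁]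
  {R : Type u} [CommRing R]

local notation "TB" => Spec (CommRingCat.of R)

variable (fT : Spec (CommRingCat.of R) ⟶ S) {N : Type} [AddCommGroup N]
  (eH : Grp.mk (Red.bc fT H) ≅ Grp.mk (Red.DS (Spec (CommRingCat.of R)) N))

/-- characters of the image in `D(M)` of a point of `D(N)` -/
noncomputable def chiOf {Y : Over TB} (c : Y ⟶ Red.DS TB N) : Multiplicative M →* Γ(Y.left, ⊤) :=
  (Units.coeHom _).comp (chFnU (S := S) (Y := (Over.map fT).obj Y) (back fT eH c ≫ j))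

/-- the image in `D(M)` of a point of `D(N)`, as a point over `TB` -/
noncomputable def psiJ {Y : Over TB} (c : Y ⟶ Red.DS TB N) : Y ⟶ Red.DS TB M :=
  Classical.choose (chFn_exists (S := TB) (chiOf j fT eH c))

lemma psiJ_spec {Y : Over TB} (c : Y ⟶ Red.DS TB N) (m : M) :
    chFn m (psiJ j fT eH c) = chFn (S := S) (X := (Over.map fT).obj Y) m (back fT eH c ≫ j) :=
  Classical.choose_spec (chFn_exists (S := TB) (chiOf j fT eH c)) m

lemma psiJ_nat {Y Y' : Over TB} (w : Y' ⟶ Y) (c : Y ⟶ Red.DS TB N) :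
    psiJ j fT eH (w ≫ c) = w ≫ psiJ j fT eH c := by
  apply chFn_injective
  intro m
  have h1 : chFn m (psiJ j fT eH (w ≫ c)) = ((Over.map fT).map w).left.appTop
      (chFn (S := S) (X := (Over.map fT).obj Y) m (back fT eH c ≫ j)) := by
    rw [psiJ_spec, back_nat, Category.assoc]
    exact chFn_comp m _ _
  have h2 : chFn m (w ≫ psiJ j fT eH c) = w.left.appTop (chFn m (psiJ j fT eH c)) :=
    chFn_comp m _ _
  rw [h1, h2, psiJ_spec]
  rfl

lemma psiJ_mul {Y : Over TB} (c c' : Y ⟶ Red.DS TB N) :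
    psiJ j fT eH (c * c') = psiJ j fT eH c * psiJ j fT eH c' := by
  apply chFn_injective
  intro m
  rw [psiJ_spec, back_mul, MonObj.mul_comp (back fT eH c) (back fT eH c') j, chFn_mul, chFn_mul,
    psiJ_spec, psiJ_spec]

/-- the local form of `j` near a prime -/
theorem local_form (hM : AddGroup.FG M) (𝔭 : Ideal R) [𝔭.IsPrime] :
    ∃ f : R, f ∉ 𝔭 ∧ ∃ φ : M →+ N, ∀ (Y : Over TB), IsUnit (ptHom Y.hom f) →
      ∀ (c : Y ⟶ Red.DS TB N) (m : M),
        chFn (S := S) (X := (Over.map fT).obj Y) m (back fT eH c ≫ j) = chFn (φ m) c := by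
  obtain ⟨f, hf, φ, hφ⟩ := ds_local_pts (fun {Y} c => psiJ j fT eH c)
    (fun w c => psiJ_nat j fT eH w c) (fun c c' => psiJ_mul j fT eH c c') hM 𝔭
  refine ⟨f, hf, φ, ?_⟩
  intro Y hu c m
  rw [← psiJ_spec, hφ Y hu c, chFn_DSmap]

theorem phi_surj [Mono j] (f : R) (𝔭 : Ideal R) [𝔭.IsPrime] (hf : f ∉ 𝔭) (φ : M →+ N)
    (hφ : ∀ (Y : Over TB), IsUnit (ptHom Y.hom f) → ∀ (c : Y ⟶ Red.DS TB N) (m : M),
        chFn (S := S) (X := (Over.map fT).obj Y) m (back fT eH c ≫ j) = chFn (φ m) c) :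
    Function.Surjective φ := by
  have hmem : (⟨𝔭, inferInstance⟩ : PrimeSpectrum R) ∈ (j₀ f).opensRange := by
    rw [Scheme.Hom.opensRange_localizationAway (R := CommRingCat.of R) f]
    exact hf
  obtain ⟨y, hy⟩ := hmem
  obtain ⟨Y₁, t₀, ht₀, d, hd⟩ := exists_univ_pt
    ((Spec (CommRingCat.of (Localization.Away f))).residueField y)
    ((Spec (CommRingCat.of (Localization.Away f))).fromSpecResidueField y ≫ j₀ f) (N ⧸ φ.range)
  have hu : IsUnit (ptHom Y₁.hom f) :=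
    isUnit_ptHom ((Spec (CommRingCat.of (Localization.Away f))).fromSpecResidueField y) Y₁ t₀ ht₀
  let c : Y₁ ⟶ Red.DS TB N := d ≫ Red.DSmap TB (QuotientAddGroup.mk' φ.range)
  have h1 : back fT eH c ≫ j = back fT eH 1 ≫ j := by
    apply chFn_injective
    intro m
    rw [hφ Y₁ hu c m, hφ Y₁ hu 1 m, chFn_one, chFn_DSmap]
    have : (QuotientAddGroup.mk' φ.range) (φ m) = 0 := by
      rw [QuotientAddGroup.mk'_apply, QuotientAddGroup.eq_zero_iff]
      exact ⟨m, rfl⟩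
    rw [this, chFn_zero]
  have h2 : back fT eH c = back fT eH 1 := (cancel_mono j).mp h1
  have h3 : c = 1 := by
    have := congrArg (forth fT eH) h2
    rwa [forth_back, forth_back] at this
  intro n
  have h4 : chFn n c = 1 := by rw [h3, chFn_one]
  rw [chFn_DSmap] at h4
  have h5 := hd _ h4
  rw [QuotientAddGroup.mk'_apply, QuotientAddGroup.eq_zero_iff] at h5
  exact h5

variable (K : AddSubgroup M)

theorem pred_of_ker_eq
    (hker : ∀ (Y : Over S) (a : Y ⟶ Red.DS S M), a ≫ q₁ = 1 ↔ ∃ h : Y ⟶ H, h ≫ j = a)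
    (f : R) (φ : M →+ N)
    (hφ : ∀ (Y : Over TB), IsUnit (ptHom Y.hom f) → ∀ (c : Y ⟶ Red.DS TB N) (m : M),
        chFn (S := S) (X := (Over.map fT).obj Y) m (back fT eH c ≫ j) = chFn (φ m) c)
    (hsurj : Function.Surjective φ) (hK : φ.ker = K)
    {Z : Scheme.{u}} (k : Z ⟶ Spec (CommRingCat.of (Localization.Away f))) :
    Pred j q₁ K (k ≫ j₀ f ≫ fT) := by
  constructor
  · intro Y e t ht h
    have hY : Y.hom = (t ≫ k ≫ j₀ f) ≫ fT := by
      have h0 : e.left ≫ 𝟙 S = Y.hom := Over.w e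
      rw [← h0, ht]
      simp
    obtain ⟨w, w', hw, hww⟩ := transport fT (t ≫ k ≫ j₀ f) hY
    let Y₁ : Over TB := Over.mk (t ≫ k ≫ j₀ f)
    have hu : IsUnit (ptHom Y₁.hom f) := isUnit_ptHom k Y₁ t rfl
    let c : Y₁ ⟶ Red.DS TB N := forth fT eH (w ≫ h)
    have hb : back fT eH c = w ≫ h := back_forth fT eH _
    have h1 : ((w ≫ h) ≫ j) ≫ Red.DSmap S K.subtype = 1 := by
      rw [comp_DSmap_eq_one_iff]
      intro k'
      rw [← hb, hφ Y₁ hu c]
      have h0 : φ (K.subtype k') = 0 := by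
        have : (k' : M) ∈ φ.ker := hK ▸ k'.2
        exact this
      rw [h0, chFn_zero]
    show h ≫ j ≫ Red.DSmap S K.subtype = 1
    have h3 : w ≫ (h ≫ j ≫ Red.DSmap S K.subtype) = w ≫ 1 := by
      rw [MonObj.comp_one, ← h1]
      simp only [Category.assoc]
    have h4 := congrArg (fun x => w' ≫ x) h3
    simpa only [← Category.assoc, hww, Category.id_comp] using h4
  · intro Y e t ht d
    show d ≫ Red.DSmap S (QuotientAddGroup.mk' K) ≫ q₁ = 1
    rw [← Category.assoc, hker]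
    have hY : Y.hom = (t ≫ k ≫ j₀ f) ≫ fT := by
      have h0 : e.left ≫ 𝟙 S = Y.hom := Over.w e
      rw [← h0, ht]
      simp
    obtain ⟨w, w', hw, hww⟩ := transport fT (t ≫ k ≫ j₀ f) hY
    let Y₁ : Over TB := Over.mk (t ≫ k ≫ j₀ f)
    have hu : IsUnit (ptHom Y₁.hom f) := isUnit_ptHom k Y₁ t rfl
    let c₁ : (Over.map fT).obj Y₁ ⟶ Red.DS S M :=
      w ≫ d ≫ Red.DSmap S (QuotientAddGroup.mk' K)
    have hc₁ : ∀ m, φ m = 0 → chFn m c₁ = 1 := by
      intro m hm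
      have hmK : m ∈ K := hK ▸ (show m ∈ φ.ker from hm)
      have e0 := chFn_DSmap (QuotientAddGroup.mk' K) m (w ≫ d)
      have e1 : c₁ = (w ≫ d) ≫ Red.DSmap S (QuotientAddGroup.mk' K) :=
        (Category.assoc _ _ _).symm
      have h0 : (QuotientAddGroup.mk' K) m = 0 := by
        rw [QuotientAddGroup.mk'_apply, QuotientAddGroup.eq_zero_iff]
        exact hmK
      rw [e1, e0, h0, chFn_zero]
    obtain ⟨c, hc⟩ := exists_pt_of_surj (S := TB) φ hsurj (Y := Y₁)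
      (show Multiplicative M →* Γ(Y₁.left, ⊤)ˣ from
        chFnU (S := S) (Y := (Over.map fT).obj Y₁) c₁) (fun m hm => Units.ext (hc₁ m hm))
    refine ⟨w' ≫ back fT eH c, ?_⟩
    have h1 : back fT eH c ≫ j = c₁ := by
      apply chFn_injective
      intro m
      rw [hφ Y₁ hu c m, hc]
      rfl
    rw [Category.assoc, h1]
    show w' ≫ w ≫ d ≫ _ = _
    rw [← Category.assoc, hww, Category.id_comp]

theorem ker_eq_of_pred
    (hker : ∀ (Y : Over S) (a : Y ⟶ Red.DS S M), a ≫ q₁ = 1 ↔ ∃ h : Y ⟶ H, h ≫ j = a)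
    (f : R) (φ : M →+ N)
    (hφ : ∀ (Y : Over TB), IsUnit (ptHom Y.hom f) → ∀ (c : Y ⟶ Red.DS TB N) (m : M),
        chFn (S := S) (X := (Over.map fT).obj Y) m (back fT eH c ≫ j) = chFn (φ m) c)
    {Z : Scheme.{u}} (k : Z ⟶ Spec (CommRingCat.of (Localization.Away f))) (z : Z)
    (hP : Pred j q₁ K (k ≫ j₀ f ≫ fT)) : φ.ker = K := by
  apply le_antisymm
  · intro m hm
    obtain ⟨Y, t₀, ht₀, d, hd⟩ := exists_univ_pt (Z.residueField z)
      (Z.fromSpecResidueField z ≫ k ≫ j₀ f ≫ fT) (M ⧸ K)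
    let t := t₀ ≫ Z.fromSpecResidueField z
    have hY' : Y.hom = t ≫ k ≫ j₀ f ≫ fT := by
      rw [← ht₀]
      simp [t]
    let e : Y ⟶ Over.mk (𝟙 S) := Over.homMk Y.hom (by simp)
    have h1 := hP.2 Y e t hY' d
    have h1' : (d ≫ Red.DSmap S (QuotientAddGroup.mk' K)) ≫ q₁ = 1 :=
      (Category.assoc _ _ _).trans h1
    obtain ⟨h, hh⟩ := (hker Y _).mp h1'
    have hY : Y.hom = (t ≫ k ≫ j₀ f) ≫ fT := by
      rw [hY']
      simp
    obtain ⟨w, w', hw, hww⟩ := transport fT (t ≫ k ≫ j₀ f) hY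
    let Y₁ : Over TB := Over.mk (t ≫ k ≫ j₀ f)
    have hu : IsUnit (ptHom Y₁.hom f) := isUnit_ptHom k Y₁ t rfl
    let c : Y₁ ⟶ Red.DS TB N := forth fT eH (w ≫ h)
    have hb : back fT eH c = w ≫ h := back_forth fT eH _
    have h2 : chFn (S := S) (X := (Over.map fT).obj Y₁) m ((w ≫ h) ≫ j) = 1 := by
      rw [← hb, hφ Y₁ hu c m, (show φ m = 0 from hm), chFn_zero]
    have h3 : chFn m (h ≫ j) = 1 := by
      have h0 : h ≫ j = w' ≫ ((w ≫ h) ≫ j) := by
        simp only [← Category.assoc, hww, Category.id_comp]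
      rw [h0, chFn_comp, h2, map_one]
    rw [hh, chFn_DSmap] at h3
    have h4 := hd _ h3
    rwa [QuotientAddGroup.mk'_apply, QuotientAddGroup.eq_zero_iff] at h4
  · intro k' hk'
    obtain ⟨Y₁, t₀, ht₀, c, hc⟩ := exists_univ_pt (Z.residueField z)
      (Z.fromSpecResidueField z ≫ k ≫ j₀ f) N
    let t := t₀ ≫ Z.fromSpecResidueField z
    have ht : t ≫ k ≫ j₀ f = Y₁.hom := by
      rw [← ht₀]
      simp [t]
    have hu : IsUnit (ptHom Y₁.hom f) := isUnit_ptHom k Y₁ t ht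
    let Y : Over S := (Over.map fT).obj Y₁
    let e : Y ⟶ Over.mk (𝟙 S) := Over.homMk Y.hom (by simp)
    have h1 := hP.1 Y e t (by
      show Y₁.hom ≫ fT = t ≫ k ≫ j₀ f ≫ fT
      rw [← ht]
      simp) (back fT eH c)
    have h2 := (comp_DSmap_eq_one_iff K.subtype (back fT eH c ≫ j)).mp
      ((Category.assoc _ _ _).trans h1) ⟨k', hk'⟩
    rw [hφ Y₁ hu c] at h2
    exact hc _ h2

end Dich

section Local

variable {S : Scheme.{u}} {H Q : Over S} [GrpObj H] [GrpObj Q] {M : Type} [AddCommGroup M]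
  (j : H ⟶ Red.DS S M) [IsMonHom j] [Mono j] (q₁ : Red.DS S M ⟶ Q) [IsMonHom q₁]

lemma eq_iff_inv_mul {G G' : Over S} [GrpObj G] [GrpObj G'] (u : G ⟶ G') [IsMonHom u]
    {Y : Over S} (a b : Y ⟶ G) : a ≫ u = b ≫ u ↔ (a⁻¹ * b) ≫ u = 1 := by
  rw [MonObj.mul_comp a⁻¹ b u, GrpObj.inv_comp a u, inv_mul_eq_one]

lemma isCov_DSmap (S : Scheme.{u}) {M N : Type} [AddCommGroup M] [AddCommGroup N] (φ : N →+ M)
    (hφ : Function.Injective φ) : IsCov (Red.DSmap S φ).left := by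
  obtain ⟨h1, h2⟩ := Groth.Agent.S5276.pff_DSmap S φ hφ
  have h3 : QuasiCompact (Red.DSmap S φ).left := by
    have h0 : QuasiCompact (Red.diagMap (ULift.{u} ℤ) φ).left := by
      show QuasiCompact (Spec.map (CommRingCat.ofHom _))
      infer_instance
    unfold Red.DSmap
    exact MorphismProperty.of_isPullback (P := @QuasiCompact)
      (Groth.Agent.S5284.isPullback_pullback_map_left _ (Red.diagMap (ULift.{u} ℤ) φ)) h0
  have : Flat (Red.DSmap S φ).left := h1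
  have : Surjective (Red.DSmap S φ).left := h2
  exact (IsQCov.of_quasiCompact (Red.DSmap S φ).left).isCov

/-- local data at a point of the cover -/
theorem pt_data {S' : Scheme.{u}} (f : S' ⟶ S)
    (hloc : ∀ s' : S', ∃ U : S'.Opens, s' ∈ U ∧ ∃ (N : Type) (_ : AddCommGroup N), AddGroup.FG N ∧
      Nonempty (Grp.mk (Red.bc (U.ι ≫ f) H) ≅ Grp.mk (Red.DS (U : Scheme.{u}) N)))
    (hM : AddGroup.FG M)
    (hker : ∀ (Y : Over S) (a : Y ⟶ Red.DS S M), a ≫ q₁ = 1 ↔ ∃ h : Y ⟶ H, h ≫ j = a)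
    (s' : S') :
    ∃ (T' : Scheme.{u}) (jj : T' ⟶ S'), IsOpenImmersion jj ∧ s' ∈ Set.range jj ∧
      ∃ Kφ : AddSubgroup M, ∀ K : AddSubgroup M,
        (Kφ = K → ∀ (Z : Scheme.{u}) (k : Z ⟶ T'), Pred j q₁ K (k ≫ jj ≫ f)) ∧
        (∀ (Z : Scheme.{u}) (k : Z ⟶ T'), Nonempty Z → Pred j q₁ K (k ≫ jj ≫ f) → Kφ = K) := by
  obtain ⟨U', hs', N, instN, hNfg, ⟨eH⟩⟩ := hloc s'
  obtain ⟨_, ⟨W₀, hW : IsAffineOpen W₀, rfl⟩, hsW, hWU⟩ :=
    S'.isBasis_affineOpens.exists_subset_of_mem_open hs' U'.2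
  let W : S'.Opens := W₀
  have hWU' : W ≤ U' := hWU
  let fT : Spec (CommRingCat.of Γ(S', W)) ⟶ S := hW.fromSpec ≫ f
  have hmemW : ∀ x, hW.fromSpec x ∈ W := by
    intro x
    have := hW.range_fromSpec
    rw [← SetLike.mem_coe, ← this]
    exact ⟨x, rfl⟩
  have hrA : Set.range hW.fromSpec.base ⊆ Set.range U'.ι.base := by
    rintro _ ⟨x, rfl⟩
    rw [Scheme.Opens.range_ι]
    exact hWU' (hmemW x)
  let gA := IsOpenImmersion.lift U'.ι hW.fromSpec hrA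
  have hgA : gA ≫ U'.ι = hW.fromSpec := IsOpenImmersion.lift_fac _ _ _
  have hfA : gA ≫ U'.ι ≫ f = fT := by
    rw [← Category.assoc, hgA]
  let _ : AddCommGroup N := instN
  obtain ⟨eH'⟩ := grpIso_bc (U'.ι ≫ f) H N eH gA fT hfA
  let pt := hW.primeIdealOf ⟨s', hsW⟩
  have hpt : hW.fromSpec pt = s' := hW.fromSpec_primeIdealOf ⟨s', hsW⟩
  obtain ⟨f₀, hf₀, φ, hφ⟩ := local_form j fT eH' hM pt.asIdeal
  have hsurj := phi_surj j fT eH' f₀ pt.asIdeal hf₀ φ hφ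
  refine ⟨Spec (CommRingCat.of (Localization.Away f₀)), j₀ f₀ ≫ hW.fromSpec, inferInstance, ?_,
    φ.ker, ?_⟩
  · have hmem : pt ∈ (j₀ f₀).opensRange := by
      rw [Scheme.Hom.opensRange_localizationAway (R := CommRingCat.of Γ(S', W)) f₀]
      exact hf₀
    obtain ⟨y, hy⟩ := hmem
    refine ⟨y, ?_⟩
    rw [Scheme.Hom.comp_apply, hy, hpt]
  · intro K
    have key : ∀ (Z : Scheme.{u}) (k : Z ⟶ Spec (CommRingCat.of (Localization.Away f₀))),
        k ≫ (j₀ f₀ ≫ hW.fromSpec) ≫ f = k ≫ j₀ f₀ ≫ fT := by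
      intro Z k
      simp only [fT, Category.assoc]
    refine ⟨?_, ?_⟩
    · intro hK Z k
      rw [key]
      exact pred_of_ker_eq j q₁ fT eH' K hker f₀ φ hφ hsurj hK k
    · rintro Z k ⟨z⟩ hP
      rw [key] at hP
      exact ker_eq_of_pred j q₁ fT eH' K hker f₀ φ hφ k z hP

end Local

section Local2

variable {S : Scheme.{u}} {H Q : Over S} [GrpObj H] [GrpObj Q] {M : Type} [AddCommGroup M]
  (j : H ⟶ Red.DS S M) [IsMonHom j] [Mono j] (q₁ : Red.DS S M ⟶ Q) [IsMonHom q₁]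

theorem local_main (hH : SGA3x.IsMultTypeFT H) (hM : AddGroup.FG M)
    (hker : ∀ (Y : Over S) (a : Y ⟶ Red.DS S M), a ≫ q₁ = 1 ↔ ∃ h : Y ⟶ H, h ≫ j = a)
    (hcov : IsCov q₁.left) (s : S) :
    ∃ W : S.Opens, s ∈ W ∧ ∃ K : AddSubgroup M,
      Nonempty (Grp.mk (Red.bc W.ι Q) ≅ Grp.mk (Red.bc W.ι (Red.DS S K))) := by
  obtain ⟨S', f, hflat, hsurj, hqc, hloc⟩ := hH
  have hq : IsQCov f := ⟨hsurj, hflat, hqc⟩
  have hdata := fun s' => pt_data j q₁ f hloc hM hker s'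
  obtain ⟨s', rfl⟩ := hsurj.surj s
  obtain ⟨T₀, jj₀, hjj₀, hs₀, K, hK₀⟩ := hdata s'
  have hgood := goodPred_pred j q₁ K
  obtain ⟨W, hWcl, hWiff, hWpred⟩ := clopen_of_localDich hgood f hq (by
    intro s''
    obtain ⟨T', jj, hjj, hs'', Kφ, hKφ⟩ := hdata s''
    refine ⟨T', jj, hjj, hs'', ?_⟩
    by_cases hc : Kφ = K
    · left
      intro Z k
      exact (hKφ K).1 hc Z k
    · right
      intro Z k hZ hP
      exact hc ((hKφ K).2 Z k hZ hP))
  refine ⟨W, ?_, K, ?_⟩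
  · rw [hWiff, hgood.residue_iff f s']
    obtain ⟨y, hy⟩ := hs₀
    have hr : Set.range (S'.fromSpecResidueField s').base ⊆ Set.range jj₀.base := by
      rw [Scheme.range_fromSpecResidueField]
      rintro _ rfl
      exact ⟨y, hy⟩
    have hk := IsOpenImmersion.lift_fac jj₀ (S'.fromSpecResidueField s') hr
    rw [← hk, Category.assoc]
    exact (hK₀ K).1 rfl _ _
  · have hπcov : IsCov (Red.DSmap S K.subtype).left :=
      isCov_DSmap S K.subtype Subtype.val_injective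
    have hπ : IsMonHom (Red.DSmap S K.subtype) :=
      Groth.Agent.Lib.Helper40.Kummer.isMonHom_DSmap S K.subtype
    have c1 : IsCov ((Over.pullback W.ι).map q₁).left :=
      hcov.of_isPullback (Groth.Agent.S5284.isPullback_pullback_map_left W.ι q₁).flip
    have c2 : IsCov ((Over.pullback W.ι).map (Red.DSmap S K.subtype)).left :=
      hπcov.of_isPullback
        (Groth.Agent.S5284.isPullback_pullback_map_left W.ι (Red.DSmap S K.subtype)).flip
    refine iso_of_same_kerPair ((Over.pullback W.ι).map q₁)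
      ((Over.pullback W.ι).map (Red.DSmap S K.subtype)) c1 c2 ?_
    intro R a b
    have ha : ∀ {X : Over S} (u : Red.DS S M ⟶ X),
        a ≫ (Over.pullback W.ι).map u = b ≫ (Over.pullback W.ι).map u ↔
          toBase W.ι a ≫ u = toBase W.ι b ≫ u := by
      intro X u
      rw [← toBase_map, ← toBase_map]
      exact ⟨fun h => congrArg _ h, fun h => toBase_injective W.ι h⟩
    rw [ha, ha, eq_iff_inv_mul q₁, eq_iff_inv_mul (Red.DSmap S K.subtype)]
    let Y : Over S := (Over.map W.ι).obj R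
    let c : Y ⟶ Red.DS S M := (toBase W.ι a)⁻¹ * toBase W.ι b
    let e : Y ⟶ Over.mk (𝟙 S) := Over.homMk Y.hom (by simp)
    show c ≫ q₁ = 1 ↔ c ≫ Red.DSmap S K.subtype = 1
    constructor
    · intro h1
      obtain ⟨h, hh⟩ := (hker Y c).mp h1
      rw [← hh, Category.assoc]
      exact hWpred.1 Y e R.hom rfl h
    · intro h1
      have h2 := (comp_DSmap_eq_one_iff K.subtype c).mp h1
      obtain ⟨d, hd⟩ := exists_lift_of_surj (QuotientAddGroup.mk' K)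
        (QuotientAddGroup.mk'_surjective K) c
        (fun m hm => h2 ⟨m, (QuotientAddGroup.eq_zero_iff m).mp hm⟩)
      rw [← hd, Category.assoc]
      exact hWpred.2 Y e R.hom rfl d

end Local2

section Assembly

theorem isMultTypeFT_bc {S S₁ : Scheme.{u}} (g : S₁ ⟶ S) {H : Over S} [GrpObj H]
    (hH : SGA3x.IsMultTypeFT H) : SGA3x.IsMultTypeFT (Red.bc g H) := by
  obtain ⟨S', f, hflat, hsurj, hqc, hloc⟩ := hH
  have hq : IsQCov f := ⟨hsurj, hflat, hqc⟩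
  have hq' := hq.pullback_fst g
  refine ⟨pullback g f, pullback.fst g f, hq'.flat, hq'.surj, hq'.qc, ?_⟩
  intro x
  obtain ⟨U', hx, N, instN, hN, ⟨e⟩⟩ := hloc (pullback.snd g f x)
  let U₁ : (pullback g f).Opens := (pullback.snd g f) ⁻¹ᵁ U'
  refine ⟨U₁, hx, N, instN, hN, ?_⟩
  let k : (U₁ : Scheme.{u}) ⟶ (U' : Scheme.{u}) := pullback.snd g f ∣_ U'
  have hk : k ≫ U'.ι ≫ f = (U₁.ι ≫ pullback.fst g f) ≫ g := by
    rw [← Category.assoc, morphismRestrict_ι, Category.assoc, Category.assoc, pullback.condition]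
  let _ : AddCommGroup N := instN
  obtain ⟨e'⟩ := grpIso_bc (U'.ι ≫ f) H N e k _ hk
  exact ⟨(bcCompIso g (U₁.ι ≫ pullback.fst g f) H).symm ≪≫ e'⟩

theorem dsIso (S : Scheme.{u}) {M N : Type} [AddCommGroup M] [AddCommGroup N] (ε : M ≃+ N) :
    Nonempty (Grp.mk (Red.DS S N) ≅ Grp.mk (Red.DS S M)) := by
  have h1 := Groth.Agent.Lib.Helper40.Kummer.isMonHom_DSmap S ε.toAddMonoidHom
  have h2 := Groth.Agent.Lib.Helper40.Kummer.isMonHom_DSmap S ε.symm.toAddMonoidHom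
  have e1 : Red.DSmap S ε.toAddMonoidHom ≫ Red.DSmap S ε.symm.toAddMonoidHom = 𝟙 _ := by
    have h := chFn_injective (Red.DSmap S ε.toAddMonoidHom ≫ Red.DSmap S ε.symm.toAddMonoidHom)
      (𝟙 (Red.DS S N)) (by
        intro n
        rw [chFn_DSmap, ← Category.id_comp (Red.DSmap S ε.toAddMonoidHom), chFn_DSmap]
        simp)
    exact h
  have e2 : Red.DSmap S ε.symm.toAddMonoidHom ≫ Red.DSmap S ε.toAddMonoidHom = 𝟙 _ := by
    have h := chFn_injective (Red.DSmap S ε.symm.toAddMonoidHom ≫ Red.DSmap S ε.toAddMonoidHom)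
      (𝟙 (Red.DS S M)) (by
        intro n
        rw [chFn_DSmap, ← Category.id_comp (Red.DSmap S ε.symm.toAddMonoidHom), chFn_DSmap]
        simp)
    exact h
  exact ⟨Grp.mkIso ⟨Red.DSmap S ε.toAddMonoidHom, Red.DSmap S ε.symm.toAddMonoidHom, e1, e2⟩
    (IsMonHom.one_hom _) (IsMonHom.mul_hom _)⟩

lemma exists_equiv_fin (r : ℕ) (K : AddSubgroup (Fin r → ℤ)) :
    ∃ n : ℕ, Nonempty ((Fin n → ℤ) ≃+ K) := by
  obtain ⟨n, ⟨b⟩⟩ := Submodule.nonempty_basis_of_pid (Pi.basisFun ℤ (Fin r))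
    (AddSubgroup.toIntSubmodule K)
  refine ⟨n, ⟨b.equivFun.symm.toAddEquiv.trans ?_⟩⟩
  exact
    { toFun := fun x => ⟨x.1, x.2⟩
      invFun := fun x => ⟨x.1, x.2⟩
      left_inv := fun x => rfl
      right_inv := fun x => rfl
      map_add' := fun x y => rfl }

lemma ker_of_isQuotient {S : Scheme.{u}} {T H Q : Over S} [GrpObj T] [GrpObj H] [GrpObj Q]
    (i : H ⟶ T) (q : T ⟶ Q) [IsMonHom q] (hq : RedSub.IsQuotient i q) {Y : Over S} (a : Y ⟶ T) :
    a ≫ q = 1 ↔ ∃ h : Y ⟶ H, h ≫ i = a := by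
  have hp := hq.2.2.2
  constructor
  · intro h1
    have h2 : (1 : Y ⟶ T) ≫ q = a ≫ q := by rw [h1, MonObj.one_comp]
    let ℓ := hp.lift 1 a h2
    have hℓ1 : ℓ ≫ fst T H = 1 := hp.lift_fst _ _ _
    have hℓ2 : ℓ ≫ (T ◁ i) ≫ μ[T] = a := hp.lift_snd _ _ _
    refine ⟨ℓ ≫ snd T H, ?_⟩
    have e0 : ℓ = lift (1 : Y ⟶ T) (ℓ ≫ snd T H) := by
      apply CartesianMonoidalCategory.hom_ext
      · rw [lift_fst, hℓ1]
      · rw [lift_snd]
    rw [← hℓ2]
    conv_rhs => rw [e0]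
    rw [← Category.assoc, lift_whiskerLeft, ← Hom.mul_def, _root_.one_mul]
  · rintro ⟨h, rfl⟩
    have h2 := congrArg (fun x => lift (1 : Y ⟶ T) h ≫ x) hp.w
    have e1 : lift (1 : Y ⟶ T) h ≫ fst T H ≫ q = 1 := by
      rw [lift_fst_assoc, MonObj.one_comp]
    have e2 : lift (1 : Y ⟶ T) h ≫ ((T ◁ i) ≫ μ[T]) ≫ q = (h ≫ i) ≫ q := by
      rw [← Category.assoc, ← Category.assoc, lift_whiskerLeft, ← Hom.mul_def, _root_.one_mul]
    exact e2.symm.trans (h2.symm.trans e1)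

end Assembly

section Main

theorem main_aux {S : Scheme.{u}} {T H Q : Over S} [GrpObj T]
    [GrpObj H] [GrpObj Q] (hT : (∀ s : ↥S, ∃ U : S.Opens, s ∈ U ∧ ∃ r : ℕ, Red.IsSplitTorusWith (Fin r → ℤ) (Red.bc U.ι T)))
    (i : H ⟶ T) [IsMonHom i] [Mono i] (hH : SGA3x.IsMultTypeFT H) (q : T ⟶ Q) [IsMonHom q]
    (hq : RedSub.IsQuotient i q) :
    (∀ s : ↥S, ∃ U : S.Opens, s ∈ U ∧ ∃ r : ℕ, Red.IsSplitTorusWith (Fin r → ℤ) (Red.bc U.ι Q)) := by
  intro s
  obtain ⟨U, hsU, r, ⟨eT⟩⟩ := hT s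
  let iU := (Over.pullback U.ι).map i
  let qU := (Over.pullback U.ι).map q
  have hiU : IsMonHom iU := inferInstance
  have hqU : IsMonHom qU := inferInstance
  have hmi : Mono iU := inferInstance
  let eo : Red.bc U.ι T ≅ Red.DS (U : Scheme.{u}) (Fin r → ℤ) := (Grp.forget _).mapIso eT
  have hm1 : IsMonHom eo.hom := eT.hom.hom.isMonHom_hom
  have hm2 : IsMonHom eo.inv := eT.inv.hom.isMonHom_hom
  let j : Red.bc U.ι H ⟶ Red.DS (U : Scheme.{u}) (Fin r → ℤ) := iU ≫ eo.hom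
  let q₁ : Red.DS (U : Scheme.{u}) (Fin r → ℤ) ⟶ Red.bc U.ι Q := eo.inv ≫ qU
  have hj : IsMonHom j := inferInstance
  have hq₁ : IsMonHom q₁ := inferInstance
  have hmj : Mono j := mono_comp _ _
  have hM : AddGroup.FG (Fin r → ℤ) := Module.Finite.iff_addGroup_fg.mp inferInstance
  have hHU := isMultTypeFT_bc U.ι hH
  have key : ∀ {Y : Over (U : Scheme.{u})} (a' : Y ⟶ Red.bc U.ι T),
      a' ≫ qU = 1 ↔ ∃ h : Y ⟶ Red.bc U.ι H, h ≫ iU = a' := by
    intro Y a'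
    have e1 : a' ≫ qU = 1 ↔ toBase U.ι a' ≫ q = 1 := by
      rw [← toBase_map]
      constructor
      · intro h
        rw [h, toBase_one]
      · intro h
        apply toBase_injective U.ι
        rw [h, toBase_one]
    rw [e1, ker_of_isQuotient i q hq]
    constructor
    · rintro ⟨h₀, hh₀⟩
      refine ⟨tbInv U.ι h₀, ?_⟩
      apply toBase_injective U.ι
      rw [toBase_map, toBase_tbInv, hh₀]
    · rintro ⟨h, rfl⟩
      exact ⟨toBase U.ι h, (toBase_map U.ι h i).symm⟩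
  have hker : ∀ (Y : Over (U : Scheme.{u})) (a : Y ⟶ Red.DS (U : Scheme.{u}) (Fin r → ℤ)),
      a ≫ q₁ = 1 ↔ ∃ h : Y ⟶ Red.bc U.ι H, h ≫ j = a := by
    intro Y a
    rw [show a ≫ q₁ = (a ≫ eo.inv) ≫ qU from (Category.assoc _ _ _).symm, key]
    constructor
    · rintro ⟨h, hh⟩
      refine ⟨h, ?_⟩
      show h ≫ iU ≫ eo.hom = a
      rw [← Category.assoc, hh, Category.assoc, eo.inv_hom_id, Category.comp_id]
    · rintro ⟨h, rfl⟩
      refine ⟨h, ?_⟩
      show h ≫ iU = (h ≫ iU ≫ eo.hom) ≫ eo.inv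
      simp
  have hcov : IsCov q₁.left := by
    have := hq.1
    have := hq.2.1
    have := hq.2.2.1
    have c0 : IsCov q.left := (IsQCov.of_fppf q.left).isCov
    have c1 : IsCov qU.left :=
      c0.of_isPullback (Groth.Agent.S5284.isPullback_pullback_map_left U.ι q).flip
    have : IsIso eo.inv.left := (Over.forget _).map_isIso eo.inv
    have c2 : IsCov eo.inv.left := (IsQCov.of_quasiCompact eo.inv.left).isCov
    exact isCov_left_comp c2 c1
  obtain ⟨W, hsW, K, ⟨e₁⟩⟩ := local_main j q₁ hHU hM hker hcov ⟨s, hsU⟩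
  obtain ⟨n, ⟨ε⟩⟩ := exists_equiv_fin r K
  obtain ⟨e₂⟩ := Groth.Agent.S16614.splitBc (Iso.refl (Grp.mk (Red.DS (U : Scheme.{u}) K))) W.ι
  obtain ⟨e₃⟩ := dsIso (W : Scheme.{u}) ε
  let e₄ : Grp.mk (Red.bc (W.ι ≫ U.ι) Q) ≅ Grp.mk (Red.DS (W : Scheme.{u}) (Fin n → ℤ)) :=
    bcCompIso U.ι W.ι Q ≪≫ e₁ ≪≫ e₂ ≪≫ e₃
  refine ⟨U.ι ''ᵁ W, ⟨⟨s, hsU⟩, hsW, rfl⟩, n, ?_⟩
  exact grpIso_bc (W.ι ≫ U.ι) Q (Fin n → ℤ) e₄ (U.ι.isoImage W).inv (U.ι ''ᵁ W).ι
    (U.ι.isoImage_inv_ι W)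

end Main

/-- Over an arbitrary scheme S, let T be a locally split S-torus (Zariski-locally on S isomorphic to
split tori), H a subgroup scheme of T of (finite) multiplicative type and q : T ⟶ Q a homomorphism
presenting Q as the fppf quotient T/H. Then Q is a locally split torus. -/
theorem result {S : Scheme.{u}} {T H Q : Over S} [GrpObj T]
    [GrpObj H] [GrpObj Q] (hT : (∀ s : ↥S, ∃ U : S.Opens, s ∈ U ∧ ∃ r : ℕ, Red.IsSplitTorusWith (Fin r → ℤ) (Red.bc U.ι T)))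
    (i : H ⟶ T) [IsMonHom i] [Mono i] (hH : SGA3x.IsMultTypeFT H) (q : T ⟶ Q) [IsMonHom q]
    (hq : RedSub.IsQuotient i q) :
    (∀ s : ↥S, ∃ U : S.Opens, s ∈ U ∧ ∃ r : ℕ, Red.IsSplitTorusWith (Fin r → ℤ) (Red.bc U.ι Q)) := by
  exact main_aux hT i hH q hq

end Groth.Agent.S16616
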