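import Groth.Statements.S16612
import Groth.Agent.S16616
import Mathlib

set_option autoImplicit false
open CategoryTheory MonoidalCategory CartesianMonoidalCategory MonObj GrpObj AlgebraicGeometry
universe u
open SGA3x

namespace Groth.Agent.S16612

open Groth.Agent.Lib.Helper43 Groth.Agent.Lib.Helper60.WittTorus Groth.Agent.Lib.Helper60.DiagChar
open Groth.Agent.S5279 Groth.Agent.S5290 Groth.Agent.S5274 Groth.Agent.S5430 Groth.Agent.S5255
open Groth.Agent.S8042 Groth.Agent.S16616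
open Groth.Agent.Lib.Helper40.FpqcCov CategoryTheory.Limits

section Pts

variable {S : Scheme.{u}}

/-- a morphism which is multiplicative on points is a homomorphism -/
lemma isMonHom_of_pts {A B : Over S} [GrpObj A] [GrpObj B] (f : A ⟶ B)
    (h : ∀ (Y : Over S) (a b : Y ⟶ A), (a * b) ≫ f = (a ≫ f) * (b ≫ f)) : IsMonHom f := by
  have hmul : μ[A] ≫ f = (f ⊗ₘ f) ≫ μ[B] := by
    have h1 := h (A ⊗ A) (fst A A) (snd A A)
    rw [Hom.mul_def, Hom.mul_def, lift_fst_snd, Category.id_comp,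
      lift_fst_comp_snd_comp] at h1
    exact h1
  refine ⟨?_, hmul⟩
  have h2 := h (𝟙_ (Over S)) η[A] η[A]
  have h3 : (η[A] * η[A] : 𝟙_ (Over S) ⟶ A) = η[A] := by
    have : (η[A] : 𝟙_ (Over S) ⟶ A) = 1 := by
      rw [Hom.one_def]
      simp
    rw [this, _root_.mul_one]
  rw [h3] at h2
  have h4 : (η[A] ≫ f : 𝟙_ (Over S) ⟶ B) = 1 := by
    have := mul_eq_left.mp h2.symm
    exact this
  rw [h4, Hom.one_def]
  simp

end Pts

section Comm

variable {S : Scheme.{u}} {G : Over S} [GrpObj G]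

/-- the points of `G` over `g` commute -/
def CommAt {Z : Scheme.{u}} (g : Z ⟶ S) : Prop :=
  ∀ (Y : Over S) (t : Y.left ⟶ Z), Y.hom = t ≫ g → ∀ a b : Y ⟶ G, a * b = b * a

lemma goodPred_comm : GoodPred (S₀ := S) (fun {_} g => CommAt (G := G) g) := by
  refine ⟨?_, ?_, ?_⟩
  · intro Z Z' g k hg Y t ht
    exact hg Y (t ≫ k) (by rw [ht, Category.assoc])
  · intro Z Z' g k hk hg Y t ht a b
    have hfst : IsCov (pullback.fst t k) := hk.of_isPullback (IsPullback.of_hasPullback t k)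
    let Y' : Over S := Over.mk (pullback.fst t k ≫ Y.hom)
    let w : Y' ⟶ Y := Over.homMk (pullback.fst t k) rfl
    have : Epi w := (Over.forget S).epi_of_epi_map (by exact hfst.epi)
    have h1 := hg Y' (pullback.snd t k) (by
      show pullback.fst t k ≫ Y.hom = _
      rw [ht, pullback.condition_assoc]) (w ≫ a) (w ≫ b)
    rw [← cancel_epi w, MonObj.comp_mul, MonObj.comp_mul, h1]
  · intro Z g W hW hg Y t ht a b
    apply Over.OverMorphism.ext
    apply Scheme.hom_ext_of_forall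
    intro y
    refine ⟨t ⁻¹ᵁ W (t y), hW (t y), ?_⟩
    let Y' : Over S := Over.mk ((t ⁻¹ᵁ W (t y)).ι ≫ Y.hom)
    let w : Y' ⟶ Y := Over.homMk (t ⁻¹ᵁ W (t y)).ι rfl
    have h1 := hg (t y) Y' (t ∣_ W (t y)) (by
      show (t ⁻¹ᵁ W (t y)).ι ≫ Y.hom = _
      rw [ht, ← Category.assoc (t ∣_ W (t y)), morphismRestrict_ι, Category.assoc])
      (w ≫ a) (w ≫ b)
    have h2 : w ≫ (a * b) = w ≫ (b * a) := by rw [MonObj.comp_mul, MonObj.comp_mul, h1]
    exact congrArg (fun x => x.left) h2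

theorem comm_of_multType (hG : SGA3x.IsMultTypeFT G) {Y : Over S} (a b : Y ⟶ G) :
    a * b = b * a := by
  obtain ⟨S', f, hflat, hsurj, hqc, hloc⟩ := hG
  have hq : IsQCov f := ⟨hsurj, hflat, hqc⟩
  have h1 : CommAt (G := G) f := by
    apply goodPred_comm.zar f (fun s' => (hloc s').choose) (fun s' => (hloc s').choose_spec.1)
    intro s'
    obtain ⟨hs', N, instN, hNfg, ⟨eN⟩⟩ := (hloc s').choose_spec
    intro Y t ht a b
    exact comm_local ((hloc s').choose.ι ≫ f) eN t ht a b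
  have h2 : CommAt (G := G) (𝟙 S) :=
    goodPred_comm.desc (𝟙 S) f hq.isCov (by rwa [Category.comp_id])
  exact h2 Y Y.hom (Category.comp_id _).symm a b

end Comm

section Image

variable {S : Scheme.{u}} {G : Over S} [GrpObj G] {M : Type} [AddCommGroup M]
  (u : Red.DS S M ⟶ G) [IsMonHom u] (K : AddSubgroup M)

/-- the kernel of `u` is contained in the kernel of `D(M) → D(K)`, on points over `g` -/
def PredB {Z : Scheme.{u}} (g : Z ⟶ (Over.mk (𝟙 S)).left) : Prop :=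
  ∀ (Y : Over S) (t : Y.left ⟶ Z), Y.hom = t ≫ g → ∀ c : Y ⟶ Red.DS S M, c ≫ u = 1 →
    c ≫ Red.DSmap S K.subtype = 1

omit [IsMonHom u] in
lemma goodPred_B : GoodPred (S₀ := (Over.mk (𝟙 S)).left) (fun {_} g => PredB u K g) := by
  refine ⟨?_, ?_, ?_⟩
  · intro Z Z' g k hg Y t ht
    exact hg Y (t ≫ k) (by rw [ht, Category.assoc])
  · intro Z Z' g k hk hg Y t ht c hc
    have hfst : IsCov (pullback.fst t k) := hk.of_isPullback (IsPullback.of_hasPullback t k)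
    let Y' : Over S := Over.mk (pullback.fst t k ≫ Y.hom)
    let w : Y' ⟶ Y := Over.homMk (pullback.fst t k) rfl
    have : Epi w := (Over.forget S).epi_of_epi_map (by exact hfst.epi)
    have h1 := hg Y' (pullback.snd t k) (by
      show pullback.fst t k ≫ Y.hom = _
      rw [ht, pullback.condition_assoc]) (w ≫ c) (by rw [Category.assoc, hc, MonObj.comp_one])
    rw [← cancel_epi w, ← Category.assoc, h1, MonObj.comp_one]
  · intro Z g W hW hg Y t ht c hc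
    apply Over.OverMorphism.ext
    apply Scheme.hom_ext_of_forall
    intro y
    refine ⟨t ⁻¹ᵁ W (t y), hW (t y), ?_⟩
    let Y' : Over S := Over.mk ((t ⁻¹ᵁ W (t y)).ι ≫ Y.hom)
    let w : Y' ⟶ Y := Over.homMk (t ⁻¹ᵁ W (t y)).ι rfl
    have h1 := hg (t y) Y' (t ∣_ W (t y)) (by
      show (t ⁻¹ᵁ W (t y)).ι ≫ Y.hom = _
      rw [ht, ← Category.assoc (t ∣_ W (t y)), morphismRestrict_ι, Category.assoc])
      (w ≫ c) (by rw [Category.assoc, hc, MonObj.comp_one])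
    have h2 : w ≫ (c ≫ Red.DSmap S K.subtype) = w ≫ 1 := by
      rw [← Category.assoc, h1, MonObj.comp_one]
    exact congrArg (fun x => x.left) h2

/-- the kernels of `u` and of `D(M) → D(K)` have the same points over `g` -/
def Pred₂ {Z : Scheme.{u}} (g : Z ⟶ (Over.mk (𝟙 S)).left) : Prop :=
  TrivAt (fam₂ u K) g ∧ PredB u K g

lemma goodPred₂ : GoodPred (S₀ := (Over.mk (𝟙 S)).left) (fun {_} g => Pred₂ u K g) :=
  GoodPred.and (goodPred_triv (fam₂ u K)) (goodPred_B u K)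

end Image

section Dich₂

variable {S : Scheme.{u}} {G : Over S} [GrpObj G] {M : Type} [AddCommGroup M]
  (u : Red.DS S M ⟶ G) [IsMonHom u]
  {R : Type u} [CommRing R]

local notation "TB" => Spec (CommRingCat.of R)

variable (fT : Spec (CommRingCat.of R) ⟶ S) {N : Type} [AddCommGroup N]
  (eG : Grp.mk (Red.bc fT G) ≅ Grp.mk (Red.DS (Spec (CommRingCat.of R)) N))

/-- the point of `D_S(M)` with the same characters as a point of `D_TB(M)` -/
noncomputable def hat {Y : Over TB} (c : Y ⟶ Red.DS TB M) : (Over.map fT).obj Y ⟶ Red.DS S M :=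
  Classical.choose (chFn_exists (S := S) (X := (Over.map fT).obj Y)
    (show Multiplicative M →* Γ(((Over.map fT).obj Y).left, ⊤) from
      (Units.coeHom _).comp (chFnU (S := TB) (Y := Y) c)))

lemma hat_spec {Y : Over TB} (c : Y ⟶ Red.DS TB M) (m : M) :
    chFn (S := S) (X := (Over.map fT).obj Y) m (hat fT c) = chFn m c :=
  Classical.choose_spec (chFn_exists (S := S) (X := (Over.map fT).obj Y)
    (show Multiplicative M →* Γ(((Over.map fT).obj Y).left, ⊤) from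
      (Units.coeHom _).comp (chFnU (S := TB) (Y := Y) c))) m

lemma hat_nat {Y Y' : Over TB} (w : Y' ⟶ Y) (c : Y ⟶ Red.DS TB M) :
    hat fT (w ≫ c) = (Over.map fT).map w ≫ hat fT c := by
  apply chFn_injective
  intro m
  have h1 : chFn (S := S) (X := (Over.map fT).obj Y') m ((Over.map fT).map w ≫ hat fT c) =
      ((Over.map fT).map w).left.appTop (chFn (S := S) (X := (Over.map fT).obj Y) m (hat fT c)) :=
    chFn_comp m _ _
  have h2 : chFn m (w ≫ c) = w.left.appTop (chFn m c) := chFn_comp m _ _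
  rw [hat_spec, h1, h2, hat_spec]
  rfl

lemma hat_mul {Y : Over TB} (c c' : Y ⟶ Red.DS TB M) :
    hat fT (c * c') = hat fT c * hat fT c' := by
  apply chFn_injective
  intro m
  rw [hat_spec, chFn_mul, chFn_mul, hat_spec, hat_spec]

lemma exists_hat {Y : Over TB} (c : (Over.map fT).obj Y ⟶ Red.DS S M) :
    ∃ c₁ : Y ⟶ Red.DS TB M, hat fT c₁ = c := by
  obtain ⟨c₁, hc₁⟩ := chFn_exists (S := TB) (X := Y)
    (show Multiplicative M →* Γ(Y.left, ⊤) from
      (Units.coeHom _).comp (chFnU (S := S) (Y := (Over.map fT).obj Y) c))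
  refine ⟨c₁, ?_⟩
  apply chFn_injective
  intro m
  rw [hat_spec, hc₁]
  rfl

/-- the image in `D(N)` of a point of `D(M)` -/
noncomputable def psiU {Y : Over TB} (c : Y ⟶ Red.DS TB M) : Y ⟶ Red.DS TB N :=
  forth fT eG (hat fT c ≫ u)

lemma psiU_nat {Y Y' : Over TB} (w : Y' ⟶ Y) (c : Y ⟶ Red.DS TB M) :
    psiU u fT eG (w ≫ c) = w ≫ psiU u fT eG c := by
  unfold psiU
  rw [hat_nat, Category.assoc, forth_nat]

lemma psiU_mul {Y : Over TB} (c c' : Y ⟶ Red.DS TB M) :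
    psiU u fT eG (c * c') = psiU u fT eG c * psiU u fT eG c' := by
  unfold psiU
  rw [hat_mul, MonObj.mul_comp (hat fT c) (hat fT c') u, forth_mul]

include eG in
/-- the local form of `u` near a prime -/
theorem local_form₂ (hN : AddGroup.FG N) (𝔭 : Ideal R) [𝔭.IsPrime] :
    ∃ f : R, f ∉ 𝔭 ∧ ∃ φ : N →+ M, ∀ (Y : Over TB), IsUnit (ptHom Y.hom f) →
      ∀ (c : (Over.map fT).obj Y ⟶ Red.DS S M), (c ≫ u = 1 ↔ ∀ n, chFn (φ n) c = 1) := by
  obtain ⟨f, hf, φ, hφ⟩ := ds_local_pts (fun {Y} c => psiU u fT eG c)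
    (fun w c => psiU_nat u fT eG w c) (fun c c' => psiU_mul u fT eG c c') hN 𝔭
  refine ⟨f, hf, φ, ?_⟩
  intro Y hu c
  obtain ⟨c₁, rfl⟩ := exists_hat fT c
  have h1 : hat fT c₁ ≫ u = 1 ↔ psiU u fT eG c₁ = 1 := by
    unfold psiU
    constructor
    · intro h
      rw [h, forth_one]
    · intro h
      have := congrArg (back fT eG) h
      rwa [back_forth, back_one] at this
  rw [h1, hφ Y hu c₁]
  constructor
  · intro h n
    rw [hat_spec, ← chFn_DSmap, h, chFn_one]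
  · intro h
    apply chFn_injective
    intro n
    rw [chFn_DSmap, chFn_one, ← hat_spec fT c₁]
    exact h n

end Dich₂

section Dich₂b

variable {S : Scheme.{u}} {G : Over S} [GrpObj G] {M : Type} [AddCommGroup M]
  (u : Red.DS S M ⟶ G) [IsMonHom u]
  {R : Type u} [CommRing R]

local notation "TB" => Spec (CommRingCat.of R)

variable (fT : Spec (CommRingCat.of R) ⟶ S) {N : Type} [AddCommGroup N] (K : AddSubgroup M)

theorem pred₂_of_range_eq (f : R) (φ : N →+ M)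
    (hφ : ∀ (Y : Over TB), IsUnit (ptHom Y.hom f) →
      ∀ (c : (Over.map fT).obj Y ⟶ Red.DS S M), (c ≫ u = 1 ↔ ∀ n, chFn (φ n) c = 1))
    (hK : φ.range = K) {Z : Scheme.{u}} (k : Z ⟶ Spec (CommRingCat.of (Localization.Away f))) :
    Pred₂ u K (k ≫ j₀ f ≫ fT) := by
  constructor
  · intro Y e t ht d
    show d ≫ Red.DSmap S (QuotientAddGroup.mk' K) ≫ u = 1
    have hY : Y.hom = (t ≫ k ≫ j₀ f) ≫ fT := by
      have h0 : e.left ≫ 𝟙 S = Y.hom := Over.w e
      rw [← h0, ht]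
      simp
    obtain ⟨w, w', hw, hww⟩ := transport fT (t ≫ k ≫ j₀ f) hY
    let Y₁ : Over TB := Over.mk (t ≫ k ≫ j₀ f)
    have hu : IsUnit (ptHom Y₁.hom f) := isUnit_ptHom k Y₁ t rfl
    have h1 : ((w ≫ d) ≫ Red.DSmap S (QuotientAddGroup.mk' K)) ≫ u = 1 := by
      rw [hφ Y₁ hu]
      intro n
      rw [chFn_DSmap]
      have h0 : (QuotientAddGroup.mk' K) (φ n) = 0 := by
        rw [QuotientAddGroup.mk'_apply, QuotientAddGroup.eq_zero_iff]
        exact hK ▸ ⟨n, rfl⟩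
      rw [h0, chFn_zero]
    have h3 : w ≫ (d ≫ Red.DSmap S (QuotientAddGroup.mk' K) ≫ u) = w ≫ 1 := by
      rw [MonObj.comp_one, ← h1]
      simp only [Category.assoc]
    have h4 := congrArg (fun x => w' ≫ x) h3
    simpa only [← Category.assoc, hww, Category.id_comp] using h4
  · intro Y t ht c₀ hc₀
    have hY : Y.hom = (t ≫ k ≫ j₀ f) ≫ fT := by
      rw [ht]
      simp
    obtain ⟨w, w', hw, hww⟩ := transport fT (t ≫ k ≫ j₀ f) hY
    let Y₁ : Over TB := Over.mk (t ≫ k ≫ j₀ f)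
    have hu : IsUnit (ptHom Y₁.hom f) := isUnit_ptHom k Y₁ t rfl
    have h1 : (w ≫ c₀) ≫ u = 1 := by rw [Category.assoc, hc₀, MonObj.comp_one]
    have h2 := (hφ Y₁ hu (w ≫ c₀)).mp h1
    have h3 : (w ≫ c₀) ≫ Red.DSmap S K.subtype = 1 := by
      rw [comp_DSmap_eq_one_iff]
      intro k'
      obtain ⟨n, hn⟩ : (k' : M) ∈ φ.range := hK ▸ k'.2
      show chFn (k' : M) (w ≫ c₀) = 1
      rw [← hn]
      exact h2 n
    have h5 : w ≫ (c₀ ≫ Red.DSmap S K.subtype) = w ≫ 1 := by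
      rw [MonObj.comp_one, ← h3]
      simp only [Category.assoc]
    have h4 := congrArg (fun x => w' ≫ x) h5
    simpa only [← Category.assoc, hww, Category.id_comp] using h4

theorem range_eq_of_pred₂ (f : R) (φ : N →+ M)
    (hφ : ∀ (Y : Over TB), IsUnit (ptHom Y.hom f) →
      ∀ (c : (Over.map fT).obj Y ⟶ Red.DS S M), (c ≫ u = 1 ↔ ∀ n, chFn (φ n) c = 1))
    {Z : Scheme.{u}} (k : Z ⟶ Spec (CommRingCat.of (Localization.Away f))) (z : Z)
    (hP : Pred₂ u K (k ≫ j₀ f ≫ fT)) : φ.range = K := by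
  apply le_antisymm
  · rintro _ ⟨n, rfl⟩
    obtain ⟨Y, t₀, ht₀, d, hd⟩ := exists_univ_pt (Z.residueField z)
      (Z.fromSpecResidueField z ≫ k ≫ j₀ f ≫ fT) (M ⧸ K)
    let t := t₀ ≫ Z.fromSpecResidueField z
    have hY' : Y.hom = t ≫ k ≫ j₀ f ≫ fT := by
      rw [← ht₀]
      simp [t]
    let e : Y ⟶ Over.mk (𝟙 S) := Over.homMk Y.hom (by simp)
    have h1 : d ≫ Red.DSmap S (QuotientAddGroup.mk' K) ≫ u = 1 := hP.1 Y e t hY' d
    have hY : Y.hom = (t ≫ k ≫ j₀ f) ≫ fT := by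
      rw [hY']
      simp
    obtain ⟨w, w', hw, hww⟩ := transport fT (t ≫ k ≫ j₀ f) hY
    let Y₁ : Over TB := Over.mk (t ≫ k ≫ j₀ f)
    have hu : IsUnit (ptHom Y₁.hom f) := isUnit_ptHom k Y₁ t rfl
    have h2 : ((w ≫ d) ≫ Red.DSmap S (QuotientAddGroup.mk' K)) ≫ u = 1 := by
      have : w ≫ (d ≫ Red.DSmap S (QuotientAddGroup.mk' K) ≫ u) = 1 := by
        rw [h1, MonObj.comp_one]
      simpa only [Category.assoc] using this
    have h3 := (hφ Y₁ hu _).mp h2 n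
    rw [chFn_DSmap] at h3
    have h4 : chFn ((QuotientAddGroup.mk' K) (φ n)) d = 1 := by
      have h0 : d = w' ≫ (w ≫ d) := by rw [← Category.assoc, hww, Category.id_comp]
      rw [h0, chFn_comp, h3, map_one]
    have h5 := hd _ h4
    rwa [QuotientAddGroup.mk'_apply, QuotientAddGroup.eq_zero_iff] at h5
  · intro k' hk'
    obtain ⟨Y, t₀, ht₀, d, hd⟩ := exists_univ_pt (Z.residueField z)
      (Z.fromSpecResidueField z ≫ k ≫ j₀ f ≫ fT) (M ⧸ φ.range)
    let t := t₀ ≫ Z.fromSpecResidueField z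
    have hY' : Y.hom = t ≫ k ≫ j₀ f ≫ fT := by
      rw [← ht₀]
      simp [t]
    have hY : Y.hom = (t ≫ k ≫ j₀ f) ≫ fT := by
      rw [hY']
      simp
    obtain ⟨w, w', hw, hww⟩ := transport fT (t ≫ k ≫ j₀ f) hY
    let Y₁ : Over TB := Over.mk (t ≫ k ≫ j₀ f)
    have hu : IsUnit (ptHom Y₁.hom f) := isUnit_ptHom k Y₁ t rfl
    let c₀ : Y ⟶ Red.DS S M := d ≫ Red.DSmap S (QuotientAddGroup.mk' φ.range)
    have hc : ((w ≫ d) ≫ Red.DSmap S (QuotientAddGroup.mk' φ.range)) ≫ u = 1 := by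
      rw [hφ Y₁ hu]
      intro n
      rw [chFn_DSmap]
      have h0 : (QuotientAddGroup.mk' φ.range) (φ n) = 0 := by
        rw [QuotientAddGroup.mk'_apply, QuotientAddGroup.eq_zero_iff]
        exact ⟨n, rfl⟩
      rw [h0, chFn_zero]
    have hc₀ : c₀ ≫ u = 1 := by
      have h3 : w ≫ (c₀ ≫ u) = w ≫ 1 := by
        rw [MonObj.comp_one, ← hc]
        simp only [c₀, Category.assoc]
      have h4 := congrArg (fun x => w' ≫ x) h3
      simpa only [← Category.assoc, hww, Category.id_comp] using h4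
    have h1 := hP.2 Y t hY' c₀ hc₀
    have h2 := (comp_DSmap_eq_one_iff K.subtype c₀).mp h1 ⟨k', hk'⟩
    have h2' : chFn k' (d ≫ Red.DSmap S (QuotientAddGroup.mk' φ.range)) = 1 := h2
    rw [chFn_DSmap] at h2'
    have h3 := hd _ h2'
    rwa [QuotientAddGroup.mk'_apply, QuotientAddGroup.eq_zero_iff] at h3

end Dich₂b

section Global

variable {S : Scheme.{u}} {G : Over S} [GrpObj G] {M : Type} [AddCommGroup M]
  (u : Red.DS S M ⟶ G) [IsMonHom u]

/-- local data at a point of the cover -/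
theorem pt_data₂ {S' : Scheme.{u}} (f : S' ⟶ S)
    (hloc : ∀ s' : S', ∃ U : S'.Opens, s' ∈ U ∧ ∃ (N : Type) (_ : AddCommGroup N), AddGroup.FG N ∧
      Nonempty (Grp.mk (Red.bc (U.ι ≫ f) G) ≅ Grp.mk (Red.DS (U : Scheme.{u}) N)))
    (s' : S') :
    ∃ (T' : Scheme.{u}) (jj : T' ⟶ S'), IsOpenImmersion jj ∧ s' ∈ Set.range jj ∧
      ∃ Kφ : AddSubgroup M, ∀ K : AddSubgroup M,
        (Kφ = K → ∀ (Z : Scheme.{u}) (k : Z ⟶ T'), Pred₂ u K (k ≫ jj ≫ f)) ∧
        (∀ (Z : Scheme.{u}) (k : Z ⟶ T'), Nonempty Z → Pred₂ u K (k ≫ jj ≫ f) → Kφ = K) := by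
  obtain ⟨U', hs', N, instN, hNfg, ⟨eH⟩⟩ := hloc s'
  obtain ⟨_, ⟨W₀, hW : IsAffineOpen W₀, rfl⟩, hsW, hWU⟩ :=
    S'.isBasis_affineOpens.exists_subset_of_mem_open hs' U'.2
  let W : S'.Opens := W₀
  have hWU' : W ≤ U' := hWU
  let fT : Spec (CommRingCat.of Γ(S', W)) ⟶ S := hW.fromSpec ≫ f
  have hmemW : ∀ x, hW.fromSpec x ∈ W := by
    intro x
    have := hW.range_fromSpec
    rw [← SetLike.mem_coe, ← this]
    exact ⟨x, rfl⟩
  have hrA : Set.range hW.fromSpec.base ⊆ Set.range U'.ι.base := by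
    rintro _ ⟨x, rfl⟩
    rw [Scheme.Opens.range_ι]
    exact hWU' (hmemW x)
  let gA := IsOpenImmersion.lift U'.ι hW.fromSpec hrA
  have hgA : gA ≫ U'.ι = hW.fromSpec := IsOpenImmersion.lift_fac _ _ _
  have hfA : gA ≫ U'.ι ≫ f = fT := by
    rw [← Category.assoc, hgA]
  let _ : AddCommGroup N := instN
  obtain ⟨eH'⟩ := grpIso_bc (U'.ι ≫ f) G N eH gA fT hfA
  let pt := hW.primeIdealOf ⟨s', hsW⟩
  have hpt : hW.fromSpec pt = s' := hW.fromSpec_primeIdealOf ⟨s', hsW⟩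
  obtain ⟨f₀, hf₀, φ, hφ⟩ := local_form₂ u fT eH' hNfg pt.asIdeal
  refine ⟨Spec (CommRingCat.of (Localization.Away f₀)), j₀ f₀ ≫ hW.fromSpec, inferInstance, ?_,
    φ.range, ?_⟩
  · have hmem : pt ∈ (j₀ f₀).opensRange := by
      rw [Scheme.Hom.opensRange_localizationAway (R := CommRingCat.of Γ(S', W)) f₀]
      exact hf₀
    obtain ⟨y, hy⟩ := hmem
    refine ⟨y, ?_⟩
    rw [Scheme.Hom.comp_apply, hy, hpt]
  · intro K
    have key : ∀ (Z : Scheme.{u}) (k : Z ⟶ Spec (CommRingCat.of (Localization.Away f₀))),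
        k ≫ (j₀ f₀ ≫ hW.fromSpec) ≫ f = k ≫ j₀ f₀ ≫ fT := by
      intro Z k
      simp only [fT, Category.assoc]
    refine ⟨?_, ?_⟩
    · intro hK Z k
      rw [key]
      exact pred₂_of_range_eq u fT K f₀ φ hφ hK k
    · rintro Z k ⟨z⟩ hP
      rw [key] at hP
      exact range_eq_of_pred₂ u fT K f₀ φ hφ k z hP

theorem global₂ [ConnectedSpace S] (hG : SGA3x.IsMultTypeFT G) :
    ∃ K : AddSubgroup M, Pred₂ u K (𝟙 S) := by
  obtain ⟨S', f, hflat, hsurj, hqc, hloc⟩ := hG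
  have hq : IsQCov f := ⟨hsurj, hflat, hqc⟩
  have hdata := fun s' => pt_data₂ u f hloc s'
  obtain ⟨s⟩ := (inferInstance : Nonempty S)
  obtain ⟨s', rfl⟩ := hsurj.surj s
  obtain ⟨T₀, jj₀, hjj₀, hs₀, K, hK₀⟩ := hdata s'
  have hgood := goodPred₂ u K
  obtain ⟨W, hWcl, hWiff, hWpred⟩ : ∃ W : S.Opens, IsClosed (W : Set S) ∧
      (∀ s : S, s ∈ W ↔ Pred₂ u K (S.fromSpecResidueField s)) ∧ Pred₂ u K W.ι :=
    clopen_of_localDich hgood f hq (by
    intro s''
    obtain ⟨T', jj, hjj, hs'', Kφ, hKφ⟩ := hdata s''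
    refine ⟨T', jj, hjj, hs'', ?_⟩
    by_cases hc : Kφ = K
    · left
      intro Z k
      exact (hKφ K).1 hc Z k
    · right
      intro Z k hZ hP
      exact hc ((hKφ K).2 Z k hZ hP))
  have hsW : f s' ∈ W := by
    refine (hWiff _).mpr ((hgood.residue_iff f s').mpr ?_)
    obtain ⟨y, hy⟩ := hs₀
    have hr : Set.range (S'.fromSpecResidueField s').base ⊆ Set.range jj₀.base := by
      rw [Scheme.range_fromSpecResidueField]
      rintro _ rfl
      exact ⟨y, hy⟩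
    have hk := IsOpenImmersion.lift_fac jj₀ (S'.fromSpecResidueField s') hr
    rw [← hk, Category.assoc]
    exact (hK₀ K).1 rfl _ _
  have hWtop : (W : Set S) = Set.univ :=
    IsClopen.eq_univ ⟨hWcl, W.2⟩ ⟨f s', hsW⟩
  refine ⟨K, ?_⟩
  have hr : Set.range (𝟙 S : S ⟶ S).base ⊆ Set.range W.ι.base := by
    rw [Scheme.Opens.range_ι, hWtop]
    exact Set.subset_univ _
  have hk := IsOpenImmersion.lift_fac W.ι (𝟙 S) hr
  rw [← hk]
  exact hgood.comp _ _ hWpred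

/-- the image of a homomorphism from a diagonalisable group to a group of multiplicative type over
a connected base is diagonalisable -/
theorem exists_image [ConnectedSpace S] (hG : SGA3x.IsMultTypeFT G) :
    ∃ (K : AddSubgroup M) (ū : Red.DS S K ⟶ G), IsMonHom ū ∧ Mono ū ∧
      Red.DSmap S K.subtype ≫ ū = u := by
  obtain ⟨K, hP⟩ := global₂ u hG
  let π : Red.DS S M ⟶ Red.DS S K := Red.DSmap S K.subtype
  have hπcov : IsCov π.left :=
    isCov_DSmap S K.subtype Subtype.val_injective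
  have hπ : IsMonHom π :=
    Groth.Agent.Lib.Helper40.Kummer.isMonHom_DSmap S K.subtype
  have hiff : ∀ (Y : Over S) (c : Y ⟶ Red.DS S M),
      c ≫ Red.DSmap S K.subtype = 1 ↔ c ≫ u = 1 := by
    intro Y c
    let e : Y ⟶ Over.mk (𝟙 S) := Over.homMk Y.hom (by simp)
    constructor
    · intro h1
      have h2 := (comp_DSmap_eq_one_iff K.subtype c).mp h1
      obtain ⟨d, hd⟩ := exists_lift_of_surj (QuotientAddGroup.mk' K)
        (QuotientAddGroup.mk'_surjective K) c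
        (fun m hm => h2 ⟨m, (QuotientAddGroup.eq_zero_iff m).mp hm⟩)
      rw [← hd, Category.assoc]
      exact hP.1 Y e Y.hom (Category.comp_id _).symm d
    · intro h1
      exact hP.2 Y Y.hom (Category.comp_id _).symm c h1
  obtain ⟨ū, hū⟩ := exists_desc_over hπcov u (fun R a b hab => by
    rw [eq_iff_inv_mul π] at hab
    rw [eq_iff_inv_mul u]
    exact (hiff R _).mp hab)
  have e1 : Epi π := epi_of_isCov_left hπcov
  have e3 : Epi (π ⊗ₘ π) :=
    epi_of_isCov_left (isCov_tensorHom hπcov hπcov)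
  have hm : IsMonHom ū := by
    refine ⟨?_, ?_⟩
    · have : η[Red.DS S K] = η[Red.DS S M] ≫ π := hπ.one_hom.symm
      rw [this, Category.assoc, hū]
      exact IsMonHom.one_hom u
    · rw [← cancel_epi (π ⊗ₘ π)]
      have a1 : (π ⊗ₘ π) ≫ μ[Red.DS S K] ≫ ū =
          μ[Red.DS S M] ≫ u := by
        rw [← Category.assoc, ← hπ.mul_hom, Category.assoc, hū]
      have a2 : (π ⊗ₘ π) ≫ (ū ⊗ₘ ū) ≫ μ[G] =
          μ[Red.DS S M] ≫ u := by
        rw [← Category.assoc, MonoidalCategory.tensorHom_comp_tensorHom, hū]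
        exact (IsMonHom.mul_hom u).symm
      rw [a1, a2]
  have hmono : Mono ū := by
    constructor
    intro Y a b hab
    obtain ⟨Y', v, a', b', hv, ha', hb'⟩ := cover_lift₂ (p := π) hπcov a b
    have h1 : a' ≫ u = b' ≫ u := by
      rw [← hū, ← Category.assoc, ← Category.assoc, ha', hb', Category.assoc, Category.assoc, hab]
    rw [eq_iff_inv_mul u] at h1
    have h2 := (hiff Y' _).mpr h1
    rw [← eq_iff_inv_mul π] at h2
    rw [← cancel_epi v, ← ha', ← hb', h2]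
  exact ⟨K, ū, hm, hmono, hū⟩

end Global

section Main

lemma four {α : Type*} [Group α] (h : ∀ a b : α, a * b = b * a) (x₁ y₁ x₂ y₂ : α) :
    (x₁ * y₁) * (x₂ * y₂) = (x₁ * x₂) * (y₁ * y₂) := by
  rw [_root_.mul_assoc, ← _root_.mul_assoc y₁, h y₁ x₂, _root_.mul_assoc, ← _root_.mul_assoc]

lemma exists_equiv_fin' {M : Type} [AddCommGroup M] {I : Type*} [Finite I]
    (b : Module.Basis I ℤ M) (K : AddSubgroup M) : ∃ n : ℕ, Nonempty ((Fin n → ℤ) ≃+ K) := by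
  obtain ⟨n, ⟨b'⟩⟩ := Submodule.nonempty_basis_of_pid b (AddSubgroup.toIntSubmodule K)
  refine ⟨n, ⟨b'.equivFun.symm.toAddEquiv.trans ?_⟩⟩
  exact
    { toFun := fun x => ⟨x.1, x.2⟩
      invFun := fun x => ⟨x.1, x.2⟩
      left_inv := fun x => rfl
      right_inv := fun x => rfl
      map_add' := fun x y => rfl }

theorem main_aux {S : Scheme.{u}} [ConnectedSpace ↥S]
    {G : Over S} [GrpObj G] (hG : SGA3x.IsMultTypeFT G) :
    ∃ (T : Over S) (_ : GrpObj T) (j : T ⟶ G) (r : ℕ), IsMonHom j ∧ Mono j ∧ Red.IsSplitTorusWith (Fin r → ℤ) T ∧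
      ∀ (T' : Over S) [GrpObj T'] (j' : T' ⟶ G) [IsMonHom j'] [Mono j'] (r' : ℕ),
        Red.IsSplitTorusWith (Fin r' → ℤ) T' → ∃ g : T' ⟶ T, g ≫ j = j' := by
  obtain ⟨T, instT, j, r, hj1, hj2, ⟨eT⟩, hmax⟩ := Groth.Agent.S16614.result hG
  refine ⟨T, instT, j, r, hj1, hj2, ⟨eT⟩, ?_⟩
  intro T' _ j' _ _ r' ⟨eT'⟩
  let M₁ := Fin r → ℤ
  let M₂ := Fin r' → ℤ
  let eo : T ≅ Red.DS S M₁ := (Grp.forget _).mapIso eT
  let eo' : T' ≅ Red.DS S M₂ := (Grp.forget _).mapIso eT'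
  have hm1 : IsMonHom eo.hom := eT.hom.hom.isMonHom_hom
  have hm2 : IsMonHom eo.inv := eT.inv.hom.isMonHom_hom
  have hm1' : IsMonHom eo'.hom := eT'.hom.hom.isMonHom_hom
  have hm2' : IsMonHom eo'.inv := eT'.inv.hom.isMonHom_hom
  let p₁ : Red.DS S (M₁ × M₂) ⟶ Red.DS S M₁ := Red.DSmap S (AddMonoidHom.inl M₁ M₂)
  let p₂ : Red.DS S (M₁ × M₂) ⟶ Red.DS S M₂ := Red.DSmap S (AddMonoidHom.inr M₁ M₂)
  let i₁ : Red.DS S M₁ ⟶ Red.DS S (M₁ × M₂) := Red.DSmap S (AddMonoidHom.fst M₁ M₂)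
  let i₂ : Red.DS S M₂ ⟶ Red.DS S (M₁ × M₂) := Red.DSmap S (AddMonoidHom.snd M₁ M₂)
  have hp₁ : IsMonHom p₁ := Groth.Agent.Lib.Helper40.Kummer.isMonHom_DSmap S _
  have hp₂ : IsMonHom p₂ := Groth.Agent.Lib.Helper40.Kummer.isMonHom_DSmap S _
  let a₁ : Red.DS S (M₁ × M₂) ⟶ G := p₁ ≫ eo.inv ≫ j
  let a₂ : Red.DS S (M₁ × M₂) ⟶ G := p₂ ≫ eo'.inv ≫ j'
  have ha₁ : IsMonHom a₁ := inferInstance
  have ha₂ : IsMonHom a₂ := inferInstance
  let u : Red.DS S (M₁ × M₂) ⟶ G := a₁ * a₂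
  have hu : IsMonHom u := isMonHom_of_pts u (fun Y a b => by
    show (a * b) ≫ (a₁ * a₂) = (a ≫ (a₁ * a₂)) * (b ≫ (a₁ * a₂))
    rw [MonObj.comp_mul, MonObj.comp_mul, MonObj.comp_mul, MonObj.mul_comp a b a₁,
      MonObj.mul_comp a b a₂]
    exact four (fun x y => comm_of_multType hG x y) _ _ _ _)
  obtain ⟨K, ū, hūm, hūmono, hū⟩ := exists_image u hG
  obtain ⟨n, ⟨ε⟩⟩ := exists_equiv_fin'
    ((Pi.basisFun ℤ (Fin r)).prod (Pi.basisFun ℤ (Fin r'))) K
  obtain ⟨e₃⟩ := dsIso S ε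
  have h11 : i₁ ≫ p₁ = 𝟙 _ := by
    refine chFn_injective (i₁ ≫ p₁) (𝟙 _) (fun m => ?_)
    rw [chFn_DSmap, ← Category.id_comp i₁, chFn_DSmap]
    simp
  have h12 : i₁ ≫ p₂ = 1 := by
    refine chFn_injective (i₁ ≫ p₂) 1 (fun m => ?_)
    rw [chFn_DSmap, ← Category.id_comp i₁, chFn_DSmap, chFn_one]
    simp [chFn_zero]
  have h22 : i₂ ≫ p₂ = 𝟙 _ := by
    refine chFn_injective (i₂ ≫ p₂) (𝟙 _) (fun m => ?_)
    rw [chFn_DSmap, ← Category.id_comp i₂, chFn_DSmap]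
    simp
  have h21 : i₂ ≫ p₁ = 1 := by
    refine chFn_injective (i₂ ≫ p₁) 1 (fun m => ?_)
    rw [chFn_DSmap, ← Category.id_comp i₂, chFn_DSmap, chFn_one]
    simp [chFn_zero]
  have hg : (eo.hom ≫ i₁ ≫ Red.DSmap S K.subtype) ≫ ū = j := by
    rw [Category.assoc, Category.assoc, hū]
    show eo.hom ≫ i₁ ≫ (a₁ * a₂) = j
    have e1 : i₁ ≫ a₁ = eo.inv ≫ j := by
      show i₁ ≫ p₁ ≫ eo.inv ≫ j = _
      rw [← Category.assoc, h11, Category.id_comp]
    have e2 : i₁ ≫ a₂ = 1 := by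
      show i₁ ≫ p₂ ≫ eo'.inv ≫ j' = _
      rw [← Category.assoc, h12, MonObj.one_comp]
    rw [MonObj.comp_mul i₁, e1, e2, _root_.mul_one, ← Category.assoc, eo.hom_inv_id,
      Category.id_comp]
  have hg' : (eo'.hom ≫ i₂ ≫ Red.DSmap S K.subtype) ≫ ū = j' := by
    rw [Category.assoc, Category.assoc, hū]
    show eo'.hom ≫ i₂ ≫ (a₁ * a₂) = j'
    have e1 : i₂ ≫ a₂ = eo'.inv ≫ j' := by
      show i₂ ≫ p₂ ≫ eo'.inv ≫ j' = _
      rw [← Category.assoc, h22, Category.id_comp]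
    have e2 : i₂ ≫ a₁ = 1 := by
      show i₂ ≫ p₁ ≫ eo.inv ≫ j = _
      rw [← Category.assoc, h21, MonObj.one_comp]
    rw [MonObj.comp_mul i₂, e1, e2, _root_.one_mul, ← Category.assoc, eo'.hom_inv_id,
      Category.id_comp]
  have hiso : IsIso (eo.hom ≫ i₁ ≫ Red.DSmap S K.subtype) :=
    hmax (Red.DS S K) ū n (eo.hom ≫ i₁ ≫ Red.DSmap S K.subtype) ⟨e₃⟩ hg
  refine ⟨(eo'.hom ≫ i₂ ≫ Red.DSmap S K.subtype) ≫ inv (eo.hom ≫ i₁ ≫ Red.DSmap S K.subtype), ?_⟩
  rw [Category.assoc]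
  conv_lhs => rw [← hg]
  rw [IsIso.inv_hom_id_assoc, hg']

end Main

/-- Let S be a connected scheme and G an S-group of finite multiplicative type. Then G admits a unique
maximal split subtorus; equivalently, since split subtori form a directed family, a greatest one: a
monomorphism T ⟶ G from a split torus T ≅ D_S(ℤ^r) through which every split subtorus T' ⟶ G of G
factors. -/
theorem result {S : Scheme.{u}} [ConnectedSpace ↥S]
    {G : Over S} [GrpObj G] (hG : SGA3x.IsMultTypeFT G) :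
    ∃ (T : Over S) (_ : GrpObj T) (j : T ⟶ G) (r : ℕ), IsMonHom j ∧ Mono j ∧ Red.IsSplitTorusWith (Fin r → ℤ) T ∧
      ∀ (T' : Over S) [GrpObj T'] (j' : T' ⟶ G) [IsMonHom j'] [Mono j'] (r' : ℕ),
        Red.IsSplitTorusWith (Fin r' → ℤ) T' → ∃ g : T' ⟶ T, g ≫ j = j' := by
  exact main_aux hG

end Groth.Agent.S16612
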