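import Groth.Statements.S16615
import Groth.Agent.S16616
import Mathlib

set_option autoImplicit false
open CategoryTheory MonoidalCategory CartesianMonoidalCategory MonObj GrpObj AlgebraicGeometry
universe u
open SGA3x

namespace Groth.Agent.S16615

open Groth.Agent.Lib.Helper43 Groth.Agent.Lib.Helper60.WittTorus Groth.Agent.Lib.Helper60.DiagChar
open Groth.Agent.S5279 Groth.Agent.S5290 Groth.Agent.S5274 Groth.Agent.S5430 Groth.Agent.S5255
open Groth.Agent.S8042 Groth.Agent.S16616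
open Groth.Agent.Lib.Helper40.FpqcCov CategoryTheory.Limits

/-- base change of the kernel property -/
lemma ker_bc {S S₁ : Scheme.{u}} (g : S₁ ⟶ S) {T H Q : Over S} [GrpObj T] [GrpObj H] [GrpObj Q]
    (i : H ⟶ T) (q : T ⟶ Q)
    (hker : ∀ (Y : Over S) (a : Y ⟶ T), a ≫ q = 1 ↔ ∃ h : Y ⟶ H, h ≫ i = a)
    (Y : Over S₁) (a' : Y ⟶ Red.bc g T) :
    a' ≫ (Over.pullback g).map q = 1 ↔ ∃ h : Y ⟶ Red.bc g H, h ≫ (Over.pullback g).map i = a' := by
  have e1 : a' ≫ (Over.pullback g).map q = 1 ↔ toBase g a' ≫ q = 1 := by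
    rw [← toBase_map]
    constructor
    · intro h
      rw [h, toBase_one]
    · intro h
      apply toBase_injective g
      rw [h, toBase_one]
  rw [e1, hker]
  constructor
  · rintro ⟨h₀, hh₀⟩
    refine ⟨tbInv g h₀, ?_⟩
    apply toBase_injective g
    rw [toBase_map, toBase_tbInv, hh₀]
  · rintro ⟨h, rfl⟩
    exact ⟨toBase g h, (toBase_map g h i).symm⟩

/-- the quotient of a locally split torus by a subgroup of multiplicative type is locally split;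
variant of `S16616.main_aux` with the quotient hypothesis in pointwise form -/
theorem main_aux' {S : Scheme.{u}} {T H Q : Over S} [GrpObj T]
    [GrpObj H] [GrpObj Q] (hT : (∀ s : ↥S, ∃ U : S.Opens, s ∈ U ∧ ∃ r : ℕ, Red.IsSplitTorusWith (Fin r → ℤ) (Red.bc U.ι T)))
    (i : H ⟶ T) [IsMonHom i] [Mono i] (hH : SGA3x.IsMultTypeFT H) (q : T ⟶ Q) [IsMonHom q]
    (hker0 : ∀ (Y : Over S) (a : Y ⟶ T), a ≫ q = 1 ↔ ∃ h : Y ⟶ H, h ≫ i = a)
    (hcov0 : IsCov q.left) :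
    (∀ s : ↥S, ∃ U : S.Opens, s ∈ U ∧ ∃ r : ℕ, Red.IsSplitTorusWith (Fin r → ℤ) (Red.bc U.ι Q)) := by
  intro s
  obtain ⟨U, hsU, r, ⟨eT⟩⟩ := hT s
  let iU := (Over.pullback U.ι).map i
  let qU := (Over.pullback U.ι).map q
  have hiU : IsMonHom iU := inferInstance
  have hqU : IsMonHom qU := inferInstance
  have hmi : Mono iU := inferInstance
  let eo : Red.bc U.ι T ≅ Red.DS (U : Scheme.{u}) (Fin r → ℤ) := (Grp.forget _).mapIso eT
  have hm1 : IsMonHom eo.hom := eT.hom.hom.isMonHom_hom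
  have hm2 : IsMonHom eo.inv := eT.inv.hom.isMonHom_hom
  let j : Red.bc U.ι H ⟶ Red.DS (U : Scheme.{u}) (Fin r → ℤ) := iU ≫ eo.hom
  let q₁ : Red.DS (U : Scheme.{u}) (Fin r → ℤ) ⟶ Red.bc U.ι Q := eo.inv ≫ qU
  have hj : IsMonHom j := inferInstance
  have hq₁ : IsMonHom q₁ := inferInstance
  have hmj : Mono j := mono_comp _ _
  have hM : AddGroup.FG (Fin r → ℤ) := Module.Finite.iff_addGroup_fg.mp inferInstance
  have hHU := isMultTypeFT_bc U.ι hH
  have hker : ∀ (Y : Over (U : Scheme.{u})) (a : Y ⟶ Red.DS (U : Scheme.{u}) (Fin r → ℤ)),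
      a ≫ q₁ = 1 ↔ ∃ h : Y ⟶ Red.bc U.ι H, h ≫ j = a := by
    intro Y a
    rw [show a ≫ q₁ = (a ≫ eo.inv) ≫ qU from (Category.assoc _ _ _).symm,
      ker_bc U.ι i q hker0]
    constructor
    · rintro ⟨h, hh⟩
      refine ⟨h, ?_⟩
      show h ≫ iU ≫ eo.hom = a
      rw [← Category.assoc, hh, Category.assoc, eo.inv_hom_id, Category.comp_id]
    · rintro ⟨h, rfl⟩
      refine ⟨h, ?_⟩
      show h ≫ iU = (h ≫ iU ≫ eo.hom) ≫ eo.inv
      simp
  have hcov : IsCov q₁.left := by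
    have c1 : IsCov qU.left :=
      hcov0.of_isPullback (Groth.Agent.S5284.isPullback_pullback_map_left U.ι q).flip
    have : IsIso eo.inv.left := (Over.forget _).map_isIso eo.inv
    have c2 : IsCov eo.inv.left := (IsQCov.of_quasiCompact eo.inv.left).isCov
    exact isCov_left_comp c2 c1
  obtain ⟨W, hsW, K, ⟨e₁⟩⟩ := local_main j q₁ hHU hM hker hcov ⟨s, hsU⟩
  obtain ⟨n, ⟨ε⟩⟩ := exists_equiv_fin r K
  obtain ⟨e₂⟩ := Groth.Agent.S16614.splitBc (Iso.refl (Grp.mk (Red.DS (U : Scheme.{u}) K))) W.ι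
  obtain ⟨e₃⟩ := dsIso (W : Scheme.{u}) ε
  let e₄ : Grp.mk (Red.bc (W.ι ≫ U.ι) Q) ≅ Grp.mk (Red.DS (W : Scheme.{u}) (Fin n → ℤ)) :=
    bcCompIso U.ι W.ι Q ≪≫ e₁ ≪≫ e₂ ≪≫ e₃
  refine ⟨U.ι ''ᵁ W, ⟨⟨s, hsU⟩, hsW, rfl⟩, n, ?_⟩
  exact grpIso_bc (W.ι ≫ U.ι) Q (Fin n → ℤ) e₄ (U.ι.isoImage W).inv (U.ι ''ᵁ W).ι
    (U.ι.isoImage_inv_ι W)

theorem main_aux {S : Scheme.{u}} {T H Q : Over S} [GrpObj T] [GrpObj H]
    [GrpObj Q] (hT : Red.IsTorus T) (i : H ⟶ T) [IsMonHom i] [Mono i] (hH : SGA3x.IsMultTypeFT H)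
    (q : T ⟶ Q) [IsMonHom q] (hq : RedSub.IsQuotient i q) : Red.IsTorus Q := by
  obtain ⟨S', f, hflat, hsurj, hqc, hloc⟩ := hT
  have hT' : ∀ s' : S', ∃ U : S'.Opens, s' ∈ U ∧ ∃ r : ℕ,
      Red.IsSplitTorusWith (Fin r → ℤ) (Red.bc U.ι (Red.bc f T)) := by
    intro s'
    obtain ⟨U, hs', r, ⟨e⟩⟩ := hloc s'
    exact ⟨U, hs', r, ⟨(bcCompIso f U.ι T).symm ≪≫ e⟩⟩
  have hi' : IsMonHom ((Over.pullback f).map i) := inferInstance
  have hq' : IsMonHom ((Over.pullback f).map q) := inferInstance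
  have hmi' : Mono ((Over.pullback f).map i) := inferInstance
  have hcov' : IsCov ((Over.pullback f).map q).left := by
    have := hq.1
    have := hq.2.1
    have := hq.2.2.1
    have c0 : IsCov q.left := (IsQCov.of_fppf q.left).isCov
    exact c0.of_isPullback (Groth.Agent.S5284.isPullback_pullback_map_left f q).flip
  have hres := main_aux' hT' ((Over.pullback f).map i) (isMultTypeFT_bc f hH)
    ((Over.pullback f).map q)
    (ker_bc f i q (fun Y a => ker_of_isQuotient i q hq a)) hcov'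
  refine ⟨S', f, hflat, hsurj, hqc, ?_⟩
  intro s'
  obtain ⟨U, hs', r, ⟨e⟩⟩ := hres s'
  exact ⟨U, hs', r, ⟨bcCompIso f U.ι Q ≪≫ e⟩⟩

/-- Over an arbitrary scheme S, the quotient Q = T/H of an S-torus T by a subgroup scheme H of (finite)
multiplicative type, when represented by an S-group Q with a homomorphism q : T ⟶ Q which is an fppf
covering identifying T ×_S H with T ×_Q T, is again a torus. -/
theorem result {S : Scheme.{u}} {T H Q : Over S} [GrpObj T] [GrpObj H]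
    [GrpObj Q] (hT : Red.IsTorus T) (i : H ⟶ T) [IsMonHom i] [Mono i] (hH : SGA3x.IsMultTypeFT H)
    (q : T ⟶ Q) [IsMonHom q] (hq : RedSub.IsQuotient i q) : Red.IsTorus Q := by
  exact main_aux hT i hH q hq

end Groth.Agent.S16615
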