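import Groth.Statements.S16617
import Groth.Agent.S16616
import Mathlib

set_option autoImplicit false
open CategoryTheory MonoidalCategory CartesianMonoidalCategory MonObj GrpObj AlgebraicGeometry
universe u
open SGA3x

namespace Groth.Agent.S16617

open Groth.Agent.Lib.Helper43 Groth.Agent.Lib.Helper60.WittTorus Groth.Agent.Lib.Helper60.DiagChar
open Groth.Agent.S5279 Groth.Agent.S5290 Groth.Agent.S5274 Groth.Agent.S5430 Groth.Agent.S5255
open Groth.Agent.S8042 Groth.Agent.S16616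
open Groth.Agent.Lib.Helper40.FpqcCov CategoryTheory.Limits

section Local

variable {S : Scheme.{u}} {H Q : Over S} [GrpObj H] [GrpObj Q] {M : Type} [AddCommGroup M]
  (j : H ⟶ Red.DS S M) [IsMonHom j] [Mono j] (q₁ : Red.DS S M ⟶ Q) [IsMonHom q₁]

/-- the clopen locus where `H = D(M/K)` -/
theorem local_pred (hH : SGA3x.IsMultTypeFT H) (hM : AddGroup.FG M)
    (hker : ∀ (Y : Over S) (a : Y ⟶ Red.DS S M), a ≫ q₁ = 1 ↔ ∃ h : Y ⟶ H, h ≫ j = a) (s : S) :
    ∃ W : S.Opens, IsClosed (W : Set S) ∧ s ∈ W ∧ ∃ K : AddSubgroup M, Pred j q₁ K W.ι := by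
  obtain ⟨S', f, hflat, hsurj, hqc, hloc⟩ := hH
  have hq : IsQCov f := ⟨hsurj, hflat, hqc⟩
  have hdata := fun s' => pt_data j q₁ f hloc hM hker s'
  obtain ⟨s', rfl⟩ := hsurj.surj s
  obtain ⟨T₀, jj₀, hjj₀, hs₀, K, hK₀⟩ := hdata s'
  have hgood := goodPred_pred j q₁ K
  obtain ⟨W, hWcl, hWiff, hWpred⟩ := clopen_of_localDich hgood f hq (by
    intro s''
    obtain ⟨T', jj, hjj, hs'', Kφ, hKφ⟩ := hdata s''
    refine ⟨T', jj, hjj, hs'', ?_⟩
    by_cases hc : Kφ = K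
    · left
      intro Z k
      exact (hKφ K).1 hc Z k
    · right
      intro Z k hZ hP
      exact hc ((hKφ K).2 Z k hZ hP))
  refine ⟨W, hWcl, ?_, K, hWpred⟩
  rw [hWiff, hgood.residue_iff f s']
  obtain ⟨y, hy⟩ := hs₀
  have hr : Set.range (S'.fromSpecResidueField s').base ⊆ Set.range jj₀.base := by
    rw [Scheme.range_fromSpecResidueField]
    rintro _ rfl
    exact ⟨y, hy⟩
  have hk := IsOpenImmersion.lift_fac jj₀ (S'.fromSpecResidueField s') hr
  rw [← hk, Category.assoc]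
  exact (hK₀ K).1 rfl _ _

/-- over a connected base the quotient is `D(K)` -/
theorem global_main [ConnectedSpace S] (hH : SGA3x.IsMultTypeFT H) (hM : AddGroup.FG M)
    (hker : ∀ (Y : Over S) (a : Y ⟶ Red.DS S M), a ≫ q₁ = 1 ↔ ∃ h : Y ⟶ H, h ≫ j = a)
    (hcov : IsCov q₁.left) :
    ∃ K : AddSubgroup M, Nonempty (Grp.mk Q ≅ Grp.mk (Red.DS S K)) := by
  obtain ⟨s⟩ := (inferInstance : Nonempty S)
  obtain ⟨W, hWcl, hsW, K, hWpred⟩ := local_pred j q₁ hH hM hker s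
  have hWtop : (W : Set S) = Set.univ :=
    IsClopen.eq_univ ⟨hWcl, W.2⟩ ⟨s, hsW⟩
  have hgood := goodPred_pred j q₁ K
  have hP : Pred j q₁ K (𝟙 S) := by
    have hr : Set.range (𝟙 S : S ⟶ S).base ⊆ Set.range W.ι.base := by
      rw [Scheme.Opens.range_ι, hWtop]
      exact Set.subset_univ _
    have hk := IsOpenImmersion.lift_fac W.ι (𝟙 S) hr
    rw [← hk]
    exact hgood.comp _ _ hWpred
  refine ⟨K, ?_⟩
  have hπcov : IsCov (Red.DSmap S K.subtype).left :=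
    isCov_DSmap S K.subtype Subtype.val_injective
  have hπ : IsMonHom (Red.DSmap S K.subtype) :=
    Groth.Agent.Lib.Helper40.Kummer.isMonHom_DSmap S K.subtype
  refine iso_of_same_kerPair q₁ (Red.DSmap S K.subtype) hcov hπcov ?_
  intro R a b
  rw [eq_iff_inv_mul q₁, eq_iff_inv_mul (Red.DSmap S K.subtype)]
  let c : R ⟶ Red.DS S M := a⁻¹ * b
  let e : R ⟶ Over.mk (𝟙 S) := Over.homMk R.hom (by simp)
  show c ≫ q₁ = 1 ↔ c ≫ Red.DSmap S K.subtype = 1
  constructor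
  · intro h1
    obtain ⟨h, hh⟩ := (hker R c).mp h1
    rw [← hh, Category.assoc]
    exact hP.1 R e R.hom (Category.comp_id _).symm h
  · intro h1
    have h2 := (comp_DSmap_eq_one_iff K.subtype c).mp h1
    obtain ⟨d, hd⟩ := exists_lift_of_surj (QuotientAddGroup.mk' K)
      (QuotientAddGroup.mk'_surjective K) c
      (fun m hm => h2 ⟨m, (QuotientAddGroup.eq_zero_iff m).mp hm⟩)
    rw [← hd, Category.assoc]
    exact hP.2 R e R.hom (Category.comp_id _).symm d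

end Local

lemma exists_equiv_fin_le (r : ℕ) (K : AddSubgroup (Fin r → ℤ)) :
    ∃ n : ℕ, n ≤ r ∧ Nonempty ((Fin n → ℤ) ≃+ K) := by
  obtain ⟨n, ⟨b⟩⟩ := Submodule.nonempty_basis_of_pid (Pi.basisFun ℤ (Fin r))
    (AddSubgroup.toIntSubmodule K)
  refine ⟨n, ?_, ⟨b.equivFun.symm.toAddEquiv.trans ?_⟩⟩
  · have h1 : Module.finrank ℤ (AddSubgroup.toIntSubmodule K) = n := by
      rw [Module.finrank_eq_card_basis b, Fintype.card_fin]
    have h2 := Submodule.finrank_le (AddSubgroup.toIntSubmodule K)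
    rw [h1, Module.finrank_fin_fun] at h2
    exact h2
  · exact
      { toFun := fun x => ⟨x.1, x.2⟩
        invFun := fun x => ⟨x.1, x.2⟩
        left_inv := fun x => rfl
        right_inv := fun x => rfl
        map_add' := fun x y => rfl }

theorem main_aux {S : Scheme.{u}} [ConnectedSpace ↥S]
    {T H Q : Over S} [GrpObj T] [GrpObj H] [GrpObj Q] (r : ℕ) (hT : Red.IsSplitTorusWith (Fin r → ℤ) T)
    (i : H ⟶ T) [IsMonHom i] [Mono i] (hH : SGA3x.IsMultTypeFT H) (q : T ⟶ Q) [IsMonHom q]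
    (hq : RedSub.IsQuotient i q) : ∃ r' : ℕ, r' ≤ r ∧ Red.IsSplitTorusWith (Fin r' → ℤ) Q := by
  obtain ⟨eT⟩ := hT
  let eo : T ≅ Red.DS S (Fin r → ℤ) := (Grp.forget _).mapIso eT
  have hm1 : IsMonHom eo.hom := eT.hom.hom.isMonHom_hom
  have hm2 : IsMonHom eo.inv := eT.inv.hom.isMonHom_hom
  let j : H ⟶ Red.DS S (Fin r → ℤ) := i ≫ eo.hom
  let q₁ : Red.DS S (Fin r → ℤ) ⟶ Q := eo.inv ≫ q
  have hj : IsMonHom j := inferInstance
  have hq₁ : IsMonHom q₁ := inferInstance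
  have hmj : Mono j := mono_comp _ _
  have hM : AddGroup.FG (Fin r → ℤ) := Module.Finite.iff_addGroup_fg.mp inferInstance
  have hker : ∀ (Y : Over S) (a : Y ⟶ Red.DS S (Fin r → ℤ)),
      a ≫ q₁ = 1 ↔ ∃ h : Y ⟶ H, h ≫ j = a := by
    intro Y a
    rw [show a ≫ q₁ = (a ≫ eo.inv) ≫ q from (Category.assoc _ _ _).symm,
      ker_of_isQuotient i q hq]
    constructor
    · rintro ⟨h, hh⟩
      refine ⟨h, ?_⟩
      show h ≫ i ≫ eo.hom = a
      rw [← Category.assoc, hh, Category.assoc, eo.inv_hom_id, Category.comp_id]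
    · rintro ⟨h, rfl⟩
      refine ⟨h, ?_⟩
      show h ≫ i = (h ≫ i ≫ eo.hom) ≫ eo.inv
      simp
  have hcov : IsCov q₁.left := by
    have := hq.1
    have := hq.2.1
    have := hq.2.2.1
    have c0 : IsCov q.left := (IsQCov.of_fppf q.left).isCov
    have : IsIso eo.inv.left := (Over.forget _).map_isIso eo.inv
    have c2 : IsCov eo.inv.left := (IsQCov.of_quasiCompact eo.inv.left).isCov
    exact isCov_left_comp c2 c0
  obtain ⟨K, ⟨e₁⟩⟩ := global_main j q₁ hH hM hker hcov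
  obtain ⟨n, hn, ⟨ε⟩⟩ := exists_equiv_fin_le r K
  obtain ⟨e₃⟩ := dsIso S ε
  exact ⟨n, hn, ⟨e₁ ≪≫ e₃⟩⟩

/-- Let S be a connected scheme, T ≅ D_S(ℤ^r) a split S-torus, H a subgroup scheme of T of (finite)
multiplicative type and q : T ⟶ Q a homomorphism presenting Q as the fppf quotient T/H. Then Q is a
split torus of rank at most r. -/
theorem result {S : Scheme.{u}} [ConnectedSpace ↥S]
    {T H Q : Over S} [GrpObj T] [GrpObj H] [GrpObj Q] (r : ℕ) (hT : Red.IsSplitTorusWith (Fin r → ℤ) T)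
    (i : H ⟶ T) [IsMonHom i] [Mono i] (hH : SGA3x.IsMultTypeFT H) (q : T ⟶ Q) [IsMonHom q]
    (hq : RedSub.IsQuotient i q) : ∃ r' : ℕ, r' ≤ r ∧ Red.IsSplitTorusWith (Fin r' → ℤ) Q := by
  exact main_aux r hT i hH q hq

end Groth.Agent.S16617
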