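import Groth.Statements.S16627
import Groth.Agent.Lib.Helper77.TwEx
import Groth.Agent.Lib.Cohomology.helper5_HHLES
import Groth.Agent.Lib.QCoh.TensorQCoh
import Groth.Agent.Lib.Proj.Helper3_PnCoh
import Groth.Agent.S0022

set_option autoImplicit false
universe u
open Variety

namespace Groth.Agent.S16627

open AlgebraicGeometry CategoryTheory CategoryTheory.Limits in
/-- Let k be a field, F a coherent module on projective n-space P^n_k which is m-regular, and ι : F ⊗
O(-1) → F a monomorphism of O-modules (such as multiplication by a linear form that is a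
nonzerodivisor on F, i.e. a hyperplane avoiding the associated points of F). Then the cokernel of ι
— the restriction of F to the hyperplane, as a module on P^n_k — is again m-regular. (Stated for an
arbitrary monomorphism F(-1) → F and an arbitrary ground field.) -/
theorem result (k : Type u) [Field k] (n : ℕ)
    (F : (CohB1.ProjSpace n k).Modules) (hF : Coh.IsCoh F) (m : ℤ) (hreg : Curv2.IsMRegular k n F m)
    (ι : CohB1.tensorMod F (Twist.twistProjSpace n k (-1)) ⟶ F) [Mono ι] :
    Curv2.IsMRegular k n (cokernel ι) m := by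
  intro i hi1 hin
  have hS₀ : (ShortComplex.mk ι (cokernel.π ι) (cokernel.condition ι)).ShortExact :=
    { exact := ShortComplex.exact_cokernel ι
      mono_f := inferInstanceAs (Mono ι)
      epi_g := inferInstanceAs (Epi (cokernel.π ι)) }
  have hT := Groth.Agent.Lib.Helper77.TwEx.shortExact_twistProjSpace n k (m - i) hS₀
  have hF2 : Subsingleton (Coh.HH (CohB1.ProjSpace n k)
      (CohB1.tensorMod F (Twist.twistProjSpace n k (m - i))) i) := hreg i hi1 hin
  have hq : F.IsQuasicoherent := hF.1
  have hF1 : Subsingleton (Coh.HH (CohB1.ProjSpace n k)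
      (CohB1.tensorMod (CohB1.tensorMod F (Twist.twistProjSpace n k (-1)))
        (Twist.twistProjSpace n k (m - i))) (i + 1)) := by
    by_cases h : i + 1 ≤ n
    · have h' := hreg (i + 1) (by omega) h
      let e : CohB1.tensorMod (CohB1.tensorMod F (Twist.twistProjSpace n k (-1)))
          (Twist.twistProjSpace n k (m - i)) ≅
          CohB1.tensorMod F (Twist.twistProjSpace n k (m - ((i + 1 : ℕ) : ℤ))) :=
        Groth.Agent.Lib.QCoh.tensorModAssoc _ _ _ ≪≫
          Groth.Agent.Lib.QCoh.tensorModCongr (Iso.refl F)
            (Groth.Agent.Lib.Helper77.TwEx.twistProjSpaceMulIso n k (-1) (m - i) _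
              (by push_cast; ring))
      refine subsingleton_of_forall_eq 0 fun x => ?_
      have h1 : Groth.Agent.Lib.Cohomology.HHLES.hmap e.inv (i + 1)
          (Groth.Agent.Lib.Cohomology.HHLES.hmap e.hom (i + 1) x) = x := by
        rw [← Groth.Agent.Lib.Cohomology.HHLES.hmap_comp, e.hom_inv_id,
          Groth.Agent.Lib.Cohomology.HHLES.hmap_id]
      rw [← h1, Subsingleton.elim (Groth.Agent.Lib.Cohomology.HHLES.hmap e.hom (i + 1) x) 0, map_zero]
    · have hq1 : (Twist.twistProjSpace n k (-1)).IsQuasicoherent :=
        Groth.Agent.Lib.Proj.PnCoh.isQCoh_twist n k (-1)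
      have hq2 : (Twist.twistProjSpace n k (m - i)).IsQuasicoherent :=
        Groth.Agent.Lib.Proj.PnCoh.isQCoh_twist n k (m - i)
      have hq3 : (CohB1.tensorMod F (Twist.twistProjSpace n k (-1))).IsQuasicoherent :=
        Groth.Agent.Lib.QCoh.isQuasicoherent_tensorMod _ _
      have hq4 : Coh.IsQCoh (CohB1.tensorMod (CohB1.tensorMod F (Twist.twistProjSpace n k (-1)))
          (Twist.twistProjSpace n k (m - i))) :=
        Groth.Agent.Lib.QCoh.isQuasicoherent_tensorMod _ _
      exact Groth.Agent.S0022.result n k _ (i + 1) (by omega)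
  refine subsingleton_of_forall_eq 0 fun x => ?_
  obtain ⟨y, rfl⟩ := Groth.Agent.Lib.Cohomology.HHLES.exact₃ hT i x (hF1.elim _ _)
  have hy : y = 0 := hF2.elim y 0
  subst hy
  exact map_zero _

end Groth.Agent.S16627
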