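import Groth.Statements.S1663
import Groth.Agent.S1607
import Groth.Agent.S0028
import Groth.Agent.S11165
import Groth.Agent.S11319
-- import your own Groth.Agent.* helpers here

set_option autoImplicit false
universe u
open CategoryTheory CategoryTheory.Limits AlgebraicGeometry
open Variety

namespace Groth.Agent.S1663

section Helpers

set_option autoImplicit false
set_option linter.style.haveILetI false
open CategoryTheory CategoryTheory.Limits AlgebraicGeometry

namespace T1663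

theorem isAffineHom_ι (X : Scheme.{u})
    (hX : ∀ x : X, IsNoetherianRing (X.presheaf.stalk x) ∧ ringKrullDim (X.presheaf.stalk x) ≤ 1)
    (U : X.Opens) [QuasiCompact U.ι] : IsAffineHom U.ι := by
  apply isAffineHom_of_forall_exists_isAffineOpen
  intro x
  obtain ⟨V, hV, hxV⟩ : ∃ V : X.Opens, IsAffineOpen V ∧ x ∈ V := by
    obtain ⟨_, ⟨V, hV, rfl⟩, hxV, -⟩ :=
      X.isBasis_affineOpens.exists_subset_of_mem_open (Set.mem_univ x) isOpen_univ
    exact ⟨V, hV, hxV⟩
  refine ⟨V, hxV, hV, ?_⟩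
  haveI : IsAffine (V : Scheme.{u}) := hV
  have hXV : ∀ y : ↥V, IsNoetherianRing ((V : Scheme.{u}).presheaf.stalk y) ∧
      ringKrullDim ((V : Scheme.{u}).presheaf.stalk y) ≤ 1 := by
    intro y
    let e := (V.stalkIso y).commRingCatIsoToRingEquiv
    obtain ⟨h1, h2⟩ := hX y.1
    refine ⟨isNoetherianRing_of_ringEquiv _ e.symm, ?_⟩
    rw [ringKrullDim_eq_of_ringEquiv e]
    exact h2
  have hcomp : IsCompact ((V.ι ⁻¹ᵁ U : (V : Scheme.{u}).Opens) : Set (V : Scheme.{u})) := by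
    have h1 : IsCompact ((U.ι ⁻¹ᵁ V : (U : Scheme.{u}).Opens) : Set (U : Scheme.{u})) :=
      U.ι.isCompact_preimage hV.isCompact
    have h2 : IsCompact (U.ι '' ((U.ι ⁻¹ᵁ V : (U : Scheme.{u}).Opens) : Set (U : Scheme.{u}))) :=
      h1.image U.ι.continuous
    have h3 : U.ι '' ((U.ι ⁻¹ᵁ V : (U : Scheme.{u}).Opens) : Set (U : Scheme.{u})) = (U : Set X) ∩ (V : Set X) := by
      show U.ι '' (U.ι ⁻¹' (V : Set X)) = _
      rw [Set.image_preimage_eq_inter_range, Scheme.Opens.range_ι, Set.inter_comm]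
    rw [h3] at h2
    have h4 : ((V.ι ⁻¹ᵁ U : (V : Scheme.{u}).Opens) : Set (V : Scheme.{u})) =
        V.ι ⁻¹' ((U : Set X) ∩ (V : Set X)) := by
      ext y
      show V.ι y ∈ U ↔ V.ι y ∈ U ∧ V.ι y ∈ V
      exact ⟨fun h => ⟨h, y.2⟩, fun h => h.1⟩
    rw [h4]
    apply V.ι.isEmbedding.toIsInducing.isCompact_preimage' h2
    rw [Scheme.Opens.range_ι]
    exact Set.inter_subset_right
  have hW : IsAffineOpen (V.ι ⁻¹ᵁ U) := Groth.Agent.S1607.result (↑V) hXV (V.ι ⁻¹ᵁ U) hcomp
  have h1 : IsAffineOpen (V.ι ''ᵁ (V.ι ⁻¹ᵁ U)) := hW.image_of_isOpenImmersion V.ι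
  rw [Scheme.Hom.image_preimage_eq_opensRange_inf, Scheme.Opens.opensRange_ι] at h1
  rw [← U.ι.isAffineOpen_iff_of_isOpenImmersion, Scheme.Hom.image_preimage_eq_opensRange_inf,
    Scheme.Opens.opensRange_ι, inf_comm]
  exact h1

theorem main1663 (X : Scheme.{u})
    (hX : ∀ x : X, IsNoetherianRing (X.presheaf.stalk x) ∧ ringKrullDim (X.presheaf.stalk x) ≤ 1)
    (U : X.Opens) [QuasiCompact U.ι] [HasInjectiveResolutions (U : Scheme.{u}).Modules]
    (F : (U : Scheme.{u}).Modules) (hF : Coh.IsQCoh F) (p : ℕ) (hp : 0 < p) :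
    IsZero ((Coh.Rpush U.ι p).obj F) := by
  haveI := isAffineHom_ι X hX U
  haveI : Coh.IsQCoh F := hF
  obtain ⟨e1⟩ := Groth.Agent.S11319.result U.ι F p
  have h0 := Groth.Agent.S0028.result U.ι F p hp
  exact Groth.Agent.S11165.isZero_of_isZero_toAb _ (h0.of_iso e1)

end T1663

end Helpers

/-- Let X be a scheme whose local rings are Noetherian of Krull dimension at most one, j : U → X the
inclusion of a retrocompact open (j quasi-compact) and F a quasi-coherent O_U-module. Then R^p j_* F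
vanishes for all p > 0. -/
theorem result (X : Scheme.{u})
    (hX : ∀ x : X, IsNoetherianRing (X.presheaf.stalk x) ∧ ringKrullDim (X.presheaf.stalk x) ≤ 1)
    (U : X.Opens) [QuasiCompact U.ι] [HasInjectiveResolutions (U : Scheme.{u}).Modules]
    (F : (U : Scheme.{u}).Modules) (hF : Coh.IsQCoh F) (p : ℕ) (hp : 0 < p) :
    IsZero ((Coh.Rpush U.ι p).obj F) := by
  exact T1663.main1663 X hX U F hF p hp

end Groth.Agent.S1663
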