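import Groth.Statements.S1664
import Groth.Agent.Lib.Ample.GlobGenSection
import Groth.Agent.Lib.Ample.Affine
import Groth.Agent.Lib.QCoh.TensorPic

set_option autoImplicit false
universe u
open CategoryTheory CategoryTheory.Limits AlgebraicGeometry
open Variety

namespace Groth.Agent.S1664

open Groth.Agent.Lib.Ample Groth.Agent.Lib.QCoh

/-- the family of pairs `(L, s)` -/
abbrev Pair (X : Scheme.{u}) := Σ L : X.Modules, (Coh.structureModule X ⟶ L)

/-- key induction: for a finite list of pairs `(L, s)` with `L` invertible and globally generated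
there is an invertible, base point free `M` such that every point of every `X_s` lies in some
`X_t ⊆ X_s` with `t` a global section of `M`. -/
theorem exists_of_list (X : Scheme.{u}) (l : List (Pair X))
    (hl : ∀ p ∈ l, PicF.IsInvertible p.1 ∧ Curv2.IsGloballyGenerated p.1) :
    ∃ M : X.Modules, PicF.IsInvertible M ∧
      (∀ x : X, ∃ t : Coh.structureModule X ⟶ M, x ∈ CohB1.genLocus M t) ∧
      ∀ p ∈ l, ∀ x ∈ CohB1.genLocus p.1 p.2, ∃ t : Coh.structureModule X ⟶ M,
        x ∈ CohB1.genLocus M t ∧ CohB1.genLocus M t ≤ CohB1.genLocus p.1 p.2 := by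
  induction l with
  | nil =>
    refine ⟨Coh.structureModule X, isInvertible_structureModule X, fun x => ⟨𝟙 _, ?_⟩, ?_⟩
    · rw [genLocus_id]; trivial
    · intro p hp; simp at hp
  | cons p0 l' ih =>
    obtain ⟨M', hM', hbpf, hmem⟩ := ih (fun p hp => hl p (List.mem_cons_of_mem _ hp))
    obtain ⟨hL0, hg0⟩ := hl p0 List.mem_cons_self
    refine ⟨CohB1.tensorMod M' p0.1, isInvertible_tensorMod hM' hL0, ?_, ?_⟩
    · intro x
      obtain ⟨t', ht'⟩ := hbpf x
      obtain ⟨t0, ht0⟩ := exists_mem_genLocus_of_isGloballyGenerated hL0 hg0 x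
      refine ⟨mulSec t' t0, ?_⟩
      rw [genLocus_mulSec t' t0 hM' hL0]
      exact ⟨ht', ht0⟩
    · intro p hp x hx
      rcases List.mem_cons.1 hp with rfl | hp
      · obtain ⟨t', ht'⟩ := hbpf x
        refine ⟨mulSec t' p.2, ?_, ?_⟩
        · rw [genLocus_mulSec t' p.2 hM' hL0]
          exact ⟨ht', hx⟩
        · rw [genLocus_mulSec t' p.2 hM' hL0]
          exact inf_le_right
      · obtain ⟨t', ht', hle⟩ := hmem p hp x hx
        obtain ⟨t0, ht0⟩ := exists_mem_genLocus_of_isGloballyGenerated hL0 hg0 x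
        refine ⟨mulSec t' t0, ?_, ?_⟩
        · rw [genLocus_mulSec t' t0 hM' hL0]
          exact ⟨ht', ht0⟩
        · rw [genLocus_mulSec t' t0 hM' hL0]
          exact inf_le_left.trans hle

/-- Let X be quasi-compact. Suppose every point of X lies in the locus where some global section s of
some globally generated invertible module L generates L, with that locus affine. Then X has an ample
invertible module. -/
theorem result (X : Scheme.{u}) [CompactSpace X]
    (h : ∀ x : X, ∃ (L : X.Modules) (s : Coh.structureModule X ⟶ L), PicF.IsInvertible L ∧ Curv2.IsGloballyGenerated L ∧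
      x ∈ CohB1.genLocus L s ∧ IsAffineOpen (CohB1.genLocus L s)) :
    ∃ M : X.Modules, CohB1.IsAmple M := by
  classical
  choose L s hL hg hx haff using h
  -- finite subcover
  obtain ⟨T, hT⟩ := isCompact_univ.elim_finite_subcover
    (fun x : X => ((CohB1.genLocus (L x) (s x) : X.Opens) : Set X))
    (fun x => (CohB1.genLocus (L x) (s x)).2)
    (fun x _ => Set.mem_iUnion.2 ⟨x, hx x⟩)
  obtain ⟨M, hM, -, hmem⟩ := exists_of_list X (T.toList.map fun x => (⟨L x, s x⟩ : Pair X)) (by
    intro p hp
    obtain ⟨x, -, rfl⟩ := List.mem_map.1 hp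
    exact ⟨hL x, hg x⟩)
  refine ⟨M, hM, inferInstance, fun x => ?_⟩
  obtain ⟨y, hyT, hxy⟩ : ∃ y ∈ T, x ∈ CohB1.genLocus (L y) (s y) := by
    have := hT (Set.mem_univ x)
    simpa using this
  obtain ⟨t, hxt, hle⟩ := hmem ⟨L y, s y⟩
    (List.mem_map.2 ⟨y, Finset.mem_toList.2 hyT, rfl⟩) x hxy
  have hcomp : CohB1.genLocus (CohB1.tensorPow M (0 + 1)) (t ≫ (tensorPowOneIso M).inv) =
      CohB1.genLocus M t := genLocus_comp_iso t (tensorPowOneIso M).symm
  refine ⟨0, t ≫ (tensorPowOneIso M).inv, ?_, ?_⟩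
  · rw [hcomp]; exact hxt
  · rw [hcomp]
    have h1 := isAffineOpen_genLocus_inf_of_isInvertible hM t (haff y)
    rwa [inf_eq_left.2 hle] at h1

end Groth.Agent.S1664
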