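import Groth.Statements.S16644
import Mathlib.GroupTheory.Perm.Cycle.Type
import Mathlib.RingTheory.Ideal.Quotient.Operations
-- import your own Groth.Agent.* helpers here

set_option autoImplicit false
open QuadZ

namespace Groth.Agent.S16644

/-- In a commutative ring where `2 = 0`, a symmetric matrix of odd size with zero diagonal
has determinant zero. -/
theorem det_eq_zero_of_isSymm_of_diag_zero {R : Type*} [CommRing R] (h2 : (2 : R) = 0)
    {n : ℕ} (hn : Odd n) (M : Matrix (Fin n) (Fin n) R) (hs : ∀ i j, M i j = M j i)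
    (hd : ∀ i, M i i = 0) : M.det = 0 := by
  classical
  rw [Matrix.det_apply]
  have key : ∀ σ : Equiv.Perm (Fin n),
      Equiv.Perm.sign σ⁻¹ • ∏ i, M (σ⁻¹ i) i = Equiv.Perm.sign σ • ∏ i, M (σ i) i := by
    intro σ
    rw [Equiv.Perm.sign_inv]
    congr 1
    rw [← Equiv.prod_comp σ (fun i => M (σ⁻¹ i) i)]
    refine Finset.prod_congr rfl (fun i _ => ?_)
    rw [Equiv.Perm.inv_def, Equiv.symm_apply_apply]
    exact hs _ _
  refine Finset.sum_involution (fun σ _ => σ⁻¹) ?_ ?_ ?_ ?_
  · intro σ _
    rw [key σ, ← two_smul ℕ, ← Nat.cast_smul_eq_nsmul R]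
    simp [h2]
  · intro σ _ hne hσ
    apply hne
    have hpow : σ ^ 2 ^ 1 = 1 := by
      rw [pow_one, pow_two]
      calc σ * σ = σ⁻¹ * σ := by rw [hσ]
        _ = 1 := inv_mul_cancel σ
    have : Fact (Nat.Prime 2) := ⟨Nat.prime_two⟩
    have hcard : ¬ 2 ∣ Fintype.card (Fin n) := by
      rw [Fintype.card_fin]
      exact hn.not_two_dvd_nat
    obtain ⟨a, ha⟩ := Equiv.Perm.exists_fixed_point_of_prime hcard hpow
    have : ∏ i, M (σ i) i = 0 :=
      Finset.prod_eq_zero (Finset.mem_univ a) (by rw [ha]; exact hd a)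
    rw [this, smul_zero]
  · intro σ _
    exact Finset.mem_univ _
  · intro σ _
    exact inv_inv σ

/-- For odd n, the discriminant of the universal quadratic form Σ_{i ≤ j} A_{ij} x_i x_j in n variables
(variables A_{ij} indexed by unordered pairs), i.e. the determinant of the symmetric matrix with
diagonal entries 2 A_{ii} and off-diagonal entries A_{ij}, is divisible by 2 in the integral
polynomial ring ℤ[A_{ij}] (so the half-discriminant is an integral polynomial). -/
theorem result (n : ℕ) (hn : Odd n) :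
    (2 : MvPolynomial (Sym2 (Fin n)) ℤ) ∣
      (Matrix.of fun i j : Fin n =>
        if i = j then 2 * MvPolynomial.X (R := ℤ) (σ := Sym2 (Fin n)) (Sym2.mk i j)
        else MvPolynomial.X (R := ℤ) (σ := Sym2 (Fin n)) (Sym2.mk i j)).det := by
  classical
  set R := MvPolynomial (Sym2 (Fin n)) ℤ with hR
  set M : Matrix (Fin n) (Fin n) R := Matrix.of fun i j : Fin n =>
        if i = j then 2 * MvPolynomial.X (R := ℤ) (σ := Sym2 (Fin n)) (Sym2.mk i j)
        else MvPolynomial.X (R := ℤ) (σ := Sym2 (Fin n)) (Sym2.mk i j) with hM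
  let I : Ideal R := Ideal.span {(2 : R)}
  let φ : R →+* R ⧸ I := Ideal.Quotient.mk I
  have h2 : (2 : R ⧸ I) = 0 := by
    have : φ 2 = 0 := Ideal.Quotient.eq_zero_iff_mem.mpr (Ideal.subset_span rfl)
    rwa [map_ofNat] at this
  have hdet : φ M.det = 0 := by
    rw [RingHom.map_det]
    apply det_eq_zero_of_isSymm_of_diag_zero h2 hn
    · intro i j
      simp only [RingHom.mapMatrix_apply, Matrix.map_apply, hM, Matrix.of_apply]
      by_cases hij : i = j
      · subst hij; rfl
      · have hji : ¬ j = i := fun h => hij h.symm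
        rw [if_neg hij, if_neg hji, Sym2.eq_swap]
    · intro i
      simp only [RingHom.mapMatrix_apply, Matrix.map_apply, hM, Matrix.of_apply, if_true]
      rw [map_mul]
      have : φ 2 = 0 := by rw [map_ofNat]; exact h2
      rw [this, zero_mul]
  have := Ideal.Quotient.eq_zero_iff_mem.mp hdet
  exact Ideal.mem_span_singleton.mp this

end Groth.Agent.S16644
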