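import Groth.Statements.S16647
import Groth.Agent.Lib.Helper98.GrpExtTors
import Groth.Agent.Lib.Helper98.GrpUnivOpen
import Groth.Agent.Lib.Helper40.FpqcCovOver

set_option autoImplicit false
open CategoryTheory MonoidalCategory CartesianMonoidalCategory MonObj GrpObj AlgebraicGeometry
universe u
open GrpSch

namespace Groth.Agent.S16647

open CategoryTheory.Limits Groth.Agent.Lib.Helper98.GrpExtTors Groth.Agent.Lib.Helper40.FpqcCov

/-- In a commutative diagram of short exact sequences of S-group schemes that are flat, separated and of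
finite presentation over a scheme S (in each row the first homomorphism is the kernel of the second
and the second is a flat surjection), if the two outer vertical homomorphisms are closed immersions
then so is the middle one. -/
theorem result {S : Scheme.{u}}
    {H₁' H₁ H₁'' H₂' H₂ H₂'' : Over S} [GrpObj H₁'] [GrpObj H₁] [GrpObj H₁''] [GrpObj H₂'] [GrpObj H₂] [GrpObj H₂'']
    [Flat H₁'.hom] [Flat H₁.hom] [Flat H₁''.hom] [Flat H₂'.hom] [Flat H₂.hom] [Flat H₂''.hom]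
    [IsSeparated H₁'.hom] [IsSeparated H₁.hom] [IsSeparated H₁''.hom]
    [IsSeparated H₂'.hom] [IsSeparated H₂.hom] [IsSeparated H₂''.hom]
    [QuasiCompact H₁'.hom] [QuasiCompact H₁.hom] [QuasiCompact H₁''.hom]
    [QuasiCompact H₂'.hom] [QuasiCompact H₂.hom] [QuasiCompact H₂''.hom]
    [LocallyOfFinitePresentation H₁'.hom] [LocallyOfFinitePresentation H₁.hom] [LocallyOfFinitePresentation H₁''.hom]
    [LocallyOfFinitePresentation H₂'.hom] [LocallyOfFinitePresentation H₂.hom] [LocallyOfFinitePresentation H₂''.hom]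
    (a₁ : H₁' ⟶ H₁) (b₁ : H₁ ⟶ H₁'') (a₂ : H₂' ⟶ H₂) (b₂ : H₂ ⟶ H₂'')
    [IsMonHom a₁] [IsMonHom b₁] [IsMonHom a₂] [IsMonHom b₂]
    (h₁ : AlgGrp.IsKernel a₁ b₁) (hb₁ : Flat b₁.left ∧ Surjective b₁.left)
    (h₂ : AlgGrp.IsKernel a₂ b₂) (hb₂ : Flat b₂.left ∧ Surjective b₂.left)
    (j' : H₁' ⟶ H₂') (j : H₁ ⟶ H₂) (j'' : H₁'' ⟶ H₂'') [IsMonHom j'] [IsMonHom j] [IsMonHom j'']
    (sq₁ : a₁ ≫ j = j' ≫ a₂) (sq₂ : b₁ ≫ j'' = j ≫ b₂)
    (hj' : IsClosedImmersion j'.left) (hj'' : IsClosedImmersion j''.left) :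
    IsClosedImmersion j.left := by
  have h₁' : IsPullback a₁ (toUnit H₁') b₁ η[H₁''] := h₁
  have h₂' : IsPullback a₂ (toUnit H₂') b₂ η[H₂''] := h₂
  -- the closed subgroup `P = H₂ ×_{H₂''} H₁''` of `H₂`
  let P := Limits.pullback b₂ j''
  let π₁ : P ⟶ H₂ := Limits.pullback.fst b₂ j''
  let π₂ : P ⟶ H₁'' := Limits.pullback.snd b₂ j''
  have hP : IsPullback π₁ π₂ b₂ j'' := IsPullback.of_hasPullback b₂ j''
  have hPS : IsPullback π₁.left π₂.left b₂.left j''.left := hP.map (Over.forget S)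
  have hπ₁ : IsClosedImmersion π₁.left :=
    MorphismProperty.of_isPullback (P := @IsClosedImmersion) hPS.flip hj''
  let k : H₁ ⟶ P := Limits.pullback.lift j b₁ sq₂.symm
  have hk₁ : k ≫ π₁ = j := Limits.pullback.lift_fst _ _ _
  have hk₂ : k ≫ π₂ = b₁ := Limits.pullback.lift_snd _ _ _
  -- kernel relations
  have ha₂b₂ : a₂ ≫ b₂ = 1 := by rw [h₂'.w, Hom.one_def]
  have ha₁b₁ : a₁ ≫ b₁ = 1 := by rw [h₁'.w, Hom.one_def]
  -- the cover `(x, h) ↦ j(x) a₂(h)` of `P`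
  let c : H₁ ⊗ H₂' ⟶ H₂ := (fst H₁ H₂' ≫ j) * (snd H₁ H₂' ≫ a₂)
  have hc : c ≫ b₂ = (fst H₁ H₂' ≫ b₁) ≫ j'' := by
    show ((fst H₁ H₂' ≫ j) * (snd H₁ H₂' ≫ a₂)) ≫ b₂ = _
    rw [MonObj.mul_comp, Category.assoc, Category.assoc, ha₂b₂, MonObj.comp_one, _root_.mul_one, ← sq₂,
      Category.assoc]
  let c' : H₁ ⊗ H₂' ⟶ P := Limits.pullback.lift c (fst H₁ H₂' ≫ b₁) hc
  have hc'₁ : c' ≫ π₁ = (fst H₁ H₂' ≫ j) * (snd H₁ H₂' ≫ a₂) := Limits.pullback.lift_fst _ _ _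
  have hc'₂ : c' ≫ π₂ = fst H₁ H₂' ≫ b₁ := Limits.pullback.lift_snd _ _ _
  have hR : IsPullback c' (fst H₁ H₂') π₂ b₁ :=
    isPullback_torsor a₂ b₂ h₂' π₁ π₂ j'' hP j b₁ sq₂.symm c' hc'₁ hc'₂
  -- the action square of `b₁`
  let act : H₁ ⊗ H₁' ⟶ H₁ := (fst H₁ H₁') * (snd H₁ H₁' ≫ a₁)
  have hact : act ≫ b₁ = fst H₁ H₁' ≫ b₁ := by
    show ((fst H₁ H₁') * (snd H₁ H₁' ≫ a₁)) ≫ b₁ = _
    rw [MonObj.mul_comp, Category.assoc, ha₁b₁, MonObj.comp_one, _root_.mul_one]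
  have hB : IsPullback act (fst H₁ H₁') b₁ b₁ := by
    refine isPullback_torsor a₁ b₁ h₁' (𝟙 H₁) b₁ (𝟙 H₁'') ?_ (𝟙 H₁) b₁ (by simp) act ?_ hact
    · exact IsPullback.of_horiz_isIso ⟨by simp⟩
    · show act ≫ 𝟙 _ = (fst H₁ H₁' ≫ 𝟙 _) * (snd H₁ H₁' ≫ a₁)
      rw [Category.comp_id, Category.comp_id]
  -- the left square
  have hcomm : (H₁ ◁ j') ≫ c' = act ≫ k := by
    apply Limits.pullback.hom_ext
    · rw [Category.assoc, hc'₁, Category.assoc, hk₁, MonObj.comp_mul, ← Category.assoc,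
        whiskerLeft_fst, ← Category.assoc, whiskerLeft_snd, Category.assoc, ← sq₁]
      show _ = ((fst H₁ H₁') * (snd H₁ H₁' ≫ a₁)) ≫ j
      rw [MonObj.mul_comp, Category.assoc]
    · rw [Category.assoc, hc'₂, Category.assoc, hk₂, hact, ← Category.assoc, whiskerLeft_fst]
  have hL : IsPullback (H₁ ◁ j') act c' k := by
    refine IsPullback.of_right ?_ hcomm hR.flip
    rw [whiskerLeft_fst, hk₂]
    exact hB.flip
  have hLS : IsPullback (H₁ ◁ j').left act.left c'.left k.left := hL.map (Over.forget S)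
  have hRS : IsPullback c'.left (fst H₁ H₂').left π₂.left b₁.left := hR.map (Over.forget S)
  -- coverings
  haveI : Flat b₁.left := hb₁.1
  haveI : Surjective b₁.left := hb₁.2
  haveI : QuasiCompact b₁.left := by
    haveI : QuasiCompact (b₁.left ≫ H₁''.hom) := by rw [Over.w]; infer_instance
    exact QuasiCompact.of_comp b₁.left H₁''.hom
  have hcov₁ : IsCov b₁.left := (IsQCov.of_quasiCompact b₁.left).isCov
  have hcov : IsCov c'.left := hcov₁.of_isPullback hRS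
  have hj'w : IsClosedImmersion (H₁ ◁ j').left :=
    MorphismProperty.of_isPullback (P := @IsClosedImmersion)
      (Groth.Agent.Lib.Helper98.GrpUnivOpen.isPullback_whiskerLeft' H₁ j').flip hj'
  have hk : IsClosedImmersion k.left := hcov.isClosedImmersion_of_isPullback hLS hj'w
  have hjk : j.left = k.left ≫ π₁.left := by rw [← Over.comp_left, hk₁]
  rw [hjk]
  infer_instance

end Groth.Agent.S16647
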