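import Groth.Statements.S1665
import Groth.Agent.Lib.Helper39.DimOneSemilocal
-- import your own Groth.Agent.* helpers here

set_option autoImplicit false
universe u
open Variety

namespace Groth.Agent.S1665

section Helpers

open Groth.Agent.Lib.Helper39

theorem main1665 (B : Type u) [CommRing B] [IsDomain B] [IsNoetherianRing B]
    (hdim : ringKrullDim B = 1) (hsl : Finite (MaximalSpectrum B)) :
    IsDedekindDomain (integralClosure B (FractionRing B)) ∧ Finite (MaximalSpectrum (integralClosure B (FractionRing B))) ∧
      ∀ x : integralClosure B (FractionRing B), x ≠ 0 → x ∈ (⊥ : Ideal (integralClosure B (FractionRing B))).jacobson →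
        ∀ y : integralClosure B (FractionRing B), ∃ n : ℕ, (x ^ n * y).1 ∈ (algebraMap B (FractionRing B)).range := by
  have hK := KA.krullDimLE_one_of_eq hdim
  have hBnf : ¬ IsField B := by
    intro hf
    have := ringKrullDim_eq_zero_of_isField hf
    rw [hdim] at this
    exact one_ne_zero this
  let K := FractionRing B
  let B' := integralClosure B K
  have hDed : IsDedekindDomain B' := KA.isDedekindDomain_of_isIntegralClosure B K K B'
  have hFin : Finite (IsDedekindDomain.HeightOneSpectrum B') :=
    KA.finite_heightOneSpectrum_of_isIntegralClosure B K K B' hBnf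
  have hBB' : Function.Injective (algebraMap B B') :=
    KA.algebraMap_injective_of_isIntegralClosure B K K B'
  have hint : Algebra.IsIntegral B B' := IsIntegralClosure.isIntegral_algebra B K
  have hB'nf : ¬ IsField B' := fun hf => hBnf (isField_of_isIntegral_of_isField hBB' hf)
  refine ⟨hDed, ?_, ?_⟩
  · let g : MaximalSpectrum B' → IsDedekindDomain.HeightOneSpectrum B' := fun m =>
      ⟨m.asIdeal, m.isMaximal.isPrime, Ring.ne_bot_of_isMaximal_of_not_isField m.isMaximal hB'nf⟩
    apply Finite.of_injective g
    intro m m' h
    ext1
    exact congrArg IsDedekindDomain.HeightOneSpectrum.asIdeal h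
  · intro x _ hx y
    have hz : ∀ Q : Ideal B', Q.IsPrime → Q ≠ ⊥ → x ∈ Q := by
      intro Q hQ hQ0
      have hmax : Q.IsMaximal := hQ.isMaximal hQ0
      rw [Ideal.jacobson, Ideal.mem_sInf] at hx
      exact hx ⟨bot_le, hmax⟩
    obtain ⟨n₀, hn₀⟩ := KA.exists_pow_mul_mem_range_of_integralClosure B K x y hz
    obtain ⟨b, hb⟩ := hn₀ n₀ le_rfl
    exact ⟨n₀, b, by rw [hb]; simp⟩

end Helpers

/-- Let B be a Noetherian domain of dimension one with finitely many maximal ideals and B' its integral
closure in its fraction field. Then B' is a Dedekind domain with finitely many maximal ideals, and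
for every nonzero x in the Jacobson radical of B' and every y ∈ B' some power x^n satisfies x^n y ∈
B. -/
theorem result (B : Type u) [CommRing B] [IsDomain B] [IsNoetherianRing B]
    (hdim : ringKrullDim B = 1) (hsl : Finite (MaximalSpectrum B)) :
    IsDedekindDomain (integralClosure B (FractionRing B)) ∧ Finite (MaximalSpectrum (integralClosure B (FractionRing B))) ∧
      ∀ x : integralClosure B (FractionRing B), x ≠ 0 → x ∈ (⊥ : Ideal (integralClosure B (FractionRing B))).jacobson →
        ∀ y : integralClosure B (FractionRing B), ∃ n : ℕ, (x ^ n * y).1 ∈ (algebraMap B (FractionRing B)).range := by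
  exact main1665 B hdim hsl

end Groth.Agent.S1665
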