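import Groth.Statements.S16661
import Mathlib.LinearAlgebra.FreeModule.Finite.Basic
-- import your own Groth.Agent.* helpers here

set_option autoImplicit false
universe v u
open TensorProduct
open Conn

namespace Groth.Agent.S16661

/-- Let B be an A-algebra with a receptacle of differentials (Ω, δ), Ω a finite free B-module (the
affine-local form of differentials locally free of finite type), let M be a finite free B-module
(the local form of a vector bundle) with a connection ∇ : M → M ⊗ Ω, and let ∇_E be the induced
connection on the B-linear endomorphisms of M, the one with (ev_m ⊗ 1)(∇_E φ) = ∇(φ m) − (φ ⊗ 1)(∇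
m). Give B the connection b ↦ 1 ⊗ δ b. Then the trace map End_B(M) → B is horizontal: 1 ⊗ δ(tr φ) =
(tr ⊗ 1)(∇_E φ) for every endomorphism φ. -/
theorem result {A : Type v} {B Ω M : Type u}
    [CommRing A] [CommRing B] [Algebra A B]
    [AddCommGroup Ω] [Module B Ω] [Module A Ω] [IsScalarTower A B Ω] [Module.Finite B Ω] [Module.Free B Ω]
    [AddCommGroup M] [Module B M] [Module A M] [IsScalarTower A B M] [Module.Finite B M] [Module.Free B M]
    (δ : Derivation A B Ω) (nabla : M →ₗ[A] M ⊗[B] Ω) (hc : Conn.IsConn δ nabla)
    (nablaE : (M →ₗ[B] M) →ₗ[A] (M →ₗ[B] M) ⊗[B] Ω) (hE : Conn.IsHomConn nabla nabla nablaE) :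
    Conn.IsHorizontal nablaE (Conn.triv δ) (LinearMap.trace B M) := by
  classical
  intro φ
  let b := Module.Free.chooseBasis B M
  have I1 : ∀ t : (M →ₗ[B] M) ⊗[B] Ω,
      TensorProduct.map (LinearMap.trace B M) LinearMap.id t =
        ∑ i, TensorProduct.map (b.coord i) LinearMap.id
          (TensorProduct.map (LinearMap.applyₗ (b i)) LinearMap.id t) := by
    intro t
    induction t using TensorProduct.induction_on with
    | zero => simp
    | add x y hx hy => simp only [map_add, hx, hy, Finset.sum_add_distrib]
    | tmul ψ ω =>
      simp only [TensorProduct.map_tmul, LinearMap.id_coe, id_eq, LinearMap.applyₗ_apply_apply]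
      rw [LinearMap.trace_eq_matrix_trace B b, Matrix.trace, TensorProduct.sum_tmul]
      refine Finset.sum_congr rfl fun i _ => ?_
      simp [LinearMap.toMatrix_apply]
  have I2 : ∀ (i : Module.Free.ChooseBasisIndex B M) (m : M),
      TensorProduct.map (b.coord i) LinearMap.id (nabla m) =
        (1 : B) ⊗ₜ[B] δ (b.coord i m) +
          ∑ k, b.coord k m • TensorProduct.map (b.coord i) LinearMap.id (nabla (b k)) := by
    intro i m
    conv_lhs => rw [← b.sum_repr m, map_sum, map_sum]
    have hterm : ∀ k, TensorProduct.map (b.coord i) LinearMap.id (nabla (b.repr m k • b k)) =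
        b.coord k m • TensorProduct.map (b.coord i) LinearMap.id (nabla (b k)) +
          (if k = i then (1 : B) else 0) ⊗ₜ[B] δ (b.coord k m) := by
      intro k
      rw [hc, map_add, map_smul, TensorProduct.map_tmul]
      simp only [Module.Basis.coord_apply, Module.Basis.repr_self, LinearMap.id_coe, id_eq,
        Finsupp.single_apply]
    rw [Finset.sum_congr rfl (fun k _ => hterm k), Finset.sum_add_distrib, add_comm]
    congr 1
    rw [Finset.sum_eq_single i]
    · simp
    · intro k _ hk
      rw [if_neg hk, TensorProduct.zero_tmul]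
    · intro h; exact absurd (Finset.mem_univ i) h
  have I3 : ∀ (i : Module.Free.ChooseBasisIndex B M) (s : M ⊗[B] Ω),
      TensorProduct.map (b.coord i) LinearMap.id (TensorProduct.map φ LinearMap.id s) =
        ∑ k, b.coord i (φ (b k)) • TensorProduct.map (b.coord k) LinearMap.id s := by
    intro i s
    induction s using TensorProduct.induction_on with
    | zero => simp
    | add x y hx hy => simp only [map_add, hx, hy, smul_add, Finset.sum_add_distrib]
    | tmul m ω =>
      simp only [TensorProduct.map_tmul, LinearMap.id_coe, id_eq]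
      conv_lhs => rw [← b.sum_repr m, map_sum, map_sum, TensorProduct.sum_tmul]
      refine Finset.sum_congr rfl fun k _ => ?_
      simp only [map_smul, TensorProduct.smul_tmul', smul_eq_mul, Module.Basis.coord_apply,
        mul_comm]
  rw [I1]
  have step : ∀ i, TensorProduct.map (b.coord i) LinearMap.id
      (TensorProduct.map (LinearMap.applyₗ (b i)) LinearMap.id (nablaE φ)) =
      (1 : B) ⊗ₜ[B] δ (b.coord i (φ (b i))) +
        ∑ k, b.coord k (φ (b i)) • TensorProduct.map (b.coord i) LinearMap.id (nabla (b k)) -
        ∑ k, b.coord i (φ (b k)) • TensorProduct.map (b.coord k) LinearMap.id (nabla (b i)) := by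
    intro i
    rw [hE φ (b i), map_sub, I2 i (φ (b i)), I3 i (nabla (b i))]
  rw [Finset.sum_congr rfl (fun i _ => step i), Finset.sum_sub_distrib, Finset.sum_add_distrib]
  have hswap : ∑ i, ∑ k, b.coord k (φ (b i)) •
        TensorProduct.map (b.coord i) LinearMap.id (nabla (b k)) =
      ∑ i, ∑ k, b.coord i (φ (b k)) •
        TensorProduct.map (b.coord k) LinearMap.id (nabla (b i)) := Finset.sum_comm
  rw [hswap, add_sub_cancel_right, Conn.triv_apply, LinearMap.trace_eq_matrix_trace B b,
    Matrix.trace, map_sum, TensorProduct.tmul_sum]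
  refine Finset.sum_congr rfl fun i _ => ?_
  simp [LinearMap.toMatrix_apply]

end Groth.Agent.S16661
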