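import Groth.Statements.S16663
import Groth.Agent.Lib.Helper84.Conn
import Groth.Agent.S16661
-- import your own Groth.Agent.* helpers here

set_option autoImplicit false
universe v u
open TensorProduct
open Conn

namespace Groth.Agent.S16663

/-- Let B be an A-algebra with a receptacle of differentials (Ω, δ), Ω a finite free B-module (the local
form of a weakly smooth scheme), and let M be a finitely ℤ-graded B-module presented as a finite
family of finite free B-modules M_i with integer degrees deg i (the local form of a graded vector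
bundle), with total module Π_i M_i. Let ∇ be a connection on Π_i M_i preserving the grading, in the
sense that (pr_j ⊗ 1)(∇(ι_i m)) = 0 for m ∈ M_i whenever deg i ≠ deg j, and let ∇_E be the induced
connection on the B-linear endomorphisms, the one with (ev_m ⊗ 1)(∇_E φ) = ∇(φ m) − (φ ⊗ 1)(∇ m).
Give B the connection b ↦ 1 ⊗ δ b. Then the supertrace, φ ↦ tr(ε ∘ φ) with ε = Σ_i (−1)^{deg i} ι_i
∘ pr_i the grading involution, is a horizontal map End_B(Π_i M_i) → B. -/
theorem result {A : Type v} {B Ω ι : Type u}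
    [CommRing A] [CommRing B] [Algebra A B]
    [AddCommGroup Ω] [Module B Ω] [Module A Ω] [IsScalarTower A B Ω] [Module.Finite B Ω] [Module.Free B Ω]
    [Fintype ι] [DecidableEq ι] (deg : ι → ℤ) (M : ι → Type u)
    [∀ i, AddCommGroup (M i)] [∀ i, Module B (M i)] [∀ i, Module A (M i)] [∀ i, IsScalarTower A B (M i)]
    [∀ i, Module.Free B (M i)] [∀ i, Module.Finite B (M i)]
    (δ : Derivation A B Ω) (nabla : (Π k, M k) →ₗ[A] (Π k, M k) ⊗[B] Ω) (hc : Conn.IsConn δ nabla)
    (hgr : ∀ i j : ι, deg i ≠ deg j → ∀ m : M i,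
      TensorProduct.map (LinearMap.proj j : (Π k, M k) →ₗ[B] M j) LinearMap.id (nabla (LinearMap.single B M i m)) = 0)
    (nablaE : ((Π k, M k) →ₗ[B] (Π k, M k)) →ₗ[A] ((Π k, M k) →ₗ[B] (Π k, M k)) ⊗[B] Ω)
    (hE : Conn.IsHomConn nabla nabla nablaE) :
    Conn.IsHorizontal nablaE (Conn.triv δ)
      (LinearMap.trace B (Π k, M k) ∘ₗ LinearMap.llcomp B (Π k, M k) (Π k, M k) (Π k, M k)
        (∑ i : ι, (LinearMap.single B M i) ∘ₗ (((-1 : B) ^ (deg i).natAbs) • (LinearMap.proj i : (Π k, M k) →ₗ[B] M i)))) := by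
  classical
  intro φ
  set sgn : ι → B := fun i => (-1 : B) ^ (deg i).natAbs with hsgn
  set ε : (Π k, M k) →ₗ[B] (Π k, M k) :=
    ∑ i : ι, (LinearMap.single B M i) ∘ₗ (sgn i • (LinearMap.proj i : (Π k, M k) →ₗ[B] M i))
    with hε
  have hδ : ∀ i, δ (sgn i) = 0 := by
    intro i
    have : sgn i = algebraMap A B ((-1) ^ (deg i).natAbs) := by simp [hsgn]
    rw [this, Derivation.map_algebraMap]
  have hsgn_eq : ∀ i j, deg i = deg j → sgn i = sgn j := by
    intro i j h
    simp only [hsgn, h]
  have hεs : ∀ (i : ι) (m : M i),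
      ε (LinearMap.single B M i m) = sgn i • LinearMap.single B M i m := by
    intro i m
    simp only [hε, LinearMap.sum_apply, LinearMap.comp_apply, LinearMap.smul_apply,
      LinearMap.proj_apply, LinearMap.coe_single]
    rw [Finset.sum_eq_single i]
    · rw [Pi.single_eq_same, Pi.single_smul]
    · intro j _ hj
      rw [Pi.single_eq_of_ne hj, smul_zero, Pi.single_zero]
    · intro h; exact absurd (Finset.mem_univ i) h
  have hmapε : ∀ t : (Π k, M k) ⊗[B] Ω,
      TensorProduct.map ε LinearMap.id t =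
        ∑ j, sgn j • TensorProduct.map ((LinearMap.single B M j) ∘ₗ
          (LinearMap.proj j : (Π k, M k) →ₗ[B] M j)) LinearMap.id t := by
    intro t
    rw [hε, Groth.Agent.Lib.Helper84.map_sum_left_apply]
    refine Finset.sum_congr rfl fun j _ => ?_
    rw [LinearMap.comp_smul, TensorProduct.map_smul_left, LinearMap.smul_apply]
  have hsumid : ∀ t : (Π k, M k) ⊗[B] Ω,
      ∑ j, TensorProduct.map ((LinearMap.single B M j) ∘ₗ
          (LinearMap.proj j : (Π k, M k) →ₗ[B] M j)) LinearMap.id t = t := by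
    intro t
    rw [← Groth.Agent.Lib.Helper84.map_sum_left_apply]
    have : (∑ j, (LinearMap.single B M j) ∘ₗ (LinearMap.proj j : (Π k, M k) →ₗ[B] M j)) =
        LinearMap.id := by
      refine LinearMap.ext fun x => funext fun k => ?_
      simp only [LinearMap.sum_apply, LinearMap.comp_apply, LinearMap.proj_apply,
        LinearMap.coe_single, LinearMap.id_apply, Finset.sum_apply]
      rw [Finset.sum_eq_single k]
      · rw [Pi.single_eq_same]
      · intro j _ hj
        rw [Pi.single_eq_of_ne' hj]
      · intro h; exact absurd (Finset.mem_univ k) h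
    rw [this, TensorProduct.map_id, LinearMap.id_apply]
  have h1s : ∀ (i : ι) (m : M i), nabla (ε (LinearMap.single B M i m)) =
      TensorProduct.map ε LinearMap.id (nabla (LinearMap.single B M i m)) := by
    intro i m
    rw [hεs, hc, hδ, TensorProduct.tmul_zero, add_zero, hmapε]
    conv_lhs => rw [← hsumid (nabla (LinearMap.single B M i m)), Finset.smul_sum]
    refine Finset.sum_congr rfl fun j _ => ?_
    by_cases hd : deg i = deg j
    · rw [hsgn_eq i j hd]
    · rw [Groth.Agent.Lib.Helper84.map_comp_left_apply, hgr i j hd m, map_zero, smul_zero,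
        smul_zero]
  have h1 : ∀ x : (Π k, M k), nabla (ε x) = TensorProduct.map ε LinearMap.id (nabla x) := by
    intro x
    have hx : x = ∑ i, LinearMap.single B M i (x i) := by
      simp only [LinearMap.coe_single]
      exact (Finset.univ_sum_single x).symm
    rw [hx]
    simp only [map_sum]
    exact Finset.sum_congr rfl fun i _ => h1s i (x i)
  have h2 : nablaE (ε ∘ₗ φ) = TensorProduct.map
      (LinearMap.llcomp B (Π k, M k) (Π k, M k) (Π k, M k) ε) LinearMap.id (nablaE φ) := by
    apply Groth.Agent.Lib.Helper84.hom_tensor_ext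
    intro m
    have hcomm : (LinearMap.applyₗ m : ((Π k, M k) →ₗ[B] (Π k, M k)) →ₗ[B] (Π k, M k)) ∘ₗ
        (LinearMap.llcomp B (Π k, M k) (Π k, M k) (Π k, M k) ε) =
        ε ∘ₗ (LinearMap.applyₗ m : ((Π k, M k) →ₗ[B] (Π k, M k)) →ₗ[B] (Π k, M k)) := by
      refine LinearMap.ext fun ψ => ?_
      rfl
    rw [← Groth.Agent.Lib.Helper84.map_comp_left_apply, hcomm,
      Groth.Agent.Lib.Helper84.map_comp_left_apply, hE φ m, hE (ε ∘ₗ φ) m, map_sub,
      ← Groth.Agent.Lib.Helper84.map_comp_left_apply, LinearMap.comp_apply, h1]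
  have h3 := Groth.Agent.S16661.result δ nabla hc nablaE hE (ε ∘ₗ φ)
  rw [h2, ← Groth.Agent.Lib.Helper84.map_comp_left_apply] at h3
  exact h3

end Groth.Agent.S16663
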