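import Groth.Statements.S16667
import Groth.Agent.Lib.Helper49.Serre3

set_option autoImplicit false
universe u
open CAlg

namespace Groth.Agent.S16667

/-- Let A be a Noetherian integral domain satisfying Serre's condition (S_2), with fraction field K. An
element of K which lies in the localization A_p for every prime p of A with depth(A_p) = 1 lies in
A. -/
theorem result {A : Type u} [CommRing A] [IsDomain A]
    [IsNoetherianRing A] (hS2 : LocCoh.HasSk 2 A A) (x : FractionRing A)
    (hx : ∀ (p : Ideal A) [p.IsPrime],
      LocCoh.depth (Localization.AtPrime p) (Localization.AtPrime p) = 1 →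
        x ∈ Set.range (algebraMap (Localization.AtPrime p) (FractionRing A))) :
    x ∈ Set.range (algebraMap A (FractionRing A)) := by
  apply Groth.Agent.Lib.Helper49.Serre.mem_range_algebraMap_of_forall_associatedPrimes A x
  rintro P _ ⟨a, ha, hP⟩
  apply hx P
  have haP := Groth.Agent.Lib.Helper49.Serre.mem_of_mem_associatedPrimes_quotient_span hP
  have hreg : IsSMulRegular (Localization.AtPrime P) (algebraMap A (Localization.AtPrime P) a) :=
    IsSMulRegular.of_isLocalization (Localization.AtPrime P) P.primeCompl
      (IsRegular.of_ne_zero ha).left.isSMulRegular
  exact (Groth.Agent.Lib.Helper49.Serre.mem_associatedPrimes_quotient_span_iff P haP hreg).mp hP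

end Groth.Agent.S16667
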