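import Groth.Statements.S16674
import Groth.Agent.Lib.Helper16.FinHopfIntegral

set_option autoImplicit false
universe u
open CartDual

namespace Groth.Agent.S16674

/-- Let k be a field of characteristic p > 0 and A a finite-dimensional commutative and cocommutative
Hopf algebra over k, the coordinate ring of a finite commutative k-group scheme G, with Cartier dual
the convolution Hopf algebra Hom_k(A, k). Then G is étale-étale, i.e. both A and its dual are étale
k-algebras, if and only if p does not divide the rank dim_k A of G. -/
theorem result (k : Type u) [Field k] (p : ℕ) [Fact p.Prime] [CharP k p]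
    (A : Type u) [CommRing A] [HopfAlgebra k A] [Coalgebra.IsCocomm k A] [FiniteDimensional k A] :
    (Algebra.Etale k A ∧ Algebra.Etale k (CartDual.D k A)) ↔ ¬ p ∣ Module.finrank k A := by
  open Groth.Agent.Lib.Helper16.FinHopf in
  constructor
  · rintro ⟨hA, hD⟩
    have hA' : Algebra.FormallyUnramified k A := inferInstance
    have hD' : Algebra.FormallyUnramified k (CartDual.D k A) := inferInstance
    have h := finrank_ne_zero_of_idem_of_idem ((formallyUnramified_iff_idem k A).1 hA')
      ((formallyUnramified_iff_idem k (CartDual.D k A)).1 hD')
    intro hdvd
    exact h ((CharP.cast_eq_zero_iff k p _).2 hdvd)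
  · intro hnd
    have h : (Module.finrank k A : k) ≠ 0 := fun h0 => hnd ((CharP.cast_eq_zero_iff k p _).1 h0)
    refine ⟨etale_of_finrank_ne_zero k A h, etale_of_finrank_ne_zero k (CartDual.D k A) ?_⟩
    have h1 : Module.finrank k (CartDual.D k A) = Module.finrank k A := by
      rw [(CartDual.toDual k A).finrank_eq]
      exact Subspace.dual_finrank_eq
    rw [h1]
    exact h

end Groth.Agent.S16674
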