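import Groth.Statements.S16676
-- import your own Groth.Agent.* helpers here
import Groth.Agent.Lib.Helper40.GrpKer
import Groth.Agent.Lib.Helper40.TorsorExact

set_option autoImplicit false
universe u
open CategoryTheory CategoryTheory.Limits MonoidalCategory CartesianMonoidalCategory MonObj GrpObj AlgebraicGeometry
open AbVar

namespace Groth.Agent.S16676

/-- The equivalence of its second and third conditions. Let X and Y be abelian varieties over a field k
(proper, geometrically integral k-group schemes), f : X → Y a homomorphism which is finite, flat and
surjective (an isogeny), and i : N → X the kernel of f (the square formed by i, f, the unit section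
of Y and the structure map of N is cartesian). Then f is universally injective (a purely inseparable
morphism) if and only if the scheme N is connected. (The published item also includes the equivalent
condition that the function field of X is purely inseparable over that of Y; that clause is not part
of this statement.) -/
theorem result (k : Type u) [Field k]
    (X Y : Over (Spec (CommRingCat.of k)))
    [GrpObj X] [IsProper X.hom] [GeometricallyIntegral X.hom]
    [GrpObj Y] [IsProper Y.hom] [GeometricallyIntegral Y.hom]
    (f : X ⟶ Y) [IsMonHom f] [IsFinite f.left] [Flat f.left] [Surjective f.left]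
    (N : Over (Spec (CommRingCat.of k))) (i : N ⟶ X) (hN : AlgGrp.IsKernel i f) :
    UniversallyInjective f.left ↔ ConnectedSpace ↥N.left := by
  have hone : η[X] ≫ f = 𝟙 _ ≫ η[Y] := by
    rw [Category.id_comp]
    exact IsMonHom.one_hom f
  obtain ⟨eN, heN⟩ : ∃ eN : 𝟙_ (Over (Spec (CommRingCat.of k))) ⟶ N, eN ≫ i = η[X] :=
    ⟨hN.lift η[X] (𝟙 _) hone, hN.lift_fst _ _ _⟩
  have sqN : IsPullback i.left (toUnit N).left f.left (η[Y]).left := hN.map (Over.forget _)
  obtain ⟨pt⟩ : Nonempty ↥(Spec (CommRingCat.of k)) := inferInstance
  have hsubS : Subsingleton ↥(Spec (CommRingCat.of k)) :=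
    inferInstanceAs (Subsingleton (PrimeSpectrum k))
  constructor
  · intro hf
    have h : UniversallyInjective (toUnit N).left :=
      MorphismProperty.of_isPullback (P := @UniversallyInjective) sqN hf
    have hinj : Function.Injective (toUnit N).left := (toUnit N).left.injective
    have hsub : Subsingleton ↥N.left := ⟨fun a b => hinj (hsubS.elim _ _)⟩
    have hne : Nonempty ↥N.left := ⟨eN.left pt⟩
    exact { toPreconnectedSpace := ⟨Set.subsingleton_univ.isPreconnected⟩, toNonempty := hne }
  · intro hconn
    have hfin : IsFinite (toUnit N).left :=
      MorphismProperty.of_isPullback (P := @IsFinite) sqN inferInstance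
    have hdisc : DiscreteTopology ↥N.left := by
      have h1 := (toUnit N).left.isDiscrete_preimage_singleton pt
      have h2 : (toUnit N).left ⁻¹' {pt} = Set.univ := by
        ext y
        simp only [Set.mem_preimage, Set.mem_singleton_iff, Set.mem_univ, iff_true]
        exact hsubS.elim _ _
      rw [h2] at h1
      exact isDiscrete_univ_iff.mp h1
    have hsub : Subsingleton ↥N.left := subsingleton_of_preconnected_totallyDisconnected
    have hsurj : Surjective eN.left := ⟨fun y => ⟨pt, hsub.elim _ _⟩⟩
    have sqd : IsPullback (lift (𝟙 X) (toUnit X ≫ eN)) (toUnit X) (snd X N) eN := by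
      refine Groth.Agent.Lib.Helper40.TorsorExact.isPullback_of_existsUnique ?_ ?_
      · rw [lift_snd]
      · intro W a b hab
        have hb : b = toUnit W := toUnit_unique _ _
        refine ⟨a ≫ fst X N, ⟨?_, toUnit_unique _ _⟩, ?_⟩
        · apply CartesianMonoidalCategory.hom_ext
          · rw [Category.assoc, lift_fst, Category.comp_id]
          · rw [Category.assoc, lift_snd, hab, hb, ← Category.assoc]
            congr 1
            exact toUnit_unique _ _
        · rintro k' ⟨hk1, -⟩
          rw [← hk1, Category.assoc, lift_fst, Category.comp_id]
    have hd : Surjective (lift (𝟙 X) (toUnit X ≫ eN)).left :=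
      MorphismProperty.of_isPullback (P := @Surjective) (sqd.map (Over.forget _)).flip hsurj
    have sqK : IsPullback (fst X N).left ((X ◁ i) ≫ μ[X]).left f.left f.left :=
      (Groth.Agent.Lib.Helper40.GrpKer.isKernelPair_of_isKernel hN).map (Over.forget _)
    have hmul : lift (𝟙 X) (toUnit X ≫ eN) ≫ (X ◁ i) ≫ μ[X] = 𝟙 X := by
      rw [← Category.assoc, lift_whiskerLeft, Category.assoc, heN, ← CategoryTheory.Hom.mul_def,
        ← CategoryTheory.Hom.one_def, _root_.mul_one]
    have hδ : pullback.diagonal f.left =
        (lift (𝟙 X) (toUnit X ≫ eN)).left ≫ sqK.isoPullback.hom := by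
      apply pullback.hom_ext
      · rw [pullback.diagonal_fst, Category.assoc, sqK.isoPullback_hom_fst, ← Over.comp_left,
          lift_fst]
        rfl
      · rw [pullback.diagonal_snd, Category.assoc, sqK.isoPullback_hom_snd, ← Over.comp_left,
          hmul]
        rfl
    rw [UniversallyInjective.iff_diagonal, hδ]
    infer_instance

end Groth.Agent.S16676
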