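import Groth.Statements.S1668
import Groth.Agent.Lib.Helper39.NormTensor.GeomFieldPI
import Groth.Agent.Lib.Helper62.BCStalk
-- import your own Groth.Agent.* helpers here

set_option autoImplicit false
universe u
open CategoryTheory CategoryTheory.Limits AlgebraicGeometry
open Variety

namespace Groth.Agent.S1668

section Helpers

set_option autoImplicit false
set_option linter.style.haveILetI false
open CategoryTheory CategoryTheory.Limits AlgebraicGeometry
open scoped TensorProduct

namespace T1668

attribute [local instance] Curv2.stalkAlgebra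

open Groth.Agent.Lib.Helper39.NormTensor Groth.Agent.Lib.Helper62

/-- for a local `k`-algebra `O` and an algebraic extension `k'`, normality of `k' ⊗ O` can be
checked at the primes over the maximal ideal -/
theorem isNormalRing_tensor_of_forall_prime (k : Type u) [Field k] (O : Type u) [CommRing O]
    [IsLocalRing O] [Algebra k O] (k' : Type u) [Field k'] [Algebra k k'] [Algebra.IsIntegral k k']
    (h : ∀ (M : Ideal (k' ⊗[k] O)) [M.IsPrime],
      M.comap (Algebra.TensorProduct.includeRight (R := k) (A := k')
        (B := O)).toRingHom = IsLocalRing.maximalIdeal O →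
        IsDomain (Localization.AtPrime M) ∧ IsIntegrallyClosed (Localization.AtPrime M)) :
    EGA4.IsNormalRing (k' ⊗[k] O) := by
  apply isNormalRing_of_forall_isMaximal
  intro J hJ
  apply h J
  letI : Algebra O (k' ⊗[k] O) := Algebra.TensorProduct.rightAlgebra
  have hint : (algebraMap O (k' ⊗[k] O)).IsIntegral :=
    RingHom.isIntegral_isStableUnderBaseChange k k' O (k' ⊗[k] O)
      (algebraMap_isIntegral_iff.mpr (inferInstance : Algebra.IsIntegral k k'))
  haveI : Algebra.IsIntegral O (k' ⊗[k] O) := algebraMap_isIntegral_iff.mp hint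
  have hmax : (J.comap (algebraMap O (k' ⊗[k] O))).IsMaximal :=
    Ideal.isMaximal_comap_of_isIntegral_of_isMaximal J
  exact IsLocalRing.eq_maximalIdeal hmax

theorem main1668 (k : Type u) [Field k] (X : Scheme.{u}) [X.Over (Spec (CommRingCat.of k))]
    (h : ∀ (k' : Type u) [Field k'] [Algebra k k'] [FiniteDimensional k k'] [IsPurelyInseparable k k'],
      Pi1.IsNormalScheme (Curv2.bc k X k'))
    (K : Type u) [Field K] [Algebra k K] : Pi1.IsNormalScheme (Curv2.bc k X K) := by
  intro x'
  obtain ⟨M, hM, -, ⟨e⟩⟩ := BCStalk.exists_prime_of_point (X ↘ Spec (CommRingCat.of k)) K x'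
    (Curv2.bcFst k X K x') rfl rfl
  have hn : EGA4.IsNormalRing (K ⊗[k] X.presheaf.stalk (Curv2.bcFst k X K x')) := by
    apply isNormalRing_field_tensor_of_forall_purelyInseparable
    intro k' _ _ _ _
    apply isNormalRing_tensor_of_forall_prime
    intro M' _ hM'
    obtain ⟨y, hy, ⟨e'⟩⟩ := BCStalk.exists_point_of_prime (X ↘ Spec (CommRingCat.of k))
      k' (Curv2.bcFst k X K x') rfl M' hM'
    obtain ⟨hd, hic⟩ := h k' y
    exact ⟨e'.symm.toMulEquiv.isDomain _, IsIntegrallyClosed.of_equiv e'⟩
  obtain ⟨hd', hic'⟩ := hn M
  exact ⟨e.toMulEquiv.isDomain _, IsIntegrallyClosed.of_equiv e.symm⟩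

end T1668

end Helpers

/-- Let X be a scheme over k such that X_{k'} is a normal scheme (all local rings integrally closed
domains) for every finite purely inseparable extension k' of k. Then X_K is a normal scheme for
every field extension K of k. -/
theorem result (k : Type u) [Field k] (X : Scheme.{u}) [X.Over (Spec (CommRingCat.of k))]
    (h : ∀ (k' : Type u) [Field k'] [Algebra k k'] [FiniteDimensional k k'] [IsPurelyInseparable k k'],
      Pi1.IsNormalScheme (Curv2.bc k X k'))
    (K : Type u) [Field K] [Algebra k K] : Pi1.IsNormalScheme (Curv2.bc k X K) := by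
  exact T1668.main1668 k X h K

end Groth.Agent.S1668
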