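import Groth.Statements.S1670
import Groth.Agent.Lib.Helper21.GalOrbitFinite
-- import your own Groth.Agent.* helpers here

set_option autoImplicit false
universe u
open CategoryTheory CategoryTheory.Limits AlgebraicGeometry
open Variety

namespace Groth.Agent.S1670

/-- Let X be locally of finite type over k, K a separable closure of k, and T an irreducible component
of X. Then the inverse image of T in X_K is the union of the finitely many irreducible components of
X_K mapping into T, and these form a single orbit under the action of the k-automorphisms of K on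
X_K. -/
theorem result (k : Type u) [Field k] (X : Scheme.{u}) [X.Over (Spec (CommRingCat.of k))] [LocallyOfFiniteType (X ↘ (Spec (CommRingCat.of k)))]
    (T : Set X) (hT : T ∈ irreducibleComponents (X : Type u)) :
    {T' : Set (Curv2.bc k X (SeparableClosure k)) | T' ∈ irreducibleComponents (Curv2.bc k X (SeparableClosure k) : Type u) ∧
        (Curv2.bcFst k X (SeparableClosure k)).base '' T' ⊆ T}.Finite ∧
      (Curv2.bcFst k X (SeparableClosure k)).base ⁻¹' T = ⋃₀ {T' : Set (Curv2.bc k X (SeparableClosure k)) | T' ∈ irreducibleComponents (Curv2.bc k X (SeparableClosure k) : Type u) ∧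
        (Curv2.bcFst k X (SeparableClosure k)).base '' T' ⊆ T} ∧
      ∀ T' T'' : Set (Curv2.bc k X (SeparableClosure k)), T' ∈ irreducibleComponents (Curv2.bc k X (SeparableClosure k) : Type u) →
        T'' ∈ irreducibleComponents (Curv2.bc k X (SeparableClosure k) : Type u) →
        (Curv2.bcFst k X (SeparableClosure k)).base '' T' ⊆ T → (Curv2.bcFst k X (SeparableClosure k)).base '' T'' ⊆ T →
        ∃ σ : (SeparableClosure k) ≃ₐ[k] (SeparableClosure k), (Curv2.galAct k X (SeparableClosure k) σ).base '' T' = T'' := by
  refine ⟨Groth.Agent.Lib.Helper21.finite_irreducibleComponents_over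
    (X ↘ Spec (CommRingCat.of k)) (SeparableClosure k) T hT, ?_, ?_⟩
  · have h := Groth.Agent.Lib.Helper21.preimage_irreducibleComponent_eq_sUnion
      (X ↘ Spec (CommRingCat.of k)) (SeparableClosure k) T hT
    refine h.trans ?_
    congr 1
    ext Z
    simp only [Set.mem_ofPred_eq, Set.image_subset_iff]
  · intro T' T'' hT' hT'' hsub' hsub''
    have h1 := Groth.Agent.Lib.Helper21.image_eq_of_image_subset
      (X ↘ Spec (CommRingCat.of k)) (SeparableClosure k) T hT T' hT' hsub'
    have h2 := Groth.Agent.Lib.Helper21.image_eq_of_image_subset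
      (X ↘ Spec (CommRingCat.of k)) (SeparableClosure k) T hT T'' hT'' hsub''
    exact (Groth.Agent.Lib.Helper21.image_eq_iff_exists_galAct' (X ↘ Spec (CommRingCat.of k))
      (SeparableClosure k) T' T'' hT' hT'').1 (h1.trans h2.symm)

end Groth.Agent.S1670
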