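import Groth.Statements.S16707
import Mathlib.RingTheory.Flat.Equalizer
import Mathlib.LinearAlgebra.TensorProduct.Quotient
import Mathlib.RingTheory.Nakayama

set_option autoImplicit false
universe u v
open CAlg

namespace Groth.Agent.S16707


open TensorProduct in
theorem subsingleton_of_tensor (A : Type u) [CommRing A] (I : Ideal A)
    (hI : IsNilpotent I) (X : Type v) [AddCommGroup X] [Module A X]
    (h : Subsingleton ((A ⧸ I) ⊗[A] X)) : Subsingleton X := by
  have h1 : Subsingleton (X ⧸ (I • (⊤ : Submodule A X))) :=
    (TensorProduct.quotTensorEquivQuotSMul X I).symm.toEquiv.subsingleton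
  have h2 : I • (⊤ : Submodule A X) = ⊤ := Submodule.Quotient.subsingleton_iff.mp h1
  obtain ⟨k, hk⟩ := hI
  have h3 : ∀ n : ℕ, (I ^ n) • (⊤ : Submodule A X) = ⊤ := by
    intro n
    induction n with
    | zero => simp
    | succ n ih => rw [pow_succ, mul_smul, h2, ih]
  have h4 := h3 k
  rw [hk, Ideal.zero_eq_bot, Submodule.bot_smul] at h4
  exact (Submodule.subsingleton_iff A).mp (subsingleton_of_bot_eq_top h4)

open TensorProduct in
/-- Let A be a commutative ring, I a nilpotent ideal of A and f : M → N a homomorphism of A-modules with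
N flat over A (no finiteness assumption on M or N). If the base change of f to A/I, that is M/IM →
N/IN, is bijective, then f is bijective. -/
theorem result (A : Type u) [CommRing A] (I : Ideal A)
    (hI : IsNilpotent I) (M N : Type v) [AddCommGroup M] [Module A M] [AddCommGroup N] [Module A N]
    [Module.Flat A N] (f : M →ₗ[A] N)
    (hf : Function.Bijective (f.baseChange (A ⧸ I))) :
    Function.Bijective f := by
  have hsurj : Function.Surjective f := by
    rw [← LinearMap.range_eq_top]
    set C := LinearMap.range f with hC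
    have hQ : Subsingleton (N ⧸ C) := by
      apply subsingleton_of_tensor A I hI
      refine ⟨fun x y => ?_⟩
      have hs : Function.Surjective ((C.mkQ).lTensor (A ⧸ I)) :=
        LinearMap.lTensor_surjective _ C.mkQ_surjective
      obtain ⟨x', rfl⟩ := hs x
      obtain ⟨y', rfl⟩ := hs y
      obtain ⟨x'', rfl⟩ := hf.2 x'
      obtain ⟨y'', rfl⟩ := hf.2 y'
      have hz : ∀ z, (C.mkQ).lTensor (A ⧸ I) (f.baseChange (A ⧸ I) z) = 0 := by
        intro z
        have : (f.baseChange (A ⧸ I) z) = f.lTensor (A ⧸ I) z := rfl
        rw [this, ← LinearMap.comp_apply, ← LinearMap.lTensor_comp]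
        have h0 : C.mkQ ∘ₗ f = 0 := by
          ext m
          simp [hC]
        rw [h0]
        simp
      rw [hz, hz]
    exact Submodule.Quotient.subsingleton_iff.mp hQ
  refine ⟨?_, hsurj⟩
  rw [← LinearMap.ker_eq_bot]
  set K := LinearMap.ker f with hK
  have hinj := LinearMap.lTensor_injective_of_exact_of_flat f hsurj K.subtype
    K.subtype_injective (LinearMap.exact_subtype_ker_map f) (A ⧸ I)
  have hKs : Subsingleton K := by
    apply subsingleton_of_tensor A I hI
    refine ⟨fun x y => ?_⟩
    apply hinj
    apply hf.1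
    have e1 : ∀ z, f.baseChange (A ⧸ I) (K.subtype.lTensor (A ⧸ I) z) = 0 := by
      intro z
      have : ∀ w, (f.baseChange (A ⧸ I) w) = f.lTensor (A ⧸ I) w := fun _ => rfl
      rw [this, ← LinearMap.comp_apply, ← LinearMap.lTensor_comp]
      have h0 : f ∘ₗ K.subtype = 0 := by
        ext m
        exact m.2
      rw [h0]
      simp
    rw [e1, e1]
  exact (Submodule.subsingleton_iff_eq_bot).mp hKs

end Groth.Agent.S16707
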