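import Groth.Statements.S16708
import Groth.Agent.Lib.Helper75.ComodModule
import Mathlib.RepresentationTheory.Maschke

set_option autoImplicit false
universe u
open HopfRep

namespace Groth.Agent.S16708


open Groth.Agent.Lib.Helper75

section
variable (k : Type u) [Field k] (G : Type u) [Group G] [Fintype G] [DecidableEq G]

theorem convMul_ev (a b : G) :
    convMul (ConstGrp.ev k a).toLinearMap (ConstGrp.ev k b).toLinearMap =
      (ConstGrp.ev k (a * b)).toLinearMap := by
  apply ConstGrp.linearMap_ext
  intro g
  simp only [convMul, LinearMap.convMul_apply, WithConv.ofConv_toConv, ConstGrp.comul_e, map_sum,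
    TensorProduct.map_tmul, AlgHom.toLinearMap_apply, ConstGrp.ev_apply, LinearMap.mul'_apply,
    ConstGrp.e_apply]
  rw [Finset.sum_eq_single a]
  · simp only [if_true, one_mul]
    congr 1
    rw [eq_iff_iff]
    constructor
    · intro h; rw [h, mul_inv_cancel_left]
    · intro h; rw [← h, inv_mul_cancel_left]
  · intro c _ hc
    rw [if_neg (Ne.symm hc), zero_mul]
  · intro h; exact absurd (Finset.mem_univ a) h

theorem functional_eq_sum (f : ConstGrp.F k G →ₗ[k] k) :
    f = ∑ g : G, f (ConstGrp.e k g) • (ConstGrp.ev k g).toLinearMap := by
  apply ConstGrp.linearMap_ext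
  intro h
  simp only [LinearMap.sum_apply, LinearMap.smul_apply, AlgHom.toLinearMap_apply, ConstGrp.ev_apply,
    ConstGrp.e_apply, smul_eq_mul]
  rw [Finset.sum_eq_single h]
  · simp
  · intro c _ hc
    rw [if_neg hc, mul_zero]
  · intro hh; exact absurd (Finset.mem_univ h) hh

variable (V : Type u) [AddCommGroup V] [Module k V] [HopfRep.Comod k (ConstGrp.F k G) V]

theorem act_sum {ι : Type*} (s : Finset ι) (f : ι → (ConstGrp.F k G →ₗ[k] k)) (v : V) :
    act (∑ i ∈ s, f i) v = ∑ i ∈ s, act (f i) v := by
  classical
  induction s using Finset.induction_on with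
  | empty => simp [act_zero]
  | insert a t hat ih => rw [Finset.sum_insert hat, Finset.sum_insert hat, act_add, ih]

noncomputable def rep : Representation k G V where
  toFun g := act (ConstGrp.ev k g).toLinearMap
  map_one' := by
    apply LinearMap.ext
    intro v
    have : (ConstGrp.ev k (1 : G)).toLinearMap =
        CoalgebraStruct.counit (R := k) (A := ConstGrp.F k G) := by
      apply LinearMap.ext
      intro x
      rfl
    rw [this, act_counit]
    rfl
  map_mul' a b := by
    apply LinearMap.ext
    intro v
    rw [← convMul_ev, ← act_act]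
    rfl

end

/-- Let G be a finite group and k a field in which the order of G is a nonzero element. Then the
constant group scheme of G over k is linearly reductive: every finite-dimensional comodule over its
coordinate Hopf algebra (the algebra of functions G → k with the Hopf structure of the constant
group) is semisimple, i.e. every subcomodule admits a complementary subcomodule. -/
theorem result (k : Type u) [Field k] (G : Type u) [Group G]
    [Fintype G] [DecidableEq G] (hG : ((Fintype.card G : ℕ) : k) ≠ 0) :
    HopfRep.IsLinearlyReductive k (ConstGrp.F k G) := by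
  intro V _ _ _ _ W hW
  haveI : NeZero ((Nat.card G : ℕ) : k) := ⟨by rwa [Nat.card_eq_fintype_card]⟩
  let σ : Subrepresentation (rep k G V) :=
    ⟨W, fun g v hv => (isSubcomod_iff W).1 hW _ v hv⟩
  obtain ⟨σ', hσ'⟩ := exists_isCompl σ
  refine ⟨σ'.toSubmodule, ?_, ?_⟩
  · rw [isSubcomod_iff]
    intro f w hw
    rw [functional_eq_sum k G f, act_sum]
    refine Submodule.sum_mem _ fun g _ => ?_
    rw [act_smul]
    exact Submodule.smul_mem _ _ (σ'.apply_mem_toSubmodule g hw)
  · constructor
    · rw [disjoint_iff]
      have h := hσ'.inf_eq_bot
      have h2 := congrArg Subrepresentation.toSubmodule h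
      exact h2
    · rw [codisjoint_iff]
      have h := hσ'.sup_eq_top
      have h2 := congrArg Subrepresentation.toSubmodule h
      exact h2

end Groth.Agent.S16708
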