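import Groth.Statements.S16709
import Groth.Agent.Lib.Helper84.LinRed

set_option autoImplicit false
universe u v
open HopfRep

namespace Groth.Agent.S16709

open TensorProduct in
/-- The equivalence of complete reducibility of finite-dimensional representations with the
invariant-section criterion. Let k be a field and A a finitely generated commutative Hopf algebra
over k, the coordinate ring of an affine algebraic group G. Then G is linearly reductive (every
finite-dimensional A-comodule is semisimple) if and only if for every finite-dimensional A-comodule
V and every surjective k-linear map π : V → k which is a comodule map to the trivial comodule (that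
is, (π ⊗ id) ∘ ρ_V = (c ↦ c ⊗ 1) ∘ π for the coaction ρ_V) there is a fixed vector v of V with π v ≠
0. (The published fourth condition is phrased with all G-fixed points of the projective space of V
and G-invariant linear forms; it fails for a fixed point on which G acts through a non-trivial
character, for instance the multiplicative group acting on a line with weight one, and this row
states the condition in the form the published proof uses: surjections onto the trivial
one-dimensional comodule.) -/
theorem result (k : Type u) [Field k] (A : Type v)
    [CommRing A] [HopfAlgebra k A] (hA : Algebra.FiniteType k A) :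
    HopfRep.IsLinearlyReductive k A ↔
      ∀ (V : Type v) [AddCommGroup V] [Module k V] [HopfRep.Comod k A V], Module.Finite k V →
        ∀ π : V →ₗ[k] k, Function.Surjective π →
          LinearMap.rTensor A π ∘ₗ HopfRep.Comod.coact (k := k) (A := A) (V := V) =
            (TensorProduct.mk k k A).flip (1 : A) ∘ₗ π →
          ∃ v ∈ HopfRep.fixedPts k A V, π v ≠ 0 := by
  constructor
  · intro hred V _ _ _ _ π hsurj hπ
    letI : HopfRep.Comod k A k := HopfRep.Comod.trivial k A k
    have h1 : (1 : k) ∈ HopfRep.fixedPts k A k := by
      show (TensorProduct.mk k k A).flip (1 : A) (1 : k) = (1 : k) ⊗ₜ[k] (1 : A)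
      rfl
    obtain ⟨v, hv, hπv⟩ := Groth.Agent.Lib.Helper84.exists_fixed_lift hred V k π
      ((Groth.Agent.Lib.Helper75.isComodHom_iff (A := A) π).1 hπ.symm) hsurj 1 h1
    exact ⟨v, hv, by rw [hπv]; exact one_ne_zero⟩
  · intro h
    apply Groth.Agent.Lib.Helper84.isLinearlyReductive_of_hasLift
    exact Groth.Agent.Lib.Helper84.hasLift_of_forall_exists_fixedPt h

end Groth.Agent.S16709
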