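import Groth.Statements.S16718
import Groth.Agent.Lib.Helper75.ComodModule

set_option autoImplicit false
universe u v w
open TensorProduct
open GLin

namespace Groth.Agent.S16718

/-- Let k be a field, A a finitely generated commutative Hopf algebra over k (an affine algebraic group
G), R a finitely generated commutative k-algebra carrying an A-comodule structure whose coaction is
an algebra homomorphism (an action of G on X = Spec R), and I an ideal of R which is a subcomodule
(a G-invariant closed subscheme Z of X). Then there is a finite-dimensional subcomodule W of R with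
W ⊆ I generating I as an ideal; equivalently there is a G-equivariant morphism f from X to the
affine space of a finite-dimensional G-representation with f⁻¹(0) = Z as closed subschemes. -/
theorem result (k : Type u) [Field k]
    (A : Type v) [CommRing A] [HopfAlgebra k A] (hA : Algebra.FiniteType k A)
    (R : Type w) [CommRing R] [Algebra k R] [HopfRep.Comod k A R] [GLin.IsCoactAlg k A R]
    (hR : Algebra.FiniteType k R) (I : Ideal R)
    (hI : HopfRep.IsSubcomod (k := k) (A := A) (I.restrictScalars k)) :
    ∃ W : Submodule k R, Module.Finite k W ∧ HopfRep.IsSubcomod (k := k) (A := A) W ∧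
      W ≤ I.restrictScalars k ∧ Ideal.span (W : Set R) = I := by
  classical
  have hnoeth : IsNoetherianRing R := Algebra.FiniteType.isNoetherianRing k R
  obtain ⟨s, hs⟩ := (isNoetherianRing_iff_ideal_fg R).mp hnoeth I
  refine ⟨⨆ f ∈ s, Groth.Agent.Lib.Helper75.orbit k A f, ?_, ?_, ?_, ?_⟩
  · have : ∀ t : Finset R, Module.Finite k (↥(⨆ f ∈ t, Groth.Agent.Lib.Helper75.orbit k A f)) := by
      intro t
      induction t using Finset.induction_on with
      | empty =>
        have : (⨆ f ∈ (∅ : Finset R), Groth.Agent.Lib.Helper75.orbit k A f) = ⊥ := by simp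
        rw [this]
        infer_instance
      | insert a t hat ih =>
        rw [Finset.iSup_insert]
        exact Submodule.finite_sup _ _
    exact this s
  · rw [Groth.Agent.Lib.Helper75.isSubcomod_iff]
    intro φ w hw
    refine Submodule.iSup_induction (p := fun f => ⨆ (_ : f ∈ s), Groth.Agent.Lib.Helper75.orbit k A f)
      (motive := fun w => Groth.Agent.Lib.Helper75.act φ w ∈
        ⨆ f ∈ s, Groth.Agent.Lib.Helper75.orbit k A f) hw ?_ ?_ ?_
    · intro f x hx
      by_cases hf : f ∈ s
      · simp only [hf, iSup_pos] at hx
        have h1 := (Groth.Agent.Lib.Helper75.isSubcomod_iff _).1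
          (Groth.Agent.Lib.Helper75.isSubcomod_orbit (K := k) (A := A) f) φ x hx
        exact (le_iSup₂ (f := fun f (_ : f ∈ s) => Groth.Agent.Lib.Helper75.orbit k A f) f hf) h1
      · simp only [hf, iSup_false, Submodule.mem_bot] at hx
        rw [hx, map_zero]
        exact Submodule.zero_mem _
    · rw [map_zero]
      exact Submodule.zero_mem _
    · intro x y hx hy
      rw [map_add]
      exact Submodule.add_mem _ hx hy
  · refine iSup₂_le fun f hf => ?_
    apply Groth.Agent.Lib.Helper75.orbit_le hI
    show f ∈ I
    rw [← hs]
    exact Ideal.subset_span hf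
  · apply le_antisymm
    · rw [Ideal.span_le]
      intro x hx
      have hle : (⨆ f ∈ s, Groth.Agent.Lib.Helper75.orbit k A f) ≤ I.restrictScalars k := by
        refine iSup₂_le fun f hf => ?_
        apply Groth.Agent.Lib.Helper75.orbit_le hI
        show f ∈ I
        rw [← hs]
        exact Ideal.subset_span hf
      exact hle hx
    · rw [← hs, Ideal.span_le]
      intro f hf
      apply Ideal.subset_span
      have h1 : f ∈ Groth.Agent.Lib.Helper75.orbit k A f := Groth.Agent.Lib.Helper75.self_mem_orbit f
      exact (le_iSup₂ (f := fun f (_ : f ∈ s) => Groth.Agent.Lib.Helper75.orbit k A f) f hf) h1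

end Groth.Agent.S16718
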