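import Groth.Statements.S16737
import Mathlib.Algebra.CharP.Invertible
import Mathlib.Algebra.MvPolynomial.PDeriv

set_option autoImplicit false
universe u v
open DeRham

namespace Groth.Agent.S16737

/-- The case of affine space over an affine base of characteristic p, in degree zero. Let p be a prime
and R a commutative ring with p = 0 in R. For a polynomial f over R in any set of variables t_i, the
Kähler differential df in Ω_{R[t]/R} vanishes if and only if f is a polynomial in the p-th powers of
the variables, f = g(t_i^p). Equivalently, the functions on affine space over R killed by the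
differential of the de Rham complex are exactly the functions on its Frobenius twist. (The published
computation is for finitely many variables over a noetherian base of characteristic p; the statement
here allows any commutative ring with p = 0 and any set of variables.) -/
theorem result (p : ℕ) [Fact p.Prime]
    (R : Type u) [CommRing R] [CharP R p] (σ : Type v) (f : MvPolynomial σ R) :
    KaehlerDifferential.D R (MvPolynomial σ R) f = 0 ↔
      ∃ g : MvPolynomial σ R, f = MvPolynomial.expand p g := by
  classical
  have hp : p.Prime := Fact.out
  constructor
  · intro hD
    have hpd : ∀ i : σ, MvPolynomial.pderiv i f = 0 := by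
      intro i
      rw [← KaehlerDifferential.mvPolynomialBasis_repr_apply, hD, map_zero]
      rfl
    have hdvd : ∀ m ∈ f.support, ∀ i : σ, p ∣ m i := by
      intro m hm i
      by_contra hnd
      have hmi : m i ≠ 0 := by
        intro h0
        rw [h0] at hnd
        exact hnd (dvd_zero p)
      have h1 := MvPolynomial.coeff_pderiv (i := i) f (m - Finsupp.single i 1)
      have hle : Finsupp.single i 1 ≤ m := by
        intro j
        by_cases hj : j = i
        · subst hj
          simp only [Finsupp.single_eq_same]
          omega
        · rw [Finsupp.single_eq_of_ne hj]
          exact Nat.zero_le _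
      rw [hpd i, MvPolynomial.coeff_zero, tsub_add_cancel_of_le hle] at h1
      have h2 : ((((m - Finsupp.single i 1 : σ →₀ ℕ) i : ℕ) : R)) + 1 = ((m i : ℕ) : R) := by
        have : (m - Finsupp.single i 1 : σ →₀ ℕ) i + 1 = m i := by
          simp only [Finsupp.coe_tsub, Pi.sub_apply, Finsupp.single_eq_same]
          omega
        rw [← this]
        push_cast
        rfl
      rw [h2] at h1
      have hu : IsUnit ((m i : ℕ) : R) := (CharP.isUnit_natCast_iff hp).2 hnd
      have h3 : MvPolynomial.coeff m f = 0 := by
        have := hu.mul_left_eq_zero.mp h1.symm
        exact this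
      exact (MvPolynomial.mem_support_iff.mp hm) h3
    refine ⟨∑ m ∈ f.support, MvPolynomial.monomial (m.mapRange (· / p) (by simp))
      (MvPolynomial.coeff m f), ?_⟩
    rw [map_sum]
    conv_lhs => rw [f.as_sum]
    refine Finset.sum_congr rfl fun m hm => ?_
    rw [MvPolynomial.expand_monomial]
    have hm' : p • (m.mapRange (· / p) (by simp) : σ →₀ ℕ) = m := by
      ext i
      rw [Finsupp.smul_apply, Finsupp.mapRange_apply, smul_eq_mul]
      exact Nat.mul_div_cancel' (hdvd m hm i)
    rw [hm']
  · rintro ⟨g, rfl⟩
    induction g using MvPolynomial.induction_on with
    | C a =>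
      rw [MvPolynomial.expand_C]
      exact (KaehlerDifferential.D R (MvPolynomial σ R)).map_algebraMap a
    | add g h hg hh => rw [map_add, map_add, hg, hh, add_zero]
    | mul_X g j hg =>
      rw [map_mul, MvPolynomial.expand_X, Derivation.leibniz, hg, smul_zero, add_zero,
        Derivation.leibniz_pow]
      have : (p : ℕ) • ((MvPolynomial.X j : MvPolynomial σ R) ^ (p - 1) •
          KaehlerDifferential.D R (MvPolynomial σ R) (MvPolynomial.X j)) = 0 := by
        rw [← Nat.cast_smul_eq_nsmul R, CharP.cast_eq_zero R p, zero_smul]
      rw [this, smul_zero]

end Groth.Agent.S16737
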