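import Groth.Statements.S16742
import Groth.Agent.Lib.Helper54.LocalFlat2
import Mathlib

set_option autoImplicit false
universe u
open CAlg

namespace Groth.Agent.S16742

open TensorProduct in
/-- a general lemma: in a flat `R`-module, the `r`-torsion is `(ann r) • M`. -/
theorem exists_of_smul_eq_zero {R : Type*} [CommRing R] {M : Type*} [AddCommGroup M] [Module R M]
    [Module.Flat R M] (r : R) (m : M) (h : r • m = 0) :
    ∃ (k : ℕ) (a : Fin k → R) (y : Fin k → M), m = ∑ j, a j • y j ∧ ∀ j, r * a j = 0 := by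
  have h' : ∑ i : Unit, (fun _ : Unit => r) i • (fun _ : Unit => m) i = 0 := by simpa using h
  obtain ⟨k, a, y, h1, h2⟩ := Module.Flat.isTrivialRelation_of_sum_smul_eq_zero h'
  refine ⟨k, a (), y, h1 (), fun j => ?_⟩
  simpa using h2 j

theorem zmod_sq_ann (p : ℕ) [Fact p.Prime] (c : ZMod (p ^ 2)) (h : (p : ZMod (p ^ 2)) * c = 0) :
    ∃ c' : ZMod (p ^ 2), c = (p : ZMod (p ^ 2)) * c' := by
  have hp : p.Prime := Fact.out
  have : NeZero (p ^ 2) := ⟨pow_ne_zero _ hp.ne_zero⟩
  obtain ⟨n, rfl⟩ : ∃ n : ℕ, c = (n : ZMod (p ^ 2)) := ⟨c.val, (ZMod.natCast_zmod_val c).symm⟩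
  rw [← Nat.cast_mul, ZMod.natCast_eq_zero_iff] at h
  have h2 : p ∣ n := by
    rw [pow_two] at h
    exact Nat.dvd_of_mul_dvd_mul_left hp.pos h
  obtain ⟨m, rfl⟩ := h2
  exact ⟨(m : ZMod (p ^ 2)), by push_cast; ring⟩

theorem p_sq_eq_zero (p : ℕ) (Al : Type*) [CommRing Al] [Algebra (ZMod (p ^ 2)) Al] :
    (p : Al) * (p : Al) = 0 := by
  have h : ((p ^ 2 : ℕ) : ZMod (p ^ 2)) = 0 := ZMod.natCast_self _
  have := congrArg (algebraMap (ZMod (p ^ 2)) Al) h
  simpa [pow_two] using this

end Groth.Agent.S16742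

namespace Groth.Agent.S16742

/-- The equivalence in affine form, with flatness of the reduction in place of smoothness. Let p be a
prime, A~ a commutative ring flat over Z/p^2 and B~ an A~-algebra such that B~/pB~ is flat over
A~/pA~. Then B~ is flat over A~ if and only if every element of B~ killed by p is a multiple of p;
equivalently multiplication by p identifies B~/pB~ with pB~. (The published statement assumes the
reduction smooth over A~/pA~ and the schemes noetherian, and phrases (b) as B~ being a lifting, that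
is flat over A~; the statement here assumes only that the reduction is flat, where the equivalence
still holds by the local flatness criterion for the square-zero ideal generated by p.) -/
theorem result (p : ℕ) [Fact p.Prime]
    (Al : Type u) [CommRing Al] [Algebra (ZMod (p ^ 2)) Al] [Module.Flat (ZMod (p ^ 2)) Al]
    (Bl : Type u) [CommRing Bl] [Algebra Al Bl]
    (hB : Module.Flat (Al ⧸ Ideal.span {(p : Al)})
      (Bl ⧸ (Ideal.span {(p : Al)}).map (algebraMap Al Bl))) :
    Module.Flat Al Bl ↔ ∀ b : Bl, (p : Bl) * b = 0 → b ∈ Ideal.span {(p : Bl)} := by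
  classical
  set I : Ideal Al := Ideal.span {(p : Al)} with hI
  have hpp : (p : Al) * (p : Al) = 0 := p_sq_eq_zero p Al
  have hpI : (p : Al) ∈ I := Ideal.subset_span rfl
  constructor
  · intro hflat b hb
    have hb' : (p : Al) • b = 0 := by
      rw [Algebra.smul_def, map_natCast]; exact hb
    obtain ⟨k, a, y, h1, h2⟩ := exists_of_smul_eq_zero (p : Al) b hb'
    rw [h1]
    refine Ideal.sum_mem _ fun j _ => ?_
    have h3 : ((p : ZMod (p ^ 2)) : ZMod (p ^ 2)) • a j = 0 := by
      rw [Algebra.smul_def, map_natCast]; exact h2 j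
    obtain ⟨k', c, z, h4, h5⟩ := exists_of_smul_eq_zero (p : ZMod (p ^ 2)) (a j) h3
    rw [h4, Finset.sum_smul]
    refine Ideal.sum_mem _ fun i _ => ?_
    obtain ⟨c', hc'⟩ := zmod_sq_ann p (c i) (h5 i)
    rw [hc', Algebra.smul_def, Algebra.smul_def, map_mul, map_mul, map_mul, map_natCast,
      map_natCast, mul_assoc, mul_assoc]
    exact Ideal.mul_mem_right _ _ (Ideal.subset_span rfl)
  · intro htors
    have hnil : IsNilpotent I := by
      refine ⟨2, ?_⟩
      rw [hI, Ideal.span_singleton_pow, pow_two, hpp]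
      simp
    have : Module.Flat (Al ⧸ I) (TensorProduct Al (Al ⧸ I) Bl) :=
      Module.Flat.of_linearEquiv
        (Algebra.TensorProduct.quotIdealMapEquivQuotTensor Bl I).symm.toLinearEquiv
    refine Groth.Agent.Lib.Helper54.LocalFlat.flat_of_isNilpotent I Bl hnil ?_
    rw [injective_iff_map_eq_zero]
    intro x hx
    have hform : ∀ x : TensorProduct Al I Bl, ∃ b : Bl, x = (⟨(p : Al), hpI⟩ : I) ⊗ₜ[Al] b := by
      intro x
      induction x using TensorProduct.induction_on with
      | zero => exact ⟨0, by simp⟩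
      | tmul i b =>
        obtain ⟨i, hi⟩ := i
        obtain ⟨a, rfl⟩ := Ideal.mem_span_singleton'.1 hi
        refine ⟨a • b, ?_⟩
        rw [TensorProduct.tmul_smul, TensorProduct.smul_tmul']
        rfl
      | add x y hx hy =>
        obtain ⟨b1, rfl⟩ := hx
        obtain ⟨b2, rfl⟩ := hy
        exact ⟨b1 + b2, by rw [TensorProduct.tmul_add]⟩
    obtain ⟨b, rfl⟩ := hform x
    rw [LinearMap.rTensor_tmul] at hx
    have h6 := congrArg (TensorProduct.lid Al Bl) hx
    rw [TensorProduct.lid_tmul, map_zero] at h6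
    change (p : Al) • b = 0 at h6
    rw [Algebra.smul_def, map_natCast] at h6
    obtain ⟨b', hb'⟩ := Ideal.mem_span_singleton'.1 (htors b h6)
    have h7 : b = (p : Al) • b' := by
      rw [Algebra.smul_def, map_natCast, mul_comm]; exact hb'.symm
    rw [h7, TensorProduct.tmul_smul, TensorProduct.smul_tmul']
    have h8 : (p : Al) • (⟨(p : Al), hpI⟩ : I) = 0 := by
      apply Subtype.ext
      exact hpp
    rw [h8, TensorProduct.zero_tmul]

end Groth.Agent.S16742
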