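import Groth.Statements.S16744
import Mathlib
import Groth.Agent.Lib.Helper85.CartierLog

set_option autoImplicit false
universe u
open DeRham

namespace Groth.Agent.S16744

open Groth.Agent.Lib.Helper85.CartierLog MvPolynomial

section Aux

variable {R : Type u} [CommRing R] {n r : ℕ} (hr : r ≤ n) {L : Type u} [AddCommGroup L]
  [Module (MvPolynomial (Fin n) R) L]
  (ι : (Ω[MvPolynomial (Fin n) R⁄R]) →ₗ[MvPolynomial (Fin n) R] L) (dl : Fin r → L)

/-- the log indices. -/
def lgr (n r : ℕ) : Fin n → Prop := fun ν => (ν : ℕ) < r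

instance (n r : ℕ) : DecidablePred (lgr n r) := fun ν => Nat.decLt _ _

/-- the candidate basis `dlog t_ν` (`ν < r`), `dt_ν` (`ν ≥ r`). -/
noncomputable def thv (ν : Fin n) : L :=
  if h : (ν : ℕ) < r then dl ⟨ν, h⟩ else ι (KaehlerDifferential.D R (MvPolynomial (Fin n) R) (X ν))

theorem thv_castLE (i : Fin r) : thv ι dl (Fin.castLE hr i) = dl i := by
  unfold thv
  rw [dif_pos (by simp)]
  congr 1

theorem ι_D_X
    (hL : LogDiff.IsLog (KaehlerDifferential.D R (MvPolynomial (Fin n) R))
      (fun i : Fin r => (MvPolynomial.X (Fin.castLE hr i) : MvPolynomial (Fin n) R)) ι dl)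
    (ν : Fin n) :
    ι (KaehlerDifferential.D R (MvPolynomial (Fin n) R) (X ν)) =
      kap R (lgr n r) ν • thv ι dl ν := by
  unfold kap thv
  by_cases h' : lgr n r ν
  · have h : (ν : ℕ) < r := h'
    rw [if_pos h', dif_pos h]
    have := hL.1 ⟨ν, h⟩
    simp only at this
    have e1 : Fin.castLE hr ⟨ν, h⟩ = ν := Fin.ext rfl
    rw [e1] at this
    exact this.symm
  · have h : ¬ (ν : ℕ) < r := h'
    rw [if_neg h', dif_neg h, one_smul]

theorem thv_span
    (hL : LogDiff.IsLog (KaehlerDifferential.D R (MvPolynomial (Fin n) R))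
      (fun i : Fin r => (MvPolynomial.X (Fin.castLE hr i) : MvPolynomial (Fin n) R)) ι dl) :
    Submodule.span (MvPolynomial (Fin n) R) (Set.range (thv ι dl)) = ⊤ := by
  rw [eq_top_iff, ← hL.2.1, Submodule.span_le]
  rintro x (⟨ω, rfl⟩ | ⟨i, rfl⟩)
  · have hω : ω ∈ Submodule.span (MvPolynomial (Fin n) R)
        (Set.range (KaehlerDifferential.mvPolynomialBasis R (Fin n))) := by
      rw [(KaehlerDifferential.mvPolynomialBasis R (Fin n)).span_eq]
      exact Submodule.mem_top
    induction hω using Submodule.span_induction with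
    | mem y hy =>
      obtain ⟨ν, rfl⟩ := hy
      rw [KaehlerDifferential.mvPolynomialBasis_apply, ι_D_X hr ι dl hL]
      exact Submodule.smul_mem _ _ (Submodule.subset_span ⟨ν, rfl⟩)
    | zero => rw [map_zero]; exact Submodule.zero_mem _
    | add y z _ _ hy hz => rw [map_add]; exact Submodule.add_mem _ hy hz
    | smul c y _ hy => rw [map_smul]; exact Submodule.smul_mem _ _ hy
  · rw [← thv_castLE hr ι dl i]
    exact Submodule.subset_span ⟨_, rfl⟩

theorem thv_li
    (hL : LogDiff.IsLog (KaehlerDifferential.D R (MvPolynomial (Fin n) R))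
      (fun i : Fin r => (MvPolynomial.X (Fin.castLE hr i) : MvPolynomial (Fin n) R)) ι dl) :
    LinearIndependent (MvPolynomial (Fin n) R) (thv ι dl) := by
  classical
  rw [Fintype.linearIndependent_iff]
  intro c hc
  set T : MvPolynomial (Fin n) R := ∏ i : Fin r, X (Fin.castLE hr i) with hT
  have hTreg : IsRegular T := IsRegular.prod (fun i _ => isRegular_X)
  -- cofactors
  have hu : ∀ ν : Fin n, ∃ u : MvPolynomial (Fin n) R, u * kap R (lgr n r) ν = T := by
    intro ν
    unfold kap
    by_cases h' : lgr n r ν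
    · have h : (ν : ℕ) < r := h'
      rw [if_pos h']
      refine ⟨∏ i ∈ Finset.univ.erase (⟨ν, h⟩ : Fin r), X (Fin.castLE hr i), ?_⟩
      rw [mul_comm, hT]
      have e1 : (X ν : MvPolynomial (Fin n) R) = X (Fin.castLE hr ⟨ν, h⟩) := by
        congr 1
      rw [e1]
      exact Finset.mul_prod_erase Finset.univ (fun i : Fin r => (X (Fin.castLE hr i) :
        MvPolynomial (Fin n) R)) (Finset.mem_univ _)
    · rw [if_neg h']
      exact ⟨T, mul_one _⟩
  choose u hu using hu
  have h1 : ι (∑ ν, (c ν * u ν) • KaehlerDifferential.D R (MvPolynomial (Fin n) R) (X ν)) = 0 := by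
    rw [map_sum]
    have : ∀ ν, ι ((c ν * u ν) • KaehlerDifferential.D R (MvPolynomial (Fin n) R) (X ν)) =
        T • (c ν • thv ι dl ν) := by
      intro ν
      rw [map_smul, ι_D_X hr ι dl hL, smul_smul, smul_smul, mul_assoc, hu, mul_comm]
    rw [Finset.sum_congr rfl (fun ν _ => this ν), ← Finset.smul_sum, hc, smul_zero]
  obtain ⟨m, hm⟩ := (hL.2.2.2 _).mp h1
  rw [Finset.smul_sum] at hm
  have hm' : ∑ ν, (T ^ m * (c ν * u ν)) • KaehlerDifferential.mvPolynomialBasis R (Fin n) ν = 0 := by
    rw [← hm]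
    apply Finset.sum_congr rfl
    intro ν _
    rw [KaehlerDifferential.mvPolynomialBasis_apply, smul_smul]
  have h2 := Fintype.linearIndependent_iff.mp
    (KaehlerDifferential.mvPolynomialBasis R (Fin n)).linearIndependent _ hm'
  intro ν
  have h3 := h2 ν
  have h4 : T ^ (m + 1) * c ν = 0 := by
    have : T ^ (m + 1) * c ν = T ^ m * (c ν * u ν) * kap R (lgr n r) ν := by
      rw [pow_succ, mul_assoc, mul_assoc, mul_assoc, hu, mul_comm T]
    rw [this, h3, zero_mul]
  exact (hTreg.pow (m + 1)).left (by simpa using h4)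

/-- admissible factors: `ι (d b)` or `dl i`. -/
def AdmP : L → Prop := fun v =>
  (∃ b, v = ι (KaehlerDifferential.D R (MvPolynomial (Fin n) R) b)) ∨ ∃ i, v = dl i

end Aux

open exteriorPower in
/-- The case of affine n-space over an affine base of characteristic p with boundary divisor t_1⋯t_r =
0, all degrees. Let p be a prime, R a commutative ring with p = 0 in R, B = R[t_1, …, t_n] and r ≤
n. Let (L, ι, dl) be the module of differentials of B over R with logarithmic poles along t_1, …,
t_r, pinned by its defining properties (t_i · dl_i = ι(dt_i); ι(Ω_{B/R}) and the dl_i generate; no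
(t_1⋯t_r)-torsion; the kernel of ι is the (t_1⋯t_r)-power torsion), and let d be the logarithmic de
Rham differential on the exterior powers of L (the de Rham rule for ι ∘ d together with d(dl_i) = 0,
and d ∘ d = 0). Put w_ν = dl_ν for ν < r and w_ν = ι(t_ν^{p-1} dt_ν) for ν ≥ r (indices from 0), and
for an a-element set s of indices let e_s be the wedge of the w_ν, ν ∈ s, in increasing order. Then
an a-form with logarithmic poles is closed exactly when it is an exact form plus a combination Σ_s
g_s(t_1^p, …, t_n^p) · e_s with coefficients polynomials in the p-th powers of the variables, and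
such a combination is exact only if every g_s vanishes: the a-th cohomology of the logarithmic de
Rham complex of affine n-space is free over R[t_1^p, …, t_n^p] on the classes of the e_s. -/
theorem result (p : ℕ) [Fact p.Prime]
    (R : Type u) [CommRing R] [CharP R p] (n r a : ℕ) (hr : r ≤ n)
    (L : Type u) [AddCommGroup L] [Module (MvPolynomial (Fin n) R) L] [Module R L]
    [IsScalarTower R (MvPolynomial (Fin n) R) L]
    (ι : (Ω[MvPolynomial (Fin n) R⁄R]) →ₗ[MvPolynomial (Fin n) R] L) (dl : Fin r → L)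
    (hL : LogDiff.IsLog (KaehlerDifferential.D R (MvPolynomial (Fin n) R))
      (fun i : Fin r => (MvPolynomial.X (Fin.castLE hr i) : MvPolynomial (Fin n) R)) ι dl)
    (d : ∀ q : ℕ, ↥(⋀[MvPolynomial (Fin n) R]^q L) →ₗ[R] ↥(⋀[MvPolynomial (Fin n) R]^(q + 1) L))
    (hd : DeRham.IsDiff (ι.compDer (KaehlerDifferential.D R (MvPolynomial (Fin n) R))) d)
    (hlog : LogDiff.IsLogRule (KaehlerDifferential.D R (MvPolynomial (Fin n) R)) ι dl d)
    (w : Fin n → L) (hw : ∀ i : Fin r, w (Fin.castLE hr i) = dl i)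
    (hw' : ∀ ν : Fin n, r ≤ (ν : ℕ) → w ν = ι (((MvPolynomial.X ν : MvPolynomial (Fin n) R) ^ (p - 1)) •
      KaehlerDifferential.D R (MvPolynomial (Fin n) R) (MvPolynomial.X ν)))
    (e : Finset (Fin n) → ↥(⋀[MvPolynomial (Fin n) R]^a L))
    (he : ∀ (s : Finset (Fin n)) (hs : s.card = a),
      e s = exteriorPower.ιMulti (MvPolynomial (Fin n) R) a (fun j => w (s.orderEmbOfFin hs j))) :
    (∀ ω, ω ∈ DeRham.cocycles d a ↔
      ∃ (g : Finset (Fin n) → MvPolynomial (Fin n) R) (η : ↥(⋀[MvPolynomial (Fin n) R]^a L)),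
        η ∈ DeRham.coboundaries d a ∧
          ω = η + ∑ s ∈ Finset.powersetCard a Finset.univ, MvPolynomial.expand p (g s) • e s) ∧
    (∀ g : Finset (Fin n) → MvPolynomial (Fin n) R,
      (∑ s ∈ Finset.powersetCard a Finset.univ, MvPolynomial.expand p (g s) • e s) ∈ DeRham.coboundaries d a →
        ∀ s ∈ Finset.powersetCard a (Finset.univ : Finset (Fin n)), g s = 0) := by
  classical
  have hp : p.Prime := Fact.out
  set θ : Module.Basis (Fin n) (MvPolynomial (Fin n) R) L :=
    Module.Basis.mk (thv_li hr ι dl hL) (thv_span hr ι dl hL).ge with hθdef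
  have hθ : ∀ ν, θ ν = thv ι dl ν := fun ν => Module.Basis.mk_apply _ _ ν
  have hδ : ∀ ν, (ι.compDer (KaehlerDifferential.D R (MvPolynomial (Fin n) R))) (X ν) =
      kap R (lgr n r) ν • θ ν := by
    intro ν
    rw [hθ]
    exact ι_D_X hr ι dl hL ν
  have hAθ : ∀ ν, AdmP ι dl (θ ν) := by
    intro ν
    rw [hθ]
    unfold thv
    by_cases h : (ν : ℕ) < r
    · rw [dif_pos h]
      exact Or.inr ⟨_, rfl⟩
    · rw [dif_neg h]
      exact Or.inl ⟨_, rfl⟩
  have hrule : ∀ (q : ℕ) (b₀ : MvPolynomial (Fin n) R) (v : Fin q → L),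
      (∀ k, AdmP ι dl (v k)) →
      d q (b₀ • exteriorPower.ιMulti (MvPolynomial (Fin n) R) q v) =
        exteriorPower.ιMulti (MvPolynomial (Fin n) R) (q + 1)
          (Fin.cons ((ι.compDer (KaehlerDifferential.D R (MvPolynomial (Fin n) R))) b₀) v) :=
    fun q b₀ v hv => hlog q b₀ v hv
  have hdd := hd.2
  have hws : w = ws (lgr n r) θ p := by
    funext ν
    unfold ws kapp
    by_cases h' : lgr n r ν
    · have h : (ν : ℕ) < r := h'
      rw [if_pos h', one_smul, hθ]
      have := hw ⟨ν, h⟩
      have e1 : Fin.castLE hr ⟨ν, h⟩ = ν := Fin.ext rfl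
      rw [e1] at this
      rw [this, thv, dif_pos h]
    · have h : ¬ (ν : ℕ) < r := h'
      rw [if_neg h', hw' ν (not_lt.mp h), map_smul, hθ, thv, dif_neg h]
  have heE : ∀ s : Set.powersetCard (Fin n) a,
      e s.val = exteriorPower.ιMulti_family (MvPolynomial (Fin n) R) a (ws (lgr n r) θ p) s := by
    intro s
    rw [he s.val s.prop, ← hws]
    rfl
  have hsum : ∀ g : Finset (Fin n) → MvPolynomial (Fin n) R,
      ∑ s ∈ Finset.powersetCard a Finset.univ, MvPolynomial.expand p (g s) • e s =
      ∑ s : Set.powersetCard (Fin n) a, MvPolynomial.expand p (g s.val) •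
        exteriorPower.ιMulti_family (MvPolynomial (Fin n) R) a (ws (lgr n r) θ p) s := by
    intro g
    rw [Finset.sum_subtype (Finset.powersetCard a Finset.univ)
      (p := fun s => s ∈ Set.powersetCard (Fin n) a)
      (fun s => by simp [Finset.mem_powersetCard])]
    apply Finset.sum_congr rfl
    intro s _
    rw [heE]
  constructor
  · intro ω
    rw [cartier_closed_iff (lgr n r) θ _ d (AdmP ι dl) p hδ hAθ hrule hdd a ω]
    constructor
    · rintro ⟨g', η, hη, hω⟩
      refine ⟨fun s => if h : s.card = a then g' ⟨s, h⟩ else 0, η, hη, ?_⟩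
      rw [hsum, hω]
      congr 1
      apply Finset.sum_congr rfl
      intro s _
      have hs : s.val.card = a := s.prop
      rw [dif_pos hs]
    · rintro ⟨g, η, hη, hω⟩
      exact ⟨fun s => g s.val, η, hη, by rw [hω, hsum]⟩
  · intro g hg s hs
    rw [hsum] at hg
    exact cartier_indep (lgr n r) θ _ d (AdmP ι dl) p hδ hAθ hrule hdd a (fun s => g s.val) hg
      ⟨s, (Finset.mem_powersetCard.mp hs).2⟩

end Groth.Agent.S16744
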