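import Groth.Statements.S16762
-- import your own Groth.Agent.* helpers here

set_option autoImplicit false
universe u
open CAlgX

namespace Groth.Agent.S16762

open TensorProduct in
theorem aux (A A' : Type u) [CommRing A] [CommRing A']
    [Algebra A A'] [Module.FaithfullyFlat A A'] {M N : Type u} [AddCommGroup M] [Module A M]
    [AddCommGroup N] [Module A N] (u : M →ₗ[A] N) :
    CAlgX.UniversallyInjective A u ↔ CAlgX.UniversallyInjective A' (u.baseChange A') := by
  constructor
  · intro h Q' _ _
    letI : Module A Q' := Module.compHom Q' (algebraMap A A')
    haveI : IsScalarTower A A' Q' := IsScalarTower.of_algebraMap_smul fun _ _ => rfl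
    -- the comparison isomorphism
    let e : ∀ (P : Type u) [AddCommGroup P] [Module A P],
        (A' ⊗[A] P) ⊗[A'] Q' ≃+ P ⊗[A] Q' := fun P _ _ =>
      ((TensorProduct.comm A' (A' ⊗[A] P) Q').toAddEquiv.trans
        (TensorProduct.AlgebraTensorModule.cancelBaseChange A A' A' Q' P).toAddEquiv).trans
        (TensorProduct.comm A Q' P).toAddEquiv
    have he : ∀ (P : Type u) [AddCommGroup P] [Module A P] (a : A') (m : P) (q : Q'),
        e P ((a ⊗ₜ[A] m) ⊗ₜ[A'] q) = m ⊗ₜ[A] (a • q) := by
      intro P _ _ a m q
      simp [e]
    have hcomm : ∀ x, e N ((u.baseChange A').rTensor Q' x) = u.rTensor Q' (e M x) := by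
      intro x
      induction x using TensorProduct.induction_on with
      | zero => simp
      | add x y hx hy => simp only [map_add, hx, hy]
      | tmul y q =>
        induction y using TensorProduct.induction_on with
        | zero => simp
        | add y z hy hz => simp only [TensorProduct.add_tmul, map_add, hy, hz]
        | tmul a m =>
          rw [LinearMap.rTensor_tmul, LinearMap.baseChange_tmul, he, he, LinearMap.rTensor_tmul]
    intro x y hxy
    apply (e M).injective
    apply h Q'
    rw [← hcomm, ← hcomm, hxy]
  · intro h Q _ _
    rw [← Module.FaithfullyFlat.lTensor_injective_iff_injective A A']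
    have hcomm : ∀ x, TensorProduct.AlgebraTensorModule.distribBaseChange A A' N Q
        ((u.rTensor Q).lTensor A' x) =
        (u.baseChange A').rTensor (A' ⊗[A] Q)
          (TensorProduct.AlgebraTensorModule.distribBaseChange A A' M Q x) := by
      intro x
      induction x using TensorProduct.induction_on with
      | zero => simp
      | add x y hx hy => simp only [map_add, hx, hy]
      | tmul a y =>
        induction y using TensorProduct.induction_on with
        | zero => simp
        | add y z hy hz => simp only [TensorProduct.tmul_add, map_add, hy, hz]
        | tmul m q =>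
          rw [LinearMap.lTensor_tmul, LinearMap.rTensor_tmul,
            TensorProduct.AlgebraTensorModule.distribBaseChange_tmul,
            TensorProduct.AlgebraTensorModule.distribBaseChange_tmul, LinearMap.rTensor_tmul,
            LinearMap.baseChange_tmul]
    intro x y hxy
    apply (TensorProduct.AlgebraTensorModule.distribBaseChange A A' M Q).injective
    apply h (A' ⊗[A] Q)
    rw [← hcomm, ← hcomm, hxy]


/-- Let A → A' be faithfully flat and u : M → N a map of A-modules. Then u is universally injective (u ⊗
id_Q injective for every A-module Q) if and only if its base change A' ⊗_A M → A' ⊗_A N is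
universally injective as a map of A'-modules. -/
theorem result (A A' : Type u) [CommRing A] [CommRing A']
    [Algebra A A'] [Module.FaithfullyFlat A A'] {M N : Type u} [AddCommGroup M] [Module A M]
    [AddCommGroup N] [Module A N] (u : M →ₗ[A] N) :
    CAlgX.UniversallyInjective A u ↔ CAlgX.UniversallyInjective A' (u.baseChange A') := by
  exact aux A A' u

end Groth.Agent.S16762
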