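import Groth.Statements.S16771
import Groth.Agent.Lib.Helper16.FixFG

set_option autoImplicit false
open CategoryTheory MonoidalCategory CartesianMonoidalCategory MonObj GrpObj AlgebraicGeometry
universe u
open SGA3x

namespace Groth.Agent.S16771

/-- Let G be an affine group scheme of finite presentation over a scheme S, Y ⊆ G a closed subscheme
which is finite, flat and of finite presentation over S, and Y' ⊆ G a closed subscheme of finite
presentation over S. Then the transporter of Y into Y' (points g of G such that g y g⁻¹ is a point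
of Y' for every point y of Y after any base change) is representable by a closed subscheme of G of
finite presentation over S. -/
theorem result {S : Scheme.{u}} (G Y Y' : Over S) [GrpObj G]
    (hGa : IsAffineHom G.hom) (hGfp : LocallyOfFinitePresentation G.hom)
    (y : Y ⟶ G) (hy : IsClosedImmersion y.left) (hYf : IsFinite Y.hom) (hYfl : Flat Y.hom)
    (hYfp : LocallyOfFinitePresentation Y.hom)
    (y' : Y' ⟶ G) (hy' : IsClosedImmersion y'.left) (hY'fp : LocallyOfFinitePresentation Y'.hom) :
    ∃ (C : Over S) (c : C ⟶ G), IsClosedImmersion c.left ∧ LocallyOfFinitePresentation C.hom ∧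
      ∀ (X : Over S) (g : X ⟶ G), (∃ z : X ⟶ C, z ≫ c = g) ↔
        ∀ (X' : Over S) (x : X' ⟶ X) (a : X' ⟶ Y), ∃ a' : X' ⟶ Y', (x ≫ g) * (a ≫ y) * (x ≫ g)⁻¹ = a' ≫ y' := by
  haveI := hGa
  haveI := hGfp
  haveI := hYf
  haveI := hYfl
  haveI := hYfp
  haveI := hy'
  haveI : LocallyOfFinitePresentation (y'.left ≫ G.hom) := by
    rw [Over.w y']; exact hY'fp
  haveI : LocallyOfFinitePresentation y'.left :=
    Lib.Helper16.FixFG.locallyOfFinitePresentation_of_comp y'.left G.hom
  let u : Y ⊗ G ⟶ G := (snd Y G) * (fst Y G ≫ y) * (snd Y G)⁻¹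
  obtain ⟨C, c, hc, hc', hC⟩ := Lib.Helper16.FixFG.exists_closed_fp_of_transporter u y'
  refine ⟨C, c, hc, ?_, ?_⟩
  · rw [← Over.w c]
    infer_instance
  intro X g
  rw [hC g]
  have key : ∀ (X' : Over S) (x : X' ⟶ X) (a : X' ⟶ Y),
      lift a (x ≫ g) ≫ u = (x ≫ g) * (a ≫ y) * (x ≫ g)⁻¹ := by
    intro X' x a
    show lift a (x ≫ g) ≫ ((snd Y G) * (fst Y G ≫ y) * (snd Y G)⁻¹) = _
    rw [MonObj.comp_mul, MonObj.comp_mul, GrpObj.comp_inv, lift_snd, lift_fst_assoc]
  constructor
  · intro h X' x a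
    obtain ⟨a', ha'⟩ := h X' x a
    exact ⟨a', by rw [← key, ha']⟩
  · intro h X' x a
    obtain ⟨a', ha'⟩ := h X' x a
    exact ⟨a', by rw [key, ha']⟩

end Groth.Agent.S16771
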