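import Groth.Statements.S16772
import Groth.Agent.Lib.Helper16.FixFinite

set_option autoImplicit false
open CategoryTheory MonoidalCategory CartesianMonoidalCategory MonObj GrpObj AlgebraicGeometry
universe u
open SGA3x

namespace Groth.Agent.S16772

/-- Let G be an affine group scheme of finite presentation over a scheme S and Y ⊆ G a closed subscheme
which is finite, flat and of finite presentation over S. Then the centralizer of Y in G (points of G
commuting with every point of Y after any base change) is representable by a closed subscheme of G. -/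
theorem result {S : Scheme.{u}} (G Y : Over S) [GrpObj G]
    (hGa : IsAffineHom G.hom) (hGfp : LocallyOfFinitePresentation G.hom)
    (y : Y ⟶ G) (hy : IsClosedImmersion y.left) (hYf : IsFinite Y.hom) (hYfl : Flat Y.hom)
    (hYfp : LocallyOfFinitePresentation Y.hom) :
    ∃ (C : Over S) (c : C ⟶ G), IsClosedImmersion c.left ∧
      ∀ (X : Over S) (g : X ⟶ G), (∃ z : X ⟶ C, z ≫ c = g) ↔
        ∀ (X' : Over S) (x : X' ⟶ X) (a : X' ⟶ Y), (x ≫ g) * (a ≫ y) = (a ≫ y) * (x ≫ g) := by
  haveI := hGa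
  haveI := hYf
  haveI := hYfl
  haveI := hYfp
  haveI : IsAffineHom Y.hom := inferInstance
  haveI : IsSeparated G.hom := inferInstance
  let u : Y ⊗ G ⟶ G := (snd Y G) * (fst Y G ≫ y)
  let v : Y ⊗ G ⟶ G := (fst Y G ≫ y) * (snd Y G)
  obtain ⟨C, c, hc, hC⟩ := Lib.Helper16.FixApp.exists_closed_of_equalizer u v
    (fun U => Lib.Helper16.FixFinite.hasCoeff_snd (A := Y) (X := G) U)
  refine ⟨C, c, hc, ?_⟩
  intro X g
  rw [hC g]
  have key : ∀ (X' : Over S) (x : X' ⟶ X) (a : X' ⟶ Y),
      (lift a (x ≫ g) ≫ u = lift a (x ≫ g) ≫ v) ↔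
        (x ≫ g) * (a ≫ y) = (a ≫ y) * (x ≫ g) := by
    intro X' x a
    have e1 : lift a (x ≫ g) ≫ u = (x ≫ g) * (a ≫ y) := by
      show lift a (x ≫ g) ≫ ((snd Y G) * (fst Y G ≫ y)) = _
      rw [MonObj.comp_mul, lift_snd, lift_fst_assoc]
    have e2 : lift a (x ≫ g) ≫ v = (a ≫ y) * (x ≫ g) := by
      show lift a (x ≫ g) ≫ ((fst Y G ≫ y) * (snd Y G)) = _
      rw [MonObj.comp_mul, lift_snd, lift_fst_assoc]
    rw [e1, e2]
  constructor
  · intro h X' x a
    exact (key X' x a).1 (h X' x a)
  · intro h X' x a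
    exact (key X' x a).2 (h X' x a)

end Groth.Agent.S16772
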