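import Groth.Statements.S1678
import Groth.Agent.Lib.Helper35.SmoothPairReg2
import Groth.Agent.Lib.Helper35.AffineChart
import Groth.Agent.S3713

set_option autoImplicit false
universe u
open CategoryTheory CategoryTheory.Limits AlgebraicGeometry TopologicalSpace
open SDiv

namespace Groth.Agent.S1678

section Helpers

set_option maxHeartbeats 800000
set_option linter.style.haveILetI false
open Groth.Agent.Lib.Helper35 RingTheory.Sequence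

/-- the chart: affine `U' ⊆ U₀` in `S` and affine `V` in `X` with `i y ∈ V ≤ p⁻¹ U'`,
`i⁻¹ V = (i ≫ p)⁻¹ U'`, `U'` a basic open of `U₀`. -/
theorem exists_chart {X Y S : Scheme.{u}} (p : X ⟶ S) (i : Y ⟶ X) [IsClosedImmersion (i ≫ p)]
    (y : Y) (U₀ : S.Opens) (hU₀ : IsAffineOpen U₀) (hy : (i ≫ p) y ∈ U₀) :
    ∃ (a : Γ(S, U₀)) (V : X.Opens), IsAffineOpen V ∧ (i ≫ p) y ∈ S.basicOpen a ∧ i y ∈ V ∧
      V ≤ p ⁻¹ᵁ (S.basicOpen a) ∧ i ⁻¹ᵁ V = (i ≫ p) ⁻¹ᵁ (S.basicOpen a) := by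
  have hmem : i y ∈ (p ⁻¹ᵁ U₀ : X.Opens) := hy
  obtain ⟨_, ⟨V₁, hV₁, rfl⟩, hyV₁, hV₁le⟩ :=
    X.isBasis_affineOpens.exists_subset_of_mem_open hmem (p ⁻¹ᵁ U₀ : X.Opens).isOpen
  obtain ⟨V₁, rfl⟩ : ∃ V' : X.Opens, V' = V₁ := ⟨V₁, rfl⟩
  have e₁ : V₁ ≤ p ⁻¹ᵁ U₀ := hV₁le
  -- the open `i⁻¹ V₁` of `Y` is induced from `S`
  obtain ⟨W, hWo, hW⟩ := ((i ≫ p).isEmbedding.isInducing.isOpen_iff (s := (i ⁻¹ᵁ V₁ : Set Y))).1
    (i ⁻¹ᵁ V₁).isOpen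
  have hyW : (i ≫ p) y ∈ (⟨W, hWo⟩ : S.Opens) := by
    show y ∈ (i ≫ p) ⁻¹' W
    rw [hW]
    exact hyV₁
  obtain ⟨a, ha1, ha2⟩ := IsAffineOpen.exists_basicOpen_le (U := U₀) hU₀ (V := ⟨W, hWo⟩)
    ⟨(i ≫ p) y, hyW⟩ hy
  have hle : (i ≫ p) ⁻¹ᵁ (S.basicOpen a) ≤ i ⁻¹ᵁ V₁ := by
    intro w hw
    have h1 : w ∈ (i ≫ p) ⁻¹' W := ha1 hw
    rw [hW] at h1
    exact h1
  refine ⟨a, X.basicOpen (p.appLE U₀ V₁ e₁ a), hV₁.basicOpen _, ha2, ?_, ?_, ?_⟩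
  · rw [Scheme.basicOpen_appLE]
    exact ⟨hyV₁, ha2⟩
  · rw [Scheme.basicOpen_appLE]
    exact inf_le_right
  · rw [Scheme.basicOpen_appLE]
    apply le_antisymm
    · intro w hw
      exact hw.2
    · intro w hw
      exact ⟨hle hw, hw⟩

theorem aux0 {X Y S : Scheme.{u}} (p : X ⟶ S) [Smooth p] (i : Y ⟶ X)
    [IsClosedImmersion i] [IsClosedImmersion (i ≫ p)]
    (hj : Mor2.IsRegularClosedImmersion (i ≫ p)) :
    Mor2.IsRegularClosedImmersion i := by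
  refine ⟨inferInstance, fun y => ?_⟩
  obtain ⟨U₀, hU₀, hyU₀, rs₀, hrs₀, hI₀⟩ := hj.2 y
  obtain ⟨a, V, hV, hya, hyV, hVle, hpre⟩ := exists_chart p i y U₀ hU₀ hyU₀
  have hU' : IsAffineOpen (S.basicOpen a) := hU₀.basicOpen a
  have hW : IsAffineOpen ((i ≫ p) ⁻¹ᵁ (S.basicOpen a)) := hU'.preimage (i ≫ p)
  have hWle : (i ≫ p) ⁻¹ᵁ (S.basicOpen a) ≤ i ⁻¹ᵁ V := hpre.ge
  have hyW : y ∈ (i ≫ p) ⁻¹ᵁ (S.basicOpen a) := hya
  -- the rings
  have hsmooth := AffineChart.smooth_appLE_of_le_smoothLocus p hU' hV hVle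
    (by rw [Scheme.Hom.smoothLocus_eq_top]; exact le_top)
  letI algAB : Algebra Γ(S, S.basicOpen a) Γ(X, V) := (p.appLE (S.basicOpen a) V hVle).hom.toAlgebra
  haveI : Algebra.Smooth Γ(S, S.basicOpen a) Γ(X, V) := RingHom.smooth_algebraMap.mp hsmooth
  letI algBE : Algebra Γ(X, V) Γ(Y, (i ≫ p) ⁻¹ᵁ (S.basicOpen a)) :=
    (i.appLE V ((i ≫ p) ⁻¹ᵁ (S.basicOpen a)) hWle).hom.toAlgebra
  letI algAE : Algebra Γ(S, S.basicOpen a) Γ(Y, (i ≫ p) ⁻¹ᵁ (S.basicOpen a)) :=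
    ((i ≫ p).app (S.basicOpen a)).hom.toAlgebra
  haveI : IsScalarTower Γ(S, S.basicOpen a) Γ(X, V) Γ(Y, (i ≫ p) ⁻¹ᵁ (S.basicOpen a)) := by
    refine IsScalarTower.of_algebraMap_eq fun x => ?_
    show ((i ≫ p).app (S.basicOpen a)).hom x =
      (i.appLE V ((i ≫ p) ⁻¹ᵁ (S.basicOpen a)) hWle).hom
        ((p.appLE (S.basicOpen a) V hVle).hom x)
    rw [← CommRingCat.comp_apply, Scheme.Hom.appLE_comp_appLE, Scheme.Hom.app_eq_appLE]
  have hAE : Function.Surjective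
      (algebraMap Γ(S, S.basicOpen a) Γ(Y, (i ≫ p) ⁻¹ᵁ (S.basicOpen a))) :=
    (i ≫ p).app_surjective (S.basicOpen a) hU'
  have hiso : IsIso (Y.presheaf.map (homOfLE hWle).op) := by
    have : homOfLE hWle = eqToHom hpre.symm := Subsingleton.elim _ _
    rw [this]
    infer_instance
  have hBEeq : algebraMap Γ(X, V) Γ(Y, (i ≫ p) ⁻¹ᵁ (S.basicOpen a)) =
      (Y.presheaf.map (homOfLE hWle).op).hom.comp (i.app V).hom := by
    rw [RingHom.algebraMap_toAlgebra, Scheme.Hom.appLE, CommRingCat.hom_comp]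
  have hBE : Function.Surjective
      (algebraMap Γ(X, V) Γ(Y, (i ≫ p) ⁻¹ᵁ (S.basicOpen a))) := by
    rw [hBEeq]
    exact (ConcreteCategory.bijective_of_isIso (Y.presheaf.map (homOfLE hWle).op)).2.comp
      (i.app_surjective V hV)
  -- the regular sequence on the base
  haveI := hU₀.isLocalization_basicOpen a
  haveI : Module.Flat Γ(S, U₀) Γ(S, S.basicOpen a) :=
    IsLocalization.flat Γ(S, S.basicOpen a) (Submonoid.powers a)
  have hrs : IsWeaklyRegular Γ(S, S.basicOpen a)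
      (rs₀.map (algebraMap Γ(S, U₀) Γ(S, S.basicOpen a))) :=
    IsWeaklyRegular.of_flat hrs₀.toIsWeaklyRegular
  have hker : RingHom.ker (algebraMap Γ(S, S.basicOpen a) Γ(Y, (i ≫ p) ⁻¹ᵁ (S.basicOpen a))) =
      Ideal.ofList (rs₀.map (algebraMap Γ(S, U₀) Γ(S, S.basicOpen a))) := by
    rw [← Ideal.map_ofList, ← hI₀]
    have h1 := (i ≫ p).ker.map_ideal_basicOpen ⟨U₀, hU₀⟩ a
    have h2 := Scheme.Hom.ker_apply (i ≫ p) (S.affineBasicOpen (U := ⟨U₀, hU₀⟩) a)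
    rw [← h1] at h2
    exact h2.symm
  obtain ⟨gs, f₀, hf₀, H⟩ := SmoothPairReg2.exists_regular_gens_rel Γ(S, S.basicOpen a) Γ(X, V)
    Γ(Y, (i ≫ p) ⁻¹ᵁ (S.basicOpen a)) hAE hBE _ hrs hker (hW.primeIdealOf ⟨y, hyW⟩).asIdeal
  have hmem : i y ∈ X.basicOpen f₀ := by
    have h1 : y ∈ Y.basicOpen ((i.appLE V ((i ≫ p) ⁻¹ᵁ (S.basicOpen a)) hWle).hom f₀) :=
      Groth.Agent.S3713.mem_basicOpen_of_not_mem_primeIdealOf hW y hyW _ hf₀
    have h := Scheme.basicOpen_appLE i ((i ≫ p) ⁻¹ᵁ (S.basicOpen a)) V hWle f₀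
    exact (h.le h1).2
  have hVf : IsAffineOpen (X.basicOpen f₀) := hV.basicOpen f₀
  haveI := hV.isLocalization_basicOpen f₀
  obtain ⟨hreg, hkerB⟩ := H f₀ dvd_rfl Γ(X, X.basicOpen f₀)
  have hk1 : i.ker.ideal ⟨V, hV⟩ =
      RingHom.ker (algebraMap Γ(X, V) Γ(Y, (i ≫ p) ⁻¹ᵁ (S.basicOpen a))) := by
    rw [Scheme.Hom.ker_apply, hBEeq]
    exact (RingHom.ker_comp_of_injective _
      (ConcreteCategory.bijective_of_isIso (Y.presheaf.map (homOfLE hWle).op)).1).symm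
  have hk2 : i.ker.ideal ⟨X.basicOpen f₀, hVf⟩ =
      Ideal.ofList (((rs₀.map (algebraMap Γ(S, U₀) Γ(S, S.basicOpen a))).map
        (algebraMap Γ(S, S.basicOpen a) Γ(X, V)) ++ gs).map
          (algebraMap Γ(X, V) Γ(X, X.basicOpen f₀))) := by
    rw [← hkerB, ← hk1]
    exact (i.ker.map_ideal_basicOpen ⟨V, hV⟩ f₀).symm
  refine ⟨X.basicOpen f₀, hVf, hmem, _, ⟨hreg, ?_⟩, hk2⟩
  intro htop
  rw [smul_eq_mul, Ideal.mul_top, ← hk2] at htop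
  have h1 := (Scheme.IdealSheafData.mem_support_iff_of_mem (I := i.ker)
    (U := ⟨X.basicOpen f₀, hVf⟩) hmem).1 (Scheme.Hom.range_subset_ker_support i ⟨y, rfl⟩)
  rw [← htop, Scheme.mem_zeroLocus_iff] at h1
  have h2 := h1 1 trivial
  rw [Scheme.basicOpen_of_isUnit _ isUnit_one] at h2
  exact h2 hmem

theorem aux {X Y S : Scheme.{u}} (p : X ⟶ S) [Smooth p] (i : Y ⟶ X) (j : Y ⟶ S)
    [IsClosedImmersion i] [IsClosedImmersion j] (h : i ≫ p = j)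
    (hj : Mor2.IsRegularClosedImmersion j) :
    Mor2.IsRegularClosedImmersion i := by
  subst h
  exact aux0 p i hj

end Helpers

/-- Let X ⟶ S be smooth and let i : Y ⟶ X and j : Y ⟶ S be closed immersions with i ≫ (X ⟶ S) = j. If j
is a regular closed immersion then so is i. -/
theorem result {X Y S : Scheme.{u}} (p : X ⟶ S) [Smooth p] (i : Y ⟶ X) (j : Y ⟶ S)
    [IsClosedImmersion i] [IsClosedImmersion j] (h : i ≫ p = j) (hj : Mor2.IsRegularClosedImmersion j) :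
    Mor2.IsRegularClosedImmersion i := by
  exact aux p i j h hj

end Groth.Agent.S1678
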