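import Groth.Statements.S1682
-- import your own Groth.Agent.* helpers here

set_option autoImplicit false
universe u
open CategoryTheory CategoryTheory.Limits AlgebraicGeometry TopologicalSpace
open SDiv

namespace Groth.Agent.S1682

/-- Let b : X' ⟶ X be a blowing-up of X along the quasi-coherent ideal sheaf 𝓘, with centre Z = support
of 𝓘. Then b restricted over the open complement of Z is an isomorphism. -/
theorem result {X X' : Scheme.{u}} (𝓘 : X.IdealSheafData) (b : X' ⟶ X) (hb : BlowUp.IsBlowUp b 𝓘) :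
    IsIso (b ∣_ 𝓘.support.compl) := by
  obtain ⟨-, huniv⟩ := hb
  let U : X.Opens := 𝓘.support.compl
  change IsIso (b ∣_ U)
  have htop : ∀ (Y : Scheme.{u}), BlowUp.IsEffCartierIdeal (⊤ : Y.IdealSheafData) := by
    intro Y y
    obtain ⟨V, hV, hyV, -⟩ := exists_isAffineOpen_mem_and_subset (x := y) (U := ⊤) trivial
    refine ⟨⟨V, hV⟩, hyV, 1, one_mem _, ?_⟩
    rw [Ideal.span_singleton_one]
    rfl
  have hcomap : 𝓘.comap (U).ι = ⊤ := by
    rw [← Scheme.IdealSheafData.support_eq_bot_iff, Scheme.IdealSheafData.support_comap]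
    apply TopologicalSpace.Closeds.ext
    apply Set.eq_empty_of_forall_notMem
    intro x hx
    exact x.2 hx
  -- the section
  obtain ⟨h, hh, -⟩ := huniv _ (U).ι (by rw [hcomap]; exact htop _)
  have hrange : Set.range h.base ⊆ Set.range (b ⁻¹ᵁ U).ι.base := by
    rintro _ ⟨x, rfl⟩
    rw [Scheme.Opens.range_ι]
    change b.base (h.base x) ∈ U
    have := congrArg (fun f => f.base x) hh
    simp only [Scheme.Hom.comp_base, TopCat.comp_app] at this
    rw [this]
    exact x.2
  let h' : (U).toScheme ⟶ (b ⁻¹ᵁ U).toScheme :=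
    IsOpenImmersion.lift (b ⁻¹ᵁ U).ι h hrange
  have hh' : h' ≫ (b ⁻¹ᵁ U).ι = h := IsOpenImmersion.lift_fac _ _ _
  -- uniqueness on the preimage
  have hEC : BlowUp.IsEffCartierIdeal (𝓘.comap ((b ⁻¹ᵁ U).ι ≫ b)) := by
    rw [← morphismRestrict_ι, Scheme.IdealSheafData.comap_comp, hcomap,
      Scheme.IdealSheafData.comap_top]
    exact htop _
  obtain ⟨g, -, guniq⟩ := huniv _ ((b ⁻¹ᵁ U).ι ≫ b) hEC
  have e1 : (b ⁻¹ᵁ U).ι = g := guniq _ rfl
  have e2 : (b ∣_ U) ≫ h = g := by
    apply guniq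
    rw [Category.assoc, hh, morphismRestrict_ι]
  refine ⟨⟨h', ?_, ?_⟩⟩
  · rw [← cancel_mono (b ⁻¹ᵁ U).ι, Category.assoc, hh', e2, ← e1, Category.id_comp]
  · rw [← cancel_mono (U).ι, Category.assoc, morphismRestrict_ι, ← Category.assoc, hh',
      hh, Category.id_comp]

end Groth.Agent.S1682
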