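import Groth.Statements.S16833
import Groth.Agent.Lib.Helper30.AlgSpFiniteProper
import Groth.Agent.Lib.Helper51.AlgSpSchImProper
import Groth.Agent.Lib.Helper78.AlgSpLocPSrc
import Groth.Agent.Lib.Helper78.AlgSpLocPLqf
import Groth.Agent.Lib.Helper78.AlgSpMisc
import Groth.Agent.S10271
import Groth.Agent.S10267
-- import your own Groth.Agent.* helpers here

set_option autoImplicit false
universe u
open AlgSp

namespace Groth.Agent.S16833


open CategoryTheory AlgebraicGeometry in
/-- Let p : U → X and f : X → Y be morphisms of algebraic spaces over a scheme S with p etale and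
surjective and f separated. If the composite U → Y is finite, then f is finite. -/
theorem result {S : Scheme.{u}}
    {U X Y : AlgSp.Space S} (p : U ⟶ X) (f : X ⟶ Y)
    (hp : AlgSp.IsEtaleMor p.hom) (hps : AlgSp.IsSurjectiveMor p.hom)
    (hf : AlgSp.IsSeparatedMor f.hom) (h : AlgSp.IsFiniteMor (p ≫ f).hom) :
    AlgSp.IsFiniteMor f.hom := by
  have hcomp : (p ≫ f).hom = p.hom ≫ f.hom := rfl
  have hprop : AlgSp.IsProperMor (p ≫ f).hom := ((Groth.Agent.S10271.result (p ≫ f)).1 h).2
  obtain ⟨-, ⟨-, hqc⟩, huc⟩ := hprop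
  have hrep : AlgSp.RepWith @IsFinite (p ≫ f).hom := (Groth.Agent.S10267.result (p ≫ f)).2.1 h
  have hrep' : AlgSp.RepWith (@LocallyQuasiFinite ⊓ @LocallyOfFiniteType) (p ≫ f).hom := by
    refine ⟨hrep.1, fun _ _ g fst snd sq => ?_⟩
    have : IsFinite snd.left := hrep.2 g fst snd sq
    exact ⟨(inferInstance : LocallyQuasiFinite snd.left), (inferInstance : LocallyOfFiniteType snd.left)⟩
  have hloc : AlgSp.LocP (@LocallyQuasiFinite ⊓ @LocallyOfFiniteType) (p ≫ f).hom :=
    Groth.Agent.Lib.Helper78.AlgSpMisc.locP_of_repWith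
      Groth.Agent.Lib.Helper78.AlgSpLocPLqf.etLocalST_lqf _ Y.property.atlas hrep'
  have hlocf : AlgSp.LocP (@LocallyQuasiFinite ⊓ @LocallyOfFiniteType) f.hom := by
    refine ((Groth.Agent.Lib.Helper78.AlgSpLocPSrc.isLocalOnSource_et_locP
      Groth.Agent.Lib.Helper78.AlgSpLocPLqf.etLocalST_lqf S) (ι := PUnit) (fun _ => U.obj)
      (fun _ => p.hom) X.property (fun _ => U.property) ⟨fun _ => hp, fun x => ?_⟩ f.hom
      Y.property).2 (fun _ => hloc)
    obtain ⟨u, hu⟩ := hps x
    exact ⟨PUnit.unit, u, hu⟩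
  rw [hcomp] at hqc huc
  have hqcf : AlgSp.IsQuasiCompactMor f.hom :=
    Groth.Agent.Lib.Helper51.KerAt.isQuasiCompactMor_of_surjective_comp U.property X.property
      Y.property p.hom f.hom hps hqc
  have hucf : AlgSp.IsUnivClosedMor f.hom :=
    Groth.Agent.Lib.Helper51.KerAt.isUnivClosedMor_of_surjective_comp p.hom f.hom hps huc
  refine Groth.Agent.Lib.Helper30.ZMT.isFiniteMor_of_isProperMor_of_lqf X.property Y.property f.hom
    ⟨hf, ⟨?_, hqcf⟩, hucf⟩ hlocf
  exact Groth.Agent.Lib.Helper78.AlgSpMisc.locP_mono inf_le_right hlocf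

end Groth.Agent.S16833
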