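import Groth.Statements.S16836
import Mathlib.Tactic
import Mathlib.FieldTheory.Perfect
import Mathlib.Algebra.Squarefree.Basic
import Mathlib.RingTheory.UniqueFactorizationDomain.NormalizedFactors
import Mathlib.Algebra.Polynomial.BigOperators
import Mathlib.RingTheory.Polynomial.Content
import Mathlib.FieldTheory.Separable
-- import your own Groth.Agent.* helpers here

set_option autoImplicit false
universe u v
open scoped Classical
open AbVar

namespace Groth.Agent.S16836

section comb
variable {γ : Type*} [DecidableEq γ]

/-- the bilinear count -/
def B (w : γ → ℕ) (u v : Multiset γ) : ℕ := (u.map fun c => v.count c * w c).sum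

theorem B_add_left (w : γ → ℕ) (u₁ u₂ v : Multiset γ) :
    B w (u₁ + u₂) v = B w u₁ v + B w u₂ v := by
  simp [B]

theorem B_add_right (w : γ → ℕ) (u v₁ v₂ : Multiset γ) :
    B w u (v₁ + v₂) = B w u v₁ + B w u v₂ := by
  simp [B, add_mul, Multiset.sum_map_add]

theorem B_zero_left (w : γ → ℕ) (v : Multiset γ) : B w 0 v = 0 := by simp [B]

theorem B_zero_right (w : γ → ℕ) (u : Multiset γ) : B w u 0 = 0 := by simp [B]

theorem B_sum_left {α : Type*} (w : γ → ℕ) (s : Multiset α) (F : α → Multiset γ)
    (v : Multiset γ) :
    B w (s.map F).sum v = (s.map fun a => B w (F a) v).sum := by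
  induction s using Multiset.induction with
  | empty => simp [B_zero_left]
  | cons a s ih => simp [B_add_left, ih]

theorem B_sum_right {β : Type*} (w : γ → ℕ) (t : Multiset β) (G : β → Multiset γ)
    (u : Multiset γ) :
    B w u (t.map G).sum = (t.map fun b => B w u (G b)).sum := by
  induction t using Multiset.induction with
  | empty => simp [B_zero_right]
  | cons a s ih => simp [B_add_right, ih]

theorem B_eq_sum (w : γ → ℕ) (u v : Multiset γ) :
    B w u v = ∑ P ∈ u.toFinset, u.count P * v.count P * w P := by
  rw [B, Finset.sum_multiset_map_count]
  simp [mul_assoc]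

theorem sum_ite_eq_count {β : Type*} [DecidableEq β] (t : Multiset β) (P : β) (d : ℕ) :
    (t.map fun P' => if P = P' then d else 0).sum = t.count P * d := by
  induction t using Multiset.induction with
  | empty => simp
  | cons a s ih =>
    rw [Multiset.map_cons, Multiset.sum_cons, ih, Multiset.count_cons]
    split_ifs with h <;> ring

end comb

section poly
open Polynomial UniqueFactorizationMonoid
open scoped Classical

variable {K : Type u} {L : Type v} [Field K] [Field L] [Algebra K L]

theorem map_ne_zero' {P : K[X]} (hP : P ≠ 0) : P.map (algebraMap K L) ≠ 0 :=
  (Polynomial.map_ne_zero_iff (algebraMap K L).injective).2 hP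

theorem nf_map (f : K[X]) (hf : f ≠ 0) :
    normalizedFactors (f.map (algebraMap K L)) =
      ((normalizedFactors f).map fun P => normalizedFactors (P.map (algebraMap K L))).sum := by
  have h1 : Associated (normalizedFactors f).prod f := prod_normalizedFactors hf
  have h2 : Associated ((normalizedFactors f).prod.map (algebraMap K L))
      (f.map (algebraMap K L)) := h1.map (Polynomial.mapRingHom (algebraMap K L))
  rw [← h2.normalizedFactors_eq, Polynomial.map_multiset_prod,
    normalizedFactors_multiset_prod, Multiset.map_map]
  · rfl
  · intro h0
    rw [Multiset.mem_map] at h0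
    obtain ⟨P, hP, hP0⟩ := h0
    exact map_ne_zero' (L := L) (ne_zero_of_mem_normalizedFactors hP) hP0

variable [PerfectField K]

theorem key {P P' : K[X]} (hP : Irreducible P) (hP' : Irreducible P')
    (hn : normalize P = P) (hn' : normalize P' = P') :
    B natDegree (normalizedFactors (P.map (algebraMap K L)))
      (normalizedFactors (P'.map (algebraMap K L))) = if P = P' then P.natDegree else 0 := by
  split_ifs with h
  · subst h
    have hsep : P.Separable := PerfectField.separable_of_irreducible hP
    have hsq : Squarefree (P.map (algebraMap K L)) := (hsep.map).squarefree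
    have hne : P.map (algebraMap K L) ≠ 0 := map_ne_zero' hP.ne_zero
    have hnd : (normalizedFactors (P.map (algebraMap K L))).Nodup :=
      (squarefree_iff_nodup_normalizedFactors hne).1 hsq
    have h1 : B natDegree (normalizedFactors (P.map (algebraMap K L)))
        (normalizedFactors (P.map (algebraMap K L))) =
        ((normalizedFactors (P.map (algebraMap K L))).map natDegree).sum := by
      unfold B
      congr 1
      apply Multiset.map_congr rfl
      intro Q hQ
      rw [Multiset.count_eq_one_of_mem hnd hQ, one_mul]
    rw [h1, ← natDegree_multiset_prod _ (zero_notMem_normalizedFactors _)]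
    have h2 : Associated (normalizedFactors (P.map (algebraMap K L))).prod
        (P.map (algebraMap K L)) := prod_normalizedFactors hne
    rw [natDegree_eq_of_degree_eq (degree_eq_degree_of_associated h2), natDegree_map]
  · unfold B
    apply Multiset.sum_eq_zero
    intro x hx
    rw [Multiset.mem_map] at hx
    obtain ⟨Q, hQ, rfl⟩ := hx
    have hcop : IsCoprime P P' := by
      rw [hP.coprime_iff_not_dvd]
      intro hdvd
      exact h ((hP.associated_of_dvd hP' hdvd).eq_of_normalized hn hn')
    have hcop' : IsCoprime (P.map (algebraMap K L)) (P'.map (algebraMap K L)) :=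
      hcop.map (Polynomial.mapRingHom (algebraMap K L))
    have : Q ∉ normalizedFactors (P'.map (algebraMap K L)) := by
      intro hQ'
      have hQirr := irreducible_of_normalized_factor Q hQ
      exact hQirr.not_isUnit (hcop'.isUnit_of_dvd' (dvd_of_mem_normalizedFactors hQ)
        (dvd_of_mem_normalizedFactors hQ'))
    rw [Multiset.count_eq_zero_of_notMem this, zero_mul]

end poly

open Polynomial UniqueFactorizationMonoid in
/-- Let K ⊆ L be a field extension and f₁, f₂ non-zero polynomials in K[t]. For a field F and
polynomials g₁, g₂ over F put r_F(g₁, g₂) = Σ_P mult_P(g₁) · mult_P(g₂) · deg P, the sum running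
over the monic irreducible polynomials P in F[t] (mult_P the multiplicity of P as an irreducible
factor). Assume K is perfect. Then r_K(f₁, f₂) = r_L(f₁, f₂): the number does not depend on the
field over which the factorisations are taken. (Perfectness of K cannot be dropped: for K = F_p(s),
L = K(s^{1/p}) and f₁ = f₂ = t^p − s the number is p over K and p² over L, since the irreducible t^p
− s becomes a p-th power over L; the published statement has no restriction on K, and its proof
requires the relevant K[t]-modules to remain semisimple after base change, which holds when every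
irreducible factor stays squarefree over L, in particular for K perfect.) -/
theorem result (K : Type u) (L : Type v) [Field K] [PerfectField K] [Field L] [Algebra K L]
    (f₁ f₂ : K[X]) (h₁ : f₁ ≠ 0) (h₂ : f₂ ≠ 0) :
    ∑ P ∈ (normalizedFactors (f₁.map (algebraMap K L))).toFinset,
        (normalizedFactors (f₁.map (algebraMap K L))).count P *
          (normalizedFactors (f₂.map (algebraMap K L))).count P * P.natDegree =
      ∑ P ∈ (normalizedFactors f₁).toFinset,
        (normalizedFactors f₁).count P * (normalizedFactors f₂).count P * P.natDegree := by
  rw [← B_eq_sum natDegree, ← B_eq_sum natDegree, nf_map f₁ h₁, nf_map f₂ h₂, B_sum_left]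
  unfold B
  congr 1
  apply Multiset.map_congr rfl
  intro P hP
  rw [← B, B_sum_right]
  rw [← sum_ite_eq_count]
  congr 1
  apply Multiset.map_congr rfl
  intro P' hP'
  exact key (irreducible_of_normalized_factor P hP) (irreducible_of_normalized_factor P' hP')
    (normalize_normalized_factor P hP) (normalize_normalized_factor P' hP')

end Groth.Agent.S16836
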