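import Groth.Statements.S16837
import Mathlib
-- import your own Groth.Agent.* helpers here

set_option autoImplicit false
universe u v w
open scoped Classical
open AbVar

namespace Groth.Agent.S16837

open Polynomial UniqueFactorizationMonoid Module Module.End

section I
variable {K : Type*} [Field K]
variable {V₁ V₂ V₁' V₂' : Type*} [AddCommGroup V₁] [Module K V₁] [AddCommGroup V₂] [Module K V₂]
  [AddCommGroup V₁'] [Module K V₁'] [AddCommGroup V₂'] [Module K V₂']

/-- intertwiners -/
def Itw (π₁ : End K V₁) (π₂ : End K V₂) : Submodule K (V₁ →ₗ[K] V₂) :=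
  LinearMap.ker (LinearMap.lcomp K V₂ π₁ - LinearMap.llcomp K V₁ V₂ V₂ π₂)

lemma mem_Itw {π₁ : End K V₁} {π₂ : End K V₂} {h : V₁ →ₗ[K] V₂} :
    h ∈ Itw π₁ π₂ ↔ ∀ x, h (π₁ x) = π₂ (h x) := by
  unfold Itw
  rw [LinearMap.mem_ker, LinearMap.sub_apply, sub_eq_zero, LinearMap.ext_iff]
  rfl

/-- invariance under equivalences -/
noncomputable def interCongr (e₁ : V₁ ≃ₗ[K] V₁') (e₂ : V₂ ≃ₗ[K] V₂') (π₁ : End K V₁) (π₂ : End K V₂)
    (π₁' : End K V₁') (π₂' : End K V₂') (h₁ : ∀ x, π₁' (e₁ x) = e₁ (π₁ x))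
    (h₂ : ∀ x, π₂' (e₂ x) = e₂ (π₂ x)) : Itw π₁ π₂ ≃ₗ[K] Itw π₁' π₂' where
  toFun h := ⟨e₂.toLinearMap ∘ₗ h.1 ∘ₗ e₁.symm.toLinearMap, by
    rw [mem_Itw]; intro x
    have hh := mem_Itw.mp h.2
    obtain ⟨y, rfl⟩ := e₁.surjective x
    simp [h₁, h₂, hh]⟩
  invFun h := ⟨e₂.symm.toLinearMap ∘ₗ h.1 ∘ₗ e₁.toLinearMap, by
    rw [mem_Itw]; intro x
    have hh := mem_Itw.mp h.2
    apply e₂.injective
    simp [← h₁, ← h₂, hh]⟩
  map_add' a b := by ext x; simp
  map_smul' c a := by ext x; simp
  left_inv h := by ext x; simp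
  right_inv h := by ext x; simp

noncomputable def interProdLeft (f : End K V₁) (f' : End K V₁') (π₂ : End K V₂) :
    Itw (f.prodMap f') π₂ ≃ₗ[K] (Itw f π₂ × Itw f' π₂) where
  toFun h := (⟨h.1 ∘ₗ LinearMap.inl K V₁ V₁', by
      rw [mem_Itw]; intro x
      have hh := mem_Itw.mp h.2 (x, 0)
      simpa using hh⟩,
    ⟨h.1 ∘ₗ LinearMap.inr K V₁ V₁', by
      rw [mem_Itw]; intro x
      have hh := mem_Itw.mp h.2 (0, x)
      simpa using hh⟩)
  invFun ab := ⟨ab.1.1.coprod ab.2.1, by
    rw [mem_Itw]; rintro ⟨x, y⟩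
    have h1 := mem_Itw.mp ab.1.2 x
    have h2 := mem_Itw.mp ab.2.2 y
    simp [h1, h2]⟩
  map_add' a b := by ext x <;> simp
  map_smul' c a := by ext x <;> simp
  left_inv h := by
    apply Subtype.ext
    apply LinearMap.ext
    rintro ⟨x, y⟩
    show h.1 (x, 0) + h.1 (0, y) = h.1 (x, y)
    rw [← map_add]; simp
  right_inv ab := by ext x <;> simp

noncomputable def interProdRight (π₁ : End K V₁) (f : End K V₂) (f' : End K V₂') :
    Itw π₁ (f.prodMap f') ≃ₗ[K] (Itw π₁ f × Itw π₁ f') where
  toFun h := (⟨LinearMap.fst K V₂ V₂' ∘ₗ h.1, by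
      rw [mem_Itw]; intro x
      have hh := mem_Itw.mp h.2 x
      simp [hh]⟩,
    ⟨LinearMap.snd K V₂ V₂' ∘ₗ h.1, by
      rw [mem_Itw]; intro x
      have hh := mem_Itw.mp h.2 x
      simp [hh]⟩)
  invFun ab := ⟨ab.1.1.prod ab.2.1, by
    rw [mem_Itw]; intro x
    have h1 := mem_Itw.mp ab.1.2 x
    have h2 := mem_Itw.mp ab.2.2 x
    simp [h1, h2]⟩
  map_add' a b := by ext x <;> simp
  map_smul' c a := by ext x <;> simp
  left_inv h := by ext x <;> simp
  right_inv ab := by ext x <;> simp

end I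
section S
variable {K : Type*} [Field K]
variable {V : Type*} [AddCommGroup V] [Module K V]

def IsSimp (π : End K V) : Prop := ∀ W ∈ π.invtSubmodule, W = ⊥ ∨ W = ⊤

noncomputable def evl (π : End K V) (v : V) : K[X] →ₗ[K] V :=
  (LinearMap.applyₗ v) ∘ₗ (aeval π).toLinearMap

lemma evl_apply (π : End K V) (v : V) (q : K[X]) : evl π v q = aeval π q v := rfl

lemma evl_X_mul (π : End K V) (v : V) (q : K[X]) : evl π v (X * q) = π (evl π v q) := by
  simp only [evl_apply, map_mul, aeval_X]
  rfl

lemma range_evl_mem (π : End K V) (v : V) : LinearMap.range (evl π v) ∈ π.invtSubmodule := by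
  rw [mem_invtSubmodule]
  rintro _ ⟨q, rfl⟩
  exact ⟨X * q, evl_X_mul ..⟩

lemma evl_surj {π : End K V} (hs : IsSimp π) {v : V} (hv : v ≠ 0) :
    Function.Surjective (evl π v) := by
  rcases hs _ (range_evl_mem π v) with h | h
  · exfalso
    have : v ∈ LinearMap.range (evl π v) := ⟨1, by simp [evl_apply]⟩
    rw [h] at this
    exact hv this
  · exact LinearMap.range_eq_top.mp h

lemma aeval_comm (π : End K V) (q : K[X]) (x : V) : aeval π q (π x) = π (aeval π q x) := by
  have h1 : aeval π (q * X) = aeval π (X * q) := by rw [mul_comm]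
  rw [map_mul, map_mul, aeval_X] at h1
  exact LinearMap.congr_fun h1 x

lemma ker_aeval_mem (π : End K V) (q : K[X]) : LinearMap.ker (aeval π q) ∈ π.invtSubmodule := by
  rw [mem_invtSubmodule]
  intro x hx
  simp only [Submodule.mem_comap, LinearMap.mem_ker] at hx ⊢
  rw [aeval_comm, hx, map_zero]

lemma aeval_eq_zero_of_simp {π : End K V} (hs : IsSimp π) {q : K[X]} {v : V} (hv : v ≠ 0)
    (h : aeval π q v = 0) : aeval π q = 0 := by
  rcases hs _ (ker_aeval_mem π q) with h' | h'
  · exfalso
    have : v ∈ LinearMap.ker (aeval π q) := h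
    rw [h'] at this
    exact hv this
  · exact LinearMap.ker_eq_top.mp h'

lemma finrank_le_natDegree [FiniteDimensional K V] [Nontrivial V] {π : End K V} (hs : IsSimp π)
    {c : K[X]} (hc : c ≠ 0) (h0 : aeval π c = 0) : finrank K V ≤ c.natDegree := by
  obtain ⟨v, hv⟩ := exists_ne (0 : V)
  have hsurj := evl_surj hs hv
  let g : degreeLT K c.natDegree →ₗ[K] V := (evl π v) ∘ₗ (degreeLT K c.natDegree).subtype
  have hg : Function.Surjective g := by
    intro w
    obtain ⟨q, rfl⟩ := hsurj w
    refine ⟨⟨q % c, ?_⟩, ?_⟩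
    · rw [mem_degreeLT]
      calc (q % c).degree < c.degree := degree_mod_lt q hc
        _ = c.natDegree := degree_eq_natDegree hc
    · show aeval π (q % c) v = aeval π q v
      conv_rhs => rw [← EuclideanDomain.mod_add_div q c]
      rw [map_add, map_mul, h0, zero_mul, add_zero]
  calc finrank K V ≤ finrank K (degreeLT K c.natDegree) :=
        LinearMap.finrank_le_finrank_of_surjective hg
    _ = c.natDegree := by rw [(degreeLTEquiv K _).finrank_eq, finrank_fin_fun]

lemma charpoly_irreducible [FiniteDimensional K V] [Nontrivial V] {π : End K V} (hs : IsSimp π) :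
    Irreducible π.charpoly := by
  have hmonic := LinearMap.charpoly_monic π
  have hdeg : π.charpoly.natDegree = finrank K V := LinearMap.charpoly_natDegree π
  have hpos : 0 < finrank K V := finrank_pos
  obtain ⟨v, hv⟩ := exists_ne (0 : V)
  refine ⟨fun hu => ?_, fun a b hab => ?_⟩
  · have := natDegree_eq_zero_of_isUnit hu
    omega
  · have ha0 : a ≠ 0 := fun h => hmonic.ne_zero (by rw [hab, h, zero_mul])
    have hb0 : b ≠ 0 := fun h => hmonic.ne_zero (by rw [hab, h, mul_zero])
    have hdegab : a.natDegree + b.natDegree = finrank K V := by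
      rw [← hdeg, hab, natDegree_mul ha0 hb0]
    have h0 : aeval π a * aeval π b = 0 := by
      rw [← map_mul, ← hab]; exact LinearMap.aeval_self_charpoly π
    by_cases ha : aeval π a = 0
    · right
      have := finrank_le_natDegree hs ha0 ha
      have hb : b.natDegree = 0 := by omega
      rw [natDegree_eq_zero] at hb  -- b = C x
      obtain ⟨x, rfl⟩ := hb
      have hx : x ≠ 0 := fun h => hb0 (by rw [h, map_zero])
      exact isUnit_C.mpr (isUnit_iff_ne_zero.mpr hx)
    · left
      have hb : aeval π b = 0 := by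
        -- a(π) is injective
        have hinj : LinearMap.ker (aeval π a) = ⊥ := by
          rcases hs _ (ker_aeval_mem π a) with h' | h'
          · exact h'
          · exact absurd (LinearMap.ker_eq_top.mp h') ha
        apply LinearMap.ext
        intro x
        have : aeval π a (aeval π b x) = 0 := LinearMap.congr_fun h0 x
        have hx : aeval π b x ∈ LinearMap.ker (aeval π a) := this
        rw [hinj] at hx
        simpa using hx
      have := finrank_le_natDegree hs hb0 hb
      have ha' : a.natDegree = 0 := by omega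
      rw [natDegree_eq_zero] at ha'
      obtain ⟨x, rfl⟩ := ha'
      have hx : x ≠ 0 := fun h => ha0 (by rw [h, map_zero])
      exact isUnit_C.mpr (isUnit_iff_ne_zero.mpr hx)

end S

section SS
variable {K : Type*} [Field K]
variable {V₁ V₂ : Type*} [AddCommGroup V₁] [Module K V₁] [AddCommGroup V₂] [Module K V₂]

lemma ker_mem_of_itw {π₁ : End K V₁} {π₂ : End K V₂} {h : V₁ →ₗ[K] V₂} (hh : h ∈ Itw π₁ π₂) :
    LinearMap.ker h ∈ π₁.invtSubmodule := by
  rw [mem_invtSubmodule]
  intro x hx
  simp only [Submodule.mem_comap, LinearMap.mem_ker] at hx ⊢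
  rw [mem_Itw.mp hh, hx, map_zero]

lemma range_mem_of_itw {π₁ : End K V₁} {π₂ : End K V₂} {h : V₁ →ₗ[K] V₂} (hh : h ∈ Itw π₁ π₂) :
    LinearMap.range h ∈ π₂.invtSubmodule := by
  rw [mem_invtSubmodule]
  rintro _ ⟨x, rfl⟩
  exact ⟨π₁ x, mem_Itw.mp hh x⟩

lemma itw_ne [FiniteDimensional K V₁] [FiniteDimensional K V₂] [Nontrivial V₁] [Nontrivial V₂]
    {π₁ : End K V₁} {π₂ : End K V₂} (hs₁ : IsSimp π₁) (hs₂ : IsSimp π₂)
    (hne : π₁.charpoly ≠ π₂.charpoly) : finrank K (Itw π₁ π₂) = 0 := by
  have : Itw π₁ π₂ = ⊥ := by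
    rw [eq_bot_iff]
    intro h hh
    rw [Submodule.mem_bot]
    by_contra h0
    have hker : LinearMap.ker h = ⊥ := by
      rcases hs₁ _ (ker_mem_of_itw hh) with h' | h'
      · exact h'
      · exact absurd (LinearMap.ker_eq_top.mp h') h0
    have hrange : LinearMap.range h = ⊤ := by
      rcases hs₂ _ (range_mem_of_itw hh) with h' | h'
      · exact absurd (LinearMap.range_eq_bot.mp h') h0
      · exact h'
    let e : V₁ ≃ₗ[K] V₂ := LinearEquiv.ofBijective h
      ⟨LinearMap.ker_eq_bot.mp hker, LinearMap.range_eq_top.mp hrange⟩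
    have he : e.conj π₁ = π₂ := by
      apply LinearMap.ext
      intro y
      obtain ⟨x, rfl⟩ := e.surjective y
      rw [LinearEquiv.conj_apply]
      simp only [LinearMap.comp_apply, LinearEquiv.coe_coe, LinearEquiv.symm_apply_apply]
      exact mem_Itw.mp hh x
    exact hne (by rw [← he, LinearEquiv.charpoly_conj])
  rw [this, finrank_bot]

lemma itw_eq [FiniteDimensional K V₁] [FiniteDimensional K V₂] [Nontrivial V₁] [Nontrivial V₂]
    {π₁ : End K V₁} {π₂ : End K V₂} (hs₁ : IsSimp π₁) (hs₂ : IsSimp π₂)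
    (heq : π₁.charpoly = π₂.charpoly) : finrank K (Itw π₁ π₂) = finrank K V₂ := by
  obtain ⟨v, hv⟩ := exists_ne (0 : V₁)
  let ev : Itw π₁ π₂ →ₗ[K] V₂ := (LinearMap.applyₗ v) ∘ₗ (Itw π₁ π₂).subtype
  have hinj : Function.Injective ev := by
    rw [← LinearMap.ker_eq_bot, eq_bot_iff]
    rintro ⟨h, hh⟩ hx
    have hv0 : h v = 0 := hx
    have : h = 0 := by
      rcases hs₁ _ (ker_mem_of_itw hh) with h' | h'
      · exfalso
        have : v ∈ LinearMap.ker h := hv0
        rw [h'] at this
        exact hv this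
      · exact LinearMap.ker_eq_top.mp h'
    rw [Submodule.mem_bot]
    exact Subtype.ext this
  have hsurj : Function.Surjective ev := by
    intro w
    have hP := charpoly_irreducible hs₁
    have hsurj₁ := evl_surj hs₁ hv
    obtain ⟨s, hs⟩ := (evl π₁ v).exists_rightInverse_of_surjective
      (LinearMap.range_eq_top.mpr hsurj₁)
    have hker : ∀ q, evl π₁ v q = 0 → evl π₂ w q = 0 := by
      intro q hq
      have h0 : aeval π₁ q = 0 := aeval_eq_zero_of_simp hs₁ hv hq
      have hdvd : π₁.charpoly ∣ q := by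
        by_contra hnd
        have hcop : IsCoprime π₁.charpoly q := (Irreducible.coprime_iff_not_dvd hP).mpr hnd
        obtain ⟨a, b, hab⟩ := hcop
        have := congrArg (fun p => aeval π₁ p v) hab
        simp only [map_add, map_mul, LinearMap.aeval_self_charpoly, h0, mul_zero, add_zero,
          map_one] at this
        exact hv this.symm
      obtain ⟨t, rfl⟩ := hdvd
      rw [evl_apply, heq, map_mul, LinearMap.aeval_self_charpoly, zero_mul]
      rfl
    let h : V₁ →ₗ[K] V₂ := evl π₂ w ∘ₗ s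
    have hh : ∀ q, h (evl π₁ v q) = evl π₂ w q := by
      intro q
      have h1 : evl π₁ v (s (evl π₁ v q) - q) = 0 := by
        rw [map_sub]
        have := LinearMap.congr_fun hs (evl π₁ v q)
        simp only [LinearMap.comp_apply, LinearMap.id_apply] at this
        rw [this, sub_self]
      have := hker _ h1
      rw [map_sub, sub_eq_zero] at this
      exact this
    refine ⟨⟨h, ?_⟩, ?_⟩
    · rw [mem_Itw]
      intro x
      obtain ⟨q, rfl⟩ := hsurj₁ x
      rw [← evl_X_mul, hh, hh, evl_X_mul]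
    · show h v = w
      have h1 : v = evl π₁ v 1 := by simp [evl_apply]
      rw [h1, hh]
      simp [evl_apply]
  exact (LinearEquiv.ofBijective ev ⟨hinj, hsurj⟩).finrank_eq

end SS
section R
variable {K : Type*} [Field K]
open scoped Classical in
/-- the number r(f₁,f₂) -/
noncomputable def rr (f₁ f₂ : K[X]) : ℕ :=
  ∑ P ∈ (normalizedFactors f₁).toFinset,
    (normalizedFactors f₁).count P * (normalizedFactors f₂).count P * P.natDegree

open scoped Classical in
lemma rr_eq (f₁ f₂ : K[X]) : rr f₁ f₂ =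
    ((normalizedFactors f₁).map fun P => (normalizedFactors f₂).count P * P.natDegree).sum := by
  rw [Finset.sum_multiset_map_count]
  unfold rr
  refine Finset.sum_congr rfl fun P _ => ?_
  rw [smul_eq_mul, mul_assoc]

lemma rr_mul_left {f g h : K[X]} (hf : f ≠ 0) (hg : g ≠ 0) : rr (f * g) h = rr f h + rr g h := by
  classical
  rw [rr_eq, rr_eq, rr_eq, normalizedFactors_mul hf hg, Multiset.map_add, Multiset.sum_add]

lemma rr_mul_right {f g h : K[X]} (hf : f ≠ 0) (hg : g ≠ 0) : rr h (f * g) = rr h f + rr h g := by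
  classical
  rw [rr_eq, rr_eq, rr_eq, normalizedFactors_mul hf hg, ← Multiset.sum_map_add]
  congr 1
  refine Multiset.map_congr rfl fun P _ => ?_
  rw [Multiset.count_add, add_mul]

lemma rr_one_left (h : K[X]) : rr 1 h = 0 := by
  classical
  rw [rr_eq, normalizedFactors_one]; simp

lemma rr_one_right (h : K[X]) : rr h 1 = 0 := by
  classical
  rw [rr_eq, normalizedFactors_one]; simp

open scoped Classical in
lemma rr_irred {P Q : K[X]} (hP : Irreducible P) (hPm : P.Monic) (hQ : Irreducible Q) (hQm : Q.Monic) :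
    rr P Q = if P = Q then P.natDegree else 0 := by
  rw [rr_eq, normalizedFactors_irreducible hP, normalizedFactors_irreducible hQ,
    hPm.normalize_eq_self, hQm.normalize_eq_self]
  simp [Multiset.count_singleton]

end R

section Main

lemma charpoly_eq_one_of_subsing {K : Type u} [Field K] {V : Type v} [AddCommGroup V] [Module K V]
    [FiniteDimensional K V] [Subsingleton V] (π : End K V) : π.charpoly = 1 := by
  have h0 : π.charpoly.natDegree = 0 := by
    rw [LinearMap.charpoly_natDegree, finrank_zero_of_subsingleton]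
  exact eq_one_of_monic_natDegree_zero (LinearMap.charpoly_monic π) h0

theorem main {K : Type u} [Field K] (n : ℕ) : ∀ (V₁ : Type v) (V₂ : Type w)
    [AddCommGroup V₁] [Module K V₁] [FiniteDimensional K V₁]
    [AddCommGroup V₂] [Module K V₂] [FiniteDimensional K V₂] (π₁ : End K V₁) (π₂ : End K V₂),
    π₁.IsSemisimple → π₂.IsSemisimple → finrank K V₁ + finrank K V₂ = n →
    finrank K (Itw π₁ π₂) = rr π₁.charpoly π₂.charpoly := by
  induction n using Nat.strong_induction_on with
  | _ n ih =>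
  intro V₁ V₂ _ _ _ _ _ _ π₁ π₂ h₁ h₂ hn
  by_cases hsplit₁ : ∃ W ∈ π₁.invtSubmodule, W ≠ ⊥ ∧ W ≠ ⊤
  · obtain ⟨W, hW, hWbot, hWtop⟩ := hsplit₁
    obtain ⟨W', hW', hc⟩ := (isSemisimple_iff.mp h₁) W hW
    have hW'top : W' ≠ ⊤ := by
      intro h
      rw [h] at hc
      exact hWbot (by simpa using hc.inf_eq_bot)
    have hlt : finrank K W < finrank K V₁ := Submodule.finrank_lt hWtop
    have hlt' : finrank K W' < finrank K V₁ := Submodule.finrank_lt hW'top
    have ih1 := ih (finrank K W + finrank K V₂) (by omega) W V₂ (π₁.restrict hW) π₂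
      (h₁.restrict hW) h₂ rfl
    have ih2 := ih (finrank K W' + finrank K V₂) (by omega) W' V₂ (π₁.restrict hW') π₂
      (h₁.restrict hW') h₂ rfl
    let e : (W × W') ≃ₗ[K] V₁ := Submodule.prodEquivOfIsCompl W W' hc
    have he : ∀ x, π₁ (e x) = e ((π₁.restrict hW).prodMap (π₁.restrict hW') x) := by
      rintro ⟨x, y⟩
      (try simp [e, Submodule.coe_prodEquivOfIsCompl']) <;> (try rfl)
    have hd := (interCongr e (LinearEquiv.refl K V₂)
      ((π₁.restrict hW).prodMap (π₁.restrict hW')) π₂ π₁ π₂ he (fun _ => rfl)).finrank_eq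
    have hcp : π₁.charpoly = (π₁.restrict hW).charpoly * (π₁.restrict hW').charpoly := by
      rw [← LinearMap.charpoly_prodMap,
        ← LinearEquiv.charpoly_conj e ((π₁.restrict hW).prodMap (π₁.restrict hW'))]
      congr 1
      apply LinearMap.ext
      intro y
      obtain ⟨x, rfl⟩ := e.surjective y
      rw [LinearEquiv.conj_apply]
      simp only [LinearMap.comp_apply, LinearEquiv.coe_coe, LinearEquiv.symm_apply_apply]
      exact he x
    rw [← hd, (interProdLeft _ _ _).finrank_eq, finrank_prod, ih1, ih2, hcp,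
      rr_mul_left (LinearMap.charpoly_monic _).ne_zero (LinearMap.charpoly_monic _).ne_zero]
  by_cases hsplit₂ : ∃ W ∈ π₂.invtSubmodule, W ≠ ⊥ ∧ W ≠ ⊤
  · obtain ⟨W, hW, hWbot, hWtop⟩ := hsplit₂
    obtain ⟨W', hW', hc⟩ := (isSemisimple_iff.mp h₂) W hW
    have hW'top : W' ≠ ⊤ := by
      intro h
      rw [h] at hc
      exact hWbot (by simpa using hc.inf_eq_bot)
    have hlt : finrank K W < finrank K V₂ := Submodule.finrank_lt hWtop
    have hlt' : finrank K W' < finrank K V₂ := Submodule.finrank_lt hW'top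
    have ih1 := ih (finrank K V₁ + finrank K W) (by omega) V₁ W π₁ (π₂.restrict hW)
      h₁ (h₂.restrict hW) rfl
    have ih2 := ih (finrank K V₁ + finrank K W') (by omega) V₁ W' π₁ (π₂.restrict hW')
      h₁ (h₂.restrict hW') rfl
    let e : (W × W') ≃ₗ[K] V₂ := Submodule.prodEquivOfIsCompl W W' hc
    have he : ∀ x, π₂ (e x) = e ((π₂.restrict hW).prodMap (π₂.restrict hW') x) := by
      rintro ⟨x, y⟩
      (try simp [e, Submodule.coe_prodEquivOfIsCompl']) <;> (try rfl)
    have hd := (interCongr (LinearEquiv.refl K V₁) e π₁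
      ((π₂.restrict hW).prodMap (π₂.restrict hW')) π₁ π₂ (fun _ => rfl) he).finrank_eq
    have hcp : π₂.charpoly = (π₂.restrict hW).charpoly * (π₂.restrict hW').charpoly := by
      rw [← LinearMap.charpoly_prodMap,
        ← LinearEquiv.charpoly_conj e ((π₂.restrict hW).prodMap (π₂.restrict hW'))]
      congr 1
      apply LinearMap.ext
      intro y
      obtain ⟨x, rfl⟩ := e.surjective y
      rw [LinearEquiv.conj_apply]
      simp only [LinearMap.comp_apply, LinearEquiv.coe_coe, LinearEquiv.symm_apply_apply]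
      exact he x
    haveI : Module.Free K ↥(Itw π₁ (π₂.restrict hW)) :=
      Module.Free.of_divisionRing K ↥(Itw π₁ (π₂.restrict hW))
    haveI : Module.Free K ↥(Itw π₁ (π₂.restrict hW')) :=
      Module.Free.of_divisionRing K ↥(Itw π₁ (π₂.restrict hW'))
    rw [← hd, (interProdRight _ _ _).finrank_eq, finrank_prod, ih1, ih2, hcp,
      rr_mul_right (LinearMap.charpoly_monic _).ne_zero (LinearMap.charpoly_monic _).ne_zero]
  have hs₁ : IsSimp π₁ := by
    intro W hW
    by_contra hcon
    rw [not_or] at hcon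
    exact hsplit₁ ⟨W, hW, hcon.1, hcon.2⟩
  have hs₂ : IsSimp π₂ := by
    intro W hW
    by_contra hcon
    rw [not_or] at hcon
    exact hsplit₂ ⟨W, hW, hcon.1, hcon.2⟩
  rcases subsingleton_or_nontrivial V₁ with hV₁ | hV₁
  · rw [charpoly_eq_one_of_subsing π₁, rr_one_left]
    haveI : Subsingleton (V₁ →ₗ[K] V₂) := ⟨fun a b => LinearMap.ext fun x => by
      rw [Subsingleton.elim x 0, map_zero, map_zero]⟩
    exact finrank_zero_of_subsingleton
  rcases subsingleton_or_nontrivial V₂ with hV₂ | hV₂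
  · rw [charpoly_eq_one_of_subsing π₂, rr_one_right]
    haveI : Subsingleton (V₁ →ₗ[K] V₂) := ⟨fun a b => LinearMap.ext fun x => Subsingleton.elim _ _⟩
    exact finrank_zero_of_subsingleton
  rw [rr_irred (charpoly_irreducible hs₁) (LinearMap.charpoly_monic _)
    (charpoly_irreducible hs₂) (LinearMap.charpoly_monic _)]
  by_cases heq : π₁.charpoly = π₂.charpoly
  · rw [if_pos heq, itw_eq hs₁ hs₂ heq, heq, LinearMap.charpoly_natDegree]
  · rw [if_neg heq, itw_ne hs₁ hs₂ heq]

end Main


open UniqueFactorizationMonoid in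
/-- Let K be any field, V₁ and V₂ finite-dimensional K-vector spaces and π₁, π₂ semisimple endomorphisms
of V₁, V₂ with characteristic polynomials f₁, f₂. Make V_i a K[t]-module by letting t act as π_i.
Then the space Hom_{K[t]}(V₁, V₂) of K-linear maps h with π₂ ∘ h = h ∘ π₁ has K-dimension r(f₁, f₂)
= Σ_P mult_P(f₁) · mult_P(f₂) · deg P, the sum over the monic irreducible polynomials P in K[t]. (No
restriction on the characteristic of K.) -/
theorem result (K : Type u) [Field K]
    (V₁ : Type v) (V₂ : Type w) [AddCommGroup V₁] [Module K V₁] [FiniteDimensional K V₁]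
    [AddCommGroup V₂] [Module K V₂] [FiniteDimensional K V₂]
    (π₁ : Module.End K V₁) (π₂ : Module.End K V₂) (h₁ : π₁.IsSemisimple) (h₂ : π₂.IsSemisimple) :
    Module.finrank K (LinearMap.ker (LinearMap.lcomp K V₂ π₁ - LinearMap.llcomp K V₁ V₂ V₂ π₂ :
        (V₁ →ₗ[K] V₂) →ₗ[K] (V₁ →ₗ[K] V₂))) =
      ∑ P ∈ (normalizedFactors π₁.charpoly).toFinset,
        (normalizedFactors π₁.charpoly).count P * (normalizedFactors π₂.charpoly).count P * P.natDegree := by
  have := main (finrank K V₁ + finrank K V₂) V₁ V₂ π₁ π₂ h₁ h₂ rfl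
  unfold Itw rr at this
  convert this

end Groth.Agent.S16837
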