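import Groth.Statements.S1684
import Mathlib
import Groth.Agent.S1570
import Groth.Agent.Lib.Helper91.IntegralSub

set_option autoImplicit false
universe u
open CategoryTheory CategoryTheory.Limits AlgebraicGeometry TopologicalSpace
open SDiv

namespace Groth.Agent.S1684

/-- Let X be a locally Noetherian scheme and 𝓘 a quasi-coherent ideal sheaf whose closed subscheme D is
integral, of codimension 1 in X (the local ring of X at the generic point of D has dimension 1), and
such that the local ring of X at every point of D is a unique factorisation domain. Then 𝓘 is the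
ideal sheaf of an effective Cartier divisor. -/
theorem result (X : Scheme.{u}) [IsLocallyNoetherian X] (𝓘 : X.IdealSheafData)
    [IsIntegral 𝓘.subscheme]
    (hcodim : ringKrullDim (X.presheaf.stalk (𝓘.subschemeι (genericPoint ↥𝓘.subscheme))) = 1)
    (hufd : ∀ x : ↥X, x ∈ 𝓘.support → IsDomain (X.presheaf.stalk x) ∧ UniqueFactorizationMonoid (X.presheaf.stalk x)) :
    BlowUp.IsEffCartierIdeal 𝓘 := by
  apply Groth.Agent.S1570.result
  intro x hx U hxU
  obtain ⟨hdom, hufd'⟩ := hufd x hx
  have h := Groth.Agent.Lib.Helper91.IntegralSub.genericPoint_specializes_of_mem_support 𝓘 hx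
  have hζU : 𝓘.subschemeι (genericPoint 𝓘.subscheme) ∈ U.1 := h.mem_open U.1.isOpen hxU
  have hI := Groth.Agent.Lib.Helper91.IntegralSub.ideal_eq_primeIdealOf 𝓘 U hζU
  have hmap := Groth.Agent.Lib.Helper91.GenPrime.map_germ_primeIdealOf_eq_primeOf U.2 h hxU
  have hht : (Groth.Agent.Lib.Helper91.GenPrime.primeOf h).height = 1 := by
    have h1 := Groth.Agent.Lib.Helper91.GenPrime.ringKrullDim_stalk_eq_height h
    rw [hcodim] at h1
    exact_mod_cast h1.symm
  obtain ⟨t, ht⟩ := (UniqueFactorizationMonoid.isPrincipal_of_height_eq_one hht).principal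
  refine ⟨t, ?_, ?_⟩
  · apply mem_nonZeroDivisors_of_ne_zero
    rintro rfl
    have hbot : Groth.Agent.Lib.Helper91.GenPrime.primeOf h = ⊥ := by
      rw [ht]; simp
    exact Ideal.ne_bot_of_height_eq_one hht hbot
  · rw [hI, hmap, ht]

end Groth.Agent.S1684
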