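import Groth.Statements.S16886
import Groth.Agent.Lib.Helper43.GerbOver
import Groth.Agent.Lib.Helper43.GerbDesc
import Groth.Agent.Lib.Helper43.StkOver

set_option autoImplicit false
open CategoryTheory
universe v u
open Gerb

namespace Groth.Agent.S16886

/-- (2) ⇒ (1): let `𝒳`, `𝒴` be stacks in groupoids over the site `(C, J)` and `F : 𝒳 ⟶ 𝒴` a functor over
`C` making `𝒳` a gerbe over `𝒴` (objects of `𝒴` come from `𝒳` locally and morphisms between images
lift locally). Then for every factorization `F = a ⋙ F'` through a category `𝒳'` over `C` with `a :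
𝒳 ⟶ 𝒳'` an equivalence in the 2-category of categories over `C` and `F' : 𝒳' ⟶ 𝒴` a functor whose
underlying functor makes `𝒳'` fibred in groupoids over `𝒴`, the category `𝒳'` over `𝒴` (through
`F'`) is a gerbe over the site `𝒴` with the topology inherited from `J`. (Only this implication is
stated; the converse is asserted in the published item with its verification not carried out.) -/
theorem result {C : Type u} [Category.{v} C]
    (J : GrothendieckTopology C) {𝒳 𝒴 𝒳' : BasedCategory.{v, max u v} C}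
    (h𝒳 : Stk.IsStack J 𝒳) (h𝒴 : Stk.IsStack J 𝒴) (F : 𝒳 ⥤ᵇ 𝒴) (hF : Gerb.IsGerbeOver J F)
    (a : 𝒳 ⥤ᵇ 𝒳') (ha : FibCat.IsEquivOver a) (F' : 𝒳' ⥤ᵇ 𝒴) (hF' : FibCat.IsFibGrpd F'.toFunctor)
    (hfac : BasedFunctor.comp a F' = F) :
    Gerb.IsGerbe (𝒴.p.restrictedTopology J) (BasedCategory.ofFunctor F'.toFunctor) := by
  have h𝒳' : Stk.IsStack J 𝒳' :=
    (Groth.Agent.Lib.Helper80.isStack_iff_of_isEquivOver J a ha).1 h𝒳
  have hG : Gerb.IsGerbeOver J F' := by
    apply Groth.Agent.Lib.Helper43.GerbDesc.isGerbeOver_of_comp_isEquivOver J a F' ha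
    rw [hfac]; exact hF
  have hE : Stk.IsStack J (BasedCategory.ofFunctor (F'.toFunctor ⋙ 𝒴.p)) := by
    have hw : F'.toFunctor ⋙ 𝒴.p = 𝒳'.p := F'.w
    rw [hw]
    exact h𝒳'
  exact ⟨Groth.Agent.Lib.Helper43.StkOver.isStack_over 𝒴.p h𝒴.1 F'.toFunctor J hF' h𝒴 hE,
    Groth.Agent.Lib.Helper43.GerbOver.isGerbeOver_toSelf J F' hF' h𝒴.1 hG⟩

end Groth.Agent.S16886
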