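import Groth.Statements.S16900
import Groth.Agent.Lib.Helper84.Cyc8

set_option autoImplicit false
universe u
open Polynomial
open Vanish

namespace Groth.Agent.S16900

theorem arith (N α : ℕ) (hN : 0 < N) : ∃ (g N₁ α₁ a : ℕ) (b : ℤ),
    N = g * N₁ ∧ α = g * α₁ ∧ g ≠ 0 ∧ N₁ ≠ 0 ∧ (a : ℤ) * α₁ - b * N₁ = 1 := by
  have hgpos : 0 < Nat.gcd N α := Nat.gcd_pos_of_pos_left _ hN
  obtain ⟨N₁, hN₁⟩ : Nat.gcd N α ∣ N := Nat.gcd_dvd_left _ _
  obtain ⟨α₁, hα₁⟩ : Nat.gcd N α ∣ α := Nat.gcd_dvd_right _ _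
  have hN₁0 : N₁ ≠ 0 := by
    rintro rfl
    rw [mul_zero] at hN₁
    omega
  have hcop : Nat.gcd α₁ N₁ = 1 := by
    have h1 : Nat.gcd (Nat.gcd N α * N₁) (Nat.gcd N α * α₁) = Nat.gcd N α := by
      rw [← hN₁, ← hα₁]
    rw [Nat.gcd_mul_left] at h1
    have h2 : Nat.gcd N₁ α₁ = 1 := Nat.eq_of_mul_eq_mul_left hgpos (by rw [h1, mul_one])
    rw [Nat.gcd_comm]; exact h2
  have hb := Nat.gcd_eq_gcd_ab α₁ N₁
  rw [hcop] at hb
  have hnn : 0 ≤ Nat.gcdA α₁ N₁ + N₁ * (Nat.gcdA α₁ N₁).natAbs := by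
    have h1 : (1 : ℤ) ≤ N₁ := by omega
    have h2 : -(Nat.gcdA α₁ N₁) ≤ (Nat.gcdA α₁ N₁).natAbs := by omega
    have h3 : (0 : ℤ) ≤ (Nat.gcdA α₁ N₁).natAbs := Int.natCast_nonneg _
    nlinarith
  refine ⟨Nat.gcd N α, N₁, α₁, (Nat.gcdA α₁ N₁ + N₁ * (Nat.gcdA α₁ N₁).natAbs).toNat,
    -(Nat.gcdB α₁ N₁) + (Nat.gcdA α₁ N₁).natAbs * α₁, hN₁, hα₁, hgpos.ne', hN₁0, ?_⟩
  rw [Int.toNat_of_nonneg hnn]
  push_cast at hb ⊢
  linear_combination (-1 : ℤ) * hb

/-- Let k be an algebraically closed field and B an integral domain of finite type over k all of whose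
localizations at primes are regular (an affine open Spec B of a manifold); let N ≥ 1 be invertible
in k, u a unit of B, α a natural number and f₁ ≠ 0 an element of B such that all local rings of
B/f₁B are regular (the divisor D₁ = V(f₁) is non-singular; f₁ may be a unit). With A' = B[t]/(t^N −
u·f₁^α) (the algebra of the N-th root of the section u·f₁^α) and K = A'[1/f₁], let A ⊆ K be the
B-subalgebra generated by the N elements t^i · f₁^(−⌊iα/N⌋), 0 ≤ i < N. Then A is finite over B, A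
is the integral closure of A' in K (Spec A is the normalization of Spec A', finite and normal over
Spec B), and Spec A is non-singular: every localization of A at a prime ideal is a regular local
ring. -/
theorem result (k : Type u) [Field k] [IsAlgClosed k]
    (B : Type u) [CommRing B] [IsDomain B] [Algebra k B] [Algebra.FiniteType k B]
    (hreg : ∀ (P : Ideal B) [P.IsPrime], IsRegularLocalRing (Localization.AtPrime P))
    (N : ℕ) (hN : 0 < N) (hNk : IsUnit ((N : ℕ) : k)) (u : Bˣ) (α : ℕ) (f₁ : B) (hf₁ : f₁ ≠ 0)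
    (hD : ∀ (P : Ideal (B ⧸ Ideal.span ({f₁} : Set B))) [P.IsPrime], IsRegularLocalRing (Localization.AtPrime P))
    (A : Subalgebra B (Localization.Away
      (algebraMap B (AdjoinRoot (X ^ N - C ((u : B) * f₁ ^ α) : B[X])) f₁)))
    (hA : A = Algebra.adjoin B (Set.range fun i : Fin N =>
      algebraMap (AdjoinRoot (X ^ N - C ((u : B) * f₁ ^ α) : B[X])) (Localization.Away
        (algebraMap B (AdjoinRoot (X ^ N - C ((u : B) * f₁ ^ α) : B[X])) f₁))
        (AdjoinRoot.root (X ^ N - C ((u : B) * f₁ ^ α) : B[X]) ^ (i : ℕ)) *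
      IsLocalization.Away.invSelf (S := Localization.Away
        (algebraMap B (AdjoinRoot (X ^ N - C ((u : B) * f₁ ^ α) : B[X])) f₁))
        (algebraMap B (AdjoinRoot (X ^ N - C ((u : B) * f₁ ^ α) : B[X])) f₁) ^ ((i : ℕ) * α / N))) :
    Module.Finite B A ∧
      IsIntegralClosure A (AdjoinRoot (X ^ N - C ((u : B) * f₁ ^ α) : B[X]))
        (Localization.Away (algebraMap B (AdjoinRoot (X ^ N - C ((u : B) * f₁ ^ α) : B[X])) f₁)) ∧
      ∀ (Q : Ideal A) [Q.IsPrime], IsRegularLocalRing (Localization.AtPrime Q) := by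
  have hNoeth : IsNoetherianRing B := Algebra.FiniteType.isNoetherianRing k B
  have hregB : IsRegularRing B := isRegularRing_iff.mpr (fun P _ => hreg P)
  have hD' : IsRegularRing (B ⧸ Ideal.span ({f₁} : Set B)) :=
    isRegularRing_iff.mpr (fun P _ => hD P)
  obtain ⟨g, N₁, α₁, a, b, hNeq, hαeq, hg, hN₁, h⟩ := arith N α hN
  subst hNeq hαeq
  have hNB : IsUnit ((g * N₁ : ℕ) : B) := by
    have := hNk.map (algebraMap k B)
    rwa [map_natCast] at this
  rw [Nat.cast_mul] at hNB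
  have hgu : IsUnit (g : B) := isUnit_of_mul_isUnit_left hNB
  have hNu : IsUnit (N₁ : B) := isUnit_of_mul_isUnit_right hNB
  subst hA
  obtain ⟨h1, h2, h3⟩ := Groth.Agent.Lib.Helper84.Cyc.main g N₁ α₁ a b u f₁ h hg hN₁ hgu hNu
    hf₁ hD'
  exact ⟨h1, h2, fun Q hQ => @IsRegularRing.isRegularLocalRing_localization _ _ h3 Q hQ⟩

end Groth.Agent.S16900
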