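import Groth.Statements.S16917
import Groth.Agent.Lib.Helper85.CountableUnion
import Groth.Agent.Lib.Helper85.IrrACC

set_option autoImplicit false
open CategoryTheory AlgebraicGeometry
universe u
open Variety

namespace Groth.Agent.S16917


open TopologicalSpace in
/-- comparison of two decompositions -/
theorem compare (k : Type u) [Field k] [IsAlgClosed k]
    [Uncountable k] (X : Scheme.{u}) (sX : X ⟶ Spec (CommRingCat.of k)) [LocallyOfFiniteType sX]
    (S₁ S₂ : Set (Closeds X)) (h₁ : ∀ T ∈ S₁, IsIrreducible (T : Set X))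
    (hc₂ : S₂.Countable)
    (heq : {x : X | IsClosed ({x} : Set X) ∧ ∃ T ∈ S₁, x ∈ T} =
      {x : X | IsClosed ({x} : Set X) ∧ ∃ T ∈ S₂, x ∈ T})
    (T : Closeds X) (hT : T ∈ S₁) : ∃ T' ∈ S₂, T ≤ T' := by
  by_contra hcon
  push Not at hcon
  have hc : (insert (⊥ : Closeds X) S₂).Countable := hc₂.insert _
  obtain ⟨Z, hZ⟩ := hc.exists_eq_range (Set.insert_nonempty _ _)
  have hZn : ∀ n, ¬ (T : Set X) ⊆ (Z n : Set X) := by
    intro n hn
    have hmem : Z n ∈ insert (⊥ : Closeds X) S₂ := by rw [hZ]; exact ⟨n, rfl⟩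
    rcases hmem with h | h
    · rw [h] at hn
      obtain ⟨x, hx⟩ := (h₁ T hT).nonempty
      exact hn hx
    · exact hcon _ h hn
  obtain ⟨x, ⟨-, hxT⟩, hxc, hxZ⟩ := Groth.Agent.Lib.Helper85.exists_closedPoint_avoiding X sX
    (T : Set X) (h₁ T hT) T.isClosed Z hZn Set.univ isOpen_univ
    (by simpa using (h₁ T hT).nonempty)
  have hx1 : x ∈ {x : X | IsClosed ({x} : Set X) ∧ ∃ T ∈ S₁, x ∈ T} := ⟨hxc, T, hT, hxT⟩
  rw [heq] at hx1
  obtain ⟨-, T', hT', hxT'⟩ := hx1
  have hmem : T' ∈ Set.range Z := by rw [← hZ]; exact Set.mem_insert_of_mem _ hT'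
  obtain ⟨n, rfl⟩ := hmem
  exact hxZ n hxT'

/-- Let k be an uncountable algebraically closed field, X a k-scheme of finite type and Z₀, Z₁, …
countably many closed subsets of X. Then the countable union of the Zₙ, read through closed points,
has a unique irredundant decomposition: there is exactly one countable family S of irreducible
closed subsets of X, pairwise not contained in one another, such that a closed point of X lies in
some member of S if and only if it lies in some Zₙ. (The published statement is the existence and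
uniqueness of the irredundant decomposition of a countable union of algebraic varieties into
c-components, a variety being read through its closed points; with all points of the scheme the
uniqueness would not need the uncountable field.) -/
theorem result (k : Type u) [Field k] [IsAlgClosed k]
    [Uncountable k] (X : Scheme.{u}) (sX : X ⟶ Spec (CommRingCat.of k)) [LocallyOfFiniteType sX]
    [QuasiCompact sX] (Z : ℕ → TopologicalSpace.Closeds X) :
    ∃! S : Set (TopologicalSpace.Closeds X), S.Countable ∧ (∀ T ∈ S, IsIrreducible (T : Set X)) ∧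
      IsAntichain (· ≤ ·) S ∧
      {x : X | IsClosed ({x} : Set X) ∧ ∃ T ∈ S, x ∈ T} =
        {x : X | IsClosed ({x} : Set X) ∧ ∃ n, x ∈ Z n} := by
  classical
  have hLN : IsLocallyNoetherian X := LocallyOfFiniteType.isLocallyNoetherian sX
  have hCS : CompactSpace X := QuasiCompact.compactSpace_of_compactSpace sX
  have hN : IsNoetherian X := { }
  have hNS : TopologicalSpace.NoetherianSpace X := inferInstance
  choose Sn hSn_irr hSn_eq using fun n =>
    TopologicalSpace.NoetherianSpace.exists_finset_irreducible (Z n)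
  let C : Set (TopologicalSpace.Closeds X) := ⋃ n, (Sn n : Set (TopologicalSpace.Closeds X))
  have hCc : C.Countable := Set.countable_iUnion fun n => (Sn n).countable_toSet
  have hCirr : ∀ T ∈ C, IsIrreducible (T : Set X) := by
    intro T hT
    obtain ⟨n, hn⟩ := Set.mem_iUnion.mp hT
    exact hSn_irr n ⟨T, hn⟩
  have hCle : ∀ T ∈ C, ∃ n, T ≤ Z n := by
    intro T hT
    obtain ⟨n, hn⟩ := Set.mem_iUnion.mp hT
    refine ⟨n, ?_⟩
    rw [hSn_eq n]
    exact Finset.le_sup (f := id) hn
  have hZC : ∀ n, ∀ x ∈ Z n, ∃ T ∈ C, x ∈ T := by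
    intro n x hx
    rw [hSn_eq n] at hx
    have hx' : x ∈ ((Sn n).sup id : TopologicalSpace.Closeds X) := hx
    rw [← SetLike.mem_coe, TopologicalSpace.Closeds.coe_finset_sup, Finset.sup_set_eq_biUnion] at hx'
    obtain ⟨T, hT⟩ := Set.mem_iUnion.mp hx'
    obtain ⟨hTn, hxT⟩ := Set.mem_iUnion.mp hT
    exact ⟨T, Set.mem_iUnion.mpr ⟨n, hTn⟩, hxT⟩
  let S : Set (TopologicalSpace.Closeds X) := {T | T ∈ C ∧ ∀ T' ∈ C, T ≤ T' → T' = T}
  have hprops : ∀ S' : Set (TopologicalSpace.Closeds X),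
      (S'.Countable ∧ (∀ T ∈ S', IsIrreducible (T : Set X)) ∧
      IsAntichain (· ≤ ·) S' ∧
      {x : X | IsClosed ({x} : Set X) ∧ ∃ T ∈ S', x ∈ T} =
        {x : X | IsClosed ({x} : Set X) ∧ ∃ n, x ∈ Z n}) →
      ∀ S'' : Set (TopologicalSpace.Closeds X),
      (S''.Countable ∧ (∀ T ∈ S'', IsIrreducible (T : Set X)) ∧
      IsAntichain (· ≤ ·) S'' ∧
      {x : X | IsClosed ({x} : Set X) ∧ ∃ T ∈ S'', x ∈ T} =
        {x : X | IsClosed ({x} : Set X) ∧ ∃ n, x ∈ Z n}) → S' ⊆ S'' := by
    rintro S' ⟨hc', hi', ha', he'⟩ S'' ⟨hc'', hi'', ha'', he''⟩ T hT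
    obtain ⟨T', hT', hTT'⟩ := compare k X sX S' S'' hi' hc'' (he'.trans he''.symm) T hT
    obtain ⟨T'', hT'', hT'T''⟩ := compare k X sX S'' S' hi'' hc' (he''.trans he'.symm) T' hT'
    have : T = T'' := by
      by_contra hne
      exact ha' hT hT'' hne (hTT'.trans hT'T'')
    have : T = T' := le_antisymm hTT' (this ▸ hT'T'')
    rw [this]; exact hT'
  have hS : S.Countable ∧ (∀ T ∈ S, IsIrreducible (T : Set X)) ∧
      IsAntichain (· ≤ ·) S ∧
      {x : X | IsClosed ({x} : Set X) ∧ ∃ T ∈ S, x ∈ T} =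
        {x : X | IsClosed ({x} : Set X) ∧ ∃ n, x ∈ Z n} := by
    refine ⟨hCc.mono fun T hT => hT.1, fun T hT => hCirr T hT.1, ?_, ?_⟩
    · intro T hT T' hT' hne hle
      exact hne (hT.2 T' hT'.1 hle).symm
    · ext x
      constructor
      · rintro ⟨hxc, T, hT, hxT⟩
        obtain ⟨n, hn⟩ := hCle T hT.1
        exact ⟨hxc, n, hn hxT⟩
      · rintro ⟨hxc, n, hxn⟩
        obtain ⟨T₀, hT₀, hxT₀⟩ := hZC n x hxn
        obtain ⟨T, hTC, hle, hmax⟩ :=
          Groth.Agent.Lib.Helper85.exists_maximal_irreducible_ge C hCirr T₀ hT₀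
        exact ⟨hxc, T, ⟨hTC, hmax⟩, hle hxT₀⟩
  exact ⟨S, hS, fun S' hS' => Set.Subset.antisymm (hprops S' hS' S hS) (hprops S hS S' hS')⟩

end Groth.Agent.S16917
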