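import Groth.Statements.S16919
import Mathlib

set_option autoImplicit false
universe u
open TensorProduct
open CAlg

namespace Groth.Agent.S16919


open Cardinal in
/-- two algebraically closed extensions of a domain with the same transcendence degree are
isomorphic over it -/
theorem exists_equiv_of_trdeg_eq (R₀ K L : Type u) [CommRing R₀] [IsDomain R₀] [Field K] [Field L]
    [IsAlgClosed K] [IsAlgClosed L] [Algebra R₀ K] [Algebra R₀ L] [FaithfulSMul R₀ K]
    [FaithfulSMul R₀ L] (h : Algebra.trdeg R₀ K = Algebra.trdeg R₀ L) :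
    ∃ e : K ≃+* L, ∀ r : R₀, e (algebraMap R₀ K r) = algebraMap R₀ L r := by
  obtain ⟨s, hs⟩ := exists_isTranscendenceBasis R₀ K
  obtain ⟨t, ht⟩ := exists_isTranscendenceBasis R₀ L
  have hcard : #s = #t := by rw [hs.cardinalMk_eq_trdeg, ht.cardinalMk_eq_trdeg, h]
  obtain ⟨e₀⟩ := Cardinal.eq.mp hcard
  let e' : Algebra.adjoin R₀ (Set.range ((↑) : s → K)) ≃ₐ[R₀]
      Algebra.adjoin R₀ (Set.range ((↑) : t → L)) :=
    hs.1.aevalEquiv.symm.trans ((MvPolynomial.renameEquiv R₀ e₀).trans ht.1.aevalEquiv)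
  haveI := IsAlgClosed.isAlgClosure_of_transcendence_basis _ hs
  haveI := IsAlgClosed.isAlgClosure_of_transcendence_basis _ ht
  refine ⟨IsAlgClosure.equivOfEquiv K L e'.toRingEquiv, fun r => ?_⟩
  rw [IsScalarTower.algebraMap_apply R₀ (Algebra.adjoin R₀ (Set.range ((↑) : s → K))) K,
    IsAlgClosure.equivOfEquiv_algebraMap]
  change algebraMap _ L (e' (algebraMap R₀ _ r)) = _
  rw [e'.commutes, ← IsScalarTower.algebraMap_apply]

/-- the abstract form: `Ω` of finite transcendence degree over `k`, `k` of infinite transcendence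
degree over `k₀`, `R₀` finitely generated over `k₀` embedded in both. -/
theorem exists_equiv_extending (k₀ k Ω R₀ : Type u) [Field k₀] [Field k] [Field Ω] [Algebra k₀ k]
    [Algebra k₀ Ω] [Algebra k Ω] [IsScalarTower k₀ k Ω] [IsAlgClosed k] [IsAlgClosed Ω]
    [CommRing R₀] [Algebra k₀ R₀] [Algebra.FiniteType k₀ R₀]
    (ι₁ : R₀ →ₐ[k₀] Ω) (ι₂ : R₀ →ₐ[k₀] k) (h₁ : Function.Injective ι₁)
    (h₂ : Function.Injective ι₂) (hinf : Cardinal.aleph0 ≤ Algebra.trdeg k₀ k)
    (hfin : Algebra.trdeg k Ω < Cardinal.aleph0) :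
    ∃ e : Ω ≃+* k, ∀ r : R₀, e (ι₁ r) = ι₂ r := by
  have hdom : IsDomain R₀ := h₂.isDomain ι₂.toRingHom
  letI a₂ : Algebra R₀ k := ι₂.toRingHom.toAlgebra
  letI a₁ : Algebra R₀ Ω := ι₁.toRingHom.toAlgebra
  haveI t₂ : IsScalarTower k₀ R₀ k := IsScalarTower.of_algebraMap_eq fun c => (ι₂.commutes c).symm
  haveI t₁ : IsScalarTower k₀ R₀ Ω := IsScalarTower.of_algebraMap_eq fun c => (ι₁.commutes c).symm
  haveI f₂ : FaithfulSMul R₀ k := (faithfulSMul_iff_algebraMap_injective R₀ k).mpr h₂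
  haveI f₁ : FaithfulSMul R₀ Ω := (faithfulSMul_iff_algebraMap_injective R₀ Ω).mpr h₁
  have hfin₀ : Algebra.trdeg k₀ R₀ < Cardinal.aleph0 := trdeg_lt_aleph0_of_finiteType
  have h1 : Algebra.trdeg k₀ R₀ + Algebra.trdeg R₀ k = Algebra.trdeg k₀ k :=
    trdeg_add_eq k₀ R₀
  have hk : Algebra.trdeg R₀ k = Algebra.trdeg k₀ k :=
    Cardinal.eq_of_add_eq_of_aleph0_le h1 (hfin₀.trans_le hinf) hinf
  have h2 : Algebra.trdeg k₀ R₀ + Algebra.trdeg R₀ Ω = Algebra.trdeg k₀ Ω :=
    trdeg_add_eq k₀ R₀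
  have h3 : Algebra.trdeg k₀ k + Algebra.trdeg k Ω = Algebra.trdeg k₀ Ω :=
    trdeg_add_eq k₀ k
  have h6 : Algebra.trdeg k₀ Ω = Algebra.trdeg k₀ k := by
    rw [← h3]
    exact Cardinal.add_eq_left hinf (hfin.le.trans hinf)
  have hΩ : Algebra.trdeg R₀ Ω = Algebra.trdeg k₀ k := by
    rw [← h6]
    exact Cardinal.eq_of_add_eq_of_aleph0_le h2 (hfin₀.trans_le (h6 ▸ hinf)) (h6 ▸ hinf)
  obtain ⟨e, he⟩ := exists_equiv_of_trdeg_eq R₀ Ω k (hΩ.trans hk.symm)
  exact ⟨e, fun r => he r⟩

/-- Let k₀ → k be an extension of fields with k algebraically closed and of infinite transcendence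
degree over k₀, R₀ a finitely generated k₀-algebra whose base change R = k ⊗ R₀ is an integral
domain (so Spec R is an integral affine k-scheme of finite type with the model Spec R₀ over k₀), and
P a k-point of Spec R, i.e. a k-algebra homomorphism ev : R → k, lying over the generic point of
Spec R₀, i.e. with ev injective on R₀. Then there is a field isomorphism e from an algebraic closure
of the fraction field of R (the function field of Spec R) onto k such that e(1 ⊗ r) = ev(1 ⊗ r) for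
every r in R₀: e extends evaluation at P on R₀. (The published setting has k algebraically closed of
characteristic zero and of infinite transcendence degree over its prime field, and k₀ the subfield
generated by the coefficients of equations of Spec R, which is finitely generated over the prime
field, so that k has infinite transcendence degree over k₀; only this last property and no
characteristic assumption enter here. The isomorphism is not canonical.) -/
theorem result (k₀ k : Type u)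
    [Field k₀] [Field k] [Algebra k₀ k] [IsAlgClosed k] (hinf : ∃ x : ℕ → k, AlgebraicIndependent k₀ x)
    (R₀ : Type u) [CommRing R₀] [Algebra k₀ R₀] [Algebra.FiniteType k₀ R₀] [IsDomain (k ⊗[k₀] R₀)]
    (ev : k ⊗[k₀] R₀ →ₐ[k] k) (hP : Function.Injective fun r : R₀ => ev (1 ⊗ₜ[k₀] r)) :
    ∃ e : AlgebraicClosure (FractionRing (k ⊗[k₀] R₀)) ≃+* k,
      ∀ r : R₀, e (algebraMap (k ⊗[k₀] R₀) (AlgebraicClosure (FractionRing (k ⊗[k₀] R₀)))
        (1 ⊗ₜ[k₀] r)) = ev (1 ⊗ₜ[k₀] r) := by
  classical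
  obtain ⟨x, hx⟩ := hinf
  let R := k ⊗[k₀] R₀
  let Ω := AlgebraicClosure (FractionRing R)
  let ι₂ : R₀ →ₐ[k₀] k := (ev.restrictScalars k₀).comp Algebra.TensorProduct.includeRight
  have hι₂ : ∀ r, ι₂ r = ev (1 ⊗ₜ[k₀] r) := fun r => rfl
  have hι₂inj : Function.Injective ι₂ := hP
  let ι₁ : R₀ →ₐ[k₀] Ω := (IsScalarTower.toAlgHom k₀ R Ω).comp Algebra.TensorProduct.includeRight
  have hι₁ : ∀ r, ι₁ r = algebraMap R Ω (1 ⊗ₜ[k₀] r) := fun r => rfl
  have hRΩinj : Function.Injective (algebraMap R Ω) := by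
    rw [IsScalarTower.algebraMap_eq R (FractionRing R) Ω]
    exact (algebraMap (FractionRing R) Ω).injective.comp (IsFractionRing.injective R _)
  have hι₁inj : Function.Injective ι₁ := by
    intro a b hab
    apply hι₂inj
    have := hRΩinj hab
    change (1 : k) ⊗ₜ[k₀] a = 1 ⊗ₜ[k₀] b at this
    rw [hι₂, hι₂, this]
  haveI fR : FaithfulSMul R Ω := (faithfulSMul_iff_algebraMap_injective R Ω).mpr hRΩinj
  have hinf' : Cardinal.aleph0 ≤ Algebra.trdeg k₀ k := by
    have := hx.lift_cardinalMk_le_trdeg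
    simpa using this
  have h4 : Algebra.trdeg k R + Algebra.trdeg R Ω = Algebra.trdeg k Ω :=
    trdeg_add_eq k R
  have halg : Algebra.IsAlgebraic R Ω := by
    haveI : Algebra.IsAlgebraic R (FractionRing R) :=
      IsLocalization.isAlgebraic (FractionRing R) (nonZeroDivisors R)
    exact Algebra.IsAlgebraic.trans R (FractionRing R) Ω
  have h5 : Algebra.trdeg R Ω = 0 := trdeg_eq_zero
  have hfinR : Algebra.trdeg k R < Cardinal.aleph0 := trdeg_lt_aleph0_of_finiteType
  have hfin : Algebra.trdeg k Ω < Cardinal.aleph0 := by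
    rw [← h4, h5, add_zero]; exact hfinR
  obtain ⟨e, he⟩ := exists_equiv_extending k₀ k Ω R₀ ι₁ ι₂ hι₁inj hι₂inj hinf' hfin
  exact ⟨e, fun r => he r⟩

end Groth.Agent.S16919
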