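import Groth.Statements.S1692
import Groth.Agent.Lib.Helper98.LocFinComp

set_option autoImplicit false
universe u
open CategoryTheory CategoryTheory.Limits AlgebraicGeometry TopologicalSpace
open SDiv

namespace Groth.Agent.S1692

/-- Let X be a locally Noetherian integral scheme and f a nonzero rational function. Then the closures
of the codimension-one points at which f has nonzero order of vanishing form a locally finite family
of closed subsets of X. -/
theorem result (X : Scheme.{u}) [IsIntegral X] [IsLocallyNoetherian X] (f : ↑X.functionField) (hf : f ≠ 0) :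
    LocallyFinite (fun ξ : {ξ : ↥X // Order.coheight ξ = 1 ∧ Scheme.ord f ξ ≠ 0} => closure ({ξ.1} : Set ↥X)) := by
  obtain ⟨U₀, hU₀, f', hne, hff', hunit⟩ := exists_isUnit_germ_eq X f hf
  let Z : Set X := (U₀ : Set X)ᶜ
  have hZ : IsClosed Z := U₀.isOpen.isClosed_compl
  let g := genericPoint X
  have hgU : g ∈ U₀ :=
    ((genericPoint_spec X).mem_open_set_iff U₀.isOpen).mpr (by simpa using hne)
  have key : ∀ ξ : {ξ : ↥X // Order.coheight ξ = 1 ∧ Scheme.ord f ξ ≠ 0},
      ∃ T : irreducibleComponents ↥Z, ((↑) '' (T.1 : Set ↥Z) : Set ↥X) = closure {ξ.1} := by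
    rintro ⟨ξ, hξ1, hξ2⟩
    have hξZ : ξ ∈ Z := by
      intro (hx : ξ ∈ U₀)
      apply hξ2
      rw [← hff']
      exact Scheme.ord_of_isUnit hunit hx
    let z : ↥Z := ⟨ξ, hξZ⟩
    refine ⟨⟨irreducibleComponent z, irreducibleComponent_mem_irreducibleComponents z⟩, ?_⟩
    set T' : Set ↥X := (↑) '' (irreducibleComponent z) with hT'
    have hT'irr : IsIrreducible T' :=
      (isIrreducible_irreducibleComponent).image _ continuous_subtype_val.continuousOn
    have hT'cl : IsClosed T' :=
      hZ.isClosedEmbedding_subtypeVal.isClosedMap _ isClosed_irreducibleComponent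
    have hT'Z : T' ⊆ Z := by
      rintro _ ⟨w, _, rfl⟩
      exact w.2
    have hξT' : ξ ∈ T' := ⟨z, mem_irreducibleComponent, rfl⟩
    let η := hT'irr.genericPoint
    have hη : closure {η} = T' := hT'irr.isGenericPoint_genericPoint hT'cl
    have hηξ : η ⤳ ξ := by
      rw [specializes_iff_mem_closure, hη]
      exact hξT'
    have hηT' : η ∈ T' := hη ▸ subset_closure (Set.mem_singleton η)
    have hgη : g ⤳ η := genericPoint_specializes η
    have hηg : ¬ η ⤳ g := by
      intro h
      rw [specializes_iff_mem_closure, hη] at h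
      exact hT'Z h hgU
    by_cases hηeq : η = ξ
    · change T' = closure {ξ}
      rw [← hη, hηeq]
    · exfalso
      have hξη : ¬ ξ ⤳ η := fun h => hηeq (h.antisymm hηξ).eq.symm
      have h1 : ξ < η := ⟨hηξ, hξη⟩
      have h2 : η < g := ⟨hgη, hηg⟩
      have h3 := Order.coheight_add_one_le h1
      have h4 := Order.coheight_add_one_le h2
      rw [hξ1] at h3
      have : (2 : ℕ∞) ≤ 1 := by
        calc (2 : ℕ∞) = 0 + 1 + 1 := by norm_num
          _ ≤ Order.coheight g + 1 + 1 := by gcongr; exact zero_le
          _ ≤ Order.coheight η + 1 := by gcongr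
          _ ≤ 1 := h3
      norm_num at this
  choose Tf hTf using key
  have hinj : Function.Injective Tf := by
    intro ξ ξ' h
    have h1 : closure ({ξ.1} : Set ↥X) = closure {ξ'.1} := by rw [← hTf, ← hTf, h]
    exact Subtype.ext (inseparable_iff_closure_eq.mpr h1).eq
  have hLF := (Groth.Agent.Lib.Helper98.LocFinComp.locallyFinite_irreducibleComponents X Z).comp_injective hinj
  convert hLF using 2 with ξ
  exact (hTf ξ).symm

end Groth.Agent.S1692
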