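import Groth.Statements.S16952
import Groth.Agent.S11319
import Groth.Agent.Lib.Cohomology.helper5_PushEdge

set_option autoImplicit false
universe u
open Coherent

namespace Groth.Agent.S16952

open AlgebraicGeometry CategoryTheory CategoryTheory.Limits Scheme.Modules
open Groth.Agent.Lib.Cohomology.HHLES Groth.Agent.Lib.Cohomology.PushEdge CohPull

lemma adj_aux {C D : Type*} [Category C] [Category D] {L : C ⥤ D} {R : D ⥤ C} (adj : L ⊣ R)
    {N' N : D} (u' : R.obj N ⟶ R.obj N') (g : N' ⟶ N) (h : u' ≫ R.map g = 𝟙 _) :
    (adj.homEquiv _ _).symm u' ≫ g = adj.counit.app N := by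
  rw [← Adjunction.homEquiv_naturality_right_symm, h, Adjunction.homEquiv_counit,
    CategoryTheory.Functor.map_id, Category.id_comp]

/-- `theta` followed by the counit of modules is the counit of abelian sheaves -/
theorem theta_counit {X Y : Scheme.{u}} (f : X ⟶ Y) (G : X.Modules) :
    theta f ((Scheme.Modules.pushforward f).obj G) ≫
      (SheafOfModules.toSheaf X.ringCatSheaf).map
        ((Scheme.Modules.pullbackPushforwardAdjunction f).counit.app G) =
      (invPushAdj f.base).counit.app (Coh.toAb G) := by
  have h1 : (toAbF Y).map
      ((pullbackPushforwardAdjunction f).unit.app ((Scheme.Modules.pushforward f).obj G)) ≫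
      (CohTop.push f.base).map ((toAbF X).map
        ((pullbackPushforwardAdjunction f).counit.app G)) =
      𝟙 ((CohTop.push f.base).obj (Coh.toAb G)) :=
    (((toAbF Y).map_comp _ _).symm.trans
      (congrArg (fun t => (toAbF Y).map t)
        ((pullbackPushforwardAdjunction f).right_triangle_components G))).trans
      ((toAbF Y).map_id _)
  exact adj_aux (invPushAdj f.base) _ _ h1

theorem pushEdge_eq {X Y : Scheme.{u}} (f : X ⟶ Y) (G : X.Modules) (p : ℕ)
    (x : Coh.HH Y ((Scheme.Modules.pushforward f).obj G) p) :
    pushEdge f G p x = E f.base (Coh.toAb G) p x := by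
  change Sheaf.H.map _ p (Sheaf.H.map _ p (pullAb f.base _ p x)) =
    Sheaf.H.map _ p (pullAb f.base _ p x)
  rw [← Sheaf.H.map_comp_apply, theta_counit]


open AlgebraicGeometry CategoryTheory Scheme.Modules in
/-- For O-modules on schemes, with the identification given by the edge map: let f : X → Y be a morphism
of schemes and G an O_X-module whose higher direct images R^q f_* G (right derived functors of
direct image on O-modules) vanish for all q > 0. Then for every p the edge map H^p(Y, f_* G) →
H^p(X, G), pullback of cohomology classes along f followed by the map induced by the counit f^* f_*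
G → G, is bijective. -/
theorem result
    {X Y : Scheme.{u}} (f : X ⟶ Y) [HasInjectiveResolutions X.Modules] (G : X.Modules)
    (hG : ∀ q : ℕ, 0 < q → Limits.IsZero ((Coh.Rpush f q).obj G)) (p : ℕ) :
    Function.Bijective (CohPull.pushEdge f G p) := by
  have hA : Groth.Agent.Lib.Cohomology.PushAcyclic.Acyc f.base (Coh.toAb G) := by
    intro q
    obtain ⟨e⟩ := Groth.Agent.S11319.result f G (q + 1)
    exact ((toAbF Y).map_isZero (hG (q + 1) (Nat.succ_pos q))).of_iso e.symm
  have hb := E_bijective f.base (Coh.toAb G) hA p
  have : ⇑(pushEdge f G p) = ⇑(E f.base (Coh.toAb G) p) := funext (pushEdge_eq f G p)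
  rw [this]
  exact hb

end Groth.Agent.S16952
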