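import Groth.Statements.S16955
import Groth.Agent.Lib.Cohomology.helper5_ResLE
import Groth.Agent.Lib.Helper1.SectCmpSurj
import Groth.Agent.Lib.Helper4.ExtZeroExact
import Groth.Agent.Lib.Helper19.PushCocont
import Groth.Agent.Lib.Cohomology.Helper1_KernelSections
import Groth.Agent.Lib.QCoh.Affine

set_option autoImplicit false
universe u
open CohCmp

namespace Groth.Agent.S16955

section Aux

open AlgebraicGeometry CategoryTheory Scheme.Modules Opposite Limits TopologicalSpace Abelian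
open Groth.Agent.Lib.Helper1.SectCmpSurj Groth.Agent.Lib.Cohomology.ResLE

variable {X Y : Scheme.{u}}

/-- (A) the restriction of an injective module to an open has no higher cohomology -/
lemma subsingleton_HHon_of_injective (I : X.Modules) [Injective I] (U : X.Opens) (p : ℕ) :
    Subsingleton (Coh.HHon X I U (p + 1)) := by
  have h1 : Injective (I.restrict U.ι) :=
    Groth.Agent.Lib.Helper4.ExtZeroExact.injective_restrict X U I inferInstance
  have h1' : @Injective (SheafOfModules.{u} (U : Scheme.{u}).ringCatSheaf) _ (I.restrict U.ι) := h1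
  have h2 := Groth.Agent.Lib.Helper19.CechMod.isTotallyAcyclic_toSheaf_of_injective
    (U : Scheme.{u}).ringCatSheaf (I.restrict U.ι)
  exact Groth.Agent.Lib.Helper19.PushCocont.sheafH_subsingleton_of_isTotallyAcyclic _ h2 p

/-- `δ ∘ g_* = 0` -/
lemma extδ_map_g {U : Scheme.{u}} {T : ShortComplex (CohTop.Ab U)} (hT : T.ShortExact) (n : ℕ)
    (w : Sheaf.H T.X₂ n) : extδ hT n (Sheaf.H.map T.g n w) = 0 := by
  have h := hT.comp_extClass
  have := Ext.comp_assoc w (Ext.mk₀ T.g) hT.extClass (add_zero n) (zero_add 1)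
    (show n + 0 + 1 = n + 1 by omega)
  exact this.trans ((congrArg (fun y => w.comp y _) h).trans (Ext.comp_zero w _ _ _ _))

/-- exactness of a sequence of modules gives local lifts of sections -/
lemma exists_local_lift_of_exact {M₁ M₂ M₃ : Y.Modules} (a : M₁ ⟶ M₂) (b : M₂ ⟶ M₃)
    (w : a ≫ b = 0) (hex : (ShortComplex.mk a b w).Exact) (V : Y.Opens) (t : Γ(M₂, V))
    (ht : b.app V t = 0) (y : Y) (hy : y ∈ V) :
    ∃ (W : Y.Opens) (hWV : W ≤ V), y ∈ W ∧ ∃ s : Γ(M₁, W),
      a.app W s = M₂.presheaf.map (homOfLE hWV).op t := by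
  obtain ⟨k, hk⟩ := Groth.Agent.Lib.Cohomology.exists_kernel_section b V t ht
  have : Epi (kernel.lift b a w) := (ShortComplex.exact_iff_epi_kernel_lift _).1 hex
  obtain ⟨W, hWV, hyW, s, hs⟩ := exists_local_lift (kernel.lift b a w) V k y hy
  refine ⟨W, hWV, hyW, s, ?_⟩
  have h1 : a.app W s = (kernel.ι b).app W ((kernel.lift b a w).app W s) := by
    rw [← ConcreteCategory.comp_apply, ← Hom.comp_app, kernel.lift_ι]
  rw [h1, hs, ← hk]
  exact congr($((kernel.ι b).mapPresheaf.naturality (homOfLE hWV).op) k)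

lemma trdz_inv_app (f : X ⟶ Y) [HasInjectiveResolutions X.Modules] (F : X.Modules) (V : Y.Opens)
    (s : F.presheaf.obj (op (f ⁻¹ᵁ V))) :
    ((inv ((pushforward f).toRightDerivedZero.app F)).app V)
        (((pushforward f).toRightDerivedZero.app F).app V s) = s := by
  rw [← ConcreteCategory.comp_apply, ← Hom.comp_app, IsIso.hom_inv_id, Hom.id_app]
  rfl

lemma trdz_app_inv (f : X ⟶ Y) [HasInjectiveResolutions X.Modules] (F : X.Modules) (V : Y.Opens)
    (t : Γ(((pushforward f).rightDerived 0).obj F, V)) :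
    ((pushforward f).toRightDerivedZero.app F).app V
      ((inv ((pushforward f).toRightDerivedZero.app F)).app V t) = t := by
  rw [← ConcreteCategory.comp_apply, ← Hom.comp_app, IsIso.inv_hom_id, Hom.id_app]
  rfl

/-- every class in `H^{p+1}(f⁻¹V, F)` comes from `H^p(f⁻¹V, I/F)` -/
lemma exists_extδ_eq (F : X.Modules) [HasInjectiveResolutions X.Modules] (U : X.Opens) (p : ℕ)
    (hA : ((injSES F).map (toAbOn X U)).ShortExact) (x : Coh.HHon X F U (p + 1)) :
    ∃ z : Coh.HHon X (injSES F).X₃ U p, extδ hA p z = x := by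
  have hsub : Subsingleton (Coh.HHon X (injSES F).X₂ U (p + 1)) :=
    subsingleton_HHon_of_injective _ _ _
  exact Ext.covariant_sequence_exact₁ _ hA x (@Subsingleton.elim _ hsub _ _) rfl

/-- if the restriction of `z` lifts to the injective, the restriction of `δ z` vanishes -/
lemma resLE_extδ_eq_zero (F : X.Modules) [HasInjectiveResolutions X.Modules] {U U' : X.Opens}
    (h : U' ≤ U) (p : ℕ) (hA : ((injSES F).map (toAbOn X U)).ShortExact)
    (z : Coh.HHon X (injSES F).X₃ U p) (w : Coh.HHon X (injSES F).X₂ U' p)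
    (hw : CohPull.resLE (injSES F).X₃ h p z =
      CohPull.mapH ((restrictFunctor U'.ι).map (injSES F).g) p w) :
    CohPull.resLE F h (p + 1) (extδ hA p z) = 0 := by
  have hA' := shortExact_toAbOn (injSES_shortExact F) U'
  refine (resLE_extδ h (injSES F) hA hA' p z).trans ?_
  rw [hw]
  exact extδ_map_g hA' p w

/-- the step `0 → 1` -/
lemma hloc_zero (f : X ⟶ Y) [HasInjectiveResolutions X.Modules]
    {Δ : RDer.DerivedLES (pushforward f)} (E : CohCmp.SectCmp f Δ) (F : X.Modules) (V : Y.Opens)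
    (z : Coh.HHon X (injSES F).X₃ (f ⁻¹ᵁ V) 0)
    (hz : (Δ.δ (injSES F) (injSES_shortExact F) 0 1 rfl).app V (E.ε V (injSES F).X₃ 0 z) = 0)
    (y : Y) (hy : y ∈ V) :
    ∃ (W : Y.Opens) (hWV : W ≤ V), y ∈ W ∧
      ∃ w : Coh.HHon X (injSES F).X₂ (f ⁻¹ᵁ W) 0,
        CohPull.resLE (injSES F).X₃ (f.preimage_mono hWV) 0 z =
          CohPull.mapH ((restrictFunctor (f ⁻¹ᵁ W).ι).map (injSES F).g) 0 w := by
  have hS := injSES_shortExact F
  obtain ⟨s, rfl⟩ := (CohPull.sectH0 (injSES F).X₃ (f ⁻¹ᵁ V)).surjective z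
  rw [E.zero] at hz
  have hex := Δ.exact₃ (injSES F) hS 0 1 rfl
  obtain ⟨W, hWV, hyW, t', ht'⟩ := exists_local_lift_of_exact _ _ _ hex V _ hz y hy
  obtain ⟨s', hs'⟩ : ∃ s' : (injSES F).X₂.presheaf.obj (op (f ⁻¹ᵁ W)),
      ((pushforward f).toRightDerivedZero.app (injSES F).X₂).app W s' = t' :=
    ⟨_, trdz_app_inv f _ W t'⟩
  refine ⟨W, hWV, hyW, CohPull.sectH0 (injSES F).X₂ (f ⁻¹ᵁ W) s', ?_⟩
  rw [resLE_sectH0, mapH_sectH0]
  refine congrArg _ ?_
  have hinj := Groth.Agent.Lib.QCoh.app_injective_of_mono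
    ((pushforward f).toRightDerivedZero.app (injSES F).X₃) W
  apply hinj
  have n1 := congr($(((pushforward f).toRightDerivedZero.app (injSES F).X₃).mapPresheaf.naturality
    (homOfLE hWV).op) s)
  have n2 : ((pushforward f).toRightDerivedZero.app (injSES F).X₃).app W
      ((injSES F).g.app (f ⁻¹ᵁ W) s') =
      (((pushforward f).rightDerived 0).map (injSES F).g).app W
        (((pushforward f).toRightDerivedZero.app (injSES F).X₂).app W s') := by
    have e := (pushforward f).toRightDerivedZero.naturality (injSES F).g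
    have e' := congrArg (fun φ => Hom.app φ W) e
    exact congr($e' s')
  rw [← hs'] at ht'
  exact n1.trans (ht'.symm.trans n2.symm)

/-- the step `q + 1 → q + 2` -/
lemma eps_eq_zero_succ (f : X ⟶ Y) [HasInjectiveResolutions X.Modules]
    {Δ : RDer.DerivedLES (pushforward f)} (E : CohCmp.SectCmp f Δ) (F : X.Modules) (V : Y.Opens)
    (q : ℕ) (z : Coh.HHon X (injSES F).X₃ (f ⁻¹ᵁ V) (q + 1))
    (hz : (Δ.δ (injSES F) (injSES_shortExact F) (q + 1) (q + 1 + 1) rfl).app V
      (E.ε V (injSES F).X₃ (q + 1) z) = 0) :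
    E.ε V (injSES F).X₃ (q + 1) z = 0 := by
  have hS := injSES_shortExact F
  have hzero : IsZero (((pushforward f).rightDerived (q + 1)).obj (injSES F).X₂) :=
    Functor.isZero_rightDerived_obj_injective_succ _ q _
  have hex := Δ.exact₃ (injSES F) hS (q + 1) (q + 1 + 1) rfl
  have : Mono (Δ.δ (injSES F) hS (q + 1) (q + 1 + 1) rfl) :=
    hex.mono_g (hzero.eq_of_src _ _)
  apply Groth.Agent.Lib.QCoh.app_injective_of_mono
    (Δ.δ (injSES F) hS (q + 1) (q + 1 + 1) rfl) V
  rw [hz, map_zero]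

theorem main (f : X ⟶ Y) [HasInjectiveResolutions X.Modules]
    {Δ : RDer.DerivedLES (pushforward f)} (E : CohCmp.SectCmp f Δ) (p : ℕ) :
    ∀ (F : X.Modules) (V : Y.Opens) (x : Coh.HHon X F (f ⁻¹ᵁ V) p), E.ε V F p x = 0 →
      ∀ (y : Y), y ∈ V → ∃ (W : Y.Opens) (hWV : W ≤ V), y ∈ W ∧
        CohPull.resLE F (f.preimage_mono hWV) p x = 0 := by
  induction p with
  | zero =>
    intro F V x hx y hy
    refine ⟨V, le_rfl, hy, ?_⟩
    obtain ⟨s, rfl⟩ := (CohPull.sectH0 F (f ⁻¹ᵁ V)).surjective x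
    rw [E.zero] at hx
    have h1 := trdz_inv_app f F V s
    rw [hx, map_zero] at h1
    have hs0 : s = (0 : F.presheaf.obj (op (f ⁻¹ᵁ V))) := h1.symm
    rw [hs0, map_zero, map_zero]
  | succ p ih =>
    intro F V x hx y hy
    have hS := injSES_shortExact F
    have hA := shortExact_toAbOn hS (f ⁻¹ᵁ V)
    obtain ⟨z, hzx⟩ := exists_extδ_eq F (f ⁻¹ᵁ V) p hA x
    have hz : (Δ.δ (injSES F) hS p (p + 1) rfl).app V (E.ε V (injSES F).X₃ p z) = 0 := by
      rw [← E.delta V (injSES F) hS hA p z, hzx]; exact hx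
    suffices hloc : ∃ (W : Y.Opens) (hWV : W ≤ V), y ∈ W ∧
        ∃ w : Coh.HHon X (injSES F).X₂ (f ⁻¹ᵁ W) p,
          CohPull.resLE (injSES F).X₃ (f.preimage_mono hWV) p z =
            CohPull.mapH ((restrictFunctor (f ⁻¹ᵁ W).ι).map (injSES F).g) p w by
      obtain ⟨W, hWV, hyW, w, hw⟩ := hloc
      refine ⟨W, hWV, hyW, ?_⟩
      rw [← hzx]
      exact resLE_extδ_eq_zero F (f.preimage_mono hWV) p hA z w hw
    rcases p with _ | q
    · exact hloc_zero f E F V z hz y hy
    · have hε := eps_eq_zero_succ f E F V q z hz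
      obtain ⟨W, hWV, hyW, hres⟩ := ih (injSES F).X₃ V z hε y hy
      exact ⟨W, hWV, hyW, 0, by rw [hres, map_zero]⟩

end Aux

open AlgebraicGeometry CategoryTheory Scheme.Modules in
/-- The comparison map is locally injective. Let f : X → Y be a morphism of schemes, F an O_X-module and
p a natural number; R^p f_* F is the p-th right derived functor of direct image on O-modules and ε_V
: H^p(f⁻¹V, F|_{f⁻¹V}) → Γ(V, R^p f_* F) the pinned comparison maps (the structure SectCmp, taken as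
a hypothesis). If a class x over f⁻¹V satisfies ε_V(x) = 0, then every point y of V has an open
neighbourhood W ⊆ V such that the restriction of x to H^p(f⁻¹W, F|_{f⁻¹W}) vanishes. -/
theorem result
    {X Y : Scheme.{u}} (f : X ⟶ Y) [HasInjectiveResolutions X.Modules]
    {Δ : RDer.DerivedLES (pushforward f)} (E : CohCmp.SectCmp f Δ) (F : X.Modules) (p : ℕ)
    (V : Y.Opens) (x : Coh.HHon X F (f ⁻¹ᵁ V) p) (hx : E.ε V F p x = 0) (y : Y) (hy : y ∈ V) :
    ∃ (W : Y.Opens) (hWV : W ≤ V), y ∈ W ∧ CohPull.resLE F (f.preimage_mono hWV) p x = 0 := by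
  exact main f E p F V x hx y hy

end Groth.Agent.S16955
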