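import Groth.Statements.S16959
import Groth.Agent.S16955
import Groth.Agent.Lib.Cohomology.helper5_HomologyComparison
import Groth.Agent.Lib.Cohomology.helper5_HHLES
import Groth.Agent.Lib.Cohomology.Helper1_SerreCrit
import Groth.Agent.Lib.Cohomology.Helper1_HUTop
import Groth.Agent.Lib.Helper19.CechPushHU
import Groth.Agent.Lib.Helper19.CechMod
import Groth.Agent.S6166
import Groth.Agent.S0007
import Groth.Agent.S0030

set_option autoImplicit false
universe u
open CohCmp

namespace Groth.Agent.S16959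

section Aux

open AlgebraicGeometry CategoryTheory Scheme.Modules Opposite Limits TopologicalSpace Abelian
open Groth.Agent.Lib.Helper1.SectCmpSurj Groth.Agent.Lib.Cohomology.ResLE
open Groth.Agent.Lib.Cohomology.HHLES Groth.Agent.Lib.Cohomology.HomCmp
open Groth.Agent.Lib.Cohomology Groth.Agent.S16955

variable {X S : Scheme.{u}}

/-- `Γ(S,-)`-acyclic modules -/
def GAcyc (N : S.Modules) : Prop := ∀ a : ℕ, Subsingleton (Coh.HH S N (a + 1))

instance sectionsFunctor_additive (O : S.Opens) : (sectionsFunctor S O).Additive := ⟨rfl⟩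

theorem gAcycClass : AcycClass (sectionsFunctor S ⊤) (GAcyc (S := S)) where
  of_iso := by
    intro A A' e h a
    refine ⟨fun x y => ?_⟩
    have h0 : ∀ z : Coh.HH S A' (a + 1), z = 0 := by
      intro z
      have h1 : z = hmap e.hom (a + 1) (hmap e.inv (a + 1) z) := by
        rw [← hmap_comp, e.inv_hom_id, hmap_id]
      have h2 : hmap e.inv (a + 1) z = 0 := (h a).elim _ _
      rw [h1, h2, map_zero]
    rw [h0 x, h0 y]
  coker := by
    intro T hT h1 h2 a
    refine ⟨fun x y => ?_⟩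
    have h0 : ∀ z : Coh.HH S T.X₃ (a + 1), z = 0 := by
      intro z
      have hδ : HHLES.δ hT (a + 1) z = 0 := (h1 (a + 1)).elim _ _
      obtain ⟨w, hw⟩ := HHLES.exact₃ hT (a + 1) z hδ
      have hw0 : w = 0 := (h2 a).elim _ _
      rw [← hw, hw0, map_zero]
    rw [h0 x, h0 y]
  ext := by
    intro T hT h1 h3 a
    exact SerreCrit.subsingleton_HH_mid T hT (a + 1) (h1 a) (h3 a)
  epi := by
    intro T hT h1
    have hs := SerreCrit.surjective_app_top_of_H1 T hT (h1 0)
    exact (AddCommGrpCat.epi_iff_surjective _).2 hs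

attribute [local instance] CategoryTheory.Limits.reflectsLimits_of_reflectsIsomorphisms in
instance pullType_pfl {X Y : TopCat.{u}} (f : X ⟶ Y) :
    PreservesFiniteLimits ((Opens.map f).sheafPullback (Type u)
      (Opens.grothendieckTopology Y) (Opens.grothendieckTopology X)) := by
  apply Functor.sheafPullbackConstruction.preservesFiniteLimits

/-- `f_*` of an injective module is `Γ(S,-)`-acyclic -/
theorem gAcyc_push_injective (f : X ⟶ S) (I : X.Modules) [Injective I] :
    GAcyc ((pushforward f).obj I) := by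
  intro a
  have hI : @Injective (SheafOfModules.{u} X.ringCatSheaf) _ I := ‹Injective I›
  have hA : CohCx.IsTotallyAcyclic (Coh.toAb I) :=
    Groth.Agent.Lib.Helper19.CechMod.isTotallyAcyclic_toSheaf_of_injective X.ringCatSheaf I
  have hF : ∀ (U : Opens X) (q : ℕ), Subsingleton (CohSite.HU (Coh.toAb I) (q + 1) U) :=
    fun U q => Groth.Agent.Lib.Helper19.CechPushHU.hu_subsingleton_of_isTotallyAcyclic _ hA U q
  have h6 := Groth.Agent.S6166.result (Opens.grothendieckTopology X) (Opens.grothendieckTopology S)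
    (Opens.map f.base) _ hF ⊤ a
  have h7 : Subsingleton (CohTop.HU (Coh.toAb ((pushforward f).obj I)) (a + 1) ⊤) := h6
  exact (HUTopEquiv _ (Coh.toAb ((pushforward f).obj I)) (a + 1)).symm.subsingleton

/-- modules all of whose higher direct images are `Γ(S,-)`-acyclic -/
def CC (f : X ⟶ S) [HasInjectiveResolutions X.Modules] (F : X.Modules) : Prop :=
  ∀ j : ℕ, GAcyc ((Coh.Rpush f j).obj F)

/-- degree `0`: the comparison map is bijective for every module -/
lemma eps_zero_bijective (f : X ⟶ S) [HasInjectiveResolutions X.Modules]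
    {Δ : RDer.DerivedLES (pushforward f)} (E : CohCmp.SectCmp f Δ) (F : X.Modules) (V : S.Opens) :
    Function.Bijective (E.ε V F 0) := by
  constructor
  · intro x x' h
    obtain ⟨s, rfl⟩ := (CohPull.sectH0 F (f ⁻¹ᵁ V)).surjective x
    obtain ⟨s', rfl⟩ := (CohPull.sectH0 F (f ⁻¹ᵁ V)).surjective x'
    rw [E.zero, E.zero] at h
    have h1 := trdz_inv_app f F V s
    rw [h, trdz_inv_app f F V s'] at h1
    rw [h1]
  · intro t
    refine ⟨CohPull.sectH0 F (f ⁻¹ᵁ V)
      ((inv ((pushforward f).toRightDerivedZero.app F)).app V t), ?_⟩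
    rw [E.zero]
    exact trdz_app_inv f F V t

/-- the diagram chase for the step `q → q + 1` -/
lemma step (f : X ⟶ S) [HasInjectiveResolutions X.Modules]
    {Δ : RDer.DerivedLES (pushforward f)} (E : CohCmp.SectCmp f Δ) (F : X.Modules) (V : S.Opens)
    (q : ℕ)
    (hI : Function.Surjective (E.ε V (injSES F).X₂ q))
    (hQ : Function.Bijective (E.ε V (injSES F).X₃ q))
    (B1 : ∀ t : Γ((Coh.Rpush f (q + 1)).obj F, V),
      ∃ u : Γ((Coh.Rpush f q).obj (injSES F).X₃, V),
        (Δ.δ (injSES F) (injSES_shortExact F) q (q + 1) rfl).app V u = t)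
    (B2 : ∀ u : Γ((Coh.Rpush f q).obj (injSES F).X₃, V),
      (Δ.δ (injSES F) (injSES_shortExact F) q (q + 1) rfl).app V u = 0 →
      ∃ v : Γ((Coh.Rpush f q).obj (injSES F).X₂, V),
        ((Coh.Rpush f q).map (injSES F).g).app V v = u) :
    Function.Bijective (E.ε V F (q + 1)) := by
  have hS := injSES_shortExact F
  have hA := shortExact_toAbOn hS (f ⁻¹ᵁ V)
  constructor
  · refine (injective_iff_map_eq_zero _).2 ?_
    intro x hx
    obtain ⟨z, rfl⟩ := exists_extδ_eq F (f ⁻¹ᵁ V) q hA x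
    have hx' : (Δ.δ (injSES F) hS q (q + 1) rfl).app V (E.ε V (injSES F).X₃ q z) = 0 := by
      rw [← E.delta V (injSES F) hS hA q z]; exact hx
    obtain ⟨v, hv⟩ := B2 _ hx'
    obtain ⟨w, rfl⟩ := hI v
    rw [← E.natural V (injSES F).g q w] at hv
    have hz := hQ.1 hv
    rw [← hz]
    exact extδ_map_g hA q w
  · intro t
    obtain ⟨u, rfl⟩ := B1 t
    obtain ⟨z, rfl⟩ := hQ.2 u
    exact ⟨extδ hA q z, E.delta V (injSES F) hS hA q z⟩

section Bottom

variable (f : X ⟶ S) [HasInjectiveResolutions X.Modules] (Δ : RDer.DerivedLES (pushforward f))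
  (F : X.Modules)

lemma isZero_Rpush_inj (k : ℕ) : IsZero ((Coh.Rpush f (k + 1)).obj (injSES F).X₂) :=
  Functor.isZero_rightDerived_obj_injective_succ _ k _

lemma isIso_delta_succ (k : ℕ) :
    IsIso (Δ.δ (injSES F) (injSES_shortExact F) (k + 1) (k + 1 + 1) rfl) := by
  have hS := injSES_shortExact F
  have hex₃ := Δ.exact₃ (injSES F) hS (k + 1) (k + 1 + 1) rfl
  have hm : Mono (Δ.δ (injSES F) hS (k + 1) (k + 1 + 1) rfl) :=
    hex₃.mono_g ((isZero_Rpush_inj f F k).eq_of_src _ _)
  have he : Epi (Δ.δ (injSES F) hS (k + 1) (k + 1 + 1) rfl) := epi_δ f Δ F (k + 1)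
  exact isIso_of_mono_of_epi _

lemma gAcyc_Rpush_zero_inj : GAcyc ((Coh.Rpush f 0).obj (injSES F).X₂) :=
  gAcycClass.of_iso (asIso ((pushforward f).toRightDerivedZero.app (injSES F).X₂))
    (gAcyc_push_injective f (injSES F).X₂)

lemma cc_inj : CC f (injSES F).X₂ := by
  intro j
  rcases j with _ | k
  · exact gAcyc_Rpush_zero_inj f F
  · intro a
    exact SerreCrit.subsingleton_HH_of_isZero _ (isZero_Rpush_inj f F k) (a + 1)

lemma mono_Rpush_zero_f : Mono ((Coh.Rpush f 0).map (injSES F).f) := by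
  have : Mono (injSES F).f := (injSES_shortExact F).mono_f
  have : ((pushforward f).rightDerived 0).PreservesMonomorphisms :=
    Functor.PreservesMonomorphisms.of_iso (pushforward f).rightDerivedZeroIsoSelf.symm
  infer_instance

/-- the bottom row in degree `0` -/
lemma bottom_zero (hF : CC f F) :
    GAcyc ((Coh.Rpush f 0).obj (injSES F).X₃) ∧
    (∀ t : Γ((Coh.Rpush f (0 + 1)).obj F, (⊤ : S.Opens)),
      ∃ u : Γ((Coh.Rpush f 0).obj (injSES F).X₃, (⊤ : S.Opens)),
        (Δ.δ (injSES F) (injSES_shortExact F) 0 (0 + 1) rfl).app ⊤ u = t) ∧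
    (∀ u : Γ((Coh.Rpush f 0).obj (injSES F).X₃, (⊤ : S.Opens)),
      (Δ.δ (injSES F) (injSES_shortExact F) 0 (0 + 1) rfl).app ⊤ u = 0 →
      ∃ v : Γ((Coh.Rpush f 0).obj (injSES F).X₂, (⊤ : S.Opens)),
        ((Coh.Rpush f 0).map (injSES F).g).app ⊤ v = u) := by
  have hS := injSES_shortExact F
  have hmono := mono_Rpush_zero_f f F
  have hepi : Epi (Δ.δ (injSES F) hS 0 (0 + 1) rfl) := epi_δ f Δ F 0
  have w₁ : (Coh.Rpush f 0).map (injSES F).f ≫ (Coh.Rpush f 0).map (injSES F).g = 0 := by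
    rw [← Functor.map_comp, (injSES F).zero, Functor.map_zero]
  have w₂ : (Coh.Rpush f 0).map (injSES F).g ≫ Δ.δ (injSES F) hS 0 (0 + 1) rfl = 0 :=
    Δ.comp_δ (injSES F) hS 0 (0 + 1) rfl
  have hk : IsLimit (KernelFork.ofι ((Coh.Rpush f 0).map (injSES F).f) w₁) :=
    (Δ.exact₂ (injSES F) hS 0).fIsKernel
  have hc : IsColimit (CokernelCofork.ofπ (Δ.δ (injSES F) hS 0 (0 + 1) rfl) w₂) :=
    (Δ.exact₃ (injSES F) hS 0 (0 + 1) rfl).gIsCokernel
  obtain ⟨h1, h2, h3⟩ := four_term gAcycClass _ _ _ w₁ w₂ hk hc (hF 0)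
    (gAcyc_Rpush_zero_inj f F) (hF (0 + 1))
  refine ⟨h1, ?_, ?_⟩
  · intro t
    obtain ⟨u, hu⟩ := (AddCommGrpCat.epi_iff_surjective _).1 h2 t
    exact ⟨u, hu⟩
  · intro u hu
    rw [ShortComplex.ab_exact_iff] at h3
    obtain ⟨v, hv⟩ := h3 u hu
    exact ⟨v, hv⟩

/-- the bottom row in positive degrees -/
lemma bottom_succ (k : ℕ) (V : S.Opens) :
    (∀ t : Γ((Coh.Rpush f (k + 1 + 1)).obj F, V),
      ∃ u : Γ((Coh.Rpush f (k + 1)).obj (injSES F).X₃, V),
        (Δ.δ (injSES F) (injSES_shortExact F) (k + 1) (k + 1 + 1) rfl).app V u = t) ∧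
    (∀ u : Γ((Coh.Rpush f (k + 1)).obj (injSES F).X₃, V),
      (Δ.δ (injSES F) (injSES_shortExact F) (k + 1) (k + 1 + 1) rfl).app V u = 0 →
      ∃ v : Γ((Coh.Rpush f (k + 1)).obj (injSES F).X₂, V),
        ((Coh.Rpush f (k + 1)).map (injSES F).g).app V v = u) := by
  have hS := injSES_shortExact F
  have hiso := isIso_delta_succ f Δ F k
  constructor
  · intro t
    refine ⟨(inv (Δ.δ (injSES F) hS (k + 1) (k + 1 + 1) rfl)).app V t, ?_⟩
    rw [← ConcreteCategory.comp_apply, ← Hom.comp_app, IsIso.inv_hom_id, Hom.id_app]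
    rfl
  · intro u hu
    have hm : Mono (Δ.δ (injSES F) hS (k + 1) (k + 1 + 1) rfl) := inferInstance
    have hinj := Groth.Agent.Lib.QCoh.app_injective_of_mono
      (Δ.δ (injSES F) hS (k + 1) (k + 1 + 1) rfl) V
    have hu0 : u = 0 := hinj (hu.trans (map_zero _).symm)
    exact ⟨0, by rw [map_zero, hu0]⟩

include Δ in
lemma cc_coker (hF : CC f F) : CC f (injSES F).X₃ := by
  intro j
  rcases j with _ | k
  · exact (bottom_zero f Δ F hF).1
  · have hiso := isIso_delta_succ f Δ F k
    exact gAcycClass.of_iso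
      (asIso (Δ.δ (injSES F) (injSES_shortExact F) (k + 1) (k + 1 + 1) rfl)).symm
      (hF (k + 1 + 1))

end Bottom

theorem main (f : X ⟶ S) [HasInjectiveResolutions X.Modules]
    {Δ : RDer.DerivedLES (pushforward f)} (E : CohCmp.SectCmp f Δ) (q : ℕ) :
    ∀ (F : X.Modules), CC f F → Function.Bijective (E.ε ⊤ F q) := by
  induction q with
  | zero =>
    intro F _
    exact eps_zero_bijective f E F ⊤
  | succ q ih =>
    intro F hF
    have hI := (ih _ (cc_inj f F)).2
    have hQ := ih _ (cc_coker f Δ F hF)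
    rcases q with _ | k
    · obtain ⟨-, B1, B2⟩ := bottom_zero f Δ F hF
      exact step f E F ⊤ 0 hI hQ B1 B2
    · obtain ⟨B1, B2⟩ := bottom_succ f Δ F k ⊤
      exact step f E F ⊤ (k + 1) hI hQ B1 B2

end Aux


open AlgebraicGeometry CategoryTheory Scheme.Modules in
/-- The comparison map over an affine base is bijective: let f : X → S be a quasi-compact and
quasi-separated morphism of schemes with S affine, F a quasi-coherent O_X-module and q a natural
number; R^q f_* F is the q-th right derived functor of direct image on O-modules and ε_V : H^q(f⁻¹V,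
F|_{f⁻¹V}) → Γ(V, R^q f_* F) the pinned comparison maps (the structure SectCmp, taken as a
hypothesis). Then ε over V = S, from the cohomology of F restricted to the open f⁻¹S = X to the
global sections of R^q f_* F, is bijective. -/
theorem result
    {X S : Scheme.{u}} (f : X ⟶ S) [QuasiCompact f] [QuasiSeparated f] [IsAffine S]
    [HasInjectiveResolutions X.Modules]
    {Δ : RDer.DerivedLES (pushforward f)} (E : CohCmp.SectCmp f Δ) (F : X.Modules) [Coh.IsQCoh F] (q : ℕ) :
    Function.Bijective (E.ε ⊤ F q) := by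
  apply main f E q F
  intro j a
  have hq : Coh.IsQCoh ((Coh.Rpush f j).obj F) := Groth.Agent.S0030.result f F j
  exact Groth.Agent.S0007.result S _ (a + 1) (Nat.succ_pos a)

end Groth.Agent.S16959
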