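import Groth.Statements.S16962
-- import your own Groth.Agent.* helpers here

set_option autoImplicit false
universe u
open ConstAct

namespace Groth.Agent.S16962


section Helpers

open TensorProduct

variable (R : Type u) [CommRing R] (Γ : Type u)

/-- evaluation at `γ` on the second factor -/
noncomputable def cmp (M : Type u) [AddCommGroup M] [Module R M] (γ : Γ) :
    M ⊗[R] ConstGrp.F R Γ →ₗ[R] M :=
  (TensorProduct.rid R M).toLinearMap ∘ₗ LinearMap.lTensor M (ConstGrp.ev R γ).toLinearMap

theorem cmp_tmul (M : Type u) [AddCommGroup M] [Module R M] (γ : Γ) (m : M)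
    (f : ConstGrp.F R Γ) : cmp R Γ M γ (m ⊗ₜ[R] f) = f γ • m := by
  simp [cmp]

theorem cmp_natural {M N : Type u} [AddCommGroup M] [Module R M] [AddCommGroup N] [Module R N]
    (φ : M →ₗ[R] N) (γ : Γ) :
    cmp R Γ N γ ∘ₗ φ.rTensor (ConstGrp.F R Γ) = φ ∘ₗ cmp R Γ M γ := by
  refine TensorProduct.ext' fun m f => ?_
  simp [cmp_tmul]

theorem expand [Fintype Γ] [DecidableEq Γ] (M : Type u) [AddCommGroup M] [Module R M]
    (t : M ⊗[R] ConstGrp.F R Γ) : t = ∑ γ : Γ, cmp R Γ M γ t ⊗ₜ[R] ConstGrp.e R γ := by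
  induction t with
  | zero => simp
  | tmul m f =>
    simp only [cmp_tmul]
    conv_lhs => rw [ConstGrp.eq_sum_smul_e f, TensorProduct.tmul_sum]
    refine Finset.sum_congr rfl fun γ _ => ?_
    rw [TensorProduct.smul_tmul]
  | add x y hx hy =>
    simp only [map_add, TensorProduct.add_tmul, Finset.sum_add_distrib]
    rw [← hx, ← hy]

variable (B : Type u) [CommRing B] [Algebra R B]

/-- the algebra-hom form of `cmp` -/
noncomputable def cmpAlg (γ : Γ) : B ⊗[R] ConstGrp.F R Γ →ₐ[R] B :=
  Algebra.TensorProduct.lift (AlgHom.id R B) ((Algebra.ofId R B).comp (ConstGrp.ev R γ))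
    (fun _ _ => Commute.all _ _)

theorem cmpAlg_apply (γ : Γ) (t : B ⊗[R] ConstGrp.F R Γ) : cmpAlg R Γ B γ t = cmp R Γ B γ t := by
  induction t with
  | zero => simp
  | tmul b f =>
    simp [cmpAlg, cmp_tmul, Algebra.smul_def, mul_comm, Algebra.ofId_apply]
  | add x y hx hy => simp only [map_add, hx, hy]

variable [Group Γ] [Fintype Γ] [DecidableEq Γ]

theorem cmp_comul (γ δ : Γ) (f : ConstGrp.F R Γ) :
    cmp R Γ (ConstGrp.F R Γ) δ (Coalgebra.comul (R := R) f) γ = f (γ * δ) := by
  rw [ConstGrp.comul_eq_sum, map_sum, ConstGrp.sum_apply, Finset.sum_eq_single γ]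
  · rw [map_sum, ConstGrp.sum_apply, Finset.sum_eq_single δ]
    · rw [map_smul, cmp_tmul]
      simp
    · intro b _ hb
      rw [map_smul, cmp_tmul, ConstGrp.e_apply_of_ne (Ne.symm hb)]
      simp
    · intro h; exact absurd (Finset.mem_univ _) h
  · intro a _ ha
    rw [map_sum, ConstGrp.sum_apply]
    refine Finset.sum_eq_zero fun b _ => ?_
    rw [map_smul, cmp_tmul]
    simp [ConstGrp.e_apply_of_ne (Ne.symm ha)]
  · intro h; exact absurd (Finset.mem_univ _) h

variable [HopfRep.Comod R (ConstGrp.F R Γ) B]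

/-- the candidate action as a linear map -/
noncomputable def actL (γ : Γ) : B →ₗ[R] B :=
  cmp R Γ B γ ∘ₗ HopfRep.Comod.coact (k := R) (A := ConstGrp.F R Γ)

theorem actL_one (b : B) : actL R Γ B 1 b = b := by
  have h := LinearMap.congr_fun
    (HopfRep.Comod.counit_comp (k := R) (A := ConstGrp.F R Γ) (V := B)) b
  have h2 := congrArg (TensorProduct.rid R B) h
  simp only [LinearMap.comp_apply, LinearMap.flip_apply, TensorProduct.mk_apply,
    TensorProduct.rid_tmul, one_smul] at h2
  exact h2

theorem actL_mul (γ δ : Γ) (b : B) : actL R Γ B (γ * δ) b = actL R Γ B γ (actL R Γ B δ b) := by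
  have h := LinearMap.congr_fun
    (HopfRep.Comod.coassoc (k := R) (A := ConstGrp.F R Γ) (V := B)) b
  have h2 := congrArg (cmp R Γ B γ ∘ₗ LinearMap.lTensor B (cmp R Γ (ConstGrp.F R Γ) δ)) h
  have e1 : (cmp R Γ B γ ∘ₗ LinearMap.lTensor B (cmp R Γ (ConstGrp.F R Γ) δ)) ∘ₗ
      (TensorProduct.assoc R B (ConstGrp.F R Γ) (ConstGrp.F R Γ)).toLinearMap =
      cmp R Γ B γ ∘ₗ cmp R Γ (B ⊗[R] ConstGrp.F R Γ) δ := by
    refine TensorProduct.ext_threefold fun b f f' => ?_
    simp [cmp_tmul, TensorProduct.smul_tmul']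
  have e2 : (cmp R Γ B γ ∘ₗ LinearMap.lTensor B (cmp R Γ (ConstGrp.F R Γ) δ)) ∘ₗ
      LinearMap.lTensor B (Coalgebra.comul (R := R) (A := ConstGrp.F R Γ)) =
      cmp R Γ B (γ * δ) := by
    refine TensorProduct.ext' fun b f => ?_
    simp [cmp_tmul, cmp_comul]
  have e3 := cmp_natural R Γ (HopfRep.Comod.coact (k := R) (A := ConstGrp.F R Γ) (V := B)) δ
  have lhs : (cmp R Γ B γ ∘ₗ LinearMap.lTensor B (cmp R Γ (ConstGrp.F R Γ) δ))
      (((TensorProduct.assoc R B (ConstGrp.F R Γ) (ConstGrp.F R Γ)).toLinearMap ∘ₗ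
        (HopfRep.Comod.coact (k := R) (A := ConstGrp.F R Γ) (V := B)).rTensor (ConstGrp.F R Γ) ∘ₗ
        HopfRep.Comod.coact (k := R) (A := ConstGrp.F R Γ)) b) =
      actL R Γ B γ (actL R Γ B δ b) := by
    have := LinearMap.congr_fun e1
      (((HopfRep.Comod.coact (k := R) (A := ConstGrp.F R Γ) (V := B)).rTensor (ConstGrp.F R Γ))
        (HopfRep.Comod.coact (k := R) (A := ConstGrp.F R Γ) b))
    simp only [LinearMap.comp_apply] at this ⊢
    rw [this]
    have e3' := LinearMap.congr_fun e3 (HopfRep.Comod.coact (k := R) (A := ConstGrp.F R Γ) b)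
    simp only [LinearMap.comp_apply] at e3'
    rw [e3']
    rfl
  have rhs : (cmp R Γ B γ ∘ₗ LinearMap.lTensor B (cmp R Γ (ConstGrp.F R Γ) δ))
      ((LinearMap.lTensor B (Coalgebra.comul (R := R) (A := ConstGrp.F R Γ)) ∘ₗ
        HopfRep.Comod.coact (k := R) (A := ConstGrp.F R Γ)) b) =
      actL R Γ B (γ * δ) b := by
    have := LinearMap.congr_fun e2 (HopfRep.Comod.coact (k := R) (A := ConstGrp.F R Γ) b)
    simp only [LinearMap.comp_apply] at this ⊢
    rw [this]
    rfl
  rw [← lhs, ← rhs]
  exact h2.symm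

variable [GLin.IsCoactAlg R (ConstGrp.F R Γ) B]

theorem actL_eq_alg (γ : Γ) (b : B) :
    actL R Γ B γ b = ((cmpAlg R Γ B γ).comp (GLin.coactAlgHom R (ConstGrp.F R Γ) B)) b := by
  rw [AlgHom.comp_apply, cmpAlg_apply]
  rfl

theorem actL_map_one (γ : Γ) : actL R Γ B γ 1 = 1 := by
  rw [actL_eq_alg, map_one]

theorem actL_map_mul (γ : Γ) (x y : B) : actL R Γ B γ (x * y) = actL R Γ B γ x * actL R Γ B γ y := by
  rw [actL_eq_alg, actL_eq_alg, actL_eq_alg, map_mul]

/-- the action defined by the coaction -/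
@[instance_reducible] noncomputable def mkAct : MulSemiringAction Γ B where
  smul γ b := actL R Γ B γ b
  one_smul b := actL_one R Γ B b
  mul_smul γ δ b := actL_mul R Γ B γ δ b
  smul_zero γ := map_zero (actL R Γ B γ)
  smul_add γ x y := map_add (actL R Γ B γ) x y
  smul_one γ := actL_map_one R Γ B γ
  smul_mul γ x y := actL_map_mul R Γ B γ x y

end Helpers

open TensorProduct in
/-- Let R be a commutative ring, Γ a finite group and B a commutative R-algebra equipped with a comodule
structure over the Hopf algebra of R-valued functions on Γ (the coordinate ring of the constant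
group scheme of Γ over Spec R, with basis the indicator functions e_γ) whose coaction B → B ⊗ Fun(Γ,
R) is a homomorphism of algebras, i.e. an action of the constant group scheme on Spec B. Then there
is exactly one action of Γ on B by R-algebra automorphisms whose associated coaction b ↦ Σ_γ (γ · b)
⊗ e_γ is the given coaction; and for that action the ring of invariants of the comodule algebra (the
b whose coaction is b ⊗ 1) equals the ring of elements fixed by Γ. (That the coaction associated
with an action is a comodule algebra structure is the other direction of the published equivalence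
and is a construction here.) -/
theorem result (R : Type u) [CommRing R]
    (B : Type u) [CommRing B] [Algebra R B] (Γ : Type u) [Group Γ] [Fintype Γ] [DecidableEq Γ]
    [HopfRep.Comod R (ConstGrp.F R Γ) B] [GLin.IsCoactAlg R (ConstGrp.F R Γ) B] :
    ∃! a : MulSemiringAction Γ B, ∃ _ : SMulCommClass Γ R B,
      ConstAct.coactLin R B Γ = HopfRep.Comod.coact (k := R) (A := ConstGrp.F R Γ) (V := B) ∧
        GLin.invariants R (ConstGrp.F R Γ) B = ConstAct.inv R B Γ := by
  refine ⟨mkAct R Γ B, ?_, ?_⟩
  · let _ := mkAct R Γ B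
    have hsm : ∀ (γ : Γ) (b : B), γ • b = actL R Γ B γ b := fun _ _ => rfl
    have hcomm : SMulCommClass Γ R B := ⟨fun γ r b => by
      rw [hsm, hsm, map_smul]⟩
    refine ⟨hcomm, ?_, ?_⟩
    · apply LinearMap.ext
      intro b
      rw [ConstAct.coactLin_apply]
      exact (expand R Γ B _).symm
    · ext b
      rw [GLin.mem_invariants_iff, ConstAct.mem_inv]
      constructor
      · intro h g
        rw [hsm]
        change cmp R Γ B g (HopfRep.Comod.coact (k := R) (A := ConstGrp.F R Γ) b) = b
        rw [h, cmp_tmul]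
        simp
      · intro h
        rw [expand R Γ B (HopfRep.Comod.coact (k := R) (A := ConstGrp.F R Γ) b)]
        have : ∀ g : Γ, cmp R Γ B g (HopfRep.Comod.coact (k := R) (A := ConstGrp.F R Γ) b) = b :=
          fun g => h g
        simp only [this]
        rw [← TensorProduct.tmul_sum, ConstGrp.sum_e]
  · rintro a' ⟨hcomm, hco, -⟩
    have key : ∀ (γ : Γ) (b : B), a'.smul γ b = actL R Γ B γ b := by
      intro γ b
      have h := LinearMap.congr_fun hco b
      rw [ConstAct.coactLin_apply] at h
      have h2 := congrArg (cmp R Γ B γ) h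
      rw [map_sum] at h2
      simp only [cmp_tmul, ConstGrp.e_apply] at h2
      rw [Finset.sum_eq_single γ] at h2
      · rw [if_pos rfl, one_smul] at h2
        exact h2
      · intro g _ hg
        rw [if_neg (Ne.symm hg), zero_smul]
      · intro h3; exact absurd (Finset.mem_univ _) h3
    have hd : a'.toDistribMulAction = (mkAct R Γ B).toDistribMulAction :=
      DistribMulAction.ext (by funext γ b; exact key γ b)
    cases a' with
    | mk _ _ =>
      cases hd
      rfl

end Groth.Agent.S16962
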