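import Groth.Statements.S16963
-- import your own Groth.Agent.* helpers here

set_option autoImplicit false
universe u
open scoped BigOperators
open ConstAct

namespace Groth.Agent.S16963


open TensorProduct in
/-- the `γ`-component of a tensor in `B ⊗ F` -/
noncomputable def comp (R : Type u) [CommRing R] (B : Type u) [CommRing B] [Algebra R B]
    (Γ : Type u) (γ : Γ) : B ⊗[R] ConstGrp.F R Γ →ₗ[R] B :=
  (TensorProduct.rid R B).toLinearMap ∘ₗ LinearMap.lTensor B (ConstGrp.ev R γ).toLinearMap

open TensorProduct in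
theorem comp_tmul (R : Type u) [CommRing R] (B : Type u) [CommRing B] [Algebra R B]
    (Γ : Type u) (γ : Γ) (b : B) (f : ConstGrp.F R Γ) :
    comp R B Γ γ (b ⊗ₜ[R] f) = f γ • b := by
  simp [comp]

open TensorProduct in
/-- Let R be a commutative ring and Γ a finite group acting on a commutative R-algebra B by R-algebra
automorphisms; regard B as a comodule algebra over the Hopf algebra of R-valued functions on Γ (the
constant group scheme of Γ acting on Spec B) through the coaction b ↦ Σ_γ (γ · b) ⊗ e_γ. Then the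
action is tame — there is a comodule map α from the Hopf algebra, with its regular coaction, to B
with α(1) = 1 (a total integral) — if and only if the trace b ↦ Σ_γ γ · b, which takes values in the
ring of invariants B^Γ, maps B onto B^Γ. -/
theorem result (R : Type u) [CommRing R]
    (B : Type u) [CommRing B] [Algebra R B] (Γ : Type u) [Group Γ] [Fintype Γ] [DecidableEq Γ]
    [MulSemiringAction Γ B] [SMulCommClass Γ R B] :
    letI := ConstAct.comod R B Γ
    (∃ α : ConstGrp.F R Γ →ₗ[R] B, Hoch.IsComodHom (ConstGrp.F R Γ) α ∧ α 1 = 1) ↔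
      ∀ c : B, c ∈ ConstAct.inv R B Γ → ∃ b : B, ∑ γ : Γ, γ • b = c := by
  let _ := ConstAct.comod R B Γ
  constructor
  · rintro ⟨α, hα, h1⟩
    have key : ∀ γ g : Γ, γ • α (ConstGrp.e R g) = α (ConstGrp.e R (g * γ⁻¹)) := by
      intro γ g
      have h := LinearMap.congr_fun hα (ConstGrp.e R g)
      have h2 := congrArg (comp R B Γ γ) h
      simp only [LinearMap.comp_apply] at h2
      change comp R B Γ γ (ConstAct.coactLin R B Γ (α (ConstGrp.e R g))) =
        comp R B Γ γ ((LinearMap.rTensor (ConstGrp.F R Γ) α)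
          (Coalgebra.comul (R := R) (ConstGrp.e R g))) at h2
      rw [ConstAct.coactLin_apply, ConstGrp.comul_e, map_sum, map_sum, map_sum] at h2
      simp only [LinearMap.rTensor_tmul, comp_tmul, ConstGrp.e_apply] at h2
      rw [Finset.sum_eq_single γ, Finset.sum_eq_single (g * γ⁻¹)] at h2
      · simpa using h2
      · intro a _ ha
        rw [if_neg, zero_smul]
        intro h3
        apply ha
        rw [h3]; group
      · intro h3; exact absurd (Finset.mem_univ _) h3
      · intro a _ ha
        rw [if_neg (Ne.symm ha), zero_smul]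
      · intro h3; exact absurd (Finset.mem_univ _) h3
    have htr : ∑ γ : Γ, γ • α (ConstGrp.e R 1) = 1 := by
      rw [← h1, ← ConstGrp.sum_e (R := R) (G := Γ), map_sum]
      refine Fintype.sum_equiv (Equiv.inv Γ) _ _ fun γ => ?_
      rw [key γ 1, one_mul]; rfl
    intro c hc
    refine ⟨c * α (ConstGrp.e R 1), ?_⟩
    have hc' : ∀ γ : Γ, γ • c = c := hc
    simp only [smul_mul', hc']
    rw [← Finset.mul_sum, htr, mul_one]
  · intro h
    obtain ⟨b, hb⟩ := h 1 (Subalgebra.one_mem _)
    let α : ConstGrp.F R Γ →ₗ[R] B :=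
      ∑ g : Γ, (ConstGrp.ev R g).toLinearMap.smulRight (g⁻¹ • b)
    have hα : ∀ f : ConstGrp.F R Γ, α f = ∑ g : Γ, f g • (g⁻¹ • b) := by
      intro f
      simp [α, LinearMap.sum_apply]
    have hαe : ∀ g : Γ, α (ConstGrp.e R g) = g⁻¹ • b := by
      intro g
      rw [hα, Finset.sum_eq_single g]
      · rw [ConstGrp.e_apply_self, one_smul]
      · intro a _ ha
        rw [ConstGrp.e_apply_of_ne ha, zero_smul]
      · intro h3; exact absurd (Finset.mem_univ _) h3
    refine ⟨α, ?_, ?_⟩
    · apply ConstGrp.linearMap_ext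
      intro g
      change ConstAct.coactLin R B Γ (α (ConstGrp.e R g)) =
        (LinearMap.rTensor (ConstGrp.F R Γ) α) (Coalgebra.comul (R := R) (ConstGrp.e R g))
      rw [ConstAct.coactLin_apply, ConstGrp.comul_e, map_sum]
      simp only [LinearMap.rTensor_tmul, hαe]
      refine Fintype.sum_equiv ((Equiv.inv Γ).trans (Equiv.mulLeft g)) _ _ fun γ => ?_
      change (γ • g⁻¹ • b) ⊗ₜ[R] ConstGrp.e R γ =
        ((g * γ⁻¹)⁻¹ • b) ⊗ₜ[R] ConstGrp.e R ((g * γ⁻¹)⁻¹ * g)
      rw [smul_smul]
      congr 2 <;> group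
    · rw [← ConstGrp.sum_e (R := R) (G := Γ), map_sum]
      simp only [hαe]
      rw [← hb]
      exact Fintype.sum_equiv (Equiv.inv Γ) _ _ fun γ => rfl

end Groth.Agent.S16963
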