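import Groth.Statements.S16979
import Mathlib.LinearAlgebra.Matrix.Charpoly.Eigs
import Mathlib.LinearAlgebra.Matrix.Charpoly.Coeff
import Mathlib.FieldTheory.IsAlgClosed.Spectrum
import Mathlib.FieldTheory.IsAlgClosed.AlgebraicClosure

set_option autoImplicit false
universe u v
open CAlg

namespace Groth.Agent.S16979

/-- Let R be an integral domain with fraction field K and φ a square matrix over R whose characteristic
polynomial becomes separable in K[T] (equivalently, K[T] modulo the characteristic polynomial is
geometrically reduced over K). Then a polynomial f over R satisfies f(φ) = 0 exactly when the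
characteristic polynomial of φ divides f in R[T]: the kernel of evaluation at φ (the minimal ideal
of φ) is the principal ideal generated by the characteristic polynomial. -/
theorem result
    {R : Type u} [CommRing R] [IsDomain R] {n : Type v} [Fintype n] [DecidableEq n]
    (φ : Matrix n n R)
    (hsep : (φ.charpoly.map (algebraMap R (FractionRing R))).Separable) :
    RingHom.ker (Polynomial.aeval (R := R) φ) = Ideal.span {φ.charpoly} := by
  classical
  apply le_antisymm
  · intro f hf
    rw [RingHom.mem_ker] at hf
    rw [Ideal.mem_span_singleton]
    by_cases hf0 : f = 0
    · rw [hf0]; exact dvd_zero _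
    let K := FractionRing R
    let L := AlgebraicClosure K
    let g : R →+* L := algebraMap R L
    have hg : Function.Injective g := by
      have : g = (algebraMap K L).comp (algebraMap R K) := IsScalarTower.algebraMap_eq R K L
      rw [this]
      exact (algebraMap K L).injective.comp (IsFractionRing.injective R K)
    rw [← Polynomial.map_dvd_map g hg (Matrix.charpoly_monic φ)]
    set P := φ.charpoly.map g with hP
    have hPmonic : P.Monic := (Matrix.charpoly_monic φ).map g
    have hPsep : P.Separable := by
      have h1 : P = (φ.charpoly.map (algebraMap R K)).map (algebraMap K L) := by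
        rw [hP, Polynomial.map_map]
        congr 1
      rw [h1]
      exact hsep.map
    have hPsplit : P.Splits := IsAlgClosed.splits P
    have hPprod : P = (P.roots.map fun a => Polynomial.X - Polynomial.C a).prod :=
      (hPsplit.eq_prod_roots_of_monic hPmonic)
    have hf0' : f.map g ≠ 0 := by
      rwa [Ne, Polynomial.map_eq_zero_iff hg]
    rw [hPprod, Multiset.prod_X_sub_C_dvd_iff_le_roots hf0']
    rw [Multiset.le_iff_subset (Polynomial.nodup_roots hPsep)]
    intro r hr
    have hroot : Polynomial.IsRoot P r := Polynomial.isRoot_of_mem_roots hr
    have hchar : (φ.map g).charpoly = P := Matrix.charpoly_map φ g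
    have hspec : r ∈ spectrum L (φ.map g) := by
      rw [Matrix.mem_spectrum_iff_isRoot_charpoly, hchar]
      exact hroot
    have hnt : Nontrivial (Matrix n n L) := by
      by_contra hcon
      rw [not_nontrivial_iff_subsingleton] at hcon
      rw [spectrum.of_subsingleton] at hspec
      exact hspec
    have h2 : Polynomial.eval r (f.map g) ∈ spectrum L (Polynomial.aeval (φ.map g) (f.map g)) :=
      spectrum.subset_polynomial_aeval (φ.map g) (f.map g) ⟨r, hspec, rfl⟩
    have h3 : Polynomial.aeval (φ.map g) (f.map g) = 0 := by
      have := Polynomial.map_aeval_eq_aeval_map (S := Matrix n n R) (U := Matrix n n L)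
        (φ := g) (ψ := g.mapMatrix) (by
          ext r i j
          simp [Matrix.algebraMap_matrix_apply]
          split_ifs <;> simp) f φ
      rw [hf, map_zero] at this
      exact this.symm
    rw [h3, spectrum.zero_eq, Set.mem_singleton_iff] at h2
    rw [Polynomial.mem_roots hf0']
    exact h2
  · rw [Ideal.span_le, Set.singleton_subset_iff]
    exact Matrix.aeval_self_charpoly φ

end Groth.Agent.S16979
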