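import Groth.Statements.S16980
import Mathlib
import Groth.Agent.Lib.Helper95.NodeGlue

set_option autoImplicit false
universe u
open CAlg

namespace Groth.Agent.S16980

open Groth.Agent.Lib.Helper95.NodeNormal LaurentPolynomial TensorProduct

section detect

variable {A B' C : Type*} [CommRing A] [CommRing B'] [CommRing C] [Algebra A B'] [Algebra A C]

/-- a square-zero lift detects elements of the kernel whose differential vanishes -/
lemma detect [Algebra B' C] [IsScalarTower A B' C]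
    (I₀ : Ideal B') (N : Ideal C) (hN : N ^ 2 = ⊥) (hI₀N : ∀ a ∈ I₀, algebraMap B' C a ∈ N)
    (f : B' →ₐ[A] C) (hf : ∀ b, f b - algebraMap B' C b ∈ N)
    (i : RingHom.ker (algebraMap B' (B' ⧸ I₀)))
    (hi : KaehlerDifferential.kerToTensor A B' (B' ⧸ I₀) i = 0) :
    f (i : B') = algebraMap B' C (i : B') := by
  have e : (Ideal.Quotient.mkₐ A N).comp f = IsScalarTower.toAlgHom A B' (C ⧸ N) := by
    ext b
    change Ideal.Quotient.mk N (f b) = algebraMap B' (C ⧸ N) b
    rw [IsScalarTower.algebraMap_apply B' C (C ⧸ N) b]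
    exact Ideal.Quotient.eq.2 (hf b)
  let 𝔡 := derivationToSquareZeroOfLift N hN f e
  have hD : KaehlerDifferential.D A B' (i : B') ∈ (I₀ • ⊤ : Submodule B' (Ω[B'⁄A])) := by
    rw [KaehlerDifferential.kerToTensor_apply] at hi
    have h2 := congrArg (TensorProduct.quotTensorEquivQuotSMul (Ω[B'⁄A]) I₀) hi
    rw [TensorProduct.quotTensorEquivQuotSMul_mk_one_tmul, map_zero] at h2
    exact (Submodule.Quotient.mk_eq_zero _).mp h2
  have hkill : ∀ ω ∈ (I₀ • ⊤ : Submodule B' (Ω[B'⁄A])), 𝔡.liftKaehlerDifferential ω = 0 := by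
    intro ω hω
    refine Submodule.smul_induction_on hω ?_ ?_
    · intro a ha m _
      rw [map_smul]
      apply Subtype.ext
      have h1 : algebraMap B' C a * ((𝔡.liftKaehlerDifferential m : N) : C) ∈ N ^ 2 := by
        rw [pow_two]
        exact Ideal.mul_mem_mul (hI₀N a ha) (𝔡.liftKaehlerDifferential m).2
      rw [hN, Ideal.mem_bot] at h1
      rw [Submodule.coe_smul_of_tower, Algebra.smul_def]
      exact h1
    · intro x y hx hy
      rw [map_add, hx, hy, add_zero]
  have h3 := hkill _ hD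
  rw [Derivation.liftKaehlerDifferential_comp_D] at h3
  have h4 : ((𝔡 (i : B') : N) : C) = f (i : B') - algebraMap B' C (i : B') :=
    derivationToSquareZeroOfLift_apply N hN f e _
  rw [h3] at h4
  exact (sub_eq_zero.mp h4.symm)

lemma detect' (ψ : B' →ₐ[A] C)
    (I₀ : Ideal B') (N : Ideal C) (hN : N ^ 2 = ⊥) (hI₀N : ∀ a ∈ I₀, ψ a ∈ N)
    (f : B' →ₐ[A] C) (hf : ∀ b, f b - ψ b ∈ N)
    (i : RingHom.ker (algebraMap B' (B' ⧸ I₀)))
    (hi : KaehlerDifferential.kerToTensor A B' (B' ⧸ I₀) i = 0) :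
    f (i : B') = ψ (i : B') := by
  let _ : Algebra B' C := ψ.toRingHom.toAlgebra
  have : IsScalarTower A B' C := IsScalarTower.of_algebraMap_eq (fun a => (ψ.commutes a).symm)
  exact detect I₀ N hN hI₀N f hf i hi

end detect

section laurent

variable {R : Type*} [CommRing R]

lemma hom_E' (c : R) (e : ℤ) (g : Nd R c →ₐ[R] R[T;T⁻¹]) (h1 : g (xN c) = C c * T e)
    (h2 : g (yN c) = T (-e)) (j : ℤ) :
    g (E c j) = C (c ^ j.toNat) * T (e * j) := by
  rw [E, map_mul, map_pow, map_pow, h1, h2, mul_pow, T_pow, T_pow, ← map_pow,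
    mul_assoc, ← T_add]
  congr 2
  have := Int.toNat_sub_toNat_neg j
  linear_combination e * this

lemma g2_emb (c : R) (g : Nd R c →ₐ[R] R[T;T⁻¹]) (h1 : g (xN c) = C c * T 1)
    (h2 : g (yN c) = T (-1)) (l : ℤ →₀ R) (j : ℤ) :
    (g (emb c l)).coeff j = l j * c ^ j.toNat := by
  induction l using Finsupp.induction_linear with
  | zero => simp
  | add f g hf hg =>
    simp only [map_add, AddMonoidAlgebra.coeff_add, Finsupp.add_apply, hf, hg, add_mul]
  | single j' r =>
    rw [emb_single, map_smul, hom_E' c 1 g h1 h2, one_mul, ← single_eq_C_mul_T,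
      AddMonoidAlgebra.coeff_smul, AddMonoidAlgebra.coeff_single, Finsupp.smul_apply,
      Finsupp.single_apply, Finsupp.single_apply, smul_eq_mul]
    by_cases h : j' = j
    · subst h; simp
    · simp [h]

lemma joint_injective (c : R) (g₁ g₂ : Nd R c →ₐ[R] R[T;T⁻¹])
    (h11 : g₁ (xN c) = T 1) (h12 : g₁ (yN c) = C c * T (-1))
    (h21 : g₂ (xN c) = C c * T 1) (h22 : g₂ (yN c) = T (-1))
    (z : Nd R c) (hz1 : g₁ z = 0) (hz2 : g₂ z = 0) : z = 0 := by
  apply coord_injective c
  ext j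
  rw [map_zero, Finsupp.zero_apply]
  rcases le_total 0 j with hj | hj
  · have h := gU_coeff c g₁ h11 h12 z j
    have e : (-j).toNat = 0 := by omega
    rw [hz1, e, pow_zero, mul_one] at h
    rw [← h]; simp
  · have h := g2_emb c g₂ h21 h22 (coord c z) j
    have e : j.toNat = 0 := by omega
    rw [emb_coord, hz2, e, pow_zero, mul_one] at h
    rw [← h]; simp

end laurent

section main

variable (A : Type u) [CommRing A] (J : Type u) [AddCommGroup J] [Module A J] [Module Aᵐᵒᵖ J]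
    [IsCentralScalar A J]

/-- the endomorphism `a + εj ↦ a` of the trivial square-zero extension -/
noncomputable def sig : TrivSqZeroExt A J →ₐ[A] TrivSqZeroExt A J :=
  (TrivSqZeroExt.inlAlgHom A A J).comp (TrivSqZeroExt.fstHom A A J)

lemma sig_sub_mem (a : TrivSqZeroExt A J) : sig A J a - a ∈ TrivSqZeroExt.kerIdeal A J := by
  rw [TrivSqZeroExt.kerIdeal, RingHom.mem_ker, map_sub]
  simp [sig]

lemma sig_ker (k : TrivSqZeroExt A J) (hk : k ∈ TrivSqZeroExt.kerIdeal A J) : sig A J k = 0 := by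
  rw [TrivSqZeroExt.kerIdeal, RingHom.mem_ker] at hk
  simp only [sig, AlgHom.comp_apply]
  have : (TrivSqZeroExt.fstHom A A J) k = 0 := hk
  rw [this, map_zero]

/-- induced endomorphism of Laurent polynomials -/
noncomputable def sigL : (TrivSqZeroExt A J)[T;T⁻¹] →ₐ[A] (TrivSqZeroExt A J)[T;T⁻¹] :=
  AddMonoidAlgebra.mapAlgHom ℤ (sig A J)

/-- the square-zero ideal of Laurent polynomials with coefficients in `J` -/
noncomputable def NL : Ideal (TrivSqZeroExt A J)[T;T⁻¹] :=
  Ideal.map (algebraMap (TrivSqZeroExt A J) (TrivSqZeroExt A J)[T;T⁻¹]) (TrivSqZeroExt.kerIdeal A J)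

lemma NL_sq : NL A J ^ 2 = ⊥ := by
  rw [NL, ← Ideal.map_pow, TrivSqZeroExt.kerIdeal_sq, Ideal.map_bot]

lemma sigL_sub_mem (l : (TrivSqZeroExt A J)[T;T⁻¹]) : sigL A J l - l ∈ NL A J := by
  induction l using LaurentPolynomial.induction_on' with
  | add p q hp hq =>
    have : sigL A J (p + q) - (p + q) = (sigL A J p - p) + (sigL A J q - q) := by
      rw [map_add]; ring
    rw [this]; exact (NL A J).add_mem hp hq
  | C_mul_T n a =>
    rw [← single_eq_C_mul_T, sigL, AddMonoidAlgebra.mapAlgHom_single,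
      ← AddMonoidAlgebra.single_sub, single_eq_C_mul_T]
    exact Ideal.mul_mem_right _ _ (Ideal.mem_map_of_mem _ (sig_sub_mem A J a))

lemma sigL_NL (l : (TrivSqZeroExt A J)[T;T⁻¹]) (hl : l ∈ NL A J) : sigL A J l = 0 := by
  have hle : NL A J ≤ RingHom.ker (sigL A J).toRingHom := by
    rw [NL, Ideal.map_le_iff_le_comap]
    intro k hk
    rw [Ideal.mem_comap, RingHom.mem_ker]
    change sigL A J (C k) = 0
    rw [← single_eq_C, sigL, AddMonoidAlgebra.mapAlgHom_single, sig_ker A J k hk]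
    simp
  exact hle hl

end main

/-- Let A be a commutative ring, J an A-module, A′ = A ⊕ εJ the trivial square-zero extension of A by J,
and τ any element of A′. Let B′ be the A′-algebra A′[x,y]/(xy − τ), presented by two generators x, y
with the evaluation map from the polynomial ring in two variables over A′ surjective and with kernel
generated by XY − τ. Let I ⊆ B′ be the ideal generated by the square-zero ideal J of A′, so that B =
B′/I is A[x,y]/(xy − t) with t the A-component of τ. Then the first map of the conormal sequence of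
B′ → B relative to A, namely I → B ⊗_{B′} Ω_{B′/A}, i ↦ 1 ⊗ di, is injective (so the sequence 0 → I
→ B ⊗_{B′} Ω_{B′/A} → Ω_{B/A} → 0 is exact on the left as well; this is the local computation at a
node for first-order deformations of nodal curves). -/
theorem result
    (A : Type u) [CommRing A] (J : Type u) [AddCommGroup J] [Module A J] [Module Aᵐᵒᵖ J]
    [IsCentralScalar A J] (τ : TrivSqZeroExt A J)
    (B' : Type u) [CommRing B'] [Algebra (TrivSqZeroExt A J) B'] [Algebra A B']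
    [IsScalarTower A (TrivSqZeroExt A J) B'] (x y : B')
    (hsurj : Function.Surjective
      (MvPolynomial.aeval ![x, y] : MvPolynomial (Fin 2) (TrivSqZeroExt A J) →ₐ[TrivSqZeroExt A J] B'))
    (hker : RingHom.ker
      (MvPolynomial.aeval ![x, y] : MvPolynomial (Fin 2) (TrivSqZeroExt A J) →ₐ[TrivSqZeroExt A J] B') =
      Ideal.span {MvPolynomial.X 0 * MvPolynomial.X 1 - MvPolynomial.C τ}) :
    Function.Injective (KaehlerDifferential.kerToTensor A B'
      (B' ⧸ Ideal.map (algebraMap (TrivSqZeroExt A J) B') (TrivSqZeroExt.kerIdeal A J))) := by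
  classical
  rw [injective_iff_map_eq_zero]
  intro i hi
  have hrel1 : ∀ z ∈ Ideal.span {(MvPolynomial.X 0 * MvPolynomial.X 1 - MvPolynomial.C τ :
      MvPolynomial (Fin 2) (TrivSqZeroExt A J))},
      (MvPolynomial.aeval ![(T 1 : (TrivSqZeroExt A J)[T;T⁻¹]), C τ * T (-1)] :
        MvPolynomial (Fin 2) (TrivSqZeroExt A J) →ₐ[TrivSqZeroExt A J] _) z = 0 := by
    intro z hz
    have hle : Ideal.span {(MvPolynomial.X 0 * MvPolynomial.X 1 - MvPolynomial.C τ :
        MvPolynomial (Fin 2) (TrivSqZeroExt A J))} ≤ RingHom.ker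
        (MvPolynomial.aeval ![(T 1 : (TrivSqZeroExt A J)[T;T⁻¹]), C τ * T (-1)] :
        MvPolynomial (Fin 2) (TrivSqZeroExt A J) →ₐ[TrivSqZeroExt A J] _).toRingHom := by
      rw [Ideal.span_le, Set.singleton_subset_iff, SetLike.mem_coe, RingHom.mem_ker]
      change MvPolynomial.aeval _ _ = 0
      rw [map_sub, map_mul, MvPolynomial.aeval_X, MvPolynomial.aeval_X, MvPolynomial.aeval_C]
      simp only [Matrix.cons_val_zero, Matrix.cons_val_one]
      rw [mul_left_comm, ← T_add, ← C_eq_algebraMap]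
      simp
    exact hle hz
  have hrel2 : ∀ z ∈ Ideal.span {(MvPolynomial.X 0 * MvPolynomial.X 1 - MvPolynomial.C τ :
      MvPolynomial (Fin 2) (TrivSqZeroExt A J))},
      (MvPolynomial.aeval ![C τ * (T 1 : (TrivSqZeroExt A J)[T;T⁻¹]), T (-1)] :
        MvPolynomial (Fin 2) (TrivSqZeroExt A J) →ₐ[TrivSqZeroExt A J] _) z = 0 := by
    intro z hz
    have hle : Ideal.span {(MvPolynomial.X 0 * MvPolynomial.X 1 - MvPolynomial.C τ :
        MvPolynomial (Fin 2) (TrivSqZeroExt A J))} ≤ RingHom.ker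
        (MvPolynomial.aeval ![C τ * (T 1 : (TrivSqZeroExt A J)[T;T⁻¹]), T (-1)] :
        MvPolynomial (Fin 2) (TrivSqZeroExt A J) →ₐ[TrivSqZeroExt A J] _).toRingHom := by
      rw [Ideal.span_le, Set.singleton_subset_iff, SetLike.mem_coe, RingHom.mem_ker]
      change MvPolynomial.aeval _ _ = 0
      rw [map_sub, map_mul, MvPolynomial.aeval_X, MvPolynomial.aeval_X, MvPolynomial.aeval_C]
      simp only [Matrix.cons_val_zero, Matrix.cons_val_one]
      rw [mul_assoc, ← T_add, ← C_eq_algebraMap]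
      simp
    exact hle hz
  let g₁ : Nd (TrivSqZeroExt A J) τ →ₐ[TrivSqZeroExt A J] (TrivSqZeroExt A J)[T;T⁻¹] :=
    Ideal.Quotient.liftₐ _ _ hrel1
  let g₂ : Nd (TrivSqZeroExt A J) τ →ₐ[TrivSqZeroExt A J] (TrivSqZeroExt A J)[T;T⁻¹] :=
    Ideal.Quotient.liftₐ _ _ hrel2
  have h11 : g₁ (xN τ) = T 1 := by
    have h0 : g₁ (xN τ) = (MvPolynomial.aeval ![(T 1 : (TrivSqZeroExt A J)[T;T⁻¹]), C τ * T (-1)] :
        MvPolynomial (Fin 2) (TrivSqZeroExt A J) →ₐ[TrivSqZeroExt A J] _) (MvPolynomial.X 0) := rfl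
    rw [h0, MvPolynomial.aeval_X]; rfl
  have h12 : g₁ (yN τ) = C τ * T (-1) := by
    have h0 : g₁ (yN τ) = (MvPolynomial.aeval ![(T 1 : (TrivSqZeroExt A J)[T;T⁻¹]), C τ * T (-1)] :
        MvPolynomial (Fin 2) (TrivSqZeroExt A J) →ₐ[TrivSqZeroExt A J] _) (MvPolynomial.X 1) := rfl
    rw [h0, MvPolynomial.aeval_X]; rfl
  have h21 : g₂ (xN τ) = C τ * T 1 := by
    have h0 : g₂ (xN τ) = (MvPolynomial.aeval ![C τ * (T 1 : (TrivSqZeroExt A J)[T;T⁻¹]), T (-1)] :
        MvPolynomial (Fin 2) (TrivSqZeroExt A J) →ₐ[TrivSqZeroExt A J] _) (MvPolynomial.X 0) := rfl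
    rw [h0, MvPolynomial.aeval_X]; rfl
  have h22 : g₂ (yN τ) = T (-1) := by
    have h0 : g₂ (yN τ) = (MvPolynomial.aeval ![C τ * (T 1 : (TrivSqZeroExt A J)[T;T⁻¹]), T (-1)] :
        MvPolynomial (Fin 2) (TrivSqZeroExt A J) →ₐ[TrivSqZeroExt A J] _) (MvPolynomial.X 1) := rfl
    rw [h0, MvPolynomial.aeval_X]; rfl
  let e' : Nd (TrivSqZeroExt A J) τ ≃ₐ[TrivSqZeroExt A J] B' :=
    (Ideal.quotientEquivAlgOfEq (TrivSqZeroExt A J) hker.symm).trans
      (Ideal.quotientKerAlgEquivOfSurjective hsurj)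
  have hiI : (i : B') ∈ (Ideal.map (algebraMap (TrivSqZeroExt A J) B') (TrivSqZeroExt.kerIdeal A J)) := by
    have := i.2
    rw [RingHom.mem_ker] at this
    exact Ideal.Quotient.eq_zero_iff_mem.mp this
  have key : ∀ g : Nd (TrivSqZeroExt A J) τ →ₐ[TrivSqZeroExt A J] (TrivSqZeroExt A J)[T;T⁻¹],
      g (e'.symm (i : B')) = 0 := by
    intro g
    let ψ : B' →ₐ[A] (TrivSqZeroExt A J)[T;T⁻¹] :=
      (g.comp e'.symm.toAlgHom).restrictScalars A
    have hψ : ∀ b, ψ b = g (e'.symm b) := fun b => rfl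
    have hI₀N : ∀ a ∈ (Ideal.map (algebraMap (TrivSqZeroExt A J) B') (TrivSqZeroExt.kerIdeal A J)), ψ a ∈ NL A J := by
      have hle : (Ideal.map (algebraMap (TrivSqZeroExt A J) B') (TrivSqZeroExt.kerIdeal A J)) ≤ Ideal.comap ψ.toRingHom (NL A J) := by
        rw [Ideal.map_le_iff_le_comap]
        intro k hk
        rw [Ideal.mem_comap, Ideal.mem_comap]
        change ψ (algebraMap (TrivSqZeroExt A J) B' k) ∈ NL A J
        rw [hψ, AlgEquiv.commutes, AlgHom.commutes]
        exact Ideal.mem_map_of_mem _ hk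
      exact fun a ha => hle ha
    have h1 := detect' ψ (Ideal.map (algebraMap (TrivSqZeroExt A J) B') (TrivSqZeroExt.kerIdeal A J)) (NL A J) (NL_sq A J) hI₀N ((sigL A J).comp ψ)
      (fun b => sigL_sub_mem A J (ψ b)) i hi
    rw [AlgHom.comp_apply, sigL_NL A J _ (hI₀N _ hiI)] at h1
    rw [← hψ, ← h1]
  have hz := joint_injective τ g₁ g₂ h11 h12 h21 h22 (e'.symm (i : B')) (key g₁) (key g₂)
  apply Subtype.ext
  have := congrArg e' hz
  rwa [AlgEquiv.apply_symm_apply, map_zero] at this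

end Groth.Agent.S16980
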