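import Groth.Statements.S16981
import Mathlib
import Groth.Agent.Lib.Helper83.CompleteNoeth
import Groth.Agent.Lib.Helper83.AdicExt

set_option autoImplicit false
universe u v
open CAlg

namespace Groth.Agent.S16981


open Groth.Agent.Lib.Helper83

/-- A ring is complete along a square-zero ideal. -/
theorem isAdicComplete_of_sq_eq_bot {E : Type*} [CommRing E] (K : Ideal E) (hsq : K ^ 2 = ⊥) :
    IsAdicComplete K E := by
  have h2 : (K ^ 2 • ⊤ : Submodule E E) = ⊥ := by
    rw [hsq, Submodule.bot_smul]
  refine { haus' := fun x hx => ?_, prec' := fun f hf => ⟨f 2, fun n => ?_⟩ }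
  · have := hx 2
    rw [h2, SModEq.zero] at this
    simpa using this
  · rcases le_total n 2 with h | h
    · exact hf h
    · have := hf h
      rw [h2, SModEq.bot] at this
      rw [this]

/-- Let A be a complete Noetherian local ring and f : E → A a surjective ring homomorphism whose kernel
has square zero and is finitely generated (equivalently, is a finite A-module for the induced module
structure). Then E is separated and complete for the adic topology of the inverse image of the
maximal ideal of A. (The published statement takes A to be the completion of a local ring of a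
scheme of finite type over an Artinian local ring and the kernel the completion of a finite module;
this row assumes only that A is complete Noetherian local and the kernel finitely generated.) -/
theorem result
    {A : Type u} {E : Type v} [CommRing A] [CommRing E] [IsNoetherianRing A] [IsLocalRing A]
    [IsAdicComplete (IsLocalRing.maximalIdeal A) A]
    (f : E →+* A) (hf : Function.Surjective f)
    (hsq : RingHom.ker f ^ 2 = ⊥) (hfg : (RingHom.ker f).FG) :
    IsAdicComplete ((IsLocalRing.maximalIdeal A).comap f) E := by
  classical
  set K : Ideal E := RingHom.ker f with hK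
  -- E is Noetherian
  have hcK : IsAdicComplete K E := isAdicComplete_of_sq_eq_bot K hsq
  have : IsNoetherianRing (E ⧸ K) :=
    isNoetherianRing_of_ringEquiv A (RingHom.quotientKerEquivOfSurjective hf).symm
  have hE : IsNoetherianRing E := isNoetherianRing_of_isAdicComplete K hfg
  set J : Ideal E := (IsLocalRing.maximalIdeal A).comap f with hJdef
  -- J is in the Jacobson radical
  have hJ : J ≤ Ideal.jacobson ⊥ := by
    intro x hx
    rw [Ideal.mem_jacobson_bot]
    intro y
    have hfx : f x ∈ IsLocalRing.maximalIdeal A := hx
    have hu : IsUnit (f (x * y + 1)) := by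
      rw [map_add, map_mul, map_one]
      have h1 : f x * f y ∈ IsLocalRing.maximalIdeal A := Ideal.mul_mem_right _ _ hfx
      have := IsLocalRing.isUnit_one_sub_self_of_mem_nonunits (-(f x * f y))
        (by rw [← IsLocalRing.mem_maximalIdeal]; exact neg_mem h1)
      simpa [add_comm] using this
    obtain ⟨a, ha⟩ := hu.exists_right_inv
    obtain ⟨v, rfl⟩ := hf a
    have hk : (x * y + 1) * v - 1 ∈ K := by
      rw [hK, RingHom.mem_ker, map_sub, map_mul, ha, map_one, sub_self]
    have hk2 : ((x * y + 1) * v - 1) * ((x * y + 1) * v - 1) = 0 := by
      have : ((x * y + 1) * v - 1) * ((x * y + 1) * v - 1) ∈ K ^ 2 := by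
        rw [pow_two]; exact Ideal.mul_mem_mul hk hk
      rwa [hsq, Ideal.mem_bot] at this
    refine IsUnit.of_mul_eq_one (v * (1 - ((x * y + 1) * v - 1))) ?_
    have : (x * y + 1) * (v * (1 - ((x * y + 1) * v - 1))) =
        1 - ((x * y + 1) * v - 1) * ((x * y + 1) * v - 1) := by ring
    rw [this, hk2, sub_zero]
  have hH : IsHausdorff J E := IsHausdorff.of_le_jacobson J E hJ
  -- precompleteness
  let _ : Algebra E A := f.toAlgebra
  have hJm : J.map (algebraMap E A) = IsLocalRing.maximalIdeal A :=
    Ideal.map_comap_of_surjective f hf _
  have hA : IsPrecomplete J A := by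
    rw [← IsPrecomplete.map_algebraMap_iff (S := A), hJm]
    infer_instance
  let g : E →ₗ[E] A := Algebra.linearMap E A
  have hg : Function.Surjective g := hf
  have hKg : LinearMap.ker g = K := by
    ext x
    rfl
  have hQ : IsPrecomplete J (E ⧸ K) := by
    have e : (E ⧸ LinearMap.ker g) ≃ₗ[E] A := LinearMap.quotKerEquivOfSurjective g hg
    rw [hKg] at e
    exact isPrecomplete_of_surjective J e.symm.toLinearMap e.symm.surjective
  have hP : IsPrecomplete J E := by
    refine isPrecomplete_of_finite_of_pow_smul_top_eq_bot J K 2 (M := E) ?_
    rw [hsq, Submodule.bot_smul]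
  exact { toIsHausdorff := hH, toIsPrecomplete := hP }

end Groth.Agent.S16981
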