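import Groth.Statements.S16982
import Mathlib
import Groth.Agent.Lib.Helper96.AdicSmoothPS
import Groth.Agent.S16981

set_option autoImplicit false
universe u v w w'
open CAlg

namespace Groth.Agent.S16982

/-- Let R be a commutative ring, A a complete Noetherian local R-algebra written as a quotient of a
power series ring over R in finitely many variables by a surjective R-algebra map π, and f : E → A a
surjective R-algebra map whose kernel has square zero and is finitely generated. Then π lifts along
f to an R-algebra map λ from the power series ring to E with f ∘ λ = π. (The published statement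
takes R Artinian local and asks for a lift that is continuous for the adic topologies; this row
allows any commutative R and asks for any lift.) -/
theorem result
    {R : Type u} [CommRing R] {σ : Type v} [Finite σ]
    {A : Type w} {E : Type w'} [CommRing A] [CommRing E] [Algebra R A] [Algebra R E]
    [IsNoetherianRing A] [IsLocalRing A] [IsAdicComplete (IsLocalRing.maximalIdeal A) A]
    (π : MvPowerSeries σ R →ₐ[R] A) (hπ : Function.Surjective π)
    (f : E →ₐ[R] A) (hf : Function.Surjective f)
    (hsq : RingHom.ker f.toRingHom ^ 2 = ⊥) (hfg : (RingHom.ker f.toRingHom).FG) :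
    ∃ l : MvPowerSeries σ R →ₐ[R] E, f.comp l = π := by
  classical
  -- images of the variables lie in the maximal ideal
  have ha : ∀ s, π (MvPowerSeries.X s) ∈ IsLocalRing.maximalIdeal A := by
    intro s
    rw [← IsLocalRing.jacobson_eq_maximalIdeal (⊥ : Ideal A) bot_ne_top, Ideal.mem_jacobson_bot]
    intro b
    obtain ⟨g, rfl⟩ := hπ b
    have hu : IsUnit (1 + MvPowerSeries.X s * g : MvPowerSeries σ R) := by
      rw [MvPowerSeries.isUnit_iff_constantCoeff]
      simp
    have := hu.map π
    simpa [add_comm] using this
  haveI : IsAdicComplete ((IsLocalRing.maximalIdeal A).comap f.toRingHom) E :=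
    Groth.Agent.S16981.result f.toRingHom hf hsq hfg
  let e : σ → E := fun s => Function.surjInv hf (π (MvPowerSeries.X s))
  have he : ∀ s, f (e s) = π (MvPowerSeries.X s) := fun s => Function.surjInv_eq hf _
  have heI : ∀ s, e s ∈ (IsLocalRing.maximalIdeal A).comap f.toRingHom := by
    intro s
    rw [Ideal.mem_comap]
    show f (e s) ∈ _
    rw [he s]
    exact ha s
  refine ⟨Groth.Agent.Lib.Helper76.PSComplete.evC _ e heI, ?_⟩
  refine Groth.Agent.Lib.Helper96.mvPowerSeries_algHom_ext (IsLocalRing.maximalIdeal A) _ _
    (fun s => ?_) (fun s => ?_)
  · rw [AlgHom.comp_apply, Groth.Agent.Lib.Helper76.PSComplete.evC_X, he s]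
    exact ha s
  · rw [AlgHom.comp_apply, Groth.Agent.Lib.Helper76.PSComplete.evC_X, he s]

end Groth.Agent.S16982
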