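import Groth.Statements.S16983
import Mathlib

set_option autoImplicit false
universe u
open DeformData

namespace Groth.Agent.S16983

/-- Let p be a prime, s ≥ 1, B a finite index set with a subset B₀ of exactly three elements, m_j ≥ 1
integers coprime to p, and σ_{i,j} (i < s, j ∈ B) rational numbers with m_j σ_{i,j} an integer, such
that Σ_j (σ_{i,j} − 1) = −2 for every i, the fractional part of σ_{i,j} equals that of p^i σ_{0,j},
no σ_{i,j} equals 1, and the minimum over i of ⌊σ_{i,j}⌋ is 0 for j ∈ B₀ and 1 for j ∉ B₀. Then for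
every i the fractional parts ⟨σ_{i,j}⟩ sum over j to 1 (purity), and ⌊σ_{i,j}⌋ is 0 on B₀ and 1 off
B₀ for every i. (The hypotheses are exactly the properties of the signature of a special deformation
datum on the projective line: each entry is an integer divided by a stabilizer order m_j in a group
of order prime to p, the degree identity coming from Riemann–Hurwitz, the Frobenius-twist relation
between fractional parts, and the speciality conditions; the statement is given here for any such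
tuple.) -/
theorem result
    {B : Type u} [Fintype B] [DecidableEq B] (B₀ : Finset B) (hB₀ : B₀.card = 3)
    (p : ℕ) (hp : p.Prime) (s : ℕ) (hs : 0 < s)
    (m : B → ℕ) (hm : ∀ j, 0 < m j) (hmp : ∀ j, Nat.Coprime (m j) p)
    (σ : Fin s → B → ℚ) (hint : ∀ i j, ∃ h : ℤ, σ i j = (h : ℚ) / (m j : ℚ))
    (hsum : ∀ i, ∑ j, (σ i j - 1) = -2)
    (hfract : ∀ i j, Int.fract (σ i j) = Int.fract ((p : ℚ) ^ (i : ℕ) * σ ⟨0, hs⟩ j))
    (hne : ∀ i j, σ i j ≠ 1)
    (hB₀min : ∀ j ∈ B₀, (∃ i, ⌊σ i j⌋ = 0) ∧ ∀ i, 0 ≤ ⌊σ i j⌋)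
    (hBmin : ∀ j ∉ B₀, (∃ i, ⌊σ i j⌋ = 1) ∧ ∀ i, 1 ≤ ⌊σ i j⌋) :
    (∀ i, ∑ j, Int.fract (σ i j) = 1) ∧ (∀ i j, ⌊σ i j⌋ = if j ∈ B₀ then 0 else 1) := by
  classical
  have hc_le : ∀ i j, (if j ∈ B₀ then (0 : ℤ) else 1) ≤ ⌊σ i j⌋ := by
    intro i j
    by_cases hj : j ∈ B₀
    · rw [if_pos hj]
      exact (hB₀min j hj).2 i
    · rw [if_neg hj]
      exact (hBmin j hj).2 i
  have hsumc : ∑ j : B, (((if j ∈ B₀ then (0 : ℤ) else 1 : ℤ) : ℚ) - 1) = -3 := by
    have h1 : ∀ j : B, (((if j ∈ B₀ then (0 : ℤ) else 1 : ℤ) : ℚ) - 1) =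
        if j ∈ B₀ then (-1 : ℚ) else 0 := by
      intro j
      by_cases hj : j ∈ B₀ <;> simp [hj]
    simp_rw [h1]
    rw [Finset.sum_ite_mem, Finset.univ_inter, Finset.sum_const, hB₀]
    norm_num
  have hkey : ∀ i, ((∑ j : B, (⌊σ i j⌋ - (if j ∈ B₀ then (0 : ℤ) else 1)) : ℤ) : ℚ) +
      ∑ j : B, Int.fract (σ i j) = 1 := by
    intro i
    have h1 := hsum i
    have h2 : ∀ j : B, σ i j - 1 = ((⌊σ i j⌋ - (if j ∈ B₀ then (0 : ℤ) else 1) : ℤ) : ℚ) +
        ((((if j ∈ B₀ then (0 : ℤ) else 1 : ℤ) : ℚ) - 1) + Int.fract (σ i j)) := by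
      intro j
      have h3 := Int.floor_add_fract (σ i j)
      push_cast
      linarith
    simp_rw [h2] at h1
    rw [Finset.sum_add_distrib, Finset.sum_add_distrib, hsumc] at h1
    push_cast at h1 ⊢
    linarith
  have hEnn : ∀ i, 0 ≤ ∑ j : B, (⌊σ i j⌋ - (if j ∈ B₀ then (0 : ℤ) else 1)) := by
    intro i
    apply Finset.sum_nonneg
    intro j _
    have := hc_le i j
    omega
  have hFnn : ∀ i, 0 ≤ ∑ j : B, Int.fract (σ i j) := fun i =>
    Finset.sum_nonneg (fun j _ => Int.fract_nonneg _)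
  have hE0 : ∀ i, ∑ j : B, (⌊σ i j⌋ - (if j ∈ B₀ then (0 : ℤ) else 1)) = 0 := by
    intro i₀
    by_contra hne0
    have hE1 : ∑ j : B, (⌊σ i₀ j⌋ - (if j ∈ B₀ then (0 : ℤ) else 1)) = 1 := by
      have h1 := hkey i₀
      have h2 := hFnn i₀
      have h3 : ((∑ j : B, (⌊σ i₀ j⌋ - (if j ∈ B₀ then (0 : ℤ) else 1)) : ℤ) : ℚ) ≤ 1 := by
        linarith
      have h4 : ∑ j : B, (⌊σ i₀ j⌋ - (if j ∈ B₀ then (0 : ℤ) else 1)) ≤ 1 := by
        exact_mod_cast h3
      have h5 := hEnn i₀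
      omega
    have hF0 : ∑ j : B, Int.fract (σ i₀ j) = 0 := by
      have h1 := hkey i₀
      rw [hE1] at h1
      push_cast at h1
      linarith
    have hfr0 : ∀ j, Int.fract (σ i₀ j) = 0 := by
      intro j
      exact (Finset.sum_eq_zero_iff_of_nonneg (fun j _ => Int.fract_nonneg _)).mp hF0 j
        (Finset.mem_univ j)
    -- σ 0 j is an integer
    have hint0 : ∀ j, ∃ z : ℤ, σ ⟨0, hs⟩ j = z := by
      intro j
      obtain ⟨h, hh⟩ := hint ⟨0, hs⟩ j
      have h1 : Int.fract ((p : ℚ) ^ (i₀ : ℕ) * σ ⟨0, hs⟩ j) = 0 := by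
        rw [← hfract i₀ j]
        exact hfr0 j
      have h2 := Int.floor_add_fract ((p : ℚ) ^ (i₀ : ℕ) * σ ⟨0, hs⟩ j)
      rw [h1, add_zero, hh] at h2
      have hm0 : (m j : ℚ) ≠ 0 := by
        have := hm j
        positivity
      have h3 : ((⌊(p : ℚ) ^ (i₀ : ℕ) * ((h : ℚ) / (m j : ℚ))⌋ * (m j : ℤ) : ℤ) : ℚ) =
          (((p : ℤ) ^ (i₀ : ℕ) * h : ℤ) : ℚ) := by
        push_cast
        rw [h2]
        field_simp
      have h4 : ⌊(p : ℚ) ^ (i₀ : ℕ) * ((h : ℚ) / (m j : ℚ))⌋ * (m j : ℤ) =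
          (p : ℤ) ^ (i₀ : ℕ) * h := by exact_mod_cast h3
      have hcop : IsCoprime (m j : ℤ) ((p : ℤ) ^ (i₀ : ℕ)) := by
        have h5 : Nat.Coprime (m j) (p ^ (i₀ : ℕ)) := Nat.Coprime.pow_right _ (hmp j)
        have h6 := Nat.isCoprime_iff_coprime.mpr h5
        push_cast at h6
        exact h6
      have hdvd : (m j : ℤ) ∣ h := by
        apply hcop.dvd_of_dvd_mul_left
        exact ⟨⌊(p : ℚ) ^ (i₀ : ℕ) * ((h : ℚ) / (m j : ℚ))⌋, by rw [← h4]; ring⟩
      obtain ⟨z, rfl⟩ := hdvd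
      refine ⟨z, ?_⟩
      rw [hh]
      push_cast
      field_simp
    have hfr_all : ∀ i j, Int.fract (σ i j) = 0 := by
      intro i j
      obtain ⟨z, hz⟩ := hint0 j
      rw [hfract i j, hz]
      have h1 : (p : ℚ) ^ (i : ℕ) * (z : ℚ) = (((p : ℤ) ^ (i : ℕ) * z : ℤ) : ℚ) := by
        push_cast
        rfl
      rw [h1, Int.fract_intCast]
    have hσint : ∀ i j, σ i j = (⌊σ i j⌋ : ℚ) := by
      intro i j
      have h1 := Int.floor_add_fract (σ i j)
      rw [hfr_all i j, add_zero] at h1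
      exact h1.symm
    have hallB₀ : ∀ j, j ∈ B₀ := by
      intro j
      by_contra hj
      obtain ⟨i₁, hi₁⟩ := (hBmin j hj).1
      apply hne i₁ j
      rw [hσint i₁ j, hi₁]
      simp
    have hE1' : ∑ j : B, ⌊σ i₀ j⌋ = 1 := by
      have h1 : ∀ j : B, (⌊σ i₀ j⌋ - (if j ∈ B₀ then (0 : ℤ) else 1)) = ⌊σ i₀ j⌋ := by
        intro j
        rw [if_pos (hallB₀ j), sub_zero]
      simp_rw [h1] at hE1
      exact hE1
    have hnn : ∀ j, 0 ≤ ⌊σ i₀ j⌋ := fun j => (hB₀min j (hallB₀ j)).2 i₀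
    have hex1 : ∃ j, ⌊σ i₀ j⌋ = 1 := by
      by_contra hall
      push Not at hall
      by_cases hex : ∃ j, 2 ≤ ⌊σ i₀ j⌋
      · obtain ⟨j, hj⟩ := hex
        have h1 := Finset.single_le_sum (f := fun j => ⌊σ i₀ j⌋) (fun j _ => hnn j)
          (Finset.mem_univ j)
        omega
      · push Not at hex
        have h1 : ∑ j : B, ⌊σ i₀ j⌋ = 0 := by
          apply Finset.sum_eq_zero
          intro j _
          have := hnn j
          have := hall j
          have := hex j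
          omega
        omega
    obtain ⟨j₁, hj₁⟩ := hex1
    apply hne i₀ j₁
    rw [hσint i₀ j₁, hj₁]
    simp
  constructor
  · intro i
    have h1 := hkey i
    rw [hE0 i] at h1
    simpa using h1
  · intro i j
    have h1 := (Finset.sum_eq_zero_iff_of_nonneg (fun j _ => by
      have := hc_le i j
      omega)).mp (hE0 i) j (Finset.mem_univ j)
    omega

end Groth.Agent.S16983
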