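import Groth.Statements.S16984
-- import your own Groth.Agent.* helpers here

set_option autoImplicit false
universe u v w
open Hoch

namespace Groth.Agent.S16984

open TensorProduct

section

variable (k : Type u) [CommRing k] (A : Type v) [CommRing A] [Bialgebra k A]
  (P : Type w) [AddCommGroup P] [Module k P]

/-- `(id ⊗ ε) ⊗ id` followed by the right unitor: `(p ⊗ a) ⊗ b ↦ (ε a • p) ⊗ b`. -/
noncomputable def Φ : (P ⊗[k] A) ⊗[k] A →ₗ[k] P ⊗[k] A :=
  ((TensorProduct.rid k P).toLinearMap ∘ₗ (Coalgebra.counit (R := k) (A := A)).lTensor P).rTensor A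

theorem Φ_tmul (p : P) (a b : A) :
    Φ k A P ((p ⊗ₜ a) ⊗ₜ b) = (Coalgebra.counit (R := k) a • p) ⊗ₜ b := by
  simp [Φ]

theorem Φ_comp (p : P) :
    Φ k A P ∘ₗ (TensorProduct.assoc k P A A).symm.toLinearMap ∘ₗ TensorProduct.mk k P (A ⊗[k] A) p =
      TensorProduct.mk k P A p ∘ₗ (TensorProduct.lid k A).toLinearMap ∘ₗ
        (Coalgebra.counit (R := k) (A := A)).rTensor A := by
  ext a b
  simp [Φ_tmul, TensorProduct.smul_tmul]

theorem Φ_coactAux (x : P ⊗[k] A) : Φ k A P (Ind.coactAux k A P x) = x := by
  induction x using TensorProduct.induction_on with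
  | zero => simp
  | tmul p a =>
    have h := LinearMap.congr_fun (Φ_comp k A P p) (Coalgebra.comul (R := k) a)
    simp only [LinearMap.comp_apply, LinearEquiv.coe_coe, TensorProduct.mk_apply,
      Coalgebra.rTensor_counit_comul, TensorProduct.lid_tmul, one_smul] at h
    rw [Ind.coactAux_tmul]
    exact h
  | add x y hx hy => rw [map_add, map_add, hx, hy]

end

/-- Let k be a commutative ring, A a commutative k-bialgebra that is flat over k (the coordinate ring of
a flat affine group scheme over Spec k; flatness and commutativity are the standing hypotheses of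
the appendix and are not needed for the assertion) and P a k-module. Then p ↦ p ⊗ 1 is an injection
of P into the induced comodule P ⊗ A (coaction id ⊗ Δ) whose image is exactly the submodule of
invariants, i.e. the elements with coaction x ↦ x ⊗ 1. (The published statement writes the
coordinate-ring factor on the left and calls this module coinduced; this row is its degree-zero
part, the identification of P with the invariants of the coinduced module.) -/
theorem result (k : Type u) [CommRing k] (A : Type v) [CommRing A] [Bialgebra k A]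
    [Module.Flat k A] (P : Type w) [AddCommGroup P] [Module k P] :
    Function.Injective ((Hoch.Ind.equiv k A P).toLinearMap ∘ₗ (TensorProduct.mk k P A).flip (1 : A)) ∧
    LinearMap.range ((Hoch.Ind.equiv k A P).toLinearMap ∘ₗ (TensorProduct.mk k P A).flip (1 : A)) =
      HopfRep.fixedPts k A (Hoch.Ind k A P) := by
  constructor
  · intro p q hpq
    have h := congrArg (Ind.counit k A P) hpq
    simpa using h
  · apply le_antisymm
    · rintro _ ⟨p, rfl⟩
      show HopfRep.Comod.coact (k := k) (A := A) (V := Ind k A P) (Ind.equiv k A P (p ⊗ₜ (1 : A))) =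
        (Ind.equiv k A P (p ⊗ₜ (1 : A))) ⊗ₜ[k] (1 : A)
      rw [Ind.coact_equiv_tmul, Bialgebra.comul_one]
      rfl
    · intro x hx
      have hx' : Ind.coactAux k A P x = x ⊗ₜ[k] (1 : A) := hx
      have h1 := Φ_coactAux k A P x
      rw [hx'] at h1
      have h2 : Φ k A P (x ⊗ₜ[k] (1 : A)) =
          ((TensorProduct.rid k P) ((Coalgebra.counit (R := k) (A := A)).lTensor P x)) ⊗ₜ[k] (1 : A) := by
        rfl
      exact ⟨(TensorProduct.rid k P) ((Coalgebra.counit (R := k) (A := A)).lTensor P x),
        h2.symm.trans h1⟩

end Groth.Agent.S16984
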