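import Groth.Statements.S16985
-- import your own Groth.Agent.* helpers here

set_option autoImplicit false
universe u v
open Hoch

namespace Groth.Agent.S16985

open TensorProduct

section

variable (k : Type u) [CommRing k] (A : Type v) [CommRing A] [Bialgebra k A]

/-- Naturality of `tail`. -/
theorem tail_natural {M M' : Type v} [AddCommGroup M] [Module k M] [AddCommGroup M'] [Module k M']
    (f : M →ₗ[k] M') :
    tail k A M' ∘ₗ f.rTensor A = (f.rTensor A).rTensor A ∘ₗ tail k A M := by
  ext m a
  simp only [LinearMap.comp_apply, TensorProduct.AlgebraTensorModule.curry_apply,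
    TensorProduct.curry_apply, LinearMap.coe_restrictScalars, LinearMap.rTensor_tmul, tail_tmul]
  -- both sides are linear in `t = Δ a - a ⊗ 1 - 1 ⊗ a`
  have h : (f.rTensor A).rTensor A ∘ₗ (TensorProduct.assoc k M A A).symm.toLinearMap ∘ₗ
      TensorProduct.mk k M (A ⊗[k] A) m =
      (TensorProduct.assoc k M' A A).symm.toLinearMap ∘ₗ TensorProduct.mk k M' (A ⊗[k] A) (f m) := by
    ext a' a''
    simp
  exact (LinearMap.congr_fun h _).symm

variable (P : Type v) [AddCommGroup P] [Module k P]

/-- `id ⊗ ε : P ⊗ A → P`. -/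
noncomputable def ebar : P ⊗[k] A →ₗ[k] P :=
  (TensorProduct.rid k P).toLinearMap ∘ₗ (Coalgebra.counit (R := k) (A := A)).lTensor P

/-- The contraction in degree 0: `(p ⊗ a) ⊗ b ↦ (ε a • p) ⊗ b`. -/
noncomputable def Φ : (P ⊗[k] A) ⊗[k] A →ₗ[k] P ⊗[k] A := (ebar k A P).rTensor A

theorem Φ_comp (p : P) :
    Φ k A P ∘ₗ (TensorProduct.assoc k P A A).symm.toLinearMap ∘ₗ TensorProduct.mk k P (A ⊗[k] A) p =
      TensorProduct.mk k P A p ∘ₗ (TensorProduct.lid k A).toLinearMap ∘ₗ
        (Coalgebra.counit (R := k) (A := A)).rTensor A := by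
  ext a b
  simp [Φ, ebar, TensorProduct.smul_tmul]

theorem Φ_coactAux (x : P ⊗[k] A) : Φ k A P (Ind.coactAux k A P x) = x := by
  induction x using TensorProduct.induction_on with
  | zero => simp
  | tmul p a =>
    have h := LinearMap.congr_fun (Φ_comp k A P p) (Coalgebra.comul (R := k) a)
    simp only [LinearMap.comp_apply, LinearEquiv.coe_coe, TensorProduct.mk_apply,
      Coalgebra.rTensor_counit_comul, TensorProduct.lid_tmul, one_smul] at h
    rw [Ind.coactAux_tmul]
    exact h
  | add x y hx hy => rw [map_add, map_add, hx, hy]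

/-- Key lemma: `(Φ ⊗ id) (x ⊗ t) = ē x ⊗ t` after reassociation. -/
theorem Φ_rTensor_assoc (x : P ⊗[k] A) :
    (Φ k A P).rTensor A ∘ₗ (TensorProduct.assoc k (P ⊗[k] A) A A).symm.toLinearMap ∘ₗ
      TensorProduct.mk k (P ⊗[k] A) (A ⊗[k] A) x =
    (TensorProduct.assoc k P A A).symm.toLinearMap ∘ₗ
      TensorProduct.mk k P (A ⊗[k] A) (ebar k A P x) := by
  ext a' a''
  simp [Φ]

/-- The base case of the contraction identity, on plain tensor products. -/
theorem base :
    (Φ k A P).rTensor A ∘ₗ
        ((Ind.coactAux k A P - (TensorProduct.mk k (P ⊗[k] A) A).flip 1).rTensor A +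
          ((-1 : k) ^ (0 + 1)) • tail k A (P ⊗[k] A)) +
      (Ind.coactAux k A P - (TensorProduct.mk k (P ⊗[k] A) A).flip 1) ∘ₗ Φ k A P = LinearMap.id := by
  refine TensorProduct.ext' fun x a => ?_
  have h1 : Φ k A P (Ind.coactAux k A P x) = x := Φ_coactAux k A P x
  have h2 := LinearMap.congr_fun (Φ_rTensor_assoc k A P x) (Coalgebra.comul (R := k) a)
  simp only [LinearMap.comp_apply, LinearEquiv.coe_coe, TensorProduct.mk_apply] at h2
  have h3 : Φ k A P (x ⊗ₜ[k] a) = ebar k A P x ⊗ₜ[k] a := rfl
  have h4 : Φ k A P (x ⊗ₜ[k] (1 : A)) = ebar k A P x ⊗ₜ[k] (1 : A) := rfl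
  simp only [LinearMap.add_apply, LinearMap.comp_apply, LinearMap.rTensor_tmul, LinearMap.sub_apply,
    LinearMap.smul_apply, LinearMap.flip_apply, TensorProduct.mk_apply, tail_tmul, map_add, map_sub,
    map_smul, h1, h3, h4, Ind.coactAux_tmul, LinearMap.id_apply, TensorProduct.sub_tmul,
    TensorProduct.tmul_sub, TensorProduct.assoc_symm_tmul, zero_add, pow_one]
  rw [h2]
  module

/-- The contracting homotopy. -/
noncomputable def contr : (n : ℕ) →
    ((cochain k A (Ind k A P) (n + 1) : Type v) →ₗ[k] (cochain k A (Ind k A P) n : Type v))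
  | 0 => Φ k A P
  | n + 1 => (contr n).rTensor A

theorem contr_succ (n : ℕ) : contr k A P (n + 1) = (contr k A P n).rTensor A := rfl

/-- The algebraic induction step. -/
theorem step {X : Type v} [AddCommGroup X] [Module k X] (D0 : X →ₗ[k] X ⊗[k] A)
    (S0 : X ⊗[k] A →ₗ[k] X) (c : k) (D1 : X ⊗[k] A →ₗ[k] (X ⊗[k] A) ⊗[k] A)
    (hD1 : D1 = D0.rTensor A + c • tail k A X)
    (ih : S0.rTensor A ∘ₗ D1 + D0 ∘ₗ S0 = LinearMap.id) :
    (S0.rTensor A).rTensor A ∘ₗ (D1.rTensor A + (c * (-1)) • tail k A (X ⊗[k] A)) +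
      D1 ∘ₗ S0.rTensor A = LinearMap.id := by
  have h1 : (S0.rTensor A).rTensor A ∘ₗ D1.rTensor A = (S0.rTensor A ∘ₗ D1).rTensor A :=
    (LinearMap.rTensor_comp A (S0.rTensor A) D1).symm
  have h2 : D1 ∘ₗ S0.rTensor A =
      (D0 ∘ₗ S0).rTensor A + c • ((S0.rTensor A).rTensor A ∘ₗ tail k A (X ⊗[k] A)) := by
    rw [hD1, LinearMap.add_comp, LinearMap.smul_comp, tail_natural k A S0,
      LinearMap.rTensor_comp]
  have h3 : (S0.rTensor A ∘ₗ D1).rTensor A + (D0 ∘ₗ S0).rTensor A = LinearMap.id := by
    rw [← LinearMap.rTensor_add, ih, LinearMap.rTensor_id]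
  rw [LinearMap.comp_add, LinearMap.comp_smul, h1, h2, ← h3]
  module

/-- The contraction identity `s d + d s = id` in positive degrees. -/
theorem contr_identity (n : ℕ) :
    contr k A P (n + 1) ∘ₗ d k A (Ind k A P) (n + 1) + d k A (Ind k A P) n ∘ₗ contr k A P n =
      LinearMap.id := by
  induction n with
  | zero => exact base k A P
  | succ n ih =>
    have := step k A (X := (cochain k A (Ind k A P) n : Type v)) (d k A (Ind k A P) n)
      (contr k A P n) ((-1 : k) ^ (n + 1)) (d k A (Ind k A P) (n + 1)) (d_succ k A (Ind k A P) n) ih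
    rw [← pow_succ] at this
    exact this

end

/-- Let k be a commutative ring, A a commutative k-bialgebra flat over k (the coordinate ring of a flat
affine group scheme over Spec k; flatness and commutativity are the standing hypotheses of the
appendix and are not needed for the assertion) and P a k-module. Then the cochain complex of the
induced comodule P ⊗ A (coaction id ⊗ Δ), with n-cochains (P ⊗ A) ⊗ A ⊗ ⋯ ⊗ A, has every
(n+1)-cocycle an (n+1)-coboundary, for all n. (The published statement is the vanishing of the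
higher derived functors of invariants on coinduced modules; this row states the vanishing in
positive degrees of the cohomology of the cochain complex above, which the same appendix identifies
with those derived functors. P is taken in the universe of A, as the cochain modules require.) -/
theorem result (k : Type u) [CommRing k] (A : Type v) [CommRing A]
    [Bialgebra k A] [Module.Flat k A] (P : Type v) [AddCommGroup P] [Module k P] (n : ℕ) :
    Hoch.cocycles k A (Hoch.Ind k A P) (n + 1) ≤ Hoch.coboundaries k A (Hoch.Ind k A P) (n + 1) := by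
  intro z hz
  have hz' : d k A (Ind k A P) (n + 1) z = 0 := hz
  have h := LinearMap.congr_fun (contr_identity k A P n) z
  simp only [LinearMap.add_apply, LinearMap.comp_apply, hz', map_zero, zero_add,
    LinearMap.id_apply] at h
  exact ⟨contr k A P n z, h⟩

end Groth.Agent.S16985
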