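import Groth.Statements.S16991
import Groth.Agent.Lib.Helper14.SympBasis

set_option autoImplicit false
universe u v
open QuadGrp

namespace Groth.Agent.S16991

/-- Over a commutative ring in which 2 = 0, for a quadratic form Q on a finite free module of even rank
2m ≥ 2 whose polar form is a perfect pairing, every isometry of Q has determinant one. (The
published statement is the equality of the naive special orthogonal group with the orthogonal group
on fibres in characteristic 2; its proof gives this equality over every base of characteristic 2,
which is the form stated.) -/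
theorem result {R : Type u} [CommRing R] [CharP R 2]
    {M : Type v} [AddCommGroup M] [Module R M] [Module.Free R M] [Module.Finite R M]
    (m : ℕ) (hm : 1 ≤ m) (hM : Module.finrank R M = 2 * m) (Q : QuadraticForm R M) (hQ : QuadGrp.IsRegular Q) :
    QuadGrp.O Q = QuadGrp.SO' Q := by
  classical
  refine le_antisymm ?_ inf_le_left
  intro g hg
  refine ⟨hg, ?_⟩
  change g ∈ (LinearEquiv.det (R := R) (M := M)).ker
  rw [MonoidHom.mem_ker]
  apply Units.ext
  rw [LinearEquiv.coe_det, Units.val_one]
  have h2 : (2 : R) = 0 := CharTwo.two_eq_zero
  let b := Module.Free.chooseBasis R M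
  let L := QuadGrp.bilinLift Q
  have hL : ∀ x, L x x = Q x := fun x => by
    have := QuadGrp.bilinLift_spec Q
    exact congrArg (fun q : QuadraticMap R M R => q x) this
  set B := QuadraticMap.polarBilin Q with hBdef
  have hB : ∀ x y, B x y = L x y - L y x := by
    intro x y
    rw [hBdef, QuadraticMap.polarBilin_apply_apply, QuadraticMap.polar, ← hL, ← hL, ← hL]
    simp only [map_add, LinearMap.add_apply]
    have : L y x + L y x = 0 := by rw [← two_mul, h2, zero_mul]
    linear_combination this
  set A := LinearMap.toMatrix₂ b b L with hA
  set G := LinearMap.toMatrix b b (g : M →ₗ[R] M) with hG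
  have hP : LinearMap.toMatrix₂ b b B = A - A.transpose := by
    ext i j
    simp [hA, hB, LinearMap.toMatrix₂_apply]
  have hdet : IsUnit (A - A.transpose).det := by
    rw [← hP]
    have hbij : Function.Bijective B := hQ
    let β : M ≃ₗ[R] Module.Dual R M := LinearEquiv.ofBijective B hbij
    have := LinearEquiv.isUnit_det β b b.dualBasis
    have hT : LinearMap.toMatrix b b.dualBasis (β : M →ₗ[R] Module.Dual R M)
        = (LinearMap.toMatrix₂ b b B).transpose := by
      ext i j
      simp [LinearMap.toMatrix_apply, LinearMap.toMatrix₂_apply, β]
    rw [hT, Matrix.det_transpose] at this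
    exact this
  have hcomp : B.compl₁₂ (g : M →ₗ[R] M) (g : M →ₗ[R] M) = B := by
    ext x y
    simp only [LinearMap.compl₁₂_apply, LinearEquiv.coe_coe, hBdef,
      QuadraticMap.polarBilin_apply_apply, QuadraticMap.polar]
    rw [← map_add, hg, hg, hg]
  have hGP := LinearMap.toMatrix₂_compl₁₂ b b b b B (g : M →ₗ[R] M) (g : M →ₗ[R] M)
  rw [hcomp, hP] at hGP
  have := Groth.Agent.Lib.Helper14.SympBasis.det_eq_one_of_alt A G hdet hGP.symm
  rw [hG, LinearMap.det_toMatrix] at this
  exact this

end Groth.Agent.S16991
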