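import Groth.Statements.S1700
import Mathlib
import Groth.Agent.S1570
import Groth.Agent.Lib.Helper91.AssStalk
import Groth.Agent.Lib.Helper91.SubschemeStalk
import Groth.Agent.Lib.Helper91.GenPrime5

set_option autoImplicit false
universe u
open CategoryTheory CategoryTheory.Limits AlgebraicGeometry TopologicalSpace
open SDiv

namespace Groth.Agent.S1700

/-- Let X be a Noetherian scheme and 𝓘 a quasi-coherent ideal sheaf with closed subscheme Z such that
(1) Z has no embedded points: every point of Z whose local ring has its maximal ideal associated is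
a maximal point of Z; (2) every maximal point of Z has codimension 1 in X (the local ring of X there
has dimension 1); (3) the local ring of X at every point of Z is a unique factorisation domain. Then
𝓘 is the ideal sheaf of an effective Cartier divisor. -/
theorem result (X : Scheme.{u}) [IsNoetherian X] (𝓘 : X.IdealSheafData)
    (h1 : ∀ z : ↥𝓘.subscheme, IsAssociatedPrime (IsLocalRing.maximalIdeal ↑(𝓘.subscheme.presheaf.stalk z)) ↑(𝓘.subscheme.presheaf.stalk z) → ∀ z' : ↥𝓘.subscheme, z' ⤳ z → z' = z)
    (h2 : ∀ z : ↥𝓘.subscheme, (∀ z' : ↥𝓘.subscheme, z' ⤳ z → z' = z) →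
      ringKrullDim (X.presheaf.stalk (𝓘.subschemeι z)) = 1)
    (h3 : ∀ x : ↥X, x ∈ 𝓘.support → IsDomain (X.presheaf.stalk x) ∧ UniqueFactorizationMonoid (X.presheaf.stalk x)) :
    BlowUp.IsEffCartierIdeal 𝓘 := by
  apply Groth.Agent.S1570.result
  intro x hx U hxU
  obtain ⟨hdom, hufd⟩ := h3 x hx
  letI ax : Algebra Γ(X, U.1) (X.presheaf.stalk x) :=
    TopCat.Presheaf.algebra_section_stalk X.presheaf ⟨x, hxU⟩
  have hass : ∀ P ∈ associatedPrimes (X.presheaf.stalk x)
      (X.presheaf.stalk x ⧸ (𝓘.ideal U).map (algebraMap Γ(X, U.1) (X.presheaf.stalk x))),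
      P.height = 1 := by
    intro P hP
    haveI hPprime : P.IsPrime := hP.1
    obtain ⟨η, h, hη⟩ := Groth.Agent.Lib.Helper91.GenPrime.exists_specializes_primeOf_eq x P
    subst hη
    letI alg := (X.presheaf.stalkSpecializes h).hom.toAlgebra
    haveI := Groth.Agent.Lib.Helper91.GenPrime.isLocalization_stalkSpecializes h
    have hηU : η ∈ U.1 := h.mem_open U.1.isOpen hxU
    have hJη : ((𝓘.ideal U).map (algebraMap Γ(X, U.1) (X.presheaf.stalk x))).map
        (algebraMap (X.presheaf.stalk x) (X.presheaf.stalk η)) =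
        (𝓘.ideal U).map (X.presheaf.germ U.1 η hηU).hom := by
      rw [Ideal.map_map]
      congr 1
      change (X.presheaf.germ U.1 x hxU ≫ X.presheaf.stalkSpecializes h).hom = _
      rw [X.presheaf.germ_stalkSpecializes]
    have hJP : (𝓘.ideal U).map (algebraMap Γ(X, U.1) (X.presheaf.stalk x)) ≤
        Groth.Agent.Lib.Helper91.GenPrime.primeOf h := by
      obtain ⟨-, r, hr⟩ := Groth.Agent.Lib.Helper91.AssStalk.exists_of_mem_associatedPrimes _ hP
      intro a ha
      exact (hr a).mpr (Ideal.mul_mem_right r _ ha)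
    have hle : ((𝓘.ideal U).map (algebraMap Γ(X, U.1) (X.presheaf.stalk x))).map
        (algebraMap (X.presheaf.stalk x) (X.presheaf.stalk η)) ≤
        IsLocalRing.maximalIdeal (X.presheaf.stalk η) := by
      rw [← IsLocalization.AtPrime.map_eq_maximalIdeal
        (Groth.Agent.Lib.Helper91.GenPrime.primeOf h)]
      exact Ideal.map_mono hJP
    have hne : ((𝓘.ideal U).map (algebraMap Γ(X, U.1) (X.presheaf.stalk x))).map
        (algebraMap (X.presheaf.stalk x) (X.presheaf.stalk η)) ≠ ⊤ := by
      intro htop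
      rw [htop] at hle
      exact (IsLocalRing.maximalIdeal.isMaximal _).ne_top (top_le_iff.mp hle)
    haveI : Nontrivial (X.presheaf.stalk η ⧸
        ((𝓘.ideal U).map (algebraMap Γ(X, U.1) (X.presheaf.stalk x))).map
          (algebraMap (X.presheaf.stalk x) (X.presheaf.stalk η))) :=
      Ideal.Quotient.nontrivial_iff.mpr hne
    haveI : IsLocalRing (X.presheaf.stalk η ⧸
        ((𝓘.ideal U).map (algebraMap Γ(X, U.1) (X.presheaf.stalk x))).map
          (algebraMap (X.presheaf.stalk x) (X.presheaf.stalk η))) :=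
      IsLocalRing.of_surjective' (Ideal.Quotient.mk _) Ideal.Quotient.mk_surjective
    have hQ := Groth.Agent.Lib.Helper91.AssStalk.isAssociatedPrime_maximalIdeal_quotient
      (Groth.Agent.Lib.Helper91.GenPrime.primeOf h) (X.presheaf.stalk η) _ hP
    -- `η` lies in the support
    have hηs : η ∈ 𝓘.support := by
      rw [Groth.Agent.Lib.Helper70.mem_support_iff_le_primeIdealOf 𝓘 U η hηU]
      intro a ha
      letI az : Algebra Γ(X, U.1) (X.presheaf.stalk η) :=
        TopCat.Presheaf.algebra_section_stalk X.presheaf ⟨η, hηU⟩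
      haveI lz : IsLocalization.AtPrime (X.presheaf.stalk η) (U.2.primeIdealOf ⟨η, hηU⟩).asIdeal :=
        U.2.isLocalization_stalk ⟨η, hηU⟩
      have h1 : (X.presheaf.germ U.1 η hηU).hom a ∈
          IsLocalRing.maximalIdeal (X.presheaf.stalk η) := by
        apply hle
        rw [hJη]
        exact Ideal.mem_map_of_mem _ ha
      have h2 := IsLocalization.AtPrime.comap_maximalIdeal (X.presheaf.stalk η)
        (U.2.primeIdealOf ⟨η, hηU⟩).asIdeal
      rw [← h2]
      exact h1
    obtain ⟨η', rfl⟩ : ∃ η', 𝓘.subschemeι η' = η := by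
      rw [← SetLike.mem_coe, ← 𝓘.range_subschemeι] at hηs
      exact hηs
    let e := (Ideal.quotEquivOfEq hJη).trans
      (Groth.Agent.Lib.Helper91.SubschemeStalk.stalkEquiv 𝓘 U η' hηU)
    have hass' := Groth.Agent.Lib.Helper91.AssStalk.isAssociatedPrime_maximalIdeal_of_ringEquiv e hQ
    have hdim := h2 η' (h1 η' hass')
    rw [Groth.Agent.Lib.Helper91.GenPrime.ringKrullDim_stalk_eq_height h] at hdim
    exact_mod_cast hdim
  obtain ⟨t, ht0, ht⟩ := Groth.Agent.Lib.Helper91.AssStalk.exists_span_eq_of_ass_height_one _ hass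
  exact ⟨t, mem_nonZeroDivisors_of_ne_zero ht0, ht⟩

end Groth.Agent.S1700
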