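import Groth.Statements.S17004
import Groth.Agent.Lib.Helper14.QuadCenter
import Groth.Agent.Lib.Helper14.HalfDisc

set_option autoImplicit false
universe u
open scoped TensorProduct
open QuadGrp

namespace Groth.Agent.S17004

section Helpers
open Groth.Agent.Lib.Helper14 Groth.Agent.Lib.Helper14.QuadCenter

variable {R : Type u} [CommRing R] {n : ℕ}

/-- Non-degeneracy implies that the entries of the polar matrix have zero annihilator. -/
theorem hann_of_isNondeg (hn : 2 ≤ n) (Q : QuadraticForm R (Fin n → R))
    (hQ : QuadGrp.IsNondeg (Pi.basisFun R (Fin n)) (LinearEquiv.refl R R) Q) :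
    ∀ a : R, (∀ l i : Fin n, a * QuadraticMap.polar Q (e l) (e i) = 0) → a = 0 := by
  intro a ha
  rcases Nat.even_or_odd n with hev | hodd
  · have hreg := hQ.1 hev
    let l₀ : Fin n := ⟨0, by omega⟩
    have h0 : QuadraticMap.polarBilin Q (a • (e l₀ : Fin n → R)) = 0 := by
      apply (Pi.basisFun R (Fin n)).ext
      intro i
      simp only [map_smul, LinearMap.smul_apply, QuadraticMap.polarBilin_apply_apply,
        LinearMap.zero_apply, smul_eq_mul]
      exact ha l₀ i
    have h1 : a • (e l₀ : Fin n → R) = 0 := hreg.1 (by rw [h0, map_zero])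
    have := congrFun h1 l₀
    simpa [e] using this
  · have hsr : IsUnit (QuadGrp.halfDisc (Pi.basisFun R (Fin n)) (LinearEquiv.refl R R) Q) :=
      hQ.2 hodd
    have h0 : a * QuadGrp.halfDisc (Pi.basisFun R (Fin n)) (LinearEquiv.refl R R) Q = 0 := by
      unfold QuadGrp.halfDisc
      apply HalfDisc.mul_eval₂_halfDiscUniv_eq_zero hn
      · intro i j hij
        rw [QuadGrp.coeffs_mk, if_neg hij]
        exact ha i j
      · intro i
        rw [QuadGrp.coeffs_mk, if_pos rfl]
        have := ha i i
        rw [QuadraticMap.polar_self, two_smul] at this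
        simp only [LinearEquiv.refl_apply]
        rw [two_mul]
        exact this
    exact (hsr.mul_left_eq_zero).1 h0

end Helpers

/-- Let Q be a non-degenerate quadratic form on R^n, n ≥ 3, over a commutative ring R (perfect polar
pairing for even n, unit half-discriminant in the standard basis for odd n). An isometry g of Q
commutes, after base change to every R-algebra A, with every isometry of Q_A if and only if g is
multiplication by a scalar whose square is one. (Points-level form of: the functorial centre of the
orthogonal group is the central μ₂; the algebras range over the universe of R, which contains the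
coordinate ring of the orthogonal group.) -/
theorem result (R : Type u) [CommRing R] (n : ℕ) (hn : 3 ≤ n)
    (Q : QuadraticForm R (Fin n → R))
    (hQ : QuadGrp.IsNondeg (Pi.basisFun R (Fin n)) (LinearEquiv.refl R R) Q)
    (g : (Fin n → R) ≃ₗ[R] (Fin n → R)) (hg : g ∈ QuadGrp.O Q) :
    (∀ (A : Type u) [CommRing A] [Algebra R A], ∀ h ∈ QuadGrp.orth Q A,
        g.baseChange R A (Fin n → R) (Fin n → R) * h = h * g.baseChange R A (Fin n → R) (Fin n → R)) ↔
      ∃ c : R, c * c = 1 ∧ ∀ v, g v = c • v := by
  have hann := hann_of_isNondeg (by omega) Q hQ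
  constructor
  · intro hcomm
    obtain ⟨c, hc⟩ := Groth.Agent.Lib.Helper14.QuadCenter.exists_scalar Q hann (by omega) g hcomm
    refine ⟨c, ?_, hc⟩
    have hpol : ∀ x y, QuadraticMap.polar Q (g x) (g y) = QuadraticMap.polar Q x y := by
      intro x y
      simp only [QuadraticMap.polar, ← map_add]
      rw [hg (x + y), hg x, hg y]
    have : c * c - 1 = 0 := by
      apply hann
      intro l i
      have h1 := hpol (Groth.Agent.Lib.Helper14.QuadCenter.e l) (Groth.Agent.Lib.Helper14.QuadCenter.e i)
      rw [hc, hc, QuadraticMap.polar_smul_left, QuadraticMap.polar_smul_right, smul_eq_mul,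
        smul_eq_mul] at h1
      linear_combination h1
    linear_combination this
  · rintro ⟨c, -, hc⟩ A _ _ h _
    have hgA : ∀ y, g.baseChange R A (Fin n → R) (Fin n → R) y = c • y := by
      intro y
      induction y using TensorProduct.induction_on with
      | zero => simp
      | tmul a m => rw [LinearEquiv.baseChange_tmul, hc, TensorProduct.tmul_smul]
      | add x y hx hy => rw [map_add, hx, hy, smul_add]
    ext x
    rw [LinearEquiv.mul_apply, LinearEquiv.mul_apply, hgA, hgA, ← algebraMap_smul A c x,
      map_smul, algebraMap_smul]

end Groth.Agent.S17004
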