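import Groth.Statements.S17005
import Groth.Agent.Lib.Helper14.QuadCenter
import Groth.Agent.Lib.Helper14.QuadInf
import Groth.Agent.S17004

set_option autoImplicit false
universe u
open scoped TensorProduct
open QuadGrp

namespace Groth.Agent.S17005

section Helpers
open Groth.Agent.Lib.Helper14 Groth.Agent.Lib.Helper14.QuadBC TensorProduct

variable {R : Type u} [CommRing R] {n : ℕ}

theorem mem_sorth'_iff (Q : QuadraticForm R (Fin n → R)) (A : Type u) [CommRing A] [Algebra R A]
    (h : (A ⊗[R] (Fin n → R)) ≃ₗ[A] (A ⊗[R] (Fin n → R))) :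
    h ∈ QuadGrp.sorth' Q A ↔ h ∈ QuadGrp.orth Q A ∧ LinearEquiv.det h = 1 := by
  rw [QuadGrp.sorth', QuadGrp.SO', Subgroup.mem_inf, MonoidHom.mem_ker]
  rfl

/-- In odd rank, commuting with all isometries of determinant one implies commuting with all
reflections (use minus the reflection). -/
theorem refl_comm_of_sorth' (hodd : Odd n) (Q : QuadraticForm R (Fin n → R))
    (g : (Fin n → R) ≃ₗ[R] (Fin n → R))
    (hcomm : ∀ (A : Type u) [CommRing A] [Algebra R A], ∀ h ∈ QuadGrp.sorth' Q A,
        g.baseChange R A (Fin n → R) (Fin n → R) * h = h * g.baseChange R A (Fin n → R) (Fin n → R))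
    (A : Type u) [CommRing A] [Algebra R A] (x : A ⊗[R] (Fin n → R))
    (f : Module.Dual A (A ⊗[R] (Fin n → R))) (hfx : f x = 2)
    (hmem : Module.reflection hfx ∈ QuadGrp.orth Q A) :
    g.baseChange R A (Fin n → R) (Fin n → R) * Module.reflection hfx =
      Module.reflection hfx * g.baseChange R A (Fin n → R) (Fin n → R) := by
  rcases subsingleton_or_nontrivial A with hA | hA
  · have : Subsingleton (A ⊗[R] (Fin n → R)) := Module.subsingleton A _
    exact LinearEquiv.ext fun y => Subsingleton.elim _ _
  · let τ := Module.reflection hfx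
    obtain ⟨h, hh⟩ : ∃ h : (A ⊗[R] (Fin n → R)) ≃ₗ[A] (A ⊗[R] (Fin n → R)), ∀ y, h y = - τ y :=
      ⟨LinearEquiv.neg A * τ, fun y => rfl⟩
    have hmemh : h ∈ QuadGrp.sorth' Q A := by
      rw [mem_sorth'_iff]
      constructor
      · rw [mem_orth_iff] at hmem ⊢
        intro y
        rw [hh, QuadraticMap.map_neg]
        exact hmem y
      · rw [← Units.val_inj, LinearEquiv.coe_det, Units.val_one]
        have h1 : (h : (A ⊗[R] (Fin n → R)) →ₗ[A] (A ⊗[R] (Fin n → R))) =
            (-1 : A) • LinearMap.transvection (-f) x := by
          refine LinearMap.ext fun y => ?_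
          rw [LinearEquiv.coe_coe, hh, LinearMap.smul_apply, LinearMap.transvection.apply,
            Module.reflection_apply, LinearMap.neg_apply, neg_smul, neg_smul, one_smul,
            sub_eq_add_neg]
        have hfr : Module.finrank A (A ⊗[R] (Fin n → R)) = n := by
          rw [Module.finrank_eq_card_basis (Algebra.TensorProduct.basis A (Pi.basisFun R (Fin n))),
            Fintype.card_fin]
        rw [h1, LinearMap.det_smul, LinearMap.transvection.det, hfr, hodd.neg_one_pow,
          LinearMap.neg_apply, hfx]
        ring
    have h2 := hcomm A h hmemh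
    ext y
    have h3 := LinearEquiv.congr_fun h2 y
    rw [LinearEquiv.mul_apply, LinearEquiv.mul_apply, hh, hh, map_neg, neg_inj] at h3
    rw [LinearEquiv.mul_apply, LinearEquiv.mul_apply]
    exact h3

end Helpers

/-- Let Q be a non-degenerate quadratic form on R^n, n ≥ 3, over a commutative ring R (perfect polar
pairing for even n, unit half-discriminant in the standard basis for odd n). An isometry g of Q of
determinant one commutes, after base change to every R-algebra A, with every determinant-one
isometry of Q_A if and only if g is multiplication by a scalar whose square is one; for odd n such a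
scalar is 1 because the determinant of g is its n-th power. (Points-level form of: the functorial
centre of the naive special orthogonal group is the central μ₂ for even rank and trivial for odd
rank.) -/
theorem result (R : Type u) [CommRing R] (n : ℕ) (hn : 3 ≤ n)
    (Q : QuadraticForm R (Fin n → R))
    (hQ : QuadGrp.IsNondeg (Pi.basisFun R (Fin n)) (LinearEquiv.refl R R) Q)
    (g : (Fin n → R) ≃ₗ[R] (Fin n → R)) (hg : g ∈ QuadGrp.SO' Q) :
    (∀ (A : Type u) [CommRing A] [Algebra R A], ∀ h ∈ QuadGrp.sorth' Q A,
        g.baseChange R A (Fin n → R) (Fin n → R) * h = h * g.baseChange R A (Fin n → R) (Fin n → R)) ↔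
      ∃ c : R, c * c = 1 ∧ ∀ v, g v = c • v := by
  have hann := Groth.Agent.S17004.hann_of_isNondeg (by omega) Q hQ
  have hgO : g ∈ QuadGrp.O Q := hg.1
  constructor
  · intro hcomm
    have hsc : ∃ c : R, ∀ v, g v = c • v := by
      rcases Nat.even_or_odd n with hev | hodd
      · apply Groth.Agent.Lib.Helper14.QuadInf.exists_scalar_of_spade Q hn (hQ.1 hev) g
        intro u v x
        apply Groth.Agent.Lib.Helper14.QuadInf.spade Q g u v x
        apply hcomm
        rw [mem_sorth'_iff]
        exact ⟨Groth.Agent.Lib.Helper14.QuadInf.infEquiv_mem_orth _ Q u v _,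
          Groth.Agent.Lib.Helper14.QuadInf.det_infEquiv _ Q u v _⟩
      · exact Groth.Agent.Lib.Helper14.QuadCenter.exists_scalar_refl Q hann (by omega) g
          (refl_comm_of_sorth' hodd Q g hcomm)
    obtain ⟨c, hc⟩ := hsc
    refine ⟨c, ?_, hc⟩
    have hpol : ∀ x y, QuadraticMap.polar Q (g x) (g y) = QuadraticMap.polar Q x y := by
      intro x y
      simp only [QuadraticMap.polar, ← map_add]
      rw [hgO (x + y), hgO x, hgO y]
    have : c * c - 1 = 0 := by
      apply hann
      intro l i
      have h1 := hpol (Groth.Agent.Lib.Helper14.QuadCenter.e l) (Groth.Agent.Lib.Helper14.QuadCenter.e i)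
      rw [hc, hc, QuadraticMap.polar_smul_left, QuadraticMap.polar_smul_right, smul_eq_mul,
        smul_eq_mul] at h1
      linear_combination h1
    linear_combination this
  · rintro ⟨c, -, hc⟩ A _ _ h _
    have hgA : ∀ y, g.baseChange R A (Fin n → R) (Fin n → R) y = c • y := by
      intro y
      induction y using TensorProduct.induction_on with
      | zero => simp
      | tmul a m => rw [LinearEquiv.baseChange_tmul, hc, TensorProduct.tmul_smul]
      | add x y hx hy => rw [map_add, hx, hy, smul_add]
    ext x
    rw [LinearEquiv.mul_apply, LinearEquiv.mul_apply, hgA, hgA, ← algebraMap_smul A c x,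
      map_smul, algebraMap_smul]

end Groth.Agent.S17005
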