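import Groth.Statements.S17006
import Groth.Agent.Lib.Helper14.QuadDickson
import Groth.Agent.S17004

set_option autoImplicit false
universe u
open scoped TensorProduct
open QuadGrp

namespace Groth.Agent.S17006

section Helpers
open Groth.Agent.Lib.Helper14 Groth.Agent.Lib.Helper14.QuadBC Groth.Agent.Lib.Helper14.QuadInf
open TensorProduct DualNumber

variable {R : Type u} [CommRing R] {n : ℕ}

theorem infEquiv_mem_sorth [Nontrivial R] (hn : Even n) (Q : QuadraticForm R (Fin n → R))
    (u v : Fin n → R) :
    infEquiv R[ε] Q u v DualNumber.eps_mul_eps ∈ QuadGrp.sorth Q R[ε] := by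
  have hfr : Module.finrank R[ε] (R[ε] ⊗[R] (Fin n → R)) = n := by
    rw [Module.finrank_eq_card_basis (Algebra.TensorProduct.basis R[ε] (Pi.basisFun R (Fin n))),
      Fintype.card_fin]
  have hO : infEquiv R[ε] Q u v DualNumber.eps_mul_eps ∈ QuadGrp.O (QuadGrp.baseChangeForm R[ε] Q) := by
    rw [QuadGrp.mem_O]
    exact (mem_orth_iff R[ε] Q _).1 (infEquiv_mem_orth R[ε] Q u v DualNumber.eps_mul_eps)
  rw [QuadGrp.sorth, QuadGrp.SO, if_pos (by rw [hfr]; exact hn)]
  refine ⟨hO, ?_⟩
  apply QuadDickson.dickson_of_inf (QuadGrp.baseChangeForm R[ε] Q) DualNumber.eps_mul_eps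
    ((1 : R[ε]) ⊗ₜ[R] u) ((1 : R[ε]) ⊗ₜ[R] v)
  intro y
  rw [infEquiv_apply, infX_apply]

end Helpers

/-- Let Q be a quadratic form on R^{2m}, m ≥ 2, over a commutative ring R, whose polar form is a perfect
pairing. An isometry g of Q satisfying the Dickson condition commutes, after base change to every
R-algebra A, with every isometry of Q_A satisfying the Dickson condition if and only if g is
multiplication by a scalar whose square is one. (Points-level form of: for even rank at least 4 the
functorial centre of the special orthogonal group is the central μ₂ and coincides with that of the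
naive one.) -/
theorem result (R : Type u) [CommRing R] (m : ℕ) (hm : 2 ≤ m)
    (Q : QuadraticForm R (Fin (2 * m) → R)) (hQ : QuadGrp.IsRegular Q)
    (g : (Fin (2 * m) → R) ≃ₗ[R] (Fin (2 * m) → R)) (hg : g ∈ QuadGrp.SO Q) :
    (∀ (A : Type u) [CommRing A] [Algebra R A], ∀ h ∈ QuadGrp.sorth Q A,
        g.baseChange R A (Fin (2 * m) → R) (Fin (2 * m) → R) * h = h * g.baseChange R A (Fin (2 * m) → R) (Fin (2 * m) → R)) ↔
      ∃ c : R, c * c = 1 ∧ ∀ v, g v = c • v := by
  have hnd : QuadGrp.IsNondeg (Pi.basisFun R (Fin (2 * m))) (LinearEquiv.refl R R) Q :=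
    ⟨fun _ => hQ, fun hodd => absurd (even_two_mul m) (Nat.not_even_iff_odd.2 hodd)⟩
  have hann := Groth.Agent.S17004.hann_of_isNondeg (by omega) Q hnd
  have hgO : g ∈ QuadGrp.O Q := by
    unfold QuadGrp.SO at hg
    split_ifs at hg
    · obtain ⟨h1, _⟩ := hg
      exact h1
    · exact hg.1
  constructor
  · intro hcomm
    rcases subsingleton_or_nontrivial R with hR | hR
    · exact ⟨1, by simp, fun v => Subsingleton.elim _ _⟩
    have hsc : ∃ c : R, ∀ v, g v = c • v := by
      apply Groth.Agent.Lib.Helper14.QuadInf.exists_scalar_of_spade Q (by omega) hQ g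
      intro u v x
      apply Groth.Agent.Lib.Helper14.QuadInf.spade Q g u v x
      apply hcomm
      exact infEquiv_mem_sorth (even_two_mul m) Q u v
    obtain ⟨c, hc⟩ := hsc
    refine ⟨c, ?_, hc⟩
    have hpol : ∀ x y, QuadraticMap.polar Q (g x) (g y) = QuadraticMap.polar Q x y := by
      intro x y
      simp only [QuadraticMap.polar, ← map_add]
      rw [hgO (x + y), hgO x, hgO y]
    have : c * c - 1 = 0 := by
      apply hann
      intro l i
      have h1 := hpol (Groth.Agent.Lib.Helper14.QuadCenter.e l) (Groth.Agent.Lib.Helper14.QuadCenter.e i)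
      rw [hc, hc, QuadraticMap.polar_smul_left, QuadraticMap.polar_smul_right, smul_eq_mul,
        smul_eq_mul] at h1
      linear_combination h1
    linear_combination this
  · rintro ⟨c, -, hc⟩ A _ _ h _
    have hgA : ∀ y, g.baseChange R A (Fin (2 * m) → R) (Fin (2 * m) → R) y = c • y := by
      intro y
      induction y using TensorProduct.induction_on with
      | zero => simp
      | tmul a m => rw [LinearEquiv.baseChange_tmul, hc, TensorProduct.tmul_smul]
      | add x y hx hy => rw [map_add, hx, hy, smul_add]
    ext x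
    rw [LinearEquiv.mul_apply, LinearEquiv.mul_apply, hgA, hgA, ← algebraMap_smul A c x,
      map_smul, algebraMap_smul]

end Groth.Agent.S17006
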