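import Groth.Statements.S1701
import Groth.Agent.Lib.BlowUp.Helper18_FlatSub
import Groth.Agent.Lib.BlowUp.Helper18_FlatNak

set_option autoImplicit false
universe u
open CategoryTheory CategoryTheory.Limits AlgebraicGeometry TopologicalSpace
open SDiv

namespace Groth.Agent.S1701

/-- Let f : X ⟶ S be a morphism, 𝓘 the ideal sheaf of an effective Cartier divisor D ⊂ X such that D ⟶ S
is flat (a relative effective Cartier divisor), and x a point of D at which the local ring of X is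
Noetherian. Then f is flat at x. -/
theorem result {X S : Scheme.{u}} (f : X ⟶ S) (𝓘 : X.IdealSheafData)
    (hD : (BlowUp.IsEffCartierIdeal 𝓘 ∧ Flat (𝓘.subschemeι ≫ f))) (d : ↥𝓘.subscheme) [IsNoetherianRing (X.presheaf.stalk (𝓘.subschemeι d))] :
    (f.stalkMap (𝓘.subschemeι d)).hom.Flat := by
  set x := 𝓘.subschemeι d with hx_def
  have hx : x ∈ 𝓘.support := by
    have h0 : 𝓘.subschemeι d ∈ Set.range 𝓘.subschemeι := ⟨d, rfl⟩
    rw [𝓘.range_subschemeι] at h0
    exact h0
  obtain ⟨U, hU, hfxU, -⟩ :=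
    Opens.isBasis_iff_nbhd.1 S.isBasis_affineOpens (Opens.mem_top (f x))
  obtain ⟨V', hxV, hVU, t, ht, hIt⟩ :=
    Groth.Agent.Lib.BlowUp.exists_le_of_isEffCartierIdeal hD.1 x (f ⁻¹ᵁ U) hfxU
  obtain ⟨V, hV⟩ := V'
  have F1 := Groth.Agent.Lib.BlowUp.flat_quotient_of_flat_subschemeι_comp f 𝓘 hD.2 ⟨U, hU⟩ ⟨V, hV⟩
    hVU
  algebraize [(f.appLE U V hVU).hom]
  let p := (hU.primeIdealOf ⟨f x, hVU hxV⟩).asIdeal
  let q := (hV.primeIdealOf ⟨x, hxV⟩).asIdeal
  have : q.LiesOver p :=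
    ⟨congr($(IsAffineOpen.comap_primeIdealOf_appLE U hU V hV hVU hxV).1).symm⟩
  let := Localization.AtPrime.algebraOfLiesOver p q
  suffices hfl : Module.Flat Γ(S, U) (Localization.AtPrime q) by
    have h1 : Module.Flat (Localization.AtPrime p) (Localization.AtPrime q) :=
      (Module.flat_iff_of_isLocalization (Localization.AtPrime p) p.primeCompl
        (Localization.AtPrime q)).mpr hfl
    rw [← RingHom.flat_algebraMap_iff] at h1
    exact (RingHom.Flat.respectsIso.arrow_mk_iso_iff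
        (IsAffineOpen.arrowStalkMapIso f U hU V hV hVU hxV)).mpr h1
  have htq : t ∈ q := by
    have h1 : x ∈ X.zeroLocus (U := V) (𝓘.ideal ⟨V, hV⟩) :=
      (Scheme.IdealSheafData.mem_support_iff_of_mem (U := ⟨V, hV⟩) hxV).mp hx
    have h2 : hV.primeIdealOf ⟨x, hxV⟩ ∈ hV.fromSpec ⁻¹' X.zeroLocus (U := V) (𝓘.ideal ⟨V, hV⟩) := by
      change hV.fromSpec (hV.primeIdealOf ⟨x, hxV⟩) ∈ X.zeroLocus (U := V) (𝓘.ideal ⟨V, hV⟩)
      rw [hV.fromSpec_primeIdealOf]
      exact h1
    rw [hV.fromSpec_preimage_zeroLocus] at h2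
    have h3 : 𝓘.ideal ⟨V, hV⟩ ≤ q := h2
    apply h3
    rw [hIt]
    exact Ideal.mem_span_singleton_self t
  have hN : IsNoetherianRing (Localization.AtPrime q) := by
    let := X.presheaf.algebra_section_stalk ⟨x, hxV⟩
    have hloc : IsLocalization.AtPrime (X.presheaf.stalk x) q := hV.isLocalization_stalk ⟨x, hxV⟩
    exact isNoetherianRing_of_ringEquiv (X.presheaf.stalk x)
      (IsLocalization.algEquiv q.primeCompl (X.presheaf.stalk x) (Localization.AtPrime q)).toRingEquiv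
  rw [hIt] at F1
  exact Groth.Agent.Lib.BlowUp.flat_localization_of_flat_quotient t ht q htq F1

end Groth.Agent.S1701
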