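import Groth.Statements.S17016
import Mathlib.Tactic.NoncommRing
import Mathlib.Tactic.Abel

set_option autoImplicit false
universe u
open QuadGrp

namespace Groth.Agent.S17016

open QuadGrp

section aux

variable (R : Type u) [CommRing R] (m : ℕ)

theorem splitForm_even_apply (x : Fin (m * 2) → R) :
    splitForm R (m * 2) x = ∑ i : Fin (m * 2 / 2),
      x ⟨2 * i + (m * 2) % 2, by omega⟩ * x ⟨2 * i + 1 + (m * 2) % 2, by omega⟩ := by
  simp [splitForm]

theorem polar_splitForm (x y : Fin (m * 2) → R) :
    QuadraticMap.polar (splitForm R (m * 2)) x y = ∑ i : Fin (m * 2 / 2),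
      (x ⟨2 * i + (m * 2) % 2, by omega⟩ * y ⟨2 * i + 1 + (m * 2) % 2, by omega⟩ +
        y ⟨2 * i + (m * 2) % 2, by omega⟩ * x ⟨2 * i + 1 + (m * 2) % 2, by omega⟩) := by
  rw [QuadraticMap.polar, splitForm_even_apply, splitForm_even_apply, splitForm_even_apply,
    ← Finset.sum_sub_distrib, ← Finset.sum_sub_distrib]
  apply Finset.sum_congr rfl
  intro i _
  simp only [Pi.add_apply]
  ring

/-- basis vectors -/
noncomputable def sv (j : Fin (m * 2)) : Fin (m * 2) → R := Pi.single j 1

theorem splitForm_sv (j : Fin (m * 2)) : splitForm R (m * 2) (sv R m j) = 0 := by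
  rw [splitForm_even_apply]
  apply Finset.sum_eq_zero
  intro i _
  simp only [sv, Pi.single_apply]
  split_ifs with h1 h2
  · exfalso
    rw [← h1] at h2
    have := congrArg Fin.val h2
    simp at this
  · simp
  · simp
  · simp

theorem single_mul_single_eq_zero (j k : Fin (m * 2)) (i : Fin (m * 2 / 2))
    (h : j.val / 2 ≠ k.val / 2) :
    (Pi.single j 1 : Fin (m * 2) → R) ⟨2 * i + (m * 2) % 2, by omega⟩ *
      (Pi.single k 1 : Fin (m * 2) → R) ⟨2 * i + 1 + (m * 2) % 2, by omega⟩ = 0 := by
  by_cases h1 : (⟨2 * i + (m * 2) % 2, by omega⟩ : Fin (m * 2)) = j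
  · by_cases h2 : (⟨2 * i + 1 + (m * 2) % 2, by omega⟩ : Fin (m * 2)) = k
    · exfalso
      apply h
      rw [← h1, ← h2]
      simp only
      omega
    · rw [Pi.single_eq_of_ne h2, mul_zero]
  · rw [Pi.single_eq_of_ne h1, zero_mul]

theorem polar_sv_of_ne (j k : Fin (m * 2)) (h : j.val / 2 ≠ k.val / 2) :
    QuadraticMap.polar (splitForm R (m * 2)) (sv R m j) (sv R m k) = 0 := by
  rw [polar_splitForm]
  apply Finset.sum_eq_zero
  intro i _
  simp only [sv]
  rw [single_mul_single_eq_zero R m j k i h, single_mul_single_eq_zero R m k j i h.symm, add_zero]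

theorem polar_sv_pair (i : Fin m) :
    QuadraticMap.polar (splitForm R (m * 2)) (sv R m (finProdFinEquiv (i, 0)))
      (sv R m (finProdFinEquiv (i, 1))) = 1 := by
  rw [polar_splitForm]
  have hi : i.val < m * 2 / 2 := by have := i.2; omega
  rw [Finset.sum_eq_single (⟨i.val, hi⟩ : Fin (m * 2 / 2))]
  · simp only [sv]
    have e0 : (⟨2 * i.val + (m * 2) % 2, by omega⟩ : Fin (m * 2)) = finProdFinEquiv (i, (0 : Fin 2)) := by
      apply Fin.ext
      simp [finProdFinEquiv]
    have e1 : (⟨2 * i.val + 1 + (m * 2) % 2, by omega⟩ : Fin (m * 2)) = finProdFinEquiv (i, (1 : Fin 2)) := by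
      apply Fin.ext
      simp [finProdFinEquiv]
      omega
    have hne : (finProdFinEquiv (i, (0 : Fin 2)) : Fin (m * 2)) ≠ finProdFinEquiv (i, (1 : Fin 2)) := by
      intro h
      have := finProdFinEquiv.injective h
      simp at this
    rw [e0, e1, Pi.single_eq_same, Pi.single_eq_same, Pi.single_eq_of_ne hne, zero_mul, add_zero,
      mul_one]
  · intro i' _ hi'
    simp only [sv]
    have h0 : ∀ c : Fin 2, (⟨2 * i'.val + (m * 2) % 2, by omega⟩ : Fin (m * 2)) ≠ finProdFinEquiv (i, c) := by
      intro c h
      have := congrArg Fin.val h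
      simp [finProdFinEquiv] at this
      apply hi'
      apply Fin.ext
      simp only
      omega
    rw [Pi.single_eq_of_ne (h0 0), Pi.single_eq_of_ne (h0 1), zero_mul, zero_mul, add_zero]
  · intro h
    exact absurd (Finset.mem_univ _) h

/-- the Clifford algebra of the split form -/
abbrev Cl : Type u := CliffordAlgebra (splitForm R (m * 2))

/-- basis vectors in the Clifford algebra -/
noncomputable def e (j : Fin (m * 2)) : Cl R m := CliffordAlgebra.ι (splitForm R (m * 2)) (sv R m j)

theorem e_sq (j : Fin (m * 2)) : e R m j * e R m j = 0 := by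
  rw [e, CliffordAlgebra.ι_sq_scalar, splitForm_sv, map_zero]

theorem e_anti (j k : Fin (m * 2)) (h : j.val / 2 ≠ k.val / 2) :
    e R m j * e R m k = -(e R m k * e R m j) := by
  have := CliffordAlgebra.ι_mul_ι_add_swap (Q := splitForm R (m * 2)) (sv R m j) (sv R m k)
  rw [polar_sv_of_ne R m j k h, map_zero] at this
  exact eq_neg_of_add_eq_zero_left this

/-- `a i = e_{2i}` -/
noncomputable def a (i : Fin m) : Cl R m := e R m (finProdFinEquiv (i, 0))
/-- `b i = e_{2i+1}` -/
noncomputable def b (i : Fin m) : Cl R m := e R m (finProdFinEquiv (i, 1))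
/-- `t i = 1 - 2 a_i b_i` -/
noncomputable def t (i : Fin m) : Cl R m := 1 - 2 * (a R m i * b R m i)

theorem a_sq (i : Fin m) : a R m i * a R m i = 0 := e_sq R m _
theorem b_sq (i : Fin m) : b R m i * b R m i = 0 := e_sq R m _

theorem ab_add_ba (i : Fin m) : a R m i * b R m i + b R m i * a R m i = 1 := by
  have := CliffordAlgebra.ι_mul_ι_add_swap (Q := splitForm R (m * 2))
    (sv R m (finProdFinEquiv (i, 0))) (sv R m (finProdFinEquiv (i, 1)))
  rw [polar_sv_pair R m i, map_one] at this
  exact this

theorem ba_eq (i : Fin m) : b R m i * a R m i = 1 - a R m i * b R m i :=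
  eq_sub_of_add_eq' (ab_add_ba R m i)

theorem aab (i : Fin m) : a R m i * (a R m i * b R m i) = 0 := by
  rw [← mul_assoc, a_sq, zero_mul]

theorem aba (i : Fin m) : (a R m i * b R m i) * a R m i = a R m i := by
  rw [mul_assoc, ba_eq, mul_sub, mul_one, ← mul_assoc, a_sq, zero_mul, sub_zero]

theorem abb (i : Fin m) : (a R m i * b R m i) * b R m i = 0 := by
  rw [mul_assoc, b_sq, mul_zero]

theorem bab (i : Fin m) : b R m i * (a R m i * b R m i) = b R m i := by
  rw [← mul_assoc, ba_eq, sub_mul, one_mul, mul_assoc, b_sq, mul_zero, sub_zero]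

theorem a_t (i : Fin m) : a R m i * t R m i = -(t R m i * a R m i) := by
  have h1 : a R m i * t R m i = a R m i := by
    rw [t, mul_sub, mul_one, two_mul, mul_add, aab, add_zero, sub_zero]
  have h2 : t R m i * a R m i = -a R m i := by
    rw [t, sub_mul, one_mul, two_mul, add_mul, aba]
    abel
  rw [h1, h2, neg_neg]

theorem b_t (i : Fin m) : b R m i * t R m i = -(t R m i * b R m i) := by
  have h1 : t R m i * b R m i = b R m i := by
    rw [t, sub_mul, one_mul, two_mul, add_mul, abb, add_zero, sub_zero]
  have h2 : b R m i * t R m i = -b R m i := by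
    rw [t, mul_sub, mul_one, two_mul, mul_add, bab]
    abel
  rw [h1, h2]

theorem t_sq (i : Fin m) : t R m i * t R m i = 1 := by
  have hu : (a R m i * b R m i) * (a R m i * b R m i) = a R m i * b R m i := by
    rw [← mul_assoc, aba]
  rw [t, two_mul]
  have : (1 - (a R m i * b R m i + a R m i * b R m i)) *
      (1 - (a R m i * b R m i + a R m i * b R m i))
      = 1 - (a R m i * b R m i + a R m i * b R m i) - (a R m i * b R m i + a R m i * b R m i)
        + ((a R m i * b R m i) * (a R m i * b R m i) + (a R m i * b R m i) * (a R m i * b R m i)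
          + (a R m i * b R m i) * (a R m i * b R m i) + (a R m i * b R m i) * (a R m i * b R m i)) := by
    noncomm_ring
  rw [this, hu]
  abel

theorem val_div_pair (i : Fin m) (c : Fin 2) :
    (finProdFinEquiv (i, c) : Fin (m * 2)).val / 2 = i.val := by
  simp [finProdFinEquiv]
  omega

theorem e_comm_t (j : Fin (m * 2)) (i : Fin m) (h : j.val / 2 ≠ i.val) :
    e R m j * t R m i = t R m i * e R m j := by
  have h0 : e R m j * a R m i = -(a R m i * e R m j) :=
    e_anti R m j _ (by rw [val_div_pair]; exact h)
  have h1 : e R m j * b R m i = -(b R m i * e R m j) :=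
    e_anti R m j _ (by rw [val_div_pair]; exact h)
  have h2 : e R m j * (a R m i * b R m i) = (a R m i * b R m i) * e R m j := by
    rw [← mul_assoc, h0, neg_mul, mul_assoc, h1, mul_neg, neg_neg, mul_assoc]
  rw [t, mul_sub, sub_mul, mul_one, one_mul, two_mul, mul_add, add_mul, h2]

theorem e_anti_t (j : Fin (m * 2)) (i : Fin m) (h : j.val / 2 = i.val) :
    e R m j * t R m i = -(t R m i * e R m j) := by
  obtain ⟨⟨i', c⟩, rfl⟩ := finProdFinEquiv.surjective j
  rw [val_div_pair] at h
  have hi : i' = i := Fin.ext h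
  subst hi
  fin_cases c
  · exact a_t R m i'
  · exact b_t R m i'

theorem t_comm (i k : Fin m) : t R m i * t R m k = t R m k * t R m i := by
  by_cases h : i = k
  · rw [h]
  · have hne : ∀ c : Fin 2, (finProdFinEquiv (i, c) : Fin (m * 2)).val / 2 ≠ k.val := by
      intro c
      rw [val_div_pair]
      exact fun h' => h (Fin.ext h')
    have h0 : a R m i * t R m k = t R m k * a R m i := e_comm_t R m _ k (hne 0)
    have h1 : b R m i * t R m k = t R m k * b R m i := e_comm_t R m _ k (hne 1)
    have h2 : (a R m i * b R m i) * t R m k = t R m k * (a R m i * b R m i) := by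
      rw [mul_assoc, h1, ← mul_assoc, h0, mul_assoc]
    have ht : t R m i = 1 - (a R m i * b R m i + a R m i * b R m i) := by rw [t, two_mul]
    rw [ht, sub_mul, mul_sub, one_mul, mul_one, add_mul, mul_add, h2]

theorem prod_sq (l : List (Fin m)) :
    (l.map (t R m)).prod * (l.map (t R m)).prod = 1 := by
  induction l with
  | nil => simp
  | cons x l ih =>
    have hc : (l.map (t R m)).prod * t R m x = t R m x * (l.map (t R m)).prod := by
      clear ih
      induction l with
      | nil => simp
      | cons y l ih2 =>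
        rw [List.map_cons, List.prod_cons, mul_assoc, ih2, ← mul_assoc, t_comm R m y x, mul_assoc]
    rw [List.map_cons, List.prod_cons, mul_assoc, ← mul_assoc _ (t R m x), hc, mul_assoc,
      ih, mul_one, t_sq]

theorem e_prod (j : Fin (m * 2)) (l : List (Fin m)) (hl : l.Nodup) :
    (∀ i ∈ l, j.val / 2 ≠ i.val) → e R m j * (l.map (t R m)).prod = (l.map (t R m)).prod * e R m j := by
  induction l with
  | nil => intro _; simp
  | cons x l ih =>
    intro h
    rw [List.map_cons, List.prod_cons, ← mul_assoc, e_comm_t R m j x (h x (by simp)), mul_assoc,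
      ih (List.nodup_cons.1 hl).2 (fun i hi => h i (by simp [hi])), mul_assoc]

theorem e_prod_anti (j : Fin (m * 2)) (l : List (Fin m)) (hl : l.Nodup) :
    (∃ i ∈ l, j.val / 2 = i.val) →
      e R m j * (l.map (t R m)).prod = -((l.map (t R m)).prod * e R m j) := by
  induction l with
  | nil => rintro ⟨i, hi, _⟩; simp at hi
  | cons x l ih =>
    rintro ⟨i, hi, hji⟩
    have hnd := List.nodup_cons.1 hl
    rw [List.map_cons, List.prod_cons]
    by_cases hx : j.val / 2 = x.val
    · have hnot : ∀ i' ∈ l, j.val / 2 ≠ i'.val := by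
        intro i' hi' h'
        have : i' = x := Fin.ext (h'.symm.trans hx)
        exact hnd.1 (this ▸ hi')
      rw [← mul_assoc, e_anti_t R m j x hx, neg_mul, mul_assoc, e_prod R m j l hnd.2 hnot,
        mul_assoc]
    · have hi' : i ∈ l := by
        rcases List.mem_cons.1 hi with h | h
        · exact absurd (h ▸ hji) hx
        · exact h
      rw [← mul_assoc, e_comm_t R m j x hx, mul_assoc, ih hnd.2 ⟨i, hi', hji⟩, mul_neg, mul_assoc]

end aux

/-- For the standard split quadratic form Σ x_{2i} x_{2i+1} on R^{2m} over any commutative ring R, with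
standard basis vectors e_j in the Clifford algebra, the product w of the elements 1 − 2 e_{2i}
e_{2i+1} (i < m, which pairwise commute) satisfies w² = 1 and anticommutes with every e_j. (Hence w
is central in the even Clifford algebra; over rings in which 2 is invertible (1 − w)/2 is the
non-trivial central idempotent of the even part.) -/
theorem result (R : Type u) [CommRing R] (m : ℕ) :
    let Q := QuadGrp.splitForm R (m * 2)
    let e : Fin (m * 2) → CliffordAlgebra Q := fun j => CliffordAlgebra.ι Q (Pi.single j 1)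
    let w : CliffordAlgebra Q :=
      ((List.finRange m).map fun i => 1 - 2 * (e (finProdFinEquiv (i, 0)) * e (finProdFinEquiv (i, 1)))).prod
    w * w = 1 ∧ ∀ j : Fin (m * 2), e j * w = -(w * e j) := by
  intro Q e' w
  refine ⟨prod_sq R m (List.finRange m), fun j => ?_⟩
  refine e_prod_anti R m j (List.finRange m) (List.nodup_finRange m) ?_
  have hj : j.val / 2 < m := by have := j.2; omega
  exact ⟨⟨j.val / 2, hj⟩, List.mem_finRange _, rfl⟩

end Groth.Agent.S17016
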