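import Groth.Statements.S17018
import Mathlib
import Groth.Agent.Lib.Helper33.PullbackStalk3

set_option autoImplicit false
universe u
open CategoryTheory CategoryTheory.Limits AlgebraicGeometry
open scoped TensorProduct
open Models

namespace Groth.Agent.S17018

open Groth.Agent.Lib.Helper33.PullbackStalk

set_option backward.isDefEq.respectTransparency.types false in
theorem gl_eq_toGlobal {A : Type u} [CommRing A] {X : Scheme.{u}}
    (f : X ⟶ Spec (CommRingCat.of A)) (x : X) :
    (gl f x).hom = (X.presheaf.germ ⊤ x trivial).hom.comp (Coh.toGlobal f) := by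
  unfold gl Coh.toGlobal
  rw [Scheme.Hom.germ_stalkMap]
  rfl

/-- The stalk of a reduced scheme at the generic point of an irreducible component is a field. -/
theorem isField_stalk_of_irreducibleComponent (Xs : Scheme.{u}) [IsReduced Xs] (ξ : Xs)
    (hξ : closure ({ξ} : Set Xs) ∈ irreducibleComponents Xs) :
    IsField (Xs.presheaf.stalk ξ) := by
  have hgen : ∀ y : Xs, y ⤳ ξ → y = ξ := by
    intro y hy
    have h1 : closure ({ξ} : Set Xs) ⊆ closure {y} := specializes_iff_closure_subset.mp hy
    have h2 : IsIrreducible (closure ({y} : Set Xs)) := isIrreducible_singleton.closure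
    have h3 : closure ({y} : Set Xs) ⊆ closure {ξ} := hξ.2 h2 h1
    have h4 : closure ({y} : Set Xs) = closure {ξ} := le_antisymm h3 h1
    exact ((inseparable_iff_closure_eq).mpr h4).eq
  have huniq : ∀ p q : Spec (Xs.presheaf.stalk ξ), p = q := by
    intro p q
    apply (Xs.fromSpecStalk ξ).isEmbedding.injective
    have hp : (Xs.fromSpecStalk ξ).base p ∈ Set.range (Xs.fromSpecStalk ξ).base := ⟨p, rfl⟩
    have hq : (Xs.fromSpecStalk ξ).base q ∈ Set.range (Xs.fromSpecStalk ξ).base := ⟨q, rfl⟩
    rw [Scheme.range_fromSpecStalk] at hp hq
    rw [hgen _ hp, hgen _ hq]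
  rw [IsLocalRing.isField_iff_maximalIdeal_eq]
  have hnil : nilradical (Xs.presheaf.stalk ξ) = ⊥ := nilradical_eq_zero _
  rw [← hnil, nilradical_eq_sInf]
  apply le_antisymm
  · apply le_sInf
    intro J hJ
    have : (⟨J, hJ⟩ : PrimeSpectrum (Xs.presheaf.stalk ξ)) =
        ⟨IsLocalRing.maximalIdeal _, inferInstance⟩ := huniq _ _
    exact (congrArg PrimeSpectrum.asIdeal this).ge
  · exact sInf_le (show (IsLocalRing.maximalIdeal _).IsPrime from inferInstance)

/-- Let R be a discrete valuation ring with algebraically closed residue field and f : X → Spec R a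
proper flat morphism whose generic fibre (base change to the fraction field of R) is smooth of
relative dimension 1 and connected and whose special fibre (base change to the residue field) is
connected and reduced; let ξ be the generic point of an irreducible component of the special fibre
and B a discrete valuation ring given with an isomorphism from the local ring of X at ξ under which
R → B is the map induced by f. Then the maximal ideal of B is the extension of the maximal ideal of
R: a uniformizer of R maps to a uniformizer of B. (The published setting takes everything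
essentially of finite type over a field of characteristic zero; the printed argument does not use
this and it is not imposed here.) -/
theorem result
    (R : Type u) [CommRing R] [IsDomain R] [IsDiscreteValuationRing R]
    [IsAlgClosed (IsLocalRing.ResidueField R)]
    (X : Scheme.{u}) (f : X ⟶ Spec (CommRingCat.of R)) [IsProper f] [Flat f]
    (XK : Scheme.{u}) (gK : XK ⟶ X) (fK : XK ⟶ Spec (CommRingCat.of (FractionRing R)))
    (hK : IsPullback gK fK f (Spec.map (CommRingCat.ofHom (algebraMap R (FractionRing R)))))
    [SmoothOfRelativeDimension 1 fK] [ConnectedSpace XK]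
    (Xs : Scheme.{u}) (gs : Xs ⟶ X) (fs : Xs ⟶ Spec (CommRingCat.of (IsLocalRing.ResidueField R)))
    (hs : IsPullback gs fs f (Spec.map (CommRingCat.ofHom (IsLocalRing.residue R))))
    [ConnectedSpace Xs] [IsReduced Xs]
    (ξ : Xs) (hξ : closure ({ξ} : Set Xs) ∈ irreducibleComponents Xs)
    (B : Type u) [CommRing B] [IsDomain B] [IsDiscreteValuationRing B] [Algebra R B]
    (e : X.presheaf.stalk (gs.base ξ) ≅ CommRingCat.of B)
    (he : e.hom.hom.comp ((X.presheaf.germ ⊤ (gs.base ξ) trivial).hom.comp (Coh.toGlobal f)) =
      algebraMap R B) :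
    IsLocalRing.maximalIdeal B = Ideal.map (algebraMap R B) (IsLocalRing.maximalIdeal R) := by
  have hφ : Function.Surjective (CommRingCat.ofHom (IsLocalRing.residue R)).hom :=
    IsLocalRing.residue_surjective
  have hker := ker_stalkMap f fs gs (CommRingCat.ofHom (IsLocalRing.residue R)) hφ hs ξ
  have hsurj := stalkMap_surjective f fs gs (CommRingCat.ofHom (IsLocalRing.residue R)) hφ hs ξ
  have hF := isField_stalk_of_irreducibleComponent Xs ξ hξ
  letI := hF.toField
  have hmax : (RingHom.ker (gs.stalkMap ξ).hom).IsMaximal :=
    RingHom.ker_isMaximal_of_surjective _ hsurj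
  have h1 : RingHom.ker (gs.stalkMap ξ).hom = IsLocalRing.maximalIdeal _ :=
    IsLocalRing.eq_maximalIdeal hmax
  have h2 : (IsLocalRing.maximalIdeal R).map (gl f (gs.base ξ)).hom =
      IsLocalRing.maximalIdeal (X.presheaf.stalk (gs.base ξ)) := by
    rw [← h1, hker]
    congr 1
    exact IsLocalRing.ker_residue.symm
  have h3 : Ideal.map e.hom.hom (IsLocalRing.maximalIdeal (X.presheaf.stalk (gs.base ξ))) =
      IsLocalRing.maximalIdeal B :=
    IsLocalRing.map_ringEquiv_maximalIdeal e.commRingCatIsoToRingEquiv
  rw [← h3, ← h2, Ideal.map_map, gl_eq_toGlobal]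
  congr 1

end Groth.Agent.S17018
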