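import Groth.Statements.S17023
import Groth.Agent.S0549
import Groth.Agent.S4542
import Mathlib

set_option autoImplicit false
universe u
open FlatMor

namespace Groth.Agent.S17023

open IsLocalRing in

/-- Let B be a discrete valuation ring, A a B-algebra of finite type and p a prime ideal of A which lies
over the maximal ideal of B (a point of the special fibre), at which A is smooth over B (the
localization A_p is formally smooth over B), and such that B maps onto the residue field κ(p). Then
there are a discrete valuation ring B' and a ring map ψ : A → B' pulling the maximal ideal of B'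
back to p, such that the composite B → A → B' is injective, the maximal ideal of B generates the
maximal ideal of B', and B maps onto the residue field of B'; in other words Spec B' → Spec A → Spec
B is surjective and unramified with trivial residue field extension. (The published statement does
not say that the closed point of Spec B' goes to p; it is required here. The published setting takes
A essentially of finite type over a field of characteristic zero; here A is taken of finite type
over B, with no ground field.) -/
theorem result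
    (B : Type u) [CommRing B] [IsDomain B] [IsDiscreteValuationRing B]
    (A : Type u) [CommRing A] [Algebra B A] [Algebra.FiniteType B A]
    (p : Ideal A) [p.IsPrime] (hp : p.comap (algebraMap B A) = IsLocalRing.maximalIdeal B)
    [Algebra.IsSmoothAt B p]
    (hres : Function.Surjective ((algebraMap A p.ResidueField).comp (algebraMap B A))) :
    ∃ (B' : Type u) (_ : CommRing B') (_ : IsDomain B') (_ : IsDiscreteValuationRing B') (ψ : A →+* B'),
      Ideal.comap ψ (IsLocalRing.maximalIdeal B') = p ∧
      Function.Injective (ψ.comp (algebraMap B A)) ∧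
      Ideal.map (ψ.comp (algebraMap B A)) (IsLocalRing.maximalIdeal B) = IsLocalRing.maximalIdeal B' ∧
      Function.Surjective ((IsLocalRing.residue B').comp (ψ.comp (algebraMap B A))) := by
  obtain ⟨hdom, hdvr⟩ := (Groth.Agent.S0549.result B).mp ⟨inferInstance, inferInstance⟩
  let B' := AdicCompletion (maximalIdeal B) B
  let 𝔠 : Ideal B' := maximalIdeal B'
  have h𝔠 : 𝔠 = (maximalIdeal B).map (algebraMap B B') := AdicCompletion.maximalIdeal_eq_map
  let Ap := Localization.AtPrime p
  have hfs : EGA41.IsFormallySmoothAdic B ⊥ Ap ⊥ := by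
    intro C _ _ J hJ _ u _
    exact Algebra.FormallySmooth.exists_lift J hJ u
  -- the residue map
  let f : B →+* p.ResidueField := (algebraMap A p.ResidueField).comp (algebraMap B A)
  have hkerf : ∀ b : B, f b = 0 → b ∈ maximalIdeal B := by
    intro b hb
    rw [← hp, Ideal.mem_comap]
    exact Ideal.algebraMap_residueField_eq_zero.mp hb
  let e : B ⧸ RingHom.ker f ≃+* p.ResidueField := RingHom.quotientKerEquivOfSurjective hres
  have he : ∀ b : B, e (Ideal.Quotient.mk _ b) = f b := fun b => rfl
  let g₀ : B ⧸ RingHom.ker f →+* B' ⧸ 𝔠 :=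
    Ideal.Quotient.lift _ ((Ideal.Quotient.mk 𝔠).comp (algebraMap B B')) (by
      intro b hb
      rw [RingHom.comp_apply, Ideal.Quotient.eq_zero_iff_mem, h𝔠]
      exact Ideal.mem_map_of_mem _ (hkerf b hb))
  let θ : p.ResidueField →+* B' ⧸ 𝔠 := g₀.comp e.symm.toRingHom
  have hθ : ∀ b : B, θ (f b) = Ideal.Quotient.mk 𝔠 (algebraMap B B' b) := by
    intro b
    show g₀ (e.symm (f b)) = _
    rw [← he, RingEquiv.symm_apply_apply]
    rfl
  haveI : Nontrivial (B' ⧸ 𝔠) := Ideal.Quotient.nontrivial_iff.mpr (maximalIdeal.isMaximal B').ne_top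
  have hθinj : Function.Injective θ := θ.injective
  let u₀ : Ap →+* B' ⧸ 𝔠 := θ.comp (algebraMap Ap p.ResidueField)
  let u : Ap →ₐ[B] B' ⧸ 𝔠 :=
    { toRingHom := u₀
      commutes' := fun b => by
        show θ (algebraMap Ap p.ResidueField (algebraMap B Ap b)) = _
        rw [IsScalarTower.algebraMap_apply B A Ap, ← IsScalarTower.algebraMap_apply A Ap p.ResidueField]
        exact hθ b }
  haveI : IsHausdorff (𝔠.map (Ideal.Quotient.mk 𝔠)) (B' ⧸ 𝔠) := by
    rw [Ideal.map_quotient_self]
    refine ⟨fun x hx => ?_⟩
    have h1 := hx 1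
    rw [pow_one, Submodule.bot_smul, SModEq.bot] at h1
    exact h1
  obtain ⟨v, -, hv⟩ := Groth.Agent.S4542.result (⊥ : Ideal B) (⊥ : Ideal Ap) 𝔠 hfs
    ⟨1, by simp⟩ 𝔠 ⟨1, by simp⟩ u ⟨1, by simp⟩
  have hvu : ∀ x : Ap, Ideal.Quotient.mk 𝔠 (v x) = u x := fun x => congrArg (fun k => k x) hv
  let ψ : A →+* B' := v.toRingHom.comp (algebraMap A Ap)
  have hψB : ψ.comp (algebraMap B A) = algebraMap B B' := by
    refine RingHom.ext fun b => ?_
    show v (algebraMap A Ap (algebraMap B A b)) = _
    rw [← IsScalarTower.algebraMap_apply B A Ap, v.commutes]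
  refine ⟨B', inferInstance, hdom, hdvr, ψ, ?_, ?_, ?_, ?_⟩
  · ext x
    rw [Ideal.mem_comap]
    show v (algebraMap A Ap x) ∈ 𝔠 ↔ _
    rw [← Ideal.Quotient.eq_zero_iff_mem, hvu]
    show θ (algebraMap Ap p.ResidueField (algebraMap A Ap x)) = 0 ↔ _
    rw [← IsScalarTower.algebraMap_apply A Ap p.ResidueField, map_eq_zero_iff θ hθinj,
      Ideal.algebraMap_residueField_eq_zero]
  · rw [hψB]
    haveI : IsHausdorff (maximalIdeal B) B := inferInstance
    exact AdicCompletion.of_injective (maximalIdeal B) B
  · rw [hψB]; exact h𝔠.symm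
  · rw [hψB]
    have h1 := (AdicCompletion.residueField_map_bijective (R := B)).2
    intro y
    obtain ⟨z, hz⟩ := h1 y
    obtain ⟨b, rfl⟩ := IsLocalRing.residue_surjective z
    exact ⟨b, hz⟩

end Groth.Agent.S17023
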