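import Groth.Statements.S1703
import Groth.Agent.Lib.Helper35.RegSlice6
import Groth.Agent.Lib.Helper35.StalkChart
import Groth.Agent.Lib.Helper35.EtaleLocalScheme
import Groth.Agent.Lib.BlowUp.Helper18_EffCartier
import Groth.Agent.Lib.BlowUp.Helper18_FlatSub
import Groth.Agent.S0387
import Groth.Agent.Lib.Helper35.RegSliceScheme

set_option autoImplicit false
universe u
open CategoryTheory CategoryTheory.Limits AlgebraicGeometry TopologicalSpace
open SDiv

namespace Groth.Agent.S1703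

section Helpers

set_option maxHeartbeats 800000

theorem local_flat {X S : Scheme.{u}} (f : X ⟶ S) [LocallyOfFinitePresentation f]
    (𝓘 : X.IdealSheafData) (hD1 : BlowUp.IsEffCartierIdeal 𝓘) (hD2 : Flat (𝓘.subschemeι ≫ f))
    (x : X) (hx : x ∈ 𝓘.support) :
    ∃ W : X.Opens, x ∈ W ∧ ∀ y ∈ W, (f.stalkMap y).hom.Flat := by
  obtain ⟨_, ⟨V, hV, rfl⟩, hxV, -⟩ :=
    S.isBasis_affineOpens.exists_subset_of_mem_open (Set.mem_univ (f x)) isOpen_univ
  obtain ⟨U₁, hxU, e, t, ht, hI⟩ :=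
    Groth.Agent.Lib.BlowUp.exists_le_of_isEffCartierIdeal hD1 x (f ⁻¹ᵁ V) hxV
  letI := (f.appLE V U₁.1 e).hom.toAlgebra
  haveI : Algebra.FinitePresentation Γ(S, V) Γ(X, U₁.1) := f.finitePresentation_appLE hV U₁.2 e
  have hfl : Module.Flat Γ(S, V) (Γ(X, U₁.1) ⧸ Ideal.span {t}) := by
    have := Groth.Agent.Lib.BlowUp.flat_quotient_of_flat_subschemeι_comp f 𝓘 hD2 ⟨V, hV⟩ U₁ e
    rw [hI] at this
    exact this
  have hopen := Groth.Agent.S0387.result (R := Γ(S, V)) (S := Γ(X, U₁.1)) (M := Γ(X, U₁.1))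
  have hU : IsAffineOpen U₁.1 := U₁.2
  -- flatness of stalks at points of the flat locus
  have key : ∀ q : PrimeSpectrum Γ(X, U₁.1),
      Module.Flat Γ(S, V) (LocalizedModule q.asIdeal.primeCompl Γ(X, U₁.1)) →
      (f.stalkMap (hU.fromSpec q)).hom.Flat := by
    intro q hq
    have hy : hU.fromSpec q ∈ U₁.1 := by
      have : hU.fromSpec q ∈ Set.range hU.fromSpec := ⟨q, rfl⟩
      rw [hU.range_fromSpec] at this
      exact this
    have hq' : hU.primeIdealOf ⟨hU.fromSpec q, hy⟩ = q := by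
      apply hU.fromSpec.isOpenEmbedding.injective
      exact hU.fromSpec_primeIdealOf ⟨hU.fromSpec q, hy⟩
    rw [Groth.Agent.Lib.Helper35.flat_stalkMap_iff V hV U₁.1 hU e hy, hq']
    exact Module.Flat.of_linearEquiv
      ((IsLocalizedModule.iso q.asIdeal.primeCompl
        (Algebra.linearMap Γ(X, U₁.1) (Localization.AtPrime q.asIdeal))).symm.restrictScalars
          Γ(S, V))
  refine ⟨hU.fromSpec ''ᵁ ⟨_, hopen⟩, ?_, ?_⟩
  · refine ⟨hU.primeIdealOf ⟨x, hxU⟩, ?_, hU.fromSpec_primeIdealOf ⟨x, hxU⟩⟩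
    show Module.Flat Γ(S, V) (LocalizedModule (hU.primeIdealOf ⟨x, hxU⟩).asIdeal.primeCompl
      Γ(X, U₁.1))
    refine Groth.Agent.Lib.Helper35.RegSlice6.flat_localized_of_nzd_of_flat_quot t ht hfl _ ?_
    have h1 := (Scheme.IdealSheafData.mem_support_iff_of_mem (I := 𝓘) (U := U₁) hxU).1 hx
    rw [hI, Scheme.mem_zeroLocus_iff] at h1
    by_contra hcon
    exact h1 t (Ideal.subset_span rfl)
      (Groth.Agent.Lib.Helper35.RegSliceScheme.mem_basicOpen_of_not_mem_primeIdealOf hU x hxU t hcon)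
  · rintro _ ⟨q, hq, rfl⟩
    exact key q hq

theorem aux {X S : Scheme.{u}} (f : X ⟶ S) [LocallyOfFinitePresentation f]
    (𝓘 : X.IdealSheafData)
    (hD : (BlowUp.IsEffCartierIdeal 𝓘 ∧ Flat (𝓘.subschemeι ≫ f))) :
    ∃ U : X.Opens, (𝓘.support : Set ↥X) ⊆ U ∧ Flat (U.ι ≫ f) := by
  refine ⟨⟨interior {y | (f.stalkMap y).hom.Flat}, isOpen_interior⟩, ?_, ?_⟩
  · intro x hx
    obtain ⟨W, hxW, hW⟩ := local_flat f 𝓘 hD.1 hD.2 x hx
    exact mem_interior.2 ⟨W, fun y hy => hW y hy, W.2, hxW⟩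
  · apply Flat.of_stalkMap
    intro u
    rw [Groth.Agent.Lib.Helper35.stalkMap_comp_openImmersion_iff RingHom.Flat.respectsIso]
    have h1 : ∀ y : X, y ∈ interior {y | (f.stalkMap y).hom.Flat} → (f.stalkMap y).hom.Flat :=
      fun y hy => interior_subset (s := {y | (f.stalkMap y).hom.Flat}) hy
    exact h1 _ u.2

end Helpers

/-- Let f : X ⟶ S be locally of finite presentation and 𝓘 the ideal sheaf of an effective Cartier
divisor D ⊂ X with D ⟶ S flat. Then there is an open subscheme U of X containing D such that U ⟶ S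
is flat. -/
theorem result {X S : Scheme.{u}} (f : X ⟶ S) [LocallyOfFinitePresentation f] (𝓘 : X.IdealSheafData)
    (hD : (BlowUp.IsEffCartierIdeal 𝓘 ∧ Flat (𝓘.subschemeι ≫ f))) : ∃ U : X.Opens, (𝓘.support : Set ↥X) ⊆ U ∧ Flat (U.ι ≫ f) := by
  exact aux f 𝓘 hD

end Groth.Agent.S1703
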