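import Groth.Statements.S1704
-- import your own Groth.Agent.* helpers here
import Groth.Agent.Lib.QCoh.Helper18_Ass

set_option autoImplicit false
universe u
open CategoryTheory CategoryTheory.Limits AlgebraicGeometry TopologicalSpace
open SDiv
open Groth.Agent.Lib.QCoh Groth.Agent.Lib.Helper18

namespace Groth.Agent.S1704

/-- Let X be a locally Noetherian scheme and F a quasi-coherent module. Then F is zero if and only if F
has no associated point. -/
theorem result (X : Scheme.{u}) [IsLocallyNoetherian X] (F : X.Modules) (hF : Coh.IsQCoh F) :
    IsZero F ↔ ∀ x : ↥X, ¬ Curv2.IsAssPoint F x := by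
  have : F.IsQuasicoherent := hF
  constructor
  · intro hz x hx
    have := stalk_subsingleton_of_isZero hz x
    exact not_isAssociatedPrime_of_subsingleton hx
  · intro h
    by_contra hz
    obtain ⟨y, hy⟩ := exists_isWeakAssPoint_of_not_isZero F hz
    exact h y ((isAssPoint_iff_isWeakAssPoint F y).2 hy)

end Groth.Agent.S1704
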