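import Groth.Statements.S17065
-- import your own Groth.Agent.* helpers here
import Mathlib.RingTheory.Ideal.IdempotentFG
import Mathlib.RingTheory.Ideal.Quotient.Noetherian

set_option autoImplicit false
universe u
open CAlg

namespace Groth.Agent.S17065

/-- The local algebraic statement its proof establishes: let A be a Noetherian ring, I ≤ J radical
ideals and Â the J-adic completion of A. If J^n Â ⊆ I Â for some n, then the closed set V(J) is open
inside V(I) ⊆ Spec A. (Globally: if X₂ ⊆ X₁ are the completions of a locally Noetherian scheme along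
nested closed subsets Z₂ ⊆ Z₁ and the ideal of Z₁ generates an ideal of definition of X₂, then X₂ is
a union of connected components of X₁.) -/
theorem result (A : Type u) [CommRing A] [IsNoetherianRing A]
    (I J : Ideal A) (hIJ : I ≤ J) (hI : I.IsRadical) (hJ : J.IsRadical) (n : ℕ)
    (h : (J ^ n).map (algebraMap A (AdicCompletion J A)) ≤ I.map (algebraMap A (AdicCompletion J A))) :
    IsOpen ((fun x : PrimeSpectrum.zeroLocus (I : Set A) => (x : PrimeSpectrum A)) ⁻¹'
      PrimeSpectrum.zeroLocus (J : Set A)) := by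
  classical
  -- replace `n` by `m = n + 1 ≥ 1`
  obtain ⟨m, hm1, h'⟩ : ∃ m : ℕ, 1 ≤ m ∧
      (J ^ m).map (algebraMap A (AdicCompletion J A)) ≤ I.map (algebraMap A (AdicCompletion J A)) :=
    ⟨n + 1, Nat.le_add_left 1 n, (Ideal.map_mono (Ideal.pow_le_pow_right (Nat.le_succ n))).trans h⟩
  clear h
  -- Step 1: `J ^ m ≤ I ⊔ J ^ (m + 1)`, by evaluating in `A ⧸ J ^ (m + 1)`.
  have key : J ^ m ≤ I ⊔ J ^ (m + 1) := by
    intro x hx
    have h1 : algebraMap A (AdicCompletion J A) x ∈ I.map (algebraMap A (AdicCompletion J A)) :=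
      h' (Ideal.mem_map_of_mem _ hx)
    have h2 : (AdicCompletion.evalₐ J (m + 1) : AdicCompletion J A →+* A ⧸ J ^ (m + 1))
        (algebraMap A (AdicCompletion J A) x) ∈
        (I.map (algebraMap A (AdicCompletion J A))).map
          (AdicCompletion.evalₐ J (m + 1) : AdicCompletion J A →+* A ⧸ J ^ (m + 1)) :=
      Ideal.mem_map_of_mem _ h1
    rw [Ideal.map_map] at h2
    have h3 : ((AdicCompletion.evalₐ J (m + 1) : AdicCompletion J A →+* A ⧸ J ^ (m + 1)).comp
        (algebraMap A (AdicCompletion J A))) = Ideal.Quotient.mk (J ^ (m + 1)) := by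
      ext a
      simp
    rw [h3] at h2
    have h4 : (AdicCompletion.evalₐ J (m + 1) : AdicCompletion J A →+* A ⧸ J ^ (m + 1))
        (algebraMap A (AdicCompletion J A) x) = Ideal.Quotient.mk (J ^ (m + 1)) x := by
      simp
    rw [h4] at h2
    obtain ⟨y, hy, hxy⟩ := (Ideal.mem_map_iff_of_surjective _ Ideal.Quotient.mk_surjective).1 h2
    have h5 : x - y ∈ J ^ (m + 1) := by
      rw [← Ideal.Quotient.eq]
      exact hxy.symm
    have : x = y + (x - y) := by ring
    rw [this]
    exact Ideal.add_mem _ (Ideal.mem_sup_left hy) (Ideal.mem_sup_right h5)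
  -- Step 2: pass to `B = A ⧸ I`.
  set π : A →+* A ⧸ I := Ideal.Quotient.mk I with hπ
  set Jb : Ideal (A ⧸ I) := J.map π with hJbdef
  have hJb : Jb ^ m = Jb ^ (m + 1) := by
    apply le_antisymm
    · rw [hJbdef, ← Ideal.map_pow, ← Ideal.map_pow]
      calc (J ^ m).map π ≤ (I ⊔ J ^ (m + 1)).map π := Ideal.map_mono key
        _ = I.map π ⊔ (J ^ (m + 1)).map π := Ideal.map_sup _ _ _
        _ = (J ^ (m + 1)).map π := by rw [hπ, Ideal.map_quotient_self, bot_sup_eq]
    · exact Ideal.pow_le_pow_right (Nat.le_succ m)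
  have hstab : ∀ k, Jb ^ (m + k) = Jb ^ m := by
    intro k
    induction k with
    | zero => rfl
    | succ k ih => rw [← add_assoc, pow_succ, ih, ← pow_succ, ← hJb]
  have hidem : IsIdempotentElem (Jb ^ m) := by
    show Jb ^ m * Jb ^ m = Jb ^ m
    rw [← pow_add, hstab]
  obtain ⟨e, he, hspan⟩ :=
    (Ideal.isIdempotentElem_iff_of_fg _ (IsNoetherian.noetherian _)).1 hidem
  obtain ⟨e', rfl⟩ := Ideal.Quotient.mk_surjective e
  -- `e'` lies in `J`
  have he'J : e' ∈ J := by
    have h1 : π e' ∈ Jb ^ m := by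
      rw [hspan]
      exact Ideal.mem_span_singleton_self _
    rw [hJbdef, ← Ideal.map_pow] at h1
    obtain ⟨y, hy, hxy⟩ := (Ideal.mem_map_iff_of_surjective _ Ideal.Quotient.mk_surjective).1 h1
    have h5 : e' - y ∈ I := by
      rw [← Ideal.Quotient.eq]
      exact hxy.symm
    have : e' = y + (e' - y) := by ring
    rw [this]
    exact Ideal.add_mem _ (Ideal.pow_le_self (by omega) hy) (hIJ h5)
  -- `e' * (1 - e')` lies in `I`
  have he'I : e' * (1 - e') ∈ I := by
    rw [← Ideal.Quotient.eq_zero_iff_mem]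
    have : π e' * π e' = π e' := he
    rw [map_mul, map_sub, map_one, mul_sub, mul_one]
    change π e' - π e' * π e' = 0
    rw [this, sub_self]
  -- every element of `J ^ m` is a multiple of `e'` modulo `I`
  have hJm : ∀ x ∈ J ^ m, ∃ a : A, x - a * e' ∈ I := by
    intro x hx
    have h1 : π x ∈ Jb ^ m := by
      rw [hJbdef, ← Ideal.map_pow]
      exact Ideal.mem_map_of_mem _ hx
    rw [hspan, Ideal.mem_span_singleton'] at h1
    obtain ⟨a, ha⟩ := h1
    obtain ⟨a', rfl⟩ := Ideal.Quotient.mk_surjective a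
    refine ⟨a', ?_⟩
    rw [← Ideal.Quotient.eq, map_mul]
    exact ha.symm
  -- Step 3: the preimage is the preimage of the basic open `D(1 - e')`.
  have hset : ((fun x : PrimeSpectrum.zeroLocus (I : Set A) => (x : PrimeSpectrum A)) ⁻¹'
      PrimeSpectrum.zeroLocus (J : Set A)) =
      (fun x : PrimeSpectrum.zeroLocus (I : Set A) => (x : PrimeSpectrum A)) ⁻¹'
        (PrimeSpectrum.basicOpen (1 - e') : Set (PrimeSpectrum A)) := by
    ext ⟨p, hp⟩
    have hpI : I ≤ p.asIdeal := (PrimeSpectrum.mem_zeroLocus _ _).1 hp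
    simp only [Set.mem_preimage, PrimeSpectrum.mem_zeroLocus, SetLike.coe_subset_coe,
      SetLike.mem_coe, PrimeSpectrum.mem_basicOpen]
    constructor
    · intro hJp h1
      have h2 : e' ∈ p.asIdeal := hJp he'J
      have : (1 : A) ∈ p.asIdeal := by
        have := Ideal.add_mem _ h1 h2
        simpa using this
      exact p.isPrime.ne_top ((Ideal.eq_top_iff_one _).2 this)
    · intro h1
      have h2 : e' ∈ p.asIdeal := by
        rcases p.isPrime.mem_or_mem (hpI he'I) with h | h
        · exact h
        · exact absurd h h1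
      have h3 : J ^ m ≤ p.asIdeal := by
        intro x hx
        obtain ⟨a, ha⟩ := hJm x hx
        have : x = (x - a * e') + a * e' := by ring
        rw [this]
        exact Ideal.add_mem _ (hpI ha) (Ideal.mul_mem_left _ _ h2)
      exact p.isPrime.le_of_pow_le h3
  rw [hset]
  exact (PrimeSpectrum.basicOpen (1 - e')).isOpen.preimage continuous_subtype_val

end Groth.Agent.S17065
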