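import Groth.Statements.S17078
import Mathlib
-- import your own Groth.Agent.* helpers here

set_option autoImplicit false
universe u
open RatCurve

namespace Groth.Agent.S17078

variable {k : Type u} [Field k]

lemma natDegree_D_le {F : MvPolynomial (Fin 2) k} {d : ℕ} (hF : F.IsHomogeneous d) :
    (MvPolynomial.aeval ![(Polynomial.X : Polynomial k), 1] F).natDegree ≤ d := by
  rw [F.as_sum, map_sum]
  refine Polynomial.natDegree_sum_le_of_forall_le _ _ (fun s hs => ?_)
  have hs' : Finsupp.weight 1 s = d := hF (by simpa using hs)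
  have hs0 : s 0 ≤ d := by
    rw [← hs']
    simp [Finsupp.weight_apply, Finsupp.sum_fintype, Fin.sum_univ_two]
  rw [MvPolynomial.aeval_monomial, Finsupp.prod_fintype _ _ (by simp), Fin.prod_univ_two]
  simp only [Matrix.cons_val_zero, Matrix.cons_val_one, one_pow, mul_one]
  rw [← Polynomial.C_eq_algebraMap]
  exact (Polynomial.natDegree_C_mul_X_pow_le _ _).trans hs0

/-- the key: no common root => X 1 ^ (d+e) in the ideal with homogeneous cofactors -/
lemma key [IsAlgClosed k] {n : ℕ} (F : Fin n → MvPolynomial (Fin 2) k)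
    (d : ℕ) (hF : ∀ i, (F i).IsHomogeneous d)
    (h : ¬ ∃ H : MvPolynomial (Fin 2) k, ¬ IsUnit H ∧ ∀ i, H ∣ F i) :
    ∃ (e : ℕ) (G : Fin n → MvPolynomial (Fin 2) k), (∀ i, (G i).IsHomogeneous e) ∧
      (MvPolynomial.X 1 : MvPolynomial (Fin 2) k) ^ (d + e) = ∑ i, F i * G i := by
  classical
  obtain ⟨f, hf⟩ : ∃ f : Fin n → Polynomial k, f = fun i =>
    MvPolynomial.aeval ![(Polynomial.X : Polynomial k), 1] (F i) := ⟨_, rfl⟩
  have hfd : ∀ i, (f i).natDegree ≤ d := fun i => by rw [hf]; exact natDegree_D_le (hF i)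
  have hFf : ∀ i, (f i).homogenize d = F i := fun i =>
    Polynomial.homogenize_eq_of_isHomogeneous (hF i) (by rw [hf])
  by_cases hI : Ideal.span (Set.range f) = ⊤
  · have h1 : (1 : Polynomial k) ∈ Ideal.span (Set.range f) := by rw [hI]; trivial
    obtain ⟨c, hc⟩ := (Ideal.mem_span_range_iff_exists_fun).1 h1
    refine ⟨Finset.univ.sup (fun i => (c i).natDegree), fun i => (c i).homogenize _, 
      fun i => Polynomial.isHomogeneous_homogenize _, ?_⟩
    have hce : ∀ i, (c i).natDegree ≤ Finset.univ.sup (fun i => (c i).natDegree) :=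
      fun i => Finset.le_sup (f := fun i => (c i).natDegree) (Finset.mem_univ i)
    rw [← Polynomial.homogenize_one, ← hc, Polynomial.homogenize_finsetSum]
    refine Finset.sum_congr rfl (fun i _ => ?_)
    rw [← hFf i, ← Polynomial.homogenize_mul _ _ (hfd i) (hce i), mul_comm]
  · exfalso
    apply h
    obtain ⟨g, hg⟩ := IsPrincipalIdealRing.principal (Ideal.span (Set.range f))
    have hgf : ∀ i, g ∣ f i := fun i => by
      have : f i ∈ Ideal.span (Set.range f) := Ideal.subset_span ⟨i, rfl⟩
      rw [hg] at this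
      exact Ideal.mem_span_singleton.1 this
    have hgu : ¬ IsUnit g := fun hu => hI (by
      apply Ideal.eq_top_of_isUnit_mem _ _ hu
      rw [hg]; exact Ideal.mem_span_singleton_self g)
    by_cases hg0 : g = 0
    · refine ⟨MvPolynomial.X 0, ?_, fun i => ?_⟩
      · exact (MvPolynomial.X_prime (R := k) (i := (0 : Fin 2))).not_isUnit
      · have : f i = 0 := by have := hgf i; rw [hg0] at this; exact zero_dvd_iff.1 this
        rw [← hFf i, this, Polynomial.homogenize_zero]
        exact dvd_zero _
    · have hdeg : g.degree ≠ 0 := fun h0 => hgu (Polynomial.isUnit_iff_degree_eq_zero.2 h0)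
      obtain ⟨a, ha⟩ := IsAlgClosed.exists_root g hdeg
      have hag : (Polynomial.X - Polynomial.C a) ∣ g := Polynomial.dvd_iff_isRoot.2 ha
      refine ⟨(Polynomial.X - Polynomial.C a).homogenize 1, ?_, fun i => ?_⟩
      · intro hu
        have := hu.map (MvPolynomial.aeval ![(Polynomial.X : Polynomial k), 1])
        rw [Polynomial.aeval_homogenize_X_one _ (by
          exact (Polynomial.natDegree_X_sub_C_le a))] at this
        exact Polynomial.not_isUnit_X_sub_C a this
      · obtain ⟨q, hq⟩ := hag.trans (hgf i)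
        by_cases hq0 : q = 0
        · rw [← hFf i, hq, hq0, mul_zero, Polynomial.homogenize_zero]
          exact dvd_zero _
        · have hnd : (f i).natDegree = 1 + q.natDegree := by
            rw [hq, Polynomial.natDegree_mul (Polynomial.X_sub_C_ne_zero a) hq0,
              Polynomial.natDegree_X_sub_C]
          have hd1 : d = 1 + (d - 1) := by have := hfd i; omega
          have hqd : q.natDegree ≤ d - 1 := by have := hfd i; omega
          rw [← hFf i, hq, hd1, Polynomial.homogenize_mul _ _ (Polynomial.natDegree_X_sub_C_le a) hqd]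
          exact dvd_mul_right _ _


lemma swap_swap (p : MvPolynomial (Fin 2) k) :
    MvPolynomial.rename (Equiv.swap (0 : Fin 2) 1) (MvPolynomial.rename (Equiv.swap (0 : Fin 2) 1) p) = p := by
  rw [MvPolynomial.rename_rename]
  have : (⇑(Equiv.swap (0 : Fin 2) 1) ∘ ⇑(Equiv.swap (0 : Fin 2) 1)) = id := by
    funext x; simp
  rw [this, MvPolynomial.rename_id_apply]

lemma key0 [IsAlgClosed k] {n : ℕ} (F : Fin n → MvPolynomial (Fin 2) k)
    (d : ℕ) (hF : ∀ i, (F i).IsHomogeneous d)
    (h : ¬ ∃ H : MvPolynomial (Fin 2) k, ¬ IsUnit H ∧ ∀ i, H ∣ F i) :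
    ∃ (e : ℕ) (G : Fin n → MvPolynomial (Fin 2) k), (∀ i, (G i).IsHomogeneous e) ∧
      (MvPolynomial.X 0 : MvPolynomial (Fin 2) k) ^ (d + e) = ∑ i, F i * G i := by
  have h' : ¬ ∃ H : MvPolynomial (Fin 2) k, ¬ IsUnit H ∧
      ∀ i, H ∣ MvPolynomial.rename (Equiv.swap (0 : Fin 2) 1) (F i) := by
    rintro ⟨H, hHu, hH⟩
    refine h ⟨MvPolynomial.rename (Equiv.swap (0 : Fin 2) 1) H, fun hu => hHu ?_, fun i => ?_⟩
    · have := hu.map (MvPolynomial.rename (Equiv.swap (0 : Fin 2) 1))
      rwa [swap_swap] at this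
    · have := map_dvd (MvPolynomial.rename (Equiv.swap (0 : Fin 2) 1)) (hH i)
      rwa [swap_swap] at this
  obtain ⟨e, G, hG, hsum⟩ := key (fun i => MvPolynomial.rename (Equiv.swap (0 : Fin 2) 1) (F i)) d
    (fun i => (hF i).rename_isHomogeneous) h'
  refine ⟨e, fun i => MvPolynomial.rename (Equiv.swap (0 : Fin 2) 1) (G i),
    fun i => (hG i).rename_isHomogeneous, ?_⟩
  have := congrArg (MvPolynomial.rename (Equiv.swap (0 : Fin 2) 1)) hsum
  rw [map_pow, MvPolynomial.rename_X, map_sum] at this
  simp only [map_mul, swap_swap] at this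
  simpa using this


/-- Let k be an algebraically closed field and F_0, …, F_{n-1} homogeneous polynomials of degree d in
k[u, v]. Then the F_i have no common factor other than units if and only if there is an integer m ≥
d such that every homogeneous polynomial of degree m can be written Σ_i F_i G_i with each G_i
homogeneous of degree m − d, i.e. the k-linear map (G_i)_i ↦ Σ_i F_i G_i from n copies of k[u,
v]_{m−d} to k[u, v]_m is surjective. -/
theorem result
    {k : Type u} [Field k] [IsAlgClosed k] {n : ℕ} (F : Fin n → MvPolynomial (Fin 2) k)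
    (d : ℕ) (hF : ∀ i, (F i).IsHomogeneous d) :
    (¬ ∃ H : MvPolynomial (Fin 2) k, ¬ IsUnit H ∧ ∀ i, H ∣ F i) ↔
      ∃ m : ℕ, d ≤ m ∧ ∀ P : MvPolynomial (Fin 2) k, P.IsHomogeneous m →
        ∃ G : Fin n → MvPolynomial (Fin 2) k, (∀ i, (G i).IsHomogeneous (m - d)) ∧
          P = ∑ i, F i * G i := by
  constructor
  · intro h
    obtain ⟨e, G, hG, hsum⟩ := key F d hF h
    obtain ⟨e', G', hG', hsum'⟩ := key0 F d hF h
    refine ⟨(d + e) + (d + e'), by omega, fun P hP => ?_⟩
    rw [P.as_sum]
    refine Finset.sum_induction _ (fun Q => ∃ G : Fin n → MvPolynomial (Fin 2) k,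
      (∀ i, (G i).IsHomogeneous ((d + e) + (d + e') - d)) ∧ Q = ∑ i, F i * G i) ?_ ?_ ?_
    · rintro a b ⟨Ga, hGa, rfl⟩ ⟨Gb, hGb, rfl⟩
      refine ⟨fun i => Ga i + Gb i, fun i => (hGa i).add (hGb i), ?_⟩
      rw [← Finset.sum_add_distrib]
      exact Finset.sum_congr rfl (fun i _ => by ring)
    · exact ⟨fun _ => 0, fun i => MvPolynomial.isHomogeneous_zero _ _ _, by simp⟩
    · intro s hs
      have hs' : Finsupp.weight 1 s = (d + e) + (d + e') := hP (by simpa using hs)
      have hs01 : s 0 + s 1 = (d + e) + (d + e') := by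
        rw [← hs']
        simp [Finsupp.weight_apply, Finsupp.sum_fintype, Fin.sum_univ_two]
      have hmon : MvPolynomial.monomial s (MvPolynomial.coeff s P) =
          MvPolynomial.C (MvPolynomial.coeff s P) * MvPolynomial.X 0 ^ (s 0) * MvPolynomial.X 1 ^ (s 1) := by
        rw [MvPolynomial.monomial_eq, Finsupp.prod_fintype _ _ (by simp), Fin.prod_univ_two, mul_assoc]
      rw [hmon]
      by_cases hcase : d + e ≤ s 1
      · refine ⟨fun i => G i * (MvPolynomial.C (MvPolynomial.coeff s P) * MvPolynomial.X 0 ^ (s 0) *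
          MvPolynomial.X 1 ^ (s 1 - (d + e))), fun i => ?_, ?_⟩
        · have : (d + e) + (d + e') - d = e + (0 + s 0 + (s 1 - (d + e))) := by omega
          rw [this]
          exact (hG i).mul (((MvPolynomial.isHomogeneous_C _ _).mul
            (MvPolynomial.isHomogeneous_X_pow _ _)).mul (MvPolynomial.isHomogeneous_X_pow _ _))
        · have : ∑ i, F i * (G i * (MvPolynomial.C (MvPolynomial.coeff s P) * MvPolynomial.X 0 ^ (s 0) *
              MvPolynomial.X 1 ^ (s 1 - (d + e)))) = (∑ i, F i * G i) *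
              (MvPolynomial.C (MvPolynomial.coeff s P) * MvPolynomial.X 0 ^ (s 0) *
              MvPolynomial.X 1 ^ (s 1 - (d + e))) := by
            rw [Finset.sum_mul]
            exact Finset.sum_congr rfl (fun i _ => by ring)
          rw [this, ← hsum]
          have h1 : s 1 = (s 1 - (d + e)) + (d + e) := by omega
          conv_lhs => rw [h1, pow_add]
          ring
      · have hcase' : d + e' ≤ s 0 := by omega
        refine ⟨fun i => G' i * (MvPolynomial.C (MvPolynomial.coeff s P) * MvPolynomial.X 0 ^ (s 0 - (d + e')) *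
          MvPolynomial.X 1 ^ (s 1)), fun i => ?_, ?_⟩
        · have : (d + e) + (d + e') - d = e' + (0 + (s 0 - (d + e')) + s 1) := by omega
          rw [this]
          exact (hG' i).mul (((MvPolynomial.isHomogeneous_C _ _).mul
            (MvPolynomial.isHomogeneous_X_pow _ _)).mul (MvPolynomial.isHomogeneous_X_pow _ _))
        · have : ∑ i, F i * (G' i * (MvPolynomial.C (MvPolynomial.coeff s P) * MvPolynomial.X 0 ^ (s 0 - (d + e')) *
              MvPolynomial.X 1 ^ (s 1))) = (∑ i, F i * G' i) *
              (MvPolynomial.C (MvPolynomial.coeff s P) * MvPolynomial.X 0 ^ (s 0 - (d + e')) *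
              MvPolynomial.X 1 ^ (s 1)) := by
            rw [Finset.sum_mul]
            exact Finset.sum_congr rfl (fun i _ => by ring)
          rw [this, ← hsum']
          have h1 : s 0 = (s 0 - (d + e')) + (d + e') := by omega
          conv_lhs => rw [h1, pow_add]
          ring
  · rintro ⟨m, hdm, hm⟩ ⟨H, hHu, hH⟩
    apply hHu
    have hdiv : ∀ P : MvPolynomial (Fin 2) k, P.IsHomogeneous m → H ∣ P := by
      intro P hP
      obtain ⟨G, -, rfl⟩ := hm P hP
      exact Finset.dvd_sum (fun i _ => (hH i).mul_right _)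
    have h0 : H ∣ (MvPolynomial.X 0 : MvPolynomial (Fin 2) k) ^ m :=
      hdiv _ (MvPolynomial.isHomogeneous_X_pow _ _)
    have h1 : H ∣ (MvPolynomial.X 1 : MvPolynomial (Fin 2) k) ^ m :=
      hdiv _ (MvPolynomial.isHomogeneous_X_pow _ _)
    have hrel : IsRelPrime ((MvPolynomial.X 0 : MvPolynomial (Fin 2) k)) (MvPolynomial.X 1) := by
      rw [(MvPolynomial.X_prime (R := k) (i := (0 : Fin 2))).irreducible.isRelPrime_iff_not_dvd]
      intro hdvd
      obtain ⟨q, hq⟩ := hdvd
      have := congrArg (MvPolynomial.eval ![(0 : k), 1]) hq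
      simp at this
    exact (hrel.pow (m := m) (n := m)) h0 h1

end Groth.Agent.S17078
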