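import Groth.Statements.S17077
import Mathlib
import Groth.Agent.S17078
-- import your own Groth.Agent.* helpers here

set_option autoImplicit false
universe u
open RatCurve

namespace Groth.Agent.S17077

open Groth.Agent.S17078

variable {k : Type u} [Field k]

lemma exists_of_zero1 {n : ℕ} (F : Fin n → MvPolynomial (Fin 2) k)
    (d : Fin n → ℕ) (hF : ∀ i, (F i).IsHomogeneous (d i)) (a : Fin 2 → k) (ha : a 1 ≠ 0)
    (h0 : ∀ i, MvPolynomial.eval a (F i) = 0) :
    ∃ H : MvPolynomial (Fin 2) k, ¬ IsUnit H ∧ ∀ i, H ∣ F i := by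
  refine ⟨(Polynomial.X - Polynomial.C (a 0 / a 1)).homogenize 1, ?_, fun i => ?_⟩
  · intro hu
    have := hu.map (MvPolynomial.aeval ![(Polynomial.X : Polynomial k), 1])
    rw [Polynomial.aeval_homogenize_X_one _ (by
      exact (Polynomial.natDegree_X_sub_C_le (a 0 / a 1)))] at this
    exact Polynomial.not_isUnit_X_sub_C _ this
  · obtain ⟨f, hf⟩ : ∃ f : Polynomial k, f =
      MvPolynomial.aeval ![(Polynomial.X : Polynomial k), 1] (F i) := ⟨_, rfl⟩
    have hfd : f.natDegree ≤ d i := by rw [hf]; exact natDegree_D_le (hF i)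
    have hFf : f.homogenize (d i) = F i :=
      Polynomial.homogenize_eq_of_isHomogeneous (hF i) hf.symm
    have hroot : f.IsRoot (a 0 / a 1) := by
      have := h0 i
      rw [← hFf, Polynomial.eval_homogenize hfd a ha] at this
      rcases mul_eq_zero.1 this with h | h
      · exact h
      · exact absurd h (pow_ne_zero _ ha)
    obtain ⟨q, hq⟩ := Polynomial.dvd_iff_isRoot.2 hroot
    by_cases hq0 : q = 0
    · rw [← hFf, hq, hq0, mul_zero, Polynomial.homogenize_zero]
      exact dvd_zero _
    · have hnd : f.natDegree = 1 + q.natDegree := by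
        rw [hq, Polynomial.natDegree_mul (Polynomial.X_sub_C_ne_zero _) hq0,
          Polynomial.natDegree_X_sub_C]
      have hd1 : d i = 1 + (d i - 1) := by omega
      have hqd : q.natDegree ≤ d i - 1 := by omega
      rw [← hFf, hq, hd1, Polynomial.homogenize_mul _ _ (Polynomial.natDegree_X_sub_C_le (a 0 / a 1)) hqd]
      exact dvd_mul_right _ _

/-- Let k be an algebraically closed field and F_0, …, F_{n-1} homogeneous polynomials in k[u, v] (of
possibly different degrees). Then the F_i have a common factor which is not a unit if and only if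
they have a common zero (a, b) ≠ (0, 0) in k², that is, a common zero in the projective line. -/
theorem result
    {k : Type u} [Field k] [IsAlgClosed k] {n : ℕ} (F : Fin n → MvPolynomial (Fin 2) k)
    (d : Fin n → ℕ) (hF : ∀ i, (F i).IsHomogeneous (d i)) :
    (∃ H : MvPolynomial (Fin 2) k, ¬ IsUnit H ∧ ∀ i, H ∣ F i) ↔
      ∃ a : Fin 2 → k, a ≠ 0 ∧ ∀ i, MvPolynomial.eval a (F i) = 0 := by
  constructor
  · rintro ⟨H, hHu, hH⟩
    by_contra hno
    push Not at hno
    apply hHu
    -- zero locus of H inside {0}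
    have hz : ∀ x : Fin 2 → k, MvPolynomial.eval x H = 0 → x = 0 := by
      intro x hx
      by_contra hx0
      obtain ⟨i, hi⟩ := hno x hx0
      obtain ⟨Q, hQ⟩ := hH i
      exact hi (by rw [hQ, map_mul, hx, zero_mul])
    have hmem : ∀ j : Fin 2, (MvPolynomial.X j : MvPolynomial (Fin 2) k) ∈
        (Ideal.span {H}).radical := by
      intro j
      rw [← MvPolynomial.vanishingIdeal_zeroLocus_eq_radical (K := k)]
      rw [MvPolynomial.mem_vanishingIdeal_iff]
      intro x hx
      have hx' : MvPolynomial.eval x H = 0 := by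
        have := hx H (Ideal.mem_span_singleton_self H)
        rwa [MvPolynomial.aeval_eq_eval] at this
      rw [hz x hx']
      simp
    obtain ⟨N0, hN0⟩ := hmem 0
    obtain ⟨N1, hN1⟩ := hmem 1
    have h0 : H ∣ (MvPolynomial.X 0 : MvPolynomial (Fin 2) k) ^ N0 := Ideal.mem_span_singleton.1 hN0
    have h1 : H ∣ (MvPolynomial.X 1 : MvPolynomial (Fin 2) k) ^ N1 := Ideal.mem_span_singleton.1 hN1
    have hrel : IsRelPrime ((MvPolynomial.X 0 : MvPolynomial (Fin 2) k)) (MvPolynomial.X 1) := by
      rw [(MvPolynomial.X_prime (R := k) (i := (0 : Fin 2))).irreducible.isRelPrime_iff_not_dvd]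
      intro hdvd
      obtain ⟨q, hq⟩ := hdvd
      have := congrArg (MvPolynomial.eval ![(0 : k), 1]) hq
      simp at this
    exact (hrel.pow (m := N0) (n := N1)) h0 h1
  · rintro ⟨a, ha, h0⟩
    by_cases ha1 : a 1 ≠ 0
    · exact exists_of_zero1 F d hF a ha1 h0
    · push Not at ha1
      have ha0 : a 0 ≠ 0 := by
        intro h
        apply ha
        funext j
        fin_cases j
        · exact h
        · exact ha1
      obtain ⟨H, hHu, hH⟩ := exists_of_zero1
        (fun i => MvPolynomial.rename (Equiv.swap (0 : Fin 2) 1) (F i)) d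
        (fun i => (hF i).rename_isHomogeneous) (a ∘ (Equiv.swap (0 : Fin 2) 1))
        (by simpa using ha0)
        (fun i => by
          rw [MvPolynomial.eval_rename]
          have : (a ∘ ⇑(Equiv.swap (0 : Fin 2) 1)) ∘ ⇑(Equiv.swap (0 : Fin 2) 1) = a := by
            funext x; simp
          rw [this]; exact h0 i)
      refine ⟨MvPolynomial.rename (Equiv.swap (0 : Fin 2) 1) H, fun hu => hHu ?_, fun i => ?_⟩
      · have := hu.map (MvPolynomial.rename (Equiv.swap (0 : Fin 2) 1))
        rwa [swap_swap] at this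
      · have := map_dvd (MvPolynomial.rename (Equiv.swap (0 : Fin 2) 1)) (hH i)
        rwa [swap_swap] at this

end Groth.Agent.S17077
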