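import Groth.Statements.S17079
import Mathlib
-- import your own Groth.Agent.* helpers here

set_option autoImplicit false
universe u
open CategoryTheory CategoryTheory.Limits AlgebraicGeometry
open MorSch

namespace Groth.Agent.S17079

section PRE
open CategoryTheory CategoryTheory.Limits AlgebraicGeometry
set_option backward.isDefEq.respectTransparency false
set_option backward.isDefEq.respectTransparency.types false

section general
variable {C : Type (u+1)} [Category.{u} C] [HasPullbacks C]
variable {X S S' T : C} (gX : X ⟶ S) (h : S' ⟶ S) (t : T ⟶ S')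

/-- `T ×_{S'} (X ×_S S') ≅ T ×_S X`. -/
noncomputable def bcIso : pullback t (pullback.snd gX h) ≅ pullback (t ≫ h) gX where
  hom := pullback.lift (pullback.fst t (pullback.snd gX h))
    (pullback.snd t (pullback.snd gX h) ≫ pullback.fst gX h) (by
      rw [Category.assoc, pullback.condition, ← pullback.condition_assoc])
  inv := pullback.lift (pullback.fst _ _)
    (pullback.lift (pullback.snd _ _) (pullback.fst _ _ ≫ t) (by
      rw [← pullback.condition, Category.assoc])) (by simp)
  hom_inv_id := by
    apply pullback.hom_ext
    · simp
    · apply pullback.hom_ext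
      · simp
      · simp [pullback.condition]
  inv_hom_id := by
    apply pullback.hom_ext <;> simp

@[reassoc (attr := simp)]
lemma bcIso_hom_fst : (bcIso gX h t).hom ≫ pullback.fst _ _ = pullback.fst _ _ := by simp [bcIso]

@[reassoc (attr := simp)]
lemma bcIso_hom_snd : (bcIso gX h t).hom ≫ pullback.snd _ _ =
    pullback.snd _ _ ≫ pullback.fst gX h := by simp [bcIso]

end general

variable {X Y S S' : Scheme.{u}} (gX : X ⟶ S) (gY : Y ⟶ S) (h : S' ⟶ S)

/-- Beck–Chevalley comparison on objects. -/
noncomputable def bcObj (T' : Over S') :
    (Over.map h).obj ((Over.map (pullback.snd gX h)).obj ((Over.pullback (pullback.snd gX h)).obj T')) ≅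
      (Over.map gX).obj ((Over.pullback gX).obj ((Over.map h).obj T')) :=
  Over.isoMk (bcIso gX h T'.hom) (by
    change (bcIso gX h T'.hom).hom ≫ (pullback.snd _ _ ≫ gX) =
      (pullback.snd _ _ ≫ pullback.snd gX h) ≫ h
    rw [bcIso_hom_snd_assoc, Category.assoc, pullback.condition])

lemma bcObj_hom_left (T' : Over S') : (bcObj gX h T').hom.left = (bcIso gX h T'.hom).hom := rfl

lemma bcObj_natural {T₁ T₂ : Over S'} (φ : T₁ ⟶ T₂) :
    (bcObj gX h T₁).hom ≫ (Over.map gX).map ((Over.pullback gX).map ((Over.map h).map φ)) =
      (Over.map h).map ((Over.map (pullback.snd gX h)).map ((Over.pullback (pullback.snd gX h)).map φ)) ≫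
        (bcObj gX h T₂).hom := by
  ext
  change (bcIso gX h T₁.hom).hom ≫ pullback.lift (pullback.fst _ _ ≫ φ.left) (pullback.snd _ _) _ =
    pullback.lift (pullback.fst _ _ ≫ φ.left) (pullback.snd _ _) _ ≫ (bcIso gX h T₂.hom).hom
  apply pullback.hom_ext
  · simp
  · simp

/-- Comparison of sections. -/
noncomputable def comparison (T' : Over S') :
    (Flatn.morS gX gY).obj (Opposite.op ((Over.map h).obj T')) ≃
      (Flatn.morS (pullback.snd gX h) (pullback.snd gY h)).obj (Opposite.op T') :=
  ((bcObj gX h T').symm.homFromEquiv (Z := Over.mk gY)).trans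
    ((Over.mapPullbackAdj h).homEquiv
      ((Over.map (pullback.snd gX h)).obj ((Over.pullback (pullback.snd gX h)).obj T')) (Over.mk gY))

lemma comparison_natural {T₁ T₂ : Over S'} (φ : T₁ ⟶ T₂)
    (b : (Flatn.morS gX gY).obj (Opposite.op ((Over.map h).obj T₂))) :
    comparison gX gY h T₁ ((Flatn.morS gX gY).map ((Over.map h).map φ).op b) =
      (Flatn.morS (pullback.snd gX h) (pullback.snd gY h)).map φ.op (comparison gX gY h T₂ b) := by
  rw [Flatn.morS_map, Flatn.morS_map]
  change (Over.mapPullbackAdj h).homEquiv _ _ ((bcObj gX h T₁).hom ≫ _ ≫ b) =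
    _ ≫ (Over.mapPullbackAdj h).homEquiv _ _ ((bcObj gX h T₂).hom ≫ b)
  rw [← Category.assoc, bcObj_natural, Category.assoc, Adjunction.homEquiv_naturality_left]

/-- The representing structure on the base change. -/
noncomputable def repr (M : Over S) (e : (Flatn.morS gX gY).RepresentableBy M) :
    (Flatn.morS (pullback.snd gX h) (pullback.snd gY h)).RepresentableBy
      (Over.mk (pullback.snd M.hom h)) where
  homEquiv {T'} := ((Over.mapPullbackAdj h).homEquiv T' M).symm.trans
    (e.homEquiv.trans (comparison gX gY h T'))
  homEquiv_comp {T₁ T₂} φ g := by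
    simp only [Equiv.trans_apply]
    rw [← comparison_natural, ← e.homEquiv_comp]
    congr 2

end PRE

/-- Let gX : X → S and gY : Y → S be morphisms and suppose the functor Mor_S(X, Y) — sending an S-scheme
T to the set of S-morphisms T ×_S X → Y, with base change as transition maps — is represented by an
S-scheme M. Then for every morphism h : S' → S the functor Mor_{S'}(X ×_S S', Y ×_S S') on
S'-schemes is represented by M ×_S S'. (The published statement assumes X and Y projective over S
with X flat and S, S' locally Noetherian; this row assumes only that the functor is represented by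
M. Only the existence of a representing structure on M ×_S S' is asserted, not its compatibility
with the one on M.) -/
theorem result
    {X Y S S' : Scheme.{u}} (gX : X ⟶ S) (gY : Y ⟶ S) (h : S' ⟶ S)
    (M : Over S) (e : (Flatn.morS gX gY).RepresentableBy M) :
    Nonempty ((Flatn.morS (pullback.snd gX h) (pullback.snd gY h)).RepresentableBy
      (Over.mk (pullback.snd M.hom h))) := by
  exact ⟨repr gX gY h M e⟩

end Groth.Agent.S17079
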