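import Groth.Statements.S17084
import Mathlib.CategoryTheory.Extensive
import Mathlib.AlgebraicGeometry.Limits

set_option autoImplicit false
universe u
open CategoryTheory CategoryTheory.Limits AlgebraicGeometry
open MorSch

namespace Groth.Agent.S17084

/-- the base-changed inclusion `T ×_S X_i ⟶ T ×_S ∐ X`. -/
noncomputable abbrev incl {S : Scheme.{u}} {ι : Type u} [Finite ι] (X : ι → Scheme.{u}) (g : ∀ i, X i ⟶ S)
    (T : Over S) (i : ι) : pullback T.hom (g i) ⟶ pullback T.hom (Sigma.desc g) :=
  pullback.map T.hom (g i) T.hom (Sigma.desc g) (𝟙 T.left) (Sigma.ι X i) (𝟙 S)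
    ((Category.comp_id _).trans (Category.id_comp _).symm)
    ((Category.comp_id _).trans (Sigma.ι_desc g i).symm)

lemma isPullback_incl {S : Scheme.{u}} {ι : Type u} [Finite ι] (X : ι → Scheme.{u}) (g : ∀ i, X i ⟶ S)
    (T : Over S) (i : ι) :
    IsPullback (incl X g T i) (pullback.snd T.hom (g i)) (pullback.snd T.hom (Sigma.desc g))
      (Sigma.ι X i) := by
  have hright : IsPullback (pullback.snd T.hom (Sigma.desc g)) (pullback.fst T.hom (Sigma.desc g))
      (Sigma.desc g) T.hom := (IsPullback.of_hasPullback T.hom (Sigma.desc g)).flip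
  have houter : IsPullback (pullback.snd T.hom (g i)) (incl X g T i ≫ pullback.fst T.hom (Sigma.desc g))
      (Sigma.ι X i ≫ Sigma.desc g) T.hom := by
    have h1 : incl X g T i ≫ pullback.fst T.hom (Sigma.desc g) = pullback.fst T.hom (g i) := by
      unfold incl pullback.map
      rw [pullback.lift_fst, Category.comp_id]
    have h2 : Sigma.ι X i ≫ Sigma.desc g = g i := Sigma.ι_desc g i
    rw [h1, h2]
    exact (IsPullback.of_hasPullback T.hom (g i)).flip
  have := IsPullback.of_bot houter (by unfold incl pullback.map; rw [pullback.lift_snd]) hright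
  exact this.flip

noncomputable def cofanIncl {S : Scheme.{u}} {ι : Type u} [Finite ι] (X : ι → Scheme.{u})
    (g : ∀ i, X i ⟶ S) (T : Over S) : Cofan (fun i => pullback T.hom (g i)) :=
  Cofan.mk (pullback T.hom (Sigma.desc g)) (incl X g T)

lemma isColimit_cofanIncl {S : Scheme.{u}} {ι : Type u} [Finite ι] (X : ι → Scheme.{u})
    (g : ∀ i, X i ⟶ S) (T : Over S) : Nonempty (IsColimit (cofanIncl X g T)) := by
  have huniv : IsUniversalColimit (Cofan.mk (∐ X) (Sigma.ι X)) :=
    FinitaryPreExtensive.isUniversal_finiteCoproducts (coproductIsCoproduct X)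
  refine huniv (cofanIncl X g T) (Discrete.natTrans fun i => pullback.snd T.hom (g i.as))
    (pullback.snd T.hom (Sigma.desc g)) ?_ (NatTrans.Equifibered.of_discrete _) ?_
  · ext ⟨i⟩
    simp only [cofanIncl, NatTrans.comp_app, Discrete.natTrans_app, Cofan.mk_ι_app,
      Functor.const_obj_obj, Functor.const_map_app]
    unfold incl pullback.map
    rw [pullback.lift_snd]
  · rintro ⟨i⟩
    exact isPullback_incl X g T i

lemma existsUnique_desc {S : Scheme.{u}} {ι : Type u} [Finite ι] (X : ι → Scheme.{u})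
    (g : ∀ i, X i ⟶ S) (T : Over S) {W : Scheme.{u}} (φ : ∀ i, pullback T.hom (g i) ⟶ W) :
    ∃! ψ : pullback T.hom (Sigma.desc g) ⟶ W, ∀ i, incl X g T i ≫ ψ = φ i := by
  obtain ⟨hc⟩ := isColimit_cofanIncl X g T
  refine ⟨Cofan.IsColimit.desc hc φ, fun i => Cofan.IsColimit.fac hc φ i, ?_⟩
  intro ψ hψ
  refine Cofan.IsColimit.hom_ext hc _ _ (fun i => ?_)
  exact (hψ i).trans (Cofan.IsColimit.fac hc φ i).symm

/-- read a section of `morS` as an `Over`-morphism. -/
def toHom {S Z Y : Scheme.{u}} {g : Z ⟶ S} {gY : Y ⟶ S} {T : Over S}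
    (a : (Flatn.morS g gY).obj (Opposite.op T)) :
    (Over.map g).obj ((Over.pullback g).obj T) ⟶ Over.mk gY := a


/-- Let (X_i)_{i ∈ ι} be a finite family of schemes over S with structure morphisms g_i : X_i → S, let Y
→ S be a scheme over S and T an S-scheme. Then for every family of S-morphisms a_i : T ×_S X_i → Y
there is a unique S-morphism b : T ×_S (∐_i X_i) → Y whose restriction along each T ×_S X_i → T ×_S
(∐_i X_i) is a_i. In other words the canonical map Mor_S(∐_i X_i, Y) → ∏_i Mor_S(X_i, Y) of functors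
on S-schemes is an isomorphism. -/
theorem result
    {S Y : Scheme.{u}} {ι : Type u} [Finite ι] (X : ι → Scheme.{u}) (g : ∀ i, X i ⟶ S)
    (gY : Y ⟶ S) (T : Over S) (a : ∀ i, (Flatn.morS (g i) gY).obj (Opposite.op T)) :
    ∃! b : (Flatn.morS (Sigma.desc g) gY).obj (Opposite.op T),
      ∀ i, pullback.map T.hom (g i) T.hom (Sigma.desc g) (𝟙 T.left) (Sigma.ι X i) (𝟙 S)
          ((Category.comp_id _).trans (Category.id_comp _).symm)
          ((Category.comp_id _).trans (Sigma.ι_desc g i).symm) ≫ b.left = (a i).left := by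
  obtain ⟨D, hD, hDuniq⟩ := existsUnique_desc X g T (fun i => (toHom (a i)).left)
  have hwb : D ≫ gY = pullback.snd T.hom (Sigma.desc g) ≫ Sigma.desc g := by
    obtain ⟨E, hE, hEuniq⟩ := existsUnique_desc X g T (fun i => (toHom (a i)).left ≫ gY)
    have h1 : D ≫ gY = E := hEuniq _ (fun i => by rw [← Category.assoc, hD i])
    have h2 : pullback.snd T.hom (Sigma.desc g) ≫ Sigma.desc g = E := by
      apply hEuniq
      intro i
      have hw : (toHom (a i)).left ≫ gY = pullback.snd T.hom (g i) ≫ g i := Over.w (toHom (a i))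
      rw [hw]
      unfold incl pullback.map
      rw [pullback.lift_snd_assoc, Category.assoc, Sigma.ι_desc]
    rw [h1, h2]
  let b₀ : (Over.map (Sigma.desc g)).obj ((Over.pullback (Sigma.desc g)).obj T) ⟶ Over.mk gY :=
    Over.homMk D hwb
  refine ⟨b₀, ?_, ?_⟩
  · intro i
    exact hD i
  · intro b hb
    have h1 : (toHom b).left = D := hDuniq _ (fun i => hb i)
    exact Over.OverMorphism.ext (f := toHom b) (g := b₀) h1

end Groth.Agent.S17084
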