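import Groth.Statements.S1710
import Groth.Agent.Lib.BlowUp.Helper18_FlatSub

set_option autoImplicit false
universe u
open CategoryTheory CategoryTheory.Limits AlgebraicGeometry TopologicalSpace
open SDiv

namespace Groth.Agent.S1710

/-- Let f : X ⟶ S be a morphism and 𝓘₁, 𝓘₂ ideal sheaves of effective Cartier divisors D₁ ⊆ D₂ on X,
both flat over S, and let 𝓘 be the ideal sheaf of an effective Cartier divisor D with D₂ = D₁ + D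
(that is, 𝓘₁𝓘 = 𝓘₂). Then D is flat over S as well. -/
theorem result {X S : Scheme.{u}} (f : X ⟶ S) (𝓘₁ 𝓘₂ 𝓘 : X.IdealSheafData)
    (h₁ : (BlowUp.IsEffCartierIdeal 𝓘₁ ∧ Flat (𝓘₁.subschemeι ≫ f))) (h₂ : (BlowUp.IsEffCartierIdeal 𝓘₂ ∧ Flat (𝓘₂.subschemeι ≫ f))) (h : BlowUp.IsEffCartierIdeal 𝓘) (hsum : 𝓘₁ * 𝓘 = 𝓘₂) :
    Flat (𝓘.subschemeι ≫ f) := by
  apply Groth.Agent.Lib.BlowUp.flat_subschemeι_comp_of_forall_exists
  intro x _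
  obtain ⟨U, hU, hfxU, -⟩ :=
    Opens.isBasis_iff_nbhd.1 S.isBasis_affineOpens (Opens.mem_top (f x))
  obtain ⟨V₁, hxV₁, hV₁U, a, ha, hIa⟩ :=
    Groth.Agent.Lib.BlowUp.exists_le_of_isEffCartierIdeal h₁.1 x (f ⁻¹ᵁ U) hfxU
  obtain ⟨V, hxV, hVV₁, c, hc, hJc⟩ :=
    Groth.Agent.Lib.BlowUp.exists_le_of_isEffCartierIdeal h x V₁.1 hxV₁
  refine ⟨⟨U, hU⟩, V, hxV, hVV₁.trans hV₁U, ?_⟩
  let _ : Algebra Γ(S, U) Γ(X, V.1) := (f.appLE U V.1 (hVV₁.trans hV₁U)).hom.toAlgebra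
  have ha' := Groth.Agent.Lib.BlowUp.res_mem_nonZeroDivisors V₁.2 hVV₁ a ha
  have hI₁ : 𝓘₁.ideal V = Ideal.span {X.presheaf.map (homOfLE hVV₁).op a} := by
    have h1 := 𝓘₁.map_ideal (U := V) (V := V₁) hVV₁
    rw [← h1, hIa, Ideal.map_span, Set.image_singleton]
    rfl
  have hmul : 𝓘₂.ideal V = Ideal.span {X.presheaf.map (homOfLE hVV₁).op a * c} := by
    rw [← hsum, Scheme.IdealSheafData.ideal_mul]
    change 𝓘₁.ideal V * 𝓘.ideal V = _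
    rw [hI₁, hJc, Ideal.span_singleton_mul_span_singleton]
  have F1 := Groth.Agent.Lib.BlowUp.flat_quotient_of_flat_subschemeι_comp f 𝓘₁ h₁.2 ⟨U, hU⟩ V
    (hVV₁.trans hV₁U)
  have F2 := Groth.Agent.Lib.BlowUp.flat_quotient_of_flat_subschemeι_comp f 𝓘₂ h₂.2 ⟨U, hU⟩ V
    (hVV₁.trans hV₁U)
  rw [hI₁] at F1
  rw [hmul] at F2
  rw [hJc]
  exact Groth.Agent.Lib.BlowUp.flat_quotient_of_mul _ c ha' F1 F2

end Groth.Agent.S1710
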