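import Groth.Statements.S1712
import Groth.Agent.Lib.Helper14.DualLoc
import Groth.Agent.Lib.Helper29.DepthLoc
import Groth.Agent.Lib.Helper29.CM

set_option autoImplicit false
universe u
open CategoryTheory
attribute [local instance] HasDerivedCategory.standard
open Dual

namespace Groth.Agent.S1712

namespace W1712
open CategoryTheory CategoryTheory.Limits
open Groth.Agent.Lib.Helper12 Groth.Agent.Lib.Helper12.FlatHomBC DRing Pretriangulated
open IsLocalRing Groth.Agent.Lib.Helper29 Groth.Agent.Lib.Helper29.DepthLib Pointwise TensorProduct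
open Groth.Agent.Lib.Helper14.DualCoheight Groth.Agent.Lib.Helper14.DualDelta
open Groth.Agent.Lib.Helper14.DualLower Groth.Agent.Lib.Helper14.DualExtRange
open Groth.Agent.Lib.Helper14.DualLoc
set_option linter.style.haveILetI false

variable {A : Type u} [CommRing A] [IsNoetherianRing A] [IsLocalRing A]

theorem main (ω : Dual.D A) (hω : Dual.IsDualizing A ω) (hn : Dual.IsNormalized A ω)
    (M : Type u) [AddCommGroup M] [Module A M] [Module.Finite A M] (i : ℕ)
    (p : PrimeSpectrum A) :
    (∃ j : ℕ, j ≤ i ∧ p ∈ Module.support A (Dual.inD A M ⟶ ω⟦(-(j : ℤ))⟧)) ↔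
      ((LocCoh.depth (Localization.AtPrime p.asIdeal)
        (LocalizedModule p.asIdeal.primeCompl M) : ℕ∞) : WithBot ℕ∞) +
          ringKrullDim (A ⧸ p.asIdeal) ≤ (i : WithBot ℕ∞) := by
  have hN : IsNoetherianRing (Localization.AtPrime p.asIdeal) :=
    IsLocalization.isNoetherianRing p.asIdeal.primeCompl _ inferInstance
  obtain ⟨e, he⟩ := exists_nat_dim p.asIdeal
  have hdc : LocCoh.depth (Localization.AtPrime p.asIdeal)
      (LocalizedModule p.asIdeal.primeCompl M) =
      LocCoh.depth (Localization.AtPrime p.asIdeal) (Localization.AtPrime p.asIdeal ⊗[A] M) :=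
    Groth.Agent.Lib.Helper29.CMLib.depth_congr (LocalizedModule.equivTensorProduct p.asIdeal.primeCompl M)
  rw [hdc, he]
  rcases subsingleton_or_nontrivial (Localization.AtPrime p.asIdeal ⊗[A] M) with hs | hnt
  · rw [Groth.Agent.Lib.Helper29.DepthLoc.depth_eq_top_of_subsingleton]
    constructor
    · rintro ⟨j, -, hj⟩
      exfalso
      rw [Module.mem_support_iff, ← not_subsingleton_iff_nontrivial,
        subsingleton_loc_iff ω hω p.asIdeal M _] at hj
      apply hj
      have hz : IsZero (Dual.inD (Localization.AtPrime p.asIdeal)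
          (Localization.AtPrime p.asIdeal ⊗[A] M)) :=
        (DerivedCategory.singleFunctor _ 0).map_isZero (ModuleCat.isZero_of_subsingleton _)
      exact ⟨fun f g => hz.eq_of_src f g⟩
    · intro h
      exfalso
      have : ((⊤ : ℕ∞) : WithBot ℕ∞) + ((e : ℕ∞) : WithBot ℕ∞) = ((⊤ : ℕ∞) : WithBot ℕ∞) := by
        rw [← WithBot.coe_add, top_add]
      change ((⊤ : ℕ∞) : WithBot ℕ∞) + ((e : ℕ∞) : WithBot ℕ∞) ≤ ((i : ℕ∞) : WithBot ℕ∞) at h
      rw [this] at h
      have h2 : (⊤ : ℕ∞) ≤ (i : ℕ∞) := by exact_mod_cast h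
      simp at h2
  · obtain ⟨n, hn'⟩ := ENat.ne_top_iff_exists.1
      (depth_ne_top (Localization.AtPrime p.asIdeal) (Localization.AtPrime p.asIdeal ⊗[A] M))
    obtain ⟨h1, h2⟩ := loc_ext ω hω hn p.asIdeal e he M n hn'.symm
    rw [← hn']
    have hiff : (((n : ℕ∞) : WithBot ℕ∞) + ((e : ℕ) : WithBot ℕ∞) ≤ ((i : ℕ) : WithBot ℕ∞)) ↔
        n + e ≤ i := by
      have : ((n : ℕ∞) : WithBot ℕ∞) + ((e : ℕ) : WithBot ℕ∞) = (((n + e : ℕ) : ℕ∞) : WithBot ℕ∞) := by
        push_cast; rfl
      rw [this]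
      change (((n + e : ℕ) : ℕ∞) : WithBot ℕ∞) ≤ (((i : ℕ) : ℕ∞) : WithBot ℕ∞) ↔ _
      rw [WithBot.coe_le_coe, Nat.cast_le]
    rw [hiff]
    constructor
    · rintro ⟨j, hji, hj⟩
      rw [Module.mem_support_iff, ← not_subsingleton_iff_nontrivial] at hj
      by_contra hlt
      exact hj (h1 _ (by omega))
    · intro hle
      refine ⟨e + n, by omega, ?_⟩
      rw [Module.mem_support_iff]
      have : (-((e + n : ℕ) : ℤ)) = -((e : ℤ) + n) := by push_cast; ring
      rw [this]
      exact h2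

end W1712


/-- Let A be a Noetherian local ring with a normalized dualizing complex ω, M a finite A-module and E^j
the A-module of maps M → ω[-j] in D(A). A prime p is in the support of one of E^0, …, E^i if and
only if the depth of M_p over A_p plus the dimension of A/p is at most i. -/
theorem result (A : Type u) [CommRing A] [IsLocalRing A] [IsNoetherianRing A] (ω : Dual.D A) (hω : Dual.IsDualizing A ω) (hn : Dual.IsNormalized A ω) (M : Type u) [AddCommGroup M] [Module A M] [Module.Finite A M] (i : ℕ) (p : PrimeSpectrum A) : (∃ j : ℕ, j ≤ i ∧ p ∈ Module.support A (Dual.inD A M ⟶ ω⟦(-(j : ℤ))⟧)) ↔ ((LocCoh.depth (Localization.AtPrime p.asIdeal) (LocalizedModule p.asIdeal.primeCompl M) : ℕ∞) : WithBot ℕ∞) + ringKrullDim (A ⧸ p.asIdeal) ≤ (i : WithBot ℕ∞) :=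
  W1712.main ω hω hn M i p

end Groth.Agent.S1712
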