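import Groth.Statements.S17142
import Groth.Agent.Lib.Helper85.IsocLattice

set_option autoImplicit false
universe u v
open Isoc

namespace Groth.Agent.S17142

open Groth.Agent.Lib.Helper85.IsocLattice in
/-- comparison of orders relative to two commensurable submodules -/
theorem ord_compare {p : ℕ} [Fact p.Prime] {k : Type u} [Field k] [CharP k p] [PerfectRing k p]
    {N : Type v} [AddCommGroup N] [Module (WittVector p k) N] [Module (FractionRing (WittVector p k)) N]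
    [IsScalarTower (WittVector p k) (FractionRing (WittVector p k)) N]
    {τ : FractionRing (WittVector p k) →+* FractionRing (WittVector p k)} (hτ : PresW τ)
    (F : N →ₛₗ[τ] N) (M₁ M₂ : Submodule (WittVector p k) N) (c : ℕ)
    (h12 : Isoc.pPow (c : ℤ) M₁ ≤ M₂) (h21 : Isoc.pPow (c : ℤ) M₂ ≤ M₁)
    (n : ℕ) (r₁ r₂ : ℤ) (h₁ : Isoc.IsOrd M₁ F n r₁) (h₂ : Isoc.IsOrd M₂ F n r₂) :
    r₁ - 2 * c ≤ r₂ := by
  apply isOrd_le_of_le h₂
  have hM2 : M₂ ≤ Isoc.pPow (-(c : ℤ)) M₁ := by rw [le_pPow_iff, neg_neg]; exact h21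
  calc Isoc.latImg F n M₂ ≤ Isoc.latImg F n (Isoc.pPow (-(c : ℤ)) M₁) := latImg_mono F n hM2
    _ = Isoc.pPow (-(c : ℤ)) (Isoc.latImg F n M₁) := latImg_pPow hτ F n _ M₁
    _ ≤ Isoc.pPow (-(c : ℤ)) (Isoc.pPow r₁ M₁) := pPow_mono _ h₁.1
    _ = Isoc.pPow (r₁ - 2 * c) (Isoc.pPow (c : ℤ) M₁) := by
        rw [← pPow_add, ← pPow_add]; congr 1; ring
    _ ≤ Isoc.pPow (r₁ - 2 * c) M₂ := pPow_mono _ h12

/-- Let k be a perfect field of characteristic p, a ∈ ℤ, W = W(k) with fraction field L, and (N, F) a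
σ^a-F-isocrystal over k (N finite-dimensional over L, F a bijective σ^a-semilinear endomorphism).
Let M₁, M₂ be W-lattices in N and let o₁(n) = ord_{M₁}(F^n), o₂(n) = ord_{M₂}(F^n) for n ≥ 1
(largest r with F^n(M_i) ⊆ p^r M_i). If o₁(n)/n → lam₁ and o₂(n)/n → lam₂ then lam₁ = lam₂; so the
limit defining the first Newton slope is independent of the chosen lattice. -/
theorem result (p : ℕ) [Fact p.Prime] (k : Type u) [Field k] [CharP k p] [PerfectRing k p] (a : ℤ)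
    (N : Type v) [AddCommGroup N] [Module (WittVector p k) N] [Module (FractionRing (WittVector p k)) N]
    [IsScalarTower (WittVector p k) (FractionRing (WittVector p k)) N]
    (F : N →ₛₗ[Isoc.frob p k a] N) (hF : Isoc.IsIsoc F)
    (M₁ M₂ : Submodule (WittVector p k) N) (hM₁ : M₁.IsLattice (FractionRing (WittVector p k))) (hM₂ : M₂.IsLattice (FractionRing (WittVector p k)))
    (o₁ o₂ : ℕ → ℤ) (ho₁ : ∀ n : ℕ, 1 ≤ n → Isoc.IsOrd M₁ F n (o₁ n))
    (ho₂ : ∀ n : ℕ, 1 ≤ n → Isoc.IsOrd M₂ F n (o₂ n)) (lam₁ lam₂ : ℝ)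
    (h₁ : Filter.Tendsto (fun n : ℕ => (o₁ n : ℝ) / n) Filter.atTop (nhds lam₁))
    (h₂ : Filter.Tendsto (fun n : ℕ => (o₂ n : ℝ) / n) Filter.atTop (nhds lam₂)) :
    lam₁ = lam₂ := by
  classical
  have hτ := Groth.Agent.Lib.Helper85.IsocLattice.presW_frob (p := p) (k := k) a
  obtain ⟨c1, hc1⟩ := Groth.Agent.Lib.Helper85.IsocLattice.exists_pPow_le hM₁.fg hM₂.span_eq_top
  obtain ⟨c2, hc2⟩ := Groth.Agent.Lib.Helper85.IsocLattice.exists_pPow_le hM₂.fg hM₁.span_eq_top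
  let c := max c1 c2
  have h12 : Isoc.pPow (c : ℤ) M₁ ≤ M₂ :=
    (Groth.Agent.Lib.Helper85.IsocLattice.pPow_anti (by exact_mod_cast le_max_left c1 c2) M₁).trans hc1
  have h21 : Isoc.pPow (c : ℤ) M₂ ≤ M₁ :=
    (Groth.Agent.Lib.Helper85.IsocLattice.pPow_anti (by exact_mod_cast le_max_right c1 c2) M₂).trans hc2
  have hbound : ∀ n : ℕ, 1 ≤ n → |(o₂ n : ℝ) / n - (o₁ n : ℝ) / n| ≤ 2 * c / n := by
    intro n hn
    have ha := ord_compare hτ F M₁ M₂ c h12 h21 n _ _ (ho₁ n hn) (ho₂ n hn)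
    have hb := ord_compare hτ F M₂ M₁ c h21 h12 n _ _ (ho₂ n hn) (ho₁ n hn)
    have hn' : (0 : ℝ) < n := by exact_mod_cast hn
    rw [← sub_div, abs_div, abs_of_pos hn']
    apply div_le_div_of_nonneg_right _ hn'.le
    rw [abs_le]
    have ha' : (o₁ n : ℝ) - 2 * c ≤ o₂ n := by exact_mod_cast ha
    have hb' : (o₂ n : ℝ) - 2 * c ≤ o₁ n := by exact_mod_cast hb
    constructor <;> linarith
  have hdiff : Filter.Tendsto (fun n : ℕ => (o₂ n : ℝ) / n - (o₁ n : ℝ) / n) Filter.atTop (nhds 0) := by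
    have hz : Filter.Tendsto (fun n : ℕ => 2 * (c : ℝ) / n) Filter.atTop (nhds 0) :=
      tendsto_const_div_atTop_nhds_zero_nat _
    rw [tendsto_zero_iff_abs_tendsto_zero]
    refine tendsto_of_tendsto_of_tendsto_of_le_of_le' tendsto_const_nhds hz ?_ ?_
    · exact Filter.Eventually.of_forall fun n => abs_nonneg _
    · filter_upwards [Filter.eventually_ge_atTop 1] with n hn
      exact hbound n hn
  have h2' : Filter.Tendsto (fun n : ℕ => (o₂ n : ℝ) / n) Filter.atTop (nhds (lam₁ + 0)) := by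
    have := h₁.add hdiff
    refine this.congr fun n => ?_
    ring
  rw [add_zero] at h2'
  exact tendsto_nhds_unique h2' h₂

end Groth.Agent.S17142
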