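import Groth.Statements.S17143
import Groth.Agent.Lib.Helper85.IsocLattice

set_option autoImplicit false
universe u v
open Isoc

namespace Groth.Agent.S17143

/-- Let k be a perfect field of characteristic p, a ∈ ℤ, W = W(k) with fraction field L, and (N, F) a
σ^a-F-isocrystal over k (N finite-dimensional over L, F a bijective σ^a-semilinear endomorphism)
with first Newton slope λ₁(N, F) = lam. Then for m ∈ ℤ and n ∈ ℕ the twisted iterate (N, p^m F^n), a
σ^(an)-F-isocrystal, has first Newton slope n · lam + m. (The published statement allows every n ∈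
ℤ, with F^n the inverse iterate for n < 0; that case is false in general, since the first slope of
(N, F⁻¹) is minus the LARGEST slope of (N, F): for N = N_0 ⊕ N_1, the sum of the standard
isocrystals of slopes 0 and 1, λ₁(N, F) = 0 while λ₁(N, F⁻¹) = −1. Only n ≥ 0 is stated here.) -/
theorem result (p : ℕ) [Fact p.Prime] (k : Type u) [Field k] [CharP k p] [PerfectRing k p] (a : ℤ)
    (N : Type v) [AddCommGroup N] [Module (WittVector p k) N] [Module (FractionRing (WittVector p k)) N]
    [IsScalarTower (WittVector p k) (FractionRing (WittVector p k)) N]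
    (F : N →ₛₗ[Isoc.frob p k a] N) (hF : Isoc.IsIsoc F) (lam : ℝ) (hlam : Isoc.IsFirstSlope F lam) (m : ℤ) (n : ℕ) :
    Isoc.IsFirstSlope ((p : (FractionRing (WittVector p k))) ^ m • Isoc.iter F n) (n * lam + m) := by
  classical
  have hτ := Groth.Agent.Lib.Helper85.IsocLattice.presW_frob (p := p) (k := k) a
  obtain ⟨M, hM, o, ho, hlim⟩ := hlam
  have hM0 : M ≠ ⊥ := Groth.Agent.Lib.Helper85.IsocLattice.ne_bot_of_isOrd (ho 1 le_rfl)
  -- orders for all `t`, including `t = 0`
  let o0 : ℕ → ℤ := fun t => if t = 0 then 0 else o t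
  have ho0 : ∀ t, Isoc.IsOrd M F t (o0 t) := by
    intro t
    by_cases ht : t = 0
    · subst ht
      simp only [o0, if_true]
      exact Groth.Agent.Lib.Helper85.IsocLattice.isOrd_zero' F hM.fg hM0
    · simp only [o0, if_neg ht]
      exact ho t (Nat.one_le_iff_ne_zero.mpr ht)
  refine ⟨M, hM, fun j => o0 (n * j) + m * j, fun j _ => ?_, ?_⟩
  · exact Groth.Agent.Lib.Helper85.IsocLattice.isOrd_twist hτ F m n j M _ (ho0 (n * j))
  · rcases Nat.eq_zero_or_pos n with hn | hn
    · subst hn
      have : (fun j : ℕ => (((o0 (0 * j) + m * j : ℤ)) : ℝ) / j) =ᶠ[Filter.atTop]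
          fun _ => ((0 : ℕ) : ℝ) * lam + m := by
        filter_upwards [Filter.eventually_ge_atTop 1] with j hj
        have hj' : (j : ℝ) ≠ 0 := by
          have : (0 : ℝ) < j := by exact_mod_cast hj
          exact this.ne'
        simp only [zero_mul, o0, if_true]
        push_cast
        field_simp
        ring
      exact (Filter.tendsto_congr' this).2 tendsto_const_nhds
    · have hsub : Filter.Tendsto (fun j : ℕ => n * j) Filter.atTop Filter.atTop := by
        refine Filter.tendsto_atTop_atTop.2 fun b => ⟨b, fun j hj => ?_⟩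
        exact le_trans hj (Nat.le_mul_of_pos_left j hn)
      have h1 := hlim.comp hsub
      have h2 : Filter.Tendsto (fun j : ℕ => (n : ℝ) * ((o (n * j) : ℝ) / ((n * j : ℕ) : ℝ)) + m)
          Filter.atTop (nhds ((n : ℝ) * lam + m)) := (h1.const_mul (n : ℝ)).add_const (m : ℝ)
      refine (Filter.tendsto_congr' ?_).2 h2
      filter_upwards [Filter.eventually_ge_atTop 1] with j hj
      have hj' : (j : ℝ) ≠ 0 := by
        have : (0 : ℝ) < j := by exact_mod_cast hj
        exact this.ne'
      have hn' : (n : ℝ) ≠ 0 := by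
        have : (0 : ℝ) < n := by exact_mod_cast hn
        exact this.ne'
      have hnj : n * j ≠ 0 := Nat.mul_ne_zero hn.ne' (by omega)
      simp only [o0, if_neg hnj]
      push_cast
      field_simp

end Groth.Agent.S17143
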