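import Groth.Statements.S17147
import Groth.Agent.Lib.Helper85.IsocKatz

set_option autoImplicit false
universe u v
open Isoc

namespace Groth.Agent.S17147

/-- Let k be a perfect field of characteristic p, a ∈ ℤ, W = W(k) with fraction field L, and (N, F) a
σ^a-F-isocrystal over k (N finite-dimensional over L, F a bijective σ^a-semilinear endomorphism) of
height h, with b an L-basis of N indexed by Fin h and d the p-adic order of the determinant
coefficient of F in b. If λ₁(N, F) = d/h, then there exists a W-lattice M in N with F^h(M) = p^d · M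
(so (N, F) is isoclinic of slope d/h in the lattice sense). -/
theorem result (p : ℕ) [Fact p.Prime] (k : Type u) [Field k] [CharP k p] [PerfectRing k p] (a : ℤ)
    (N : Type v) [AddCommGroup N] [Module (WittVector p k) N] [Module (FractionRing (WittVector p k)) N]
    [IsScalarTower (WittVector p k) (FractionRing (WittVector p k)) N]
    (F : N →ₛₗ[Isoc.frob p k a] N) (hF : Isoc.IsIsoc F)
    (h : ℕ) (b : Module.Basis (Fin h) (FractionRing (WittVector p k)) N)
    (d : ℤ) (hd : Isoc.IsOrdP (Isoc.detCoeff b F) d)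
    (hlam : Isoc.IsFirstSlope F ((d : ℝ) / h)) :
    ∃ M : Submodule (WittVector p k) N, M.IsLattice (FractionRing (WittVector p k)) ∧ Isoc.latImg F h M = Isoc.pPow d M := by
  classical
  have hτ := Groth.Agent.Lib.Helper85.IsocLattice.presW_frob (p := p) (k := k) a
  haveI : Module.Finite (FractionRing (WittVector p k)) N := hF.finite
  have hp0 : ((p : FractionRing (WittVector p k))) ≠ 0 :=
    Groth.Agent.Lib.Helper85.IsocLattice.p_ne_zero
  rcases Nat.eq_zero_or_pos h with h0 | hpos
  · -- zero space: the first slope is never defined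
    exfalso
    subst h0
    obtain ⟨M, hM, o, ho, -⟩ := hlam
    have hM0 := Groth.Agent.Lib.Helper85.IsocLattice.ne_bot_of_isOrd (ho 1 le_rfl)
    apply hM0
    rw [eq_bot_iff]
    intro x _
    rw [Submodule.mem_bot]
    have : x = ∑ i, b.repr x i • b i := (b.sum_repr x).symm
    rw [this]
    simp
  · obtain ⟨M, hM, hle⟩ :=
      Groth.Agent.Lib.Helper85.IsocKatz.exists_lattice_latImg_le_of_le_firstSlope hτ F hlam d h hpos le_rfl
    refine ⟨M, hM, le_antisymm hle ?_⟩
    haveI := hM
    obtain ⟨bM⟩ := Groth.Agent.Lib.Helper85.IsocDet.exists_lattice_basis b M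
    obtain ⟨A₀, hA₀⟩ := Groth.Agent.Lib.Helper85.IsocDet.exists_intMat F bM hle
    have h1 := Groth.Agent.Lib.Helper85.IsocDet.isOrdP_detCoeff_iter hτ _ F
      (Groth.Agent.Lib.Helper85.IsocDet.isOrdP_detCoeff_change hτ b
        (bM.extendOfIsLattice (FractionRing (WittVector p k))) F hd) h
    rw [Groth.Agent.Lib.Helper85.IsocDet.det_mat_of_intMat F bM A₀ hA₀] at h1
    have h2 := Groth.Agent.Lib.Helper85.IsocDet.isOrdP_mul
      (Groth.Agent.Lib.Helper85.IsocDet.isOrdP_inv
        (Groth.Agent.Lib.Helper85.IsocDet.isOrdP_zpow (p := p) (k := k) (d * h))) h1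
    rw [← mul_assoc, inv_mul_cancel₀ (zpow_ne_zero _ hp0), one_mul] at h2
    have h3 : -(d * (h : ℤ)) + (h : ℤ) * d = 0 := by ring
    rw [h3] at h2
    obtain ⟨u, hu⟩ := h2
    rw [zpow_zero, one_mul] at hu
    have h4 : A₀.det = (u : WittVector p k) :=
      IsFractionRing.injective (WittVector p k) (FractionRing (WittVector p k)) hu
    have hunit : IsUnit A₀.det := h4 ▸ u.isUnit
    exact Groth.Agent.Lib.Helper85.IsocDet.pPow_le_latImg_of_isUnit_det hτ F bM A₀ hA₀ hunit

end Groth.Agent.S17147
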