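import Groth.Statements.S17157
import Mathlib.FieldTheory.Finite.Basic
import Mathlib.Algebra.CharP.Algebra
import Mathlib.RingTheory.WittVector.Domain
import Mathlib.RingTheory.WittVector.Identities
-- import your own Groth.Agent.* helpers here

set_option autoImplicit false
universe u
open Isoc

namespace Groth.Agent.S17157


section aux
variable (p : ℕ) [hp : Fact p.Prime] (k : Type u) [Field k] [CharP k p]

theorem witt_charZero : CharZero (WittVector p k) := by
  obtain ⟨q, hq⟩ := CharP.exists (WittVector p k)
  rcases CharP.char_is_prime_or_zero (WittVector p k) q with hq' | hq'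
  · exfalso
    have h0 : ((q : ℕ) : WittVector p k) = 0 := CharP.cast_eq_zero _ q
    have h1 : ((q : ℕ) : k) = 0 := by
      have := congrArg (WittVector.constantCoeff : WittVector p k →+* k) h0
      rwa [map_natCast, map_zero] at this
    have h2 : p ∣ q := (CharP.cast_eq_zero_iff k p q).mp h1
    have h3 : p = q := (Nat.prime_dvd_prime_iff_eq hp.out hq').mp h2
    subst h3
    exact WittVector.p_nonzero p k h0
  · subst hq'
    exact CharP.charP_to_charZero _

theorem fractionRing_charZero : CharZero (FractionRing (WittVector p k)) := by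
  haveI := witt_charZero p k
  exact charZero_of_injective_algebraMap
    (IsFractionRing.injective (WittVector p k) (FractionRing (WittVector p k)))

variable [PerfectRing k p]

/-- Over a finite field some power of the Frobenius twist is the identity on the fraction field. -/
theorem exists_frob_pow_eq_id [Finite k] :
    ∃ m : ℕ, 0 < m ∧ (Isoc.frob p k 1) ^ m = RingHom.id (FractionRing (WittVector p k)) := by
  haveI : Fintype k := Fintype.ofFinite k
  obtain ⟨n, -, hn⟩ := FiniteField.card k p
  refine ⟨n, n.pos, ?_⟩
  have hW : ∀ (j : ℕ) (w : WittVector p k), ((Isoc.frob p k 1) ^ j)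
      (algebraMap (WittVector p k) (FractionRing (WittVector p k)) w) =
      algebraMap (WittVector p k) (FractionRing (WittVector p k)) (WittVector.frobenius^[j] w) := by
    intro j
    induction j with
    | zero => intro w; simp
    | succ j ih =>
      intro w
      rw [pow_succ', RingHom.mul_def, RingHom.comp_apply, ih, Isoc.frob_algebraMap, zpow_one,
        Function.iterate_succ_apply']
      rfl
  have hfix : ∀ w : WittVector p k, WittVector.frobenius^[(n : ℕ)] w = w := by
    intro w
    have hcoeff : ∀ (j : ℕ) (w : WittVector p k) (i : ℕ),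
        (WittVector.frobenius^[j] w).coeff i = w.coeff i ^ p ^ j := by
      intro j
      induction j with
      | zero => intro w i; simp
      | succ j ih =>
        intro w i
        rw [Function.iterate_succ_apply', WittVector.coeff_frobenius_charP, ih, ← pow_mul, pow_succ]
    ext i
    rw [hcoeff, ← hn, FiniteField.pow_card]
  apply IsLocalization.ringHom_ext (nonZeroDivisors (WittVector p k))
  ext w
  rw [RingHom.comp_apply, hW, hfix]
  rfl

end aux

/-- Let k be a finite field of characteristic p, W = W(k), L its fraction field with Frobenius σ, and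
let U be the σ-semilinear endomorphism of L² = (Fin 2 → L) determined by U(e₀) = e₀ and U(e₁) = e₀ +
e₁ on the standard basis. Then (L², U) is an F-isocrystal in which the sub-isocrystal L · e₀ admits
no U-stable complementary L-subspace; in particular the category of F-isocrystals over a finite
field is not semisimple. (Over an algebraically closed field a complement exists.) -/
theorem result
    (p : ℕ) [Fact p.Prime] (k : Type u) [Field k] [CharP k p] [PerfectRing k p] [Finite k]
    (U : (Fin 2 → (FractionRing (WittVector p k))) →ₛₗ[Isoc.frob p k 1] (Fin 2 → (FractionRing (WittVector p k))))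
    (hU0 : U (Pi.single 0 1) = Pi.single 0 1)
    (hU1 : U (Pi.single 1 1) = Pi.single 0 1 + Pi.single 1 1)
    (Q : Submodule (FractionRing (WittVector p k)) (Fin 2 → (FractionRing (WittVector p k)))) (hQ : ∀ x ∈ Q, U x ∈ Q) :
    ¬ IsCompl (Submodule.span (FractionRing (WittVector p k)) {(Pi.single 0 1 : Fin 2 → (FractionRing (WittVector p k)))}) Q := by
  intro hcompl
  haveI := fractionRing_charZero p k
  obtain ⟨m, hm0, hm⟩ := exists_frob_pow_eq_id p k
  set e₀ : Fin 2 → FractionRing (WittVector p k) := Pi.single 0 1 with he₀
  set e₁ : Fin 2 → FractionRing (WittVector p k) := Pi.single 1 1 with he₁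
  -- decompose `e₁`
  have htop : e₁ ∈ Submodule.span (FractionRing (WittVector p k)) {e₀} ⊔ Q := by
    rw [hcompl.sup_eq_top]; trivial
  obtain ⟨y, hy, q, hq, hyq⟩ := Submodule.mem_sup.mp htop
  obtain ⟨a, rfl⟩ := Submodule.mem_span_singleton.mp hy
  have hq' : q = e₁ - a • e₀ := by rw [← hyq]; abel
  have hUq : U q = e₀ + e₁ - (Isoc.frob p k 1 a) • e₀ := by
    rw [hq', map_sub, map_smulₛₗ, hU0, hU1]
  have hdiff : U q - q = (1 - Isoc.frob p k 1 a + a) • e₀ := by
    rw [hUq, hq']
    simp only [add_smul, sub_smul, one_smul]
    abel
  have hmemQ : U q - q ∈ Q := Q.sub_mem (hQ q hq) hq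
  have hmemS : U q - q ∈ Submodule.span (FractionRing (WittVector p k)) {e₀} := by
    rw [hdiff]
    exact Submodule.smul_mem _ _ (Submodule.mem_span_singleton_self _)
  have hzero : U q - q = 0 := by
    have := hcompl.disjoint
    rw [Submodule.disjoint_def] at this
    exact this _ hmemS hmemQ
  have hc : Isoc.frob p k 1 a - a = 1 := by
    rw [hdiff] at hzero
    have := congrFun hzero 0
    simp only [he₀, Pi.smul_apply, Pi.single_eq_same, smul_eq_mul, mul_one, Pi.zero_apply] at this
    linear_combination -this
  -- telescoping sum
  have hsum : ∑ i ∈ Finset.range m, (((Isoc.frob p k 1) ^ (i + 1)) a - ((Isoc.frob p k 1) ^ i) a) =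
      ((Isoc.frob p k 1) ^ m) a - ((Isoc.frob p k 1) ^ 0) a :=
    Finset.sum_range_sub (fun i => ((Isoc.frob p k 1) ^ i) a) m
  have hterm : ∀ i : ℕ, ((Isoc.frob p k 1) ^ (i + 1)) a - ((Isoc.frob p k 1) ^ i) a = 1 := by
    intro i
    rw [pow_succ, RingHom.mul_def, RingHom.comp_apply, ← map_sub, hc, map_one]
  rw [hm] at hsum
  simp only [hterm, Finset.sum_const, Finset.card_range, pow_zero, RingHom.id_apply,
    RingHom.one_def, sub_self, nsmul_eq_mul, mul_one] at hsum
  exact hm0.ne' (Nat.cast_eq_zero.mp hsum)

end Groth.Agent.S17157
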