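import Groth.Statements.S1717
import Groth.Agent.Lib.Helper48.Hartshorne
import Groth.Agent.Lib.Helper48.LocalConn
import Groth.Agent.Lib.Helper49.SkLift
import Groth.Agent.Lib.Helper44.AlgzCat
import Groth.Agent.S2663
-- import your own Groth.Agent.* helpers here

set_option autoImplicit false
universe u
open LocCoh

namespace Groth.Agent.S1717

/-- Let A be a catenary Noetherian local ring satisfying Serre's condition (S_2). Then Spec A is
equidimensional: for every minimal prime p of A the dimension of A/p equals the dimension of A. -/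
theorem result (A : Type u) [CommRing A] [IsLocalRing A] [IsNoetherianRing A] (hc : CAlg.IsCatenary A) (hS : LocCoh.HasSk 2 A A) (p : Ideal A) (hp : p ∈ minimalPrimes A) : ringKrullDim (A ⧸ p) = ringKrullDim A := by
  classical
  haveI hpprime : p.IsPrime := hp.1.1
  haveI hconn : ConnectedSpace (PrimeSpectrum A) :=
    Groth.Agent.Lib.Helper48.LocalConn.connectedSpace_of_isLocalRing A
  have hSk := (Groth.Agent.Lib.Helper49.SkLift.hasSk_self_iff' A 2).mp hS
  -- Step 1: two minimal primes inside a prime of height ≤ 1 have the same coheight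
  have hcov : ∀ (q1 q2 Q : PrimeSpectrum A), q1.asIdeal ∈ minimalPrimes A →
      q2.asIdeal ∈ minimalPrimes A → q1 ≠ q2 → q1 ≤ Q → q2 ≤ Q → Q.asIdeal.height ≤ 1 →
      q1 ⋖ Q := by
    intro q1 q2 Q hq1 hq2 hne h1Q h2Q hQ
    have hlt : q1 < Q := by
      refine lt_of_le_of_ne h1Q (fun heq => ?_)
      have h21 : q2 ≤ q1 := by rw [heq]; exact h2Q
      have h12 : q1 ≤ q2 := hq1.2 ⟨q2.2, bot_le⟩ h21
      exact hne (le_antisymm h12 h21)
    refine ⟨hlt, fun r h1r hrQ => ?_⟩
    have h1 := Ideal.height_add_one_le_of_lt_of_isPrime (I := q1.asIdeal) (J := r.asIdeal) h1r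
    have h2 := Ideal.height_add_one_le_of_lt_of_isPrime (I := r.asIdeal) (J := Q.asIdeal) hrQ
    have h0 : (1 : ℕ∞) ≤ r.asIdeal.height := le_trans le_add_self h1
    have h3 : (2 : ℕ∞) ≤ 1 := by
      calc (2 : ℕ∞) = 1 + 1 := one_add_one_eq_two.symm
        _ ≤ r.asIdeal.height + 1 := by gcongr
        _ ≤ Q.asIdeal.height := h2
        _ ≤ 1 := hQ
    exact absurd h3 (by norm_num)
  have hstep : ∀ (q1 q2 Q : PrimeSpectrum A), q1.asIdeal ∈ minimalPrimes A →
      q2.asIdeal ∈ minimalPrimes A → q1 ≤ Q → q2 ≤ Q → Q.asIdeal.height ≤ 1 →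
      Order.coheight q1 = Order.coheight q2 := by
    intro q1 q2 Q hq1 hq2 h1Q h2Q hQ
    by_cases hne : q1 = q2
    · rw [hne]
    · rw [Groth.Agent.Lib.Helper44.AlgzCat.coheight_covBy hc (hcov q1 q2 Q hq1 hq2 hne h1Q h2Q hQ),
        Groth.Agent.Lib.Helper44.AlgzCat.coheight_covBy hc
          (hcov q2 q1 Q hq2 hq1 (Ne.symm hne) h2Q h1Q hQ)]
  set pp : PrimeSpectrum A := ⟨p, hp.1.1⟩ with hppdef
  -- Step 2: all minimal primes have the same coheight
  have hall : ∀ q : PrimeSpectrum A, q.asIdeal ∈ minimalPrimes A →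
      Order.coheight q = Order.coheight pp := by
    by_contra hcon
    push Not at hcon
    obtain ⟨q0, hq0, hq0ne⟩ := hcon
    set P1 : Set (Ideal A) := {q | ∃ hq : q ∈ minimalPrimes A,
      Order.coheight (⟨q, hq.1.1⟩ : PrimeSpectrum A) = Order.coheight pp} with hP1def
    set P2 : Set (Ideal A) := {q | ∃ hq : q ∈ minimalPrimes A,
      Order.coheight (⟨q, hq.1.1⟩ : PrimeSpectrum A) ≠ Order.coheight pp} with hP2def
    have hP : P1 ∪ P2 = minimalPrimes A := by
      ext q; constructor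
      · rintro (⟨hq, -⟩ | ⟨hq, -⟩) <;> exact hq
      · intro hq
        by_cases hr : Order.coheight (⟨q, hq.1.1⟩ : PrimeSpectrum A) = Order.coheight pp
        · exact Or.inl ⟨hq, hr⟩
        · exact Or.inr ⟨hq, hr⟩
    have hdisj : Disjoint P1 P2 := Set.disjoint_left.mpr (fun q h1 h2 => h2.2 h1.2)
    have hfin : (minimalPrimes A).Finite := minimalPrimes.finite_of_isNoetherianRing A
    have hP1fin : P1.Finite := hfin.subset (fun q h => h.1)
    have hP2fin : P2.Finite := hfin.subset (fun q h => h.1)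
    have hp1 : p ∈ P1 := ⟨hp, rfl⟩
    have hq02 : q0.asIdeal ∈ P2 := ⟨hq0, hq0ne⟩
    have hne_top := Groth.Agent.S2663.sup_sInf_ne_top A P1 P2 hP p q0.asIdeal hp1 hq02
    obtain ⟨⟨P, hPmin⟩⟩ := Ideal.nonempty_minimalPrimes hne_top
    haveI hPprime : P.IsPrime := hPmin.1.1
    have hHC := Groth.Agent.Lib.Helper48.Hartshorne.not_two_le_depth A P1 P2 hP hdisj P hPmin
    have hPht : P.height ≤ 1 := by
      by_contra hcon2
      apply hHC
      have h1lt : (1 : ℕ∞) < P.height := not_le.mp hcon2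
      have h2le : (2 : ℕ∞) ≤ P.height := by
        have := (ENat.add_one_le_iff ENat.one_ne_top).mpr h1lt
        rwa [one_add_one_eq_two] at this
      have h3 := hSk P
      rw [min_eq_left (by exact_mod_cast h2le)] at h3
      exact_mod_cast h3
    obtain ⟨p1, hp1', hp1P⟩ := Groth.Agent.Lib.Helper48.Hartshorne.exists_mem_le_of_sInf_le P1
      hP1fin P (le_sup_left.trans hPmin.1.2)
    obtain ⟨p2, hp2', hp2P⟩ := Groth.Agent.Lib.Helper48.Hartshorne.exists_mem_le_of_sInf_le P2
      hP2fin P (le_sup_right.trans hPmin.1.2)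
    obtain ⟨hp1m, hp1c⟩ := hp1'
    obtain ⟨hp2m, hp2c⟩ := hp2'
    apply hp2c
    rw [← hp1c]
    exact (hstep ⟨p1, hp1m.1.1⟩ ⟨p2, hp2m.1.1⟩ ⟨P, hPprime⟩ hp1m hp2m hp1P hp2P hPht).symm
  -- Step 3
  have hdim : ringKrullDim A = ((Order.coheight pp : ℕ∞) : WithBot ℕ∞) := by
    apply le_antisymm
    · unfold ringKrullDim
      rw [Order.krullDim_eq_iSup_coheight_of_nonempty]
      apply WithBot.coe_le_coe.mpr
      apply iSup_le
      intro x
      obtain ⟨q, hq, hqx⟩ := Ideal.exists_minimalPrimes_le (bot_le : (⊥ : Ideal A) ≤ x.asIdeal)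
      have hqm : q ∈ minimalPrimes A := hq
      have h1 : Order.coheight x ≤ Order.coheight (⟨q, hq.1.1⟩ : PrimeSpectrum A) :=
        Order.coheight_anti (show (⟨q, hq.1.1⟩ : PrimeSpectrum A) ≤ x from hqx)
      rw [hall ⟨q, hq.1.1⟩ hqm] at h1
      exact h1
    · exact Order.coheight_le_krullDim pp
  rw [hdim]
  exact (Groth.Agent.Lib.Helper44.AlgzCat.coheight_eq_dim pp).symm

end Groth.Agent.S1717
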