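import Groth.Statements.S17171
import Mathlib
-- import your own Groth.Agent.* helpers here

set_option autoImplicit false
open QSymFn

namespace Groth.Agent.S17171

section helpers

lemma repr {ι : Type} [LinearOrder ι] (e : ι →₀ ℕ) :
    ∃ (ℓ : ℕ) (s : Fin ℓ → ι) (a : Fin ℓ → ℕ), StrictMono s ∧ (∀ t, 0 < a t) ∧
      e = ∑ t, Finsupp.single (s t) (a t) := by
  refine ⟨e.support.card, e.support.orderEmbOfFin rfl,
    fun t => e (e.support.orderEmbOfFin rfl t), (e.support.orderEmbOfFin rfl).strictMono, ?_, ?_⟩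
  · intro t
    have := Finset.orderEmbOfFin_mem e.support rfl t
    exact Nat.pos_of_ne_zero (Finsupp.mem_support_iff.mp this)
  · have h1 : ∑ t : Fin e.support.card, Finsupp.single (e.support.orderEmbOfFin rfl t)
          (e (e.support.orderEmbOfFin rfl t))
        = ∑ x : e.support, Finsupp.single (x : ι) (e x) :=
      Fintype.sum_equiv (e.support.orderIsoOfFin rfl).toEquiv _ _ (fun t => rfl)
    rw [h1, Finset.sum_coe_sort e.support (fun x => Finsupp.single x (e x))]
    exact (Finsupp.sum_single e).symm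

lemma part_a (F : MvPowerSeries ℕ ℤ)
    (hQS : ∀ (ℓ : ℕ) (i j : Fin ℓ → ℕ) (a : Fin ℓ → ℕ), StrictMono i → StrictMono j →
      (∀ t, 0 < a t) →
        MvPowerSeries.coeff (∑ t : Fin ℓ, Finsupp.single (i t) (a t)) F =
          MvPowerSeries.coeff (∑ t : Fin ℓ, Finsupp.single (j t) (a t)) F)
    (n m : ℕ) (φ : Fin n ↪o Fin m) (e : Fin n →₀ ℕ) :
    MvPowerSeries.coeff (Finsupp.mapDomain Fin.val e) F =
      MvPowerSeries.coeff (Finsupp.mapDomain Fin.val (Finsupp.mapDomain φ e)) F := by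
  obtain ⟨ℓ, s, a, hs, ha, rfl⟩ := repr e
  have h1 : Finsupp.mapDomain Fin.val (∑ t, Finsupp.single (s t) (a t))
      = ∑ t, Finsupp.single ((s t).val) (a t) := by
    rw [Finsupp.mapDomain_finsetSum]
    exact Finset.sum_congr rfl (fun t _ => Finsupp.mapDomain_single)
  have h2 : Finsupp.mapDomain Fin.val (Finsupp.mapDomain φ (∑ t, Finsupp.single (s t) (a t)))
      = ∑ t, Finsupp.single ((φ (s t)).val) (a t) := by
    rw [Finsupp.mapDomain_finsetSum, Finsupp.mapDomain_finsetSum]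
    exact Finset.sum_congr rfl (fun t _ => by
      rw [Finsupp.mapDomain_single, Finsupp.mapDomain_single])
  rw [h1, h2]
  exact hQS ℓ (fun t => (s t).val) (fun t => (φ (s t)).val) a (fun x y h => hs h)
    (fun x y h => φ.strictMono (hs h)) ha

noncomputable def NN (ε : ℕ →₀ ℕ) : ℕ := ε.support.sup (fun x => x + 1)

lemma lt_NN (ε : ℕ →₀ ℕ) (x : ℕ) (hx : x ∈ ε.support) : x < NN ε := by
  have : x + 1 ≤ NN ε := Finset.le_sup (f := fun x => x + 1) hx
  omega

noncomputable def restr (N : ℕ) (ε : ℕ →₀ ℕ) : Fin N →₀ ℕ :=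
  Finsupp.comapDomain Fin.val ε Fin.val_injective.injOn

lemma map_restr (N : ℕ) (ε : ℕ →₀ ℕ) (h : ∀ x ∈ ε.support, x < N) :
    Finsupp.mapDomain Fin.val (restr N ε) = ε := by
  unfold restr
  exact Finsupp.mapDomain_comapDomain (f := (Fin.val : Fin N → ℕ)) Fin.val_injective ε
    (fun x hx => ⟨⟨x, h x (Finset.mem_coe.mp hx)⟩, rfl⟩)

lemma part_b (d : ℕ) (f : (n : ℕ) → MvPolynomial (Fin n) ℤ)
    (hf : ∀ n, (f n).IsHomogeneous d)
    (hcomp : ∀ (n m : ℕ) (φ : Fin n ↪o Fin m) (e : Fin n →₀ ℕ),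
        MvPolynomial.coeff e (f n) = MvPolynomial.coeff (Finsupp.mapDomain φ e) (f m)) :
      ∃! F : MvPowerSeries ℕ ℤ,
        (∀ (ℓ : ℕ) (i j : Fin ℓ → ℕ) (a : Fin ℓ → ℕ), StrictMono i → StrictMono j → (∀ t, 0 < a t) →
          MvPowerSeries.coeff (∑ t : Fin ℓ, Finsupp.single (i t) (a t)) F =
            MvPowerSeries.coeff (∑ t : Fin ℓ, Finsupp.single (j t) (a t)) F) ∧
        (∀ e : ℕ →₀ ℕ, MvPowerSeries.coeff e F ≠ 0 → e.degree = d) ∧
        (∀ (n : ℕ) (e : Fin n →₀ ℕ),
          MvPowerSeries.coeff (Finsupp.mapDomain Fin.val e) F = MvPolynomial.coeff e (f n)) := by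
  classical
  let F : MvPowerSeries ℕ ℤ := fun ε => MvPolynomial.coeff (restr (NN ε) ε) (f (NN ε))
  have hF : ∀ ε, MvPowerSeries.coeff ε F = MvPolynomial.coeff (restr (NN ε) ε) (f (NN ε)) :=
    fun ε => rfl
  have h3 : ∀ (n : ℕ) (e : Fin n →₀ ℕ),
      MvPowerSeries.coeff (Finsupp.mapDomain Fin.val e) F = MvPolynomial.coeff e (f n) := by
    intro n e
    obtain ⟨ε, hε⟩ : ∃ ε, ε = Finsupp.mapDomain Fin.val e := ⟨_, rfl⟩
    rw [← hε]
    have hsupp : ∀ x ∈ ε.support, x < n := by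
      intro x hx
      rw [hε] at hx
      have := Finsupp.mapDomain_support hx
      obtain ⟨y, _, rfl⟩ := Finset.mem_image.mp this
      exact y.isLt
    have hN : NN ε ≤ n := Finset.sup_le (fun x hx => hsupp x hx)
    rw [hF, hcomp (NN ε) n (Fin.castLEOrderEmb hN) (restr (NN ε) ε)]
    congr 1
    apply Finsupp.mapDomain_injective (Fin.val_injective (n := n))
    rw [← Finsupp.mapDomain_comp]
    have hcomp' : (Fin.val ∘ ⇑(Fin.castLEOrderEmb hN) : Fin (NN ε) → ℕ) = Fin.val := by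
      funext x; rfl
    rw [hcomp', map_restr _ _ (lt_NN ε), hε]
  have hL : ∀ (ℓ : ℕ) (i : Fin ℓ → ℕ) (a : Fin ℓ → ℕ), StrictMono i →
      MvPowerSeries.coeff (∑ t, Finsupp.single (i t) (a t)) F
        = MvPolynomial.coeff (∑ t, Finsupp.single t (a t)) (f ℓ) := by
    intro ℓ i a hi
    obtain ⟨n, hn⟩ : ∃ n, ∀ t, i t < n :=
      ⟨Finset.univ.sup i + 1, fun t => Nat.lt_succ_of_le (Finset.le_sup (Finset.mem_univ t))⟩
    let φ : Fin ℓ ↪o Fin n :=
      OrderEmbedding.ofStrictMono (fun t => ⟨i t, hn t⟩) (fun x y h => hi h)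
    have h1 : (∑ t, Finsupp.single (i t) (a t) : ℕ →₀ ℕ)
        = Finsupp.mapDomain Fin.val (Finsupp.mapDomain φ (∑ t, Finsupp.single t (a t))) := by
      rw [Finsupp.mapDomain_finsetSum, Finsupp.mapDomain_finsetSum]
      exact Finset.sum_congr rfl (fun t _ => by
        rw [Finsupp.mapDomain_single, Finsupp.mapDomain_single]; rfl)
    rw [h1, h3, ← hcomp]
  have hQS : ∀ (ℓ : ℕ) (i j : Fin ℓ → ℕ) (a : Fin ℓ → ℕ), StrictMono i → StrictMono j →
      (∀ t, 0 < a t) →
        MvPowerSeries.coeff (∑ t : Fin ℓ, Finsupp.single (i t) (a t)) F =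
          MvPowerSeries.coeff (∑ t : Fin ℓ, Finsupp.single (j t) (a t)) F := by
    intro ℓ i j a hi hj _
    rw [hL ℓ i a hi, hL ℓ j a hj]
  have hdeg : ∀ e : ℕ →₀ ℕ, MvPowerSeries.coeff e F ≠ 0 → e.degree = d := by
    intro ε hε
    rw [hF] at hε
    have h1 := hf (NN ε) hε
    rw [← map_restr (NN ε) ε (lt_NN ε), Finsupp.degree_mapDomain, Finsupp.degree_eq_weight_one]
    exact h1
  refine ⟨F, ⟨hQS, hdeg, h3⟩, ?_⟩
  rintro F' ⟨_, _, h3'⟩
  ext ε
  have h4 := h3' (NN ε) (restr (NN ε) ε)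
  rw [map_restr (NN ε) ε (lt_NN ε)] at h4
  rw [h4, hF]

end helpers


/-- The ring QSym of quasisymmetric functions over ℤ, with its restriction maps to the polynomial rings
in finitely many ordered variables, is the limit of the diagram S ↦ ℤ[α_s : s ∈ S] over finite
ordered sets S and order-preserving injections (an injection φ : S → T acting by α_t ↦ α_s when t =
φ s and α_t ↦ 0 otherwise), the limit being taken in graded rings. Stated here on degree-d
components, with the variables indexed by ℕ in place of the positive integers and the finite ordered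
sets taken to be the Fin n: (a) if F is a formal power series over ℤ in variables indexed by ℕ which
is quasisymmetric (for strictly increasing i, j : Fin ℓ → ℕ and positive exponents a, the
coefficients of ∏ x_{i t}^{a t} and ∏ x_{j t}^{a t} agree) and all of whose monomials have degree d,
then its restrictions to the initial segments Fin n ⊂ ℕ are compatible with every order embedding
Fin n ↪o Fin m; (b) every family of degree-d homogeneous polynomials f n ∈ ℤ[x_s : s ∈ Fin n],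
compatible with all order embeddings Fin n ↪o Fin m in this sense, is the family of restrictions of
exactly one such quasisymmetric F of degree d. -/
theorem result (d : ℕ) :
    (∀ F : MvPowerSeries ℕ ℤ,
      (∀ (ℓ : ℕ) (i j : Fin ℓ → ℕ) (a : Fin ℓ → ℕ), StrictMono i → StrictMono j → (∀ t, 0 < a t) →
        MvPowerSeries.coeff (∑ t : Fin ℓ, Finsupp.single (i t) (a t)) F =
          MvPowerSeries.coeff (∑ t : Fin ℓ, Finsupp.single (j t) (a t)) F) →
      (∀ e : ℕ →₀ ℕ, MvPowerSeries.coeff e F ≠ 0 → e.degree = d) →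
      ∀ (n m : ℕ) (φ : Fin n ↪o Fin m) (e : Fin n →₀ ℕ),
        MvPowerSeries.coeff (Finsupp.mapDomain Fin.val e) F =
          MvPowerSeries.coeff (Finsupp.mapDomain Fin.val (Finsupp.mapDomain φ e)) F) ∧
    (∀ f : (n : ℕ) → MvPolynomial (Fin n) ℤ,
      (∀ n, (f n).IsHomogeneous d) →
      (∀ (n m : ℕ) (φ : Fin n ↪o Fin m) (e : Fin n →₀ ℕ),
        MvPolynomial.coeff e (f n) = MvPolynomial.coeff (Finsupp.mapDomain φ e) (f m)) →
      ∃! F : MvPowerSeries ℕ ℤ,
        (∀ (ℓ : ℕ) (i j : Fin ℓ → ℕ) (a : Fin ℓ → ℕ), StrictMono i → StrictMono j → (∀ t, 0 < a t) →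
          MvPowerSeries.coeff (∑ t : Fin ℓ, Finsupp.single (i t) (a t)) F =
            MvPowerSeries.coeff (∑ t : Fin ℓ, Finsupp.single (j t) (a t)) F) ∧
        (∀ e : ℕ →₀ ℕ, MvPowerSeries.coeff e F ≠ 0 → e.degree = d) ∧
        (∀ (n : ℕ) (e : Fin n →₀ ℕ),
          MvPowerSeries.coeff (Finsupp.mapDomain Fin.val e) F = MvPolynomial.coeff e (f n))) := by
  exact ⟨fun F hQS _ n m φ e => part_a F hQS n m φ e, fun f hf hcomp => part_b d f hf hcomp⟩

end Groth.Agent.S17171
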