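import Groth.Statements.S17173
import Groth.Agent.Lib.Helper18.LabGraphBI

set_option autoImplicit false
universe u
open LabGraph
open Groth.Agent.Lib.Helper18.LabGraphBI

namespace Groth.Agent.S17173

open LabGraph in
/-- Let Γ be the weighted dual graph of a quasistable curve X of genus g ≥ 3 over an algebraically
closed field (vertices the irreducible components C_v with weight the geometric genus, one edge per
node, a loop for a node on a single component): Γ is connected, every weight-zero vertex without
loop is joined to the other vertices by at least two edges, and no edge joins two exceptional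
vertices (weight zero, no loop, exactly two edges to other vertices). Let d be a multidegree of any
total degree D (the combinatorial section fixes an arbitrary integer d; g ≥ 3 is the paper's
standing assumption). Then the degree class of d contains a representative satisfying the Basic
Inequality: there is a multidegree d', differing from d by the twist of some integer vertex
labelling (the multidegree of a divisor Σ φ_v C_v on the total space of a regular smoothing), such
that for every set Y of vertices 2·|(2g - 2)·d'_Y - D·canDeg Y| ≤ cut Y·(2g - 2), where canDeg Y = 2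
g_Y - 2 + cut Y is the degree of the dualizing sheaf on the subcurve Y and cut Y the number of nodes
where Y meets the rest of X. -/
theorem result {V E : Type u} [Fintype V] [Fintype E]
    [DecidableEq V] [DecidableEq E] (ends : E → V × V) (w : V → ℕ) (hX : IsQuasistableGraph ends w)
    (hg : 3 ≤ genus ends w) (d : V → ℤ) :
    ∃ d' : V → ℤ, TwistEquiv ends d' d ∧ SatisfiesBI ends w d' := by
  classical
  have hconn : Connected ends := hX.1.1
  set K : ℤ := canDeg ends w Finset.univ with hKdef
  have hK : 1 ≤ K := by rw [hKdef, canDeg_univ]; omega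
  set D : ℤ := ∑ v : V, d v with hD
  set m : V → ℤ := fun v => K * d v - D * (2 * (w v : ℤ) - 2 + (endCount ends Finset.univ v : ℤ)) with hm
  have hμ : ∀ (d₁ : V → ℤ) (U : Finset V), K * (∑ v ∈ U, d₁ v) - D * canDeg ends w U =
      ∑ v ∈ U, (K * d₁ v - D * (2 * (w v : ℤ) - 2 + (endCount ends Finset.univ v : ℤ))) :=
    fun d₁ U => mu_eq_sum ends w d₁ K D U
  have hm0 : ∑ v, m v = 0 := by
    have := hμ d Finset.univ
    rw [← this, ← hKdef, ← hD]
    ring
  obtain ⟨φ, hφ⟩ := exists_Psi_min ends hconn K hK m hm0
  refine ⟨fun v => d v + twist ends φ v, ⟨φ, fun v => by ring⟩, ?_⟩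
  intro Y
  have hD' : ∑ v : V, (d v + twist ends φ v) = D := by
    rw [Finset.sum_add_distrib, sum_twist_univ, add_zero]
  have hY' : ∑ v ∈ Y, (d v + twist ends φ v) = ∑ v ∈ Y, d v + ∑ v ∈ Y, twist ends φ v :=
    Finset.sum_add_distrib
  show 2 * |canDeg ends w Finset.univ * (∑ v ∈ Y, (d v + twist ends φ v))
      - (∑ v : V, (d v + twist ends φ v)) * canDeg ends w Y|
      ≤ (cut ends Y : ℤ) * canDeg ends w Finset.univ
  rw [hD', hY', ← hKdef]
  have hexp : K * (∑ v ∈ Y, d v + ∑ v ∈ Y, twist ends φ v) - D * canDeg ends w Y
      = ∑ v ∈ Y, m v + K * ∑ v ∈ Y, twist ends φ v := by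
    rw [hm, ← hμ d Y]; ring
  rw [hexp]
  have h1 := Psi_add_ind ends K m φ Y 1 (by norm_num)
  have h2 := Psi_add_ind ends K m φ Y (-1) (by norm_num)
  have h1' := hφ (fun v => φ v + 1 * ind Y v)
  have h2' := hφ (fun v => φ v + (-1) * ind Y v)
  rcases abs_cases (∑ v ∈ Y, m v + K * ∑ v ∈ Y, twist ends φ v) with ⟨h, _⟩ | ⟨h, _⟩ <;>
    rw [h] <;> linarith

end Groth.Agent.S17173
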