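import Groth.Statements.S17174
import Groth.Agent.Lib.Helper18.LabGraphBI

set_option autoImplicit false
universe u
open LabGraph
open Groth.Agent.Lib.Helper18.LabGraphBI

namespace Groth.Agent.S17174

open LabGraph in
/-- Let Γ be the weighted dual graph of a Deligne–Mumford semistable curve X of genus g ≥ 3 over an
algebraically closed field (connected; every weight-zero vertex without loop is joined to the other
vertices by at least two edges), and let d, d' be two multidegrees of the same (arbitrary) total
degree D (g ≥ 3 being the paper's standing assumption) which both satisfy the Basic Inequality and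
lie in the same degree class (d - d' is a twist). Then d - d' can be written in normal form: there
is a labelling h of the vertices by natural numbers taking exactly the values 0, 1, …, q, with d -
d' equal to the twist of h (that is, d - d' = Σ_v h(v)·c_v with c_v the multidegree of O(C_v)), such
that for distinct levels i ≠ j in {0, …, q} the subcurves on h⁻¹(i) and h⁻¹(j) meet (some edge joins
the two levels) exactly when |i - j| = 1. -/
theorem result {V E : Type u} [Fintype V] [Fintype E]
    [DecidableEq V] [DecidableEq E] (ends : E → V × V) (w : V → ℕ) (hX : IsSemistableGraph ends w)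
    (hg : 3 ≤ genus ends w) (d d' : V → ℤ)
    (hBI : SatisfiesBI ends w d) (hBI' : SatisfiesBI ends w d') (heq : TwistEquiv ends d d') :
    ∃ (q : ℕ) (h : V → ℕ), (∀ v : V, h v ≤ q) ∧ (∀ i : ℕ, i ≤ q → ∃ v : V, h v = i) ∧
      (∀ v : V, d v - d' v = twist ends (fun u => (h u : ℤ)) v) ∧
      (∀ i j : ℕ, i ≤ q → j ≤ q → i ≠ j →
        ((∃ e : E, (h (ends e).1 = i ∧ h (ends e).2 = j) ∨ (h (ends e).1 = j ∧ h (ends e).2 = i)) ↔
          (i + 1 = j ∨ j + 1 = i))) := by
  classical
  have hconn : Connected ends := hX.1
  obtain ⟨φ, hφ⟩ := heq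
  set K : ℤ := canDeg ends w Finset.univ with hKdef
  have hK : 1 ≤ K := by rw [hKdef, canDeg_univ]; omega
  -- equal total degrees
  have hDD : ∑ v : V, d v = ∑ v : V, d' v := by
    have : ∑ v : V, (d v - d' v) = 0 := by
      rw [Finset.sum_congr rfl (fun v _ => hφ v), sum_twist_univ]
    rw [Finset.sum_sub_distrib] at this
    linarith
  set D : ℤ := ∑ v : V, d' v with hD
  -- Key: for every vertex set of the form {t ≤ φ}, per-edge equality
  have hkey : ∀ t : ℤ, ∀ e : E,
      dx ends φ e * (ind (Finset.univ.filter (fun v => t ≤ φ v)) (ends e).1 -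
        ind (Finset.univ.filter (fun v => t ≤ φ v)) (ends e).2)
        = cE ends (Finset.univ.filter (fun v => t ≤ φ v)) e := by
    intro t
    set Y : Finset V := Finset.univ.filter (fun v => t ≤ φ v) with hY
    have hge : ∀ e : E, cE ends Y e ≤ dx ends φ e * (ind Y (ends e).1 - ind Y (ends e).2) := by
      intro e
      unfold cE ind dx
      by_cases h1 : (ends e).1 ∈ Y <;> by_cases h2 : (ends e).2 ∈ Y
      · simp [h1, h2]
      · have a1 : t ≤ φ (ends e).1 := by simpa [hY] using h1
        have a2 : φ (ends e).2 < t := by simpa [hY] using h2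
        simp [h1, h2]; linarith
      · have a1 : φ (ends e).1 < t := by simpa [hY] using h1
        have a2 : t ≤ φ (ends e).2 := by simpa [hY] using h2
        simp [h1, h2]; linarith
      · simp [h1, h2]
    -- T_Y + cut Y ≥ 0 from the two basic inequalities
    have hT : ∑ v ∈ Y, twist ends φ v = - ∑ e : E, dx ends φ e * (ind Y (ends e).1 - ind Y (ends e).2) :=
      sum_twist' ends φ Y
    have hb1 := hBI Y
    have hb2 := hBI' Y
    rw [hDD] at hb1
    have hdY : ∑ v ∈ Y, d v = ∑ v ∈ Y, d' v + ∑ v ∈ Y, twist ends φ v := by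
      rw [← Finset.sum_add_distrib]
      refine Finset.sum_congr rfl (fun v _ => ?_)
      have := hφ v; linarith
    rw [hdY, ← hKdef] at hb1
    rw [← hKdef] at hb2
    have hcut : (cut ends Y : ℤ) = ∑ e : E, cE ends Y e := cut_eq ends Y
    have h1 := neg_abs_le (K * (∑ v ∈ Y, d' v + ∑ v ∈ Y, twist ends φ v) - D * canDeg ends w Y)
    have h2 := le_abs_self (K * ∑ v ∈ Y, d' v - D * canDeg ends w Y)
    have hsum : 0 ≤ K * (∑ v ∈ Y, twist ends φ v + (cut ends Y : ℤ)) := by nlinarith
    have hsum' : 0 ≤ ∑ v ∈ Y, twist ends φ v + (cut ends Y : ℤ) := by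
      by_contra hneg
      push Not at hneg
      nlinarith
    have hzero : ∑ e : E, (dx ends φ e * (ind Y (ends e).1 - ind Y (ends e).2) - cE ends Y e) = 0 := by
      apply le_antisymm
      · rw [Finset.sum_sub_distrib, ← hcut]
        linarith
      · exact Finset.sum_nonneg (fun e _ => sub_nonneg.mpr (hge e))
    intro e
    have := (Finset.sum_eq_zero_iff_of_nonneg (fun e _ => sub_nonneg.mpr (hge e))).mp hzero e
      (Finset.mem_univ e)
    linarith
  -- every edge has |dx| ≤ 1
  have hedge : ∀ e : E, -1 ≤ dx ends φ e ∧ dx ends φ e ≤ 1 := by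
    intro e
    constructor
    · by_contra hlt
      push Not at hlt
      have := hkey (φ (ends e).2) e
      have m1 : (ends e).2 ∈ Finset.univ.filter (fun v => φ (ends e).2 ≤ φ v) := by simp
      have m2 : (ends e).1 ∉ Finset.univ.filter (fun v => φ (ends e).2 ≤ φ v) := by
        simp only [Finset.mem_filter, Finset.mem_univ, true_and, not_le]
        unfold dx at hlt; linarith
      unfold cE ind at this
      simp only [m1, m2, if_true, if_false] at this
      simp at this
      linarith
    · by_contra hlt
      push Not at hlt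
      have := hkey (φ (ends e).1) e
      have m1 : (ends e).1 ∈ Finset.univ.filter (fun v => φ (ends e).1 ≤ φ v) := by simp
      have m2 : (ends e).2 ∉ Finset.univ.filter (fun v => φ (ends e).1 ≤ φ v) := by
        simp only [Finset.mem_filter, Finset.mem_univ, true_and, not_le]
        unfold dx at hlt; linarith
      unfold cE ind at this
      simp only [m1, m2, if_true, if_false] at this
      simp at this
      linarith
  -- min and max of φ
  obtain ⟨v0⟩ := hconn.1
  obtain ⟨vmin, -, hmin⟩ := Finset.exists_min_image Finset.univ φ ⟨v0, Finset.mem_univ _⟩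
  obtain ⟨vmax, -, hmax⟩ := Finset.exists_max_image Finset.univ φ ⟨v0, Finset.mem_univ _⟩
  have hmin' : ∀ v, φ vmin ≤ φ v := fun v => hmin v (Finset.mem_univ v)
  have hmax' : ∀ v, φ v ≤ φ vmax := fun v => hmax v (Finset.mem_univ v)
  -- crossing edges at level t
  have hcross : ∀ t : ℤ, φ vmin < t → t ≤ φ vmax →
      ∃ e : E, (φ (ends e).1 = t ∧ φ (ends e).2 = t - 1) ∨ (φ (ends e).1 = t - 1 ∧ φ (ends e).2 = t) := by
    intro t ht1 ht2
    obtain ⟨e, he⟩ := exists_crossing_edge ends hconn (Finset.univ.filter (fun v => t ≤ φ v)) vmax vmin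
      (by simpa using ht2) (by simpa using ht1)
    refine ⟨e, ?_⟩
    have hd := hedge e
    unfold dx at hd
    simp only [Finset.mem_filter, Finset.mem_univ, true_and, not_le] at he
    rcases he with ⟨a1, a2⟩ | ⟨a1, a2⟩
    · left; constructor <;> omega
    · right; constructor <;> omega
  obtain ⟨h, hh⟩ : ∃ h : V → ℕ, ∀ v, (h v : ℤ) = φ v - φ vmin :=
    ⟨fun v => (φ v - φ vmin).toNat, fun v => by have := hmin' v; simp only []; omega⟩
  obtain ⟨q, hq⟩ : ∃ q : ℕ, (q : ℤ) = φ vmax - φ vmin :=
    ⟨(φ vmax - φ vmin).toNat, by have := hmin' vmax; omega⟩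
  refine ⟨q, h, ?_, ?_, ?_, ?_⟩
  · intro v
    have := hmin' v; have := hmax' v; have := hh v
    omega
  · intro i hi
    by_cases hi0 : i = 0
    · exact ⟨vmin, by have := hh vmin; omega⟩
    · have h1 := hmin' vmax
      obtain ⟨e, he | he⟩ := hcross (φ vmin + i) (by omega) (by omega)
      · exact ⟨(ends e).1, by have := hh (ends e).1; omega⟩
      · exact ⟨(ends e).2, by have := hh (ends e).2; omega⟩
  · intro v
    rw [hφ v]
    have : (fun u => ((h u : ℕ) : ℤ)) = fun u => φ u + (- φ vmin) := by
      funext u
      have := hh u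
      omega
    rw [this, twist_add_const]
  · intro i j hi hj hij
    have h1 := hmin' vmax
    constructor
    · rintro ⟨e, he | he⟩
      · have hd := hedge e
        unfold dx at hd
        have := hh (ends e).1; have := hh (ends e).2
        omega
      · have hd := hedge e
        unfold dx at hd
        have := hh (ends e).1; have := hh (ends e).2
        omega
    · rintro (hij' | hij')
      · obtain ⟨e, he | he⟩ := hcross (φ vmin + j) (by omega) (by omega)
        · exact ⟨e, Or.inr (by have := hh (ends e).1; have := hh (ends e).2; omega)⟩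
        · exact ⟨e, Or.inl (by have := hh (ends e).1; have := hh (ends e).2; omega)⟩
      · obtain ⟨e, he | he⟩ := hcross (φ vmin + i) (by omega) (by omega)
        · exact ⟨e, Or.inl (by have := hh (ends e).1; have := hh (ends e).2; omega)⟩
        · exact ⟨e, Or.inr (by have := hh (ends e).1; have := hh (ends e).2; omega)⟩

end Groth.Agent.S17174
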