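import Groth.Statements.S17175
import Mathlib

set_option autoImplicit false
universe u
open CAlg

namespace Groth.Agent.S17175

open PowerSeries in
/-- Let k be a field, O₀ = k[[x, y]]/(xy) the complete local ring of a node and Õ₀ = k[[x]] × k[[y]] its
normalization, O₀ being embedded in Õ₀ by h ↦ (h(x, 0), h(0, y)) as the subring of pairs with equal
constant coefficients. Regard Õ₀ as an O₀-module: it is the rank-one torsion-free O₀-module that is
not free. Then every O₀-linear endomorphism of this module is Õ₀-linear, i.e. it is multiplication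
by a unique element of Õ₀; consequently its O₀-endomorphism ring is Õ₀ and its O₀-automorphism group
is the unit group of Õ₀. Here an O₀-linear endomorphism is an additive map of k[[X]] × k[[X]]
commuting with multiplication by every pair whose two constant coefficients agree. (The source works
over an algebraically closed field; only the field structure is used.) -/
theorem result (k : Type u) [Field k]
    (φ : (k⟦X⟧ × k⟦X⟧) →+ (k⟦X⟧ × k⟦X⟧))
    (hφ : ∀ a s : k⟦X⟧ × k⟦X⟧, constantCoeff a.1 = constantCoeff a.2 → φ (a * s) = a * φ s) :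
    ∃! b : k⟦X⟧ × k⟦X⟧, ∀ s : k⟦X⟧ × k⟦X⟧, φ s = b * s := by
  classical
  -- φ (1,0) has zero second component
  have hp2 : (φ ((1 : k⟦X⟧), (0 : k⟦X⟧))).2 = 0 := by
    have h := hφ ((0 : k⟦X⟧), (X : k⟦X⟧)) ((1 : k⟦X⟧), (0 : k⟦X⟧)) (by simp)
    have h0 : ((0 : k⟦X⟧), (X : k⟦X⟧)) * ((1 : k⟦X⟧), (0 : k⟦X⟧)) = 0 := by
      refine Prod.ext ?_ ?_ <;> simp
    rw [h0, map_zero] at h
    have h2 := congrArg Prod.snd h
    simp only [Prod.snd_zero, Prod.snd_mul] at h2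
    have := h2.symm
    rcases mul_eq_zero.mp this with hX | hX
    · exact absurd hX PowerSeries.X_ne_zero
    · exact hX
  have hq1 : (φ ((0 : k⟦X⟧), (1 : k⟦X⟧))).1 = 0 := by
    have h := hφ ((X : k⟦X⟧), (0 : k⟦X⟧)) ((0 : k⟦X⟧), (1 : k⟦X⟧)) (by simp)
    have h0 : ((X : k⟦X⟧), (0 : k⟦X⟧)) * ((0 : k⟦X⟧), (1 : k⟦X⟧)) = 0 := by
      refine Prod.ext ?_ ?_ <;> simp
    rw [h0, map_zero] at h
    have h2 := congrArg Prod.fst h
    simp only [Prod.fst_zero, Prod.fst_mul] at h2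
    have := h2.symm
    rcases mul_eq_zero.mp this with hX | hX
    · exact absurd hX PowerSeries.X_ne_zero
    · exact hX
  have h11 : (1 : k⟦X⟧ × k⟦X⟧) = ((1 : k⟦X⟧), (0 : k⟦X⟧)) + ((0 : k⟦X⟧), (1 : k⟦X⟧)) := by
    refine Prod.ext ?_ ?_ <;> simp
  have hφ1 : φ 1 = φ ((1 : k⟦X⟧), (0 : k⟦X⟧)) + φ ((0 : k⟦X⟧), (1 : k⟦X⟧)) := by
    rw [h11, map_add]
  refine ⟨φ 1, ?_, ?_⟩
  · intro s
    -- decompose s
    obtain ⟨s1, s2⟩ := s
    obtain ⟨t1, ht1⟩ : ∃ t1 : k⟦X⟧, t1 = PowerSeries.mk fun p => PowerSeries.coeff (p + 1) s1 := ⟨_, rfl⟩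
    obtain ⟨t2, ht2⟩ : ∃ t2 : k⟦X⟧, t2 = PowerSeries.mk fun p => PowerSeries.coeff (p + 1) s2 := ⟨_, rfl⟩
    obtain ⟨c1, hc1⟩ : ∃ c1 : k⟦X⟧, c1 = PowerSeries.C (constantCoeff s1) := ⟨_, rfl⟩
    obtain ⟨c2, hc2⟩ : ∃ c2 : k⟦X⟧, c2 = PowerSeries.C (constantCoeff s2) := ⟨_, rfl⟩
    have hs1 : s1 = X * t1 + c1 := by
      rw [ht1, hc1]; exact PowerSeries.eq_X_mul_shift_add_const s1
    have hs2 : s2 = X * t2 + c2 := by
      rw [ht2, hc2]; exact PowerSeries.eq_X_mul_shift_add_const s2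
    have hdec : ((s1, s2) : k⟦X⟧ × k⟦X⟧) = (X * t1, X * t2) * 1 + (c1, c1) * ((1 : k⟦X⟧), (0 : k⟦X⟧))
        + (c2, c2) * ((0 : k⟦X⟧), (1 : k⟦X⟧)) := by
      refine Prod.ext ?_ ?_
      · simp only [Prod.fst_add, Prod.fst_mul, Prod.fst_one, mul_one, mul_zero, add_zero]
        exact hs1
      · simp only [Prod.snd_add, Prod.snd_mul, Prod.snd_one, mul_one, mul_zero, add_zero,
          zero_add]
        exact hs2
    have hA := hφ (X * t1, X * t2) 1 (by simp)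
    have hB := hφ (c1, c1) ((1 : k⟦X⟧), (0 : k⟦X⟧)) rfl
    have hC := hφ (c2, c2) ((0 : k⟦X⟧), (1 : k⟦X⟧)) rfl
    have hlhs : φ (s1, s2) = (X * t1, X * t2) * φ 1 + (c1, c1) * φ ((1 : k⟦X⟧), (0 : k⟦X⟧))
        + (c2, c2) * φ ((0 : k⟦X⟧), (1 : k⟦X⟧)) := by
      rw [hdec, map_add, map_add, hA, hB, hC]
    rw [hlhs, hφ1]
    refine Prod.ext ?_ ?_
    · simp only [Prod.fst_add, Prod.fst_mul, hq1]
      rw [hs1]; ring
    · simp only [Prod.snd_add, Prod.snd_mul, hp2]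
      rw [hs2]; ring
  · intro b hb
    have := hb 1
    rw [mul_one] at this
    exact this.symm

end Groth.Agent.S17175
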