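import Groth.Statements.S17176
import Mathlib

set_option autoImplicit false
open Curves

namespace Groth.Agent.S17176

/-- Fix integers g ≥ 3 and d. For a complete subcurve Y of arithmetic genus g_Y of a nodal curve of
genus g, meeting the rest of the curve in k points, the lower extreme of the Basic Inequality for
line bundles of degree d is m = d(2g_Y - 2 + k)/(2g - 2) - k/2, which is an integer exactly when 2(g
- 1) divides d(2g_Y - 2 + k) - k(g - 1). Then gcd(d - g + 1, 2g - 2) = 1 if and only if m is not an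
integer for all integers g_Y, k with 0 < g_Y < g - 1, k ≥ 1 and k + 2g_Y - 2 < 2g - 2. (The row
makes explicit the bound 2g_Y - 2 + k < 2g - 2, which is automatic for subcurves of stable curves
and is satisfied by every subcurve to which the source applies the lemma; the source leaves the
ambient curve's class implicit.) -/
theorem result (g d : ℤ) (hg : 3 ≤ g) :
    Int.gcd (d - g + 1) (2 * g - 2) = 1 ↔
      ∀ gY k : ℤ, 0 < gY → gY < g - 1 → 1 ≤ k → k + 2 * gY - 2 < 2 * g - 2 →
        ¬ (2 * (g - 1) ∣ d * (2 * gY - 2 + k) - k * (g - 1)) := by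
  have hn : (2:ℤ) ≤ g - 1 := by omega
  constructor
  · intro hgcd gY k hgY0 hgY1 hk hlt hdvd
    have hcop : IsCoprime (d - g + 1) (2 * g - 2) := Int.isCoprime_iff_gcd_eq_one.mpr hgcd
    have h1 : d * (2 * gY - 2 + k) - k * (g - 1)
        = (d - g + 1) * (2 * gY - 2 + k) + (2 * g - 2) * (gY - 1) := by ring
    have h2 : (2 * g - 2) ∣ (d - g + 1) * (2 * gY - 2 + k) := by
      have h3 : (2 * g - 2) ∣ d * (2 * gY - 2 + k) - k * (g - 1) := by
        have : 2 * (g - 1) = 2 * g - 2 := by ring
        rwa [this] at hdvd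
      rw [h1] at h3
      exact (Int.dvd_add_left (Dvd.intro _ rfl)).mp h3
    have h4 : (2 * g - 2) ∣ (2 * gY - 2 + k) := hcop.symm.dvd_of_dvd_mul_left h2
    have h5 : 2 * g - 2 ≤ 2 * gY - 2 + k := Int.le_of_dvd (by omega) h4
    omega
  · intro h
    by_contra hne
    set c := Int.gcd (d - g + 1) (2 * g - 2) with hc
    have hcpos : 0 < c := by
      apply Nat.pos_of_ne_zero
      intro h0
      rw [hc, Int.gcd_eq_zero_iff] at h0
      omega
    have hc2 : 2 ≤ c := by omega
    have hcd1 : (c : ℤ) ∣ d - g + 1 := Int.gcd_dvd_left _ _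
    have hcd2 : (c : ℤ) ∣ 2 * g - 2 := Int.gcd_dvd_right _ _
    obtain ⟨a, ha⟩ := hcd2
    obtain ⟨b, hb⟩ := hcd1
    have hapos : 0 < a := by
      by_contra hle
      have hle' : a ≤ 0 := not_lt.mp hle
      have : (c : ℤ) * a ≤ 0 := mul_nonpos_of_nonneg_of_nonpos (by positivity) hle'
      omega
    have halt : a < 2 * g - 2 := by
      have h2c : (2:ℤ) ≤ (c : ℤ) := by exact_mod_cast hc2
      nlinarith
    refine h 1 a (by norm_num) (by omega) (by omega) (by omega) ?_
    refine ⟨b, ?_⟩
    have : d = (c : ℤ) * b + g - 1 := by omega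
    rw [this]
    have h2g : 2 * (g - 1) = (c : ℤ) * a := by rw [← ha]; ring
    rw [h2g]
    ring

end Groth.Agent.S17176
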