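import Groth.Statements.S17178
import Groth.Agent.Lib.QCoh.Helper18_PureAss

set_option autoImplicit false
universe u
open CategoryTheory CategoryTheory.Limits AlgebraicGeometry
open Curves

namespace Groth.Agent.S17178

/-- Let k be an algebraically closed field and X a nodal curve over k: proper over k, reduced,
connected, every irreducible component of dimension one, with at-worst-nodal singularities. Let J be
a coherent O_X-module which is pure of dimension one (every nonzero coherent submodule has
one-dimensional support), for instance a pure quotient with one-dimensional support of a rank-one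
torsion-free sheaf. Let U be an open subset and f a function on U vanishing at every point of U
lying in the support Y of J. Then f acts as zero on J over U: for every x ∈ U the germ of f at x
annihilates the stalk J_x. In other words the ideal sheaf of the reduced subcurve Y annihilates J,
so J is an O_Y-module; this is the first assertion in the proof that every such quotient q : I → J
of a rank-one torsion-free I factors through the torsion-free restriction of I to Y, the remaining
assertion (that the induced map is an isomorphism) not being part of this row. -/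
theorem result
    (k : Type u) [Field k] [IsAlgClosed k] (X : Scheme.{u}) [X.Over (Spec (CommRingCat.of k))]
    [IsProper (X ↘ Spec (CommRingCat.of k))] [IsReduced X] [ConnectedSpace X]
    (hequi : ∀ Z ∈ irreducibleComponents (X : Type u), topologicalKrullDim Z = 1)
    (hX : Curv2.AtWorstNodal k X)
    (J : X.Modules) (hJc : Coh.IsCoh J) (hJp : ShStab.IsPure X J 1)
    (U : X.Opens) (f : X.presheaf.obj (Opposite.op U))
    (hf : ∀ x : X, x ∈ U → x ∈ CohB1.support J → x ∉ X.basicOpen f)
    (x : X) (hx : x ∈ U) (t : J.presheaf.stalk x) :
    (X.presheaf.germ U x hx f) • t = 0 := by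
  open Groth.Agent.Lib.QCoh Groth.Agent.Lib.QCoh.PureAss in
  have hLN : IsLocallyNoetherian X :=
    LocallyOfFiniteType.isLocallyNoetherian (X ↘ Spec (CommRingCat.of k))
  have hJq : J.IsQuasicoherent := hJc.1
  -- Claim A : associated points have zero maximal ideal
  have claimA : ∀ y : X, Curv2.IsAssPoint J y →
      IsLocalRing.maximalIdeal (X.presheaf.stalk y) = ⊥ := by
    intro y hy
    by_contra hm
    obtain ⟨G, ι, hmono, hcoh, hnz, hsupp⟩ := exists_coh_sub_supported J hJc y hy
    have hdim := hJp G ι hmono hcoh hnz
    obtain ⟨y', hy'y, hne⟩ := exists_specializes_ne_of_maximalIdeal_ne_bot y hm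
    have hZ : irreducibleComponent y' ∈ irreducibleComponents (X : Type u) :=
      irreducibleComponent_mem_irreducibleComponents y'
    have hdZ := hequi _ hZ
    have hy'Z : y' ∈ irreducibleComponent y' := mem_irreducibleComponent
    have hTZ : closure {y} ⊆ irreducibleComponent y' := by
      refine closure_minimal ?_ isClosed_irreducibleComponent
      rintro _ rfl
      exact (isClosed_irreducibleComponent (x := y')).stableUnderSpecialization hy'y hy'Z
    have hZC : ¬ irreducibleComponent y' ⊆ closure {y} := by
      intro h
      have h1 : y' ∈ closure {y} := h hy'Z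
      have h2 : y ⤳ y' := specializes_iff_mem_closure.2 h1
      exact hne (h2.antisymm hy'y).eq.symm
    have := add_one_le_topologicalKrullDim (S := CohB1.support G)
      (Z := irreducibleComponent y') (C := closure {y}) (hsupp.trans hTZ) hsupp isClosed_closure
      isIrreducible_irreducibleComponent hZC 1 (by rw [hdim])
    rw [hdZ] at this
    exact absurd this (by decide)
  -- main
  obtain ⟨W, hxW, s, rfl⟩ := TopCat.Presheaf.exists_germ_eq _ t
  obtain ⟨V, hV0, hxV, hVWU⟩ := TopologicalSpace.Opens.isBasis_iff_nbhd.1 (X.isBasis_affineOpens)
    (show x ∈ W ⊓ U from ⟨hxW, hx⟩)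
  have hV : IsAffineOpen V := hV0
  have hVW : V ≤ W := hVWU.trans inf_le_left
  have hVU : V ≤ U := hVWU.trans inf_le_right
  set f' : Γ(X, V) := X.presheaf.map (homOfLE hVU).op f with hf'
  set s' : Γ(J, V) := J.presheaf.map (homOfLE hVW).op s with hs'
  have ef : ∀ (y : X) (hy : y ∈ V), X.presheaf.germ V y hy f' = X.presheaf.germ U y (hVU hy) f :=
    fun y hy => TopCat.Presheaf.germ_res_apply X.presheaf (homOfLE hVU) y hy f
  have es : ∀ (y : X) (hy : y ∈ V), J.presheaf.germ V y hy s' = J.presheaf.germ W y (hVW hy) s :=
    fun y hy => TopCat.Presheaf.germ_res_apply J.presheaf (homOfLE hVW) y hy s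
  have hm : f' • s' = 0 := by
    by_contra hne
    obtain ⟨y, hyV, hyass, hgerm⟩ := exists_isWeakAssPoint_of_section_ne_zero J hV (f' • s') hne
    apply hgerm
    rw [germ_smul, ef y hyV]
    have hysupp : y ∈ CohB1.support J := by
      intro hsub
      exact hgerm (Subsingleton.elim _ _)
    have hnb := hf y (hVU hyV) hysupp
    rw [Scheme.mem_basicOpen _ _ y (hVU hyV)] at hnb
    have hmem : X.presheaf.germ U y (hVU hyV) f ∈ IsLocalRing.maximalIdeal (X.presheaf.stalk y) :=
      (IsLocalRing.mem_maximalIdeal _).2 hnb
    rw [claimA y ((isAssPoint_iff_isWeakAssPoint J y).2 hyass)] at hmem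
    rw [(Submodule.mem_bot _).1 hmem, zero_smul]
  have := germ_smul J x V hxV f' s'
  rw [hm, map_zero, ef x hxV, es x hxV] at this
  exact this.symm

end Groth.Agent.S17178
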