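import Groth.Statements.S17179
import Mathlib

set_option autoImplicit false
universe u
open LabGraph

namespace Groth.Agent.S17179

section Helpers

variable {V E : Type u} [Fintype V] [Fintype E] [DecidableEq V] [DecidableEq E]

/-- per-edge cut indicator -/
def cE (ends : E → V × V) (Y : Finset V) (e : E) : ℤ :=
  if ((ends e).1 ∈ Y ∧ (ends e).2 ∉ Y) ∨ ((ends e).1 ∉ Y ∧ (ends e).2 ∈ Y) then 1 else 0

/-- vertex indicator -/
def ind (Y : Finset V) (v : V) : ℤ := if v ∈ Y then 1 else 0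

lemma cut_eq (ends : E → V × V) (Y : Finset V) :
    (cut ends Y : ℤ) = ∑ e : E, cE ends Y e := by
  unfold cut cE
  rw [Finset.card_filter]
  push_cast
  rfl

lemma sum_twist (ends : E → V × V) (φ : V → ℤ) (Y : Finset V) :
    ∑ v ∈ Y, twist ends φ v =
      ∑ e : E, (ind Y (ends e).1 * (φ (ends e).2 - φ (ends e).1) +
        ind Y (ends e).2 * (φ (ends e).1 - φ (ends e).2)) := by
  unfold twist
  rw [Finset.sum_comm]
  refine Finset.sum_congr rfl (fun e _ => ?_)
  rw [Finset.sum_add_distrib]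
  rw [Finset.sum_ite_eq Y (ends e).1 (fun _ => φ (ends e).2 - φ (ends e).1)]
  rw [Finset.sum_ite_eq Y (ends e).2 (fun _ => φ (ends e).1 - φ (ends e).2)]
  unfold ind
  split_ifs <;> simp

lemma sum_twist_univ (ends : E → V × V) (φ : V → ℤ) :
    ∑ v : V, twist ends φ v = 0 := by
  rw [sum_twist]
  apply Finset.sum_eq_zero
  intro e _
  simp [ind]

lemma sum_endCount (ends : E → V × V) :
    ∑ v : V, (endCount ends Finset.univ v : ℤ) = 2 * (Fintype.card E : ℤ) := by
  unfold endCount
  push_cast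
  rw [Finset.sum_comm]
  have : ∀ e : E, ∑ v : V, (((if (ends e).1 = v then 1 else 0 : ℤ)) + (if (ends e).2 = v then 1 else 0)) = 2 := by
    intro e
    rw [Finset.sum_add_distrib]
    simp
  rw [Finset.sum_congr rfl (fun e _ => this e)]
  simp [mul_comm]

lemma canDeg_univ (ends : E → V × V) (w : V → ℕ) :
    canDeg ends w Finset.univ = 2 * genus ends w - 2 := by
  unfold canDeg genus
  rw [Finset.sum_add_distrib, Finset.sum_sub_distrib, sum_endCount, ← Finset.mul_sum]
  simp
  ring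

end Helpers

open LabGraph in
/-- Let Γ be the weighted dual graph of a Deligne–Mumford semistable curve X of genus g ≥ 3 (connected;
every weight-zero vertex without loop joined to the other vertices by at least two edges), d a
multidegree of total degree D satisfying the Basic Inequality, and Z a set of vertices whose degree
equals the upper extreme M_Z of the inequality, that is 2((2g - 2)·d_Z - D·canDeg Z) = cut Z·(2g -
2). Then d + z again satisfies the Basic Inequality, where z, the multidegree of O(Z) on the total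
space of a regular smoothing, is the twist of the indicator function of Z (it lowers the degree on Z
by cut Z and raises it on each outside vertex by its number of edges to Z). -/
theorem result {V E : Type u} [Fintype V] [Fintype E]
    [DecidableEq V] [DecidableEq E] (ends : E → V × V) (w : V → ℕ) (hX : IsSemistableGraph ends w)
    (hg : 3 ≤ genus ends w) (d : V → ℤ) (hBI : SatisfiesBI ends w d) (Z : Finset V)
    (hZ : 2 * (canDeg ends w Finset.univ * (∑ v ∈ Z, d v) - (∑ v : V, d v) * canDeg ends w Z) =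
      (cut ends Z : ℤ) * canDeg ends w Finset.univ) :
    SatisfiesBI ends w (fun v => d v + twist ends (fun u => if u ∈ Z then 1 else 0) v) := by
  classical
  set K : ℤ := canDeg ends w Finset.univ with hKdef
  have hK : 0 ≤ K := by rw [hKdef, canDeg_univ]; omega
  set D : ℤ := ∑ v : V, d v with hD
  set φ : V → ℤ := fun u => if u ∈ Z then 1 else 0 with hφ
  -- the local weight
  set m : V → ℤ := fun v => K * d v - D * (2 * (w v : ℤ) - 2 + (endCount ends Finset.univ v : ℤ)) with hm
  have hμ : ∀ U : Finset V, K * (∑ v ∈ U, d v) - D * canDeg ends w U = ∑ v ∈ U, m v := by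
    intro U
    unfold canDeg
    rw [hm, Finset.sum_sub_distrib, Finset.mul_sum, Finset.mul_sum]
  have hBIu : ∀ U : Finset V, 2 * (∑ v ∈ U, m v) ≤ (cut ends U : ℤ) * K := by
    intro U
    have h := hBI U
    rw [hμ U] at h
    have := le_abs_self (∑ v ∈ U, m v)
    linarith
  have hBIl : ∀ U : Finset V, -((cut ends U : ℤ) * K) ≤ 2 * (∑ v ∈ U, m v) := by
    intro U
    have h := hBI U
    rw [hμ U] at h
    have := neg_abs_le (∑ v ∈ U, m v)
    linarith
  have hZ' : 2 * (∑ v ∈ Z, m v) = (cut ends Z : ℤ) * K := by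
    rw [← hμ Z]; exact hZ
  intro Y
  have hD' : ∑ v : V, (d v + twist ends φ v) = D := by
    rw [Finset.sum_add_distrib, sum_twist_univ, add_zero]
  have hY' : ∑ v ∈ Y, (d v + twist ends φ v) = ∑ v ∈ Y, d v + ∑ v ∈ Y, twist ends φ v :=
    Finset.sum_add_distrib
  show 2 * |canDeg ends w Finset.univ * (∑ v ∈ Y, (d v + twist ends φ v))
      - (∑ v : V, (d v + twist ends φ v)) * canDeg ends w Y|
      ≤ (cut ends Y : ℤ) * canDeg ends w Finset.univ
  rw [hD', hY', ← hKdef]
  set T : ℤ := ∑ v ∈ Y, twist ends φ v with hT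
  have hexp : K * (∑ v ∈ Y, d v + T) - D * canDeg ends w Y = ∑ v ∈ Y, m v + K * T := by
    rw [← hμ Y]; ring
  rw [hexp]
  -- additivity
  have hadd1 : ∑ v ∈ Y ∪ Z, m v + ∑ v ∈ Y ∩ Z, m v = ∑ v ∈ Y, m v + ∑ v ∈ Z, m v :=
    Finset.sum_union_inter
  have hadd2 : ∑ v ∈ Y ∩ Z, m v + ∑ v ∈ Y \ Z, m v = ∑ v ∈ Y, m v :=
    Finset.sum_inter_add_sum_sdiff Y Z m
  have hadd3 : ∑ v ∈ Z ∩ Y, m v + ∑ v ∈ Z \ Y, m v = ∑ v ∈ Z, m v :=
    Finset.sum_inter_add_sum_sdiff Z Y m
  have hcomm : ∑ v ∈ Z ∩ Y, m v = ∑ v ∈ Y ∩ Z, m v := by rw [Finset.inter_comm]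
  -- edge sums
  have hTe : T = ∑ e : E, (ind Y (ends e).1 * (φ (ends e).2 - φ (ends e).1) +
        ind Y (ends e).2 * (φ (ends e).1 - φ (ends e).2)) := sum_twist ends φ Y
  have hup : (cut ends (Y ∪ Z) : ℤ) + (cut ends (Y ∩ Z) : ℤ) - (cut ends Z : ℤ) + 2 * T
      ≤ (cut ends Y : ℤ) := by
    rw [cut_eq, cut_eq, cut_eq, cut_eq, hTe, Finset.mul_sum, ← Finset.sum_add_distrib,
      ← Finset.sum_sub_distrib, ← Finset.sum_add_distrib]
    apply Finset.sum_le_sum
    intro e _
    simp only [cE, ind, hφ, Finset.mem_union, Finset.mem_inter]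
    by_cases h1 : (ends e).1 ∈ Y <;> by_cases h2 : (ends e).2 ∈ Y <;>
      by_cases h3 : (ends e).1 ∈ Z <;> by_cases h4 : (ends e).2 ∈ Z <;> simp [h1, h2, h3, h4]
  have hlow : -(cut ends Y : ℤ) ≤ (cut ends Z : ℤ) - (cut ends (Z \ Y) : ℤ) - (cut ends (Y \ Z) : ℤ) + 2 * T := by
    rw [cut_eq, cut_eq, cut_eq, cut_eq, hTe, Finset.mul_sum, ← Finset.sum_sub_distrib,
      ← Finset.sum_sub_distrib, ← Finset.sum_add_distrib, ← Finset.sum_neg_distrib]
    apply Finset.sum_le_sum
    intro e _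
    simp only [cE, ind, hφ, Finset.mem_sdiff]
    by_cases h1 : (ends e).1 ∈ Y <;> by_cases h2 : (ends e).2 ∈ Y <;>
      by_cases h3 : (ends e).1 ∈ Z <;> by_cases h4 : (ends e).2 ∈ Z <;> simp [h1, h2, h3, h4]
  have hup' := mul_le_mul_of_nonneg_left hup hK
  have hlow' := mul_le_mul_of_nonneg_left hlow hK
  have b1 := hBIu (Y ∪ Z)
  have b2 := hBIu (Y ∩ Z)
  have b3 := hBIu (Z \ Y)
  have b4 := hBIl (Y \ Z)
  rcases abs_cases (∑ v ∈ Y, m v + K * T) with ⟨h, _⟩ | ⟨h, _⟩ <;> rw [h] <;> nlinarith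

end Groth.Agent.S17179
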