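import Groth.Statements.S1718
-- import your own Groth.Agent.* helpers here
import Mathlib
import Groth.Agent.Lib.Helper36.Matlis.LocalCoh

set_option autoImplicit false
universe u
open CategoryTheory
attribute [local instance] HasDerivedCategory.standard
open Dual

namespace Groth.Agent.S1718

/-- Let A be a Noetherian local ring with maximal ideal m, residue field κ and a normalized dualizing
complex ω, and let κ → E be an injective hull. Then the degree-0 local cohomology of ω with support
in m (the direct limit of Hom(A/m^n, ω)) is isomorphic to E, and the local cohomology of ω in every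
other degree is zero. -/
theorem result (A : Type u) [CommRing A] [IsLocalRing A] [IsNoetherianRing A] (ω : Dual.D A) (hω : Dual.IsDualizing A ω) (hn : Dual.IsNormalized A ω) (E : Type u) [AddCommGroup E] [Module A E] (f : IsLocalRing.ResidueField A →ₗ[A] E) (hf : InjHull.IsInjectiveHull f) : Nonempty (Dual2.HDI A (IsLocalRing.maximalIdeal A) ω 0 ≃ₗ[A] E) ∧ ∀ i : ℤ, i ≠ 0 → Subsingleton (Dual2.HDI A (IsLocalRing.maximalIdeal A) ω i) := by
  constructor
  · have hK : Dual.IsDualizing A (ω⟦(0 : ℤ)⟧) :=
      Groth.Agent.Lib.Helper12.Shriek.isDualizing_shift ω hω 0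
    have hnK : Dual.IsNormalized A (ω⟦(0 : ℤ)⟧) := fun i hi =>
      (Groth.Agent.Lib.Helper14.DualLoc.subsingleton_shift_shift_iff _ ω 0 i i (zero_add i)).mpr
        (hn i hi)
    exact Groth.Agent.Lib.Helper36.Matlis.nonempty_colimit_equiv (ω⟦(0 : ℤ)⟧) hK hnK E f hf
  · intro i hi
    apply ModuleCat.subsingleton_of_isZero
    rw [Limits.IsZero.iff_id_eq_zero]
    apply Limits.colimit.hom_ext
    intro n
    have hs : Subsingleton (Dual.inD A (A ⧸ IsLocalRing.maximalIdeal A ^ n.unop.unop) ⟶ ω⟦i⟧) :=
      Groth.Agent.Lib.Helper36.Matlis.vanishAt_of_isFiniteLength ω hn i hi _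
        (Groth.Agent.Lib.Helper36.Matlis.isFiniteLength_quot_pow n.unop.unop)
    apply ModuleCat.hom_ext
    apply LinearMap.ext
    intro φ
    have h0 : φ = 0 := hs.elim (α := Dual.inD A (A ⧸ IsLocalRing.maximalIdeal A ^ n.unop.unop) ⟶ ω⟦i⟧) φ 0
    rw [h0, map_zero, map_zero]

end Groth.Agent.S1718
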