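import Groth.Statements.S17181
import Groth.Agent.Lib.Helper21.GenFibreFlat
import Groth.Agent.Lib.Helper21.GenericFibre
import Groth.Agent.Lib.Helper21.FieldBC
-- import your own Groth.Agent.* helpers here

set_option autoImplicit false
universe u
open CategoryTheory CategoryTheory.Limits AlgebraicGeometry
open FBase

namespace Groth.Agent.S17181

/-- Let k be a field, C an irreducible k-scheme which is geometrically irreducible over k, and f : X → C
a flat k-morphism locally of finite type with X irreducible. If the generic fibre of f is
geometrically irreducible over the residue field of the generic point of C, then X is geometrically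
irreducible over k. (The published setting is a regular proper surface mapping onto a smooth
projective geometrically irreducible curve with smooth projective geometrically irreducible generic
fibre; the printed argument uses only the hypotheses kept here.) -/
theorem result (k : Type u) [Field k]
    (X C : Scheme.{u}) [X.Over (Spec (CommRingCat.of k))] [C.Over (Spec (CommRingCat.of k))]
    (f : X ⟶ C) [f.IsOver (Spec (CommRingCat.of k))] [IrreducibleSpace X] [IrreducibleSpace C]
    [GeometricallyIrreducible (C ↘ Spec (CommRingCat.of k))] [Flat f] [LocallyOfFiniteType f]
    [GeometricallyIrreducible (f.fiberToSpecResidueField (genericPoint C))] :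
    GeometricallyIrreducible (X ↘ Spec (CommRingCat.of k)) := by
  refine ⟨geometrically_iff_of_commRing_of_isClosedUnderIsomorphisms.mpr ?_⟩
  intro K _ _
  let S := Spec (CommRingCat.of k)
  let ι : Spec (CommRingCat.of K) ⟶ S := Spec.map (CommRingCat.ofHom (algebraMap k K))
  -- `C_K` is irreducible
  have hCK : IrreducibleSpace ↥(pullback (C ↘ S) ι) :=
    (geometrically_iff_of_commRing_of_isClosedUnderIsomorphisms.mp
      (GeometricallyIrreducible.geometrically_irreducibleSpace (f := C ↘ S))) K
  let π : pullback (C ↘ S) ι ⟶ C := pullback.fst (C ↘ S) ι
  -- the generic point of `C_K` maps to the generic point of `C`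
  have hopen : IsOpenMap π := by
    have : UniversallyOpen π := inferInstance
    exact Scheme.Hom.isOpenMap _
  have hη : π (genericPoint ↥(pullback (C ↘ S) ι)) = genericPoint C :=
    Groth.Agent.Lib.Helper21.map_genericPoint_of_isOpenMap π.continuous hopen
  have hgen : GeometricallyIrreducible
      (f.fiberToSpecResidueField (π (genericPoint ↥(pullback (C ↘ S) ι)))) := by
    rw [hη]; infer_instance
  have h1 : IrreducibleSpace ↥(pullback f π) :=
    Groth.Agent.Lib.Helper21.irreducibleSpace_pullback_of_flat f π
  have hover : f ≫ (C ↘ S) = X ↘ S := comp_over f S
  let e : pullback f π ≅ pullback (f ≫ (C ↘ S)) ι := pullbackRightPullbackFstIso (C ↘ S) ι f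
  let e' : pullback (f ≫ (C ↘ S)) ι ≅ pullback (X ↘ S) ι := pullback.congrHom hover rfl
  exact ((e ≪≫ e').hom.homeomorph.irreducibleSpace_iff).1 h1

end Groth.Agent.S17181
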