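import Groth.Statements.S1720
-- import your own Groth.Agent.* helpers here
import Mathlib
import Groth.Agent.Lib.Helper36.LD.HLV
import Groth.Agent.Lib.Helper58.HmapCrit3
import Groth.Agent.Lib.Helper14.DualPointwise
import Groth.Agent.S0332
import Groth.Agent.S0543

set_option autoImplicit false
universe u
open CategoryTheory
attribute [local instance] HasDerivedCategory.standard
open LocCoh

namespace Groth.Agent.S1720

/-- Let A be a Noetherian local ring with a normalized dualizing complex ω and I an ideal. If the
degree-0 local cohomology of ω with support in I is zero, then the cohomological dimension of I is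
less than dim A: for every A-module M, H^i_I(M) = 0 for all i ≥ dim A. -/
theorem result (A : Type u) [CommRing A] [IsLocalRing A] [IsNoetherianRing A] (ω : Dual.D A) (hω : Dual.IsDualizing A ω) (hn : Dual.IsNormalized A ω) (I : Ideal A) (h0 : Subsingleton (Dual2.HDI A I ω 0)) (M : Type u) [AddCommGroup M] [Module A M] (i : ℕ) (hi : ringKrullDim A ≤ (i : WithBot ℕ∞)) : Subsingleton (LocCoh.H I i M) := by
  obtain ⟨d, hd⟩ := Groth.Agent.Lib.Helper14.DualPointwise.exists_nat_ringKrullDim A
  have hdi : d ≤ i := by
    rw [hd] at hi
    exact_mod_cast hi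
  by_cases hI : I = ⊤
  · subst hI
    exact Groth.Agent.Lib.Helper58.HmapCrit.subsingleton_top i (ModuleCat.of A M)
  · have hN : IsNoetherianRing (AdicCompletion (IsLocalRing.maximalIdeal A) A) :=
      Groth.Agent.S0543.result A _
    refine Groth.Agent.S0332.result A I d hd ?_ M i hdi
    intro p hp _
    by_contra hnot
    obtain ⟨n₀, hn₀⟩ := Groth.Agent.Lib.Helper36.LD.HLVAlg.exists_torsion_of_not_hlvt I hI p hp hnot
    obtain ⟨m, hm, hall⟩ := Groth.Agent.Lib.Helper36.LD.exists_stage_torsion ω hω hn I h0 n₀
    obtain ⟨y, k, hy, hyn⟩ := hn₀ m hm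
    exact hyn (hall y k hy)

end Groth.Agent.S1720
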