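import Groth.Statements.S17246
import Groth.Agent.Lib.Helper87.Wronsk8

set_option autoImplicit false
open W4c4effdivwronsk2

namespace Groth.Agent.S17246

open Polynomial in
/-- Let `k` be a field of characteristic zero and take, on the projective line over `k`, the point `∞`
and `m` further distinct points `r_1, …, r_m` of the affine line, with positive integers `b` (at
`∞`) and `a_1, …, a_m`; put `N = b + ∑ a_j`. The sum of the spaces of differentials with a single
pole, of order at most `b + 1` at `∞`, resp. at most `a_j + 1` at `r_j`, `V = H⁰(ω((b+1)∞)) + ∑_j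
H⁰(ω((a_j+1)r_j)) ⊆ H⁰(ω((b+1)∞ + ∑_j (a_j+1)r_j)) ≅ H⁰(O(d))`, `d = b - 1 + ∑ (a_j+1)`, becomes,
after multiplying by `dX⁻¹ ∏_j (X - r_j)^(a_j+1)`, the subspace of `k[X]_{≤ d}` spanned by
`D·k[X]_{<b}` and the `D_i·k[X]_{<a_i}`, where `D = ∏_j (X - r_j)^(a_j+1)` and `D_i` omits the
`i`-th factor; a member `h` vanishes to order `n` at a point `q` of the affine line when `(X - q)^n
∣ h`, and to order `d - deg h` at `∞`. Let `p` be a further point of the affine line, distinct from
the `r_j`, and `V₁ = V(-p)` the members divisible by `X - p` (an `(N-1)`-dimensional system in the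
line bundle twisted down by `p`, with vanishing orders at the marked points read off as for `V`).
With the weight of `V₁` at a marked point defined as `∑_{n=1}^{d} dim V₁(-n·point) - (N-1 choose
2)`: the weight at `r_i` is `∑_{j≠i} a_j + b - 1 + ε_i` and the weight at `∞` is `∑_j a_j - 1 + ε`,
with all `ε` in `{0, 1}`. (The published statement is over the complex numbers with all points
arbitrary; one marked point is placed at `∞` here and `p` is taken distinct from the marked points.) -/
theorem result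
    (k : Type*) [Field k] [CharZero k] (m : ℕ) (r : Fin m → k) (hr : Function.Injective r)
    (a : Fin m → ℕ) (ha : ∀ j, 1 ≤ a j) (b : ℕ) (hb : 1 ≤ b) (N d : ℕ)
    (hN : N = (∑ j, a j) + b) (hd : d + 1 = (∑ j, (a j + 1)) + b)
    (V : Submodule k (Polynomial k))
    (hV : V = (Polynomial.degreeLT k b).map (LinearMap.mulLeft k (∏ j, (X - C (r j)) ^ (a j + 1))) ⊔
      ⨆ i, (Polynomial.degreeLT k (a i)).map
        (LinearMap.mulLeft k (∏ j ∈ Finset.univ.erase i, (X - C (r j)) ^ (a j + 1))))
    (p : k) (hp : ∀ j, p ≠ r j) (V₁ : Submodule k (Polynomial k))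
    (hV₁ : V₁ = V ⊓ (Ideal.span {X - C p}).restrictScalars k) :
    (∀ i : Fin m, ∃ ε : ℕ, ε ≤ 1 ∧
      (∑ n ∈ Finset.range d, Module.finrank k ↥(V₁ ⊓ (Ideal.span {(X - C (r i)) ^ (n + 1)}).restrictScalars k)) + 1 =
        (N - 1).choose 2 + (N - a i) + ε) ∧
    (∃ ε : ℕ, ε ≤ 1 ∧
      (∑ n ∈ Finset.range d, Module.finrank k ↥(V₁ ⊓ Polynomial.degreeLT k (d - n))) + 1 =
        (N - 1).choose 2 + (N - b) + ε) := by
  have hV' : V = Groth.Agent.Lib.Helper87.Wronsk.Vsp r a b := hV
  have hd' : d + 1 = ∑ j, a j + b + m := by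
    rw [hd, Finset.sum_add_distrib]
    simp
    ring
  subst hV₁
  rw [hV', hN]
  have hN1 : ∑ j, a j + b - 1 + 1 = ∑ j, a j + b := by omega
  have hle : Groth.Agent.Lib.Helper87.Wronsk.Vsp r a b ⊓ (Ideal.span {X - C p}).restrictScalars k ≤
      Groth.Agent.Lib.Helper87.Wronsk.Vsp r a b := inf_le_left
  have hfin : Module.finrank k ↥(Groth.Agent.Lib.Helper87.Wronsk.Vsp r a b ⊓
      (Ideal.span {X - C p}).restrictScalars k) + 1 = ∑ j, a j + b := by
    have := Groth.Agent.Lib.Helper87.Wronsk.finrank_Vsp_inf_unmarked r a hr (b' := b) hp 1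
    rw [pow_one] at this
    rw [this]
    omega
  have hdvd : ∀ y : k[X], y ∈ Groth.Agent.Lib.Helper87.Wronsk.Vsp r a b ⊓
      (Ideal.span {X - C p}).restrictScalars k → (X - C p) ∣ y := by
    intro y hy
    have h3 := hy.2
    rwa [SetLike.mem_coe, Submodule.restrictScalars_mem, Ideal.mem_span_singleton] at h3
  refine ⟨fun i => ?_, ?_⟩
  · refine Groth.Agent.Lib.Helper87.Wronsk.weight_marked r a hr hb _ hle hfin i ?_ hd'
    rintro ⟨h1, h2⟩
    have h2' := hdvd _ h2
    rw [← hN1] at h2'
    exact Groth.Agent.Lib.Helper87.Wronsk.not_dvd_both r a (fun j _ => hp j) (hp i).symm _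
      (hdvd _ h1) h2'
  · refine Groth.Agent.Lib.Helper87.Wronsk.weight_infty r a hr hb _ hle hfin ?_ hd'
    rintro ⟨h1, h2⟩
    have h1' := hdvd _ h1
    have h2' := hdvd _ h2
    have hX : (X : k[X]) = X * 1 := (mul_one X).symm
    rw [hX, Groth.Agent.Lib.Helper87.Wronsk.fT_mul, derivative_X] at h2'
    simp only [mul_one] at h2'
    have h3 : (X - C p) ∣ Groth.Agent.Lib.Helper87.Wronsk.fR r Finset.univ :=
      (dvd_add_left (Dvd.dvd.mul_left h1' _)).mp h2'
    rw [dvd_iff_isRoot] at h3
    exact Groth.Agent.Lib.Helper87.Wronsk.eval_fR_ne_zero r (fun j _ => hp j) h3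

end Groth.Agent.S17246
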