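import Groth.Statements.S17247
import Mathlib
import Groth.Agent.Lib.Helper91.GenusOneTools
import Groth.Agent.Lib.Helper91.WeightBounds

set_option autoImplicit false
open FunFld

namespace Groth.Agent.S17247

/-- Let `K/k` be a function field of one variable of genus one over an algebraically closed field `k` of
characteristic zero (an elliptic curve `E`), `A` a place, and `g ≥ 3` an odd integer. Inside
`H⁰(O_E((2g-2)A)) = L((2g-2)A)` consider `V = L(gA)` (dimension `g`) and any hyperplane `V₁` of it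
containing `L((g-2)A)`: `L((g-2)A) ⊆ V₁ ⊆ L(gA)`, `dim V₁ = g - 1`. Vanishing orders are those of
sections of `O_E((2g-2)A)`: a member `f` vanishes to order at least `n` at a place `Q` when `f ∈
L((2g-2)A - nQ)`, and the weight of `V₁` at `Q` is `∑_{n=1}^{2g-2} dim (V₁ ∩ L((2g-2)A - nQ)) - (g-1
choose 2)` (the sum of the `g - 1` vanishing orders minus `0 + 1 + ⋯ + (g-2)`). Then the weight of
`V₁` at every place `Q ≠ A` is at most `2`. (The published statement is for a smooth elliptic curve
over the complex numbers and allows every odd positive `g`; for `g = 1` the inclusion `O(gA) ⊆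
O((2g-2)A)` it uses fails, so `g ≥ 3` here.) -/
theorem result
    (k K : Type*) [Field k] [IsAlgClosed k] [CharZero k] [Field K] [Algebra k K]
    (hK : FunFld.IsFunctionField k K) (hg1 : FunFld.genus k K = 1)
    (g : ℕ) (hodd : Odd g) (h3 : 3 ≤ g) (A : FunFld.Place k K)
    (V₁ : Submodule k K) (hlo : FunFld.L (Finsupp.single A ((g : ℤ) - 2)) ≤ V₁)
    (hhi : V₁ ≤ FunFld.L (Finsupp.single A (g : ℤ))) (hdim : Module.finrank k ↥V₁ + 1 = g)
    (Q : FunFld.Place k K) (hQ : Q ≠ A) :
    (∑ n ∈ Finset.range (2 * g - 2), Module.finrank k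
        ↥(V₁ ⊓ FunFld.L (Finsupp.single A (2 * (g : ℤ) - 2) - Finsupp.single Q ((n : ℤ) + 1)))) ≤
      (g - 1).choose 2 + 2 := by
  classical
  open FunFld Module Groth.Agent.Lib.Helper55 Groth.Agent.Lib.Helper91.LimLin
    Groth.Agent.Lib.Helper91.GenusOne in
  obtain ⟨j, hj⟩ := hodd
  obtain ⟨h, rfl⟩ : ∃ h, g = h + 3 := ⟨g - 3, by omega⟩
  have hdA := ff_deg_eq_one_of_isAlgClosed hK A
  have hdQ := ff_deg_eq_one_of_isAlgClosed hK Q
  have hAQ : A ≠ Q := hQ.symm
  -- the divisors
  set E : ℕ → Divisor k K := fun n => Finsupp.single A (((h + 3 : ℕ) : ℤ)) - Finsupp.single Q (n : ℤ)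
    with hE
  have hLfin : ∀ D : Divisor k K, FiniteDimensional k ↥(L D) := fun D => ff_L_finiteDimensional hK D
  have hV₁fin : FiniteDimensional k ↥V₁ := Submodule.finiteDimensional_of_le hhi
  -- replace the ambient divisor
  have hEF : ∀ n : ℕ, V₁ ⊓ L (Finsupp.single A (2 * (((h + 3 : ℕ) : ℤ)) - 2) - Finsupp.single Q (n : ℤ)) =
      V₁ ⊓ L (E n) := by
    intro n
    apply le_antisymm
    · rintro x ⟨hx1, hx2⟩
      refine ⟨hx1, ?_⟩
      apply L_inf_le_of_pointwise (Finsupp.single A (((h + 3 : ℕ) : ℤ))) _ (E n) _ ⟨hhi hx1, hx2⟩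
      intro P
      by_cases hP : P = Q
      · right
        subst hP
        simp [hE, Finsupp.single_apply, hAQ]
      · left
        simp [hE, Finsupp.single_apply, Ne.symm hP]
    · apply inf_le_inf_left
      apply ff_L_mono
      apply sub_le_sub_right
      rw [Finsupp.single_le_single]
      push_cast
      omega
  -- degrees
  have hdegE : ∀ n : ℕ, (E n).deg = ((h + 3 : ℕ) : ℤ) - n := by
    intro n
    rw [hE, ff_deg_sub, ff_deg_single, ff_deg_single, hdA, hdQ]
    push_cast; ring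
  have hellE : ∀ n : ℕ, n < h + 3 → ell (E n) = h + 3 - n := by
    intro n hn
    apply ell_of_deg_pos hK hg1 (E n) (h + 3 - n) (by omega)
    rw [hdegE]; push_cast; omega
  have hN_le : ∀ n : ℕ, finrank k ↥(V₁ ⊓ L (E n)) ≤ ell (E n) :=
    fun n => Submodule.finrank_mono inf_le_right
  have hdimV : finrank k ↥V₁ = h + 2 := by omega
  -- L((g-2) A)
  have hell0 : ell (Finsupp.single A (((h + 3 : ℕ) : ℤ) - 2) : Divisor k K) = h + 1 := by
    apply ell_of_deg_pos hK hg1 _ (h + 1) (by omega)
    rw [ff_deg_single, hdA]; push_cast; ring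
  -- the sup argument
  have hsup : ∀ n : ℕ, n + 1 ≤ h + 3 → L (E n) ≤ V₁ →
      ell (E n) + (h + 1) ≤ (h + 2) +
        ell (Finsupp.single A (((h + 3 : ℕ) : ℤ) - 2) - Finsupp.single Q (n : ℤ) : Divisor k K) := by
    intro n hn hle
    have h1 := Submodule.finrank_sup_add_finrank_inf_eq (L (E n))
      (L (Finsupp.single A (((h + 3 : ℕ) : ℤ) - 2) : Divisor k K))
    have h2 : finrank k ↥(L (E n) ⊔ L (Finsupp.single A (((h + 3 : ℕ) : ℤ) - 2) : Divisor k K)) ≤
        h + 2 := by
      rw [← hdimV]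
      exact Submodule.finrank_mono (sup_le hle hlo)
    have h3 : finrank k ↥(L (E n) ⊓ L (Finsupp.single A (((h + 3 : ℕ) : ℤ) - 2) : Divisor k K)) ≤
        ell (Finsupp.single A (((h + 3 : ℕ) : ℤ) - 2) - Finsupp.single Q (n : ℤ) : Divisor k K) := by
      apply Submodule.finrank_mono
      apply L_inf_le_of_pointwise
      intro P
      by_cases hP : P = Q
      · left
        subst hP
        simp [hE, Finsupp.single_apply, hAQ]
      · right
        simp [Finsupp.single_apply, Ne.symm hP]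
    unfold ell at hell0 h3 ⊢
    omega
  -- (i)
  have hi : ∀ n : ℕ, 1 ≤ n → n ≤ h → finrank k ↥(V₁ ⊓ L (E n)) + n ≤ h + 2 := by
    intro n hn1 hnh
    by_contra hcon
    push Not at hcon
    have he := hellE n (by omega)
    have hle : L (E n) ≤ V₁ := by
      have heq : V₁ ⊓ L (E n) = L (E n) := by
        apply Submodule.eq_of_le_of_finrank_le inf_le_right
        have := hN_le n
        unfold ell at he
        omega
      rw [← heq]
      exact inf_le_left
    have h1 := hsup n (by omega) hle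
    have h2 : ell (Finsupp.single A (((h + 3 : ℕ) : ℤ) - 2) - Finsupp.single Q (n : ℤ) : Divisor k K) =
        h + 1 - n := by
      apply ell_of_deg_pos hK hg1 _ (h + 1 - n) (by omega)
      rw [ff_deg_sub, ff_deg_single, ff_deg_single, hdA, hdQ]; push_cast; omega
    omega
  -- (iii)
  have hNg : finrank k ↥(V₁ ⊓ L (E (h + 3))) ≤ 1 := by
    refine (hN_le _).trans ?_
    apply ell_le_one_of_deg_zero hK
    rw [hdegE]; push_cast; ring
  have hNbig : ∀ n : ℕ, h + 3 < n → finrank k ↥(V₁ ⊓ L (E n)) = 0 := by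
    intro n hn
    have h1 : ell (E n) = 0 := by
      apply ell_eq_zero_of_deg_neg hK
      rw [hdegE]; push_cast; omega
    have := hN_le n
    omega
  -- (ii)
  have hN1 : finrank k ↥(V₁ ⊓ L (E (h + 1))) ≤ 2 := by
    have := hN_le (h + 1)
    rw [hellE (h + 1) (by omega)] at this
    omega
  have hN2 : finrank k ↥(V₁ ⊓ L (E (h + 2))) ≤ 1 := by
    have := hN_le (h + 2)
    rw [hellE (h + 2) (by omega)] at this
    omega
  -- (iv)
  have hiv : finrank k ↥(V₁ ⊓ L (E (h + 3))) = 1 → finrank k ↥(V₁ ⊓ L (E (h + 1))) ≤ 1 := by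
    intro hg1'
    by_contra hcon
    push Not at hcon
    have he := hellE (h + 1) (by omega)
    have hle : L (E (h + 1)) ≤ V₁ := by
      have heq : V₁ ⊓ L (E (h + 1)) = L (E (h + 1)) := by
        apply Submodule.eq_of_le_of_finrank_le inf_le_right
        unfold ell at he
        omega
      rw [← heq]
      exact inf_le_left
    have h1 := hsup (h + 1) (by omega) hle
    -- `(g-2)(A - Q)` is principal
    have hne1 : L (Finsupp.single A (((h + 3 : ℕ) : ℤ) - 2) - Finsupp.single Q ((h + 1 : ℕ) : ℤ) :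
        Divisor k K) ≠ ⊥ := by
      intro hbot
      unfold ell at h1
      rw [hbot, finrank_bot] at h1
      unfold ell at he
      omega
    have hne2 : L (E (h + 3)) ≠ ⊥ := by
      intro hbot
      rw [hbot, inf_bot_eq, finrank_bot] at hg1'
      omega
    obtain ⟨u, hu0, hu⟩ := exists_div_eq_neg hK _ (by
      rw [ff_deg_sub, ff_deg_single, ff_deg_single, hdA, hdQ]; push_cast; ring) hne1
    obtain ⟨w, hw0, hw⟩ := exists_div_eq_neg hK _ (by rw [hdegE]; push_cast; ring) hne2
    -- combine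
    have ht0 : w * u⁻¹ ≠ 0 := mul_ne_zero hw0 (inv_ne_zero hu0)
    have hx0 : ((w * u⁻¹) ^ j)⁻¹ ≠ 0 := inv_ne_zero (pow_ne_zero _ ht0)
    have hdivx : Finsupp.single Q 1 - Finsupp.single A 1 =
        FunFld.div k (w * ((w * u⁻¹) ^ j)⁻¹) := by
      rw [ff_div_mul hK hw0 hx0, ff_div_inv hK, Groth.Agent.Lib.Helper91.Cusp.div_pow hK ht0,
        ff_div_mul hK hw0 (inv_ne_zero hu0), ff_div_inv hK, hu, hw, hE]
      have hj' : ((h + 3 : ℕ) : ℤ) = 2 * (j : ℤ) + 1 := by exact_mod_cast hj
      rw [← natCast_zsmul]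
      ext P
      simp only [Finsupp.sub_apply, Finsupp.add_apply, Finsupp.neg_apply, Finsupp.smul_apply,
        Finsupp.single_apply, smul_eq_mul]
      push_cast at hj' ⊢
      split_ifs <;> linarith
    have := ff_eq_of_single_sub_single_eq_div hK (by rw [hg1]; norm_num) Q A hdA _ hdivx
    exact hQ this
  -- the sum
  have hsum : (∑ n ∈ Finset.range (2 * (h + 3) - 2), finrank k
      ↥(V₁ ⊓ L (Finsupp.single A (2 * (((h + 3 : ℕ) : ℤ)) - 2) - Finsupp.single Q ((n : ℤ) + 1)))) =
      ∑ n ∈ Finset.range (2 * (h + 3) - 2), finrank k ↥(V₁ ⊓ L (E (n + 1))) := by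
    apply Finset.sum_congr rfl
    intro n _
    have := hEF (n + 1)
    have e : ((n + 1 : ℕ) : ℤ) = (n : ℤ) + 1 := by push_cast; rfl
    rw [e] at this
    rw [this]
  rw [hsum]
  have hsplit : 2 * (h + 3) - 2 = h + (3 + (h + 1)) := by omega
  rw [hsplit, Finset.sum_range_add, Finset.sum_range_add]
  have hs1 : (∑ n ∈ Finset.range h, finrank k ↥(V₁ ⊓ L (E (n + 1)))) ≤
      ∑ n ∈ Finset.range h, (h - n) + h := by
    have : ∀ n ∈ Finset.range h, finrank k ↥(V₁ ⊓ L (E (n + 1))) ≤ (h - n) + 1 := by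
      intro n hn
      rw [Finset.mem_range] at hn
      have := hi (n + 1) (by omega) (by omega)
      omega
    refine (Finset.sum_le_sum this).trans ?_
    rw [Finset.sum_add_distrib, Finset.sum_const, Finset.card_range, smul_eq_mul, mul_one]
  have hs3 : (∑ x ∈ Finset.range (h + 1), finrank k ↥(V₁ ⊓ L (E (h + (3 + x) + 1)))) = 0 := by
    apply Finset.sum_eq_zero
    intro x _
    exact hNbig _ (by omega)
  rw [hs3, add_zero]
  rw [Finset.sum_range_succ, Finset.sum_range_succ, Finset.sum_range_one]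
  have e1 : h + 0 + 1 = h + 1 := by omega
  have e2 : h + 1 + 1 = h + 2 := by omega
  have e3 : h + 2 + 1 = h + 3 := by omega
  rw [e1, e2, e3]
  rw [gauss_desc'] at hs1
  have hch : (h + 3 - 1).choose 2 = h * (h + 1) / 2 + (h + 1) := by
    have : h + 3 - 1 = h + 2 := by omega
    rw [this, Nat.choose_two_right]
    have h1 : (h + 2) * (h + 2 - 1) = h * (h + 1) + 2 * (h + 1) := by
      have : h + 2 - 1 = h + 1 := by omega
      rw [this]; ring
    rw [h1, Nat.add_mul_div_left _ _ (by norm_num : 0 < 2)]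
  rw [hch]
  by_cases hg' : finrank k ↥(V₁ ⊓ L (E (h + 3))) = 1
  · have := hiv hg'
    omega
  · have : finrank k ↥(V₁ ⊓ L (E (h + 3))) = 0 := by omega
    omega

end Groth.Agent.S17247
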