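import Groth.Statements.S17248
import Mathlib
import Groth.Agent.Lib.Helper91.GenusOneTools
import Groth.Agent.Lib.Helper91.WeightBounds

set_option autoImplicit false
open FunFld

namespace Groth.Agent.S17248

/-- Let `K/k` be a function field of one variable of genus one over an algebraically closed field `k` of
characteristic zero (an elliptic curve `E`), `A` a place, and `g ≥ 3` an integer. Inside
`H⁰(O_E((2g-2)A)) = L((2g-2)A)` consider `V = L(gA)` (dimension `g`) and any hyperplane `V₁` of it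
containing `L((g-2)A)`: `L((g-2)A) ⊆ V₁ ⊆ L(gA)`, `dim V₁ = g - 1`. Vanishing orders are those of
sections of `O_E((2g-2)A)`: a member `f` vanishes to order at least `n` at a place `Q` when `f ∈
L((2g-2)A - nQ)`, and the weight of `V₁` at `Q` is `∑_{n=1}^{2g-2} dim (V₁ ∩ L((2g-2)A - nQ)) - (g-1
choose 2)` (the sum of the `g - 1` vanishing orders minus `0 + 1 + ⋯ + (g-2)`). Then the weight of
`V₁` at `A` is `(g-1)² + ε` with `ε ∈ {0, 1}`. (The published statement is for a smooth elliptic
curve over the complex numbers and `g` odd positive; `g ≥ 3` here since the ambient inclusion needs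
it; this row does not assume `g` odd.) -/
theorem result
    (k K : Type*) [Field k] [IsAlgClosed k] [CharZero k] [Field K] [Algebra k K]
    (hK : FunFld.IsFunctionField k K) (hg1 : FunFld.genus k K = 1)
    (g : ℕ) (h3 : 3 ≤ g) (A : FunFld.Place k K)
    (V₁ : Submodule k K) (hlo : FunFld.L (Finsupp.single A ((g : ℤ) - 2)) ≤ V₁)
    (hhi : V₁ ≤ FunFld.L (Finsupp.single A (g : ℤ))) (hdim : Module.finrank k ↥V₁ + 1 = g) :
    ∃ ε : ℕ, ε ≤ 1 ∧
      (∑ n ∈ Finset.range (2 * g - 2), Module.finrank k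
        ↥(V₁ ⊓ FunFld.L (Finsupp.single A (2 * (g : ℤ) - 2) - Finsupp.single A ((n : ℤ) + 1)))) =
      (g - 1).choose 2 + (g - 1) ^ 2 + ε := by
  classical
  open FunFld Module Groth.Agent.Lib.Helper55 Groth.Agent.Lib.Helper91.LimLin
    Groth.Agent.Lib.Helper91.GenusOne in
  obtain ⟨h, rfl⟩ : ∃ h, g = h + 3 := ⟨g - 3, by omega⟩
  have hdA := ff_deg_eq_one_of_isAlgClosed hK A
  have hLfin : ∀ D : Divisor k K, FiniteDimensional k ↥(L D) := fun D => ff_L_finiteDimensional hK D
  have hV₁fin : FiniteDimensional k ↥V₁ := Submodule.finiteDimensional_of_le hhi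
  have hdimV : finrank k ↥V₁ = h + 2 := by omega
  set f : ℕ → ℕ := fun m => finrank k ↥(V₁ ⊓ L (Finsupp.single A (m : ℤ) : Divisor k K)) with hf
  -- rewrite the sum
  have hsum : (∑ n ∈ Finset.range (2 * (h + 3) - 2), finrank k
      ↥(V₁ ⊓ L (Finsupp.single A (2 * (((h + 3 : ℕ) : ℤ)) - 2) - Finsupp.single A ((n : ℤ) + 1)))) =
      ∑ m ∈ Finset.range (2 * (h + 3) - 2), f m := by
    rw [← Finset.sum_range_reflect f]
    apply Finset.sum_congr rfl
    intro n hn
    rw [Finset.mem_range] at hn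
    have e : (Finsupp.single A (2 * (((h + 3 : ℕ) : ℤ)) - 2) - Finsupp.single A ((n : ℤ) + 1) :
        Divisor k K) = Finsupp.single A (((2 * (h + 3) - 2 - 1 - n : ℕ)) : ℤ) := by
      rw [← Finsupp.single_sub]
      congr 1
      push_cast
      omega
    rw [e]
  rw [hsum]
  have hmono : ∀ a b : ℕ, a ≤ b → L (Finsupp.single A (a : ℤ) : Divisor k K) ≤
      L (Finsupp.single A (b : ℤ)) := by
    intro a b hab
    apply ff_L_mono
    rw [Finsupp.single_le_single]
    exact_mod_cast hab
  have hlo' : L (Finsupp.single A ((h + 1 : ℕ) : ℤ) : Divisor k K) ≤ V₁ := by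
    have e : (((h + 3 : ℕ) : ℤ) - 2) = ((h + 1 : ℕ) : ℤ) := by push_cast; ring
    rw [e] at hlo
    exact hlo
  -- small m
  have hsmall : ∀ m : ℕ, m ≤ h + 1 → f m = ell (Finsupp.single A (m : ℤ) : Divisor k K) := by
    intro m hm
    simp only [hf]
    rw [inf_eq_right.mpr ((hmono m (h + 1) hm).trans hlo')]
    rfl
  have hellm : ∀ m : ℕ, 1 ≤ m → ell (Finsupp.single A (m : ℤ) : Divisor k K) = m := by
    intro m hm
    apply ell_of_deg_pos hK hg1 _ m hm
    rw [ff_deg_single, hdA]; push_cast; ring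
  have hell0 : ell (Finsupp.single A ((0 : ℕ) : ℤ) : Divisor k K) = 1 := by
    rw [Nat.cast_zero, Finsupp.single_zero]
    exact ff_ell_zero hK
  -- big m
  have hbig : ∀ m : ℕ, h + 3 ≤ m → f m = h + 2 := by
    intro m hm
    simp only [hf]
    rw [inf_eq_left.mpr (hhi.trans (hmono (h + 3) m hm)), hdimV]
  -- middle
  have hmid1 : h + 1 ≤ f (h + 2) := by
    simp only [hf]
    have h1 : L (Finsupp.single A ((h + 1 : ℕ) : ℤ) : Divisor k K) ≤
        V₁ ⊓ L (Finsupp.single A ((h + 2 : ℕ) : ℤ) : Divisor k K) :=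
      le_inf hlo' (hmono _ _ (by omega))
    have := Submodule.finrank_mono h1
    have h2 := hellm (h + 1) (by omega)
    unfold ell at h2
    omega
  have hmid2 : f (h + 2) ≤ h + 2 := by
    simp only [hf]
    rw [← hdimV]
    exact Submodule.finrank_mono inf_le_left
  refine ⟨f (h + 2) - (h + 1), by omega, ?_⟩
  have hsplit : 2 * (h + 3) - 2 = (h + 2) + (1 + (h + 1)) := by omega
  rw [hsplit, Finset.sum_range_add f (h + 2) (1 + (h + 1)),
    Finset.sum_range_add (fun x => f (h + 2 + x)) 1 (h + 1), Finset.sum_range_one]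
  have hs1 : ∑ m ∈ Finset.range (h + 2), f m = 1 + (h + 1) * (h + 2) / 2 := by
    rw [Finset.sum_range_succ', hsmall 0 (by omega), hell0]
    have : ∑ m ∈ Finset.range (h + 1), f (m + 1) = ∑ m ∈ Finset.range (h + 1), (m + 1) := by
      apply Finset.sum_congr rfl
      intro m hm
      rw [Finset.mem_range] at hm
      rw [hsmall (m + 1) (by omega), hellm (m + 1) (by omega)]
    rw [this, ← Finset.sum_range_reflect (fun m => m + 1) (h + 1)]
    have : ∑ j ∈ Finset.range (h + 1), (h + 1 - 1 - j + 1) = ∑ j ∈ Finset.range (h + 1), (h + 1 - j) := by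
      apply Finset.sum_congr rfl
      intro j hj
      rw [Finset.mem_range] at hj
      omega
    rw [this, gauss_desc']
    have e : (h + 1) * (h + 1 + 1) = (h + 1) * (h + 2) := by ring
    rw [e]; omega
  have hs3 : ∑ x ∈ Finset.range (h + 1), f (h + 2 + (1 + x)) = (h + 1) * (h + 2) := by
    have : ∀ x ∈ Finset.range (h + 1), f (h + 2 + (1 + x)) = h + 2 := by
      intro x _
      exact hbig _ (by omega)
    rw [Finset.sum_congr rfl this, Finset.sum_const, Finset.card_range, smul_eq_mul]
  rw [hs1, hs3]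
  have e0 : h + 2 + 0 = h + 2 := by omega
  rw [e0]
  have hch : (h + 3 - 1).choose 2 = (h + 1) * (h + 2) / 2 := by
    have : h + 3 - 1 = h + 2 := by omega
    rw [this, Nat.choose_two_right]
    have : h + 2 - 1 = h + 1 := by omega
    rw [this, mul_comm]
  rw [hch]
  have e1 : (h + 3 - 1) ^ 2 = (h + 1) * (h + 2) + (h + 2) := by
    have : h + 3 - 1 = h + 2 := by omega
    rw [this]; ring
  rw [e1]
  omega

end Groth.Agent.S17248
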