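import Groth.Statements.S17255
import Groth.Agent.Lib.Helper73.HomFinFlat2
-- import your own Groth.Agent.* helpers here

set_option autoImplicit false
universe u
open CategoryTheory CategoryTheory.Limits MonoidalCategory CartesianMonoidalCategory MonObj GrpObj AlgebraicGeometry
open AbVar

namespace Groth.Agent.S17255

/-- Let k be a field, A and B abelian varieties over k (smooth proper k-group schemes with geometrically
connected fibres) with dim A = dim B (Krull dimensions of the underlying spaces), and f : A → B a
homomorphism. Then flatness of f is equivalent to finiteness of f. -/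
theorem result (k : Type u) [Field k]
    (A B : Over (Spec (CommRingCat.of k)))
    [GrpObj A] [Smooth A.hom] [IsProper A.hom] [GeometricallyConnected A.hom]
    [GrpObj B] [Smooth B.hom] [IsProper B.hom] [GeometricallyConnected B.hom]
    (f : A ⟶ B) [IsMonHom f] (hdim : topologicalKrullDim A.left = topologicalKrullDim B.left) :
    Flat f.left ↔ IsFinite f.left := by
  have : IsProper (f.left ≫ B.hom) := by rw [Over.w]; infer_instance
  have : IsProper f.left := IsProper.of_comp f.left B.hom
  have cA : ConnectedSpace A.left := GeometricallyConnected.connectedSpace_of_subsingleton A.hom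
  have cB : ConnectedSpace B.left := GeometricallyConnected.connectedSpace_of_subsingleton B.hom
  have : CompactSpace A.left := QuasiCompact.compactSpace_of_compactSpace A.hom
  have : CompactSpace B.left := QuasiCompact.compactSpace_of_compactSpace B.hom
  have iA : IrreducibleSpace A.left :=
    Groth.Agent.Lib.Helper73.ConnIrr.irreducibleSpace_of_smooth A.hom
  have iB : IrreducibleSpace B.left :=
    Groth.Agent.Lib.Helper73.ConnIrr.irreducibleSpace_of_smooth B.hom
  have : ∀ x, _root_.IsReduced (B.left.presheaf.stalk x) := fun x => by
    have := Groth.Agent.Lib.Helper73.ConnIrr.isDomain_stalk_of_smooth B.hom x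
    infer_instance
  have rB : IsReduced B.left := isReduced_of_isReduced_stalk B.left
  constructor
  · intro hfl
    have := Groth.Agent.Lib.Helper73.HomFinFlat.surjective_of_flat_of_isProper A B f
    exact (Groth.Agent.Lib.Helper73.HomFinFlat.isFinite_flat_of_surjective_hom A B f hdim).1
  · intro hfin
    have := Groth.Agent.Lib.Helper73.HomFinFlat.surjective_of_isFinite A B f hdim
    exact Groth.Agent.Lib.Helper23.HomFlat.flat_of_surjective_hom A B f

end Groth.Agent.S17255
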