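import Groth.Statements.S17265
import Groth.Agent.Lib.Helper80.AlgStT2
import Groth.Agent.Lib.Helper80.FibCat20

set_option backward.isDefEq.respectTransparency false

set_option autoImplicit false
open CategoryTheory AlgebraicGeometry
universe u
open AlgSt

namespace Groth.Agent.S17265

/-- Let S be a scheme and let f : 𝒳 → 𝒴 and g : 𝒴 → 𝒵 be functors over (Sch/S) between categories fibred
in groupoids over (Sch/S). If the composite g ∘ f is representable by algebraic spaces and the
diagonal 𝒴 → 𝒴 ×_𝒵 𝒴 of g is representable by algebraic spaces, then f is representable by algebraic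
spaces. This is the case of the source's lemma in which the class of test objects is the class of
algebraic spaces over S (fppf sheaves on (Sch/S) with representable diagonal and an etale surjective
map from a scheme). -/
theorem result {S : Scheme.{u}} {𝒳 𝒴 𝒵 : AlgSt.Cat S}
    (h𝒳 : FibCat.IsFibGrpd 𝒳.p) (h𝒴 : FibCat.IsFibGrpd 𝒴.p) (h𝒵 : FibCat.IsFibGrpd 𝒵.p)
    (f : 𝒳 ⥤ᵇ 𝒴) (g : 𝒴 ⥤ᵇ 𝒵)
    (hgf : AlgSt.RepByAlgSp1 (BasedFunctor.comp f g))
    (hΔ : AlgSt.RepByAlgSp1 (FibCat.diag g)) :
    AlgSt.RepByAlgSp1 f := by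
  intro U y
  have h1 : AlgSt.RepByAlgSp (FibCat.fp (BasedFunctor.comp y g) (BasedFunctor.comp f g)) :=
    hgf U (BasedFunctor.comp y g)
  have h2 := Groth.Agent.Lib.Helper80.repByAlgSp_fp_of_repByAlgSp h𝒴
    (Groth.Agent.Lib.Helper80.fp_isFibGrpd g g h𝒴 h𝒴 h𝒵) (FibCat.diag g) hΔ h1
    (Groth.Agent.Lib.Helper80.relPair y f g)
  exact Groth.Agent.Lib.Helper80.repByAlgSp_of_isEquivOver _
    (Groth.Agent.Lib.Helper80.relMagic_isEquivOver y f g) h2

end Groth.Agent.S17265
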