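import Groth.Statements.S1728
-- import your own Groth.Agent.* helpers here
import Mathlib.Tactic
import Mathlib.Algebra.Module.Injective
import Mathlib.Order.CompactlyGenerated.Basic
import Mathlib.LinearAlgebra.Quotient.Basic

set_option autoImplicit false
universe u
open InjHull

namespace Groth.Agent.S1728

/-- Let I be an injective R-module and E a submodule of I. Then E is an injective module if and only if
every submodule E' of I containing E, such that every nonzero submodule of E' meets E nontrivially,
is equal to E. -/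
theorem result (R : Type u) [CommRing R] (I : Type u) [AddCommGroup I] [Module R I] [Module.Injective R I] (E : Submodule R I) : Module.Injective R E ↔ ∀ E' : Submodule R I, E ≤ E' → (∀ N : Submodule R I, N ≤ E' → N ≠ ⊥ → N ⊓ E ≠ ⊥) → E' = E := by
  constructor
  · intro hE E' hle hess
    obtain ⟨ρ, hρ⟩ := Module.Injective.out (Submodule.inclusion hle)
      (Submodule.inclusion_injective hle) (LinearMap.id : E →ₗ[R] E)
    have hker : LinearMap.ker ρ = ⊥ := by
      by_contra hne
      have hne' : (LinearMap.ker ρ).map E'.subtype ≠ ⊥ := by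
        intro h0
        apply hne
        rw [eq_bot_iff]
        intro z hz
        have hz' : E'.subtype z ∈ (LinearMap.ker ρ).map E'.subtype := ⟨z, hz, rfl⟩
        rw [h0] at hz'
        exact Subtype.ext ((Submodule.mem_bot R).mp hz')
      apply hess _ (Submodule.map_subtype_le E' _) hne'
      rw [eq_bot_iff]
      rintro x ⟨⟨y, hy, rfl⟩, hxE⟩
      have hxE' : (y : I) ∈ E := hxE
      have h1 : y = Submodule.inclusion hle ⟨(y : I), hxE'⟩ := by ext; rfl
      have h2 : ρ y = ⟨(y : I), hxE'⟩ := (congrArg ρ h1).trans (hρ _)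
      rw [SetLike.mem_coe, LinearMap.mem_ker] at hy
      rw [hy] at h2
      have h3 : (y : I) = 0 := (congrArg Subtype.val h2).symm
      simpa using h3
    apply le_antisymm _ hle
    intro x hx
    have h1 : ρ (Submodule.inclusion hle (ρ ⟨x, hx⟩)) = ρ ⟨x, hx⟩ := hρ _
    have h3 := (LinearMap.ker_eq_bot.mp hker) h1
    have h4 : x = ((ρ ⟨x, hx⟩ : E) : I) := (congrArg Subtype.val h3).symm
    rw [h4]; exact (ρ ⟨x, hx⟩).2
  · intro h
    obtain ⟨K, hK⟩ : ∃ K : Submodule R I, Maximal (fun K => K ∈ {K : Submodule R I | Disjoint K E}) K := by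
      apply zorn_le₀ {K : Submodule R I | Disjoint K E}
      intro c hc hchain
      refine ⟨sSup c, ?_, fun z hz => le_sSup hz⟩
      exact (hchain.directedOn.disjoint_sSup_left).mpr (fun b hb => hc hb)
    have hKE : Disjoint K E := hK.prop
    have hKmax : ∀ K' : Submodule R I, K ≤ K' → Disjoint K' E → K' = K :=
      fun K' hle hd => le_antisymm (hK.le_of_ge hd hle) hle
    let j : E →ₗ[R] I ⧸ K := K.mkQ ∘ₗ E.subtype
    have hj : Function.Injective j := by
      rw [← LinearMap.ker_eq_bot, eq_bot_iff]
      intro x hx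
      rw [LinearMap.mem_ker, LinearMap.comp_apply, Submodule.mkQ_apply,
        Submodule.Quotient.mk_eq_zero] at hx
      have hmem : (x : I) ∈ K ⊓ E := ⟨hx, x.2⟩
      rw [hKE.eq_bot] at hmem
      exact Subtype.ext ((Submodule.mem_bot R).mp hmem)
    obtain ⟨φ, hφ⟩ := Module.Injective.out j hj E.subtype
    let Ψ : I →ₗ[R] I := φ ∘ₗ K.mkQ
    have hΨE : ∀ x ∈ E, Ψ x = x := fun x hx => hφ ⟨x, hx⟩
    have hKΨ : K ≤ LinearMap.ker Ψ := by
      intro x hx
      rw [LinearMap.mem_ker]
      show φ (K.mkQ x) = 0
      rw [Submodule.mkQ_apply, (Submodule.Quotient.mk_eq_zero K).mpr hx, map_zero]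
    have hkerE : Disjoint (LinearMap.ker Ψ) E := by
      rw [Submodule.disjoint_def]
      intro x hx hxE
      rw [LinearMap.mem_ker, hΨE x hxE] at hx
      exact hx
    have hker : LinearMap.ker Ψ = K := hKmax _ hKΨ hkerE
    have hrange : LinearMap.range Ψ = E := by
      apply h
      · intro x hx; exact ⟨x, hΨE x hx⟩
      · intro N hN hNbot
        have hlt : ¬ Disjoint (N.comap Ψ) E := by
          intro hd
          have heq : N.comap Ψ = K :=
            hKmax _ (by rw [← hker]; exact LinearMap.ker_le_comap Ψ) hd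
          apply hNbot
          rw [eq_bot_iff]
          intro n hn
          obtain ⟨y, rfl⟩ := hN hn
          have hy : y ∈ N.comap Ψ := hn
          rw [heq, ← hker] at hy
          exact hy
        rw [Submodule.disjoint_def] at hlt
        push Not at hlt
        obtain ⟨x, hxN, hxE, hx0⟩ := hlt
        intro hbot
        apply hx0
        have hxN' : x ∈ N := by
          have : Ψ x ∈ N := hxN
          rwa [hΨE x hxE] at this
        have hmem : x ∈ N ⊓ E := ⟨hxN', hxE⟩
        rw [hbot] at hmem
        exact hmem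
    let r : I →ₗ[R] E := LinearMap.codRestrict E Ψ (fun x => by rw [← hrange]; exact ⟨x, rfl⟩)
    have hr : ∀ x : E, r (x : I) = x := fun x => Subtype.ext (hΨE x x.2)
    constructor
    intro X Y _ _ _ _ f hf g
    obtain ⟨h', hh'⟩ := Module.Injective.out f hf (E.subtype ∘ₗ g)
    refine ⟨r ∘ₗ h', fun x => ?_⟩
    rw [LinearMap.comp_apply, hh']
    exact hr (g x)

end Groth.Agent.S1728
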