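import Groth.Statements.S17287
import Mathlib
import Groth.Agent.Lib.Helper21.DominantMaximal
import Groth.Agent.Lib.Helper21.FieldDimPts
import Groth.Agent.Lib.Helper21.RedSubscheme
-- import your own Groth.Agent.* helpers here

set_option autoImplicit false
universe u
open CategoryTheory CategoryTheory.Limits AlgebraicGeometry TopologicalSpace
open Variety

namespace Groth.Agent.S17287

/-- Let f : Y → X be a surjective k-morphism of proper schemes over a field k and C ⊆ X an integral
closed subscheme of dimension one. Then there is an integral closed subscheme C' ⊆ Y of dimension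
one with f(C') = C as closed subsets. (The source states this for proper algebraic spaces over k;
this is the case of schemes.) -/
theorem result (k : Type u) [Field k] (X Y : Scheme.{u})
    [X.Over (Spec (CommRingCat.of k))] [IsProper (X ↘ (Spec (CommRingCat.of k)))] [Y.Over (Spec (CommRingCat.of k))] [IsProper (Y ↘ (Spec (CommRingCat.of k)))]
    (f : Y ⟶ X) (hf : f ≫ (X ↘ (Spec (CommRingCat.of k))) = Y ↘ (Spec (CommRingCat.of k))) [Surjective f]
    (C : X.IdealSheafData) [IsIntegral C.subscheme] (hC : topologicalKrullDim (C.support : Set X) = 1) :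
    ∃ C' : Y.IdealSheafData, IsIntegral C'.subscheme ∧ topologicalKrullDim (C'.support : Set Y) = 1 ∧
      f.base '' (C'.support : Set Y) = (C.support : Set X) := by
  have hlftX : LocallyOfFiniteType (X ↘ (Spec (CommRingCat.of k))) := inferInstance
  have hlftY : LocallyOfFiniteType (Y ↘ (Spec (CommRingCat.of k))) := inferInstance
  have hlft : LocallyOfFiniteType f :=
    Groth.Agent.Lib.Helper21.FieldDim.locallyOfFiniteType_of_comp_eq
      (Y ↘ (Spec (CommRingCat.of k))) (X ↘ (Spec (CommRingCat.of k))) f hf
  have huc : UniversallyClosed f := by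
    have : UniversallyClosed (f ≫ (X ↘ (Spec (CommRingCat.of k)))) := by rw [hf]; infer_instance
    exact UniversallyClosed.of_comp_of_isSeparated f (X ↘ (Spec (CommRingCat.of k)))
  have hqc : QuasiCompact f := inferInstance
  -- generic point of C
  have hirr : IrreducibleSpace ↥C.subscheme := inferInstance
  set c : X := C.subschemeι (genericPoint ↥C.subscheme) with hc
  have hcl : closure ({c} : Set X) = (C.support : Set X) := by
    rw [hc, ← Set.image_singleton, C.subschemeι.isClosedEmbedding.closure_image_eq,
      genericPoint_closure, Set.image_univ, Scheme.IdealSheafData.range_subschemeι]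
  have htdc : Groth.Agent.Lib.Helper21.FieldDim.td (X ↘ (Spec (CommRingCat.of k))) c = 1 := by
    have h1 := Groth.Agent.Lib.Helper21.FieldDim.dim_closure_singleton
      (X ↘ (Spec (CommRingCat.of k))) c
    rw [hcl, hC] at h1
    exact_mod_cast h1.symm
  obtain ⟨y0, hy0⟩ := f.surjective c
  have hne : Nonempty ↥(f.fiber c) := ⟨(f.fiberHomeo _).symm ⟨y0, hy0⟩⟩
  obtain ⟨z', -, hz'cl⟩ := (isClosed_univ (X := ↥(f.fiber c))).exists_closed_singleton
    Set.univ_nonempty
  have hfz : f (f.fiberι _ z') = c := by
    have : f.fiberι c z' ∈ Set.range (f.fiberι c) := ⟨z', rfl⟩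
    rw [Scheme.Hom.range_fiberι] at this
    exact this
  have htd0 : Groth.Agent.Lib.Helper21.FieldDim.tdR f (f.fiberι _ z') = 0 := by
    rw [← Groth.Agent.Lib.Helper21.FieldDim.td_fibStr,
      Groth.Agent.Lib.Helper21.FieldDim.td_eq_zero_of_isClosed_singleton _ hz'cl]
  set y : Y := f.fiberι _ z' with hy
  let W : TopologicalSpace.Closeds Y := ⟨closure {y}, isClosed_closure⟩
  refine ⟨Scheme.IdealSheafData.vanishingIdeal W, ?_, ?_, ?_⟩
  · exact Groth.Agent.Lib.Helper21.RedSubscheme.isIntegral_vanishingIdeal_subscheme W
      isIrreducible_singleton.closure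
  · rw [Scheme.IdealSheafData.coe_support_vanishingIdeal]
    show topologicalKrullDim ↥(closure {y}) = 1
    rw [Groth.Agent.Lib.Helper21.FieldDim.dim_closure_singleton (Y ↘ (Spec (CommRingCat.of k))),
      Groth.Agent.Lib.Helper21.FieldDim.td_eq_add_tdR (Y ↘ (Spec (CommRingCat.of k)))
        (X ↘ (Spec (CommRingCat.of k))) f hf, htd0, hfz, htdc]
    rfl
  · rw [Scheme.IdealSheafData.coe_support_vanishingIdeal]
    show f.base '' closure {y} = (C.support : Set X)
    rw [← hcl]
    apply subset_antisymm
    · rintro _ ⟨t, ht, rfl⟩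
      have : y ⤳ t := specializes_iff_mem_closure.mpr ht
      have h2 := this.map f.continuous
      rw [← hfz]
      exact h2.mem_closure
    · have h1 : IsClosed (f.base '' closure {y}) := f.isClosedMap _ isClosed_closure
      refine closure_minimal ?_ h1
      rintro _ rfl
      exact ⟨y, subset_closure rfl, hfz⟩

end Groth.Agent.S17287
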