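import Groth.Statements.S1729
-- import your own Groth.Agent.* helpers here
import Mathlib.Tactic
import Mathlib.RingTheory.Nakayama
import Mathlib.RingTheory.LocalRing.Module

set_option autoImplicit false
universe u
open Dual2

namespace Groth.Agent.S1729

theorem aux (R : Type u) [CommRing R] [IsLocalRing R] (M : Type u) [AddCommGroup M] [Module R M]
    (n : ℕ) (v : Fin n → M) (hv : Submodule.span R (Set.range v) = ⊤)
    (hmin : ∀ m < n, ¬ ∃ w : Fin m → M, Submodule.span R (Set.range w) = ⊤) :
    Dual2.IsProjectiveCover (Fintype.linearCombination R v) := by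
  classical
  have hker : LinearMap.ker (Fintype.linearCombination R v)
      ≤ (IsLocalRing.maximalIdeal R) • (⊤ : Submodule R (Fin n → R)) := by
    intro c hc
    rw [LinearMap.mem_ker, Fintype.linearCombination_apply] at hc
    have hcj : ∀ j, c j ∈ IsLocalRing.maximalIdeal R := by
      intro j
      by_contra hj
      have hu : IsUnit (c j) := by
        rwa [IsLocalRing.mem_maximalIdeal, mem_nonunits_iff, not_not] at hj
      obtain ⟨m, rfl⟩ : ∃ m, n = m + 1 := ⟨n - 1, by have := j.pos; omega⟩
      apply hmin m (Nat.lt_succ_self m)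
      refine ⟨v ∘ j.succAbove, ?_⟩
      rw [eq_top_iff, ← hv, Submodule.span_le]
      rintro _ ⟨i, rfl⟩
      have hvj : v j ∈ Submodule.span R (Set.range (v ∘ j.succAbove)) := by
        rw [Fin.sum_univ_succAbove _ j] at hc
        have h1 : c j • v j = - ∑ i, c (j.succAbove i) • v (j.succAbove i) :=
          eq_neg_of_add_eq_zero_left hc
        have h2 : c j • v j ∈ Submodule.span R (Set.range (v ∘ j.succAbove)) := by
          rw [h1]
          apply Submodule.neg_mem
          apply Submodule.sum_mem
          intro i _
          exact Submodule.smul_mem _ _ (Submodule.subset_span ⟨i, rfl⟩)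
        obtain ⟨u, hu'⟩ := hu
        have : v j = (↑u⁻¹ : R) • (c j • v j) := by
          rw [smul_smul, ← hu', Units.inv_mul, one_smul]
        rw [this]
        exact Submodule.smul_mem _ _ h2
      rcases Fin.eq_self_or_eq_succAbove j i with rfl | ⟨i', rfl⟩
      · exact hvj
      · exact Submodule.subset_span ⟨i', rfl⟩
    have : c = ∑ j, c j • (Pi.single j 1 : Fin n → R) := by
      ext i; simp [Finset.sum_apply, Pi.single_apply]
    rw [this]
    exact Submodule.sum_mem _ (fun j _ => Submodule.smul_mem_smul (hcj j) Submodule.mem_top)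
  refine ⟨inferInstance, ?_, ?_⟩
  · rw [← LinearMap.range_eq_top, Fintype.range_linearCombination, hv]
  · intro N hN
    have h1 : N ⊔ LinearMap.ker (Fintype.linearCombination R v) = ⊤ := by
      rw [← Submodule.comap_map_eq, hN, Submodule.comap_top]
    have h2 : (⊤ : Submodule R (Fin n → R)) ≤ N ⊔ (IsLocalRing.maximalIdeal R) • ⊤ := by
      calc (⊤ : Submodule R (Fin n → R)) = N ⊔ LinearMap.ker (Fintype.linearCombination R v) := h1.symm
        _ ≤ N ⊔ (IsLocalRing.maximalIdeal R) • ⊤ := sup_le_sup_left hker N
    exact eq_top_iff.mpr (Submodule.le_of_le_smul_of_le_jacobson_bot Module.Finite.fg_top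
      (by rw [IsLocalRing.jacobson_eq_maximalIdeal]; exact bot_ne_top) h2)


/-- Over a local ring, every finite module M admits a projective cover: a surjection from a projective
module P onto M such that no proper submodule of P maps onto M. -/
theorem result (R : Type u) [CommRing R] [IsLocalRing R] (M : Type u) [AddCommGroup M] [Module R M] [Module.Finite R M] : ∃ (P : Type u) (_ : AddCommGroup P) (_ : Module R P) (f : P →ₗ[R] M), Dual2.IsProjectiveCover f := by
  classical
  have hex : ∃ n : ℕ, ∃ v : Fin n → M, Submodule.span R (Set.range v) = ⊤ :=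
    Module.Finite.exists_fin (R := R) (M := M)
  obtain ⟨v, hv⟩ := Nat.find_spec hex
  exact ⟨Fin (Nat.find hex) → R, inferInstance, inferInstance, Fintype.linearCombination R v,
    aux R M _ v hv (fun m hm => Nat.find_min hex hm)⟩

end Groth.Agent.S1729
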