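import Groth.Statements.S17307
import Mathlib
import Groth.Agent.Lib.Helper33.EtaleStalk

set_option maxHeartbeats 800000
set_option backward.isDefEq.respectTransparency.types false

set_option autoImplicit false
universe u
open CurvSt

namespace Groth.Agent.S17307

open CategoryTheory AlgebraicGeometry in
/-- Let X be a proper scheme of dimension at most 1 over a field k, and Spec k → S a point of the base.
The classifying object of X in the stack of curves over S lies in the Gorenstein open substack — by
definition: the morphism of sheaves h_X → h_{Spec k} induced by X → Spec k is, in every etale chart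
diagram, at every point flat with Gorenstein fibre local ring — if and only if X is Gorenstein, i.e.
all local rings of X are Gorenstein local rings. -/
theorem result (S : Scheme.{u}) (k : Type u) [Field k] (t : Spec (CommRingCat.of k) ⟶ S)
    (X : Scheme.{u}) (p : X ⟶ Spec (CommRingCat.of k)) [IsProper p] (hdim : topologicalKrullDim ↥X ≤ 1) :
    AlgSp.LocP (fun _ _ g => ∀ x, (g.stalkMap x).hom.Flat ∧
        LocCoh.IsGorensteinLocalRing ((g.fiber (g x)).presheaf.stalk (g.asFiber x))) ((AlgSp.yon S).map (Over.homMk p rfl : Over.mk (p ≫ t) ⟶ Over.mk t)) ↔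
      ∀ x : ↥X, LocCoh.IsGorensteinLocalRing (X.presheaf.stalk x) := by
  haveI : IsLocallyNoetherian X := LocallyOfFiniteType.isLocallyNoetherian p
  constructor
  · intro h x
    have hx := AlgSp.locP_yon_map h x
    exact (Groth.Agent.Lib.Helper33.GorFibre.gorenstein_stalk_iff' p x hx.1).2
      ⟨Groth.Agent.Lib.Helper33.EtaleStalk.gor_stalk_Spec_field _, hx.2⟩
  · intro hX U V a b h ha hb hab
    obtain ⟨a, rfl⟩ := (AlgSp.yon S).map_surjective a
    obtain ⟨b, rfl⟩ := (AlgSp.yon S).map_surjective b
    rw [AlgSp.repWith_yon_map_iff] at ha hb
    haveI : Etale (a.left : U.left ⟶ X) := ha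
    haveI : Etale (b.left : V.left ⟶ Spec (CommRingCat.of k)) := hb
    exact Groth.Agent.Lib.Helper33.EtaleStalk.isGorAt_chart (X := X) (k := k) a.left b.left h.left hX

end Groth.Agent.S17307
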