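import Groth.Statements.S17308
import Groth.Agent.Lib.Helper9.LciMor1
import Groth.Agent.Lib.Helper9.LciMor2
import Groth.Agent.S8661

set_option maxHeartbeats 800000
set_option backward.isDefEq.respectTransparency.types false

set_option autoImplicit false
universe u
open CurvSt

namespace Groth.Agent.S17308

open CategoryTheory AlgebraicGeometry in
/-- Let X be a proper scheme of dimension at most 1 over a field k with structure morphism p, and Spec k
→ S a point of the base. The classifying object of X in the stack of curves over S lies in the local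
complete intersection open substack — by definition: the morphism of sheaves h_X → h_{Spec k}
induced by p is a Koszul morphism etale locally on every chart diagram — if and only if X is a local
complete intersection over k, i.e. p is Koszul at every point of X (near each point, locally of
finite type and a Koszul-regular immersion into a scheme smooth over k). -/
theorem result (S : Scheme.{u}) (k : Type u) [Field k] (t : Spec (CommRingCat.of k) ⟶ S)
    (X : Scheme.{u}) (p : X ⟶ Spec (CommRingCat.of k)) [IsProper p] (hdim : topologicalKrullDim ↥X ≤ 1) :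
    AlgSp.IsLCIMor ((AlgSp.yon S).map (Over.homMk p rfl : Over.mk (p ≫ t) ⟶ Over.mk t)) ↔ ∀ x : ↥X, Synt.IsKoszulAt p x := by
  constructor
  · intro h x
    exact AlgSp.locP_yon_map h x
  · intro hX U V a b h ha hb hab
    obtain ⟨a, rfl⟩ := (AlgSp.yon S).map_surjective a
    obtain ⟨b, rfl⟩ := (AlgSp.yon S).map_surjective b
    rw [AlgSp.repWith_yon_map_iff] at ha hb
    haveI : Etale (a.left : U.left ⟶ X) := ha
    haveI : Etale (b.left : V.left ⟶ Spec (CommRingCat.of k)) := hb
    have hab' : a ≫ (Over.homMk p rfl : Over.mk (p ≫ t) ⟶ Over.mk t) = h ≫ b := by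
      apply (AlgSp.yon S).map_injective
      rw [Functor.map_comp, Functor.map_comp]
      exact hab
    have hcomm : a.left ≫ p = h.left ≫ b.left := by
      have := congrArg CommaMorphism.left hab'
      simpa using this
    have hsm : ∀ {A B : Scheme.{u}} (f : A ⟶ B) [Smooth f] (x : A), Synt.IsKoszulAt f x := by
      intro A B f _ x
      obtain ⟨V', hV', hxV', -⟩ :=
        exists_isAffineOpen_mem_and_subset (x := f x) (U := ⊤) trivial
      obtain ⟨U', hU', hxU', hUV'⟩ :=
        exists_isAffineOpen_mem_and_subset (x := x) (U := f ⁻¹ᵁ V') hxV'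
      exact Groth.Agent.Lib.Helper9.LciMor2.isKoszulAt_of_affine_isLCI f x ⟨U', hU'⟩ ⟨V', hV'⟩
        hUV' hxU' (Groth.Agent.Lib.Helper9.LciMor2.ringHomLCI_of_smooth _
          (f.smooth_appLE hV' hU' hUV'))
    have h1 : ∀ u : U.left, Synt.IsKoszulAt (a.left ≫ p) u :=
      Groth.Agent.S8661.result a.left p (fun u => hsm a.left u) hX
    intro u
    refine Groth.Agent.Lib.Helper9.LciMor1.isKoszulAt_of_comp_smooth h.left b.left u ?_
    rw [← hcomm]
    exact h1 u

end Groth.Agent.S17308
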