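import Groth.Statements.S2009
import Groth.Agent.Lib.Helper10.BL

set_option autoImplicit false
universe u
open TensorProduct
open EtAlg

namespace Groth.Agent.S2009

open Groth.Agent.Lib.Helper10.BL

variable {R S : Type u} [CommRing R] [CommRing S] [Algebra R S] (I : Ideal R)

/-- `S = φ(R) + I^n S` once `R/I → S/IS` is surjective -/
theorem range_sup_pow_smul_top
    (hsurj : ∀ s : S, ∃ r : R, s - algebraMap R S r ∈ I.map (algebraMap R S)) (n : ℕ) :
    LinearMap.range (Algebra.linearMap R S) ⊔ (I ^ n • ⊤ : Submodule R S) = ⊤ := by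
  have h1 : LinearMap.range (Algebra.linearMap R S) ⊔ (I • ⊤ : Submodule R S) = ⊤ := by
    rw [eq_top_iff]
    intro s _
    obtain ⟨r, hr⟩ := hsurj s
    have : s = algebraMap R S r + (s - algebraMap R S r) := by ring
    rw [this]
    refine Submodule.add_mem_sup ⟨r, rfl⟩ ?_
    rw [Ideal.smul_top_eq_map]
    exact hr
  induction n with
  | zero => rw [pow_zero, Ideal.one_eq_top, Submodule.top_smul, sup_top_eq]
  | succ n ih =>
    refine eq_top_iff.mpr ?_
    have hle : (I ^ n • ⊤ : Submodule R S) ≤
        LinearMap.range (Algebra.linearMap R S) ⊔ (I ^ (n + 1) • ⊤ : Submodule R S) := by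
      calc (I ^ n • ⊤ : Submodule R S)
          = I ^ n • (LinearMap.range (Algebra.linearMap R S) ⊔ (I • ⊤ : Submodule R S)) := by rw [h1]
        _ = I ^ n • LinearMap.range (Algebra.linearMap R S) ⊔ I ^ n • (I • ⊤ : Submodule R S) :=
            Submodule.smul_sup _ _ _
        _ ≤ LinearMap.range (Algebra.linearMap R S) ⊔ (I ^ (n + 1) • ⊤ : Submodule R S) := by
            refine sup_le_sup Submodule.smul_le_right ?_
            rw [← Submodule.mul_smul, ← pow_succ]
    calc (⊤ : Submodule R S) = LinearMap.range (Algebra.linearMap R S) ⊔ (I ^ n • ⊤ : Submodule R S) :=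
          ih.symm
      _ ≤ _ := sup_le le_sup_left hle

theorem exists_sub_mem_pow
    (hsurj : ∀ s : S, ∃ r : R, s - algebraMap R S r ∈ I.map (algebraMap R S)) (n : ℕ) (s : S) :
    ∃ r : R, s - algebraMap R S r ∈ (I ^ n).map (algebraMap R S) := by
  have : s ∈ LinearMap.range (Algebra.linearMap R S) ⊔ (I ^ n • ⊤ : Submodule R S) := by
    rw [range_sup_pow_smul_top I hsurj n]; trivial
  obtain ⟨_, ⟨r, rfl⟩, z, hz, rfl⟩ := Submodule.mem_sup.mp this
  refine ⟨r, ?_⟩
  rw [Ideal.smul_top_eq_map] at hz
  simpa using hz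

variable (hsurj : ∀ s : S, ∃ r : R, s - algebraMap R S r ∈ I.map (algebraMap R S))
  (hinj : ∀ r : R, algebraMap R S r ∈ I.map (algebraMap R S) → r ∈ I)

include hsurj hinj in
/-- modules killed by `I` -/
theorem bijective_of_killed (M : Type u) [AddCommGroup M] [Module R M]
    (hM : ∀ (m : M), ∀ a ∈ I, a • m = 0) : Function.Bijective (TensorProduct.mk R S M 1) :=
  TorsionTensor.bijective_mk (fun _ : ℕ => I) (fun _ _ _ => le_rfl) (fun _ => hsurj) (fun _ => hinj)
    (fun t => ⟨0, hM t⟩)

include hsurj hinj in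
theorem injective_of_killed_pow [Module.Flat R S] (n : ℕ) :
    ∀ (M : Type u) [AddCommGroup M] [Module R M],
      (∀ (m : M), ∀ a ∈ I ^ n, a • m = 0) → ∀ m : M, (1 : S) ⊗ₜ[R] m = 0 → m = 0 := by
  induction n with
  | zero =>
    intro M _ _ hM m _
    have := hM m 1 (by simp [Ideal.one_eq_top])
    rwa [one_smul] at this
  | succ n ih =>
    intro M _ _ hM m hm
    set N : Submodule R M := I • ⊤ with hN
    have hNkill : ∀ (x : N), ∀ a ∈ I ^ n, a • x = 0 := by
      rintro ⟨x, hx⟩ a ha
      apply Subtype.ext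
      simp only [Submodule.coe_smul, Submodule.coe_zero]
      rw [hN] at hx
      refine Submodule.smul_induction_on hx (fun b hb y _ => ?_) (fun y z hy hz => ?_)
      · rw [← mul_smul]
        exact hM y _ (by rw [pow_succ]; exact Ideal.mul_mem_mul ha hb)
      · rw [smul_add, hy, hz, add_zero]
    have hQkill : ∀ (q : M ⧸ N), ∀ a ∈ I, a • q = 0 := by
      intro q a ha
      obtain ⟨y, rfl⟩ := Submodule.mkQ_surjective N q
      rw [← map_smul, Submodule.mkQ_apply, Submodule.Quotient.mk_eq_zero, hN]
      exact Submodule.smul_mem_smul ha Submodule.mem_top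
    have h1 : N.mkQ m = 0 := by
      apply (bijective_of_killed I hsurj hinj (M ⧸ N) hQkill).1
      have := congrArg (LinearMap.lTensor S N.mkQ) hm
      rw [LinearMap.lTensor_tmul, map_zero] at this
      rw [TensorProduct.mk_apply, TensorProduct.mk_apply, this, TensorProduct.tmul_zero]
    rw [Submodule.mkQ_apply, Submodule.Quotient.mk_eq_zero] at h1
    have h2 : (1 : S) ⊗ₜ[R] (⟨m, h1⟩ : N) = 0 := by
      apply Module.Flat.lTensor_preserves_injective_linearMap (M := S) N.subtype N.injective_subtype
      rw [LinearMap.lTensor_tmul, map_zero]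
      exact hm
    have := ih N hNkill ⟨m, h1⟩ h2
    exact congrArg Subtype.val this

include hsurj hinj in
theorem bijective_of_torsion [Module.Flat R S] (M : Type u) [AddCommGroup M] [Module R M]
    (hM : ∀ m : M, ∃ n : ℕ, ∀ a ∈ I ^ n, a • m = 0) :
    Function.Bijective (TensorProduct.mk R S M 1) := by
  constructor
  · rw [injective_iff_map_eq_zero]
    intro m hm
    obtain ⟨n, hn⟩ := hM m
    let N : Submodule R M :=
      { carrier := {x | ∀ a ∈ I ^ n, a • x = 0}
        add_mem' := fun {x y} hx hy a ha => by rw [smul_add, hx a ha, hy a ha, add_zero]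
        zero_mem' := fun a _ => smul_zero a
        smul_mem' := fun c x hx a ha => by rw [smul_comm, hx a ha, smul_zero] }
    have hmN : m ∈ N := hn
    have hNkill : ∀ (x : N), ∀ a ∈ I ^ n, a • x = 0 := by
      rintro ⟨x, hx⟩ a ha
      apply Subtype.ext
      exact hx a ha
    have h2 : (1 : S) ⊗ₜ[R] (⟨m, hmN⟩ : N) = 0 := by
      apply Module.Flat.lTensor_preserves_injective_linearMap (M := S) N.subtype N.injective_subtype
      rw [LinearMap.lTensor_tmul, map_zero]
      exact hm
    have := injective_of_killed_pow I hsurj hinj n N hNkill ⟨m, hmN⟩ h2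
    exact congrArg Subtype.val this
  · intro z
    induction z using TensorProduct.induction_on with
    | zero => exact ⟨0, by simp⟩
    | add x y hx hy =>
      obtain ⟨a, rfl⟩ := hx
      obtain ⟨b, rfl⟩ := hy
      exact ⟨a + b, by rw [map_add]⟩
    | tmul s m =>
      obtain ⟨n, hn⟩ := hM m
      obtain ⟨r, hr⟩ := exists_sub_mem_pow I hsurj n s
      refine ⟨r • m, ?_⟩
      have := TorsionTensor.tmul_eq_zero_of_mem_map (R := R) (R' := S) hn hr
      rw [TensorProduct.sub_tmul, sub_eq_zero] at this
      rw [TensorProduct.mk_apply, this, ← TensorProduct.smul_tmul, Algebra.algebraMap_eq_smul_one]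

/-- Let R -> S be flat with S/IS faithfully flat over R/I. Then the natural map M -> S ⊗_R M is
bijective for every I-power torsion R-module M if and only if R/I -> S/IS is bijective. -/
theorem result (R S : Type u) [CommRing R] [CommRing S] [Algebra R S] (I : Ideal R)
    [Module.Flat R S] [Module.FaithfullyFlat (R ⧸ I) (S ⧸ I.map (algebraMap R S))] :
    (∀ (M : Type u) [AddCommGroup M] [Module R M], (∀ m : M, ∃ n : ℕ, ∀ a ∈ I ^ n, a • m = 0) →
      Function.Bijective (TensorProduct.mk R S M 1)) ↔
    Function.Bijective (Ideal.quotientMap (I.map (algebraMap R S)) (algebraMap R S) Ideal.le_comap_map) := by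
  constructor
  · intro h
    have hb := h (R ⧸ I) (fun m => ⟨1, fun a ha => by
      obtain ⟨r, rfl⟩ := Ideal.Quotient.mk_surjective m
      rw [pow_one] at ha
      rw [← Ideal.Quotient.mk_eq_mk, ← Submodule.Quotient.mk_smul, Ideal.Quotient.mk_eq_mk,
        Ideal.Quotient.eq_zero_iff_mem, smul_eq_mul]
      exact I.mul_mem_right _ ha⟩)
    have hkill : ∀ (t : R ⧸ I), ∀ a ∈ I, a • t = 0 := by
      intro t a ha
      obtain ⟨r, rfl⟩ := Ideal.Quotient.mk_surjective t
      rw [← Ideal.Quotient.mk_eq_mk, ← Submodule.Quotient.mk_smul, Ideal.Quotient.mk_eq_mk,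
        Ideal.Quotient.eq_zero_iff_mem, smul_eq_mul]
      exact I.mul_mem_right _ ha
    constructor
    · rw [injective_iff_map_eq_zero]
      intro q hq
      obtain ⟨r, rfl⟩ := Ideal.Quotient.mk_surjective q
      rw [Ideal.quotientMap_mk, Ideal.Quotient.eq_zero_iff_mem] at hq
      apply hb.1
      rw [map_zero, TensorProduct.mk_apply]
      have h1 : Ideal.Quotient.mk I r = r • (1 : R ⧸ I) := by
        rw [← Ideal.Quotient.mk_eq_mk, ← map_one (Ideal.Quotient.mk I), ← Ideal.Quotient.mk_eq_mk,
          ← Submodule.Quotient.mk_smul, smul_eq_mul, mul_one]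
      rw [h1, ← TensorProduct.smul_tmul, ← Algebra.algebraMap_eq_smul_one]
      exact TorsionTensor.tmul_eq_zero_of_mem_map (R := R) (R' := S) (hkill 1) hq
    · intro q'
      obtain ⟨s, rfl⟩ := Ideal.Quotient.mk_surjective q'
      obtain ⟨q, hq⟩ := hb.2 (s ⊗ₜ[R] (1 : R ⧸ I))
      obtain ⟨r, rfl⟩ := Ideal.Quotient.mk_surjective q
      refine ⟨Ideal.Quotient.mk I r, ?_⟩
      rw [Ideal.quotientMap_mk, Ideal.Quotient.eq]
      have := congrArg (TensorProduct.tensorQuotEquivQuotSMul S I) hq
      rw [TensorProduct.mk_apply, ← map_one (Ideal.Quotient.mk I),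
        TensorProduct.tensorQuotEquivQuotSMul_tmul_mk,
        TensorProduct.tensorQuotEquivQuotSMul_tmul_mk, Submodule.Quotient.eq,
        Ideal.smul_top_eq_map] at this
      simpa [Algebra.smul_def] using this
  · intro hbij M _ _ hM
    have hsurj : ∀ s : S, ∃ r : R, s - algebraMap R S r ∈ I.map (algebraMap R S) := by
      intro s
      obtain ⟨q, hq⟩ := hbij.2 (Ideal.Quotient.mk _ s)
      obtain ⟨r, rfl⟩ := Ideal.Quotient.mk_surjective q
      refine ⟨r, ?_⟩
      rw [Ideal.quotientMap_mk] at hq
      rw [← Ideal.Quotient.eq]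
      exact hq.symm
    have hinj : ∀ r : R, algebraMap R S r ∈ I.map (algebraMap R S) → r ∈ I := by
      intro r hr
      rw [← Ideal.Quotient.eq_zero_iff_mem]
      apply hbij.1
      rw [Ideal.quotientMap_mk, map_zero, Ideal.Quotient.eq_zero_iff_mem]
      exact hr
    exact bijective_of_torsion I hsurj hinj M hM

end Groth.Agent.S2009
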