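import Groth.Statements.S1731
import Groth.Agent.Lib.Helper10.ExtTorsion
import Groth.Agent.Lib.Helper10.ExtCongr
import Groth.Agent.S2009
-- import your own Groth.Agent.* helpers here

set_option autoImplicit false
universe u
open CategoryTheory
open scoped TensorProduct
attribute [local instance] HasDerivedCategory.standard
open LocCoh

namespace Groth.Agent.S1731

/-- Statement for modules: let A → B be a flat ring map and I a finitely generated ideal of A such that
A → B/IB is surjective with kernel I (so A/I ≅ B/IB). If M is an I-power torsion A-module, then for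
every A-module N and every integer i the group of maps M → N[i] in D(A) is isomorphic to the group
of maps B ⊗_A M → (B ⊗_A N)[i] in D(B). (Only the existence of an isomorphism is asserted; the
published statement shows that the base-change map is one.) -/
theorem result (A B : Type u) [CommRing A] [CommRing B] [Algebra A B] [Module.Flat A B] (I : Ideal A) (hI : I.FG) (hs : Function.Surjective ((Ideal.Quotient.mk (I.map (algebraMap A B))).comp (algebraMap A B))) (hk : RingHom.ker ((Ideal.Quotient.mk (I.map (algebraMap A B))).comp (algebraMap A B)) = I) (M N : Type u) [AddCommGroup M] [Module A M] [AddCommGroup N] [Module A N] (hM : LocCoh.IsPowerTorsion I M) (i : ℤ) : Nonempty ((Dual.inD A M ⟶ (Dual.inD A N)⟦i⟧) ≃+ (Dual.inD B (B ⊗[A] M) ⟶ (Dual.inD B (B ⊗[A] N))⟦i⟧)) := by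
  classical
  -- negative degrees: both sides vanish
  obtain hi | hi := lt_or_ge i 0
  · have hA : ∀ φ : (Dual.inD A M ⟶ (Dual.inD A N)⟦i⟧), φ = 0 := by
      intro φ
      have h1 : DerivedCategory.TStructure.t.IsLE (Dual.inD A M) 0 := by
        dsimp only [Dual.inD]; infer_instance
      have h2 : DerivedCategory.TStructure.t.IsGE (Dual.inD A N) 0 := by
        dsimp only [Dual.inD]; infer_instance
      have h3 : DerivedCategory.TStructure.t.IsGE ((Dual.inD A N)⟦i⟧) (-i) :=
        DerivedCategory.TStructure.t.isGE_shift _ 0 i (-i) (by omega)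
      exact DerivedCategory.TStructure.t.zero_of_isLE_of_isGE φ 0 (-i) (by omega) h1 h3
    have hB : ∀ φ : (Dual.inD B (B ⊗[A] M) ⟶ (Dual.inD B (B ⊗[A] N))⟦i⟧), φ = 0 := by
      intro φ
      have h1 : DerivedCategory.TStructure.t.IsLE (Dual.inD B (B ⊗[A] M)) 0 := by
        dsimp only [Dual.inD]; infer_instance
      have h2 : DerivedCategory.TStructure.t.IsGE (Dual.inD B (B ⊗[A] N)) 0 := by
        dsimp only [Dual.inD]; infer_instance
      have h3 : DerivedCategory.TStructure.t.IsGE ((Dual.inD B (B ⊗[A] N))⟦i⟧) (-i) :=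
        DerivedCategory.TStructure.t.isGE_shift _ 0 i (-i) (by omega)
      exact DerivedCategory.TStructure.t.zero_of_isLE_of_isGE φ 0 (-i) (by omega) h1 h3
    exact ⟨{ toFun := fun _ => 0
             invFun := fun _ => 0
             left_inv := fun φ => (hA φ).symm
             right_inv := fun φ => (hB φ).symm
             map_add' := fun _ _ => (add_zero 0).symm }⟩
  obtain ⟨n, rfl⟩ := Int.eq_ofNat_of_zero_le hi
  -- the hypotheses on `A/I → B/IB`, elementwise
  have hsurj : ∀ s : B, ∃ r : A, s - algebraMap A B r ∈ I.map (algebraMap A B) := by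
    intro s
    obtain ⟨r, hr⟩ := hs (Ideal.Quotient.mk _ s)
    refine ⟨r, ?_⟩
    rw [RingHom.comp_apply, Ideal.Quotient.eq] at hr
    have := Ideal.neg_mem_iff _ |>.mpr hr
    simpa using this
  have hinj : ∀ r : A, algebraMap A B r ∈ I.map (algebraMap A B) → r ∈ I := by
    intro r hr
    rw [← hk, RingHom.mem_ker, RingHom.comp_apply, Ideal.Quotient.eq_zero_iff_mem]
    exact hr
  obtain ⟨s, hsI⟩ := hI
  have hsub : ∀ a ∈ s, a ∈ I := fun a ha => hsI ▸ Ideal.subset_span ha
  let M' : ModuleCat.{u} A := ModuleCat.of A M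
  let N' : ModuleCat.{u} A := ModuleCat.of A N
  have hM' : ∀ a ∈ s, ∀ m : M', ∃ k : ℕ, a ^ k • m = 0 := by
    intro a ha m
    obtain ⟨k, hk⟩ := hM m
    exact ⟨k, hk _ (Ideal.pow_mem_pow (hsub a ha) k)⟩
  have hbase : ∀ Y : ModuleCat.{u} A, (∀ a ∈ s, ∀ y : Y, ∃ k : ℕ, a ^ k • y = 0) →
      Function.Bijective (TensorProduct.mk A B Y 1) := by
    intro Y hY
    apply Groth.Agent.S2009.bijective_of_torsion I hsurj hinj Y
    intro y
    have hle : I ≤ Ideal.radical (LinearMap.ker (LinearMap.toSpanSingleton A Y y)) := by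
      rw [← hsI, Ideal.span_le]
      intro a ha
      obtain ⟨k, hk⟩ := hY a ha y
      exact ⟨k, by rw [LinearMap.mem_ker, LinearMap.toSpanSingleton_apply]; exact hk⟩
    obtain ⟨k, hk⟩ := Ideal.exists_pow_le_of_le_radical_of_fg hle ⟨s, hsI⟩
    refine ⟨k, fun a ha => ?_⟩
    have := hk ha
    rw [LinearMap.mem_ker, LinearMap.toSpanSingleton_apply] at this
    exact this
  have hP := Groth.Agent.Lib.Helper10.ExtTorsion.postBij_ηB (B := B) M' s hM' hbase N' n
  -- Ext^n_A(M, N) ≃+ Ext^n_A(M, B ⊗ N)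
  let e1 : Abelian.Ext.{u} M' N' n ≃+
      Abelian.Ext.{u} M' ((Groth.Agent.Lib.Helper10.ExtTorsion.TB A B).obj N') n :=
    AddEquiv.ofBijective _ hP
  -- Ext^n_B(B ⊗ M, B ⊗ N) ≃+ Ext^n_A(M, B ⊗ N)
  let e2 : Abelian.Ext.{u} ((Groth.Agent.Lib.Helper12.extSc A B).obj M')
        ((Groth.Agent.Lib.Helper12.extSc A B).obj N') n ≃+
      Abelian.Ext.{u} M' ((Groth.Agent.Lib.Helper10.ExtTorsion.TB A B).obj N') n :=
    Groth.Agent.Lib.Helper10.ExtAdj.extAddEquiv
      (ModuleCat.extendRestrictScalarsAdj (algebraMap A B)) M'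
      ((Groth.Agent.Lib.Helper12.extSc A B).obj N') n
  let e3 : Abelian.Ext.{u} ((Groth.Agent.Lib.Helper12.extSc A B).obj M')
        ((Groth.Agent.Lib.Helper12.extSc A B).obj N') n ≃+
      Abelian.Ext.{u} (ModuleCat.of B (B ⊗[A] M)) (ModuleCat.of B (B ⊗[A] N)) n :=
    Groth.Agent.Lib.Helper10.ExtCongr.extCongr
      (Groth.Agent.Lib.Helper12.extScObjIso (A := A) (B := B) M)
      (Groth.Agent.Lib.Helper12.extScObjIso (A := A) (B := B) N) n
  let e4 : Abelian.Ext.{u} M' N' n ≃+ (Dual.inD A M ⟶ (Dual.inD A N)⟦(n : ℤ)⟧) :=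
    Abelian.Ext.homAddEquiv
  let e5 : Abelian.Ext.{u} (ModuleCat.of B (B ⊗[A] M)) (ModuleCat.of B (B ⊗[A] N)) n ≃+
      (Dual.inD B (B ⊗[A] M) ⟶ (Dual.inD B (B ⊗[A] N))⟦(n : ℤ)⟧) :=
    Abelian.Ext.homAddEquiv
  exact ⟨e4.symm.trans (e1.trans (e2.symm.trans (e3.trans e5)))⟩

end Groth.Agent.S1731
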