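import Groth.Statements.S17310
import Groth.Agent.Lib.Helper87.GeomConn

set_option autoImplicit false
universe u
open CurvSt

namespace Groth.Agent.S17310

open CategoryTheory AlgebraicGeometry in
/-- Let X be a proper scheme of dimension at most 1 over a field k with structure morphism p, and Spec k
→ S a point of the base. The classifying object of X in the stack of curves over S lies in the open
substack of curves with geometrically reduced, connected fibres of dimension 1 — by definition:
every geometric fibre of h_X → h_{Spec k}, realised as a scheme over an algebraically closed field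
through a cartesian square of sheaves, is reduced, connected and of Krull dimension 1 — if and only
if X is geometrically reduced and geometrically connected over k and has Krull dimension 1. -/
theorem result (S : Scheme.{u}) (k : Type u) [Field k] (t : Spec (CommRingCat.of k) ⟶ S)
    (X : Scheme.{u}) (p : X ⟶ Spec (CommRingCat.of k)) [IsProper p] (hdim : topologicalKrullDim ↥X ≤ 1) :
    CurvSt.GeomFib (fun _ _ _ X' _ _ => IsReduced X' ∧ ConnectedSpace ↥X' ∧ topologicalKrullDim ↥X' = 1) ((CurvSt.toSpFam S 0).obj ⟨Over.mk t, X, p, Fin.elim0, fun i => i.elim0⟩) ↔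
      GeometricallyReduced p ∧ GeometricallyConnected p ∧ topologicalKrullDim ↥X = 1 := by
  have : LocallyOfFiniteType p := inferInstance
  refine (Lib.Helper40.GeomFibRed.geomFib_iff S t p
    (fun Z => IsReduced Z ∧ ConnectedSpace ↥Z ∧ topologicalKrullDim ↥Z = 1) ?_).trans ?_
  · intro Z Z' e h
    obtain ⟨h1, h2, h3⟩ := h
    refine ⟨?_, ?_, ?_⟩
    · have := h1; exact isReduced_of_isOpenImmersion e.inv
    · exact (Scheme.homeoOfIso e).connectedSpace_iff.mp h2
    · rw [← h3]
      exact ((Scheme.homeoOfIso e).isHomeomorph.topologicalKrullDim_eq).symm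
  · constructor
    · intro h
      refine ⟨(Lib.Helper40.GeomFibRed.forall_algClosed_iff p).mp (fun Ω _ _ t' => (h Ω t').1),
        (Lib.Helper87.GeomConn.forall_algClosed_connected_iff p).mp (fun Ω _ _ t' => (h Ω t').2.1), ?_⟩
      have h3 := (h (AlgebraicClosure k)
        (Spec.map (CommRingCat.ofHom (algebraMap k (AlgebraicClosure k))))).2.2
      rwa [Lib.Helper21.FieldDim.dim_bc] at h3
    · rintro ⟨h1, h2, h3⟩ Ω _ _ t'
      refine ⟨(Lib.Helper40.GeomFibRed.forall_algClosed_iff p).mpr h1 Ω t',
        (Lib.Helper87.GeomConn.forall_algClosed_connected_iff p).mpr h2 Ω t', ?_⟩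
      rw [Lib.Helper21.FieldDim.dim_bc]
      exact h3

end Groth.Agent.S17310
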