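import Groth.Statements.S17311
import Groth.Agent.Lib.Helper87.GeomFibQ
import Groth.Agent.Lib.Helper87.FiniteNonsmooth

set_option autoImplicit false
universe u
open CurvSt

namespace Groth.Agent.S17311

open CategoryTheory AlgebraicGeometry in
/-- Let X be a proper scheme of dimension at most 1 over a field k with structure morphism p, and Spec k
→ S a point of the base. The classifying object of X in the stack of curves over S lies in the open
substack of curves with isolated singularities — by definition: every geometric fibre of h_X →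
h_{Spec k}, realised as a scheme over an algebraically closed field Ω through a cartesian square of
sheaves, is smooth over Ω outside a finite set of points — if and only if p : X → Spec k is smooth
outside a finite set of points of X. -/
theorem result (S : Scheme.{u}) (k : Type u) [Field k] (t : Spec (CommRingCat.of k) ⟶ S)
    (X : Scheme.{u}) (p : X ⟶ Spec (CommRingCat.of k)) [IsProper p] (hdim : topologicalKrullDim ↥X ≤ 1) :
    CurvSt.GeomFib (fun _ _ _ X' q _ => Set.Finite {x : ↥X' | ¬ ∃ U : X'.Opens, x ∈ U ∧ Smooth (U.ι ≫ q)}) ((CurvSt.toSpFam S 0).obj ⟨Over.mk t, X, p, Fin.elim0, fun i => i.elim0⟩) ↔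
      Set.Finite {x : ↥X | ¬ ∃ U : X.Opens, x ∈ U ∧ Smooth (U.ι ≫ p)} := by
  have : LocallyOfFiniteType p := inferInstance
  have : QuasiCompact p := inferInstance
  refine (Lib.Helper87.GeomFibQ.geomFib_iff S t p
    (fun Ω _ _ X' q => Set.Finite {x : ↥X' | ¬ ∃ U : X'.Opens, x ∈ U ∧ Smooth (U.ι ≫ q)})
    ?_).trans ?_
  · intro Ω _ _ Z Z' e q q' hq h
    refine (h.image e.hom).subset ?_
    intro x' hx'
    refine ⟨e.inv x', ?_, ?_⟩
    · rintro ⟨U, hxU, hU⟩
      apply hx'
      refine ⟨e.inv ⁻¹ᵁ U, hxU, ?_⟩
      have heq : (e.inv ⁻¹ᵁ U).ι ≫ q' = (e.inv ∣_ U) ≫ (U.ι ≫ q) := by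
        rw [← hq, ← Category.assoc, morphismRestrict_ι, Category.assoc,
          e.inv_hom_id_assoc]
      rw [heq]
      infer_instance
    · rw [← Scheme.Hom.comp_apply, e.inv_hom_id]
      rfl
  · constructor
    · intro h
      have h1 := h (AlgebraicClosure k)
        (Spec.map (CommRingCat.ofHom (algebraMap k (AlgebraicClosure k))))
      rw [Lib.Helper87.SmoothLocusBC.setOf_not_exists_smooth_eq] at h1 ⊢
      have : IsIntegralHom (Spec.map (CommRingCat.ofHom (algebraMap k (AlgebraicClosure k)))) := by
        rw [IsIntegralHom.SpecMap_iff]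
        exact algebraMap_isIntegral_iff.mpr inferInstance
      exact Lib.Helper87.FiniteNonsmooth.finite_compl_smoothLocus_of_bc p _ h1
    · intro h Ω _ _ t'
      rw [Lib.Helper87.SmoothLocusBC.setOf_not_exists_smooth_eq] at h ⊢
      exact Lib.Helper87.FiniteNonsmooth.finite_compl_smoothLocus_bc p t' h

end Groth.Agent.S17311
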