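import Groth.Statements.S1732
import Groth.Agent.Lib.Helper58.TorsE
import Groth.Agent.Lib.Helper76.PSDim
-- import your own Groth.Agent.* helpers here

set_option autoImplicit false
universe u
open LocCoh

namespace Groth.Agent.S1732

/-- Let k be a field of characteristic zero, d ≥ 1, A = k[[x_1, …, x_d]] with maximal ideal m, and E an
injective hull of the residue field of A. Let M be an m-power torsion A-module equipped with
additive maps D_1, …, D_d such that D_i(f z) = θ_i(f) z + f D_i(z), where θ_i is the k-derivation of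
A with θ_i(x_j) = δ_ij (the partial derivative in x_i). Then M is, up to isomorphism, a direct sum
of copies of E. -/
theorem result (k : Type u) [Field k] [CharZero k] (d : ℕ) (hd : 1 ≤ d) (E : Type u) [AddCommGroup E] [Module (MvPowerSeries (Fin d) k) E] (e : IsLocalRing.ResidueField (MvPowerSeries (Fin d) k) →ₗ[MvPowerSeries (Fin d) k] E) (he : InjHull.IsInjectiveHull e) (θ : Fin d → Derivation k (MvPowerSeries (Fin d) k) (MvPowerSeries (Fin d) k)) (hθ : ∀ i j : Fin d, θ i (MvPowerSeries.X j) = if i = j then 1 else 0) (M : Type u) [AddCommGroup M] [Module (MvPowerSeries (Fin d) k) M] (hM : LocCoh.IsPowerTorsion (IsLocalRing.maximalIdeal (MvPowerSeries (Fin d) k)) M) (D : Fin d → M →+ M) (hD : ∀ (i : Fin d) (f : MvPowerSeries (Fin d) k) (z : M), D i (f • z) = θ i f • z + f • D i z) : ∃ J : Type u, Nonempty (M ≃ₗ[MvPowerSeries (Fin d) k] (J →₀ E)) := by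
  classical
  have hm : IsLocalRing.maximalIdeal (MvPowerSeries (Fin d) k) =
      Ideal.span (Set.range (MvPowerSeries.X : Fin d → MvPowerSeries (Fin d) k)) :=
    Groth.Agent.Lib.Helper76.PSComplete.maximalIdeal_eq_varIdeal k (Fin d)
  have hXm : ∀ i : Fin d, (MvPowerSeries.X i : MvPowerSeries (Fin d) k) ∈
      IsLocalRing.maximalIdeal (MvPowerSeries (Fin d) k) := fun i => by
    rw [hm]; exact Ideal.subset_span ⟨i, rfl⟩
  have hcommD : ∀ i j : Fin d, i ≠ j → ∀ z : M,
      D i ((MvPowerSeries.X j : MvPowerSeries (Fin d) k) • z) =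
        (MvPowerSeries.X j : MvPowerSeries (Fin d) k) • D i z := by
    intro i j hij z
    rw [hD, hθ, if_neg hij, zero_smul, zero_add]
  have hcomm : ∀ (i : Fin d) (n : ℕ) (z : M),
      D i ((MvPowerSeries.X i : MvPowerSeries (Fin d) k) ^ (n + 1) • z) =
        ((n + 1 : ℕ) : MvPowerSeries (Fin d) k) •
          (MvPowerSeries.X i : MvPowerSeries (Fin d) k) ^ n • z +
        (MvPowerSeries.X i : MvPowerSeries (Fin d) k) ^ (n + 1) • D i z := by
    intro i n z
    rw [hD, Derivation.leibniz_pow, hθ, if_pos rfl, Nat.add_sub_cancel, smul_eq_mul, mul_one,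
      nsmul_eq_mul, mul_smul]
  have hinv : ∀ n : ℕ, ∃ c : MvPowerSeries (Fin d) k,
      c * ((n + 1 : ℕ) : MvPowerSeries (Fin d) k) = 1 := by
    intro n
    refine ⟨MvPowerSeries.C (((n + 1 : ℕ) : k)⁻¹), ?_⟩
    rw [← map_natCast (MvPowerSeries.C (σ := Fin d) (R := k)), ← map_mul,
      inv_mul_cancel₀ (Nat.cast_ne_zero.2 (Nat.succ_ne_zero n)), map_one]
  have htors : ∀ (i : Fin d) (z : M), ∃ n : ℕ,
      (MvPowerSeries.X i : MvPowerSeries (Fin d) k) ^ n • z = 0 := by
    intro i z
    obtain ⟨n, hn⟩ := hM z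
    exact ⟨n, hn _ (Ideal.pow_mem_pow (hXm i) n)⟩
  refine Groth.Agent.Lib.Helper58.TorsE.exists_equiv_finsupp e he M hM ?_
  intro φ
  obtain ⟨z, -, hz⟩ := Groth.Agent.Lib.Helper58.TorsE.koszul_H1
    (fun i : Fin d => (MvPowerSeries.X i : MvPowerSeries (Fin d) k)) D hcommD hcomm hinv htors
    Finset.univ ⊤ (fun _ _ _ _ => Submodule.mem_top) (fun i => φ ⟨MvPowerSeries.X i, hXm i⟩)
    (fun _ _ => Submodule.mem_top) (by
      intro i _ j _
      rw [← map_smul, ← map_smul]
      congr 1
      exact Subtype.ext (mul_comm _ _))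
  refine ⟨z, ?_⟩
  have key : ∀ a (ha : a ∈ Ideal.span
      (Set.range (MvPowerSeries.X : Fin d → MvPowerSeries (Fin d) k)))
      (ha' : a ∈ IsLocalRing.maximalIdeal (MvPowerSeries (Fin d) k)), φ ⟨a, ha'⟩ = a • z := by
    intro a ha
    induction ha using Submodule.span_induction with
    | mem a h =>
      obtain ⟨i, rfl⟩ := h
      intro ha'
      exact (hz i (Finset.mem_univ i)).symm
    | zero =>
      intro ha'
      have : (⟨0, ha'⟩ : ↥(IsLocalRing.maximalIdeal (MvPowerSeries (Fin d) k))) = 0 := rfl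
      rw [this, map_zero, zero_smul]
    | add a b ha hb iha ihb =>
      intro hab
      have ha' : a ∈ IsLocalRing.maximalIdeal (MvPowerSeries (Fin d) k) := hm ▸ ha
      have hb' : b ∈ IsLocalRing.maximalIdeal (MvPowerSeries (Fin d) k) := hm ▸ hb
      have : (⟨a + b, hab⟩ : ↥(IsLocalRing.maximalIdeal (MvPowerSeries (Fin d) k))) =
          ⟨a, ha'⟩ + ⟨b, hb'⟩ := rfl
      rw [this, map_add, iha ha', ihb hb', add_smul]
    | smul c a ha iha =>
      intro hca
      have ha' : a ∈ IsLocalRing.maximalIdeal (MvPowerSeries (Fin d) k) := hm ▸ ha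
      have : (⟨c • a, hca⟩ : ↥(IsLocalRing.maximalIdeal (MvPowerSeries (Fin d) k))) =
          c • ⟨a, ha'⟩ := rfl
      rw [this, map_smul, iha ha', smul_smul]
      rfl
  intro a
  exact key a.1 (hm ▸ a.2) a.2

end Groth.Agent.S1732
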