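import Groth.Statements.S17336
import Groth.Agent.S17335
import Mathlib.RingTheory.Idempotents
import Mathlib.LinearAlgebra.Finsupp.LinearCombination
-- import your own Groth.Agent.* helpers here

set_option autoImplicit false
universe u v
open CAlg

namespace Groth.Agent.S17336

/-- Let k be an algebraically closed field and A a commutative k-algebra which is finite-dimensional as
a k-vector space (a finite scheme X = Spec A with largest reduced subscheme X_red = Spec
(A/nilradical A) and immersion i : X_red → X). Then there is a unique morphism r : X → X_red with r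
∘ i = id; on rings: the projection A → A/nilradical(A) admits exactly one section that is a
k-algebra homomorphism. -/
theorem result (k : Type u) [Field k]
    [IsAlgClosed k] (A : Type v) [CommRing A] [Algebra k A] [Module.Finite k A] :
    ∃! s : (A ⧸ nilradical A) →ₐ[k] A,
      (Ideal.Quotient.mkₐ k (nilradical A)).comp s = AlgHom.id k (A ⧸ nilradical A) := by
  classical
  obtain ⟨hfin, hsurj, hker⟩ := Groth.Agent.S17335.result k A
  have := Fintype.ofFinite (A →ₐ[k] k)
  let ev : A →ₐ[k] ((A →ₐ[k] k) → k) := AlgHom.pi (R := k) (fun f : A →ₐ[k] k => f)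
  have hev0 : ∀ a : A, a ∈ nilradical A → ev a = 0 := by
    intro a ha
    rw [← hker] at ha
    exact ha
  let π : A →ₐ[k] (A ⧸ nilradical A) := Ideal.Quotient.mkₐ k (nilradical A)
  have hπsurj : Function.Surjective π := Ideal.Quotient.mkₐ_surjective k _
  let ι : (A ⧸ nilradical A) →ₐ[k] ((A →ₐ[k] k) → k) :=
    Ideal.Quotient.liftₐ (nilradical A) ev hev0
  have hιπ : ∀ a, ι (π a) = ev a := fun a => rfl
  have hιinj : Function.Injective ι := by
    rw [injective_iff_map_eq_zero]
    intro q hq
    obtain ⟨a, rfl⟩ := hπsurj q
    rw [hιπ] at hq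
    have : a ∈ nilradical A := by rw [← hker]; exact hq
    exact Ideal.Quotient.eq_zero_iff_mem.2 this
  have hιsurj : Function.Surjective ι := by
    intro g
    obtain ⟨a, ha⟩ := hsurj g
    exact ⟨π a, ha⟩
  let ιe : (A ⧸ nilradical A) ≃ₐ[k] ((A →ₐ[k] k) → k) := AlgEquiv.ofBijective ι ⟨hιinj, hιsurj⟩
  let ε : (A →ₐ[k] k) → (A ⧸ nilradical A) := fun f => ιe.symm (Pi.single f 1)
  have hιε : ∀ f, ι (ε f) = Pi.single f 1 := fun f => ιe.apply_symm_apply _
  have hε : CompleteOrthogonalIdempotents ε := by
    rw [← CompleteOrthogonalIdempotents.map_injective_iff ι.toRingHom hιinj]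
    have : (⇑ι.toRingHom ∘ ε) =
        (fun f => (Pi.single f 1 : (A →ₐ[k] k) → k)) := funext hιε
    rw [this]
    exact CompleteOrthogonalIdempotents.single (fun _ : (A →ₐ[k] k) => k)
  have hnil : ∀ x ∈ RingHom.ker (π : A →+* (A ⧸ nilradical A)), IsNilpotent x := by
    intro x hx
    have : x ∈ nilradical A := Ideal.Quotient.eq_zero_iff_mem.1 hx
    exact mem_nilradical.1 this
  obtain ⟨e', he', hπe'⟩ := CompleteOrthogonalIdempotents.lift_of_isNilpotent_ker
    (π : A →+* (A ⧸ nilradical A)) hnil hε (fun f => hπsurj (ε f))
  have hπe'' : ∀ f, π (e' f) = ε f := fun f => congrFun hπe' f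
  -- decomposition of elements of the quotient
  have hdecomp : ∀ q : A ⧸ nilradical A, q = ∑ f : A →ₐ[k] k, (ι q f) • ε f := by
    intro q
    apply hιinj
    rw [map_sum]
    simp only [map_smul, hιε]
    ext f
    simp [Finset.sum_apply, Pi.single_apply]
  -- the section on functions
  let s' : ((A →ₐ[k] k) → k) →ₐ[k] A :=
    AlgHom.ofLinearMap (Fintype.linearCombination k e')
      (by
        rw [Fintype.linearCombination_apply]
        simp only [Pi.one_apply, one_smul]
        exact he'.complete)
      (by
        intro x y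
        simp only [Fintype.linearCombination_apply, Pi.mul_apply]
        rw [Finset.sum_mul_sum]
        apply Finset.sum_congr rfl
        intro i _
        rw [Finset.sum_eq_single i]
        · rw [smul_mul_smul_comm, (he'.idem i).eq]
        · intro j _ hji
          rw [smul_mul_smul_comm, he'.ortho (Ne.symm hji), smul_zero]
        · intro h; exact absurd (Finset.mem_univ i) h)
  have hs' : ∀ g, s' g = ∑ f : A →ₐ[k] k, g f • e' f := fun g => rfl
  let s : (A ⧸ nilradical A) →ₐ[k] A := s'.comp ι
  have hs : ∀ q, s q = ∑ f : A →ₐ[k] k, (ι q f) • e' f := fun q => rfl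
  refine ⟨s, ?_, ?_⟩
  · apply AlgHom.ext
    intro q
    change π (s q) = q
    rw [hs, map_sum]
    simp only [map_smul, hπe'']
    exact (hdecomp q).symm
  · intro t ht
    have ht' : ∀ q, π (t q) = q := fun q => congrArg (fun φ => φ q) ht
    have hte : ∀ f, t (ε f) = e' f := by
      intro f
      apply eq_of_isNilpotent_sub_of_isIdempotentElem
      · exact ((hε.idem f).map t : IsIdempotentElem (t (ε f)))
      · exact he'.idem f
      · apply hnil
        rw [RingHom.mem_ker, map_sub]
        change π (t (ε f)) - π (e' f) = 0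
        rw [ht', hπe'', sub_self]
    apply AlgHom.ext
    intro q
    rw [hs]
    conv_lhs => rw [hdecomp q]
    rw [map_sum]
    simp only [map_smul, hte]

end Groth.Agent.S17336
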