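import Groth.Statements.S17323
import Groth.Agent.S17335
import Groth.Agent.S17336
import Mathlib.RingTheory.Idempotents
import Mathlib.RingTheory.Ideal.Quotient.Nilpotent
-- import your own Groth.Agent.* helpers here

set_option autoImplicit false
universe u v
open CAlg

namespace Groth.Agent.S17323

/-- a reduced finite algebra over an algebraically closed field is spanned by idempotents -/
lemma mem_span_idem (k : Type u) [Field k] [IsAlgClosed k]
    (C : Type v) [CommRing C] [Algebra k C] [Module.Finite k C] [IsReduced C] (c : C) :
    c ∈ Submodule.span k {e : C | IsIdempotentElem e} := by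
  classical
  obtain ⟨hfin, hsurj, hker⟩ := Groth.Agent.S17335.result k C
  have := Fintype.ofFinite (C →ₐ[k] k)
  let ev : C →ₐ[k] ((C →ₐ[k] k) → k) := AlgHom.pi (R := k) (fun f : C →ₐ[k] k => f)
  have hevinj : Function.Injective ev := by
    rw [injective_iff_map_eq_zero]
    intro a ha
    have : a ∈ RingHom.ker (AlgHom.pi (R := k) (fun f : C →ₐ[k] k => f)) := ha
    rw [hker, mem_nilradical] at this
    exact IsReduced.eq_zero a this
  have hex : ∀ f : C →ₐ[k] k, ∃ a : C, ev a = Pi.single f 1 := fun f => hsurj _
  choose a ha using hex
  have hidem : ∀ f, IsIdempotentElem (a f) := by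
    intro f
    apply hevinj
    rw [map_mul, ha, ← Pi.single_mul, mul_one]
  have hc : c = ∑ f : C →ₐ[k] k, (ev c f) • a f := by
    apply hevinj
    rw [map_sum]
    simp only [map_smul, ha]
    ext f
    simp [Finset.sum_apply, Pi.single_apply]
  rw [hc]
  apply Submodule.sum_mem
  intro f _
  apply Submodule.smul_mem
  exact Submodule.subset_span (hidem f)

/-- Let k be an algebraically closed field and A a commutative k-algebra which is finite-dimensional as
a k-vector space. Then A has a largest reduced subalgebra: a k-subalgebra B which is reduced and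
contains every reduced k-subalgebra of A; moreover the composite of the inclusion B → A with the
projection A → A/nilradical(A) is bijective. -/
theorem result (k : Type u) [Field k] [IsAlgClosed k]
    (A : Type v) [CommRing A] [Algebra k A] [Module.Finite k A] :
    ∃ B : Subalgebra k A, IsReduced ↥B ∧ (∀ C : Subalgebra k A, IsReduced ↥C → C ≤ B) ∧
      Function.Bijective ((Ideal.Quotient.mkₐ k (nilradical A)).comp B.val) := by
  obtain ⟨s, hs, -⟩ := Groth.Agent.S17336.result k A
  have hs' : ∀ q, Ideal.Quotient.mkₐ k (nilradical A) (s q) = q :=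
    fun q => congrArg (fun φ => φ q) hs
  have hredQ : IsReduced (A ⧸ nilradical A) :=
    (Ideal.isRadical_iff_quotient_reduced _).mp (Ideal.radical_isRadical _)
  have hbij : Function.Bijective ((Ideal.Quotient.mkₐ k (nilradical A)).comp s.range.val) := by
    constructor
    · rintro ⟨_, q, rfl⟩ ⟨_, q', rfl⟩ h
      have h' : Ideal.Quotient.mkₐ k (nilradical A) (s q) =
        Ideal.Quotient.mkₐ k (nilradical A) (s q') := h
      rw [hs', hs'] at h'
      subst h'
      rfl
    · intro q
      exact ⟨⟨s q, q, rfl⟩, hs' q⟩
  have hidemB : ∀ e : A, IsIdempotentElem e → e ∈ s.range := by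
    intro e he
    refine ⟨Ideal.Quotient.mkₐ k (nilradical A) e, ?_⟩
    apply eq_of_isNilpotent_sub_of_isIdempotentElem
    · exact (he.map (Ideal.Quotient.mkₐ k (nilradical A))).map s
    · exact he
    · rw [← mem_nilradical, ← Ideal.Quotient.eq_zero_iff_mem, map_sub, sub_eq_zero]
      exact hs' _
  refine ⟨s.range, ?_, ?_, hbij⟩
  · exact isReduced_of_injective _ hbij.1
  · intro C hC c hc
    have hfinC : Module.Finite k C :=
      Module.Finite.of_injective C.val.toLinearMap Subtype.val_injective
    have hmem := mem_span_idem k C ⟨c, hc⟩
    have key : ∀ x : C, x ∈ Submodule.span k {e : C | IsIdempotentElem e} →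
        (x : A) ∈ s.range := by
      intro x hx
      induction hx using Submodule.span_induction with
      | mem x hx => exact hidemB _ (hx.map C.val)
      | zero => exact Subalgebra.zero_mem _
      | add x y _ _ hx hy => exact Subalgebra.add_mem _ hx hy
      | smul a x _ hx => exact Subalgebra.smul_mem _ hx a
    exact key ⟨c, hc⟩ hmem

end Groth.Agent.S17323
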