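import Groth.Statements.S17321
import Mathlib
import Groth.Agent.S17323
-- import your own Groth.Agent.* helpers here

set_option autoImplicit false
universe u v
open CAlg

namespace Groth.Agent.S17321

theorem deriv_idem {k : Type u} [Field k] {A : Type v} [CommRing A] [Algebra k A]
    (D : Derivation k A A) (e : A) (he : IsIdempotentElem e) : D e = 0 := by
  have h1 : D e = e • D e + e • D e := by
    conv_lhs => rw [← he.eq]
    rw [D.leibniz]
  have h2 : e • D e = 0 := by
    have := congrArg (fun x => e • x) h1
    simp only [smul_add, smul_smul, he.eq] at this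
    -- e • D e = e • D e + e • D e
    have h3 : e • D e + 0 = e • D e + e • D e := by rw [add_zero]; exact this
    exact (add_left_cancel h3).symm
  rw [h1, h2, add_zero]

theorem exists_deriv {k : Type u} [Field k] [IsAlgClosed k]
    {A : Type v} [CommRing A] [Algebra k A] [Module.Finite k A] (hA : ¬ IsReduced A) :
    ∃ D : Derivation k A A, D ≠ 0 := by
  classical
  haveI : IsArtinianRing A := IsArtinianRing.of_finite k A
  haveI : IsNoetherianRing A := inferInstance
  -- a nonzero nilpotent
  obtain ⟨t, htN, ht0⟩ : ∃ t : A, t ∈ nilradical A ∧ t ≠ 0 := by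
    by_contra h
    push Not at h
    exact hA ⟨fun x hx => h x (mem_nilradical.mpr hx)⟩
  -- associated prime of the module nilradical A
  obtain ⟨P, hPass, -⟩ := exists_le_isAssociatedPrime_of_isNoetherianRing A
    (⟨t, htN⟩ : nilradical A) (by intro h; exact ht0 (congrArg Subtype.val h))
  rw [isAssociatedPrime_iff] at hPass
  obtain ⟨hPprime, ⟨s, hsN⟩, hPs⟩ := hPass
  have hPs' : ∀ x : A, x ∈ P ↔ x * s = 0 := by
    intro x
    rw [hPs, Submodule.mem_colon_singleton, Submodule.mem_bot]
    constructor
    · intro h; exact congrArg Subtype.val h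
    · intro h; exact Subtype.ext h
  have hs0 : s ≠ 0 := by
    intro h
    apply hPprime.ne_top
    rw [Ideal.eq_top_iff_one, hPs', h, mul_zero]
  haveI hPmax : P.IsMaximal := IsArtinianRing.isMaximal_of_isPrime P
  -- characters
  letI : Field (A ⧸ P) := Ideal.Quotient.field P
  have hχ : ∀ a : A, ∃ c : k, a - algebraMap k A c ∈ P := by
    intro a
    obtain ⟨c, hc⟩ := (IsAlgClosed.algebraMap_bijective_of_isIntegral (k := k) (K := A ⧸ P)).2
      (Ideal.Quotient.mk P a)
    refine ⟨c, ?_⟩
    rw [← Ideal.Quotient.eq, ← hc]
    rfl
  -- P ≠ P^2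
  have hPP : P * P ≠ P := by
    intro h
    have hidem : IsIdempotentElem P := h
    obtain ⟨e, he, hPe⟩ := (Ideal.isIdempotentElem_iff_of_fg P (IsNoetherian.noetherian P)).mp hidem
    have hsP : s ∈ P := by
      have : nilradical A ≤ P := nilradical_le_prime P
      exact this hsN
    have heP : e ∈ P := by rw [hPe]; exact Ideal.mem_span_singleton_self e
    rw [hPe, Ideal.mem_span_singleton'] at hsP
    obtain ⟨a, ha⟩ := hsP
    have h1 : e * s = 0 := (hPs' e).mp heP
    apply hs0
    calc s = a * e := ha.symm
      _ = a * (e * e) := by rw [he.eq]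
      _ = e * (a * e) := by ring
      _ = e * s := by rw [ha]
      _ = 0 := h1
  -- the subspace W = k·1 + P^2
  let W : Submodule k A := (1 : Submodule k A) ⊔ (P * P).restrictScalars k
  have hW : W < ⊤ := by
    rw [lt_top_iff_ne_top]
    intro hWtop
    apply hPP
    apply le_antisymm Ideal.mul_le_left
    intro x hx
    have hxW : x ∈ W := by rw [hWtop]; trivial
    obtain ⟨y, hy, z, hz, hyz⟩ := Submodule.mem_sup.mp hxW
    obtain ⟨c, rfl⟩ := Submodule.mem_one.mp hy
    have hz' : z ∈ P * P := hz
    have hcP : algebraMap k A c ∈ P := by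
      have : algebraMap k A c = x - z := by rw [← hyz]; ring
      rw [this]
      exact P.sub_mem hx (Ideal.mul_le_left hz')
    have hc0 : c = 0 := by
      by_contra hc
      apply hPprime.ne_top
      rw [Ideal.eq_top_iff_one]
      have : (1 : A) = algebraMap k A c⁻¹ * algebraMap k A c := by
        rw [← map_mul, inv_mul_cancel₀ hc, map_one]
      rw [this]
      exact P.mul_mem_left _ hcP
    rw [← hyz, hc0, map_zero, zero_add]
    exact hz'
  obtain ⟨ψ, hψ0, hψW⟩ := Submodule.exists_le_ker_of_lt_top W hW
  have hψ1 : ∀ c : k, ψ (algebraMap k A c) = 0 := by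
    intro c
    have : algebraMap k A c ∈ W := Submodule.mem_sup_left (Submodule.mem_one.mpr ⟨c, rfl⟩)
    exact hψW this
  have hψ2 : ∀ x ∈ P, ∀ y ∈ P, ψ (x * y) = 0 := by
    intro x hx y hy
    have : x * y ∈ W := Submodule.mem_sup_right (show x * y ∈ P * P from Ideal.mul_mem_mul hx hy)
    exact hψW this
  -- the derivation
  let D : Derivation k A A := Derivation.mk' (ψ.smulRight s) (by
    intro a b
    obtain ⟨ca, hca⟩ := hχ a
    obtain ⟨cb, hcb⟩ := hχ b
    have hab : a * b = algebraMap k A (ca * cb) + algebraMap k A ca * (b - algebraMap k A cb)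
        + algebraMap k A cb * (a - algebraMap k A ca)
        + (a - algebraMap k A ca) * (b - algebraMap k A cb) := by
      rw [map_mul]; ring
    have hψab : ψ (a * b) = ca * ψ b + cb * ψ a := by
      rw [hab, map_add, map_add, map_add, hψ1, hψ2 _ hca _ hcb, ← Algebra.smul_def,
        ← Algebra.smul_def, map_smul, map_smul, map_sub, map_sub, hψ1, hψ1]
      simp
    have has : a * s = algebraMap k A ca * s := by
      have := (hPs' _).mp hca
      rw [sub_mul, sub_eq_zero] at this
      exact this
    have hbs : b * s = algebraMap k A cb * s := by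
      have := (hPs' _).mp hcb
      rw [sub_mul, sub_eq_zero] at this
      exact this
    simp only [LinearMap.smulRight_apply, smul_eq_mul]
    rw [hψab, Algebra.smul_def, Algebra.smul_def, Algebra.smul_def, mul_left_comm a, has,
      mul_left_comm b, hbs, map_add, map_mul, map_mul]
    ring)
  refine ⟨D, ?_⟩
  intro hD
  apply hψ0
  ext a
  have : D a = 0 := by rw [hD]; rfl
  have h2 : ψ a • s = 0 := this
  rcases smul_eq_zero.mp h2 with h | h
  · simpa using h
  · exact absurd h hs0

/-- Let k be an algebraically closed field and A a commutative k-algebra which is finite-dimensional as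
a k-vector space (the coordinate ring of a finite k-scheme). Then the space Der(A) of k-derivations
A → A is zero if and only if A is reduced. -/
theorem result (k : Type u) [Field k] [IsAlgClosed k]
    (A : Type v) [CommRing A] [Algebra k A] [Module.Finite k A] :
    Subsingleton (Derivation k A A) ↔ IsReduced A := by
  constructor
  · intro hsub
    by_contra hA
    obtain ⟨D, hD⟩ := exists_deriv (k := k) hA
    exact hD (Subsingleton.elim D 0)
  · intro hred
    refine ⟨fun D₁ D₂ => ?_⟩
    suffices h : ∀ D : Derivation k A A, D = 0 by rw [h D₁, h D₂]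
    intro D
    ext a
    have ha := Groth.Agent.S17323.mem_span_idem k A a
    induction ha using Submodule.span_induction with
    | mem x hx => exact deriv_idem D x hx
    | zero => simp
    | add x y _ _ hx hy => rw [map_add, hx, hy]; simp
    | smul c x _ hx => rw [D.map_smul, hx]; simp

end Groth.Agent.S17321
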