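import Groth.Statements.S17324
import Groth.Agent.S17335
import Mathlib.RingTheory.Artinian.Ring
import Mathlib.RingTheory.LocalRing.MaximalIdeal.Basic
-- import your own Groth.Agent.* helpers here

set_option autoImplicit false
universe u v
open CAlg

namespace Groth.Agent.S17324

/-- (i) ⟺ (ii): let k be an algebraically closed field, A a commutative k-algebra which is
finite-dimensional as a k-vector space and is a local ring with maximal ideal m, and a_1, …, a_m ∈
m. Then A is generated as a k-algebra by a_1, …, a_m if and only if m is generated as an ideal by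
a_1, …, a_m. (The printed lemma has a third equivalent condition, that the images of the a_i span
m/m²; its equivalence with (ii) is Nakayama's lemma.) -/
theorem result (k : Type u) [Field k] [IsAlgClosed k]
    (A : Type v) [CommRing A] [Algebra k A] [Module.Finite k A] [IsLocalRing A]
    (m : ℕ) (a : Fin m → A) (ha : ∀ i, a i ∈ IsLocalRing.maximalIdeal A) :
    Algebra.adjoin k (Set.range a) = ⊤ ↔ Ideal.span (Set.range a) = IsLocalRing.maximalIdeal A := by
  have hart : IsArtinianRing A := IsArtinianRing.of_finite k A
  obtain ⟨f, hf⟩ := Groth.Agent.S17335.exists_algHom_of_prime k A (IsLocalRing.maximalIdeal A)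
  have hdec : ∀ x : A, x - algebraMap k A (f x) ∈ IsLocalRing.maximalIdeal A := by
    intro x
    rw [← hf, map_sub, AlgHom.commutes, Algebra.algebraMap_self_apply, sub_self]
  have hJle : Ideal.span (Set.range a) ≤ IsLocalRing.maximalIdeal A := by
    rw [Ideal.span_le]
    rintro _ ⟨i, rfl⟩
    exact ha i
  constructor
  · intro hadj
    apply le_antisymm hJle
    have key : ∀ x : A, x ∈ Algebra.adjoin k (Set.range a) →
        x - algebraMap k A (f x) ∈ Ideal.span (Set.range a) := by
      intro x hx
      induction hx using Algebra.adjoin_induction with
      | mem x hx =>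
        obtain ⟨i, rfl⟩ := hx
        rw [(hf (a i)).2 (ha i), map_zero, sub_zero]
        exact Ideal.subset_span ⟨i, rfl⟩
      | algebraMap r =>
        rw [AlgHom.commutes, Algebra.algebraMap_self_apply, sub_self]
        exact Ideal.zero_mem _
      | add x y _ _ hx hy =>
        have : x + y - algebraMap k A (f (x + y)) =
            (x - algebraMap k A (f x)) + (y - algebraMap k A (f y)) := by
          rw [map_add, map_add]; ring
        rw [this]
        exact Ideal.add_mem _ hx hy
      | mul x y _ _ hx hy =>
        have : x * y - algebraMap k A (f (x * y)) =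
            (x - algebraMap k A (f x)) * y + algebraMap k A (f x) * (y - algebraMap k A (f y)) := by
          rw [map_mul, map_mul]; ring
        rw [this]
        exact Ideal.add_mem _ (Ideal.mul_mem_right _ _ hx) (Ideal.mul_mem_left _ _ hy)
    intro x hx
    have h1 := key x (by rw [hadj]; trivial)
    rwa [(hf x).2 hx, map_zero, sub_zero] at h1
  · intro hspan
    -- `S + m^n = ⊤` for all `n`
    have key : ∀ n : ℕ, ∀ x : A, ∃ s ∈ Algebra.adjoin k (Set.range a),
        ∃ t ∈ (IsLocalRing.maximalIdeal A) ^ n, x = s + t := by
      intro n
      induction n with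
      | zero =>
        intro x
        exact ⟨0, Subalgebra.zero_mem _, x, by simp, by simp⟩
      | succ n ih =>
        intro x
        have hx := hdec x
        rw [← hspan, Ideal.mem_span_range_iff_exists_fun] at hx
        obtain ⟨c, hc⟩ := hx
        choose s hs t ht hst using fun i => ih (c i)
        refine ⟨algebraMap k A (f x) + ∑ i, s i * a i, ?_, ∑ i, t i * a i, ?_, ?_⟩
        · apply Subalgebra.add_mem _ (Subalgebra.algebraMap_mem _ _)
          apply Subalgebra.sum_mem
          intro i _
          exact Subalgebra.mul_mem _ (hs i) (Algebra.subset_adjoin ⟨i, rfl⟩)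
        · apply Ideal.sum_mem
          intro i _
          rw [pow_succ]
          exact Ideal.mul_mem_mul (ht i) (ha i)
        · have : x = algebraMap k A (f x) + ∑ i, c i * a i := by rw [hc]; ring
          conv_lhs => rw [this]
          rw [add_assoc, ← Finset.sum_add_distrib]
          congr 1
          apply Finset.sum_congr rfl
          intro i _
          rw [hst i]; ring
    have hnil : IsNilpotent (IsLocalRing.maximalIdeal A) := by
      rw [← IsLocalRing.jacobson_eq_maximalIdeal (⊥ : Ideal A) bot_ne_top]
      exact IsArtinianRing.isNilpotent_jacobson_bot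
    obtain ⟨n, hn⟩ := hnil
    rw [eq_top_iff]
    intro x _
    obtain ⟨s, hs, t, ht, rfl⟩ := key n x
    rw [hn] at ht
    have : t = 0 := ht
    rw [this, add_zero]
    exact hs

end Groth.Agent.S17324
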