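import Groth.Statements.S17325
import Mathlib
import Groth.Agent.S17335
-- import your own Groth.Agent.* helpers here

set_option autoImplicit false
universe u v
open LieAlg

namespace Groth.Agent.S17325

theorem abstract_lemma (k : Type u) [Field k] [IsAlgClosed k] (p : ℕ) [Fact p.Prime]
    (B : Type v) [CommRing B] [Algebra k B] [Module.Finite k B]
    (W : Submodule k B) (hW : ∀ w ∈ W, w ^ p ∈ W) (hne : W ≠ ⊥) :
    ∃ w ∈ W, w ≠ 0 ∧ ∃ c : k, w ^ p = c • w := by
  classical
  have hp1 : 1 < p := (Fact.out : p.Prime).one_lt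
  have hiter : ∀ j : ℕ, ∀ w ∈ W, w ^ (p ^ j) ∈ W := by
    intro j
    induction j with
    | zero => intro w hw; simpa using hw
    | succ j ih =>
      intro w hw
      rw [pow_succ, pow_mul]
      exact hW _ (ih w hw)
  by_cases hnil : ∃ w ∈ W, w ≠ 0 ∧ IsNilpotent w
  · obtain ⟨w, hwW, hw0, n, hn⟩ := hnil
    have hex : ∃ j : ℕ, w ^ (p ^ j) = 0 :=
      ⟨n, pow_eq_zero_of_le (Nat.lt_pow_self hp1).le hn⟩
    have hj0 : Nat.find hex ≠ 0 := by
      intro h
      have := Nat.find_spec hex
      rw [h, pow_zero, pow_one] at this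
      exact hw0 this
    obtain ⟨j, hj⟩ := Nat.exists_eq_succ_of_ne_zero hj0
    refine ⟨w ^ (p ^ j), hiter j w hwW, ?_, 0, ?_⟩
    · exact Nat.find_min hex (by rw [hj]; exact Nat.lt_succ_self j)
    · rw [zero_smul, ← pow_mul, ← pow_succ, ← Nat.succ_eq_add_one, ← hj]
      exact Nat.find_spec hex
  · push Not at hnil
    obtain ⟨hfin, -, hker⟩ := Groth.Agent.S17335.result k B
    have := Fintype.ofFinite (B →ₐ[k] k)
    let supp : B → Finset (B →ₐ[k] k) := fun w => Finset.univ.filter (fun χ => χ w ≠ 0)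
    have hmem_supp : ∀ (w : B) (χ : B →ₐ[k] k), χ ∈ supp w ↔ χ w ≠ 0 := by
      intro w χ
      simp [supp]
    have hsupp_ne : ∀ w ∈ W, w ≠ 0 → (supp w).Nonempty := by
      intro w hwW hw0
      by_contra hemp
      rw [Finset.not_nonempty_iff_eq_empty] at hemp
      apply hnil w hwW hw0
      have hmem : w ∈ RingHom.ker (AlgHom.pi (R := k) (fun f : B →ₐ[k] k => f)) := by
        rw [RingHom.mem_ker]
        ext χ
        by_contra hχ
        have : χ ∈ supp w := (hmem_supp w χ).mpr hχ
        rw [hemp] at this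
        exact Finset.notMem_empty _ this
      rw [hker, mem_nilradical] at hmem
      exact hmem
    -- minimal support
    have hS : ∃ n : ℕ, ∃ w ∈ W, w ≠ 0 ∧ (supp w).card = n := by
      obtain ⟨w, hwW, hw0⟩ := (Submodule.ne_bot_iff W).mp hne
      exact ⟨_, w, hwW, hw0, rfl⟩
    obtain ⟨w, hwW, hw0, hcard⟩ := Nat.find_spec hS
    have hmin : ∀ v ∈ W, v ≠ 0 → (supp w).card ≤ (supp v).card := by
      intro v hvW hv0
      rw [hcard]
      exact Nat.find_min' hS ⟨v, hvW, hv0, rfl⟩
    obtain ⟨χ₀, hχ₀⟩ := hsupp_ne w hwW hw0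
    rw [hmem_supp] at hχ₀
    let w' : B := (χ₀ w)⁻¹ • w
    have hw'W : w' ∈ W := W.smul_mem _ hwW
    have hχw' : ∀ χ : B →ₐ[k] k, χ w' = (χ₀ w)⁻¹ * χ w := by
      intro χ
      simp [w']
    have hχ₀w' : χ₀ w' = 1 := by rw [hχw', inv_mul_cancel₀ hχ₀]
    have hw'0 : w' ≠ 0 := by
      intro h
      rw [h, map_zero] at hχ₀w'
      exact zero_ne_one hχ₀w'
    let v : B := w' ^ p - w'
    have hvW : v ∈ W := W.sub_mem (hW w' hw'W) hw'W
    have hv0 : v = 0 := by
      by_contra hv0
      have h1 := hmin v hvW hv0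
      have h2 : (supp v).card < (supp w).card := by
        apply Finset.card_lt_card
        rw [Finset.ssubset_iff_of_subset]
        · refine ⟨χ₀, (hmem_supp w χ₀).mpr hχ₀, ?_⟩
          rw [hmem_supp]
          simp [v, hχ₀w']
        · intro χ hχ
          rw [hmem_supp] at hχ ⊢
          intro h0
          apply hχ
          simp [v, hχw', h0, (Fact.out : p.Prime).ne_zero]
      omega
    refine ⟨w', hw'W, hw'0, 1, ?_⟩
    rw [one_smul]
    exact sub_eq_zero.mp hv0

/-- Let k be an algebraically closed field of characteristic p > 0, V a finite-dimensional k-vector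
space and g a nonzero k-linear subspace of End_k(V) closed under the p-th power map u ↦ u^p. Then g
contains a nonzero u with u^p = c u for some c ∈ k, i.e. a line k u closed under p-th powers. (The
published lemma concerns an abstract nonzero finite-dimensional restricted Lie algebra; this row
concerns subspaces of End_k(V) closed under p-th powers, a class that contains every restricted Lie
subalgebra of gl(V).) -/
theorem result (k : Type u) [Field k] [IsAlgClosed k]
    (p : ℕ) [Fact p.Prime] [CharP k p] (V : Type v) [AddCommGroup V] [Module k V] [FiniteDimensional k V]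
    (g : Submodule k (Module.End k V)) (hg : ∀ u ∈ g, u ^ p ∈ g) (hne : g ≠ ⊥) :
    ∃ u ∈ g, u ≠ 0 ∧ ∃ c : k, u ^ p = c • u := by
  classical
  obtain ⟨u₀, hu₀g, hu₀0⟩ := (Submodule.ne_bot_iff g).mp hne
  let B := Algebra.adjoin k ({u₀} : Set (Module.End k V))
  letI : CommRing B := Algebra.adjoinCommRingOfComm k (by
    intro a ha b hb
    rw [Set.mem_singleton_iff] at ha hb
    rw [ha, hb])
  let W : Submodule k B := g.comap B.val.toLinearMap
  have hW : ∀ w ∈ W, w ^ p ∈ W := by
    intro w hw
    change ((w ^ p : B) : Module.End k V) ∈ g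
    rw [SubmonoidClass.coe_pow]
    exact hg _ hw
  have hWne : W ≠ ⊥ := by
    rw [Submodule.ne_bot_iff]
    refine ⟨⟨u₀, Algebra.self_mem_adjoin_singleton k u₀⟩, hu₀g, ?_⟩
    intro h
    exact hu₀0 (congrArg Subtype.val h)
  obtain ⟨w, hwW, hw0, c, hc⟩ := abstract_lemma k p B W hW hWne
  refine ⟨(w : Module.End k V), hwW, ?_, c, ?_⟩
  · intro h
    exact hw0 (Subtype.ext h)
  · have := congrArg (Subtype.val : B → Module.End k V) hc
    simpa using this

end Groth.Agent.S17325
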