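import Groth.Statements.S17326
import Groth.Agent.S17335
import Mathlib.Algebra.CharP.Lemmas
-- import your own Groth.Agent.* helpers here

set_option autoImplicit false
universe u v
open CAlg

namespace Groth.Agent.S17326

/-- Let k be an algebraically closed field of characteristic p > 0, A a commutative k-algebra which is
finite-dimensional as a k-vector space (a finite k-scheme X), and n ≥ 1. The n-th iterated relative
Frobenius morphism X → X^(p^n) is an isomorphism if and only if X is reduced; on rings: the map a ↦
a^(p^n) of A to itself (which is the ring homomorphism underlying the relative Frobenius, the twist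
A^(p^n) having the same underlying ring as A) is bijective if and only if A is reduced. -/
theorem result (k : Type u) [Field k] [IsAlgClosed k]
    (p : ℕ) [Fact p.Prime] [CharP k p] (A : Type v) [CommRing A] [Algebra k A] [Module.Finite k A]
    (n : ℕ) (hn : 1 ≤ n) :
    Function.Bijective (fun a : A => a ^ p ^ n) ↔ IsReduced A := by
  have hp : p.Prime := Fact.out
  constructor
  · rintro ⟨hinj, -⟩
    refine ⟨fun a ha => ?_⟩
    obtain ⟨m, hm⟩ := ha
    have hiter : ∀ j : ℕ, ∀ b : A, (fun a : A => a ^ p ^ n)^[j] b = b ^ (p ^ n) ^ j := by
      intro j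
      induction j with
      | zero => intro b; simp
      | succ j ih =>
        intro b
        rw [Function.iterate_succ_apply', ih, ← pow_mul, pow_succ]
    have h2 : 1 < p ^ n := Nat.one_lt_pow (by omega) hp.one_lt
    have hlt : m < (p ^ n) ^ m := Nat.lt_pow_self h2
    have h0 : a ^ (p ^ n) ^ m = 0 := by
      rw [← Nat.sub_add_cancel hlt.le, pow_add, hm, mul_zero]
    apply hinj.iterate m
    rw [hiter, hiter, h0, zero_pow]
    exact (pow_pos (pow_pos hp.pos n) m).ne'
  · intro hred
    obtain ⟨-, hsurj, hker⟩ := Groth.Agent.S17335.result k A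
    let ev : A →ₐ[k] ((A →ₐ[k] k) → k) := AlgHom.pi (R := k) (fun f : A →ₐ[k] k => f)
    have hevinj : Function.Injective ev := by
      rw [injective_iff_map_eq_zero]
      intro a ha
      have : a ∈ RingHom.ker (AlgHom.pi (R := k) (fun f : A →ₐ[k] k => f)) := ha
      rw [hker, mem_nilradical] at this
      exact hred.eq_zero a this
    have hq : 0 < p ^ n := pow_pos hp.pos n
    have hkinj : Function.Injective (fun x : k => x ^ p ^ n) := by
      intro x y hxy
      have : (x - y) ^ p ^ n = 0 := by
        rw [sub_pow_char_pow, sub_eq_zero]; exact hxy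
      exact sub_eq_zero.1 (eq_zero_of_pow_eq_zero this)
    constructor
    · intro a b hab
      apply hevinj
      funext f
      apply hkinj
      change (ev a f) ^ p ^ n = (ev b f) ^ p ^ n
      have h1 : ev (a ^ p ^ n) = ev (b ^ p ^ n) := congrArg ev hab
      rw [map_pow, map_pow] at h1
      exact congrFun h1 f
    · intro b
      have hex : ∀ f : A →ₐ[k] k, ∃ z : k, z ^ p ^ n = ev b f :=
        fun f => IsAlgClosed.exists_pow_nat_eq _ hq
      choose g hg using hex
      obtain ⟨a, ha⟩ := hsurj g
      refine ⟨a, ?_⟩
      apply hevinj
      change ev (a ^ p ^ n) = ev b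
      rw [map_pow]
      funext f
      change (ev a f) ^ p ^ n = ev b f
      rw [← hg f]
      congr 1
      exact congrFun ha f

end Groth.Agent.S17326
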