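import Groth.Statements.S17327
import Groth.Agent.Lib.Helper16.FinHopfShear
import Mathlib.RingTheory.Unramified.Field
import Mathlib.RingTheory.Ideal.IdempotentFG
import Mathlib.RingTheory.Artinian.Module
-- import your own Groth.Agent.* helpers here

set_option autoImplicit false
universe u v
open Hopf

namespace Groth.Agent.S17327

/-- Let k be an algebraically closed field of characteristic p > 0, A a commutative Hopf algebra over k
which is finite-dimensional as a k-vector space (a finite group scheme G = Spec A), I the
augmentation ideal (kernel of the counit) and n ≥ 1. The n-th Frobenius kernel G_n is the closed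
subgroup scheme cut out by the ideal generated by the p^n-th powers f^(p^n), f ∈ I; it is trivial,
i.e. that ideal equals I, if and only if G is reduced. -/
theorem result (k : Type u) [Field k] [IsAlgClosed k]
    (p : ℕ) [Fact p.Prime] [CharP k p] (A : Type v) [CommRing A] [HopfAlgebra k A] [Module.Finite k A]
    (n : ℕ) (hn : 1 ≤ n) :
    Ideal.span ((fun f : A => f ^ p ^ n) '' (RingHom.ker (Bialgebra.counitAlgHom k A) : Set A)) =
      RingHom.ker (Bialgebra.counitAlgHom k A) ↔ IsReduced A := by
  classical
  set I := RingHom.ker (Bialgebra.counitAlgHom k A) with hI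
  have hp2 : 2 ≤ p ^ n := by
    have h1 : 2 ≤ p := (Fact.out : p.Prime).two_le
    calc 2 ≤ p := h1
      _ = p ^ 1 := (pow_one p).symm
      _ ≤ p ^ n := Nat.pow_le_pow_right (by omega) hn
  have hle : Ideal.span ((fun f : A => f ^ p ^ n) '' (I : Set A)) ≤ I := by
    rw [Ideal.span_le]
    rintro _ ⟨f, hf, rfl⟩
    exact Ideal.pow_mem_of_mem _ hf _ (by omega)
  constructor
  · intro h
    have hidem : IsIdempotentElem I := by
      show I * I = I
      apply le_antisymm Ideal.mul_le_right
      rw [← pow_two]
      have h2 : Ideal.span ((fun f : A => f ^ p ^ n) '' (I : Set A)) ≤ I ^ 2 := by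
        rw [Ideal.span_le]
        rintro _ ⟨f, hf, rfl⟩
        exact Ideal.pow_le_pow_right hp2 (Ideal.pow_mem_pow hf _)
      rw [h] at h2
      exact h2
    haveI : Algebra.FormallyUnramified k A :=
      Groth.Agent.Lib.Helper16.FinHopf.formallyUnramified_of_idem k A hidem
    haveI : Algebra.EssFiniteType k A := inferInstance
    exact Algebra.FormallyUnramified.isReduced_of_field k A
  · intro hred
    refine le_antisymm hle ?_
    haveI : IsArtinianRing A := IsArtinianRing.of_finite k A
    haveI : IsNoetherianRing A := IsNoetherianRing.of_finite k A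
    have hidem : IsIdempotentElem I := by
      show I * I = I
      apply le_antisymm Ideal.mul_le_right
      intro x hx
      obtain ⟨m, y, hy⟩ := IsArtinian.exists_pow_succ_smul_dvd x (1 : A)
      simp only [smul_eq_mul, mul_one, Nat.succ_eq_add_one] at hy
      have h1 : (x - x * x * y) ^ (m + 1) = 0 := by
        have : x - x * x * y = x * (1 - x * y) := by ring
        rw [this, mul_pow, pow_succ (1 - x * y), ← mul_assoc, pow_succ x m]
        have h3 : x ^ m * x * ((1 - x * y) ^ m * (1 - x * y)) =
            (x ^ m - x ^ (m + 1) * y) * (x * (1 - x * y) ^ m) := by ring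
        rw [mul_assoc, h3, hy, sub_self, zero_mul]
      have h2 : x - x * x * y = 0 := IsReduced.eq_zero _ ⟨m + 1, h1⟩
      have h3 : x = x * x * y := sub_eq_zero.1 h2
      rw [h3]
      exact Ideal.mul_mem_right _ _ (Ideal.mul_mem_mul hx hx)
    obtain ⟨e, he, hIe⟩ := (Ideal.isIdempotentElem_iff_of_fg I (IsNoetherian.noetherian I)).1 hidem
    have heI : e ∈ I := by
      rw [hIe]; exact Ideal.mem_span_singleton_self e
    have h4 : e ^ p ^ n = e := by
      have h5 := he.pow_succ_eq (p ^ n - 1)
      have h6 : p ^ n - 1 + 1 = p ^ n := by omega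
      rwa [h6] at h5
    have h7 : e ∈ Ideal.span ((fun f : A => f ^ p ^ n) '' (I : Set A)) := by
      have : e ^ p ^ n ∈ Ideal.span ((fun f : A => f ^ p ^ n) '' (I : Set A)) :=
        Ideal.subset_span ⟨e, heI, rfl⟩
      rwa [h4] at this
    intro x hx
    rw [hIe] at hx
    obtain ⟨c, rfl⟩ := Ideal.mem_span_singleton'.1 hx
    exact Ideal.mul_mem_left _ _ h7

end Groth.Agent.S17327
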