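import Groth.Statements.S1733
-- import your own Groth.Agent.* helpers here
import Mathlib.Tactic

set_option autoImplicit false
universe u
open LocCoh

namespace Groth.Agent.S1733

/-- Let f_1, …, f_r and g be elements of a ring (r ≥ 1). If the family f_1, …, f_{r-1}, f_r g is
independent (every linear relation has coefficients in the ideal the family generates), then f_1, …,
f_r is independent. -/
theorem result (A : Type u) [CommRing A] (r : ℕ) (f : Fin (r + 1) → A) (g : A) (h : Dual2.Independent (Function.update f (Fin.last r) (f (Fin.last r) * g))) : Dual2.Independent f := by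
  classical
  set f' := Function.update f (Fin.last r) (f (Fin.last r) * g) with hf'
  have hf'c : ∀ i : Fin r, f' (Fin.castSucc i) = f (Fin.castSucc i) := by
    intro i
    rw [hf', Function.update_of_ne (Fin.castSucc_lt_last i).ne]
  have hf'l : f' (Fin.last r) = f (Fin.last r) * g := by
    rw [hf', Function.update_self]
  have hle : Ideal.span (Set.range f') ≤ Ideal.span (Set.range f) := by
    rw [Ideal.span_le]
    rintro _ ⟨i, rfl⟩
    refine Fin.lastCases ?_ (fun j => ?_) i
    · rw [hf'l]
      exact Ideal.mul_mem_right _ _ (Ideal.subset_span ⟨_, rfl⟩)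
    · rw [hf'c]
      exact Ideal.subset_span ⟨_, rfl⟩
  intro a ha
  rw [Fin.sum_univ_castSucc] at ha
  -- first relation: multiply by g
  have h1 := h (fun i => if i = Fin.last r then a i else g * a i) (by
    rw [Fin.sum_univ_castSucc]
    simp only [hf'c, hf'l, if_pos, (Fin.castSucc_lt_last _).ne, if_false]
    have : ∑ i : Fin r, g * a (Fin.castSucc i) * f (Fin.castSucc i)
        = g * ∑ i : Fin r, a (Fin.castSucc i) * f (Fin.castSucc i) := by
      rw [Finset.mul_sum]; exact Finset.sum_congr rfl (fun i _ => by ring)
    rw [this]
    linear_combination g * ha)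
  have hlast : a (Fin.last r) ∈ Ideal.span (Set.range f') := by
    have := h1 (Fin.last r)
    simpa using this
  obtain ⟨c, hc⟩ := (Ideal.mem_span_range_iff_exists_fun).mp hlast
  rw [Fin.sum_univ_castSucc] at hc
  simp only [hf'c, hf'l] at hc
  -- second relation
  have h2 := h (fun i => if i = Fin.last r then c i * f (Fin.last r) else a i + c i * f (Fin.last r)) (by
    rw [Fin.sum_univ_castSucc]
    simp only [hf'c, hf'l, if_pos, (Fin.castSucc_lt_last _).ne, if_false]
    have : ∑ i : Fin r, (a (Fin.castSucc i) + c (Fin.castSucc i) * f (Fin.last r)) * f (Fin.castSucc i)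
        = ∑ i : Fin r, a (Fin.castSucc i) * f (Fin.castSucc i)
          + f (Fin.last r) * ∑ i : Fin r, c (Fin.castSucc i) * f (Fin.castSucc i) := by
      rw [Finset.mul_sum, ← Finset.sum_add_distrib]
      exact Finset.sum_congr rfl (fun i _ => by ring)
    rw [this]
    linear_combination ha + f (Fin.last r) * hc)
  intro i
  refine Fin.lastCases ?_ (fun j => ?_) i
  · exact hle hlast
  · have := h2 (Fin.castSucc j)
    simp only [(Fin.castSucc_lt_last _).ne, if_false] at this
    have h3 : a (Fin.castSucc j) + c (Fin.castSucc j) * f (Fin.last r) ∈ Ideal.span (Set.range f) := hle this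
    have h4 : c (Fin.castSucc j) * f (Fin.last r) ∈ Ideal.span (Set.range f) :=
      Ideal.mul_mem_left _ _ (Ideal.subset_span ⟨_, rfl⟩)
    have := Ideal.sub_mem _ h3 h4
    simpa using this

end Groth.Agent.S1733
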