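import Groth.Statements.S17332
import Mathlib.Algebra.BigOperators.Pi
import Mathlib.Algebra.BigOperators.Ring.Finset
-- import your own Groth.Agent.* helpers here

set_option autoImplicit false
universe u v w
open CAlg

namespace Groth.Agent.S17332

/-- every character of `F → k` is evaluation at a point -/
lemma exists_eval (k : Type u) [Field k] (F : Type w) [Finite F] (χ : (F → k) →ₐ[k] k) :
    ∃ f : F, ∀ g : F → k, χ g = g f := by
  classical
  have := Fintype.ofFinite F
  have h1 : ∑ f : F, χ (Pi.single f 1) = 1 := by
    rw [← map_sum]
    have : ∑ f : F, (Pi.single f (1 : k) : F → k) = 1 := by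
      ext x
      simp [Finset.sum_apply, Pi.single_apply]
    rw [this, map_one]
  obtain ⟨f, hf⟩ : ∃ f : F, χ (Pi.single f 1) ≠ 0 := by
    by_contra hcon
    push Not at hcon
    rw [Finset.sum_eq_zero (fun f _ => hcon f)] at h1
    exact zero_ne_one h1
  have h0 : ∀ f' : F, f' ≠ f → χ (Pi.single f' 1) = 0 := by
    intro f' hne
    have : χ (Pi.single f 1) * χ (Pi.single f' 1) = 0 := by
      have hz : (Pi.single f (1 : k) : F → k) * Pi.single f' 1 = 0 := by
        ext x
        simp only [Pi.mul_apply, Pi.single_apply, Pi.zero_apply]
        split_ifs with h1 h2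
        · exact absurd (h2.symm.trans h1) hne
        · simp
        · simp
        · simp
      rw [← map_mul, hz, map_zero]
    exact (mul_eq_zero.1 this).resolve_left hf
  have hf1 : χ (Pi.single f 1) = 1 := by
    rw [Finset.sum_eq_single f (fun f' _ hne => h0 f' hne)
      (fun h => absurd (Finset.mem_univ f) h)] at h1
    exact h1
  refine ⟨f, fun g => ?_⟩
  have hg : g = ∑ f' : F, g f' • (Pi.single f' (1 : k) : F → k) := by
    ext x
    simp [Finset.sum_apply, Pi.single_apply]
  conv_lhs => rw [hg]
  rw [map_sum, Finset.sum_eq_single f]
  · rw [map_smul, hf1, smul_eq_mul, mul_one]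
  · intro f' _ hne
    rw [map_smul, h0 f' hne, smul_zero]
  · intro h
    exact absurd (Finset.mem_univ f) h

/-- Let k be a field, E and F finite sets, and O(E), O(F) the k-algebras of k-valued functions with
pointwise operations. Then every k-algebra homomorphism u : O(F) → O(E) is pull-back along a unique
map φ : E → F, i.e. u(g) = g ∘ φ for all g. (In the source k is algebraically closed; the printed
argument only uses that k is a field.) -/
theorem result (k : Type u) [Field k] (E : Type v) [Finite E]
    (F : Type w) [Finite F] (u : (F → k) →ₐ[k] (E → k)) :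
    ∃! φ : E → F, ∀ g : F → k, u g = g ∘ φ := by
  classical
  have hex : ∀ e : E, ∃ f : F, ∀ g : F → k, u g e = g f := by
    intro e
    exact exists_eval k F ((Pi.evalAlgHom k (fun _ : E => k) e).comp u)
  choose φ hφ using hex
  refine ⟨φ, ?_, ?_⟩
  · intro g
    funext e
    exact hφ e g
  · intro ψ hψ
    funext e
    have h1 := congrFun (hψ (Pi.single (φ e) 1)) e
    rw [hφ e] at h1
    simp only [Function.comp_apply, Pi.single_eq_same] at h1
    by_contra hne
    rw [Pi.single_eq_of_ne hne] at h1
    exact one_ne_zero h1

end Groth.Agent.S17332
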