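import Groth.Statements.S17333
import Mathlib.LinearAlgebra.Prod
-- import your own Groth.Agent.* helpers here

set_option autoImplicit false
universe u v w
open CAlg

namespace Groth.Agent.S17333

/-- Let k be a field and A = B × C a decomposable commutative k-algebra. Then the natural map Der(B) ×
Der(C) → Der(A) is bijective: every k-derivation D : A → A is (b, c) ↦ (D₁ b, D₂ c) for a unique
pair of k-derivations D₁ : B → B, D₂ : C → C. Compatibility with brackets is not stated. (The
published statement takes k algebraically closed; this row takes any field.) -/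
theorem result (k : Type u) [Field k] (B : Type v) [CommRing B] [Algebra k B]
    (C : Type w) [CommRing C] [Algebra k C] (D : Derivation k (B × C) (B × C)) :
    ∃! P : Derivation k B B × Derivation k C C, ∀ (b : B) (c : C), D (b, c) = (P.1 b, P.2 c) := by
  -- derivations kill the idempotent `(1, 0)`
  have hidem : ∀ e : B × C, e * e = e → D e = 0 := by
    intro e he
    have h1 : D e = e • D e + e • D e := by
      conv_lhs => rw [← he]
      exact D.leibniz e e
    have h2 : e • D e = 0 := by
      have h3 : e • D e = e • (e • D e + e • D e) := by rw [← h1]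
      rw [smul_add, ← mul_smul, he] at h3
      exact left_eq_add.mp h3
    rw [h1, h2, add_zero]
  have he1 : D ((1 : B), (0 : C)) = 0 := hidem _ (by ext <;> simp)
  have he2 : D ((0 : B), (1 : C)) = 0 := hidem _ (by ext <;> simp)
  have hfst : ∀ (b : B) (c : C), (D (b, c)).1 = (D (b, 0)).1 := by
    intro b c
    have h : D (((1 : B), (0 : C)) * (b, c)) =
        ((1 : B), (0 : C)) • D (b, c) + (b, c) • D ((1 : B), (0 : C)) := D.leibniz _ _
    rw [he1, smul_zero, add_zero] at h
    have h' : ((1 : B), (0 : C)) * (b, c) = (b, 0) := by ext <;> simp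
    rw [h'] at h
    rw [h]
    simp
  have hsnd : ∀ (b : B) (c : C), (D (b, c)).2 = (D (0, c)).2 := by
    intro b c
    have h : D (((0 : B), (1 : C)) * (b, c)) =
        ((0 : B), (1 : C)) • D (b, c) + (b, c) • D ((0 : B), (1 : C)) := D.leibniz _ _
    rw [he2, smul_zero, add_zero] at h
    have h' : ((0 : B), (1 : C)) * (b, c) = (0, c) := by ext <;> simp
    rw [h'] at h
    rw [h]
    simp
  let D₁ : Derivation k B B := Derivation.mk'
    ((LinearMap.fst k B C) ∘ₗ D.toLinearMap ∘ₗ (LinearMap.inl k B C)) (by
      intro b b'
      have h : D ((b, (0 : C)) * (b', (0 : C))) =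
        (b, (0 : C)) • D (b', (0 : C)) + (b', (0 : C)) • D (b, (0 : C)) := D.leibniz _ _
      have h' : (b, (0 : C)) * (b', (0 : C)) = (b * b', 0) := by ext <;> simp
      rw [h'] at h
      simp only [LinearMap.coe_comp, Function.comp_apply, LinearMap.inl_apply,
        Derivation.coeFn_coe, LinearMap.fst_apply]
      rw [h]
      simp)
  let D₂ : Derivation k C C := Derivation.mk'
    ((LinearMap.snd k B C) ∘ₗ D.toLinearMap ∘ₗ (LinearMap.inr k B C)) (by
      intro c c'
      have h : D (((0 : B), c) * ((0 : B), c')) =
        ((0 : B), c) • D ((0 : B), c') + ((0 : B), c') • D ((0 : B), c) := D.leibniz _ _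
      have h' : ((0 : B), c) * ((0 : B), c') = (0, c * c') := by ext <;> simp
      rw [h'] at h
      simp only [LinearMap.coe_comp, Function.comp_apply, LinearMap.inr_apply,
        Derivation.coeFn_coe, LinearMap.snd_apply]
      rw [h]
      simp)
  have hD₁ : ∀ b, D₁ b = (D (b, 0)).1 := fun b => rfl
  have hD₂ : ∀ c, D₂ c = (D (0, c)).2 := fun c => rfl
  refine ⟨(D₁, D₂), ?_, ?_⟩
  · intro b c
    ext
    · simp only [hD₁]; exact hfst b c
    · simp only [hD₂]; exact hsnd b c
  · rintro ⟨P₁, P₂⟩ hP
    simp only at hP
    ext x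
    · simp only [hD₁, hP x 0]
    · simp only [hD₂, hP 0 x]

end Groth.Agent.S17333
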