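import Groth.Statements.S17337
import Groth.Agent.Lib.Helper26.RestrictedEnv

set_option autoImplicit false
universe u v
open PLie

namespace Groth.Agent.S17337

/-- Let k be a field of characteristic p > 0 and (L, x ↦ x^[p]) a finite-dimensional restricted Lie
algebra over k. Then L is isomorphic to a restricted Lie subalgebra of gl_n(k) for some n: there is
an injective k-linear map e : L → M_n(k) with e[x, y] = e(x)e(y) − e(y)e(x) and e(x^[p]) = e(x)^p
for all x, y. (The published statement takes k algebraically closed; this row takes any field of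
characteristic p.) -/
theorem result (k : Type u) [Field k] (p : ℕ) [Fact p.Prime] [CharP k p]
    (L : Type v) [LieRing L] [LieAlgebra k L] [Module.Finite k L] (φ : PLie.PMap k p L) :
    ∃ (n : ℕ) (e : L →ₗ[k] Matrix (Fin n) (Fin n) k), PLie.IsPSubOfAssoc φ e := by
  classical
  let b := Module.finBasis k L
  let W := Groth.Agent.Lib.Helper26.RestrictedEnv.Wsub b p φ
  let eb := Groth.Agent.Lib.Helper26.RestrictedEnv.ebar b p φ
  have hfin : Module.Finite k (((Fin (Module.finrank k L) →₀ ℕ) →₀ k) ⧸ W) :=
    Groth.Agent.Lib.Helper26.RestrictedEnv.finite_quotient b p φ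
  let bV := Module.finBasis k (((Fin (Module.finrank k L) →₀ ℕ) →₀ k) ⧸ W)
  let T := LinearMap.toMatrixAlgEquiv bV
  refine ⟨_, T.toLinearMap ∘ₗ eb, ?_, ?_, ?_⟩
  · exact T.injective.comp (Groth.Agent.Lib.Helper26.RestrictedEnv.ebar_injective b p φ)
  · intro x y
    simp only [LinearMap.coe_comp, Function.comp_apply, AlgEquiv.toLinearMap_apply]
    rw [show eb ⁅x, y⁆ = eb x * eb y - eb y * eb x from
      Groth.Agent.Lib.Helper26.RestrictedEnv.ebar_lie b p φ x y, map_sub, map_mul, map_mul]
  · intro x
    simp only [LinearMap.coe_comp, Function.comp_apply, AlgEquiv.toLinearMap_apply]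
    rw [← map_pow]
    congr 1
    apply Groth.Agent.Lib.Helper26.RestrictedEnv.map_pmap_of_span p eb
      (Groth.Agent.Lib.Helper26.RestrictedEnv.ebar_lie b p φ) φ b.span_eq
    rintro _ ⟨i, rfl⟩
    exact Groth.Agent.Lib.Helper26.RestrictedEnv.ebar_pmap_basis b p φ i

end Groth.Agent.S17337
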