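import Groth.Statements.S1734
import Mathlib
-- import your own Groth.Agent.* helpers here

set_option autoImplicit false
universe u
open LocCoh

namespace Groth.Agent.S1734

/-- Let f_1, …, f_r, g be elements of a ring A (r ≥ 1) such that f_1, …, f_{r-1}, f_r g is independent
and A/(f_1, …, f_{r-1}, f_r g) has finite length. Then length A/(f_1, …, f_{r-1}, f_r g) = length
A/(f_1, …, f_r) + length A/(f_1, …, f_{r-1}, g). -/
theorem result (A : Type u) [CommRing A] (r : ℕ) (f : Fin (r + 1) → A) (g : A) (h : Dual2.Independent (Function.update f (Fin.last r) (f (Fin.last r) * g))) (hfin : IsFiniteLength A (A ⧸ Ideal.span (Set.range (Function.update f (Fin.last r) (f (Fin.last r) * g))))) : Module.length A (A ⧸ Ideal.span (Set.range (Function.update f (Fin.last r) (f (Fin.last r) * g)))) = Module.length A (A ⧸ Ideal.span (Set.range f)) + Module.length A (A ⧸ Ideal.span (Set.range (Function.update f (Fin.last r) g))) := by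
  classical
  set l := Fin.last r with hl
  set c := f l with hc
  set F₂ := Function.update f l (c * g) with hF₂
  set F₁ := Function.update f l g with hF₁
  set I₁ : Ideal A := Ideal.span (Set.range F₁) with hI₁
  set I₂ : Ideal A := Ideal.span (Set.range F₂) with hI₂
  set I₃ : Ideal A := Ideal.span (Set.range f) with hI₃
  have F₂l : F₂ l = c * g := Function.update_self ..
  have F₁l : F₁ l = g := Function.update_self ..
  have F₂ne : ∀ i, i ≠ l → F₂ i = f i := fun i hi => Function.update_of_ne hi ..
  have F₁ne : ∀ i, i ≠ l → F₁ i = f i := fun i hi => Function.update_of_ne hi ..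
  have h₂₃ : I₂ ≤ I₃ := by
    rw [hI₂, Ideal.span_le]
    rintro _ ⟨i, rfl⟩
    by_cases hi : i = l
    · rw [hi, F₂l]
      exact Ideal.mul_mem_right _ _ (Ideal.subset_span ⟨l, rfl⟩)
    · rw [F₂ne i hi]
      exact Ideal.subset_span ⟨i, rfl⟩
  have h₂₁ : I₂ ≤ I₁ := by
    rw [hI₂, Ideal.span_le]
    rintro _ ⟨i, rfl⟩
    by_cases hi : i = l
    · rw [hi, F₂l]
      exact Ideal.mul_mem_left _ _ (Ideal.subset_span ⟨l, F₁l⟩)
    · rw [F₂ne i hi, ← F₁ne i hi]
      exact Ideal.subset_span ⟨i, rfl⟩
  have hc₁₂ : I₁ ≤ Submodule.comap (LinearMap.lsmul A A c) I₂ := by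
    rw [hI₁, Ideal.span_le]
    rintro _ ⟨i, rfl⟩
    change c • F₁ i ∈ I₂
    by_cases hi : i = l
    · rw [hi, F₁l, smul_eq_mul, ← F₂l]
      exact Ideal.subset_span ⟨l, rfl⟩
    · rw [F₁ne i hi, ← F₂ne i hi, smul_eq_mul]
      exact Ideal.mul_mem_left _ _ (Ideal.subset_span ⟨i, rfl⟩)
  let φ : A ⧸ I₁ →ₗ[A] A ⧸ I₂ := Submodule.mapQ I₁ I₂ (LinearMap.lsmul A A c) hc₁₂
  let ψ : A ⧸ I₂ →ₗ[A] A ⧸ I₃ := Submodule.mapQ I₂ I₃ LinearMap.id h₂₃
  have hφ : Function.Injective φ := by
    rw [← LinearMap.ker_eq_bot, LinearMap.ker_eq_bot']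
    intro x hx
    obtain ⟨x, rfl⟩ := Submodule.Quotient.mk_surjective _ x
    change Submodule.Quotient.mk (c • x) = 0 at hx
    rw [Submodule.Quotient.mk_eq_zero, smul_eq_mul] at hx
    rw [Submodule.Quotient.mk_eq_zero]
    obtain ⟨a, ha⟩ := (Ideal.mem_span_range_iff_exists_fun).mp hx
    -- relation
    let b : Fin (r + 1) → A := Function.update (fun i => g * a i) l (g * a l - x)
    have hb : ∑ i, b i * F₂ i = 0 := by
      have h1 : ∀ i, b i * F₂ i = g * (a i * F₂ i) - (if i = l then x * (c * g) else 0) := by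
        intro i
        by_cases hi : i = l
        · subst hi
          simp only [b, Function.update_self, if_true, F₂l]
          ring
        · simp only [b, Function.update_of_ne hi, if_neg hi]
          ring
      simp only [h1, Finset.sum_sub_distrib, ← Finset.mul_sum, ha, Finset.sum_ite_eq',
        Finset.mem_univ, if_true]
      ring
    have hbl := h b hb l
    simp only [b, Function.update_self] at hbl
    have hx' : x = g * a l - (g * a l - x) := by ring
    rw [hx']
    refine sub_mem ?_ (h₂₁ hbl)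
    exact Ideal.mul_mem_right _ _ (Ideal.subset_span ⟨l, F₁l⟩)
  have hψ : Function.Surjective ψ := by
    intro y
    obtain ⟨y, rfl⟩ := Submodule.Quotient.mk_surjective _ y
    exact ⟨Submodule.Quotient.mk y, rfl⟩
  have hex : Function.Exact φ ψ := by
    intro y
    constructor
    · intro hy
      obtain ⟨y, rfl⟩ := Submodule.Quotient.mk_surjective _ y
      change Submodule.Quotient.mk y = 0 at hy
      rw [Submodule.Quotient.mk_eq_zero] at hy
      obtain ⟨a, ha⟩ := (Ideal.mem_span_range_iff_exists_fun).mp hy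
      refine ⟨Submodule.Quotient.mk (a l), ?_⟩
      change Submodule.Quotient.mk (c • a l) = Submodule.Quotient.mk y
      rw [Submodule.Quotient.eq, ← ha, smul_eq_mul]
      have h2 : c * a l - ∑ i, a i * f i = -∑ i ∈ Finset.univ.erase l, a i * f i := by
        rw [← Finset.add_sum_erase Finset.univ (fun i => a i * f i) (Finset.mem_univ l)]
        ring
      rw [h2]
      refine neg_mem (sum_mem fun i hi => ?_)
      rw [Finset.mem_erase] at hi
      rw [← F₂ne i hi.1]
      exact Ideal.mul_mem_left _ _ (Ideal.subset_span ⟨i, rfl⟩)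
    · rintro ⟨x, rfl⟩
      obtain ⟨x, rfl⟩ := Submodule.Quotient.mk_surjective _ x
      change Submodule.Quotient.mk (c • x) = 0
      rw [Submodule.Quotient.mk_eq_zero, smul_eq_mul]
      exact Ideal.mul_mem_right _ _ (Ideal.subset_span ⟨l, rfl⟩)
  rw [Module.length_eq_add_of_exact φ ψ hφ hψ hex, add_comm]

end Groth.Agent.S1734
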