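import Groth.Statements.S1735
import Mathlib
import Groth.Agent.Lib.Helper64.CRingQuot

set_option autoImplicit false
universe u
open LocCoh

namespace Groth.Agent.S1735

theorem result (A : Type u) [CommRing A] [IsDomain A] [IsLocalRing A] [IsNoetherianRing A] [IsAdicComplete (IsLocalRing.maximalIdeal A) A] (p : Ideal A) [p.IsPrime] (hp : ringKrullDim (A ⧸ p) = 1) (n : ℕ) (hn : 1 ≤ n) : ∃ m : ℕ, n ≤ m ∧ ((Ideal.map (algebraMap A (Localization.AtPrime p)) p) ^ m).comap (algebraMap A (Localization.AtPrime p)) ≤ p ^ n := by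
  classical
  let Ap := Localization.AtPrime p
  let φ : A →+* Ap := algebraMap A Ap
  let symb : ℕ → Ideal A := fun m => ((Ideal.map φ p) ^ m).comap φ
  have hinjφ : Function.Injective φ :=
    IsLocalization.injective Ap (Ideal.primeCompl_le_nonZeroDivisors p)
  have hmem : ∀ m a, a ∈ symb m → ∃ s, s ∉ p ∧ s * a ∈ p ^ m := by
    intro m a ha
    have h1 : φ a ∈ Ideal.map φ (p ^ m) := by
      rw [Ideal.map_pow]; exact ha
    obtain ⟨⟨i, s⟩, hs⟩ := (IsLocalization.mem_map_algebraMap_iff p.primeCompl Ap).mp h1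
    refine ⟨s.1, s.2, ?_⟩
    have h2 : φ (a * s.1) = φ i.1 := by rw [map_mul]; exact hs
    have h3 := hinjφ h2
    rw [mul_comm, h3]
    exact i.2
  have hanti : Antitone symb := by
    intro m m' hmm'
    exact Ideal.comap_mono (Ideal.pow_le_pow_right hmm')
  have hinf : (⨅ q, symb q) = ⊥ := by
    rw [eq_bot_iff]
    intro x hx
    rw [Ideal.mem_iInf] at hx
    have h1 : φ x ∈ (⨅ m : ℕ, (Ideal.map φ p) ^ m) := by
      rw [Ideal.mem_iInf]
      intro m
      exact hx m
    have hne : Ideal.map φ p ≠ ⊤ := by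
      rw [Localization.AtPrime.map_eq_maximalIdeal]
      exact (IsLocalRing.maximalIdeal.isMaximal _).ne_top
    rw [Ideal.iInf_pow_eq_bot_of_isLocalRing _ hne, Ideal.mem_bot] at h1
    have : x = 0 := hinjφ (by rw [h1, map_zero])
    rw [this]; exact Ideal.zero_mem _
  -- every prime strictly containing p is the maximal ideal
  have hprime : ∀ q : Ideal A, q.IsPrime → p ≤ q → q ≠ p → q = IsLocalRing.maximalIdeal A := by
    intro q hq hpq hne
    haveI : Ring.KrullDimLE 1 (A ⧸ p) := Ring.krullDimLE_iff.mpr (by rw [hp]; rfl)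
    have hker : RingHom.ker (Ideal.Quotient.mk p) ≤ q := by rw [Ideal.mk_ker]; exact hpq
    have hqprime : (q.map (Ideal.Quotient.mk p)).IsPrime :=
      Ideal.map_isPrime_of_surjective Ideal.Quotient.mk_surjective hker
    have hqne : q.map (Ideal.Quotient.mk p) ≠ ⊥ := by
      intro h
      apply hne
      apply le_antisymm _ hpq
      rw [Ideal.map_eq_bot_iff_le_ker, Ideal.mk_ker] at h
      exact h
    have hmax := hqprime.isMaximal_of_ne_bot hqne
    have hcomap : (q.map (Ideal.Quotient.mk p)).comap (Ideal.Quotient.mk p) = q := by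
      rw [Ideal.comap_map_of_surjective _ Ideal.Quotient.mk_surjective, ← RingHom.ker_eq_comap_bot,
        Ideal.mk_ker, sup_eq_left]
      exact hpq
    have hqmax : q.IsMaximal := by
      rw [← hcomap]
      exact Ideal.comap_isMaximal_of_surjective _ Ideal.Quotient.mk_surjective
    exact IsLocalRing.eq_maximalIdeal hqmax
  -- (4a) some power of the maximal ideal multiplies symb n into p ^ n
  have hK : ∃ K : ℕ, IsLocalRing.maximalIdeal A ^ K * symb n ≤ p ^ n := by
    obtain ⟨r, x, hx⟩ := Submodule.fg_iff_exists_fin_generating_family.mp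
      (IsNoetherian.noetherian (symb n))
    have hxs : ∀ i, ∃ s, s ∉ p ∧ s * x i ∈ p ^ n := fun i =>
      hmem n (x i) (by rw [← hx]; exact Submodule.subset_span (Set.mem_range_self i))
    choose s hs1 hs2 using hxs
    obtain ⟨S, hSdef⟩ : ∃ S : A, S = ∏ i, s i := ⟨_, rfl⟩
    have hS : S ∉ p := by
      intro h
      rw [hSdef] at h
      obtain ⟨i, _, hi⟩ := (Ideal.IsPrime.prod_mem_iff).mp h
      exact hs1 i hi
    have hSsymb : ∀ a ∈ symb n, S * a ∈ p ^ n := by
      intro a ha
      rw [← hx] at ha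
      refine Submodule.span_induction ?_ ?_ ?_ ?_ ha
      · rintro _ ⟨i, rfl⟩
        have : S = (∏ j ∈ Finset.univ.erase i, s j) * s i := by
          rw [hSdef, mul_comm]; exact (Finset.mul_prod_erase _ _ (Finset.mem_univ i)).symm
        rw [this, mul_assoc]
        exact Ideal.mul_mem_left _ _ (hs2 i)
      · rw [mul_zero]; exact Ideal.zero_mem _
      · intro a b _ _ ha hb
        rw [mul_add]; exact Ideal.add_mem _ ha hb
      · intro c a _ ha
        rw [smul_eq_mul, mul_left_comm]
        exact Ideal.mul_mem_left _ _ ha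
    have hrad : IsLocalRing.maximalIdeal A ≤ (p ⊔ Ideal.span {S}).radical := by
      rw [Ideal.radical_eq_sInf]
      refine le_sInf ?_
      rintro q ⟨hq1, hq2⟩
      have hpq : p ≤ q := le_trans le_sup_left hq1
      have hSq : S ∈ q := hq1 (Ideal.mem_sup_right (Ideal.mem_span_singleton_self S))
      have hne : q ≠ p := by
        intro h; rw [h] at hSq; exact hS hSq
      rw [hprime q hq2 hpq hne]
    obtain ⟨k, hk⟩ := Ideal.exists_pow_le_of_le_radical_of_fg hrad (IsNoetherian.noetherian _)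
    refine ⟨k * n, ?_⟩
    have h1 : ∀ t : ℕ, (p ⊔ Ideal.span {S}) ^ t ≤ p ^ t ⊔ Ideal.span {S} := by
      intro t
      induction t with
      | zero => simp
      | succ t ih =>
        rw [pow_succ]
        refine le_trans (Ideal.mul_mono_left ih) ?_
        rw [Ideal.sup_mul, Ideal.mul_sup, Ideal.mul_sup]
        refine sup_le (sup_le ?_ ?_) (sup_le ?_ ?_)
        · rw [← pow_succ]; exact le_sup_left
        · exact le_sup_of_le_right Ideal.mul_le_right
        · exact le_sup_of_le_right Ideal.mul_le_left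
        · exact le_sup_of_le_right Ideal.mul_le_left
    have h2 : IsLocalRing.maximalIdeal A ^ (k * n) ≤ p ^ n ⊔ Ideal.span {S} := by
      rw [pow_mul]
      exact le_trans (Ideal.pow_right_mono hk n) (h1 n)
    refine le_trans (Ideal.mul_mono_left h2) ?_
    rw [Ideal.sup_mul]
    refine sup_le Ideal.mul_le_left ?_
    rw [Ideal.span_singleton_mul_le_iff]
    exact hSsymb
  obtain ⟨K, hK⟩ := hK
  -- (4b) Artin–Rees
  have hAR : ∃ j : ℕ, symb n ⊓ (p ^ n ⊔ IsLocalRing.maximalIdeal A ^ j) ≤ p ^ n := by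
    let Nbar : Submodule A (A ⧸ p ^ n) := Submodule.map (Submodule.mkQ (p ^ n)) (symb n)
    obtain ⟨c, hc⟩ := Ideal.exists_pow_inf_eq_pow_smul (IsLocalRing.maximalIdeal A) Nbar
    refine ⟨c + K, ?_⟩
    rintro x ⟨hx1, hx2⟩
    obtain ⟨u, hu, v, hv, rfl⟩ := Submodule.mem_sup.mp hx2
    have h1 : Submodule.mkQ (p ^ n) (u + v) ∈
        (IsLocalRing.maximalIdeal A ^ (c + K) • ⊤ ⊓ Nbar : Submodule A (A ⧸ p ^ n)) := by
      refine ⟨?_, Submodule.mem_map_of_mem hx1⟩
      have h2 : Submodule.mkQ (p ^ n) (u + v) = v • Submodule.mkQ (p ^ n) (1 : A) := by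
        rw [map_add, ← map_smul, smul_eq_mul, mul_one]
        have : Submodule.mkQ (p ^ n) u = 0 := (Submodule.Quotient.mk_eq_zero _).mpr hu
        rw [this, zero_add]
      rw [h2]
      exact Submodule.smul_mem_smul hv Submodule.mem_top
    rw [hc (c + K) (by omega), Nat.add_sub_cancel_left] at h1
    have h3 : (IsLocalRing.maximalIdeal A ^ K • Nbar : Submodule A (A ⧸ p ^ n)) = ⊥ := by
      rw [eq_bot_iff]
      have : (IsLocalRing.maximalIdeal A ^ K • Nbar : Submodule A (A ⧸ p ^ n)) =
          Submodule.map (Submodule.mkQ (p ^ n)) (IsLocalRing.maximalIdeal A ^ K • symb n) := by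
        rw [Submodule.map_smul'']
      rw [this, Submodule.map_le_iff_le_comap, Submodule.comap_bot, Submodule.ker_mkQ]
      exact hK
    have h4 : Submodule.mkQ (p ^ n) (u + v) ∈
        (IsLocalRing.maximalIdeal A ^ K • Nbar : Submodule A (A ⧸ p ^ n)) :=
      Submodule.smul_mono le_rfl inf_le_right h1
    rw [h3, Submodule.mem_bot] at h4
    exact (Submodule.Quotient.mk_eq_zero _).mp h4
  obtain ⟨j, hj⟩ := hAR
  obtain ⟨q, hq⟩ := Groth.Agent.Lib.Helper64.chevalley symb hanti j
  rw [hinf, bot_sup_eq] at hq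
  refine ⟨max q n, le_max_right _ _, ?_⟩
  intro x hx
  have hx' : x ∈ symb (max q n) := hx
  apply hj
  refine ⟨hanti (le_max_right q n) hx', ?_⟩
  exact Ideal.mem_sup_right (hq (hanti (le_max_left q n) hx'))

end Groth.Agent.S1735
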