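import Groth.Statements.S17354
import Mathlib
import Groth.Agent.Lib.Helper52.InvQuad
import Groth.Agent.Lib.Helper52.InvQuad2


set_option autoImplicit false
universe u v w
open scoped TensorProduct
open AzInv

set_option linter.style.haveILetI false
set_option linter.unusedVariables false

namespace Groth.Agent.S17354

/-- Let `R` be a quadratic etale `S`-algebra with an involution `lam` whose fixed ring is exactly `S`
(the unramified case), and assume that units have square roots locally for the etale topology of `S`
(every unit of an etale `S`-algebra becomes a square in some etale faithfully flat extension). Then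
every `lam`-involution `t` of an Azumaya `R`-algebra `A` of degree `n ≥ 1` has the same type as the
involution `lam` of `R` itself: for some positive sizes `m`, `m'` the matrix algebras of size `m`
over `A` and of size `m'` over `R`, with the involutions induced by `t` and by `lam`, become
isomorphic as `R`-algebras with involution after an etale faithfully flat base change of `S`; in
other words there is a single type. (The source states this for an exact quotient of a locally
ringed topos with involution; the row is the affine case `Spec R → Spec S`, with etale coverings of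
`Spec S` replaced by a single etale faithfully flat `S`-algebra.) -/
theorem result (S : Type u) (R : Type v) [CommRing S] [CommRing R] [Algebra S R]
    (lam : R ≃ₐ[S] R) (hlam : ∀ r, lam (lam r) = r) (hfix : RInv.IsFixedRing S R lam.toRingEquiv)
    (hq : RInv.IsQuadEtale S R)
    (hsq : ∀ (S₁ : Type u) [CommRing S₁] [Algebra S S₁] [Algebra.Etale S S₁] (x : S₁ˣ),
      ∃ (S₂ : Type u) (_ : CommRing S₂) (_ : Algebra S₁ S₂) (_ : Algebra.Etale S₁ S₂)
        (_ : Module.FaithfullyFlat S₁ S₂) (y : S₂), y * y = algebraMap S₁ S₂ ↑x)
    (A : Type w) [Ring A] [Algebra S A] [Algebra R A] [IsScalarTower S R A]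
    (n : ℕ) (hn : 0 < n) (hA : AzInv.IsAzumayaDeg R A n) (t : AzInv.LamInv R A lam) :
    AzInv.SameType S lam t (AzInv.LamInv.self lam hlam) := by
  classical
  obtain ⟨hAz, hrank⟩ := hA
  haveI := hAz
  obtain ⟨C, _, _, _, _, _, _, ⟨g⟩⟩ :=
    Groth.Agent.Lib.Helper52.InvQuad.exists_cover hq hfix.1 (A := A) n hrank
  let u : Matrix (Fin 1) (Fin 1) A ≃ₐ[R] A :=
    { toFun := fun M => M 0 0
      invFun := fun a => Matrix.of fun _ _ => a
      left_inv := fun M => by
        ext i j
        fin_cases i
        fin_cases j
        rfl
      right_inv := fun a => rfl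
      map_mul' := fun M N => by simp [Matrix.mul_apply]
      map_add' := fun M N => rfl
      commutes' := fun r => by simp [Matrix.algebraMap_matrix_apply] }
  let ψ₁ : Matrix (Fin 1) (Fin 1) A →ₐ[R] Matrix (Fin n) (Fin n) C :=
    ((g.toAlgHom.restrictScalars R).comp Algebra.TensorProduct.includeRight).comp u.toAlgHom
  let ψ₂ : Matrix (Fin n) (Fin n) R →ₐ[R] Matrix (Fin n) (Fin n) C := (Algebra.ofId R C).mapMatrix
  have hψ₁ : Function.Bijective (Groth.Agent.Lib.Helper52.InvQuad.psiLift C ψ₁) := by
    have h : ⇑(Groth.Agent.Lib.Helper52.InvQuad.psiLift C ψ₁) =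
        ⇑((Algebra.TensorProduct.congr (AlgEquiv.refl : C ≃ₐ[C] C) u).trans g) := by
      funext x
      induction x using TensorProduct.induction_on with
      | zero => simp
      | tmul c X =>
        rw [Groth.Agent.Lib.Helper52.InvQuad.psiLift_tmul, AlgEquiv.trans_apply,
          Algebra.TensorProduct.congr_apply, Algebra.TensorProduct.map_tmul]
        show c • g ((1 : C) ⊗ₜ[R] u X) = g (c ⊗ₜ[R] u X)
        rw [← map_smul, TensorProduct.smul_tmul', smul_eq_mul, mul_one]
      | add x y hx hy => rw [map_add, map_add, hx, hy]
    rw [h]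
    exact AlgEquiv.bijective _
  have hψ₂ : Function.Bijective (Groth.Agent.Lib.Helper52.InvQuad.psiLift C ψ₂) := by
    have h : ⇑(Groth.Agent.Lib.Helper52.InvQuad.psiLift C ψ₂) =
        ⇑(Groth.Agent.Lib.Helper52.AzuCharpoly.matrixBaseChange R C (Fin n)) := by
      funext x
      induction x using TensorProduct.induction_on with
      | zero => simp
      | tmul c X =>
        rw [Groth.Agent.Lib.Helper52.InvQuad.psiLift_tmul,
          Groth.Agent.Lib.Helper52.AzuCharpoly.matrixBaseChange_tmul]
        rfl
      | add x y hx hy => rw [map_add, map_add, hx, hy]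
    rw [h]
    exact AlgEquiv.bijective _
  obtain ⟨f, hf₁, hf₂⟩ := Groth.Agent.Lib.Helper52.InvQuad.exists_algEquiv_of_split lam hlam hfix hq C
    (t.matrix (Fin 1)) ((AzInv.LamInv.self lam hlam).matrix (Fin n)) ψ₁ ψ₂ hψ₁ hψ₂
  exact ⟨1, n, Nat.one_pos, hn, C, inferInstance, inferInstance, inferInstance, inferInstance, f,
    hf₁, hf₂⟩

end Groth.Agent.S17354
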