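import Groth.Statements.S17355
import Mathlib
import Groth.Agent.S17357

set_option autoImplicit false
set_option linter.style.haveILetI false
universe u v w
open scoped TensorProduct
open AzInv

namespace Groth.Agent.S17355

open Groth.Agent.S17357 Groth.Agent.Lib.Helper98.AzuTwist

section
variable {S : Type u} {R : Type v} [CommRing S] [CommRing R] [Algebra S R]
  (lam : R ≃ₐ[S] R) (hlam : ∀ r, lam (lam r) = r) (hfix : RInv.IsFixedRing S R lam.toRingEquiv)
  {A : Type w} [Ring A] [Algebra S A] [Algebra R A] [IsScalarTower S R A] [IsAzumaya R A]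

include hlam hfix in
/-- local data including the unitary normalisation constants -/
theorem exists_local_data' (t : AzInv.LamInv R A lam) (ψ : A ≃ₐ[R] A)
    (hψ : AzInv.IsInvHom t t ψ) (p : Ideal S) [p.IsPrime] :
    ∃ (u w : A) (T : R) (f c₀ d₀ : S), f ∉ p ∧ (∀ a, ψ a * u = u * a) ∧
      w * u = algebraMap R A T ∧ u * w = algebraMap R A T ∧ algebraMap S R f = T * lam T ∧
      t u * u = algebraMap S A c₀ ∧ c₀ * d₀ = f := by
  have hinj : Function.Injective (algebraMap R A) := FaithfulSMul.algebraMap_injective R A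
  obtain ⟨u, w, T, f, hfp, hu, hw, hwu, huw, hf⟩ := exists_local_data lam hlam hfix ψ p
  -- `t u` satisfies the `w`-relation
  have hw' : ∀ a, a * t u = t u * ψ a := by
    intro a
    have h1 := congrArg t (hu (t a))
    rw [t.map_mul, t.map_mul, t.invol, ← hψ (t a), t.invol] at h1
    exact h1.symm
  -- `t w` satisfies the `u`-relation
  have hu' : ∀ a, ψ a * t w = t w * a := by
    intro a
    have h1 := congrArg t (hw (t a))
    rw [t.map_mul, t.map_mul, t.invol, ← hψ (t a), t.invol] at h1
    exact h1.symm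
  obtain ⟨c, -, hc, -, -⟩ := pair_props ψ hu hw'
  obtain ⟨d, -, hd, -, -⟩ := pair_props ψ hu' hw
  have hlc : lam c = c := by
    apply hinj
    rw [← t.map_algebraMap, hc, t.map_mul, t.invol]
  have hld : lam d = d := by
    apply hinj
    rw [← t.map_algebraMap, hd, t.map_mul, t.invol]
  obtain ⟨c₀, hc₀⟩ := (hfix.2 c).mp hlc
  obtain ⟨d₀, hd₀⟩ := (hfix.2 d).mp hld
  refine ⟨u, w, T, f, c₀, d₀, hfp, hu, hwu, huw, hf, ?_, ?_⟩
  · rw [IsScalarTower.algebraMap_apply S R A, hc₀, hc]
  · apply hfix.1
    apply hinj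
    rw [map_mul, map_mul, hc₀, hd₀, hc, hd, hf, map_mul]
    calc t u * u * (w * t w) = t u * (u * w) * t w := by simp only [mul_assoc]
      _ = algebraMap R A T * (t u * t w) := by
        rw [huw, ← Algebra.commutes, mul_assoc]
      _ = algebraMap R A T * algebraMap R A (lam T) := by
        rw [← t.map_mul, hwu, t.map_algebraMap]


omit [IsAzumaya R A] in
theorem exists_unit_gen (t : AzInv.LamInv R A lam) (ψ : A ≃ₐ[R] A) {u w : A} {T : R} {f c₀ d₀ : S}
    (hu : ∀ a, ψ a * u = u * a)
    (hwu : w * u = algebraMap R A T) (huw : u * w = algebraMap R A T)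
    (hf : algebraMap S R f = T * lam T)
    (hc : t u * u = algebraMap S A c₀) (hcd : c₀ * d₀ = f)
    (S₂ : Type u) [CommRing S₂] [Algebra S S₂] (g y : S₂)
    (hfg : algebraMap S S₂ f * g = 1) (hy : y * y = algebraMap S S₂ c₀) :
    ∃ U : (S₂ ⊗[S] A)ˣ, t.bc S lam S₂ (↑U : S₂ ⊗[S] A) * ↑U = 1 ∧
      ∀ x : S₂ ⊗[S] A,
        Algebra.TensorProduct.congr (AlgEquiv.refl : S₂ ≃ₐ[S₂] S₂) (ψ.restrictScalars S) x =
          ↑U * x * ↑U⁻¹ := by
  set yi : S₂ := y * algebraMap S S₂ d₀ * g with hyi
  have hyyi : y * yi = 1 := by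
    rw [hyi, ← mul_assoc, ← mul_assoc, hy, ← map_mul, hcd, hfg]
  have hTT : algebraMap R A (lam T * T) = algebraMap S A f := by
    rw [IsScalarTower.algebraMap_apply S R A f, hf, mul_comm]
  have key : ∀ (s : S₂) (a : A),
      (s * g) ⊗ₜ[S] (algebraMap R A (lam T * T) * a) = s ⊗ₜ[S] a := by
    intro s a
    rw [hTT, ← Algebra.smul_def, TensorProduct.tmul_smul, TensorProduct.smul_tmul',
      Algebra.smul_def, mul_comm s g, ← mul_assoc, hfg, one_mul]
  have hUV : (yi ⊗ₜ[S] u : S₂ ⊗[S] A) * ((y * g) ⊗ₜ[S] (lam T • w)) = 1 := by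
    rw [Algebra.TensorProduct.tmul_mul_tmul, mul_smul_comm, huw, Algebra.smul_def,
      ← map_mul, ← mul_assoc, mul_comm yi y, hyyi]
    have := key 1 1
    rw [mul_one] at this
    exact this
  have hVU : ((y * g) ⊗ₜ[S] (lam T • w) : S₂ ⊗[S] A) * (yi ⊗ₜ[S] u) = 1 := by
    rw [Algebra.TensorProduct.tmul_mul_tmul, smul_mul_assoc, hwu, Algebra.smul_def,
      ← map_mul, mul_comm (y * g) yi, ← mul_assoc, mul_comm yi y, hyyi]
    have := key 1 1
    rw [mul_one] at this
    exact this
  refine ⟨⟨yi ⊗ₜ[S] u, (y * g) ⊗ₜ[S] (lam T • w), hUV, hVU⟩, ?_, fun x => ?_⟩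
  · show t.bc S lam S₂ (yi ⊗ₜ[S] u) * (yi ⊗ₜ[S] u) = 1
    rw [AzInv.LamInv.bc_tmul, Algebra.TensorProduct.tmul_mul_tmul, hc,
      Algebra.algebraMap_eq_smul_one, TensorProduct.tmul_smul, TensorProduct.smul_tmul',
      Algebra.smul_def, ← hy]
    have : y * y * (yi * yi) = 1 := by
      calc y * y * (yi * yi) = (y * yi) * (y * yi) := by ring
        _ = 1 := by rw [hyyi, one_mul]
    rw [this]
    rfl
  · show _ = (yi ⊗ₜ[S] u) * x * ((y * g) ⊗ₜ[S] (lam T • w))
    induction x using TensorProduct.induction_on with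
    | zero => simp
    | tmul s a =>
      rw [Algebra.TensorProduct.congr_apply, Algebra.TensorProduct.map_tmul,
        Algebra.TensorProduct.tmul_mul_tmul, Algebra.TensorProduct.tmul_mul_tmul]
      have h1 : u * a * (lam T • w) = algebraMap R A (lam T * T) * ψ a := by
        rw [mul_smul_comm, ← hu a, mul_assoc, huw, ← Algebra.commutes, ← Algebra.smul_def,
          ← Algebra.smul_def, smul_smul]
      have h2 : yi * s * (y * g) = s * g := by
        calc yi * s * (y * g) = (y * yi) * (s * g) := by ring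
          _ = s * g := by rw [hyyi, one_mul]
      rw [h1, h2, key]
      rfl
    | add a₁ a₂ h₁ h₂ => rw [map_add, h₁, h₂, mul_add, add_mul]

end

section glue

variable {S : Type u} [CommRing S] {ι : Type u} [Fintype ι]
  (B : ι → Type u) [∀ i, CommRing (B i)] [∀ i, Algebra S (B i)]

lemma faithfullyFlat_pi_of_cover [∀ i, Module.Flat S (B i)]
    (hcov : ∀ p : PrimeSpectrum S, ∃ i, p ∈ Set.range (PrimeSpectrum.comap (algebraMap S (B i)))) :
    Module.FaithfullyFlat S (∀ i, B i) := by
  classical
  haveI : Module.Flat S (∀ i, B i) := flat_pi B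
  apply Module.FaithfullyFlat.of_comap_surjective
  intro p
  obtain ⟨i, q, hq⟩ := hcov p
  refine ⟨⟨q.asIdeal.comap (Pi.evalRingHom B i), Ideal.comap_isPrime _ _⟩, ?_⟩
  rw [← hq]
  ext1
  show Ideal.comap _ (Ideal.comap _ _) = _
  rw [Ideal.comap_comap]
  rfl

end glue

/-- the property of `f` used for gluing -/
def Good {S : Type u} {R : Type v} [CommRing S] [CommRing R] [Algebra S R]
    (lam : R ≃ₐ[S] R) {A : Type w} [Ring A] [Algebra S A] [Algebra R A] [IsScalarTower S R A]
    (t : AzInv.LamInv R A lam) (ψ : A ≃ₐ[R] A) (f : S) : Prop :=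
  ∃ (S₂ : Type u) (_ : CommRing S₂) (_ : Algebra S S₂) (_ : Algebra.Etale S S₂)
    (_ : Module.Flat S S₂),
    (∀ p : PrimeSpectrum S, f ∉ p.asIdeal →
      p ∈ Set.range (PrimeSpectrum.comap (algebraMap S S₂))) ∧
    ∃ U : (S₂ ⊗[S] A)ˣ, t.bc S lam S₂ (↑U : S₂ ⊗[S] A) * ↑U = 1 ∧
      ∀ x : S₂ ⊗[S] A,
        Algebra.TensorProduct.congr (AlgEquiv.refl : S₂ ≃ₐ[S₂] S₂) (ψ.restrictScalars S) x =
          ↑U * x * ↑U⁻¹

/-- Let `R` be a commutative ring with an involution `lam` whose fixed ring is exactly `S`, assume that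
units have square roots locally for the etale topology of `S` (every unit of an etale `S`-algebra
becomes a square in some etale faithfully flat extension), and let `A` be an Azumaya `R`-algebra of
degree `n ≥ 1` with a `lam`-involution `t`. Then every `R`-algebra automorphism `ψ` of `A` that
commutes with `t` is, locally for the etale topology of `S`, conjugation by a unitary element: there
are an etale faithfully flat `S`-algebra `S'` and a unit `u` of `S' ⊗_S A` with `(id ⊗ t)(u) * u =
1` such that `id ⊗ ψ` is `x ↦ u x u⁻¹` (the map from the unitary group to the automorphism sheaf of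
`(A, t)` is an epimorphism). This row states the surjectivity part only; the published statement
also identifies the kernel of the map from the unitary group as the group of norm-one elements of
`R` (the units `r` of `R` with `lam r * r = 1`), so that the projective unitary group of `(A, t)` is
its automorphism sheaf. (The source states this for an exact quotient of a locally ringed topos with
involution; the row is the affine case `Spec R → Spec S`, with etale coverings of `Spec S` replaced
by a single etale faithfully flat `S`-algebra.) -/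
theorem result (S : Type u) (R : Type v) [CommRing S] [CommRing R] [Algebra S R]
    (lam : R ≃ₐ[S] R) (hlam : ∀ r, lam (lam r) = r) (hfix : RInv.IsFixedRing S R lam.toRingEquiv)
    (hsq : ∀ (S₁ : Type u) [CommRing S₁] [Algebra S S₁] [Algebra.Etale S S₁] (x : S₁ˣ),
      ∃ (S₂ : Type u) (_ : CommRing S₂) (_ : Algebra S₁ S₂) (_ : Algebra.Etale S₁ S₂)
        (_ : Module.FaithfullyFlat S₁ S₂) (y : S₂), y * y = algebraMap S₁ S₂ ↑x)
    (A : Type w) [Ring A] [Algebra S A] [Algebra R A] [IsScalarTower S R A]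
    (n : ℕ) (hn : 0 < n) (hA : AzInv.IsAzumayaDeg R A n) (t : AzInv.LamInv R A lam)
    (ψ : A ≃ₐ[R] A) (hψ : AzInv.IsInvHom t t ψ) :
    ∃ (S' : Type u) (_ : CommRing S') (_ : Algebra S S') (_ : Algebra.Etale S S')
      (_ : Module.FaithfullyFlat S S') (u : (S' ⊗[S] A)ˣ),
      t.bc S lam S' (↑u : S' ⊗[S] A) * ↑u = 1 ∧
        ∀ x : S' ⊗[S] A,
          Algebra.TensorProduct.congr (AlgEquiv.refl : S' ≃ₐ[S'] S') (ψ.restrictScalars S) x =
            ↑u * x * ↑u⁻¹ := by
  obtain ⟨hAz, -⟩ := hA
  haveI := hAz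
  classical
  have hG : Ideal.span {f | Good lam t ψ f} = ⊤ := by
    by_contra hne
    obtain ⟨m, hm, hle⟩ := Ideal.exists_le_maximal _ hne
    haveI := hm.isPrime
    obtain ⟨u, w, T, f, c₀, d₀, hfp, hu, hwu, huw, hf, hc, hcd⟩ :=
      exists_local_data' lam hlam hfix t ψ hψ m
    apply hfp
    apply hle
    apply Ideal.subset_span
    -- show `f` is good
    set g : Localization.Away f := IsLocalization.Away.invSelf f with hg
    have hfg : algebraMap S (Localization.Away f) f * g = 1 := IsLocalization.Away.mul_invSelf f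
    let x : (Localization.Away f)ˣ :=
      ⟨algebraMap S _ c₀, algebraMap S _ d₀ * g, by rw [← mul_assoc, ← map_mul, hcd, hfg],
        by rw [mul_comm, ← mul_assoc, ← map_mul, hcd, hfg]⟩
    obtain ⟨S₂, i1, i2, i3, i4, y, hy⟩ := hsq (Localization.Away f) x
    letI : Algebra S S₂ := ((algebraMap (Localization.Away f) S₂).comp
      (algebraMap S (Localization.Away f))).toAlgebra
    haveI : IsScalarTower S (Localization.Away f) S₂ := IsScalarTower.of_algebraMap_eq fun _ => rfl
    haveI : Algebra.Etale S S₂ := Algebra.Etale.comp S (Localization.Away f) S₂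
    haveI : Module.Flat S (Localization.Away f) := IsLocalization.flat _ (Submonoid.powers f)
    haveI : Module.Flat S S₂ := Module.Flat.trans S (Localization.Away f) S₂
    refine ⟨S₂, inferInstance, inferInstance, inferInstance, inferInstance, ?_, ?_⟩
    · intro p hp
      have hdisj : Disjoint (Submonoid.powers f : Set S) (p.asIdeal : Set S) :=
        (Ideal.disjoint_powers_iff_notMem _ p.2.isRadical).mpr hp
      have hP : (Ideal.map (algebraMap S (Localization.Away f)) p.asIdeal).IsPrime :=
        IsLocalization.isPrime_of_isPrime_disjoint (Submonoid.powers f) _ p.asIdeal p.2 hdisj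
      have hcomap : (Ideal.map (algebraMap S (Localization.Away f)) p.asIdeal).comap
          (algebraMap S (Localization.Away f)) = p.asIdeal :=
        IsLocalization.under_map_of_isPrime_disjoint (Submonoid.powers f) _ p.2 hdisj
      obtain ⟨q, hq⟩ := PrimeSpectrum.comap_surjective_of_faithfullyFlat
        (A := Localization.Away f) (B := S₂) ⟨_, hP⟩
      refine ⟨q, ?_⟩
      ext1
      have h1 := congrArg PrimeSpectrum.asIdeal hq
      show Ideal.comap (algebraMap S S₂) q.asIdeal = p.asIdeal
      rw [IsScalarTower.algebraMap_eq S (Localization.Away f) S₂, ← Ideal.comap_comap]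
      change Ideal.comap (algebraMap (Localization.Away f) S₂) q.asIdeal = _ at h1
      rw [h1, hcomap]
    · refine exists_unit_gen lam t ψ hu hwu huw hf hc hcd S₂
        (algebraMap (Localization.Away f) S₂ g) y ?_ ?_
      · rw [IsScalarTower.algebraMap_apply S (Localization.Away f) S₂, ← map_mul, hfg, map_one]
      · rw [hy, IsScalarTower.algebraMap_apply S (Localization.Away f) S₂]
  obtain ⟨s', hs', hspan⟩ := (Ideal.span_eq_top_iff_finite _).mp hG
  choose S₂ i1 i2 i3 i4 hcov U hU1 hU2 using fun i : ↥s' => hs' i.2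
  letI := i1
  letI := i2
  haveI := i3
  haveI := i4
  have hff : Module.FaithfullyFlat S (∀ i, S₂ i) := by
    apply faithfullyFlat_pi_of_cover
    intro p
    obtain ⟨i, hi⟩ : ∃ i : ↥s', (i : S) ∉ p.asIdeal := by
      by_contra hcon
      rw [not_exists] at hcon
      simp only [not_not] at hcon
      have : Ideal.span (s' : Set S) ≤ p.asIdeal := by
        rw [Ideal.span_le]
        intro x hx
        exact hcon ⟨x, hx⟩
      rw [hspan] at this
      exact p.2.ne_top (top_le_iff.mp this)
    exact ⟨i, hcov i p hi⟩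
  let e := piLeftAlg (S := S) S₂ A
  have hnat : ∀ (x : (∀ i : ↥s', S₂ i) ⊗[S] A) (i : ↥s'),
      e (Algebra.TensorProduct.congr
        (AlgEquiv.refl : (∀ i : ↥s', S₂ i) ≃ₐ[(∀ i : ↥s', S₂ i)] _)
        (ψ.restrictScalars S) x) i =
      Algebra.TensorProduct.congr
        (AlgEquiv.refl : S₂ i ≃ₐ[S₂ i] S₂ i)
        (ψ.restrictScalars S) (e x i) := by
    intro x i
    induction x using TensorProduct.induction_on with
    | zero => simp
    | tmul b a =>
      rw [Algebra.TensorProduct.congr_apply, Algebra.TensorProduct.map_tmul]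
      simp only [e]
      rw [piLeftAlg_tmul, piLeftAlg_tmul, Algebra.TensorProduct.congr_apply,
        Algebra.TensorProduct.map_tmul]
      rfl
    | add a₁ a₂ h₁ h₂ => simp only [map_add, Pi.add_apply, h₁, h₂]
  have hnat2 : ∀ (x : (∀ i : ↥s', S₂ i) ⊗[S] A) (i : ↥s'),
      e (t.bc S lam (∀ i : ↥s', S₂ i) x) i = t.bc S lam (S₂ i) (e x i) := by
    intro x i
    induction x using TensorProduct.induction_on with
    | zero => simp
    | tmul b a =>
      simp only [e]
      rw [AzInv.LamInv.bc_tmul, piLeftAlg_tmul, piLeftAlg_tmul, AzInv.LamInv.bc_tmul]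
    | add a₁ a₂ h₁ h₂ => simp only [map_add, Pi.add_apply, h₁, h₂]
  refine ⟨∀ i : ↥s', S₂ i, inferInstance, inferInstance, inferInstance, hff,
    ⟨e.symm (fun i => (U i : S₂ i ⊗[S] A)),
     e.symm (fun i => ((U i)⁻¹ : (S₂ i ⊗[S] A)ˣ)), ?_, ?_⟩, ?_, ?_⟩
  · rw [← map_mul]
    have : (fun i => (U i : S₂ i ⊗[S] A)) *
        (fun i => (((U i)⁻¹ : (S₂ i ⊗[S] A)ˣ) : S₂ i ⊗[S] A)) = 1 := by
      ext i
      simp
    rw [this, map_one]
  · rw [← map_mul]
    have : (fun i => (((U i)⁻¹ : (S₂ i ⊗[S] A)ˣ) : S₂ i ⊗[S] A)) *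
        (fun i => (U i : S₂ i ⊗[S] A)) = 1 := by
      ext i
      simp
    rw [this, map_one]
  · apply e.injective
    ext i
    rw [map_mul, Pi.mul_apply, hnat2]
    simp only [Units.val_mk, AlgEquiv.apply_symm_apply, map_one, Pi.one_apply]
    exact hU1 i
  · intro x
    apply e.injective
    ext i
    rw [hnat x i, hU2 i]
    simp only [map_mul, AlgEquiv.apply_symm_apply, Pi.mul_apply, Units.inv_mk, Units.val_mk]

end Groth.Agent.S17355
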