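import Groth.Statements.S17356
-- import your own Groth.Agent.* helpers here
import Mathlib
import Groth.Agent.Lib.Helper52.AzSplitMain


set_option autoImplicit false
universe u v w
open scoped TensorProduct
open AzInv


set_option linter.style.haveILetI false
set_option linter.unusedVariables false
set_option linter.unusedSimpArgs false
open Groth.Agent.Lib.Helper52.AzSplitMU Groth.Agent.Lib.Helper52.AzSplitBC
  Groth.Agent.Lib.Helper52.AzSplitMain

namespace Groth.Agent.S17356

/-- Let `R` be a commutative ring with an involution `lam` whose fixed ring is exactly `S`, and let `A`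
be an Azumaya `R`-algebra of degree `n ≥ 1`. Then `A` becomes a matrix algebra after base change
along an etale covering of `S` (and not merely of `R`): there are an etale faithfully flat
`S`-algebra `S'` and an `S'`-algebra isomorphism from `S' ⊗_S A` to the `n × n` matrices over `S'
⊗_S R` that carries multiplication by `1 ⊗ r`, for `r` in `R`, to multiplication by the scalar
matrix `1 ⊗ r`. (The source states this for a good quotient of schemes by an involution; the row is
the affine case `Spec R → Spec S`.) -/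
theorem result (S : Type u) (R : Type v) [CommRing S] [CommRing R] [Algebra S R]
    (lam : R ≃ₐ[S] R) (hlam : ∀ r, lam (lam r) = r) (hfix : RInv.IsFixedRing S R lam.toRingEquiv)
    (A : Type w) [Ring A] [Algebra S A] [Algebra R A] [IsScalarTower S R A]
    (n : ℕ) (hn : 0 < n) (hA : AzInv.IsAzumayaDeg R A n) :
    ∃ (S' : Type u) (_ : CommRing S') (_ : Algebra S S') (_ : Algebra.Etale S S')
      (_ : Module.FaithfullyFlat S S') (f : S' ⊗[S] A ≃ₐ[S'] Matrix (Fin n) (Fin n) (S' ⊗[S] R)),
      ∀ (r : R) (x : S' ⊗[S] A),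
        f (((1 : S') ⊗ₜ[S] algebraMap R A r) * x) = Matrix.scalar (Fin n) ((1 : S') ⊗ₜ[S] r) * f x := by
  classical
  obtain ⟨hAz, hrank⟩ := hA
  haveI := hAz
  obtain ⟨E, _, _, _, hff, hMU⟩ := exists_cover_hasMU lam hlam hfix A n hn hrank
  obtain ⟨f₀, hf₀⟩ := exists_algEquiv_of_hasMU A n hn hrank E hMU
  have hcomm : ∀ x : E, f₀ (algebraMap E (E ⊗[S] A) x) =
      algebraMap E (Matrix (Fin n) (Fin n) (E ⊗[S] R)) x := by
    intro x
    have h1 : algebraMap E (E ⊗[S] A) x = jL A E ((1 : R) ⊗ₜ[S] x) * 1 := by
      rw [mul_one, jL_tmul, map_one, Algebra.TensorProduct.algebraMap_apply]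
      rfl
    rw [h1, hf₀, map_one, mul_one, Algebra.TensorProduct.comm_tmul]
    ext a b
    simp [Matrix.algebraMap_matrix_apply, Matrix.scalar_apply, Matrix.diagonal_apply,
      Algebra.TensorProduct.algebraMap_apply]
  refine ⟨E, inferInstance, inferInstance, inferInstance, hff,
    AlgEquiv.ofRingEquiv (f := f₀.toRingEquiv) hcomm, ?_⟩
  intro r x
  show f₀ (((1 : E) ⊗ₜ[S] algebraMap R A r) * x) =
    Matrix.scalar (Fin n) ((1 : E) ⊗ₜ[S] r) * f₀ x
  have h1 : ((1 : E) ⊗ₜ[S] algebraMap R A r) = jL A E (r ⊗ₜ[S] (1 : E)) :=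
    (jL_tmul A E r 1).symm
  rw [h1, hf₀, Algebra.TensorProduct.comm_tmul]

end Groth.Agent.S17356
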