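import Groth.Statements.S17358
import Mathlib
import Groth.Agent.S15588
import Groth.Agent.Lib.Helper52.OrdFinal
import Groth.Agent.Lib.Helper52.InvQuad
import Groth.Agent.Lib.Helper52.InvQuad2

set_option autoImplicit false
set_option linter.style.haveILetI false
universe u v w
open scoped TensorProduct
open AzInv

namespace Groth.Agent.S17358

/-- Let `R` be a commutative ring with an involution `lam` whose fixed ring is exactly `S`; assume that
units have square roots locally for the etale topology of `S` (every unit of an etale `S`-algebra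
becomes a square in some etale faithfully flat extension), and that either `2` is a unit in `S` and
the quotient `Spec R → Spec S` is everywhere ramified (for no prime `p` of `S` is `S_p ⊗_S R` a
quadratic etale `S_p`-algebra; the case `R = S` is included), or `R` is a quadratic etale
`S`-algebra (the unramified case). Then every `lam`-involution `t` of an Azumaya `R`-algebra `A` of
degree `n ≥ 1` is ordinary: there are a global invertible `n × n` matrix `w` over `R` and an element
`e` of `R` with `lam`-transpose of `w` equal to `e • w` and `lam e * e = 1`, such that `(A, t)`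
becomes isomorphic, after an etale faithfully flat base change of `S`, to the matrix algebra over
`R` with the involution `x ↦ w * (lam-transpose of x) * w⁻¹` (equivalently `x ↦ (a x a⁻¹)` followed
by the `lam`-transpose, for the global matrix `a` whose `lam`-transpose is `w⁻¹`). (The source
states this for an exact quotient of a locally ringed topos with involution; the row is the affine
case `Spec R → Spec S`, with etale coverings of `Spec S` replaced by a single etale faithfully flat
`S`-algebra.) -/
theorem result (S : Type u) (R : Type v) [CommRing S] [CommRing R] [Algebra S R]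
    (lam : R ≃ₐ[S] R) (hlam : ∀ r, lam (lam r) = r) (hfix : RInv.IsFixedRing S R lam.toRingEquiv)
    (hsq : ∀ (S₁ : Type u) [CommRing S₁] [Algebra S S₁] [Algebra.Etale S S₁] (x : S₁ˣ),
      ∃ (S₂ : Type u) (_ : CommRing S₂) (_ : Algebra S₁ S₂) (_ : Algebra.Etale S₁ S₂)
        (_ : Module.FaithfullyFlat S₁ S₂) (y : S₂), y * y = algebraMap S₁ S₂ ↑x)
    (hram : (IsUnit (2 : S) ∧ ∀ p : PrimeSpectrum S,
        ¬ RInv.IsQuadEtale (Localization.AtPrime p.asIdeal) (Localization.AtPrime p.asIdeal ⊗[S] R)) ∨
      RInv.IsQuadEtale S R)
    (A : Type w) [Ring A] [Algebra S A] [Algebra R A] [IsScalarTower S R A]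
    (n : ℕ) (hn : 0 < n) (hA : AzInv.IsAzumayaDeg R A n) (t : AzInv.LamInv R A lam) :
    ∃ (w : (Matrix (Fin n) (Fin n) R)ˣ) (e : R)
      (hw : AzInv.LamInv.transpose lam (Fin n) hlam (↑w : Matrix (Fin n) (Fin n) R) = e • (↑w : Matrix (Fin n) (Fin n) R))
      (he : lam e * e = 1),
      AzInv.LocIsoEt S lam t ((AzInv.LamInv.transpose lam (Fin n) hlam).conj w e hw he) := by
  classical
  obtain ⟨hAz, hrank⟩ := hA
  haveI := hAz
  rcases hram with ⟨h2, hall⟩ | hq
  · -- everywhere ramified, `2` invertible
    have hnilR : ∀ r : R, IsNilpotent (lam r - r) := by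
      intro r
      have h1 := Groth.Agent.S15588.result S R lam.toRingEquiv (fun x => hlam x) hfix Set.univ
        (by
          ext p
          simp only [Set.mem_univ, Set.mem_ofPred_eq, true_iff]
          exact hall p) r
      rw [PrimeSpectrum.vanishingIdeal_univ] at h1
      have hJ : (nilradical S).map (algebraMap S R) ≤ nilradical R := by
        rw [Ideal.map_le_iff_le_comap]
        intro s hs
        rw [Ideal.mem_comap, mem_nilradical]
        exact (mem_nilradical.mp hs).map _
      obtain ⟨k, hk⟩ := h1
      obtain ⟨m, hm⟩ := mem_nilradical.mp (hJ hk)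
      exact ⟨k * m, by rw [pow_mul]; exact hm⟩
    exact Groth.Agent.Lib.Helper52.OrdFinal.ordinary_of_ramified lam hlam hfix hsq h2 hnilR t n hn
      hrank
  · -- quadratic etale
    have hw : AzInv.LamInv.transpose lam (Fin n) hlam
        (↑(1 : (Matrix (Fin n) (Fin n) R)ˣ) : Matrix (Fin n) (Fin n) R) =
        (1 : R) • (↑(1 : (Matrix (Fin n) (Fin n) R)ˣ) : Matrix (Fin n) (Fin n) R) := by
      rw [Units.val_one, one_smul]
      exact (AzInv.LamInv.transpose lam (Fin n) hlam).map_one
    have he : lam (1 : R) * 1 = 1 := by rw [map_one, mul_one]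
    refine ⟨1, 1, hw, he, ?_⟩
    obtain ⟨C, _, _, _, _, _, _, ⟨g⟩⟩ :=
      Groth.Agent.Lib.Helper52.InvQuad.exists_cover hq hfix.1 (A := A) n hrank
    let ψ₁ : A →ₐ[R] Matrix (Fin n) (Fin n) C :=
      (g.toAlgHom.restrictScalars R).comp Algebra.TensorProduct.includeRight
    let ψ₂ : Matrix (Fin n) (Fin n) R →ₐ[R] Matrix (Fin n) (Fin n) C :=
      (Algebra.ofId R C).mapMatrix
    have hψ₁ : Function.Bijective (Groth.Agent.Lib.Helper52.InvQuad.psiLift C ψ₁) := by
      have h : ⇑(Groth.Agent.Lib.Helper52.InvQuad.psiLift C ψ₁) = ⇑g := by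
        funext x
        induction x using TensorProduct.induction_on with
        | zero => simp
        | tmul c X =>
          rw [Groth.Agent.Lib.Helper52.InvQuad.psiLift_tmul]
          show c • g ((1 : C) ⊗ₜ[R] X) = g (c ⊗ₜ[R] X)
          rw [← map_smul, TensorProduct.smul_tmul', smul_eq_mul, mul_one]
        | add x y hx hy => rw [map_add, map_add, hx, hy]
      rw [h]
      exact AlgEquiv.bijective _
    have hψ₂ : Function.Bijective (Groth.Agent.Lib.Helper52.InvQuad.psiLift C ψ₂) := by
      have h : ⇑(Groth.Agent.Lib.Helper52.InvQuad.psiLift C ψ₂) =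
          ⇑(Groth.Agent.Lib.Helper52.AzuCharpoly.matrixBaseChange R C (Fin n)) := by
        funext x
        induction x using TensorProduct.induction_on with
        | zero => simp
        | tmul c X =>
          rw [Groth.Agent.Lib.Helper52.InvQuad.psiLift_tmul,
            Groth.Agent.Lib.Helper52.AzuCharpoly.matrixBaseChange_tmul]
          rfl
        | add x y hx hy => rw [map_add, map_add, hx, hy]
      rw [h]
      exact AlgEquiv.bijective _
    obtain ⟨f, hf₁, hf₂⟩ := Groth.Agent.Lib.Helper52.InvQuad.exists_algEquiv_of_split lam hlam hfix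
      hq C t ((AzInv.LamInv.transpose lam (Fin n) hlam).conj 1 1 hw he) ψ₁ ψ₂ hψ₁ hψ₂
    exact ⟨C, inferInstance, inferInstance, inferInstance, inferInstance, f, hf₁, hf₂⟩

end Groth.Agent.S17358
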