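import Groth.Statements.S17360
import Mathlib
import Groth.Agent.Lib.Helper52.InvFix

set_option autoImplicit false
set_option linter.style.haveILetI false
universe u
open scoped TensorProduct
open AzInv

namespace Groth.Agent.S17360

open Groth.Agent.Lib.Helper52.InvFix

section gen
variable {S : Type*} {R : Type*} [CommRing S] [CommRing R] [Algebra S R]
  {A : Type*} [Ring A] [Algebra S A] [Algebra R A] [IsScalarTower S R A]
  (lam : R ≃ₐ[S] R)

lemma linS_matrix (t : LamInv R A lam) (n : ℕ) :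
    (t.matrix (Fin n)).linS S lam = matInv (t.linS S lam) (Fin n) := by
  apply LinearMap.ext
  intro M
  ext i j
  rfl

lemma linS_invol (t : LamInv R A lam) (a : A) : t.linS S lam (t.linS S lam a) = a := t.invol a

end gen

section sympl
variable {R : Type*} [CommRing R]

lemma inv_J (J : (Matrix (Fin 2) (Fin 2) R)ˣ)
    (hJ : (↑J : Matrix (Fin 2) (Fin 2) R) = Matrix.of ![![0, -1], ![1, 0]]) :
    (↑J⁻¹ : Matrix (Fin 2) (Fin 2) R) = Matrix.of ![![0, 1], ![-1, 0]] := by
  have h : (↑J : Matrix (Fin 2) (Fin 2) R) * (↑J⁻¹ : Matrix (Fin 2) (Fin 2) R) = 1 := J.mul_inv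
  rw [hJ] at h
  have h00 := congrFun (congrFun h 0) 0
  have h01 := congrFun (congrFun h 0) 1
  have h10 := congrFun (congrFun h 1) 0
  have h11 := congrFun (congrFun h 1) 1
  simp [Matrix.mul_apply, Fin.sum_univ_two] at h00 h01 h10 h11
  ext i j
  fin_cases i <;> fin_cases j <;> simp
  · exact h10
  · exact h11
  · rw [← h00]; simp
  · exact h01

variable (hlam : ∀ r : R, (AlgEquiv.refl : R ≃ₐ[R] R) ((AlgEquiv.refl : R ≃ₐ[R] R) r) = r)
  (J : (Matrix (Fin 2) (Fin 2) R)ˣ) (hJ : (↑J : Matrix (Fin 2) (Fin 2) R) = Matrix.of ![![0, -1], ![1, 0]])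
  (hJt : AzInv.LamInv.transpose (AlgEquiv.refl : R ≃ₐ[R] R) (Fin 2) hlam (↑J : Matrix (Fin 2) (Fin 2) R) = (-1 : R) • (↑J : Matrix (Fin 2) (Fin 2) R))
  (hneg : (AlgEquiv.refl : R ≃ₐ[R] R) (-1) * (-1) = 1)

include hJ in
lemma sympl_apply (x : Matrix (Fin 2) (Fin 2) R) :
    ((LamInv.transpose (AlgEquiv.refl : R ≃ₐ[R] R) (Fin 2) hlam).conj J (-1) hJt hneg) x =
      Matrix.of ![![x 1 1, - x 0 1], ![- x 1 0, x 0 0]] := by
  have hT : (LamInv.transpose (AlgEquiv.refl : R ≃ₐ[R] R) (Fin 2) hlam) x =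
      Matrix.of ![![x 0 0, x 1 0], ![x 0 1, x 1 1]] := by
    ext i j
    fin_cases i <;> fin_cases j <;> rfl
  rw [LamInv.conj_apply, hJ, inv_J J hJ, hT]
  ext i j
  fin_cases i <;> fin_cases j <;>
    simp [Matrix.mul_apply, Fin.sum_univ_two]

include hJ in
/-- the symmetric elements of the symplectic involution of `M_2(R)` are the scalars -/
noncomputable def fixSympl (c : R) (hc : c * 2 = 1) :
    fix (((LamInv.transpose (AlgEquiv.refl : R ≃ₐ[R] R) (Fin 2) hlam).conj J (-1) hJt hneg).linS R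
      (AlgEquiv.refl : R ≃ₐ[R] R)) ≃ₗ[R] (Fin 1 → R) where
  toFun x := fun _ => x.1 0 0
  map_add' x y := rfl
  map_smul' r x := rfl
  invFun f := ⟨f 0 • (1 : Matrix (Fin 2) (Fin 2) R), mem_fix.mpr (by
    rw [LamInv.linS_apply, sympl_apply hlam J hJ hJt hneg]
    ext i j
    fin_cases i <;> fin_cases j <;> simp)⟩
  left_inv x := by
    apply Subtype.ext
    have hx := mem_fix.mp x.2
    rw [LamInv.linS_apply, sympl_apply hlam J hJ hJt hneg] at hx
    have h00 := congrFun (congrFun hx 0) 0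
    have h01 := congrFun (congrFun hx 0) 1
    have h10 := congrFun (congrFun hx 1) 0
    simp at h00 h01 h10
    have z01 : x.1 0 1 = 0 := by
      have : 2 * x.1 0 1 = 0 := by rw [two_mul]; nth_rewrite 1 [← h01]; ring
      calc x.1 0 1 = c * 2 * x.1 0 1 := by rw [hc, one_mul]
        _ = 0 := by rw [mul_assoc, this, mul_zero]
    have z10 : x.1 1 0 = 0 := by
      have : 2 * x.1 1 0 = 0 := by rw [two_mul]; nth_rewrite 1 [← h10]; ring
      calc x.1 1 0 = c * 2 * x.1 1 0 := by rw [hc, one_mul]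
        _ = 0 := by rw [mul_assoc, this, mul_zero]
    ext i j
    fin_cases i <;> fin_cases j <;> simp [z01, z10, h00]
  right_inv f := by
    ext i
    fin_cases i
    simp

/-- the symmetric elements of the identity of `R` -/
noncomputable def fixSelf :
    fix ((LamInv.self (AlgEquiv.refl : R ≃ₐ[R] R) hlam).linS R (AlgEquiv.refl : R ≃ₐ[R] R)) ≃ₗ[R]
      (Fin 1 → R) where
  toFun x := fun _ => x.1
  map_add' x y := rfl
  map_smul' r x := rfl
  invFun f := ⟨f 0, mem_fix.mpr rfl⟩
  left_inv x := rfl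
  right_inv f := by
    ext i
    fin_cases i
    rfl

end sympl

/-- Let `R` be a nontrivial commutative ring in which `2` is a unit, with the trivial involution. This
row states the second half of the count of types: the identity of `R` (the orthogonal type) and the
standard symplectic involution `x ↦ J xᵀ J⁻¹` of the `2 × 2` matrix algebra, `J` the matrix with
rows `(0, -1)` and `(1, 0)`, do not have the same type, i.e. for no positive sizes do the matrix
algebras over `R` with the transpose and over `M_2(R)` with the involution induced by the symplectic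
one become isomorphic as `R`-algebras with involution after an etale faithfully flat base change of
`R`. (The source states that the monoid of types is isomorphic to the group of global square roots
of `1`, for a locally ringed topos with trivial involution and `2` invertible; the row is the affine
case.) -/
theorem result (R : Type u) [CommRing R] (hlam : ∀ r : R, (AlgEquiv.refl : R ≃ₐ[R] R) ((AlgEquiv.refl : R ≃ₐ[R] R) r) = r)
    [Nontrivial R] (h2 : IsUnit (2 : R))
    (J : (Matrix (Fin 2) (Fin 2) R)ˣ) (hJ : (↑J : Matrix (Fin 2) (Fin 2) R) = Matrix.of ![![0, -1], ![1, 0]])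
    (hJt : AzInv.LamInv.transpose (AlgEquiv.refl : R ≃ₐ[R] R) (Fin 2) hlam (↑J : Matrix (Fin 2) (Fin 2) R) = (-1 : R) • (↑J : Matrix (Fin 2) (Fin 2) R))
    (hneg : (AlgEquiv.refl : R ≃ₐ[R] R) (-1) * (-1) = 1) :
    ¬ AzInv.SameType R (AlgEquiv.refl : R ≃ₐ[R] R) (AzInv.LamInv.self (AlgEquiv.refl : R ≃ₐ[R] R) hlam) ((AzInv.LamInv.transpose (AlgEquiv.refl : R ≃ₐ[R] R) (Fin 2) hlam).conj J (-1) hJt hneg) := by
  rintro ⟨n, n', hn, hn', R', _, _, _, hff, f, -, hf⟩
  haveI : Nontrivial R' := (FaithfulSMul.algebraMap_injective R R').nontrivial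
  obtain ⟨c, hc⟩ := h2.exists_left_inv
  set t₁ := LamInv.self (AlgEquiv.refl : R ≃ₐ[R] R) hlam with ht₁
  set t₂ := (LamInv.transpose (AlgEquiv.refl : R ≃ₐ[R] R) (Fin 2) hlam).conj J (-1) hJt hneg
    with ht₂
  -- the fixed parts correspond
  have e := fixCongr ((t₁.matrix (Fin n)).bc R (AlgEquiv.refl : R ≃ₐ[R] R) R')
    ((t₂.matrix (Fin n')).bc R (AlgEquiv.refl : R ≃ₐ[R] R) R') f.toLinearEquiv hf
  have h1 := finrank_fix_matInv (t₁.linS R (AlgEquiv.refl : R ≃ₐ[R] R))
    (linS_invol _ t₁) (Fin n) (Fin 1) (fixSelf hlam)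
  have h2' := finrank_fix_matInv (t₂.linS R (AlgEquiv.refl : R ≃ₐ[R] R))
    (linS_invol _ t₂) (Fin n') (Fin 1) (fixSympl hlam J hJ hJt hneg c hc)
  rw [← linS_matrix] at h1 h2'
  obtain ⟨hfree1, hr1⟩ := h1
  obtain ⟨hfree2, hr2⟩ := h2'
  have hb1 := finrank_fix_baseChange R' ((t₁.matrix (Fin n)).linS R (AlgEquiv.refl : R ≃ₐ[R] R))
    (linS_invol _ _) c hc
  have hb2 := finrank_fix_baseChange R' ((t₂.matrix (Fin n')).linS R (AlgEquiv.refl : R ≃ₐ[R] R))
    (linS_invol _ _) c hc
  have hE : Module.finrank R' (fix ((t₁.matrix (Fin n)).bc R (AlgEquiv.refl : R ≃ₐ[R] R) R')) =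
      Module.finrank R' (fix ((t₂.matrix (Fin n')).bc R (AlgEquiv.refl : R ≃ₐ[R] R) R')) :=
    e.finrank_eq
  have hE' : n * 1 + Fintype.card {p : Fin n × Fin n // p.1 < p.2} * 1 =
      n' * 1 + Fintype.card {p : Fin n' × Fin n' // p.1 < p.2} * 4 := by
    have := hE
    unfold LamInv.bc at this
    rw [hb1, hb2, hr1, hr2] at this
    simpa [Module.finrank_matrix] using this
  -- total ranks
  have hT : n * n = n' * n' * 4 := by
    have := f.toLinearEquiv.finrank_eq
    rw [Module.finrank_baseChange, Module.finrank_baseChange, Module.finrank_matrix,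
      Module.finrank_matrix, Module.finrank_matrix] at this
    simpa using this
  have hc1 := card_lt_pairs (Fin n)
  have hc2 := card_lt_pairs (Fin n')
  simp only [Fintype.card_fin] at hc1 hc2
  have hnn : n = 2 * n' := by
    have : n * n = (2 * n') * (2 * n') := by rw [hT]; ring
    exact Nat.mul_self_inj.mp this
  subst hnn
  nlinarith

end Groth.Agent.S17360
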