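import Groth.Statements.S17359
import Mathlib
import Groth.Agent.Lib.Helper52.InvGlue
import Groth.Agent.Lib.Helper52.InvSplitExists
import Groth.Agent.S17360

set_option autoImplicit false
set_option linter.style.haveILetI false
universe u w
open scoped TensorProduct
open AzInv

namespace Groth.Agent.S17359

open Groth.Agent.Lib.Helper52.InvFix Groth.Agent.Lib.Helper52.InvIso
  Groth.Agent.Lib.Helper52.InvHyper Groth.Agent.Lib.Helper52.InvStd
  Groth.Agent.Lib.Helper52.InvSign Groth.Agent.Lib.Helper52.InvSplitExists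
  Groth.Agent.Lib.Helper52.InvGlue

section gen

variable {R : Type u} [CommRing R]

lemma one_tmul_algebraMap {R' : Type*} [CommRing R'] [Algebra R R'] {E : Type*} [Ring E]
    [Algebra R E] (r : R) :
    ((1 : R') ⊗ₜ[R] algebraMap R E r : R' ⊗[R] E) =
      algebraMap R' (R' ⊗[R] E) (algebraMap R R' r) := by
  calc ((1 : R') ⊗ₜ[R] algebraMap R E r : R' ⊗[R] E)
      = (1 : R') ⊗ₜ[R] (r • (1 : E)) := by rw [Algebra.algebraMap_eq_smul_one]
    _ = (r • (1 : R')) ⊗ₜ[R] (1 : E) := (TensorProduct.smul_tmul r 1 1).symm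
    _ = (algebraMap R R' r) ⊗ₜ[R] (1 : E) := by rw [← Algebra.algebraMap_eq_smul_one]
    _ = algebraMap R' (R' ⊗[R] E) (algebraMap R R' r) := by
        rw [Algebra.TensorProduct.algebraMap_apply]
        rfl

/-- an `InvIso` between the base changes gives `LocIsoEt` (trivial involution on the base) -/
lemma locIsoEt_of_invIso {E : Type*} [Ring E] [Algebra R E] {E' : Type*} [Ring E'] [Algebra R E']
    (T : LamInv R E (AlgEquiv.refl : R ≃ₐ[R] R)) (T' : LamInv R E' (AlgEquiv.refl : R ≃ₐ[R] R))
    (h : ∃ (R' : Type u) (_ : CommRing R') (_ : Algebra R R') (_ : Algebra.Etale R R')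
      (_ : Module.FaithfullyFlat R R'),
      InvIso R' ((T.linS R (AlgEquiv.refl : R ≃ₐ[R] R)).baseChange R')
        ((T'.linS R (AlgEquiv.refl : R ≃ₐ[R] R)).baseChange R')) :
    LocIsoEt R (AlgEquiv.refl : R ≃ₐ[R] R) T T' := by
  obtain ⟨R', _, _, _, hff, f, hf⟩ := h
  refine ⟨R', inferInstance, inferInstance, inferInstance, hff, f, ?_, hf⟩
  intro r x
  rw [one_tmul_algebraMap, one_tmul_algebraMap, map_mul, AlgEquiv.commutes]

lemma linS_matrix' {A : Type*} [Ring A] [Algebra R A] (t : LamInv R A (AlgEquiv.refl : R ≃ₐ[R] R))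
    (m : ℕ) : (t.matrix (Fin m)).linS R (AlgEquiv.refl : R ≃ₐ[R] R) =
      matInv (t.linS R (AlgEquiv.refl : R ≃ₐ[R] R)) (Fin m) := by
  apply LinearMap.ext
  intro M
  ext i j
  rfl

end gen

/-- Let `R` be a nontrivial commutative ring with connected spectrum in which `2` is a unit, with the
trivial involution (so that the involutions considered are of the first kind and the quotient is the
trivial one). Then there are exactly two types, the orthogonal and the symplectic one; this row
states the first half: every involution of the first kind `t` of an Azumaya `R`-algebra `A` of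
degree `n ≥ 1` has the same type either as the identity of `R` or as the standard symplectic
involution `x ↦ J xᵀ J⁻¹` of the `2 × 2` matrix algebra, `J` the matrix with rows `(0, -1)` and `(1,
0)` (same type: suitable matrix algebras over the two, with the induced involutions, become
isomorphic as `R`-algebras with involution after an etale faithfully flat base change of `R`). (The
source states that the monoid of types is isomorphic to the group of global square roots of `1`, for
a locally ringed topos with trivial involution and `2` invertible; the row is the affine case with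
connected spectrum, where that group is `{1, -1}`.) -/
theorem result (R : Type u) [CommRing R] (hlam : ∀ r : R, (AlgEquiv.refl : R ≃ₐ[R] R) ((AlgEquiv.refl : R ≃ₐ[R] R) r) = r)
    [Nontrivial R] [ConnectedSpace (PrimeSpectrum R)] (h2 : IsUnit (2 : R))
    (J : (Matrix (Fin 2) (Fin 2) R)ˣ) (hJ : (↑J : Matrix (Fin 2) (Fin 2) R) = Matrix.of ![![0, -1], ![1, 0]])
    (hJt : AzInv.LamInv.transpose (AlgEquiv.refl : R ≃ₐ[R] R) (Fin 2) hlam (↑J : Matrix (Fin 2) (Fin 2) R) = (-1 : R) • (↑J : Matrix (Fin 2) (Fin 2) R))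
    (hneg : (AlgEquiv.refl : R ≃ₐ[R] R) (-1) * (-1) = 1)
    (A : Type w) [Ring A] [Algebra R A]
    (n : ℕ) (hn : 0 < n) (hA : AzInv.IsAzumayaDeg R A n) (t : AzInv.LamInv R A (AlgEquiv.refl : R ≃ₐ[R] R)) :
    AzInv.SameType R (AlgEquiv.refl : R ≃ₐ[R] R) t (AzInv.LamInv.self (AlgEquiv.refl : R ≃ₐ[R] R) hlam) ∨
      AzInv.SameType R (AlgEquiv.refl : R ≃ₐ[R] R) t ((AzInv.LamInv.transpose (AlgEquiv.refl : R ≃ₐ[R] R) (Fin 2) hlam).conj J (-1) hJt hneg) := by
  classical
  obtain ⟨hAz, hrank⟩ := hA
  haveI := hAz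
  obtain ⟨c₂, hc₂⟩ := h2.exists_left_inv
  set σ := t.linS R (AlgEquiv.refl : R ≃ₐ[R] R) with hσdef
  have hmul : ∀ a b, σ (a * b) = σ b * σ a := fun a b => t.map_mul a b
  have hσ : ∀ a, σ (σ a) = a := fun a => t.invol a
  haveI := fix_finite σ hσ c₂ hc₂
  haveI := fix_projective σ hσ c₂ hc₂
  haveI : Module.FinitePresentation R (fix σ) := Module.finitePresentation_of_projective R _
  -- the rank of the symmetric elements is constant
  obtain ⟨p₀⟩ := (inferInstance : Nonempty (PrimeSpectrum R))
  obtain ⟨r, hr0⟩ : ∃ r, r = Module.rankAtStalk (R := R) (fix σ) p₀ := ⟨_, rfl⟩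
  have hr : ∀ p : PrimeSpectrum R, Module.rankAtStalk (R := R) (fix σ) p = r := by
    intro p
    rw [hr0]
    exact (Module.isLocallyConstant_rankAtStalk (R := R) (M := fix σ)).apply_eq_of_preconnectedSpace
      p p₀
  -- local data
  have hloc : ∀ p : PrimeSpectrum R, ∃ (C : Type u) (_ : CommRing C) (_ : Algebra R C)
      (_ : Algebra.Etale R C) (φ : C ⊗[R] A ≃ₐ[C] Matrix (Fin n) (Fin n) C)
      (u : (Matrix (Fin n) (Fin n) C)ˣ) (i : C),
      IsSplit σ C n φ u ∧ i * i = -1 ∧
        p ∈ Set.range (PrimeSpectrum.comap (algebraMap R C)) := by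
    intro p
    obtain ⟨C, _, _, _, φ, u, i, hs, hi, 𝔓, h𝔓, h𝔓p⟩ :=
      exists_split R A n hn hrank σ hmul hσ c₂ hc₂ p.asIdeal
    exact ⟨C, inferInstance, inferInstance, inferInstance, φ, u, i, hs, hi,
      ⟨⟨𝔓, h𝔓⟩, PrimeSpectrum.ext h𝔓p⟩⟩
  by_cases hrn : r = n + Fintype.card {p : Fin n × Fin n // p.1 < p.2}
  · left
    refine ⟨2, 2 * n, by norm_num, by omega, ?_⟩
    apply locIsoEt_of_invIso
    rw [linS_matrix', linS_matrix']
    have hself : (LamInv.self (AlgEquiv.refl : R ≃ₐ[R] R) hlam).linS R (AlgEquiv.refl : R ≃ₐ[R] R) =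
        (LinearMap.id : R →ₗ[R] R) := by
      apply LinearMap.ext
      intro x
      rfl
    rw [hself]
    apply invIso_glue
    intro p
    obtain ⟨C, _, _, _, φ, u, i, hs, hi, hp⟩ := hloc p
    have hu := (hs.sign σ hσ c₂ hc₂ r hr hn).1 hrn
    have hh : algebraMap R C c₂ * 2 = 1 := by
      have := congrArg (algebraMap R C) hc₂
      rwa [map_mul, map_ofNat, map_one] at this
    exact ⟨C, inferInstance, inferInstance, inferInstance,
      typeE_pos σ n φ u hs i (algebraMap R C c₂) hi hh hu, hp⟩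
  · right
    refine ⟨2, n, by norm_num, hn, ?_⟩
    apply locIsoEt_of_invIso
    rw [linS_matrix', linS_matrix']
    have hsympl : ((LamInv.transpose (AlgEquiv.refl : R ≃ₐ[R] R) (Fin 2) hlam).conj J (-1) hJt
        hneg).linS R (AlgEquiv.refl : R ≃ₐ[R] R) = adjLin R := by
      apply LinearMap.ext
      intro x
      rw [LamInv.linS_apply, Groth.Agent.S17360.sympl_apply hlam J hJ hJt hneg]
      rfl
    rw [hsympl]
    apply invIso_glue
    intro p
    obtain ⟨C, _, _, _, φ, u, i, hs, hi, hp⟩ := hloc p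
    have hu := (hs.sign σ hσ c₂ hc₂ r hr hn).2 hrn
    have hh : algebraMap R C c₂ * 2 = 1 := by
      have := congrArg (algebraMap R C) hc₂
      rwa [map_mul, map_ofNat, map_one] at this
    exact ⟨C, inferInstance, inferInstance, inferInstance,
      typeE_neg σ n φ u hs i (algebraMap R C c₂) hi hh hu, hp⟩

end Groth.Agent.S17359
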