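import Groth.Statements.S17363
import Mathlib


set_option autoImplicit false
universe u v
open scoped TensorProduct
open RInv

set_option linter.style.haveILetI false
set_option linter.unusedVariables false

namespace Groth.Agent.S17363

section Generic

variable {T : Type*} [CommRing T]

/-- generic matrix identity: columns `x = (1, x₂)`, `y = (c, γ + c x₂)` -/
lemma lemmaA (a b bb d x₂ sx₂ γ sγ c sc : T)
    (P1 : a + b * x₂ - sx₂ * bb + sx₂ * d * x₂ = 0)
    (P2 : (b + sx₂ * d) * γ = 1)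
    (P2' : (-bb + d * x₂) * sγ = -1)
    (P3 : sγ * d * γ + sc - c = 0) :
    !![1, sx₂; sc, sγ + sc * sx₂] * !![a, b; -bb, d] * !![1, c; x₂, γ + c * x₂] =
      !![(0 : T), 1; -1, 0] := by
  ext i j
  fin_cases i <;> fin_cases j
  · simp [Matrix.mul_apply, Fin.sum_univ_two]
    linear_combination P1
  · simp [Matrix.mul_apply, Fin.sum_univ_two]
    linear_combination c * P1 + P2
  · simp [Matrix.mul_apply, Fin.sum_univ_two]
    linear_combination sc * P1 + P2'
  · simp [Matrix.mul_apply, Fin.sum_univ_two]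
    linear_combination (sc * c) * P1 + sc * P2 + c * P2' + P3

/-- the explicit solution -/
lemma lemmaB (a b bb d β βb X ι ξ η : T)
    (e1 : X ^ 2 = 1 + βb * β * d * a) (e2 : ι * (1 + X) = 1) (e3 : ξ * X = 1) (e4 : 2 * η = 1)
    (e5 : b * β = 1) (e6 : bb * βb = 1) :
    (a + b * (-β * a * ι) - (βb * a * ι) * bb + (βb * a * ι) * d * (-β * a * ι) = 0) ∧
    ((b + (βb * a * ι) * d) * (β * ξ) = 1) ∧
    ((-bb + d * (-β * a * ι)) * (βb * ξ) = -1) ∧
    ((βb * ξ) * d * (β * ξ) + (-(β * βb * d * ξ ^ 2 * η)) - (β * βb * d * ξ ^ 2 * η) = 0) := by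
  refine ⟨?_, ?_, ?_, ?_⟩
  · linear_combination (a * ι ^ 2) * e1 + (a * (ι * (1 - X) - 1)) * e2 - (a * ι) * e5 - (a * ι) * e6
  · linear_combination ξ * e5 + (-ξ * ι) * e1 + (ξ * (X - 1)) * e2 + e3
  · linear_combination (-ξ) * e6 + (ξ * ι) * e1 - (ξ * (X - 1)) * e2 - e3
  · linear_combination (-(β * βb * d * ξ ^ 2)) * e4

end Generic

section Chart

variable {B : Type u} {A : Type v} [CommRing B] [CommRing A] [Algebra B A]
  (lam : A ≃ₐ[B] A) (hlam : ∀ a, lam (lam a) = a)
  (L : Type*) [CommRing L] [Algebra B L]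

include hlam in
lemma chart (h : Matrix (Fin 2) (Fin 2) A) (herm : -(h.map lam).transpose = h)
    (β : A) (hβ : h 0 1 * β = 1) (s : B)
    (hs : algebraMap B A s = 1 + lam β * β * h 1 1 * h 0 0)
    (half : A) (hhalf : 2 * half = 1)
    (X ι ξ : L) (hX : X ^ 2 = algebraMap B L s) (hι : ι * (1 + X) = 1) (hξ : ξ * X = 1) :
    ∃ v : Matrix (Fin 2) (Fin 2) (L ⊗[B] A), IsUnit v ∧
      (v.map (Algebra.TensorProduct.congr (AlgEquiv.refl : L ≃ₐ[L] L) lam)).transpose *
        h.map (Algebra.TensorProduct.includeRight : A →ₐ[B] L ⊗[B] A) * v =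
      (Matrix.of ![![(0 : A), 1], ![-1, 0]]).map
        (Algebra.TensorProduct.includeRight : A →ₐ[B] L ⊗[B] A) := by
  obtain ⟨σ, hσdef⟩ : ∃ σ : L ⊗[B] A ≃ₐ[L] L ⊗[B] A,
      σ = Algebra.TensorProduct.congr (AlgEquiv.refl : L ≃ₐ[L] L) lam := ⟨_, rfl⟩
  have hσ : ∀ (l : L) (x : A), σ (l ⊗ₜ[B] x) = l ⊗ₜ[B] lam x := by
    intro l x
    rw [hσdef, Algebra.TensorProduct.congr_apply, Algebra.TensorProduct.map_tmul]
    rfl
  -- entries of `h`
  have h00 : lam (h 0 0) = -h 0 0 := by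
    have := congrFun (congrFun herm 0) 0
    simp only [Matrix.neg_apply, Matrix.transpose_apply, Matrix.map_apply] at this
    linear_combination (-1 : A) * this
  have h11 : lam (h 1 1) = -h 1 1 := by
    have := congrFun (congrFun herm 1) 1
    simp only [Matrix.neg_apply, Matrix.transpose_apply, Matrix.map_apply] at this
    linear_combination (-1 : A) * this
  have h10 : h 1 0 = -lam (h 0 1) := by
    have := congrFun (congrFun herm 1) 0
    simp only [Matrix.neg_apply, Matrix.transpose_apply, Matrix.map_apply] at this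
    exact this.symm
  have hhalf' : lam half = half := by
    have h1 : 2 * lam half = 1 := by
      have := congrArg lam hhalf
      rwa [map_mul, map_ofNat, map_one] at this
    calc lam half = lam half * (2 * half) := by rw [hhalf, mul_one]
      _ = (2 * lam half) * half := by ring
      _ = half := by rw [h1, one_mul]
  have hβb : lam (h 0 1) * lam β = 1 := by rw [← map_mul, hβ, map_one]
  -- elements of `T`
  obtain ⟨a', ha'⟩ : ∃ a' : L ⊗[B] A, a' = (1 : L) ⊗ₜ[B] h 0 0 := ⟨_, rfl⟩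
  obtain ⟨b', hb'⟩ : ∃ b' : L ⊗[B] A, b' = (1 : L) ⊗ₜ[B] h 0 1 := ⟨_, rfl⟩
  obtain ⟨bb', hbb'⟩ : ∃ bb' : L ⊗[B] A, bb' = (1 : L) ⊗ₜ[B] lam (h 0 1) := ⟨_, rfl⟩
  obtain ⟨d', hd'⟩ : ∃ d' : L ⊗[B] A, d' = (1 : L) ⊗ₜ[B] h 1 1 := ⟨_, rfl⟩
  obtain ⟨β', hβ'⟩ : ∃ β' : L ⊗[B] A, β' = (1 : L) ⊗ₜ[B] β := ⟨_, rfl⟩
  obtain ⟨βb', hβb'⟩ : ∃ βb' : L ⊗[B] A, βb' = (1 : L) ⊗ₜ[B] lam β := ⟨_, rfl⟩
  obtain ⟨X', hX'⟩ : ∃ X' : L ⊗[B] A, X' = X ⊗ₜ[B] (1 : A) := ⟨_, rfl⟩
  obtain ⟨ι', hι'⟩ : ∃ ι' : L ⊗[B] A, ι' = ι ⊗ₜ[B] (1 : A) := ⟨_, rfl⟩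
  obtain ⟨ξ', hξ'⟩ : ∃ ξ' : L ⊗[B] A, ξ' = ξ ⊗ₜ[B] (1 : A) := ⟨_, rfl⟩
  obtain ⟨η', hη'⟩ : ∃ η' : L ⊗[B] A, η' = (1 : L) ⊗ₜ[B] half := ⟨_, rfl⟩
  have one_def : (1 : L ⊗[B] A) = (1 : L) ⊗ₜ[B] (1 : A) := Algebra.TensorProduct.one_def
  -- relations
  have e1 : X' ^ 2 = 1 + βb' * β' * d' * a' := by
    rw [hX', hβb', hβ', hd', ha', Algebra.TensorProduct.tmul_pow, one_pow, hX,
      Algebra.TensorProduct.tmul_mul_tmul, Algebra.TensorProduct.tmul_mul_tmul,
      Algebra.TensorProduct.tmul_mul_tmul, one_def]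
    simp only [mul_one]
    rw [← TensorProduct.tmul_add, ← hs, Algebra.algebraMap_eq_smul_one,
      Algebra.algebraMap_eq_smul_one, TensorProduct.smul_tmul]
  have e2 : ι' * (1 + X') = 1 := by
    rw [hι', hX', one_def, ← TensorProduct.add_tmul, Algebra.TensorProduct.tmul_mul_tmul, hι,
      mul_one]
  have e3 : ξ' * X' = 1 := by
    rw [hξ', hX', Algebra.TensorProduct.tmul_mul_tmul, hξ, mul_one, one_def]
  have e4 : 2 * η' = 1 := by
    have : (2 : L ⊗[B] A) = (1 : L) ⊗ₜ[B] (2 : A) := by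
      rw [show (2 : A) = 1 + 1 by norm_num, TensorProduct.tmul_add, ← one_def]
      norm_num
    rw [this, hη', Algebra.TensorProduct.tmul_mul_tmul, hhalf, mul_one, one_def]
  have e5 : b' * β' = 1 := by
    rw [hb', hβ', Algebra.TensorProduct.tmul_mul_tmul, hβ, mul_one, one_def]
  have e6 : bb' * βb' = 1 := by
    rw [hbb', hβb', Algebra.TensorProduct.tmul_mul_tmul, hβb, mul_one, one_def]
  -- action of `σ`
  have sa : σ a' = -a' := by rw [ha', hσ, h00, TensorProduct.tmul_neg]
  have sd : σ d' = -d' := by rw [hd', hσ, h11, TensorProduct.tmul_neg]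
  have sβ : σ β' = βb' := by rw [hβ', hσ, hβb']
  have sβb : σ βb' = β' := by rw [hβb', hσ, hlam, hβ']
  have sX : σ X' = X' := by rw [hX', hσ, map_one]
  have sι : σ ι' = ι' := by rw [hι', hσ, map_one]
  have sξ : σ ξ' = ξ' := by rw [hξ', hσ, map_one]
  have sη : σ η' = η' := by rw [hη', hσ, hhalf']
  obtain ⟨P1, P2, P2', P3⟩ := lemmaB a' b' bb' d' β' βb' X' ι' ξ' η' e1 e2 e3 e4 e5 e6
  have key := lemmaA a' b' bb' d' (-β' * a' * ι') (βb' * a' * ι') (β' * ξ') (βb' * ξ')
    (β' * βb' * d' * ξ' ^ 2 * η') (-(β' * βb' * d' * ξ' ^ 2 * η')) P1 P2 P2' P3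
  have hhmap : h.map (Algebra.TensorProduct.includeRight : A →ₐ[B] L ⊗[B] A) =
      !![a', b'; -bb', d'] := by
    ext i j
    fin_cases i <;> fin_cases j
    · simp [ha']
    · simp [hb']
    · simp [hbb', h10, TensorProduct.tmul_neg]
    · simp [hd']
  have hJmap : (Matrix.of ![![(0 : A), 1], ![-1, 0]]).map
      (Algebra.TensorProduct.includeRight : A →ₐ[B] L ⊗[B] A) = !![(0 : L ⊗[B] A), 1; -1, 0] := by
    ext i j
    fin_cases i <;> fin_cases j <;> simp [TensorProduct.tmul_neg, ← one_def]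
  obtain ⟨v, hv⟩ : ∃ v : Matrix (Fin 2) (Fin 2) (L ⊗[B] A),
      v = !![1, β' * βb' * d' * ξ' ^ 2 * η'; -β' * a' * ι',
        β' * ξ' + (β' * βb' * d' * ξ' ^ 2 * η') * (-β' * a' * ι')] := ⟨_, rfl⟩
  have hvmap : (v.map σ).transpose = !![1, βb' * a' * ι';
      -(β' * βb' * d' * ξ' ^ 2 * η'), βb' * ξ' + (-(β' * βb' * d' * ξ' ^ 2 * η')) * (βb' * a' * ι')] := by
    rw [hv]
    ext i j
    fin_cases i <;> fin_cases j
    · simp
    · simp [map_mul, map_neg, sa, sβ, sι]
    · simp [map_mul, map_pow, sd, sβ, sβb, sξ, sη]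
      ring
    · simp [map_mul, map_neg, map_pow, map_add, sa, sd, sβ, sβb, sξ, sη, sι]
      ring
  have hfinal : (v.map σ).transpose *
      h.map (Algebra.TensorProduct.includeRight : A →ₐ[B] L ⊗[B] A) * v =
      !![(0 : L ⊗[B] A), 1; -1, 0] := by
    rw [hvmap, hhmap, hv]
    exact key
  refine ⟨v, ?_, ?_⟩
  · have hJJ : !![(0 : L ⊗[B] A), -1; 1, 0] * !![(0 : L ⊗[B] A), 1; -1, 0] = 1 := by
      ext i j
      fin_cases i <;> fin_cases j <;> simp [Matrix.mul_apply, Fin.sum_univ_two]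
    have : (!![(0 : L ⊗[B] A), -1; 1, 0] * ((v.map σ).transpose *
        h.map (Algebra.TensorProduct.includeRight : A →ₐ[B] L ⊗[B] A))) * v = 1 := by
      rw [Matrix.mul_assoc, hfinal, hJJ]
    exact (Matrix.isUnit_iff_isUnit_det v).mpr (Matrix.isUnit_det_of_left_inverse this)
  · rw [hJmap, ← hfinal, hσdef]

end Chart

section Cover

variable {B : Type u} [CommRing B] (I : Ideal (MvPolynomial (Fin 2) B))

lemma cover (halfB : B) (hhalfB : 2 * halfB = 1) :
    Ideal.span (Set.range ![Ideal.Quotient.mk I (1 + MvPolynomial.X 0),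
      Ideal.Quotient.mk I (1 - MvPolynomial.X 0)]) = ⊤ := by
  rw [Ideal.eq_top_iff_one]
  have h1 : Ideal.Quotient.mk I (MvPolynomial.C halfB) * Ideal.Quotient.mk I (1 + MvPolynomial.X 0) +
      Ideal.Quotient.mk I (MvPolynomial.C halfB) * Ideal.Quotient.mk I (1 - MvPolynomial.X 0) = 1 := by
    rw [← map_mul, ← map_mul, ← map_add]
    have : MvPolynomial.C halfB * (1 + MvPolynomial.X 0) +
        MvPolynomial.C halfB * (1 - MvPolynomial.X 0) = (1 : MvPolynomial (Fin 2) B) := by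
      have h2' : (MvPolynomial.C (2 * halfB) : MvPolynomial (Fin 2) B) = 1 := by
        rw [hhalfB, map_one]
      rw [map_mul] at h2'
      have h3 : (MvPolynomial.C (2 : B) : MvPolynomial (Fin 2) B) = 2 := map_ofNat _ 2
      rw [h3] at h2'
      linear_combination h2'
    rw [this, map_one]
  rw [← h1]
  exact Ideal.add_mem _ (Ideal.mul_mem_left _ _ (Ideal.subset_span ⟨0, rfl⟩))
    (Ideal.mul_mem_left _ _ (Ideal.subset_span ⟨1, rfl⟩))

lemma chartX' {R' : Type*} [CommRing R'] [Algebra B R'] (X₀ : R') (s : B)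
    (hsq : X₀ ^ 2 = algebraMap B R' s) (g : R') (hg : g = 1 + X₀ ∨ g = 1 - X₀) :
    ∃ X : Localization.Away g, X ^ 2 = algebraMap B _ s ∧ 1 + X = algebraMap R' _ g := by
  rcases hg with rfl | rfl
  · refine ⟨algebraMap _ _ X₀, ?_, ?_⟩
    · rw [← map_pow, hsq, ← IsScalarTower.algebraMap_apply]
    · rw [map_add, map_one]
  · refine ⟨-algebraMap _ _ X₀, ?_, ?_⟩
    · rw [neg_sq, ← map_pow, hsq, ← IsScalarTower.algebraMap_apply]
    · rw [map_sub, map_one]
      ring

lemma chartX (s : B) (hsI : MvPolynomial.X 0 ^ 2 - MvPolynomial.C s ∈ I) (i : Fin 2) :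
    ∃ X : Localization.Away (![Ideal.Quotient.mk I (1 + MvPolynomial.X 0),
        Ideal.Quotient.mk I (1 - MvPolynomial.X 0)] i),
      X ^ 2 = algebraMap B _ s ∧
      1 + X = algebraMap _ _ (![Ideal.Quotient.mk I (1 + MvPolynomial.X 0),
        Ideal.Quotient.mk I (1 - MvPolynomial.X 0)] i) := by
  have hsq : Ideal.Quotient.mk I (MvPolynomial.X 0) ^ 2 =
      algebraMap B (MvPolynomial (Fin 2) B ⧸ I) s := by
    rw [← map_pow]
    show _ = Ideal.Quotient.mk I (MvPolynomial.C s)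
    rw [Ideal.Quotient.eq]
    exact hsI
  apply chartX' (Ideal.Quotient.mk I (MvPolynomial.X 0)) s hsq
  fin_cases i
  · left
    simp only [Fin.zero_eta, Matrix.cons_val_zero, map_add, map_one]
  · right
    simp only [Fin.mk_one, Matrix.cons_val_one, Matrix.cons_val_zero, map_sub, map_one]

end Cover

section Chart3

variable {B : Type u} {A : Type v} [CommRing B] [CommRing A] [Algebra B A]
  (lam : A ≃ₐ[B] A) (hlam : ∀ a, lam (lam a) = a)

include hlam in
lemma chart3 {R' : Type*} [CommRing R'] [Algebra B R'] (X₀ : R') (s : Bˣ)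
    (hsq : X₀ ^ 2 = algebraMap B R' (s : B)) (g : R') (hg : g = 1 + X₀ ∨ g = 1 - X₀)
    (h : Matrix (Fin 2) (Fin 2) A) (herm : -(h.map lam).transpose = h)
    (β : A) (hβ : h 0 1 * β = 1)
    (hs : algebraMap B A (s : B) = 1 + lam β * β * h 1 1 * h 0 0)
    (half : A) (hhalf : 2 * half = 1) :
    ∃ v : Matrix (Fin 2) (Fin 2) (Localization.Away g ⊗[B] A), IsUnit v ∧
      (v.map (Algebra.TensorProduct.congr
        (AlgEquiv.refl : Localization.Away g ≃ₐ[Localization.Away g] Localization.Away g)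
          lam)).transpose *
        h.map (Algebra.TensorProduct.includeRight : A →ₐ[B] Localization.Away g ⊗[B] A) * v =
      (Matrix.of ![![(0 : A), 1], ![-1, 0]]).map
        (Algebra.TensorProduct.includeRight : A →ₐ[B] Localization.Away g ⊗[B] A) := by
  obtain ⟨X, hX, h1X⟩ := chartX' X₀ (s : B) hsq g hg
  have hι : IsLocalization.Away.invSelf (S := Localization.Away g) g * (1 + X) = 1 := by
    rw [h1X, mul_comm]
    exact IsLocalization.Away.mul_invSelf _
  have hξ : (X * algebraMap B (Localization.Away g) ((s⁻¹ : Bˣ) : B)) * X = 1 := by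
    calc (X * algebraMap B (Localization.Away g) ((s⁻¹ : Bˣ) : B)) * X
        = X ^ 2 * algebraMap B (Localization.Away g) ((s⁻¹ : Bˣ) : B) := by ring
      _ = 1 := by rw [hX, ← map_mul, Units.mul_inv, map_one]
  exact chart lam hlam (Localization.Away g) h herm β hβ (s : B) hs half hhalf X _ _ hX hι hξ

end Chart3


/-- Let `A` be a commutative ring with an involution `lam` whose fixed ring `B` is local; assume that
`lam` is the identity modulo the Jacobson radical of `A`, that `2` is a unit of `A`, and that `h` is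
an invertible `2 × 2` matrix over `A` with `h = -(lam h)ᵀ` whose entries are congruent modulo the
Jacobson radical to those of the matrix with rows `(0, 1)`, `(-1, 0)`. Then there are units `s, t`
of `B`, finitely many elements `f_i` of `B' = B[X, Y]/(X² - s, Y² - t)` (`B` with square roots of
`s` and `t` adjoined) that generate the unit ideal, and for every `i` an invertible `2 × 2` matrix
`v` over `B'_{f_i} ⊗_B A` (that is, `A` with the two square roots adjoined, localised at `f_i`;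
`lam` extends so as to fix the square roots) such that `(lam v)ᵀ h v` is the matrix with rows `(0,
1)`, `(-1, 0)`. (The published statement writes the congruence with the plain transpose `vᵀ h v`,
which fails in general: for a field `k` of characteristic not `2`, the ring `A` of formal power
series in `y` over `k`, with `B` its subring of series in `y²`, `lam y = -y` and `h` with rows `(y,
1)`, `(-1, y)`, satisfies every hypothesis, while `vᵀ h v` equal to the matrix with rows `(0, 1)`,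
`(-1, 0)` would, added to its transpose, give `2y · vᵀ v = 0` and hence `det v = 0` over a nonzero
ring in which `y` is not a zero divisor. The proof computes the Gram matrix of the hermitian form
`(a, b) ↦ (lam a)ᵀ h b` in a new basis, which is `(lam v)ᵀ h v`, and that is what is stated here.) -/
theorem result (B : Type u) (A : Type v) [CommRing B] [CommRing A]
    [Algebra B A] (lam : A ≃ₐ[B] A) (hlam : ∀ a, lam (lam a) = a) (hB : RInv.IsFixedRing B A lam.toRingEquiv)
    [IsLocalRing B] (hid : ∀ a : A, lam a - a ∈ Ring.jacobson A) (h2 : IsUnit (2 : A))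
    (h : Matrix (Fin 2) (Fin 2) A) (hh : IsUnit h) (herm : -(h.map lam).transpose = h)
    (hJ : ∀ i j : Fin 2, h i j - Matrix.of ![![(0 : A), 1], ![-1, 0]] i j ∈ Ring.jacobson A) :
    ∃ (s t : Bˣ) (r : ℕ) (f : Fin r → (MvPolynomial (Fin 2) B ⧸ Ideal.span ({MvPolynomial.X 0 ^ 2 - MvPolynomial.C (s : B), MvPolynomial.X 1 ^ 2 - MvPolynomial.C (t : B)} : Set (MvPolynomial (Fin 2) B)))),
      Ideal.span (Set.range f) = ⊤ ∧
      ∀ i : Fin r, ∃ v : Matrix (Fin 2) (Fin 2) (Localization.Away (f i) ⊗[B] A), IsUnit v ∧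
        (v.map (Algebra.TensorProduct.congr (AlgEquiv.refl : Localization.Away (f i) ≃ₐ[Localization.Away (f i)] Localization.Away (f i)) lam)).transpose * h.map (Algebra.TensorProduct.includeRight : A →ₐ[B] Localization.Away (f i) ⊗[B] A) * v
          = (Matrix.of ![![(0 : A), 1], ![-1, 0]]).map (Algebra.TensorProduct.includeRight : A →ₐ[B] Localization.Away (f i) ⊗[B] A) := by
  classical
  have hJac : ∀ x : A, x ∈ Ring.jacobson A → ∀ y, IsUnit (x * y + 1) := by
    intro x hx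
    rw [← Ideal.jacobson_bot] at hx
    exact Ideal.mem_jacobson_bot.mp hx
  have hunitB : ∀ x : B, IsUnit (algebraMap B A x) → IsUnit x := by
    intro x hx
    obtain ⟨u, hu⟩ := hx.exists_right_inv
    have hfix : lam u = u := by
      have h1 : algebraMap B A x * lam u = 1 := by
        have := congrArg lam hu
        rwa [map_mul, AlgEquiv.commutes, map_one] at this
      calc lam u = (algebraMap B A x * u) * lam u := by rw [hu, one_mul]
        _ = u * (algebraMap B A x * lam u) := by ring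
        _ = u := by rw [h1, mul_one]
    obtain ⟨u₀, hu₀⟩ := (hB.2 u).mp hfix
    refine IsUnit.of_mul_eq_one u₀ (hB.1 ?_)
    rw [map_mul, hu₀, hu, map_one]
  have hb : IsUnit (h 0 1) := by
    have h1 := hJ 0 1
    have h2' : h 0 1 - 1 ∈ Ring.jacobson A := by simpa using h1
    have := hJac _ h2' 1
    simpa using this
  obtain ⟨β, hβ⟩ := hb.exists_right_inv
  have ha : h 0 0 ∈ Ring.jacobson A := by simpa using hJ 0 0
  obtain ⟨ρ, hρdef⟩ : ∃ ρ, ρ = lam β * β * h 1 1 * h 0 0 := ⟨_, rfl⟩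
  have h00 : lam (h 0 0) = -h 0 0 := by
    have := congrFun (congrFun herm 0) 0
    simp only [Matrix.neg_apply, Matrix.transpose_apply, Matrix.map_apply] at this
    linear_combination (-1 : A) * this
  have h11 : lam (h 1 1) = -h 1 1 := by
    have := congrFun (congrFun herm 1) 1
    simp only [Matrix.neg_apply, Matrix.transpose_apply, Matrix.map_apply] at this
    linear_combination (-1 : A) * this
  have hρfix : lam ρ = ρ := by
    rw [hρdef, map_mul, map_mul, map_mul, hlam, h00, h11]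
    ring
  obtain ⟨ρ₀, hρ₀⟩ := (hB.2 ρ).mp hρfix
  have hρJ : ρ ∈ Ring.jacobson A := by
    rw [hρdef]
    exact Ideal.mul_mem_left _ _ ha
  have hsA : IsUnit (algebraMap B A (1 + ρ₀)) := by
    rw [map_add, map_one, hρ₀]
    have := hJac ρ hρJ 1
    simpa [add_comm] using this
  have hsB := hunitB _ hsA
  have h2B : IsUnit (2 : B) := hunitB 2 (by rw [map_ofNat]; exact h2)
  obtain ⟨half, hhalf⟩ := h2.exists_right_inv
  obtain ⟨halfB, hhalfB⟩ := h2B.exists_right_inv
  obtain ⟨s, hsval⟩ : ∃ s : Bˣ, (s : B) = 1 + ρ₀ := ⟨hsB.unit, hsB.unit_spec⟩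
  have hs : algebraMap B A (s : B) = 1 + lam β * β * h 1 1 * h 0 0 := by
    rw [hsval, map_add, map_one, hρ₀, hρdef]
  refine ⟨s, 1, 2, ![Ideal.Quotient.mk _ (1 + MvPolynomial.X 0),
    Ideal.Quotient.mk _ (1 - MvPolynomial.X 0)], ?_, ?_⟩
  · exact cover _ halfB hhalfB
  · intro i
    have hmem : (MvPolynomial.X 0 ^ 2 - MvPolynomial.C (s : B) : MvPolynomial (Fin 2) B) ∈
        Ideal.span ({MvPolynomial.X 0 ^ 2 - MvPolynomial.C (s : B),
      MvPolynomial.X 1 ^ 2 - MvPolynomial.C ((1 : Bˣ) : B)} : Set (MvPolynomial (Fin 2) B)) :=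
      Ideal.subset_span (Set.mem_insert _ _)
    have hsq : Ideal.Quotient.mk (Ideal.span ({MvPolynomial.X 0 ^ 2 - MvPolynomial.C (s : B),
      MvPolynomial.X 1 ^ 2 - MvPolynomial.C ((1 : Bˣ) : B)} : Set (MvPolynomial (Fin 2) B)))
        (MvPolynomial.X 0) ^ 2 = algebraMap B _ (s : B) := by
      rw [← map_pow]
      show _ = Ideal.Quotient.mk _ (MvPolynomial.C (s : B))
      rw [Ideal.Quotient.eq]
      exact hmem
    refine chart3 lam hlam _ s hsq _ ?_ h herm β hβ hs half hhalf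
    fin_cases i
    · left
      simp only [Fin.zero_eta, Matrix.cons_val_zero, map_add, map_one]
    · right
      simp only [Fin.mk_one, Matrix.cons_val_one, Matrix.cons_val_zero, map_sub, map_one]

end Groth.Agent.S17363
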