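import Groth.Statements.S17364
import Mathlib
import Groth.Agent.Lib.Helper52.SpreadQuad

set_option autoImplicit false
set_option linter.style.haveILetI false
set_option linter.unusedVariables false
universe u v
open scoped TensorProduct
open RInv

namespace Groth.Agent.S17364

/-- Let `A` be a commutative ring with an involution `lam` whose fixed ring is `B`, let `ε = ±1`, and
let `h, h'` be invertible `n × n` matrices over `A` with `h = ε (lam h)ᵀ` and `h' = ε (lam h')ᵀ`.
Let `p` be a prime of `B` and suppose there are units `s_1, …, s_l` of the local ring `B_p`,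
elements `f_1, …, f_r` of `B_p[X_1, …, X_l]/(X_k² - s_k)` (square roots of the `s_k` adjoined)
generating the unit ideal, and for each `i` an invertible matrix `v` over `C ⊗_B A` for the
localisation `C` of that ring at `f_i` (any `B`-algebra with the universal property of that
localisation) (`lam` extended so as to fix the square roots and `B_p`) with `(lam v)ᵀ h v = h'`.
Then there is `b ∉ p` in `B` such that the same kind of data exists with `B_p` replaced by `B_b`:
units of `B_b`, a finite family generating the unit ideal of `B_b[X_1, …, X_l]/(X_k² - s_k)`, and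
invertible matrices over the corresponding localisations tensored with `A` congruating `h` to `h'`. -/
theorem result (B : Type u) (A : Type v) [CommRing B] [CommRing A]
    [Algebra B A] (lam : A ≃ₐ[B] A) (hlam : ∀ a, lam (lam a) = a) (hB : RInv.IsFixedRing B A lam.toRingEquiv)
    (n : ℕ) (ε : A) (hε : ε = 1 ∨ ε = -1) (h h' : Matrix (Fin n) (Fin n) A) (hh : IsUnit h) (hh' : IsUnit h')
    (herm : ε • (h.map lam).transpose = h) (herm' : ε • (h'.map lam).transpose = h')
    (p : Ideal B) [p.IsPrime]
    (hdata : (∃ (l : ℕ) (s : Fin l → (Localization.AtPrime p)ˣ) (r : ℕ) (f : Fin r → (MvPolynomial (Fin l) (Localization.AtPrime p) ⧸ Ideal.span (Set.range fun k : Fin l => MvPolynomial.X k ^ 2 - MvPolynomial.C (s k : Localization.AtPrime p)))),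
        Ideal.span (Set.range f) = ⊤ ∧
        ∀ (i : Fin r) (C : Type u) [CommRing C] [Algebra B C]
          [Algebra (MvPolynomial (Fin l) (Localization.AtPrime p) ⧸ Ideal.span (Set.range fun k : Fin l => MvPolynomial.X k ^ 2 - MvPolynomial.C (s k : Localization.AtPrime p))) C]
          [IsScalarTower B (MvPolynomial (Fin l) (Localization.AtPrime p) ⧸ Ideal.span (Set.range fun k : Fin l => MvPolynomial.X k ^ 2 - MvPolynomial.C (s k : Localization.AtPrime p))) C]
          [IsLocalization.Away (f i) C],
          ∃ v : Matrix (Fin n) (Fin n) (C ⊗[B] A), IsUnit v ∧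
            (v.map (Algebra.TensorProduct.congr (AlgEquiv.refl : C ≃ₐ[C] C) lam)).transpose * h.map (Algebra.TensorProduct.includeRight : A →ₐ[B] C ⊗[B] A) * v = h'.map (Algebra.TensorProduct.includeRight : A →ₐ[B] C ⊗[B] A))) :
    ∃ b : B, b ∉ p ∧
      (∃ (l : ℕ) (s : Fin l → (Localization.Away b)ˣ) (r : ℕ) (f : Fin r → (MvPolynomial (Fin l) (Localization.Away b) ⧸ Ideal.span (Set.range fun k : Fin l => MvPolynomial.X k ^ 2 - MvPolynomial.C (s k : Localization.Away b)))),
        Ideal.span (Set.range f) = ⊤ ∧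
        ∀ (i : Fin r) (C : Type u) [CommRing C] [Algebra B C]
          [Algebra (MvPolynomial (Fin l) (Localization.Away b) ⧸ Ideal.span (Set.range fun k : Fin l => MvPolynomial.X k ^ 2 - MvPolynomial.C (s k : Localization.Away b))) C]
          [IsScalarTower B (MvPolynomial (Fin l) (Localization.Away b) ⧸ Ideal.span (Set.range fun k : Fin l => MvPolynomial.X k ^ 2 - MvPolynomial.C (s k : Localization.Away b))) C]
          [IsLocalization.Away (f i) C],
          ∃ v : Matrix (Fin n) (Fin n) (C ⊗[B] A), IsUnit v ∧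
            (v.map (Algebra.TensorProduct.congr (AlgEquiv.refl : C ≃ₐ[C] C) lam)).transpose * h.map (Algebra.TensorProduct.includeRight : A →ₐ[B] C ⊗[B] A) * v = h'.map (Algebra.TensorProduct.includeRight : A →ₐ[B] C ⊗[B] A)) := by
  classical
  obtain ⟨l, s, r, f, hspan, hv⟩ := hdata
  -- lift the units `s k`
  have hlift : ∀ k, ∃ (a : B) (c : B), a ∈ p.primeCompl ∧ c ∈ p.primeCompl ∧
      (s k : Localization.AtPrime p) * algebraMap B (Localization.AtPrime p) c =
        algebraMap B (Localization.AtPrime p) a := by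
    intro k
    obtain ⟨⟨a, c⟩, hac⟩ := IsLocalization.surj p.primeCompl (s k : Localization.AtPrime p)
    refine ⟨a, c, ?_, c.2, hac⟩
    have hu : IsUnit (algebraMap B (Localization.AtPrime p) a) := by
      rw [← hac]
      exact (s k).isUnit.mul (IsLocalization.map_units (Localization.AtPrime p) c)
    exact (IsLocalization.AtPrime.isUnit_to_map_iff (Localization.AtPrime p) p a).mp hu
  choose a c ha hc hac using hlift
  obtain ⟨b₀, hb₀def⟩ : ∃ b₀, b₀ = ∏ k, (a k * c k) := ⟨_, rfl⟩
  have hb₀N : b₀ ∈ p.primeCompl := by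
    rw [hb₀def]
    exact Submonoid.prod_mem _ (fun k _ => p.primeCompl.mul_mem (ha k) (hc k))
  have hdvd : ∀ k, a k * c k ∣ b₀ := fun k => by
    rw [hb₀def]
    exact Finset.dvd_prod_of_mem _ (Finset.mem_univ k)
  -- the ring `B₀ = B[1/b₀]`
  have hb₀u : IsUnit (algebraMap B (Localization.Away b₀) b₀) :=
    IsLocalization.Away.algebraMap_isUnit b₀
  have hacu : ∀ k, IsUnit (algebraMap B (Localization.Away b₀) (a k) *
      algebraMap B (Localization.Away b₀) (c k)) := fun k => by
    rw [← map_mul]
    exact isUnit_of_dvd_unit (map_dvd _ (hdvd k)) hb₀u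
  have hau : ∀ k, IsUnit (algebraMap B (Localization.Away b₀) (a k)) := fun k =>
    isUnit_of_mul_isUnit_left (hacu k)
  have hcu : ∀ k, IsUnit (algebraMap B (Localization.Away b₀) (c k)) := fun k =>
    isUnit_of_mul_isUnit_right (hacu k)
  choose ai hai using fun k => (hau k).exists_right_inv
  choose ci hci using fun k => (hcu k).exists_right_inv
  obtain ⟨s', hs'⟩ : ∃ s' : Fin l → (Localization.Away b₀)ˣ,
      ∀ k, (s' k : Localization.Away b₀) * algebraMap B (Localization.Away b₀) (c k) =
        algebraMap B (Localization.Away b₀) (a k) := by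
    refine ⟨fun k => ⟨algebraMap B (Localization.Away b₀) (a k) * ci k,
      algebraMap B (Localization.Away b₀) (c k) * ai k, ?_, ?_⟩, fun k => ?_⟩
    · linear_combination (algebraMap B (Localization.Away b₀) (c k) * ci k) * hai k + hci k
    · linear_combination (algebraMap B (Localization.Away b₀) (c k) * ci k) * hai k + hci k
    · show algebraMap B (Localization.Away b₀) (a k) * ci k *
        algebraMap B (Localization.Away b₀) (c k) = algebraMap B (Localization.Away b₀) (a k)
      linear_combination (algebraMap B (Localization.Away b₀) (a k)) * hci k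
  have hb₀p : IsUnit (algebraMap B (Localization.AtPrime p) b₀) :=
    IsLocalization.map_units (Localization.AtPrime p) (⟨b₀, hb₀N⟩ : p.primeCompl)
  let j₀ : Localization.Away b₀ →+* Localization.AtPrime p := IsLocalization.Away.lift b₀ hb₀p
  have hj₀ : ∀ x, j₀ (algebraMap B (Localization.Away b₀) x) =
      algebraMap B (Localization.AtPrime p) x := IsLocalization.Away.lift_eq b₀ hb₀p
  letI algB₀p : Algebra (Localization.Away b₀) (Localization.AtPrime p) := j₀.toAlgebra
  haveI : IsScalarTower B (Localization.Away b₀) (Localization.AtPrime p) :=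
    IsScalarTower.of_algebraMap_eq (fun x => (hj₀ x).symm)
  have hj₀s : ∀ k, algebraMap (Localization.Away b₀) (Localization.AtPrime p)
      (s' k : Localization.Away b₀) = (s k : Localization.AtPrime p) := by
    intro k
    have h2 := congrArg j₀ (hs' k)
    rw [map_mul, hj₀, hj₀, ← hac k] at h2
    exact (IsLocalization.map_units (Localization.AtPrime p)
      (⟨c k, hc k⟩ : p.primeCompl)).mul_left_injective h2
  haveI hloc₀ : IsLocalization (Algebra.algebraMapSubmonoid (Localization.Away b₀) p.primeCompl)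
      (Localization.AtPrime p) := by
    haveI : IsLocalization (Algebra.algebraMapSubmonoid (Localization.AtPrime p)
        (Submonoid.powers b₀)) (Localization.AtPrime p) := by
      apply IsLocalization.self
      rintro _ ⟨x, ⟨k, rfl⟩, rfl⟩
      rw [IsUnit.mem_submonoid_iff, map_pow]
      exact hb₀p.pow k
    exact IsLocalization.commutes (R := B) (Localization.Away b₀) (Localization.AtPrime p)
      (Localization.AtPrime p) (Submonoid.powers b₀) p.primeCompl
  -- the quadratic extensions
  let σ₀ : Fin l → Localization.Away b₀ := fun k => (s' k : Localization.Away b₀)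
  let σp : Fin l → Localization.AtPrime p := fun k => (s k : Localization.AtPrime p)
  let J₀ : Groth.Agent.Lib.Helper52.SpreadQuad.Dq (Localization.Away b₀) σ₀ →+*
      Groth.Agent.Lib.Helper52.SpreadQuad.Dq (Localization.AtPrime p) σp :=
    Groth.Agent.Lib.Helper52.SpreadQuad.DqMap
      (algebraMap (Localization.Away b₀) (Localization.AtPrime p)) σ₀ σp hj₀s
  letI algD : Algebra (Groth.Agent.Lib.Helper52.SpreadQuad.Dq (Localization.Away b₀) σ₀)
      (Groth.Agent.Lib.Helper52.SpreadQuad.Dq (Localization.AtPrime p) σp) := J₀.toAlgebra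
  haveI hlocD := Groth.Agent.Lib.Helper52.SpreadQuad.Dq_isLocalization
    (Algebra.algebraMapSubmonoid (Localization.Away b₀) p.primeCompl) σ₀ σp hj₀s
  haveI : IsScalarTower B (Groth.Agent.Lib.Helper52.SpreadQuad.Dq (Localization.Away b₀) σ₀)
      (Groth.Agent.Lib.Helper52.SpreadQuad.Dq (Localization.AtPrime p) σp) :=
    IsScalarTower.of_algebraMap_eq (fun x =>
      (Groth.Agent.Lib.Helper52.SpreadQuad.DqMap_algebraMap
        (algebraMap (Localization.Away b₀) (Localization.AtPrime p)) hj₀ σ₀ σp hj₀s x).symm)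
  -- the submonoid of `D₀`
  obtain ⟨MD, hMDdef⟩ : ∃ MD : Submonoid (Groth.Agent.Lib.Helper52.SpreadQuad.Dq
      (Localization.Away b₀) σ₀), MD = (Algebra.algebraMapSubmonoid (Localization.Away b₀)
        p.primeCompl).map ((Ideal.Quotient.mk (Groth.Agent.Lib.Helper52.SpreadQuad.sqIdeal
          (Localization.Away b₀) σ₀)).comp (MvPolynomial.C :
            Localization.Away b₀ →+* MvPolynomial (Fin l) (Localization.Away b₀))) := ⟨_, rfl⟩
  rw [← hMDdef] at hlocD
  have hMD : ∀ m ∈ MD, ∃ n₁ ∈ p.primeCompl, algebraMap B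
      (Groth.Agent.Lib.Helper52.SpreadQuad.Dq (Localization.Away b₀) σ₀) n₁ = m := by
    intro m hm
    rw [hMDdef] at hm
    obtain ⟨_, ⟨n₁, hn₁, rfl⟩, rfl⟩ := hm
    exact ⟨n₁, hn₁, rfl⟩
  -- lift `f` and the coefficients of `1`
  obtain ⟨mf, hmf⟩ := IsLocalization.exist_integer_multiples_of_finite MD f
  choose f' hf' using hmf
  have hmfu : IsUnit (algebraMap (Groth.Agent.Lib.Helper52.SpreadQuad.Dq (Localization.Away b₀) σ₀)
      (Groth.Agent.Lib.Helper52.SpreadQuad.Dq (Localization.AtPrime p) σp) (mf : _)) :=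
    IsLocalization.map_units _ mf
  have hassoc : ∀ i, Associated (algebraMap (Groth.Agent.Lib.Helper52.SpreadQuad.Dq
      (Localization.Away b₀) σ₀) (Groth.Agent.Lib.Helper52.SpreadQuad.Dq
        (Localization.AtPrime p) σp) (f' i)) (f i) := by
    intro i
    obtain ⟨u, hu⟩ := hmfu
    refine Associated.symm ⟨u, ?_⟩
    rw [hf' i, Algebra.smul_def, hu, mul_comm]
  have h1mem : (1 : Groth.Agent.Lib.Helper52.SpreadQuad.Dq (Localization.AtPrime p) σp) ∈
      Ideal.span (Set.range f) := by
    rw [hspan]
    trivial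
  obtain ⟨cf, hcf⟩ := Ideal.mem_span_range_iff_exists_fun.mp h1mem
  obtain ⟨mc, hmc⟩ := IsLocalization.exist_integer_multiples_of_finite MD cf
  choose c' hc' using hmc
  have hsum : algebraMap (Groth.Agent.Lib.Helper52.SpreadQuad.Dq (Localization.Away b₀) σ₀)
      (Groth.Agent.Lib.Helper52.SpreadQuad.Dq (Localization.AtPrime p) σp) (∑ i, c' i * f' i) =
      algebraMap (Groth.Agent.Lib.Helper52.SpreadQuad.Dq (Localization.Away b₀) σ₀)
        (Groth.Agent.Lib.Helper52.SpreadQuad.Dq (Localization.AtPrime p) σp)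
          ((mc : _) * (mf : _)) := by
    rw [map_sum, map_mul]
    have : ∀ i, algebraMap (Groth.Agent.Lib.Helper52.SpreadQuad.Dq (Localization.Away b₀) σ₀)
        (Groth.Agent.Lib.Helper52.SpreadQuad.Dq (Localization.AtPrime p) σp) (c' i * f' i) =
        (algebraMap (Groth.Agent.Lib.Helper52.SpreadQuad.Dq (Localization.Away b₀) σ₀)
          (Groth.Agent.Lib.Helper52.SpreadQuad.Dq (Localization.AtPrime p) σp)
            (mc : Groth.Agent.Lib.Helper52.SpreadQuad.Dq (Localization.Away b₀) σ₀) *
         algebraMap (Groth.Agent.Lib.Helper52.SpreadQuad.Dq (Localization.Away b₀) σ₀)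
          (Groth.Agent.Lib.Helper52.SpreadQuad.Dq (Localization.AtPrime p) σp)
            (mf : Groth.Agent.Lib.Helper52.SpreadQuad.Dq (Localization.Away b₀) σ₀)) *
          (cf i * f i) := by
      intro i
      rw [map_mul, hf' i, hc' i, Algebra.smul_def, Algebra.smul_def]
      ring
    simp only [this]
    rw [← Finset.mul_sum, hcf, mul_one]
  obtain ⟨m₂, hm₂⟩ := (IsLocalization.eq_iff_exists MD _).mp hsum
  obtain ⟨n₁, hn₁, hn₁eq⟩ := hMD ((m₂ * mc * mf : MD) : _) (m₂ * mc * mf).2
  have hrel : ∑ i, ((m₂ : Groth.Agent.Lib.Helper52.SpreadQuad.Dq (Localization.Away b₀) σ₀) *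
      c' i) * f' i = algebraMap B _ n₁ := by
    rw [hn₁eq]
    simp only [mul_assoc, ← Finset.mul_sum]
    rw [hm₂]
    simp only [Submonoid.coe_mul]
  -- the charts
  have hchart : ∀ i : Fin r, ∃ n₀ ∈ p.primeCompl, ∀ (C : Type u) [CommRing C] [Algebra B C]
      (ρ : Localization.Away (f' i) →ₐ[B] C), IsUnit (algebraMap B C n₀) →
      ∃ Q : Matrix (Fin n) (Fin n) (C ⊗[B] A), IsUnit Q ∧
        (Q.map (Groth.Agent.Lib.Helper52.SpreadQuad.lamC lam C)).transpose *
          h.map (Algebra.TensorProduct.includeRight : A →ₐ[B] C ⊗[B] A) * Q =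
            h'.map (Algebra.TensorProduct.includeRight : A →ₐ[B] C ⊗[B] A) := by
    intro i
    have hgu : IsUnit (((algebraMap (Groth.Agent.Lib.Helper52.SpreadQuad.Dq
        (Localization.AtPrime p) σp) (Localization.Away (algebraMap
          (Groth.Agent.Lib.Helper52.SpreadQuad.Dq (Localization.Away b₀) σ₀)
          (Groth.Agent.Lib.Helper52.SpreadQuad.Dq (Localization.AtPrime p) σp) (f' i)))).comp
        (algebraMap (Groth.Agent.Lib.Helper52.SpreadQuad.Dq (Localization.Away b₀) σ₀)
          (Groth.Agent.Lib.Helper52.SpreadQuad.Dq (Localization.AtPrime p) σp))) (f' i)) := by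
      show IsUnit (algebraMap (Groth.Agent.Lib.Helper52.SpreadQuad.Dq
        (Localization.AtPrime p) σp) (Localization.Away (algebraMap
          (Groth.Agent.Lib.Helper52.SpreadQuad.Dq (Localization.Away b₀) σ₀)
          (Groth.Agent.Lib.Helper52.SpreadQuad.Dq (Localization.AtPrime p) σp) (f' i)))
        (algebraMap (Groth.Agent.Lib.Helper52.SpreadQuad.Dq (Localization.Away b₀) σ₀)
          (Groth.Agent.Lib.Helper52.SpreadQuad.Dq (Localization.AtPrime p) σp) (f' i)))
      exact IsLocalization.Away.algebraMap_isUnit (S := Localization.Away (algebraMap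
          (Groth.Agent.Lib.Helper52.SpreadQuad.Dq (Localization.Away b₀) σ₀)
          (Groth.Agent.Lib.Helper52.SpreadQuad.Dq (Localization.AtPrime p) σp) (f' i)))
        (algebraMap (Groth.Agent.Lib.Helper52.SpreadQuad.Dq (Localization.Away b₀) σ₀)
          (Groth.Agent.Lib.Helper52.SpreadQuad.Dq (Localization.AtPrime p) σp) (f' i))
    letI algCT : Algebra (Localization.Away (f' i)) (Localization.Away (algebraMap
        (Groth.Agent.Lib.Helper52.SpreadQuad.Dq (Localization.Away b₀) σ₀)
        (Groth.Agent.Lib.Helper52.SpreadQuad.Dq (Localization.AtPrime p) σp) (f' i))) :=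
      (IsLocalization.Away.lift (f' i) hgu).toAlgebra
    have htw1 : ∀ x, algebraMap (Groth.Agent.Lib.Helper52.SpreadQuad.Dq (Localization.Away b₀) σ₀) (Localization.Away (algebraMap (Groth.Agent.Lib.Helper52.SpreadQuad.Dq (Localization.Away b₀) σ₀) (Groth.Agent.Lib.Helper52.SpreadQuad.Dq (Localization.AtPrime p) σp) (f' i))) x =
        algebraMap (Localization.Away (f' i)) (Localization.Away (algebraMap (Groth.Agent.Lib.Helper52.SpreadQuad.Dq (Localization.Away b₀) σ₀) (Groth.Agent.Lib.Helper52.SpreadQuad.Dq (Localization.AtPrime p) σp) (f' i))) (algebraMap (Groth.Agent.Lib.Helper52.SpreadQuad.Dq (Localization.Away b₀) σ₀) (Localization.Away (f' i)) x) := by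
      intro x
      have := IsLocalization.Away.lift_eq (S := Localization.Away (f' i)) (f' i) hgu x
      rw [IsScalarTower.algebraMap_apply (Groth.Agent.Lib.Helper52.SpreadQuad.Dq (Localization.Away b₀) σ₀) (Groth.Agent.Lib.Helper52.SpreadQuad.Dq (Localization.AtPrime p) σp) (Localization.Away (algebraMap (Groth.Agent.Lib.Helper52.SpreadQuad.Dq (Localization.Away b₀) σ₀) (Groth.Agent.Lib.Helper52.SpreadQuad.Dq (Localization.AtPrime p) σp) (f' i))) x]
      exact this.symm
    haveI tw1 : IsScalarTower (Groth.Agent.Lib.Helper52.SpreadQuad.Dq (Localization.Away b₀) σ₀) (Localization.Away (f' i)) (Localization.Away (algebraMap (Groth.Agent.Lib.Helper52.SpreadQuad.Dq (Localization.Away b₀) σ₀) (Groth.Agent.Lib.Helper52.SpreadQuad.Dq (Localization.AtPrime p) σp) (f' i))) :=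
      IsScalarTower.of_algebraMap_eq htw1
    have htw2 : ∀ x, algebraMap B (Localization.Away (algebraMap (Groth.Agent.Lib.Helper52.SpreadQuad.Dq (Localization.Away b₀) σ₀) (Groth.Agent.Lib.Helper52.SpreadQuad.Dq (Localization.AtPrime p) σp) (f' i))) x =
        algebraMap (Localization.Away (f' i)) (Localization.Away (algebraMap (Groth.Agent.Lib.Helper52.SpreadQuad.Dq (Localization.Away b₀) σ₀) (Groth.Agent.Lib.Helper52.SpreadQuad.Dq (Localization.AtPrime p) σp) (f' i))) (algebraMap B (Localization.Away (f' i)) x) := by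
      intro x
      rw [IsScalarTower.algebraMap_apply B (Groth.Agent.Lib.Helper52.SpreadQuad.Dq (Localization.Away b₀) σ₀) (Localization.Away (f' i)),
        ← IsScalarTower.algebraMap_apply (Groth.Agent.Lib.Helper52.SpreadQuad.Dq (Localization.Away b₀) σ₀) (Localization.Away (f' i)) (Localization.Away (algebraMap (Groth.Agent.Lib.Helper52.SpreadQuad.Dq (Localization.Away b₀) σ₀) (Groth.Agent.Lib.Helper52.SpreadQuad.Dq (Localization.AtPrime p) σp) (f' i))),
        ← IsScalarTower.algebraMap_apply B (Groth.Agent.Lib.Helper52.SpreadQuad.Dq (Localization.Away b₀) σ₀) (Localization.Away (algebraMap (Groth.Agent.Lib.Helper52.SpreadQuad.Dq (Localization.Away b₀) σ₀) (Groth.Agent.Lib.Helper52.SpreadQuad.Dq (Localization.AtPrime p) σp) (f' i)))]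
    haveI tw2 : IsScalarTower B (Localization.Away (f' i)) (Localization.Away (algebraMap (Groth.Agent.Lib.Helper52.SpreadQuad.Dq (Localization.Away b₀) σ₀) (Groth.Agent.Lib.Helper52.SpreadQuad.Dq (Localization.AtPrime p) σp) (f' i))) :=
      IsScalarTower.of_algebraMap_eq htw2
    haveI hT : IsLocalization (Algebra.algebraMapSubmonoid
        (Groth.Agent.Lib.Helper52.SpreadQuad.Dq (Localization.AtPrime p) σp)
        (Submonoid.powers (f' i))) (Localization.Away (algebraMap
          (Groth.Agent.Lib.Helper52.SpreadQuad.Dq (Localization.Away b₀) σ₀)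
          (Groth.Agent.Lib.Helper52.SpreadQuad.Dq (Localization.AtPrime p) σp) (f' i))) := by
      have e : Algebra.algebraMapSubmonoid
          (Groth.Agent.Lib.Helper52.SpreadQuad.Dq (Localization.AtPrime p) σp)
          (Submonoid.powers (f' i)) = Submonoid.powers (algebraMap
            (Groth.Agent.Lib.Helper52.SpreadQuad.Dq (Localization.Away b₀) σ₀)
            (Groth.Agent.Lib.Helper52.SpreadQuad.Dq (Localization.AtPrime p) σp) (f' i)) :=
        Submonoid.map_powers _ _
      rw [e]
      infer_instance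
    haveI hcomm := IsLocalization.commutes
      (R := Groth.Agent.Lib.Helper52.SpreadQuad.Dq (Localization.Away b₀) σ₀)
      (Localization.Away (f' i))
      (Groth.Agent.Lib.Helper52.SpreadQuad.Dq (Localization.AtPrime p) σp)
      (Localization.Away (algebraMap
          (Groth.Agent.Lib.Helper52.SpreadQuad.Dq (Localization.Away b₀) σ₀)
          (Groth.Agent.Lib.Helper52.SpreadQuad.Dq (Localization.AtPrime p) σp) (f' i)))
      (Submonoid.powers (f' i)) MD
    haveI haway : IsLocalization.Away (f i) (Localization.Away (algebraMap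
          (Groth.Agent.Lib.Helper52.SpreadQuad.Dq (Localization.Away b₀) σ₀)
          (Groth.Agent.Lib.Helper52.SpreadQuad.Dq (Localization.AtPrime p) σp) (f' i))) :=
      IsLocalization.Away.of_associated (hassoc i)
    obtain ⟨v, hvu, hvc⟩ := hv i (Localization.Away (algebraMap
          (Groth.Agent.Lib.Helper52.SpreadQuad.Dq (Localization.Away b₀) σ₀)
          (Groth.Agent.Lib.Helper52.SpreadQuad.Dq (Localization.AtPrime p) σp) (f' i)))
    refine Groth.Agent.Lib.Helper52.SpreadQuad.spread_chart lam p.primeCompl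
      (Localization.Away (f' i)) _ (Algebra.algebraMapSubmonoid (Localization.Away (f' i)) MD)
      ?_ n h h' v hvu hvc
    rintro _ ⟨y, hy, rfl⟩
    obtain ⟨n₁', hn₁', rfl⟩ := hMD y hy
    exact ⟨n₁', hn₁', (IsScalarTower.algebraMap_apply B _ _ n₁').symm⟩
  -- assemble
  choose n₀ hn₀N hn₀ using hchart
  obtain ⟨b, hbdef⟩ : ∃ b, b = b₀ * n₁ * ∏ i, n₀ i := ⟨_, rfl⟩
  have hbN : b ∈ p.primeCompl := by
    rw [hbdef]
    exact p.primeCompl.mul_mem (p.primeCompl.mul_mem hb₀N hn₁)
      (Submonoid.prod_mem _ (fun i _ => hn₀N i))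
  refine ⟨b, hbN, ?_⟩
  have hbu : IsUnit (algebraMap B (Localization.Away b) b) :=
    IsLocalization.Away.algebraMap_isUnit b
  have hb₀b : IsUnit (algebraMap B (Localization.Away b) b₀) :=
    isUnit_of_dvd_unit (map_dvd _ ⟨n₁ * ∏ i, n₀ i, by rw [hbdef]; ring⟩) hbu
  have hn₁b : IsUnit (algebraMap B (Localization.Away b) n₁) :=
    isUnit_of_dvd_unit (map_dvd _ ⟨b₀ * ∏ i, n₀ i, by rw [hbdef]; ring⟩) hbu
  have hn₀b : ∀ i, IsUnit (algebraMap B (Localization.Away b) (n₀ i)) := fun i =>
    isUnit_of_dvd_unit (map_dvd _ (Dvd.dvd.mul_left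
      (Finset.dvd_prod_of_mem _ (Finset.mem_univ i)) _ |>.trans (by rw [hbdef]))) hbu
  let jb : Localization.Away b₀ →+* Localization.Away b := IsLocalization.Away.lift b₀ hb₀b
  have hjb : ∀ x, jb (algebraMap B (Localization.Away b₀) x) =
      algebraMap B (Localization.Away b) x := IsLocalization.Away.lift_eq b₀ hb₀b
  let s'' : Fin l → (Localization.Away b)ˣ := fun k => Units.map (jb : _ →* _) (s' k)
  let σb : Fin l → Localization.Away b := fun k => (s'' k : Localization.Away b)
  have hσb : ∀ k, jb (σ₀ k) = σb k := fun k => rfl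
  let Jb : (Groth.Agent.Lib.Helper52.SpreadQuad.Dq (Localization.Away b₀) σ₀) →+* (Groth.Agent.Lib.Helper52.SpreadQuad.Dq (Localization.Away b) σb) :=
    Groth.Agent.Lib.Helper52.SpreadQuad.DqMap jb σ₀ σb hσb
  have hJb : ∀ x, Jb (algebraMap B (Groth.Agent.Lib.Helper52.SpreadQuad.Dq (Localization.Away b₀) σ₀) x) = algebraMap B (Groth.Agent.Lib.Helper52.SpreadQuad.Dq (Localization.Away b) σb) x :=
    Groth.Agent.Lib.Helper52.SpreadQuad.DqMap_algebraMap jb hjb σ₀ σb hσb
  have hunitD : ∀ x : B, IsUnit (algebraMap B (Localization.Away b) x) →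
      IsUnit (algebraMap B (Groth.Agent.Lib.Helper52.SpreadQuad.Dq (Localization.Away b) σb) x) := by
    intro x hx
    rw [IsScalarTower.algebraMap_apply B (Localization.Away b) (Groth.Agent.Lib.Helper52.SpreadQuad.Dq (Localization.Away b) σb)]
    exact hx.map _
  refine ⟨l, s'', r, fun i => Jb (f' i), ?_, ?_⟩
  · apply Ideal.eq_top_of_isUnit_mem _ (x := algebraMap B (Groth.Agent.Lib.Helper52.SpreadQuad.Dq (Localization.Away b) σb) n₁) _ (hunitD n₁ hn₁b)
    rw [← hJb, ← hrel, map_sum]
    refine Ideal.sum_mem _ (fun i _ => ?_)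
    rw [map_mul]
    exact Ideal.mul_mem_left _ _ (Ideal.subset_span ⟨i, rfl⟩)
  · intro i C _ _ _ _ _
    have hg : IsUnit (((algebraMap (Groth.Agent.Lib.Helper52.SpreadQuad.Dq (Localization.Away b) σb) C).comp Jb) (f' i)) :=
      IsLocalization.Away.algebraMap_isUnit (S := C) (Jb (f' i))
    have hρ : ∀ x, (IsLocalization.Away.lift (S := Localization.Away (f' i)) (f' i) hg)
        (algebraMap B (Localization.Away (f' i)) x) = algebraMap B C x := by
      intro x
      rw [IsScalarTower.algebraMap_apply B (Groth.Agent.Lib.Helper52.SpreadQuad.Dq (Localization.Away b₀) σ₀) (Localization.Away (f' i)),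
        IsLocalization.Away.lift_eq]
      show algebraMap (Groth.Agent.Lib.Helper52.SpreadQuad.Dq (Localization.Away b) σb) C (Jb (algebraMap B (Groth.Agent.Lib.Helper52.SpreadQuad.Dq (Localization.Away b₀) σ₀) x)) = _
      rw [hJb, ← IsScalarTower.algebraMap_apply B (Groth.Agent.Lib.Helper52.SpreadQuad.Dq (Localization.Away b) σb) C]
    let ρ : Localization.Away (f' i) →ₐ[B] C :=
      { (IsLocalization.Away.lift (S := Localization.Away (f' i)) (f' i) hg) with
        commutes' := hρ }
    have hunit : IsUnit (algebraMap B C (n₀ i)) := by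
      rw [IsScalarTower.algebraMap_apply B (Groth.Agent.Lib.Helper52.SpreadQuad.Dq (Localization.Away b) σb) C]
      exact (hunitD (n₀ i) (hn₀b i)).map _
    obtain ⟨Q, hQu, hQc⟩ := hn₀ i C ρ hunit
    exact ⟨Q, hQu, hQc⟩

end Groth.Agent.S17364
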