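import Groth.Statements.S17365
import Groth.Agent.Lib.QCoh.Helper18_HartogsUnit
import Groth.Agent.S14104
import Groth.Agent.S14128
import Groth.Agent.Lib.Helper62.SmoothStalk
import Groth.Agent.Lib.QCoh.Helper74_LocFreeStalk
import Groth.Agent.Lib.Helper93.NormFlatDepth

set_option autoImplicit false
universe u
open CategoryTheory CategoryTheory.Limits AlgebraicGeometry TopologicalSpace
open CInt

namespace Groth.Agent.S17365

/-- depth of a finite free module over a Noetherian local ring is at least the depth of the ring -/
theorem le_depth_of_free {R : Type u} [CommRing R] [IsLocalRing R] [IsNoetherianRing R]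
    (M : Type u) [AddCommGroup M] [Module R M] [Module.Free R M] [Module.Finite R M] (j : ℕ∞)
    (h : j ≤ LocCoh.depth R R) : j ≤ LocCoh.depth R M := by
  obtain ⟨d, hd⟩ := ENat.ne_top_iff_exists.1 (Groth.Agent.Lib.Helper29.DepthLib.depth_ne_top R R)
  let e : M ≃ₗ[R] (Fin (Module.finrank R M) → R) := (Module.finBasis R M).equivFun
  rw [Groth.Agent.Lib.Helper29.CMLib.depth_congr e]
  rcases Groth.Agent.Lib.Helper93.NormFlatDepth.depthP_pi (A := R) (Q := R) d
    (Or.inr hd.symm) (Module.finrank R M) with h' | h'
  · have : LocCoh.depth R (Fin (Module.finrank R M) → R) = ⊤ := by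
      unfold LocCoh.depth LocCoh.idealDepth
      rw [if_pos (Subsingleton.elim _ _)]
    rw [this]
    exact le_top
  · rw [h', hd]
    exact h

/-- Let k be an algebraically closed field, X a smooth proper k-scheme admitting an ample invertible
sheaf, and S a locally Noetherian k-scheme. Let E be a finite locally free module on S ×_k X and Z a
closed subset of S ×_k X whose intersection with every fibre {s} × X has codimension at least 2
there, i.e. at every point of Z the local ring of the fibre of the projection S ×_k X ⟶ S has Krull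
dimension at least 2. Then, with j the inclusion of the complement of Z, the natural map E ⟶ j_*
(E|_{S × X ∖ Z}) is an isomorphism. -/
theorem result
    (k : Type u) [Field k] [IsAlgClosed k] (S X : Scheme.{u})
    (b : S ⟶ Spec (CommRingCat.of k)) (a : X ⟶ Spec (CommRingCat.of k))
    [IsLocallyNoetherian S] [Smooth a] [IsProper a]
    (hproj : ∃ H : X.Modules, CohB1.IsAmple H)
    (E : (pullback b a).Modules) (hE : FlatMod.IsFinLocFree E)
    (Z : Closeds ↥(pullback b a))
    (hZ : ∀ x : ↥(pullback b a), x ∈ Z →
      (2 : WithBot ℕ∞) ≤ ringKrullDim ↑(CInt.fiberStalk (pullback.fst b a) x)) :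
    IsIso ((Scheme.Modules.restrictAdjunction (Scheme.Opens.ι (Z.compl : (pullback b a).Opens))).unit.app E) := by
  have : IsLocallyNoetherian (pullback b a) :=
    LocallyOfFiniteType.isLocallyNoetherian (pullback.fst b a)
  have hq := Groth.Agent.Lib.QCoh.isQuasicoherent_of_isFinLocFree hE
  have hft := Groth.Agent.Lib.QCoh.isFiniteType_of_isFinLocFree hE
  apply Groth.Agent.Lib.QCoh.Hartogs.isIso_unit_of_depth E
  intro x hx
  have hxZ : x ∈ Z := by
    by_contra h
    exact hx h
  obtain ⟨hN, hdepth⟩ := Groth.Agent.S14104.depth_fiberStalk_le (pullback.fst b a) x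
  have hsm : Smooth ((pullback.fst b a).fiberToSpecResidueField ((pullback.fst b a) x)) :=
    inferInstanceAs (Smooth (pullback.snd (pullback.fst b a)
      (S.fromSpecResidueField ((pullback.fst b a) x))))
  have hreg : IsRegularLocalRing (CInt.fiberStalk (pullback.fst b a) x) :=
    @Groth.Agent.Lib.Helper62.SmoothStalk.isRegularLocalRing_stalk
      (S.residueField ((pullback.fst b a) x)) _ _
      ((pullback.fst b a).fiberToSpecResidueField ((pullback.fst b a) x)) hsm
      ((pullback.fst b a).asFiber x)
  have hdim := hZ x hxZ
  have hfinite : FiniteRingKrullDim (CInt.fiberStalk (pullback.fst b a) x) := inferInstance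
  obtain ⟨g, hg⟩ : ∃ g : ℕ, ringKrullDim (CInt.fiberStalk (pullback.fst b a) x) = g := by
    have h1 := ringKrullDim_ne_top (R := CInt.fiberStalk (pullback.fst b a) x)
    have h2 := ringKrullDim_ne_bot (R := CInt.fiberStalk (pullback.fst b a) x)
    generalize ringKrullDim (CInt.fiberStalk (pullback.fst b a) x) = d at h1 h2
    induction d using WithBot.recBotCoe with
    | bot => exact absurd rfl h2
    | coe d =>
      induction d using ENat.recTopCoe with
      | top => exact absurd rfl h1
      | coe n => exact ⟨n, rfl⟩
  have h1 := Groth.Agent.S14128.depth_eq_of_regular _ g hg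
  have hg2 : 2 ≤ g := by
    rw [hg] at hdim
    exact_mod_cast hdim
  have h2 : (2 : ℕ∞) ≤ LocCoh.depth ((pullback b a).presheaf.stalk x)
      ((pullback b a).presheaf.stalk x) := by
    rw [hdepth, h1]
    exact le_trans (by exact_mod_cast hg2) le_add_self
  obtain ⟨hfree, hfin⟩ := Groth.Agent.Lib.QCoh.free_finite_stalk_of_isFinLocFree hE x
  exact le_depth_of_free _ 2 h2

end Groth.Agent.S17365
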