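import Groth.Statements.S1737
import Mathlib
-- import your own Groth.Agent.* helpers here

set_option autoImplicit false
universe u
open LocCoh

namespace Groth.Agent.S1737

section Aux
open RingTheory.Sequence Pointwise

theorem length_le_idealDepth' {R : Type*} [CommRing R] (I : Ideal R) (M : Type*)
    [AddCommGroup M] [Module R M] {rs : List R} (hreg : IsWeaklyRegular M rs)
    (hmem : ∀ r ∈ rs, r ∈ I) : (rs.length : ℕ∞) ≤ LocCoh.idealDepth I M := by
  unfold LocCoh.idealDepth
  split_ifs with h
  · exact le_top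
  · exact le_iSup₂ (f := fun (rs : List R)
      (_ : IsWeaklyRegular M rs ∧ ∀ r ∈ rs, r ∈ I) => (rs.length : ℕ∞)) rs ⟨hreg, hmem⟩

/-- Prime avoidance: if `I` lies in no associated prime of `M`, it contains an `M`-regular
element. -/
theorem exists_regular_of_forall_ass {A : Type u} [CommRing A] [IsNoetherianRing A]
    (I : Ideal A) (M : Type u) [AddCommGroup M] [Module A M]
    [Module.Finite A M] (h : ∀ p ∈ associatedPrimes A M, ¬ I ≤ p) :
    ∃ x ∈ I, IsSMulRegular M x := by
  classical
  have hfin := associatedPrimes.finite A M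
  have h1 : ¬ ((I : Set A) ⊆ ⋃ p ∈ (↑hfin.toFinset : Set (Ideal A)),
      ((fun q : Ideal A => q) p : Set A)) := by
    rw [Ideal.subset_union_prime (⊥ : Ideal A) (⊥ : Ideal A)]
    · rintro ⟨p, hp, hIp⟩
      exact h p (hfin.mem_toFinset.mp hp) hIp
    · intro p hp _ _
      exact IsAssociatedPrime.isPrime (hfin.mem_toFinset.mp hp)
  rw [Set.not_subset] at h1
  obtain ⟨x, hxI, hx⟩ := h1
  refine ⟨x, hxI, ?_⟩
  by_contra hreg
  apply hx
  have h2 : x ∈ ({r : A | IsSMulRegular M r}ᶜ : Set A) := hreg
  rw [← biUnion_associatedPrimes_eq_compl_regular A M] at h2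
  simp only [Set.mem_iUnion] at h2 ⊢
  obtain ⟨p, hp, hxp⟩ := h2
  exact ⟨p, by simpa using hp, hxp⟩

theorem mk_eq_zero_iff' {R M : Type*} [CommRing R] [AddCommGroup M] [Module R M]
    (S : Submonoid R) (m : M) (s : S) :
    LocalizedModule.mk m s = 0 ↔ ∃ u : S, u • m = 0 := by
  rw [IsLocalizedModule.mk_eq_mk', IsLocalizedModule.mk'_eq_zero']

end Aux

/-- Let A be a Noetherian ring, T ⊆ Spec A stable under specialization and M a finite A-module. There
are a finite A-module M' and a surjection M → M' which is bijective after localizing at every prime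
outside T and such that M'_p has depth ≥ 1 over A_p for every p in T. (The source states this for
coherent modules on a Noetherian scheme, with uniqueness.) -/
theorem result (A : Type u) [CommRing A] [IsNoetherianRing A] (T : Set (PrimeSpectrum A)) (hT : StableUnderSpecialization T) (M : Type u) [AddCommGroup M] [Module A M] [Module.Finite A M] : ∃ (M' : Type u) (_ : AddCommGroup M') (_ : Module A M') (_ : Module.Finite A M') (f : M →ₗ[A] M'), Function.Surjective f ∧ (∀ p : PrimeSpectrum A, p ∉ T → Function.Bijective (LocalizedModule.map p.asIdeal.primeCompl f)) ∧ ∀ p : PrimeSpectrum A, p ∈ T → 1 ≤ LocCoh.depth (Localization.AtPrime p.asIdeal) (LocalizedModule p.asIdeal.primeCompl M') := by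
  classical
  let N : Submodule A M := ⨅ (p : PrimeSpectrum A) (_ : p ∉ T),
    LinearMap.ker (LocalizedModule.mkLinearMap p.asIdeal.primeCompl M)
  have hN : ∀ m : M, m ∈ N ↔
      ∀ p : PrimeSpectrum A, p ∉ T → ∃ t : p.asIdeal.primeCompl, t • m = 0 := by
    intro m
    simp only [N, Submodule.mem_iInf, LinearMap.mem_ker]
    constructor
    · intro h p hp
      exact (IsLocalizedModule.eq_zero_iff p.asIdeal.primeCompl
        (LocalizedModule.mkLinearMap p.asIdeal.primeCompl M)).mp (h p hp)
    · intro h p hp
      exact (IsLocalizedModule.eq_zero_iff p.asIdeal.primeCompl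
        (LocalizedModule.mkLinearMap p.asIdeal.primeCompl M)).mpr (h p hp)
  refine ⟨M ⧸ N, inferInstance, inferInstance, inferInstance, N.mkQ,
    Submodule.mkQ_surjective N, ?_, ?_⟩
  · intro p hp
    refine ⟨?_, LocalizedModule.map_surjective _ _ (Submodule.mkQ_surjective N)⟩
    rw [injective_iff_map_eq_zero]
    intro a
    refine LocalizedModule.induction_on
      (β := fun a => (LocalizedModule.map p.asIdeal.primeCompl N.mkQ) a = 0 → a = 0) ?_ a
    intro m s ha
    rw [LocalizedModule.map_mk, mk_eq_zero_iff'] at ha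
    obtain ⟨t, ht⟩ := ha
    have h0 : N.mkQ (t • m) = 0 := by
      rw [Submonoid.smul_def, map_smul, ← Submonoid.smul_def]
      exact ht
    have htm : t • m ∈ N := (Submodule.Quotient.mk_eq_zero N).mp h0
    obtain ⟨t', ht'⟩ := (hN _).mp htm p hp
    rw [mk_eq_zero_iff']
    exact ⟨t' * t, by rw [mul_smul]; exact ht'⟩
  · intro p hp
    have hAss : ∀ q ∈ associatedPrimes A (M ⧸ N), ¬ p.asIdeal ≤ q := by
      intro q hq hpq
      obtain ⟨hqprime, mbar, hm⟩ := isAssociatedPrime_iff.1 hq
      obtain ⟨m, rfl⟩ := Submodule.Quotient.mk_surjective N mbar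
      have hqT : (⟨q, hqprime⟩ : PrimeSpectrum A) ∈ T :=
        hT ((PrimeSpectrum.le_iff_specializes p ⟨q, hqprime⟩).mp hpq) hp
      have hmN : m ∈ N := by
        rw [hN]
        intro p' hp'
        have hnle : ¬ q ≤ p'.asIdeal := by
          intro hle
          exact hp' (hT ((PrimeSpectrum.le_iff_specializes ⟨q, hqprime⟩ p').mp hle) hqT)
        obtain ⟨s, hsq, hsp'⟩ := SetLike.not_le_iff_exists.mp hnle
        have hsm : s • m ∈ N := by
          have h5 : s ∈ Submodule.colon (⊥ : Submodule A (M ⧸ N))
              {Submodule.Quotient.mk m} := hm ▸ hsq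
          rw [Submodule.mem_colon_singleton, Submodule.mem_bot, ← Submodule.Quotient.mk_smul,
            Submodule.Quotient.mk_eq_zero] at h5
          exact h5
        obtain ⟨t, ht⟩ := (hN _).mp hsm p' hp'
        refine ⟨t * ⟨s, hsp'⟩, ?_⟩
        rw [mul_smul]
        exact ht
      apply hqprime.ne_top
      rw [hm, Ideal.eq_top_iff_one, Submodule.mem_colon_singleton, one_smul, Submodule.mem_bot,
        Submodule.Quotient.mk_eq_zero]
      exact hmN
    obtain ⟨x, hxp, hx⟩ := exists_regular_of_forall_ass p.asIdeal (M ⧸ N) hAss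
    have hreg : RingTheory.Sequence.IsWeaklyRegular (M ⧸ N) [x] := by
      rw [RingTheory.Sequence.isWeaklyRegular_cons_iff]
      exact ⟨hx, RingTheory.Sequence.IsWeaklyRegular.nil _ _⟩
    have hreg' := RingTheory.Sequence.IsWeaklyRegular.of_isLocalizedModule
      (Localization.AtPrime p.asIdeal) p.asIdeal.primeCompl
      (LocalizedModule.mkLinearMap p.asIdeal.primeCompl (M ⧸ N)) hreg
    have hmem : ∀ r ∈ [x].map (algebraMap A (Localization.AtPrime p.asIdeal)),
        r ∈ IsLocalRing.maximalIdeal (Localization.AtPrime p.asIdeal) := by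
      intro r hr
      simp only [List.map_cons, List.map_nil, List.mem_singleton] at hr
      rw [hr]
      exact (IsLocalization.AtPrime.to_map_mem_maximal_iff _ p.asIdeal x).mpr hxp
    have h9 := length_le_idealDepth'
      (IsLocalRing.maximalIdeal (Localization.AtPrime p.asIdeal))
      (LocalizedModule p.asIdeal.primeCompl (M ⧸ N)) hreg' hmem
    unfold LocCoh.depth
    simpa using h9

end Groth.Agent.S1737
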