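import Groth.Statements.S17386
import Groth.Agent.Lib.BlowUp.Helper18_Strict

set_option autoImplicit false
universe u
open BlowUp

namespace Groth.Agent.S17386

open AlgebraicGeometry CategoryTheory Limits in
/-- Let X be any scheme, J_1, …, J_n quasi-coherent ideals on X with closed subschemes Y_i, and b : X' →
X a blowing up of X in the ideal J_1 + ⋯ + J_n of the intersection of the Y_i. For each i let b_i' :
Y_i' → Y_i be a blowing up of Y_i in the inverse image of J_1 + ⋯ + J_n and k_i : Y_i' → X' the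
morphism with k_i ≫ b = b_i' ≫ (Y_i → X), so that the image of k_i is the strict transform of Y_i.
Then the strict transforms have empty common intersection: no point of X' lies in the image of every
k_i. -/
theorem result
    {X X' : Scheme.{u}} {n : ℕ} (𝓙 : Fin n → X.IdealSheafData) (b : X' ⟶ X)
    (hb : BlowUp.IsBlowUp b (⨆ i, 𝓙 i))
    (Y' : Fin n → Scheme.{u}) (b' : ∀ i, Y' i ⟶ (𝓙 i).subscheme)
    (hb' : ∀ i, BlowUp.IsBlowUp (b' i) ((⨆ j, 𝓙 j).comap (𝓙 i).subschemeι))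
    (k : ∀ i, Y' i ⟶ X') (hk : ∀ i, k i ≫ b = b' i ≫ (𝓙 i).subschemeι) :
    (⋂ i, Set.range (fun y => k i y)) = (∅ : Set X') := by
  rw [Set.eq_empty_iff_forall_notMem]
  intro x' hx'
  rw [Set.mem_iInter] at hx'
  obtain ⟨V, hV, hxV, -⟩ := TopologicalSpace.Opens.isBasis_iff_nbhd.1 X.isBasis_affineOpens
    (TopologicalSpace.Opens.mem_top (b x'))
  obtain ⟨V', hxV', hV'V, d, hd, hId⟩ :=
    Groth.Agent.Lib.BlowUp.exists_le_of_isEffCartierIdeal hb.1 x' (b ⁻¹ᵁ V) hxV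
  let φ : Γ(X, V) →+* Γ(X', V'.1) := (b.appLE V V'.1 hV'V).hom
  let K : Fin n → Ideal Γ(X', V'.1) := fun i => ((𝓙 i).ideal ⟨V, hV⟩).map φ
  have hsup : ⨆ i, K i = Ideal.span {d} := by
    rw [← hId, Groth.Agent.Lib.Helper20.ideal_comap b (⨆ i, 𝓙 i) V' ⟨V, hV⟩ hV'V,
      Scheme.IdealSheafData.ideal_iSup, iSup_apply, Ideal.map_iSup]
  -- the prime of `x'`
  let 𝔭 : Ideal Γ(X', V'.1) :=
    (IsLocalRing.maximalIdeal (X'.presheaf.stalk x')).comap (X'.presheaf.germ V'.1 x' hxV').hom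
  have h𝔭 : 𝔭.IsPrime := Ideal.comap_isPrime _ _
  -- some colon ideal is not contained in `𝔭`
  have hex : ∃ i c, d * c ∈ K i ∧ c ∉ 𝔭 := by
    by_contra hall
    push Not at hall
    have hle : ∀ i, K i ≤ Ideal.span {d} * 𝔭 := by
      intro i z hz
      have hz' : z ∈ Ideal.span {d} := by
        rw [← hsup]; exact (le_iSup K i) hz
      obtain ⟨c, rfl⟩ := Ideal.mem_span_singleton'.1 hz'
      have hcd : c * d = d * c := mul_comm _ _
      rw [hcd] at hz ⊢
      exact Ideal.mul_mem_mul (Ideal.mem_span_singleton_self d) (hall i c hz)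
    have h1 : Ideal.span {d} ≤ Ideal.span {d} * 𝔭 := by
      conv_lhs => rw [← hsup]
      exact iSup_le hle
    obtain ⟨c, hc, hdc⟩ := Ideal.mem_span_singleton_mul.1 (h1 (Ideal.mem_span_singleton_self d))
    have h2 : d * (c - 1) = 0 := by rw [mul_sub, hdc, mul_one, sub_self]
    have h3 : c - 1 = 0 := (mem_nonZeroDivisors_iff.1 hd).1 _ h2
    have h4 : c = 1 := sub_eq_zero.1 h3
    exact h𝔭.ne_top ((Ideal.eq_top_iff_one _).2 (h4 ▸ hc))
  obtain ⟨i, c, hdc, hc⟩ := hex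
  -- the basic open `D(c)` contains `x'`
  have hxc : x' ∈ X'.basicOpen c := by
    rw [Scheme.mem_basicOpen _ _ _ hxV']
    by_contra hnu
    exact hc ((IsLocalRing.mem_maximalIdeal _).2 hnu)
  have hV'' : IsAffineOpen (X'.basicOpen c) := V'.2.basicOpen c
  have hle'' : X'.basicOpen c ≤ V'.1 := X'.basicOpen_le c
  have hV''V : X'.basicOpen c ≤ b ⁻¹ᵁ V := hle''.trans hV'V
  refine Groth.Agent.Lib.BlowUp.not_ideal_comap_le_map_of_meets (𝓙 i) (⨆ j, 𝓙 j) b (b' i)
    (hb' i).1 (k i) (hk i) ⟨V, hV⟩ ⟨X'.basicOpen c, hV''⟩ hV''V ?_ ?_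
  · obtain ⟨y, hy⟩ := hx' i
    exact ⟨x', ⟨y, hy⟩, hxc⟩
  · -- the ideal on `D(c)`
    let ρ : Γ(X', V'.1) →+* Γ(X', X'.basicOpen c) := (X'.presheaf.map (homOfLE hle'').op).hom
    have h1 := ((⨆ j, 𝓙 j).comap b).map_ideal (U := ⟨X'.basicOpen c, hV''⟩) (V := V') hle''
    rw [← h1, hId, Ideal.map_span, Set.image_singleton, Ideal.span_singleton_le_iff_mem]
    have hu : IsUnit (ρ c) := X'.toRingedSpace.isUnit_res_basicOpen c
    have h2 : ρ (d * c) ∈ ((𝓙 i).ideal ⟨V, hV⟩).map (b.appLE V (X'.basicOpen c) hV''V).hom := by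
      have h3 : ρ (d * c) ∈ (K i).map ρ := Ideal.mem_map_of_mem _ hdc
      rw [Ideal.map_map] at h3
      have h4 : ρ.comp φ = (b.appLE V (X'.basicOpen c) hV''V).hom := by
        rw [← CommRingCat.hom_comp, Scheme.Hom.appLE_map]
      rw [h4] at h3
      exact h3
    rw [map_mul] at h2
    obtain ⟨u, hu'⟩ := hu
    have h5 : ρ d = ρ d * ρ c * ↑u⁻¹ := by
      rw [mul_assoc, ← hu', Units.mul_inv, mul_one]
    change ρ d ∈ _
    rw [h5]
    exact Ideal.mul_mem_right _ _ h2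

end Groth.Agent.S17386
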