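import Groth.Statements.S17411
import Mathlib
import Groth.Agent.Lib.Helper21.DominantMaximal
-- import your own Groth.Agent.* helpers here

set_option autoImplicit false
universe u
open CategoryTheory AlgebraicGeometry
open Prym5

namespace Groth.Agent.S17411

/-- Let k be an algebraically closed field of characteristic zero and X, Y, Z schemes of finite type
over k, with Y and Z irreducible of the same dimension, η : Y → Z a dominant k-morphism and ρ : X →
Y a k-morphism. Then the composite ρ ≫ η is dominant exactly when ρ is dominant. (The published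
statement concerns the forgetful map from the moduli space of étale double covers of genus-five
curves to the moduli space of genus-five curves, both irreducible of dimension 12, and a morphism
into the former; its argument uses only the hypotheses kept here.) -/
theorem result (k : Type u) [Field k] [IsAlgClosed k]
    [CharZero k] (X Y Z : Scheme.{u}) [X.Over (Spec (CommRingCat.of k))] [Y.Over (Spec (CommRingCat.of k))]
    [Z.Over (Spec (CommRingCat.of k))]
    [LocallyOfFiniteType (X ↘ Spec (CommRingCat.of k))] [QuasiCompact (X ↘ Spec (CommRingCat.of k))]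
    [LocallyOfFiniteType (Y ↘ Spec (CommRingCat.of k))] [QuasiCompact (Y ↘ Spec (CommRingCat.of k))]
    [LocallyOfFiniteType (Z ↘ Spec (CommRingCat.of k))] [QuasiCompact (Z ↘ Spec (CommRingCat.of k))]
    [IrreducibleSpace Y] [IrreducibleSpace Z] (hdim : topologicalKrullDim Y = topologicalKrullDim Z)
    (ρ : X ⟶ Y) [ρ.IsOver (Spec (CommRingCat.of k))] (η : Y ⟶ Z) [η.IsOver (Spec (CommRingCat.of k))]
    [IsDominant η] :
    IsDominant (ρ ≫ η) ↔ IsDominant ρ := by
  constructor
  · intro hdom
    have hlnX : IsLocallyNoetherian X :=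
      LocallyOfFiniteType.isLocallyNoetherian (X ↘ Spec (CommRingCat.of k))
    have hlnY : IsLocallyNoetherian Y :=
      LocallyOfFiniteType.isLocallyNoetherian (Y ↘ Spec (CommRingCat.of k))
    have hlnZ : IsLocallyNoetherian Z :=
      LocallyOfFiniteType.isLocallyNoetherian (Z ↘ Spec (CommRingCat.of k))
    have hcomp : (ρ ≫ η) ≫ (Z ↘ Spec (CommRingCat.of k)) = X ↘ Spec (CommRingCat.of k) := by
      rw [Category.assoc, CategoryTheory.comp_over, CategoryTheory.comp_over]
    have hηover : η ≫ (Z ↘ Spec (CommRingCat.of k)) = Y ↘ Spec (CommRingCat.of k) :=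
      CategoryTheory.comp_over η _
    have hqc : QuasiCompact (ρ ≫ η) := by
      have : QuasiCompact ((ρ ≫ η) ≫ (Z ↘ Spec (CommRingCat.of k))) := by
        rw [hcomp]; infer_instance
      exact QuasiCompact.of_comp (ρ ≫ η) (Z ↘ Spec (CommRingCat.of k))
    have hlftη : LocallyOfFiniteType η :=
      Groth.Agent.Lib.Helper21.FieldDim.locallyOfFiniteType_of_comp_eq
        (Y ↘ Spec (CommRingCat.of k)) (Z ↘ Spec (CommRingCat.of k)) η hηover
    have hmax : ∀ z : Z, z ⤳ genericPoint Z → genericPoint Z ⤳ z :=
      fun z _ => genericPoint_specializes z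
    obtain ⟨x, hx⟩ := Groth.Agent.Lib.Helper21.FieldDim.mem_range_of_maximal_of_denseRange
      (ρ ≫ η) (ρ ≫ η).denseRange hmax
    have hx' : η (ρ x) = genericPoint Z := by
      rw [← Scheme.Hom.comp_apply]; exact hx
    have h1 := Groth.Agent.Lib.Helper21.FieldDim.td_eq_add_tdR (Y ↘ Spec (CommRingCat.of k))
      (Z ↘ Spec (CommRingCat.of k)) η hηover (ρ x)
    have h2 : topologicalKrullDim Z = Groth.Agent.Lib.Helper21.FieldDim.td
        (Z ↘ Spec (CommRingCat.of k)) (genericPoint Z) :=
      Groth.Agent.Lib.Helper21.FieldDim.dim_eq_td_genericPoint _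
    have h3 : topologicalKrullDim Y = Groth.Agent.Lib.Helper21.FieldDim.td
        (Y ↘ Spec (CommRingCat.of k)) (genericPoint Y) :=
      Groth.Agent.Lib.Helper21.FieldDim.dim_eq_td_genericPoint _
    have h4 : Groth.Agent.Lib.Helper21.FieldDim.td (Y ↘ Spec (CommRingCat.of k)) (genericPoint Y) =
        Groth.Agent.Lib.Helper21.FieldDim.td (Z ↘ Spec (CommRingCat.of k)) (genericPoint Z) := by
      have := h3.symm.trans (hdim.trans h2)
      exact_mod_cast this
    have h5 : ρ x = genericPoint Y := by
      by_contra hne
      have := Groth.Agent.Lib.Helper21.FieldDim.td_lt_of_specializes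
        (Y ↘ Spec (CommRingCat.of k)) (genericPoint_specializes (ρ x)) (Ne.symm hne)
      rw [hx'] at h1
      omega
    constructor
    rw [DenseRange, dense_iff_closure_eq, Set.eq_univ_iff_forall]
    intro y
    exact (genericPoint_specializes y).mem_closed isClosed_closure (subset_closure ⟨x, h5⟩)
  · intro hdom
    infer_instance

end Groth.Agent.S17411
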