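import Groth.Statements.S1742
import Groth.Agent.Lib.Helper29.Spread

set_option autoImplicit false
universe u
open LocCoh

namespace Groth.Agent.S1742

/-- Let A be a Noetherian ring, I an ideal, M a finite A-module and p a prime containing I such that the
IA_p-depth of M_p is a finite number e. Then there is an open subset U of Spec A meeting V(p) such
that the IA_q-depth of M_q is at least e for every q in U ∩ V(p). -/
theorem result (A : Type u) [CommRing A] [IsNoetherianRing A] (I : Ideal A) (M : Type u) [AddCommGroup M] [Module A M] [Module.Finite A M] (p : PrimeSpectrum A) (hp : I ≤ p.asIdeal) (e : ℕ) (he : LocCoh.idealDepth (I.map (algebraMap A (Localization.AtPrime p.asIdeal))) (LocalizedModule p.asIdeal.primeCompl M) = e) : ∃ U : Set (PrimeSpectrum A), IsOpen U ∧ (U ∩ PrimeSpectrum.zeroLocus (p.asIdeal : Set A)).Nonempty ∧ ∀ q : PrimeSpectrum A, q ∈ U → p ≤ q → (e : ℕ∞) ≤ LocCoh.idealDepth (I.map (algebraMap A (Localization.AtPrime q.asIdeal))) (LocalizedModule q.asIdeal.primeCompl M) := by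
  have hIM : I.map (algebraMap A (Localization.AtPrime p.asIdeal)) •
      (⊤ : Submodule (Localization.AtPrime p.asIdeal) (LocalizedModule p.asIdeal.primeCompl M)) ≠ ⊤ := by
    intro h
    unfold LocCoh.idealDepth at he
    rw [if_pos h] at he
    exact ENat.top_ne_natCast e he
  obtain ⟨rs', hreg', hmem', -, hlen⟩ := Groth.Agent.Lib.Helper29.DepthLib.exists_maximal_regular
    (I.map (algebraMap A (Localization.AtPrime p.asIdeal))) (LocalizedModule p.asIdeal.primeCompl M) hIM
  rw [he] at hlen
  have hlen' : rs'.length = e := by exact_mod_cast hlen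
  obtain ⟨rs, hrsI, hlen2, hforall⟩ :=
    Groth.Agent.Lib.Helper29.Spread.exists_lift_list p.asIdeal.primeCompl I rs' hmem'
  have hreg'' := Groth.Agent.Lib.Helper29.Spread.isWeaklyRegular_of_forall₂_unit hforall
    (LocalizedModule p.asIdeal.primeCompl M) hreg'
  obtain ⟨g, hgp, hg⟩ := Groth.Agent.Lib.Helper29.Spread.exists_spread p.asIdeal rs M hreg''
  refine ⟨(PrimeSpectrum.basicOpen g : Set (PrimeSpectrum A)), (PrimeSpectrum.basicOpen g).isOpen,
    ⟨p, ?_, ?_⟩, ?_⟩
  · exact hgp
  · rw [PrimeSpectrum.mem_zeroLocus]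
  · intro q hq hpq
    have hgq : g ∉ q.asIdeal := hq
    have hu : IsUnit (algebraMap A (Localization q.asIdeal.primeCompl) g) :=
      IsLocalization.map_units (M := q.asIdeal.primeCompl) _ ⟨g, hgq⟩
    have h1 := hg q.asIdeal.primeCompl hu
    have h2 := Groth.Agent.Lib.Helper29.DepthLib.length_le_idealDepth
      (I.map (algebraMap A (Localization.AtPrime q.asIdeal)))
      (LocalizedModule q.asIdeal.primeCompl M) h1 (by
        intro r hr
        obtain ⟨a, ha, rfl⟩ := List.mem_map.1 hr
        exact Ideal.mem_map_of_mem _ (hrsI a ha))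
    rw [List.length_map, hlen2, hlen'] at h2
    exact h2

end Groth.Agent.S1742
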