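import Groth.Statements.S17428
import Mathlib.RingTheory.AdicCompletion.AsTensorProduct
import Mathlib.RingTheory.Finiteness.Ideal
import Mathlib.RingTheory.RegularLocalRing.Defs

set_option autoImplicit false
universe u
open FrobAlg

namespace Groth.Agent.S17428

open TensorProduct

section Helpers

variable (p : ℕ) [Fact p.Prime] (A : Type u) [CommRing A] [CharP A p]

/-- The identity `Twist p A → A`, as a Frobenius-semilinear map. -/
noncomputable def iota : Twist p A →ₛₗ[frobenius A p] A where
  toFun t := (toTwist p A).symm t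
  map_add' x y := map_add _ x y
  map_smul' a t := by
    show (toTwist p A).symm (a • t) = frobenius A p a • (toTwist p A).symm t
    rw [Algebra.smul_def, map_mul, algebraMap_twist, RingEquiv.symm_apply_apply, frobenius_def,
      smul_eq_mul]

variable {A} (I : Ideal A)

theorem smul_top_le_comap (n : ℕ) :
    (I ^ n • ⊤ : Submodule A (Twist p A)) ≤
      Submodule.comap (iota p A) (I ^ n • ⊤ : Ideal A) := by
  rw [Submodule.smul_le]
  intro r hr t _
  rw [Submodule.mem_comap, map_smulₛₗ]
  refine Submodule.smul_mem_smul ?_ Submodule.mem_top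
  rw [frobenius_def]
  exact Ideal.pow_mem_of_mem _ hr p (Fact.out : p.Prime).pos

/-- The comparison map on quotients. -/
noncomputable def q (n : ℕ) : (Twist p A ⧸ (I ^ n • ⊤ : Submodule A (Twist p A))) →ₛₗ[frobenius A p]
    (A ⧸ (I ^ n • ⊤ : Ideal A)) :=
  Submodule.mapQ _ _ (iota p A) (smul_top_le_comap p I n)

theorem q_mk (n : ℕ) (t : Twist p A) :
    q p I n (Submodule.Quotient.mk t) = Submodule.Quotient.mk ((toTwist p A).symm t) := rfl

/-- The Frobenius power of `I ^ n`, as an ideal of `A`. -/
def J (n : ℕ) : Ideal A :=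
  Ideal.comap (toTwist p A : A →+* Twist p A) (Ideal.map (algebraMap A (Twist p A)) (I ^ n))

theorem mem_J_iff (n : ℕ) (a : A) :
    a ∈ J p I n ↔ toTwist p A a ∈ (I ^ n • ⊤ : Submodule A (Twist p A)) := by
  rw [Ideal.smul_top_eq_map]
  rfl

theorem exists_c [IsNoetherianRing A] (n : ℕ) : ∃ c, n ≤ c ∧ I ^ c ≤ J p I n := by
  have h1 : I ^ n ≤ (J p I n).radical := by
    intro r hr
    refine ⟨p, ?_⟩
    show toTwist p A (r ^ p) ∈ Ideal.map (algebraMap A (Twist p A)) (I ^ n)
    rw [← algebraMap_twist]
    exact Ideal.mem_map_of_mem _ hr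
  obtain ⟨k, hk⟩ := Ideal.exists_pow_le_of_le_radical_of_fg h1 (IsNoetherian.noetherian _)
  refine ⟨n * k + n, Nat.le_add_left _ _, ?_⟩
  rw [← pow_mul] at hk
  exact (Ideal.pow_le_pow_right (Nat.le_add_right _ _)).trans hk

end Helpers

section Main

variable (p : ℕ) [Fact p.Prime] {A : Type u} [CommRing A] [CharP A p] (I : Ideal A)
  [CharP (AdicCompletion I A) p]

theorem relFrob_tmul (b : AdicCompletion I A) (t : Twist p A) :
    relFrob p A (AdicCompletion I A) (b ⊗ₜ[A] t) =
      b ^ p * algebraMap A (AdicCompletion I A) ((toTwist p A).symm t) := by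
  rfl

theorem relFrob_val (z : AdicCompletion I A ⊗[A] Twist p A) (n : ℕ) :
    (relFrob p A (AdicCompletion I A) z).val n =
      q p I n ((AdicCompletion.ofTensorProduct I (Twist p A) z).val n) := by
  induction z using TensorProduct.induction_on with
  | zero => simp
  | add x y hx hy =>
    rw [map_add, map_add, AdicCompletion.val_add_apply, AdicCompletion.val_add_apply, map_add,
      hx, hy]
  | tmul b t =>
    rw [relFrob_tmul, AdicCompletion.ofTensorProduct_tmul, AdicCompletion.smul_eval]
    obtain ⟨β, hβ⟩ := Ideal.Quotient.mk_surjective (b.val n)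
    have h1 : (b ^ p * algebraMap A (AdicCompletion I A) ((toTwist p A).symm t)).val n =
        (b.val n) ^ p * Ideal.Quotient.mk _ ((toTwist p A).symm t) := rfl
    have h2 : (AdicCompletion.of I (Twist p A) t).val n = Submodule.Quotient.mk t := rfl
    rw [h1, h2, ← hβ]
    have h3 : (Ideal.Quotient.mk (I ^ n • ⊤ : Ideal A) β) •
        (Submodule.Quotient.mk t : Twist p A ⧸ (I ^ n • ⊤ : Submodule A (Twist p A))) =
        Submodule.Quotient.mk (β • t) := rfl
    rw [h3, q_mk, ← map_pow, ← map_mul]
    have h4 : (toTwist p A).symm (β • t) = β ^ p * (toTwist p A).symm t := by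
      rw [Algebra.smul_def, map_mul, algebraMap_twist, RingEquiv.symm_apply_apply]
    rw [h4]
    rfl

theorem rep_sub_mem (x : AdicCompletion I A) {k l : ℕ} (hkl : k ≤ l) (a b : A)
    (ha : (Submodule.Quotient.mk a : A ⧸ (I ^ k • ⊤ : Ideal A)) = x.val k)
    (hb : (Submodule.Quotient.mk b : A ⧸ (I ^ l • ⊤ : Ideal A)) = x.val l) :
    a - b ∈ I ^ k := by
  have h1 : x.val k = (Submodule.Quotient.mk b : A ⧸ (I ^ k • ⊤ : Ideal A)) := by
    rw [← AdicCompletion.transitionMap_comp_eval_apply I A hkl x, ← hb]
    rfl
  rw [h1, Submodule.Quotient.eq] at ha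
  simpa using ha

end Main

/-- Let p be a prime, A a regular local ring of characteristic p whose absolute Frobenius a ↦ a^p is a
finite ring homomorphism, I an ideal of A and Â the I-adic completion of A. Then Spec Â → Spec A is
relatively perfect: the relative Frobenius Â ⊗_{A,Frob} A → Â, b ⊗ a ↦ b^p a, is bijective. (Â is
also flat over A since A is Noetherian, so the morphism is flat and relatively perfect. The instance
hypothesis that Â has characteristic p holds as soon as I ≠ A.) -/
theorem result (p : ℕ) [Fact p.Prime]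
    (A : Type u) [CommRing A] [IsRegularLocalRing A] [CharP A p] (hF : (frobenius A p).Finite)
    (I : Ideal A) [CharP (AdicCompletion I A) p] :
    Function.Bijective (FrobAlg.relFrob p A (AdicCompletion I A)) := by
  have : IsNoetherianRing A := inferInstance
  have hfin : Module.Finite A (Twist p A) := hF
  have hbij := AdicCompletion.ofTensorProduct_bijective_of_finite_of_isNoetherian I (Twist p A)
  choose c hc1 hc2 using exists_c p I
  constructor
  · rw [injective_iff_map_eq_zero]
    intro z hz
    apply hbij.1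
    rw [map_zero]
    apply AdicCompletion.ext
    intro n
    rw [AdicCompletion.val_zero_apply]
    obtain ⟨y, hy⟩ : ∃ y, y = AdicCompletion.ofTensorProduct I (Twist p A) z := ⟨_, rfl⟩
    rw [← hy]
    have hm := relFrob_val p I z (c n)
    rw [hz, AdicCompletion.val_zero_apply, ← hy] at hm
    obtain ⟨t, ht⟩ := Submodule.Quotient.mk_surjective _ (y.val (c n))
    rw [← ht, q_mk] at hm
    have ht1 : (toTwist p A).symm t ∈ I ^ (c n) := by
      have := (Submodule.Quotient.mk_eq_zero _).1 hm.symm
      simpa using this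
    have ht2 : t ∈ (I ^ n • ⊤ : Submodule A (Twist p A)) := by
      have := hc2 n ht1
      rw [mem_J_iff, RingEquiv.apply_symm_apply] at this
      exact this
    rw [← AdicCompletion.transitionMap_comp_eval_apply I (Twist p A) (hc1 n) y, ← ht]
    show (Submodule.Quotient.mk t : Twist p A ⧸ (I ^ n • ⊤ : Submodule A (Twist p A))) = 0
    exact (Submodule.Quotient.mk_eq_zero _).2 ht2
  · intro x
    have hrep : ∀ n, ∃ a : A, (Submodule.Quotient.mk a : A ⧸ (I ^ (c n) • ⊤ : Ideal A)) =
        x.val (c n) := fun n => Submodule.Quotient.mk_surjective _ _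
    choose a ha using hrep
    have hkey : ∀ {m n : ℕ}, m ≤ n → toTwist p A (a n) - toTwist p A (a m) ∈
        (I ^ m • ⊤ : Submodule A (Twist p A)) := by
      intro m n hmn
      rw [← map_sub]
      rcases le_total (c m) (c n) with h | h
      · have h1 : a m - a n ∈ I ^ (c m) := rep_sub_mem I x h _ _ (ha m) (ha n)
        have h2 : a n - a m ∈ I ^ (c m) := by
          rw [← neg_sub]; exact neg_mem h1
        exact (mem_J_iff p I m _).1 (hc2 m h2)
      · have h1 : a n - a m ∈ I ^ (c n) := rep_sub_mem I x h _ _ (ha n) (ha m)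
        exact Submodule.pow_smul_top_le I (Twist p A) hmn ((mem_J_iff p I n _).1 (hc2 n h1))
    let y : AdicCompletion I (Twist p A) :=
      ⟨fun n => Submodule.Quotient.mk (toTwist p A (a n)), fun {m n} hmn => by
        show (Submodule.Quotient.mk (toTwist p A (a n)) :
          Twist p A ⧸ (I ^ m • ⊤ : Submodule A (Twist p A))) = Submodule.Quotient.mk _
        rw [Submodule.Quotient.eq]
        exact hkey hmn⟩
    obtain ⟨z, hz⟩ := hbij.2 y
    refine ⟨z, ?_⟩
    apply AdicCompletion.ext
    intro n
    rw [relFrob_val, hz]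
    show q p I n (Submodule.Quotient.mk (toTwist p A (a n))) = x.val n
    rw [q_mk, RingEquiv.symm_apply_apply,
      ← AdicCompletion.transitionMap_comp_eval_apply I A (hc1 n) x, ← ha n]
    rfl

end Groth.Agent.S17428
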