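import Groth.Statements.S1744
import Groth.Agent.Lib.Helper58.ExtUniv
-- import your own Groth.Agent.* helpers here

set_option autoImplicit false
universe u
open CategoryTheory
attribute [local instance] HasDerivedCategory.standard
open LocCoh

namespace Groth.Agent.S1744

/-- Let I be an ideal of a Noetherian ring A and e a natural number with cd(A, I) ≤ e. For every n ≥ 1
there is m > n such that for every A-module N and every i > e, precomposing with A/I^m → A/I^n kills
every map A/I^n → N[i] in D(A), i.e. the transition maps annihilate Ext^i_A(A/I^n, N) for i > e. -/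
theorem result (A : Type u) [CommRing A] [IsNoetherianRing A] (I : Ideal A) (e : ℕ) (he : LocCoh.CdLE A I e) (n : ℕ) (hn : 1 ≤ n) : ∃ (m : ℕ) (hm : n < m), ∀ (N : Type u) [AddCommGroup N] [Module A N] (i : ℕ), e < i → ∀ φ : Dual.inD A (A ⧸ I ^ n) ⟶ (Dual.inD A N)⟦(i : ℤ)⟧, (DerivedCategory.singleFunctor (ModuleCat.{u} A) 0).map (ModuleCat.ofHom (Submodule.mapQ (I ^ m) (I ^ n) LinearMap.id (Ideal.pow_le_pow_right (Nat.le_of_lt hm)))) ≫ φ = 0 := by
  obtain ⟨m, hm, h⟩ := Groth.Agent.Lib.Helper58.ExtUniv.exists_uniform I e he n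
  refine ⟨m, hm, ?_⟩
  intro N _ _ i hi φ
  have h1 := h (ModuleCat.of A N) i hi (CategoryTheory.Abelian.Ext.homEquiv.symm φ)
  have h2 := congrArg CategoryTheory.Abelian.Ext.hom h1
  rw [CategoryTheory.Abelian.Ext.comp_hom, CategoryTheory.Abelian.Ext.mk₀_hom,
    CategoryTheory.Abelian.Ext.zero_hom, CategoryTheory.ShiftedHom.mk₀_comp] at h2
  have h3 : (CategoryTheory.Abelian.Ext.homEquiv.symm φ).hom = φ := Equiv.apply_symm_apply _ _
  rw [h3] at h2
  exact h2

end Groth.Agent.S1744
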