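import Groth.Statements.S17441
import Mathlib
import Groth.Agent.Lib.QCoh.Helper18_ZClosStalk

set_option autoImplicit false
universe u
open CategoryTheory AlgebraicGeometry
open DefoSh

namespace Groth.Agent.S17441
open CategoryTheory AlgebraicGeometry
set_option linter.style.haveILetI false

theorem nak_surj {A M : Type*} [CommRing A] [AddCommGroup M] [Module A M] (m : Ideal A) (n : ℕ)
    (hm : m ^ n = ⊥) (N : Submodule A M) (h : ⊤ ≤ N ⊔ m • (⊤ : Submodule A M)) : N = ⊤ := by
  have key : ∀ k : ℕ, (⊤ : Submodule A M) ≤ N ⊔ m ^ k • (⊤ : Submodule A M) := by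
    intro k
    induction k with
    | zero => simp
    | succ k ih =>
      calc ⊤ ≤ N ⊔ m ^ k • ⊤ := ih
        _ ≤ N ⊔ m ^ k • (N ⊔ m • ⊤) := sup_le_sup_left (Submodule.smul_mono le_rfl h) _
        _ = N ⊔ (m ^ k • N ⊔ m ^ k • m • ⊤) := by rw [Submodule.smul_sup]
        _ ≤ N ⊔ m ^ (k+1) • ⊤ := by
          rw [← Submodule.mul_smul, ← pow_succ]
          exact sup_le le_sup_left (sup_le (le_sup_of_le_left Submodule.smul_le_right) le_sup_right)
  have := key n
  rw [hm, Submodule.bot_smul, sup_bot_eq] at this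
  exact top_le_iff.mp this

theorem nak_inj {A M : Type*} [CommRing A] [AddCommGroup M] [Module A M] (m : Ideal A) (n : ℕ)
    (hm : m ^ n = ⊥) (K : Submodule A M) (h : K ≤ m • K) : K = ⊥ := by
  have key : ∀ k : ℕ, K ≤ m ^ k • K := by
    intro k
    induction k with
    | zero => simp
    | succ k ih =>
      calc K ≤ m ^ k • K := ih
        _ ≤ m ^ k • (m • K) := Submodule.smul_mono le_rfl h
        _ = m ^ (k+1) • K := by rw [← Submodule.mul_smul, ← pow_succ]
  have := key n
  rw [hm, Submodule.bot_smul] at this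
  exact le_bot_iff.mp this

theorem flat_ker {A M M' : Type*} [CommRing A] [AddCommGroup M] [Module A M]
    [AddCommGroup M'] [Module A M'] [Module.Flat A M'] (m : Ideal A)
    (φ : M →ₗ[A] M') (hφ : Function.Surjective φ) (v : M) (hv : v ∈ m • (⊤ : Submodule A M))
    (hv0 : φ v = 0) : v ∈ m • LinearMap.ker φ := by
  classical
  have h1 : (⊤ : Submodule A M) = Submodule.span A (Set.range (id : M → M)) := by simp
  rw [h1, Submodule.mem_ideal_smul_span_iff_exists_sum] at hv
  obtain ⟨a, ha, hav⟩ := hv
  -- index type: support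
  let ι := {x // x ∈ a.support}
  let f : ι → A := fun i => a i.1
  let x : ι → M := fun i => i.1
  have hsum : ∑ i, f i • x i = v := by
    rw [← hav, Finsupp.sum]
    exact Finset.sum_coe_sort a.support (fun x => a x • x)
  have hrel : ∑ i, f i • φ (x i) = 0 := by
    rw [← hv0, ← hsum, map_sum]
    simp
  obtain ⟨k, a', y, hy, hfa⟩ := Module.Flat.isTrivialRelation_of_sum_smul_eq_zero hrel
  choose z hz using fun j => hφ (y j)
  have hk : ∀ i, x i - ∑ j, a' i j • z j ∈ LinearMap.ker φ := by
    intro i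
    rw [LinearMap.mem_ker, map_sub, map_sum, sub_eq_zero]
    have := hy i
    simp only at this
    rw [this]
    simp [hz]
  have hv' : v = ∑ i, f i • (x i - ∑ j, a' i j • z j) := by
    have h2 : ∑ i, f i • ∑ j, a' i j • z j = 0 := by
      simp_rw [Finset.smul_sum, smul_smul]
      rw [Finset.sum_comm]
      simp_rw [← Finset.sum_smul, hfa, zero_smul, Finset.sum_const_zero]
    simp_rw [smul_sub, Finset.sum_sub_distrib, h2, sub_zero, hsum]
  rw [hv']
  exact Submodule.sum_mem _ fun i _ => Submodule.smul_mem_smul (ha i.1) (hk i)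

theorem nak_bij {A : Type*} [CommRing A] (m : Ideal A) (n : ℕ) (hm : m ^ n = ⊥)
    {M M' E : Type*} [AddCommGroup M] [Module A M] [AddCommGroup M'] [Module A M'] [AddCommGroup E]
    [Module.Flat A M']
    (φ : M →ₗ[A] M') (π : M →+ E) (π' : M' →+ E)
    (hπ : ∀ v, π' (φ v) = π v)
    (hsurj : Function.Surjective π)
    (hker : ∀ v, π v = 0 → v ∈ m • (⊤ : Submodule A M))
    (hker' : ∀ v, π' v = 0 → v ∈ m • (⊤ : Submodule A M')) :
    Function.Bijective φ := by
  have hs : Function.Surjective φ := by
    rw [← LinearMap.range_eq_top]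
    apply nak_surj m n hm
    intro v' _
    obtain ⟨v, hv⟩ := hsurj (π' v')
    have h1 : v' - φ v ∈ m • (⊤ : Submodule A M') := by
      apply hker'
      rw [map_sub, hπ, hv, sub_self]
    have : v' = φ v + (v' - φ v) := by abel
    rw [this]
    exact Submodule.add_mem_sup (LinearMap.mem_range_self φ v) h1
  refine ⟨?_, hs⟩
  rw [← LinearMap.ker_eq_bot]
  apply nak_inj m n hm
  intro v hv
  rw [LinearMap.mem_ker] at hv
  apply flat_ker m φ hs v _ hv
  apply hker
  rw [← hπ, hv, map_zero]


theorem main (k : Type u) [Field k] (X : Scheme.{u})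
    [X.Over (Spec (CommRingCat.of k))] (E : X.Modules) (A : ArtFun.Art k k)
    (D D' : DefoSh.Defo E A) (φ : D.sheaf ⟶ D'.sheaf)
    (hact : ∀ a : A, D.act a ≫ φ = φ ≫ D'.act a) (hπ : φ ≫ D'.π = D.π) :
    IsIso φ := by
  apply Groth.Agent.Lib.QCoh.ZClosLib.isIso_of_forall_stalkMap_bijective
  intro p
  letI := D.stalkMod p
  letI := D'.stalkMod p
  haveI := D'.flat p
  obtain ⟨n, hn⟩ : ∃ n : ℕ, IsLocalRing.maximalIdeal A ^ n = ⊥ := by
    have h1 := IsArtinianRing.isNilpotent_jacobson_bot (R := A)
    rw [IsLocalRing.jacobson_eq_maximalIdeal ⊥ bot_ne_top] at h1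
    obtain ⟨n, hn⟩ := h1
    exact ⟨n, hn⟩
  let φp : D.sheaf.presheaf.stalk p →ₗ[A] D'.sheaf.presheaf.stalk p :=
    { toFun := RefHull.stalkMapₗ φ p
      map_add' := map_add _
      map_smul' := fun a v => by
        change RefHull.stalkMapₗ φ p (RefHull.stalkMapₗ (D.act a) p v) =
          RefHull.stalkMapₗ (D'.act a) p (RefHull.stalkMapₗ φ p v)
        rw [← DefoSh.stalkMapₗ_comp_apply, ← DefoSh.stalkMapₗ_comp_apply, hact] }
  have := nak_bij (IsLocalRing.maximalIdeal A) n hn φp
    (RefHull.stalkMapₗ D.π p).toAddMonoidHom (RefHull.stalkMapₗ D'.π p).toAddMonoidHom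
    (fun v => by
      change RefHull.stalkMapₗ D'.π p (RefHull.stalkMapₗ φ p v) = RefHull.stalkMapₗ D.π p v
      rw [← DefoSh.stalkMapₗ_comp_apply, hπ])
    (D.surj p) (D.ker_le p) (D'.ker_le p)
  exact this

end Groth.Agent.S17441

namespace Groth.Agent.S17441

/-- Let k be a field, X a scheme over k, E an O_X-module and A a local Artinian k-algebra with residue
field k. If D and D′ are deformations of E over A (O_X-modules with an action of A, flat over A
stalkwise, with reductions π, π′ to E whose stalkwise kernels are m_A times the stalk), then every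
O_X-linear map φ : D.sheaf → D′.sheaf that commutes with the actions of A and satisfies φ ≫ π′ = π
is an isomorphism. The printed remark is the first-order case A = k[ε]; this row states it for every
local Artinian k-algebra A with residue field k. -/
theorem result (k : Type u) [Field k] (X : Scheme.{u})
    [X.Over (Spec (CommRingCat.of k))] (E : X.Modules) (A : ArtFun.Art k k)
    (D D' : DefoSh.Defo E A) (φ : D.sheaf ⟶ D'.sheaf)
    (hact : ∀ a : A, D.act a ≫ φ = φ ≫ D'.act a) (hπ : φ ≫ D'.π = D.π) :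
    IsIso φ := by

  exact Groth.Agent.S17441.main k X E A D D' φ hact hπ

end Groth.Agent.S17441
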