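import Groth.Statements.S17444
-- import your own Groth.Agent.* helpers here

set_option autoImplicit false
universe u v
open SSRed

namespace Groth.Agent.S17444

/-- Let K be a field of characteristic zero, V a K-vector space and g a K-linear endomorphism of V such
that g - 1 is nilpotent (a unipotent automorphism). Then for every integer n > 0 the endomorphisms
gⁿ - 1 and g - 1 have the same kernel: a vector fixed by gⁿ is fixed by g. (The published statement
assumes V finite-dimensional; this row allows any V.) -/
theorem result (K : Type u) (V : Type v) [Field K] [CharZero K]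
    [AddCommGroup V] [Module K V] (g : Module.End K V) (hg : IsNilpotent (g - 1)) (n : ℕ) (hn : 0 < n) :
    LinearMap.ker (g ^ n - 1) = LinearMap.ker (g - 1) := by
  have hmul : (∑ i ∈ Finset.range n, g ^ i) * (g - 1) = g ^ n - 1 := geom_sum_mul g n
  have hcomm : ∀ i : ℕ, Commute (g ^ i - 1) (g - 1) := fun i =>
    ((Commute.refl g).pow_left i).sub_left (Commute.one_left _) |>.sub_right (Commute.one_right _)
  have hnil_i : ∀ i : ℕ, IsNilpotent (g ^ i - 1) := by
    intro i
    rw [← geom_sum_mul]
    refine Commute.isNilpotent_mul_left ?_ hg
    exact Commute.sum_left _ _ _ (fun j _ => ((Commute.refl g).pow_left j).sub_right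
      (Commute.one_right _))
  have hnil : IsNilpotent ((∑ i ∈ Finset.range n, g ^ i) - (n : Module.End K V)) := by
    have h1 : (∑ i ∈ Finset.range n, g ^ i) - (n : Module.End K V)
        = ∑ i ∈ Finset.range n, (g ^ i - 1) := by
      simp [Finset.sum_sub_distrib]
    rw [h1]
    refine Commute.isNilpotent_sum (fun i _ => hnil_i i) ?_
    intro i j _ _
    exact (((Commute.refl g).pow_pow i j).sub_left (Commute.one_left _)).sub_right
      (Commute.one_right _)
  have hunit_n : IsUnit (n : Module.End K V) := by
    have h2 : (n : Module.End K V) = algebraMap K (Module.End K V) (n : K) := by simp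
    rw [h2]
    exact (IsUnit.mk0 _ (Nat.cast_ne_zero.mpr hn.ne')).map _
  have hu : IsUnit (∑ i ∈ Finset.range n, g ^ i) := by
    have h3 := hnil.isUnit_add_left_of_commute hunit_n
      ((Nat.cast_commute n _).symm)
    simpa using h3
  rw [← hmul, Module.End.mul_eq_comp]
  apply LinearMap.ker_comp_of_ker_eq_bot
  exact LinearMap.ker_eq_bot.mpr ((Module.End.isUnit_iff _).mp hu).injective

end Groth.Agent.S17444
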