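import Groth.Statements.S17446
import Mathlib

set_option autoImplicit false
universe u v
open SSRed

namespace Groth.Agent.S17446

section Aux

variable {K : Type u} {V : Type v} [Field K] [AddCommGroup V] [Module K V]

/-- the set of `h - 1`, `h ∈ H` -/
def Dset (H : Subgroup (V ≃ₗ[K] V)) : Set (Module.End K V) :=
  {φ | ∃ h ∈ H, φ = ((h : V ≃ₗ[K] V) : Module.End K V) - 1}

def Unip (H : Subgroup (V ≃ₗ[K] V)) (n : ℕ) : Prop :=
  ∀ l : List (Module.End K V), l.length = n → (∀ φ ∈ l, φ ∈ Dset H) → l.prod = 0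

theorem unip_of_fin (H : Subgroup (V ≃ₗ[K] V)) (n : ℕ)
    (h : ∀ f : Fin n → ↥H,
      (List.ofFn fun i => (((f i : ↥H) : V ≃ₗ[K] V) : Module.End K V) - 1).prod = 0) :
    Unip H n := by
  intro l hl hmem
  subst hl
  have hch : ∀ i : Fin l.length, ∃ h : ↥H,
      l.get i = ((h : V ≃ₗ[K] V) : Module.End K V) - 1 := by
    intro i
    obtain ⟨h, hh, e⟩ := hmem (l.get i) (List.get_mem l i)
    exact ⟨⟨h, hh⟩, e⟩
  choose f hf using hch
  have h1 := h f
  have e : (List.ofFn fun i => (((f i : ↥H) : V ≃ₗ[K] V) : Module.End K V) - 1) = l := by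
    conv_rhs => rw [← List.ofFn_get l]
    congr 1
    funext i
    exact (hf i).symm
  rw [← e]
  exact h1

theorem fin_of_unip (H : Subgroup (V ≃ₗ[K] V)) (n : ℕ) (h : Unip H n) (f : Fin n → ↥H) :
    (List.ofFn fun i => (((f i : ↥H) : V ≃ₗ[K] V) : Module.End K V) - 1).prod = 0 := by
  apply h
  · simp
  · intro φ hφ
    rw [List.mem_ofFn] at hφ
    obtain ⟨i, rfl⟩ := hφ
    exact ⟨f i, (f i).2, rfl⟩

end Aux

section Main

variable {K : Type u} {V : Type v} [Field K] [AddCommGroup V] [Module K V]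
  (H₁ H₂ : Subgroup (V ≃ₗ[K] V))

/-- the filtration by powers of the augmentation ideal of `H₁` -/
noncomputable def Wf : ℕ → Submodule K V
  | 0 => ⊤
  | (j + 1) => ⨆ h : ↥H₁, (Wf j).map ((((h : ↥H₁) : V ≃ₗ[K] V) : Module.End K V) - 1)

theorem Wf_succ (j : ℕ) : Wf H₁ (j + 1) =
    ⨆ h : ↥H₁, (Wf H₁ j).map ((((h : ↥H₁) : V ≃ₗ[K] V) : Module.End K V) - 1) := rfl

theorem Wf_succ_mem {j : ℕ} {h : V ≃ₗ[K] V} (hh : h ∈ H₁) {w : V} (hw : w ∈ Wf H₁ j) :
    h w - w ∈ Wf H₁ (j + 1) := by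
  have h1 : ((((h : V ≃ₗ[K] V) : Module.End K V) - 1) w) ∈
      (Wf H₁ j).map ((((⟨h, hh⟩ : ↥H₁) : V ≃ₗ[K] V) : Module.End K V) - 1) :=
    Submodule.mem_map_of_mem hw
  have h2 := (le_iSup (fun h : ↥H₁ =>
    (Wf H₁ j).map ((((h : ↥H₁) : V ≃ₗ[K] V) : Module.End K V) - 1)) ⟨h, hh⟩) h1
  rw [Wf_succ]
  simpa using h2

theorem Wf_stable (g : V ≃ₗ[K] V) (hg : ∀ h ∈ H₁, g * h * g⁻¹ ∈ H₁) :
    ∀ j, ∀ w ∈ Wf H₁ j, g w ∈ Wf H₁ j := by
  intro j
  induction j with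
  | zero => intro w _; exact Submodule.mem_top
  | succ j ih =>
    intro w hw
    change w ∈ ⨆ h : ↥H₁, _ at hw
    refine Submodule.iSup_induction _ (motive := fun w => g w ∈ Wf H₁ (j + 1)) hw ?_ ?_ ?_
    · rintro h _ ⟨u, hu, rfl⟩
      have h1 : g ((((h : V ≃ₗ[K] V) : Module.End K V) - 1) u) =
          (g * h * g⁻¹ : V ≃ₗ[K] V) (g u) - g u := by
        simp [LinearEquiv.mul_apply, map_sub]
      rw [h1]
      exact Wf_succ_mem H₁ (hg h h.2) (ih u hu)
    · rw [map_zero]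
      exact zero_mem _
    · intro x y hx hy
      rw [map_add]
      exact add_mem hx hy

theorem Wf_anti (j : ℕ) : Wf H₁ (j + 1) ≤ Wf H₁ j := by
  apply iSup_le
  intro h
  rintro _ ⟨u, hu, rfl⟩
  have h1 := Wf_stable H₁ h
    (fun h' hh' => H₁.mul_mem (H₁.mul_mem h.2 hh') (H₁.inv_mem h.2)) j u hu
  simpa using sub_mem h1 hu

theorem Wf_le_span (j : ℕ) :
    Wf H₁ j ≤ Submodule.span K {x | ∃ (l : List (Module.End K V)) (v : V),
      l.length = j ∧ (∀ φ ∈ l, φ ∈ Dset H₁) ∧ x = l.prod v} := by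
  induction j with
  | zero =>
    intro w _
    apply Submodule.subset_span
    exact ⟨[], w, rfl, by simp, by simp⟩
  | succ j ih =>
    apply iSup_le
    intro h
    rw [Submodule.map_le_iff_le_comap]
    refine ih.trans ?_
    rw [Submodule.span_le]
    rintro _ ⟨l, v, hl, hmem, rfl⟩
    apply Submodule.subset_span
    refine ⟨(((h : V ≃ₗ[K] V) : Module.End K V) - 1) :: l, v, by simp [hl], ?_,
      by simp [List.prod_cons, Module.End.mul_apply]⟩
    intro φ hφ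
    rcases List.mem_cons.mp hφ with rfl | hφ
    · exact ⟨h, h.2, rfl⟩
    · exact hmem φ hφ

theorem Wf_eq_bot {n₁ : ℕ} (hU : Unip H₁ n₁) : Wf H₁ n₁ = ⊥ := by
  rw [eq_bot_iff]
  refine (Wf_le_span H₁ n₁).trans ?_
  rw [Submodule.span_le]
  rintro _ ⟨l, v, hl, hmem, rfl⟩
  rw [hU l hl hmem]
  simp

variable (hnorm : ∀ g ∈ H₂, ∀ h ∈ H₁, g * h * g⁻¹ ∈ H₁)

/-- elements acting on the graded pieces like an element of `H₂` -/
def Q (hnorm : ∀ g ∈ H₂, ∀ h ∈ H₁, g * h * g⁻¹ ∈ H₁) : Subgroup (V ≃ₗ[K] V) where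
  carrier := {g | (∀ h ∈ H₁, g * h * g⁻¹ ∈ H₁) ∧ (∀ h ∈ H₁, g⁻¹ * h * g⁻¹⁻¹ ∈ H₁) ∧
    ∃ b ∈ H₂, ∀ j, ∀ w ∈ Wf H₁ j, g w - b w ∈ Wf H₁ (j + 1)}
  one_mem' := by
    refine ⟨by simp, by simp, 1, H₂.one_mem, ?_⟩
    intro j w _
    simp
  mul_mem' := by
    rintro g g' ⟨hg, hgi, b, hb, hgb⟩ ⟨hg', hgi', b', hb', hgb'⟩
    refine ⟨?_, ?_, b * b', H₂.mul_mem hb hb', ?_⟩
    · intro h hh
      have h1 := hg _ (hg' h hh)
      have e : g * g' * h * (g * g')⁻¹ = g * (g' * h * g'⁻¹) * g⁻¹ := by group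
      rw [e]
      exact h1
    · intro h hh
      have h1 := hgi' _ (hgi h hh)
      have e : (g * g')⁻¹ * h * (g * g')⁻¹⁻¹ = g'⁻¹ * (g⁻¹ * h * g⁻¹⁻¹) * g'⁻¹⁻¹ := by group
      rw [e]
      exact h1
    · intro j w hw
      have h1 : b' w ∈ Wf H₁ j := Wf_stable H₁ b' (hnorm b' hb') j w hw
      have h2 := Wf_stable H₁ g hg (j + 1) _ (hgb' j w hw)
      have h3 := hgb j (b' w) h1
      have e : (g * g') w - (b * b') w = g (g' w - b' w) + (g (b' w) - b (b' w)) := by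
        simp [LinearEquiv.mul_apply, map_sub]
      rw [e]
      exact add_mem h2 h3
  inv_mem' := by
    rintro g ⟨hg, hgi, b, hb, hgb⟩
    refine ⟨hgi, by simpa using hg, b⁻¹, H₂.inv_mem hb, ?_⟩
    intro j w hw
    have h1 : b⁻¹ w ∈ Wf H₁ j := Wf_stable H₁ b⁻¹ (hnorm b⁻¹ (H₂.inv_mem hb)) j w hw
    have h2 := hgb j _ h1
    have h3 := Wf_stable H₁ g⁻¹ hgi (j + 1) _ h2
    have e : g⁻¹ w - b⁻¹ w = -(g⁻¹ (g (b⁻¹ w) - b (b⁻¹ w))) := by
      simp [map_sub]
    rw [e]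
    exact neg_mem h3

include hnorm in
theorem sup_le_Q : H₁ ⊔ H₂ ≤ Q H₁ H₂ hnorm := by
  apply sup_le
  · intro g hg
    refine ⟨fun h hh => H₁.mul_mem (H₁.mul_mem hg hh) (H₁.inv_mem hg),
      fun h hh => H₁.mul_mem (H₁.mul_mem (H₁.inv_mem hg) hh) (H₁.inv_mem (H₁.inv_mem hg)),
      1, H₂.one_mem, ?_⟩
    intro j w hw
    simpa using Wf_succ_mem H₁ hg hw
  · intro g hg
    refine ⟨hnorm g hg, hnorm g⁻¹ (H₂.inv_mem hg), g, hg, ?_⟩
    intro j w _
    simp

include hnorm in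
theorem list_step (l : List (Module.End K V)) (hl : ∀ φ ∈ l, φ ∈ Dset (H₁ ⊔ H₂)) :
    ∃ l' : List (Module.End K V), l'.length = l.length ∧ (∀ φ ∈ l', φ ∈ Dset H₂) ∧
      ∀ j, ∀ w ∈ Wf H₁ j, l.prod w ∈ Wf H₁ j ∧ l'.prod w ∈ Wf H₁ j ∧
        l.prod w - l'.prod w ∈ Wf H₁ (j + 1) := by
  induction l with
  | nil =>
    refine ⟨[], rfl, by simp, ?_⟩
    intro j w hw
    simp [hw]
  | cons φ l ih =>
    obtain ⟨l', hlen, hmem', hprop⟩ := ih (fun ψ hψ => hl ψ (List.mem_cons_of_mem _ hψ))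
    obtain ⟨g, hg, rfl⟩ := hl φ List.mem_cons_self
    obtain ⟨hgN, -, b, hb, hgb⟩ := sup_le_Q H₁ H₂ hnorm hg
    refine ⟨(((b : V ≃ₗ[K] V) : Module.End K V) - 1) :: l', by simp [hlen], ?_, ?_⟩
    · intro ψ hψ
      rcases List.mem_cons.mp hψ with rfl | hψ
      · exact ⟨b, hb, rfl⟩
      · exact hmem' ψ hψ
    · intro j w hw
      obtain ⟨hu, hu', hd⟩ := hprop j w hw
      have hgu : g (l.prod w) ∈ Wf H₁ j := Wf_stable H₁ g hgN j _ hu
      have hbu' : b (l'.prod w) ∈ Wf H₁ j := Wf_stable H₁ b (hnorm b hb) j _ hu'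
      have hgd : g (l.prod w - l'.prod w) ∈ Wf H₁ (j + 1) := Wf_stable H₁ g hgN (j + 1) _ hd
      have hgb' := hgb j _ hu'
      refine ⟨?_, ?_, ?_⟩
      · simpa [List.prod_cons, Module.End.mul_apply] using sub_mem hgu hu
      · simpa [List.prod_cons, Module.End.mul_apply] using sub_mem hbu' hu'
      · have e : ((((g : V ≃ₗ[K] V) : Module.End K V) - 1) :: l).prod w -
            ((((b : V ≃ₗ[K] V) : Module.End K V) - 1) :: l').prod w =
            g (l.prod w - l'.prod w) - (l.prod w - l'.prod w) +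
              (g (l'.prod w) - b (l'.prod w)) := by
          simp [List.prod_cons, Module.End.mul_apply, map_sub]
          abel
        rw [e]
        exact add_mem (sub_mem hgd hd) hgb'

include hnorm in
theorem block_step {n₂ : ℕ} (hU₂ : Unip H₂ n₂) (l : List (Module.End K V)) (hlen : l.length = n₂)
    (hl : ∀ φ ∈ l, φ ∈ Dset (H₁ ⊔ H₂)) (j : ℕ) (w : V) (hw : w ∈ Wf H₁ j) :
    l.prod w ∈ Wf H₁ (j + 1) := by
  obtain ⟨l', hlen', hmem', hprop⟩ := list_step H₁ H₂ hnorm l hl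
  obtain ⟨_, _, hd⟩ := hprop j w hw
  rw [hU₂ l' (hlen'.trans hlen) hmem'] at hd
  simpa using hd

include hnorm in
theorem blocks {n₂ : ℕ} (hU₂ : Unip H₂ n₂) :
    ∀ (m : ℕ) (l : List (Module.End K V)), l.length = m * n₂ →
      (∀ φ ∈ l, φ ∈ Dset (H₁ ⊔ H₂)) → ∀ (i : ℕ) (w : V), w ∈ Wf H₁ i → l.prod w ∈ Wf H₁ (i + m) := by
  intro m
  induction m with
  | zero =>
    intro l hlen _ i w hw
    have : l = [] := List.length_eq_zero_iff.mp (by simpa using hlen)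
    subst this
    simpa using hw
  | succ m ih =>
    intro l hlen hl i w hw
    have h1 : l.prod = (l.take n₂).prod * (l.drop n₂).prod := (List.prod_take_mul_prod_drop l n₂).symm
    have hdrop : (l.drop n₂).length = m * n₂ := by
      rw [List.length_drop, hlen]
      rw [Nat.succ_mul]
      omega
    have htake : (l.take n₂).length = n₂ := by
      rw [List.length_take, hlen, Nat.succ_mul]
      omega
    have h2 := ih (l.drop n₂) hdrop (fun φ hφ => hl φ (List.mem_of_mem_drop hφ)) i w hw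
    have h3 := block_step H₁ H₂ hnorm hU₂ (l.take n₂) htake
      (fun φ hφ => hl φ (List.mem_of_mem_take hφ)) (i + m) _ h2
    rw [h1, Module.End.mul_apply]
    exact h3

include hnorm in
theorem unip_sup {n₁ n₂ : ℕ} (hU₁ : Unip H₁ n₁) (hU₂ : Unip H₂ n₂) :
    Unip (H₁ ⊔ H₂) (n₁ * n₂) := by
  intro l hlen hl
  apply LinearMap.ext
  intro w
  have h1 := blocks H₁ H₂ hnorm hU₂ n₁ l hlen hl 0 w (by simp [Wf])
  rw [zero_add, Wf_eq_bot H₁ hU₁] at h1
  simpa using h1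

end Main

/-- Let K be a field, V a finite-dimensional K-vector space and H₁, H₂ subgroups of the group of
K-linear automorphisms of V such that H₂ normalizes H₁. Call the action of a subgroup H unipotent
when, for some n, every product (h₁ - 1)(h₂ - 1)⋯(hₙ - 1) with all hᵢ in H is the zero endomorphism
(equivalently, V has an H-stable flag on whose successive quotients H acts trivially). If H₁ and H₂
act unipotently, then the subgroup generated by H₁ and H₂ acts unipotently. (In the published result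
H₁ and H₂ are the absolute Galois groups of two finite Galois extensions of a strictly henselian
discretely valued field over which an abelian variety becomes semistable, acting on its rational
ℓ-adic Tate module, and the conclusion is semistability over the intersection of the two fields; the
printed argument uses only that H₂ normalizes H₁.) -/
theorem result (K : Type u) (V : Type v) [Field K]
    [AddCommGroup V] [Module K V] [FiniteDimensional K V]
    (H₁ H₂ : Subgroup (V ≃ₗ[K] V)) (hnorm : ∀ g ∈ H₂, ∀ h ∈ H₁, g * h * g⁻¹ ∈ H₁)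
    (h₁ : ∃ n : ℕ, ∀ f : Fin n → ↥H₁,
      (List.ofFn fun i => (((f i : ↥H₁) : V ≃ₗ[K] V) : Module.End K V) - 1).prod = 0)
    (h₂ : ∃ n : ℕ, ∀ f : Fin n → ↥H₂,
      (List.ofFn fun i => (((f i : ↥H₂) : V ≃ₗ[K] V) : Module.End K V) - 1).prod = 0) :
    ∃ n : ℕ, ∀ f : Fin n → ↥(H₁ ⊔ H₂),
      (List.ofFn fun i => (((f i : ↥(H₁ ⊔ H₂)) : V ≃ₗ[K] V) : Module.End K V) - 1).prod = 0 := by
  obtain ⟨n₁, hn₁⟩ := h₁
  obtain ⟨n₂, hn₂⟩ := h₂
  refine ⟨n₁ * n₂, fun f => fin_of_unip _ _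
    (unip_sup H₁ H₂ hnorm (unip_of_fin H₁ n₁ hn₁) (unip_of_fin H₂ n₂ hn₂)) f⟩

end Groth.Agent.S17446
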