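import Groth.Statements.S17462
import Groth.Agent.Lib.Helper96.FinitePart

set_option autoImplicit false
universe u
open CategoryTheory CategoryTheory.Limits AlgebraicGeometry
open Hensel

namespace Groth.Agent.S17462

/-- Let R be a henselian local ring and let X and Y be quasi-finite separated schemes over Spec R
(locally of finite type, quasi-compact, with discrete fibres, separated), with finite parts W_X ⊆ X
and W_Y ⊆ Y (open and closed subsets, finite over Spec R as open subschemes, containing every point
over the closed point). If W ⊆ X ×_R Y is the finite part of the fibre product (same three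
conditions, for the structure morphism of X ×_R Y), then W = W_X ×_R W_Y: a point of X ×_R Y lies in
W if and only if its first projection lies in W_X and its second projection lies in W_Y. -/
theorem result (R : Type u) [CommRing R] [HenselianLocalRing R]
    {X Y : Scheme.{u}} (f : X ⟶ Spec (CommRingCat.of R)) (f' : Y ⟶ Spec (CommRingCat.of R))
    [LocallyQuasiFinite f] [LocallyOfFiniteType f] [QuasiCompact f] [IsSeparated f]
    [LocallyQuasiFinite f'] [LocallyOfFiniteType f'] [QuasiCompact f'] [IsSeparated f']
    (WX : X.Opens) (hWX : (IsClosed (WX : Set ↥X) ∧ IsFinite (WX.ι ≫ f) ∧ ∀ x : ↥X, f.base x = IsLocalRing.closedPoint R → x ∈ WX))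
    (WY : Y.Opens) (hWY : (IsClosed (WY : Set ↥Y) ∧ IsFinite (WY.ι ≫ f') ∧ ∀ x : ↥Y, f'.base x = IsLocalRing.closedPoint R → x ∈ WY))
    (W : (pullback f f').Opens)
    (hW : (IsClosed (W : Set ↥(pullback f f')) ∧ IsFinite (W.ι ≫ (pullback.fst f f' ≫ f)) ∧ ∀ x : ↥(pullback f f'), (pullback.fst f f' ≫ f).base x = IsLocalRing.closedPoint R → x ∈ W))
    (z : ↥(pullback f f')) :
    z ∈ W ↔ ((pullback.fst f f').base z ∈ WX ∧ (pullback.snd f f').base z ∈ WY) := by
  haveI : IsFinite (WX.ι ≫ f) := hWX.2.1
  haveI : IsFinite (WY.ι ≫ f') := hWY.2.1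
  haveI : IsFinite (W.ι ≫ (pullback.fst f f' ≫ f)) := hW.2.1
  constructor
  · intro hz
    refine ⟨?_, ?_⟩
    · exact Groth.Agent.Lib.Helper96.FinitePart.mem_finitePart_of_map
        (pullback.fst f f' ≫ f) f W WX hWX.2.2 (pullback.fst f f') rfl z hz
    · exact Groth.Agent.Lib.Helper96.FinitePart.mem_finitePart_of_map
        (pullback.fst f f' ≫ f) f' W WY hWY.2.2 (pullback.snd f f') pullback.condition.symm z hz
  · rintro ⟨h1, h2⟩
    exact Groth.Agent.Lib.Helper96.FinitePart.mem_finitePart_pullback f f' WX WY W hW.2.2 z h1 h2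

end Groth.Agent.S17462
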