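import Groth.Statements.S17463
import Mathlib

set_option autoImplicit false
universe u v w
open SSRed

namespace Groth.Agent.S17463

/-- Let K be a field of characteristic zero, V a K-vector space, G a group with a K-linear action ρ : G
→ GL(V) such that every ρ(g) is unipotent (ρ(g) - 1 is nilpotent), and H a subgroup of G of finite
index. Then the H-invariants equal the G-invariants: a vector fixed by every element of H is fixed
by every element of G. (In the source G and H are the absolute Galois groups of K and of a finite
extension K', acting unipotently on the rational ℓ-adic Tate module of an abelian variety.) -/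
theorem result (K : Type u) (V : Type v) (G : Type w) [Field K] [CharZero K]
    [AddCommGroup V] [Module K V] [Group G] (ρ : G →* (V ≃ₗ[K] V))
    (hunip : ∀ g : G, IsNilpotent (((ρ g : V ≃ₗ[K] V) : Module.End K V) - 1))
    (H : Subgroup G) [H.FiniteIndex] (v : V) (hv : ∀ h ∈ H, ρ h v = v) (g : G) :
    ρ g v = v := by
  classical
  obtain ⟨n, hn0, -, hn⟩ :=
    Subgroup.exists_pow_mem_of_index_ne_zero (Subgroup.FiniteIndex.index_ne_zero (H := H)) g
  set T : Module.End K V := ((ρ g : V ≃ₗ[K] V) : Module.End K V) with hT
  have hpow : ∀ m : ℕ, ∀ w : V, (T ^ m) w = ρ (g ^ m) w := by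
    intro m
    induction m with
    | zero => intro w; simp
    | succ m ih =>
      intro w
      rw [pow_succ, Module.End.mul_apply, ih, pow_succ, map_mul]
      rfl
  have hTn : (T ^ n) v = v := by rw [hpow]; exact hv _ hn
  set N := T - 1 with hN
  let q : Polynomial K := ∑ i ∈ Finset.range n, Polynomial.X ^ i
  have hq1 : q.eval 1 = n := by simp [q, Polynomial.eval_finset_sum]
  obtain ⟨r, hr⟩ : (Polynomial.X - Polynomial.C 1) ∣ q - Polynomial.C (q.eval 1) :=
    Polynomial.X_sub_C_dvd_sub_C_eval
  have hNa : N = Polynomial.aeval T (Polynomial.X - Polynomial.C (1 : K)) := by simp [hN]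
  have hS : Polynomial.aeval T q = algebraMap K _ (n : K) + N * Polynomial.aeval T r := by
    have : q = Polynomial.C (n : K) + (Polynomial.X - Polynomial.C 1) * r := by
      rw [← hr, hq1]; ring
    rw [this, hNa]; simp
  have hgeom : Polynomial.aeval T q * N = T ^ n - 1 := by
    simp only [q, map_sum, map_pow, Polynomial.aeval_X, hN]
    exact geom_sum_mul T n
  have hcomm : ∀ p p' : Polynomial K, Commute (Polynomial.aeval T p) (Polynomial.aeval T p') :=
    fun p p' => (Commute.all p p').map (Polynomial.aeval T)
  have hunit : IsUnit (Polynomial.aeval T q) := by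
    rw [hS]
    have hc : Commute N (Polynomial.aeval T r) := by rw [hNa]; exact hcomm _ _
    apply IsNilpotent.isUnit_add_left_of_commute
    · exact hc.isNilpotent_mul_right (hunip g)
    · exact (IsUnit.mk0 (n : K) (by exact_mod_cast hn0.ne')).map (algebraMap K (Module.End K V))
    · rw [hNa, ← map_mul, ← Polynomial.aeval_C (A := Module.End K V) T (n : K)]
      exact hcomm _ _
  have h0 : (Polynomial.aeval T q * N) v = 0 := by
    rw [hgeom]; simp [hTn]
  have hNv : N v = 0 := by
    obtain ⟨u, hu⟩ := hunit
    have h1 : (u⁻¹ : (Module.End K V)ˣ).1 ((Polynomial.aeval T q * N) v) = N v := by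
      rw [← hu, Module.End.mul_apply, ← Module.End.mul_apply]
      simp
    rw [← h1, h0, map_zero]
  have h2 : T v - v = 0 := by simpa [hN] using hNv
  exact sub_eq_zero.mp h2

end Groth.Agent.S17463
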