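import Groth.Statements.S17466
import Mathlib

set_option autoImplicit false
universe u v
open BigOperators
open NRGIT

namespace Groth.Agent.S17466

/-- Let A be a commutative algebra graded by the natural numbers, let σ_1, …, σ_n be homogeneous
elements of degree 1 and let s ≥ 1 be an integer such that, for every i, the degree-zero homogeneous
localisation of A away from σ_i is generated over A_0 by the fractions f / σ_i ^ s with f
homogeneous of degree s. Then for every exponent vector K = (k_1, …, k_n) with k_1 + ⋯ + k_n = s,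
the degree-zero homogeneous localisation of A away from the monomial σ^K = ∏ σ_i ^ (k_i) is
generated over A_0 by the fractions f / σ^K with f homogeneous of degree s. (Equivalently: the
natural map from the degree-zero localisation of the symmetric algebra on A_s, taken away from σ^K
viewed as an element of degree one, to the degree-zero localisation of A away from σ^K is
surjective. The published lemma concerns the algebra of invariant sections of the powers of a
linearised line bundle on an irreducible projective scheme over a field, with the σ_i a basis of a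
weight space of sections, and concludes a closed immersion of a quotient into an open piece of a
projective space; this row keeps only the graded-algebra step, for any commutative graded algebra,
with the base field replaced by A_0, which generates nothing new since a / 1 = a σ^s / σ^s for a of
degree zero.) -/
theorem result
    {R : Type u} {A : Type v} [CommRing R] [CommRing A] [Algebra R A]
    (𝒜 : ℕ → Submodule R A) [GradedAlgebra 𝒜]
    {n : ℕ} (σ : Fin n → A) (hσ : ∀ i, σ i ∈ 𝒜 1) {s : ℕ} (hs : 0 < s)
    (hgen : ∀ i, Algebra.adjoin (𝒜 0)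
      {z : HomogeneousLocalization.Away 𝒜 (σ i) |
        ∃ f ∈ 𝒜 s, z.val = Localization.mk f ⟨σ i ^ s, Submonoid.pow_mem _ (Submonoid.mem_powers (σ i)) s⟩} = ⊤)
    (K : Fin n → ℕ) (hK : ∑ i, K i = s) :
    Algebra.adjoin (𝒜 0)
      {z : HomogeneousLocalization.Away 𝒜 (∏ i, σ i ^ K i) |
        ∃ f ∈ 𝒜 s, z.val = Localization.mk f ⟨∏ i, σ i ^ K i, Submonoid.mem_powers _⟩} = ⊤ := by
  classical
  obtain ⟨i₀, hi₀⟩ : ∃ i, 0 < K i := by
    by_contra hcon
    push_neg at hcon
    have : ∑ i, K i = 0 := Finset.sum_eq_zero (fun i _ => Nat.le_zero.mp (hcon i))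
    omega
  set τ := ∏ i, σ i ^ K i with hτdef
  have hτ : τ ∈ 𝒜 s := by
    have := SetLike.prod_pow_mem_graded 𝒜 (fun _ => 1) σ K (F := Finset.univ) (fun i _ => hσ i)
    simpa [hK] using this
  let K' : Fin n → ℕ := fun j => if j = i₀ then K j - 1 else K j
  have hKK' : ∀ j, K j = K' j + (if j = i₀ then 1 else 0) := by
    intro j
    by_cases hj : j = i₀
    · subst hj; simp only [K', if_true]; omega
    · simp [K', hj]
  have hsumK' : ∑ j, K' j + 1 = s := by
    rw [← hK, Finset.sum_congr rfl (fun j _ => hKK' j), Finset.sum_add_distrib]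
    simp
  set g := ∏ i, σ i ^ K' i with hgdef
  have hg : g ∈ 𝒜 (s - 1) := by
    have := SetLike.prod_pow_mem_graded 𝒜 (fun _ => 1) σ K' (F := Finset.univ) (fun i _ => hσ i)
    have h2 : ∑ k, K' k • 1 = s - 1 := by simp only [smul_eq_mul, mul_one]; omega
    rwa [h2] at this
  have hτg : τ = σ i₀ * g := by
    rw [hτdef, hgdef, Finset.prod_congr rfl (fun j _ => by rw [hKK' j, pow_add]),
      Finset.prod_mul_distrib, mul_comm]
    congr 1
    simp [Finset.prod_ite_eq']
  -- the ambient localization
  let Λ := Localization.Away τ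
  let ι : A →+* Λ := algebraMap A Λ
  let t : Λ := Localization.mk 1 ⟨τ, Submonoid.mem_powers τ⟩
  have ht : ι τ * t = 1 := by
    show algebraMap A Λ τ * Localization.mk 1 ⟨τ, Submonoid.mem_powers τ⟩ = 1
    rw [← Localization.mk_one_eq_algebraMap, Localization.mk_mul]
    simp only [mul_one, one_mul]
    exact Localization.mk_self ⟨τ, Submonoid.mem_powers τ⟩
  have hmk : ∀ (a : A) (l : ℕ) (hl : τ ^ l ∈ Submonoid.powers τ),
      (Localization.mk a ⟨τ ^ l, hl⟩ : Λ) = ι a * t ^ l := by
    intro a l hl
    show _ = algebraMap A Λ a * (Localization.mk 1 ⟨τ, Submonoid.mem_powers τ⟩) ^ l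
    rw [← Localization.mk_one_eq_algebraMap, Localization.mk_pow, Localization.mk_mul]
    congr 1
    · simp
    · apply Subtype.ext; simp
  set S : Set (HomogeneousLocalization.Away 𝒜 τ) :=
    {z | ∃ f ∈ 𝒜 s, z.val = Localization.mk f ⟨τ, Submonoid.mem_powers _⟩} with hS
  set B := Algebra.adjoin (𝒜 0) S with hB
  -- the graded pieces
  let C : ℕ → A → Prop := fun l a => ∃ z ∈ B, z.val = ι a * t ^ l
  have hC_mul : ∀ {l l' a a'}, C l a → C l' a' → C (l + l') (a * a') := by
    rintro l l' a a' ⟨z, hz, hzv⟩ ⟨z', hz', hzv'⟩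
    refine ⟨z * z', B.mul_mem hz hz', ?_⟩
    rw [HomogeneousLocalization.val_mul, hzv, hzv', map_mul, pow_add]
    ring
  have hC_one : C 0 1 := ⟨1, B.one_mem, by rw [HomogeneousLocalization.val_one]; simp⟩
  have hgen_mem : ∀ a (ha : a ∈ 𝒜 s),
      HomogeneousLocalization.Away.mk 𝒜 hτ 1 a (by simpa using ha) ∈ S := by
    intro a ha
    refine ⟨a, ha, ?_⟩
    rw [HomogeneousLocalization.Away.val_mk]
    exact congrArg (Localization.mk a) (Subtype.ext (pow_one τ))
  have hC_gen : ∀ a, a ∈ 𝒜 s → C 1 a := by
    intro a ha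
    refine ⟨_, Algebra.subset_adjoin (hgen_mem a ha), ?_⟩
    rw [HomogeneousLocalization.Away.val_mk, hmk]
  have hC_pow : ∀ {l a} (m : ℕ), C l a → C (l * m) (a ^ m) := by
    intro l a m h
    induction m with
    | zero => simpa using hC_one
    | succ m ih =>
      rw [mul_add, mul_one, pow_succ]
      exact hC_mul ih h
  have hC_prod : ∀ (F : Finset (Fin n)) (a : Fin n → A) (l : Fin n → ℕ),
      (∀ j ∈ F, C (l j) (a j)) → C (∑ j ∈ F, l j) (∏ j ∈ F, a j) := by
    intro F a l
    induction F using Finset.induction_on with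
    | empty => intro _; simpa using hC_one
    | insert j F hj ih =>
      intro h
      rw [Finset.sum_insert hj, Finset.prod_insert hj]
      exact hC_mul (h j (Finset.mem_insert_self j F))
        (ih (fun j' hj' => h j' (Finset.mem_insert_of_mem hj')))
  have hσs : ∀ j, σ j ^ s ∈ 𝒜 s := by
    intro j
    have := SetLike.pow_mem_graded s (hσ j)
    simpa using this
  have hCg : C (s - 1) (g ^ s) := by
    have h1 : g ^ s = ∏ j, (σ j ^ s) ^ K' j := by
      rw [hgdef, ← Finset.prod_pow]
      apply Finset.prod_congr rfl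
      intro j _
      rw [← pow_mul, ← pow_mul, mul_comm]
    have h2 := hC_prod Finset.univ (fun j => (σ j ^ s) ^ K' j) (fun j => 1 * K' j)
      (fun j _ => hC_pow (K' j) (hC_gen _ (hσs j)))
    rw [h1]
    have h3 : ∑ j, 1 * K' j = s - 1 := by simp only [one_mul]; omega
    rwa [h3] at h2
  -- Step 1: the image of A_(σ i₀) lies in B
  let φ := HomogeneousLocalization.awayMapₐ 𝒜 hg hτg
  have hstep1 : ∀ y : HomogeneousLocalization.Away 𝒜 (σ i₀), φ y ∈ B := by
    have hle : (⊤ : Subalgebra (𝒜 0) (HomogeneousLocalization.Away 𝒜 (σ i₀))).map φ ≤ B := by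
      rw [← hgen i₀, AlgHom.map_adjoin]
      apply Algebra.adjoin_le
      rintro _ ⟨z, ⟨f', hf', hz⟩, rfl⟩
      have hz' : z = HomogeneousLocalization.Away.mk 𝒜 (hσ i₀) s f' (by simpa using hf') := by
        apply HomogeneousLocalization.val_injective
        rw [hz, HomogeneousLocalization.Away.val_mk]
      have hCs : C s (f' * g ^ s) := by
        have := hC_mul (hC_gen f' hf') hCg
        have h1 : 1 + (s - 1) = s := by omega
        rwa [h1] at this
      obtain ⟨z', hz'B, hz'v⟩ := hCs
      have : φ z = z' := by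
        apply HomogeneousLocalization.val_injective
        rw [hz'v, hz']
        show (HomogeneousLocalization.awayMap 𝒜 hg hτg _).val = _
        rw [HomogeneousLocalization.awayMap_mk, HomogeneousLocalization.Away.val_mk, hmk]
      show φ z ∈ B
      rw [this]; exact hz'B
    intro y
    exact hle ⟨y, trivial, rfl⟩
  -- Step 2
  rw [Algebra.eq_top_iff]
  intro z
  obtain ⟨m, a, ha, rfl⟩ := HomogeneousLocalization.Away.mk_surjective 𝒜 hτ z
  let y : HomogeneousLocalization.Away 𝒜 (σ i₀) :=
    HomogeneousLocalization.Away.mk 𝒜 (hσ i₀) (m * s) a (by simpa using ha)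
  let w : HomogeneousLocalization.Away 𝒜 τ :=
    HomogeneousLocalization.Away.mk 𝒜 hτ 1 (σ i₀ ^ s) (by simpa using hσs i₀)
  have hw : w ∈ B := Algebra.subset_adjoin (hgen_mem _ (hσs i₀))
  have hzeq : HomogeneousLocalization.Away.mk 𝒜 hτ m a ha = φ y * w ^ m := by
    apply HomogeneousLocalization.val_injective
    rw [HomogeneousLocalization.val_mul, HomogeneousLocalization.val_pow]
    show _ = (HomogeneousLocalization.awayMap 𝒜 hg hτg y).val * _
    rw [HomogeneousLocalization.awayMap_mk, HomogeneousLocalization.Away.val_mk,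
      HomogeneousLocalization.Away.val_mk, HomogeneousLocalization.Away.val_mk, hmk, hmk, hmk]
    have e : ι (σ i₀) * ι g * t = 1 := by rw [← map_mul, ← hτg]; exact ht
    simp only [map_mul, map_pow, pow_one]
    calc ι a * t ^ m = ι a * (ι (σ i₀) * ι g * t) ^ (m * s) * t ^ m := by rw [e]; simp
      _ = _ := by ring
  rw [hzeq]
  exact B.mul_mem (hstep1 y) (B.pow_mem hw m)

end Groth.Agent.S17466
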