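import Groth.Statements.S17469
import Mathlib
-- import your own Groth.Agent.* helpers here

set_option autoImplicit false
universe u
open CategoryTheory AlgebraicGeometry
open Variety

namespace Groth.Agent.S17469
open CategoryTheory AlgebraicGeometry Limits TopologicalSpace Topology Opposite


lemma gen_mem {X : Scheme.{u}} [AlgebraicGeometry.IsIntegral X] (U : X.Opens)
    [h : Nonempty U] : genericPoint ↑X ∈ U := by
  rw [← SetLike.mem_coe, (genericPoint_spec X).mem_open_set_iff U.isOpen]
  obtain ⟨x, hx⟩ := h
  exact ⟨x, trivial, hx⟩

instance nonempty_top {X : Scheme.{u}} [AlgebraicGeometry.IsIntegral X] :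
    Nonempty (⊤ : X.Opens) := ⟨⟨genericPoint X, Opens.mem_top _⟩⟩

lemma germToFF_res {X : Scheme.{u}} [AlgebraicGeometry.IsIntegral X] (U V : X.Opens)
    [Nonempty U] [Nonempty V] (i : U ⟶ V) (s : Γ(X, V)) :
    X.germToFunctionField U (X.presheaf.map i.op s) = X.germToFunctionField V s :=
  X.presheaf.germ_res_apply i (genericPoint X) (gen_mem U) s

/-- a rational function that lies in every local ring is a global section -/
lemma exists_global_of_forall_stalk {X : Scheme.{u}} [AlgebraicGeometry.IsIntegral X]
    (φ : X.functionField)
    (h : ∀ x : X, ∃ t : X.presheaf.stalk x, algebraMap (X.presheaf.stalk x) X.functionField t = φ) :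
    ∃ g : Γ(X, ⊤), X.germToFunctionField ⊤ g = φ := by
  have h2 : ∀ x : X, ∃ (V : X.Opens) (_ : x ∈ V) (_ : Nonempty V) (s : Γ(X, V)),
      X.germToFunctionField V s = φ := by
    intro x
    obtain ⟨t, ht⟩ := h x
    obtain ⟨V, hxV, s, rfl⟩ := X.presheaf.exists_germ_eq t
    haveI : Nonempty V := ⟨⟨x, hxV⟩⟩
    exact ⟨V, hxV, inferInstance, s, by rw [← ht, Scheme.algebraMap_germ_eq_germToFunctionField]⟩
  choose V hxV hVne s hs using h2
  have hcompat : TopCat.Presheaf.IsCompatible X.presheaf V s := by
    intro x y
    haveI : Nonempty (V x ⊓ V y : X.Opens) :=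
      ⟨⟨genericPoint X, @gen_mem _ _ (V x) (hVne x), @gen_mem _ _ (V y) (hVne y)⟩⟩
    haveI := hVne x
    haveI := hVne y
    apply X.germToFunctionField_injective (V x ⊓ V y)
    rw [germToFF_res, germToFF_res, hs, hs]
  obtain ⟨g, hg, _⟩ := X.sheaf.existsUnique_gluing' V ⊤ (fun x => homOfLE le_top)
    (fun x _ => Opens.mem_iSup.mpr ⟨x, hxV x⟩) s hcompat
  refine ⟨g, ?_⟩
  haveI := hVne (genericPoint X)
  rw [← hs (genericPoint X), ← hg (genericPoint X)]
  exact (germToFF_res _ _ _ g).symm


/-- Let X be a locally Noetherian integral scheme all of whose local rings are integrally closed domains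
and U an open subset of X. A section of O_X over U that is integral over the ring of global sections
of X, the latter acting through restriction, is itself the restriction of a global section. (The
published lemma is stated for an irreducible normal variety and for the graded ring of sections over
U of all non-negative powers of a line bundle, integral over the corresponding ring of sections over
X; for the trivial line bundle its homogeneous components are the present statement, which is made
here for any locally Noetherian normal integral scheme.) -/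
theorem result
    (X : Scheme.{u}) [AlgebraicGeometry.IsIntegral X] [IsLocallyNoetherian X]
    (hX : Pi1.IsNormalScheme X) (U : X.Opens) (b : Γ(X, U))
    (hb : (X.presheaf.map (homOfLE le_top : U ⟶ ⊤).op).hom.IsIntegralElem b) :
    b ∈ Set.range (X.presheaf.map (homOfLE le_top : U ⟶ ⊤).op).hom := by
  by_cases hU : (U : Set X).Nonempty
  swap
  · have hU' : U = ⊥ := by
      ext x
      simp only [Opens.coe_bot, Set.mem_empty_iff_false, iff_false]
      exact fun hx => hU ⟨x, hx⟩
    subst hU'
    haveI : Subsingleton Γ(X, ⊥) :=
      CommRingCat.subsingleton_of_isTerminal X.sheaf.isTerminalOfEmpty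
    exact ⟨0, Subsingleton.elim _ _⟩
  haveI : Nonempty U := hU.to_subtype
  set bK : X.functionField := X.germToFunctionField U b with hbK
  have h1 : ∀ x : X, ∃ t : X.presheaf.stalk x,
      algebraMap (X.presheaf.stalk x) X.functionField t = bK := by
    intro x
    haveI := (hX x).2
    have hint : IsIntegral (X.presheaf.stalk x) bK := by
      obtain ⟨p, hp, hpb⟩ := hb
      refine ⟨p.map (X.presheaf.germ ⊤ x (Opens.mem_top x)).hom, hp.map _, ?_⟩
      rw [Polynomial.eval₂_map]
      have hcomp : (algebraMap (X.presheaf.stalk x) X.functionField).comp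
          (X.presheaf.germ ⊤ x (Opens.mem_top x)).hom =
          (X.germToFunctionField U).hom.comp (X.presheaf.map (homOfLE le_top : U ⟶ ⊤).op).hom := by
        ext s
        simp only [RingHom.comp_apply]
        rw [Scheme.algebraMap_germ_eq_germToFunctionField]
        exact (germToFF_res U ⊤ (homOfLE le_top) s).symm
      rw [hcomp, ← Polynomial.hom_eval₂, hpb, map_zero]
    exact IsIntegrallyClosed.isIntegral_iff.mp hint
  obtain ⟨g, hg⟩ := exists_global_of_forall_stalk bK h1
  refine ⟨g, ?_⟩
  apply X.germToFunctionField_injective U
  rw [← hbK, ← hg]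
  exact germToFF_res U ⊤ (homOfLE le_top) g

end Groth.Agent.S17469
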