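import Groth.Statements.S17471
import Mathlib

set_option autoImplicit false
universe u v w x
open RootCh

namespace Groth.Agent.S17471

/-- Let Φ be a finite, reduced, crystallographic, irreducible root system with a base, and θ a positive
root such that θ + β is a root for no positive root β (so θ is the highest root). Then Σ_{β>0} ⟨β,
θ^∨⟩² = 2 + Σ_{β>0} ⟨β, θ^∨⟩ = 2(1 + ⟨ρ, θ^∨⟩), ρ being half the sum of the positive roots; in the
source the left side is the index of the adjoint representation obtained from its formal character,
and 1 + ⟨ρ, θ^∨⟩ is the dual Coxeter number. -/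
theorem result
    {ι : Type u} {R : Type v} {M : Type w} {N : Type x}
    [Field R] [LinearOrder R] [IsStrictOrderedRing R]
    [AddCommGroup M] [Module R M] [AddCommGroup N] [Module R N] [Fintype ι]
    (P : RootPairing ι R M N) [P.IsRootSystem] [P.IsCrystallographic] [P.IsReduced]
    [P.IsIrreducible] (b : P.Base) (θ : ι) (hθ : b.IsPos θ)
    (hmax : ∀ i : ι, b.IsPos i → P.root θ + P.root i ∉ Set.range P.root) :
    ∑ i ∈ Finset.univ.filter (fun i => 0 < b.height i), P.pairing i θ ^ 2 =
      2 + ∑ i ∈ Finset.univ.filter (fun i => 0 < b.height i), P.pairing i θ := by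
  classical
  have key : ∀ α : ι, b.IsPos α → α ≠ θ → P.pairing α θ ^ 2 = P.pairing α θ := by
    intro α hα hne
    have hli : LinearIndependent R ![P.root θ, P.root α] := by
      apply RootPairing.IsReduced.linearIndependent P (Ne.symm hne)
      intro h
      have h' : P.root θ = P.root α + (-2 : ℤ) • P.root α := by
        rw [h]; module
      have hh := b.height_add_zsmul h'
      have h1 : 0 < b.height θ := hθ
      have h2 : 0 < b.height α := hα
      simp only [smul_eq_mul] at hh
      omega
    have htop : P.chainTopCoeff θ α = 0 := by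
      by_contra h0
      have h1 : 1 ≤ P.chainTopCoeff θ α := Nat.one_le_iff_ne_zero.mpr h0
      have hmem := (P.root_add_nsmul_mem_range_iff_le_chainTopCoeff hli (n := 1)).mpr h1
      rw [one_smul, add_comm] at hmem
      exact hmax α hα hmem
    have hc := P.chainBotCoeff_sub_chainTopCoeff hli
    rw [htop] at hc
    simp only [Nat.cast_zero, sub_zero] at hc
    have hbot : P.chainBotCoeff θ α ≤ 1 := by
      by_contra hgt
      have h2 : 2 ≤ P.chainBotCoeff θ α := by omega
      obtain ⟨β, hβ⟩ :=
        (P.root_sub_nsmul_mem_range_iff_le_chainBotCoeff hli (n := 1)).mpr (by omega)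
      obtain ⟨γ, hγ⟩ := (P.root_sub_nsmul_mem_range_iff_le_chainBotCoeff hli (n := 2)).mpr h2
      rw [one_smul] at hβ
      have hhβ := b.height_sub hβ
      have h1 : 0 < b.height θ := hθ
      have h2' : 0 < b.height α := hα
      rcases lt_or_gt_of_ne (b.height_ne_zero β) with hneg | hpos
      · have hδ : P.root (P.reflectionPerm β β) = P.root θ - P.root α := by
          rw [RootPairing.root_reflectionPerm, RootPairing.reflection_apply_self, hβ]
          abel
        have hδpos : b.IsPos (P.reflectionPerm β β) := by
          rw [b.isPos_iff, b.height_sub hδ]; omega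
        apply hmax _ hδpos
        have : P.root θ + P.root (P.reflectionPerm β β) = -P.root γ := by
          rw [hδ, hγ, two_smul]; abel
        rw [this]; exact P.neg_root_mem γ
      · apply hmax β hpos
        rw [hβ]
        exact ⟨α, by abel⟩
    have hval : P.pairingIn ℤ α θ = 0 ∨ P.pairingIn ℤ α θ = 1 := by omega
    rw [← P.algebraMap_pairingIn ℤ]
    rcases hval with h | h <;> rw [h] <;> simp
  have hθS : θ ∈ Finset.univ.filter (fun i => 0 < b.height i) := by
    simp only [Finset.mem_filter, Finset.mem_univ, true_and]; exact hθ
  rw [← Finset.add_sum_erase _ _ hθS, ← Finset.add_sum_erase _ (fun i => P.pairing i θ) hθS]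
  have hsum : ∑ x ∈ (Finset.univ.filter (fun i => 0 < b.height i)).erase θ, P.pairing x θ ^ 2 =
      ∑ x ∈ (Finset.univ.filter (fun i => 0 < b.height i)).erase θ, P.pairing x θ := by
    apply Finset.sum_congr rfl
    intro α hα
    rw [Finset.mem_erase, Finset.mem_filter] at hα
    exact key α hα.2.2 hα.1
  rw [hsum, RootPairing.pairing_same]
  ring

end Groth.Agent.S17471
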