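import Groth.Statements.S17472
import Mathlib
-- import your own Groth.Agent.* helpers here

set_option autoImplicit false
universe u
open HopfAlg

namespace Groth.Agent.S17472

open WithConv

section Trans
variable {k : Type u} [Field k] {A : Type u} [CommRing A] [HopfAlgebra k A]

/-- Translation by a `k`-point. -/
noncomputable def T (g : WithConv (A →ₐ[k] k)) : A →ₐ[k] A :=
  (toConv ((Algebra.ofId k A).comp g.ofConv) * toConv (AlgHom.id k A)).ofConv

lemma T_one : T (1 : WithConv (A →ₐ[k] k)) = AlgHom.id k A := by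
  have h1 : toConv ((Algebra.ofId k A).comp (1 : WithConv (A →ₐ[k] k)).ofConv) =
      (1 : WithConv (A →ₐ[k] A)) := by
    rw [AlgHom.convOne_def, AlgHom.convOne_def]
    congr 1
  rw [T, h1, one_mul]

lemma T_comp (u w : WithConv (A →ₐ[k] k)) : (T w).comp (T u) = T (u * w) := by
  have h := AlgHom.comp_convMul_distrib (T w)
    (toConv ((Algebra.ofId k A).comp u.ofConv)) (toConv (AlgHom.id k A))
  have e1 : (T w).comp ((Algebra.ofId k A).comp u.ofConv) = (Algebra.ofId k A).comp u.ofConv := by
    ext a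
    simp
  have e2 : toConv ((Algebra.ofId k A).comp (u * w).ofConv) =
      toConv ((Algebra.ofId k A).comp u.ofConv) * toConv ((Algebra.ofId k A).comp w.ofConv) := by
    have := AlgHom.comp_convMul_distrib (Algebra.ofId k A) u w
    rw [this]
  change (T w).comp (toConv ((Algebra.ofId k A).comp u.ofConv) * toConv (AlgHom.id k A)).ofConv = _
  rw [h]
  simp only [ofConv_toConv, e1, AlgHom.comp_id]
  rw [T, T, e2, mul_assoc, toConv_ofConv]

lemma counit_comp_T (g : WithConv (A →ₐ[k] k)) :
    (Bialgebra.counitAlgHom k A).comp (T g) = g.ofConv := by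
  have h := AlgHom.comp_convMul_distrib (Bialgebra.counitAlgHom k A)
    (toConv ((Algebra.ofId k A).comp g.ofConv)) (toConv (AlgHom.id k A))
  change (Bialgebra.counitAlgHom k A).comp
    (toConv ((Algebra.ofId k A).comp g.ofConv) * toConv (AlgHom.id k A)).ofConv = _
  rw [h]
  simp only [ofConv_toConv, AlgHom.comp_id]
  have e1 : (Bialgebra.counitAlgHom k A).comp ((Algebra.ofId k A).comp g.ofConv) = g.ofConv := by
    ext a
    simp
  have e2 : toConv (Bialgebra.counitAlgHom k A) = (1 : WithConv (A →ₐ[k] k)) := by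
    rw [AlgHom.convOne_def]
    congr 1
  rw [e1, e2, toConv_ofConv, mul_one]

lemma T_bijective (g : WithConv (A →ₐ[k] k)) : Function.Bijective (T g) := by
  have h1 : (T g).comp (T g⁻¹) = AlgHom.id k A := by rw [T_comp, inv_mul_cancel, T_one]
  have h2 : (T g⁻¹).comp (T g) = AlgHom.id k A := by rw [T_comp, mul_inv_cancel, T_one]
  refine ⟨Function.LeftInverse.injective (g := T g⁻¹) fun a => ?_,
    Function.RightInverse.surjective (g := T g⁻¹) fun a => ?_⟩
  · exact congrArg (fun f : A →ₐ[k] A => f a) h2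
  · exact congrArg (fun f : A →ₐ[k] A => f a) h1

end Trans

section RingLemmas
variable {A : Type u} [CommRing A]

/-- At most one associated prime of `A` lies below `M`. -/
def U (M : Ideal A) : Prop :=
  ∀ q ∈ associatedPrimes A A, ∀ q' ∈ associatedPrimes A A, q ≤ M → q' ≤ M → q = q'

lemma exists_U [IsNoetherianRing A] [IsJacobsonRing A] [Nontrivial A] :
    ∃ M : Ideal A, M.IsMaximal ∧ U M := by
  classical
  have hfin : (associatedPrimes A A).Finite := associatedPrimes.finite A A
  obtain ⟨p₁, hp₁⟩ := hfin.exists_minimal (associatedPrimes.nonempty A A)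
  have hp₁P : p₁ ∈ associatedPrimes A A := hp₁.prop
  have hp₁prime : p₁.IsPrime := hp₁P.isPrime
  let I : Ideal A := ∏ q ∈ hfin.toFinset.erase p₁, q
  have hI : ¬ I ≤ p₁ := by
    intro h
    obtain ⟨q, hq, hqp⟩ := (hp₁prime.prod_le).1 h
    rw [Finset.mem_erase, Set.Finite.mem_toFinset] at hq
    exact hq.1 (le_antisymm hqp (hp₁.le_of_le hq.2 hqp))
  obtain ⟨f, hfI, hfp⟩ := SetLike.not_le_iff_exists.1 hI
  have hjac : p₁.jacobson = p₁ := IsJacobsonRing.out' p₁ hp₁prime.isRadical
  rw [← hjac, Ideal.jacobson, Ideal.mem_sInf] at hfp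
  push_neg at hfp
  obtain ⟨M, ⟨hpM, hMmax⟩, hfM⟩ := hfp
  refine ⟨M, hMmax, ?_⟩
  have key : ∀ q ∈ associatedPrimes A A, q ≤ M → q = p₁ := by
    intro q hq hqM
    by_contra hne
    have : I ≤ q := Ideal.prod_le_inf.trans (Finset.inf_le (by simp [hne, hq]))
    exact hfM (hqM (this hfI))
  intro q hq q' hq' h1 h2
  rw [key q hq h1, key q' hq' h2]

lemma comap_mem_ass [IsNoetherianRing A] (σ : A ≃+* A) {q : Ideal A}
    (hq : q ∈ associatedPrimes A A) : q.comap σ ∈ associatedPrimes A A := by
  rw [AssociatedPrimes.mem_iff, isAssociatedPrime_iff] at hq ⊢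
  obtain ⟨hprime, x, hx⟩ := hq
  refine ⟨Ideal.comap_isPrime _ _, σ.symm x, ?_⟩
  ext r
  rw [Ideal.mem_comap, hx, Submodule.mem_colon_singleton, Submodule.mem_colon_singleton,
    Submodule.mem_bot, Submodule.mem_bot, smul_eq_mul, smul_eq_mul]
  constructor
  · intro h
    have := congrArg σ.symm h
    simpa using this
  · intro h
    have := congrArg σ h
    simpa using this

lemma U_comap [IsNoetherianRing A] (σ : A ≃+* A) {M : Ideal A} (hM : U M) :
    U (M.comap σ) := by
  intro q hq q' hq' h1 h2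
  have e1 : q.comap σ.symm ≤ M := by
    intro x hx
    have hx' : σ.symm x ∈ q := hx
    have h3 : σ (σ.symm x) ∈ M := h1 hx'
    rwa [RingEquiv.apply_symm_apply] at h3
  have e2 : q'.comap σ.symm ≤ M := by
    intro x hx
    have hx' : σ.symm x ∈ q' := hx
    have h3 : σ (σ.symm x) ∈ M := h2 hx'
    rwa [RingEquiv.apply_symm_apply] at h3
  have := hM _ (comap_mem_ass σ.symm hq) _ (comap_mem_ass σ.symm hq') e1 e2
  ext x
  have h1' : σ x ∈ q.comap σ.symm ↔ x ∈ q := by
    change σ.symm (σ x) ∈ q ↔ _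
    rw [RingEquiv.symm_apply_apply]
  have h2' : σ x ∈ q'.comap σ.symm ↔ x ∈ q' := by
    change σ.symm (σ x) ∈ q' ↔ _
    rw [RingEquiv.symm_apply_apply]
  rw [← h1', ← h2', this]


lemma single_of_U [IsNoetherianRing A] [Nontrivial A]
    (hconn : ∀ e : A, IsIdempotentElem e → e = 0 ∨ e = 1)
    (hUall : ∀ M : Ideal A, M.IsMaximal → U M) :
    ∃ p₀ ∈ associatedPrimes A A, (∀ q ∈ associatedPrimes A A, q = p₀) ∧
      ∀ x : A, (∀ q ∈ associatedPrimes A A, x ∈ q) → IsNilpotent x := by
  classical
  have hfin : (associatedPrimes A A).Finite := associatedPrimes.finite A A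
  have hcomax : ∀ q ∈ associatedPrimes A A, ∀ q' ∈ associatedPrimes A A, q ≠ q' → q ⊔ q' = ⊤ := by
    intro q hq q' hq' hne
    by_contra h
    obtain ⟨M, hM, hle⟩ := Ideal.exists_le_maximal _ h
    exact hne (hUall M hM q hq q' hq' (le_sup_left.trans hle) (le_sup_right.trans hle))
  have hnil : ∀ x : A, (∀ q ∈ associatedPrimes A A, x ∈ q) → IsNilpotent x := by
    intro x hx
    rw [← mem_nilradical, nilradical_eq_sInf, Ideal.mem_sInf]
    intro J hJ
    haveI : J.IsPrime := hJ
    obtain ⟨p, hp, hpJ⟩ := Ideal.exists_minimalPrimes_le (bot_le : (⊥ : Ideal A) ≤ J)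
    have hp' : p ∈ associatedPrimes A A := by
      apply Module.associatedPrimes.minimalPrimes_annihilator_subset_associatedPrimes A A
      rwa [Module.annihilator_eq_bot.2 inferInstance]
    exact hpJ (hx p hp')
  obtain ⟨p₀, hp₀⟩ := associatedPrimes.nonempty A A
  have hp₀prime : p₀.IsPrime := hp₀.isPrime
  have hsingle : ∀ q ∈ associatedPrimes A A, q = p₀ := by
    intro q hq
    by_contra hne
    have hqprime : q.IsPrime := hq.isPrime
    obtain ⟨J, hJdef⟩ : ∃ J : Ideal A, J = ∏ q' ∈ hfin.toFinset.erase p₀, q' := ⟨_, rfl⟩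
    have hIJ : p₀ ⊔ J = ⊤ := by
      rw [hJdef]
      apply Ideal.sup_prod_eq_top
      intro q' hq'
      rw [Finset.mem_erase, Set.Finite.mem_toFinset] at hq'
      exact hcomax p₀ hp₀ q' hq'.2 (Ne.symm hq'.1)
    have hJle : ∀ q' ∈ associatedPrimes A A, q' ≠ p₀ → J ≤ q' := by
      intro q' hq' h
      rw [hJdef]
      refine Ideal.prod_le_inf.trans (Finset.inf_le (f := fun q' => q') ?_)
      rw [Finset.mem_erase, Set.Finite.mem_toFinset]
      exact ⟨h, hq'⟩
    have hJq : J ≤ q := hJle q hq hne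
    have hle : p₀ * J ≤ nilradical A := by
      intro x hx
      rw [mem_nilradical]
      apply hnil
      intro q' hq'
      by_cases h : q' = p₀
      · rw [h]; exact Ideal.mul_le_left hx
      · exact hJle q' hq' h (Ideal.mul_le_right hx)
    obtain ⟨n, hn⟩ := IsNoetherianRing.isNilpotent_nilradical A
    have h0 : p₀ ^ n * J ^ n = ⊥ := by
      rw [← mul_pow]
      exact le_bot_iff.1 ((Ideal.pow_right_mono hle n).trans hn.le)
    have htop : p₀ ^ n ⊔ J ^ n = ⊤ := Ideal.pow_sup_pow_eq_top hIJ
    have h1mem : (1 : A) ∈ p₀ ^ n ⊔ J ^ n := htop ▸ Submodule.mem_top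
    obtain ⟨a, ha, b, hb, hab⟩ := Submodule.mem_sup.1 h1mem
    have hab0 : a * b = 0 := by
      have : a * b ∈ p₀ ^ n * J ^ n := Ideal.mul_mem_mul ha hb
      rwa [h0, Ideal.mem_bot] at this
    have hidem : IsIdempotentElem a := by
      change a * a = a
      calc a * a = a * a + a * b := by rw [hab0, add_zero]
        _ = a * (a + b) := by ring
        _ = a := by rw [hab, mul_one]
    have hn0 : n ≠ 0 := by
      rintro rfl
      rw [pow_zero, pow_zero, Ideal.one_eq_top, Ideal.top_mul] at h0
      exact top_ne_bot h0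
    rcases hconn a hidem with h | h
    · rw [h, zero_add] at hab
      have : (1 : A) ∈ q := hJq (Ideal.pow_le_self hn0 (hab ▸ hb))
      exact hqprime.ne_top ((Ideal.eq_top_iff_one _).2 this)
    · have : (1 : A) ∈ p₀ := Ideal.pow_le_self hn0 (h ▸ ha)
      exact hp₀prime.ne_top ((Ideal.eq_top_iff_one _).2 this)
  exact ⟨p₀, hp₀, hsingle, hnil⟩

end RingLemmas

section Points
variable (k : Type u) [Field k] [IsAlgClosed k] (A : Type u) [CommRing A] [Algebra k A]
  [Algebra.FiniteType k A]

lemma exists_point (M : Ideal A) [hM : M.IsMaximal] : ∃ g : A →ₐ[k] k, RingHom.ker g = M := by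
  letI : Field (A ⧸ M) := Ideal.Quotient.field M
  haveI : Algebra.FiniteType k (A ⧸ M) :=
    Algebra.FiniteType.of_surjective (Ideal.Quotient.mkₐ k M) (Ideal.Quotient.mkₐ_surjective k M)
  haveI : Module.Finite k (A ⧸ M) := finite_of_finite_type_of_isJacobsonRing k (A ⧸ M)
  have hbij : Function.Bijective (algebraMap k (A ⧸ M)) :=
    IsAlgClosed.algebraMap_bijective_of_isIntegral
  let e : k ≃ₐ[k] (A ⧸ M) := AlgEquiv.ofBijective (Algebra.ofId k (A ⧸ M)) hbij
  refine ⟨(e.symm : (A ⧸ M) →ₐ[k] k).comp (Ideal.Quotient.mkₐ k M), ?_⟩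
  ext x
  rw [RingHom.mem_ker]
  change e.symm (Ideal.Quotient.mk M x) = 0 ↔ _
  rw [map_eq_zero_iff _ e.symm.injective, Ideal.Quotient.eq_zero_iff_mem]

end Points

/-- Let k be an algebraically closed field and A a commutative Hopf algebra over k, finitely generated
as a k-algebra, whose only idempotents are 0 and 1 (so that Spec A is a connected affine algebraic
group over k, possibly non-reduced). Let m be the kernel of the counit, the ideal of the neutral
element. Then the intersection of the powers m^n, n ≥ 0, is the zero ideal; equivalently the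
infinitesimal neighbourhoods Spec (A/m^n) of the neutral element are jointly schematically dense.
(The published statement assumes the group smooth, that is, a connected linear algebraic group; the
statement here allows any connected affine algebraic group, possibly non-reduced, a case the
published argument also treats.) -/
theorem result (k : Type u) [Field k] [IsAlgClosed k]
    (A : Type u) [CommRing A] [HopfAlgebra k A] [Algebra.FiniteType k A]
    (hconn : ∀ e : A, IsIdempotentElem e → e = 0 ∨ e = 1) :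
    (⨅ n : ℕ, RingHom.ker (Bialgebra.counitAlgHom k A) ^ n) = ⊥ := by
  classical
  have hnt : Nontrivial A := (Bialgebra.counitAlgHom k A).toRingHom.domain_nontrivial
  haveI : IsNoetherianRing A := Algebra.FiniteType.isNoetherianRing k A
  haveI : IsJacobsonRing A := isJacobsonRing_of_finiteType (A := k)
  set me : Ideal A := RingHom.ker (Bialgebra.counitAlgHom k A) with hme
  haveI hmeprime : me.IsPrime := RingHom.ker_isPrime _
  have hfin : (associatedPrimes A A).Finite := associatedPrimes.finite A A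
  -- points
  have hpt : ∀ M : Ideal A, M.IsMaximal → ∃ g : WithConv (A →ₐ[k] k), M = me.comap (T g) := by
    intro M hM
    obtain ⟨g₀, hg₀⟩ := exists_point k A M
    refine ⟨toConv g₀, ?_⟩
    ext x
    rw [Ideal.mem_comap, hme, RingHom.mem_ker, ← hg₀, RingHom.mem_ker]
    have := congrArg (fun f : A →ₐ[k] k => f x) (counit_comp_T (toConv g₀))
    simp only [AlgHom.comp_apply, ofConv_toConv] at this
    rw [this]
  obtain ⟨M₁, hM₁max, hUM₁⟩ := exists_U (A := A)
  have hUe : U me := by
    obtain ⟨g₁, hg₁⟩ := hpt M₁ hM₁max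
    have hcomp : (T g₁).comp (T g₁⁻¹) = AlgHom.id k A := by
      rw [T_comp, inv_mul_cancel, T_one]
    have : me = M₁.comap (RingEquiv.ofBijective (T g₁⁻¹) (T_bijective g₁⁻¹)) := by
      ext x
      rw [Ideal.mem_comap, hg₁, Ideal.mem_comap]
      change _ ↔ (T g₁) ((T g₁⁻¹) x) ∈ me
      have := congrArg (fun f : A →ₐ[k] A => f x) hcomp
      simp only [AlgHom.comp_apply, AlgHom.id_apply] at this
      rw [this]
    rw [this]
    exact U_comap _ hUM₁
  have hUall : ∀ M : Ideal A, M.IsMaximal → U M := by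
    intro M hM
    obtain ⟨g, hg⟩ := hpt M hM
    rw [hg]
    exact U_comap (RingEquiv.ofBijective (T g) (T_bijective g)) hUe
  obtain ⟨p₀, hp₀, hsingle, hnil⟩ := single_of_U hconn hUall
  have hp₀le : p₀ ≤ me := by
    intro x hx
    obtain ⟨m, hm⟩ := hnil x (fun q hq => hsingle q hq ▸ hx)
    exact hmeprime.mem_of_pow_mem m (hm ▸ me.zero_mem)
  rw [eq_bot_iff]
  intro x hx
  rw [Ideal.mem_bot]
  by_contra hx0
  have hx' : x ∈ (⨅ i : ℕ, me ^ i • ⊤ : Submodule A A) := by
    simpa [smul_eq_mul, Ideal.mul_top] using hx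
  obtain ⟨r, hr⟩ := (Ideal.mem_iInf_smul_pow_eq_bot_iff me x).1 hx'
  obtain ⟨p, hp, hle⟩ := exists_le_isAssociatedPrime_of_isNoetherianRing A x hx0
  have hpp : p = p₀ := hsingle p hp
  have h1r : (1 - (r : A)) ∈ (⊥ : Submodule A A).colon {x} := by
    rw [Submodule.mem_colon_singleton, Submodule.mem_bot, sub_smul, one_smul]
    have : (r : A) • x = x := hr
    rw [this, sub_self]
  have h2 : (1 - (r : A)) ∈ me := hp₀le (hpp ▸ hle h1r)
  have h3 : (1 : A) ∈ me := by
    have := me.add_mem h2 r.2
    simpa using this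
  exact hmeprime.ne_top ((Ideal.eq_top_iff_one _).2 h3)

end Groth.Agent.S17472
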