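import Groth.Statements.S17476
import Groth.Agent.Lib.QCoh.Helper18_HartogsDepth
import Groth.Agent.Lib.Helper49.Serre3

set_option autoImplicit false
universe u
open CategoryTheory AlgebraicGeometry Opposite
open Coh

namespace Groth.Agent.S17476


theorem inj_congr {X : Scheme.{u}} {U W : X.Opens} (hW : W = U) (h : W ≤ ⊤)
    (hi : Function.Injective (X.presheaf.map (homOfLE (le_top : U ≤ ⊤)).op)) :
    Function.Injective (X.presheaf.map (homOfLE h).op) := by
  subst hW
  exact hi

theorem bij_congr {X : Scheme.{u}} {U W : X.Opens} (hW : W = U) (h : W ≤ ⊤)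
    (hi : Function.Bijective (X.presheaf.map (homOfLE (le_top : U ≤ ⊤)).op)) :
    Function.Bijective (X.presheaf.map (homOfLE h).op) := by
  subst hW
  exact hi

/-- Hartogs for a normal Noetherian domain: functions extend over closed subsets of codimension at least two -/
theorem hartogs_normal (R : Type u) [CommRing R] [IsNoetherianRing R] [IsDomain R]
    [IsIntegrallyClosed R] (U : (Spec (CommRingCat.of R)).Opens)
    (h : ∀ p : PrimeSpectrum R, p ∉ U → (2 : ℕ∞) ≤ p.asIdeal.height) :
    Function.Bijective ((Spec (CommRingCat.of R)).presheaf.map (homOfLE (le_top : U ≤ ⊤)).op) := by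
  apply Groth.Agent.Lib.QCoh.Hartogs.bijective_res_top_structureSheaf
  intro y hy
  letI : Algebra R ((Spec (CommRingCat.of R)).presheaf.stalk y) :=
    StructureSheaf.stalkAlgebra (R := R) y
  haveI : IsLocalization.AtPrime ((Spec (CommRingCat.of R)).presheaf.stalk y) y.asIdeal :=
    StructureSheaf.IsLocalization.to_stalk (R := R) y
  haveI : IsDomain ((Spec (CommRingCat.of R)).presheaf.stalk y) :=
    IsLocalization.isDomain_of_le_nonZeroDivisors _
      (Ideal.primeCompl_le_nonZeroDivisors y.asIdeal)
  haveI : IsIntegrallyClosed ((Spec (CommRingCat.of R)).presheaf.stalk y) :=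
    isIntegrallyClosed_of_isLocalization _ y.asIdeal.primeCompl
      (Ideal.primeCompl_le_nonZeroDivisors y.asIdeal)
  haveI : IsNoetherianRing ((Spec (CommRingCat.of R)).presheaf.stalk y) :=
    IsLocalization.isNoetherianRing y.asIdeal.primeCompl _ inferInstance
  have h1 := Groth.Agent.Lib.Helper49.Serre.min_two_le_depth_of_isIntegrallyClosed
    (R := (Spec (CommRingCat.of R)).presheaf.stalk y)
  rw [IsLocalization.AtPrime.ringKrullDim_eq_height y.asIdeal] at h1
  have h2 : (2 : WithBot ℕ∞) ≤ ((y.asIdeal.height : ℕ∞) : WithBot ℕ∞) :=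
    WithBot.coe_le_coe.2 (h y hy)
  rw [min_eq_left h2] at h1
  exact WithBot.coe_le_coe.1 h1

/-- Let R be a Noetherian ring, Z = Spec R, M a finitely generated R-module with associated
quasi-coherent sheaf M~ (so that Hom_R(M, R) = Hom_Z(M~, O_Z)), and Z₀ ⊆ Z an open subscheme. (1) If
the restriction of functions Γ(Z, O_Z) → Γ(Z₀, O_Z) is injective, then the restriction map Hom_Z(M~,
O_Z) → Hom_{Z₀}(M~|Z₀, O_{Z₀}) is injective. (2) If R is an integrally closed domain and the closed
complement of Z₀ has codimension at least 2 (every prime ideal outside Z₀ has height at least 2),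
then that restriction map is bijective. (The published first assertion assumes only that Z₀ is
dense; for R = k[x,y]/(x², xy), M = R and Z₀ the locus y ≠ 0, which is dense, multiplication by x is
a nonzero element of Hom_R(M, R) restricting to zero, so schematic density is what is needed and
what the printed argument uses. The published second assertion is for a normal irreducible affine
variety; any Noetherian integrally closed domain is allowed here.) -/
theorem result (R : Type u) [CommRing R] [IsNoetherianRing R]
    (M : ModuleCat.{u} (CommRingCat.of R)) [Module.Finite R M] (U : (Spec (CommRingCat.of R)).Opens) :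
    (Function.Injective ((Spec (CommRingCat.of R)).presheaf.map (homOfLE (le_top : U ≤ ⊤)).op) →
      Function.Injective (fun φ : AlgebraicGeometry.tilde M ⟶ Coh.structureModule (Spec (CommRingCat.of R)) =>
        (Scheme.Modules.restrictFunctor U.ι).map φ)) ∧
    (IsDomain R → IsIntegrallyClosed R → (∀ p : PrimeSpectrum R, p ∉ U → (2 : ℕ∞) ≤ p.asIdeal.height) →
      Function.Bijective (fun φ : AlgebraicGeometry.tilde M ⟶ Coh.structureModule (Spec (CommRingCat.of R)) =>
        (Scheme.Modules.restrictFunctor U.ι).map φ)) := by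
  let X : Scheme.{u} := Spec (CommRingCat.of R)
  let O : X.Modules := Coh.structureModule X
  let L := Scheme.Modules.restrictFunctor U.ι
  let adj := Scheme.Modules.restrictAdjunction U.ι
  let tadj := tilde.adjunction (R := CommRingCat.of R)
  let η := adj.unit.app O
  let γ := (moduleSpecΓFunctor (R := CommRingCat.of R)).map η
  let F : X.Modules := (tilde.functor (CommRingCat.of R)).obj M
  have key : ∀ φ : F ⟶ O,
      tadj.homEquiv M _ (adj.homEquiv F (L.obj O) (L.map φ)) = tadj.homEquiv M O φ ≫ γ := by
    intro φ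
    have h1 : adj.homEquiv F (L.obj O) (L.map φ) = φ ≫ η := by
      rw [Adjunction.homEquiv_unit]
      exact (adj.unit.naturality φ).symm
    rw [h1]
    exact Adjunction.homEquiv_naturality_right _ _ _
  have hγ : ∀ x : Γ(X, ⊤), (γ.hom (show (moduleSpecΓFunctor (R := CommRingCat.of R)).obj O from x) :
      Γ(X, U.ι ''ᵁ (U.ι ⁻¹ᵁ ⊤))) =
      X.presheaf.map (homOfLE (U.ι.image_preimage_le ⊤)).op x := fun x => rfl
  have hW : U.ι ''ᵁ (U.ι ⁻¹ᵁ ⊤) = U := by simp
  have hinjγ : Function.Injective (X.presheaf.map (homOfLE (le_top : U ≤ ⊤)).op) →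
      Function.Injective γ.hom := by
    intro hi x y hxy
    exact inj_congr hW (U.ι.image_preimage_le ⊤) hi hxy
  have hinj : Function.Injective (X.presheaf.map (homOfLE (le_top : U ≤ ⊤)).op) →
      Function.Injective (fun φ : F ⟶ O => L.map φ) := by
    intro hres φ ψ hφψ
    have hφψ' : L.map φ = L.map ψ := hφψ
    have h1 : tadj.homEquiv M O φ ≫ γ = tadj.homEquiv M O ψ ≫ γ := by
      rw [← key φ, ← key ψ, hφψ']
    haveI : Mono γ := (ModuleCat.mono_iff_injective γ).2 (hinjγ hres)
    exact (tadj.homEquiv M O).injective ((cancel_mono γ).1 h1)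
  refine ⟨hinj, ?_⟩
  intro hdom hnormal hcodim
  have hbij := hartogs_normal R U hcodim
  refine ⟨hinj hbij.1, ?_⟩
  have hbijγ : Function.Bijective γ.hom := by
    have h2 := bij_congr hW (U.ι.image_preimage_le ⊤) hbij
    exact h2
  haveI : IsIso γ := (ConcreteCategory.isIso_iff_bijective γ).2 hbijγ
  intro ψ
  let ψ' : L.obj F ⟶ L.obj O := ψ
  refine ⟨(tadj.homEquiv M O).symm (tadj.homEquiv M _ (adj.homEquiv F (L.obj O) ψ') ≫ inv γ), ?_⟩
  apply (adj.homEquiv F (L.obj O)).injective
  apply (tadj.homEquiv M _).injective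
  have h3 := key ((tadj.homEquiv M O).symm (tadj.homEquiv M _ (adj.homEquiv F (L.obj O) ψ') ≫ inv γ))
  rw [Equiv.apply_symm_apply, Category.assoc, IsIso.inv_hom_id, Category.comp_id] at h3
  exact h3

end Groth.Agent.S17476
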