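import Groth.Statements.S17487
import Mathlib

set_option autoImplicit false
universe u
open CategoryTheory CategoryTheory.Limits AlgebraicGeometry
open Coherent

namespace Groth.Agent.S17487

open CategoryTheory CategoryTheory.Limits AlgebraicGeometry

section
universe w v' u'
variable {C : Type u'} [Category.{v'} C] [Abelian C] [HasExt.{w} C]
open Abelian

lemma subsingleton_ext_right {X Z : C} {ι : Type*} [Fintype ι] (W : ι → C)
    (a : ∀ t, Z ⟶ W t) (b : ∀ t, W t ⟶ Z) (h : ∑ t, a t ≫ b t = 𝟙 Z) (p : ℕ)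
    (hW : ∀ t, Subsingleton (Ext X (W t) p)) : Subsingleton (Ext X Z p) := by
  have key : ∀ x : Ext X Z p, x = 0 := by
    intro x
    have h1 : x = x.comp (Ext.mk₀ (𝟙 Z)) (add_zero p) := (Ext.comp_mk₀_id x).symm
    rw [h1, ← h, Ext.mk₀_sum, Ext.comp_sum]
    apply Finset.sum_eq_zero
    intro t _
    rw [← Ext.mk₀_comp_mk₀, ← Ext.comp_assoc_of_third_deg_zero]
    rw [Subsingleton.elim (x.comp (Ext.mk₀ (a t)) (add_zero p)) 0, Ext.zero_comp]
  exact ⟨fun x y => by rw [key x, key y]⟩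

lemma subsingleton_ext_left {Z Y : C} {ι : Type*} [Fintype ι] (W : ι → C)
    (a : ∀ t, Z ⟶ W t) (b : ∀ t, W t ⟶ Z) (h : ∑ t, a t ≫ b t = 𝟙 Z) (p : ℕ)
    (hW : ∀ t, Subsingleton (Ext (W t) Y p)) : Subsingleton (Ext Z Y p) := by
  have key : ∀ x : Ext Z Y p, x = 0 := by
    intro x
    have h1 : x = (Ext.mk₀ (𝟙 Z)).comp x (zero_add p) := (Ext.mk₀_id_comp x).symm
    rw [h1, ← h, Ext.mk₀_sum, Ext.sum_comp]
    apply Finset.sum_eq_zero
    intro t _
    rw [← Ext.mk₀_comp_mk₀_assoc]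
    rw [Subsingleton.elim ((Ext.mk₀ (b t)).comp x (zero_add p)) 0, Ext.comp_zero]
  exact ⟨fun x y => by rw [key x, key y]⟩

/-- decomposition of identity for an object isomorphic to a finite coproduct -/
lemma exists_decomp {Z : C} {m : ℕ} (E' : Fin m → C) (e : Z ≅ ∐ E') :
    ∃ (a : ∀ t, Z ⟶ E' t) (b : ∀ t, E' t ⟶ Z), ∑ t, a t ≫ b t = 𝟙 Z := by
  have hfb : HasFiniteBiproducts C := Abelian.hasFiniteBiproducts
  have hb : HasBiproduct E' := inferInstance
  refine ⟨fun t => e.hom ≫ (biproduct.isoCoproduct E').inv ≫ biproduct.π E' t,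
    fun t => biproduct.ι E' t ≫ (biproduct.isoCoproduct E').hom ≫ e.inv, ?_⟩
  have : ∑ t, (e.hom ≫ (biproduct.isoCoproduct E').inv ≫ biproduct.π E' t) ≫
      (biproduct.ι E' t ≫ (biproduct.isoCoproduct E').hom ≫ e.inv) =
      e.hom ≫ (biproduct.isoCoproduct E').inv ≫ (∑ t, biproduct.π E' t ≫ biproduct.ι E' t) ≫
        (biproduct.isoCoproduct E').hom ≫ e.inv := by
    simp only [Preadditive.comp_sum, Preadditive.sum_comp, Category.assoc]
  rw [this, biproduct.total, Category.id_comp, Iso.inv_hom_id_assoc, Iso.hom_inv_id]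

theorem general (S : ShortComplex C) (hS : S.ShortExact) {n : ℕ} (d : ℕ) (E : Fin n → C)
    (hexc : ∀ i j : Fin n, j < i → ∀ p : ℕ, Subsingleton (Ext (E i) (E j) p))
    (hstr : ∀ (i j : Fin n) (p : ℕ), 1 ≤ p → Subsingleton (Ext (E i) (E j) p))
    (m₁ : ℕ) (c₁ : Fin m₁ → Fin n) (e₁ : S.X₁ ≅ ∐ fun t => E (c₁ t))
    (m₂ : ℕ) (c₂ : Fin m₂ → Fin n) (hc₂ : ∀ t, d ≤ (c₂ t : ℕ)) (e₂ : S.X₂ ≅ ∐ fun t => E (c₂ t)) :
    (∀ (i : Fin n) (p : ℕ), 1 ≤ p → Subsingleton (Ext (E i) S.X₃ p)) ∧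
      (∀ i : Fin n, (i : ℕ) < d → ∀ p : ℕ, p ≠ 1 → Subsingleton (Ext S.X₃ (E i) p)) := by
  obtain ⟨a₁, b₁, h₁⟩ := exists_decomp (fun t => E (c₁ t)) e₁
  obtain ⟨a₂, b₂, h₂⟩ := exists_decomp (fun t => E (c₂ t)) e₂
  constructor
  · intro i p hp
    have hK : Subsingleton (Ext (E i) S.X₁ (p + 1)) :=
      subsingleton_ext_right _ a₁ b₁ h₁ (p + 1) (fun t => hstr i (c₁ t) (p + 1) (by omega))
    have hM : Subsingleton (Ext (E i) S.X₂ p) :=
      subsingleton_ext_right _ a₂ b₂ h₂ p (fun t => hstr i (c₂ t) p hp)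
    refine ⟨fun x y => ?_⟩
    have key : ∀ x : Ext (E i) S.X₃ p, x = 0 := by
      intro x
      obtain ⟨x₂, hx₂⟩ := Ext.covariant_sequence_exact₃ (E i) hS x rfl (Subsingleton.elim _ _)
      rw [← hx₂, Subsingleton.elim x₂ 0, Ext.zero_comp]
    rw [key x, key y]
  · intro i hi p hp
    rcases Nat.eq_zero_or_pos p with rfl | hpos
    · have hM : Subsingleton (Ext S.X₂ (E i) 0) :=
        subsingleton_ext_left _ a₂ b₂ h₂ 0 (fun t => hexc (c₂ t) i (by
          rw [Fin.lt_def]; have := hc₂ t; omega) 0)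
      have hepi : Epi S.g := hS.epi_g
      exact (Ext.precomp_mk₀_injective_of_epi (E i) S.g).subsingleton
    · have hp2 : 2 ≤ p := by omega
      obtain ⟨n₀, rfl⟩ : ∃ n₀, p = 1 + n₀ := ⟨p - 1, by omega⟩
      have hM : Subsingleton (Ext S.X₂ (E i) (1 + n₀)) :=
        subsingleton_ext_left _ a₂ b₂ h₂ _ (fun t => hstr (c₂ t) i _ (by omega))
      have hK : Subsingleton (Ext S.X₁ (E i) n₀) :=
        subsingleton_ext_left _ a₁ b₁ h₁ _ (fun t => hstr (c₁ t) i _ (by omega))
      have key : ∀ x : Ext S.X₃ (E i) (1 + n₀), x = 0 := by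
        intro x
        obtain ⟨x₁, hx₁⟩ := Ext.contravariant_sequence_exact₃ hS (E i) x
          (Subsingleton.elim _ _) rfl
        rw [← hx₁, Subsingleton.elim x₁ 0, Ext.comp_zero]
      exact ⟨fun x y => by rw [key x, key y]⟩

end

/-- Let k be an algebraically closed field of characteristic zero and Y a smooth projective variety over
k (an integral scheme, smooth over k, with a closed immersion into some P^n_k over k). Let E_1, …,
E_n be coherent O_Y-modules forming a strong exceptional sequence, expressed through Ext groups in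
the category of O_Y-modules (the Ext instance is the stated hypothesis; it holds): End(E_i) is
one-dimensional over k, Ext^p(E_i, E_j) = 0 for all p when i > j, and Ext^p(E_i, E_j) = 0 for all i,
j when p ≥ 1 (indices here run over 0, …, n-1). Let d ≤ n and let 0 → K → M → F → 0 be a short exact
sequence of O_Y-modules in which K is isomorphic to a finite direct sum of copies of members E_i
with i < d and M to a finite direct sum of copies of members E_i with i ≥ d (a two-term resolution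
of F by the sequence, split at d). Then Ext^p(E_i, F) = 0 for every i and every p ≥ 1, and Ext^p(F,
E_i) = 0 for every i < d and every p ≠ 1. (The published criterion also asks that the sequence
generate the derived category, states the first vanishing only for i ≥ d, and adds conditions on
terms of the associated filtration and cofiltration of F, which are not restated here; the
vanishings above follow from the resolution alone.) -/
theorem result
    (k : Type u) [Field k] [IsAlgClosed k] [CharZero k]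
    (Y : Scheme.{u}) [Y.Over (Spec (CommRingCat.of k))] [AlgebraicGeometry.IsIntegral Y]
    [Smooth (Y ↘ Spec (CommRingCat.of k))]
    (hproj : ∃ (N : ℕ) (ι : Y ⟶ CohB1.ProjSpace N k), IsClosedImmersion ι ∧
      ι ≫ CohB1.ProjSpace.toSpec N k = (Y ↘ (Spec (CommRingCat.of k))))
    [HasExt.{u} Y.Modules]
    (n d : ℕ) (hdn : d ≤ n) (E : Fin n → Y.Modules) (hEcoh : ∀ i, Coh.IsCoh (E i))
    (hend : ∀ i, Module.finrank k (E i ⟶ E i) = 1)
    (hexc : ∀ i j : Fin n, j < i → ∀ p : ℕ, Subsingleton (Abelian.Ext (E i) (E j) p))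
    (hstr : ∀ (i j : Fin n) (p : ℕ), 1 ≤ p → Subsingleton (Abelian.Ext (E i) (E j) p))
    (S : ShortComplex Y.Modules) (hS : S.ShortExact)
    (m₁ : ℕ) (c₁ : Fin m₁ → Fin n) (hc₁ : ∀ t, (c₁ t : ℕ) < d) (e₁ : S.X₁ ≅ ∐ fun t => E (c₁ t))
    (m₂ : ℕ) (c₂ : Fin m₂ → Fin n) (hc₂ : ∀ t, d ≤ (c₂ t : ℕ)) (e₂ : S.X₂ ≅ ∐ fun t => E (c₂ t)) :
    (∀ (i : Fin n) (p : ℕ), 1 ≤ p → Subsingleton (Abelian.Ext (E i) S.X₃ p)) ∧
      (∀ i : Fin n, (i : ℕ) < d → ∀ p : ℕ, p ≠ 1 → Subsingleton (Abelian.Ext S.X₃ (E i) p)) := by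
  exact general S hS d E hexc hstr m₁ c₁ e₁ m₂ c₂ hc₂ e₂

end Groth.Agent.S17487
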