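import Groth.Statements.S1750
import Groth.Agent.Lib.Helper2.InjHull3
import Groth.Agent.S5170
import Mathlib.RingTheory.Flat.Basic
-- import your own Groth.Agent.* helpers here

set_option autoImplicit false
universe u
open InjHull

namespace Groth.Agent.S1750

open IsLocalRing TensorProduct Groth.Agent.Lib.Helper2 in
/-- An injective module over a flat `R`-algebra `S` is injective over `R`. -/
theorem injective_of_flat (R S : Type u) [CommRing R] [CommRing S] [Algebra R S] [Module.Flat R S]
    (E : Type u) [AddCommGroup E] [Module S E] [Module R E] [IsScalarTower R S E]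
    (hE : Module.Injective S E) : Module.Injective R E := by
  refine ⟨fun X Y _ _ _ _ a ha h => ?_⟩
  have hinj : Function.Injective (a.baseChange S) :=
    Module.Flat.lTensor_preserves_injective_linearMap a ha
  obtain ⟨k, hk⟩ := hE.out (a.baseChange S) hinj (LinearMap.liftBaseChange S h)
  refine ⟨(k.restrictScalars R) ∘ₗ (TensorProduct.mk R S Y 1), fun x => ?_⟩
  have := hk ((1 : S) ⊗ₜ[R] x)
  simpa using this

/-- Let R → S be a flat local homomorphism of Noetherian local rings with m_R S = m_S inducing a
bijection on residue fields. If κ_S → E is an injective hull of the residue field of S over S, then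
E regarded as an R-module is an injective hull of the residue field of R (for a suitable R-linear
map κ_R → E). -/
theorem result (R S : Type u) [CommRing R] [CommRing S] [IsLocalRing R] [IsLocalRing S] [IsNoetherianRing R] [IsNoetherianRing S] [Algebra R S] [IsLocalHom (algebraMap R S)] [Module.Flat R S] (hm : (IsLocalRing.maximalIdeal R).map (algebraMap R S) = IsLocalRing.maximalIdeal S) (hk : Function.Bijective (IsLocalRing.ResidueField.map (algebraMap R S))) (E : Type u) [AddCommGroup E] [Module S E] [Module R E] [IsScalarTower R S E] (f : IsLocalRing.ResidueField S →ₗ[S] E) (hf : InjHull.IsInjectiveHull f) : ∃ g : IsLocalRing.ResidueField R →ₗ[R] E, InjHull.IsInjectiveHull g := by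
  -- the `R`-linear map `k_R → k_S → E`
  have hlin : ∀ (r : R) (c : IsLocalRing.ResidueField R),
      IsLocalRing.ResidueField.map (algebraMap R S) (r • c) =
        r • IsLocalRing.ResidueField.map (algebraMap R S) c := by
    intro r c
    rw [Algebra.smul_def, map_mul, Algebra.smul_def]
    congr 1
  let ι : IsLocalRing.ResidueField R →ₗ[R] IsLocalRing.ResidueField S :=
    { toFun := IsLocalRing.ResidueField.map (algebraMap R S)
      map_add' := map_add _
      map_smul' := hlin }
  let g : IsLocalRing.ResidueField R →ₗ[R] E := (f.restrictScalars R) ∘ₗ ι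
  have hg : ∀ c, g c = f (IsLocalRing.ResidueField.map (algebraMap R S) c) := fun c => rfl
  -- `E` is `m_R`-power torsion
  have htorsS := Groth.Agent.Lib.Helper2.isPowerTorsion_of_isInjectiveHull f hf
  have htorsR : LocCoh.IsPowerTorsion (IsLocalRing.maximalIdeal R) E := by
    intro e
    obtain ⟨n, hn⟩ := htorsS e
    refine ⟨n, fun b hb => ?_⟩
    have hb' : algebraMap R S b ∈ IsLocalRing.maximalIdeal S ^ n := by
      rw [← hm, ← Ideal.map_pow]
      exact Ideal.mem_map_of_mem _ hb
    have := hn _ hb'
    rwa [algebraMap_smul] at this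
  refine ⟨g, Groth.Agent.Lib.Helper2.isInjectiveHull_mk ?_ ?_
    (injective_of_flat R S E hf.isInjective)⟩
  · exact hf.injective.comp hk.1
  · intro e he
    obtain ⟨r, hr0, hr⟩ := Groth.Agent.Lib.Helper2.essIn_socle_of_isPowerTorsion
      (IsLocalRing.maximalIdeal R) htorsR e Submodule.mem_top he
    refine ⟨r, hr0, ?_⟩
    -- `r • e` is killed by `m_S = m_R S`
    have hkill : ∀ a ∈ IsLocalRing.maximalIdeal S, a • (r • e) = 0 := by
      intro a ha
      rw [← hm] at ha
      refine Submodule.span_induction (p := fun a _ => a • (r • e) = 0) ?_ ?_ ?_ ?_ ha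
      · rintro _ ⟨b, hb, rfl⟩
        rw [algebraMap_smul]
        exact (Submodule.mem_torsionBySet_iff _ _).mp hr ⟨b, hb⟩
      · exact zero_smul _ _
      · intro x y _ _ hx hy
        rw [add_smul, hx, hy, add_zero]
      · intro s x _ hx
        rw [smul_eq_mul, mul_smul, hx, smul_zero]
    obtain ⟨c, hc⟩ := Groth.Agent.S5170.mem_range_of_soc f hf.toIsEssentialInj (r • e) hkill
    obtain ⟨c', rfl⟩ := hk.2 c
    exact ⟨c', by rw [hg, hc]⟩

end Groth.Agent.S1750
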