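import Groth.Statements.S17500
import Mathlib
-- import your own Groth.Agent.* helpers here

set_option autoImplicit false
universe u
open TorsMod

namespace Groth.Agent.S17500

section general
open TensorProduct

variable {R : Type*} [CommRing R] {H : Type*} [AddCommGroup H] [Module R H]

theorem inj_iff (a : R) :
    Function.Injective (TensorProduct.lift ((LinearMap.lsmul R H).comp
      (Ideal.span {a} : Ideal R).subtype)) ↔
      ∀ h : H, a • h = 0 → h ∈ (Ideal.torsionOf R R a) • (⊤ : Submodule R H) := by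
  set T := Ideal.torsionOf R R a with hT
  let E : (H ⧸ (T • ⊤ : Submodule R H)) ≃ₗ[R] (Ideal.span {a} : Ideal R) ⊗[R] H :=
    (TensorProduct.quotTensorEquivQuotSMul H T).symm ≪≫ₗ
      TensorProduct.congr (Ideal.quotTorsionOfEquivSpanSingleton R R a) (LinearEquiv.refl R H)
  have hE : ∀ h : H, TensorProduct.lift ((LinearMap.lsmul R H).comp
      (Ideal.span {a} : Ideal R).subtype) (E (Submodule.Quotient.mk h)) = a • h := by
    intro h
    simp only [E, LinearEquiv.trans_apply, TensorProduct.quotTensorEquivQuotSMul_symm_mk,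
      TensorProduct.congr_tmul, LinearEquiv.refl_apply]
    have : (1 : R ⧸ T) = Submodule.Quotient.mk (1 : R) := rfl
    rw [this, Ideal.quotTorsionOfEquivSpanSingleton_apply_mk, one_smul, TensorProduct.lift.tmul]
    rfl
  constructor
  · intro hinj h hah
    have h0 : E (Submodule.Quotient.mk h) = 0 := hinj (by rw [hE, hah, map_zero])
    exact (Submodule.Quotient.mk_eq_zero _).1 (E.map_eq_zero_iff.1 h0)
  · intro hcond
    rw [injective_iff_map_eq_zero]
    intro x hx
    obtain ⟨y, rfl⟩ := E.surjective x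
    obtain ⟨h, rfl⟩ := Submodule.Quotient.mk_surjective _ y
    rw [hE] at hx
    rw [(Submodule.Quotient.mk_eq_zero _).2 (hcond h hx), map_zero]

end general

section zmod
variable (p n : ℕ) [hp : Fact p.Prime]

theorem p_pow_n_eq_zero : ((p : ZMod (p ^ n)) ^ n) = 0 := by
  rw [← Nat.cast_pow, ZMod.natCast_self]

theorem exists_unit_mul_pow (a : ZMod (p ^ n)) :
    ∃ (u : (ZMod (p ^ n))ˣ) (i : ℕ), i ≤ n ∧ a = u * (p : ZMod (p ^ n)) ^ i := by
  have : NeZero (p ^ n) := ⟨pow_ne_zero _ hp.out.ne_zero⟩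
  by_cases ha : a = 0
  · exact ⟨1, n, le_rfl, by rw [ha, p_pow_n_eq_zero, mul_zero]⟩
  · have hm : a.val ≠ 0 := (ZMod.val_ne_zero a).2 ha
    obtain ⟨j, u, hu, hau⟩ := Nat.exists_eq_pow_mul_and_not_dvd hm p hp.out.ne_one
    have hcop : Nat.Coprime u (p ^ n) :=
      Nat.Coprime.pow_right n ((Nat.Prime.coprime_iff_not_dvd hp.out).2 hu).symm
    rcases le_or_gt j n with hj | hj
    · refine ⟨ZMod.unitOfCoprime u hcop, j, hj, ?_⟩
      rw [ZMod.coe_unitOfCoprime, ← ZMod.natCast_zmod_val a, hau]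
      push_cast
      ring
    · exfalso
      apply ha
      rw [← ZMod.natCast_zmod_val a, hau, ZMod.natCast_eq_zero_iff]
      exact Dvd.dvd.mul_right (pow_dvd_pow p hj.le) u

theorem torsionOf_pow (i : ℕ) (hi : i ≤ n) :
    Ideal.torsionOf (ZMod (p ^ n)) (ZMod (p ^ n)) ((p : ZMod (p ^ n)) ^ i) =
      Ideal.span {(p : ZMod (p ^ n)) ^ (n - i)} := by
  have : NeZero (p ^ n) := ⟨pow_ne_zero _ hp.out.ne_zero⟩
  apply le_antisymm
  · intro r hr
    rw [Ideal.mem_torsionOf_iff, smul_eq_mul] at hr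
    rw [← ZMod.natCast_zmod_val r, ← Nat.cast_pow, ← Nat.cast_mul, ZMod.natCast_eq_zero_iff] at hr
    have hn : p ^ n = p ^ (n - i) * p ^ i := by rw [← pow_add, Nat.sub_add_cancel hi]
    have hr' : p ^ (n - i) * p ^ i ∣ r.val * p ^ i := hn ▸ hr
    have hdvd : p ^ (n - i) ∣ r.val :=
      Nat.dvd_of_mul_dvd_mul_right (pow_pos hp.out.pos i) hr'
    obtain ⟨k, hk⟩ := hdvd
    rw [Ideal.mem_span_singleton]
    refine ⟨(k : ZMod (p ^ n)), ?_⟩
    rw [← ZMod.natCast_zmod_val r, hk]
    push_cast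
    rfl
  · rw [Ideal.span_le, Set.singleton_subset_iff, SetLike.mem_coe, Ideal.mem_torsionOf_iff,
      smul_eq_mul, ← pow_add, Nat.sub_add_cancel hi, p_pow_n_eq_zero]

end zmod

/-- Let p be a prime number, n a natural number and H a module over ℤ/p^nℤ. Then H is flat over ℤ/p^nℤ
if and only if, for every i with 0 ≤ i ≤ n, the kernel of multiplication by p^i on H coincides with
the image of multiplication by p^(n-i) on H. (The published item is phrased for an fppf sheaf of
ℤ/p^nℤ-modules on a scheme; this is the case of a single module, which is the case the argument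
treats.) -/
theorem result (p n : ℕ) [Fact p.Prime]
    (H : Type u) [AddCommGroup H] [Module (ZMod (p ^ n)) H] :
    Module.Flat (ZMod (p ^ n)) H ↔
      ∀ i : ℕ, i ≤ n →
        LinearMap.ker ((p ^ i : ZMod (p ^ n)) • (LinearMap.id : H →ₗ[ZMod (p ^ n)] H)) =
          LinearMap.range ((p ^ (n - i) : ZMod (p ^ n)) • (LinearMap.id : H →ₗ[ZMod (p ^ n)] H)) := by
  have hker : ∀ i : ℕ, ∀ h : H, h ∈ LinearMap.ker ((p ^ i : ZMod (p ^ n)) •
      (LinearMap.id : H →ₗ[ZMod (p ^ n)] H)) ↔ (p : ZMod (p ^ n)) ^ i • h = 0 := by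
    intro i h
    rw [LinearMap.mem_ker, LinearMap.smul_apply, LinearMap.id_apply]
  have hrange : ∀ i : ℕ, ∀ h : H, h ∈ LinearMap.range ((p ^ i : ZMod (p ^ n)) •
      (LinearMap.id : H →ₗ[ZMod (p ^ n)] H)) ↔ ∃ h', (p : ZMod (p ^ n)) ^ i • h' = h := by
    intro i h
    rw [LinearMap.mem_range]
    simp only [LinearMap.smul_apply, LinearMap.id_apply]
  have hspan : ∀ i : ℕ, ∀ h : H, h ∈ (Ideal.span {(p : ZMod (p ^ n)) ^ i}) •
      (⊤ : Submodule (ZMod (p ^ n)) H) ↔ ∃ h', (p : ZMod (p ^ n)) ^ i • h' = h := by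
    intro i h
    rw [Submodule.ideal_span_singleton_smul, Submodule.mem_smul_pointwise_iff_exists]
    simp
  constructor
  · intro hflat i hi
    ext h
    rw [hker, hrange]
    constructor
    · intro hh
      have hinj := (Module.Flat.iff_lift_lsmul_comp_subtype_injective.1 hflat)
        (Submodule.fg_span_singleton ((p : ZMod (p ^ n)) ^ i))
      have := (inj_iff _).1 hinj h hh
      rw [torsionOf_pow p n i hi, hspan] at this
      exact this
    · rintro ⟨h', rfl⟩
      rw [smul_smul, ← pow_add, Nat.add_sub_cancel' hi, p_pow_n_eq_zero, zero_smul]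
  · intro hcond
    rw [Module.Flat.iff_lift_lsmul_comp_subtype_injective]
    intro I _
    have hpir : IsPrincipalIdealRing (ZMod (p ^ n)) :=
      IsPrincipalIdealRing.of_surjective (Int.castRingHom (ZMod (p ^ n))) ZMod.intCast_surjective
    obtain ⟨a, rfl⟩ : ∃ a, I = Ideal.span {a} := ⟨_, (Submodule.IsPrincipal.span_singleton_generator I).symm⟩
    obtain ⟨u, i, hi, rfl⟩ := exists_unit_mul_pow p n a
    rw [Ideal.span_singleton_mul_left_unit u.isUnit, inj_iff]
    intro h hh
    have hmem : h ∈ LinearMap.ker ((p ^ i : ZMod (p ^ n)) •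
        (LinearMap.id : H →ₗ[ZMod (p ^ n)] H)) := (hker i h).2 hh
    rw [hcond i hi, hrange] at hmem
    rw [torsionOf_pow p n i hi, hspan]
    exact hmem

end Groth.Agent.S17500
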