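import Groth.Statements.S17525
import Groth.Agent.Lib.Helper75.LinRedKerE

set_option autoImplicit false
universe u
open HopfRep

namespace Groth.Agent.S17525

/-- Let `k` be a field and `1 → K → G → Q → 1` an exact sequence of affine group schemes of finite type
over `k`, written on coordinate rings: `AQ`, `AG`, `AK` are commutative Hopf algebras of finite type
over `k`, `φ : AQ → AG` is an injective bialgebra map (so `G → Q` is faithfully flat) and `ψ : AG →
AK` is a surjective bialgebra map (so `K` is a closed subgroup of `G`) whose kernel is the ideal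
generated by the image under `φ` of the augmentation ideal of `AQ` (so `K` is the kernel of `G →
Q`). Then `G` is linearly reductive — every finite-dimensional comodule is semisimple — if and only
if both `K` and `Q` are. -/
theorem result
    (k : Type u) [Field k]
    (AQ AG AK : Type u) [CommRing AQ] [HopfAlgebra k AQ] [Algebra.FiniteType k AQ]
    [CommRing AG] [HopfAlgebra k AG] [Algebra.FiniteType k AG]
    [CommRing AK] [HopfAlgebra k AK] [Algebra.FiniteType k AK]
    (φ : AQ →ₐc[k] AG) (hφ : Function.Injective φ)
    (ψ : AG →ₐc[k] AK) (hψ : Function.Surjective ψ)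
    (hker : RingHom.ker (ψ : AG →ₐ[k] AK) =
      Ideal.map (φ : AQ →ₐ[k] AG) (RingHom.ker (Bialgebra.counitAlgHom k AQ))) :
    HopfRep.IsLinearlyReductive k AG ↔
      HopfRep.IsLinearlyReductive k AK ∧ HopfRep.IsLinearlyReductive k AQ := by
  have hker' : RingHom.ker (ψ : AG →ₐ[k] AK) = Groth.Agent.Lib.Helper23.HopfFlat.augSpan φ := hker
  constructor
  · intro hG
    exact ⟨Groth.Agent.Lib.Helper75.LinRedKer.isLinearlyReductive_kernel φ hφ ψ hψ hker' hG,
      Groth.Agent.Lib.Helper75.LinRedKer.isLinearlyReductive_quotient φ hφ hG⟩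
  · rintro ⟨hK, hQ⟩
    exact Groth.Agent.Lib.Helper75.LinRedKer.isLinearlyReductive_of_kernel_quotient φ hφ ψ hψ hker' hK hQ

end Groth.Agent.S17525
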