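import Groth.Statements.S17537
-- import your own Groth.Agent.* helpers here

set_option autoImplicit false
universe u v
open CAlg

namespace Groth.Agent.S17537

/-- For a commutative ring A, an ideal I and an A-module M, the I-adic completion M^ of M is itself
I-adically complete if and only if, for every n, every element of M^ is congruent modulo I^n M^ to
the image of an element of M (the maps M/I^n M → M^/I^n M^ are surjective). -/
theorem result {A : Type u} [CommRing A] (I : Ideal A)
    (M : Type v) [AddCommGroup M] [Module A M] :
    IsAdicComplete I (AdicCompletion I M) ↔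
      ∀ (n : ℕ) (x : AdicCompletion I M), ∃ y : M,
        x - AdicCompletion.of I M y ∈ (I ^ n • ⊤ : Submodule A (AdicCompletion I M)) := by
  have hmapof : ∀ n : ℕ, (I ^ n • ⊤ : Submodule A M).map (AdicCompletion.of I M) ≤ I ^ n • ⊤ := by
    intro n
    rw [Submodule.map_smul'']
    exact Submodule.smul_mono le_rfl le_top
  constructor
  · intro hc n x
    have hy : ∀ k : ℕ, ∃ y : M, Submodule.mkQ (I ^ k • ⊤ : Submodule A M) y = x.val k :=
      fun k => Submodule.mkQ_surjective _ _
    choose y hy using hy
    have hcauchy : ∀ {m k : ℕ}, m ≤ k → AdicCompletion.of I M (y m) ≡ AdicCompletion.of I M (y k)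
        [SMOD (I ^ m • ⊤ : Submodule A (AdicCompletion I M))] := by
      intro m k hmk
      rw [SModEq.sub_mem, ← map_sub]
      apply hmapof m
      apply Submodule.mem_map_of_mem
      have h1 : AdicCompletion.transitionMap I M hmk (x.val k) = x.val m := x.property hmk
      rw [← hy k, ← hy m] at h1
      have h2 : Submodule.mkQ (I ^ m • ⊤ : Submodule A M) (y k) =
          Submodule.mkQ (I ^ m • ⊤ : Submodule A M) (y m) := h1
      have h3 : Submodule.mkQ (I ^ m • ⊤ : Submodule A M) (y m - y k) = 0 := by
        rw [map_sub, h2, sub_self]
      exact (Submodule.Quotient.mk_eq_zero _).mp h3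
    obtain ⟨L, hL⟩ := hc.toIsPrecomplete.prec' (fun k => AdicCompletion.of I M (y k)) hcauchy
    have hLx : L = x := by
      apply AdicCompletion.ext
      intro k
      have h4 := hL k
      rw [SModEq.sub_mem] at h4
      have h5 := AdicCompletion.pow_smul_top_le_ker_eval I k h4
      rw [LinearMap.mem_ker, map_sub, sub_eq_zero, AdicCompletion.eval_of,
        AdicCompletion.eval_apply] at h5
      rw [← h5, hy k]
    refine ⟨y n, ?_⟩
    have h6 := hL n
    rw [SModEq.sub_mem, hLx] at h6
    have : x - AdicCompletion.of I M (y n) = -(AdicCompletion.of I M (y n) - x) := by abel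
    rw [this]
    exact Submodule.neg_mem _ h6
  · intro h
    have heq : ∀ n : ℕ, (I ^ n • ⊤ : Submodule A (AdicCompletion I M)) =
        LinearMap.ker (AdicCompletion.eval I M n) := by
      intro n
      refine le_antisymm (AdicCompletion.pow_smul_top_le_ker_eval I n) ?_
      intro x hx
      obtain ⟨y, hy⟩ := h n x
      have h1 : AdicCompletion.of I M y ∈ LinearMap.ker (AdicCompletion.eval I M n) := by
        have h2 := AdicCompletion.pow_smul_top_le_ker_eval I n hy
        have : AdicCompletion.of I M y = x - (x - AdicCompletion.of I M y) := by abel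
        rw [this]
        exact Submodule.sub_mem _ hx h2
      rw [LinearMap.mem_ker, AdicCompletion.eval_of] at h1
      have h3 : y ∈ (I ^ n • ⊤ : Submodule A M) := (Submodule.Quotient.mk_eq_zero _).mp h1
      have h4 : AdicCompletion.of I M y ∈ (I ^ n • ⊤ : Submodule A (AdicCompletion I M)) :=
        hmapof n (Submodule.mem_map_of_mem h3)
      have : x = (x - AdicCompletion.of I M y) + AdicCompletion.of I M y := by abel
      rw [this]
      exact Submodule.add_mem _ hy h4
    refine { haus' := ?_, prec' := ?_ }
    · intro x hx
      apply AdicCompletion.ext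
      intro n
      have h1 := hx n
      rw [SModEq.sub_mem, sub_zero, heq n, LinearMap.mem_ker, AdicCompletion.eval_apply] at h1
      rw [h1]
      rfl
    · intro x hx
      let L : AdicCompletion I M :=
        ⟨fun i => (x i).val i, by
          intro m n h'
          have h1 := hx h'
          rw [SModEq.sub_mem, heq m, LinearMap.mem_ker, map_sub, sub_eq_zero,
            AdicCompletion.eval_apply, AdicCompletion.eval_apply] at h1
          change AdicCompletion.transitionMap I M h' ((x n).val n) = (x m).val m
          rw [(x n).property h', h1]⟩
      refine ⟨L, fun i => ?_⟩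
      rw [SModEq.sub_mem, heq i, LinearMap.mem_ker, map_sub, sub_eq_zero,
        AdicCompletion.eval_apply, AdicCompletion.eval_apply]

end Groth.Agent.S17537
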