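import Groth.Statements.S17538
-- import your own Groth.Agent.* helpers here

set_option autoImplicit false
universe u v
open CAlg

namespace Groth.Agent.S17538

/-- For a commutative ring A, an ideal I and an A-module M, the canonical map from the I-adic completion
M^ to the I-adic completion of M^ admits an A-linear retraction (it is a split injection). (That M^
is I-adically separated is standard.) -/
theorem result {A : Type u} [CommRing A] (I : Ideal A)
    (M : Type v) [AddCommGroup M] [Module A M] :
    ∃ ψ : AdicCompletion I (AdicCompletion I M) →ₗ[A] AdicCompletion I M,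
      ψ ∘ₗ AdicCompletion.of I (AdicCompletion I M) = LinearMap.id := by
  -- the maps  M^^ → M^ / I^n M^ → M / I^n M
  let g : ∀ n : ℕ, (AdicCompletion I M ⧸ (I ^ n • ⊤ : Submodule A (AdicCompletion I M))) →ₗ[A]
      M ⧸ (I ^ n • ⊤ : Submodule A M) := fun n =>
    Submodule.liftQ _ (AdicCompletion.eval I M n) (AdicCompletion.pow_smul_top_le_ker_eval I n)
  let f : ∀ n : ℕ, AdicCompletion I (AdicCompletion I M) →ₗ[A] M ⧸ (I ^ n • ⊤ : Submodule A M) :=
    fun n => g n ∘ₗ AdicCompletion.eval I (AdicCompletion I M) n
  have hf : ∀ {m n : ℕ} (hle : m ≤ n), AdicCompletion.transitionMap I M hle ∘ₗ f n = f m := by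
    intro m n hle
    apply LinearMap.ext
    intro ξ
    have h1 : AdicCompletion.transitionMap I (AdicCompletion I M) hle (ξ.val n) = ξ.val m :=
      ξ.property hle
    simp only [f, LinearMap.comp_apply, AdicCompletion.eval_apply]
    rw [← h1]
    obtain ⟨x, hx⟩ := Submodule.mkQ_surjective _ (ξ.val n)
    rw [← hx]
    change AdicCompletion.transitionMap I M hle (x.val n) = x.val m
    exact x.property hle
  refine ⟨AdicCompletion.lift I f hf, ?_⟩
  apply LinearMap.ext
  intro x
  apply AdicCompletion.ext
  intro n
  rfl

end Groth.Agent.S17538
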