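import Groth.Statements.S17539
import Mathlib
import Groth.Agent.S17537
import Groth.Agent.Lib.Helper65.ComplSplit

set_option autoImplicit false
universe u v w
open W4c5adicflatcompl
open CAlg

namespace Groth.Agent.S17539

open Groth.Agent.Lib.Helper65.ComplSplit

/-- coordinatewise description of `𝔞 • ⊤` in `Z →₀ M`. -/
theorem finsupp_mem_smul_top_iff {A : Type*} [CommRing A] {Z M : Type*} [AddCommGroup M]
    [Module A M] (𝔞 : Ideal A) (f : Z →₀ M) :
    f ∈ (𝔞 • ⊤ : Submodule A (Z →₀ M)) ↔ ∀ z, f z ∈ (𝔞 • ⊤ : Submodule A M) := by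
  classical
  constructor
  · intro hf z
    have hle : (𝔞 • ⊤ : Submodule A (Z →₀ M)).map (Finsupp.lapply z) ≤ 𝔞 • ⊤ := by
      rw [Submodule.map_smul'']; exact Submodule.smul_mono le_rfl le_top
    exact hle (Submodule.mem_map_of_mem hf)
  · intro h
    have e : f = ∑ z ∈ f.support, Finsupp.single z (f z) := (Finsupp.sum_single f).symm
    rw [e]
    refine Submodule.sum_mem _ fun z _ => ?_
    have hle : (𝔞 • ⊤ : Submodule A M).map (Finsupp.lsingle z) ≤
        (𝔞 • ⊤ : Submodule A (Z →₀ M)) := by
      rw [Submodule.map_smul'']; exact Submodule.smul_mono le_rfl le_top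
    exact hle (Submodule.mem_map_of_mem (h z))

/-- if the completion is complete, the kernel of `eval n` is `I ^ n • ⊤`. -/
theorem mem_pow_smul_top_of_val_eq_zero {A : Type*} [CommRing A] (I : Ideal A) (M : Type*)
    [AddCommGroup M] [Module A M] [hc : IsAdicComplete I (AdicCompletion I M)] (n : ℕ)
    (x : AdicCompletion I M) (hx : x.val n = 0) :
    x ∈ (I ^ n • ⊤ : Submodule A (AdicCompletion I M)) := by
  have h := (Groth.Agent.S17537.result I M).mp hc
  have hmapof : (I ^ n • ⊤ : Submodule A M).map (AdicCompletion.of I M) ≤ I ^ n • ⊤ := by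
    rw [Submodule.map_smul'']
    exact Submodule.smul_mono le_rfl le_top
  obtain ⟨y, hy⟩ := h n x
  have hx' : x ∈ LinearMap.ker (AdicCompletion.eval I M n) := by
    rw [LinearMap.mem_ker, AdicCompletion.eval_apply]; exact hx
  have h1 : AdicCompletion.of I M y ∈ LinearMap.ker (AdicCompletion.eval I M n) := by
    have h2 := AdicCompletion.pow_smul_top_le_ker_eval I n hy
    have : AdicCompletion.of I M y = x - (x - AdicCompletion.of I M y) := by abel
    rw [this]
    exact Submodule.sub_mem _ hx' h2
  rw [LinearMap.mem_ker, AdicCompletion.eval_of] at h1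
  have h3 : y ∈ (I ^ n • ⊤ : Submodule A M) := (Submodule.Quotient.mk_eq_zero _).mp h1
  have h4 : AdicCompletion.of I M y ∈ (I ^ n • ⊤ : Submodule A (AdicCompletion I M)) :=
    hmapof (Submodule.mem_map_of_mem h3)
  have : x = (x - AdicCompletion.of I M y) + AdicCompletion.of I M y := by abel
  rw [this]
  exact Submodule.add_mem _ hy h4

theorem val_eq_zero_of_mem_pow_smul_top {A : Type*} [CommRing A] (I : Ideal A) (M : Type*)
    [AddCommGroup M] [Module A M] (n : ℕ)
    (x : AdicCompletion I M) (hx : x ∈ (I ^ n • ⊤ : Submodule A (AdicCompletion I M))) :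
    x.val n = 0 := by
  have h2 := AdicCompletion.pow_smul_top_le_ker_eval I n hx
  rw [LinearMap.mem_ker, AdicCompletion.eval_apply] at h2
  exact h2

theorem result {A : Type u} [CommRing A] (I : Ideal A) (Z : Type v)
    (M : Type w) [AddCommGroup M] [Module A M] [IsAdicComplete I (AdicCompletion I M)] :
    Function.Injective
        (LinearMap.pi fun z : Z =>
          (AdicCompletion.map I (Finsupp.lapply (M := M) (R := A) z)).restrictScalars A) ∧
      LinearMap.range
        (LinearMap.pi fun z : Z =>
          (AdicCompletion.map I (Finsupp.lapply (M := M) (R := A) z)).restrictScalars A) =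
        decaying I Z (AdicCompletion I M) := by
  classical
  have hval : ∀ (x : AdicCompletion I (Z →₀ M)) (z : Z) (n : ℕ) (f : Z →₀ M),
      Submodule.Quotient.mk f = x.val n →
      ((LinearMap.pi fun z : Z =>
          (AdicCompletion.map I (Finsupp.lapply (M := M) (R := A) z)).restrictScalars A) x z).val n
        = Submodule.Quotient.mk (f z) := by
    intro x z n f hf
    exact map_val_mk I (Finsupp.lapply (M := M) (R := A) z) x n f hf
  constructor
  · rw [injective_iff_map_eq_zero]
    intro x hx
    apply AdicCompletion.ext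
    intro n
    obtain ⟨f, hf⟩ := Submodule.Quotient.mk_surjective _ (x.val n)
    rw [← hf, AdicCompletion.val_zero_apply, Submodule.Quotient.mk_eq_zero,
      finsupp_mem_smul_top_iff]
    intro z
    have h1 := hval x z n f hf
    rw [hx] at h1
    exact (Submodule.Quotient.mk_eq_zero _).mp h1.symm
  · ext g
    constructor
    · rintro ⟨x, rfl⟩ n
      obtain ⟨f, hf⟩ := Submodule.Quotient.mk_surjective _ (x.val n)
      refine f.support.finite_toSet.subset ?_
      intro z hz
      by_contra hzs
      apply hz
      apply mem_pow_smul_top_of_val_eq_zero I M n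
      rw [hval x z n f hf]
      have : f z = 0 := Finsupp.notMem_support_iff.mp hzs
      rw [this, Submodule.Quotient.mk_zero]
    · intro hg
      have hg' : ∀ n : ℕ, {z | g z ∉ (I ^ n • ⊤ : Submodule A (AdicCompletion I M))}.Finite := hg
      have hm : ∀ (z : Z) (n : ℕ), ∃ m : M,
          (Submodule.Quotient.mk m : M ⧸ (I ^ n • ⊤ : Submodule A M)) = (g z).val n :=
        fun z n => Submodule.Quotient.mk_surjective _ _
      choose m hm using hm
      let f : ℕ → (Z →₀ M) := fun n => ∑ z ∈ (hg' n).toFinset, Finsupp.single z (m z n)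
      have hf : ∀ n z, f n z = if z ∈ (hg' n).toFinset then m z n else 0 := by
        intro n z
        simp only [f, Finsupp.finset_sum_apply, Finsupp.single_apply]
        rw [Finset.sum_ite_eq']
      have hrep : ∀ n z, (Submodule.Quotient.mk (f n z) : M ⧸ (I ^ n • ⊤ : Submodule A M)) =
          (g z).val n := by
        intro n z
        rw [hf]
        split_ifs with h
        · exact hm z n
        · rw [Submodule.Quotient.mk_zero]
          symm
          apply val_eq_zero_of_mem_pow_smul_top
          by_contra h'
          exact h ((hg' n).mem_toFinset.mpr h')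
      have hcompat : ∀ {k n : ℕ} (hkn : k ≤ n),
          AdicCompletion.transitionMap I (Z →₀ M) hkn (Submodule.Quotient.mk (f n)) =
            Submodule.Quotient.mk (f k) := by
        intro k n hkn
        rw [transitionMap_mk, Submodule.Quotient.eq, finsupp_mem_smul_top_iff]
        intro z
        rw [Finsupp.sub_apply, ← Submodule.Quotient.eq, hrep k z]
        have h1 : AdicCompletion.transitionMap I M hkn ((g z).val n) = (g z).val k := (g z).2 hkn
        rw [← h1, ← hrep n z, transitionMap_mk]
      let x : AdicCompletion I (Z →₀ M) := ⟨fun n => Submodule.Quotient.mk (f n), hcompat⟩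
      refine ⟨x, ?_⟩
      funext z
      apply AdicCompletion.ext
      intro n
      rw [hval x z n (f n) rfl, hrep]

end Groth.Agent.S17539
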