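import Groth.Statements.S17540
import Groth.Agent.Lib.Helper88.Decaying

set_option autoImplicit false
universe u v w
open W4c5adicflatcompl
open CAlg

namespace Groth.Agent.S17540

/-- Let A be I-adically complete, M an I-adically complete A-module and m : Z → M a family. The images
of the m z generate M/IM (the span of the family together with IM is all of M) if and only if the
family I-adically generates M: every x in M is the I-adically convergent sum of g z • m z for some
I-adically decaying function g : Z → A. -/
theorem result {A : Type u} [CommRing A] (I : Ideal A) [IsAdicComplete I A]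
    (M : Type v) [AddCommGroup M] [Module A M] [IsAdicComplete I M] (Z : Type w) (m : Z → M) :
    Submodule.span A (Set.range m) ⊔ I • ⊤ = ⊤ ↔
      ∀ x : M, ∃ g : Z → A, g ∈ decaying I Z A ∧
        ∀ n : ℕ, ∃ S : Finset Z,
          (∀ z, z ∉ S → g z • m z ∈ (I ^ n • ⊤ : Submodule A M)) ∧
          x - (∑ z ∈ S, g z • m z) ∈ (I ^ n • ⊤ : Submodule A M) := by
  classical
  constructor
  · intro hN x
    set N := Submodule.span A (Set.range m) with hNdef
    -- the approximation step
    have hpow : ∀ k : ℕ, (I ^ k • ⊤ : Submodule A M) = I ^ k • N ⊔ I ^ (k + 1) • ⊤ := by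
      intro k
      conv_lhs => rw [← hN, Submodule.smul_sup, ← Submodule.mul_smul, ← pow_succ]
    have hstep : ∀ (k : ℕ) (y : M), ∃ (a : Z →₀ A) (y' : M), y ∈ (I ^ k • ⊤ : Submodule A M) →
        (∀ z, a z ∈ I ^ k) ∧ y' ∈ (I ^ (k + 1) • ⊤ : Submodule A M) ∧
          y = (a.sum fun z c => c • m z) + y' := by
      intro k y
      by_cases hy : y ∈ (I ^ k • ⊤ : Submodule A M)
      · rw [hpow k] at hy
        obtain ⟨n, hn, y', hy', rfl⟩ := Submodule.mem_sup.mp hy
        obtain ⟨a, ha, rfl⟩ := (Submodule.mem_ideal_smul_span_iff_exists_sum (I ^ k) m n).mp hn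
        exact ⟨a, y', fun _ => ⟨ha, hy', rfl⟩⟩
      · exact ⟨0, 0, fun h => absurd h hy⟩
    choose stepA stepY hstep using hstep
    let X : ℕ → M := fun k => Nat.rec x (fun k y => stepY k y) k
    have hX0 : X 0 = x := rfl
    have hXs : ∀ k, X (k + 1) = stepY k (X k) := fun k => rfl
    let a : ℕ → (Z →₀ A) := fun k => stepA k (X k)
    have hX : ∀ k, X k ∈ (I ^ k • ⊤ : Submodule A M) := by
      intro k
      induction k with
      | zero => rw [pow_zero, Ideal.one_eq_top, Submodule.top_smul]; exact Submodule.mem_top
      | succ k ih => rw [hXs]; exact (hstep k (X k) ih).2.1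
    have ha : ∀ k z, a k z ∈ I ^ k := fun k z => (hstep k (X k) (hX k)).1 z
    have hsplit : ∀ k, X k = ((a k).sum fun z c => c • m z) + X (k + 1) :=
      fun k => (hstep k (X k) (hX k)).2.2
    have htel : ∀ n, x = (∑ k ∈ Finset.range n, ((a k).sum fun z c => c • m z)) + X n := by
      intro n
      induction n with
      | zero => simp [hX0]
      | succ n ih =>
        rw [Finset.sum_range_succ, add_assoc, ← hsplit n]
        exact ih
    let G : ℕ → Z → A := fun K z => ∑ k ∈ Finset.range K, a k z
    have hGdiff : ∀ {p q : ℕ}, p ≤ q → ∀ z, G p z - G q z ∈ I ^ p := by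
      intro p q hpq z
      have h1 : G q z = G p z + ∑ k ∈ Finset.range q \ Finset.range p, a k z := by
        change (∑ k ∈ Finset.range q, a k z) = _
        rw [← Finset.sum_sdiff (Finset.range_subset_range.mpr hpq)]
        exact add_comm _ _
      rw [h1, sub_add_cancel_left]
      refine Ideal.neg_mem_iff _ |>.mpr (Ideal.sum_mem _ fun k hk => ?_)
      have hk' : p ≤ k := by
        have := (Finset.mem_sdiff.mp hk).2
        simpa using this
      exact Ideal.pow_le_pow_right hk' (ha k z)
    have hlim : ∀ z : Z, ∃ L : A, ∀ K, G K z ≡ L [SMOD (I ^ K • ⊤ : Submodule A A)] := by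
      intro z
      apply (inferInstance : IsPrecomplete I A).prec'
      intro p q hpq
      rw [SModEq.sub_mem]
      simpa using hGdiff hpq z
    choose g hg using hlim
    have hg' : ∀ z K, G K z - g z ∈ I ^ K := by
      intro z K
      have := hg z K
      rw [SModEq.sub_mem] at this
      simpa using this
    let S : ℕ → Finset Z := fun n => (Finset.range n).biUnion fun k => (a k).support
    have hGS : ∀ n z, z ∉ S n → G n z = 0 := by
      intro n z hz
      refine Finset.sum_eq_zero fun k hk => ?_
      by_contra hne
      apply hz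
      exact Finset.mem_biUnion.mpr ⟨k, hk, Finsupp.mem_support_iff.mpr hne⟩
    have hgS : ∀ n z, z ∉ S n → g z ∈ I ^ n := by
      intro n z hz
      have h1 := hg' z n
      rw [hGS n z hz, zero_sub] at h1
      exact (Ideal.neg_mem_iff _).mp h1
    refine ⟨g, ?_, fun n => ⟨S n, ?_, ?_⟩⟩
    · intro n
      refine (S n).finite_toSet.subset ?_
      intro z hz
      simp only [Set.mem_ofPred_eq] at hz
      by_contra hns
      apply hz
      have := hgS n z hns
      simpa using this
    · intro z hz
      exact Submodule.smul_mem_smul (hgS n z hz) Submodule.mem_top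
    · have h1 : (∑ k ∈ Finset.range n, ((a k).sum fun z c => c • m z)) =
          ∑ z ∈ S n, G n z • m z := by
        have h2 : ∀ k ∈ Finset.range n, ((a k).sum fun z c => c • m z) =
            ∑ z ∈ S n, a k z • m z := by
          intro k hk
          apply Finsupp.sum_of_support_subset
          · intro z hz
            exact Finset.mem_biUnion.mpr ⟨k, hk, hz⟩
          · intro z _
            exact zero_smul _ _
        rw [Finset.sum_congr rfl h2, Finset.sum_comm]
        refine Finset.sum_congr rfl fun z _ => ?_
        rw [← Finset.sum_smul]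
      have h3 : x - ∑ z ∈ S n, g z • m z = X n + ∑ z ∈ S n, (G n z - g z) • m z := by
        conv_lhs => rw [htel n, h1]
        simp only [sub_smul, Finset.sum_sub_distrib]
        abel
      rw [h3]
      refine Submodule.add_mem _ (hX n) (Submodule.sum_mem _ fun z _ => ?_)
      exact Submodule.smul_mem_smul (hg' z n) Submodule.mem_top
  · intro h
    rw [eq_top_iff]
    intro x _
    obtain ⟨g, -, hg⟩ := h x
    obtain ⟨S, -, hS⟩ := hg 1
    rw [pow_one] at hS
    have : x = (∑ z ∈ S, g z • m z) + (x - ∑ z ∈ S, g z • m z) := by abel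
    rw [this]
    refine Submodule.add_mem_sup ?_ hS
    exact Submodule.sum_mem _ fun z _ =>
      Submodule.smul_mem _ _ (Submodule.subset_span (Set.mem_range_self z))

end Groth.Agent.S17540
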