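import Groth.Statements.S17541
import Mathlib.RingTheory.Filtration
-- import your own Groth.Agent.* helpers here

set_option autoImplicit false
universe u v w
open W4c5adicflatcompl
open CAlg

namespace Groth.Agent.S17541

/-- Over a Noetherian ring A which is I-adically complete, for a finitely generated A-module M, a
submodule N and a set Z, a function Z → N decays I-adically in N exactly when it decays I-adically
in M (decaying functions into N are the decaying functions into M with values in N). -/
theorem result {A : Type u} [CommRing A] [IsNoetherianRing A] (I : Ideal A)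
    [IsAdicComplete I A] (Z : Type v) (M : Type w) [AddCommGroup M] [Module A M]
    [Module.Finite A M] (N : Submodule A M) (f : Z → N) :
    f ∈ decaying I Z N ↔ (fun z => (f z : M)) ∈ decaying I Z M := by
  have key : ∀ (n : ℕ) (x : N), x ∈ (I ^ n • ⊤ : Submodule A N) ↔ (x : M) ∈ (I ^ n • N : Submodule A M) := by
    intro n x
    have h1 : (I ^ n • ⊤ : Submodule A N).map N.subtype = I ^ n • N := by
      rw [Submodule.map_smul'', Submodule.map_top, Submodule.range_subtype]
    rw [← h1]
    constructor
    · intro hx
      exact Submodule.mem_map_of_mem hx
    · rintro ⟨y, hy, hxy⟩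
      have : y = x := Subtype.ext hxy
      rwa [← this]
  rw [mem_decaying_iff, mem_decaying_iff]
  constructor
  · intro hf n
    refine (hf n).subset ?_
    intro z hz
    simp only [Set.mem_ofPred_eq] at hz ⊢
    intro h
    apply hz
    have h2 := (key n (f z)).mp h
    exact Submodule.smul_mono le_rfl le_top h2
  · intro hf n
    obtain ⟨k, hk⟩ := Ideal.exists_pow_inf_eq_pow_smul I N
    refine (hf (n + k)).subset ?_
    intro z hz
    simp only [Set.mem_ofPred_eq] at hz ⊢
    intro h
    apply hz
    rw [key]
    have h3 : (f z : M) ∈ (I ^ (n + k) • ⊤ ⊓ N : Submodule A M) := ⟨h, (f z).2⟩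
    rw [hk (n + k) (Nat.le_add_left k n), Nat.add_sub_cancel] at h3
    exact Submodule.smul_mono le_rfl inf_le_right h3

end Groth.Agent.S17541
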