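import Groth.Statements.S17542
import Mathlib.RingTheory.Filtration
-- import your own Groth.Agent.* helpers here

set_option autoImplicit false
universe u v w
open W4c5adicflatcompl
open CAlg

namespace Groth.Agent.S17542

/-- Over a Noetherian ring A which is I-adically complete, for a surjection φ : M → M'' of A-modules
with M finitely generated and a set Z, every I-adically decaying function Z → M'' is the composite
of φ with an I-adically decaying function Z → M. (This is the right exactness of the
decaying-functions functor on finitely generated modules; left exactness is the statement about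
submodules.) -/
theorem result {A : Type u} [CommRing A] [IsNoetherianRing A] (I : Ideal A)
    [IsAdicComplete I A] (Z : Type v) {M : Type w} {M'' : Type w} [AddCommGroup M] [Module A M]
    [Module.Finite A M] [AddCommGroup M''] [Module A M''] (φ : M →ₗ[A] M'')
    (hφ : Function.Surjective φ) (g : Z → M'') (hg : g ∈ decaying I Z M'') :
    ∃ f : Z → M, f ∈ decaying I Z M ∧ ∀ z, φ (f z) = g z := by
  classical
  haveI : Module.Finite A M'' := Module.Finite.of_surjective φ hφ
  have hkrull : (⨅ i : ℕ, I ^ i • ⊤ : Submodule A M'') = ⊥ :=
    Ideal.iInf_pow_smul_eq_bot_of_le_jacobson I (IsAdicComplete.le_jacobson_bot I)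
  have hmap : ∀ n : ℕ, (I ^ n • ⊤ : Submodule A M).map φ = I ^ n • ⊤ := by
    intro n
    rw [Submodule.map_smul'', Submodule.map_top, LinearMap.range_eq_top.mpr hφ]
  have hanti : ∀ {m n : ℕ}, m ≤ n → (I ^ n • ⊤ : Submodule A M'') ≤ I ^ m • ⊤ := fun h =>
    Submodule.smul_mono (Ideal.pow_le_pow_right h) le_rfl
  have hanti' : ∀ {m n : ℕ}, m ≤ n → (I ^ n • ⊤ : Submodule A M) ≤ I ^ m • ⊤ := fun h =>
    Submodule.smul_mono (Ideal.pow_le_pow_right h) le_rfl
  have hex : ∀ z : Z, ∃ m : M, φ m = g z ∧
      ∀ n : ℕ, g z ∈ (I ^ n • ⊤ : Submodule A M'') → m ∈ (I ^ n • ⊤ : Submodule A M) := by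
    intro z
    by_cases h0 : g z = 0
    · exact ⟨0, by rw [map_zero, h0], fun n _ => Submodule.zero_mem _⟩
    · have hN : ∃ N : ℕ, g z ∉ (I ^ N • ⊤ : Submodule A M'') := by
        by_contra hcon
        push Not at hcon
        apply h0
        have : g z ∈ (⨅ i : ℕ, I ^ i • ⊤ : Submodule A M'') := (Submodule.mem_iInf _).mpr hcon
        rw [hkrull] at this
        exact (Submodule.mem_bot A).mp this
      let N := Nat.find hN
      have hNspec : g z ∉ (I ^ N • ⊤ : Submodule A M'') := Nat.find_spec hN
      have hNpos : 0 < N := by
        rcases Nat.eq_zero_or_pos N with h | h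
        · exfalso
          apply hNspec
          rw [h, pow_zero, Ideal.one_eq_top, Submodule.top_smul]
          exact Submodule.mem_top
        · exact h
      have hpred : g z ∈ (I ^ (N - 1) • ⊤ : Submodule A M'') := by
        by_contra hc
        have := Nat.find_min' hN hc
        omega
      rw [← hmap (N - 1)] at hpred
      obtain ⟨m, hm, hφm⟩ := hpred
      refine ⟨m, hφm, fun n hn => ?_⟩
      have hlt : n < N := by
        by_contra hge
        push Not at hge
        exact hNspec (hanti hge hn)
      exact hanti' (by omega) hm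
  choose f hf1 hf2 using hex
  refine ⟨f, ?_, hf1⟩
  intro n
  refine (hg n).subset ?_
  intro z hz
  simp only [Set.mem_ofPred_eq] at hz ⊢
  exact fun h => hz (hf2 z n h)

end Groth.Agent.S17542
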