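import Groth.Statements.S17543
import Groth.Agent.Lib.Helper88.Decaying2
import Groth.Agent.S17541

set_option autoImplicit false
universe u v w
open W4c5adicflatcompl
open CAlg

namespace Groth.Agent.S17543

/-- Over a Noetherian ring A which is I-adically complete, for a finitely generated A-module M and a set
Z, the canonical map from M ⊗ (decaying functions Z → A) to functions Z → M is injective and its
image is the module of decaying functions Z → M. -/
theorem result {A : Type u} [CommRing A] [IsNoetherianRing A] (I : Ideal A)
    [IsAdicComplete I A] (Z : Type v) (M : Type w) [AddCommGroup M] [Module A M]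
    [Module.Finite A M] :
    Function.Injective
        ((TensorProduct.piScalarRightHom A A M Z) ∘ₗ ((decaying I Z A).subtype.lTensor M)) ∧
      LinearMap.range
        ((TensorProduct.piScalarRightHom A A M Z) ∘ₗ ((decaying I Z A).subtype.lTensor M)) =
        decaying I Z M := by
  classical
  set D := decaying I Z A with hD
  set T := (TensorProduct.piScalarRightHom A A M Z) ∘ₗ (D.subtype.lTensor M) with hTdef
  have hT : ∀ (m : M) (d : D), T (m ⊗ₜ[A] d) = fun z => (d : Z → A) z • m := by
    intro m d
    simp [hTdef]
  obtain ⟨n, s, hs⟩ := Module.Finite.exists_fin (R := A) (M := M)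
  let φ : (Fin n → A) →ₗ[A] M := Fintype.linearCombination A s
  have hφs : Function.Surjective φ := by
    rw [← LinearMap.range_eq_top, Fintype.range_linearCombination, hs]
  have hφ : ∀ c : Fin n → A, φ c = ∑ i, c i • s i := fun c => Fintype.linearCombination_apply A s c
  -- (a) image lands in the decaying functions
  have hTdec : ∀ t, T t ∈ decaying I Z M := by
    intro t
    induction t using TensorProduct.induction_on with
    | zero => rw [map_zero]; exact Submodule.zero_mem _
    | tmul m d =>
      rw [hT]
      exact Groth.Agent.Lib.Helper88.map_decaying (LinearMap.toSpanSingleton A M m) d.2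
    | add x y hx hy => rw [map_add]; exact Submodule.add_mem _ hx hy
  -- (c1) every tensor is of the form ∑ s i ⊗ d i
  have hform : ∀ t : TensorProduct A M D, ∃ d : Fin n → D, t = ∑ i, s i ⊗ₜ[A] d i := by
    intro t
    induction t using TensorProduct.induction_on with
    | zero => exact ⟨fun _ => 0, by simp⟩
    | tmul m d₀ =>
      have hm : m ∈ Submodule.span A (Set.range s) := by rw [hs]; exact Submodule.mem_top
      obtain ⟨c, hc⟩ := (Submodule.mem_span_range_iff_exists_fun A).mp hm
      refine ⟨fun i => c i • d₀, ?_⟩
      rw [← hc, TensorProduct.sum_tmul]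
      refine Finset.sum_congr rfl fun i _ => ?_
      rw [TensorProduct.smul_tmul]
    | add x y hx hy =>
      obtain ⟨d, rfl⟩ := hx
      obtain ⟨d', rfl⟩ := hy
      refine ⟨fun i => d i + d' i, ?_⟩
      rw [← Finset.sum_add_distrib]
      refine Finset.sum_congr rfl fun i _ => ?_
      rw [TensorProduct.tmul_add]
  have hTsum : ∀ (d : Fin n → D) (z : Z), T (∑ i, s i ⊗ₜ[A] d i) z = φ (fun i => (d i : Z → A) z) := by
    intro d z
    rw [map_sum, hφ, Finset.sum_apply]
    refine Finset.sum_congr rfl fun i _ => ?_
    rw [hT]
  constructor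
  · -- injectivity
    rw [injective_iff_map_eq_zero]
    intro t ht
    obtain ⟨d, rfl⟩ := hform t
    let F : Z → (Fin n → A) := fun z i => (d i : Z → A) z
    have hFdec : F ∈ decaying I Z (Fin n → A) := by
      have h1 : (∑ i : Fin n, (⟨fun z => LinearMap.single A (fun _ : Fin n => A) i ((d i : Z → A) z),
          Groth.Agent.Lib.Helper88.map_decaying (LinearMap.single A (fun _ : Fin n => A) i) (d i).2⟩ :
            decaying I Z (Fin n → A))).1 = F := by
        funext z
        funext j
        simp [F, Finset.sum_apply, Pi.single_apply]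
      rw [← h1]
      exact Submodule.coe_mem _
    have hFker : ∀ z, F z ∈ LinearMap.ker φ := by
      intro z
      rw [LinearMap.mem_ker, ← hTsum d z, ht]
      rfl
    let K := LinearMap.ker φ
    let F' : Z → K := fun z => ⟨F z, hFker z⟩
    have hF'dec : F' ∈ decaying I Z K :=
      (Groth.Agent.S17541.result I Z (Fin n → A) K F').mpr hFdec
    obtain ⟨r, k, hk⟩ := Module.Finite.exists_fin (R := A) (M := K)
    let φ' : (Fin r → A) →ₗ[A] K := Fintype.linearCombination A k
    have hφ's : Function.Surjective φ' := by
      rw [← LinearMap.range_eq_top, Fintype.range_linearCombination, hk]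
    obtain ⟨H, hHdec, hH⟩ := Groth.Agent.Lib.Helper88.exists_decaying_lift φ' hφ's F' hF'dec
    let h : Fin r → D := fun j =>
      ⟨fun z => H z j, Groth.Agent.Lib.Helper88.map_decaying (LinearMap.proj j) hHdec⟩
    have hd : ∀ i, d i = ∑ j, ((k j : Fin n → A) i) • h j := by
      intro i
      apply Subtype.ext
      funext z
      have h2 : (F' z : Fin n → A) i = ((φ' (H z) : K) : Fin n → A) i := by rw [hH z]
      have h3 : ((φ' (H z) : K) : Fin n → A) = ∑ j, H z j • (k j : Fin n → A) := by
        rw [Fintype.linearCombination_apply]
        simp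
      rw [h3] at h2
      change (d i : Z → A) z = _
      have h4 : (F' z : Fin n → A) i = (d i : Z → A) z := rfl
      rw [← h4, h2]
      simp [Finset.sum_apply, h, mul_comm]
    have hkφ : ∀ j, ∑ i, ((k j : Fin n → A) i) • s i = 0 := by
      intro j
      rw [← hφ]
      exact (k j).2
    calc (∑ i, s i ⊗ₜ[A] d i) = ∑ i, ∑ j, (((k j : Fin n → A) i) • s i) ⊗ₜ[A] h j := by
          refine Finset.sum_congr rfl fun i _ => ?_
          rw [hd i, TensorProduct.tmul_sum]
          refine Finset.sum_congr rfl fun j _ => ?_
          rw [TensorProduct.smul_tmul]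
      _ = ∑ j, (∑ i, ((k j : Fin n → A) i) • s i) ⊗ₜ[A] h j := by
          rw [Finset.sum_comm]
          refine Finset.sum_congr rfl fun j _ => ?_
          rw [TensorProduct.sum_tmul]
      _ = 0 := by
          refine Finset.sum_eq_zero fun j _ => ?_
          rw [hkφ j, TensorProduct.zero_tmul]
  · -- range
    apply le_antisymm
    · rintro _ ⟨t, rfl⟩
      exact hTdec t
    · intro g hg
      obtain ⟨F, hFdec, hF⟩ := Groth.Agent.Lib.Helper88.exists_decaying_lift φ hφs g hg
      let d : Fin n → D := fun i =>
        ⟨fun z => F z i, Groth.Agent.Lib.Helper88.map_decaying (LinearMap.proj i) hFdec⟩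
      refine ⟨∑ i, s i ⊗ₜ[A] d i, ?_⟩
      funext z
      rw [hTsum d z]
      exact hF z

end Groth.Agent.S17543
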