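import Groth.Statements.S17545
import Groth.Agent.S17543
import Mathlib.RingTheory.Flat.Tensor

set_option autoImplicit false
universe u v w
open W4c5adicflatcompl
open CAlg

namespace Groth.Agent.S17545

/-- For a Noetherian ring A which is I-adically complete and any set Z, the A-module of I-adically
decaying functions Z → A is flat. -/
theorem result {A : Type u} [CommRing A] [IsNoetherianRing A]
    (I : Ideal A) [IsAdicComplete I A] (Z : Type v) :
    Module.Flat A (decaying I Z A) := by
  classical
  rw [Module.Flat.iff_rTensor_injective']
  intro J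
  set D := decaying I Z A with hD
  have hJ := (Groth.Agent.S17543.result I Z J).1
  let TJ := (TensorProduct.piScalarRightHom A A J Z) ∘ₗ (D.subtype.lTensor J)
  let TA := (TensorProduct.piScalarRightHom A A A Z) ∘ₗ (D.subtype.lTensor A)
  let ι : (Z → J) →ₗ[A] (Z → A) := LinearMap.compLeft J.subtype Z
  have hι : Function.Injective ι := by
    intro x y hxy
    funext z
    apply Subtype.ext
    exact congrFun hxy z
  have hcomm : TA ∘ₗ (LinearMap.rTensor D J.subtype) = ι ∘ₗ TJ := by
    apply TensorProduct.ext'
    intro j d
    funext z
    simp [TA, TJ, ι]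
  intro x y hxy
  apply hJ
  apply hι
  have h1 := congrArg TA hxy
  have h2 : ∀ t, TA (LinearMap.rTensor D J.subtype t) = ι (TJ t) := fun t =>
    LinearMap.congr_fun hcomm t
  rw [h2, h2] at h1
  exact h1

end Groth.Agent.S17545
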