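import Groth.Statements.S17547
import Groth.Agent.Lib.Helper88.Decaying
import Mathlib.RingTheory.AdicCompletion.Completeness

set_option autoImplicit false
universe u v w
open W4c5adicflatcompl
open CAlg

namespace Groth.Agent.S17547

/-- For a Noetherian ring A, an ideal I, any A-module M and any set Z, the A-module of I-adically
decaying functions from Z to the I-adic completion of M is I-adically complete. -/
theorem result {A : Type u} [CommRing A] [IsNoetherianRing A]
    (I : Ideal A) (Z : Type v) (M : Type w) [AddCommGroup M] [Module A M] :
    IsAdicComplete I (decaying I Z (AdicCompletion I M)) := by
  have hI : I.FG := IsNoetherian.noetherian I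
  haveI : IsAdicComplete I (AdicCompletion I M) := AdicCompletion.isAdicComplete hI
  exact Groth.Agent.Lib.Helper88.isAdicComplete_decaying hI

end Groth.Agent.S17547
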