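import Groth.Statements.S17548
import Groth.Agent.Lib.Helper88.Decaying3
import Mathlib.RingTheory.AdicCompletion.Completeness
import Mathlib.RingTheory.AdicCompletion.Functoriality

set_option autoImplicit false
universe u v w
open W4c5adicflatcompl
open CAlg

namespace Groth.Agent.S17548

/-- For a Noetherian ring A with I-adic completion Â, a set Z, an I-adically complete A-module M and any
function f : Z → M, there is a unique A-linear map from the module of I-adically decaying functions
Z → Â to M taking, for every z, the function supported at z with value 1 to f z. -/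
theorem result {A : Type u} [CommRing A] [IsNoetherianRing A]
    (I : Ideal A) (Z : Type v) [DecidableEq Z] (M : Type w) [AddCommGroup M] [Module A M]
    [IsAdicComplete I M] (f : Z → M) :
    ∃! φ : decaying I Z (AdicCompletion I A) →ₗ[A] M,
      ∀ z, φ (single I z (1 : AdicCompletion I A)) = f z := by
  classical
  have hIfg : I.FG := IsNoetherian.noetherian I
  have hH : (⨅ k : ℕ, I ^ k • ⊤ : Submodule A (AdicCompletion I A)) = ⊥ :=
    IsHausdorff.iInf_pow_smul (inferInstance : IsHausdorff I (AdicCompletion I A))
  -- vanishing lemma
  have hvanish : ∀ ψ : decaying I Z (AdicCompletion I A) →ₗ[A] M,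
      (∀ z, ψ (single I z (1 : AdicCompletion I A)) = 0) → ψ = 0 := by
    intro ψ hψ
    apply LinearMap.ext
    intro g
    rw [LinearMap.zero_apply]
    apply Groth.Agent.Lib.Helper88.eq_zero_of_forall_mem_pow_smul_top (I := I)
    intro n
    have hfgn : (I ^ n).FG := Ideal.FG.pow hIfg
    -- singles
    have hsingle : ∀ (z : Z) (x : AdicCompletion I A),
        ψ (single I z x) ∈ (I ^ n • ⊤ : Submodule A M) := by
      intro z x
      obtain ⟨a, ha⟩ := Submodule.mkQ_surjective (I ^ n • ⊤ : Submodule A A) (x.val n)
      set ε : AdicCompletion I A := x - a • (1 : AdicCompletion I A) with hε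
      have hεmem : ε ∈ (I ^ n • ⊤ : Submodule A (AdicCompletion I A)) := by
        rw [AdicCompletion.pow_smul_top_eq_ker_eval hIfg, LinearMap.mem_ker, hε, map_sub,
          map_smul, AdicCompletion.eval_apply, AdicCompletion.eval_apply, ← ha, sub_eq_zero]
        change _ = a • Submodule.mkQ (I ^ n • ⊤ : Submodule A A) (1 : A)
        rw [← map_smul]
        simp
      have hdecomp : single I z x = a • single I z (1 : AdicCompletion I A) + single I z ε := by
        apply Subtype.ext
        funext z'
        by_cases hz : z' = z
        · subst hz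
          simp [hε]
        · simp [Pi.single_eq_of_ne hz]
      rw [hdecomp, map_add, map_smul, hψ z, smul_zero, zero_add]
      apply Groth.Agent.Lib.Helper88.map_mem_pow_smul_top ψ
      apply Groth.Agent.Lib.Helper88.mem_smul_top_of_forall_apply_mem hfgn hH
      intro z'
      by_cases hz : z' = z
      · subst hz
        simpa using hεmem
      · simp [Pi.single_eq_of_ne hz]
    let S := Groth.Agent.Lib.Helper88.excSet g n
    set g' : decaying I Z (AdicCompletion I A) :=
      g - ∑ z ∈ S, single I z ((g : Z → AdicCompletion I A) z) with hg'
    have hg'mem : g' ∈ (I ^ n • ⊤ : Submodule A (decaying I Z (AdicCompletion I A))) := by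
      apply Groth.Agent.Lib.Helper88.mem_smul_top_of_forall_apply_mem hfgn hH
      intro z
      have hval : (g' : Z → AdicCompletion I A) z =
          (g : Z → AdicCompletion I A) z -
            ∑ z' ∈ S, (Pi.single z' ((g : Z → AdicCompletion I A) z') : Z → AdicCompletion I A) z := by
        simp [hg', Finset.sum_apply]
      rw [hval]
      by_cases hz : z ∈ S
      · rw [Finset.sum_eq_single z]
        · simp
        · intro z' _ hne
          exact Pi.single_eq_of_ne (Ne.symm hne) _
        · intro h; exact absurd hz h
      · rw [Finset.sum_eq_zero]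
        · rw [sub_zero]
          exact Groth.Agent.Lib.Helper88.apply_mem_of_notMem_excSet g n z hz
        · intro z' hz'
          have hne : z ≠ z' := fun h => hz (h ▸ hz')
          exact Pi.single_eq_of_ne hne _
    have hgeq : g = g' + ∑ z ∈ S, single I z ((g : Z → AdicCompletion I A) z) := by
      rw [hg']; abel
    rw [hgeq, map_add, map_sum]
    refine Submodule.add_mem _ (Groth.Agent.Lib.Helper88.map_mem_pow_smul_top ψ hg'mem)
      (Submodule.sum_mem _ fun z _ => hsingle z _)
  -- existence
  let e := AdicCompletion.ofLinearEquiv I M
  let μ : Z → (AdicCompletion I A →ₗ[A] M) := fun z =>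
    e.symm.toLinearMap ∘ₗ
      (AdicCompletion.map I (LinearMap.toSpanSingleton A M (f z))).restrictScalars A
  have hμ1 : ∀ z, μ z 1 = f z := by
    intro z
    have h1 : (1 : AdicCompletion I A) = AdicCompletion.of I A 1 := by
      apply AdicCompletion.ext
      intro n
      rfl
    simp only [μ, LinearMap.comp_apply, LinearMap.restrictScalars_apply, LinearEquiv.coe_coe]
    rw [h1, AdicCompletion.map_of, LinearMap.toSpanSingleton_apply, one_smul]
    exact AdicCompletion.ofLinearEquiv_symm_of I (f z)
  obtain ⟨φ, hφ⟩ := Groth.Agent.Lib.Helper88.exists_sumMap (I := I) μ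
  have hφsingle : ∀ z, φ (single I z (1 : AdicCompletion I A)) = f z := by
    intro z
    rw [← sub_eq_zero]
    apply Groth.Agent.Lib.Helper88.eq_zero_of_forall_mem_pow_smul_top (I := I)
    intro n
    let T := Groth.Agent.Lib.Helper88.excSet (single I z (1 : AdicCompletion I A)) n ∪ {z}
    have h1 := hφ (single I z (1 : AdicCompletion I A)) n T Finset.subset_union_left
    have h2 : (∑ z' ∈ T, μ z' (((single I z (1 : AdicCompletion I A) :
        decaying I Z (AdicCompletion I A)) : Z → AdicCompletion I A) z')) = f z := by
      rw [Finset.sum_eq_single z]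
      · simp [hμ1]
      · intro z' _ hne
        simp [Pi.single_eq_of_ne hne]
      · intro h
        exact absurd (Finset.mem_union_right _ (Finset.mem_singleton_self z)) h
    rw [h2] at h1
    exact h1
  refine ⟨φ, hφsingle, fun φ' hφ' => ?_⟩
  have h3 := hvanish (φ' - φ) (fun z => by
    rw [LinearMap.sub_apply, hφ' z, hφsingle z, sub_self])
  exact sub_eq_zero.mp h3

end Groth.Agent.S17548
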