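import Groth.Statements.S17549
import Groth.Agent.S17547
import Groth.Agent.S17548

set_option autoImplicit false
universe u
open W4c5adicflatcompl
open CAlg

namespace Groth.Agent.S17549

/-- Over a Noetherian ring A with I-adic completion Â, an A-module P is I-adically projective
(I-adically complete, and every A-linear map from P to the target of a surjection between I-adically
complete modules lifts along that surjection) exactly when P is a retract of some module of
I-adically decaying functions Z → Â: there are a set Z, an A-linear map i from P to the decaying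
functions Z → Â and an A-linear map r back with r ∘ i the identity of P. Test modules, P and Z live
in the universe of A. -/
theorem result {A : Type u} [CommRing A] [IsNoetherianRing A]
    (I : Ideal A) (P : Type u) [AddCommGroup P] [Module A P] :
    IsAdicProjective I P ↔
      ∃ (Z : Type u) (i : P →ₗ[A] decaying I Z (AdicCompletion I A))
        (r : decaying I Z (AdicCompletion I A) →ₗ[A] P), r ∘ₗ i = LinearMap.id := by
  classical
  constructor
  · rintro ⟨hPc, hlift⟩
    haveI : IsAdicComplete I P := hPc
    have hFc : IsAdicComplete I (decaying I P (AdicCompletion I A)) :=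
      Groth.Agent.S17547.result I P A
    obtain ⟨π, hπ, -⟩ := Groth.Agent.S17548.result I P P (fun p => p)
    have hπs : Function.Surjective π := fun p => ⟨_, hπ p⟩
    obtain ⟨χ, hχ⟩ := hlift (decaying I P (AdicCompletion I A)) P hFc hPc π hπs LinearMap.id
    exact ⟨P, χ, π, hχ⟩
  · rintro ⟨Z, i, r, hri⟩
    have hFc : IsAdicComplete I (decaying I Z (AdicCompletion I A)) :=
      Groth.Agent.S17547.result I Z A
    have hri' : ∀ x, r (i x) = x := fun x => LinearMap.congr_fun hri x
    have hPc : IsAdicComplete I P := by
      refine { haus' := ?_, prec' := ?_ }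
      · intro x hx
        have h1 : i x = 0 := by
          apply hFc.toIsHausdorff.haus
          intro n
          have h2 := hx n
          rw [SModEq.sub_mem, sub_zero] at h2 ⊢
          exact Groth.Agent.Lib.Helper88.map_mem_pow_smul_top i h2
        rw [← hri' x, h1, map_zero]
      · intro x hx
        obtain ⟨L, hL⟩ := hFc.toIsPrecomplete.prec' (fun k => i (x k)) (by
          intro m n hmn
          have h2 := hx hmn
          rw [SModEq.sub_mem] at h2 ⊢
          rw [← map_sub]
          exact Groth.Agent.Lib.Helper88.map_mem_pow_smul_top i h2)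
        refine ⟨r L, fun n => ?_⟩
        have h3 := hL n
        rw [SModEq.sub_mem] at h3 ⊢
        have h4 := Groth.Agent.Lib.Helper88.map_mem_pow_smul_top r h3
        rw [map_sub, hri'] at h4
        exact h4
    refine ⟨hPc, ?_⟩
    intro M N _ _ _ _ hMc hNc φ hφ ψ
    haveI : IsAdicComplete I M := hMc
    haveI : IsAdicComplete I N := hNc
    have hm : ∀ z : Z, ∃ m : M, φ m = ψ (r (single I z (1 : AdicCompletion I A))) := fun z => hφ _
    choose m hm using hm
    obtain ⟨χF, hχF, -⟩ := Groth.Agent.S17548.result I Z M m
    obtain ⟨θ, -, hθuniq⟩ := Groth.Agent.S17548.result I Z N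
      (fun z => ψ (r (single I z (1 : AdicCompletion I A))))
    have h1 : φ ∘ₗ χF = θ := hθuniq _ (fun z => by
      rw [LinearMap.comp_apply, hχF z, hm z])
    have h2 : ψ ∘ₗ r = θ := hθuniq _ (fun z => rfl)
    refine ⟨χF ∘ₗ i, ?_⟩
    rw [← LinearMap.comp_assoc, h1, ← h2, LinearMap.comp_assoc, hri, LinearMap.comp_id]

end Groth.Agent.S17549
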