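import Groth.Statements.S17550
import Mathlib
import Groth.Agent.S17539
import Groth.Agent.Lib.Helper88.Decaying
import Groth.Agent.Lib.Helper65.ComplSplit

set_option autoImplicit false
universe u
open W4c5adicflatcompl
open scoped TensorProduct
open CAlg

namespace Groth.Agent.S17550

open Groth.Agent.Lib.Helper65.ComplSplit

/-- `evalₐ x = 0` implies `x ∈ I ^ n • ⊤` (for `I` f.g.). -/
theorem mem_pow_smul_top_of_evalₐ_eq_zero {A : Type*} [CommRing A] (I : Ideal A) (hI : I.FG)
    (n : ℕ) (x : AdicCompletion I A) (hx : AdicCompletion.evalₐ I n x = 0) :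
    x ∈ (I ^ n • ⊤ : Submodule A (AdicCompletion I A)) := by
  rw [AdicCompletion.pow_smul_top_eq_ker_eval hI, LinearMap.mem_ker,
    ← AdicCompletion.factor_evalₐ_eq_eval I x (by simp), hx, map_zero]

theorem result {A B : Type u} [CommRing A] [CommRing B] [Algebra A B]
    [IsNoetherianRing A] [IsNoetherianRing B] (I : Ideal A) (J : Ideal B)
    (hIJ : I.map (algebraMap A B) ≤ J) (P : Type u) [AddCommGroup P] [Module A P]
    (hP : IsAdicFree I P) :
    IsAdicFree J (AdicCompletion J (B ⊗[A] P)) := by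
  classical
  obtain ⟨Z, ⟨e⟩⟩ := hP
  refine ⟨Z, ⟨?_⟩⟩
  have hI : I.FG := IsNoetherian.noetherian I
  have hJ : J.FG := IsNoetherian.noetherian J
  have hpow : ∀ n : ℕ, (I ^ n).map (algebraMap A B) ≤ J ^ n := by
    intro n
    rw [Ideal.map_pow]
    exact Ideal.pow_right_mono hIJ n
  -- step 1
  let e1 : (B ⊗[A] P) ≃ₗ[B] (B ⊗[A] decaying I Z (AdicCompletion I A)) :=
    TensorProduct.AlgebraTensorModule.congr (LinearEquiv.refl B B) e
  let e2 : AdicCompletion J (B ⊗[A] P) ≃ₗ[B]
      AdicCompletion J (B ⊗[A] decaying I Z (AdicCompletion I A)) :=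
    (AdicCompletion.congr J e1).restrictScalars B
  -- step 2: θ
  let δ : Z → decaying I Z (AdicCompletion I A) := fun z => single I z (1 : AdicCompletion I A)
  let θ : (Z →₀ B) →ₗ[B] (B ⊗[A] decaying I Z (AdicCompletion I A)) :=
    Finsupp.linearCombination B (fun z => (1 : B) ⊗ₜ[A] δ z)
  have hθ : ∀ z b, θ (Finsupp.single z b) = b ⊗ₜ[A] δ z := by
    intro z b
    simp only [θ, Finsupp.linearCombination_single]
    rw [TensorProduct.smul_tmul', smul_eq_mul, mul_one]
  -- injectivity modulo J^n
  have hinj : ∀ n (f : Z →₀ B), θ f ∈ (J ^ n • ⊤ : Submodule B (B ⊗[A] decaying I Z (AdicCompletion I A))) →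
      f ∈ (J ^ n • ⊤ : Submodule B (Z →₀ B)) := by
    intro n f hf
    rw [Groth.Agent.S17539.finsupp_mem_smul_top_iff]
    intro z'
    have hcomap : I ^ n ≤ (J ^ n).comap (Algebra.ofId A B) := by
      rw [← Ideal.map_le_iff_le_comap]
      exact hpow n
    let ιn : (A ⧸ I ^ n) →ₐ[A] (B ⧸ J ^ n) := Ideal.quotientMapₐ (J ^ n) (Algebra.ofId A B) hcomap
    let g : decaying I Z (AdicCompletion I A) →ₗ[A] (B ⧸ J ^ n) :=
      ιn.toLinearMap ∘ₗ (AdicCompletion.evalₐ I n).toLinearMap ∘ₗ
        (LinearMap.proj z') ∘ₗ (decaying I Z (AdicCompletion I A)).subtype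
    let ρ : (B ⊗[A] decaying I Z (AdicCompletion I A)) →ₗ[B] (B ⧸ J ^ n) := g.liftBaseChange B
    have hρθ : ρ ∘ₗ θ = (Submodule.mkQ (J ^ n)) ∘ₗ (Finsupp.lapply z') := by
      apply Finsupp.lhom_ext
      intro z b
      simp only [LinearMap.comp_apply, hθ, ρ, LinearMap.liftBaseChange_tmul, Finsupp.lapply_apply,
        Finsupp.single_apply, g, LinearMap.coe_comp, Function.comp_apply, Submodule.coe_subtype,
        LinearMap.proj_apply, AlgHom.toLinearMap_apply, δ, coe_single, Pi.single_apply]
      by_cases h : z' = z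
      · subst h
        simp only [if_true, map_one]
        rw [Algebra.smul_def, mul_one]
        rfl
      · rw [if_neg h, if_neg (Ne.symm h), map_zero, map_zero, smul_zero, map_zero]
    have hkill : (J ^ n • ⊤ : Submodule B (B ⊗[A] decaying I Z (AdicCompletion I A))) ≤
        LinearMap.ker ρ := by
      rw [Submodule.smul_le]
      intro c hc y _
      rw [LinearMap.mem_ker, map_smul, Algebra.smul_def, Ideal.Quotient.algebraMap_eq,
        Ideal.Quotient.eq_zero_iff_mem.mpr hc, zero_mul]
    have h1 : ρ (θ f) = 0 := hkill hf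
    have h2 : ρ (θ f) = Submodule.mkQ (J ^ n) (f z') := LinearMap.congr_fun hρθ f
    rw [h2] at h1
    have h3 : f z' ∈ J ^ n := (Submodule.Quotient.mk_eq_zero _).mp h1
    rw [smul_eq_mul, Ideal.mul_top]
    exact h3
  -- surjectivity modulo J^n
  have hHA : (⨅ k : ℕ, I ^ k • ⊤ : Submodule A (AdicCompletion I A)) = ⊥ :=
    IsHausdorff.iInf_pow_smul (inferInstance : IsHausdorff I (AdicCompletion I A))
  have hsurj : ∀ n (y : B ⊗[A] decaying I Z (AdicCompletion I A)), ∃ f : Z →₀ B,
      y - θ f ∈ (J ^ n • ⊤ : Submodule B (B ⊗[A] decaying I Z (AdicCompletion I A))) := by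
    intro n y
    induction y using TensorProduct.induction_on with
    | zero => exact ⟨0, by simp⟩
    | add y₁ y₂ h₁ h₂ =>
      obtain ⟨f₁, hf₁⟩ := h₁
      obtain ⟨f₂, hf₂⟩ := h₂
      refine ⟨f₁ + f₂, ?_⟩
      have : y₁ + y₂ - θ (f₁ + f₂) = (y₁ - θ f₁) + (y₂ - θ f₂) := by rw [map_add]; abel
      rw [this]
      exact Submodule.add_mem _ hf₁ hf₂
    | tmul b d =>
      have ha : ∀ z : Z, ∃ a : A, Ideal.Quotient.mk (I ^ n) a =
          AdicCompletion.evalₐ I n ((d : Z → AdicCompletion I A) z) :=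
        fun z => Ideal.Quotient.mk_surjective _
      choose a ha using ha
      let S : Finset Z := (d.2 n).toFinset
      let d' : decaying I Z (AdicCompletion I A) := d - ∑ z ∈ S, a z • δ z
      have hd' : d' ∈ (I ^ n • ⊤ : Submodule A (decaying I Z (AdicCompletion I A))) := by
        rw [Groth.Agent.Lib.Helper88.mem_smul_top_iff (Ideal.FG.pow hI) hHA]
        intro z
        have hval : (d' : Z → AdicCompletion I A) z =
            (d : Z → AdicCompletion I A) z - if z ∈ S then a z • (1 : AdicCompletion I A) else 0 := by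
          simp only [d', δ, Submodule.coe_sub, Submodule.coe_sum, Submodule.coe_smul, coe_single,
            Pi.sub_apply, Finset.sum_apply, Pi.smul_apply, Pi.single_apply]
          congr 1
          simp only [smul_ite, smul_zero]
          rw [Finset.sum_ite_eq]
        rw [hval]
        split_ifs with hz
        · apply mem_pow_smul_top_of_evalₐ_eq_zero I hI
          rw [map_sub, map_smul, map_one, ← ha z, Algebra.smul_def, mul_one]
          simp
        · rw [sub_zero]
          by_contra h'
          exact hz ((d.2 n).mem_toFinset.mpr h')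
      refine ⟨∑ z ∈ S, Finsupp.single z (b * algebraMap A B (a z)), ?_⟩
      have h1 : θ (∑ z ∈ S, Finsupp.single z (b * algebraMap A B (a z))) =
          b ⊗ₜ[A] (∑ z ∈ S, a z • δ z) := by
        rw [map_sum, TensorProduct.tmul_sum]
        refine Finset.sum_congr rfl fun z _ => ?_
        rw [hθ, TensorProduct.tmul_smul, TensorProduct.smul_tmul', Algebra.smul_def, mul_comm]
      have h2 : b ⊗ₜ[A] (d : decaying I Z (AdicCompletion I A)) -
          θ (∑ z ∈ S, Finsupp.single z (b * algebraMap A B (a z))) = b ⊗ₜ[A] d' := by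
        rw [h1, ← TensorProduct.tmul_sub]
      rw [h2]
      -- b ⊗ d' ∈ J^n • ⊤
      have h3 : (I ^ n • ⊤ : Submodule A (decaying I Z (AdicCompletion I A))).map
          (TensorProduct.mk A B (decaying I Z (AdicCompletion I A)) b) ≤
          (I ^ n • ⊤ : Submodule A (B ⊗[A] decaying I Z (AdicCompletion I A))) := by
        rw [Submodule.map_smul'']
        exact Submodule.smul_mono le_rfl le_top
      have h4 : b ⊗ₜ[A] d' ∈
          (I ^ n • ⊤ : Submodule A (B ⊗[A] decaying I Z (AdicCompletion I A))) :=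
        h3 (Submodule.mem_map_of_mem hd')
      have h5 := Submodule.restrictScalars_map_smul_eq (S := A) (R := B)
        (M := B ⊗[A] decaying I Z (AdicCompletion I A)) (I ^ n) ⊤
      rw [Submodule.restrictScalars_top] at h5
      rw [← h5] at h4
      exact Submodule.smul_mono_left (hpow n) h4
  have hbij := map_bijective_of_levelwise J θ hinj hsurj
  let e3 : AdicCompletion J (Z →₀ B) ≃ₗ[B]
      AdicCompletion J (B ⊗[A] decaying I Z (AdicCompletion I A)) :=
    LinearEquiv.ofBijective ((AdicCompletion.map J θ).restrictScalars B) hbij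
  haveI : IsAdicComplete J (AdicCompletion J B) := AdicCompletion.isAdicComplete hJ
  obtain ⟨h4i, h4r⟩ := Groth.Agent.S17539.result J Z B
  let e4 : AdicCompletion J (Z →₀ B) ≃ₗ[B] decaying J Z (AdicCompletion J B) :=
    (LinearEquiv.ofInjective _ h4i).trans (LinearEquiv.ofEq _ _ h4r)
  exact e2.trans (e3.symm.trans e4)

end Groth.Agent.S17550
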