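import Groth.Statements.S17552
import Groth.Agent.Lib.Helper88.Decaying4
import Groth.Agent.S17540
import Groth.Agent.S17545
import Groth.Agent.S17546
import Mathlib.RingTheory.Flat.EquationalCriterion
import Mathlib.LinearAlgebra.FreeModule.Basic
import Mathlib.LinearAlgebra.Basis.VectorSpace
import Mathlib.Algebra.Module.Torsion.Basic

set_option autoImplicit false
universe u
open W4c5adicflatcompl
open CAlg

namespace Groth.Agent.S17552

/-- For a complete Noetherian local ring A (maximal ideal m, m-adic completion Â), an A-module M is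
isomorphic to the module of m-adically decaying functions Z → Â for some set Z (m-adically free)
exactly when M is flat and m-adically complete. M and Z live in the universe of A. -/
theorem result {A : Type u} [CommRing A] [IsNoetherianRing A] [IsLocalRing A]
    [IsAdicComplete (IsLocalRing.maximalIdeal A) A]
    (M : Type u) [AddCommGroup M] [Module A M] :
    IsAdicFree (IsLocalRing.maximalIdeal A) M ↔
      Module.Flat A M ∧ IsAdicComplete (IsLocalRing.maximalIdeal A) M := by
  classical
  set 𝔪 := IsLocalRing.maximalIdeal A with h𝔪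
  let eA : A ≃ₗ[A] AdicCompletion 𝔪 A := AdicCompletion.ofLinearEquiv 𝔪 A
  constructor
  · rintro ⟨Z, ⟨e⟩⟩
    let e' : M ≃ₗ[A] decaying 𝔪 Z A :=
      e.trans (Groth.Agent.Lib.Helper88.decayingCongr (I := 𝔪) (Z := Z) eA).symm
    haveI : Module.Flat A (decaying 𝔪 Z A) := Groth.Agent.S17545.result 𝔪 Z
    haveI : IsAdicComplete 𝔪 (decaying 𝔪 Z A) := Groth.Agent.S17546.result 𝔪 Z
    refine ⟨Module.Flat.of_linearEquiv e', ?_⟩
    exact Groth.Agent.Lib.Helper88.isAdicComplete_of_retract (I := 𝔪) e'.toLinearMap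
      e'.symm.toLinearMap (fun x => e'.symm_apply_apply x)
  · rintro ⟨hflat, hcomp⟩
    haveI := hflat
    haveI := hcomp
    letI : Field (A ⧸ 𝔪) := Ideal.Quotient.field 𝔪
    let Z := Module.Free.ChooseBasisIndex (A ⧸ 𝔪) (M ⧸ (𝔪 • ⊤ : Submodule A M))
    let b : Module.Basis Z (A ⧸ 𝔪) (M ⧸ (𝔪 • ⊤ : Submodule A M)) :=
      Module.Free.chooseBasis (A ⧸ 𝔪) (M ⧸ (𝔪 • ⊤ : Submodule A M))
    have hmex : ∀ z : Z, ∃ x : M, Submodule.mkQ (𝔪 • ⊤ : Submodule A M) x = b z :=
      fun z => Submodule.mkQ_surjective _ _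
    choose m hm using hmex
    -- the sum map
    obtain ⟨φ, hφ⟩ := Groth.Agent.Lib.Helper88.exists_sumMap (I := 𝔪) (N := A) (M := M)
      (fun z : Z => LinearMap.toSpanSingleton A M (m z))
    have hφ' : ∀ (g : decaying 𝔪 Z A) (n : ℕ) (T : Finset Z),
        Groth.Agent.Lib.Helper88.excSet g n ⊆ T →
          φ g - (∑ z ∈ T, (g : Z → A) z • m z) ∈ (𝔪 ^ n • ⊤ : Submodule A M) := by
      intro g n T hT
      have := hφ g n T hT
      simpa [LinearMap.toSpanSingleton_apply] using this
    -- the generators span modulo 𝔪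
    have hspan : Submodule.span A (Set.range m) ⊔ 𝔪 • ⊤ = ⊤ := by
      rw [eq_top_iff]
      intro x _
      have h1 : Submodule.span A (Set.range b) = ⊤ := by
        have h2 := Submodule.restrictScalars_span (R := A) (A := A ⧸ 𝔪)
          (M := M ⧸ (𝔪 • ⊤ : Submodule A M)) Ideal.Quotient.mk_surjective (Set.range b)
        rw [← h2, b.span_eq]
        rfl
      have h3 : (Submodule.span A (Set.range m)).map (Submodule.mkQ (𝔪 • ⊤ : Submodule A M)) = ⊤ := by
        rw [Submodule.map_span, ← Set.range_comp]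
        have : (Submodule.mkQ (𝔪 • ⊤ : Submodule A M)) ∘ m = b := funext hm
        rw [this, h1]
      have h4 : Submodule.mkQ (𝔪 • ⊤ : Submodule A M) x ∈
          (Submodule.span A (Set.range m)).map (Submodule.mkQ (𝔪 • ⊤ : Submodule A M)) := by
        rw [h3]; exact Submodule.mem_top
      obtain ⟨y, hy, hyx⟩ := h4
      have h5 : x - y ∈ (𝔪 • ⊤ : Submodule A M) := by
        rw [← Submodule.Quotient.mk_eq_zero, Submodule.Quotient.mk_sub]
        have : Submodule.Quotient.mk (p := (𝔪 • ⊤ : Submodule A M)) y =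
            Submodule.Quotient.mk (p := (𝔪 • ⊤ : Submodule A M)) x := hyx
        rw [this, sub_self]
      have : x = y + (x - y) := by abel
      rw [this]
      exact Submodule.add_mem_sup hy h5
    -- surjectivity
    have hsurj : Function.Surjective φ := by
      intro x
      obtain ⟨g, hg, hgx⟩ := (Groth.Agent.S17540.result 𝔪 M Z m).mp hspan x
      refine ⟨⟨g, hg⟩, ?_⟩
      rw [← sub_eq_zero]
      apply Groth.Agent.Lib.Helper88.eq_zero_of_forall_mem_pow_smul_top (I := 𝔪)
      intro n
      obtain ⟨S, hS1, hS2⟩ := hgx n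
      let T := S ∪ Groth.Agent.Lib.Helper88.excSet (⟨g, hg⟩ : decaying 𝔪 Z A) n
      have h1 := hφ' ⟨g, hg⟩ n T Finset.subset_union_right
      have h2 : (∑ z ∈ T, g z • m z) - (∑ z ∈ S, g z • m z) ∈ (𝔪 ^ n • ⊤ : Submodule A M) := by
        rw [← Finset.sum_sdiff (Finset.subset_union_left : S ⊆ T), add_sub_cancel_right]
        refine Submodule.sum_mem _ fun z hz => hS1 z (Finset.mem_sdiff.mp hz).2
      have : φ ⟨g, hg⟩ - x = (φ ⟨g, hg⟩ - ∑ z ∈ T, g z • m z) +
          ((∑ z ∈ T, g z • m z) - (∑ z ∈ S, g z • m z)) - (x - ∑ z ∈ S, g z • m z) := by abel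
      rw [this]
      exact Submodule.sub_mem _ (Submodule.add_mem _ h1 h2) hS2
    have hHA : (⨅ k : ℕ, 𝔪 ^ k • ⊤ : Submodule A A) = ⊥ :=
      IsHausdorff.iInf_pow_smul (inferInstance : IsHausdorff 𝔪 A)
    have hfg : ∀ n : ℕ, (𝔪 ^ n).FG := fun n => IsNoetherian.noetherian _
    -- kernel lies in 𝔪 • ⊤
    have hker1 : LinearMap.ker φ ≤ (𝔪 • ⊤ : Submodule A (decaying 𝔪 Z A)) := by
      intro g hg
      rw [LinearMap.mem_ker] at hg
      have h1 := hφ' g 1 _ subset_rfl
      rw [hg, zero_sub, pow_one] at h1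
      have h2 : (∑ z ∈ Groth.Agent.Lib.Helper88.excSet g 1, (g : Z → A) z • m z) ∈
          (𝔪 • ⊤ : Submodule A M) := by
        have := Submodule.neg_mem _ h1
        simpa using this
      have h3 : ∑ z ∈ Groth.Agent.Lib.Helper88.excSet g 1,
          (Ideal.Quotient.mk 𝔪 ((g : Z → A) z)) • b z = 0 := by
        have h4 : Submodule.mkQ (𝔪 • ⊤ : Submodule A M)
            (∑ z ∈ Groth.Agent.Lib.Helper88.excSet g 1, (g : Z → A) z • m z) = 0 :=
          (Submodule.Quotient.mk_eq_zero _).mpr h2
        rw [map_sum] at h4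
        rw [← h4]
        refine Finset.sum_congr rfl fun z _ => ?_
        rw [← hm z]
        rfl
      have h5 := (linearIndependent_iff'.mp b.linearIndependent) _ _ h3
      have h6 : g ∈ (𝔪 ^ 1 • ⊤ : Submodule A (decaying 𝔪 Z A)) := by
        apply Groth.Agent.Lib.Helper88.mem_smul_top_of_forall_apply_mem (hfg 1) hHA
        intro z
        by_cases hz : z ∈ Groth.Agent.Lib.Helper88.excSet g 1
        · have := h5 z hz
          rw [Ideal.Quotient.eq_zero_iff_mem] at this
          simpa using this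
        · exact Groth.Agent.Lib.Helper88.apply_mem_of_notMem_excSet g 1 z hz
      rwa [pow_one] at h6
    -- flatness: ker ⊓ 𝔪 • ⊤ ≤ 𝔪 • ker
    obtain ⟨r, a, ha⟩ := Submodule.fg_iff_exists_fin_generating_family.mp (hfg 1)
    have ha' : Ideal.span (Set.range a) = 𝔪 := by rw [← pow_one 𝔪]; exact ha
    have hai : ∀ i, a i ∈ 𝔪 := fun i => by
      rw [← ha']; exact Ideal.subset_span (Set.mem_range_self i)
    have hker2 : LinearMap.ker φ ≤ 𝔪 • LinearMap.ker φ := by
      intro g hg
      have hg1 : g ∈ (Ideal.span (Set.range a)) • (⊤ : Submodule A (decaying 𝔪 Z A)) := by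
        rw [ha']; exact hker1 hg
      obtain ⟨d, -, hgd⟩ := Groth.Agent.Lib.Helper88.exists_fin_sum_of_mem_smul
        (decaying 𝔪 Z A) a ⊤ g hg1
      rw [LinearMap.mem_ker] at hg
      have hrel : ∑ i, a i • φ (d i) = 0 := by
        rw [← hg, hgd, map_sum]
        refine Finset.sum_congr rfl fun i _ => ?_
        rw [map_smul]
      obtain ⟨κ, c, y, hxy, hac⟩ := Module.Flat.isTrivialRelation_of_sum_smul_eq_zero hrel
      have hey : ∀ j : Fin κ, ∃ e : decaying 𝔪 Z A, φ e = y j := fun j => hsurj (y j)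
      choose e he using hey
      let k' : Fin r → decaying 𝔪 Z A := fun i => d i - ∑ j, c i j • e j
      have hk' : ∀ i, k' i ∈ LinearMap.ker φ := by
        intro i
        have hxyi : φ (d i) = ∑ j, c i j • y j := hxy i
        rw [LinearMap.mem_ker, map_sub, map_sum, hxyi, sub_eq_zero]
        refine Finset.sum_congr rfl fun j _ => ?_
        rw [map_smul, he j]
      have hgk : g = ∑ i, a i • k' i := by
        have h1 : ∑ i, a i • k' i = (∑ i, a i • d i) - ∑ j, (∑ i, a i * c i j) • e j := by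
          simp only [k', smul_sub, Finset.sum_sub_distrib, Finset.smul_sum, smul_smul,
            Finset.sum_smul]
          rw [Finset.sum_comm]
        rw [h1, hgd]
        simp [hac]
      rw [hgk]
      exact Submodule.sum_mem _ fun i _ => Submodule.smul_mem_smul (hai i) (hk' i)
    have hker3 : ∀ n : ℕ, LinearMap.ker φ ≤ (𝔪 ^ n • ⊤ : Submodule A (decaying 𝔪 Z A)) := by
      intro n
      have h1 : ∀ n : ℕ, LinearMap.ker φ ≤ 𝔪 ^ n • LinearMap.ker φ := by
        intro n
        induction n with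
        | zero => rw [pow_zero, Ideal.one_eq_top, Submodule.top_smul]
        | succ n ih =>
          calc LinearMap.ker φ ≤ 𝔪 • LinearMap.ker φ := hker2
            _ ≤ 𝔪 • (𝔪 ^ n • LinearMap.ker φ) := Submodule.smul_mono le_rfl ih
            _ = 𝔪 ^ (n + 1) • LinearMap.ker φ := by
                rw [← Submodule.mul_smul, ← pow_succ']
      exact (h1 n).trans (Submodule.smul_mono le_rfl le_top)
    have hinj : Function.Injective φ := by
      rw [← LinearMap.ker_eq_bot, eq_bot_iff]
      intro g hg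
      rw [Submodule.mem_bot]
      apply Subtype.ext
      funext z
      apply Groth.Agent.Lib.Helper88.eq_zero_of_forall_mem_pow_smul_top (I := 𝔪)
      intro n
      exact Groth.Agent.Lib.Helper88.apply_mem_of_mem_smul_top (hker3 n hg) z
    let eφ : decaying 𝔪 Z A ≃ₗ[A] M := LinearEquiv.ofBijective φ ⟨hinj, hsurj⟩
    exact ⟨Z, ⟨eφ.symm.trans (Groth.Agent.Lib.Helper88.decayingCongr (I := 𝔪) (Z := Z) eA)⟩⟩

end Groth.Agent.S17552
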