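import Groth.Statements.S17551
import Mathlib
import Groth.Agent.Lib.Helper65.Flat0912
import Groth.Agent.Lib.Helper65.SysLimAdic
import Groth.Agent.S17552

set_option autoImplicit false
universe u
open W4c5adicflatcompl
open CAlg

namespace Groth.Agent.S17551

open Function Groth.Agent.Lib.Helper65

theorem hypF_top {A : Type*} [CommRing A] (N : Type*) [AddCommGroup N] [Module A N] :
    Flat0912.HypF (⊤ : Ideal A) N := by
  intro r s κ y _
  refine ⟨0, fun _ i => i.elim0, fun i => i.elim0, fun j => ?_, fun i l => l.elim0⟩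
  rw [Submodule.top_smul]
  exact Submodule.mem_top

theorem result {A : Type u} [CommRing A] [IsNoetherianRing A] [IsLocalRing A]
    [IsAdicComplete (IsLocalRing.maximalIdeal A) A]
    (M : ℕ → Type u) [∀ n, AddCommGroup (M n)] [∀ n, Module A (M n)]
    [∀ n, Module (A ⧸ IsLocalRing.maximalIdeal A ^ (n + 1)) (M n)]
    [∀ n, IsScalarTower A (A ⧸ IsLocalRing.maximalIdeal A ^ (n + 1)) (M n)]
    [∀ n, Module.Flat (A ⧸ IsLocalRing.maximalIdeal A ^ (n + 1)) (M n)]
    (ψ : ∀ n, M (n + 1) →ₗ[A] M n) (hψ : ∀ n, Function.Surjective (ψ n))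
    (hker : ∀ n, LinearMap.ker (ψ n) =
      (IsLocalRing.maximalIdeal A ^ (n + 1) • ⊤ : Submodule A (M (n + 1)))) :
    IsAdicFree (IsLocalRing.maximalIdeal A) (sysLim M ψ) ∧
      ∀ n, Function.Surjective (sysProj M ψ n) ∧
        LinearMap.ker (sysProj M ψ n) =
          (IsLocalRing.maximalIdeal A ^ (n + 1) • ⊤ : Submodule A (sysLim M ψ)) := by
  classical
  have hI : (IsLocalRing.maximalIdeal A).FG := IsNoetherian.noetherian _
  have hsm : ∀ n (a : A) (x : M n), (Ideal.Quotient.mk ((IsLocalRing.maximalIdeal A) ^ (n + 1)) a) • x = a • x := by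
    intro n a x
    rw [← Ideal.Quotient.algebraMap_eq, algebraMap_smul]
  have hkill : ∀ n, ∀ a ∈ (IsLocalRing.maximalIdeal A) ^ (n + 1), ∀ x : M n, a • x = 0 := by
    intro n a ha x
    rw [← hsm, Ideal.Quotient.eq_zero_iff_mem.mpr ha, zero_smul]
  have hK := SysLimAdic.ker_sysProj_eq (IsLocalRing.maximalIdeal A) hψ hker hkill hI
  have hsurj := SysLimAdic.sysProj_surjective M ψ hψ
  refine ⟨?_, fun n => ⟨hsurj n, hK n⟩⟩
  have hcomp : IsAdicComplete (IsLocalRing.maximalIdeal A) (sysLim M ψ) :=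
    SysLimAdic.isAdicComplete_sysLim (IsLocalRing.maximalIdeal A) hψ hker hkill hI
  rw [Groth.Agent.S17552.result]
  refine ⟨?_, hcomp⟩
  apply Flat0912.flat_of_hypF (IsLocalRing.maximalIdeal A)
  intro m
  cases m with
  | zero =>
    rw [pow_zero, Ideal.one_eq_top]
    exact hypF_top _
  | succ n =>
    refine Flat0912.hypF_of_flat (S := A ⧸ (IsLocalRing.maximalIdeal A) ^ (n + 1)) (X := M n) _ _
      (Ideal.Quotient.mk ((IsLocalRing.maximalIdeal A) ^ (n + 1))) Ideal.Quotient.mk_surjective ?_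
      (sysProj M ψ n).toAddMonoidHom (hsurj n) ?_ ?_ ?_
    · intro a ha
      exact Ideal.Quotient.eq_zero_iff_mem.mp ha
    · intro a x
      show sysProj M ψ n (a • x) = _
      rw [map_smul, hsm]
      rfl
    · intro x hx
      rw [← hK n]
      exact hx
    · intro x hx
      rw [← hK n] at hx
      exact hx

end Groth.Agent.S17551
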