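import Groth.Statements.S17553
import Groth.Agent.Lib.Helper88.Decaying

set_option autoImplicit false
universe u v w
open W4c5adicflatcompl
open CAlg

namespace Groth.Agent.S17553

/-- Let A be I-adically complete, M an I-adically complete A-module, Z a set and f : Z → M a function.
There is an A-linear map from the I-adically decaying functions Z → A to M whose value on g is the
I-adically convergent sum of the g z • f z. -/
theorem result {A : Type u} [CommRing A] (I : Ideal A) [IsAdicComplete I A]
    (Z : Type v) (M : Type w) [AddCommGroup M] [Module A M] [IsAdicComplete I M] (f : Z → M) :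
    ∃ φ : decaying I Z A →ₗ[A] M, ∀ (g : decaying I Z A) (n : ℕ), ∃ S : Finset Z,
      (∀ z, z ∉ S → (g : Z → A) z • f z ∈ (I ^ n • ⊤ : Submodule A M)) ∧
      φ g - (∑ z ∈ S, (g : Z → A) z • f z) ∈ (I ^ n • ⊤ : Submodule A M) := by
  classical
  -- the finite exceptional sets
  let S : decaying I Z A → ℕ → Finset Z := fun g n => (g.2 n).toFinset
  have hS : ∀ (g : decaying I Z A) (n : ℕ) (z : Z), z ∉ S g n →
      (g : Z → A) z ∈ (I ^ n • ⊤ : Submodule A A) := by
    intro g n z hz
    by_contra h
    exact hz ((g.2 n).mem_toFinset.mpr h)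
  have hterm : ∀ (g : decaying I Z A) (n : ℕ) (z : Z), z ∉ S g n →
      (g : Z → A) z • f z ∈ (I ^ n • ⊤ : Submodule A M) := by
    intro g n z hz
    have h1 := hS g n z hz
    have h2 : (g : Z → A) z ∈ I ^ n := by simpa using h1
    exact Submodule.smul_mem_smul h2 Submodule.mem_top
  -- partial sums over any finite set containing `S g n` agree mod `I ^ n`
  have hsum : ∀ (g : decaying I Z A) (n : ℕ) (T T' : Finset Z), S g n ⊆ T → S g n ⊆ T' →
      (∑ z ∈ T, (g : Z → A) z • f z) - (∑ z ∈ T', (g : Z → A) z • f z) ∈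
        (I ^ n • ⊤ : Submodule A M) := by
    intro g n T T' hT hT'
    have key : ∀ U : Finset Z, S g n ⊆ U →
        (∑ z ∈ U, (g : Z → A) z • f z) - (∑ z ∈ S g n, (g : Z → A) z • f z) ∈
          (I ^ n • ⊤ : Submodule A M) := by
      intro U hU
      rw [← Finset.sum_sdiff hU, add_sub_cancel_right]
      refine Submodule.sum_mem _ fun z hz => hterm g n z ?_
      exact (Finset.mem_sdiff.mp hz).2
    have := Submodule.sub_mem _ (key T hT) (key T' hT')
    simpa using this
  have hmono : ∀ (g : decaying I Z A) {m n : ℕ}, m ≤ n → S g m ⊆ S g n := by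
    intro g m n hmn z hz
    rw [Set.Finite.mem_toFinset] at hz ⊢
    intro h
    exact hz (Groth.Agent.Lib.Helper88.pow_smul_top_anti I A hmn h)
  -- the limits
  have hlim : ∀ g : decaying I Z A, ∃ L : M, ∀ n,
      (∑ z ∈ S g n, (g : Z → A) z • f z) ≡ L [SMOD (I ^ n • ⊤ : Submodule A M)] := by
    intro g
    apply (inferInstance : IsPrecomplete I M).prec'
    intro m n hmn
    rw [SModEq.sub_mem]
    exact hsum g m _ _ subset_rfl (hmono g hmn)
  choose L hL using hlim
  -- characterisation of the limit
  have hchar : ∀ (g : decaying I Z A) (n : ℕ) (T : Finset Z), S g n ⊆ T →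
      L g - (∑ z ∈ T, (g : Z → A) z • f z) ∈ (I ^ n • ⊤ : Submodule A M) := by
    intro g n T hT
    have h1 := hL g n
    rw [SModEq.sub_mem] at h1
    have h2 := hsum g n _ _ subset_rfl hT
    have : L g - (∑ z ∈ T, (g : Z → A) z • f z) =
        -((∑ z ∈ S g n, (g : Z → A) z • f z) - L g) +
          ((∑ z ∈ S g n, (g : Z → A) z • f z) - (∑ z ∈ T, (g : Z → A) z • f z)) := by abel
    rw [this]
    exact Submodule.add_mem _ (Submodule.neg_mem _ h1) h2
  have hhaus : ∀ x : M, (∀ n, x ∈ (I ^ n • ⊤ : Submodule A M)) → x = 0 := by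
    intro x hx
    apply (inferInstance : IsHausdorff I M).haus
    intro n
    rw [SModEq.sub_mem, sub_zero]
    exact hx n
  have hadd : ∀ g h : decaying I Z A, L (g + h) = L g + L h := by
    intro g h
    rw [← sub_eq_zero]
    apply hhaus
    intro n
    let T := S (g + h) n ∪ S g n ∪ S h n
    have h1 := hchar (g + h) n T (fun z hz => by simp [T, hz])
    have h2 := hchar g n T (fun z hz => by simp [T, hz])
    have h3 := hchar h n T (fun z hz => by simp [T, hz])
    have hs : (∑ z ∈ T, ((g + h : decaying I Z A) : Z → A) z • f z) =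
        (∑ z ∈ T, (g : Z → A) z • f z) + (∑ z ∈ T, (h : Z → A) z • f z) := by
      rw [← Finset.sum_add_distrib]
      refine Finset.sum_congr rfl fun z _ => ?_
      simp [add_smul]
    have : L (g + h) - (L g + L h) =
        (L (g + h) - (∑ z ∈ T, ((g + h : decaying I Z A) : Z → A) z • f z)) -
          (L g - (∑ z ∈ T, (g : Z → A) z • f z)) - (L h - (∑ z ∈ T, (h : Z → A) z • f z)) := by
      rw [hs]; abel
    rw [this]
    exact Submodule.sub_mem _ (Submodule.sub_mem _ h1 h2) h3
  have hsmul : ∀ (a : A) (g : decaying I Z A), L (a • g) = a • L g := by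
    intro a g
    rw [← sub_eq_zero]
    apply hhaus
    intro n
    let T := S (a • g) n ∪ S g n
    have h1 := hchar (a • g) n T (fun z hz => by simp [T, hz])
    have h2 := hchar g n T (fun z hz => by simp [T, hz])
    have hs : (∑ z ∈ T, ((a • g : decaying I Z A) : Z → A) z • f z) =
        a • (∑ z ∈ T, (g : Z → A) z • f z) := by
      rw [Finset.smul_sum]
      refine Finset.sum_congr rfl fun z _ => ?_
      simp [mul_smul]
    have : L (a • g) - a • L g =
        (L (a • g) - (∑ z ∈ T, ((a • g : decaying I Z A) : Z → A) z • f z)) -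
          a • (L g - (∑ z ∈ T, (g : Z → A) z • f z)) := by
      rw [hs, smul_sub]; abel
    rw [this]
    exact Submodule.sub_mem _ h1 (Submodule.smul_mem _ a h2)
  refine ⟨{ toFun := L, map_add' := hadd, map_smul' := hsmul }, fun g n => ⟨S g n, ?_, ?_⟩⟩
  · exact fun z hz => hterm g n z hz
  · exact hchar g n (S g n) subset_rfl

end Groth.Agent.S17553
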