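import Groth.Statements.S1757
import Mathlib

set_option autoImplicit false
universe u
open LocCoh

namespace Groth.Agent.S1757

section helpers

variable {A : Type u} [CommRing A]

theorem len_eq_of_surj {B C : Type*} [AddCommGroup B] [Module A B] [AddCommGroup C] [Module A C]
    (S : Submodule A B) (q : B →ₗ[A] C) (hq : Function.Surjective q)
    (hker : LinearMap.ker q = S) : Module.length A (B ⧸ S) = Module.length A C := by
  subst hker
  exact (LinearMap.quotKerEquivOfSurjective q hq).length_eq

variable {r : ℕ} (f : Fin r → A) (j : Fin r) (a b : A)

theorem span_le_update (hab : f j = a * b) :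
    Ideal.span (Set.range f) ≤ Ideal.span (Set.range (Function.update f j a)) := by
  rw [Ideal.span_le]
  rintro _ ⟨i, rfl⟩
  by_cases h : i = j
  · subst h
    rw [hab, mul_comm]
    apply Ideal.mul_mem_left
    apply Ideal.subset_span
    exact ⟨i, by simp⟩
  · apply Ideal.subset_span
    exact ⟨i, by simp [Function.update_of_ne h]⟩

theorem mem_update_span : a ∈ Ideal.span (Set.range (Function.update f j a)) :=
  Ideal.subset_span ⟨j, by simp⟩

theorem update_span_le :
    Ideal.span (Set.range (Function.update f j a)) ≤ Ideal.span (Set.range f) ⊔ Ideal.span {a} := by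
  rw [Ideal.span_le]
  rintro _ ⟨i, rfl⟩
  by_cases h : i = j
  · subst h
    rw [Function.update_self]
    exact Ideal.mem_sup_right (Ideal.subset_span rfl)
  · rw [Function.update_of_ne h]
    exact Ideal.mem_sup_left (Ideal.subset_span ⟨i, rfl⟩)

/-- multiplying a combination of the updated family by `b` -/
theorem sum_update_mul (hab : f j = a * b) (c : Fin r → A) :
    (∑ i, c i * Function.update f j a i) * b =
      ∑ i, (if i = j then c i else b * c i) * f i := by
  rw [Finset.sum_mul]
  refine Finset.sum_congr rfl fun i _ => ?_
  by_cases h : i = j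
  · subst h
    rw [Function.update_self, if_pos rfl, hab]; ring
  · rw [Function.update_of_ne h, if_neg h]; ring

theorem indep_update (hab : f j = a * b) (hf : Dual2.Independent f) :
    Dual2.Independent (Function.update f j a) := by
  intro c hc
  have h1 := sum_update_mul f j a b hab c
  rw [hc, zero_mul] at h1
  have h2 := hf _ h1.symm
  have hcj : c j ∈ Ideal.span (Set.range f) := by
    have := h2 j
    rwa [if_pos rfl] at this
  obtain ⟨d, hd⟩ := (Ideal.mem_span_range_iff_exists_fun).mp hcj
  -- new relation
  have h3 : ∑ i, (d i * a + (if i = j then 0 else c i)) * f i = 0 := by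
    refine Eq.trans ?_ hc
    have e1 : ∑ i, c i * Function.update f j a i =
        ∑ i, ((if i = j then c j * a else 0) + (if i = j then 0 else c i * f i)) := by
      refine Finset.sum_congr rfl fun i _ => ?_
      by_cases h : i = j
      · subst h; simp
      · simp [h, Function.update_of_ne h]
    rw [e1, Finset.sum_add_distrib, Finset.sum_ite_eq' Finset.univ j, if_pos (Finset.mem_univ _),
      ← hd, Finset.sum_mul, ← Finset.sum_add_distrib]
    refine Finset.sum_congr rfl fun i _ => ?_
    by_cases h : i = j
    · subst h; simp; ring
    · simp [h]; ring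
  have h4 := hf _ h3
  intro i
  by_cases h : i = j
  · subst h
    exact span_le_update f i a b hab hcj
  · have h5 := h4 i
    rw [if_neg h] at h5
    have h6 : c i = (d i * a + c i) - d i * a := by ring
    rw [h6]
    apply Ideal.sub_mem
    · exact span_le_update f j a b hab h5
    · exact Ideal.mul_mem_left _ _ (mem_update_span f j a)

theorem colon_eq (hab : f j = a * b) (hf : Dual2.Independent f) (c : A) :
    a * c ∈ Ideal.span (Set.range f) ↔ c ∈ Ideal.span (Set.range (Function.update f j b)) := by
  have hba : f j = b * a := by rw [hab, mul_comm]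
  constructor
  · intro h
    obtain ⟨d, hd⟩ := (Ideal.mem_span_range_iff_exists_fun).mp h
    have h1 : ∑ i, (b * d i - (if i = j then c else 0)) * f i = 0 := by
      simp only [sub_mul, Finset.sum_sub_distrib, ite_mul, zero_mul, Finset.sum_ite_eq',
        Finset.mem_univ, if_true]
      have : ∑ i, b * d i * f i = b * ∑ i, d i * f i := by
        rw [Finset.mul_sum]; exact Finset.sum_congr rfl fun i _ => by ring
      rw [this, hd, hab]; ring
    have h2 := hf _ h1 j
    rw [if_pos rfl] at h2
    have h3 : c = b * d j - (b * d j - c) := by ring
    rw [h3]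
    apply Ideal.sub_mem
    · exact Ideal.mul_mem_right _ _ (mem_update_span f j b)
    · exact span_le_update f j b a hba h2
  · intro h
    have h1 := update_span_le f j b h
    obtain ⟨y, hy, z, hz, rfl⟩ := Submodule.mem_sup.mp h1
    obtain ⟨t, rfl⟩ := Ideal.mem_span_singleton'.mp hz
    rw [mul_add]
    apply Ideal.add_mem
    · exact Ideal.mul_mem_left _ _ hy
    · have : a * (t * b) = t * f j := by rw [hab]; ring
      rw [this]
      exact Ideal.mul_mem_left _ _ (Ideal.subset_span ⟨j, rfl⟩)

theorem length_split (hab : f j = a * b) (hf : Dual2.Independent f) :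
    Module.length A (A ⧸ Ideal.span (Set.range f)) =
      Module.length A (A ⧸ Ideal.span (Set.range (Function.update f j a))) +
      Module.length A (A ⧸ Ideal.span (Set.range (Function.update f j b))) := by
  set I := Ideal.span (Set.range f) with hI
  let φ : A →ₗ[A] (A ⧸ I) := (Submodule.mkQ I).comp (LinearMap.mulLeft A a)
  have h0 : Module.length A (A ⧸ I) =
      Module.length A (LinearMap.range φ) + Module.length A ((A ⧸ I) ⧸ LinearMap.range φ) :=
    Module.length_eq_add_of_exact (LinearMap.range φ).subtype (LinearMap.range φ).mkQ
      (Submodule.subtype_injective _) (Submodule.mkQ_surjective _)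
      (LinearMap.exact_subtype_mkQ _)
  have h1 : Module.length A (A ⧸ Ideal.span (Set.range (Function.update f j b))) =
      Module.length A (LinearMap.range φ) := by
    apply len_eq_of_surj _ φ.rangeRestrict φ.surjective_rangeRestrict
    ext c
    rw [LinearMap.mem_ker, ← colon_eq f j a b hab hf c]
    constructor
    · intro h
      have := congrArg Subtype.val h
      exact (Submodule.Quotient.mk_eq_zero I).mp this
    · intro h
      apply Subtype.ext
      exact (Submodule.Quotient.mk_eq_zero I).mpr h
  have h2 : Module.length A (A ⧸ Ideal.span (Set.range (Function.update f j a))) =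
      Module.length A ((A ⧸ I) ⧸ LinearMap.range φ) := by
    apply len_eq_of_surj _ ((LinearMap.range φ).mkQ.comp (Submodule.mkQ I))
      ((Submodule.mkQ_surjective _).comp (Submodule.mkQ_surjective _))
    ext c
    rw [LinearMap.mem_ker, LinearMap.comp_apply, Submodule.mkQ_apply, Submodule.mkQ_apply,
      Submodule.Quotient.mk_eq_zero]
    constructor
    · rintro ⟨d, hd⟩
      have hd' : Submodule.Quotient.mk (a * d) = (Submodule.Quotient.mk c : A ⧸ I) := hd
      rw [Submodule.Quotient.eq] at hd'
      have : c = a * d - (a * d - c) := by ring
      rw [this]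
      apply Ideal.sub_mem
      · exact Ideal.mul_mem_right _ _ (mem_update_span f j a)
      · exact span_le_update f j a b hab hd'
    · intro h
      have h1 := update_span_le f j a h
      obtain ⟨y, hy, z, hz, rfl⟩ := Submodule.mem_sup.mp h1
      obtain ⟨t, rfl⟩ := Ideal.mem_span_singleton'.mp hz
      refine ⟨t, ?_⟩
      change Submodule.Quotient.mk (a * t) = (Submodule.Quotient.mk (y + t * a) : A ⧸ I)
      rw [Submodule.Quotient.eq]
      have : a * t - (y + t * a) = -y := by ring
      rw [this]
      exact I.neg_mem hy
  rw [h0, h1, h2, add_comm]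

end helpers

theorem main (A : Type u) [CommRing A] [IsLocalRing A] (r : ℕ) (x : Fin r → A)
    (hx : Ideal.span (Set.range x) = IsLocalRing.maximalIdeal A) :
    ∀ (n : ℕ) (e : Fin r → ℕ), (∑ i, e i = n) → (∀ i, 0 < e i) →
      Dual2.Independent (fun i => x i ^ e i) →
      Module.length A (A ⧸ Ideal.span (Set.range (fun i => x i ^ e i))) = ∏ i, (e i : ℕ∞) := by
  intro n
  induction n using Nat.strong_induction_on with
  | _ n ih =>
    intro e hn he hind
    by_cases hall : ∀ i, e i = 1
    · have h1 : (fun i => x i ^ e i) = x := by
        funext i; rw [hall i, pow_one]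
      rw [h1, hx]
      have : IsSimpleModule A (A ⧸ IsLocalRing.maximalIdeal A) :=
        isSimpleModule_iff_quot_maximal.mpr ⟨_, inferInstance, ⟨LinearEquiv.refl _ _⟩⟩
      rw [Module.length_eq_one]
      simp [hall]
    · push Not at hall
      obtain ⟨j, hj⟩ := hall
      have hj2 : 2 ≤ e j := by have := he j; omega
      set f : Fin r → A := fun i => x i ^ e i with hf
      have hab : f j = x j * x j ^ (e j - 1) := by
        change x j ^ e j = _
        rw [← pow_succ']
        congr 1; omega
      have hua : Function.update f j (x j) = fun i => x i ^ (Function.update e j 1 i) := by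
        funext i
        by_cases h : i = j
        · subst h; simp
        · simp [Function.update_of_ne h, hf]
      have hub : Function.update f j (x j ^ (e j - 1)) =
          fun i => x i ^ (Function.update e j (e j - 1) i) := by
        funext i
        by_cases h : i = j
        · subst h; simp
        · simp [Function.update_of_ne h, hf]
      have hba : f j = x j ^ (e j - 1) * x j := by rw [hab, mul_comm]
      have ia := indep_update f j _ _ hab hind
      have ib := indep_update f j _ _ hba hind
      have hsplit := length_split f j _ _ hab hind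
      rw [hua] at ia
      rw [hub] at ib
      rw [hua, hub] at hsplit
      have hsum : ∑ i, e i = e j + ∑ i ∈ Finset.univ.erase j, e i :=
        (Finset.add_sum_erase _ _ (Finset.mem_univ j)).symm
      have hsa : ∑ i, Function.update e j 1 i = 1 + ∑ i ∈ Finset.univ.erase j, e i := by
        rw [← Finset.add_sum_erase _ _ (Finset.mem_univ j), Function.update_self]
        congr 1
        refine Finset.sum_congr rfl fun i hi => ?_
        rw [Function.update_of_ne (Finset.ne_of_mem_erase hi)]
      have hsb : ∑ i, Function.update e j (e j - 1) i =
          (e j - 1) + ∑ i ∈ Finset.univ.erase j, e i := by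
        rw [← Finset.add_sum_erase _ _ (Finset.mem_univ j), Function.update_self]
        congr 1
        refine Finset.sum_congr rfl fun i hi => ?_
        rw [Function.update_of_ne (Finset.ne_of_mem_erase hi)]
      have hea : ∀ i, 0 < Function.update e j 1 i := by
        intro i
        by_cases h : i = j
        · subst h; simp
        · rw [Function.update_of_ne h]; exact he i
      have heb : ∀ i, 0 < Function.update e j (e j - 1) i := by
        intro i
        by_cases h : i = j
        · subst h; simp; omega
        · rw [Function.update_of_ne h]; exact he i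
      have la := ih _ (by rw [hsa, ← hn, hsum]; omega) _ rfl hea ia
      have lb := ih _ (by rw [hsb, ← hn, hsum]; omega) _ rfl heb ib
      rw [hsplit, la, lb]
      have hp : ∏ i, (e i : ℕ∞) = (e j : ℕ∞) * ∏ i ∈ Finset.univ.erase j, (e i : ℕ∞) :=
        (Finset.mul_prod_erase _ _ (Finset.mem_univ j)).symm
      have hpa : ∏ i, ((Function.update e j 1 i : ℕ) : ℕ∞) =
          1 * ∏ i ∈ Finset.univ.erase j, (e i : ℕ∞) := by
        rw [← Finset.mul_prod_erase _ _ (Finset.mem_univ j), Function.update_self]
        congr 1
        refine Finset.prod_congr rfl fun i hi => ?_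
        rw [Function.update_of_ne (Finset.ne_of_mem_erase hi)]
      have hpb : ∏ i, ((Function.update e j (e j - 1) i : ℕ) : ℕ∞) =
          ((e j - 1 : ℕ) : ℕ∞) * ∏ i ∈ Finset.univ.erase j, (e i : ℕ∞) := by
        rw [← Finset.mul_prod_erase _ _ (Finset.mem_univ j), Function.update_self]
        congr 1
        refine Finset.prod_congr rfl fun i hi => ?_
        rw [Function.update_of_ne (Finset.ne_of_mem_erase hi)]
      rw [hp, hpa, hpb, ← add_mul]
      congr 1
      have : e j = 1 + (e j - 1) := by omega
      conv_rhs => rw [this]
      push_cast
      rfl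

/-- Let A be a local ring whose maximal ideal is generated by x_1, …, x_r, and let e_1, …, e_r be
positive integers such that x_1^{e_1}, …, x_r^{e_r} are independent. Then the length of
A/(x_1^{e_1}, …, x_r^{e_r}) equals the product e_1 ⋯ e_r. -/
theorem result (A : Type u) [CommRing A] [IsLocalRing A] (r : ℕ) (x : Fin r → A) (hx : Ideal.span (Set.range x) = IsLocalRing.maximalIdeal A) (e : Fin r → ℕ) (he : ∀ i, 0 < e i) (hind : Dual2.Independent (fun i => x i ^ e i)) : Module.length A (A ⧸ Ideal.span (Set.range (fun i => x i ^ e i))) = ∏ i, (e i : ℕ∞) := by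
  exact main A r x hx _ e rfl he hind

end Groth.Agent.S1757
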