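import Groth.Statements.S1758
import Mathlib.RingTheory.Flat.EquationalCriterion

set_option autoImplicit false
universe u
open LocCoh

namespace Groth.Agent.S1758

/-- Let A → B be a flat ring map. If a family f_1, …, f_r of elements of A is independent (every linear
relation has coefficients in the ideal the family generates), then so is the family of their images
in B. -/
theorem result (A B : Type u) [CommRing A] [CommRing B] [Algebra A B] [Module.Flat A B] (r : ℕ) (f : Fin r → A) (hf : Dual2.Independent f) : Dual2.Independent (fun i => algebraMap A B (f i)) := by
  intro b hb i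
  -- rewrite the relation as a relation in the flat `A`-module `B`
  have hrel : ∑ i, f i • b i = 0 := by
    rw [← hb]
    apply Finset.sum_congr rfl
    intro i _
    rw [Algebra.smul_def, mul_comm]
  obtain ⟨k, a, y, hxy, ha⟩ := Module.Flat.isTrivialRelation_of_sum_smul_eq_zero hrel
  rw [hxy i]
  apply Ideal.sum_mem
  intro j _
  -- `a i j` lies in the ideal generated by `f`
  have haj : a i j ∈ Ideal.span (Set.range f) := by
    apply hf (fun i => a i j)
    rw [← ha j]
    apply Finset.sum_congr rfl
    intro i _
    rw [mul_comm]
  rw [Algebra.smul_def]
  apply Ideal.mul_mem_right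
  have hmap : Ideal.map (algebraMap A B) (Ideal.span (Set.range f)) =
      Ideal.span (Set.range fun i => algebraMap A B (f i)) := by
    rw [Ideal.map_span, ← Set.range_comp]
    rfl
  rw [← hmap]
  exact Ideal.mem_map_of_mem _ haj

end Groth.Agent.S1758
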