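import Groth.Statements.S17582
import Groth.Agent.Lib.Ample.Tensor

set_option autoImplicit false
open CategoryTheory CategoryTheory.Limits AlgebraicGeometry
open PosLin

namespace Groth.Agent.S17582

/-- Let X be a projective variety over the complex numbers (an integral scheme, proper over ℂ, with an
ample invertible module), L an invertible O_X-module and p ≥ 1. With Bs(M) the base locus of an
O_X-module M (the points lying in no open X_s over which a global section s : O_X → M is an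
isomorphism) and B(L) = ⋂_{m ≥ 1} Bs(L^⊗m) the stable base locus, one has B(L^⊗p) = B(L). -/
theorem result (X : Scheme.{0}) [X.Over (Spec (CommRingCat.of ℂ))] [IsIntegral X]
    [IsProper (X ↘ Spec (CommRingCat.of ℂ))] (H : X.Modules) (hH : CohB1.IsAmple H)
    (L : X.Modules) (hL : PicF.IsInvertible L) (p : ℕ) (hp : 0 < p) :
    {x : X | ∀ m : ℕ, 0 < m → ∀ s : Coh.structureModule X ⟶ CohB1.tensorPow (CohB1.tensorPow L p) m, x ∉ CohB1.genLocus (CohB1.tensorPow (CohB1.tensorPow L p) m) s} = {x : X | ∀ m : ℕ, 0 < m → ∀ s : Coh.structureModule X ⟶ CohB1.tensorPow L m, x ∉ CohB1.genLocus (CohB1.tensorPow L m) s} := by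
  ext x
  simp only [Set.mem_setOf_eq]
  constructor
  · intro h m hm s hx
    obtain ⟨m₀, rfl⟩ : ∃ m₀, m = m₀ + 1 := ⟨m - 1, by omega⟩
    obtain ⟨p₀, rfl⟩ : ∃ p₀, p = p₀ + 1 := ⟨p - 1, by omega⟩
    have hLm := Groth.Agent.Lib.QCoh.isInvertible_tensorPow hL (m₀ + 1)
    have h1 := Groth.Agent.Lib.Ample.genLocus_secPow s hLm p₀
    let γ := Groth.Agent.Lib.QCoh.tensorPowMulIso L (m₀ + 1) (p₀ + 1) ≪≫
      Groth.Agent.Lib.QCoh.tensorPowEqIso L (Nat.mul_comm (m₀ + 1) (p₀ + 1)) ≪≫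
      (Groth.Agent.Lib.QCoh.tensorPowMulIso L (p₀ + 1) (m₀ + 1)).symm
    have h2 := Groth.Agent.Lib.Ample.genLocus_comp_iso
      (Groth.Agent.Lib.Ample.secPow s (p₀ + 1)) γ
    refine h (m₀ + 1) hm (Groth.Agent.Lib.Ample.secPow s (p₀ + 1) ≫ γ.hom) ?_
    rw [h2, h1]
    exact hx
  · intro h m hm s hx
    have h2 := Groth.Agent.Lib.Ample.genLocus_comp_iso s
      (Groth.Agent.Lib.QCoh.tensorPowMulIso L p m)
    refine h (p * m) (Nat.mul_pos hp hm) (s ≫ (Groth.Agent.Lib.QCoh.tensorPowMulIso L p m).hom) ?_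
    rw [h2]
    exact hx

end Groth.Agent.S17582
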