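import Groth.Statements.S20014
import Groth.Agent.Lib.Helper69.NormRel4
import Groth.Agent.Lib.Helper48.FactorialAmple
-- import your own Groth.Agent.* helpers here

set_option autoImplicit false
universe u
open CategoryTheory CategoryTheory.Limits AlgebraicGeometry
open RatSing

namespace Groth.Agent.S20014


open TopologicalSpace Opposite

/-- helper48: a clopen nonempty subset of a scheme whose ring of global sections is a domain is
everything (no nontrivial idempotents). -/
lemma eq_univ_of_isClopen {Y : Scheme.{u}} [IsDomain Γ(Y, ⊤)] {Z : Set Y} (hZ : IsClopen Z)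
    (hne : Z.Nonempty) : Z = Set.univ := by
  by_contra hcon
  have hne' : (Zᶜ).Nonempty := Set.nonempty_compl.2 hcon
  let A1 : Y.Opens := ⟨Z, hZ.isOpen⟩
  let A0 : Y.Opens := ⟨Zᶜ, hZ.compl.isOpen⟩
  let A : Bool → Y.Opens := fun b => cond b A1 A0
  have hinf : A0 ⊓ A1 = ⊥ := by
    apply Opens.ext
    show Zᶜ ∩ Z = ∅
    exact Set.compl_inter_self Z
  haveI hsub : Subsingleton Γ(Y, A0 ⊓ A1) := by rw [hinf]; infer_instance
  haveI hsub' : Subsingleton Γ(Y, A1 ⊓ A0) := by rw [inf_comm, hinf]; infer_instance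
  haveI : Nonempty A1 := ⟨⟨hne.some, hne.some_mem⟩⟩
  haveI : Nonempty A0 := ⟨⟨hne'.some, hne'.some_mem⟩⟩
  have hAV : ∀ b, A b ≤ ⊤ := fun b => le_top
  have hcover : (⊤ : Y.Opens) ≤ iSup A := by
    intro y _
    rw [Opens.mem_iSup]
    by_cases hy : y ∈ Z
    · exact ⟨true, hy⟩
    · exact ⟨false, hy⟩
  let sf : ∀ b, Γ(Y, A b) := fun b =>
    Bool.rec (motive := fun b => Γ(Y, A b)) (0 : Γ(Y, A0)) (1 : Γ(Y, A1)) b
  have hsf : TopCat.Presheaf.IsCompatible Y.sheaf.1 A sf := by
    intro i j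
    cases i <;> cases j
    · rfl
    · exact Subsingleton.elim (α := Γ(Y, A0 ⊓ A1)) _ _
    · exact Subsingleton.elim (α := Γ(Y, A1 ⊓ A0)) _ _
    · rfl
  obtain ⟨e, he⟩ : ∃ e : Γ(Y, ⊤), ∀ b, Y.presheaf.map (homOfLE (hAV b)).op e = sf b := by
    obtain ⟨s, hs, -⟩ :=
      Y.sheaf.existsUnique_gluing' A ⊤ (fun b => homOfLE (hAV b)) hcover sf hsf
    exact ⟨s, hs⟩
  have hext : ∀ s t : Γ(Y, ⊤), (∀ b, Y.presheaf.map (homOfLE (hAV b)).op s =
      Y.presheaf.map (homOfLE (hAV b)).op t) → s = t := fun s t h =>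
    Y.sheaf.eq_of_locally_eq' A ⊤ (fun b => homOfLE (hAV b)) hcover s t h
  have he1 : Y.presheaf.map (homOfLE (le_top : A1 ≤ ⊤)).op e = (1 : Γ(Y, A1)) := he true
  have he0 : Y.presheaf.map (homOfLE (le_top : A0 ≤ ⊤)).op e = (0 : Γ(Y, A0)) := he false
  have hmul : e * (1 - e) = 0 := by
    refine hext _ _ (fun b => ?_)
    cases b
    · show Y.presheaf.map (homOfLE (le_top : A0 ≤ ⊤)).op (e * (1 - e)) =
        Y.presheaf.map (homOfLE (le_top : A0 ≤ ⊤)).op 0
      rw [map_mul, he0, zero_mul, map_zero]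
    · show Y.presheaf.map (homOfLE (le_top : A1 ≤ ⊤)).op (e * (1 - e)) =
        Y.presheaf.map (homOfLE (le_top : A1 ≤ ⊤)).op 0
      rw [map_mul, map_sub, map_one, he1, sub_self, mul_zero, map_zero]
  rcases mul_eq_zero.1 hmul with h | h
  · rw [h, map_zero] at he1
    exact zero_ne_one he1
  · have h1 : e = 1 := (sub_eq_zero.1 h).symm
    rw [h1, map_one] at he0
    exact one_ne_zero he0

/-- helper48: if `O_X(V) → O_Xt(f⁻¹V)` is bijective and `O_X(V) ≠ 0` then `f⁻¹V` is nonempty. -/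
lemma preimage_nonempty {X Xt : Scheme.{u}} (f : Xt ⟶ X) (V : X.Opens) [IsIso (f.app V)]
    [Nontrivial Γ(X, V)] : ((f ⁻¹ᵁ V : Xt.Opens) : Set Xt).Nonempty := by
  by_contra h
  have h0 : f ⁻¹ᵁ V = ⊥ := Opens.ext (Set.not_nonempty_iff_eq_empty.1 h)
  haveI : Subsingleton Γ(Xt, f ⁻¹ᵁ V) := by rw [h0]; infer_instance
  have e : Γ(X, V) ≃+* Γ(Xt, f ⁻¹ᵁ V) := (asIso (f.app V)).commRingCatIsoToRingEquiv
  haveI : Subsingleton Γ(X, V) := e.toEquiv.subsingleton
  exact not_subsingleton Γ(X, V) inferInstance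

/-- Let k be a field, X an integral k-scheme which is separated and of finite type over k, and f : X̃ →
X a proper morphism of k-schemes which is birational — an isomorphism over some nonempty open subset
of X — and for which O_X → f_*O_X̃ is an isomorphism (Γ(V, O_X) → Γ(f⁻¹V, O_X̃) bijective for every
open V of X). If X̃ is normal (every local ring an integrally closed domain), then X is normal. (In
the text this is the last clause of a lemma whose other hypotheses — X̃ Cohen–Macaulay, vanishing of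
the higher direct images of O_X̃ and of the dualizing sheaf — and whose standing assumption that k
is perfect of positive characteristic play no role in this clause; they are omitted here.) -/
theorem result (k : Type u) [Field k]
    (X Xt : Scheme.{u}) [X.Over (Spec (CommRingCat.of k))] [Xt.Over (Spec (CommRingCat.of k))]
    [IsIntegral X] [IsSeparated (X ↘ Spec (CommRingCat.of k))]
    [LocallyOfFiniteType (X ↘ Spec (CommRingCat.of k))] [QuasiCompact (X ↘ Spec (CommRingCat.of k))]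
    (f : Xt ⟶ X) (hf : f ≫ (X ↘ Spec (CommRingCat.of k)) = Xt ↘ Spec (CommRingCat.of k)) [IsProper f]
    (U : X.Opens) (hU : (U : Set X).Nonempty) (hbir : IsIso (f ∣_ U))
    (hfib : ∀ V : X.Opens, IsIso (f.app V))
    (hXt : Pi1.IsNormalScheme Xt) : Pi1.IsNormalScheme X := by
  classical
  haveI : IsNoetherianRing (CommRingCat.of k) := inferInstanceAs (IsNoetherianRing k)
  haveI hXn : IsLocallyNoetherian X :=
    LocallyOfFiniteType.isLocallyNoetherian (X ↘ Spec (CommRingCat.of k))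
  haveI hXtn : IsLocallyNoetherian Xt := LocallyOfFiniteType.isLocallyNoetherian f
  haveI : CompactSpace X :=
    QuasiCompact.compactSpace_of_compactSpace (X ↘ Spec (CommRingCat.of k))
  haveI : CompactSpace Xt := QuasiCompact.compactSpace_of_compactSpace f
  haveI : IsNoetherian Xt := {}
  have hdom : ∀ y : Xt, IsDomain (Xt.presheaf.stalk y) := fun y => (hXt y).1
  -- Xt is irreducible
  have hirr : IsIrreducible (Set.univ : Set Xt) := by
    haveI : Nonempty (⊤ : X.Opens) := ⟨⟨Classical.arbitrary X, trivial⟩⟩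
    haveI : IsIso (f.app ⊤) := hfib ⊤
    obtain ⟨y0, -⟩ := preimage_nonempty f ⊤
    have hZ := irreducibleComponent_mem_irreducibleComponents y0
    have hopen := Groth.Agent.Lib.Helper48.FactorialAmple.isOpen_of_mem_irreducibleComponents hdom hZ
    have hclopen : IsClopen (irreducibleComponent y0) := ⟨isClosed_irreducibleComponent, hopen⟩
    haveI hD : IsDomain Γ(Xt, f ⁻¹ᵁ ⊤) :=
      MulEquiv.isDomain Γ(X, ⊤) ((asIso (f.app ⊤)).commRingCatIsoToRingEquiv).symm.toMulEquiv
    haveI : IsDomain Γ(Xt, ⊤) := hD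
    have huniv := eq_univ_of_isClopen hclopen ⟨y0, mem_irreducibleComponent⟩
    rw [← huniv]
    exact isIrreducible_irreducibleComponent
  intro x
  obtain ⟨_, ⟨V, hV, rfl⟩, hxV, -⟩ :=
    X.isBasis_affineOpens.exists_subset_of_mem_open (Set.mem_univ x) isOpen_univ
  haveI : Nonempty V := ⟨⟨x, hxV⟩⟩
  haveI : IsIso (f.app V) := hfib V
  have hne : ((f ⁻¹ᵁ V : Xt.Opens) : Set Xt).Nonempty := preimage_nonempty f V
  have hirrV : IsIrreducible ((f ⁻¹ᵁ V : Xt.Opens) : Set Xt) :=
    ⟨hne, hirr.2.open_subset (f ⁻¹ᵁ V).2 (Set.subset_univ _)⟩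
  obtain ⟨hd, hic⟩ := Groth.Agent.Lib.Helper69.NormRel4.normal_sections hXt (f ⁻¹ᵁ V) hirrV
  let e : Γ(X, V) ≃+* Γ(Xt, f ⁻¹ᵁ V) := (asIso (f.app V)).commRingCatIsoToRingEquiv
  haveI : IsIntegrallyClosed Γ(X, V) := IsIntegrallyClosed.of_equiv e.symm
  haveI hloc := hV.isLocalization_stalk ⟨x, hxV⟩
  refine ⟨inferInstance, ?_⟩
  exact @isIntegrallyClosed_of_isLocalization Γ(X, V) (X.presheaf.stalk x) _ _
    (TopCat.Presheaf.algebra_section_stalk X.presheaf (⟨x, hxV⟩ : V)) _ _ _
    (Ideal.primeCompl_le_nonZeroDivisors _) hloc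

end Groth.Agent.S20014
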