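import Groth.Statements.S17584
import Groth.Agent.S20014
-- import your own Groth.Agent.* helpers here

set_option autoImplicit false
open CategoryTheory CategoryTheory.Limits AlgebraicGeometry
open PosLin

namespace Groth.Agent.S17584

/-- Let X and Y each be a projective variety over the complex numbers (an integral scheme, proper over
ℂ, with an ample invertible module), and f : X → Y an algebraic fibre space (a surjective morphism
over ℂ with O_Y → f_*O_X an isomorphism). If X is normal, then Y is normal. -/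
theorem result (X : Scheme.{0}) [X.Over (Spec (CommRingCat.of ℂ))] [IsIntegral X] [IsProper (X ↘ Spec (CommRingCat.of ℂ))]
    (HX : X.Modules) (hHX : CohB1.IsAmple HX)
    (Y : Scheme.{0}) [Y.Over (Spec (CommRingCat.of ℂ))] [IsIntegral Y] [IsProper (Y ↘ Spec (CommRingCat.of ℂ))]
    (HY : Y.Modules) (hHY : CohB1.IsAmple HY)
    (f : X ⟶ Y) (hf : f ≫ (Y ↘ Spec (CommRingCat.of ℂ)) = X ↘ Spec (CommRingCat.of ℂ)) [Surjective f]
    (hfs : IsIso (ClSub.unitToPush f))
    (hX : Pi1.IsNormalScheme X) : Pi1.IsNormalScheme Y := by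
  have hfib : ∀ V : Y.Opens, IsIso (f.app V) := fun V => by
    haveI := hfs
    have h : Function.Bijective (f.app V) :=
      ConcreteCategory.bijective_of_isIso ((ClSub.unitToPush f).app V)
    exact (ConcreteCategory.isIso_iff_bijective (f.app V)).2 h
  have hirr : IsIrreducible (Set.univ : Set X) := IrreducibleSpace.isIrreducible_univ X
  intro x
  obtain ⟨_, ⟨V, hV, rfl⟩, hxV, -⟩ :=
    Y.isBasis_affineOpens.exists_subset_of_mem_open (Set.mem_univ x) isOpen_univ
  haveI : Nonempty V := ⟨⟨x, hxV⟩⟩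
  haveI : IsIso (f.app V) := hfib V
  have hne : ((f ⁻¹ᵁ V : X.Opens) : Set X).Nonempty := Groth.Agent.S20014.preimage_nonempty f V
  have hirrV : IsIrreducible ((f ⁻¹ᵁ V : X.Opens) : Set X) :=
    ⟨hne, hirr.2.open_subset (f ⁻¹ᵁ V).2 (Set.subset_univ _)⟩
  obtain ⟨hd, hic⟩ := Groth.Agent.Lib.Helper69.NormRel4.normal_sections hX (f ⁻¹ᵁ V) hirrV
  let e : Γ(Y, V) ≃+* Γ(X, f ⁻¹ᵁ V) := (asIso (f.app V)).commRingCatIsoToRingEquiv
  haveI : IsIntegrallyClosed Γ(Y, V) := IsIntegrallyClosed.of_equiv e.symm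
  haveI hloc := hV.isLocalization_stalk ⟨x, hxV⟩
  refine ⟨inferInstance, ?_⟩
  exact @isIntegrallyClosed_of_isLocalization Γ(Y, V) (Y.presheaf.stalk x) _ _
    (TopCat.Presheaf.algebra_section_stalk Y.presheaf (⟨x, hxV⟩ : V)) _ _ _
    (Ideal.primeCompl_le_nonZeroDivisors _) hloc

end Groth.Agent.S17584
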