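import Groth.Statements.S17592
import Groth.Agent.Lib.Helper90.PairHzUnique
-- import your own Groth.Agent.* helpers here

set_option autoImplicit false
universe u
open Hensel

namespace Groth.Agent.S17592

/-- Let R → S be an étale ring map and I an ideal of R such that the induced map R/I → S/IS is
bijective. Then a Henselization of the pair (S, IS), regarded as an R-algebra, is a Henselization of
the pair (R, I). -/
theorem result (R : Type u) [CommRing R] (I : Ideal R)
    (S : Type u) [CommRing S] [Algebra R S] [Algebra.Etale R S]
    (hq : Function.Bijective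
      (Ideal.quotientMap (I.map (algebraMap R S)) (algebraMap R S) Ideal.le_comap_map))
    (H : Type u) [CommRing H] [Algebra S H] [Algebra R H] [IsScalarTower R S H]
    (hH : Hens2.IsPairHenselization S (I.map (algebraMap R S)) H) :
    Hens2.IsPairHenselization R I H := by
  have hgood : Groth.Agent.Lib.Helper90.PairHz.IsGood I S := ⟨inferInstance, hq⟩
  have hmap : (I.map (algebraMap R S)).map (algebraMap S H) = I.map (algebraMap R H) := by
    rw [Ideal.map_map, ← IsScalarTower.algebraMap_eq]
  refine ⟨hmap ▸ hH.1, fun C _ J f hCJ hIJ => ?_⟩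
  let _ : Algebra R C := f.toAlgebra
  have hIJ' : I.map (algebraMap R C) ≤ J := hIJ
  have hjac : I.map (algebraMap R C) ≤ Ideal.jacobson ⊥ := hIJ'.trans hCJ.jac
  obtain ⟨σ⟩ := Groth.Agent.Lib.Helper90.PairHz.nonempty_algHom_of_henselian I C J hIJ' S hgood
  have hσ : (I.map (algebraMap R S)).map σ.toRingHom ≤ J := by
    rw [Ideal.map_map]
    have : σ.toRingHom.comp (algebraMap R S) = algebraMap R C := σ.comp_algebraMap
    rw [this]
    exact hIJ'
  obtain ⟨g, hg, hguniq⟩ := hH.2 C J σ.toRingHom hCJ hσ
  simp only at hg hguniq
  refine ⟨g, ?_, ?_⟩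
  · change g.comp (algebraMap R H) = algebraMap R C
    rw [IsScalarTower.algebraMap_eq R S H, ← RingHom.comp_assoc, hg]
    exact σ.comp_algebraMap
  · intro g' hg'
    change g'.comp (algebraMap R H) = algebraMap R C at hg'
    apply hguniq
    let τ : S →ₐ[R] C :=
      { g'.comp (algebraMap S H) with
        commutes' := fun r => by
          change g' (algebraMap S H (algebraMap R S r)) = algebraMap R C r
          rw [← IsScalarTower.algebraMap_apply R S H]
          exact congr($hg' r) }
    have hτ : τ = σ :=
      Groth.Agent.Lib.Helper90.PairHz.algHom_ext_of_quotBij I (hgood.quotBij I) hjac τ σ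
    exact congr(($hτ).toRingHom)

end Groth.Agent.S17592
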