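import Groth.Statements.S17609
import Groth.Agent.Lib.Helper90.PairHzFactor
import Groth.Agent.Lib.Helper90.PairHzHfp
-- import your own Groth.Agent.* helpers here

set_option autoImplicit false
universe u
open Hensel

namespace Groth.Agent.S17609

/-- Let (A, I) be a Henselian pair and let B, C be Henselizations of the pairs (R, IR), (S, IS) for
finitely presented A-algebras R and S, with their induced A-algebra structures (so A → B and A → C
are Henselian finitely presented). Then every A-algebra map B → C (encoded as a B-algebra structure
on C compatible with that of A) is Henselian finitely presented: there are a finitely presented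
B-algebra T and a T-algebra structure on C compatible with that of B for which C is a Henselization
of the pair (T, IBT). -/
theorem result (A : Type u) [CommRing A] (I : Ideal A) [HenselianRing A I]
    (R : Type u) [CommRing R] [Algebra A R] [Algebra.FinitePresentation A R]
    (B : Type u) [CommRing B] [Algebra R B] [Algebra A B] [IsScalarTower A R B]
    (hB : Hens2.IsPairHenselization R (I.map (algebraMap A R)) B)
    (S : Type u) [CommRing S] [Algebra A S] [Algebra.FinitePresentation A S]
    (C : Type u) [CommRing C] [Algebra S C] [Algebra A C] [IsScalarTower A S C]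
    (hC : Hens2.IsPairHenselization S (I.map (algebraMap A S)) C)
    [Algebra B C] [IsScalarTower A B C] :
    ∃ (T : Type u) (_ : CommRing T) (_ : Algebra B T) (_ : Algebra T C) (_ : IsScalarTower B T C),
      Algebra.FinitePresentation B T ∧
      Hens2.IsPairHenselization T ((I.map (algebraMap A B)).map (algebraMap B T)) C := by
  classical
  -- `R_S = S ⊗ R` is finitely presented over `S`, and maps to `C`
  let ρ : R →ₐ[A] C := (IsScalarTower.toAlgHom A B C).comp (IsScalarTower.toAlgHom A R B)
  let χ : TensorProduct A S R →ₐ[S] C :=
    Algebra.TensorProduct.lift (Algebra.ofId S C) ρ (fun _ _ => Commute.all _ _)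
  obtain ⟨S', _, _, hgood, g, φ, hgφ⟩ :=
    Groth.Agent.Lib.Helper90.PairHz.exists_good_factor_of_isPairHenselization
      (I.map (algebraMap A S)) hC (TensorProduct A S R) χ
  have hS'et : Algebra.Etale S S' := hgood.1
  -- algebra structures on `S'`
  let algAS' : Algebra A S' := ((algebraMap S S').comp (algebraMap A S)).toAlgebra
  have towerASS' : IsScalarTower A S S' := IsScalarTower.of_algebraMap_eq (fun _ => rfl)
  let ρ' : R →ₐ[A] S' := (φ.restrictScalars A).comp Algebra.TensorProduct.includeRight
  let algRS' : Algebra R S' := ρ'.toRingHom.toAlgebra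
  have towerARS' : IsScalarTower A R S' :=
    IsScalarTower.of_algebraMap_eq (fun a => (ρ'.commutes a).symm)
  have hfpAS' : Algebra.FinitePresentation A S' := Algebra.FinitePresentation.trans A S S'
  have hfpRS' : Algebra.FinitePresentation R S' :=
    Algebra.FinitePresentation.of_restrict_scalars_finitePresentation A R S'
  -- algebra structures on `C`
  let algRC : Algebra R C := ((algebraMap B C).comp (algebraMap R B)).toAlgebra
  have towerRBC : IsScalarTower R B C := IsScalarTower.of_algebraMap_eq (fun _ => rfl)
  let algS'C : Algebra S' C := g.toRingHom.toAlgebra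
  have towerSS'C : IsScalarTower S S' C :=
    IsScalarTower.of_algebraMap_eq (fun x => (g.commutes x).symm)
  have hgρ' : ∀ r : R, g (ρ' r) = algebraMap R C r := by
    intro r
    change g (φ ((1 : S) ⊗ₜ[A] r)) = _
    rw [← AlgHom.comp_apply, hgφ]
    change χ ((1 : S) ⊗ₜ[A] r) = _
    rw [Algebra.TensorProduct.lift_tmul, map_one, one_mul]
    rfl
  have towerRS'C : IsScalarTower R S' C :=
    IsScalarTower.of_algebraMap_eq (fun r => (hgρ' r).symm)
  let gR : S' →ₐ[R] C := { g.toRingHom with commutes' := fun r => hgρ' r }
  -- the finitely presented `B`-algebra `T = B ⊗[R] S'`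
  let τ : TensorProduct R B S' →ₐ[B] C :=
    Algebra.TensorProduct.lift (Algebra.ofId B C) gR (fun _ _ => Commute.all _ _)
  let algTC : Algebra (TensorProduct R B S') C := τ.toRingHom.toAlgebra
  have towerBTC : IsScalarTower B (TensorProduct R B S') C :=
    IsScalarTower.of_algebraMap_eq (fun b => (τ.commutes b).symm)
  have hτr : ∀ s' : S', algebraMap (TensorProduct R B S') C ((1 : B) ⊗ₜ[R] s') =
      algebraMap S' C s' := by
    intro s'
    change τ ((1 : B) ⊗ₜ[R] s') = g s'
    rw [Algebra.TensorProduct.lift_tmul, map_one, one_mul]
    rfl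
  have hτl : ∀ b : B, algebraMap (TensorProduct R B S') C (b ⊗ₜ[R] (1 : S')) =
      algebraMap B C b := by
    intro b
    change τ (b ⊗ₜ[R] (1 : S')) = _
    rw [Algebra.TensorProduct.lift_tmul, map_one, mul_one]
    rfl
  refine ⟨TensorProduct R B S', inferInstance, inferInstance, algTC, towerBTC, inferInstance, ?_⟩
  -- `C` is a henselization of `(S', IS')`
  have hC' := Groth.Agent.Lib.Helper90.PairHz.isPairHenselization_over_good
    (I.map (algebraMap A S)) hC hgood
  have hidealC : ((I.map (algebraMap A B)).map (algebraMap B (TensorProduct R B S'))).map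
      (algebraMap (TensorProduct R B S') C) = (I.map (algebraMap A S)).map (algebraMap S C) := by
    rw [Ideal.map_map, Ideal.map_map, Ideal.map_map, ← IsScalarTower.algebraMap_eq B _ C,
      ← IsScalarTower.algebraMap_eq A B C, ← IsScalarTower.algebraMap_eq A S C]
  refine ⟨hidealC ▸ hC.1, fun E _ JE f hE hle => ?_⟩
  have hI : ∀ a ∈ I, f (algebraMap B (TensorProduct R B S') (algebraMap A B a)) ∈ JE :=
    fun a ha => hle (Ideal.mem_map_of_mem f (Ideal.mem_map_of_mem _ (Ideal.mem_map_of_mem _ ha)))
  let incR : S' →ₐ[R] TensorProduct R B S' := Algebra.TensorProduct.includeRight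
  let fS' : S' →+* E := f.comp incR.toRingHom
  have hincR : ∀ r : R, incR (algebraMap R S' r) =
      algebraMap B (TensorProduct R B S') (algebraMap R B r) := by
    intro r
    rw [AlgHom.commutes, IsScalarTower.algebraMap_apply R B (TensorProduct R B S')]
  have key : ∀ a : A, fS' (algebraMap S S' (algebraMap A S a)) =
      f (algebraMap B (TensorProduct R B S') (algebraMap A B a)) := by
    intro a
    change f (incR (algebraMap S S' (algebraMap A S a))) = _
    rw [← IsScalarTower.algebraMap_apply A S S', IsScalarTower.algebraMap_apply A R S', hincR,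
      ← IsScalarTower.algebraMap_apply A R B]
  have hle' : ((I.map (algebraMap A S)).map (algebraMap S S')).map fS' ≤ JE := by
    rw [Ideal.map_map, Ideal.map_map, Ideal.map_le_iff_le_comap]
    intro a ha
    rw [Ideal.mem_comap, RingHom.comp_apply, RingHom.comp_apply, key]
    exact hI a ha
  obtain ⟨gE, hgE, huniq⟩ := hC'.2 E JE fS' hE hle'
  simp only at hgE huniq
  -- the two maps `B → E` agree
  let h₁ : B →+* E := gE.comp (algebraMap B C)
  let h₂ : B →+* E := f.comp (algebraMap B (TensorProduct R B S'))
  let f₀ : R →+* E := h₂.comp (algebraMap R B)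
  have hleB : (I.map (algebraMap A R)).map f₀ ≤ JE := by
    rw [Ideal.map_map, Ideal.map_le_iff_le_comap]
    intro a ha
    rw [Ideal.mem_comap, RingHom.comp_apply]
    change f (algebraMap B (TensorProduct R B S') (algebraMap R B (algebraMap A R a))) ∈ JE
    rw [← IsScalarTower.algebraMap_apply A R B]
    exact hI a ha
  obtain ⟨gB, -, huniqB⟩ := hB.2 E JE f₀ hE hleB
  simp only at huniqB
  have h₁f₀ : h₁.comp (algebraMap R B) = f₀ := by
    ext r
    change gE (algebraMap B C (algebraMap R B r)) = f (algebraMap B _ (algebraMap R B r))
    rw [← hincR]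
    change gE (algebraMap R C r) = fS' (algebraMap R S' r)
    rw [← hgE, RingHom.comp_apply, ← IsScalarTower.algebraMap_apply R S' C]
  have h12 : h₁ = h₂ := (huniqB h₁ h₁f₀).trans (huniqB h₂ rfl).symm
  refine ⟨gE, ?_, ?_⟩
  · refine RingHom.ext fun t => ?_
    change gE (algebraMap (TensorProduct R B S') C t) = f t
    induction t using TensorProduct.induction_on with
    | zero => simp
    | tmul b s' =>
      have hbs : b ⊗ₜ[R] s' = (b ⊗ₜ[R] (1 : S')) * ((1 : B) ⊗ₜ[R] s') := by
        rw [Algebra.TensorProduct.tmul_mul_tmul, mul_one, one_mul]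
      rw [hbs, map_mul, map_mul, map_mul, hτl, hτr]
      congr 1
      · have := congr($h12 b)
        change gE (algebraMap B C b) = f (algebraMap B (TensorProduct R B S') b) at this
        rw [this, Algebra.TensorProduct.algebraMap_apply, Algebra.algebraMap_self_apply]
      · have := congr($hgE s')
        exact this
    | add x y hx hy => rw [map_add, map_add, map_add, hx, hy]
  · intro g' hg'
    apply huniq
    ext s'
    rw [RingHom.comp_apply, ← hτr, ← RingHom.comp_apply, hg']
    rfl

end Groth.Agent.S17609
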