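import Groth.Statements.S17598
import Groth.Agent.Lib.Helper90.PairHzFactor
import Groth.Agent.Lib.Helper90.PairHzHfp
import Groth.Agent.Lib.Helper90.EtLiftQuot
import Groth.Agent.Lib.Helper90.PairHzLift
import Groth.Agent.Lib.Helper90.PairHzTower
import Groth.Agent.Lib.Helper90.TruncLift
import Groth.Agent.S17609
import Groth.Agent.S17596
import Groth.Agent.S17597
-- import your own Groth.Agent.* helpers here

set_option autoImplicit false
universe u
open Hensel

namespace Groth.Agent.S17598

set_option maxHeartbeats 1600000 in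

/-- Let (A, I) be a Henselian pair and let B be a Henselization of the pair (R₀, IR₀) for a finitely
presented A-algebra R₀ (so A → B is a Henselian finitely presented map of Henselian pairs). Assume
that A/I^r → B/I^rB is étale for every r ≥ 1 (for Henselian finitely presented maps this is
equivalent to the h-formally étale lifting property). Then there exist an étale A-algebra R, a
Henselization H of the pair (R, IR) and a surjective A-algebra map H → B whose kernel is a finitely
generated ideal contained in I^n H for every n. -/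
theorem result (A : Type u) [CommRing A] (I : Ideal A)
    [HenselianRing A I] (R₀ : Type u) [CommRing R₀] [Algebra A R₀] [Algebra.FinitePresentation A R₀]
    (B : Type u) [CommRing B] [Algebra R₀ B] [Algebra A B] [IsScalarTower A R₀ B]
    (hB : Hens2.IsPairHenselization R₀ (I.map (algebraMap A R₀)) B)
    (het : ∀ r : ℕ, 1 ≤ r → Algebra.Etale (A ⧸ I ^ r) (B ⧸ (I ^ r).map (algebraMap A B))) :
    ∃ (R : Type u) (_ : CommRing R) (_ : Algebra A R) (H : Type u) (_ : CommRing H) (_ : Algebra R H)
      (_ : Algebra A H) (_ : IsScalarTower A R H),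
      Algebra.Etale A R ∧ Hens2.IsPairHenselization R (I.map (algebraMap A R)) H ∧
      ∃ φ : H →ₐ[A] B, Function.Surjective φ ∧ (RingHom.ker φ).FG ∧
        ∀ n : ℕ, RingHom.ker φ ≤ (I ^ n).map (algebraMap A H) := by
  classical
  -- Step 1: lift the étale `A/I`-algebra `B/IB` to an étale `A`-algebra `R`
  have key : ∀ (K : Ideal A), K = I → Algebra.Etale (A ⧸ K) (B ⧸ K.map (algebraMap A B)) →
      Algebra.Etale (A ⧸ I) (B ⧸ I.map (algebraMap A B)) := by
    rintro K rfl h; exact h
  have het1 : Algebra.Etale (A ⧸ I) (B ⧸ I.map (algebraMap A B)) :=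
    key (I ^ 1) (pow_one I) (het 1 le_rfl)
  obtain ⟨R, _, _, hRet, ⟨e₀⟩⟩ :=
    Groth.Agent.Lib.Helper90.EtLiftQuot.exists_etale_lift_of_surjective (A₀ := A) (A := A ⧸ I)
      (C := B ⧸ I.map (algebraMap A B)) Ideal.Quotient.mk_surjective
  let ε : (R ⧸ I.map (algebraMap A R)) ≃ₐ[A ⧸ I] (B ⧸ I.map (algebraMap A B)) :=
    (Algebra.TensorProduct.quotIdealMapEquivQuotTensor R I).trans e₀
  let σ₀ : R →ₐ[A] B ⧸ I.map (algebraMap A B) :=
    (ε.toAlgHom.restrictScalars A).comp (Ideal.Quotient.mkₐ A (I.map (algebraMap A R)))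
  have hσ₀ : ∀ y : R, σ₀ y = ε (Ideal.Quotient.mk _ y) := fun y => rfl
  -- Step 2: the henselization `H` of `(R, IR)`
  let H := Groth.Agent.Lib.Helper90.PairHz.Hz (I.map (algebraMap A R))
  have hH : Hens2.IsPairHenselization R (I.map (algebraMap A R)) H :=
    Groth.Agent.Lib.Helper90.PairHz.isPairHenselization_Hz _
  let algAH : Algebra A H := ((algebraMap R H).comp (algebraMap A R)).toAlgebra
  have towerARH : IsScalarTower A R H := IsScalarTower.of_algebraMap_eq (fun _ => rfl)
  -- Step 3: lift `σ₀` to `τ : R → B`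
  have hensB : HenselianRing B (I.map (algebraMap A B)) :=
    Groth.Agent.Lib.Helper90.PairHz.henselianRing_tower I hB
  obtain ⟨τ, hτ⟩ := Groth.Agent.Lib.Helper90.PairHz.exists_algHom_lift_of_etale
    (I.map (algebraMap A B)) σ₀
  -- Step 4: the induced map `φ : H → B`
  have hτle : (I.map (algebraMap A R)).map τ.toRingHom ≤ I.map (algebraMap A B) := by
    rw [Ideal.map_map]
    apply le_of_eq
    congr 1
    exact τ.comp_algebraMap
  obtain ⟨φ₀, hφ₀, -⟩ := hH.2 B (I.map (algebraMap A B)) τ.toRingHom hensB hτle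

  have hφ₀R : ∀ y : R, φ₀ (algebraMap R H y) = τ y := fun y => congr($hφ₀ y)
  let φ : H →ₐ[A] B := { φ₀ with
    commutes' := fun a => by
      change φ₀ (algebraMap R H (algebraMap A R a)) = _
      rw [hφ₀R, τ.commutes] }
  have hφR : ∀ y : R, φ (algebraMap R H y) = τ y := hφ₀R
  have hQH : Groth.Agent.Lib.Helper90.PairHz.QuotBij (I.map (algebraMap A R)) H :=
    Groth.Agent.Lib.Helper90.PairHz.quotBij_of_isPairHenselization _ hH
  have hmapH : (I.map (algebraMap A R)).map (algebraMap R H) = I.map (algebraMap A H) := by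
    rw [Ideal.map_map, ← IsScalarTower.algebraMap_eq]
  have hφI : ∀ x ∈ I.map (algebraMap A H), φ x ∈ I.map (algebraMap A B) := by
    intro x hx
    have : (I.map (algebraMap A H)).map φ.toRingHom = I.map (algebraMap A B) := by
      rw [Ideal.map_map]
      congr 1
      exact φ.comp_algebraMap
    rw [← this]
    exact Ideal.mem_map_of_mem _ hx
  -- surjectivity and injectivity modulo `I`
  have hsurjI : ∀ b : B, ∃ y : R, b - τ y ∈ I.map (algebraMap A B) := by
    intro b
    obtain ⟨z, hz⟩ := ε.surjective (Ideal.Quotient.mk _ b)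
    obtain ⟨y, rfl⟩ := Ideal.Quotient.mk_surjective z
    refine ⟨y, ?_⟩
    rw [← hσ₀, ← hτ] at hz
    exact Ideal.Quotient.eq.mp hz.symm
  have hinjI : ∀ y : R, τ y ∈ I.map (algebraMap A B) → y ∈ I.map (algebraMap A R) := by
    intro y hy
    have h1 : σ₀ y = 0 := by rw [← hτ]; exact Ideal.Quotient.eq_zero_iff_mem.mpr hy
    rw [hσ₀] at h1
    have h2 := ε.injective (h1.trans (map_zero ε).symm)
    exact Ideal.Quotient.eq_zero_iff_mem.mp h2
  have hφinjI : ∀ x : H, φ x ∈ I.map (algebraMap A B) → x ∈ I.map (algebraMap A H) := by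
    intro x hx
    obtain ⟨y, hy⟩ := hQH.surj x
    rw [hmapH] at hy
    have h1 : τ y ∈ I.map (algebraMap A B) := by
      have h2 := hφI _ hy
      rw [map_sub, hφR] at h2
      have : τ y = φ x - (φ x - τ y) := by ring
      rw [this]
      exact Ideal.sub_mem _ hx h2
    have h3 : algebraMap R H y ∈ I.map (algebraMap A H) := by
      rw [← hmapH]
      exact Ideal.mem_map_of_mem _ (hinjI y h1)
    have : x = (x - algebraMap R H y) + algebraMap R H y := by ring
    rw [this]
    exact Ideal.add_mem _ hy h3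
  -- Step 5: `φ` is surjective with finitely generated kernel (S17609, S17597, S17596)
  let algHB : Algebra H B := φ.toRingHom.toAlgebra
  have towerAHB : IsScalarTower A H B :=
    IsScalarTower.of_algebraMap_eq (fun a => (φ.commutes a).symm)
  have hensH : HenselianRing H (I.map (algebraMap A H)) :=
    Groth.Agent.Lib.Helper90.PairHz.henselianRing_tower I hH
  have hfpR : Algebra.FinitePresentation A R := inferInstance
  obtain ⟨T, _, _, _, _, hfpT, hT⟩ := Groth.Agent.S17609.result A I R H hH R₀ B hB
  have hmapB : (I.map (algebraMap A H)).map (algebraMap H B) = I.map (algebraMap A B) := by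
    rw [Ideal.map_map, ← IsScalarTower.algebraMap_eq]
  have hsurjQ : Function.Surjective (Ideal.quotientMap ((I.map (algebraMap A H)).map
      (algebraMap H B)) (algebraMap H B) Ideal.le_comap_map) := by
    intro y
    obtain ⟨b, rfl⟩ := Ideal.Quotient.mk_surjective y
    obtain ⟨y', hy'⟩ := hsurjI b
    refine ⟨Ideal.Quotient.mk _ (algebraMap R H y'), ?_⟩
    rw [Ideal.quotientMap_mk, Ideal.Quotient.eq, hmapB]
    have : algebraMap H B (algebraMap R H y') - b = -(b - τ y') := by
      change φ (algebraMap R H y') - b = _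
      rw [hφR]; ring
    rw [this]
    exact (Ideal.neg_mem_iff _).mpr hy'
  have hsurjHB : Function.Surjective (algebraMap H B) :=
    Groth.Agent.S17597.result H (I.map (algebraMap A H)) T B hT hsurjQ
  have hfinQ := RingHom.Finite.of_surjective _ hsurjQ
  obtain ⟨-, hfpHB⟩ := Groth.Agent.S17596.result H (I.map (algebraMap A H)) T B hT hfinQ
  have hkerfg : (RingHom.ker (Algebra.ofId H B).toRingHom).FG :=
    Algebra.FinitePresentation.ker_fG_of_surjective (Algebra.ofId H B) hsurjHB
  have hkereq : RingHom.ker (Algebra.ofId H B).toRingHom = RingHom.ker φ := by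
    ext x; rfl
  refine ⟨R, inferInstance, inferInstance, H, inferInstance, inferInstance, algAH, towerARH,
    hRet, hH, φ, hsurjHB, hkereq ▸ hkerfg, ?_⟩
  -- Step 6: the kernel is contained in every `I^n H`
  intro n
  rcases n with _ | n
  · rw [pow_zero, Ideal.one_eq_top, Ideal.map_top]
    exact le_top
  set K : Ideal A := I ^ (n + 1) with hK
  have hφK : K.map (algebraMap A H) ≤ (K.map (algebraMap A B)).comap φ := by
    rw [Ideal.map_le_iff_le_comap]
    intro a ha
    rw [Ideal.mem_comap, Ideal.mem_comap, φ.commutes]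
    exact Ideal.mem_map_of_mem _ ha
  let p : (H ⧸ K.map (algebraMap A H)) →ₐ[A] (B ⧸ K.map (algebraMap A B)) :=
    Ideal.quotientMapₐ (K.map (algebraMap A B)) φ hφK
  have hp : Function.Surjective p := Ideal.quotientMap_surjective (H := hφK) hsurjHB
  have hKI : K.map (algebraMap A B) ≤ I.map (algebraMap A B) :=
    Ideal.map_mono (Ideal.pow_le_self (Nat.succ_ne_zero n))
  have hnil : IsNilpotent (RingHom.ker p.toRingHom) := by
    refine ⟨n + 1, ?_⟩
    have h1 : RingHom.ker p.toRingHom ≤
        (I.map (algebraMap A H)).map (Ideal.Quotient.mk (K.map (algebraMap A H))) := by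
      intro z hz
      obtain ⟨x, rfl⟩ := Ideal.Quotient.mk_surjective z
      have h2 : Ideal.Quotient.mk (K.map (algebraMap A B)) (φ x) = 0 := hz
      have h3 : φ x ∈ I.map (algebraMap A B) := hKI (Ideal.Quotient.eq_zero_iff_mem.mp h2)
      exact Ideal.mem_map_of_mem _ (hφinjI x h3)
    have h4 : ((I.map (algebraMap A H)).map (Ideal.Quotient.mk (K.map (algebraMap A H)))) ^ (n + 1)
        = ⊥ := by
      rw [← Ideal.map_pow, ← Ideal.map_pow, ← hK, Ideal.map_quotient_self]
    exact le_bot_iff.mp (h4 ▸ Ideal.pow_right_mono h1 (n + 1))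
  have hE : K.map (algebraMap A (H ⧸ K.map (algebraMap A H))) = ⊥ := by
    rw [IsScalarTower.algebraMap_eq A H (H ⧸ K.map (algebraMap A H)), ← Ideal.map_map,
      Ideal.Quotient.algebraMap_eq, Ideal.map_quotient_self]
  have hC : K.map (algebraMap A (B ⧸ K.map (algebraMap A B))) = ⊥ := by
    rw [IsScalarTower.algebraMap_eq A B (B ⧸ K.map (algebraMap A B)), ← Ideal.map_map,
      Ideal.Quotient.algebraMap_eq, Ideal.map_quotient_self]
  have hetB : Algebra.Etale (A ⧸ K) (B ⧸ K.map (algebraMap A B)) := het (n + 1) (Nat.succ_pos n)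
  obtain ⟨v, hv⟩ := Groth.Agent.Lib.Helper90.TruncLift.exists_lift_of_killed K hE hC p hp hnil
    (Ideal.Quotient.mkₐ A (K.map (algebraMap A B)))
  obtain ⟨eH⟩ := Groth.Agent.Lib.Helper90.PairHz.nonempty_algEquiv_quotient_pow
    (A := A) (R := R) (B := H) I hH (n + 1)
  have hetH : Algebra.Etale (A ⧸ K) (H ⧸ K.map (algebraMap A H)) :=
    Algebra.Etale.of_equiv ((Algebra.TensorProduct.quotIdealMapEquivQuotTensor R K).symm.trans eH)
  have hcomp : p.comp (v.comp φ) = p.comp (Ideal.Quotient.mkₐ A (K.map (algebraMap A H))) := by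
    rw [← AlgHom.comp_assoc, hv]
    ext x
    rfl
  have huniq := Groth.Agent.Lib.Helper90.TruncLift.lift_unique_of_killed K hE hC p hnil
    (v.comp φ) (Ideal.Quotient.mkₐ A (K.map (algebraMap A H))) hcomp
  intro x hx
  have hx0 : φ x = 0 := hx
  have := congr($huniq x)
  rw [AlgHom.comp_apply, hx0, map_zero] at this
  exact Ideal.Quotient.eq_zero_iff_mem.mp this.symm

end Groth.Agent.S17598
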