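import Groth.Statements.S6827
import Groth.Agent.Lib.Helper90.SmoothLiftNbhd
import Groth.Agent.Lib.Helper90.SmoothLiftLoc

set_option autoImplicit false
universe u
open Smoothing

namespace Groth.Agent.S6827

open Groth.Agent.Lib.Helper90.SmoothLift

/-- Let R → R₀ be a surjective ring map with kernel I (so R₀ = R/I) and A₀ a smooth R₀-algebra. Then
there is a smooth R-algebra A with A/IA isomorphic to A₀ as an R/I-algebra. -/
theorem result {R A₀ : Type u} [CommRing R] (I : Ideal R) [CommRing A₀]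
    [Algebra (R ⧸ I) A₀] [Algebra.Smooth (R ⧸ I) A₀] :
    ∃ (A : Type u) (_ : CommRing A) (_ : Algebra R A), Algebra.Smooth R A ∧
      Nonempty ((A ⧸ I.map (algebraMap R A)) ≃ₐ[R ⧸ I] A₀) := by
  classical
  obtain ⟨n, πb, hπ, hfg⟩ := Algebra.FinitePresentation.out (R := R ⧸ I) (A := A₀)
  obtain ⟨m, fb, hfb⟩ := Submodule.fg_iff_exists_fin_generating_family.mp hfg
  have hfb' : Ideal.span (Set.range fb) = RingHom.ker πb.toRingHom := hfb
  obtain ⟨bb, hB1, hB2⟩ := exists_coeff_of_formallySmooth πb hπ fb hfb'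
  obtain ⟨red, hredd⟩ : ∃ red : MvPolynomial (Fin n) R →+* MvPolynomial (Fin n) (R ⧸ I),
      red = MvPolynomial.map (Ideal.Quotient.mk I) := ⟨_, rfl⟩
  have hred : Function.Surjective red := by
    rw [hredd]; exact MvPolynomial.map_surjective _ Ideal.Quotient.mk_surjective
  have hkred : RingHom.ker red = I.map (algebraMap R (MvPolynomial (Fin n) R)) := by
    rw [hredd, MvPolynomial.ker_map, Ideal.mk_ker, MvPolynomial.algebraMap_eq]
  have hredpd : ∀ i p, red (MvPolynomial.pderiv i p) = MvPolynomial.pderiv i (red p) := by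
    intro i p; rw [hredd]; exact MvPolynomial.pderiv_map.symm
  choose f hf using fun l => hred (fb l)
  choose b₀ hb₀ using fun i l => hred (bb i l)
  obtain ⟨π, hπd⟩ : ∃ π : MvPolynomial (Fin n) R →+* A₀, π = πb.toRingHom.comp red := ⟨_, rfl⟩
  have hπsurj : Function.Surjective π := by rw [hπd]; exact hπ.comp hred
  obtain ⟨𝔞, h𝔞d⟩ : ∃ 𝔞 : Ideal (MvPolynomial (Fin n) R), 𝔞 = RingHom.ker π := ⟨_, rfl⟩
  have h𝔞c : 𝔞 = (RingHom.ker πb.toRingHom).comap red := by
    rw [h𝔞d, hπd, RingHom.comap_ker]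
  have hmapf : (Ideal.span (Set.range f)).map red = Ideal.span (Set.range fb) := by
    rw [Ideal.map_span]
    congr 1
    ext x
    constructor
    · rintro ⟨_, ⟨l, rfl⟩, rfl⟩; exact ⟨l, (hf l).symm⟩
    · rintro ⟨l, rfl⟩; exact ⟨_, ⟨l, rfl⟩, hf l⟩
  have h𝔞 : 𝔞 = I.map (algebraMap R (MvPolynomial (Fin n) R)) ⊔ Ideal.span (Set.range f) := by
    rw [h𝔞c, ← hfb', ← hmapf, Ideal.comap_map_of_surjective red hred, ← RingHom.ker_eq_comap_bot,
      hkred, sup_comm]
  have hmap𝔞 : 𝔞.map red = RingHom.ker πb.toRingHom := by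
    rw [h𝔞c, Ideal.map_comap_of_surjective red hred]
  have hredE : ∀ j l, red (∑ i, MvPolynomial.pderiv i (f j) * b₀ i l) =
      ∑ i, MvPolynomial.pderiv i (fb j) * bb i l := by
    intro j l
    rw [map_sum]
    refine Finset.sum_congr rfl fun i _ => ?_
    rw [map_mul, hredpd, hf, hb₀]
  have H1 : ∀ j, f j - ∑ l, (∑ i, MvPolynomial.pderiv i (f j) * b₀ i l) * f l ∈
      𝔞 ^ 2 ⊔ I.map (algebraMap R (MvPolynomial (Fin n) R)) := by
    intro j
    have h1 : red (f j - ∑ l, (∑ i, MvPolynomial.pderiv i (f j) * b₀ i l) * f l) ∈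
        (𝔞 ^ 2).map red := by
      rw [Ideal.map_pow, hmap𝔞, map_sub, map_sum, hf]
      simp_rw [map_mul, hredE, hf]
      exact hB1 j
    obtain ⟨y, hy, hyx⟩ := (Ideal.mem_map_iff_of_surjective red hred).mp h1
    have h2 : (f j - ∑ l, (∑ i, MvPolynomial.pderiv i (f j) * b₀ i l) * f l) - y ∈
        RingHom.ker red := by
      rw [RingHom.mem_ker, map_sub, hyx, sub_self]
    rw [hkred] at h2
    have := Ideal.add_mem _ (Ideal.mem_sup_left hy) (Ideal.mem_sup_right h2)
    rwa [add_sub_cancel] at this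
  have H2 : ∀ j p, (∑ l, (∑ i, MvPolynomial.pderiv i (f j) * b₀ i l) *
          (∑ i, MvPolynomial.pderiv i (f l) * b₀ i p)) -
        (∑ i, MvPolynomial.pderiv i (f j) * b₀ i p) ∈ 𝔞 := by
    intro j p
    rw [h𝔞c, Ideal.mem_comap, map_sub, map_sum]
    simp_rw [map_mul, hredE]
    exact hB2 j p
  obtain ⟨W, _, _, hWet, hbij, E, hE, hEE, u, hu1, hu2⟩ := exists_nbhd_data I f b₀ 𝔞 h𝔞 H1 H2
  obtain ⟨S, _, _, _, _, hS, g, hg⟩ :=
    exists_smooth_of_nbhd I f b₀ 𝔞 h𝔞 W hbij E hE hEE u hu1 hu2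
  refine ⟨S, inferInstance, inferInstance, hS, ?_⟩
  subst h𝔞d
  let q : (MvPolynomial (Fin n) R ⧸ RingHom.ker π) ≃+* A₀ :=
    RingHom.quotientKerEquivOfSurjective hπsurj
  have hgsurj : Function.Surjective g := by
    intro x
    obtain ⟨c, rfl⟩ := Ideal.Quotient.mk_surjective x
    exact ⟨algebraMap _ S c, g.commutes c⟩
  apply nonempty_quot_algEquiv I (q.toRingHom.comp g.toRingHom)
  · exact q.surjective.comp hgsurj
  · intro r
    change q (g (algebraMap R S r)) = _
    rw [IsScalarTower.algebraMap_apply R (MvPolynomial (Fin n) R) S, g.commutes]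
    change q (Ideal.Quotient.mk _ _) = _
    rw [RingHom.quotientKerEquivOfSurjective_apply_mk, hπd, hredd]
    change πb (MvPolynomial.map (Ideal.Quotient.mk I) (algebraMap R (MvPolynomial (Fin n) R) r)) = _
    rw [MvPolynomial.algebraMap_eq, MvPolynomial.map_C, ← MvPolynomial.algebraMap_eq, πb.commutes]
  · rw [← hg]
    ext x
    simp only [RingHom.mem_ker, RingHom.comp_apply]
    exact map_eq_zero_iff _ q.injective

end Groth.Agent.S6827
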