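import Groth.Statements.S17600
import Groth.Agent.S17598
import Groth.Agent.Lib.Helper90.FlatKer
import Groth.Agent.Lib.Helper90.PairHzLocal
-- import your own Groth.Agent.* helpers here

set_option autoImplicit false
universe u
open Hensel

namespace Groth.Agent.S17600

/-- Let (A, I) be a Henselian pair and let B be a Henselization of the pair (R₀, IR₀) for a finitely
presented A-algebra R₀ (so A → B is Henselian finitely presented). If B is flat over A and A/I^r →
B/I^rB is étale for every r ≥ 1 (the h-formally étale property, in its equivalent form for Henselian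
finitely presented maps), then A → B is h-étale: there is an étale A-algebra R, with an R-algebra
structure on B compatible with that of A, such that B is a Henselization of the pair (R, IR). -/
theorem result (A : Type u) [CommRing A] (I : Ideal A)
    [HenselianRing A I] (R₀ : Type u) [CommRing R₀] [Algebra A R₀] [Algebra.FinitePresentation A R₀]
    (B : Type u) [CommRing B] [Algebra R₀ B] [Algebra A B] [IsScalarTower A R₀ B]
    (hB : Hens2.IsPairHenselization R₀ (I.map (algebraMap A R₀)) B) [Module.Flat A B]
    (het : ∀ r : ℕ, 1 ≤ r → Algebra.Etale (A ⧸ I ^ r) (B ⧸ (I ^ r).map (algebraMap A B))) :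
    ∃ (R : Type u) (_ : CommRing R) (_ : Algebra A R) (_ : Algebra R B) (_ : IsScalarTower A R B),
      Algebra.Etale A R ∧ Hens2.IsPairHenselization R (I.map (algebraMap A R)) B := by
  classical
  obtain ⟨R, _, _, H, _, _, _, _, hRet, hH, φ, hsurj, hfg, hker⟩ :=
    Groth.Agent.S17598.result A I R₀ B hB het
  have hensH : HenselianRing H (I.map (algebraMap A H)) :=
    Groth.Agent.Lib.Helper90.PairHz.henselianRing_tower I hH
  have hle : RingHom.ker φ.toRingHom ≤ I.map (algebraMap A H) := by
    have := hker 1
    rwa [pow_one] at this
  have hbot : RingHom.ker φ.toRingHom = ⊥ :=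
    Groth.Agent.Lib.Helper90.FlatKer.ker_eq_bot_of_flat I φ hsurj hfg hle hensH.jac
  have hinj : Function.Injective φ := (RingHom.injective_iff_ker_eq_bot φ.toRingHom).mpr hbot
  let algRB : Algebra R B := (φ.toRingHom.comp (algebraMap R H)).toAlgebra
  have towerARB : IsScalarTower A R B := by
    refine IsScalarTower.of_algebraMap_eq (fun a => ?_)
    change algebraMap A B a = φ (algebraMap R H (algebraMap A R a))
    rw [← IsScalarTower.algebraMap_apply A R H, φ.commutes]
  let e : H ≃ₐ[R] B := AlgEquiv.ofBijective
    { φ.toRingHom with commutes' := fun _ => rfl } ⟨hinj, hsurj⟩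
  exact ⟨R, inferInstance, inferInstance, algRB, towerARB, hRet,
    Groth.Agent.Lib.Helper90.PairHz.isPairHenselization_of_algEquiv _ e hH⟩

end Groth.Agent.S17600
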