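import Groth.Statements.S17604
import Groth.Agent.Lib.Helper90.PairHzLift
-- import your own Groth.Agent.* helpers here

set_option autoImplicit false
universe u
open Hensel

namespace Groth.Agent.S17604

/-- Let (A, I) be a Henselian pair, R and R' étale A-algebras, and B, B' Henselizations of the pairs (R,
IR), (R', IR') with their induced A-algebra structures (so B and B' are h-étale over A). Then
reduction modulo I is a bijection from A-algebra maps B → B' to A-algebra maps B/IB → B'/IB': two
A-algebra maps B → B' that agree modulo IB' are equal, and every A-algebra map B/IB → B'/IB' is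
induced by an A-algebra map B → B'. -/
theorem result (A : Type u) [CommRing A]
    (I : Ideal A) [HenselianRing A I]
    (R : Type u) [CommRing R] [Algebra A R] [Algebra.Etale A R]
    (B : Type u) [CommRing B] [Algebra R B] [Algebra A B] [IsScalarTower A R B]
    (hB : Hens2.IsPairHenselization R (I.map (algebraMap A R)) B)
    (R' : Type u) [CommRing R'] [Algebra A R'] [Algebra.Etale A R']
    (B' : Type u) [CommRing B'] [Algebra R' B'] [Algebra A B'] [IsScalarTower A R' B']
    (hB' : Hens2.IsPairHenselization R' (I.map (algebraMap A R')) B') :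
    (∀ φ ψ : B →ₐ[A] B', (∀ b : B, φ b - ψ b ∈ I.map (algebraMap A B')) → φ = ψ) ∧
    ∀ χ : (B ⧸ I.map (algebraMap A B)) →ₐ[A] (B' ⧸ I.map (algebraMap A B')),
      ∃ φ : B →ₐ[A] B', ∀ b : B,
        Ideal.Quotient.mk (I.map (algebraMap A B')) (φ b) = χ (Ideal.Quotient.mk (I.map (algebraMap A B)) b) := by
  have hB'h : HenselianRing B' (I.map (algebraMap A B')) :=
    Groth.Agent.Lib.Helper90.PairHz.henselianRing_tower I hB'
  have hjac : I.map (algebraMap A B') ≤ Ideal.jacobson ⊥ := hB'h.jac
  have hmapB : (I.map (algebraMap A R)).map (algebraMap R B) = I.map (algebraMap A B) := by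
    rw [Ideal.map_map, ← IsScalarTower.algebraMap_eq]
  -- any `A`-algebra map `R → B'` sends `IR` into `IB'`
  have hle : ∀ τ : R →ₐ[A] B', (I.map (algebraMap A R)).map τ.toRingHom ≤
      I.map (algebraMap A B') := by
    intro τ
    rw [Ideal.map_map]
    have : τ.toRingHom.comp (algebraMap A R) = algebraMap A B' := τ.comp_algebraMap
    rw [this]
  refine ⟨?_, ?_⟩
  · intro φ ψ hφψ
    have h1 : φ.comp (IsScalarTower.toAlgHom A R B) = ψ.comp (IsScalarTower.toAlgHom A R B) :=
      Groth.Agent.Lib.Helper37.algHom_eq_of_unramified_of_sub_mem _ hjac _ _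
        (fun r => hφψ (algebraMap R B r))
    obtain ⟨g, -, hguniq⟩ := hB.2 B' (I.map (algebraMap A B'))
      (φ.comp (IsScalarTower.toAlgHom A R B)).toRingHom hB'h (hle _)
    have e1 : φ.toRingHom = g := hguniq _ rfl
    have e2 : ψ.toRingHom = g := hguniq _ (by
      change ψ.toRingHom.comp (algebraMap R B) = _
      exact congr(($h1).toRingHom).symm)
    exact AlgHom.coe_ringHom_injective (e1.trans e2.symm)
  · intro χ
    let σ₀ : R →ₐ[A] B' ⧸ I.map (algebraMap A B') :=
      (χ.comp (Ideal.Quotient.mkₐ A (I.map (algebraMap A B)))).comp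
        (IsScalarTower.toAlgHom A R B)
    obtain ⟨τ, hτ⟩ := Groth.Agent.Lib.Helper90.PairHz.exists_algHom_lift_of_etale
      (I.map (algebraMap A B')) σ₀
    obtain ⟨g, hg, -⟩ := hB.2 B' (I.map (algebraMap A B')) τ.toRingHom hB'h (hle τ)
    have hgr : ∀ r : R, g (algebraMap R B r) = τ r := fun r => congr($hg r)
    let φ : B →ₐ[A] B' :=
      { g with
        commutes' := fun a => by
          change g (algebraMap A B a) = algebraMap A B' a
          rw [IsScalarTower.algebraMap_apply A R B, hgr, τ.commutes] }
    refine ⟨φ, fun b => ?_⟩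
    obtain ⟨r, hr⟩ := (Groth.Agent.Lib.Helper90.PairHz.quotBij_of_isPairHenselization _ hB).surj b
    rw [hmapB] at hr
    have hb : b = algebraMap R B r + (b - algebraMap R B r) := by ring
    have hφw : φ (b - algebraMap R B r) ∈ I.map (algebraMap A B') :=
      Groth.Agent.Lib.Helper90.PairHz.map_mem_map_of_algHom I φ hr
    have h1 : Ideal.Quotient.mk (I.map (algebraMap A B')) (φ b) =
        Ideal.Quotient.mk (I.map (algebraMap A B')) (φ (algebraMap R B r)) := by
      rw [Ideal.Quotient.eq, ← map_sub]
      exact hφw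
    have h2 : Ideal.Quotient.mk (I.map (algebraMap A B)) b =
        Ideal.Quotient.mk (I.map (algebraMap A B)) (algebraMap R B r) :=
      Ideal.Quotient.eq.mpr hr
    rw [h1, h2]
    change Ideal.Quotient.mk _ (g (algebraMap R B r)) = _
    rw [hgr, hτ]
    rfl

end Groth.Agent.S17604
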