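import Groth.Statements.S17605
import Groth.Agent.Lib.Helper88.PairHens

set_option autoImplicit false
universe u
open Hensel

namespace Groth.Agent.S17605

/-- Let A be a ring with an ideal I and let f₁, f₂ be elements of A such that D(f₂) ∩ V(I) ⊆ D(f₁) ∩
V(I) in Spec A. If H₁ is a Henselization of the pair (A_{f₁}, IA_{f₁}) and H₂ a Henselization of the
pair (A_{f₂}, IA_{f₂}), with their induced A-algebra structures, then there is exactly one A-algebra
map H₁ → H₂. -/
theorem result (A : Type u) [CommRing A]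
    (I : Ideal A) (f₁ f₂ : A)
    (h : (PrimeSpectrum.basicOpen f₂ : Set (PrimeSpectrum A)) ∩ PrimeSpectrum.zeroLocus (I : Set A) ⊆
      (PrimeSpectrum.basicOpen f₁ : Set (PrimeSpectrum A)) ∩ PrimeSpectrum.zeroLocus (I : Set A))
    (H₁ : Type u) [CommRing H₁] [Algebra (Localization.Away f₁) H₁] [Algebra A H₁]
    [IsScalarTower A (Localization.Away f₁) H₁]
    (hH₁ : Hens2.IsPairHenselization (Localization.Away f₁)
      (I.map (algebraMap A (Localization.Away f₁))) H₁)
    (H₂ : Type u) [CommRing H₂] [Algebra (Localization.Away f₂) H₂] [Algebra A H₂]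
    [IsScalarTower A (Localization.Away f₂) H₂]
    (hH₂ : Hens2.IsPairHenselization (Localization.Away f₂)
      (I.map (algebraMap A (Localization.Away f₂))) H₂) :
    Nonempty (H₁ →ₐ[A] H₂) ∧ Subsingleton (H₁ →ₐ[A] H₂) := by
  classical
  -- Step 1: `f₁` is a unit modulo `I` in `A_{f₂}`
  have hunit : IsUnit (Ideal.Quotient.mk (I.map (algebraMap A (Localization.Away f₂)))
      (algebraMap A (Localization.Away f₂) f₁)) := by
    by_contra hnu
    obtain ⟨M, hM, hmem⟩ := exists_max_ideal_of_mem_nonunits hnu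
    let φ : A →+* (Localization.Away f₂) ⧸ (I.map (algebraMap A (Localization.Away f₂))) :=
      (Ideal.Quotient.mk _).comp (algebraMap A (Localization.Away f₂))
    haveI : M.IsPrime := hM.isPrime
    let p : PrimeSpectrum A := ⟨M.comap φ, inferInstance⟩
    have hp2 : p ∈ (PrimeSpectrum.basicOpen f₂ : Set (PrimeSpectrum A)) := by
      change f₂ ∉ M.comap φ
      intro hf
      have hu : IsUnit (φ f₂) :=
        (IsLocalization.Away.algebraMap_isUnit (S := Localization.Away f₂) f₂).map (Ideal.Quotient.mk _)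
      exact hM.ne_top (Ideal.eq_top_of_isUnit_mem _ (Ideal.mem_comap.mp hf) hu)
    have hpI : p ∈ PrimeSpectrum.zeroLocus (I : Set A) := by
      intro a ha
      change φ a ∈ M
      have : φ a = 0 := by
        change Ideal.Quotient.mk _ (algebraMap A (Localization.Away f₂) a) = 0
        exact Ideal.Quotient.eq_zero_iff_mem.mpr (Ideal.mem_map_of_mem _ ha)
      rw [this]
      exact M.zero_mem
    have h3 := h ⟨hp2, hpI⟩
    exact h3.1 hmem
  -- Step 2: `f₁` is a unit in `H₂`
  have hu2 : IsUnit (algebraMap A H₂ f₁) := by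
    rw [IsScalarTower.algebraMap_apply A (Localization.Away f₂) H₂]
    exact Groth.Agent.Lib.Helper88.isUnit_algebraMap_of_isUnit_mk hH₂ _ hunit
  -- Step 3: the map `A_{f₁} → H₂`
  let g₀ : Localization.Away f₁ →+* H₂ := IsLocalization.Away.lift f₁ hu2
  have hg₀ : g₀.comp (algebraMap A (Localization.Away f₁)) = algebraMap A H₂ :=
    IsLocalization.Away.lift_comp f₁ hu2
  have hI : (I.map (algebraMap A (Localization.Away f₁))).map g₀ ≤
      (I.map (algebraMap A (Localization.Away f₂))).map (algebraMap (Localization.Away f₂) H₂) := by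
    rw [Ideal.map_map, hg₀, Ideal.map_map, ← IsScalarTower.algebraMap_eq]
  obtain ⟨g, hg, hguniq⟩ := hH₁.2 H₂ _ g₀ hH₂.1 hI
  have key : ∀ φ : H₁ →ₐ[A] H₂, (φ : H₁ →+* H₂) = g := by
    intro φ
    apply hguniq
    apply IsLocalization.ringHom_ext (Submonoid.powers f₁)
    rw [RingHom.comp_assoc, hg₀, ← IsScalarTower.algebraMap_eq]
    exact φ.comp_algebraMap
  constructor
  · refine ⟨{ g with commutes' := ?_ }⟩
    intro a
    have h4 := RingHom.congr_fun hg (algebraMap A (Localization.Away f₁) a)
    have h5 := RingHom.congr_fun hg₀ a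
    simp only [RingHom.comp_apply] at h4 h5
    rw [IsScalarTower.algebraMap_apply A (Localization.Away f₁) H₁]
    simpa [h5] using h4
  · refine ⟨fun φ ψ => ?_⟩
    apply AlgHom.coe_ringHom_injective
    rw [key φ, key ψ]

end Groth.Agent.S17605
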