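import Groth.Statements.S17608
import Groth.Agent.Lib.Helper90.PairHzComp
import Groth.Agent.Lib.Helper90.PairHzHfp
-- import your own Groth.Agent.* helpers here

set_option autoImplicit false
universe u
open Hensel

namespace Groth.Agent.S17608

set_option maxHeartbeats 1600000 in

/-- Let (A, I) be a Henselian pair, let B be a Henselization of the pair (R, IR) for a finitely
presented A-algebra R, and let C be a Henselization of the pair (S, IS) for a finitely presented
B-algebra S, all algebra structures being compatible (so A → B and B → C are Henselian finitely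
presented maps of Henselian pairs). Then the composite A → C is Henselian finitely presented: there
are a finitely presented A-algebra T and a T-algebra structure on C compatible with that of A for
which C is a Henselization of the pair (T, IT). -/
theorem result (A : Type u) [CommRing A] (I : Ideal A) [HenselianRing A I]
    (R : Type u) [CommRing R] [Algebra A R] [Algebra.FinitePresentation A R]
    (B : Type u) [CommRing B] [Algebra R B] [Algebra A B] [IsScalarTower A R B]
    (hB : Hens2.IsPairHenselization R (I.map (algebraMap A R)) B)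
    (S : Type u) [CommRing S] [Algebra B S] [Algebra A S] [IsScalarTower A B S] [Algebra.FinitePresentation B S]
    (C : Type u) [CommRing C] [Algebra S C] [Algebra B C] [Algebra A C] [IsScalarTower B S C]
    [IsScalarTower A B C]
    (hC : Hens2.IsPairHenselization S (I.map (algebraMap A S)) C) :
    ∃ (T : Type u) (_ : CommRing T) (_ : Algebra A T) (_ : Algebra T C) (_ : IsScalarTower A T C),
      Algebra.FinitePresentation A T ∧ Hens2.IsPairHenselization T (I.map (algebraMap A T)) C := by
  classical
  set J : Ideal R := I.map (algebraMap A R) with hJ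
  -- Step 1: a presentation of `S` over `B` and a good neighbourhood `R'` containing its coefficients
  let P := Algebra.Presentation.ofFinitePresentation B S
  obtain ⟨R', _, _, hgood, g, hrange⟩ :=
    Groth.Agent.Lib.Helper90.PairHz.exists_good_range_of_isPairHenselization J hB
      P.finite_coeffs.toFinset
  have hR'et : Algebra.Etale R R' := hgood.1
  let algR'B : Algebra R' B := g.toRingHom.toAlgebra
  have towerRR'B : IsScalarTower R R' B :=
    IsScalarTower.of_algebraMap_eq (fun x => (g.commutes x).symm)
  let algR'S : Algebra R' S := ((algebraMap B S).comp (algebraMap R' B)).toAlgebra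
  have towerR'BS : IsScalarTower R' B S := IsScalarTower.of_algebraMap_eq (fun _ => rfl)
  have hcoeffs : P.HasCoeffs R' := ⟨fun c hc => hrange c (P.finite_coeffs.mem_toFinset.mpr hc)⟩
  -- Step 2: the model `T` over `R'`
  let T := P.ModelOfHasCoeffs R'
  let e : TensorProduct R' B T ≃ₐ[B] S := P.tensorModelOfHasCoeffsEquiv R'
  let algAR' : Algebra A R' := ((algebraMap R R').comp (algebraMap A R)).toAlgebra
  have towerARR' : IsScalarTower A R R' := IsScalarTower.of_algebraMap_eq (fun _ => rfl)
  have hfpAR' : Algebra.FinitePresentation A R' := Algebra.FinitePresentation.trans A R R'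
  have towerAR'T : IsScalarTower A R' T := inferInstance
  have hfpAT : Algebra.FinitePresentation A T := Algebra.FinitePresentation.trans A R' T
  -- Step 3: `T → S → C`
  let incT : T →ₐ[R'] TensorProduct R' B T := Algebra.TensorProduct.includeRight
  let ιT : T →+* S := (e : TensorProduct R' B T →+* S).comp incT.toRingHom
  have hιT : ∀ t : T, ιT t = e ((1 : B) ⊗ₜ[R'] t) := fun t => rfl
  have heB : ∀ b : B, e (b ⊗ₜ[R'] (1 : T)) = algebraMap B S b := by
    intro b
    have := e.commutes b
    rwa [Algebra.TensorProduct.algebraMap_apply, Algebra.algebraMap_self_apply] at this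
  have hιTR' : ∀ r' : R', ιT (algebraMap R' T r') = algebraMap B S (algebraMap R' B r') := by
    intro r'
    rw [hιT, ← heB]
    congr 1
    rw [Algebra.algebraMap_eq_smul_one (R := R') (A := T) r',
      Algebra.algebraMap_eq_smul_one (R := R') (A := B) r', TensorProduct.tmul_smul,
      TensorProduct.smul_tmul']
  let algTC : Algebra T C := ((algebraMap S C).comp ιT).toAlgebra
  have hTC : ∀ t : T, algebraMap T C t = algebraMap S C (ιT t) := fun t => rfl
  have towerASC : IsScalarTower A S C := by
    refine IsScalarTower.of_algebraMap_eq (fun a => ?_)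
    rw [IsScalarTower.algebraMap_apply A B C, IsScalarTower.algebraMap_apply B S C,
      ← IsScalarTower.algebraMap_apply A B S]
  have hAB : ∀ a : A, algebraMap A B a = algebraMap R' B (algebraMap A R' a) := by
    intro a
    rw [IsScalarTower.algebraMap_apply A R B, IsScalarTower.algebraMap_apply R R' B]
    rfl
  have hιTA : ∀ a : A, ιT (algebraMap A T a) = algebraMap A S a := by
    intro a
    rw [IsScalarTower.algebraMap_apply A R' T, hιTR', ← hAB, ← IsScalarTower.algebraMap_apply A B S]
  have towerATC : IsScalarTower A T C := by
    have h : ∀ a : A, algebraMap A C a = algebraMap T C (algebraMap A T a) := by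
      intro a
      rw [hTC, hιTA, ← IsScalarTower.algebraMap_apply A S C]
    exact IsScalarTower.of_algebraMap_eq (R := A) (S := T) (A := C) h
  refine ⟨T, inferInstance, inferInstance, algTC, towerATC, hfpAT, ?_⟩
  have hidealC : (I.map (algebraMap A T)).map (algebraMap T C) =
      (I.map (algebraMap A S)).map (algebraMap S C) := by
    rw [Ideal.map_map, Ideal.map_map, ← IsScalarTower.algebraMap_eq A T C,
      ← IsScalarTower.algebraMap_eq A S C]
  refine ⟨hidealC ▸ hC.1, fun E _ JE f hE hle => ?_⟩
  have hI : ∀ a ∈ I, f (algebraMap A T a) ∈ JE :=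
    fun a ha => hle (Ideal.mem_map_of_mem f (Ideal.mem_map_of_mem _ ha))
  -- `B` is a henselization of `(R', J R')`
  have hB' := Groth.Agent.Lib.Helper90.PairHz.isPairHenselization_over_good J hB hgood
  let fR' : R' →+* E := f.comp (algebraMap R' T)
  have hAR' : ∀ a : A, algebraMap R R' (algebraMap A R a) = algebraMap A R' a := fun a => rfl
  have hleR' : (J.map (algebraMap R R')).map fR' ≤ JE := by
    rw [hJ, Ideal.map_map, Ideal.map_map, Ideal.map_le_iff_le_comap]
    intro a ha
    rw [Ideal.mem_comap, RingHom.comp_apply, RingHom.comp_apply, hAR']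
    change f (algebraMap R' T (algebraMap A R' a)) ∈ JE
    rw [← IsScalarTower.algebraMap_apply A R' T]
    exact hI a ha
  obtain ⟨β, hβ, hβuniq⟩ := hB'.2 E JE fR' hE hleR'
  simp only at hβ hβuniq
  -- the induced map `S → E`
  let algR'E : Algebra R' E := fR'.toAlgebra
  let βₐ : B →ₐ[R'] E := { β with commutes' := fun r' => congr($hβ r') }
  let fₐ : T →ₐ[R'] E := { f with commutes' := fun _ => rfl }
  let lft : TensorProduct R' B T →ₐ[R'] E :=
    Algebra.TensorProduct.lift βₐ fₐ (fun _ _ => Commute.all _ _)
  let σE : S →+* E := lft.toRingHom.comp (e.symm : S →+* TensorProduct R' B T)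
  have hσEe : ∀ x : TensorProduct R' B T, σE (e x) = lft x := by
    intro x
    change lft (e.symm (e x)) = lft x
    rw [AlgEquiv.symm_apply_apply]
  have hσET : ∀ t : T, σE (ιT t) = f t := by
    intro t
    rw [hιT, hσEe]
    rw [Algebra.TensorProduct.lift_tmul, map_one, one_mul]
    rfl
  have hσEB : ∀ b : B, σE (algebraMap B S b) = β b := by
    intro b
    rw [← heB, hσEe]
    rw [Algebra.TensorProduct.lift_tmul, map_one, mul_one]
    rfl
  have hleS : (I.map (algebraMap A S)).map σE ≤ JE := by
    rw [Ideal.map_map, Ideal.map_le_iff_le_comap]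
    intro a ha
    rw [Ideal.mem_comap, RingHom.comp_apply, ← hιTA, hσET]
    exact hI a ha
  obtain ⟨γ, hγ, hγuniq⟩ := hC.2 E JE σE hE hleS
  simp only at hγ hγuniq
  refine ⟨γ, ?_, ?_⟩
  · refine RingHom.ext fun t => ?_
    rw [RingHom.comp_apply, hTC, ← RingHom.comp_apply, hγ, hσET]
  · intro γ' hγ'
    apply hγuniq
    have hγ'T : ∀ t : T, γ' (algebraMap S C (ιT t)) = f t := fun t => congr($hγ' t)
    -- the restriction of `γ'` to `B` is `β`
    let β' : B →+* E := γ'.comp ((algebraMap S C).comp (algebraMap B S))
    have hβ' : β'.comp (algebraMap R' B) = fR' := by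
      refine RingHom.ext fun r' => ?_
      change γ' (algebraMap S C (algebraMap B S (algebraMap R' B r'))) = f (algebraMap R' T r')
      rw [← hιTR', hγ'T]
    have hββ' : β' = β := hβuniq β' hβ'
    refine RingHom.ext fun x => ?_
    obtain ⟨y, rfl⟩ := e.surjective x
    rw [RingHom.comp_apply, hσEe]
    induction y using TensorProduct.induction_on with
    | zero => simp
    | tmul b t =>
      have hbt : b ⊗ₜ[R'] t = (b ⊗ₜ[R'] (1 : T)) * ((1 : B) ⊗ₜ[R'] t) := by
        rw [Algebra.TensorProduct.tmul_mul_tmul, mul_one, one_mul]
      rw [hbt, map_mul, map_mul, map_mul, map_mul, heB, ← hιT, hγ'T]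
      congr 1
      · have := congr($hββ' b)
        change γ' (algebraMap S C (algebraMap B S b)) = β b at this
        rw [this, ← hσEB, ← heB, hσEe]
      · rw [← hσET, hιT, hσEe]
    | add x y hx hy => rw [map_add, map_add, map_add, map_add, hx, hy]

end Groth.Agent.S17608
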