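import Groth.Statements.S1761
-- import your own Groth.Agent.* helpers here
import Mathlib
import Groth.Agent.Lib.Helper36.LD.Unbounded
import Groth.Agent.Lib.Helper2.Matlis5

set_option autoImplicit false
universe u
open CategoryTheory
attribute [local instance] HasDerivedCategory.standard
open Dual

namespace Groth.Agent.S1761

/-- For a complete local ring (where the completion on the left-hand side is the identity). Let A be a
complete Noetherian local ring with maximal ideal m, normalized dualizing complex ω and injective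
hull κ → E of the residue field. For every K in D(A) all of whose cohomology modules are finite and
every integer i, the A-module of maps K → ω[−i] in D(A) is isomorphic to Hom_A(H^i_m(K), E), where
H^i_m(K) is the direct limit of Hom(A/m^n, K[i]). -/
theorem result (A : Type u) [CommRing A] [IsLocalRing A] [IsNoetherianRing A] [IsAdicComplete (IsLocalRing.maximalIdeal A) A] (ω : Dual.D A) (hω : Dual.IsDualizing A ω) (hn : Dual.IsNormalized A ω) (E : Type u) [AddCommGroup E] [Module A E] (f : IsLocalRing.ResidueField A →ₗ[A] E) (hf : InjHull.IsInjectiveHull f) (K : Dual.D A) (hK : ∀ i : ℤ, Module.Finite A (Dual.HD A K i)) (i : ℤ) : Nonempty ((K ⟶ ω⟦(-i)⟧) ≃ₗ[A] (Dual2.HDI A (IsLocalRing.maximalIdeal A) K i →ₗ[A] E)) := by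
  have hK' : ∀ p : ℤ, Module.Finite A (Dual.HD A (K⟦i⟧) p) := fun p =>
    Groth.Agent.Lib.Helper12.HomFinite.finite_HF_shift K i p (hK (i + p))
  obtain ⟨e⟩ := Groth.Agent.Lib.Helper36.LD.nonempty_duality_of_finite_cohomology ω hω hn f hf
    (K⟦i⟧) hK'
  let eH : Dual2.HDI A (IsLocalRing.maximalIdeal A) K i ≃ₗ[A] Groth.Agent.Lib.Helper36.LD.T (K⟦i⟧) :=
    LinearEquiv.ofBijective _ (Groth.Agent.Lib.Helper36.LD.bijective_desc_coconeT (K⟦i⟧))
  let es : (K⟦i⟧ ⟶ ω) ≃ₗ[A] (K ⟶ ω⟦-i⟧) := Groth.Agent.Lib.Helper36.LD.shiftHomEquiv K ω i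
  obtain ⟨a₀, b₀, hab⟩ := hω.finite_injective_dimension
  have hLi : DRing.HasFiniteInjDim A ω :=
    ⟨a₀, b₀, Groth.Agent.Lib.Helper36.InjAmp.hasInjAmplitudeIn_of_hom_quotient_eq_zero ω a₀ b₀
      (fun I k hk g => by
        have := hab (A ⧸ I) k hk
        exact Subsingleton.elim g 0)⟩
  have hfinX : Module.Finite A (K ⟶ ω⟦-i⟧) :=
    Groth.Agent.Lib.Helper12.HomFinite.finite_hom_shift_of_hasFiniteInjDim K ω hK
      hω.finite_cohomology hLi (-i)
  have hsmall : Small.{u} (K ⟶ ω⟦-i⟧) := Module.Finite.small A _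
  let s : Shrink.{u} (K ⟶ ω⟦-i⟧) ≃ₗ[A] (K ⟶ ω⟦-i⟧) := Shrink.linearEquiv A _
  have hb := Groth.Agent.Lib.Helper2.applyₗ_bijective_of_finite f hf (Shrink.{u} (K ⟶ ω⟦-i⟧))
  exact ⟨(s.symm.trans (LinearEquiv.ofBijective _ hb)).trans
    (LinearEquiv.congrLeft E A (((LinearEquiv.congrLeft E A s).trans
      (LinearEquiv.congrLeft E A es.symm)).trans (e.symm.trans eH.symm)))⟩

end Groth.Agent.S1761
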