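import Groth.Statements.S17615
import Groth.Agent.S17593
import Groth.Agent.Lib.Helper90.PairHzHfp
import Groth.Agent.Lib.Helper90.PairHzTors
import Groth.Agent.Lib.Helper40.FlatDescentSrc

set_option autoImplicit false
universe u
open Hensel

namespace Groth.Agent.S17615
open Groth.Agent.Lib.Helper90.PairHz

open Groth.Agent.Lib.Helper90.PairHz

/-- a prime of `B` over a prime `p ⊇ J` of `R`, when `R/J → B/JB` is bijective -/
theorem exists_prime_over {R B : Type u} [CommRing R] [CommRing B] [Algebra R B] (J : Ideal R)
    (hq : QuotBij J B) (p : Ideal R) [p.IsPrime] (hJp : J ≤ p) :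
    ∃ q : Ideal B, q.IsPrime ∧ q.comap (algebraMap R B) = p := by
  -- q = { b | ∃ r ∈ p, b - r ∈ JB }
  set JB := J.map (algebraMap R B) with hJB
  -- the ring hom B → R/p
  have hbij := (quotBij_iff J).mp hq
  let ψ : (R ⧸ J) ≃+* (B ⧸ JB) := RingEquiv.ofBijective (algebraMap (R ⧸ J) (B ⧸ JB)) hbij
  let π : R ⧸ J →+* R ⧸ p := Ideal.Quotient.factor hJp
  let θ : B →+* R ⧸ p := (π.comp (ψ.symm : (B ⧸ JB) →+* (R ⧸ J))).comp (Ideal.Quotient.mk JB)
  have hθ : ∀ r : R, θ (algebraMap R B r) = Ideal.Quotient.mk p r := by
    intro r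
    have h1 : Ideal.Quotient.mk JB (algebraMap R B r) = ψ (Ideal.Quotient.mk J r) := rfl
    simp only [θ, RingHom.comp_apply, h1, RingEquiv.coe_toRingHom, RingEquiv.symm_apply_apply]
    rfl
  refine ⟨RingHom.ker θ, RingHom.ker_isPrime θ, ?_⟩
  ext r
  rw [Ideal.mem_comap, RingHom.mem_ker, hθ, Ideal.Quotient.eq_zero_iff_mem]

theorem flat_atPrime {A R B : Type u} [CommRing A] [CommRing R] [CommRing B] [Algebra A R]
    [Algebra R B] [Algebra A B] [IsScalarTower A R B] [Module.Flat A B] [Module.Flat R B]
    (p : Ideal R) [p.IsPrime] (q : Ideal B) [q.IsPrime] (hqp : q.comap (algebraMap R B) = p) :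
    Module.Flat A (Localization.AtPrime p) := by
  haveI : q.LiesOver p := ⟨hqp.symm⟩
  letI := Localization.AtPrime.algebraOfLiesOver p q
  haveI : Module.Flat (Localization.AtPrime p) (Localization.AtPrime q) := inferInstance
  haveI : IsLocalHom (algebraMap (Localization.AtPrime p) (Localization.AtPrime q)) := by
    rw [Localization.AtPrime.IsLiesOverAlgebra.algebraMap_eq]
    exact Localization.isLocalHom_localRingHom _ _ _ _
  haveI : Module.FaithfullyFlat (Localization.AtPrime p) (Localization.AtPrime q) :=
    Module.FaithfullyFlat.of_flat_of_isLocalHom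
  haveI : IsScalarTower A (Localization.AtPrime p) (Localization.AtPrime q) := inferInstance
  exact Groth.Agent.Lib.Helper40.FlatDescentSrc.flat_of_faithfullyFlat_of_flat A
    (Localization.AtPrime p) (Localization.AtPrime q)


/-- Let (A, I) be a Henselian pair and let B be a Henselization of the pair (R₀, IR₀) for a finitely
presented A-algebra R₀ (so A → B is a Henselian finitely presented map of Henselian pairs). If B is
flat over A, then there are a finitely presented A-algebra S that is flat over A and an S-algebra
structure on B compatible with that of A for which B is a Henselization of the pair (S, IS). -/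
theorem result (A : Type u) [CommRing A]
    (I : Ideal A) [HenselianRing A I]
    (R₀ : Type u) [CommRing R₀] [Algebra A R₀] [Algebra.FinitePresentation A R₀]
    (B : Type u) [CommRing B] [Algebra R₀ B] [Algebra A B] [IsScalarTower A R₀ B]
    (hB : Hens2.IsPairHenselization R₀ (I.map (algebraMap A R₀)) B) [Module.Flat A B] :
    ∃ (S : Type u) (_ : CommRing S) (_ : Algebra A S) (_ : Algebra S B) (_ : IsScalarTower A S B),
      Algebra.FinitePresentation A S ∧ Module.Flat A S ∧
      Hens2.IsPairHenselization S (I.map (algebraMap A S)) B := by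
  classical
  set J := I.map (algebraMap A R₀) with hJ
  haveI hflatR₀B : Module.Flat R₀ B := flat_of_isPairHenselization J hB
  have hq : QuotBij J B := quotBij_of_isPairHenselization J hB
  have hflat : ∀ (p : Ideal R₀) [p.IsPrime], J ≤ p → Module.Flat A (Localization.AtPrime p) := by
    intro p _ hJp
    obtain ⟨q, hqprime, hqp⟩ := exists_prime_over J hq p hJp
    exact flat_atPrime p q hqp
  obtain ⟨R', _, _, _, _, het, hbij, hflatR'⟩ := Groth.Agent.S17593.result A I R₀ hflat
  have hgood : IsGood J R' := ⟨het, hbij⟩
  obtain ⟨e⟩ := nonempty_algEquiv_Hz J hB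
  let ψ : R' →ₐ[R₀] B := (e.symm : Hz J →ₐ[R₀] B).comp (ofGood J R' hgood)
  letI algR'B : Algebra R' B := ψ.toRingHom.toAlgebra
  haveI : IsScalarTower R₀ R' B := IsScalarTower.of_algebraMap_eq fun r => (ψ.commutes r).symm
  have hH := isPairHenselization_over_good J hB hgood
  haveI : IsScalarTower A R' B := by
    refine IsScalarTower.of_algebraMap_eq fun a => ?_
    rw [IsScalarTower.algebraMap_apply A R₀ B, IsScalarTower.algebraMap_apply A R₀ R',
      ← IsScalarTower.algebraMap_apply R₀ R' B]
  haveI : Algebra.FinitePresentation R₀ R' := inferInstance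
  refine ⟨R', inferInstance, inferInstance, algR'B, inferInstance,
    Algebra.FinitePresentation.trans A R₀ R', hflatR', ?_⟩
  have hmap : J.map (algebraMap R₀ R') = I.map (algebraMap A R') := by
    rw [hJ, Ideal.map_map, ← IsScalarTower.algebraMap_eq]
  rw [← hmap]
  exact hH

end Groth.Agent.S17615
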