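import Groth.Statements.S17616
import Groth.Agent.Lib.Helper37.HenselAway
-- import your own Groth.Agent.* helpers here

set_option autoImplicit false
universe u
open Hensel

namespace Groth.Agent.S17616

/-- Let P be a property of ring maps (between rings in a fixed universe), and say that f : B → B' has P
at a prime q of B' if the composite B → B' → B'_g has P for some g ∉ q. Assume (i) for every
finitely presented f : B → B' the set of primes of B' at which f has P is ind-constructible in Spec
B', and f has P as soon as it has P at every prime; (ii) every étale ring map has P; (iii) for g : C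
→ C' and h : C' → C'', if h has P at a prime q of C'' and g has P at the inverse image of q in C',
then h ∘ g has P at q. Now suppose (A, I) is a Henselian pair, and take an A-algebra R of finite
presentation for which A → R has P at each prime of R that contains IR. Then there is an étale
R-algebra R' with R/IR → R'/IR' bijective such that A → R' has P. -/
theorem result
    (P : ∀ ⦃B B' : Type u⦄ [CommRing B] [CommRing B'], (B →+* B') → Prop)
    (PAt : ∀ ⦃B B' : Type u⦄ [CommRing B] [CommRing B'], (B →+* B') → Ideal B' → Prop)
    (hPAt : ∀ ⦃B B' : Type u⦄ [CommRing B] [CommRing B'] (f : B →+* B') (q : Ideal B'),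
      PAt f q ↔ ∃ g : B', g ∉ q ∧ P ((algebraMap B' (Localization.Away g)).comp f))
    (h₁ : ∀ ⦃B B' : Type u⦄ [CommRing B] [CommRing B'] (f : B →+* B'), f.FinitePresentation →
      ProCons.IsIndConstructible {q : PrimeSpectrum B' | PAt f q.asIdeal} ∧
        ((∀ q : PrimeSpectrum B', PAt f q.asIdeal) → P f))
    (h₂ : ∀ ⦃B B' : Type u⦄ [CommRing B] [CommRing B'] (f : B →+* B'), f.Etale → P f)
    (h₃ : ∀ ⦃C C' C'' : Type u⦄ [CommRing C] [CommRing C'] [CommRing C''] (g : C →+* C')
      (h : C' →+* C'') (q : Ideal C'') [q.IsPrime],
      PAt h q → PAt g (q.comap h) → PAt (h.comp g) q)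
    (A : Type u) [CommRing A] (I : Ideal A) [HenselianRing A I]
    (R : Type u) [CommRing R] [Algebra A R] [Algebra.FinitePresentation A R]
    (hR : ∀ (p : Ideal R) [p.IsPrime], I.map (algebraMap A R) ≤ p → PAt (algebraMap A R) p) :
    ∃ (R' : Type u) (_ : CommRing R') (_ : Algebra R R') (_ : Algebra A R') (_ : IsScalarTower A R R'),
      Algebra.Etale R R' ∧
      Function.Bijective (Ideal.quotientMap ((I.map (algebraMap A R)).map (algebraMap R R'))
        (algebraMap R R') Ideal.le_comap_map) ∧ P (algebraMap A R') := by
  classical
  set g₁ : A →+* R := algebraMap A R with hg₁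
  set J : Ideal R := I.map (algebraMap A R) with hJ
  -- the set of `g` such that `A → R_g` has `P`
  set G : Set R := {g | P ((algebraMap R (Localization.Away g)).comp g₁)} with hG
  have htop : Ideal.span G ⊔ J = ⊤ := by
    by_contra hne
    obtain ⟨M, hM, hle⟩ := Ideal.exists_le_maximal _ hne
    have hJM : J ≤ M := le_sup_right.trans hle
    have hMp : M.IsPrime := hM.isPrime
    obtain ⟨g, hgM, hg⟩ := (hPAt g₁ M).mp (hR M hJM)
    exact hgM (hle (Ideal.mem_sup_left (Ideal.subset_span hg)))
  rw [Ideal.eq_top_iff_one, Submodule.mem_sup] at htop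
  obtain ⟨g₀, hg₀, j, hj, hgj⟩ := htop
  have hg₀1 : g₀ - 1 ∈ J := by
    have : g₀ - 1 = -j := by rw [← hgj]; ring
    rw [this]; exact J.neg_mem hj
  refine ⟨Localization.Away g₀, inferInstance, inferInstance, inferInstance, inferInstance,
    Algebra.Etale.of_isLocalizationAway g₀,
    Groth.Agent.Lib.Helper37.bijective_quotientMap_away _ g₀ hg₀1 _, ?_⟩
  set h : R →+* Localization.Away g₀ := algebraMap R (Localization.Away g₀) with hh
  have hcomp : algebraMap A (Localization.Away g₀) = h.comp g₁ :=
    IsScalarTower.algebraMap_eq A R (Localization.Away g₀)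
  have hfp : (algebraMap A (Localization.Away g₀)).FinitePresentation := by
    have : Algebra.FinitePresentation R (Localization.Away g₀) :=
      IsLocalization.Away.finitePresentation g₀
    have : Algebra.FinitePresentation A (Localization.Away g₀) :=
      Algebra.FinitePresentation.trans A R _
    exact RingHom.finitePresentation_algebraMap.mpr inferInstance
  refine (h₁ _ hfp).2 fun q' => ?_
  rw [hcomp]
  have := q'.isPrime
  apply h₃ g₁ h q'.asIdeal
  · -- `h` is étale, so it has `P` at every prime
    rw [hPAt]
    refine ⟨1, fun h1 => q'.isPrime.ne_top ((Ideal.eq_top_iff_one _).mpr h1), h₂ _ ?_⟩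
    have e1 : Algebra.Etale R (Localization.Away g₀) := Algebra.Etale.of_isLocalizationAway g₀
    have e2 : Algebra.Etale (Localization.Away g₀)
        (Localization.Away (1 : Localization.Away g₀)) := Algebra.Etale.of_isLocalizationAway 1
    have e3 : Algebra.Etale R (Localization.Away (1 : Localization.Away g₀)) :=
      Algebra.Etale.comp R (Localization.Away g₀) _
    have : (algebraMap (Localization.Away g₀) (Localization.Away (1 : Localization.Away g₀))).comp
        h = algebraMap R (Localization.Away (1 : Localization.Away g₀)) :=
      (IsScalarTower.algebraMap_eq R (Localization.Away g₀) _).symm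
    rw [this]
    exact RingHom.etale_algebraMap.mpr e3
  · -- the contraction of `q'` lies in some `D(g)`, `g ∈ G`
    set q : Ideal R := q'.asIdeal.comap h with hq
    have hg₀q : g₀ ∉ q := by
      intro hmem
      exact q'.isPrime.ne_top (Ideal.eq_top_of_isUnit_mem _ hmem
        (IsLocalization.Away.algebraMap_isUnit g₀))
    have : ∃ g ∈ G, g ∉ q := by
      by_contra hall
      push Not at hall
      exact hg₀q ((Ideal.span_le.mpr hall) hg₀)
    obtain ⟨g, hgG, hgq⟩ := this
    exact (hPAt g₁ q).mpr ⟨g, hgq, hgG⟩

end Groth.Agent.S17616
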