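import Groth.Statements.S17617
import Groth.Agent.Lib.Helper90.PairHzTower
import Groth.Agent.S0527
-- import your own Groth.Agent.* helpers here

set_option autoImplicit false
universe u
open Hensel

namespace Groth.Agent.S17617

/-- Let (A, I) be a Henselian pair and let M' → M → M'' be A-linear maps with zero composite. Then M' →
M → M'' is exact if and only if for every prime ideal p of A containing I and every Henselization H
of the pair (A_p, IA_p), the sequence H ⊗_A M' → H ⊗_A M → H ⊗_A M'' is exact. (The modules H ⊗_A M
are the stalks at p of the sheaf associated to M on the affine Henselian scheme of (A, I), and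
exactness of a sequence of such sheaves is exactness at every stalk, so this is the statement that
the sequence of modules is exact exactly when the associated sequence of sheaves is.) -/
theorem result (A : Type u) [CommRing A]
    (I : Ideal A) [HenselianRing A I]
    (M' M M'' : Type u) [AddCommGroup M'] [Module A M'] [AddCommGroup M] [Module A M]
    [AddCommGroup M''] [Module A M''] (f : M' →ₗ[A] M) (g : M →ₗ[A] M'') (hfg : g.comp f = 0) :
    Function.Exact f g ↔
    ∀ (p : Ideal A) [p.IsPrime], I ≤ p →
      ∀ (H : Type u) [CommRing H] [Algebra (Localization.AtPrime p) H] [Algebra A H]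
        [IsScalarTower A (Localization.AtPrime p) H],
        Hens2.IsPairHenselization (Localization.AtPrime p)
          (I.map (algebraMap A (Localization.AtPrime p))) H →
        Function.Exact (f.baseChange H) (g.baseChange H) := by
  classical
  constructor
  · intro hex p _ hIp H _ _ _ _ hH
    have hflat : Module.Flat A H :=
      Groth.Agent.Lib.Helper90.PairHz.flat_of_isPairHenselization_tower (A := A) (I := I)
        (R := Localization.AtPrime p) hH
    have h1 := Module.Flat.lTensor_exact H hex
    intro y
    have := h1 y
    simpa [LinearMap.baseChange_eq_ltensor] using this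
  · intro h x
    constructor
    swap
    · rintro ⟨y, rfl⟩
      exact LinearMap.congr_fun hfg y
    intro hx
    by_contra hne
    -- the ideal of `a` with `a • x ∈ range f`
    let 𝔞 : Ideal A := Submodule.comap (LinearMap.toSpanSingleton A M x) (LinearMap.range f)
    have h𝔞 : ∀ a : A, a ∈ 𝔞 ↔ a • x ∈ LinearMap.range f := by
      intro a
      simp [𝔞, LinearMap.toSpanSingleton_apply]
    have hne_top : 𝔞 ≠ ⊤ := by
      intro htop
      have : (1 : A) ∈ 𝔞 := htop ▸ Submodule.mem_top
      rw [h𝔞, one_smul] at this
      exact hne this
    obtain ⟨m, hm, h𝔞m⟩ := Ideal.exists_le_maximal 𝔞 hne_top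
    have hmp : m.IsPrime := hm.isPrime
    have hIm : I ≤ m := by
      have h1 : I ≤ Ideal.jacobson ⊥ := HenselianRing.jac
      refine h1.trans ?_
      rw [Ideal.jacobson]
      exact sInf_le ⟨bot_le, hm⟩
    -- the henselization of the localization
    let R := Localization.AtPrime m
    let IR : Ideal R := I.map (algebraMap A R)
    let H := Groth.Agent.Lib.Helper90.PairHz.Hz IR
    let _ : Algebra A H := ((algebraMap R H).comp (algebraMap A R)).toAlgebra
    have _ : IsScalarTower A R H := IsScalarTower.of_algebraMap_eq (fun _ => rfl)
    have hH : Hens2.IsPairHenselization R IR H :=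
      Groth.Agent.Lib.Helper90.PairHz.isPairHenselization_Hz IR
    have hex := h m hIm H hH
    have hflat : Module.Flat A H :=
      Groth.Agent.Lib.Helper90.PairHz.flat_of_isPairHenselization_tower (A := A) (I := I)
        (R := R) hH
    -- a ring map `H → κ(m)` under `R`
    let κ := IsLocalRing.ResidueField R
    have hκ : HenselianRing κ ⊥ :=
      Groth.Agent.S0527.result κ ⊥ (fun x hx => by
        rw [Ideal.mem_bot] at hx
        rw [hx]
        exact IsNilpotent.zero)
    have hIκ : IR.map (algebraMap R κ) ≤ ⊥ := by
      rw [Ideal.map_le_iff_le_comap]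
      intro r hr
      rw [Ideal.mem_comap, Ideal.mem_bot]
      have : IR ≤ IsLocalRing.maximalIdeal R := by
        rw [Ideal.map_le_iff_le_comap]
        intro a ha
        rw [Ideal.mem_comap]
        have h1 : algebraMap A R a ∈ Ideal.map (algebraMap A R) m :=
          Ideal.mem_map_of_mem _ (hIm ha)
        rwa [Localization.AtPrime.map_eq_maximalIdeal] at h1
      exact (IsLocalRing.residue_eq_zero_iff r).mpr (this hr)
    obtain ⟨φ, hφ, -⟩ := hH.2 κ ⊥ (algebraMap R κ) hκ hIκ
    -- `1 ⊗ x` is in the image
    have hker : (g.baseChange H) ((1 : H) ⊗ₜ[A] x) = 0 := by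
      rw [LinearMap.baseChange_tmul, hx, TensorProduct.tmul_zero]
    obtain ⟨z, hz⟩ := (hex _).mp hker
    -- pass to `N = M / range f`
    let π : M →ₗ[A] M ⧸ LinearMap.range f := (LinearMap.range f).mkQ
    have hπf : π.comp f = 0 := by
      ext y
      simp [π]
    have h0 : ((1 : H) ⊗ₜ[A] π x : TensorProduct A H (M ⧸ LinearMap.range f)) = 0 := by
      have : (π.baseChange H) ((f.baseChange H) z) = 0 := by
        rw [← LinearMap.comp_apply, ← LinearMap.baseChange_comp, hπf, LinearMap.baseChange_zero,
          LinearMap.zero_apply]
      rw [hz, LinearMap.baseChange_tmul] at this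
      exact this
    -- the injection `A ⧸ 𝔞 → N`
    let ι : (A ⧸ 𝔞) →ₗ[A] M ⧸ LinearMap.range f :=
      Submodule.liftQ 𝔞 (LinearMap.toSpanSingleton A _ (π x)) (by
        intro a ha
        rw [LinearMap.mem_ker, LinearMap.toSpanSingleton_apply]
        have := (h𝔞 a).mp ha
        rw [← map_smul]
        exact (Submodule.Quotient.mk_eq_zero _).mpr this)
    have hι : Function.Injective ι := by
      rw [← LinearMap.ker_eq_bot, Submodule.ker_liftQ_eq_bot']
      ext a
      rw [LinearMap.mem_ker, LinearMap.toSpanSingleton_apply, h𝔞, ← map_smul]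
      exact (Submodule.Quotient.mk_eq_zero _).symm
    have hinj := Module.Flat.lTensor_preserves_injective_linearMap (M := H) ι hι
    have h1 : ((1 : H) ⊗ₜ[A] (Ideal.Quotient.mk 𝔞 1) : TensorProduct A H (A ⧸ 𝔞)) = 0 := by
      apply hinj
      rw [LinearMap.lTensor_tmul, map_zero]
      have : ι (Ideal.Quotient.mk 𝔞 1) = π x := by
        change ι (Submodule.Quotient.mk 1) = _
        rw [Submodule.liftQ_apply, LinearMap.toSpanSingleton_apply, one_smul]
      rw [this]
      exact h0
    have h2 := congrArg (TensorProduct.tensorQuotEquivQuotSMul H 𝔞) h1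
    rw [TensorProduct.tensorQuotEquivQuotSMul_tmul_mk, map_zero, one_smul,
      Submodule.Quotient.mk_eq_zero] at h2
    -- but `φ` kills `𝔞 • ⊤`
    have hkill : ∀ y ∈ (𝔞 • ⊤ : Submodule A H), φ y = 0 := by
      intro y hy
      refine Submodule.smul_induction_on hy ?_ ?_
      · intro a ha t _
        rw [Algebra.smul_def, map_mul]
        have e1 : φ (algebraMap A H a) = algebraMap R κ (algebraMap A R a) := by
          change φ (algebraMap R H (algebraMap A R a)) = _
          exact RingHom.congr_fun hφ _
        rw [e1]
        have : algebraMap A R a ∈ IsLocalRing.maximalIdeal R := by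
          have h1 : algebraMap A R a ∈ Ideal.map (algebraMap A R) m :=
            Ideal.mem_map_of_mem _ (h𝔞m ha)
          rwa [Localization.AtPrime.map_eq_maximalIdeal] at h1
        have e2 : algebraMap R κ (algebraMap A R a) = 0 :=
          (IsLocalRing.residue_eq_zero_iff _).mpr this
        rw [e2, zero_mul]
      · intro y₁ y₂ h1 h2
        rw [map_add, h1, h2, add_zero]
    have := hkill 1 h2
    rw [map_one] at this
    exact one_ne_zero this

end Groth.Agent.S17617
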