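import Groth.Statements.S17620
import Groth.Agent.Lib.Helper88.PairHens

set_option autoImplicit false
universe u
open Hensel

namespace Groth.Agent.S17620

/-- Let R be a local ring and J an ideal of R contained in the maximal ideal, let H be a Henselization
of the pair (R, J) which is a local ring with local structure map R → H, and let S be a strict
Henselization of the local ring H. Then S, with its composite R-algebra structure, is a strict
Henselization of the local ring R. (This is the identification of the strict Henselization of the
local ring of a scheme at a point with that of the local ring of its Henselization along a closed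
subscheme through the point.) -/
theorem result
    (R : Type u) [CommRing R] [IsLocalRing R] (J : Ideal R) (hJ : J ≤ IsLocalRing.maximalIdeal R)
    (H : Type u) [CommRing H] [IsLocalRing H] [Algebra R H] [IsLocalHom (algebraMap R H)]
    (hH : Hens2.IsPairHenselization R J H)
    (S : Type u) [CommRing S] [IsLocalRing S] [Algebra H S] [IsLocalHom (algebraMap H S)]
    [Hensel.IsStrictHenselization H S]
    [Algebra R S] [IsScalarTower R H S] [IsLocalHom (algebraMap R S)] :
    Hensel.IsStrictHenselization R S := by
  classical
  have hJH : J.map (algebraMap R H) ≤ IsLocalRing.maximalIdeal H := by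
    rw [Ideal.map_le_iff_le_comap]
    exact hJ.trans (((IsLocalRing.local_hom_TFAE (algebraMap R H)).out 0 3).mp
      (inferInstance : IsLocalHom (algebraMap R H)))
  -- every element of `H` is `algebraMap r + j`
  have hdec : ∀ x : H, ∃ r : R, x - algebraMap R H r ∈ IsLocalRing.maximalIdeal H := fun x => by
    obtain ⟨r, hr⟩ := Groth.Agent.Lib.Helper88.exists_sub_mem hH x
    exact ⟨r, hJH hr⟩
  have hsurj : Function.Surjective
      (algebraMap (IsLocalRing.ResidueField R) (IsLocalRing.ResidueField H)) := by
    intro x
    obtain ⟨h, rfl⟩ := IsLocalRing.residue_surjective x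
    obtain ⟨r, hr⟩ := hdec h
    refine ⟨IsLocalRing.residue R r, ?_⟩
    rw [IsLocalRing.ResidueField.algebraMap_residue]
    symm
    rw [← sub_eq_zero, ← map_sub, IsLocalRing.residue_eq_zero_iff]
    exact hr
  have hstr : Hensel.IsStrictHenselization H S := inferInstance
  refine ⟨hstr.henselian, ?_, ?_⟩
  · haveI := hstr.isSepClosure
    haveI : IsSepClosed (IsLocalRing.ResidueField S) :=
      (IsSepClosure.sep_closed (k := IsLocalRing.ResidueField H))
    haveI : Algebra.IsSeparable (IsLocalRing.ResidueField H) (IsLocalRing.ResidueField S) :=
      IsSepClosure.separable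
    haveI : Algebra.IsSeparable (IsLocalRing.ResidueField R) (IsLocalRing.ResidueField H) :=
      ⟨fun x => by
        obtain ⟨y, rfl⟩ := hsurj x
        exact isSeparable_algebraMap y⟩
    exact ⟨inferInstance, Algebra.IsSeparable.trans (IsLocalRing.ResidueField R)
      (IsLocalRing.ResidueField H) (IsLocalRing.ResidueField S)⟩
  · intro T _ _ f _ τ hτ
    have hJT : J.map f ≤ IsLocalRing.maximalIdeal T := by
      rw [Ideal.map_le_iff_le_comap]
      exact hJ.trans (((IsLocalRing.local_hom_TFAE f).out 0 3).mp (inferInstance : IsLocalHom f))
    obtain ⟨fH, hfH, hfHuniq⟩ := hH.2 T (IsLocalRing.maximalIdeal T) f inferInstance hJT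
    have hloc : IsLocalHom fH := by
      refine ((IsLocalRing.local_hom_TFAE fH).out 0 3).mpr ?_
      intro x hx
      obtain ⟨r, hr⟩ := Groth.Agent.Lib.Helper88.exists_sub_mem hH x
      have hr' : algebraMap R H r ∈ IsLocalRing.maximalIdeal H := by
        have := (IsLocalRing.maximalIdeal H).sub_mem hx (hJH hr)
        simpa using this
      have hrR : r ∈ IsLocalRing.maximalIdeal R := by
        have h5 := ((IsLocalRing.local_hom_TFAE (algebraMap R H)).out 0 4).mp
          (inferInstance : IsLocalHom (algebraMap R H))
        rw [← h5]
        exact hr'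
      have h6' : IsLocalRing.maximalIdeal R ≤ (IsLocalRing.maximalIdeal T).comap f :=
        ((IsLocalRing.local_hom_TFAE f).out 0 3).mp (inferInstance : IsLocalHom f)
      have h6 : f r ∈ IsLocalRing.maximalIdeal T := h6' hrR
      have h7 : fH (x - algebraMap R H r) ∈ IsLocalRing.maximalIdeal T := by
        apply hJT
        have h8 : J.map f = (J.map (algebraMap R H)).map fH := by
          rw [Ideal.map_map, hfH]
        rw [h8]
        exact Ideal.mem_map_of_mem fH hr
      have h9 : fH (algebraMap R H r) = f r := RingHom.congr_fun hfH r
      rw [Ideal.mem_comap]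
      have h10 : fH x = fH (x - algebraMap R H r) + f r := by
        rw [map_sub, h9]; ring
      rw [h10]
      exact (IsLocalRing.maximalIdeal T).add_mem h7 h6
    have hτ' : τ.comp (IsLocalRing.ResidueField.map (algebraMap H S)) =
        IsLocalRing.ResidueField.map fH := by
      apply RingHom.ext
      intro x
      obtain ⟨y, rfl⟩ := hsurj x
      obtain ⟨r, rfl⟩ := IsLocalRing.residue_surjective y
      have h11 := RingHom.congr_fun hτ (IsLocalRing.residue R r)
      simp only [RingHom.comp_apply, IsLocalRing.ResidueField.map_residue] at h11
      simp only [RingHom.comp_apply, IsLocalRing.ResidueField.algebraMap_residue,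
        IsLocalRing.ResidueField.map_residue]
      rw [← IsScalarTower.algebraMap_apply R H S, h11]
      congr 1
      exact (RingHom.congr_fun hfH r).symm
    obtain ⟨g, ⟨hg1, hg2⟩, hguniq⟩ := hstr.universal T fH τ hτ'
    refine ⟨g, ⟨?_, hg2⟩, ?_⟩
    · rw [IsScalarTower.algebraMap_eq R H S, ← RingHom.comp_assoc, hg1, hfH]
    · rintro g' ⟨hg'1, hg'2⟩
      apply hguniq
      refine ⟨?_, hg'2⟩
      apply hfHuniq
      rw [RingHom.comp_assoc, ← IsScalarTower.algebraMap_eq, hg'1]

end Groth.Agent.S17620
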