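import Groth.Statements.S17635
import Mathlib.Tactic
import Mathlib.Analysis.Normed.Module.Basic
import Mathlib.Data.Rat.Lemmas
-- import your own Groth.Agent.* helpers here

set_option autoImplicit false
open Finset
open Variety

namespace Groth.Agent.S17635

/-- the max norm of a rational vector, computed in the reals -/
noncomputable def nr {r : ℕ} (v : Fin r → ℚ) : ℝ := ‖(fun j => ((v j : ℚ) : ℝ))‖

/-- the sum appearing in the estimate -/
noncomputable def SS (n : ℕ) (M D : ℝ) : ℝ := (Finset.Icc 1 n).sum (fun q => M ^ (n - q) * D ^ q)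

lemma nr_nonneg {r : ℕ} (v : Fin r → ℚ) : 0 ≤ nr v := norm_nonneg _

lemma abs_le_nr {r : ℕ} (v : Fin r → ℚ) (j : Fin r) : |((v j : ℚ) : ℝ)| ≤ nr v := by
  have := norm_le_pi_norm (fun j => ((v j : ℚ) : ℝ)) j
  rw [Real.norm_eq_abs] at this
  exact this

lemma nr_le {r : ℕ} (v : Fin r → ℚ) {M : ℝ} (hM : 0 ≤ M) (h : ∀ j, |((v j : ℚ) : ℝ)| ≤ M) :
    nr v ≤ M := by
  unfold nr
  rw [pi_norm_le_iff_of_nonneg hM]
  intro j
  rw [Real.norm_eq_abs]
  exact h j

lemma nr_smul {r : ℕ} (N : ℚ) (hN : 0 ≤ N) (v : Fin r → ℚ) : nr (N • v) = (N : ℝ) * nr v := by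
  unfold nr
  have : (fun j => (((N • v) j : ℚ) : ℝ)) = (N : ℝ) • (fun j => ((v j : ℚ) : ℝ)) := by
    funext j
    simp
  rw [this, norm_smul, Real.norm_eq_abs, abs_of_nonneg]
  exact_mod_cast hN

lemma SS_nonneg (n : ℕ) {M D : ℝ} (hM : 0 ≤ M) (hD : 0 ≤ D) : 0 ≤ SS n M D := by
  unfold SS
  exact Finset.sum_nonneg (fun q _ => mul_nonneg (pow_nonneg hM _) (pow_nonneg hD _))

lemma SS_mono (n : ℕ) {M D M' D' : ℝ} (hM : 0 ≤ M) (hD : 0 ≤ D) (hMM : M ≤ M') (hDD : D ≤ D') :
    SS n M D ≤ SS n M' D' := by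
  unfold SS
  apply Finset.sum_le_sum
  intro q _
  exact mul_le_mul (pow_le_pow_left₀ hM hMM _) (pow_le_pow_left₀ hD hDD _) (pow_nonneg hD _)
    (pow_nonneg (hM.trans hMM) _)

lemma SS_smul (n : ℕ) (N M D : ℝ) : SS n (N * M) (N * D) = N ^ n * SS n M D := by
  unfold SS
  rw [Finset.mul_sum]
  apply Finset.sum_congr rfl
  intro q hq
  have hq' : q ≤ n := (Finset.mem_Icc.mp hq).2
  have : N ^ n = N ^ (n - q) * N ^ q := by rw [← pow_add, Nat.sub_add_cancel hq']
  rw [mul_pow, mul_pow, this]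
  ring

/-- one step in one coordinate direction, by an integer amount -/
lemma one_step {r n : ℕ} (f : (Fin r → ℚ) → ℝ) (i : Fin r) (Ci : ℝ)
    (hC : ∀ (v : Fin r → ℚ) (b : ℕ), 1 ≤ b →
      |f (v - (b : ℚ) • Pi.single i 1) - f v| ≤ Ci * SS n (nr v) (b : ℝ))
    (v v' : Fin r → ℚ) (c : ℤ) (hv' : v' = v - (c : ℚ) • Pi.single i 1) :
    |f v - f v'| ≤ |Ci| * SS n (max (nr v) (nr v')) |(c : ℝ)| := by
  have hmax : 0 ≤ max (nr v) (nr v') := le_max_of_le_left (nr_nonneg v)
  rcases lt_trichotomy c 0 with hc | hc | hc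
  · -- c < 0
    obtain ⟨b, hb⟩ : ∃ b : ℕ, (b : ℤ) = -c := ⟨(-c).toNat, Int.toNat_of_nonneg (by omega)⟩
    have hb1 : 1 ≤ b := by omega
    have hbq : (b : ℚ) = -(c : ℚ) := by exact_mod_cast congrArg (fun z : ℤ => (z : ℚ)) hb
    have hbr : (b : ℝ) = |(c : ℝ)| := by
      rw [abs_of_neg (by exact_mod_cast hc)]
      exact_mod_cast congrArg (fun z : ℤ => (z : ℝ)) hb
    have hv : v = v' - (b : ℚ) • Pi.single i 1 := by
      rw [hv', hbq]; simp
    have h1 := hC v' b hb1
    rw [← hv] at h1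
    calc |f v - f v'| ≤ Ci * SS n (nr v') (b : ℝ) := h1
      _ ≤ |Ci| * SS n (nr v') (b : ℝ) :=
          mul_le_mul_of_nonneg_right (le_abs_self _) (SS_nonneg n (nr_nonneg _) (Nat.cast_nonneg _))
      _ ≤ |Ci| * SS n (max (nr v) (nr v')) |(c : ℝ)| := by
          apply mul_le_mul_of_nonneg_left _ (abs_nonneg _)
          rw [hbr]
          exact SS_mono n (nr_nonneg _) (abs_nonneg _) (le_max_right _ _) le_rfl
  · -- c = 0
    subst hc
    have : v' = v := by rw [hv']; simp
    rw [this, sub_self, abs_zero]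
    exact mul_nonneg (abs_nonneg _) (SS_nonneg n (le_max_of_le_left (nr_nonneg v)) (abs_nonneg _))
  · -- c > 0
    obtain ⟨b, hb⟩ : ∃ b : ℕ, (b : ℤ) = c := ⟨c.toNat, Int.toNat_of_nonneg (by omega)⟩
    have hb1 : 1 ≤ b := by omega
    have hbq : (b : ℚ) = (c : ℚ) := by exact_mod_cast congrArg (fun z : ℤ => (z : ℚ)) hb
    have hbr : (b : ℝ) = |(c : ℝ)| := by
      rw [abs_of_pos (by exact_mod_cast hc)]
      exact_mod_cast congrArg (fun z : ℤ => (z : ℝ)) hb
    have h1 := hC v b hb1
    rw [hbq, ← hv', abs_sub_comm] at h1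
    calc |f v - f v'| ≤ Ci * SS n (nr v) (b : ℝ) := h1
      _ ≤ |Ci| * SS n (nr v) (b : ℝ) :=
          mul_le_mul_of_nonneg_right (le_abs_self _) (SS_nonneg n (nr_nonneg _) (Nat.cast_nonneg _))
      _ ≤ |Ci| * SS n (max (nr v) (nr v')) |(c : ℝ)| := by
          apply mul_le_mul_of_nonneg_left _ (abs_nonneg _)
          rw [hbr]
          exact SS_mono n (nr_nonneg _) (abs_nonneg _) (le_max_left _ _) le_rfl

/-- moving along all coordinates in a finite set, by integer amounts -/
lemma multi_step {r n : ℕ} (f : (Fin r → ℚ) → ℝ) (C : Fin r → ℝ)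
    (hC : ∀ (i : Fin r) (v : Fin r → ℚ) (b : ℕ), 1 ≤ b →
      |f (v - (b : ℚ) • Pi.single i 1) - f v| ≤ C i * SS n (nr v) (b : ℝ))
    (s : Finset (Fin r)) :
    ∀ v w : Fin r → ℚ, (∀ j, j ∉ s → v j = w j) → (∀ j, ∃ c : ℤ, v j - w j = (c : ℚ)) →
      |f v - f w| ≤ (s.sum fun i => |C i|) * SS n (max (nr v) (nr w)) (nr (v - w)) := by
  classical
  induction s using Finset.induction_on with
  | empty =>
    intro v w hvw _
    have : v = w := funext fun j => hvw j (Finset.notMem_empty j)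
    rw [this, sub_self, abs_zero, Finset.sum_empty, zero_mul]
  | insert i s his ih =>
    intro v w hvw hint
    set Mx := max (nr v) (nr w) with hMx
    set D := nr (v - w) with hD
    have hMx0 : 0 ≤ Mx := le_max_of_le_left (nr_nonneg v)
    have hD0 : 0 ≤ D := nr_nonneg _
    obtain ⟨c, hc⟩ := hint i
    set v' : Fin r → ℚ := Function.update v i (w i) with hv'def
    have hv' : v' = v - (c : ℚ) • Pi.single i 1 := by
      funext j
      by_cases hj : j = i
      · subst hj
        simp [hv'def, ← hc]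
      · simp [hv'def, Function.update_of_ne hj, Pi.single_eq_of_ne hj]
    have hnv' : nr v' ≤ Mx := by
      apply nr_le _ hMx0
      intro j
      by_cases hj : j = i
      · subst hj
        rw [hv'def, Function.update_self]
        exact (abs_le_nr w j).trans (le_max_right _ _)
      · rw [hv'def, Function.update_of_ne hj]
        exact (abs_le_nr v j).trans (le_max_left _ _)
    have hnd : nr (v' - w) ≤ D := by
      apply nr_le _ hD0
      intro j
      by_cases hj : j = i
      · subst hj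
        rw [Pi.sub_apply, hv'def, Function.update_self, sub_self]
        simpa using hD0
      · rw [Pi.sub_apply, hv'def, Function.update_of_ne hj]
        exact abs_le_nr (v - w) j
    have hcD : |(c : ℝ)| ≤ D := by
      have := abs_le_nr (v - w) i
      rw [Pi.sub_apply, hc] at this
      simpa using this
    have h1 : |f v - f v'| ≤ |C i| * SS n Mx D := by
      refine (one_step f i (C i) (hC i) v v' c hv').trans ?_
      apply mul_le_mul_of_nonneg_left _ (abs_nonneg _)
      exact SS_mono n (le_max_of_le_left (nr_nonneg v)) (abs_nonneg _)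
        (max_le (le_max_left _ _) hnv') hcD
    have h2 : |f v' - f w| ≤ (s.sum fun i => |C i|) * SS n Mx D := by
      have hvw' : ∀ j, j ∉ s → v' j = w j := by
        intro j hj
        by_cases hji : j = i
        · subst hji
          rw [hv'def, Function.update_self]
        · rw [hv'def, Function.update_of_ne hji]
          exact hvw j (by simp [hji, hj])
      have hint' : ∀ j, ∃ c : ℤ, v' j - w j = (c : ℚ) := by
        intro j
        by_cases hji : j = i
        · subst hji
          exact ⟨0, by rw [hv'def, Function.update_self]; simp⟩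
        · rw [hv'def, Function.update_of_ne hji]
          exact hint j
      refine (ih v' w hvw' hint').trans ?_
      apply mul_le_mul_of_nonneg_left _ (Finset.sum_nonneg fun _ _ => abs_nonneg _)
      exact SS_mono n (le_max_of_le_left (nr_nonneg v')) (nr_nonneg _)
        (max_le hnv' (le_max_right _ _)) hnd
    rw [Finset.sum_insert his, add_mul]
    calc |f v - f w| ≤ |f v - f v'| + |f v' - f w| := abs_sub_le _ _ _
      _ ≤ _ := add_le_add h1 h2

/-- Let r and n be natural numbers and f : ℚ^r → ℝ a nonnegative function which is homogeneous of degree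
n for positive rational scalars, f(q · v) = q^n · f(v) for q > 0; give ℚ^r the maximum norm ‖v‖ =
max_j |v_j| of its standard basis. Suppose that for every standard basis vector e_i there is a
constant C_i with |f(v − b · e_i) − f(v)| ≤ C_i · Σ_{q=1}^{n} ‖v‖^{n−q} · b^q for all v ∈ ℚ^r and
all integers b ≥ 1. Then there is a constant C > 0 such that |f(v) − f(w)| ≤ C · Σ_{q=1}^{n}
max(‖v‖, ‖w‖)^{n−q} · ‖v − w‖^q for all v, w ∈ ℚ^r. (The source allows any norm on an r-dimensional
rational vector space with a chosen basis and argues with the maximum norm of that basis, which is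
the case stated here.) -/
theorem result (r n : ℕ) (f : (Fin r → ℚ) → ℝ)
    (hf0 : ∀ v, 0 ≤ f v)
    (hhom : ∀ (q : ℚ) (v : Fin r → ℚ), 0 < q → f (q • v) = (q : ℝ) ^ n * f v)
    (hdir : ∀ i : Fin r, ∃ Ci : ℝ, ∀ (v : Fin r → ℚ) (b : ℕ), 1 ≤ b →
      |f (v - (b : ℚ) • Pi.single i 1) - f v| ≤
        Ci * (Finset.Icc 1 n).sum (fun q => ‖(fun j => ((v j : ℚ) : ℝ))‖ ^ (n - q) * (b : ℝ) ^ q)) :
    ∃ C : ℝ, 0 < C ∧ ∀ v w : Fin r → ℚ,
      |f v - f w| ≤ C * (Finset.Icc 1 n).sum (fun q =>
        (max ‖(fun j => ((v j : ℚ) : ℝ))‖ ‖(fun j => ((w j : ℚ) : ℝ))‖) ^ (n - q) *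
          ‖(fun j => ((v j - w j : ℚ) : ℝ))‖ ^ q) := by
  classical
  choose C hC using hdir
  have hC' : ∀ (i : Fin r) (v : Fin r → ℚ) (b : ℕ), 1 ≤ b →
      |f (v - (b : ℚ) • Pi.single i 1) - f v| ≤ C i * SS n (nr v) (b : ℝ) := hC
  refine ⟨(Finset.univ.sum fun i => |C i|) + 1, ?_, ?_⟩
  · have : 0 ≤ Finset.univ.sum fun i => |C i| := Finset.sum_nonneg fun _ _ => abs_nonneg _
    linarith
  · intro v w
    show |f v - f w| ≤ ((Finset.univ.sum fun i => |C i|) + 1) * SS n (max (nr v) (nr w)) (nr (v - w))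
    set N : ℕ := Finset.univ.prod fun j => (v j - w j).den with hN
    have hNpos : 0 < N := Finset.prod_pos fun j _ => Rat.den_pos _
    have hNq : (0 : ℚ) < (N : ℚ) := by exact_mod_cast hNpos
    have hNr : (0 : ℝ) < (N : ℝ) := by exact_mod_cast hNpos
    have hint : ∀ j, ∃ c : ℤ, ((N : ℚ) • v) j - ((N : ℚ) • w) j = (c : ℚ) := by
      intro j
      obtain ⟨m, hm⟩ : (v j - w j).den ∣ N := Finset.dvd_prod_of_mem _ (Finset.mem_univ j)
      refine ⟨(m : ℤ) * (v j - w j).num, ?_⟩
      have h1 : (v j - w j) * ((v j - w j).den : ℚ) = ((v j - w j).num : ℚ) := Rat.mul_den_eq_num _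
      rw [Pi.smul_apply, Pi.smul_apply, smul_eq_mul, smul_eq_mul, ← mul_sub, hm]
      push_cast
      rw [← h1]
      ring
    have key := multi_step (n := n) f C hC' Finset.univ ((N : ℚ) • v) ((N : ℚ) • w)
      (fun j hj => absurd (Finset.mem_univ j) hj) hint
    rw [hhom _ v hNq, hhom _ w hNq, ← mul_sub, abs_mul, ← smul_sub, nr_smul _ hNq.le,
      nr_smul _ hNq.le, nr_smul _ hNq.le, ← mul_max_of_nonneg _ _ (by exact_mod_cast hNq.le),
      SS_smul] at key
    have hcast : (((N : ℚ) : ℝ)) = (N : ℝ) := by norm_cast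
    rw [hcast, abs_of_pos (pow_pos hNr n)] at key
    have hS : 0 ≤ SS n (max (nr v) (nr w)) (nr (v - w)) :=
      SS_nonneg n (le_max_of_le_left (nr_nonneg v)) (nr_nonneg _)
    have key2 : |f v - f w| ≤ (Finset.univ.sum fun i => |C i|) * SS n (max (nr v) (nr w)) (nr (v - w)) := by
      have hpos := pow_pos hNr n
      have : (N : ℝ) ^ n * |f v - f w| ≤
          (N : ℝ) ^ n * ((Finset.univ.sum fun i => |C i|) * SS n (max (nr v) (nr w)) (nr (v - w))) := by
        calc (N : ℝ) ^ n * |f v - f w| ≤ _ := key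
          _ = _ := by ring
      exact le_of_mul_le_mul_left this hpos
    calc |f v - f w| ≤ _ := key2
      _ ≤ _ := by
        rw [add_mul, one_mul]
        linarith

end Groth.Agent.S17635
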