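import Groth.Statements.S17642
import Groth.Agent.Lib.Helper20.PnImm
-- import your own Groth.Agent.* helpers here

set_option autoImplicit false
universe u
open CategoryTheory AlgebraicGeometry
open DerSch

namespace Groth.Agent.S17642

/-- Consider Noetherian schemes X and Y together with a morphism f : X ⟶ Y that is locally of finite
type. Given affine open subsets U ⊆ X and V ⊆ Y such that f(U) ⊆ V, the restriction of f to U can be
written as a composite U ⟶ W ⟶ P ⟶ Y in which the first map U ⟶ W is an open immersion, the middle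
map W ⟶ P is a closed immersion, and the last map P ⟶ Y is both smooth and proper. In the published
section every morphism is taken to be separated as a standing convention; since the printed proof
never uses this, no separatedness hypothesis appears here. -/
theorem result {X Y : Scheme.{u}}
    [IsNoetherian X] [IsNoetherian Y] (f : X ⟶ Y) [LocallyOfFiniteType f]
    (U : X.Opens) (hU : IsAffineOpen U) (V : Y.Opens) (hV : IsAffineOpen V) (hUV : U ≤ f ⁻¹ᵁ V) :
    ∃ (W P : Scheme.{u}) (g : (U : Scheme.{u}) ⟶ W) (h : W ⟶ P) (k : P ⟶ Y),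
      IsOpenImmersion g ∧ IsClosedImmersion h ∧ Smooth k ∧ IsProper k ∧ g ≫ h ≫ k = U.ι ≫ f := by
  haveI : AlgebraicGeometry.IsAffine (U : AlgebraicGeometry.Scheme.{u}) := hU
  obtain ⟨n, g, hg, hgb⟩ := Groth.Agent.Lib.Helper20.PnImm.exists_immersion_projSpaceOver
    (U.ι ≫ f) V hV (by
      rintro _ ⟨x, rfl⟩
      rw [AlgebraicGeometry.Scheme.Hom.comp_apply]
      exact hUV x.2)
  haveI : IsNoetherianRing Γ(X, U) :=
    AlgebraicGeometry.IsLocallyNoetherian.component_noetherian ⟨U, hU⟩
  haveI : TopologicalSpace.NoetherianSpace (U : AlgebraicGeometry.Scheme.{u}) :=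
    AlgebraicGeometry.noetherianSpace_of_isAffineOpen U hU
  haveI : AlgebraicGeometry.QuasiCompact g := inferInstance
  obtain ⟨W, g₁, g₂, h1, h2, h3⟩ := (AlgebraicGeometry.IsImmersion.isImmersion_iff_exists_of_quasiCompact (f := g)).mp hg
  exact ⟨W, CohB1.ProjSpaceOver n Y, g₁, g₂, CohB1.ProjSpaceOver.toBase n Y, h1, h2,
    Groth.Agent.Lib.Helper20.PnSmooth.smooth_toBase n Y,
    Groth.Agent.Lib.Helper20.PnSmooth.isProper_toBase n Y, by rw [← Category.assoc, h3, hgb]⟩

end Groth.Agent.S17642
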