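import Groth.Statements.S17646
import Groth.Agent.Lib.Helper6.UniformInj

set_option autoImplicit false
universe w v u
open CategoryTheory CategoryTheory.Limits
open GabLoc

namespace Groth.Agent.S17646

/-- Let C be a Grothendieck abelian category, E an indecomposable injective object of C (E is nonzero
and whenever E ≅ A ⊞ B one of A, B is zero) and S₁, S₂ localizing classes of objects (Serre classes
closed under coproducts). If there are an object of S₁ with a nonzero morphism to E and an object of
S₂ with a nonzero morphism to E, then there is an object belonging to both S₁ and S₂ with a nonzero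
morphism to E. Thus, on the set of isomorphism classes of indecomposable injectives, the subsets of
those having S-torsion, S localizing, are closed under finite intersections (they are also closed
under unions, and form a topology). The published definition of the injective spectrum says
injective objects without the word indecomposable; the published proof of this step uses that each
point of the spectrum is uniform, which is the indecomposable reading taken here. -/
theorem result {C : Type u} [Category.{v} C] [Abelian C]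
    [IsGrothendieckAbelian.{w} C] (E : C) [Injective E] (hE : ¬ IsZero E)
    (hind : ∀ (A B : C), Nonempty (E ≅ A ⊞ B) → IsZero A ∨ IsZero B)
    (S₁ S₂ : ObjectProperty C) (h₁ : GabLoc.IsLocalizing.{w} S₁) (h₂ : GabLoc.IsLocalizing.{w} S₂)
    (ht₁ : GabLoc.HasTorsion S₁ E) (ht₂ : GabLoc.HasTorsion S₂ E) :
    GabLoc.HasTorsion (S₁ ⊓ S₂) E := by
  obtain ⟨Y₁, hY₁, f₁, hf₁⟩ := ht₁
  obtain ⟨Y₂, hY₂, f₂, hf₂⟩ := ht₂
  have := h₁.isSerreClass
  have := h₂.isSerreClass
  let ι₁ := Limits.image.ι f₁
  let ι₂ := Limits.image.ι f₂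
  have hU₁ : S₁ (Limits.image f₁) := S₁.prop_of_epi (factorThruImage f₁) hY₁
  have hU₂ : S₂ (Limits.image f₂) := S₂.prop_of_epi (factorThruImage f₂) hY₂
  by_contra hcon
  have hz : pullback.fst ι₁ ι₂ ≫ ι₁ = 0 := by
    by_contra hne
    exact hcon ⟨pullback ι₁ ι₂, ⟨S₁.prop_of_mono (pullback.fst ι₁ ι₂) hU₁,
      S₂.prop_of_mono (pullback.snd ι₁ ι₂) hU₂⟩, _, hne⟩
  have hdisj : Groth.Agent.Lib.Helper6.TorsionClosed.Disj ι₁ (Subobject.mk ι₂) := by
    intro W a b hab
    have hab' : a ≫ ι₁ = (b ≫ (Subobject.underlyingIso ι₂).hom) ≫ ι₂ := by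
      rw [hab, Category.assoc, Subobject.underlyingIso_hom_comp_eq_mk]
    have : a = pullback.lift a _ hab' ≫ pullback.fst ι₁ ι₂ := (pullback.lift_fst _ _ _).symm
    rw [← cancel_mono ι₁, zero_comp, this, Category.assoc, hz, comp_zero]
  obtain ⟨K, hK₀, hK, hmax⟩ :=
    Groth.Agent.Lib.Helper6.TorsionClosed.exists_maximal_disj_ge.{w} ι₁ _ hdisj
  have hsplit := Groth.Agent.Lib.Helper6.UniformInj.isSplitMono_of_maximal_disj.{w} ι₁ K hK hmax
  have hiso : Nonempty (E ≅ (K : C) ⊞ cokernel K.arrow) :=
    ⟨biprod.uniqueUpToIso _ _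
      (isBilimitBinaryBiconeOfIsSplitMonoOfCokernel (cokernelIsCokernel K.arrow))⟩
  rcases hind _ _ hiso with hz1 | hz2
  · apply hf₂
    have h2 : ι₂ = 0 := by
      rw [← Subobject.ofMkLE_arrow hK₀, hz1.eq_of_tgt (Subobject.ofMkLE ι₂ K hK₀) 0, zero_comp]
    rw [← Limits.image.fac f₂]
    show factorThruImage f₂ ≫ ι₂ = 0
    rw [h2, comp_zero]
  · have : Epi K.arrow := Preadditive.epi_of_isZero_cokernel _ hz2
    have : IsIso K.arrow := isIso_of_mono_of_epi _
    apply hf₁
    have h1 : 𝟙 (Limits.image f₁) = 0 := hK (𝟙 _) (ι₁ ≫ inv K.arrow) (by simp)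
    rw [← Limits.image.fac f₁, ← Category.id_comp (Limits.image.ι f₁), h1, zero_comp, comp_zero]

end Groth.Agent.S17646
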