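import Groth.Statements.S17647
import Groth.Agent.Lib.QCoh.Helper18_Ass
import Groth.Agent.Lib.QCoh.Helper43_PushQcqs
import Groth.Agent.Lib.QCoh.Local
import Groth.Agent.Lib.QCoh.Extension
import Mathlib.CategoryTheory.Localization.Adjunction
import Mathlib.CategoryTheory.Adjunction.Restrict
-- import your own Groth.Agent.* helpers here

set_option autoImplicit false
universe u
open CategoryTheory CategoryTheory.Limits AlgebraicGeometry
open QCohCat

namespace Groth.Agent.S17647


section Aux

open Groth.Agent.Lib.QCoh

variable {X : Scheme.{u}} (U : X.Opens)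

theorem isZero_restrict_iff (K : X.Modules) :
    IsZero ((Scheme.Modules.restrictFunctor U.ι).obj K) ↔ CohB1.support K ⊆ (↑U : Set X)ᶜ := by
  constructor
  · intro h x hx hxU
    exact hx (stalk_subsingleton_of_isZero_restrict U h x hxU)
  · intro h
    apply isZero_of_forall_stalk_subsingleton
    intro y
    have hy : Subsingleton (K.presheaf.stalk (y.1 : X)) := by
      by_contra hne
      exact h hne y.2
    haveI := hy
    exact ((restrictStalkIso K U y).addCommGroupIsoToAddEquiv).subsingleton

theorem isIso_restrict_iff {M N : X.Modules} (φ : M ⟶ N) :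
    IsIso ((Scheme.Modules.restrictFunctor U.ι).map φ) ↔
      CohB1.support (kernel φ) ⊆ (↑U : Set X)ᶜ ∧ CohB1.support (cokernel φ) ⊆ (↑U : Set X)ᶜ := by
  rw [← isZero_restrict_iff, ← isZero_restrict_iff, isIso_iff_mono_and_epi,
    Preadditive.mono_iff_isZero_kernel, Preadditive.epi_iff_isZero_cokernel,
    (PreservesKernel.iso (Scheme.Modules.restrictFunctor U.ι) φ).isZero_iff,
    (PreservesCokernel.iso (Scheme.Modules.restrictFunctor U.ι) φ).isZero_iff]

end Aux

/-- Let X be a scheme and U ⊆ X an open subset whose inclusion U ⟶ X is quasi-compact, Z = X ∖ U. Then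
the restriction functor QCoh(X) ⥤ QCoh(U) between the categories of quasi-coherent modules is a
localization functor for the class of morphisms of quasi-coherent O_X-modules whose kernel and
cokernel (computed in O_X-modules) have support contained in Z: the category QCoh(U) is the quotient
of QCoh(X) by the localizing subcategory of quasi-coherent modules supported in Z, the direct image
along U ⟶ X being the fully faithful right adjoint. No hypothesis is made on X beyond the
quasi-compactness of U ⟶ X. -/
theorem result (X : Scheme.{u})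
    (U : X.Opens) [QuasiCompact U.ι] :
    (ObjectProperty.lift (QCohCat.isQCoh (↑U : Scheme.{u}))
        (ObjectProperty.ι (QCohCat.isQCoh X) ⋙ Scheme.Modules.restrictFunctor U.ι)
        (fun M => @Scheme.Modules.isQuasicoherent_restrictFunctor (↑U : Scheme.{u}) X U.ι
          inferInstance M.obj M.property)).IsLocalization
      (fun (A B : QCohCat.QCoh X) (f : A ⟶ B) =>
        CohB1.support (kernel f.hom) ⊆ (↑U : Set X)ᶜ ∧
          CohB1.support (cokernel f.hom) ⊆ (↑U : Set X)ᶜ) := by
  let L : QCohCat.QCoh X ⥤ QCohCat.QCoh (↑U : Scheme.{u}) :=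
    ObjectProperty.lift (QCohCat.isQCoh (↑U : Scheme.{u}))
        (ObjectProperty.ι (QCohCat.isQCoh X) ⋙ Scheme.Modules.restrictFunctor U.ι)
        (fun M => @Scheme.Modules.isQuasicoherent_restrictFunctor (↑U : Scheme.{u}) X U.ι
          inferInstance M.obj M.property)
  let R : QCohCat.QCoh (↑U : Scheme.{u}) ⥤ QCohCat.QCoh X :=
    ObjectProperty.lift (QCohCat.isQCoh X)
        (ObjectProperty.ι (QCohCat.isQCoh (↑U : Scheme.{u})) ⋙ Scheme.Modules.pushforward U.ι)
        (fun M => by
          haveI : M.obj.IsQuasicoherent := M.property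
          exact Groth.Agent.Lib.QCoh.isQuasicoherent_pushforward_of_qcqs U.ι M.obj)
  let adj : L ⊣ R := (Scheme.Modules.restrictAdjunction U.ι).restrictFullyFaithful
    (ObjectProperty.fullyFaithfulι _) (ObjectProperty.fullyFaithfulι _) (Iso.refl _) (Iso.refl _)
  have hRι : R ⋙ ObjectProperty.ι (QCohCat.isQCoh X) ≅
      ObjectProperty.ι (QCohCat.isQCoh (↑U : Scheme.{u})) ⋙ Scheme.Modules.pushforward U.ι :=
    Iso.refl _
  haveI : R.Faithful := Functor.Faithful.of_comp_iso hRι
  haveI : R.Full := Functor.Full.of_comp_faithful_iso hRι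
  have h := adj.isLocalization
  have heq : (MorphismProperty.isomorphisms (QCohCat.QCoh (↑U : Scheme.{u}))).inverseImage L =
      (fun (A B : QCohCat.QCoh X) (f : A ⟶ B) =>
        CohB1.support (kernel f.hom) ⊆ (↑U : Set X)ᶜ ∧
          CohB1.support (cokernel f.hom) ⊆ (↑U : Set X)ᶜ) := by
    ext A B f
    rw [← isIso_restrict_iff]
    change IsIso (L.map f) ↔ _
    rw [← isIso_iff_of_reflects_iso (L.map f) (ObjectProperty.ι (QCohCat.isQCoh (↑U : Scheme.{u})))]
    rfl
  show L.IsLocalization _
  rw [← heq]
  exact h

end Groth.Agent.S17647
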