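import Groth.Statements.S17649
import Groth.Agent.Lib.QCoh.Helper50_FPExtB
import Groth.Agent.Lib.QCoh.Helper50_ExtendOpen

set_option autoImplicit false
universe u
open CategoryTheory CategoryTheory.Limits AlgebraicGeometry
open QCohCat

namespace Groth.Agent.S17649

/-- Suppose the scheme X is quasi-compact and quasi-separated, and take two quasi-compact opens U, V ⊆
X. Given a quasi-compact open W, denote by S_W the class of quasi-coherent O_X-modules that restrict
to zero on W. Then S_{U ∩ V} is the smallest localizing subcategory of Qcoh(X) that contains both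
S_U and S_V; concretely (this is the inclusion that is not formal): any quasi-coherent O_X-module F
satisfying F|_{U ∩ V} = 0 arises as an extension of a quasi-coherent module that is zero on V by a
quasi-coherent submodule that is zero on U — one can find a monomorphism A ⟶ F where A is
quasi-coherent, A|_U = 0 and (F/A)|_V = 0. -/
theorem result {X : Scheme.{u}}
    [CompactSpace X] [QuasiSeparatedSpace X] (U V : X.Opens) [QuasiCompact U.ι] [QuasiCompact V.ι]
    (F : X.Modules) (hF : Coh.IsQCoh F) (h : IsZero ((Scheme.Modules.restrictFunctor (U ⊓ V).ι).obj F)) :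
    ∃ (A : X.Modules) (i : A ⟶ F), Mono i ∧ Coh.IsQCoh A ∧
      IsZero ((Scheme.Modules.restrictFunctor U.ι).obj A) ∧
      IsZero ((Scheme.Modules.restrictFunctor V.ι).obj (cokernel i)) := by
  have hF' : F.IsQuasicoherent := hF
  -- sections of `F` over opens inside `U ⊓ V` vanish
  have hzero : ∀ (O : X.Opens) (_ : O ≤ U ⊓ V) (s : Γ(F, O)), s = 0 := by
    intro O hO s
    obtain ⟨O', rfl⟩ : ∃ O' : ((U ⊓ V : X.Opens) : Scheme.{u}).Opens, O = (U ⊓ V).ι ''ᵁ O' :=
      ⟨_, (Groth.Agent.Lib.QCoh.FPExt.image_ι_preimage (U ⊓ V) O hO).symm⟩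
    have h0 : 𝟙 ((Scheme.Modules.restrictFunctor (U ⊓ V).ι).obj F) = 0 := h.eq_of_src _ _
    exact congrArg (fun ψ : (Scheme.Modules.restrictFunctor (U ⊓ V).ι).obj F ⟶
      (Scheme.Modules.restrictFunctor (U ⊓ V).ι).obj F => (Scheme.Modules.Hom.app ψ O') s) h0
  have h1 : ((Scheme.Modules.restrictFunctor U.ι).obj F).IsQuasicoherent :=
    Groth.Agent.Lib.QCoh.isQuasicoherent_restrict U.ι F
  have h2 : ((Scheme.Modules.pushforward U.ι).obj
      ((Scheme.Modules.restrictFunctor U.ι).obj F)).IsQuasicoherent :=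
    Groth.Agent.Lib.QCoh.isQuasicoherent_pushforward_of_qcqs U.ι _
  have h3 : ((𝟭 X.Modules).obj F).IsQuasicoherent := hF'
  have h4 : ((Scheme.Modules.restrictFunctor U.ι ⋙ Scheme.Modules.pushforward U.ι).obj
      F).IsQuasicoherent := h2
  refine ⟨kernel ((Scheme.Modules.restrictAdjunction U.ι).unit.app F),
    kernel.ι ((Scheme.Modules.restrictAdjunction U.ι).unit.app F), inferInstance,
    Groth.Agent.Lib.QCoh.isQuasicoherent_kernel _, ?_, ?_⟩
  · have hiso : IsIso ((Scheme.Modules.restrictFunctor U.ι).map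
        ((Scheme.Modules.restrictAdjunction U.ι).unit.app F)) :=
      Groth.Agent.Lib.QCoh.ExtendOpen.isIso_restrict_unit U F
    exact (isZero_kernel_of_mono ((Scheme.Modules.restrictFunctor U.ι).map
      ((Scheme.Modules.restrictAdjunction U.ι).unit.app F))).of_iso
      (PreservesKernel.iso (Scheme.Modules.restrictFunctor U.ι)
        ((Scheme.Modules.restrictAdjunction U.ι).unit.app F))
  · have hm : Mono ((Scheme.Modules.restrictFunctor V.ι).map
        (Abelian.factorThruCoimage ((Scheme.Modules.restrictAdjunction U.ι).unit.app F))) :=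
      inferInstance
    refine IsZero.of_mono ((Scheme.Modules.restrictFunctor V.ι).map
        (Abelian.factorThruCoimage ((Scheme.Modules.restrictAdjunction U.ι).unit.app F))) ?_
    rw [IsZero.iff_id_eq_zero]
    apply Scheme.Modules.hom_ext
    intro W
    ext s
    have hO : U.ι ''ᵁ (U.ι ⁻¹ᵁ (V.ι ''ᵁ W)) ≤ U ⊓ V := by
      refine le_inf (Groth.Agent.Lib.QCoh.FPExt.image_ι_le U _) ?_
      rw [Scheme.Hom.image_preimage_eq_opensRange_inf]
      exact inf_le_right.trans (Groth.Agent.Lib.QCoh.FPExt.image_ι_le V W)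
    exact hzero _ hO s

end Groth.Agent.S17649
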