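import Groth.Statements.S17653
import Groth.Agent.Lib.Helper73.FlatRelDim
import Groth.Agent.Lib.Helper73.IrredDim
import Groth.Agent.Lib.Helper73.RelHt2
-- import your own Groth.Agent.* helpers here

set_option autoImplicit false
universe u
open CategoryTheory CategoryTheory.Limits AlgebraicGeometry TopologicalSpace
open Variety

namespace Groth.Agent.S17653
open Groth.Agent.Lib.Helper73.SchemeDim Groth.Agent.Lib.Helper73.DimFormula Groth.Agent.Lib.Helper73.FlatRelDim Groth.Agent.Lib.Helper73.RelHt

/-- Suppose X and Y are locally Noetherian schemes of the same pure dimension d (every irreducible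
component of X and every irreducible component of Y has topological Krull dimension d), and π : X →
Y is a proper morphism between them. If there is a point x of X which is isolated in its fibre
π⁻¹(π(x)), i.e. some open neighbourhood of x meets that fibre only in x, then the image of π, with
the subspace topology, has the same dimension as Y. -/
theorem result
    (X Y : Scheme.{u}) [IsLocallyNoetherian X] [IsLocallyNoetherian Y] (π : X ⟶ Y) [IsProper π]
    (d : WithBot ℕ∞) (hX : ∀ Z ∈ irreducibleComponents ↥X, topologicalKrullDim ↥Z = d)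
    (hY : ∀ Z ∈ irreducibleComponents ↥Y, topologicalKrullDim ↥Z = d)
    (x : ↥X) (hx : ∃ U : X.Opens, x ∈ U ∧ ∀ x' ∈ U, π x' = π x → x' = x) :
    topologicalKrullDim ↥(Set.range (fun z : ↥X => π z)) = topologicalKrullDim ↥Y := by
  apply le_antisymm (topologicalKrullDim_subspace_le _ _)
  have hYd : topologicalKrullDim Y ≤ d :=
    topologicalKrullDim_le_of_irreducibleComponents _ (fun T hT => (hY T hT).le)
  refine hYd.trans ?_
  obtain ⟨ξ, hξmax, hξx⟩ := exists_maximal_specializes x
  have hZ := closure_singleton_mem_irreducibleComponents_of_maximal ξ hξmax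
  rw [← hX _ hZ]
  obtain ⟨U, hxU, hU⟩ := hx
  -- local fibre dimension at x is 0
  have hF0 : FlatMor.fibreDimAt π x ≤ 0 := by
    unfold FlatMor.fibreDimAt
    let V : (π.fiber (π.base x)).Opens := (π.fiberι (π.base x)) ⁻¹ᵁ U
    have hmem : π.asFiber x ∈ V := by
      change (π.fiberι (π.base x)).base (π.asFiber x) ∈ U
      rw [π.fiberι_asFiber]; exact hxU
    refine (Groth.Agent.Lib.Helper29.localDim_le_dim_of_mem (π.asFiber x) V hmem).trans ?_
    have : Subsingleton ↥(V : Set (π.fiber (π.base x))) := by
      refine ⟨fun a b => ?_⟩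
      apply Subtype.ext
      apply (π.fiberι (π.base x)).isEmbedding.injective
      rw [hU _ a.2 (base_fiberι' π _ a.1), hU _ b.2 (base_fiberι' π _ b.1)]
    exact topologicalKrullDim_zero_of_discreteTopology _
  obtain ⟨nξ, hnξ⟩ := exists_trdeg_residueField_eq_nat' π ξ
  have hFξ := fibreDimAt_eq_trdeg_of_maximal_in_fibre π ξ (fun z' h _ => hξmax z' h) nξ hnξ
  have hn0 : nξ = 0 := by
    have := (fibreDimAt_mono' π hξx).trans hF0
    rw [hFξ] at this
    have : nξ ≤ 0 := by exact_mod_cast this
    omega
  subst hn0
  have hcl : IsClosed (Set.range π.base) := π.isClosedMap.isClosed_range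
  have : QuasiSober ↥(Set.range π.base) := hcl.isClosedEmbedding_subtypeVal.quasiSober
  have : QuasiSober ↥(closure ({ξ} : Set X)) :=
    isClosed_closure.isClosedEmbedding_subtypeVal.quasiSober
  refine topologicalKrullDim_subtype_le _ _ (fun c hc => ?_)
  have hsp : ∀ i, ξ ⤳ c i := fun i => specializes_iff_mem_closure.mpr (hc i)
  have h1 := length_le_relHt_of_le (anti X) c (hsp (Fin.last _) : c.last ≤ ξ)
  obtain ⟨nz, hnz⟩ := exists_trdeg_residueField_eq_nat' π c.head
  have h2 := (relHt_add_trdeg_aux π (hsp 0 : ξ ⤳ c.head) 0 nz hnξ hnz).1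
  have hπsp : π.base ξ ⤳ π.base c.head := (hsp 0 : ξ ⤳ c.head).map π.continuous
  obtain ⟨c', hc'h, hc'l, hc'len⟩ := exists_length_eq_relHt (a := π.base c.head) (b := π.base ξ)
    hπsp (anti Y _ _) (relHt_lt_top hπsp)
  have h3 : c.length ≤ c'.length := by
    have : (c.length : ℕ∞) ≤ (c'.length : ℕ∞) := by
      rw [hc'len]
      refine h1.trans (le_trans le_self_add (h2.trans ?_))
      rw [Nat.cast_zero, add_zero]
      exact le_rfl
    exact_mod_cast this
  have hmem : ∀ i, c' i ∈ Set.range π.base := by
    intro i
    have hle : c' i ≤ c'.last := c'.monotone (Fin.le_last i)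
    rw [hc'l] at hle
    have h4 : c' i ∈ closure ({π.base ξ} : Set Y) := (hle : π.base ξ ⤳ c' i).mem_closure
    have h5 : closure ({π.base ξ} : Set Y) ⊆ Set.range π.base :=
      closure_minimal (Set.singleton_subset_iff.mpr ⟨ξ, rfl⟩) hcl
    exact h5 h4
  have := length_le_topologicalKrullDim_subtype (Set.range π.base) c' hmem
  refine le_trans ?_ this
  exact_mod_cast h3

end Groth.Agent.S17653
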