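import Groth.Statements.S17658
import Mathlib
-- import your own Groth.Agent.* helpers here

set_option autoImplicit false
universe u
open Surf

namespace Groth.Agent.S17658

section helpers

lemma ext4 (u v : Fin 4 →₀ ℕ) (h0 : u 0 = v 0) (h1 : u 1 = v 1) (h2 : u 2 = v 2)
    (h3 : u 3 = v 3) : u = v := by
  refine Finsupp.ext fun t => ?_
  match t with
  | ⟨0, _⟩ => exact h0
  | ⟨1, _⟩ => exact h1
  | ⟨2, _⟩ => exact h2
  | ⟨3, _⟩ => exact h3
  | ⟨n + 4, h⟩ => exact absurd h (by omega)

end helpers


/-- In the polynomial ring k[T₀,T₁,U,V] over a field k, bigraded by deg T₀ = deg T₁ = (0,1), deg U =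
(1,−1), deg V = (1,0) (the Cox ring of the Hirzebruch surface F₁; its piece of bidegree (a,b) is the
space of sections of O(a(E+F)+bF)), let S_(a,b) denote the k-span of the monomials of bidegree
(a,b), so that S_(0,c) is the space of forms of degree c in T₀, T₁. A subspace W ⊆ S_(a,b) is called
c-generating when W·S_(0,c) = S_(a,b+c). Fix a monomial order and natural numbers a, b, c, and let
W₀(a,b,c) be the set of monomials U^i V^(a−i) T₀^(b+i−j(c+1)) T₁^(j(c+1)) with 0 ≤ i ≤ a, j ≥ 0 and
j(c+1) < b+i, together with the monomials U^i V^(a−i) T₁^(b+i) with 0 ≤ i ≤ a. If every monomial of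
W₀(a,b,c) is the leading monomial of some nonzero element of W, then W is c-generating. (The source
fixes the graded lexicographic order with U > V > T₀ > T₁ and works over the complex numbers; its
argument uses only that leading monomials are multiplicative and that W₀(a,b,c)·S_(0,c) contains
every monomial of S_(a,b+c), so any monomial order and any field are allowed here. The printed index
j runs from 1; with that range the statement fails already for a = 0, b = c = 1 and W spanned by T₁,
and the range from 0 used here is the one matching the accompanying dimension count.) Variables are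
indexed T₀ = 0, T₁ = 1, U = 2, V = 3. -/
theorem result (k : Type u) [Field k]
    (mo : MonomialOrder (Fin 4)) (a b c : ℕ) (W : Submodule k (MvPolynomial (Fin 4) k))
    (hW : W ≤ Submodule.span k {f : MvPolynomial (Fin 4) k | ∃ e : Fin 4 →₀ ℕ, e 2 + e 3 = a ∧ e 0 + e 1 = b + e 2 ∧ f = MvPolynomial.monomial e 1})
    (h₁ : ∀ i j : ℕ, i ≤ a → j * (c + 1) < b + i → ∃ w ∈ W, w ≠ 0 ∧
      mo.degree w = Finsupp.single 0 (b + i - j * (c + 1)) + Finsupp.single 1 (j * (c + 1)) +
        Finsupp.single 2 i + Finsupp.single 3 (a - i))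
    (h₂ : ∀ i : ℕ, i ≤ a → ∃ w ∈ W, w ≠ 0 ∧
      mo.degree w = Finsupp.single 1 (b + i) + Finsupp.single 2 i + Finsupp.single 3 (a - i)) :
    W * Submodule.span k {f : MvPolynomial (Fin 4) k | ∃ e : Fin 4 →₀ ℕ, e 2 + e 3 = 0 ∧ e 0 + e 1 = c + e 2 ∧ f = MvPolynomial.monomial e 1} =
      Submodule.span k {f : MvPolynomial (Fin 4) k | ∃ e : Fin 4 →₀ ℕ, e 2 + e 3 = a ∧ e 0 + e 1 = (b + c) + e 2 ∧ f = MvPolynomial.monomial e 1} := by
  classical
  set Ω := Submodule.span k {f : MvPolynomial (Fin 4) k | ∃ e : Fin 4 →₀ ℕ, e 2 + e 3 = a ∧ e 0 + e 1 = (b + c) + e 2 ∧ f = MvPolynomial.monomial e 1} with hΩ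
  set S0 := Submodule.span k {f : MvPolynomial (Fin 4) k | ∃ e : Fin 4 →₀ ℕ, e 2 + e 3 = 0 ∧ e 0 + e 1 = c + e 2 ∧ f = MvPolynomial.monomial e 1} with hS0
  have hTΩ : W * S0 ≤ Ω := by
    have h1 : Submodule.span k {f : MvPolynomial (Fin 4) k | ∃ e : Fin 4 →₀ ℕ, e 2 + e 3 = a ∧ e 0 + e 1 = b + e 2 ∧ f = MvPolynomial.monomial e 1} * S0 ≤ Ω := by
      rw [hS0, Submodule.span_mul_span]
      apply Submodule.span_le.mpr
      rintro _ ⟨x, ⟨e, h1, h2, rfl⟩, y, ⟨e', h1', h2', rfl⟩, rfl⟩
      refine Submodule.subset_span ⟨e + e', ?_, ?_, ?_⟩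
      · simp only [Finsupp.add_apply]; omega
      · simp only [Finsupp.add_apply]; omega
      · show MvPolynomial.monomial e 1 * MvPolynomial.monomial e' 1 = _
        rw [MvPolynomial.monomial_mul, _root_.mul_one]
    rw [Submodule.mul_le]
    intro w hw n hn
    exact h1 (Submodule.mul_mem_mul (hW hw) hn)
  have hsupp : ∀ f ∈ Ω, ∀ d ∈ f.support, (d 2 + d 3 = a ∧ d 0 + d 1 = (b + c) + d 2) := by
    intro f hf
    refine Submodule.span_induction
      (p := fun f _ => ∀ d ∈ f.support, (d 2 + d 3 = a ∧ d 0 + d 1 = (b + c) + d 2))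
      ?_ ?_ ?_ ?_ hf
    · rintro _ ⟨e, h1, h2, rfl⟩ d hd
      rw [MvPolynomial.support_monomial, if_neg one_ne_zero, Finset.mem_singleton] at hd
      subst hd
      exact ⟨h1, h2⟩
    · intro d hd
      simp at hd
    · intro x y _ _ hx hy d hd
      rcases Finset.mem_union.mp (MvPolynomial.support_add hd) with h | h
      · exact hx d h
      · exact hy d h
    · intro r x _ hx d hd
      exact hx d (MvPolynomial.support_smul hd)
  have hcomb : ∀ e : Fin 4 →₀ ℕ, e 2 + e 3 = a → e 0 + e 1 = (b + c) + e 2 →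
      ∃ g ∈ W * S0, g ≠ 0 ∧ mo.degree g = e := by
    intro e he1 he2
    have hi : e 2 ≤ a := by omega
    obtain ⟨q, rem, hq, hrem, hy⟩ : ∃ q rem : ℕ, q = (e 1 / (c + 1)) * (c + 1) ∧ rem ≤ c ∧
        e 1 = q + rem := by
      refine ⟨(e 1 / (c + 1)) * (c + 1), e 1 % (c + 1), rfl, ?_, ?_⟩
      · have := Nat.mod_lt (e 1) (by omega : 0 < c + 1)
        omega
      · have := Nat.div_add_mod (e 1) (c + 1)
        rw [Nat.mul_comm] at this
        omega
    by_cases hcase : q < b + e 2
    · obtain ⟨w, hwW, hw0, hwdeg⟩ := h₁ (e 2) (e 1 / (c + 1)) hi (by rw [← hq]; exact hcase)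
      rw [← hq] at hwdeg
      refine ⟨w * MvPolynomial.monomial (Finsupp.single 0 (c - rem) + Finsupp.single 1 rem) 1,
        Submodule.mul_mem_mul hwW (Submodule.subset_span ⟨_, ?_, ?_, rfl⟩),
        mul_ne_zero hw0 (by simp), ?_⟩
      · simp
      · simp <;> omega
      · rw [mo.degree_mul hw0 (by simp), hwdeg, mo.degree_monomial, if_neg one_ne_zero]
        apply ext4 <;> simp <;> omega
    · obtain ⟨w, hwW, hw0, hwdeg⟩ := h₂ (e 2) hi
      refine ⟨w * MvPolynomial.monomial
          (Finsupp.single 0 (e 0) + Finsupp.single 1 (e 1 - (b + e 2))) 1,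
        Submodule.mul_mem_mul hwW (Submodule.subset_span ⟨_, ?_, ?_, rfl⟩),
        mul_ne_zero hw0 (by simp), ?_⟩
      · simp
      · simp <;> omega
      · rw [mo.degree_mul hw0 (by simp), hwdeg, mo.degree_monomial, if_neg one_ne_zero]
        apply ext4 <;> simp <;> omega
  have main : ∀ s : mo.syn, ∀ f ∈ Ω, mo.toSyn (mo.degree f) = s → f ∈ W * S0 := by
    intro s
    induction s using WellFoundedLT.induction with
    | ind s ih =>
      intro f hf hs
      by_cases hf0 : f = 0
      · rw [hf0]; exact zero_mem _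
      have hdeg_mem := mo.degree_mem_support hf0
      obtain ⟨hc1, hc2⟩ := hsupp f hf _ hdeg_mem
      obtain ⟨g, hgT, hg0, hgdeg⟩ := hcomb (mo.degree f) hc1 hc2
      have hlg : mo.leadingCoeff g ≠ 0 := mo.leadingCoeff_ne_zero_iff.mpr hg0
      have hf' : f - (mo.leadingCoeff f / mo.leadingCoeff g) • g ∈ W * S0 := by
        by_cases hz : f - (mo.leadingCoeff f / mo.leadingCoeff g) • g = 0
        · rw [hz]; exact zero_mem _
        have hmemΩ : f - (mo.leadingCoeff f / mo.leadingCoeff g) • g ∈ Ω :=
          sub_mem hf (Submodule.smul_mem _ _ (hTΩ hgT))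
        have hd'mem := mo.degree_mem_support hz
        have hd'c : MvPolynomial.coeff (mo.degree (f - (mo.leadingCoeff f / mo.leadingCoeff g) • g))
            (f - (mo.leadingCoeff f / mo.leadingCoeff g) • g) ≠ 0 :=
          MvPolynomial.mem_support_iff.mp hd'mem
        rw [MvPolynomial.coeff_sub, MvPolynomial.coeff_smul, smul_eq_mul] at hd'c
        have hle : mo.toSyn (mo.degree (f - (mo.leadingCoeff f / mo.leadingCoeff g) • g))
            ≤ mo.toSyn (mo.degree f) := by
          by_cases hcf : MvPolynomial.coeff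
              (mo.degree (f - (mo.leadingCoeff f / mo.leadingCoeff g) • g)) f = 0
          · have hcg : MvPolynomial.coeff
                (mo.degree (f - (mo.leadingCoeff f / mo.leadingCoeff g) • g)) g ≠ 0 := by
              intro h
              apply hd'c
              rw [hcf, h, mul_zero, sub_zero]
            rw [← hgdeg]
            exact mo.le_degree (MvPolynomial.mem_support_iff.mpr hcg)
          · exact mo.le_degree (MvPolynomial.mem_support_iff.mpr hcf)
        have hne : mo.degree (f - (mo.leadingCoeff f / mo.leadingCoeff g) • g) ≠ mo.degree f := by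
          intro h
          apply hd'c
          rw [h]
          have h1 : MvPolynomial.coeff (mo.degree f) g = mo.leadingCoeff g := by
            rw [← hgdeg]; rfl
          have h2 : MvPolynomial.coeff (mo.degree f) f = mo.leadingCoeff f := rfl
          rw [h1, h2, div_mul_cancel₀ _ hlg, sub_self]
        have hlt : mo.toSyn (mo.degree (f - (mo.leadingCoeff f / mo.leadingCoeff g) • g)) < s := by
          rw [← hs]
          exact lt_of_le_of_ne hle (fun h => hne (mo.toSyn.injective h))
        exact ih _ hlt _ hmemΩ rfl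
      have hsplit : f = (f - (mo.leadingCoeff f / mo.leadingCoeff g) • g)
          + (mo.leadingCoeff f / mo.leadingCoeff g) • g := (sub_add_cancel _ _).symm
      rw [hsplit]
      exact add_mem hf' (Submodule.smul_mem _ _ hgT)
  apply le_antisymm hTΩ
  intro f hf
  exact main _ f hf rfl

end Groth.Agent.S17658
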