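import Groth.Statements.S17661
import Groth.Agent.Lib.Helper20.ThickAffine2

set_option autoImplicit false
set_option linter.style.haveILetI false
universe u
open CategoryTheory CategoryTheory.Limits AlgebraicGeometry
open Ribbon

namespace Groth.Agent.S17661

/-- Let k be a field, C a scheme locally of finite type over k and I ⊂ O_C a quasi-coherent ideal with
I² = 0, with closed subscheme D ⊂ C; suppose D is affine, connected and smooth over k and that I,
regarded as an O_D-module, is invertible (so C is a ribbon on the smooth affine scheme D, and D is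
the reduced scheme underlying C). Then the ribbon is split: the inclusion D → C admits a retraction
C → D over k. -/
theorem result (k : Type u) [Field k] (C : Scheme.{u}) [C.Over (Spec (CommRingCat.of k))]
    [LocallyOfFiniteType (C ↘ (Spec (CommRingCat.of k)))]
    (I : C.IdealSheafData) (hI : I ^ 2 = ⊥) [IsAffine I.subscheme] [ConnectedSpace I.subscheme]
    [Smooth (I.subschemeι ≫ (C ↘ (Spec (CommRingCat.of k))))]
    (hconormal : PicF.IsInvertible ((Scheme.Modules.pullback I.subschemeι).obj (ClSub.idealMod I))) :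
    ∃ r : C ⟶ I.subscheme, I.subschemeι ≫ r = 𝟙 I.subscheme ∧
      r ≫ I.subschemeι ≫ (C ↘ (Spec (CommRingCat.of k))) = C ↘ (Spec (CommRingCat.of k)) := by
  -- the inclusion is a surjective closed immersion with square-zero ideal
  have hsurj : Function.Surjective I.subschemeι := by
    rw [← Set.range_eq_univ, Scheme.IdealSheafData.range_subschemeι,
      ← Scheme.IdealSheafData.support_pow I 2 (by norm_num), hI]
    rfl
  haveI : IsAffine C :=
    Groth.Agent.Lib.Helper20.ThickAffine.isAffine_of_ker_pow_eq_bot I.subschemeι hsurj 2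
      (by rw [Scheme.IdealSheafData.ker_subschemeι]; exact hI)
  -- pass to rings
  obtain ⟨c, hc⟩ : ∃ c : C ⟶ Spec (CommRingCat.of k), c = C ↘ (Spec (CommRingCat.of k)) := ⟨_, rfl⟩
  rw [← hc]
  have hsm : Smooth (I.subschemeι ≫ c) := by rw [hc]; infer_instance
  obtain ⟨a, ha⟩ : ∃ a : CommRingCat.of k ⟶ Γ(C, ⊤), C.isoSpec.inv ≫ c = Spec.map a :=
    ⟨Spec.preimage (C.isoSpec.inv ≫ c), (Spec.map_preimage _).symm⟩
  have hc' : c = C.isoSpec.hom ≫ Spec.map a := by rw [← ha, Iso.hom_inv_id_assoc]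
  set φ : Γ(C, ⊤) ⟶ Γ(I.subscheme, ⊤) := I.subschemeι.appTop with hφ
  have hφsurj : Function.Surjective φ.hom :=
    I.subschemeι.app_surjective ⊤ (isAffineOpen_top C)
  have hιφ : I.subschemeι = I.subscheme.isoSpec.hom ≫ Spec.map φ ≫ C.isoSpec.inv := by
    rw [Scheme.isoSpec_hom_naturality_assoc, Iso.hom_inv_id, Category.comp_id]
  -- smoothness of `k → S`
  have hsm' : (a ≫ φ).hom.Smooth := by
    rw [hιφ, hc'] at hsm
    simp only [Category.assoc, Iso.inv_hom_id_assoc] at hsm
    rw [← Spec.map_comp] at hsm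
    have h2 : Smooth (Spec.map (a ≫ φ)) := by
      have e : Spec.map (a ≫ φ) =
          I.subscheme.isoSpec.inv ≫ (I.subscheme.isoSpec.hom ≫ Spec.map (a ≫ φ)) := by
        rw [Iso.inv_hom_id_assoc]
      rw [e]
      infer_instance
    exact (HasRingHomProperty.Spec_iff (P := @Smooth)).mp h2
  -- algebra structures
  letI algR : Algebra k Γ(C, ⊤) := a.hom.toAlgebra
  letI algS : Algebra k Γ(I.subscheme, ⊤) := (a ≫ φ).hom.toAlgebra
  have hfs : Algebra.FormallySmooth k Γ(I.subscheme, ⊤) := by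
    have : Algebra.Smooth k Γ(I.subscheme, ⊤) := hsm'.toAlgebra
    infer_instance
  let φa : Γ(C, ⊤) →ₐ[k] Γ(I.subscheme, ⊤) := { φ.hom with commutes' := fun x => rfl }
  have hker : IsNilpotent (RingHom.ker (φa : Γ(C, ⊤) →+* Γ(I.subscheme, ⊤))) := by
    refine ⟨2, ?_⟩
    have h1 : RingHom.ker (φa : Γ(C, ⊤) →+* Γ(I.subscheme, ⊤)) =
        I.ideal ⟨⊤, isAffineOpen_top C⟩ :=
      I.ker_subschemeι_app ⟨⊤, isAffineOpen_top C⟩
    rw [h1]
    have h2 : I.ideal ⟨⊤, isAffineOpen_top C⟩ ^ 2 = (I ^ 2).ideal ⟨⊤, isAffineOpen_top C⟩ := rfl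
    rw [h2, hI]; rfl
  let σ : Γ(I.subscheme, ⊤) →ₐ[k] Γ(C, ⊤) :=
    Algebra.FormallySmooth.liftOfSurjective (AlgHom.id k _) φa hφsurj hker
  have hσ : ∀ x, φ.hom (σ x) = x := fun x =>
    Algebra.FormallySmooth.liftOfSurjective_apply (AlgHom.id k _) φa hφsurj hker x
  let σ' : Γ(I.subscheme, ⊤) ⟶ Γ(C, ⊤) := CommRingCat.ofHom σ.toRingHom
  have hσφ : σ' ≫ φ = 𝟙 _ := by
    ext x
    exact hσ x
  have haσ : a ≫ φ ≫ σ' = a := by
    ext x
    exact σ.commutes x
  refine ⟨C.isoSpec.hom ≫ Spec.map σ' ≫ I.subscheme.isoSpec.inv, ?_, ?_⟩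
  · rw [hιφ]
    simp only [Category.assoc, Iso.inv_hom_id_assoc]
    rw [← Spec.map_comp_assoc, hσφ, Spec.map_id, Category.id_comp, Iso.hom_inv_id]
  · rw [hιφ, hc']
    simp only [Category.assoc, Iso.inv_hom_id_assoc]
    rw [← Spec.map_comp, ← Spec.map_comp, Category.assoc, haσ]

end Groth.Agent.S17661
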