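import Groth.Statements.S17677
-- import your own Groth.Agent.* helpers here

set_option autoImplicit false
universe u
open Hoch

namespace Groth.Agent.S17677

open TensorProduct

section aux
set_option linter.unusedSectionVars false
set_option linter.flexible false

variable (k : Type u) [CommRing k] (M : Type u) [AddCommMonoid M]
  (V : Type u) [AddCommGroup V] [Module k V] [HopfRep.Comod k (AddMonoidAlgebra k M) V]

/-- coefficient at `0 : M` as a linear functional on `k[M]`. -/
noncomputable def c0 : AddMonoidAlgebra k M →ₗ[k] k :=
  (Finsupp.lapply (0 : M)) ∘ₗ (AddMonoidAlgebra.coeffLinearEquiv k).toLinearMap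

lemma c0_single (m : M) (r : k) [Decidable (m = 0)] :
    c0 k M (AddMonoidAlgebra.single m r) = if m = 0 then r else 0 := by
  simp [c0, Finsupp.single_apply]

/-- `(V ⊗ A) ⊗ A → V ⊗ A`, `y ⊗ a ↦ c0 a • y`. -/
noncomputable def phi : (V ⊗[k] AddMonoidAlgebra k M) ⊗[k] AddMonoidAlgebra k M →ₗ[k]
    V ⊗[k] AddMonoidAlgebra k M :=
  (TensorProduct.rid k _).toLinearMap ∘ₗ (c0 k M).lTensor (V ⊗[k] AddMonoidAlgebra k M)

/-- `V ⊗ A → V`, `v ⊗ a ↦ c0 a • v`. -/
noncomputable def psi : V ⊗[k] AddMonoidAlgebra k M →ₗ[k] V :=
  (TensorProduct.rid k V).toLinearMap ∘ₗ (c0 k M).lTensor V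

lemma phi_tmul (y : V ⊗[k] AddMonoidAlgebra k M) (a : AddMonoidAlgebra k M) :
    phi k M V (y ⊗ₜ a) = c0 k M a • y := by
  simp [phi]

lemma psi_tmul (v : V) (a : AddMonoidAlgebra k M) :
    psi k M V (v ⊗ₜ a) = c0 k M a • v := by
  simp [psi]

lemma key (x : V ⊗[k] AddMonoidAlgebra k M) :
    phi k M V (Hoch.d k (AddMonoidAlgebra k M) V 1 x) =
      Hoch.d k (AddMonoidAlgebra k M) V 0 (psi k M V x) + x := by
  classical
  induction x using TensorProduct.induction_on with
  | zero => simp
  | add x y hx hy =>
    simp only [map_add, hx, hy]; abel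
  | tmul v a =>
    induction a using AddMonoidAlgebra.induction_linear with
    | zero => simp
    | add a b ha hb =>
      simp only [tmul_add, map_add, ha, hb]; abel
    | single m r =>
      rw [Hoch.d_succ, Hoch.d_zero]
      simp only [LinearMap.add_apply, LinearMap.smul_apply, LinearMap.rTensor_tmul, Hoch.tail_tmul,
        LinearMap.sub_apply, LinearMap.flip_apply, TensorProduct.mk_apply, psi_tmul]
      have hcomul : (CoalgebraStruct.comul (R := k) (AddMonoidAlgebra.single m r) :
          AddMonoidAlgebra k M ⊗[k] AddMonoidAlgebra k M) =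
          AddMonoidAlgebra.single m r ⊗ₜ[k] AddMonoidAlgebra.single m 1 := by
        have hsmul : AddMonoidAlgebra.single m r = r • (AddMonoidAlgebra.single m 1 :
            AddMonoidAlgebra k M) := by simp
        simp only [AddMonoidAlgebra.comul_single, CommSemiring.comul_apply, map_tmul,
          AddMonoidAlgebra.lsingle_apply]
        rw [hsmul, tmul_smul, smul_tmul']
      have hone : (1 : AddMonoidAlgebra k M) = AddMonoidAlgebra.single 0 1 := rfl
      rw [hcomul]
      simp only [tmul_sub, map_sub, TensorProduct.assoc_symm_tmul, map_add, map_smul, phi_tmul,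
        pow_one, zero_add, hone, c0_single, smul_sub, map_smul, sub_tmul, smul_tmul']
      by_cases hm : m = 0
      · subst hm
        have hsmul : AddMonoidAlgebra.single (0 : M) r = r • (AddMonoidAlgebra.single 0 1 :
            AddMonoidAlgebra k M) := by simp
        simp
        rw [neg_tmul, neg_neg, hsmul, tmul_smul, smul_tmul']
      · simp [hm]
        rw [neg_tmul, neg_neg]

end aux

/-- Let k be a commutative ring, M a commutative monoid and V a right comodule over the monoid bialgebra
k[M] (a quasi-coherent module with an action of the diagonalizable monoid scheme Spec k[M]). Then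
every 1-cocycle of the Hochschild complex of V is a 1-coboundary, i.e. the first Hochschild
cohomology module of the diagonalizable monoid with coefficients in V is zero. (The source works
over an algebraic space with M finitely generated and cancellative, hypotheses it uses only to
identify modules under the monoid with comodules; the cocycle computation, which is the affine
statement given here, uses neither.) -/
theorem result (k : Type u) [CommRing k] (M : Type u)
    [AddCommMonoid M] (V : Type u) [AddCommGroup V] [Module k V]
    [HopfRep.Comod k (AddMonoidAlgebra k M) V] :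
    Hoch.cocycles k (AddMonoidAlgebra k M) V 1 ≤ Hoch.coboundaries k (AddMonoidAlgebra k M) V 1 := by
  intro x hx
  have hx' : Hoch.d k (AddMonoidAlgebra k M) V 1 x = 0 := hx
  have h := key k M V x
  rw [hx', map_zero] at h
  refine ⟨-(psi k M V x), ?_⟩
  rw [map_neg]
  exact (eq_neg_of_add_eq_zero_right h.symm).symm

end Groth.Agent.S17677
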