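import Groth.Statements.S17679
-- import your own Groth.Agent.* helpers here
import Mathlib.LinearAlgebra.Dimension.OrzechProperty
import Mathlib.LinearAlgebra.Dimension.Constructions
import Mathlib.Algebra.Group.Submonoid.Finsupp
import Mathlib.RingTheory.FiniteType

set_option autoImplicit false
open DiagMon

namespace Groth.Agent.S17679

/-- the `n + 1` generators: the standard basis vectors and the vector with all entries `-1`. -/
def gen (n : ℕ) : Option (Fin n) → (Fin n → ℤ)
  | none => fun _ => -1
  | some i => Pi.single i 1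

lemma gen_injective (n : ℕ) : Function.Injective (gen n) := by
  intro a b h
  cases a with
  | none =>
    cases b with
    | none => rfl
    | some j =>
      have := congrFun h j
      simp [gen] at this
  | some i =>
    cases b with
    | none =>
      have := congrFun h i
      simp [gen] at this
    | some j =>
      have := congrFun h i
      by_cases hij : i = j
      · rw [hij]
      · simp [gen, hij] at this

lemma exists_part (n : ℕ) :
    ∃ s : Finset (Fin n → ℤ), s.card = n + 1 ∧ AddSubmonoid.closure (s : Set (Fin n → ℤ)) = ⊤ := by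
  classical
  refine ⟨Finset.univ.image (gen n), ?_, ?_⟩
  · rw [Finset.card_image_of_injective _ (gen_injective n)]
    simp
  · rw [eq_top_iff]
    intro x _
    set m : ℕ := ∑ i, (x i).natAbs with hm
    have hle : ∀ i, -(m : ℤ) ≤ x i := by
      intro i
      have h1 : (x i).natAbs ≤ m := Finset.single_le_sum (f := fun i => (x i).natAbs)
        (fun _ _ => Nat.zero_le _) (Finset.mem_univ i)
      omega
    have hx : x = ∑ i, (x i + m).toNat • gen n (some i) + m • gen n none := by
      funext j
      simp only [gen, Pi.add_apply, Finset.sum_apply, Pi.smul_apply, Pi.single_apply]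
      simp only [nsmul_eq_mul, mul_ite, mul_one, mul_zero, Finset.sum_ite_eq, Finset.mem_univ, if_true]
      have := hle j
      have h3 : ((x j + m).toNat : ℤ) = x j + m := Int.toNat_of_nonneg (by omega)
      rw [h3]; ring
    rw [hx]
    refine add_mem (sum_mem fun i _ => nsmul_mem (AddSubmonoid.subset_closure ?_) _)
      (nsmul_mem (AddSubmonoid.subset_closure ?_) _)
    · simp
    · simp

lemma lower_part (n : ℕ) (hn : 1 ≤ n) (s : Finset (Fin n → ℤ))
    (hs : AddSubmonoid.closure (s : Set (Fin n → ℤ)) = ⊤) : n + 1 ≤ s.card := by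
  classical
  by_contra hlt
  rw [not_le] at hlt
  have hcard : s.card ≤ n := by omega
  -- `s` spans
  have hspan : ⊤ ≤ Submodule.span ℤ (Set.range (Subtype.val : s → (Fin n → ℤ))) := by
    intro x _
    have hx : x ∈ AddSubmonoid.closure (s : Set (Fin n → ℤ)) := by rw [hs]; trivial
    have hle : AddSubmonoid.closure (s : Set (Fin n → ℤ)) ≤
        (Submodule.span ℤ (Set.range (Subtype.val : s → (Fin n → ℤ)))).toAddSubmonoid := by
      rw [AddSubmonoid.closure_le]
      intro y hy
      exact Submodule.subset_span ⟨⟨y, hy⟩, rfl⟩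
    exact hle hx
  have hli : LinearIndependent ℤ (Subtype.val : s → (Fin n → ℤ)) := by
    apply linearIndependent_of_top_le_span_of_card_le_finrank hspan
    simp [hcard]
  -- `s` is nonempty
  have hne : s.Nonempty := by
    rw [Finset.nonempty_iff_ne_empty]
    rintro rfl
    simp only [Finset.coe_empty, AddSubmonoid.closure_empty] at hs
    have : Nontrivial (Fin n → ℤ) := by
      have : Nonempty (Fin n) := ⟨⟨0, hn⟩⟩
      infer_instance
    exact bot_ne_top hs
  obtain ⟨v0, hv0⟩ := hne
  have hx : (-∑ v : s, (v : Fin n → ℤ)) ∈ AddSubmonoid.closure (s : Set (Fin n → ℤ)) := by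
    rw [hs]; trivial
  obtain ⟨a, ha⟩ := AddSubmonoid.mem_closure_finset'.mp hx
  have hzero : ∑ v : s, ((a v : ℤ) + 1) • (v : Fin n → ℤ) = 0 := by
    simp only [add_smul, one_smul, Finset.sum_add_distrib]
    have : ∑ v : s, ((a v : ℕ) : ℤ) • (v : Fin n → ℤ) = ∑ v : s, a v • (v : Fin n → ℤ) := by
      refine Finset.sum_congr rfl fun v _ => ?_
      simp
    rw [this, ← ha]
    simp
  have := Fintype.linearIndependent_iff.mp hli (fun v => (a v : ℤ) + 1) hzero ⟨v0, hv0⟩
  omega

/-- For n ≥ 1 the minimal number of generators of ℤ^n as an additive monoid is n + 1: some n + 1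
elements generate ℤ^n as a monoid, and every finite set generating ℤ^n as a monoid has at least n +
1 elements. (For n = 0 the empty set generates the zero monoid, so the count n + 1 is stated for n ≥
1 only.) -/
theorem result (n : ℕ) (hn : 1 ≤ n) :
    (∃ s : Finset (Fin n → ℤ), s.card = n + 1 ∧ AddSubmonoid.closure (s : Set (Fin n → ℤ)) = ⊤) ∧
    ∀ s : Finset (Fin n → ℤ), AddSubmonoid.closure (s : Set (Fin n → ℤ)) = ⊤ → n + 1 ≤ s.card := by
  exact ⟨exists_part n, fun s hs => lower_part n hn s hs⟩

end Groth.Agent.S17679
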