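import Groth.Statements.S17682
-- import your own Groth.Agent.* helpers here

set_option autoImplicit false
universe u v w u'
open DiagMon

namespace Groth.Agent.S17682

section aux
set_option linter.unusedSectionVars false
variable (R : Type u) [CommRing R]
    (A : Type v) [CommRing A] [Algebra R A] (M : Type w) [AddCommMonoid M] [DecidableEq M]
    (𝒜 : M → Submodule R A) [GradedAlgebra 𝒜] (R' : Type u') [CommRing R']
    [Algebra R R'] (F : A →ₐ[R] R')

/-- the degree-`i` piece of the coaction followed by `F` -/
noncomputable def piece (i : M) : 𝒜 i →ₗ[R] AddMonoidAlgebra R' M :=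
  (AddMonoidAlgebra.lsingle (R := R) (S := R') i) ∘ₗ F.toLinearMap ∘ₗ (𝒜 i).subtype

lemma piece_apply (i : M) (a : 𝒜 i) :
    piece R A M 𝒜 R' F i a = AddMonoidAlgebra.single i (F a) := rfl

/-- the graded map `A → R'[M]`, `a ↦ ∑ X^m F(a_m)` -/
noncomputable def gmap : A →ₐ[R] AddMonoidAlgebra R' M :=
  (DirectSum.toAlgebra R (fun i => 𝒜 i) (piece R A M 𝒜 R' F)
    (by
      rw [piece_apply]
      change AddMonoidAlgebra.single 0 (F ((1 : A))) = 1
      rw [map_one]; rfl)
    (by
      intro i j ai aj
      rw [piece_apply, piece_apply, piece_apply, AddMonoidAlgebra.single_mul_single, ← map_mul]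
      rfl)).comp (DirectSum.decomposeAlgEquiv 𝒜).toAlgHom

lemma gmap_of_mem (m : M) (a : A) (ha : a ∈ 𝒜 m) :
    gmap R A M 𝒜 R' F a = AddMonoidAlgebra.single m (F a) := by
  simp only [gmap, AlgHom.comp_apply]
  have h1 : ((DirectSum.decomposeAlgEquiv 𝒜).toAlgHom a) = DirectSum.of (fun i => 𝒜 i) m ⟨a, ha⟩ := by
    change DirectSum.decompose 𝒜 a = _
    exact DirectSum.decompose_of_mem 𝒜 ha
  rw [h1]
  exact DirectSum.toAddMonoid_of (fun i => (piece R A M 𝒜 R' F i).toAddMonoidHom) m ⟨a, ha⟩

end aux

/-- Let R be a commutative ring, A a commutative R-algebra graded by a commutative monoid M, N a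
submonoid of M and R' a commutative R-algebra. For every R-algebra homomorphism F : A → R' vanishing
on the homogeneous elements of degree outside N there is a unique R-algebra homomorphism f : A →
R'[M] which is graded (a homogeneous element of degree m goes to a multiple of X^m), vanishes on
homogeneous elements of degree outside N, and composes with the augmentation X^m ↦ 1 to F. In the
dictionary where an M-grading of A is an action of the diagonalizable monoid scheme Spec R[M] on
Spec A and graded maps A → R'[M] supported on N are equivariant maps from the monoid scheme of N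
over R', this says that the attractor of Spec A for the magnet N is represented by the closed
subscheme of Spec A defined by the homogeneous elements of degree outside N. -/
theorem result (R : Type u) [CommRing R]
    (A : Type v) [CommRing A] [Algebra R A] (M : Type w) [AddCommMonoid M] [DecidableEq M]
    (𝒜 : M → Submodule R A) [GradedAlgebra 𝒜] (N : AddSubmonoid M) (R' : Type u') [CommRing R']
    [Algebra R R'] (F : A →ₐ[R] R') (hF : ∀ m, m ∉ N → ∀ a ∈ 𝒜 m, F a = 0) :
    ∃! f : A →ₐ[R] AddMonoidAlgebra R' M,
      (∀ m, ∀ a ∈ 𝒜 m, f a =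
          AddMonoidAlgebra.single m (Bialgebra.counitAlgHom R' (AddMonoidAlgebra R' M) (f a))) ∧
      (∀ m, m ∉ N → ∀ a ∈ 𝒜 m, f a = 0) ∧
      ∀ a, Bialgebra.counitAlgHom R' (AddMonoidAlgebra R' M) (f a) = F a := by
  have hcounit : ∀ (m : M) (r : R'), Bialgebra.counitAlgHom R' (AddMonoidAlgebra R' M)
      (AddMonoidAlgebra.single m r) = r := by
    intro m r
    simp
  refine ⟨gmap R A M 𝒜 R' F, ⟨?_, ?_, ?_⟩, ?_⟩
  · intro m a ha
    rw [gmap_of_mem R A M 𝒜 R' F m a ha, hcounit]
  · intro m hm a ha
    rw [gmap_of_mem R A M 𝒜 R' F m a ha, hF m hm a ha]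
    simp
  · intro a
    induction a using DirectSum.Decomposition.inductionOn 𝒜 with
    | zero => simp
    | homogeneous a =>
      rename_i i
      rw [gmap_of_mem R A M 𝒜 R' F i a a.2, hcounit]
    | add a b ha hb => simp only [map_add, ha, hb]
  · rintro g ⟨hg1, hg2, hg3⟩
    apply AlgHom.ext
    intro a
    induction a using DirectSum.Decomposition.inductionOn 𝒜 with
    | zero => simp
    | homogeneous a =>
      rename_i i
      rw [gmap_of_mem R A M 𝒜 R' F i a a.2, hg1 i a a.2, hg3]
    | add a b ha hb => simp only [map_add, ha, hb]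

end Groth.Agent.S17682
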