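import Groth.Statements.S17683
-- import your own Groth.Agent.* helpers here

set_option autoImplicit false
universe u
open DiagMon

namespace Groth.Agent.S17683

section aux
variable {N : Type u} [AddCommMonoid N] (F : AddSubmonoid N)

lemma comap_single_mem (n : N) (h : n ∈ F) (r : ℤ) :
    AddMonoidAlgebra.comapDomain ((↑) : F → N) Subtype.val_injective
      (AddMonoidAlgebra.single n r) = AddMonoidAlgebra.single ⟨n, h⟩ r :=
  AddMonoidAlgebra.comapDomain_single_map ((↑) : F → N) Subtype.val_injective ⟨n, h⟩ r

lemma comap_single_not_mem (n : N) (h : n ∉ F) (r : ℤ) :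
    AddMonoidAlgebra.comapDomain ((↑) : F → N) Subtype.val_injective
      (AddMonoidAlgebra.single n r) = 0 := by
  classical
  ext m
  simp only [AddMonoidAlgebra.coeff_comapDomain, AddMonoidAlgebra.coeff_single,
    Finsupp.comapDomain_apply, AddMonoidAlgebra.coeff_zero, Finsupp.coe_zero, Pi.zero_apply]
  rw [Finsupp.single_apply, if_neg]
  intro hnm
  exact h (hnm ▸ m.2)

end aux

/-- Let N be a commutative monoid and F a submonoid of N. The additive projection ℤ[N] → ℤ[F] of monoid
algebras keeping the monomials with exponent in F and killing the others is multiplicative, i.e. F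
is a face of N, if and only if for all x, y in N the sum x + y lies in F exactly when both x and y
do. -/
theorem result {N : Type u} [AddCommMonoid N] (F : AddSubmonoid N) :
    (∀ a b : AddMonoidAlgebra ℤ N,
        AddMonoidAlgebra.comapDomain ((↑) : F → N) Subtype.val_injective (a * b) =
          AddMonoidAlgebra.comapDomain ((↑) : F → N) Subtype.val_injective a *
            AddMonoidAlgebra.comapDomain ((↑) : F → N) Subtype.val_injective b) ↔
      ∀ x y : N, x + y ∈ F ↔ (x ∈ F ∧ y ∈ F) := by
  classical
  constructor
  · intro hmul x y
    constructor
    · intro hxy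
      have h := hmul (AddMonoidAlgebra.single x 1) (AddMonoidAlgebra.single y 1)
      rw [AddMonoidAlgebra.single_mul_single, comap_single_mem F _ hxy] at h
      have hne : (AddMonoidAlgebra.single (⟨x + y, hxy⟩ : F) ((1 : ℤ) * 1) :
          AddMonoidAlgebra ℤ F) ≠ 0 := by
        rw [Ne, AddMonoidAlgebra.single_eq_zero]; simp
      refine ⟨?_, ?_⟩
      · by_contra hx
        rw [comap_single_not_mem F x hx, zero_mul] at h
        exact hne h
      · by_contra hy
        rw [comap_single_not_mem F y hy, mul_zero] at h
        exact hne h
    · rintro ⟨hx, hy⟩
      exact F.add_mem hx hy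
  · intro hface a b
    induction a using AddMonoidAlgebra.induction_linear with
    | zero => simp
    | add a a' ha ha' => simp only [add_mul, AddMonoidAlgebra.comapDomain_add, ha, ha']
    | single x r =>
      induction b using AddMonoidAlgebra.induction_linear with
      | zero => simp
      | add b b' hb hb' => simp only [mul_add, AddMonoidAlgebra.comapDomain_add, hb, hb']
      | single y t =>
        rw [AddMonoidAlgebra.single_mul_single]
        by_cases hxy : x ∈ F ∧ y ∈ F
        · obtain ⟨hx, hy⟩ := hxy
          rw [comap_single_mem F x hx, comap_single_mem F y hy,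
            comap_single_mem F (x + y) (F.add_mem hx hy), AddMonoidAlgebra.single_mul_single]
          rfl
        · have hxy' : x + y ∉ F := fun h => hxy ((hface x y).mp h)
          rw [comap_single_not_mem F _ hxy']
          rw [not_and_or] at hxy
          rcases hxy with hx | hy
          · rw [comap_single_not_mem F x hx, zero_mul]
          · rw [comap_single_not_mem F y hy, mul_zero]

end Groth.Agent.S17683
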