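import Groth.Statements.S17685
import Groth.Agent.Lib.Helper16.FixFinite

set_option autoImplicit false
universe u
open CategoryTheory MonoidalCategory CartesianMonoidalCategory MonObj GrpObj AlgebraicGeometry
open AlgGrp

namespace Groth.Agent.S17685

/-- Let S be a scheme, F an S-scheme that is finite locally free over S (finite, flat and locally of
finite presentation) with a section e of F over S which is a surjective closed immersion (an
infinitesimal pointed S-scheme), and X an S-scheme with an action of the pointed scheme F, i.e. an
S-morphism F ×_S X → X through which e acts as the identity. Then the subfunctor of F-fixed points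
of X, whose T-points are the T-points x of X with g · x_{T'} = x_{T'} for every S-scheme T' over T
and every T'-point g of F, is represented by a closed subscheme of X. (The source allows F and X to
be algebraic spaces over S; this row is the case of schemes.) -/
theorem result (S : Scheme.{u})
    (F X : Over S) (e : 𝟙_ (Over S) ⟶ F) (act : F ⊗ X ⟶ X) (he : (e ▷ X) ≫ act = (λ_ X).hom)
    [IsFinite F.hom] [Flat F.hom] [LocallyOfFinitePresentation F.hom]
    [IsClosedImmersion e.left] [Surjective e.left] :
    ∃ (Z : Scheme.{u}) (i : Z ⟶ X.left), IsClosedImmersion i ∧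
      ∀ (T : Over S) (x : T ⟶ X), (∃ y : T.left ⟶ Z, y ≫ i = x.left) ↔
        ∀ (T' : Over S) (t : T' ⟶ T) (g : T' ⟶ F), lift g (t ≫ x) ≫ act = t ≫ x := by
  haveI : IsAffineHom F.hom := inferInstance
  haveI := Lib.Helper16.FixFinite.isClosedImmersion_equalizer_of_pointed F X e act he
  obtain ⟨Z, i, hi, hZ⟩ := Lib.Helper16.FixApp.exists_closed_of_equalizer act (snd F X)
    (fun U => Lib.Helper16.FixFinite.hasCoeff_snd (A := F) (X := X) U)
  refine ⟨Z.left, i.left, hi, ?_⟩
  intro T x
  have hgood : Lib.Helper16.FixApp.Good act (snd F X) x ↔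
      ∀ (T' : Over S) (t : T' ⟶ T) (g : T' ⟶ F), lift g (t ≫ x) ≫ act = t ≫ x := by
    constructor
    · intro h T' t g
      rw [h T' t g, lift_snd]
    · intro h T' t g
      rw [h T' t g, lift_snd]
  rw [← hgood, ← hZ x]
  constructor
  · rintro ⟨y, hy⟩
    refine ⟨Over.homMk y ?_, ?_⟩
    · rw [← Over.w i, ← Category.assoc, hy]
      exact Over.w x
    · apply Over.OverMorphism.ext
      exact hy
  · rintro ⟨z, rfl⟩
    exact ⟨z.left, rfl⟩

end Groth.Agent.S17685
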