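import Groth.Statements.S17687
-- import your own Groth.Agent.* helpers here

set_option autoImplicit false
universe u v w
open DiagMon

namespace Groth.Agent.S17687

/-- Let R be a commutative ring and A a commutative R-algebra of finite type graded by a commutative
monoid M. Then the set of ideals J_N, N running over all submonoids of M, where J_N is generated by
the homogeneous elements of degree not in N (the ideal of the attractor of Spec A for the magnet N),
is finite: Spec A has finitely many attractors and hence finitely many pure magnets. (The source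
assumes Spec A of finite presentation over the base; its proof uses only a finite set of homogeneous
algebra generators, so finite type is assumed here.) -/
theorem result (R : Type u) [CommRing R] (A : Type v) [CommRing A]
    [Algebra R A] [Algebra.FiniteType R A] (M : Type w) [AddCommMonoid M] [DecidableEq M]
    (𝒜 : M → Submodule R A) [GradedAlgebra 𝒜] :
    (Set.range fun N : AddSubmonoid M => Ideal.span {a : A | ∃ m : M, m ∉ N ∧ a ∈ 𝒜 m}).Finite := by
  classical
  obtain ⟨s, hs⟩ := (Algebra.FiniteType.out : (⊤ : Subalgebra R A).FG)
  -- all homogeneous components of the generators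
  set Gall : Set A := {b | ∃ a ∈ s, ∃ m : M, b = (DirectSum.decompose 𝒜 a m : A)} with hGall
  have hGallfin : Gall.Finite := by
    have : Gall ⊆ ⋃ a ∈ (s : Set A), insert (0 : A)
        (((DirectSum.decompose 𝒜 a).support : Set M).image
          (fun m => (DirectSum.decompose 𝒜 a m : A))) := by
      rintro b ⟨a, ha, m, rfl⟩
      simp only [Set.mem_iUnion]
      refine ⟨a, ha, ?_⟩
      by_cases hm : m ∈ (DirectSum.decompose 𝒜 a).support
      · exact Or.inr ⟨m, hm, rfl⟩
      · left
        rw [DFinsupp.mem_support_toFun, not_not] at hm
        simp [hm]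
    refine Set.Finite.subset ?_ this
    exact Set.Finite.biUnion s.finite_toSet fun a _ =>
      Set.Finite.insert _ ((Finset.finite_toSet _).image _)
  set G : AddSubmonoid M → Set A := fun N =>
    {b | ∃ a ∈ s, ∃ m : M, m ∉ N ∧ b = (DirectSum.decompose 𝒜 a m : A)} with hG
  have hGsub : ∀ N, G N ⊆ Gall := by
    rintro N b ⟨a, ha, m, _, rfl⟩
    exact ⟨a, ha, m, rfl⟩
  have key : ∀ N : AddSubmonoid M,
      Ideal.span {a : A | ∃ m : M, m ∉ N ∧ a ∈ 𝒜 m} = Ideal.span (G N) := by
    intro N
    apply le_antisymm
    · -- every element `x` has all its components of degree outside `N` in `span (G N)`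
      have hP : ∀ x : A, ∀ m : M, m ∉ N → (DirectSum.decompose 𝒜 x m : A) ∈ Ideal.span (G N) := by
        intro x
        have hx : x ∈ Algebra.adjoin R (s : Set A) := by rw [hs]; trivial
        induction hx using Algebra.adjoin_induction with
        | mem a ha =>
          intro m hm
          exact Ideal.subset_span ⟨a, ha, m, hm, rfl⟩
        | algebraMap r =>
          intro m hm
          have h0 : (algebraMap R A r) ∈ 𝒜 0 := SetLike.algebraMap_mem_graded 𝒜 r
          have hne : (0 : M) ≠ m := fun h => hm (h ▸ N.zero_mem)
          rw [DirectSum.decompose_of_mem_ne 𝒜 h0 hne]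
          exact Submodule.zero_mem _
        | add x y _ _ hx hy =>
          intro m hm
          rw [DirectSum.decompose_add, DirectSum.add_apply, Submodule.coe_add]
          exact Submodule.add_mem _ (hx m hm) (hy m hm)
        | mul x y _ _ hx hy =>
          intro m hm
          rw [DirectSum.decompose_mul, DirectSum.coe_mul_apply]
          refine Submodule.sum_mem _ ?_
          rintro ⟨i, j⟩ hij
          rw [Finset.mem_filter] at hij
          have hsum : i + j = m := hij.2
          by_cases hi : i ∈ N
          · have hj : j ∉ N := fun hj => hm (hsum ▸ N.add_mem hi hj)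
            exact Ideal.mul_mem_left _ _ (hy j hj)
          · exact Ideal.mul_mem_right _ _ (hx i hi)
      rw [Ideal.span_le]
      rintro a ⟨m, hm, ha⟩
      have := hP a m hm
      rwa [DirectSum.decompose_of_mem_same 𝒜 ha] at this
    · apply Ideal.span_mono
      rintro b ⟨a, _, m, hm, rfl⟩
      exact ⟨m, hm, (DirectSum.decompose 𝒜 a m).2⟩
  have hsub : (Set.range fun N : AddSubmonoid M => Ideal.span {a : A | ∃ m : M, m ∉ N ∧ a ∈ 𝒜 m}) ⊆
      (fun S : Set A => Ideal.span S) '' {S | S ⊆ Gall} := by
    rintro _ ⟨N, rfl⟩
    exact ⟨G N, hGsub N, (key N).symm⟩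
  exact (hGallfin.finite_subsets.image _).subset hsub

end Groth.Agent.S17687
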