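import Groth.Statements.S17688
import Groth.Agent.Lib.Helper55.FunFld.SchDom
open Groth.Agent.Lib.Helper55

set_option autoImplicit false
universe u
open CategoryTheory CategoryTheory.Limits AlgebraicGeometry MonObj
open Neron

namespace Groth.Agent.S17688

/-- Let R be a discrete valuation ring whose fraction field K has characteristic p > 0, and let U be a
flat, separated, commutative group scheme over Spec R whose generic fibre U_K is annihilated by a
power p^N of p (in the group of endomorphisms of U_K as a K-scheme, the p^N-th power of the identity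
is the unit). Then for every prime ℓ invertible in R the ℓ-th power map of U (the ℓ-th power of the
identity in the group of R-morphisms U → U) is an isomorphism. -/
theorem result
    (R : Type u) [CommRing R] [IsDomain R] [IsDiscreteValuationRing R]
    (p : ℕ) (hp : p.Prime) [CharP (FractionRing R) p]
    (U : Over (Spec (CommRingCat.of R))) [GrpObj U] [IsCommMonObj U] [Flat U.hom] [IsSeparated U.hom]
    (N : ℕ) (hN : (𝟙 (Red.bc (Neron.genPt R) U) : Red.bc (Neron.genPt R) U ⟶ Red.bc (Neron.genPt R) U) ^ (p ^ N) = 1)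
    (ℓ : ℕ) (hℓ : ℓ.Prime) (hℓu : IsUnit (ℓ : R)) :
    IsIso ((𝟙 U : U ⟶ U) ^ ℓ) := by
  have hdom : IsDominant (Neron.genPt R) := ⟨by
    change DenseRange (PrimeSpectrum.comap (algebraMap R (FractionRing R)))
    rw [PrimeSpectrum.denseRange_comap_iff_ker_le_nilRadical,
      (RingHom.injective_iff_ker_eq_bot _).mp (IsFractionRing.injective R (FractionRing R))]
    exact bot_le⟩
  have hsd : IsSchemeTheoreticallyDominant (Neron.genPt R) :=
    IsSchemeTheoreticallyDominant.of_isDominant _
  have hj : IsSchemeTheoreticallyDominant (pullback.fst U.hom (Neron.genPt R)) := inferInstance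
  have key : (𝟙 U : U ⟶ U) ^ (p ^ N) = 1 := by
    have h1 : (Over.pullback (Neron.genPt R)).map ((𝟙 U : U ⟶ U) ^ (p ^ N)) =
        (Over.pullback (Neron.genPt R)).map (1 : U ⟶ U) := by
      rw [Functor.map_one]
      have : (Over.pullback (Neron.genPt R)).map ((𝟙 U : U ⟶ U) ^ (p ^ N)) =
          ((Over.pullback (Neron.genPt R)).map (𝟙 U)) ^ (p ^ N) :=
        map_pow ((Over.pullback (Neron.genPt R)).homMonoidHom (X := U) (M := U)) _ _
      rw [this, CategoryTheory.Functor.map_id]
      exact hN
    have h2 : pullback.fst U.hom (Neron.genPt R) ≫ ((𝟙 U : U ⟶ U) ^ (p ^ N)).left =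
        pullback.fst U.hom (Neron.genPt R) ≫ (1 : U ⟶ U).left := by
      have e : ∀ a : U ⟶ U, ((Over.pullback (Neron.genPt R)).map a).left ≫
          pullback.fst U.hom (Neron.genPt R) =
          pullback.fst U.hom (Neron.genPt R) ≫ a.left := by
        intro a
        simp
        exact pullback.lift_fst _ _ _
      rw [← e, ← e, h1]
    have h3 := SchDom.ext_of_schDominant U.hom
      (by rw [Over.w, Over.w]) (pullback.fst U.hom (Neron.genPt R)) h2
    exact Over.OverMorphism.ext h3
  have hpR : (p : R) = 0 := by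
    apply IsFractionRing.injective R (FractionRing R)
    rw [map_natCast, map_zero]
    exact CharP.cast_eq_zero _ p
  have hne : ℓ ≠ p := by
    rintro rfl
    rw [hpR] at hℓu
    exact not_isUnit_zero hℓu
  have hcop : Nat.Coprime ℓ (p ^ N) :=
    Nat.Coprime.pow_right N ((Nat.coprime_primes hℓ hp).mpr hne)
  have hbez : (ℓ : ℤ) * Nat.gcdA ℓ (p ^ N) + ((p ^ N : ℕ) : ℤ) * Nat.gcdB ℓ (p ^ N) = 1 := by
    have := Nat.gcd_eq_gcd_ab ℓ (p ^ N)
    rw [hcop.gcd_eq_one] at this
    exact_mod_cast this.symm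
  set a : ℤ := Nat.gcdA ℓ (p ^ N) with ha
  set b : ℤ := Nat.gcdB ℓ (p ^ N) with hb
  have hpow : (𝟙 U : U ⟶ U) ^ ((ℓ : ℤ) * a) = 𝟙 U := by
    have h1 : (ℓ : ℤ) * a = 1 - ((p ^ N : ℕ) : ℤ) * b := by linarith
    rw [h1, zpow_sub, zpow_one, zpow_mul, zpow_natCast, key, one_zpow, inv_one, _root_.mul_one]
  refine ⟨⟨(𝟙 U : U ⟶ U) ^ a, ?_, ?_⟩⟩
  · rw [GrpObj.comp_zpow, Category.comp_id, ← zpow_natCast, ← zpow_mul, hpow]
  · rw [MonObj.comp_pow, Category.comp_id, ← zpow_natCast, ← zpow_mul, mul_comm, hpow]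

end Groth.Agent.S17688
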