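import Groth.Statements.S17689
import Groth.Agent.Lib.Helper69.PPower

set_option autoImplicit false
universe u
open CategoryTheory AlgebraicGeometry
open Neron

namespace Groth.Agent.S17689

/-- Let R ⊆ S be a finite extension of discrete valuation rings (the structure map R → S is injective
and S is a finite R-module) such that the induced extension K ⊆ L of fraction fields is purely
inseparable. Then the morphism Spec S → Spec R is a universal homeomorphism: every base change of it
is a homeomorphism on underlying spaces. (No excellence hypothesis is needed here.) -/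
theorem result
    (R S K L : Type u) [CommRing R] [IsDomain R] [IsDiscreteValuationRing R]
    [CommRing S] [IsDomain S] [IsDiscreteValuationRing S] [Algebra R S] [Module.Finite R S] [FaithfulSMul R S]
    [Field K] [Field L] [Algebra R K] [IsFractionRing R K] [Algebra S L] [IsFractionRing S L]
    [Algebra K L] [Algebra R L] [IsScalarTower R S L] [IsScalarTower R K L] [IsPurelyInseparable K L] :
    FlatMor.IsUnivHomeo (Spec.map (CommRingCat.ofHom (algebraMap R S))) := by
  have hint : (algebraMap R S).IsIntegral :=
    algebraMap_isIntegral_iff.mpr inferInstance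
  have hinj : Function.Injective (algebraMap R S) := FaithfulSMul.algebraMap_injective R S
  apply Groth.Agent.Lib.Helper69.UHRing.isUnivHomeo_of _ hint (hint.comap_surjective hinj)
  intro K' _ χ₁ χ₂ hχ
  ext s
  obtain ⟨q, hE⟩ : ∃ q, ExpChar K q := ⟨ringExpChar K, ringExpChar.expChar K⟩
  obtain ⟨n, k, hk⟩ := IsPurelyInseparable.pow_mem K q (algebraMap S L s)
  -- `k` is integral over `R`
  have hkint : IsIntegral R k := by
    have h1 : IsIntegral R (s ^ q ^ n) := hint _
    have h2 : IsIntegral R (algebraMap S L (s ^ q ^ n)) := h1.algebraMap
    rw [map_pow, ← hk] at h2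
    exact (isIntegral_algebraMap_iff (algebraMap K L).injective).mp h2
  obtain ⟨r, hr⟩ := IsIntegrallyClosed.isIntegral_iff.mp hkint
  have hsr : s ^ q ^ n = algebraMap R S r := by
    apply IsFractionRing.injective S L
    rw [map_pow, ← hk, ← hr, ← IsScalarTower.algebraMap_apply R K L,
      ← IsScalarTower.algebraMap_apply R S L]
  have hpow : χ₁ s ^ q ^ n = χ₂ s ^ q ^ n := by
    rw [← map_pow, ← map_pow, hsr]
    exact RingHom.congr_fun hχ r
  rcases hE with _ | ⟨hprime⟩
  · simpa using hpow
  · rename_i hchar
    have hq0 : (q : R) = 0 := by
      apply IsFractionRing.injective R K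
      rw [map_natCast, map_zero]
      exact CharP.cast_eq_zero K q
    have hqK' : (q : K') = 0 := by
      have := congrArg (χ₁.comp (algebraMap R S)) hq0
      simpa using this
    apply Groth.Agent.Lib.Helper69.PPower.eq_of_ppow_eq q hprime n
    · rw [hqK']
      rcases Nat.eq_zero_or_pos n with rfl | hn
      · simpa using hpow
      · rw [zero_pow hn.ne', zero_mul, zero_mul]
    · exact hpow

end Groth.Agent.S17689
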