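import Groth.Statements.S17690
-- import your own Groth.Agent.* helpers here
import Groth.Agent.S0600
import Groth.Agent.S17803
import Groth.Agent.Lib.Helper88.FormalFibre2
import Groth.Agent.Lib.Helper88.Japanese3
import Groth.Agent.Lib.Helper15.DvrFamily

set_option autoImplicit false
set_option linter.style.haveILetI false
universe u
open Neron

namespace Groth.Agent.S17690

/-- Let R be an excellent discrete valuation ring (Noetherian, universally catenary, G-ring, J-2) with
fraction field K, and let L be a finite purely inseparable field extension of K. Then the integral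
closure S of R in L is a discrete valuation ring, and S is a finite R-module. -/
theorem result
    (R K L : Type u) [CommRing R] [IsDomain R] [IsDiscreteValuationRing R] (hR : EGA4.IsExcellent R)
    [Field K] [Algebra R K] [IsFractionRing R K] [Field L] [Algebra K L] [FiniteDimensional K L]
    [IsPurelyInseparable K L] [Algebra R L] [IsScalarTower R K L] :
    IsDiscreteValuationRing ↥(integralClosure R L) ∧ Module.Finite R ↥(integralClosure R L) := by
  classical
  obtain ⟨hN, -, hG, -⟩ := hR
  -- `R` is Nagata
  have hreg : CAlg.IsRegularHom R (EGA4.Cpl R) :=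
    Groth.Agent.S0600.result R hG (IsLocalRing.maximalIdeal R)
  have hnorm : EGA4.HasGeomNormalFormalFibres R :=
    (Groth.Agent.S17803.isNormalHom_of_isRegularHom R (EGA4.Cpl R) hreg).2
  have hFF : ∀ (q : Ideal R) [q.IsPrime], Algebra.IsGeometricallyReduced q.ResidueField
      (q.Fiber (AdicCompletion (IsLocalRing.maximalIdeal R) R)) := by
    intro q _
    apply Groth.Agent.Lib.Helper88.FormalFibre2.isGeometricallyReduced_of_forall_finite
    intro k' _ _ hfin
    have hnor := hnorm q k' hfin
    apply isReduced_ofLocalizationMaximal
    intro J hJ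
    haveI := (hnor J).1
    infer_instance
  have hNag : CAlg.IsNagata R :=
    Groth.Agent.Lib.Helper88.FormalFibre.isNagata_of_geomReducedFormalFibres R hFF
  have hN2 : CAlg.IsN2 R :=
    Groth.Agent.Lib.Helper88.isN2_of_ringEquiv (RingEquiv.quotientBot R) (hNag.2 ⊥)
  have hfin : Module.Finite R ↥(integralClosure R L) :=
    (Groth.Agent.Lib.Helper88.isN2_iff R).mp hN2 K L inferInstance
  refine ⟨?_, hfin⟩
  -- powers land in `R`
  have hpow : ∀ s : ↥(integralClosure R L), ∃ n > 0,
      s ^ n ∈ (algebraMap R ↥(integralClosure R L)).range := by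
    intro s
    obtain ⟨n, k, hk⟩ := IsPurelyInseparable.pow_mem K (ringExpChar K) (s : L)
    have hkint : IsIntegral R k := by
      have h1 : IsIntegral R ((s : L) ^ ringExpChar K ^ n) := s.2.pow _
      rw [← hk] at h1
      exact (isIntegral_algHom_iff (IsScalarTower.toAlgHom R K L)
        (algebraMap K L).injective).mp h1
    obtain ⟨r, hr⟩ := IsIntegrallyClosed.isIntegral_iff.mp hkint
    refine ⟨ringExpChar K ^ n, pow_pos (expChar_pos K (ringExpChar K)) n, r, ?_⟩
    apply Subtype.ext
    rw [SubmonoidClass.coe_pow, ← hk, ← hr, ← IsScalarTower.algebraMap_apply]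
    rfl
  have hinjL : Function.Injective (algebraMap R L) := by
    rw [IsScalarTower.algebraMap_eq R K L]
    exact (algebraMap K L).injective.comp (IsFractionRing.injective R K)
  have hinj : Function.Injective (algebraMap R ↥(integralClosure R L)) := by
    intro a b hab
    apply hinjL
    have := congrArg (Subtype.val : ↥(integralClosure R L) → L) hab
    exact this
  have hhomeo := PrimeSpectrum.isHomeomorph_comap (algebraMap R ↥(integralClosure R L)) hpow
    (by rw [(RingHom.injective_iff_ker_eq_bot _).mp hinj]; exact bot_le)
  -- `S` is local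
  haveI : IsLocalRing ↥(integralClosure R L) := by
    obtain ⟨M, hM⟩ := Ideal.exists_maximal ↥(integralClosure R L)
    refine IsLocalRing.of_unique_max_ideal ⟨M, hM, fun M' hM' => ?_⟩
    have h1 : (M'.comap (algebraMap R ↥(integralClosure R L))).IsMaximal :=
      Ideal.isMaximal_comap_of_isIntegral_of_isMaximal M'
    have h2 : (M.comap (algebraMap R ↥(integralClosure R L))).IsMaximal :=
      Ideal.isMaximal_comap_of_isIntegral_of_isMaximal M
    have h3 : PrimeSpectrum.comap (algebraMap R ↥(integralClosure R L)) ⟨M', hM'.isPrime⟩ =
        PrimeSpectrum.comap (algebraMap R ↥(integralClosure R L)) ⟨M, hM.isPrime⟩ := by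
      apply PrimeSpectrum.ext
      show M'.comap _ = M.comap _
      rw [IsLocalRing.eq_maximalIdeal h1, IsLocalRing.eq_maximalIdeal h2]
    exact congrArg PrimeSpectrum.asIdeal (hhomeo.injective h3)
  haveI : IsNoetherianRing ↥(integralClosure R L) := IsNoetherianRing.of_finite R _
  haveI : IsIntegrallyClosed ↥(integralClosure R L) :=
    integralClosure.isIntegrallyClosedOfFiniteExtension K
  apply Groth.Agent.Lib.Helper15.DvrFamily.isDiscreteValuationRing_of_dim_one
  rw [Groth.Agent.Lib.Helper11.IntegralDim.ringKrullDim_eq_of_isIntegral_of_injective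
    (R := R) hinj]
  exact IsDiscreteValuationRing.ringKrullDim_eq_one R

end Groth.Agent.S17690
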