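import Groth.Statements.S9255
import Mathlib
import Groth.Agent.S4700
import Groth.Agent.Lib.Helper8.GenFlatAlg
import Groth.Agent.Lib.Helper96.GeomRegular4

set_option autoImplicit false
universe u
open EGA4

namespace Groth.Agent.S9255

namespace GD

open EGA4 Groth.Agent.S4700


theorem main (R S : Type u) [CommRing R]
    [IsDomain R] [IsNoetherianRing R] [CommRing S] [IsDomain S] [Algebra R S] [Algebra.FiniteType R S]
    (hinj : Function.Injective (algebraMap R S))
    (hS : ∃ U : Set (PrimeSpectrum S), IsOpen U ∧ U.Nonempty ∧ U ⊆ EGA4.regLocus S) :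
    ∃ U : Set (PrimeSpectrum R), IsOpen U ∧ U.Nonempty ∧ U ⊆ EGA4.regLocus R := by
  classical
  obtain ⟨U, hUo, hUne, hUsub⟩ := hS
  obtain ⟨h, -, hnil, hh⟩ := Groth.Agent.Lib.Helper8.GenFree.exists_flat_fp_awayMap (R := R) S 1
    (by simp)
  have hh0 : h ≠ 0 := by
    rintro rfl
    exact hnil IsNilpotent.zero
  obtain ⟨hflat, hfp⟩ := hh h dvd_rfl
  set h' := algebraMap R S h with hh'
  have hh'0 : h' ≠ 0 := by
    intro h0
    exact hh0 (hinj (by rw [← hh', h0, map_zero]))
  let R' := Localization.Away h
  let S' := Localization.Away h'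
  let φ : R' →+* S' := Localization.awayMap (algebraMap R S) h
  let _ : Algebra R' S' := φ.toAlgebra
  have hφ : algebraMap R' S' = φ := rfl
  have : IsScalarTower R R' S' := by
    apply IsScalarTower.of_algebraMap_eq
    intro r
    rw [hφ]
    change _ = IsLocalization.Away.map R' S' (algebraMap R S) h (algebraMap R R' r)
    rw [IsLocalization.Away.map, IsLocalization.map_eq]
    rfl
  have : Module.Flat R' S' := RingHom.flat_algebraMap_iff.mp hflat
  have : Algebra.FinitePresentation R' S' := RingHom.finitePresentation_algebraMap.mp hfp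
  have : Module.Flat R S' := Module.Flat.trans R R' S'
  have hopen : IsOpenMap (PrimeSpectrum.comap (algebraMap R' S')) :=
    PrimeSpectrum.isOpenMap_comap_of_hasGoingDown_of_finitePresentation
  have hopen2 : IsOpenMap (PrimeSpectrum.comap (algebraMap R R')) :=
    (PrimeSpectrum.localization_away_isOpenEmbedding R' h).isOpenMap
  let U₁ : Set (PrimeSpectrum S') := PrimeSpectrum.comap (algebraMap S S') ⁻¹' U
  have hU₁o : IsOpen U₁ := hUo.preimage (PrimeSpectrum.continuous_comap _)
  have hU₁ne : U₁.Nonempty := by
    have hbot : (⟨⊥, Ideal.isPrime_bot⟩ : PrimeSpectrum S) ∈ U := NG.bot_mem_of_isOpen U hUo hUne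
    have hrange : (⟨⊥, Ideal.isPrime_bot⟩ : PrimeSpectrum S) ∈
        Set.range (PrimeSpectrum.comap (algebraMap S S')) := by
      rw [PrimeSpectrum.localization_away_comap_range S' h']
      change h' ∉ (⊥ : Ideal S)
      simpa using hh'0
    obtain ⟨s', hs'⟩ := hrange
    exact ⟨s', by change PrimeSpectrum.comap (algebraMap S S') s' ∈ U; rw [hs']; exact hbot⟩
  refine ⟨PrimeSpectrum.comap (algebraMap R R') '' (PrimeSpectrum.comap (algebraMap R' S') '' U₁),
    hopen2 _ (hopen _ hU₁o), (hU₁ne.image _).image _, ?_⟩
  rintro _ ⟨_, ⟨s', hs', rfl⟩, rfl⟩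
  -- regularity of S'_{s'}
  have hs : PrimeSpectrum.comap (algebraMap S S') s' ∈ regLocus S := hUsub hs'
  have hreg : IsRegularLocalRing (Localization.AtPrime
      (PrimeSpectrum.comap (algebraMap S S') s').asIdeal) := hs
  have hloc : IsLocalization.AtPrime (Localization.AtPrime s'.asIdeal)
      (s'.asIdeal.comap (algebraMap S S')) :=
    IsLocalization.isLocalization_isLocalization_atPrime_isLocalization (Submonoid.powers h')
      (Localization.AtPrime s'.asIdeal) s'.asIdeal
  have hreg2 : IsRegularLocalRing (Localization.AtPrime (s'.asIdeal.comap (algebraMap S S'))) := hreg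
  have hreg' : IsRegularLocalRing (Localization.AtPrime s'.asIdeal) :=
    IsRegularLocalRing.of_ringEquiv (IsLocalization.algEquiv (s'.asIdeal.comap (algebraMap S S')).primeCompl
      (Localization.AtPrime (s'.asIdeal.comap (algebraMap S S'))) (Localization.AtPrime s'.asIdeal)).toRingEquiv
  have hfinal := Groth.Agent.Lib.Helper96.isRegularLocalRing_atPrime_comap_of_flat R S' s'.asIdeal hreg'
  have heq : (PrimeSpectrum.comap (algebraMap R R') (PrimeSpectrum.comap (algebraMap R' S') s')).asIdeal =
      s'.asIdeal.comap (algebraMap R S') := by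
    change (s'.asIdeal.comap (algebraMap R' S')).comap (algebraMap R R') = _
    rw [Ideal.comap_comap, ← IsScalarTower.algebraMap_eq]
  change IsRegularLocalRing (Localization.AtPrime _)
  have key : ∀ (I J : Ideal R) [I.IsPrime] [J.IsPrime], I = J →
      IsRegularLocalRing (Localization.AtPrime J) → IsRegularLocalRing (Localization.AtPrime I) := by
    intro I J _ _ h
    subst h
    exact id
  exact key _ _ heq hfinal

end GD


/-- Let R be a Noetherian domain and R → S an injective ring map of finite type with S a domain. If the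
regular locus of Spec S contains a nonempty open subset, then the regular locus of Spec R contains a
nonempty open subset. -/
theorem result (R S : Type u) [CommRing R]
    [IsDomain R] [IsNoetherianRing R] [CommRing S] [IsDomain S] [Algebra R S] [Algebra.FiniteType R S]
    (hinj : Function.Injective (algebraMap R S))
    (hS : ∃ U : Set (PrimeSpectrum S), IsOpen U ∧ U.Nonempty ∧ U ⊆ EGA4.regLocus S) :
    ∃ U : Set (PrimeSpectrum R), IsOpen U ∧ U.Nonempty ∧ U ⊆ EGA4.regLocus R :=
  GD.main R S hinj hS

end Groth.Agent.S9255
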