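import Groth.Statements.S17703
import Mathlib
import Groth.Agent.S2653
import Groth.Agent.S2620
import Groth.Agent.Lib.Helper69.GRingLocal
import Groth.Agent.Lib.Helper88.FormalFibre2

set_option autoImplicit false
universe u
open Neron

namespace Groth.Agent.S17703

namespace DV

open IsLocalRing TensorProduct Groth.Agent.S2653 Groth.Agent.S2620 Groth.Agent.S2619

section Z
variable (R : Type u) [CommRing R] [IsDomain R] [IsDiscreteValuationRing R]

/-- the generic formal fibre of a DVR has Krull dimension zero. -/
lemma krullDimLE_zero_fibre : Ring.KrullDimLE 0 (EGA4.formalFibre R (⊥ : Ideal R)) := by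
  set m := maximalIdeal R
  set Rh := AdicCompletion m R
  have hne : m ≠ ⊤ := Ideal.IsPrime.ne_top inferInstance
  have fg : m.FG := m.fg_of_isNoetherianRing
  have : IsLocalRing Rh := Groth.Agent.Lib.Helper83.isLocalRing_adicCompletion m fg hne
  have : IsNoetherianRing Rh := Groth.Agent.Lib.Helper83.isNoetherianRing_adicCompletion m
  have hmap := Groth.Agent.Lib.Helper83.maximalIdeal_adicCompletion_eq_map m fg hne
  have hdim : ringKrullDim Rh = 1 := by
    rw [Groth.Agent.Lib.Helper83.ringKrullDim_adicCompletion_eq m hne]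
    exact IsDiscreteValuationRing.ringKrullDim_eq_one R
  have h1 : Ring.KrullDimLE 1 Rh := Ring.krullDimLE_iff.mpr (by rw [hdim]; exact le_rfl)
  have h2 := Ring.krullDimLE_one_iff.mp h1
  -- a prime lying over ⊥ is not the maximal ideal
  have hnotmax : ∀ q : Ideal Rh, q.comap (algebraMap R Rh) = ⊥ → q ≠ maximalIdeal Rh := by
    intro q hq hqm
    obtain ⟨π, hπ⟩ := IsDiscreteValuationRing.exists_irreducible R
    have hπm : π ∈ m := by
      change π ∈ maximalIdeal R
      rw [(IsDiscreteValuationRing.irreducible_iff_uniformizer π).mp hπ]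
      exact Ideal.mem_span_singleton_self π
    have : π ∈ q.comap (algebraMap R Rh) := by
      rw [Ideal.mem_comap, hqm, ← hmap]
      exact Ideal.mem_map_of_mem _ hπm
    rw [hq] at this
    exact hπ.ne_zero this
  rw [Ring.krullDimLE_zero_iff]
  intro Q hQ
  obtain ⟨M, hM, hQM⟩ := Ideal.exists_le_maximal Q hQ.ne_top
  have hMp : M.IsPrime := hM.isPrime
  let iso := PrimeSpectrum.primesOverOrderIsoFiber R Rh (⊥ : Ideal R)
  let q := iso.symm ⟨Q, hQ⟩
  let m' := iso.symm ⟨M, hMp⟩
  have hqm' : q ≤ m' := iso.symm.monotone hQM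
  have hm'prime : m'.1.IsPrime := m'.2.1
  have hqprime : q.1.IsPrime := q.2.1
  have hm'over : m'.1.comap (algebraMap R Rh) = ⊥ := m'.2.2.over.symm
  have hm'min : m'.1 ∈ minimalPrimes Rh := by
    rcases h2 m'.1 hm'prime with h | h
    · exact h
    · exact absurd (IsLocalRing.eq_maximalIdeal h) (hnotmax _ hm'over)
  have hle : m'.1 ≤ q.1 := hm'min.2 ⟨hqprime, bot_le⟩ hqm'
  have heq : q = m' := le_antisymm hqm' hle
  have : (⟨Q, hQ⟩ : PrimeSpectrum _) = ⟨M, hMp⟩ := iso.symm.injective heq
  have hQM' : Q = M := congrArg PrimeSpectrum.asIdeal this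
  rw [hQM']
  exact hM

end Z

section A

lemma isRegularRing_of_artinian_reduced (T : Type u) [CommRing T] [IsArtinianRing T] [IsReduced T] :
    IsRegularRing T := by
  rw [isRegularRing_iff]
  intro q _
  have hf : IsField (Localization.AtPrime q) :=
    IsArtinianRing.isField_of_isReduced_of_isLocalRing (Localization.AtPrime q)
  have hm : maximalIdeal (Localization.AtPrime q) = ⊥ := IsLocalRing.isField_iff_maximalIdeal_eq.mp hf
  apply IsRegularLocalRing.of_spanFinrank_maximalIdeal_le
  rw [hm]
  have : (⊥ : Ideal (Localization.AtPrime q)).spanFinrank = 0 := by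
    rw [Submodule.spanFinrank_eq_zero_iff_eq_bot (Submodule.fg_bot)]
  rw [this]
  exact_mod_cast ringKrullDim_nonneg_of_nontrivial

lemma geomRegular_of_dim_zero (k F : Type u) [Field k] [CommRing F] [Algebra k F] [IsNoetherianRing F]
    [Ring.KrullDimLE 0 F] [Algebra.IsGeometricallyReduced k F] : CAlg.IsGeometricallyRegular k F := by
  intro k' _ _ hfin
  have : Algebra.IsAlgebraic k k' := inferInstance
  have hred : IsReduced (k' ⊗[k] F) := inferInstance
  have hart : IsArtinianRing F := isArtinianRing_iff_isNoetherianRing_krullDimLE_zero.mpr ⟨inferInstance, inferInstance⟩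
  have : Module.Finite F (F ⊗[k] k') := inferInstance
  have : IsArtinianRing (F ⊗[k] k') := IsArtinianRing.of_finite F _
  have : IsArtinianRing (k' ⊗[k] F) := (Algebra.TensorProduct.comm k F k').toRingEquiv.isArtinianRing
  exact isRegularRing_of_artinian_reduced _

end A

section main
variable (R : Type u) [CommRing R] [IsDomain R] [IsDiscreteValuationRing R]

lemma prime_eq_bot_of_ne_max (P : Ideal R) [P.IsPrime] (hP : P ≠ maximalIdeal R) : P = ⊥ := by
  by_contra h
  exact hP (IsLocalRing.eq_maximalIdeal (Ring.DimensionLEOne.maximalOfPrime h ‹P.IsPrime›))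

/-- regular hom R → R^ from geometric reducedness of the generic formal fibre -/
lemma isRegularHom_cpl
    (h : Algebra.IsGeometricallyReduced (⊥ : Ideal R).ResidueField (EGA4.formalFibre R (⊥ : Ideal R))) :
    CAlg.IsRegularHom R (EGA4.Cpl R) := by
  have hN : IsNoetherianRing (EGA4.Cpl R) :=
    Groth.Agent.Lib.Helper83.isNoetherianRing_adicCompletion (maximalIdeal R)
  refine ⟨inferInstance, fun P _ => ⟨Groth.Agent.Lib.Helper96.isNoetherianRing_fiber R _ P, ?_⟩⟩
  by_cases hP : P = maximalIdeal R
  · subst hP
    exact EX.special_fibre_geomRegular R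
  · have hP0 : P = ⊥ := prime_eq_bot_of_ne_max R P hP
    subst hP0
    have := krullDimLE_zero_fibre R
    have : IsNoetherianRing (EGA4.formalFibre R (⊥ : Ideal R)) :=
      Groth.Agent.Lib.Helper96.isNoetherianRing_fiber R _ ⊥
    exact geomRegular_of_dim_zero _ _

lemma isGRing_of_geomReduced
    (h : Algebra.IsGeometricallyReduced (⊥ : Ideal R).ResidueField (EGA4.formalFibre R (⊥ : Ideal R))) :
    CAlg.IsGRing R := by
  refine ⟨inferInstance, fun p _ => ?_⟩
  by_cases hp : p = maximalIdeal R
  · subst hp
    let e : R ≃ₐ[R] Localization.AtPrime (maximalIdeal R) :=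
      IsLocalization.atUnits R (maximalIdeal R).primeCompl (by
        intro x hx
        exact IsLocalRing.notMem_maximalIdeal.mp hx)
    exact Groth.Agent.Lib.Helper69.GRingLocal.regular_completion_of_ringEquiv e.toRingEquiv
      (isRegularHom_cpl R h)
  · have hp0 : p = ⊥ := prime_eq_bot_of_ne_max R p hp
    subst hp0
    set S := Localization.AtPrime (⊥ : Ideal R)
    have hmbot : maximalIdeal S = ⊥ := by
      rw [← Localization.AtPrime.map_eq_maximalIdeal, Ideal.map_bot]
    have hfield : IsField S := IsLocalRing.isField_iff_maximalIdeal_eq.mpr hmbot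
    have hN : IsNoetherianRing (AdicCompletion (maximalIdeal S) S) :=
      Groth.Agent.Lib.Helper83.isNoetherianRing_adicCompletion (maximalIdeal S)
    refine ⟨inferInstance, fun P _ => ⟨Groth.Agent.Lib.Helper96.isNoetherianRing_fiber S _ P, ?_⟩⟩
    have hP : P = maximalIdeal S := by
      have hPbot : P = ⊥ := by
        by_contra hne
        exact (Ring.not_isField_iff_exists_prime.mpr ⟨P, hne, ‹_›⟩) hfield
      rw [hPbot, hmbot]
    subst hP
    exact EX.special_fibre_geomRegular S

theorem main :
    EGA4.IsExcellent R ↔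
      Algebra.IsGeometricallyReduced (⊥ : Ideal R).ResidueField (EGA4.formalFibre R (⊥ : Ideal R)) := by
  constructor
  · rintro ⟨-, -, hG, -⟩
    have h1 := hG.2 (maximalIdeal R)
    let e : R ≃ₐ[R] Localization.AtPrime (maximalIdeal R) :=
      IsLocalization.atUnits R (maximalIdeal R).primeCompl (by
        intro x hx
        exact IsLocalRing.notMem_maximalIdeal.mp hx)
    have h2 : CAlg.IsRegularHom R (EGA4.Cpl R) :=
      Groth.Agent.Lib.Helper69.GRingLocal.regular_completion_of_ringEquiv e.toRingEquiv.symm h1
    have h3 := (h2.2 ⊥).2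
    apply Groth.Agent.Lib.Helper88.FormalFibre2.isGeometricallyReduced_of_forall_finite
    intro k' _ _ hfin
    have : IsRegularRing (k' ⊗[(⊥ : Ideal R).ResidueField] (⊥ : Ideal R).Fiber (EGA4.Cpl R)) := h3 k' hfin
    exact Groth.Agent.Lib.Helper88.FormalFibre2.isReduced_of_isRegularRing _
  · intro h
    have hR : IsRegularRing R := by
      rw [isRegularRing_iff]
      intro q hq
      have : (⟨q, hq⟩ : PrimeSpectrum R) ∈ EGA4.regLocus R := by
        rw [J19.dedekind_regLocus]; trivial
      exact this
    have hCM : LocCoh.IsCohenMacaulayRing R := Groth.Agent.S18865.isCohenMacaulayRing_of_isRegularRing R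
    refine ⟨inferInstance, Groth.Agent.S0603.result R, isGRing_of_geomReduced R h, J20.main R ?_ ?_⟩
    · exact (Set.finite_singleton (maximalIdeal R)).subset
        (fun I hI => IsLocalRing.eq_maximalIdeal hI)
    · rw [IsDiscreteValuationRing.ringKrullDim_eq_one R]

end main

end DV


/-- Let R be a discrete valuation ring with fraction field K, R̂ its completion and K̂ = Frac R̂. Then R
is excellent (Noetherian, universally catenary, G-ring and J-2) if and only if K̂ is geometrically
reduced over K, i.e. K ⊆ K̂ is separable; here K̂ is written as the generic formal fibre κ(0) ⊗_R R̂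
of R, which is R̂ with the uniformizer inverted. -/
theorem result
    (R : Type u) [CommRing R] [IsDomain R] [IsDiscreteValuationRing R] :
    EGA4.IsExcellent R ↔
      Algebra.IsGeometricallyReduced (⊥ : Ideal R).ResidueField (EGA4.formalFibre R (⊥ : Ideal R)) :=
  DV.main R

end Groth.Agent.S17703
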