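import Groth.Statements.S17718
import Groth.Agent.Lib.Helper89.ToddSign

set_option autoImplicit false
open MoretBailly

namespace Groth.Agent.S17718

/-- Let n ≥ 2 and d ≥ 1 be natural numbers with n not congruent to 2 modulo 4, and write B(x) = x/(1 -
e^(-x)) for the exponential generating series of the Bernoulli numbers (B'_1 = 1/2). Then there is
an integer s ≥ 1 such that for all sufficiently large natural numbers p the coefficient of x^n in
B(-dx)^(-1) B(-dpx) B(x)^(n+1) e^((dp-d-n-1+s)x) is strictly negative. (The published argument fixes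
any s with 2s > n + d + 1, which gives the sign only for n congruent to 0 or 1 modulo 4; for n
congruent to 3 modulo 4 the choice s = 1 makes the leading coefficient (2s-d-n-1) B'_(n-1)
d^(n-1)/(2 (n-1)!) negative instead.) -/
theorem result (n d : ℕ) (hn : 2 ≤ n)
    (hmod : n % 4 ≠ 2) (hd : 1 ≤ d) :
    ∃ s : ℤ, 1 ≤ s ∧ ∃ P : ℕ, ∀ p : ℕ, P ≤ p →
      PowerSeries.coeff n ((PowerSeries.rescale (-(d : ℚ)) (bernoulli'PowerSeries ℚ))⁻¹ * PowerSeries.rescale (-((d : ℚ) * p)) (bernoulli'PowerSeries ℚ) * bernoulli'PowerSeries ℚ ^ (n + 1) * PowerSeries.rescale ((d : ℚ) * p - d - n - 1 + s) (PowerSeries.exp ℚ)) < 0 := by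
  have key : ∀ s : ℤ, (bernoulli' n < 0 ∨ (bernoulli' n = 0 ∧
      (2 * (s : ℚ) - d - n - 1) / 2 * bernoulli' (n - 1) < 0 ∧ 3 ≤ n)) →
      ∃ P : ℕ, ∀ p : ℕ, P ≤ p →
      PowerSeries.coeff n ((PowerSeries.rescale (-(d : ℚ)) (bernoulli'PowerSeries ℚ))⁻¹ * PowerSeries.rescale (-((d : ℚ) * p)) (bernoulli'PowerSeries ℚ) * bernoulli'PowerSeries ℚ ^ (n + 1) * PowerSeries.rescale ((d : ℚ) * p - d - n - 1 + s) (PowerSeries.exp ℚ)) < 0 := by
    intro s hsign
    obtain ⟨P, hP, hlam⟩ := Groth.Agent.S17713.result n d s hn hd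
    obtain ⟨P₀, hP₀⟩ := Groth.Agent.Lib.Helper89.ToddSign.neg_of_leading n d s P hn hP hd hsign
    exact ⟨P₀, fun p hp => by rw [hlam p]; exact hP₀ p hp⟩
  have hcases : n % 4 = 0 ∨ n % 4 = 1 ∨ n % 4 = 3 := by omega
  rcases hcases with h0 | h1 | h3
  · refine ⟨(n : ℤ) + d + 1, by omega, key _ ?_⟩
    left
    obtain ⟨k, rfl⟩ : ∃ k, n = 4 * k := ⟨n / 4, by omega⟩
    exact Groth.Agent.Lib.Helper89.BernoulliSign.bernoulli'_four_mul_neg (by omega)
  · refine ⟨(n : ℤ) + d + 1, by omega, key _ ?_⟩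
    right
    obtain ⟨k, rfl⟩ : ∃ k, n = 4 * k + 1 := ⟨n / 4, by omega⟩
    refine ⟨bernoulli'_eq_zero_of_odd ⟨2 * k, by ring⟩ (by omega), ?_, by omega⟩
    have hB : bernoulli' (4 * k + 1 - 1) < 0 := by
      rw [Nat.add_sub_cancel]
      exact Groth.Agent.Lib.Helper89.BernoulliSign.bernoulli'_four_mul_neg (by omega)
    apply mul_neg_of_pos_of_neg _ hB
    have hdq : (0 : ℚ) < d := by exact_mod_cast hd
    push_cast
    have : (0 : ℚ) ≤ k := Nat.cast_nonneg k
    linarith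
  · refine ⟨1, le_refl 1, key _ ?_⟩
    right
    obtain ⟨k, rfl⟩ : ∃ k, n = 4 * k + 3 := ⟨n / 4, by omega⟩
    refine ⟨bernoulli'_eq_zero_of_odd ⟨2 * k + 1, by ring⟩ (by omega), ?_, by omega⟩
    have hB : 0 < bernoulli' (4 * k + 3 - 1) := by
      have : 4 * k + 3 - 1 = 4 * k + 2 := by omega
      rw [this]
      exact Groth.Agent.Lib.Helper89.BernoulliSign.bernoulli'_four_mul_add_two_pos k
    apply mul_neg_of_neg_of_pos _ hB
    have hdq : (0 : ℚ) < d := by exact_mod_cast hd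
    push_cast
    have : (0 : ℚ) ≤ k := Nat.cast_nonneg k
    linarith

end Groth.Agent.S17718
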