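import Groth.Statements.S17721
-- import your own Groth.Agent.* helpers here

set_option autoImplicit false
universe u
open CAlg

namespace Groth.Agent.S17721

open IsDiscreteValuationRing in
/-- existence of a first coefficient of minimal valuation of a nonzero power series -/
lemma exists_first_min {R : Type u} [CommRing R] [IsDomain R] [IsDiscreteValuationRing R]
    (f : PowerSeries R) (hf : f ≠ 0) :
    ∃ i0 : ℕ, PowerSeries.coeff i0 f ≠ 0 ∧
      (∀ i, addVal R (PowerSeries.coeff i0 f) ≤ addVal R (PowerSeries.coeff i f)) ∧
      (∀ i, i < i0 → addVal R (PowerSeries.coeff i0 f) < addVal R (PowerSeries.coeff i f)) := by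
  classical
  have hne : (Set.range fun i => addVal R (PowerSeries.coeff i f)).Nonempty := ⟨_, ⟨0, rfl⟩⟩
  obtain ⟨m, ⟨i1, hi1⟩, hmin⟩ := WellFounded.has_min (wellFounded_lt (α := ℕ∞)) _ hne
  have hmin' : ∀ i, m ≤ addVal R (PowerSeries.coeff i f) := fun i =>
    not_lt.mp (hmin _ ⟨i, rfl⟩)
  have hex : ∃ i, addVal R (PowerSeries.coeff i f) = m := ⟨i1, hi1⟩
  refine ⟨Nat.find hex, ?_, ?_, ?_⟩
  · intro h0
    have hm : m = ⊤ := by rw [← Nat.find_spec hex, h0]; simp
    apply hf
    ext i
    have := hmin' i
    rw [hm, top_le_iff, addVal_eq_top_iff] at this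
    simpa using this
  · intro i
    rw [Nat.find_spec hex]; exact hmin' i
  · intro i hi
    rw [Nat.find_spec hex]
    exact lt_of_le_of_ne (hmin' i) (fun h => Nat.find_min hex hi h.symm)

open IsDiscreteValuationRing in
/-- Gauss-lemma type statement: if `g * f` is a nonzero constant then the constant coefficient
of `f` divides all its coefficients. -/
lemma core {R : Type u} [CommRing R] [IsDomain R] [IsDiscreteValuationRing R]
    (g f : PowerSeries R) (e : R) (he : e ≠ 0) (h : g * f = PowerSeries.C e) :
    ∀ i, PowerSeries.coeff 0 f ∣ PowerSeries.coeff i f := by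
  classical
  have hC : (PowerSeries.C e : PowerSeries R) ≠ 0 := by
    intro h0
    have := congrArg (PowerSeries.coeff 0) h0
    simp at this
    exact he this
  have hf : f ≠ 0 := by rintro rfl; rw [mul_zero] at h; exact hC h.symm
  have hg : g ≠ 0 := by rintro rfl; rw [zero_mul] at h; exact hC h.symm
  obtain ⟨i0, hi0, hile, hilt⟩ := exists_first_min f hf
  obtain ⟨j0, hj0, hjle, hjlt⟩ := exists_first_min g hg
  set v := addVal R (PowerSeries.coeff i0 f) with hv
  set u := addVal R (PowerSeries.coeff j0 g) with hu
  have hvtop : v ≠ ⊤ := fun h => hi0 (addVal_eq_top_iff.mp h)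
  have hutop : u ≠ ⊤ := fun h => hj0 (addVal_eq_top_iff.mp h)
  have huv : u + v ≠ ⊤ := by simp [hvtop, hutop]
  -- the coefficient of index `j0 + i0`
  have hn : j0 + i0 = 0 := by
    by_contra hn
    have hcoeff : PowerSeries.coeff (j0 + i0) (g * f) = 0 := by
      rw [h, PowerSeries.coeff_C, if_neg hn]
    rw [PowerSeries.coeff_mul] at hcoeff
    have hmem : (j0, i0) ∈ Finset.antidiagonal (j0 + i0) := by simp
    rw [← Finset.add_sum_erase _ _ hmem] at hcoeff
    have hS : u + v < addVal R (∑ p ∈ (Finset.antidiagonal (j0 + i0)).erase (j0, i0),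
        PowerSeries.coeff p.1 g * PowerSeries.coeff p.2 f) := by
      apply AddValuation.map_lt_sum _ huv
      rintro ⟨j, i⟩ hp
      rw [Finset.mem_erase, Finset.mem_antidiagonal] at hp
      obtain ⟨hne, hsum⟩ := hp
      simp only at hsum
      rw [addVal_mul]
      have hcases : j < j0 ∨ i < i0 := by
        by_contra hcon
        rw [not_or, not_lt, not_lt] at hcon
        apply hne
        have : j = j0 ∧ i = i0 := by omega
        rw [this.1, this.2]
      rcases hcases with hj | hi
      · exact ENat.add_lt_add_of_lt_of_le hvtop (hjlt j hj) (hile i)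
      · exact ENat.add_lt_add_of_le_of_lt hutop (hjle j) (hilt i hi)
    have hmain : addVal R (PowerSeries.coeff j0 g * PowerSeries.coeff i0 f) = u + v := by
      rw [addVal_mul]
    have heq : PowerSeries.coeff j0 g * PowerSeries.coeff i0 f =
        -(∑ p ∈ (Finset.antidiagonal (j0 + i0)).erase (j0, i0),
          PowerSeries.coeff p.1 g * PowerSeries.coeff p.2 f) := eq_neg_of_add_eq_zero_left hcoeff
    rw [heq, AddValuation.map_neg] at hmain
    exact absurd hmain (ne_of_gt hS)
  have hi00 : i0 = 0 := by omega
  intro i
  rw [← addVal_le_iff_dvd]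
  subst hi00
  exact hile i

open Polynomial IsLocalRing in
/-- Let R be a complete discrete valuation ring with fraction field K, and f a polynomial over R with
non-zero constant term a₀ such that a₀ does not divide some coefficient of f of positive degree
(equivalently, the Newton polygon of f has a side of negative slope). Let b be the power series over
K with b · f = a₀, the expansion of the geometric series in 1 − f/a₀. Then the valuations of the
coefficients b_j are not bounded below: for every non-zero c in R there is an index j with c · b_j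
outside R. -/
theorem result
    (R : Type u) [CommRing R] [IsDomain R] [IsDiscreteValuationRing R]
    [IsAdicComplete (maximalIdeal R) R]
    (K : Type u) [Field K] [Algebra R K] [IsFractionRing R K]
    (f : R[X]) (h0 : f.coeff 0 ≠ 0) (hslope : ∃ i : ℕ, 0 < i ∧ ¬ (f.coeff 0 ∣ f.coeff i))
    (b : PowerSeries K)
    (hb : b * ((f.map (algebraMap R K) : K[X]) : PowerSeries K) = PowerSeries.C (algebraMap R K (f.coeff 0))) :
    ∀ c : R, c ≠ 0 → ∃ j : ℕ, algebraMap R K c * PowerSeries.coeff j b ∉ (algebraMap R K).range := by
  intro c hc
  by_contra hcon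
  rw [not_exists] at hcon
  have hall : ∀ j, ∃ r : R, algebraMap R K r = algebraMap R K c * PowerSeries.coeff j b := by
    intro j
    have := not_not.mp (hcon j)
    exact this
  choose gc hgc using hall
  set g : PowerSeries R := PowerSeries.mk gc with hg
  have hinj : Function.Injective (algebraMap R K) := IsFractionRing.injective R K
  have hmapg : PowerSeries.map (algebraMap R K) g = PowerSeries.C (algebraMap R K c) * b := by
    ext j
    simp [hg, hgc j]
  have hprod : g * (f : PowerSeries R) = PowerSeries.C (c * f.coeff 0) := by
    have hmapinj : Function.Injective (PowerSeries.map (algebraMap R K)) := by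
      intro x y hxy
      ext j
      apply hinj
      have := congrArg (PowerSeries.coeff j) hxy
      simpa using this
    apply hmapinj
    rw [map_mul, hmapg, ← Polynomial.polynomial_map_coe, mul_assoc, hb]
    simp [map_mul]
  obtain ⟨i, hipos, hndvd⟩ := hslope
  have := core g (f : PowerSeries R) (c * f.coeff 0) (mul_ne_zero hc h0) hprod i
  simp only [Polynomial.coeff_coe] at this
  exact hndvd this

end Groth.Agent.S17721
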