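import Groth.Statements.S17722
-- import your own Groth.Agent.* helpers here
import Mathlib.RingTheory.Flat.FaithfullyFlat.Algebra
import Mathlib.RingTheory.LocalRing.MaximalIdeal.Basic
import Mathlib.RingTheory.Ideal.Operations

set_option autoImplicit false
universe u
open CAlg

namespace Groth.Agent.S17722

/-- Let R → R' be a faithfully flat ring map between Noetherian integrally closed local domains, and p
an ideal of R. If the ideal pR' generated by the image of p is principal, then p is principal. (The
second assertion of the published lemma, descent of unique factorization, is not part of this row.) -/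
theorem result
    (R R' : Type u) [CommRing R] [CommRing R'] [IsDomain R] [IsDomain R']
    [IsNoetherianRing R] [IsNoetherianRing R'] [IsLocalRing R] [IsLocalRing R']
    [IsIntegrallyClosed R] [IsIntegrallyClosed R']
    [Algebra R R'] [Module.FaithfullyFlat R R']
    (p : Ideal R) (hp : (p.map (algebraMap R R')).IsPrincipal) :
    p.IsPrincipal := by
  classical
  -- a finite generating family of `p`
  obtain ⟨s, hs⟩ := (IsNoetherian.noetherian p : p.FG)
  let v : s → R' := fun i => algebraMap R R' i
  have hmap : p.map (algebraMap R R') = Ideal.span (Set.range v) := by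
    rw [← hs]
    change Ideal.map (algebraMap R R') (Ideal.span (s : Set R)) = _
    rw [Ideal.map_span]
    congr 1
    ext z
    simp [v]
  obtain ⟨y, hy⟩ := hp.principal
  have hy' : p.map (algebraMap R R') = Ideal.span {y} := hy
  by_cases hy0 : y = 0
  · -- `p = ⊥`
    have h1 : p.map (algebraMap R R') = ⊥ := by rw [hy', hy0]; simp
    have h2 : p = ⊥ := by
      have e1 := Ideal.comap_map_eq_self_of_faithfullyFlat (B := R') p
      have e2 := Ideal.comap_map_eq_self_of_faithfullyFlat (B := R') (⊥ : Ideal R)
      rw [h1] at e1
      rw [Ideal.map_bot] at e2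
      rw [← e1, e2]
    rw [h2]
    exact bot_isPrincipal
  · have hymem : y ∈ Ideal.span (Set.range v) := by
      rw [← hmap, hy']; exact Ideal.subset_span rfl
    obtain ⟨c, hc⟩ := (Ideal.mem_span_range_iff_exists_fun).mp hymem
    have ha : ∀ i : s, ∃ a : R', a * y = v i := by
      intro i
      have : v i ∈ Ideal.span {y} := by
        rw [← hy', hmap]; exact Ideal.subset_span ⟨i, rfl⟩
      exact Ideal.mem_span_singleton'.mp this
    choose a ha using ha
    have hsum : (∑ i, c i * a i) = 1 := by
      have h1 : (∑ i, c i * a i) * y = y := by
        rw [Finset.sum_mul]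
        conv_rhs => rw [← hc]
        refine Finset.sum_congr rfl fun i _ => ?_
        rw [mul_assoc, ha i]
      have h2 : ((∑ i, c i * a i) - 1) * y = 0 := by rw [sub_mul, h1, one_mul, sub_self]
      rcases mul_eq_zero.mp h2 with h | h
      · exact sub_eq_zero.mp h
      · exact absurd h hy0
    -- some `c i * a i` is a unit
    have hex : ∃ i, IsUnit (c i * a i) := by
      by_contra hne
      rw [not_exists] at hne
      have hmem : (∑ i, c i * a i) ∈ IsLocalRing.maximalIdeal R' :=
        Submodule.sum_mem _ fun i _ => (IsLocalRing.mem_maximalIdeal _).mpr (hne i)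
      rw [hsum] at hmem
      exact (IsLocalRing.maximalIdeal.isMaximal R').ne_top ((Ideal.eq_top_iff_one _).mpr hmem)
    obtain ⟨i, hi⟩ := hex
    have hai : IsUnit (a i) := isUnit_of_mul_isUnit_right hi
    have hspan : Ideal.span {y} = Ideal.span {v i} := by
      apply le_antisymm
      · rw [Ideal.span_singleton_le_span_singleton]
        obtain ⟨u, hu⟩ := hai
        refine ⟨↑u⁻¹, ?_⟩
        rw [← ha i, ← hu]
        rw [mul_comm, ← mul_assoc]
        simp
      · rw [Ideal.span_singleton_le_span_singleton]
        exact ⟨a i, by rw [← ha i, mul_comm]⟩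
    have hfinal : p = Ideal.span {(i : R)} := by
      have e1 := Ideal.comap_map_eq_self_of_faithfullyFlat (B := R') p
      have e2 := Ideal.comap_map_eq_self_of_faithfullyFlat (B := R') (Ideal.span {(i : R)})
      rw [hy', hspan] at e1
      rw [Ideal.map_span, Set.image_singleton] at e2
      rw [← e1, ← e2]
    rw [hfinal]
    exact ⟨⟨_, rfl⟩⟩

end Groth.Agent.S17722
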