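import Groth.Statements.S17723
import Mathlib.Tactic
import Mathlib.Data.Nat.Prime.Basic
import Mathlib.RingTheory.Coprime.Lemmas
import Mathlib.RingTheory.Int.Basic
import Mathlib.Algebra.BigOperators.Ring.Nat

set_option autoImplicit false
universe u
open LabGraph

namespace Groth.Agent.S17723

/-- the elementary-Cartier functions -/
def elemSet {V E : Type u} (ends : E → V × V) (l : E → ℕ) : Set (V → ℤ) :=
  {g | ∃ n : ℕ, 0 < n ∧ (∀ v, (n : ℤ) ∣ g v) ∧ ∀ e, ¬ (l e ∣ n) → g (ends e).1 = g (ends e).2}

theorem main {V E : Type u} [Fintype V] [Fintype E] [DecidableEq V] [DecidableEq E]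
    (ends : E → V × V) : ∀ (k : ℕ) (l : E → ℕ), (∑ e, l e = k) → (∀ e, 0 < l e) →
    ∀ f : V → ℤ, LabGraph.IsCartier ends l f → f ∈ Submodule.span ℤ (elemSet ends l) := by
  intro k
  induction k using Nat.strong_induction_on with
  | _ k ih =>
  intro l hk hl f hf
  by_cases hall : ∀ e, l e = 1
  · apply Submodule.subset_span
    refine ⟨1, one_pos, fun v => by simp, fun e h => absurd (by rw [hall e]) h⟩
  push Not at hall
  obtain ⟨e₀, he₀⟩ := hall
  obtain ⟨p, hp, hpe⟩ := Nat.exists_prime_and_dvd he₀
  classical
  set M : ℕ := ∏ e ∈ Finset.univ.filter (fun e => ¬ p ∣ l e), l e with hM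
  have hMpos : 0 < M := Finset.prod_pos (fun e _ => hl e)
  have hMcop : Nat.Coprime M p := by
    apply Nat.Coprime.prod_left
    intro e he
    have : ¬ p ∣ l e := (Finset.mem_filter.mp he).2
    exact ((Nat.Prime.coprime_iff_not_dvd hp).mpr this).symm
  have hMdvd : ∀ e, ¬ p ∣ l e → l e ∣ M := fun e he =>
    Finset.dvd_prod_of_mem _ (Finset.mem_filter.mpr ⟨Finset.mem_univ e, he⟩)
  obtain ⟨a, b, hab⟩ : ∃ a b : ℤ, a * (M : ℤ) + b * (p : ℤ) = 1 :=
    (Nat.isCoprime_iff_coprime.mpr hMcop)
  set u : ℤ := a * M with hu
  -- the relation generated by edges with label divisible by p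
  let rel : V → V → Prop := fun v w => ∃ e, p ∣ l e ∧ (ends e).1 = v ∧ (ends e).2 = w
  let st : Setoid V := Relation.EqvGen.setoid rel
  let r : V → V := fun v => (Quotient.mk st v).out
  have hr : ∀ v, Relation.EqvGen rel (r v) v := fun v =>
    Quotient.exact (Quotient.out_eq (Quotient.mk st v))
  have hr_edge : ∀ e, p ∣ l e → r (ends e).1 = r (ends e).2 := fun e he =>
    congrArg Quotient.out (Quotient.sound (Relation.EqvGen.rel _ _ ⟨e, he, rfl, rfl⟩))
  have hmodp : ∀ v w, Relation.EqvGen rel v w → (p : ℤ) ∣ f v - f w := by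
    intro v w hvw
    induction hvw with
    | rel v w h =>
      obtain ⟨e, hpe', rfl, rfl⟩ := h
      exact dvd_trans (Int.natCast_dvd_natCast.mpr hpe') (hf e)
    | refl v => simp
    | symm v w _ ih' => rw [← neg_sub]; exact (dvd_neg.mpr ih')
    | trans v w x _ _ ih1 ih2 =>
      have : f v - f x = (f v - f w) + (f w - f x) := by ring
      rw [this]; exact dvd_add ih1 ih2
  let g0 : V → ℤ := fun v => u * f (r v)
  have hdiv : ∀ v, (p : ℤ) ∣ f v - g0 v := by
    intro v
    have h1 : f v - g0 v = (f v - f (r v)) + (b * p) * f (r v) := by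
      change f v - u * f (r v) = _
      have : (1 : ℤ) - u = b * p := by rw [hu]; linarith
      linear_combination (f (r v)) * this
    rw [h1]
    apply dvd_add
    · rw [← neg_sub]; exact dvd_neg.mpr (hmodp _ _ (hr v))
    · exact Dvd.dvd.mul_right (Dvd.intro_left b rfl) _
  let f1 : V → ℤ := fun v => (f v - g0 v) / p
  have hf1 : ∀ v, f v = g0 v + p * f1 v := by
    intro v
    have := Int.mul_ediv_cancel' (hdiv v)
    change f v = g0 v + p * ((f v - g0 v) / p)
    rw [this]; ring
  let l' : E → ℕ := fun e => if p ∣ l e then l e / p else l e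
  have hl' : ∀ e, 0 < l' e := by
    intro e
    by_cases h : p ∣ l e
    · simp only [l', if_pos h]
      exact Nat.div_pos (Nat.le_of_dvd (hl e) h) hp.pos
    · simp only [l', if_neg h]; exact hl e
  have hle : ∀ e, l' e ≤ l e := by
    intro e
    by_cases h : p ∣ l e
    · simp only [l', if_pos h]; exact Nat.div_le_self _ _
    · simp only [l', if_neg h]; exact le_refl _
  have hlt : ∑ e, l' e < k := by
    rw [← hk]
    apply Finset.sum_lt_sum (fun e _ => hle e)
    refine ⟨e₀, Finset.mem_univ _, ?_⟩
    simp only [l', if_pos hpe]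
    exact Nat.div_lt_self (hl e₀) hp.one_lt
  have hp0 : (p : ℤ) ≠ 0 := by exact_mod_cast hp.ne_zero
  have hcart' : LabGraph.IsCartier ends l' f1 := by
    intro e
    have hΔ : (p : ℤ) * (f1 (ends e).1 - f1 (ends e).2) =
        (f (ends e).1 - f (ends e).2) - (g0 (ends e).1 - g0 (ends e).2) := by
      rw [hf1 (ends e).1, hf1 (ends e).2]; ring
    by_cases h : p ∣ l e
    · simp only [l', if_pos h]
      have hg : g0 (ends e).1 - g0 (ends e).2 = 0 := by
        change u * f (r (ends e).1) - u * f (r (ends e).2) = 0
        rw [hr_edge e h]; ring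
      rw [hg, sub_zero] at hΔ
      have h2 : ((p * (l e / p) : ℕ) : ℤ) ∣ (p : ℤ) * (f1 (ends e).1 - f1 (ends e).2) := by
        rw [Nat.mul_div_cancel' h, hΔ]; exact hf e
      push_cast at h2
      exact Int.dvd_of_mul_dvd_mul_left hp0 h2
    · simp only [l', if_neg h]
      have h2 : (l e : ℤ) ∣ (p : ℤ) * (f1 (ends e).1 - f1 (ends e).2) := by
        rw [hΔ]
        apply dvd_sub (hf e)
        change (l e : ℤ) ∣ u * f (r (ends e).1) - u * f (r (ends e).2)
        have : (l e : ℤ) ∣ u := by
          rw [hu]
          exact Dvd.dvd.mul_left (Int.natCast_dvd_natCast.mpr (hMdvd e h)) _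
        exact dvd_sub (Dvd.dvd.mul_right this _) (Dvd.dvd.mul_right this _)
      have hc : IsCoprime (l e : ℤ) (p : ℤ) :=
        Nat.isCoprime_iff_coprime.mpr ((Nat.Prime.coprime_iff_not_dvd hp).mpr h).symm
      exact hc.dvd_of_dvd_mul_left h2
  have hIH := ih (∑ e, l' e) hlt l' rfl hl' f1 hcart'
  -- p times the span for l' lies in the span for l
  have hpS : ∀ g ∈ Submodule.span ℤ (elemSet ends l'), (p : ℤ) • g ∈
      Submodule.span ℤ (elemSet ends l) := by
    intro g hg
    induction hg using Submodule.span_induction with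
    | mem g hg =>
      obtain ⟨n', hn', hdvd', hconst'⟩ := hg
      apply Submodule.subset_span
      refine ⟨p * n', Nat.mul_pos hp.pos hn', fun v => ?_, fun e he => ?_⟩
      · push_cast
        change (p : ℤ) * (n' : ℤ) ∣ (p : ℤ) * g v
        exact mul_dvd_mul_left _ (hdvd' v)
      · have : ¬ l' e ∣ n' := by
          intro hdiv'
          apply he
          by_cases h : p ∣ l e
          · simp only [l', if_pos h] at hdiv'
            rw [← Nat.mul_div_cancel' h]
            exact Nat.mul_dvd_mul_left p hdiv'
          · simp only [l', if_neg h] at hdiv'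
            exact Dvd.dvd.mul_left hdiv' p
        have := hconst' e this
        change (p : ℤ) * g (ends e).1 = (p : ℤ) * g (ends e).2
        rw [this]
    | zero => rw [smul_zero]; exact Submodule.zero_mem _
    | add x y _ _ hx hy => rw [smul_add]; exact Submodule.add_mem _ hx hy
    | smul c x _ hx => rw [smul_comm]; exact Submodule.smul_mem _ c hx
  have hg0 : g0 ∈ Submodule.span ℤ (elemSet ends l) := by
    apply Submodule.subset_span
    refine ⟨M, hMpos, fun v => ?_, fun e he => ?_⟩
    · change (M : ℤ) ∣ u * f (r v)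
      rw [hu]
      exact Dvd.dvd.mul_right (Dvd.intro_left a rfl) _
    · have : p ∣ l e := by
        by_contra h
        exact he (hMdvd e h)
      change u * f (r (ends e).1) = u * f (r (ends e).2)
      rw [hr_edge e this]
  have : f = g0 + (p : ℤ) • f1 := by
    funext v
    rw [hf1 v]; rfl
  rw [this]
  exact Submodule.add_mem _ hg0 (hpS f1 hIH)


/-- Let G be a finite connected multigraph with endpoint map ends and edge labels l taking positive
integer values. We say g : V → ℤ is elementary-Cartier if, for some integer n ≥ 1, all values of g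
are multiples of n and, for each edge whose label fails to divide n, g agrees at its two endpoints
(equivalently, once the edges with label dividing n are removed, g takes a single value on each
connected piece of what remains). Then every Cartier function f (for each edge, the label divides
the difference of the values of f at its endpoints) lies in the ℤ-span of the elementary-Cartier
functions. -/
theorem result
    {V E : Type u} [Fintype V] [Fintype E] [DecidableEq V] [DecidableEq E]
    (ends : E → V × V) (l : E → ℕ) (hl : ∀ e, 0 < l e) (hconn : LabGraph.Connected ends)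
    (f : V → ℤ) (hf : LabGraph.IsCartier ends l f) :
    f ∈ Submodule.span ℤ {g : V → ℤ | ∃ n : ℕ, 0 < n ∧ (∀ v, (n : ℤ) ∣ g v) ∧
      ∀ e, ¬ (l e ∣ n) → g (ends e).1 = g (ends e).2} := by
  exact main ends _ l rfl hl f hf

end Groth.Agent.S17723
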