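import Groth.Statements.S17724
-- import your own Groth.Agent.* helpers here
import Groth.Agent.Lib.Helper72.GraphCycE
open Groth.Agent.Lib.Helper72.GraphCyc

set_option autoImplicit false
universe u v
open LabGraph

namespace Groth.Agent.S17724

/-- Let G be a finite connected multigraph with endpoint map ends, whose edges carry labels lab in a set
L and positive integer labels n, and suppose the L-labels are constant along every circuit. Say g :
V → ℤ is pre-achievable when for some finite set B of edges all carrying the same L-label, g takes
equal values at the two endpoints of every edge outside B (so g is constant on the connected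
components of the graph with B deleted); say g is Cartier when for every edge e the integer n(e)
divides the difference of the values of g at its endpoints. Then every Cartier function f is a
finite sum of functions each of which is Cartier and pre-achievable, and when f vanishes at a vertex
v₀ the summands can all be taken to vanish at v₀. -/
theorem result
    {V E : Type u} [Fintype V] [Fintype E] [DecidableEq V] [DecidableEq E] {L : Type v}
    (ends : E → V × V) (lab : E → L) (n : E → ℕ) (hn : ∀ e, 0 < n e)
    (hconn : LabGraph.Connected ends)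
    (hcirc : ∀ C : Finset E, LabGraph.IsCircuit ends C → ∀ e ∈ C, ∀ e' ∈ C, lab e = lab e')
    (f : V → ℤ) (hf : LabGraph.IsCartier ends n f) :
    f ∈ AddSubmonoid.closure {g : V → ℤ | LabGraph.IsCartier ends n g ∧ (∃ B : Finset E, (∀ e ∈ B, ∀ e' ∈ B, lab e = lab e') ∧ ∀ e, e ∉ B → g (ends e).1 = g (ends e).2)} ∧
    ∀ v₀ : V, f v₀ = 0 →
      f ∈ AddSubmonoid.closure {g : V → ℤ | LabGraph.IsCartier ends n g ∧ (∃ B : Finset E, (∀ e ∈ B, ∀ e' ∈ B, lab e = lab e') ∧ ∀ e, e ∉ B → g (ends e).1 = g (ends e).2) ∧ g v₀ = 0} := by
  classical
  -- membership of the coloured parts and of constants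
  have hmem : ∀ (v₀ : V) (F : L → V → ℤ), (∀ lam, F lam v₀ = 0) →
      (∀ lam e, cob ends (F lam) e = if lab e = lam then cob ends f e else 0) → ∀ lam,
      (LabGraph.IsCartier ends n (F lam) ∧ (∃ B : Finset E, (∀ e ∈ B, ∀ e' ∈ B, lab e = lab e') ∧
        ∀ e, e ∉ B → F lam (ends e).1 = F lam (ends e).2) ∧ F lam v₀ = 0) := by
    intro v₀ F hF0 hF lam
    refine ⟨?_, ⟨Finset.univ.filter fun e => lab e = lam, ?_, ?_⟩, hF0 lam⟩
    · intro e
      have h1 := hF lam e
      have h2 := hf e
      simp only [cob] at h1
      by_cases hl : lab e = lam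
      · rw [if_pos hl] at h1
        have : F lam (ends e).1 - F lam (ends e).2 = f (ends e).1 - f (ends e).2 := by linarith
        rw [this]; exact h2
      · rw [if_neg hl] at h1
        have : F lam (ends e).1 - F lam (ends e).2 = 0 := by linarith
        rw [this]; exact dvd_zero _
    · intro e he e' he'
      rw [(Finset.mem_filter.1 he).2, (Finset.mem_filter.1 he').2]
    · intro e he
      have h1 := hF lam e
      have hl : ¬ lab e = lam := fun h => he (Finset.mem_filter.2 ⟨Finset.mem_univ _, h⟩)
      rw [if_neg hl] at h1
      simp only [cob] at h1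
      linarith
  constructor
  · obtain ⟨v₀⟩ := hconn.1
    obtain ⟨Λ, F, hF0, hF, hsum⟩ := exists_decomposition ends hconn lab hcirc f v₀
    rw [hsum]
    refine AddSubmonoid.add_mem _ (AddSubmonoid.sum_mem _ fun lam _ => ?_) ?_
    · have := hmem v₀ F hF0 hF lam
      exact AddSubmonoid.subset_closure ⟨this.1, this.2.1⟩
    · refine AddSubmonoid.subset_closure ⟨fun e => by simp, ∅, ?_, fun e _ => rfl⟩
      intro e he; exact absurd he (Finset.notMem_empty e)
  · intro v₀ hv₀
    obtain ⟨Λ, F, hF0, hF, hsum⟩ := exists_decomposition ends hconn lab hcirc f v₀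
    have hsum' : f = ∑ lam ∈ Λ, F lam := by
      rw [hsum]
      funext v
      simp [hv₀]
    rw [hsum']
    refine AddSubmonoid.sum_mem _ fun lam _ => ?_
    exact AddSubmonoid.subset_closure (hmem v₀ F hF0 hF lam)

end Groth.Agent.S17724
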