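import Groth.Statements.S17725
-- import your own Groth.Agent.* helpers here

set_option autoImplicit false
universe u
open SpecSp

namespace Groth.Agent.S17725

section topo
open TopologicalSpace

variable {α : Type*} [TopologicalSpace α]

/-- In a Noetherian space, a set which contains every irreducible component it meets is closed. -/
lemma isClosed_of_saturated [NoetherianSpace α] (T : Set α)
    (h : ∀ Z ∈ irreducibleComponents α, (Z ∩ T).Nonempty → Z ⊆ T) : IsClosed T := by
  have hfin : (irreducibleComponents α).Finite := NoetherianSpace.finite_irreducibleComponents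
  have hT : T = ⋃ Z ∈ {Z | Z ∈ irreducibleComponents α ∧ Z ⊆ T}, Z := by
    ext x
    simp only [Set.mem_iUnion, Set.mem_ofPred_eq, exists_prop]
    constructor
    · intro hx
      refine ⟨irreducibleComponent x, ⟨irreducibleComponent_mem_irreducibleComponents x, ?_⟩,
        mem_irreducibleComponent⟩
      exact h _ (irreducibleComponent_mem_irreducibleComponents x) ⟨x, mem_irreducibleComponent, hx⟩
    · rintro ⟨Z, ⟨_, hZT⟩, hxZ⟩
      exact hZT hxZ
  rw [hT]
  exact (hfin.subset (fun Z hZ => hZ.1)).isClosed_biUnion
    (fun Z hZ => isClosed_of_mem_irreducibleComponents Z hZ.1)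

lemma eqvGen_of_mem_irreducibleComponent [QuasiSober α] (Z : Set α)
    (hZ : Z ∈ irreducibleComponents α) {x y : α} (hx : x ∈ Z) (hy : y ∈ Z) :
    Relation.EqvGen (fun x y : α => x ⤳ y) x y := by
  have hirr : IsIrreducible Z := hZ.1
  have hcl : IsClosed Z := isClosed_of_mem_irreducibleComponents Z hZ
  have hgen := hirr.isGenericPoint_genericPoint hcl
  have h1 : hirr.genericPoint ⤳ x := hgen.specializes hx
  have h2 : hirr.genericPoint ⤳ y := hgen.specializes hy
  exact Relation.EqvGen.trans _ _ _ (Relation.EqvGen.symm _ _ (Relation.EqvGen.rel _ _ h1))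
    (Relation.EqvGen.rel _ _ h2)

lemma eqvGen_specializes [NoetherianSpace α] [QuasiSober α] [ConnectedSpace α] (p q : α) :
    Relation.EqvGen (fun x y : α => x ⤳ y) p q := by
  set C : Set α := {x | Relation.EqvGen (fun x y : α => x ⤳ y) p x} with hC
  have hclosed : IsClosed C := by
    apply isClosed_of_saturated
    rintro Z hZ ⟨x, hxZ, hxC⟩ y hyZ
    exact Relation.EqvGen.trans _ _ _ hxC (eqvGen_of_mem_irreducibleComponent Z hZ hxZ hyZ)
  have hopen : IsClosed Cᶜ := by
    apply isClosed_of_saturated
    rintro Z hZ ⟨x, hxZ, hxC⟩ y hyZ hyC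
    exact hxC (Relation.EqvGen.trans _ _ _ hyC (eqvGen_of_mem_irreducibleComponent Z hZ hyZ hxZ))
  have hclopen : IsClopen C := ⟨hclosed, by simpa using hopen.isOpen_compl⟩
  have huniv : C = Set.univ := hclopen.eq_univ ⟨p, Relation.EqvGen.refl p⟩
  have : q ∈ C := huniv ▸ Set.mem_univ q
  exact this

end topo

open AlgebraicGeometry in
/-- In a connected Noetherian scheme any two points p, q are linked by a finite chain of points p = x₁,
…, xₙ = q such that for each i one of x_i, x_{i+1} is a specialization of the other; equivalently, p
and q are related by the equivalence relation generated by the specialization relation. -/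
theorem result
    (X : Scheme.{u}) [IsNoetherian X] [ConnectedSpace X] (p q : X) :
    Relation.EqvGen (fun x y : X => x ⤳ y) p q := by
  exact eqvGen_specializes p q

end Groth.Agent.S17725
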