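import Groth.Statements.S17726
import Mathlib.RingTheory.Ideal.Operations
-- import your own Groth.Agent.* helpers here

set_option autoImplicit false
universe u
open CAlg

namespace Groth.Agent.S17726

/-- A non-unit non-zero-divisor has pairwise non-associated powers. -/
lemma pow_eq_of_span_eq {A : Type u} [CommRing A] (f : A) (hf : f ∈ nonZeroDivisors A)
    (hu : ¬ IsUnit f) (a b : ℕ) (h : Ideal.span {f ^ a} = Ideal.span {f ^ b}) : a = b := by
  -- wlog a ≤ b
  have key : ∀ a b : ℕ, a < b → Ideal.span {f ^ a} = Ideal.span {f ^ b} → False := by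
    intro a b hab h
    have hmem : f ^ a ∈ Ideal.span {f ^ b} := h ▸ Ideal.subset_span rfl
    obtain ⟨c, hc⟩ := Ideal.mem_span_singleton'.mp hmem
    obtain ⟨k, rfl⟩ := Nat.exists_eq_add_of_lt hab
    -- f^a = c * f^(a+k+1) = f^a * (c * f^(k+1))
    have h1 : f ^ a * (c * f ^ (k + 1) - 1) = 0 := by
      have : c * f ^ (a + k + 1) = f ^ a * (c * f ^ (k + 1)) := by ring
      rw [this] at hc
      rw [mul_sub, hc, mul_one, sub_self]
    have hfa : f ^ a ∈ nonZeroDivisors A := pow_mem hf a
    have h2 : c * f ^ (k + 1) - 1 = 0 := by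
      have := (mem_nonZeroDivisors_iff.mp hfa).1 (c * f ^ (k + 1) - 1)
      apply this
      exact h1
    have h3 : f * (c * f ^ k) = 1 := by
      have : c * f ^ (k + 1) = 1 := sub_eq_zero.mp h2
      rw [← this]; ring
    exact hu (IsUnit.of_mul_eq_one _ h3)
  rcases lt_trichotomy a b with hab | hab | hab
  · exact (key a b hab h).elim
  · exact hab
  · exact (key b a hab h.symm).elim

/-- Let f and g be non-zero-divisors of a commutative ring A, not both units; think of them as local
equations, at a point of the union of the supports, of two effective Cartier divisors E and D. If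
the ideals generated by g^{m₁} and f^{n₁} coincide, and likewise for g^{m₂} and f^{n₂}, then m₁ n₂ =
m₂ n₁. So all pairs (m, n) with m D = n E locally at the point are proportional, and the saturation
of the monoid they form is generated by a single element. -/
theorem result
    (A : Type u) [CommRing A] (f g : A)
    (hf : f ∈ nonZeroDivisors A) (hg : g ∈ nonZeroDivisors A) (hfg : ¬ (IsUnit f ∧ IsUnit g))
    (m₁ n₁ m₂ n₂ : ℕ)
    (h₁ : Ideal.span {g ^ m₁} = Ideal.span {f ^ n₁})
    (h₂ : Ideal.span {g ^ m₂} = Ideal.span {f ^ n₂}) :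
    m₁ * n₂ = m₂ * n₁ := by
  have hpow : ∀ (x y : A) (a b c : ℕ), Ideal.span {x ^ a} = Ideal.span {y ^ b} →
      Ideal.span {x ^ (a * c)} = Ideal.span {y ^ (b * c)} := by
    intro x y a b c h
    rw [pow_mul, pow_mul, ← Ideal.span_singleton_pow (x ^ a), ← Ideal.span_singleton_pow (y ^ b), h]
  by_cases hfu : IsUnit f
  · have hgu : ¬ IsUnit g := fun h => hfg ⟨hfu, h⟩
    -- (g^(m₁ n₂)) = (f^(n₁ n₂)) = (g^(m₂ n₁))
    have e1 := hpow g f m₁ n₁ n₂ h₁
    have e2 := hpow g f m₂ n₂ n₁ h₂
    rw [mul_comm n₂ n₁] at e2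
    exact pow_eq_of_span_eq g hg hgu _ _ (e1.trans e2.symm)
  · -- (f^(n₁ m₂)) = (g^(m₁ m₂)) = (f^(n₂ m₁))
    have e1 := hpow g f m₁ n₁ m₂ h₁
    have e2 := hpow g f m₂ n₂ m₁ h₂
    rw [mul_comm m₂ m₁] at e2
    have := pow_eq_of_span_eq f hf hfu _ _ (e1.symm.trans e2)
    rw [mul_comm m₁ n₂, mul_comm m₂ n₁]
    exact this.symm

end Groth.Agent.S17726
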