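import Groth.Statements.S17727
import Mathlib
-- import your own Groth.Agent.* helpers here

set_option autoImplicit false
universe u
open Neron

namespace Groth.Agent.S17727
open CategoryTheory AlgebraicGeometry Limits TopologicalSpace Topology Opposite


lemma inj_transfer (X : Scheme.{u}) {A B A' B' : X.Opens} (hA : A = A') (hB : B = B')
    (h : A ≤ B) (h' : A' ≤ B')
    (hinj : Function.Injective (X.presheaf.map (homOfLE h).op)) :
    Function.Injective (X.presheaf.map (homOfLE h').op) := by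
  subst hA hB; exact hinj

/-- two morphisms from an open `W₁` of `E` to an affine scheme that agree on a schematically dense open
agree -/
lemma eq_of_dense {E T : Scheme.{u}} [IsAffine T] (D W₁ : E.Opens) (hD : CInt.IsSchematicallyDense D)
    (m₁ m₂ : W₁.toScheme ⟶ T)
    (h : E.homOfLE (inf_le_left : W₁ ⊓ D ≤ W₁) ≫ m₁ = E.homOfLE (inf_le_left : W₁ ⊓ D ≤ W₁) ≫ m₂) :
    m₁ = m₂ := by
  apply ext_of_isAffine
  have h1 := congrArg Scheme.Hom.appTop h
  rw [Scheme.Hom.comp_appTop, Scheme.Hom.comp_appTop] at h1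
  have hinj : Function.Injective (E.homOfLE (inf_le_left : W₁ ⊓ D ≤ W₁)).appTop := by
    rw [Scheme.homOfLE_appTop]
    exact inj_transfer E (by simp) (by simp) _ _ (hD W₁)
  ext x
  apply hinj
  have := congrArg (fun φ => φ.hom x) h1
  simpa using this


/-- `f ≫ σ` is the identity on `f⁻¹U` -/
lemma comp_section_eq {E S : Scheme.{u}} (f : E ⟶ S) (U : S.Opens)
    (hiso : IsIso (morphismRestrict f U)) (σ : S ⟶ E) (hσ : σ ≫ f = 𝟙 S) :
    (f ⁻¹ᵁ U).ι ≫ f ≫ σ = (f ⁻¹ᵁ U).ι := by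
  have hr : (f ∣_ U) ≫ U.ι = (f ⁻¹ᵁ U).ι ≫ f := morphismRestrict_ι f U
  have hrange : Set.range (U.ι ≫ σ) ⊆ Set.range (f ⁻¹ᵁ U).ι := by
    rintro _ ⟨u, rfl⟩
    rw [Scheme.Opens.range_ι]
    show f ((U.ι ≫ σ) u) ∈ U
    rw [← Scheme.Hom.comp_apply, Category.assoc, hσ, Category.comp_id]
    exact u.2
  let σU : U.toScheme ⟶ (f ⁻¹ᵁ U).toScheme := IsOpenImmersion.lift (f ⁻¹ᵁ U).ι (U.ι ≫ σ) hrange
  have hσU : σU ≫ (f ⁻¹ᵁ U).ι = U.ι ≫ σ := IsOpenImmersion.lift_fac _ _ _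
  have h1 : σU ≫ (f ∣_ U) = 𝟙 _ := by
    rw [← cancel_mono U.ι, Category.assoc, hr, ← Category.assoc, hσU, Category.assoc, hσ]
    simp
  have h2 : (f ∣_ U) ≫ σU = 𝟙 _ := by
    rw [← cancel_mono (f ∣_ U), Category.assoc, h1]
    simp
  calc (f ⁻¹ᵁ U).ι ≫ f ≫ σ = ((f ∣_ U) ≫ U.ι) ≫ σ := by rw [hr, Category.assoc]
    _ = (f ∣_ U) ≫ σU ≫ (f ⁻¹ᵁ U).ι := by rw [Category.assoc, hσU]
    _ = (f ⁻¹ᵁ U).ι := by rw [← Category.assoc, h2, Category.id_comp]


open CategoryTheory AlgebraicGeometry in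
/-- Let f : E → S be a morphism of schemes and U ⊆ S a schematically dense open subscheme such that f
restricts to an isomorphism over U and the preimage of U is schematically dense in E. Then for every
section σ of f and every point s of S there is an open neighbourhood W of σ(s) in E on which f
restricts to an open immersion. (The published statements conclude that the section lands in the
étale locus of f, in one published form for an algebraic space E, in another for f locally of finite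
type over a Noetherian base; the affine-local argument gives the sharper conclusion recorded here,
for schemes.) -/
theorem result
    {E S : Scheme.{u}} (f : E ⟶ S) (U : S.Opens) (hU : CInt.IsSchematicallyDense U)
    (hiso : IsIso (morphismRestrict f U)) (hdense : CInt.IsSchematicallyDense (f ⁻¹ᵁ U))
    (σ : S ⟶ E) (hσ : σ ≫ f = 𝟙 S) (s : S) :
    ∃ W : E.Opens, σ.base s ∈ W ∧ IsOpenImmersion (W.ι ≫ f) := by
  set a : E ⟶ E := f ≫ σ with ha
  have hae : a (σ s) = σ s := by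
    rw [ha, ← Scheme.Hom.comp_apply, ← Category.assoc, hσ, Category.id_comp]
  obtain ⟨(W₀ : E.Opens), hW₀, heW₀, -⟩ := Opens.isBasis_iff_nbhd.mp E.isBasis_affineOpens
    (Opens.mem_top (σ s))
  set W₁ : E.Opens := W₀ ⊓ a ⁻¹ᵁ W₀ with hW₁
  have heW₁ : σ s ∈ W₁ := ⟨heW₀, by show a (σ s) ∈ W₀; rw [hae]; exact heW₀⟩
  haveI : IsAffine W₀ := hW₀
  let m₁ : W₁.toScheme ⟶ W₀.toScheme := E.homOfLE inf_le_left
  let m₂ : W₁.toScheme ⟶ W₀.toScheme := a.resLE W₀ W₁ inf_le_right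
  have hm₁ : m₁ ≫ W₀.ι = W₁.ι := E.homOfLE_ι _
  have hm₂ : m₂ ≫ W₀.ι = W₁.ι ≫ a := Scheme.Hom.resLE_comp_ι a _
  have hm : m₁ = m₂ := by
    apply eq_of_dense (f ⁻¹ᵁ U) W₁ hdense
    have hD : (W₁ ⊓ f ⁻¹ᵁ U).ι ≫ a = (W₁ ⊓ f ⁻¹ᵁ U).ι := by
      rw [← Scheme.homOfLE_ι E (inf_le_right : W₁ ⊓ f ⁻¹ᵁ U ≤ f ⁻¹ᵁ U), Category.assoc, ha,
        comp_section_eq f U hiso σ hσ]
    rw [← cancel_mono W₀.ι, Category.assoc, Category.assoc, hm₁, hm₂, ← Category.assoc,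
      Scheme.homOfLE_ι, hD]
  have hW₁a : W₁.ι ≫ a = W₁.ι := by rw [← hm₂, ← hm, hm₁]
  -- now shrink
  set V₂ : S.Opens := σ ⁻¹ᵁ W₁ with hV₂
  set W₂ : E.Opens := W₁ ⊓ f ⁻¹ᵁ V₂ with hW₂
  have hsV₂ : s ∈ V₂ := heW₁
  have heW₂ : σ s ∈ W₂ := by
    refine ⟨heW₁, ?_⟩
    show f (σ s) ∈ V₂
    rw [← Scheme.Hom.comp_apply, hσ]
    exact hsV₂
  refine ⟨W₂, heW₂, ?_⟩
  let p : W₂.toScheme ⟶ V₂.toScheme := f.resLE V₂ W₂ inf_le_right
  have hp : p ≫ V₂.ι = W₂.ι ≫ f := Scheme.Hom.resLE_comp_ι f _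
  have hrange : Set.range (V₂.ι ≫ σ) ⊆ Set.range W₂.ι := by
    rintro _ ⟨v, rfl⟩
    rw [Scheme.Opens.range_ι]
    refine ⟨v.2, ?_⟩
    show f ((V₂.ι ≫ σ) v) ∈ V₂
    rw [← Scheme.Hom.comp_apply, Category.assoc, hσ, Category.comp_id]
    exact v.2
  let q : V₂.toScheme ⟶ W₂.toScheme := IsOpenImmersion.lift W₂.ι (V₂.ι ≫ σ) hrange
  have hq : q ≫ W₂.ι = V₂.ι ≫ σ := IsOpenImmersion.lift_fac _ _ _
  have hW₂a : W₂.ι ≫ a = W₂.ι := by
    rw [← Scheme.homOfLE_ι E (inf_le_left : W₂ ≤ W₁), Category.assoc, hW₁a]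
  have hqp : q ≫ p = 𝟙 _ := by
    rw [← cancel_mono V₂.ι, Category.assoc, hp, ← Category.assoc, hq, Category.assoc, hσ]
    simp
  have hpq : p ≫ q = 𝟙 _ := by
    rw [← cancel_mono W₂.ι, Category.assoc, hq, ← Category.assoc, hp, Category.assoc, ← ha, hW₂a]
    simp
  haveI : IsIso p := ⟨q, hpq, hqp⟩
  rw [← hp]
  infer_instance

end Groth.Agent.S17727
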