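import Groth.Statements.S17730
import Groth.Agent.Lib.Helper37.Hz60

set_option autoImplicit false
universe u
open Hensel

namespace Groth.Agent.S17730

open IsLocalRing in
/-- Let R be a Noetherian local ring which is strictly henselian (henselian with separably closed
residue field), Δ a prime element of R, R' a smooth R-algebra, q a prime ideal of R' containing the
image of the maximal ideal of R, and T a strict henselization of the localization R'_q. Then the
image of Δ in T is a prime element of T. (This is the published statement, that a prime element of
the étale local ring of the base at a geometric point remains prime in the étale local ring of a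
smooth scheme over it at a geometric point above, written for the base the spectrum of R; the
published hypothesis that the base be smooth-factorial, meaning that all its smooth schemes are
locally factorial, is not used by the argument and is omitted; R is taken Noetherian, which the
published statement does not state and the argument requires.) -/
theorem result
    (R R' T : Type u) [CommRing R] [IsNoetherianRing R] [HenselianLocalRing R]
    [IsSepClosed (ResidueField R)]
    [CommRing R'] [Algebra R R'] [Algebra.Smooth R R']
    (q : Ideal R') [q.IsPrime] (hq : (maximalIdeal R).map (algebraMap R R') ≤ q)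
    [CommRing T] [IsLocalRing T] [Algebra (Localization.AtPrime q) T]
    [IsLocalHom (algebraMap (Localization.AtPrime q) T)]
    [Hensel.IsStrictHenselization (Localization.AtPrime q) T]
    (Δ : R) (hΔ : Prime Δ) :
    Prime (algebraMap (Localization.AtPrime q) T
      (algebraMap R' (Localization.AtPrime q) (algebraMap R R' Δ))) := by
  classical
  letI : Algebra R' T :=
    ((algebraMap (Localization.AtPrime q) T).comp (algebraMap R' (Localization.AtPrime q))).toAlgebra
  haveI : IsScalarTower R' (Localization.AtPrime q) T := IsScalarTower.of_algebraMap_eq' rfl
  letI : Algebra R T := ((algebraMap R' T).comp (algebraMap R R')).toAlgebra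
  haveI : IsScalarTower R R' T := IsScalarTower.of_algebraMap_eq' rfl
  have hloc : IsLocalHom (algebraMap R T) := by
    refine ((IsLocalRing.local_hom_TFAE _).out 2 0).mp ?_
    rw [Ideal.map_le_iff_le_comap]
    intro r hr
    rw [Ideal.mem_comap]
    change algebraMap (Localization.AtPrime q) _ (algebraMap R' (Localization.AtPrime q)
      (algebraMap R R' r)) ∈ _
    have h1 : algebraMap R R' r ∈ q := hq (Ideal.mem_map_of_mem _ hr)
    have h2 : algebraMap R' (Localization.AtPrime q) (algebraMap R R' r) ∈
        IsLocalRing.maximalIdeal (Localization.AtPrime q) := by
      rw [← Localization.AtPrime.map_eq_maximalIdeal]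
      exact Ideal.mem_map_of_mem _ h1
    have h3 : IsLocalHom (algebraMap (Localization.AtPrime q) T) := inferInstance
    have h4 : (IsLocalRing.maximalIdeal (Localization.AtPrime q)).map
        (algebraMap (Localization.AtPrime q) T) ≤ IsLocalRing.maximalIdeal T :=
      ((IsLocalRing.local_hom_TFAE (algebraMap (Localization.AtPrime q) T)).out 0 2).mp h3
    exact h4 (Ideal.mem_map_of_mem _ h2)
  have hT := Groth.Agent.Lib.Helper37.Hz.SmoothBr.hasFactorization_of_isStrictHenselization_atPrime
    R' q T
  haveI hI : (Ideal.span {Δ}).IsPrime := (Ideal.span_singleton_prime hΔ.ne_zero).mpr hΔ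
  have hprime := Groth.Agent.Lib.Helper37.Hz.SmoothBr.isPrime_map_of_smooth_of_isSepClosed R R' T
    hloc hT (Ideal.span {Δ})
  rw [Ideal.map_span, Set.image_singleton] at hprime
  -- injectivity of `R → T`
  haveI : Module.FaithfullyFlat (Localization.AtPrime q) T :=
    Groth.Agent.Lib.Helper37.Hz.faithfullyFlat_of_isStrictHenselization _ _
  haveI : Module.Flat R' (Localization.AtPrime q) := IsLocalization.flat _ q.primeCompl
  haveI : Module.Flat R' T := Module.Flat.trans R' (Localization.AtPrime q) T
  haveI : Module.Flat R T := Module.Flat.trans R R' T
  haveI : IsLocalHom (algebraMap R T) := hloc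
  haveI : Module.FaithfullyFlat R T := Module.FaithfullyFlat.of_flat_of_isLocalHom
  have hne : algebraMap R T Δ ≠ 0 := by
    intro h
    exact hΔ.ne_zero ((FaithfulSMul.algebraMap_injective R T) (h.trans (map_zero _).symm))
  exact (Ideal.span_singleton_prime hne).mp hprime

end Groth.Agent.S17730
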