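import Groth.Statements.S17737
import Groth.Agent.S17720
import Groth.Agent.Lib.Helper63.CompletionNoeth
import Groth.Agent.Lib.Helper76.ArLefPS
import Groth.Agent.Lib.Helper76.PSCRing
import Groth.Agent.Lib.Helper76.ComplDense

set_option autoImplicit false
universe u
open DualGr

namespace Groth.Agent.S17737

open IsLocalRing in
/-- Let R be a Noetherian local ring, A a local ring with a ring map φ : R → A, and a, b two elements of
the maximal ideal of R such that A is formally a node over R both of thickness (a) and of thickness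
(b): the completion of A is isomorphic, compatibly with R, to R̂[[x,y]]/(xy − a) and also to
R̂[[x,y]]/(xy − b). Then aR = bR. (This is the uniqueness assertion: the element in a node
presentation is not unique but the principal ideal it generates is; it is stated for presentations
with the element taken in R, whose ideal in R is then determined.) -/
theorem result
    (R A : Type u) [CommRing R] [IsLocalRing R] [IsNoetherianRing R] [CommRing A] [IsLocalRing A]
    (φ : R →+* A) (a b : R) (ha : a ∈ maximalIdeal R) (hb : b ∈ maximalIdeal R)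
    (h₁ : DualGr.IsThickNode φ a) (h₂ : DualGr.IsThickNode φ b) :
    Ideal.span {a} = Ideal.span {b} := by
  classical
  obtain ⟨e₁, he₁⟩ := h₁
  obtain ⟨e₂, he₂⟩ := h₂
  haveI hN : IsNoetherianRing (Curv2.cpl R) :=
    Groth.Agent.Lib.Helper63.CompletionNoeth.isNoetherianRing_adicCompletion R _
  have hmR : maximalIdeal (Curv2.cpl R) = (maximalIdeal R).map (algebraMap R (Curv2.cpl R)) :=
    AdicCompletion.maximalIdeal_eq_map
  obtain ⟨θ, hθdef⟩ : ∃ θ : DualGr.nodeRing R a ≃+* DualGr.nodeRing R b, θ = e₁.symm.trans e₂ :=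
    ⟨_, rfl⟩
  have hθ : ∀ r : R, θ (Ideal.Quotient.mk _ (MvPowerSeries.C (algebraMap R (Curv2.cpl R) r))) =
      Ideal.Quotient.mk _ (MvPowerSeries.C (algebraMap R (Curv2.cpl R) r)) := by
    intro r
    rw [hθdef, RingEquiv.trans_apply, ← he₁ r, RingEquiv.symm_apply_apply, he₂ r]
  have hlin : ∀ c : Curv2.cpl R, θ (Ideal.Quotient.mk _ (MvPowerSeries.C c)) =
      Ideal.Quotient.mk _ (MvPowerSeries.C c) := by
    intro c
    obtain ⟨g, hg⟩ := Ideal.Quotient.mk_surjective
      (θ (Ideal.Quotient.mk _ (MvPowerSeries.C c)) -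
        Ideal.Quotient.mk (Ideal.span {(MvPowerSeries.X 0 * MvPowerSeries.X 1 -
          MvPowerSeries.C (algebraMap R (Curv2.cpl R) b) : MvPowerSeries (Fin 2) (Curv2.cpl R))})
          (MvPowerSeries.C c))
    have hgJ : g ∈ Ideal.span {(MvPowerSeries.X 0 * MvPowerSeries.X 1 -
          MvPowerSeries.C (algebraMap R (Curv2.cpl R) b) :
            MvPowerSeries (Fin 2) (Curv2.cpl R))} := by
      apply Groth.Agent.Lib.Helper76.ArLefPS.mem_of_forall_mem_sup_pow
      intro n
      obtain ⟨r, hr⟩ := Groth.Agent.Lib.Helper76.ComplDense.exists_of_sub_mem (maximalIdeal R)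
        (IsNoetherian.noetherian _) c n
      rw [← hmR] at hr
      have hof : AdicCompletion.of (maximalIdeal R) R r = algebraMap R (Curv2.cpl R) r := rfl
      rw [hof] at hr
      have hle : maximalIdeal (Curv2.cpl R) ^ n ≤ Ideal.comap
          ((θ : DualGr.nodeRing R a →+* DualGr.nodeRing R b).comp
            ((Ideal.Quotient.mk _).comp
              (MvPowerSeries.C : Curv2.cpl R →+* MvPowerSeries (Fin 2) (Curv2.cpl R))))
          ((maximalIdeal (MvPowerSeries (Fin 2) (Curv2.cpl R)) ^ n).map
            (Ideal.Quotient.mk (Ideal.span {(MvPowerSeries.X 0 * MvPowerSeries.X 1 -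
              MvPowerSeries.C (algebraMap R (Curv2.cpl R) b) :
                MvPowerSeries (Fin 2) (Curv2.cpl R))}))) := by
        rw [hmR, ← Ideal.map_pow, Ideal.map_le_iff_le_comap]
        intro m hm
        rw [Ideal.mem_comap, Ideal.mem_comap]
        show θ (Ideal.Quotient.mk _ (MvPowerSeries.C (algebraMap R (Curv2.cpl R) m))) ∈ _
        rw [hθ m]
        refine Ideal.mem_map_of_mem _
          (Groth.Agent.Lib.Helper76.PSCRing.C_mem_maximalIdeal_pow ?_)
        rw [hmR, ← Ideal.map_pow]
        exact Ideal.mem_map_of_mem _ hm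
      have h1 : θ (Ideal.Quotient.mk _ (MvPowerSeries.C (c - algebraMap R (Curv2.cpl R) r))) ∈
          (maximalIdeal (MvPowerSeries (Fin 2) (Curv2.cpl R)) ^ n).map
            (Ideal.Quotient.mk (Ideal.span {(MvPowerSeries.X 0 * MvPowerSeries.X 1 -
              MvPowerSeries.C (algebraMap R (Curv2.cpl R) b) :
                MvPowerSeries (Fin 2) (Curv2.cpl R))})) := hle hr
      have h2 : Ideal.Quotient.mk (Ideal.span {(MvPowerSeries.X 0 * MvPowerSeries.X 1 -
              MvPowerSeries.C (algebraMap R (Curv2.cpl R) b) :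
                MvPowerSeries (Fin 2) (Curv2.cpl R))})
            (MvPowerSeries.C (c - algebraMap R (Curv2.cpl R) r)) ∈
          (maximalIdeal (MvPowerSeries (Fin 2) (Curv2.cpl R)) ^ n).map
            (Ideal.Quotient.mk (Ideal.span {(MvPowerSeries.X 0 * MvPowerSeries.X 1 -
              MvPowerSeries.C (algebraMap R (Curv2.cpl R) b) :
                MvPowerSeries (Fin 2) (Curv2.cpl R))})) :=
        Ideal.mem_map_of_mem _ (Groth.Agent.Lib.Helper76.PSCRing.C_mem_maximalIdeal_pow hr)
      have h3 : Ideal.Quotient.mk _ g ∈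
          (maximalIdeal (MvPowerSeries (Fin 2) (Curv2.cpl R)) ^ n).map
            (Ideal.Quotient.mk (Ideal.span {(MvPowerSeries.X 0 * MvPowerSeries.X 1 -
              MvPowerSeries.C (algebraMap R (Curv2.cpl R) b) :
                MvPowerSeries (Fin 2) (Curv2.cpl R))})) := by
        rw [hg]
        have := Ideal.sub_mem _ h1 h2
        rw [map_sub, map_sub, map_sub, map_sub, hθ r] at this
        convert this using 1
        ring
      obtain ⟨g', hg', hgg'⟩ := (Ideal.mem_map_iff_of_surjective _
        Ideal.Quotient.mk_surjective).mp h3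
      have h4 : g - g' ∈ Ideal.span {(MvPowerSeries.X 0 * MvPowerSeries.X 1 -
              MvPowerSeries.C (algebraMap R (Curv2.cpl R) b) :
                MvPowerSeries (Fin 2) (Curv2.cpl R))} := by
        rw [← Ideal.Quotient.eq_zero_iff_mem, map_sub, hgg', sub_self]
      have h5 := Submodule.add_mem_sup h4 hg'
      rwa [sub_add_cancel] at h5
    have h0 : Ideal.Quotient.mk (Ideal.span {(MvPowerSeries.X 0 * MvPowerSeries.X 1 -
              MvPowerSeries.C (algebraMap R (Curv2.cpl R) b) :
                MvPowerSeries (Fin 2) (Curv2.cpl R))}) g = 0 :=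
      Ideal.Quotient.eq_zero_iff_mem.mpr hgJ
    rw [h0] at hg
    exact sub_eq_zero.mp hg.symm
  have hΘ : ∀ c : Curv2.cpl R, θ (algebraMap (Curv2.cpl R) (DualGr.nodeRing R a) c) =
      algebraMap (Curv2.cpl R) (DualGr.nodeRing R b) c := by
    intro c
    show θ (Ideal.Quotient.mk _ (algebraMap (Curv2.cpl R)
      (MvPowerSeries (Fin 2) (Curv2.cpl R)) c)) =
      Ideal.Quotient.mk _ (algebraMap (Curv2.cpl R) (MvPowerSeries (Fin 2) (Curv2.cpl R)) c)
    rw [MvPowerSeries.algebraMap_apply, Algebra.algebraMap_self, RingHom.id_apply]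
    exact hlin c
  have hspan := Groth.Agent.S17720.result (Curv2.cpl R) (algebraMap R (Curv2.cpl R) a)
    (algebraMap R (Curv2.cpl R) b)
    (by rw [hmR]; exact Ideal.mem_map_of_mem _ ha) (by rw [hmR]; exact Ideal.mem_map_of_mem _ hb)
    (AlgEquiv.ofRingEquiv (f := θ) hΘ)
  haveI : Module.FaithfullyFlat R (Curv2.cpl R) := Module.FaithfullyFlat.of_flat_of_isLocalHom
  have hdesc : ∀ x : R, (Ideal.span {algebraMap R (Curv2.cpl R) x}).comap
      (algebraMap R (Curv2.cpl R)) = Ideal.span {x} := by
    intro x
    have := Ideal.comap_map_eq_self_of_faithfullyFlat (B := Curv2.cpl R) (Ideal.span {x})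
    rwa [Ideal.map_span, Set.image_singleton] at this
  rw [← hdesc a, ← hdesc b, hspan]

end Groth.Agent.S17737
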