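import Groth.Statements.S17738
import Mathlib
import Groth.Agent.Lib.Helper22.ConnBC
-- import your own Groth.Agent.* helpers here

set_option autoImplicit false
universe u
open CategoryTheory AlgebraicGeometry
open QsChow

namespace Groth.Agent.S17738

section PRE
open TopologicalSpace Opposite TensorProduct

/-- gluing: an element of the function field lying in every local ring is a global section. -/
lemma exists_global (X : Scheme.{u}) [IsIntegral X] (a : X.functionField)
    (h : ∀ x : X, ∃ s : X.presheaf.stalk x, algebraMap (X.presheaf.stalk x) X.functionField s = a) :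
    ∃ t : Γ(X, ⊤), X.presheaf.germ ⊤ (genericPoint X) trivial t = a := by
  choose s hs using h
  have hex : ∀ x : X, ∃ (U : X.Opens) (hx : x ∈ U) (t : Γ(X, U)), X.presheaf.germ U x hx t = s x :=
    fun x => X.presheaf.germ_exist (s x)
  choose U hxU t ht using hex
  have hne : ∀ x, Nonempty (U x) := fun x => ⟨⟨x, hxU x⟩⟩
  have hgerm : ∀ x, X.germToFunctionField (U x) (t x) = a := by
    intro x
    rw [← Scheme.algebraMap_germ_eq_germToFunctionField X (hxU x), ht, hs]
  have hη : ∀ (V : X.Opens), (V : Set X).Nonempty → genericPoint X ∈ V := fun V hV =>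
    ((genericPoint_spec X).mem_open_set_iff V.isOpen).mpr (by simpa using hV)
  have hcompat : TopCat.Presheaf.IsCompatible X.presheaf U t := by
    intro x y
    have hmem : genericPoint X ∈ U x ⊓ U y := ⟨hη _ ⟨x, hxU x⟩, hη _ ⟨y, hxU y⟩⟩
    apply germ_injective_of_isIntegral X (genericPoint X) hmem
    rw [TopCat.Presheaf.germ_res_apply, TopCat.Presheaf.germ_res_apply]
    exact (hgerm x).trans (hgerm y).symm
  obtain ⟨g, hg, -⟩ := X.sheaf.existsUnique_gluing' U ⊤ (fun x => homOfLE le_top)
    (fun x _ => Opens.mem_iSup.mpr ⟨x, hxU x⟩) t hcompat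
  refine ⟨g, ?_⟩
  have x0 : X := genericPoint X
  rw [← hgerm x0, ← hg x0]
  exact (TopCat.Presheaf.germ_res_apply X.presheaf (homOfLE le_top) (genericPoint X)
    (hη _ ⟨x0, hxU x0⟩) g).symm

lemma exists_lift (k : Type u) [Field k] (X : Scheme.{u}) [IsIntegral X]
    (hX : Pi1.IsNormalScheme X)
    (c : k →+* Γ(X, ⊤)) (F : Type u) [Field F] [Algebra k F] [FiniteDimensional k F]
    (θ : F →+* X.functionField)
    (hθ : ∀ a : k, θ (algebraMap k F a) = X.presheaf.germ ⊤ (genericPoint X) trivial (c a)) :
    ∃ ψ : F →+* Γ(X, ⊤), ∀ a : k, ψ (algebraMap k F a) = c a := by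
  haveI : Nonempty (⊤ : X.Opens) := ⟨⟨genericPoint X, trivial⟩⟩
  have hinj : Function.Injective (X.presheaf.germ ⊤ (genericPoint X) trivial) :=
    germ_injective_of_isIntegral X (U := ⊤) (genericPoint X) trivial
  have key : ∀ y : F, ∃ t : Γ(X, ⊤), X.presheaf.germ ⊤ (genericPoint X) trivial t = θ y := by
    intro y
    apply exists_global
    intro x
    haveI := (hX x).2
    have hy : IsIntegral k y := Algebra.IsIntegral.isIntegral y
    obtain ⟨p, hp, hpy⟩ := hy
    have hint : IsIntegral (X.presheaf.stalk x) (θ y) := by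
      refine ⟨p.map ((X.presheaf.germ ⊤ x trivial).hom.comp c), hp.map _, ?_⟩
      rw [Polynomial.eval₂_map]
      have e : (algebraMap (X.presheaf.stalk x) X.functionField).comp
          ((X.presheaf.germ ⊤ x trivial).hom.comp c) = θ.comp (algebraMap k F) := by
        ext a
        show algebraMap (X.presheaf.stalk x) X.functionField (X.presheaf.germ ⊤ x trivial (c a)) = _
        rw [Scheme.algebraMap_germ_eq_germToFunctionField X (U := ⊤) (x := x) trivial]
        exact (hθ a).symm
      rw [e, ← Polynomial.hom_eval₂, hpy, map_zero]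
    exact IsIntegrallyClosed.isIntegral_iff.mp hint
  choose f hf using key
  refine ⟨{ toFun := f, map_one' := ?_, map_mul' := ?_, map_zero' := ?_, map_add' := ?_ }, ?_⟩
  · apply hinj; rw [hf, map_one, map_one]
  · intro a b; apply hinj; rw [hf, map_mul, map_mul, hf, hf]
  · apply hinj; rw [hf, map_zero, map_zero]
  · intro a b; apply hinj; rw [hf, map_add, map_add, hf, hf]
  · intro a
    apply hinj
    show X.presheaf.germ ⊤ (genericPoint X) trivial (f _) = _
    rw [hf, hθ]

lemma irreducible_of_fibre {X Y : Scheme.{u}} [IsIntegral X] (p : Y ⟶ X) [Flat p] [Surjective p]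
    (h : (p ⁻¹' {genericPoint X}).Subsingleton) : IrreducibleSpace Y := by
  obtain ⟨ξ, hξ⟩ := p.surjective (genericPoint X)
  have hall : ∀ y : Y, ξ ⤳ y := by
    intro y
    obtain ⟨y', hy', hpy'⟩ := Flat.generalizingMap p
      ((genericPoint_spec X).specializes (Set.mem_univ (p y)))
    have : y' = ξ := h hpy' hξ
    rwa [this] at hy'
  have huniv : closure {ξ} = (Set.univ : Set Y) := by
    apply Set.eq_univ_of_forall
    intro y
    exact (hall y).mem_closure
  exact { isPreirreducible_univ := by
            rw [← huniv]; exact isIrreducible_singleton.closure.isPreirreducible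
          toNonempty := ⟨ξ⟩ }

lemma finite_flat_surj (k : Type u) [Field k] (L : Type u) [Field L] [Algebra k L]
    [FiniteDimensional k L] :
    IsFinite (Spec.map (CommRingCat.ofHom (algebraMap k L))) ∧
    Flat (Spec.map (CommRingCat.ofHom (algebraMap k L))) ∧
    Surjective (Spec.map (CommRingCat.ofHom (algebraMap k L))) := by
  refine ⟨?_, ?_⟩
  · rw [IsFinite.SpecMap_iff]
    show (algebraMap k L).Finite
    rw [RingHom.finite_algebraMap]
    infer_instance
  · rw [flat_and_surjective_SpecMap_iff]
    show (algebraMap k L).FaithfullyFlat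
    rw [RingHom.faithfullyFlat_algebraMap_iff]
    infer_instance

lemma not_connected_T (k : Type u) [Field k] (X : Scheme.{u}) [X.Over (Spec (CommRingCat.of k))]
    [IsIntegral X] (L : Type u) [Field L] [Algebra k L] [FiniteDimensional k L]
    (hred : ¬ IrreducibleSpace ↥(Curv2.bc k X L)) :
    letI : (Spec (X.presheaf.stalk (genericPoint X))).Over (Spec (CommRingCat.of k)) :=
      ⟨X.fromSpecStalk (genericPoint X) ≫ (X ↘ Spec (CommRingCat.of k))⟩
    ¬ ConnectedSpace ↥(Curv2.bc k (Spec (X.presheaf.stalk (genericPoint X))) L) := by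
  letI : (Spec (X.presheaf.stalk (genericPoint X))).Over (Spec (CommRingCat.of k)) :=
      ⟨X.fromSpecStalk (genericPoint X) ≫ (X ↘ Spec (CommRingCat.of k))⟩
  intro hconn
  apply hred
  obtain ⟨hfin, hflat, hsurj⟩ := finite_flat_surj k L
  set j := X.fromSpecStalk (genericPoint X) with hj
  set f := X ↘ Spec (CommRingCat.of k) with hf
  set g := Spec.map (CommRingCat.ofHom (algebraMap k L)) with hg
  -- the scheme T_L is discrete
  let q : Limits.pullback (j ≫ f) g ⟶ Spec (X.presheaf.stalk (genericPoint X)) :=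
    Limits.pullback.fst (j ≫ f) g
  haveI : IsFinite q := inferInstanceAs (IsFinite (Limits.pullback.fst (j ≫ f) g))
  haveI : Subsingleton ↥(Spec (X.presheaf.stalk (genericPoint X))) := by
    show Subsingleton (PrimeSpectrum (X.functionField))
    infer_instance
  haveI hdisc : DiscreteTopology ↥(Limits.pullback (j ≫ f) g) := by
    rw [← isDiscrete_univ_iff]
    have h1 := q.isDiscrete_preimage_singleton (q (Classical.arbitrary _))
    have h2 : q ⁻¹' {q (Classical.arbitrary _)} = Set.univ := by
      apply Set.eq_univ_of_forall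
      intro t
      exact Subsingleton.elim _ _
    rwa [h2] at h1
  haveI hss : Subsingleton ↥(Limits.pullback (j ≫ f) g) := by
    haveI : PreconnectedSpace ↥(Limits.pullback (j ≫ f) g) := hconn.toPreconnectedSpace
    exact PreconnectedSpace.trivial_of_discrete
  let jL : Limits.pullback (j ≫ f) g ⟶ Limits.pullback f g :=
    Limits.pullback.map (j ≫ f) g f g j (𝟙 _) (𝟙 _) (by simp) (by simp)
  have hrange : Set.range jL = Limits.pullback.fst f g ⁻¹' Set.range j ∩
      Limits.pullback.snd f g ⁻¹' Set.range (𝟙 (Spec (CommRingCat.of L))) :=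
    Scheme.Pullback.range_map _ _ _ _ _ _ _ _ _
  haveI : Flat (Limits.pullback.fst f g) := inferInstance
  haveI : Surjective (Limits.pullback.fst f g) := inferInstance
  apply irreducible_of_fibre (Limits.pullback.fst f g)
  intro z1 hz1 z2 hz2
  have hmem : ∀ z, z ∈ Limits.pullback.fst f g ⁻¹' {genericPoint X} → z ∈ Set.range jL := by
    intro z hz
    rw [hrange]
    refine ⟨?_, ?_⟩
    · show Limits.pullback.fst f g z ∈ Set.range j
      rw [Set.mem_preimage, Set.mem_singleton_iff] at hz
      rw [hz]
      exact ⟨_, Scheme.fromSpecStalk_closedPoint⟩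
    · exact ⟨_, rfl⟩
  obtain ⟨t1, rfl⟩ := hmem z1 hz1
  obtain ⟨t2, rfl⟩ := hmem z2 hz2
  rw [Subsingleton.elim t1 t2]

open Groth.Agent.Lib.Helper22 in
theorem exists_algHom' (k : Type u) [Field k] (L : Type u) [Field L] [Algebra k L]
    [FiniteDimensional k L] [IsGalois k L]
    (T : Scheme.{u}) [T.Over (Spec (CommRingCat.of k))] [CompactSpace T] [QuasiSeparatedSpace T]
    [ConnectedSpace T] (hdisc : ¬ ConnectedSpace ↥(Curv2.bc k T L)) :
    letI : Algebra k Γ(T, ⊤) :=
      ((Scheme.ΓSpecIso (CommRingCat.of k)).inv ≫ (T ↘ Spec (CommRingCat.of k)).appTop).hom.toAlgebra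
    ∃ F : IntermediateField k L, F ≠ ⊥ ∧ Nonempty (F →ₐ[k] Γ(T, ⊤)) := by
  letI : Algebra k Γ(T, ⊤) :=
    ((Scheme.ΓSpecIso (CommRingCat.of k)).inv ≫ (T ↘ Spec (CommRingCat.of k)).appTop).hom.toAlgebra
  obtain ⟨eqv⟩ := ConnBC.exists_ringEquiv k L T
  haveI : Nontrivial Γ(T, ⊤) := by
    haveI : Nonempty (⊤ : T.Opens) := ⟨⟨Classical.arbitrary T, trivial⟩⟩
    exact Scheme.component_nontrivial T ⊤
  have hinj := GalIdem.tmul_one_injective (k := k) (L := L) (A := Γ(T, ⊤))
  haveI : Nonempty ↥(Curv2.bc k T L) := by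
    rcases isEmpty_or_nonempty ↥(Curv2.bc k T L) with h | h
    · exfalso
      haveI : Subsingleton (Γ(T, ⊤) ⊗[k] L) := eqv.injective.subsingleton
      have h01 : (0 : Γ(T, ⊤)) = 1 := hinj (Subsingleton.elim _ _)
      exact zero_ne_one h01
    · exact h
  obtain ⟨e, he, he0, he1⟩ := ConnIdem.exists_idem_of_not_connected (Curv2.bc k T L) hdisc
  have he' : IsIdempotentElem (eqv.symm e) := by
    unfold IsIdempotentElem
    rw [← map_mul, he.eq]
  have he0' : eqv.symm e ≠ 0 := fun h => he0 (by rw [← eqv.apply_symm_apply e, h, map_zero])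
  have he1' : eqv.symm e ≠ 1 := fun h => he1 (by rw [← eqv.apply_symm_apply e, h, map_one])
  exact GalIdem.exists_algHom
    (fun a ha => ConnIdem.idem_of_connected T a ha) (eqv.symm e) he' he0' he1'

theorem main (k : Type u) [Field k] (X : Scheme.{u}) [X.Over (Spec (CommRingCat.of k))]
    [IrreducibleSpace X] (hX : Pi1.IsNormalScheme X)
    (L : Type u) [Field L] [Algebra k L] [FiniteDimensional k L] [IsGalois k L]
    (hred : ¬ IrreducibleSpace ↥(Curv2.bc k X L)) :
    ∃ F : IntermediateField k L, F ≠ ⊥ ∧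
      ∃ g : X ⟶ Spec (CommRingCat.of F),
        g ≫ Spec.map (CommRingCat.ofHom (algebraMap k F)) = X ↘ Spec (CommRingCat.of k) := by
  haveI : ∀ x : X, _root_.IsReduced (X.presheaf.stalk x) := fun x => by
    haveI := (hX x).1; infer_instance
  haveI : IsReduced X := isReduced_of_isReduced_stalk X
  haveI : IsIntegral X := isIntegral_of_irreducibleSpace_of_isReduced X
  letI : (Spec (X.presheaf.stalk (genericPoint X))).Over (Spec (CommRingCat.of k)) :=
      ⟨X.fromSpecStalk (genericPoint X) ≫ (X ↘ Spec (CommRingCat.of k))⟩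
  have hT := not_connected_T k X L hred
  haveI : ConnectedSpace ↥(Spec (X.presheaf.stalk (genericPoint X))) := by
    haveI : Subsingleton ↥(Spec (X.presheaf.stalk (genericPoint X))) := by
      show Subsingleton (PrimeSpectrum (X.functionField))
      infer_instance
    haveI : Nonempty ↥(Spec (X.presheaf.stalk (genericPoint X))) := by
      show Nonempty (PrimeSpectrum (X.functionField))
      infer_instance
    infer_instance
  letI : Algebra k Γ(Spec (X.presheaf.stalk (genericPoint X)), ⊤) :=
    ((Scheme.ΓSpecIso (CommRingCat.of k)).inv ≫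
      ((Spec (X.presheaf.stalk (genericPoint X))) ↘ Spec (CommRingCat.of k)).appTop).hom.toAlgebra
  obtain ⟨F, hF, ⟨φ⟩⟩ := exists_algHom' k L (Spec (X.presheaf.stalk (genericPoint X))) hT
  refine ⟨F, hF, ?_⟩
  let c : k →+* Γ(X, ⊤) :=
    ((Scheme.ΓSpecIso (CommRingCat.of k)).inv ≫ (X ↘ Spec (CommRingCat.of k)).appTop).hom
  let θ : F →+* X.functionField :=
    (Scheme.ΓSpecIso (X.presheaf.stalk (genericPoint X))).hom.hom.comp φ.toRingHom
  have hθ : ∀ a : k, θ (algebraMap k F a) = X.presheaf.germ ⊤ (genericPoint X) trivial (c a) := by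
    intro a
    show (Scheme.ΓSpecIso (X.presheaf.stalk (genericPoint X))).hom.hom (φ (algebraMap k F a)) = _
    rw [φ.commutes]
    show (Scheme.ΓSpecIso (X.presheaf.stalk (genericPoint X))).hom.hom
      ((X.fromSpecStalk (genericPoint X) ≫ (X ↘ Spec (CommRingCat.of k))).appTop.hom
        ((Scheme.ΓSpecIso (CommRingCat.of k)).inv.hom a)) = _
    have hj : (X.fromSpecStalk (genericPoint X)).appTop ≫
        (Scheme.ΓSpecIso (X.presheaf.stalk (genericPoint X))).hom =
        X.presheaf.germ ⊤ (genericPoint X) trivial := by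
      rw [Scheme.fromSpecStalk_appTop]
      simp
    rw [Scheme.Hom.comp_appTop]
    show ((X ↘ Spec (CommRingCat.of k)).appTop ≫ (X.fromSpecStalk (genericPoint X)).appTop ≫
        (Scheme.ΓSpecIso (X.presheaf.stalk (genericPoint X))).hom).hom
        ((Scheme.ΓSpecIso (CommRingCat.of k)).inv.hom a) = _
    rw [hj]
    rfl
  obtain ⟨ψ, hψ⟩ := exists_lift k X hX c F θ hθ
  refine ⟨X.toSpecΓ ≫ Spec.map (CommRingCat.ofHom ψ), ?_⟩
  rw [Category.assoc, ← Spec.map_comp]
  have h1 : CommRingCat.ofHom (algebraMap k F) ≫ CommRingCat.ofHom ψ =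
      (Scheme.ΓSpecIso (CommRingCat.of k)).inv ≫ (X ↘ Spec (CommRingCat.of k)).appTop := by
    ext a
    exact hψ a
  rw [h1, Spec.map_comp, ← Scheme.toSpecΓ_naturality_assoc, toSpecΓ_SpecMap_ΓSpecIso_inv,
    Category.comp_id]

end PRE

/-- Take a field k and an irreducible normal k-variety X (a separated scheme of finite type over k all
of whose local rings are integrally closed domains) and let L be a finite Galois extension of k. If
the base change of X to L is not irreducible, then there is an intermediate field F of L over k,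
different from k, such that the structure morphism of X factors through a k-morphism from X to Spec
F. -/
theorem result
    (k : Type u) [Field k] (X : Scheme.{u}) [X.Over (Spec (CommRingCat.of k))]
    [IrreducibleSpace X] (hX : Pi1.IsNormalScheme X)
    [IsSeparated (X ↘ Spec (CommRingCat.of k))] [LocallyOfFiniteType (X ↘ Spec (CommRingCat.of k))]
    [QuasiCompact (X ↘ Spec (CommRingCat.of k))]
    (L : Type u) [Field L] [Algebra k L] [FiniteDimensional k L] [IsGalois k L]
    (hred : ¬ IrreducibleSpace ↥(Curv2.bc k X L)) :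
    ∃ F : IntermediateField k L, F ≠ ⊥ ∧
      ∃ g : X ⟶ Spec (CommRingCat.of F),
        g ≫ Spec.map (CommRingCat.ofHom (algebraMap k F)) = X ↘ Spec (CommRingCat.of k) := by
  exact main k X hX L hred

end Groth.Agent.S17738
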