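import Groth.Statements.S17743
import Mathlib
import Groth.Agent.Lib.Helper22.PtChow
-- import your own Groth.Agent.* helpers here

set_option autoImplicit false
universe u
open CategoryTheory AlgebraicGeometry
open QsChow

namespace Groth.Agent.S17743

section PRE
open Groth.Agent.Lib.Helper22.PtChow

lemma main
    (k : Type u) [Field k] (K : Type u) [Field K] [Algebra k K] [Algebra.IsSeparable k K]
    (L : IntermediateField k K) [FiniteDimensional k L] [IsGalois k L]
    (hL : ∀ p n : ℕ, p.Prime → Module.finrank k L ≠ p ^ n) :
    QsChow.ptNormSubgroup k K = ⊤ := by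
  classical
  set n := Module.finrank k L with hn
  have hn0 : n ≠ 0 := Module.finrank_pos.ne'
  have hn1 : n ≠ 1 := by
    have := hL 2 0 Nat.prime_two
    simpa using this
  have hcard : Nat.card (L ≃ₐ[k] L) = n := IsGalois.card_aut_eq_finrank k L
  -- for each prime q dividing n, an intermediate field of degree ordCompl[q] n
  have key : ∀ q : ℕ, q.Prime → ∃ c ∈ QsChow.ptNormSubgroup k K,
      deg k c = ((n / q ^ n.factorization q : ℕ) : ℤ) := by
    intro q hq
    haveI : Fact q.Prime := ⟨hq⟩
    obtain ⟨P⟩ : Nonempty (Sylow q (L ≃ₐ[k] L)) := inferInstance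
    have hP : Nat.card P = q ^ n.factorization q := by
      rw [Sylow.card_eq_multiplicity, hcard]
    obtain ⟨F, hFd, hF⟩ := exists_fixed L (P : Subgroup (L ≃ₐ[k] L))
    have hF' : Module.finrank k F * q ^ n.factorization q = n := by
      rw [← hP]; exact hF
    have hpos : 0 < q ^ n.factorization q := pow_pos hq.pos _
    have hdeg : Module.finrank k F = n / q ^ n.factorization q := by
      exact (Nat.div_eq_of_eq_mul_left hpos hF'.symm).symm
    have hne : F ≠ ⊥ := by
      intro hbot
      have h1 : Module.finrank k F = 1 := IntermediateField.finrank_eq_one_iff.mpr hbot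
      rw [h1, one_mul] at hF'
      exact hL q _ hq hF'.symm
    obtain ⟨c, hc, hcd⟩ := exists_gen k K F hne
    exact ⟨c, hc, by rw [hcd, hdeg]⟩
  -- the image subgroup of ℤ
  obtain ⟨g, hg⟩ := Int.subgroup_cyclic ((QsChow.ptNormSubgroup k K).map (deg k))
  have hdvd : ∀ q : ℕ, q.Prime → (g : ℤ) ∣ ((n / q ^ n.factorization q : ℕ) : ℤ) := by
    intro q hq
    obtain ⟨c, hc, hcd⟩ := key q hq
    have hmem : deg k c ∈ (QsChow.ptNormSubgroup k K).map (deg k) := ⟨c, hc, rfl⟩
    rw [hg, AddSubgroup.mem_closure_singleton] at hmem
    obtain ⟨m, hm⟩ := hmem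
    rw [← hcd, ← hm]
    exact ⟨m, by rw [smul_eq_mul, mul_comm]⟩
  have hg1 : g.natAbs = 1 := by
    by_contra hne
    obtain ⟨r, hr, hrg⟩ := Nat.exists_prime_and_dvd hne
    have hrd : ∀ q : ℕ, q.Prime → r ∣ n / q ^ n.factorization q := by
      intro q hq
      have := hdvd q hq
      have h2 : g.natAbs ∣ n / q ^ n.factorization q := by
        have h3 := Int.natAbs_dvd_natAbs.mpr this
        rwa [Int.natAbs_natCast] at h3
      exact hrg.trans h2
    obtain ⟨q0, hq0, hq0n⟩ := Nat.exists_prime_and_dvd hn1
    have hrn : r ∣ n := (hrd q0 hq0).trans (Nat.div_dvd_of_dvd (Nat.ordProj_dvd n q0))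
    exact Nat.not_dvd_ordCompl hr hn0 (hrd r hr)
  have h1mem : (1 : ℤ) ∈ (QsChow.ptNormSubgroup k K).map (deg k) := by
    rw [hg, AddSubgroup.mem_closure_singleton]
    rcases Int.natAbs_eq g with h | h
    · exact ⟨1, by rw [one_smul, h, hg1]; rfl⟩
    · exact ⟨-1, by rw [h, hg1]; simp⟩
  obtain ⟨c, hc, hcd⟩ := h1mem
  exact eq_top_of_deg_one k K c hc hcd

end PRE

/-- Let K be a separable algebraic field extension of k and suppose that some intermediate field L of K
over k is finite Galois over k with degree [L:k] not of the form p^n for a prime p and n ≥ 0 (so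
[L:k] has at least two prime factors). Then the subgroup of the Chow group of zero-cycles of Spec k
generated by the classes of push-forwards from Spec F, over the intermediate fields F of K over k
that are finite over k and different from k, is the whole group; that is, the conormed Chow group of
the point relative to K over k is zero. (Degree 1 = p^0 must be excluded: for L = K = k the quotient
is ℤ.) -/
theorem result
    (k : Type u) [Field k] (K : Type u) [Field K] [Algebra k K] [Algebra.IsSeparable k K]
    (L : IntermediateField k K) [FiniteDimensional k L] [IsGalois k L]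
    (hL : ∀ p n : ℕ, p.Prime → Module.finrank k L ≠ p ^ n) :
    QsChow.ptNormSubgroup k K = ⊤ := by
  exact main k K L hL

end Groth.Agent.S17743
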