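import Groth.Statements.S17744
import Mathlib
import Groth.Agent.Lib.Helper22.PtChow
-- import your own Groth.Agent.* helpers here

set_option autoImplicit false
universe u
open CategoryTheory AlgebraicGeometry
open QsChow

namespace Groth.Agent.S17744

section PRE
open Groth.Agent.Lib.Helper22.PtChow

lemma main
    (k : Type u) [Field k] (K : Type u) [Field K] [Algebra k K] [Algebra.IsSeparable k K]
    (L : IntermediateField k K) [FiniteDimensional k L] [IsGalois k L]
    (p n : ℕ) (hp : p.Prime) (hn : 1 ≤ n) (hL : Module.finrank k L = p ^ n)
    (hF : ∀ F : IntermediateField k K, FiniteDimensional k F → ∃ e : ℕ, Module.finrank k F = p ^ e) :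
    (QsChow.ptNormSubgroup k K).index = p := by
  classical
  haveI : Fact p.Prime := ⟨hp⟩
  have hcard : Nat.card (L ≃ₐ[k] L) = p ^ n := by
    rw [IsGalois.card_aut_eq_finrank k L, hL]
  -- the image under deg is pℤ
  have himg : (QsChow.ptNormSubgroup k K).map (deg k) = AddSubgroup.zmultiples (p : ℤ) := by
    apply le_antisymm
    · rintro _ ⟨c, hc, rfl⟩
      refine deg_mem_of_forall k K (AddSubgroup.zmultiples (p : ℤ)) ?_ c hc
      intro F hFd hFne
      obtain ⟨e, he⟩ := hF F hFd
      have he0 : e ≠ 0 := by
        rintro rfl
        rw [pow_zero] at he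
        exact hFne (IntermediateField.finrank_eq_one_iff.mp he)
      rw [he, AddSubgroup.mem_zmultiples_iff]
      refine ⟨(p : ℤ) ^ (e - 1), ?_⟩
      rw [smul_eq_mul, Nat.cast_pow, ← pow_succ, Nat.sub_add_cancel (Nat.one_le_iff_ne_zero.mpr he0)]
    · rw [AddSubgroup.zmultiples_le]
      obtain ⟨H, hH⟩ := Sylow.exists_subgroup_card_pow_prime (G := L ≃ₐ[k] L) p (n := n - 1)
        (by rw [hcard]; exact pow_dvd_pow p (Nat.sub_le n 1))
      obtain ⟨F, hFd, hFH⟩ := exists_fixed L H
      rw [hH, hL] at hFH
      have hFp : Module.finrank k F = p := by
        have h1 : p ^ n = p * p ^ (n - 1) := by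
          rw [← pow_succ', Nat.sub_add_cancel hn]
        rw [h1] at hFH
        exact Nat.eq_of_mul_eq_mul_right (pow_pos hp.pos _) hFH
      have hne : F ≠ ⊥ := by
        intro hbot
        have h1 : Module.finrank k F = 1 := IntermediateField.finrank_eq_one_iff.mpr hbot
        rw [hFp] at h1
        exact hp.one_lt.ne' h1
      obtain ⟨c, hc, hcd⟩ := exists_gen k K F hne
      rw [hFp] at hcd
      exact ⟨c, hc, hcd⟩
  have hidx := AddSubgroup.index_map_of_bijective (f := deg k)
    ⟨deg_injective k, deg_surjective k⟩ (QsChow.ptNormSubgroup k K)
  rw [← hidx, himg, Int.index_zmultiples, Int.natAbs_natCast]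

end PRE

/-- Let K be a separable algebraic field extension of k, let L be an intermediate field of K over k that
is finite Galois over k of degree p^n with p prime and n ≥ 1, and suppose that every intermediate
field of K over k that is finite over k has degree a power of p. Then the subgroup of the Chow group
of zero-cycles of Spec k generated by the classes of push-forwards from Spec F, over the
intermediate fields F of K over k that are finite over k and different from k, has index p; that is,
the conormed Chow group of the point relative to K over k is cyclic of order p (the field with p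
elements, in the source's ring language). (For n = 0, i.e. L = k, the assertion fails with K = k, so
n ≥ 1 is required.) -/
theorem result
    (k : Type u) [Field k] (K : Type u) [Field K] [Algebra k K] [Algebra.IsSeparable k K]
    (L : IntermediateField k K) [FiniteDimensional k L] [IsGalois k L]
    (p n : ℕ) (hp : p.Prime) (hn : 1 ≤ n) (hL : Module.finrank k L = p ^ n)
    (hF : ∀ F : IntermediateField k K, FiniteDimensional k F → ∃ e : ℕ, Module.finrank k F = p ^ e) :
    (QsChow.ptNormSubgroup k K).index = p := by
  exact main k K L p n hp hn hL hF

end Groth.Agent.S17744
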