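import Groth.Statements.S17745
import Mathlib
import Groth.Agent.S1859
import Groth.Agent.Lib.Helper22.ClosedC1
-- import your own Groth.Agent.* helpers here

set_option autoImplicit false
universe u
open CategoryTheory AlgebraicGeometry
open QsChow

namespace Groth.Agent.S17745

section PRE
open Groth.Agent.Lib.Helper22.ClosedC1

/-- push-forward along a retraction of a closed immersion. -/
lemma map_retract {X Y : Scheme.{u}} (s : X ⟶ Y) (π : Y ⟶ X) [QuasiCompact π] [IsClosedImmersion s]
    (hs : s ≫ π = 𝟙 X) (δ : X → ℤ) (α : AlgebraicCycle X ℤ) :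
    AlgebraicCycle.map π (δ ∘ ⇑π.base) δ
      (AlgebraicCycle.map s (fun d => (δ ∘ ⇑π.base) (s d)) (δ ∘ ⇑π.base) α) = α := by
  have hpt : ∀ x : X, π (s x) = x := fun x => by
    have := congrArg (fun f : X ⟶ X => f x) hs
    simpa using this
  ext z
  set β := AlgebraicCycle.map s (fun d => (δ ∘ ⇑π.base) (s d)) (δ ∘ ⇑π.base) α with hβ
  show ∑ᶠ y ∈ π ⁻¹' {z}, β y * ((AlgebraicCycle.mapCoeff π (δ ∘ ⇑π.base) δ y : ℕ) : ℤ) = _
  have hsupp : ∀ y ∈ (π ⁻¹' {z} : Set Y), y ≠ s z →
      β y * ((AlgebraicCycle.mapCoeff π (δ ∘ ⇑π.base) δ y : ℕ) : ℤ) = 0 := by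
    intro y hy hne
    have hnr : y ∉ Set.range s := by
      rintro ⟨x, rfl⟩
      apply hne
      have : π (s x) = z := hy
      rw [hpt] at this
      rw [this]
    rw [hβ, map_closedImm_notMem s (δ ∘ ⇑π.base) α y hnr, zero_mul]
  have hmem : s z ∈ (π ⁻¹' {z} : Set Y) := hpt z
  have hrw : ∑ᶠ y ∈ π ⁻¹' {z}, β y * ((AlgebraicCycle.mapCoeff π (δ ∘ ⇑π.base) δ y : ℕ) : ℤ) =
      ∑ᶠ y ∈ ({s z} : Set Y), β y * ((AlgebraicCycle.mapCoeff π (δ ∘ ⇑π.base) δ y : ℕ) : ℤ) := by
    apply finsum_mem_inter_support_eq
    ext y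
    simp only [Set.mem_inter_iff, Function.mem_support, Set.mem_singleton_iff]
    constructor
    · rintro ⟨hy, hne⟩
      refine ⟨?_, hne⟩
      by_contra hys
      exact hne (hsupp y hy hys)
    · rintro ⟨rfl, hne⟩
      exact ⟨hmem, hne⟩
  rw [hrw, finsum_mem_singleton, hβ, map_closedImm_apply s (δ ∘ ⇑π.base) α z]
  unfold AlgebraicCycle.mapCoeff
  rw [if_pos (show (δ ∘ ⇑π.base) (s z) = δ (π (s z)) from rfl)]
  have h1 := Groth.Agent.S1859.residueDegree_comp' s π z
  have h2 : (s ≫ π).residueDegree z = 1 := by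
    rw [hs]
    exact Scheme.Hom.residueDegree_id z
  rw [h2, ci_residueDegree s z, mul_one] at h1
  rw [← h1, Nat.cast_one, mul_one]

lemma main
    (k : Type u) [Field k] (K : Type u) [Field K] [Algebra k K]
    (F : IntermediateField k K) [FiniteDimensional k F] (hF : F ≠ ⊥)
    (X : Scheme.{u}) [X.Over (Spec (CommRingCat.of k))] (g : X ⟶ Spec (CommRingCat.of F))
    (hg : g ≫ Spec.map (CommRingCat.ofHom (algebraMap k F)) = X ↘ Spec (CommRingCat.of k))
    (δ : X → ℤ) (j : ℤ) :
    QsChow.normSubgroup k K X δ j = ⊤ := by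
  rw [eq_top_iff]
  intro c _
  obtain ⟨⟨α, hα⟩, rfl⟩ := QuotientAddGroup.mk_surjective c
  let s : X ⟶ Curv2.bc k X F := Limits.pullback.lift (𝟙 X) g (by rw [Category.id_comp, hg])
  have hs : s ≫ Curv2.bcFst k X F = 𝟙 X := Limits.pullback.lift_fst _ _ _
  haveI : IsClosedImmersion (s ≫ Curv2.bcFst k X F) := by rw [hs]; infer_instance
  haveI : IsClosedImmersion s := IsClosedImmersion.of_comp s (Curv2.bcFst k X F)
  have hpt : ∀ x : X, (Curv2.bcFst k X F) (s x) = x := fun x => by
    have := congrArg (fun f : X ⟶ X => f x) hs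
    simpa using this
  set β := AlgebraicCycle.map s (fun d => (δ ∘ ⇑(Curv2.bcFst k X F).base) (s d))
    (δ ∘ ⇑(Curv2.bcFst k X F).base) α with hβ
  have hmap : AlgebraicCycle.map (Curv2.bcFst k X F) (δ ∘ ⇑(Curv2.bcFst k X F).base) δ β = α :=
    map_retract s (Curv2.bcFst k X F) hs δ α
  have hβmem : β ∈ Cyc.Zk (Curv2.bc k X F) (δ ∘ ⇑(Curv2.bcFst k X F).base) j := by
    intro y hy
    by_cases hyr : y ∈ Set.range s
    · obtain ⟨x, rfl⟩ := hyr
      rw [hβ, map_closedImm_apply s (δ ∘ ⇑(Curv2.bcFst k X F).base) α x]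
      apply hα x
      intro hx
      apply hy
      show δ ((Curv2.bcFst k X F) (s x)) = j
      rw [hpt, hx]
    · rw [hβ, map_closedImm_notMem s (δ ∘ ⇑(Curv2.bcFst k X F).base) α y hyr]
  apply AddSubgroup.subset_closure
  refine ⟨F, inferInstance, hF, β, hβmem, by rw [hmap]; exact hα, ?_⟩
  show ChowOps.cl α hα = _
  congr 1
  exact hmap.symm

end PRE

/-- For a field extension K of k (separable algebraic) and a k-scheme X with weight function δ, call
norm subgroup of CH_j(X) the subgroup generated by the classes of the push-forwards to X of j-cycles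
on the base changes X_F, over the intermediate fields F of K over k that are finite over k and
different from k (the quotient by it is the degree-j part of the conormed Chow group of X relative
to K over k). Let F be an intermediate field of K over k, finite over k and different from k, and
let X be a smooth variety over F (a scheme with a smooth, separated and quasi-compact morphism g to
Spec F), regarded as a k-scheme by composing g with Spec F → Spec k. Then for every weight function
δ on X (a dimension function induced from weight 0 on Spec k) and every integer j the norm subgroup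
of CH_j(X) relative to K over k is the whole Chow group: all conormed Chow groups of X vanish. (The
source's F is tacitly different from k; for F = k the assertion fails, e.g. with K = k.) -/
theorem result
    (k : Type u) [Field k] (K : Type u) [Field K] [Algebra k K] [Algebra.IsSeparable k K]
    (F : IntermediateField k K) [FiniteDimensional k F] (hF : F ≠ ⊥)
    (X : Scheme.{u}) [X.Over (Spec (CommRingCat.of k))] (g : X ⟶ Spec (CommRingCat.of F))
    (hg : g ≫ Spec.map (CommRingCat.ofHom (algebraMap k F)) = X ↘ Spec (CommRingCat.of k))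
    (hsm : Smooth g) [IsSeparated g] [QuasiCompact g]
    (δ : X → ℤ) (hδ : Cyc.IsSetup X δ)
    (hcompat : Cyc.DeltaCompat (X ↘ Spec (CommRingCat.of k)) δ (fun _ => 0)) (j : ℤ) :
    QsChow.normSubgroup k K X δ j = ⊤ := by
  exact main k K F hF X g hg δ j

end Groth.Agent.S17745
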