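import Groth.Statements.S17750
import Groth.Agent.Lib.Helper2.CanonIdeal
import Groth.Agent.Lib.Helper2.CanonExist
import Groth.Agent.Lib.Helper29.DimTheory
import Groth.Agent.S0342
import Groth.Agent.S7701

set_option autoImplicit false
universe u
open Goren

namespace Groth.Agent.S17750

/-- In a Noetherian UFD, an ideal `I` such that all associated primes of `A ⧸ I` have height one
is principal, i.e. isomorphic to `A` as a module. -/
theorem ideal_equiv_self (A : Type u) [CommRing A] [IsDomain A] [IsNoetherianRing A]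
    [UniqueFactorizationMonoid A] (I : Ideal A) :
    (∀ q ∈ associatedPrimes A (A ⧸ I), q.height = 1) → Nonempty (I ≃ₗ[A] A) := by
  refine IsNoetherian.induction (P := fun I : Submodule A A =>
    (∀ q ∈ associatedPrimes A (A ⧸ I), q.height = 1) → Nonempty (I ≃ₗ[A] A)) ?_ I
  intro I IH hI
  by_cases hItop : I = ⊤
  · exact ⟨(LinearEquiv.ofEq I ⊤ hItop).trans Submodule.topEquiv⟩
  haveI : Nontrivial (A ⧸ I) := Ideal.Quotient.nontrivial_iff.mpr hItop
  obtain ⟨q, hq⟩ := associatedPrimes.nonempty A (A ⧸ I)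
  have hq1 : q.height = 1 := hI q hq
  haveI hqp : q.IsPrime := hq.isPrime
  have hqbot : q ≠ ⊥ := by
    rintro rfl
    rw [Ideal.height_bot] at hq1
    exact zero_ne_one hq1
  obtain ⟨π, hπq, hπ⟩ := Ideal.IsPrime.exists_mem_prime_of_ne_bot hqp hqbot
  have hπ0 : π ≠ 0 := hπ.ne_zero
  haveI hπprime : (Ideal.span {π}).IsPrime := (Ideal.span_singleton_prime hπ0).mpr hπ
  have hπle : Ideal.span {π} ≤ q := (Ideal.span_singleton_le_iff_mem _).mpr hπq
  have hqeq : q = Ideal.span {π} := by
    by_contra hne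
    have hlt : Ideal.span {π} < q := lt_of_le_of_ne hπle (Ne.symm hne)
    have h1 := Ideal.height_add_one_le_of_lt_of_isPrime hlt
    have hbotlt : (⊥ : Ideal A) < Ideal.span {π} :=
      bot_lt_iff_ne_bot.mpr (by simpa using hπ0)
    haveI : (⊥ : Ideal A).IsPrime := Ideal.isPrime_bot
    have h2 := Ideal.height_add_one_le_of_lt_of_isPrime hbotlt
    rw [hq1] at h1
    rw [Ideal.height_bot, zero_add] at h2
    have h3 : (1 : ℕ∞) + 1 ≤ 1 := le_trans (add_le_add_left h2 1) h1
    exact absurd h3 (by decide)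
  have hIq : I ≤ q := by
    have h := hq.annihilator_le
    rwa [Submodule.annihilator_top, Ideal.annihilator_quotient] at h
  obtain ⟨-, xb, hxb⟩ := (isAssociatedPrime_iff.mp hq)
  obtain ⟨x, rfl⟩ := Ideal.Quotient.mk_surjective xb
  have hπx : π * x ∈ I := by
    have h : π ∈ Submodule.colon (⊥ : Submodule A (A ⧸ I)) {Ideal.Quotient.mk I x} := hxb ▸ hπq
    rw [Submodule.mem_colon_singleton, Submodule.mem_bot] at h
    rw [← Ideal.Quotient.eq_zero_iff_mem, map_mul]
    exact h
  have hxI : x ∉ I := by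
    intro hx
    have h0 : Ideal.Quotient.mk I x = 0 := Ideal.Quotient.eq_zero_iff_mem.mpr hx
    apply hqp.ne_top
    rw [hxb, h0]
    ext r
    simp [Submodule.mem_colon_singleton]
  let I₁ : Ideal A := Submodule.comap (LinearMap.lsmul A A π) I
  have hmemI₁ : ∀ y : A, y ∈ I₁ ↔ π * y ∈ I := fun y => Iff.rfl
  have hII₁ : I ≤ I₁ := fun y hy => (hmemI₁ y).mpr (Ideal.mul_mem_left I π hy)
  have hlt : I < I₁ := lt_of_le_of_ne hII₁ (fun h => hxI (h ▸ (hmemI₁ x).mpr hπx))
  -- the associated primes of `A ⧸ I₁` are among those of `A ⧸ I`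
  let φ : (A ⧸ I₁) →ₗ[A] (A ⧸ I) := Submodule.mapQ I₁ I (LinearMap.lsmul A A π) (le_refl _)
  have hφinj : Function.Injective φ := by
    rw [injective_iff_map_eq_zero]
    intro yb hyb
    obtain ⟨y, rfl⟩ := Submodule.Quotient.mk_surjective _ yb
    have h1 : φ (Submodule.Quotient.mk y) = Submodule.Quotient.mk (π * y) := rfl
    rw [h1, Submodule.Quotient.mk_eq_zero] at hyb
    exact (Submodule.Quotient.mk_eq_zero _).mpr ((hmemI₁ y).mpr hyb)
  have hass : ∀ q' ∈ associatedPrimes A (A ⧸ I₁), q'.height = 1 := fun q' hq' =>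
    hI q' (associatedPrimes.subset_of_injective hφinj hq')
  obtain ⟨e₁⟩ := IH I₁ hlt hass
  -- `I₁ ≃ I` via multiplication by `π`
  let μ : I₁ →ₗ[A] I := LinearMap.codRestrict I ((LinearMap.lsmul A A π).comp I₁.subtype)
    (fun y => (hmemI₁ y.1).mp y.2)
  have hμ : Function.Bijective μ := by
    constructor
    · intro y₁ y₂ h
      have h' : π * (y₁ : A) = π * (y₂ : A) := congrArg Subtype.val h
      exact Subtype.ext (mul_left_cancel₀ hπ0 h')
    · intro z
      have hz : (z : A) ∈ Ideal.span {π} := hqeq ▸ hIq z.2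
      obtain ⟨y, hy⟩ := Ideal.mem_span_singleton'.mp hz
      have hy' : π * y = (z : A) := by rw [mul_comm]; exact hy
      refine ⟨⟨y, (hmemI₁ y).mpr (hy' ▸ z.2)⟩, Subtype.ext hy'⟩
  exact ⟨(LinearEquiv.ofBijective μ hμ).symm.trans e₁⟩


/-- Let B be a regular local ring and p a prime ideal of B such that the integral domain B ⧸ p is a
unique factorization domain. If the local ring B ⧸ p is Cohen–Macaulay then it is Gorenstein, i.e.
has finite injective dimension as a module over itself. (For a unique factorization domain that is a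
quotient of a regular local ring, Cohen–Macaulay and Gorenstein are equivalent; the converse
implication holds for every Noetherian local ring.) -/
theorem result (B : Type u) [CommRing B] [IsRegularLocalRing B] (p : Ideal B) [p.IsPrime] [UniqueFactorizationMonoid (B ⧸ p)] [LocCoh.IsCohenMacaulayLocalRing (B ⧸ p)] : LocCoh.IsGorensteinLocalRing (B ⧸ p) := by
  open Groth.Agent.Lib.Helper2 Groth.Agent.Lib.Helper29 IsLocalRing in
  haveI : LocCoh.IsGorensteinLocalRing B := Groth.Agent.S0342.result B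
  have hs : Function.Surjective (algebraMap B (B ⧸ p)) := Ideal.Quotient.mk_surjective
  obtain ⟨d, hd⟩ : ∃ k : ℕ, ringKrullDim (B ⧸ p) = k := by
    have hne : ringKrullDim (B ⧸ p) ≠ ⊤ := DimTheory.ringKrullDim_ne_top (B ⧸ p)
    have hnb : ringKrullDim (B ⧸ p) ≠ ⊥ := ringKrullDim_ne_bot
    cases h : ringKrullDim (B ⧸ p) with
    | bot => exact absurd h hnb
    | coe a =>
      cases a with
      | top => exact absurd h hne
      | coe k => exact ⟨k, rfl⟩
  obtain ⟨E, _, _, f, hf⟩ := exists_injectiveHull (B ⧸ p) (ResidueField (B ⧸ p))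
  obtain ⟨K, hKfin, ⟨eK⟩⟩ := CanonExist.exists_canon B (B ⧸ p) hs d hd E f hf
  haveI := hKfin
  rcases CanonIdeal.canon_equiv_ideal (B ⧸ p) d hd f hf eK with ⟨⟨e⟩⟩ | ⟨I, hI, hht, ⟨e⟩⟩
  · exact (Groth.Agent.S7701.result (B ⧸ p) d hd E f hf K eK).mpr ⟨e⟩
  · obtain ⟨e'⟩ := ideal_equiv_self (B ⧸ p) I hht
    exact (Groth.Agent.S7701.result (B ⧸ p) d hd E f hf K eK).mpr ⟨e.trans e'⟩

end Groth.Agent.S17750
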