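import Groth.Statements.S17751
-- import your own Groth.Agent.* helpers here

set_option autoImplicit false
universe u
open LocCoh

namespace Groth.Agent.S17751

/-- Key construction: `r` elements of `I` such that every prime containing them but not `I`
has height at least `r`. -/
lemma exists_family (R : Type u) [CommRing R] [IsNoetherianRing R] (I : Ideal R) (r : ℕ) :
    ∃ f : Fin r → R, (∀ i, f i ∈ I) ∧ ∀ (p : Ideal R) [p.IsPrime],
      Ideal.span (Set.range f) ≤ p → ¬ I ≤ p → (r : ℕ∞) ≤ p.height := by
  classical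
  induction r with
  | zero => exact ⟨Fin.elim0, fun i => i.elim0, fun p _ _ _ => by simp⟩
  | succ r ih =>
    obtain ⟨f, hfI, hf⟩ := ih
    set J : Ideal R := Ideal.span (Set.range f) with hJ
    have hfin : (J.minimalPrimes).Finite := J.finite_minimalPrimes_of_isNoetherianRing R
    set S : Set (Ideal R) := {q | q ∈ J.minimalPrimes ∧ ¬ I ≤ q} with hS
    have hSfin : S.Finite := hfin.subset (fun q hq => hq.1)
    -- prime avoidance
    have havoid : ¬ ((I : Set R) ⊆ ⋃ q ∈ (↑hSfin.toFinset : Set (Ideal R)), (q : Set R)) := by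
      intro hsub
      have := (Ideal.subset_union_prime (s := hSfin.toFinset) (f := fun q : Ideal R => q) ⊥ ⊥
        (fun q hq _ _ => by
          have hq' : q ∈ S := hSfin.mem_toFinset.mp hq
          exact hq'.1.1.1) (I := I)).mp hsub
      obtain ⟨q, hq, hIq⟩ := this
      have hq' : q ∈ S := hSfin.mem_toFinset.mp hq
      exact hq'.2 hIq
    rw [Set.not_subset] at havoid
    obtain ⟨x, hxI, hx⟩ := havoid
    have hx' : ∀ q ∈ S, x ∉ q := by
      intro q hq hxq
      apply hx
      simp only [Set.mem_iUnion]
      exact ⟨q, by simpa using hq, hxq⟩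
    refine ⟨Fin.snoc f x, ?_, ?_⟩
    · intro i
      refine Fin.lastCases ?_ (fun j => ?_) i
      · simpa using hxI
      · simpa using hfI j
    · intro p hp hle hIp
      have hJp : J ≤ p := by
        rw [hJ, Ideal.span_le]
        rintro _ ⟨j, rfl⟩
        have : f j = (Fin.snoc f x : Fin (r + 1) → R) j.castSucc := by simp
        rw [this]
        exact hle (Ideal.subset_span ⟨_, rfl⟩)
      have hxp : x ∈ p := by
        have : x = (Fin.snoc f x : Fin (r + 1) → R) (Fin.last r) := by simp
        rw [this]
        exact hle (Ideal.subset_span ⟨_, rfl⟩)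
      obtain ⟨q, hqmin, hqp⟩ := Ideal.exists_minimalPrimes_le hJp
      have hqprime : q.IsPrime := hqmin.1.1
      have hIq : ¬ I ≤ q := fun h => hIp (h.trans hqp)
      have hqS : q ∈ S := ⟨hqmin, hIq⟩
      have hlt : q < p := lt_of_le_of_ne hqp (fun h => hx' q hqS (h ▸ hxp))
      have h1 : (r : ℕ∞) ≤ q.height := hf q hqmin.1.2 hIq
      have h2 : q.height + 1 ≤ p.height := Ideal.height_add_one_le_of_lt_of_isPrime hlt
      calc ((r + 1 : ℕ) : ℕ∞) = (r : ℕ∞) + 1 := by push_cast; rfl
        _ ≤ q.height + 1 := by gcongr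
        _ ≤ p.height := h2

/-- Suppose R is a Noetherian ring, r is a natural number, and I is an ideal of R. Then there are
elements f_1, …, f_r of I such that for every prime ideal p of R of height less than r, p contains I
if and only if p contains f_1, …, f_r. (For r = 0 there is nothing to prove.) -/
theorem result (R : Type u) [CommRing R] [IsNoetherianRing R] (I : Ideal R) (r : ℕ) : ∃ f : Fin r → R, (∀ i, f i ∈ I) ∧ ∀ (p : Ideal R) [p.IsPrime], p.height < r → (I ≤ p ↔ Ideal.span (Set.range f) ≤ p) := by
  obtain ⟨f, hfI, hf⟩ := exists_family R I r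
  refine ⟨f, hfI, fun p hp hlt => ⟨fun hIp => ?_, fun hle => ?_⟩⟩
  · rw [Ideal.span_le]
    rintro _ ⟨i, rfl⟩
    exact hIp (hfI i)
  · by_contra hIp
    exact absurd (hf p hle hIp) (not_le.mpr hlt)

end Groth.Agent.S17751
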