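import Groth.Statements.S17758
import Groth.Agent.Lib.Helper2.HLVT3
import Groth.Agent.Lib.Helper58.MV5
import Groth.Agent.Lib.Helper58.LCRep4

set_option autoImplicit false
universe u
open LocCoh

namespace Groth.Agent.S17758

open IsLocalRing in
theorem one_le_dim_quotient {R : Type u} [CommRing R] [IsLocalRing R] (a : Ideal R)
    (x : PrimeSpectrum R) (hax : a ≤ x.asIdeal) (hxm : x.asIdeal ≠ maximalIdeal R) :
    1 ≤ ringKrullDim (R ⧸ a) := by
  rw [ringKrullDim_quotient]
  have hlt : x.asIdeal < maximalIdeal R :=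
    lt_of_le_of_ne (IsLocalRing.le_maximalIdeal x.2.ne_top) hxm
  have hx : x ∈ PrimeSpectrum.zeroLocus (a : Set R) := hax
  have hm : closedPoint R ∈ PrimeSpectrum.zeroLocus (a : Set R) := le_trans hax hlt.le
  let s : LTSeries (PrimeSpectrum.zeroLocus (a : Set R)) :=
    (RelSeries.singleton _ ⟨x, hx⟩).snoc ⟨closedPoint R, hm⟩ (by
      show (⟨x, hx⟩ : PrimeSpectrum.zeroLocus (a : Set R)) < ⟨closedPoint R, hm⟩
      rw [Subtype.mk_lt_mk, ← PrimeSpectrum.asIdeal_lt_asIdeal]
      exact hlt)
  have := Order.LTSeries.length_le_krullDim s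
  simpa [s] using this

/-- Let R be a complete Noetherian local domain of Krull dimension d with maximal ideal m, and I a
proper ideal of R of arithmetic rank at most d − 2: there are elements f_1, …, f_t with t + 2 ≤ d
such that I and (f_1, …, f_t) have the same radical. Then the punctured spectrum of R ⧸ I, viewed as
the set of prime ideals of R that contain I and differ from m, is a nonempty connected subset of
Spec R. (Connectedness is taken here to include nonemptiness, so the unit ideal, whose punctured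
spectrum is empty, is excluded; for a proper I nonemptiness is automatic, since otherwise I would be
m-primary and m would be minimal over an ideal generated by t ≤ d − 2 elements, against Krull's
height bound.) -/
theorem result (R : Type u) [CommRing R] [IsDomain R] [IsNoetherianRing R] [IsLocalRing R] [IsAdicComplete (IsLocalRing.maximalIdeal R) R] (d : ℕ) (hd : ringKrullDim R = d) (t : ℕ) (ht : t + 2 ≤ d) (f : Fin t → R) (I : Ideal R) (hItop : I ≠ ⊤) (hI : I.radical = (Ideal.span (Set.range f)).radical) : IsConnected {x : PrimeSpectrum R | I ≤ x.asIdeal ∧ x.asIdeal ≠ IsLocalRing.maximalIdeal R} := by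
  classical
  have hdpos : 2 ≤ d := by omega
  constructor
  · -- nonempty
    obtain ⟨⟨p, hp⟩⟩ := Ideal.nonempty_minimalPrimes hItop
    have hpp : p.IsPrime := hp.1.1
    refine ⟨⟨p, hpp⟩, hp.1.2, ?_⟩
    intro hpm
    change p = IsLocalRing.maximalIdeal R at hpm
    have hpK : p ∈ (Ideal.span (Set.range f)).minimalPrimes := by
      rw [← Ideal.radical_minimalPrimes, ← hI, Ideal.radical_minimalPrimes]; exact hp
    have hht : p.height ≤ (Set.range f).ncard :=
      Ideal.height_le_card_of_mem_minimalPrimes_span (Set.finite_range f) hpK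
    have hcard : (Set.range f).ncard ≤ t := by
      have h1 : (Set.range f).ncard ≤ (Set.univ : Set (Fin t)).ncard := by
        rw [← Set.image_univ]
        exact Set.ncard_image_le (Set.finite_univ)
      simpa using h1
    have hd' : (p.height : WithBot ℕ∞) = d := by
      rw [hpm, IsLocalRing.maximalIdeal_height_eq_ringKrullDim, hd]
    have h2 : p.height = d := by exact_mod_cast hd'
    rw [h2] at hht
    have h3 : d ≤ t := by
      have : ((d : ℕ) : ℕ∞) ≤ (t : ℕ∞) := hht.trans (by exact_mod_cast hcard)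
      exact_mod_cast this
    omega
  · rw [isPreconnected_closed_iff]
    intro T T' hT hT' hsub hne hne'
    by_contra hemp
    rw [Set.not_nonempty_iff_eq_empty] at hemp
    obtain ⟨a0, rfl⟩ := (PrimeSpectrum.isClosed_iff_zeroLocus_ideal T).1 hT
    obtain ⟨b0, rfl⟩ := (PrimeSpectrum.isClosed_iff_zeroLocus_ideal T').1 hT'
    obtain ⟨x, hxZ, hxa⟩ := hne
    obtain ⟨y, hyZ, hyb⟩ := hne'
    have hxa0 : a0 ≤ x.asIdeal := SetLike.coe_subset_coe.1 ((PrimeSpectrum.mem_zeroLocus _ _).1 hxa)
    have hyb0 : b0 ≤ y.asIdeal := SetLike.coe_subset_coe.1 ((PrimeSpectrum.mem_zeroLocus _ _).1 hyb)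
    have hxa' : a0 ⊔ I ≤ x.asIdeal := sup_le hxa0 hxZ.1
    have hyb' : b0 ⊔ I ≤ y.asIdeal := sup_le hyb0 hyZ.1
    have hxm : x.asIdeal ≤ IsLocalRing.maximalIdeal R := IsLocalRing.le_maximalIdeal x.2.ne_top
    have hym : y.asIdeal ≤ IsLocalRing.maximalIdeal R := IsLocalRing.le_maximalIdeal y.2.ne_top
    -- radical of the intersection
    have hrad1 : ((a0 ⊔ I) ⊓ (b0 ⊔ I)).radical = I.radical := by
      apply le_antisymm
      · rw [Ideal.radical_le_radical_iff, Ideal.radical_eq_sInf, le_sInf_iff]
        rintro p ⟨hIp, hpp⟩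
        by_cases hpm : p = IsLocalRing.maximalIdeal R
        · rw [hpm]
          exact inf_le_left.trans (hxa'.trans hxm)
        · have hpZ : (⟨p, hpp⟩ : PrimeSpectrum R) ∈
              {x : PrimeSpectrum R | I ≤ x.asIdeal ∧ x.asIdeal ≠ IsLocalRing.maximalIdeal R} :=
            ⟨hIp, hpm⟩
          rcases hsub hpZ with h1 | h1
          · have : a0 ≤ p := SetLike.coe_subset_coe.1 ((PrimeSpectrum.mem_zeroLocus _ _).1 h1)
            exact inf_le_left.trans (sup_le this hIp)
          · have : b0 ≤ p := SetLike.coe_subset_coe.1 ((PrimeSpectrum.mem_zeroLocus _ _).1 h1)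
            exact inf_le_right.trans (sup_le this hIp)
      · exact Ideal.radical_mono (le_inf le_sup_right le_sup_right)
    have hrad2 : ((a0 ⊔ I) ⊔ (b0 ⊔ I)).radical = IsLocalRing.maximalIdeal R := by
      apply le_antisymm
      · rw [← (Ideal.IsMaximal.isPrime' (IsLocalRing.maximalIdeal R)).radical]
        exact Ideal.radical_mono (sup_le (hxa'.trans hxm) (hyb'.trans hym))
      · rw [Ideal.radical_eq_sInf, le_sInf_iff]
        rintro p ⟨hp, hpp⟩
        by_contra hnot
        have hpm : p ≠ IsLocalRing.maximalIdeal R := fun h => hnot h.ge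
        have hIp : I ≤ p := le_sup_right.trans (le_sup_left.trans hp)
        have ha0p : a0 ≤ p := le_sup_left.trans (le_sup_left.trans hp)
        have hb0p : b0 ≤ p := le_sup_left.trans (le_sup_right.trans hp)
        have hmem : (⟨p, hpp⟩ : PrimeSpectrum R) ∈
            {x : PrimeSpectrum R | I ≤ x.asIdeal ∧ x.asIdeal ≠ IsLocalRing.maximalIdeal R} ∩
              (PrimeSpectrum.zeroLocus (a0 : Set R) ∩ PrimeSpectrum.zeroLocus (b0 : Set R)) :=
          ⟨⟨hIp, hpm⟩, (PrimeSpectrum.mem_zeroLocus _ _).2 (SetLike.coe_subset_coe.2 ha0p),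
            (PrimeSpectrum.mem_zeroLocus _ _).2 (SetLike.coe_subset_coe.2 hb0p)⟩
        rw [hemp] at hmem
        exact hmem
    -- cohomology
    haveI hHa : Subsingleton ((localCohomology (a0 ⊔ I) d).obj (ModuleCat.of R R)) :=
      Groth.Agent.Lib.Helper2.HLVT.hlvt_domain R d hd (a0 ⊔ I)
        (one_le_dim_quotient (a0 ⊔ I) x hxa' hxZ.2)
    haveI hHb : Subsingleton ((localCohomology (b0 ⊔ I) d).obj (ModuleCat.of R R)) :=
      Groth.Agent.Lib.Helper2.HLVT.hlvt_domain R d hd (b0 ⊔ I)
        (one_le_dim_quotient (b0 ⊔ I) y hyb' hyZ.2)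
    haveI hHab : Subsingleton ((localCohomology ((a0 ⊔ I) ⊓ (b0 ⊔ I)) (d - 1)).obj
        (ModuleCat.of R R)) := by
      haveI h1 := Groth.Agent.Lib.Helper58.LCRep.subsingleton_of_le_radical_span
        (Ideal.span (Set.range f)) t f (fun i => Ideal.subset_span ⟨i, rfl⟩) Ideal.le_radical
        (d - 1) (by omega) (ModuleCat.of R R)
      have hrad : ((a0 ⊔ I) ⊓ (b0 ⊔ I)).radical = (Ideal.span (Set.range f)).radical :=
        hrad1.trans hI
      exact ((localCohomology.isoOfSameRadical hrad (d - 1)).app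
        (ModuleCat.of R R)).toLinearEquiv.toEquiv.subsingleton
    haveI hnt := Groth.Agent.Lib.Helper58.NV.nontrivial_top_of_radical R d hd
      ((a0 ⊔ I) ⊔ (b0 ⊔ I)) hrad2
    have hker := Groth.Agent.Lib.Helper58.MV.ker_pairMap (a0 ⊔ I) (b0 ⊔ I)
      (M := ModuleCat.of R R) (i := d - 1) d (by omega)
    have hinj : Function.Injective
        (Groth.Agent.Lib.Helper58.MV.pairMap (a0 ⊔ I) (b0 ⊔ I) (ModuleCat.of R R) d) := by
      rw [← LinearMap.ker_eq_bot, hker, LinearMap.range_eq_bot]
      exact LinearMap.ext fun z => by rw [Subsingleton.elim z 0, map_zero, map_zero]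
    exact not_subsingleton _ hinj.subsingleton

end Groth.Agent.S17758
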