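import Groth.Statements.S17762
-- import your own Groth.Agent.* helpers here
import Groth.Agent.Lib.Helper41.GorAnn2

set_option autoImplicit false
universe u
open LocCoh

namespace Groth.Agent.S17762

/-- Let R be a Noetherian local ring with maximal ideal m which is a homomorphic image of a Gorenstein
local ring, M a finitely generated R-module, J an ideal of R and i a natural number. Then J is
contained in the radical of the annihilator of H^i_m(M) if and only if for every prime ideal p of R
not containing J, the local cohomology module H^j_{pR_p}(M_p) over R_p vanishes for the index j with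
j + dim(R ⧸ p) = i (no condition when i < dim(R ⧸ p)). -/
theorem result (R : Type u) [CommRing R] [IsNoetherianRing R] [IsLocalRing R] (R' : Type u) [CommRing R'] [LocCoh.IsGorensteinLocalRing R'] (g : R' →+* R) (hg : Function.Surjective g) (M : Type u) [AddCommGroup M] [Module R M] [Module.Finite R M] (J : Ideal R) (i : ℕ) : J ≤ (Module.annihilator R (LocCoh.H (IsLocalRing.maximalIdeal R) i M)).radical ↔ ∀ (p : Ideal R) [p.IsPrime], ¬ J ≤ p → ∀ j : ℕ, (j : WithBot ℕ∞) + ringKrullDim (R ⧸ p) = i → Subsingleton (LocCoh.H (IsLocalRing.maximalIdeal (Localization.AtPrime p)) j (LocalizedModule p.primeCompl M)) := by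
  letI : Algebra R' R := g.toAlgebra
  letI : Module R' M := Module.compHom M g
  haveI : IsScalarTower R' R M := IsScalarTower.of_algebraMap_smul fun _ _ => rfl
  obtain ⟨d, hd⟩ : ∃ d : ℕ, ringKrullDim R' = d := by
    have h1 : ringKrullDim R' ≠ ⊥ := ringKrullDim_ne_bot
    have h2 : ringKrullDim R' ≠ ⊤ := ringKrullDim_ne_top
    induction h : ringKrullDim R' using WithBot.recBotCoe with
    | bot => exact absurd h h1
    | coe x =>
      induction x using ENat.recTopCoe with
      | top => exact absurd h h2
      | coe n => exact ⟨n, rfl⟩
  exact Groth.Agent.Lib.Helper41.GorAnn.le_radical_annihilator_H_iff R' d hd R hg M J i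

end Groth.Agent.S17762
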