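import Groth.Statements.S17763
-- import your own Groth.Agent.* helpers here
import Groth.Agent.Lib.Helper41.LCJac

set_option autoImplicit false
universe u
open LocCoh

namespace Groth.Agent.S17763

/-- In a Noetherian local ring, an ideal `I` with `dim R/I > 0` is contained in a prime `p` with
`dim R/p = 1`. -/
theorem exists_prime_dim_one (R : Type u) [CommRing R] [IsNoetherianRing R] [IsLocalRing R]
    (I : Ideal R) (hI : 0 < ringKrullDim (R ⧸ I)) :
    ∃ p : Ideal R, p.IsPrime ∧ I ≤ p ∧ ringKrullDim (R ⧸ p) = 1 := by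
  rw [ringKrullDim_quotient, Order.krullDim_pos_iff] at hI
  obtain ⟨x, y, hxy⟩ := hI
  set m := IsLocalRing.maximalIdeal R with hm
  have hx : I ≤ x.1.asIdeal := (PrimeSpectrum.mem_zeroLocus _ _).1 x.2
  have hym : y.1.asIdeal ≤ m := IsLocalRing.le_maximalIdeal y.1.2.ne_top
  have hxm : x.1.asIdeal ≠ m := by
    intro heq
    have h1 : x.1.asIdeal < y.1.asIdeal := hxy
    exact absurd (heq ▸ h1) (not_lt_of_ge hym)
  let T : Set (Ideal R) := {p | p.IsPrime ∧ x.1.asIdeal ≤ p ∧ p ≠ m}
  have hne : T.Nonempty := ⟨x.1.asIdeal, x.1.2, le_rfl, hxm⟩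
  obtain ⟨p, ⟨hpp, hxp, hpm⟩, hmax⟩ :=
    (set_has_maximal_iff_noetherian (R := R) (M := R)).2 inferInstance T hne
  have hplt : p < m := lt_of_le_of_ne (IsLocalRing.le_maximalIdeal hpp.ne_top) hpm
  refine ⟨p, hpp, hx.trans hxp, ?_⟩
  rw [ringKrullDim_quotient]
  apply le_antisymm
  · rw [Order.krullDim_le_one_iff]
    intro z
    have hpz : p ≤ z.1.asIdeal := (PrimeSpectrum.mem_zeroLocus _ _).1 z.2
    by_cases hz : z.1.asIdeal = p
    · left
      intro w _
      have hpw : p ≤ w.1.asIdeal := (PrimeSpectrum.mem_zeroLocus _ _).1 w.2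
      change z.1.asIdeal ≤ w.1.asIdeal
      rw [hz]
      exact hpw
    · right
      have hzm : z.1.asIdeal = m := by
        by_contra hne'
        exact hmax z.1.asIdeal ⟨z.1.2, hxp.trans hpz, hne'⟩ (lt_of_le_of_ne hpz (Ne.symm hz))
      intro w _
      change w.1.asIdeal ≤ z.1.asIdeal
      rw [hzm]
      exact IsLocalRing.le_maximalIdeal w.1.2.ne_top
  · rw [Order.one_le_krullDim_iff]
    refine ⟨⟨⟨p, hpp⟩, (PrimeSpectrum.mem_zeroLocus _ _).2 le_rfl⟩,
      ⟨⟨m, (IsLocalRing.maximalIdeal.isMaximal R).isPrime⟩,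
        (PrimeSpectrum.mem_zeroLocus _ _).2 hplt.le⟩, ?_⟩
    exact hplt

/-- Let R be a Noetherian local ring of Krull dimension d. Then the following are equivalent: (1)
H^d_I(R) = 0 for every ideal I of R such that R ⧸ I has positive dimension; (2) H^d_p(R) = 0 for
every prime ideal p of R such that R ⧸ p has dimension one. -/
theorem result (R : Type u) [CommRing R] [IsNoetherianRing R] [IsLocalRing R] (d : ℕ) (hd : ringKrullDim R = d) : (∀ I : Ideal R, 0 < ringKrullDim (R ⧸ I) → Subsingleton (LocCoh.H I d R)) ↔ (∀ (p : Ideal R) [p.IsPrime], ringKrullDim (R ⧸ p) = 1 → Subsingleton (LocCoh.H p d R)) := by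
  constructor
  · intro h p _ hp
    apply h p
    rw [hp]
    exact zero_lt_one
  · intro h I hI
    obtain ⟨p, hpp, hIp, hp1⟩ := exists_prime_dim_one R I hI
    have hp := h p hp1
    have hP : ∀ N : ModuleCat.{u} R, Subsingleton ((localCohomology p (d + 1)).obj N) := fun N =>
      Groth.Agent.Lib.Helper41.LC.subsingleton_of_ringKrullDim_lt p d hd (d + 1) (by omega) N
    have hall := Groth.Agent.Lib.Helper41.LC.forall_subsingleton_of_ring p d hP hp
    have hJ : p ≤ (⊥ : Ideal R).jacobson := by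
      rw [IsLocalRing.jacobson_eq_maximalIdeal ⊥ bot_ne_top]
      exact IsLocalRing.le_maximalIdeal hpp.ne_top
    exact Groth.Agent.Lib.Helper41.LC.forall_subsingleton_top_of_le_jacobson I d hd p hIp hJ hall
      (ModuleCat.of R R)

end Groth.Agent.S17763
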