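import Groth.Statements.S17765
import Groth.Agent.Lib.Helper33.AuslanderBuchsbaum
import Groth.Agent.Lib.Helper33.LocalizationGlDim
import Groth.Agent.Lib.Helper33.GlobalDim
import Groth.Agent.Lib.Helper49.Serre
import Groth.Agent.S5671
import Groth.Agent.S0564

set_option autoImplicit false
universe u
open CategoryTheory
open LocCoh

namespace Groth.Agent.S17765

/-- Let B be a regular local ring, M a finitely generated B-module and p an associated prime ideal of M.
Then the height of p is at most the projective dimension of M: for every n such that M has
projective dimension at most n, ht p ≤ n. -/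
theorem result (B : Type u) [CommRing B] [IsRegularLocalRing B] (M : Type u) [AddCommGroup M] [Module B M] [Module.Finite B M] (p : Ideal B) (hp : p ∈ associatedPrimes B M) (n : ℕ) (hn : HasProjectiveDimensionLE (ModuleCat.of B M) n) : p.height ≤ n := by
  have hpp : p.IsPrime := hp.isPrime
  have hRLR : IsRegularLocalRing (Localization.AtPrime p) := Groth.Agent.S0564.result B p
  -- depth of the localization is zero
  have hd0 : LocCoh.depth (Localization.AtPrime p) (LocalizedModule p.primeCompl M) = 0 :=
    (Groth.Agent.Lib.Helper49.Serre.depth_localizedModule_eq_zero_iff M p).mpr hp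
  -- the localization is nontrivial
  have hnt : Nontrivial (LocalizedModule p.primeCompl M) := by
    by_contra hsub
    rw [not_nontrivial_iff_subsingleton] at hsub
    have : LocCoh.depth (Localization.AtPrime p) (LocalizedModule p.primeCompl M) = ⊤ := by
      unfold LocCoh.depth LocCoh.idealDepth
      rw [if_pos (Subsingleton.elim _ _)]
    rw [hd0] at this
    exact absurd this (by simp)
  -- projective dimension of the localization
  have hloc : HasProjectiveDimensionLE ((ModuleCat.of B M).localizedModule p.primeCompl) n :=
    ModuleCat.localizedModule_hasProjectiveDimensionLE n p.primeCompl (ModuleCat.of B M)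
  have hpd : HasProjectiveDimensionLT (ModuleCat.of (Localization.AtPrime p)
      (LocalizedModule p.primeCompl M)) (n + 1) :=
    Groth.Agent.Lib.Helper33.hasProjectiveDimensionLT_of_linearEquiv (Localization.AtPrime p)
      (Groth.Agent.Lib.Helper33.localizedModuleEquiv p.primeCompl (ModuleCat.of B M)
        (LocalizedModule p.primeCompl M) (LocalizedModule.mkLinearMap p.primeCompl M)) _ hloc
  -- least `e`
  have hex : ∃ e, HasProjectiveDimensionLT (ModuleCat.of (Localization.AtPrime p)
      (LocalizedModule p.primeCompl M)) (e + 1) := ⟨n, hpd⟩
  classical
  let e := Nat.find hex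
  have he1 : HasProjectiveDimensionLT (ModuleCat.of (Localization.AtPrime p)
      (LocalizedModule p.primeCompl M)) (e + 1) := Nat.find_spec hex
  have hen : e ≤ n := Nat.find_min' hex hpd
  have he2 : ¬ HasProjectiveDimensionLT (ModuleCat.of (Localization.AtPrime p)
      (LocalizedModule p.primeCompl M)) e := by
    intro hlt
    by_cases he : e = 0
    · rw [he] at hlt
      have hz := (hasProjectiveDimensionLT_zero_iff_isZero _).mp hlt
      exact not_subsingleton _ (ModuleCat.subsingleton_of_isZero hz)
    · have hmin := Nat.find_min hex (m := e - 1) (by omega)
      apply hmin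
      have h1 : e - 1 + 1 = e := by omega
      rw [h1]
      exact hlt
  have hab := Groth.Agent.Lib.Helper33.AB.depth_eq_add_of_hasProjectiveDimensionLT
    (R := Localization.AtPrime p) (LocalizedModule p.primeCompl M) e he1 he2
  rw [hd0, add_zero] at hab
  have hcm := Groth.Agent.S5671.isCM_of_regular (Localization.AtPrime p)
  unfold LocCoh.IsCohenMacaulayModule at hcm
  rw [Module.supportDim_self_eq_ringKrullDim,
    IsLocalization.AtPrime.ringKrullDim_eq_height p (Localization.AtPrime p), hab] at hcm
  have h3 : p.height = (e : ℕ∞) := by exact_mod_cast hcm
  rw [h3]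
  exact_mod_cast hen

end Groth.Agent.S17765
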