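import Groth.Statements.S17766
import Groth.Agent.Lib.Helper2.CanonIdeal
import Groth.Agent.Lib.Helper2.CanonExt
import Groth.Agent.Lib.Helper29.CMRing
import Groth.Agent.Lib.Helper29.DimTheory
import Groth.Agent.S0342
import Groth.Agent.S0564
import Groth.Agent.S18865
import Groth.Agent.S5671

set_option autoImplicit false
universe u
open CategoryTheory Opposite
open LocCoh

namespace Groth.Agent.S17766


open Groth.Agent.Lib.Helper2 Groth.Agent.Lib.Helper29 IsLocalRing in
/-- The dimension formula `dim B/p + ht p = dim B` in a regular local ring. -/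
theorem dim_add_height (B : Type u) [CommRing B] [IsRegularLocalRing B] (p : Ideal B) [hp : p.IsPrime]
    (d r n' : ℕ) (hd : ringKrullDim (B ⧸ p) = d) (hr : p.height = r) (hn' : ringKrullDim B = n') :
    d + r = n' := by
  haveI : IsRegularRing B :=
    { isRegularLocalRing_localization := fun q _ => Groth.Agent.S0564.result B q }
  have hCMring : LocCoh.IsCohenMacaulayRing B :=
    Groth.Agent.S18865.isCohenMacaulayRing_of_isRegularRing B
  have hdepth_p : LocCoh.idealDepth p B = p.height :=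
    (CMRing.isCohenMacaulayRing_iff_idealDepth_eq_height B).mp hCMring p hp.ne_top
  have hCMmod : LocCoh.IsCohenMacaulayModule B B := Groth.Agent.S5671.isCM_of_regular B
  have h1 := CMRing.supportDim_eq_add_idealDepth_of_isCM B p hp.ne_top B hCMmod
  have hp' : (p • (⊤ : Submodule B B)) = p := by rw [smul_eq_mul, Ideal.mul_top]
  rw [Module.supportDim_self_eq_ringKrullDim, hn',
    Module.supportDim_eq_of_equiv (Submodule.quotEquivOfEq _ _ hp'),
    Module.supportDim_quotient_eq_ringKrullDim, hd, hdepth_p, hr] at h1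
  have h2 : ((n' : ℕ) : WithBot ℕ∞) = ((d + r : ℕ) : WithBot ℕ∞) := by
    rw [h1]; push_cast; rfl
  have h3 : n' = d + r := by exact_mod_cast h2
  omega

/-- Let B be a regular local ring, p a prime ideal of B of height r, and suppose that A = B ⧸ p is
Cohen–Macaulay. Then the B-module Ext^r_B(A, B) is isomorphic either to A itself or to a proper
ideal I of A which is unmixed of height one, i.e. every associated prime of A ⧸ I has height one in
A (existence of a B-linear isomorphism in each case). -/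
theorem result (B : Type u) [CommRing B] [IsRegularLocalRing B] (p : Ideal B) [p.IsPrime] [LocCoh.IsCohenMacaulayLocalRing (B ⧸ p)] (r : ℕ) (hr : p.height = r) : Nonempty (((Ext B (ModuleCat.{u} B) r).obj (op (ModuleCat.of B (B ⧸ p)))).obj (ModuleCat.of B B) ≃ₗ[B] (B ⧸ p)) ∨ ∃ I : Ideal (B ⧸ p), I ≠ ⊤ ∧ (∀ q ∈ associatedPrimes (B ⧸ p) ((B ⧸ p) ⧸ I), q.height = 1) ∧ Nonempty (((Ext B (ModuleCat.{u} B) r).obj (op (ModuleCat.of B (B ⧸ p)))).obj (ModuleCat.of B B) ≃ₗ[B] I) := by
  open Groth.Agent.Lib.Helper2 Groth.Agent.Lib.Helper29 IsLocalRing in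
  haveI : LocCoh.IsGorensteinLocalRing B := Groth.Agent.S0342.result B
  have hs : Function.Surjective (algebraMap B (B ⧸ p)) := Ideal.Quotient.mk_surjective
  have hfin : ∀ (C : Type u) [CommRing C] [IsNoetherianRing C] [IsLocalRing C],
      ∃ k : ℕ, ringKrullDim C = k := by
    intro C _ _ _
    have hne : ringKrullDim C ≠ ⊤ := DimTheory.ringKrullDim_ne_top C
    have hnb : ringKrullDim C ≠ ⊥ := ringKrullDim_ne_bot
    cases h : ringKrullDim C with
    | bot => exact absurd h hnb
    | coe a =>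
      cases a with
      | top => exact absurd h hne
      | coe k => exact ⟨k, rfl⟩
  obtain ⟨d, hd⟩ := hfin (B ⧸ p)
  obtain ⟨n', hn'⟩ := hfin B
  have hc : d + r = n' := dim_add_height B p d r n' hd hr hn'
  let eX := Groth.Agent.Lib.Helper41.OldExt.oldNew r (ModuleCat.of B (B ⧸ p)) (ModuleCat.of B B)
  have hkill : ∀ b ∈ RingHom.ker (algebraMap B (B ⧸ p)),
      ∀ x : ((Ext B (ModuleCat.{u} B) r).obj (op (ModuleCat.of B (B ⧸ p)))).obj (ModuleCat.of B B),
        b • x = 0 := by
    intro b hb x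
    apply eX.injective
    rw [map_smul, map_zero]
    exact GorCM.smul_ext_eq_zero_of_mem_annihilator (B ⧸ p) B (by
      rw [Module.mem_annihilator]
      intro a
      rw [Algebra.smul_def, (RingHom.mem_ker).mp hb, zero_mul]) r (eX x)
  letI : Module (B ⧸ p)
      (((Ext B (ModuleCat.{u} B) r).obj (op (ModuleCat.of B (B ⧸ p)))).obj (ModuleCat.of B B)) :=
    CanonExist.moduleOfKer (algebraMap B (B ⧸ p)) hs _ hkill
  haveI : IsScalarTower B (B ⧸ p)
      (((Ext B (ModuleCat.{u} B) r).obj (op (ModuleCat.of B (B ⧸ p)))).obj (ModuleCat.of B B)) :=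
    IsScalarTower.of_algebraMap_smul fun a x =>
      CanonExist.moduleOfKer_smul (algebraMap B (B ⧸ p)) hs _ hkill a x
  haveI : Module.Finite B (B ⧸ p) := Module.Finite.of_surjective (Algebra.linearMap B (B ⧸ p)) hs
  haveI : Module.Finite B (CategoryTheory.Abelian.Ext.{u} (ModuleCat.of B (B ⧸ p))
      (ModuleCat.of B B) r) :=
    ModuleCat.finite_ext B (ModuleCat.of B (B ⧸ p)) (ModuleCat.of B B) r
  haveI : Module.Finite B
      (((Ext B (ModuleCat.{u} B) r).obj (op (ModuleCat.of B (B ⧸ p)))).obj (ModuleCat.of B B)) :=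
    Module.Finite.equiv eX.symm
  haveI : Module.Finite (B ⧸ p)
      (((Ext B (ModuleCat.{u} B) r).obj (op (ModuleCat.of B (B ⧸ p)))).obj (ModuleCat.of B B)) :=
    Module.Finite.of_restrictScalars_finite B (B ⧸ p) _
  obtain ⟨E, _, _, f, hf⟩ := exists_injectiveHull (B ⧸ p) (ResidueField (B ⧸ p))
  obtain ⟨eK⟩ := CanonExist.nonempty_dual_equiv_of_ext B (B ⧸ p) hs d hd E f hf n' r hn' hc
    (((Ext B (ModuleCat.{u} B) r).obj (op (ModuleCat.of B (B ⧸ p)))).obj (ModuleCat.of B B)) eX
  rcases CanonIdeal.canon_equiv_ideal (B ⧸ p) d hd f hf eK with ⟨⟨e⟩⟩ | ⟨I, hI, hht, ⟨e⟩⟩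
  · left
    exact ⟨e.restrictScalars B⟩
  · right
    exact ⟨I, hI, hht, ⟨e.restrictScalars B⟩⟩

end Groth.Agent.S17766
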