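import Groth.Statements.S1777
import Groth.Agent.Lib.Helper12.DualizingAscent

set_option autoImplicit false
universe u
open CategoryTheory
attribute [local instance] HasDerivedCategory.standard
open Dual

namespace Groth.Agent.S1777

/-- Let A → B be a flat local homomorphism of Noetherian local rings with m_A B = m_B and ω a normalized
dualizing complex for A. Assuming the derived base change functor D(A) → D(B) exists, the base
change of ω is a normalized dualizing complex for B. -/
theorem result (A B : Type u) [CommRing A] [CommRing B] [IsLocalRing A] [IsLocalRing B] [Algebra A B] [IsLocalHom (algebraMap A B)] [IsNoetherianRing A] [IsNoetherianRing B] [Module.Flat A B] (hm : (IsLocalRing.maximalIdeal A).map (algebraMap A B) = IsLocalRing.maximalIdeal B) [DRing.HasLBaseChange (algebraMap A B)] (ω : Dual.D A) (hω : Dual.IsDualizing A ω) (hn : Dual.IsNormalized A ω) : Dual.IsDualizing B ((DRing.LBaseChange (algebraMap A B)).obj ω) ∧ Dual.IsNormalized B ((DRing.LBaseChange (algebraMap A B)).obj ω) := by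
  obtain ⟨a, b, hab⟩ := hω.finite_injective_dimension
  have hz := Groth.Agent.Lib.Helper12.DualizingBC.isZero_HF_of_finite_injective_dimension ω a b hab
  have hlow : ∀ j : ℤ, j < a → Limits.IsZero ((Groth.Agent.Lib.Helper12.HF A j).obj ω) :=
    fun j hj => hz j (Or.inl hj)
  let e₁ : (B ⧸ IsLocalRing.maximalIdeal B) ≃ₗ[B]
      TensorProduct A B (A ⧸ IsLocalRing.maximalIdeal A) :=
    (Submodule.quotEquivOfEq _ _ hm.symm) ≪≫ₗ
      (Algebra.TensorProduct.quotIdealMapEquivTensorQuot B
        (IsLocalRing.maximalIdeal A)).toLinearEquiv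
  have h1 : Dual.IsDualizing B ((Groth.Agent.Lib.Helper12.extScD A B).obj ω) := by
    refine Groth.Agent.Lib.Helper12.DualizingAscent.isDualizing_extScD_of_maximal ω hω
      (fun n hn' => ?_)
    have hn'' : n = IsLocalRing.maximalIdeal B := IsLocalRing.eq_maximalIdeal hn'
    subst hn''
    exact ⟨IsLocalRing.maximalIdeal A, ⟨e₁⟩⟩
  let eiso := (Groth.Agent.Lib.Helper12.FlatHomBC.lBaseChangeIsoExtScD (A := A) (B := B)).app ω
  refine ⟨Groth.Agent.Lib.Helper12.DualizingBC.isDualizing_of_iso eiso.symm h1, ?_⟩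
  intro i hi
  have h2 : Subsingleton (Dual.inD A (A ⧸ IsLocalRing.maximalIdeal A) ⟶ ω⟦i⟧) := hn i hi
  have h3 : Subsingleton (Dual.inD B (B ⧸ IsLocalRing.maximalIdeal B) ⟶
      ((Groth.Agent.Lib.Helper12.extScD A B).obj ω)⟦i⟧) :=
    Groth.Agent.Lib.Helper12.DualizingAscent.subsingleton_hom_inD_extScD_of_equiv ω a hlow
      (A ⧸ IsLocalRing.maximalIdeal A) (B ⧸ IsLocalRing.maximalIdeal B) e₁ i h2
  exact ⟨fun f g => by
    have := h3.elim (f ≫ ((shiftFunctor (Dual.D B) i).mapIso eiso).hom)
      (g ≫ ((shiftFunctor (Dual.D B) i).mapIso eiso).hom)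
    exact (cancel_mono _).mp this⟩

end Groth.Agent.S1777
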