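import Groth.Statements.S17773
import Groth.Agent.Lib.Helper46.TorPrime
import Mathlib.Algebra.Homology.SingleHomology
import Mathlib.Algebra.Homology.QuasiIso

set_option backward.isDefEq.respectTransparency false
set_option backward.defeqAttrib.useBackward true

set_option autoImplicit false
universe u
open CategoryTheory CategoryTheory.Limits
open CAlg

namespace Groth.Agent.S17773

/-- Let R be a commutative ring, M and N two R-modules, and F a flat resolution of M: a chain complex F
of flat R-modules concentrated in non-negative degrees together with a quasi-isomorphism from F to M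
placed in degree 0. Then for every i ≥ 0 the i-th homology module of the complex F ⊗_R N is
isomorphic to Tor_i^R(M, N), the i-th left derived functor of − ⊗_R N evaluated at M (existence of
an isomorphism of R-modules). -/
theorem result (R : Type u) [CommRing R] (M N : Type u) [AddCommGroup M] [Module R M] [AddCommGroup N] [Module R N] (F : ChainComplex (ModuleCat.{u} R) ℕ) (hF : ∀ i : ℕ, Module.Flat R (F.X i)) (φ : F ⟶ (ChainComplex.single₀ (ModuleCat.{u} R)).obj (ModuleCat.of R M)) [QuasiIso φ] (i : ℕ) : Nonempty ((((MonoidalCategory.tensorRight (ModuleCat.of R N)).mapHomologicalComplex (ComplexShape.down ℕ)).obj F).homology i ≅ ((Tor' (ModuleCat.{u} R) i).obj (ModuleCat.of R M)).obj (ModuleCat.of R N)) := by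
  have hexact : ∀ j : ℕ, F.ExactAt (j + 1) := fun j =>
    (quasiIsoAt_iff_exactAt' φ (j + 1) (ChainComplex.exactAt_succ_single_obj _ j)).mp inferInstance
  let e : F.opcycles 0 ≅ ModuleCat.of R M :=
    F.isoHomologyι₀.symm ≪≫ isoOfQuasiIsoAt φ 0 ≪≫
      HomologicalComplex.singleObjHomologySelfIso (ComplexShape.down ℕ) 0 (ModuleCat.of R M)
  exact ⟨((Groth.Agent.Lib.Helper46.TorLES2.torIsoHfunOfRes F hF hexact e i).app
    (ModuleCat.of R N)).symm ≪≫
    (Groth.Agent.Lib.Helper46.TorPrime.tor'IsoTor (ModuleCat.of R M) (ModuleCat.of R N) i).symm⟩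

end Groth.Agent.S17773
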