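import Groth.Statements.S17774
import Groth.Agent.Lib.Helper2.LDCM
import Groth.Agent.Lib.Helper2.InjHull
import Groth.Agent.Lib.Helper29.GorCM2
import Groth.Agent.Lib.Helper29.CMRing
import Groth.Agent.S11665

set_option autoImplicit false
universe u
open CategoryTheory Opposite
open LocCoh

namespace Groth.Agent.S17774

/-- `ht I + dim A/I ≤ dim A`. -/
theorem height_add_dim_quotient_le (A : Type u) [CommRing A] (I : Ideal A) (d : ℕ)
    (hd : ringKrullDim (A ⧸ I) = d) :
    ((I.height : ℕ∞) : WithBot ℕ∞) + (d : WithBot ℕ∞) ≤ ringKrullDim A := by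
  rw [ringKrullDim_quotient] at hd
  obtain ⟨l, hl⟩ := Order.le_krullDim_iff.mp (le_of_eq hd.symm)
  let l' : LTSeries (PrimeSpectrum A) := l.map Subtype.val (fun _ _ h => h)
  set p : PrimeSpectrum A := l'.head with hp
  have hIp : I ≤ p.asIdeal := by
    have : p = (l.head).val := rfl
    rw [this]
    exact (PrimeSpectrum.mem_zeroLocus _ _).mp l.head.2
  have h1 : I.height ≤ Order.height p := by
    rw [← PrimeSpectrum.height_eq_orderHeight p]
    exact Ideal.height_mono hIp
  have h2 : (d : ℕ∞) ≤ Order.coheight p := by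
    have : (l'.length : ℕ∞) ≤ Order.coheight l'.head := Order.length_le_coheight_head
    have hlen : l'.length = d := hl
    rw [hlen] at this
    exact this
  have h3 : ringKrullDim A = ((⨆ (b : PrimeSpectrum A), Order.height b + Order.coheight b : ℕ∞) :
      WithBot ℕ∞) := by
    have : Nonempty (PrimeSpectrum A) := ⟨p⟩
    exact Order.krullDim_eq_iSup_height_add_coheight_of_nonempty
  rw [h3]
  have h4 : I.height + (d : ℕ∞) ≤ ⨆ (b : PrimeSpectrum A), Order.height b + Order.coheight b :=
    (add_le_add h1 h2).trans (le_iSup (fun b : PrimeSpectrum A => Order.height b + Order.coheight b) p)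
  exact_mod_cast h4

/-- Let (S, n) be a Gorenstein local ring, I an ideal of S of height g such that R = S ⧸ I is a
Cohen–Macaulay local ring, of Krull dimension d, and E an injective hull of the residue field of S.
Then the canonical module of R is Ext^g_S(R, S), in the following sense: the Matlis dual
Hom_S(Ext^g_S(R, S), E) is isomorphic as an S-module to the top local cohomology H^d_n(R) of R
regarded as an S-module (existence of an S-linear isomorphism; Hom into E over S and local
cohomology with support in n agree with the corresponding notions over R for R-modules). -/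
theorem result (S : Type u) [CommRing S] [LocCoh.IsGorensteinLocalRing S] (I : Ideal S) (g : ℕ) (hg : I.height = g) [LocCoh.IsCohenMacaulayLocalRing (S ⧸ I)] (d : ℕ) (hd : ringKrullDim (S ⧸ I) = d) (E : Type u) [AddCommGroup E] [Module S E] (f : IsLocalRing.ResidueField S →ₗ[S] E) (hf : InjHull.IsInjectiveHull f) : Nonempty ((((Ext S (ModuleCat.{u} S) g).obj (op (ModuleCat.of S (S ⧸ I)))).obj (ModuleCat.of S S) →ₗ[S] E) ≃ₗ[S] LocCoh.H (IsLocalRing.maximalIdeal S) d (S ⧸ I)) := by
  open IsLocalRing in
  obtain ⟨n₀, h⟩ := LocCoh.IsGorensteinLocalRing.exists_hasInjectiveDimensionLT (A := S)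
  obtain ⟨r, -, -, hdim, hdepth⟩ := Groth.Agent.Lib.Helper29.GorCM.exists_top_ext n₀ h
  have hI : I ≠ ⊤ := by
    intro hI
    have : Subsingleton (S ⧸ I) := by
      rw [hI]; exact Ideal.Quotient.subsingleton_iff.mpr rfl
    exact not_subsingleton (S ⧸ I) this
  have hCM : LocCoh.IsCohenMacaulayModule S S := by
    show Module.supportDim S S = ((LocCoh.depth S S : ℕ∞) : WithBot ℕ∞)
    rw [Module.supportDim_self_eq_ringKrullDim, hdim, hdepth]
    rfl
  -- `dim S = dim S/I + depth_I S`
  have h1 := Groth.Agent.Lib.Helper29.CMRing.supportDim_eq_add_idealDepth_of_isCM S I hI S hCM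
  have hItop : I • (⊤ : Submodule S S) = I := by rw [smul_eq_mul, Ideal.mul_top]
  have h2 : Module.supportDim S (S ⧸ (I • (⊤ : Submodule S S))) = d := by
    rw [Module.supportDim_eq_of_equiv (Submodule.quotEquivOfEq _ _ hItop),
      Module.supportDim_quotient_eq_ringKrullDim, hd]
  rw [Module.supportDim_self_eq_ringKrullDim, hdim, h2] at h1
  have h3 : LocCoh.idealDepth I S ≤ I.height :=
    Groth.Agent.Lib.Helper29.CMRing.idealDepth_le_height S hI
  have h4 := height_add_dim_quotient_le S I d hd
  rw [hdim, hg] at h4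
  rw [hg] at h3
  -- arithmetic
  obtain ⟨t, ht⟩ : ∃ t : ℕ, LocCoh.idealDepth I S = t := by
    have hne : LocCoh.idealDepth I S ≠ ⊤ := by
      intro htop
      rw [htop, top_le_iff] at h3
      exact ENat.coe_ne_top g h3
    exact ⟨(LocCoh.idealDepth I S).toNat, (ENat.coe_toNat hne).symm⟩
  rw [ht] at h1 h3
  have h1' : r = d + t := by exact_mod_cast h1
  have h3' : t ≤ g := by exact_mod_cast h3
  have h4' : g + d ≤ r := by exact_mod_cast h4
  have hgt : g = t := by omega
  have hrd : r - g = d := by omega
  have hgr : g ≤ r := by omega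
  -- duality
  obtain ⟨g', hg'⟩ := Groth.Agent.S11665.result S r hdim
  obtain ⟨e, -⟩ := Groth.Agent.Lib.Helper2.injectiveHull_unique f hf g' hg'
  let eK : (S →ₗ[S] E) ≃ₗ[S] LocCoh.H (IsLocalRing.maximalIdeal S) r S :=
    (LinearMap.ringLmapEquivSelf S S E).trans e
  have hdepth' : (r : ℕ∞) ≤ LocCoh.depth S S := le_of_eq hdepth.symm
  obtain ⟨key⟩ := Groth.Agent.Lib.Helper2.LD.duality_oldExt r hdim.le hdepth' hf.isInjective eK g
    hgr (S ⧸ I)
  rw [hrd] at key
  exact ⟨key.symm⟩

end Groth.Agent.S17774
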