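import Groth.Statements.S17780
-- import your own Groth.Agent.* helpers here
import Groth.Agent.Lib.Helper89.FwdDiff

set_option autoImplicit false
universe u
open DRR

namespace Groth.Agent.S17780

/-- For x, y in a commutative ring and a natural number n, (n+1)! · x · y^n equals the sum over j = 0,
…, n of (−1)^(n−j) C(n, j) (x + j y)^(n+1), minus (n · (n+1)!/2) · y^(n+1). (The published identity
is stated in ℚ[x, y] with an overall factor 1/(n+1) and the coefficients C(n, j)(−1)^(n−j)/n!; it is
given here multiplied through by (n+1)!, which makes it an identity with integer coefficients valid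
in every commutative ring; n · (n+1)!/2 is an integer.) -/
theorem result (A : Type u) [CommRing A] (x y : A) (n : ℕ) :
    ((n + 1).factorial : A) * x * y ^ n =
      (∑ j ∈ Finset.range (n + 1), (-1 : A) ^ (n - j) * (n.choose j : A) * (x + (j : A) * y) ^ (n + 1))
        - ((n * (n + 1).factorial / 2 : ℕ) : A) * y ^ (n + 1) := by
  have hsum : (∑ j ∈ Finset.range (n + 1),
        (-1 : A) ^ (n - j) * (n.choose j : A) * (x + (j : A) * y) ^ (n + 1)) =
      (fwdDiff y)^[n] (fun t : A => t ^ (n + 1)) x := by
    rw [fwdDiff_iter_eq_sum_shift]
    refine Finset.sum_congr rfl fun j _ => ?_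
    simp [zsmul_eq_mul]
  have hnat : n * (n + 1).factorial / 2 = n.factorial * (n + 1).choose 2 := by
    have h2 : (n + 1).choose 2 * 2 = (n + 1) * n := by
      have := Nat.add_one_mul_choose_eq n 1
      simp only [Nat.choose_one_right] at this
      exact this.symm
    apply Nat.div_eq_of_eq_mul_left (by norm_num)
    rw [Nat.factorial_succ, mul_assoc, h2]
    ring
  rw [hsum, hnat, Groth.Agent.Lib.Helper89.fwdDiff_iter_pow_succ]
  ring

end Groth.Agent.S17780
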