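import Groth.Statements.S17781
-- import your own Groth.Agent.* helpers here
import Mathlib
import Groth.Agent.Lib.Helper72.BinomGcd

set_option autoImplicit false
open Variety

namespace Groth.Agent.S17781

/-- Let d ≥ 1 and N ≥ 1 be integers and let I(d, N) be the greatest common divisor of the quotients d/δ
over the divisors δ of d with 1 ≤ δ ≤ N. Then I(d, N) equals the greatest common divisor of the
integers χ(d, n) = 1 − (−1)^n C(d − 1, n) for 1 ≤ n ≤ N (χ(d, n) is the Euler characteristic of O_H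
for a degree-d hypersurface H in projective n-space). Both greatest common divisors are taken in ℤ,
normalised to be non-negative. -/
theorem result (d N : ℕ) (hd : 1 ≤ d) (hN : 1 ≤ N) :
    (Finset.Icc 1 N).gcd (fun n => 1 - (-1 : ℤ) ^ n * ((d - 1).choose n : ℤ)) =
      ((Finset.Icc 1 N).filter (fun δ => δ ∣ d)).gcd (fun δ => ((d / δ : ℕ) : ℤ)) := by
  open Groth.Agent.Lib.Helper72.BinomGcd in
  apply dvd_antisymm_of_normalize_eq Finset.normalize_gcd Finset.normalize_gcd
  · apply Finset.dvd_gcd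
    intro δ hδ
    rw [Finset.mem_filter, Finset.mem_Icc] at hδ
    have h1 : ∀ n ∈ Finset.Icc 1 N, (Finset.Icc 1 N).gcd (fun n => 1 - (-1 : ℤ) ^ n * ((d - 1).choose n : ℤ)) ∣
        1 - (-1 : ℤ) ^ n * ((d - 1).choose n : ℤ) := fun n hn => Finset.gcd_dvd hn
    have h2 := dvd_choose_of_dvd_chi d N hd _ h1
    have h3 : ∀ j ∈ Finset.Icc 1 N,
        ((Finset.Icc 1 N).gcd (fun n => 1 - (-1 : ℤ) ^ n * ((d - 1).choose n : ℤ))).natAbs ∣ d.choose j := by
      intro j hj
      have := h2 j hj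
      exact Int.natCast_dvd_natCast.mp (Int.natAbs_dvd.mpr this)
    have h4 := dvd_div_of_dvd_choose d N hd _ h3 δ hδ.1.1 hδ.1.2 hδ.2
    exact Int.natAbs_dvd.mp (Int.natCast_dvd_natCast.mpr h4)
  · apply Finset.dvd_gcd
    intro n hn
    rw [Finset.mem_Icc] at hn
    apply dvd_chi_of_dvd_choose d N hd _ _ n hn.2
    intro j hj
    rw [Finset.mem_Icc] at hj
    have h1 : ((d / Nat.gcd d j : ℕ) : ℤ) ∣ (d.choose j : ℤ) :=
      Int.natCast_dvd_natCast.mpr (div_gcd_dvd_choose d j hd hj.1)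
    refine dvd_trans ?_ h1
    have hmem : Nat.gcd d j ∈ (Finset.Icc 1 N).filter (fun δ => δ ∣ d) := by
      rw [Finset.mem_filter, Finset.mem_Icc]
      refine ⟨⟨Nat.gcd_pos_of_pos_left _ (by omega), ?_⟩, Nat.gcd_dvd_left _ _⟩
      exact le_trans (Nat.gcd_le_right _ (by omega)) hj.2
    exact Finset.gcd_dvd (f := fun δ => ((d / δ : ℕ) : ℤ)) hmem

end Groth.Agent.S17781
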