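import Groth.Statements.S1779
import Groth.Agent.Lib.Helper12.DualizingAscent
import Groth.Agent.Lib.Helper63.CompletionNoeth

set_option autoImplicit false
universe u
open CategoryTheory
attribute [local instance] HasDerivedCategory.standard
open Dual

namespace Groth.Agent.S1779

/-- Let A be a Noetherian ring, I an ideal and ω a dualizing complex for A. Assuming the derived base
change functor to the I-adic completion exists, the base change of ω is a dualizing complex for the
I-adic completion of A. -/
theorem result (A : Type u) [CommRing A] [IsNoetherianRing A] (I : Ideal A) [DRing.HasLBaseChange (algebraMap A (AdicCompletion I A))] (ω : Dual.D A) (hω : Dual.IsDualizing A ω) : Dual.IsDualizing (AdicCompletion I A) ((DRing.LBaseChange (algebraMap A (AdicCompletion I A))).obj ω) := by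
  haveI : IsNoetherianRing (AdicCompletion I A) :=
    Groth.Agent.Lib.Helper63.CompletionNoeth.isNoetherianRing_adicCompletion A I
  have fg : I.FG := IsNoetherian.noetherian I
  have hJ : I.map (algebraMap A (AdicCompletion I A)) ≤ (⊥ : Ideal (AdicCompletion I A)).jacobson := by
    haveI := AdicCompletion.isAdicComplete_self I fg
    exact IsAdicComplete.le_jacobson_bot _
  have hs : Function.Surjective ((Ideal.Quotient.mk (I.map (algebraMap A (AdicCompletion I A)))).comp
      (algebraMap A (AdicCompletion I A))) := by
    intro y
    obtain ⟨y, rfl⟩ := Ideal.Quotient.mk_surjective y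
    obtain ⟨x, hx⟩ := Ideal.Quotient.mk_surjective (AdicCompletion.evalOneₐ I y)
    refine ⟨x, ?_⟩
    rw [RingHom.comp_apply, Ideal.Quotient.eq, ← AdicCompletion.ker_evalOneₐ_eq_map I fg,
      RingHom.mem_ker, map_sub]
    have h1 : (AdicCompletion.evalOneₐ I).toRingHom (algebraMap A (AdicCompletion I A) x) =
        Ideal.Quotient.mk I x := by
      rw [← RingHom.comp_apply, AdicCompletion.evalOneₐ_comp_algebraMap_eq_mk]
    rw [h1, hx]
    exact sub_self _
  have h := Groth.Agent.Lib.Helper12.DualizingAscent.isDualizing_extScD_of_surjective_mod I hs hJ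
    ω hω
  exact Groth.Agent.Lib.Helper12.DualizingBC.isDualizing_of_iso
    ((Groth.Agent.Lib.Helper12.FlatHomBC.lBaseChangeIsoExtScD (A := A)
      (B := AdicCompletion I A)).app ω).symm h

end Groth.Agent.S1779
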