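import Groth.Statements.S17794
-- import your own Groth.Agent.* helpers here
import Groth.Agent.Lib.Helper40.QuotShEff
import Groth.Agent.Lib.Helper40.GrpKer
import Groth.Agent.S4599

set_option autoImplicit false
universe u
open CategoryTheory CategoryTheory.Limits MonoidalCategory CartesianMonoidalCategory MonObj GrpObj AlgebraicGeometry
open GrpSch

namespace Groth.Agent.S17794

/-- Let S be a scheme and f : G → H a homomorphism of S-group schemes, both of finite presentation over
S (locally of finite presentation, quasi-compact and quasi-separated), and let i : N → G be the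
kernel of f (the square formed by i, f, the unit section of H and N → S is cartesian). Then f is
faithfully flat (flat and surjective) if and only if the map of representable sheaves h_G → h_H
induced by f on the big fppf site of S is an epimorphism of sheaves of sets and N is flat over S. -/
theorem result {S : Scheme.{u}} {G H N : Over S} [GrpObj G] [GrpObj H] (f : G ⟶ H) [IsMonHom f] [LocallyOfFinitePresentation G.hom] [QuasiCompact G.hom] [QuasiSeparated G.hom] [LocallyOfFinitePresentation H.hom] [QuasiCompact H.hom] [QuasiSeparated H.hom] (i : N ⟶ G) (hi : AlgGrp.IsKernel i f) : (Flat f.left ∧ Surjective f.left) ↔ (Epi (QuotSh.repMap Scheme.fppfPrecoverage f) ∧ Flat N.hom) := by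
  classical
  have hk := Groth.Agent.Lib.Helper40.GrpKer.isKernelPair_of_isKernel hi
  constructor
  · rintro ⟨hfl, hsurj⟩
    have hlfp : LocallyOfFinitePresentation f.left :=
      Groth.Agent.S4599.lfp_of_comp_of_lft f.left H.hom (by rw [Over.w]; infer_instance)
        inferInstance
    refine ⟨?_, ?_⟩
    · rw [Groth.Agent.Lib.Helper40.QuotShApi.epi_repMap_iff]
      intro T y
      have sq : IsPullback (pullback.fst y f).left (pullback.snd y f).left y.left f.left :=
        (IsPullback.of_hasPullback y f).map (Over.forget S)
      have h1 : Flat (pullback.fst y f).left := MorphismProperty.of_isPullback sq.flip hfl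
      have h2 : Surjective (pullback.fst y f).left := MorphismProperty.of_isPullback sq.flip hsurj
      have h3 : LocallyOfFinitePresentation (pullback.fst y f).left :=
        MorphismProperty.of_isPullback sq.flip hlfp
      exact Groth.Agent.Lib.Helper40.QuotShApi.mem_J_of_singleton _ _ (pullback.fst y f)
        ⟨pullback.snd y f, pullback.condition.symm⟩
        (Scheme.Hom.singleton_mem_fppfPrecoverage _)
    · have sq := hi.map (Over.forget S)
      have h : Flat (toUnit N).left := MorphismProperty.of_isPullback sq hfl
      exact h
  · rintro ⟨hepi, hNfl⟩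
    have hq := (Groth.Agent.Lib.Helper40.QuotShApi.epi_repMap_iff _ f).mp hepi
    have hfst : Flat (fst G N).left := by
      rw [Over.fst_left]
      infer_instance
    have := Groth.Agent.Lib.Helper40.QuotShApi.flat_isLocalAtTarget_fppf.{u}
    refine ⟨Groth.Agent.Lib.Helper40.QuotShApi.property_of_isKernelPair _ @Flat hk.flip hq hfst, ?_⟩
    obtain ⟨Rc, hRc, hsec⟩ := Groth.Agent.Lib.Helper40.QuotShApi.exists_precover_sections _ hq
    obtain ⟨hjs, -⟩ := Groth.Agent.Lib.Helper40.FppfLocal.exists_of_mem_fppfPrecoverage hRc
    refine ⟨fun h => ?_⟩
    obtain ⟨Y, g, hg, ⟨y, rfl⟩⟩ := hjs h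
    obtain ⟨x, hx⟩ := hsec g hg
    exact ⟨x y, by rw [← hx]; rfl⟩

end Groth.Agent.S17794
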