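import Groth.Statements.S17797
import Mathlib

set_option autoImplicit false
set_option linter.style.haveILetI false
universe u
open CAlg

namespace Groth.Agent.S17797

open MvPolynomial IsLocalRing

/-- Suppose k is a field of characteristic zero and S is a local domain that is an essentially
finite-type k-algebra. Then there are an extension field K of k, a K-algebra A of finite type and a
maximal ideal m of A such that S is isomorphic over k to the localization A_m. -/
theorem result (k : Type u) [Field k] [CharZero k] (S : Type u) [CommRing S] [IsDomain S] [IsLocalRing S] [Algebra k S] [Algebra.EssFiniteType k S] : ∃ (K : Type u) (_ : Field K) (_ : Algebra k K) (A : Type u) (_ : CommRing A) (_ : Algebra K A) (_ : Algebra k A) (_ : IsScalarTower k K A) (_ : Algebra.FiniteType K A) (m : Ideal A) (_ : m.IsMaximal), Nonempty (S ≃ₐ[k] Localization.AtPrime m) := by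
  classical
  obtain ⟨σ, hσ⟩ := (Algebra.essFiniteType_iff (R := k) (S := S)).mp ‹Algebra.EssFiniteType k S›
  let B : Subalgebra k S := Algebra.adjoin k (σ : Set S)
  let κ := ResidueField S
  let ρ : S →ₐ[k] κ := IsScalarTower.toAlgHom k S κ
  have hρ : ∀ x : S, ρ x = 0 ↔ ¬ IsUnit x := by
    intro x
    change residue S x = 0 ↔ _
    rw [residue_eq_zero_iff, mem_maximalIdeal, mem_nonunits_iff]
  let T : Set κ := ρ '' (B : Set S)
  have hTalg : Algebra.IsAlgebraic (Algebra.adjoin k T) κ := by
    constructor
    intro x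
    obtain ⟨x, rfl⟩ := residue_surjective x
    obtain ⟨t, htB, htu, hxt⟩ := hσ x
    have h1 : ρ x = ρ (x * t) * (ρ t)⁻¹ := by
      rw [map_mul, mul_assoc, mul_inv_cancel₀, mul_one]
      rw [Ne, hρ]; exact not_not.mpr htu
    change IsAlgebraic _ (ρ x)
    rw [h1]
    have hmem : ∀ b ∈ B, IsAlgebraic (Algebra.adjoin k T) (ρ b) := by
      intro b hb
      have : ρ b ∈ Algebra.adjoin k T := Algebra.subset_adjoin ⟨b, hb, rfl⟩
      exact isAlgebraic_algebraMap (⟨ρ b, this⟩ : Algebra.adjoin k T)
    exact (hmem _ hxt).mul (hmem _ htB).inv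
  obtain ⟨U, hUT, hU⟩ := exists_isTranscendenceBasis_subset (R := k) T
  have hlift : ∀ x : U, ∃ b : S, b ∈ B ∧ ρ b = x := fun x => hUT x.2
  choose τ hτB hτ using hlift
  let P := MvPolynomial U k
  let K := FractionRing P
  have hcomp : ∀ p : P, ρ (aeval τ p) = aeval ((↑) : U → κ) p := by
    intro p
    rw [← AlgHom.comp_apply]
    congr 1
    ext x
    simp [hτ]
  have hunit : ∀ y : nonZeroDivisors P, IsUnit (aeval τ (y : P)) := by
    intro y
    by_contra h
    rw [← hρ, hcomp] at h
    have h0 : (y : P) = 0 := hU.1 (by rw [h, map_zero])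
    exact nonZeroDivisors.coe_ne_zero y h0
  let ψ : K →ₐ[k] S := IsLocalization.liftAlgHom (M := nonZeroDivisors P) (f := aeval τ) hunit
  have hψ : ∀ p : P, ψ (algebraMap P K p) = aeval τ p := fun p =>
    IsLocalization.lift_eq _ p
  letI : Algebra K S := ψ.toRingHom.toAlgebra
  haveI : IsScalarTower k K S := IsScalarTower.of_algebraMap_eq fun r => (ψ.commutes r).symm
  letI : Algebra K κ := ((algebraMap S κ).comp ψ.toRingHom).toAlgebra
  haveI : IsScalarTower K S κ := IsScalarTower.of_algebraMap_eq fun r => rfl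
  haveI : IsScalarTower k K κ := IsScalarTower.to₁₂₄ k K S κ
  have hKalg : Algebra.IsAlgebraic K κ := by
    rw [hU.isAlgebraic_iff]
    intro i
    have : ((i : κ)) = algebraMap K κ (algebraMap P K (X i)) := by
      change _ = ρ (ψ (algebraMap P K (X i)))
      rw [hψ, aeval_X, hτ]
    rw [this]
    exact isAlgebraic_algebraMap _
  let A : Subalgebra K S := Algebra.adjoin K (σ : Set S)
  have hBA : ∀ b ∈ B, b ∈ A := by
    intro b hb
    have h1 : B ≤ A.restrictScalars k := by
      apply Algebra.adjoin_le
      intro x hx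
      exact Algebra.subset_adjoin (R := K) hx
    exact h1 hb
  let m : Ideal A := (maximalIdeal S).comap (algebraMap A S)
  haveI hmprime : m.IsPrime := Ideal.comap_isPrime _ _
  -- maximality
  let ρA : A →ₐ[K] κ := (IsScalarTower.toAlgHom K S κ).comp A.val
  have hker : RingHom.ker ρA.toRingHom = m := by
    ext a
    change ρ (a : S) = 0 ↔ (a : S) ∈ maximalIdeal S
    rw [hρ, mem_maximalIdeal, mem_nonunits_iff]
  have hmax : m.IsMaximal := by
    rw [← hker]
    apply Ideal.Quotient.maximal_of_isField
    haveI : Algebra.IsIntegral K κ := Algebra.IsAlgebraic.isIntegral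
    haveI : Algebra.IsIntegral K (A ⧸ RingHom.ker ρA.toRingHom) :=
      Algebra.IsIntegral.of_injective (Ideal.kerLiftAlg ρA) (Ideal.kerLiftAlg_injective ρA)
    haveI : (RingHom.ker ρA.toRingHom).IsPrime := hker ▸ hmprime
    exact isField_of_isIntegral_of_isField' (R := K) (S := A ⧸ RingHom.ker ρA.toRingHom)
      (Field.toIsField K)
  haveI hloc : IsLocalization.AtPrime S m := by
    refine ⟨⟨?_, ?_, ?_⟩⟩
    · intro y
      have : (y : A) ∉ m := y.2
      by_contra h
      exact this h
    · intro z
      obtain ⟨t, htB, htu, hzt⟩ := hσ z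
      refine ⟨⟨⟨z * t, hBA _ hzt⟩, ⟨⟨t, hBA _ htB⟩, ?_⟩⟩, rfl⟩
      intro hmem
      exact hmem htu
    · intro x y hxy
      exact ⟨1, by rw [Subtype.ext hxy]⟩
  refine ⟨K, inferInstance, inferInstance, A, inferInstance, inferInstance, inferInstance,
    inferInstance, ?_, m, hmax, ⟨?_⟩⟩
  · exact (Subalgebra.fg_iff_finiteType _).mp (Subalgebra.fg_adjoin_finset σ)
  · exact ((IsLocalization.algEquiv m.primeCompl (Localization.AtPrime m) S).restrictScalars k).symm

end Groth.Agent.S17797
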