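import Groth.Statements.S17825
-- import your own Groth.Agent.* helpers here

set_option autoImplicit false
universe u
open CategoryTheory CategoryTheory.Limits AlgebraicGeometry
open JacVar

namespace Groth.Agent.S17825

/-- Let S be a scheme, Y an S-scheme separated over S, F a presheaf of sets on the category of
S-schemes, f : h_Y ⟶ F a morphism from the functor of points of Y, and s : F ⟶ h_Y a section of f (s
followed by f is the identity). Then F is represented by a closed subscheme of Y: there are an
S-scheme Z, a morphism i : Z ⟶ Y over S which is a closed immersion, and an isomorphism F ≅ h_Z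
whose composite with h_i : h_Z ⟶ h_Y is s. (The published lemma treats the case where Y is the r-th
symmetric power of a curve, F the functor of degree-r invertible families modulo twisting and f the
divisor-class map.) -/
theorem result {S : Scheme.{u}} (Y : Over S) [IsSeparated Y.hom]
    (F : (Over S)ᵒᵖ ⥤ Type u) (f : yoneda.obj Y ⟶ F) (s : F ⟶ yoneda.obj Y) (hsf : s ≫ f = 𝟙 F) :
    ∃ (Z : Over S) (i : Z ⟶ Y), IsClosedImmersion i.left ∧
      ∃ e : F ≅ yoneda.obj Z, e.hom ≫ yoneda.map i = s := by
  classical
  obtain ⟨e, he⟩ : ∃ e : Y ⟶ Y, yoneda.map e = f ≫ s :=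
    ⟨Yoneda.fullyFaithful.preimage (f ≫ s), Yoneda.fullyFaithful.map_preimage _⟩
  have hee : e ≫ e = e := by
    apply yoneda.map_injective
    rw [Functor.map_comp, he, Category.assoc, ← Category.assoc s, hsf, Category.id_comp]
  have hi : equalizer.ι (𝟙 Y) e ≫ e = equalizer.ι (𝟙 Y) e :=
    (equalizer.condition (𝟙 Y) e).symm.trans (Category.comp_id _)
  have hlift : e ≫ 𝟙 Y = e ≫ e := by rw [Category.comp_id, hee]
  have hr : equalizer.lift e hlift ≫ equalizer.ι (𝟙 Y) e = e := equalizer.lift_ι _ _
  have hir : equalizer.ι (𝟙 Y) e ≫ equalizer.lift e hlift = 𝟙 _ := by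
    apply equalizer.hom_ext
    rw [Category.assoc, hr, hi, Category.id_comp]
  refine ⟨equalizer (𝟙 Y) e, equalizer.ι (𝟙 Y) e, inferInstance, ?_⟩
  refine ⟨⟨s ≫ yoneda.map (equalizer.lift e hlift), yoneda.map (equalizer.ι (𝟙 Y) e) ≫ f, ?_, ?_⟩, ?_⟩
  · rw [Category.assoc, ← Category.assoc (yoneda.map (equalizer.lift e hlift)), ← Functor.map_comp,
      hr, he, Category.assoc, hsf, Category.comp_id, hsf]
  · rw [Category.assoc, ← Category.assoc f, ← he, ← Functor.map_comp, ← Functor.map_comp,
      ← Category.assoc, hi, hir, CategoryTheory.Functor.map_id]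
  · show (s ≫ yoneda.map (equalizer.lift e hlift)) ≫ yoneda.map (equalizer.ι (𝟙 Y) e) = s
    rw [Category.assoc, ← Functor.map_comp, hr, he, ← Category.assoc, hsf, Category.id_comp]

end Groth.Agent.S17825
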