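import Groth.Statements.S17833
import Groth.Agent.Lib.Helper60.ConnInt
import Groth.Agent.Lib.Helper60.DiagHom
import Groth.Agent.Lib.Helper69.ReducedSmoothLocal
set_option autoImplicit false
universe u
open CategoryTheory MonoidalCategory CartesianMonoidalCategory MonObj GrpObj AlgebraicGeometry
open AlgGrp

namespace Groth.Agent.S17833

/-- Over an algebraically closed field k, let G be a connected smooth k-group scheme of finite type (in
the terminology of the notes, a smooth connected algebraic group), and H an affine normal subgroup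
scheme of G such that the quotient G/H is an abelian variety: here j : H → G is the kernel of a flat
surjective homomorphism q : G → Q of k-group schemes with Q proper over k, and H is affine. Then an
automorphism u of the algebraic group G which fixes H pointwise (j ∘ u = j) and induces the identity
of Q (q ∘ u = q) is the identity. Equivalently, the map from the group of automorphisms of G fixing
H pointwise to the automorphism group of G/H is injective. -/
theorem result (k : Type u) [Field k] [IsAlgClosed k]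
    (G H Q : Over (Spec (CommRingCat.of k))) [GrpObj G] [GrpObj H] [GrpObj Q]
    [Smooth G.hom] [QuasiCompact G.hom] [ConnectedSpace ↥G.left]
    [IsAffine H.left] [IsProper Q.hom]
    (j : H ⟶ G) [IsMonHom j] (q : G ⟶ Q) [IsMonHom q] [Flat q.left] [Surjective q.left]
    (hker : AlgGrp.IsKernel j q)
    (u : G ≅ G) [IsMonHom u.hom] (hH : j ≫ u.hom = j) (hQ : u.hom ≫ q = q) :
    u.hom = 𝟙 G := by
  have hjmono : ∀ {T : Over (Spec (CommRingCat.of k))} (a b : T ⟶ H), a ≫ j = b ≫ j → a = b :=
    fun a b h => hker.hom_ext h (toUnit_unique _ _)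
  let δ : G ⟶ G := u.hom * (𝟙 G)⁻¹
  have hδq : δ ≫ q = toUnit G ≫ η[Q] := by
    show (u.hom * (𝟙 G)⁻¹) ≫ q = _
    rw [MonObj.mul_comp, GrpObj.inv_comp, hQ, Category.id_comp, mul_inv_cancel]; rfl
  let δH : G ⟶ H := hker.lift δ (toUnit G) hδq
  have hδH : δH ≫ j = δ := hker.lift_fst _ _ _
  have hinv : ∀ {T : Over (Spec (CommRingCat.of k))} (a₁ a₂ : T ⟶ G), a₁ ≫ q = a₂ ≫ q →
      a₁ ≫ δH = a₂ ≫ δH := by
    intro T a₁ a₂ h
    apply hjmono
    rw [Category.assoc, Category.assoc, hδH]
    have hh : (a₁⁻¹ * a₂) ≫ q = toUnit T ≫ η[Q] := by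
      rw [MonObj.mul_comp, GrpObj.inv_comp, h, inv_mul_cancel]; rfl
    let h' : T ⟶ H := hker.lift (a₁⁻¹ * a₂) (toUnit T) hh
    have hh' : h' ≫ j = a₁⁻¹ * a₂ := hker.lift_fst _ _ _
    have hu : (a₁⁻¹ * a₂) ≫ u.hom = a₁⁻¹ * a₂ := by
      rw [← hh', Category.assoc, hH]
    have e2 : a₂ = a₁ * (a₁⁻¹ * a₂) := by group
    have hu2 : a₂ ≫ u.hom = (a₁ ≫ u.hom) * (a₁⁻¹ * a₂) := by
      conv_lhs => rw [e2]
      rw [MonObj.mul_comp, hu]
    show a₁ ≫ (u.hom * (𝟙 G)⁻¹) = a₂ ≫ (u.hom * (𝟙 G)⁻¹)
    rw [MonObj.comp_mul, MonObj.comp_mul, GrpObj.comp_inv, GrpObj.comp_inv, Category.comp_id,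
      Category.comp_id, hu2]
    group
  haveI : QuasiCompact (q.left ≫ Q.hom) := by rw [Over.w q]; infer_instance
  haveI : QuasiCompact q.left := QuasiCompact.of_comp q.left Q.hom
  let dbar : Q.left ⟶ H.left := EffectiveEpi.desc q.left δH.left (by
    intro Z g₁ g₂ hg
    have hg2 : g₂ ≫ G.hom = g₁ ≫ G.hom := by
      rw [← Over.w q, ← Category.assoc, ← hg, Category.assoc]
    let T : Over (Spec (CommRingCat.of k)) := Over.mk (g₁ ≫ G.hom)
    let a₁ : T ⟶ G := Over.homMk g₁ rfl
    let a₂ : T ⟶ G := Over.homMk g₂ hg2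
    have := hinv a₁ a₂ (by apply Over.OverMorphism.ext; exact hg)
    exact congrArg (fun f => f.left) this)
  have hfac : q.left ≫ dbar = δH.left := EffectiveEpi.fac _ _ _
  haveI : Epi q.left := inferInstance
  haveI : Epi q := Over.epi_of_epi_left q
  have hinj : Function.Injective q.left.appTop.hom :=
    Groth.Agent.Lib.Helper60.DiagHom.appTop_injective_of_epi q
  haveI : IsReduced G.left :=
    Groth.Agent.Lib.Helper69.ReducedSmoothLocal.isReduced_of_smooth G.hom
  have hsurj := Groth.Agent.Lib.Helper60.ConnInt.surjective_appTop Q.hom q.left hinj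
  have hconst := Groth.Agent.Lib.Helper60.ConnInt.eq_const_of_isAffine Q.hom hsurj η[Q].left
    (Over.w η[Q]) dbar
  have hδH1 : δH = toUnit G ≫ η[G] ≫ δH := by
    apply Over.OverMorphism.ext
    have h1 : (η[G] ≫ q).left = η[Q].left := congrArg (fun f => f.left) (IsMonHom.one_hom (f := q))
    show δH.left = G.hom ≫ η[G].left ≫ δH.left
    rw [← hfac, ← Category.assoc η[G].left, ← Over.comp_left, h1]
    conv_lhs => rw [hconst]
    rw [← Category.assoc q.left, Over.w q]
  have hηδ : η[G] ≫ δ = 1 := by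
    show η[G] ≫ (u.hom * (𝟙 G)⁻¹) = 1
    rw [MonObj.comp_mul, GrpObj.comp_inv, Category.comp_id, IsMonHom.one_hom (f := u.hom),
      mul_inv_cancel]
  have hδ1 : δ = 1 := by
    rw [← hδH, hδH1, Category.assoc, Category.assoc, hδH, hηδ, MonObj.comp_one]
  exact mul_inv_eq_one.mp hδ1

end Groth.Agent.S17833
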