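import Groth.Statements.S17839
import Mathlib
import Groth.Agent.S9684
import Groth.Agent.S0558
import Groth.Agent.S6462
import Groth.Agent.Lib.Helper15.CatDim
import Groth.Agent.Lib.Helper22.FlatDiv
-- import your own Groth.Agent.* helpers here

set_option autoImplicit false
universe u
open CategoryTheory AlgebraicGeometry
open Cyc

namespace Groth.Agent.S17839

section PRE
open Groth.Agent.S6459 (pt pt_specializes_iff pt_injective pt_closedPoint exists_pt_eq pt_specializes)
open Groth.Agent.S6462 (pt_ker_specMap ker_specMap_isPrime)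
open Groth.Agent.Lib.Helper91.GenPrime (primeOf isLocalization_stalkSpecializes)
open Groth.Agent.Lib.Helper22.FlatDiv (ker_specMap_eq_primeOf)
open Groth.Agent.Lib.Helper15.CatDim (ideal_height_eq_of_covBy)
open IsLocalRing

lemma equidim_of_domain (A : Type u) [CommRing A] [IsDomain A] : EGA4.IsEquidim A := by
  intro p hp
  rw [IsDomain.minimalPrimes_eq_singleton_bot] at hp
  have : p = ⊥ := hp
  rw [this]
  exact ringKrullDim_eq_of_ringEquiv (RingEquiv.quotientBot A)

theorem dimFun {S : Scheme.{u}} [IsLocallyNoetherian S]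
    (hreg : ∀ s : S, IsRegularLocalRing (S.presheaf.stalk s))
    (huc : ∀ s : S, CAlg.IsUniversallyCatenary (S.presheaf.stalk s))
    (δS : S → ℤ) (hδS : ∀ s : S, ringKrullDim (S.presheaf.stalk s) =
      ((-δS s).toNat : WithBot ℕ∞) ∧ δS s ≤ 0) : Cyc.IsDimFun S δS := by
  intro x y hxy hne
  haveI : IsRegularLocalRing (S.presheaf.stalk y) := hreg y
  haveI : IsDomain (S.presheaf.stalk y) := Groth.Agent.S0558.result _
  haveI : IsNoetherianRing (S.presheaf.stalk y) := inferInstance
  have hcat : CAlg.IsCatenary (S.presheaf.stalk y) :=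
    (huc y).2 (S.presheaf.stalk y) inferInstance
  have heq := equidim_of_domain (S.presheaf.stalk y)
  -- heights
  letI alg := (S.presheaf.stalkSpecializes hxy).hom.toAlgebra
  haveI hloc := isLocalization_stalkSpecializes hxy
  have hx : ringKrullDim (S.presheaf.stalk x) = ((primeOf hxy).height : WithBot ℕ∞) :=
    IsLocalization.AtPrime.ringKrullDim_eq_height (primeOf hxy) (S.presheaf.stalk x)
  have hy : ((maximalIdeal (S.presheaf.stalk y)).height : WithBot ℕ∞) =
      ringKrullDim (S.presheaf.stalk y) := IsLocalRing.maximalIdeal_height_eq_ringKrullDim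
  rw [(hδS x).1] at hx
  rw [(hδS y).1] at hy
  have hx' : (primeOf hxy).height = ((-δS x).toNat : ℕ∞) := by exact_mod_cast hx.symm
  have hy' : (maximalIdeal (S.presheaf.stalk y)).height = ((-δS y).toNat : ℕ∞) := by
    exact_mod_cast hy
  -- the prime is not maximal
  have hpt : pt y ⟨primeOf hxy, inferInstance⟩ = x := by
    have h1 := pt_ker_specMap y x hxy
    have h2 : (⟨primeOf hxy, inferInstance⟩ : PrimeSpectrum (S.presheaf.stalk y)) =
        ⟨RingHom.ker (specMap y x hxy), ker_specMap_isPrime y x hxy⟩ :=
      PrimeSpectrum.ext (ker_specMap_eq_primeOf y x hxy).symm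
    rw [h2]
    exact h1
  have hpne : primeOf hxy ≠ maximalIdeal (S.presheaf.stalk y) := by
    intro h
    apply hne
    rw [← hpt]
    have : (⟨primeOf hxy, inferInstance⟩ : PrimeSpectrum (S.presheaf.stalk y)) =
        closedPoint (S.presheaf.stalk y) := PrimeSpectrum.ext h
    rw [this, pt_closedPoint]
  have hplt : primeOf hxy < maximalIdeal (S.presheaf.stalk y) :=
    lt_of_le_of_ne (IsLocalRing.le_maximalIdeal (Ideal.IsPrime.ne_top inferInstance)) hpne
  have hlt := Ideal.height_strict_mono_of_isPrime_of_isPrime hplt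
  rw [hx', hy'] at hlt
  have hlt' : (-δS x).toNat < (-δS y).toNat := by exact_mod_cast hlt
  have h0x := (hδS x).2
  have h0y := (hδS y).2
  refine ⟨by omega, fun himm => ?_⟩
  have hcov : (⟨primeOf hxy, inferInstance⟩ : PrimeSpectrum (S.presheaf.stalk y)) ⋖
      ⟨maximalIdeal (S.presheaf.stalk y), inferInstance⟩ := by
    refine ⟨hplt, fun q hq1 hq2 => ?_⟩
    have s1 : x ⤳ pt y q := by
      rw [← hpt]
      exact (pt_specializes_iff y _ q).mpr hq1.le
    have s2 : pt y q ⤳ y := pt_specializes y q
    rcases himm (pt y q) s1 s2 with h | h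
    · rw [← hpt] at h
      exact hq1.ne (pt_injective y h).symm
    · have : pt y q = pt y (closedPoint (S.presheaf.stalk y)) := by rw [h, pt_closedPoint]
      have h2 := pt_injective y this
      exact hq2.ne h2
  have hh := ideal_height_eq_of_covBy hcat heq (primeOf hxy) (maximalIdeal (S.presheaf.stalk y)) hcov
  rw [hx', hy'] at hh
  have hh' : (-δS y).toNat = (-δS x).toNat + 1 := by exact_mod_cast hh
  omega

theorem main {X S : Scheme.{u}} (f : X ⟶ S)
    [LocallyOfFiniteType f] [IsLocallyNoetherian S]
    (hreg : ∀ s : S, IsRegularLocalRing (S.presheaf.stalk s))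
    (huc : ∀ s : S, CAlg.IsUniversallyCatenary (S.presheaf.stalk s))
    (δS : S → ℤ) (hδS : ∀ s : S, ringKrullDim (S.presheaf.stalk s) =
      ((-δS s).toNat : WithBot ℕ∞) ∧ δS s ≤ 0)
    (δ : X → ℤ) (hδ : Cyc.DeltaCompat f δ δS) :
    Cyc.IsDimFun X δ :=
  Groth.Agent.S9684.result f δS ⟨inferInstance, huc, dimFun hreg huc δS hδS⟩ δ hδ

end PRE

/-- Let S be a locally Noetherian scheme all of whose local rings are regular and universally catenary,
and δS : S → ℤ the function with δS(s) = −dim O_{S,s}. Let f : X ⟶ S be locally of finite type and δ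
: X → ℤ the induced function, δ(x) = δS(f x) + trdeg_{κ(f x)} κ(x) — the S-dimension: for X
irreducible with generic point ξ, δ(ξ) is the transcendence degree of the function field of X over
κ(f ξ) minus dim O_{S, f ξ}. Then δ is a dimension function on X: it drops strictly along every
nontrivial specialization and by exactly one along immediate ones; equivalently, for irreducible
closed subsets V ⊆ W of X with generic points v and w, codim(V, W) = δ(w) − δ(v). (The published
statement fixes S Noetherian, excellent, regular and separated and X separated of finite type over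
S; its proof uses only the hypotheses listed.) -/
theorem result {X S : Scheme.{u}} (f : X ⟶ S)
    [LocallyOfFiniteType f] [IsLocallyNoetherian S]
    (hreg : ∀ s : S, IsRegularLocalRing (S.presheaf.stalk s))
    (huc : ∀ s : S, CAlg.IsUniversallyCatenary (S.presheaf.stalk s))
    (δS : S → ℤ) (hδS : ∀ s : S, ringKrullDim (S.presheaf.stalk s) = ((-δS s).toNat : WithBot ℕ∞) ∧ δS s ≤ 0)
    (δ : X → ℤ) (hδ : Cyc.DeltaCompat f δ δS) :
    Cyc.IsDimFun X δ := by
  exact main f hreg huc δS hδS δ hδ

end Groth.Agent.S17839
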