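import Groth.Statements.S17840
import Groth.Agent.Lib.Helper73.FlatRelDim3
import Groth.Agent.Lib.Helper73.IrredDim
-- import your own Groth.Agent.* helpers here

set_option autoImplicit false
universe u
open CategoryTheory AlgebraicGeometry
open Cyc

namespace Groth.Agent.S17840
open Groth.Agent.Lib.Helper73.SchemeDim Groth.Agent.Lib.Helper73.FieldDim Groth.Agent.Lib.Helper73.DimFormula Groth.Agent.Lib.Helper73.FlatRelDim Groth.Agent.Lib.Helper73.RelHt

/-- Let (Y, δY) be a locally Noetherian scheme with universally catenary local rings and a dimension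
function, f : X ⟶ Y a flat morphism locally of finite type between irreducible schemes with generic
points ξ and η, and δX the induced function on X, δX(x) = δY(f x) + trdeg_{κ(f x)} κ(x). Put d =
δX(ξ) − δY(η). Then d ≥ 0, every irreducible component of every fibre of f has dimension d, and for
every point x of X the fibre of f over f(x) has dimension d. (The published statement is for schemes
separated of finite type over a Noetherian excellent regular separated base S with δ the S-dimension
— transcendence degree of the residue field minus the dimension of the local ring of S at the image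
point — and for the fibre over every point of Y; the fibre over a point outside f(X) is empty, so
the dimension statement is made here at points of the image; this row allows any dimension function
δY on a locally Noetherian Y with universally catenary local rings, with δX induced from it.) -/
theorem result {X Y : Scheme.{u}} (f : X ⟶ Y) [Flat f] [LocallyOfFiniteType f]
    [IrreducibleSpace X] [IrreducibleSpace Y] (δX : X → ℤ) (δY : Y → ℤ) (hY : Cyc.IsSetup Y δY)
    (hδ : Cyc.DeltaCompat f δX δY) :
    0 ≤ δX (genericPoint X) - δY (genericPoint Y) ∧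
      Cyc.HasRelDim f (δX (genericPoint X) - δY (genericPoint Y)).toNat ∧
      ∀ x : X, topologicalKrullDim ↥(f.fiber (f x)) =
        ((δX (genericPoint X) - δY (genericPoint Y)).toNat : WithBot ℕ∞) := by
  have : IsLocallyNoetherian Y := hY.1
  have : IsLocallyNoetherian X := LocallyOfFiniteType.isLocallyNoetherian f
  set ξ := genericPoint X with hξ
  set η := genericPoint Y with hη
  have hξsp : ∀ x : X, ξ ⤳ x := fun x => genericPoint_specializes x
  have hηsp : ∀ y : Y, η ⤳ y := fun y => genericPoint_specializes y
  have hfξ : f.base ξ = η := by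
    obtain ⟨ξ', hξ'ξ, hfξ'⟩ := Flat.generalizingMap f (hηsp (f.base ξ))
    have : ξ' = ξ := (hξ'ξ.antisymm (hξsp ξ')).eq
    rw [← this, hfξ']
  obtain ⟨d, hd, hδξ⟩ := hδ ξ
  have hdiff : δX ξ - δY η = d := by
    rw [hδξ, show (f ξ : Y) = η from hfξ]; ring
  rw [hdiff]
  have hrel : Cyc.HasRelDim f d := by
    rw [hasRelDim_iff]
    intro ζ hζmax
    obtain ⟨m, hm⟩ := exists_trdeg_residueField_eq_nat' f ζ
    rw [hm]
    -- d ≤ m by semicontinuity
    have h1 : d ≤ m := by
      have hFζ := fibreDimAt_eq_trdeg_of_maximal_in_fibre f ζ hζmax m hm
      have hFξ := fibreDimAt_eq_trdeg_of_maximal_in_fibre f ξ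
        (fun z' h _ => (h.antisymm (hξsp z')).eq) d hd
      have := fibreDimAt_mono' f (hξsp ζ)
      rw [hFζ, hFξ] at this
      exact_mod_cast this
    -- m ≤ d by the dimension inequality and flatness
    have h2 : m ≤ d := by
      have hineq := (relHt_add_trdeg_aux f (hξsp ζ) d m hd hm).1
      have hflat := ringKrullDim_stalk_le_of_flat f ζ
      rw [ringKrullDim_stalk_eq_relHt ξ hξsp ζ, ringKrullDim_stalk_eq_relHt η hηsp (f.base ζ)]
        at hflat
      have hflat' : relHt (f.base ζ) η ≤ relHt ζ ξ := by exact_mod_cast hflat
      rw [hfξ] at hineq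
      have hfin : relHt ζ ξ < ⊤ := relHt_lt_top (hξsp ζ)
      obtain ⟨r, hr⟩ := ENat.ne_top_iff_exists.mp hfin.ne
      rw [← hr] at hineq hflat'
      have hfin' : relHt (f.base ζ) η < ⊤ := relHt_lt_top (hηsp (f.base ζ))
      obtain ⟨r', hr'⟩ := ENat.ne_top_iff_exists.mp hfin'.ne
      rw [← hr'] at hineq hflat'
      have e1 : r' ≤ r := by exact_mod_cast hflat'
      have e2 : r + m ≤ r' + d := by exact_mod_cast hineq
      omega
    have : m = d := le_antisymm h2 h1
    rw [this]
  refine ⟨by positivity, by simpa using hrel, fun x => ?_⟩
  simp only [Int.toNat_natCast]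
  apply le_antisymm
  · exact topologicalKrullDim_le_of_irreducibleComponents _ (fun T hT => (hrel _ T hT).le)
  · have hT := irreducibleComponent_mem_irreducibleComponents (f.asFiber x)
    rw [← hrel (f.base x) _ hT]
    exact topologicalKrullDim_subspace_le _ _

end Groth.Agent.S17840
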