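import Groth.Statements.S17843
import Mathlib.RingTheory.Localization.Algebra
import Mathlib.RingTheory.PolynomialAlgebra
import Mathlib.Algebra.Polynomial.Inductions
import Mathlib.Order.Filter.AtTopBot.Basic
import Mathlib.Order.Filter.AtTopBot.Finset
import Mathlib.RingTheory.Ideal.Quotient.Operations
-- import your own Groth.Agent.* helpers here

set_option autoImplicit false
universe u v
open CAlg

namespace Groth.Agent.S17843


open Polynomial

section aux
variable (R : Type u) [CommRing R] (r : R)

local notation "L" => Localization.Away r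

/-- rescaling `T ↦ r^n T` on `R[T]` -/
noncomputable def σR (n : ℕ) : R[X] →ₐ[R] R[X] := aeval (C (r ^ n) * X)

/-- rescaling `T ↦ r^n T` on `R[1/r][T]` -/
noncomputable def σL (n : ℕ) : (L)[X] →ₐ[L] (L)[X] :=
  aeval (C (algebraMap R (L) (r ^ n)) * X)

theorem map_σR (n : ℕ) (P : R[X]) :
    (mapRingHom (algebraMap R (L))) (σR R r n P) = σL R r n (mapRingHom (algebraMap R (L)) P) := by
  have : (mapRingHom (algebraMap R (L))).comp (σR R r n).toRingHom =
      (σL R r n).toRingHom.comp (mapRingHom (algebraMap R (L))) := by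
    apply Polynomial.ringHom_ext
    · intro a
      simp [σR, σL]
    · simp [σR, σL]
  exact congrArg (fun g => g P) this

theorem σL_σL (n m : ℕ) (p : (L)[X]) : σL R r n (σL R r m p) = σL R r (m + n) p := by
  have : (σL R r n).toRingHom.comp (σL R r m).toRingHom = (σL R r (m + n)).toRingHom := by
    apply Polynomial.ringHom_ext
    · intro a
      simp [σL]
    · simp [σL, pow_add, mul_assoc, mul_left_comm]
  exact congrArg (fun g => g p) this

theorem eval_σR (n : ℕ) (P : R[X]) : eval 0 (σR R r n P) = eval 0 P := by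
  have : (evalRingHom (0 : R)).comp (σR R r n).toRingHom = evalRingHom (0 : R) := by
    apply Polynomial.ringHom_ext
    · intro a
      simp [σR]
    · simp [σR]
  exact congrArg (fun g => g P) this

theorem σR_C_mul (n : ℕ) (a : R) (P : R[X]) : σR R r n (C a * P) = C a * σR R r n P := by
  simp [σR]

theorem σR_X_mul (n : ℕ) (P : R[X]) : σR R r n (X * P) = X * σR R r n (C (r ^ n) * P) := by
  simp [σR]
  ring

theorem σL_X_mul (n : ℕ) (p : (L)[X]) :
    σL R r n (X * p) = X * σL R r n (C (algebraMap R (L) (r ^ n)) * p) := by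
  simp [σL]
  ring

theorem lift_poly (p : (L)[X]) (a : R) (h : algebraMap R (L) a = eval 0 p) :
    ∃ e₀, ∀ e ≥ e₀, ∃ P : R[X], eval 0 P = a ∧
      mapRingHom (algebraMap R (L)) P = σL R r e p := by
  letI := Polynomial.algebra R (L)
  haveI := Polynomial.isLocalization (Submonoid.powers r) (L)
  obtain ⟨⟨Q, m⟩, hQ⟩ := IsLocalization.surj ((Submonoid.powers r).map (C : R →+* R[X])) p.divX
  obtain ⟨m', ⟨e₀, rfl⟩, hm⟩ := m.2
  have hQ' : p.divX * C (algebraMap R (L) (r ^ e₀)) = mapRingHom (algebraMap R (L)) Q := by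
    have : algebraMap R[X] (L)[X] (m : R[X]) = C (algebraMap R (L) (r ^ e₀)) := by
      rw [← hm]
      show mapRingHom (algebraMap R (L)) (C (r ^ e₀)) = _
      simp
    rw [← this]
    exact hQ
  refine ⟨e₀, fun e he => ⟨C a + X * σR R r e (C (r ^ (e - e₀)) * Q), ?_, ?_⟩⟩
  · simp
  · have hp : p = X * p.divX + C (p.coeff 0) := (X_mul_divX_add p).symm
    have hc : p.coeff 0 = algebraMap R (L) a := by rw [h, coeff_zero_eq_eval_zero]
    have he' : r ^ e = r ^ (e - e₀) * r ^ e₀ := by rw [← pow_add, Nat.sub_add_cancel he]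
    conv_rhs => rw [hp, map_add, σL_X_mul]
    rw [map_add, map_mul, map_σR, map_mul, ← hQ', hc]
    simp only [coe_mapRingHom, Polynomial.map_C, Polynomial.map_X, σL, aeval_C, he', map_mul,
      Polynomial.algebraMap_apply, Algebra.algebraMap_self, RingHom.id_apply]
    ring

theorem kill_poly (H : R[X]) (h0 : eval 0 H = 0) (hH : mapRingHom (algebraMap R (L)) H = 0) :
    ∃ K, ∀ m ≥ K, σR R r m H = 0 := by
  letI := Polynomial.algebra R (L)
  haveI := Polynomial.isLocalization (Submonoid.powers r) (L)
  have h1 : algebraMap R[X] (L)[X] H = 0 := hH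
  rw [IsLocalization.map_eq_zero_iff ((Submonoid.powers r).map (C : R →+* R[X]))] at h1
  obtain ⟨m, hm⟩ := h1
  obtain ⟨m', ⟨K, rfl⟩, hm'⟩ := m.2
  have hK : C (r ^ K) * H.divX = 0 := by
    rw [← divX_C_mul, hm', hm, divX_zero]
  have hH' : H = X * H.divX := by
    conv_lhs => rw [← X_mul_divX_add H, coeff_zero_eq_eval_zero, h0, map_zero, add_zero]
  refine ⟨K, fun n hn => ?_⟩
  rw [hH', σR_X_mul]
  have : C (r ^ n) * H.divX = 0 := by
    have he' : r ^ n = r ^ (n - K) * r ^ K := by rw [← pow_add, Nat.sub_add_cancel hn]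
    rw [he', map_mul, mul_assoc, hK, mul_zero]
  rw [this, map_zero, mul_zero]

end aux

/-- In the case of an affine scheme of finite presentation, let B be a finitely presented R-algebra, r ∈
R, and x : B → R[1/r][T] an R-algebra homomorphism whose value at T = 0, a homomorphism B → R[1/r],
is induced by a homomorphism x̃₀ : B → R. Then for every large enough n, the homomorphism x(rⁿT) : B
→ R[1/r][T] is induced by a homomorphism x̃ : B → R[T] whose value at T = 0 is x̃₀. The published
statement is for algebraic spaces locally of finite presentation over R; this row takes an affine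
scheme of finite presentation. -/
theorem result
    (R : Type u) (B : Type v) [CommRing R] [CommRing B] [Algebra R B]
    [Algebra.FinitePresentation R B] (r : R)
    (x : B →ₐ[R] Polynomial (Localization.Away r))
    (x₀ : B →ₐ[R] R)
    (hx₀ : (algebraMap R (Localization.Away r)).comp x₀.toRingHom =
      (Polynomial.evalRingHom 0).comp x.toRingHom) :
    ∃ N : ℕ, ∀ n : ℕ, N ≤ n →
      ∃ y : B →ₐ[R] Polynomial R,
        (Polynomial.evalRingHom 0).comp y.toRingHom = x₀.toRingHom ∧
        (Polynomial.mapRingHom (algebraMap R (Localization.Away r))).comp y.toRingHom =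
          (Polynomial.aeval (Polynomial.C (algebraMap R (Localization.Away r) (r ^ n)) * Polynomial.X) :
              Polynomial (Localization.Away r) →ₐ[Localization.Away r] Polynomial (Localization.Away r)).toRingHom.comp
            x.toRingHom := by
  classical
  obtain ⟨k, f, hf, hker⟩ := Algebra.FinitePresentation.out (R := R) (A := B)
  obtain ⟨S, hS⟩ := hker
  have hA : ∀ i : Fin k, ∃ e₀, ∀ e ≥ e₀, ∃ P : R[X], eval 0 P = x₀ (f (MvPolynomial.X i)) ∧
      mapRingHom (algebraMap R (Localization.Away r)) P =
        σL R r e (x (f (MvPolynomial.X i))) := fun i =>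
    lift_poly R r _ _ (by
      have := congrArg (fun g => g (f (MvPolynomial.X i))) hx₀
      simpa using this)
  choose e₀ he₀ using hA
  let n₀ := Finset.univ.sup e₀
  have hn₀ : ∀ i, e₀ i ≤ n₀ := fun i => Finset.le_sup (Finset.mem_univ i)
  choose P hP0 hPmap using fun i => he₀ i n₀ (hn₀ i)
  let Y₀ : MvPolynomial (Fin k) R →ₐ[R] R[X] := MvPolynomial.aeval P
  have G1 : (evalRingHom 0).comp Y₀.toRingHom = x₀.toRingHom.comp f.toRingHom := by
    apply MvPolynomial.ringHom_ext
    · intro c
      simp [Y₀]
    · intro i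
      simp [Y₀, hP0]
  have G2 : (mapRingHom (algebraMap R (Localization.Away r))).comp Y₀.toRingHom =
      (σL R r n₀).toRingHom.comp (x.toRingHom.comp f.toRingHom) := by
    apply MvPolynomial.ringHom_ext
    · intro c
      simp [Y₀, σL]
    · intro i
      simpa [Y₀] using hPmap i
  have hB : ∀ s ∈ S, ∃ K, ∀ m ≥ K, σR R r m (Y₀ s) = 0 := by
    intro s hs
    have hs0 : f s = 0 := by
      have : s ∈ RingHom.ker f.toRingHom := hS ▸ Ideal.subset_span hs
      exact this
    apply kill_poly
    · have := congrArg (fun g => g s) G1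
      simpa [hs0] using this
    · have := congrArg (fun g => g s) G2
      simpa [hs0] using this
  choose! K hK using hB
  let K₀ := S.sup K
  refine ⟨n₀ + K₀, fun n hn => ?_⟩
  have hm : K₀ ≤ n - n₀ := by omega
  have hnm : n₀ + (n - n₀) = n := by omega
  let Y : MvPolynomial (Fin k) R →ₐ[R] R[X] := (σR R r (n - n₀)).comp Y₀
  have hY : RingHom.ker f.toRingHom ≤ RingHom.ker Y.toRingHom := by
    rw [← hS, Ideal.span_le]
    intro s hs
    show Y s = 0
    exact hK s hs (n - n₀) (le_trans (Finset.le_sup hs) hm)
  let y := AlgHom.liftOfSurjective f hf Y hY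
  have hy : ∀ b, y (f b) = σR R r (n - n₀) (Y₀ b) := fun b =>
    AlgHom.liftOfSurjective_apply f hf Y hY b
  refine ⟨y, ?_, ?_⟩
  · apply RingHom.ext
    intro b
    obtain ⟨b, rfl⟩ := hf b
    have := congrArg (fun g => g b) G1
    simp only [RingHom.comp_apply] at this ⊢
    show eval 0 (y (f b)) = x₀ (f b)
    rw [hy, eval_σR]
    exact this
  · apply RingHom.ext
    intro b
    obtain ⟨b, rfl⟩ := hf b
    have := congrArg (fun g => g b) G2
    simp only [RingHom.comp_apply] at this ⊢
    show mapRingHom (algebraMap R (Localization.Away r)) (y (f b)) = σL R r n (x (f b))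
    rw [hy, map_σR]
    have this' : mapRingHom (algebraMap R (Localization.Away r)) (Y₀ b) =
        σL R r n₀ (x (f b)) := this
    rw [this', σL_σL, hnm]

end Groth.Agent.S17843
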