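import Groth.Statements.S17849
import Mathlib

set_option autoImplicit false
open CategoryTheory
open GalLat

namespace Groth.Agent.S17849

set_option linter.unusedSectionVars false

namespace GLat

section Generic

attribute [-instance] AddCommGroup.toIntModule
attribute [-instance] instMulActionIntOfSubtractionMonoid

open MonoidAlgebra

section core1

variable {Γ : Type} [Group Γ] {X : Type} [MulAction Γ X]
variable {V W : Type} [AddCommGroup V] [AddCommGroup W] [Module ℤ V] [Module ℤ W]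
  (ρV : Representation ℤ Γ V) (ρW : Representation ℤ Γ W)
variable (φ : V →ₗ[ℤ] W) (ψ : W →ₗ[ℤ] MonoidAlgebra ℤ X)

include ρV ρW φ ψ in
theorem exists_fixed_lift
    (hφ : ∀ g v, φ (ρV g v) = ρW g (φ v))
    (hψ : ∀ g w, ψ (ρW g w) = Representation.ofMulAction ℤ Γ X g (ψ w))
    (hinj : Function.Injective φ) (hsurj : Function.Surjective ψ)
    (hex : ∀ w, ψ w = 0 → ∃ v, φ v = w) (hzero : ∀ v, ψ (φ v) = 0)
    (x : X)
    (hH1 : ∀ c : MulAction.stabilizer Γ x → V,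
      (∀ h₁ h₂ : MulAction.stabilizer Γ x, c (h₁ * h₂) = ρV h₁ (c h₂) + c h₁) →
        ∃ v, ∀ h : MulAction.stabilizer Γ x, ρV h v - v = c h) :
    ∃ m : W, ψ m = MonoidAlgebra.single x 1 ∧ ∀ h ∈ MulAction.stabilizer Γ x, ρW h m = m := by
  obtain ⟨m₀, hm₀⟩ := hsurj (MonoidAlgebra.single x 1)
  have h1 : ∀ h : MulAction.stabilizer Γ x, ∃ v, φ v = ρW h m₀ - m₀ := by
    intro h
    apply hex
    rw [map_sub, hψ, hm₀, Representation.ofMulAction_single]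
    have : (h : Γ) • x = x := h.2
    rw [this, sub_self]
  choose c hc using h1
  have hcoc : ∀ h₁ h₂ : MulAction.stabilizer Γ x, c (h₁ * h₂) = ρV h₁ (c h₂) + c h₁ := by
    intro h₁ h₂
    apply hinj
    rw [map_add, hφ, hc, hc, hc, map_sub]
    have : ((h₁ * h₂ : MulAction.stabilizer Γ x) : Γ) = (h₁ : Γ) * (h₂ : Γ) := rfl
    rw [this, map_mul, Module.End.mul_apply]
    abel
  obtain ⟨v, hv⟩ := hH1 c hcoc
  refine ⟨m₀ - φ v, ?_, ?_⟩
  · rw [map_sub, hm₀, hzero, sub_zero]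
  · intro h hh
    have := hv ⟨h, hh⟩
    have h2 := hc ⟨h, hh⟩
    simp only at this h2
    rw [map_sub, ← hφ]
    have : ρV h v = v + c ⟨h, hh⟩ := by rw [← this]; abel
    rw [this, map_add, h2]
    abel


include ρV ρW φ ψ in
theorem exists_section
    (hφ : ∀ g v, φ (ρV g v) = ρW g (φ v))
    (hψ : ∀ g w, ψ (ρW g w) = Representation.ofMulAction ℤ Γ X g (ψ w))
    (hinj : Function.Injective φ) (hsurj : Function.Surjective ψ)
    (hex : ∀ w, ψ w = 0 → ∃ v, φ v = w) (hzero : ∀ v, ψ (φ v) = 0)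
    (hH1 : ∀ (x : X) (c : MulAction.stabilizer Γ x → V),
      (∀ h₁ h₂ : MulAction.stabilizer Γ x, c (h₁ * h₂) = ρV h₁ (c h₂) + c h₁) →
        ∃ v, ∀ h : MulAction.stabilizer Γ x, ρV h v - v = c h) :
    ∃ s : MonoidAlgebra ℤ X →ₗ[ℤ] W,
      (∀ g ξ, s (Representation.ofMulAction ℤ Γ X g ξ) = ρW g (s ξ)) ∧ ∀ ξ, ψ (s ξ) = ξ := by
  classical
  have hfix := fun x => exists_fixed_lift ρV ρW φ ψ hφ hψ hinj hsurj hex hzero x (hH1 x)
  -- representatives
  let rep : MulAction.orbitRel.Quotient Γ X → X := fun ω => ω.out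
  choose m hm1 hm2 using fun ω : MulAction.orbitRel.Quotient Γ X => hfix (rep ω)
  have hg : ∀ x : X, ∃ g : Γ, g • rep (Quotient.mk'' x) = x := by
    intro x
    have h1 : (Quotient.mk'' x : MulAction.orbitRel.Quotient Γ X).out ∈ MulAction.orbit Γ x := by
      have := Quotient.mk_out (s := MulAction.orbitRel Γ X) x
      exact (MulAction.orbitRel_apply).mp this
    have h2 : x ∈ MulAction.orbit Γ (Quotient.mk'' x : MulAction.orbitRel.Quotient Γ X).out := by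
      rw [MulAction.orbit_eq_iff.mpr h1]
      exact MulAction.mem_orbit_self x
    obtain ⟨g, hg⟩ := h2
    exact ⟨g, hg⟩
  choose gsel hgsel using hg
  let t : X → W := fun x => ρW (gsel x) (m (Quotient.mk'' x))
  have key : ∀ (ω : MulAction.orbitRel.Quotient Γ X) (a b : Γ), a • rep ω = b • rep ω →
      ρW a (m ω) = ρW b (m ω) := by
    intro ω a b hab
    have hk : b⁻¹ * a ∈ MulAction.stabilizer Γ (rep ω) := by
      rw [MulAction.mem_stabilizer_iff, mul_smul, hab, inv_smul_smul]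
    have := hm2 ω _ hk
    have h3 : ρW a (m ω) = ρW b (ρW (b⁻¹ * a) (m ω)) := by
      rw [← Module.End.mul_apply, ← map_mul, mul_inv_cancel_left]
    rw [h3, this]
  have ht : ∀ (g : Γ) (x : X), t (g • x) = ρW g (t x) := by
    intro g x
    have e : (Quotient.mk'' (g • x) : MulAction.orbitRel.Quotient Γ X) = Quotient.mk'' x := by
      apply Quotient.sound
      exact (MulAction.orbitRel_apply).mpr (MulAction.mem_orbit x g)
    have ha := hgsel (g • x)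
    show ρW (gsel (g • x)) (m (Quotient.mk'' (g • x))) = ρW g (ρW (gsel x) (m (Quotient.mk'' x)))
    generalize gsel (g • x) = a at ha ⊢
    rw [e] at ha ⊢
    rw [← Module.End.mul_apply, ← map_mul]
    apply key
    rw [ha, mul_smul, hgsel x]
  have hψt : ∀ x, ψ (t x) = MonoidAlgebra.single x 1 := by
    intro x
    show ψ (ρW (gsel x) (m (Quotient.mk'' x))) = _
    rw [hψ, hm1, Representation.ofMulAction_single, hgsel x]
  let s : MonoidAlgebra ℤ X →ₗ[ℤ] W :=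
    (Finsupp.linearCombination ℤ t) ∘ₗ (MonoidAlgebra.coeffLinearEquiv ℤ).toLinearMap
  have hs : ∀ (x : X), s (MonoidAlgebra.single x 1) = t x := by
    intro x
    simp only [s, LinearMap.comp_apply, LinearEquiv.coe_coe, MonoidAlgebra.coeffLinearEquiv_apply,
      MonoidAlgebra.coeff_single, Finsupp.linearCombination_single]
    exact one_smul ℤ _
  refine ⟨s, ?_, ?_⟩
  · intro g ξ
    have : s ∘ₗ (Representation.ofMulAction ℤ Γ X g) = (ρW g) ∘ₗ s := by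
      ext x
      simp only [LinearMap.comp_apply, MonoidAlgebra.lsingle_apply]
      rw [Representation.ofMulAction_single, hs, hs, ht]
    exact LinearMap.congr_fun this ξ
  · intro ξ
    have : ψ ∘ₗ s = LinearMap.id := by
      ext x
      simp only [LinearMap.comp_apply, MonoidAlgebra.lsingle_apply, LinearMap.id_apply]
      rw [hs, hψt]
    exact LinearMap.congr_fun this ξ

end core1

section core2

variable {Γ : Type} [Group Γ] (Γ' : Subgroup Γ)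
variable {V : Type} [AddCommGroup V] [Module ℤ V] (ρV : Representation ℤ Γ V)
variable (c : Γ' → V)

/-- coset representatives -/
noncomputable def σ (x : Γ ⧸ Γ') : Γ := Quotient.out x

lemma σ_spec (x : Γ ⧸ Γ') : (QuotientGroup.mk (σ Γ' x) : Γ ⧸ Γ') = x := QuotientGroup.out_eq' x

/-- `k(g,x) = σ(gx)⁻¹ g σ(x) ∈ Γ'` -/
noncomputable def kk (g : Γ) (x : Γ ⧸ Γ') : Γ := (σ Γ' (g • x))⁻¹ * g * σ Γ' x

lemma kk_mem (g : Γ) (x : Γ ⧸ Γ') : kk Γ' g x ∈ Γ' := by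
  unfold kk
  rw [mul_assoc, ← QuotientGroup.eq, σ_spec]
  conv_lhs => rw [← σ_spec Γ' x]
  rfl

lemma kk_mul (g₁ g₂ : Γ) (x : Γ ⧸ Γ') : kk Γ' (g₁ * g₂) x = kk Γ' g₁ (g₂ • x) * kk Γ' g₂ x := by
  unfold kk
  rw [mul_smul]
  group

lemma σ_kk (g : Γ) (x : Γ ⧸ Γ') : σ Γ' (g • x) * kk Γ' g x = g * σ Γ' x := by
  unfold kk
  group

/-- extension of `c` by zero -/
noncomputable def c' (k : Γ) : V := by
  classical
  exact if h : k ∈ Γ' then c ⟨k, h⟩ else 0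

lemma c'_of_mem {k : Γ} (h : k ∈ Γ') : c' Γ' c k = c ⟨k, h⟩ := by
  unfold c'
  rw [dif_pos h]

/-- the twisted cocycle -/
noncomputable def β (g : Γ) (x : Γ ⧸ Γ') : V := ρV (σ Γ' (g • x)) (c' Γ' c (kk Γ' g x))

variable (hc : ∀ h₁ h₂ : Γ', c (h₁ * h₂) = ρV h₁ (c h₂) + c h₁)

include hc in
lemma c_one : c 1 = 0 := by
  have := hc 1 1
  simp at this
  exact this

include hc in
lemma c'_mul {k₁ k₂ : Γ} (h₁ : k₁ ∈ Γ') (h₂ : k₂ ∈ Γ') :
    c' Γ' c (k₁ * k₂) = ρV k₁ (c' Γ' c k₂) + c' Γ' c k₁ := by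
  rw [c'_of_mem Γ' c (Γ'.mul_mem h₁ h₂), c'_of_mem Γ' c h₁, c'_of_mem Γ' c h₂]
  exact hc ⟨k₁, h₁⟩ ⟨k₂, h₂⟩

include hc in
lemma β_mul (g₁ g₂ : Γ) (x : Γ ⧸ Γ') :
    β Γ' ρV c (g₁ * g₂) x = ρV g₁ (β Γ' ρV c g₂ x) + β Γ' ρV c g₁ (g₂ • x) := by
  unfold β
  rw [kk_mul, c'_mul Γ' ρV c hc (kk_mem Γ' _ _) (kk_mem Γ' _ _), map_add, mul_smul]
  congr 1
  rw [← Module.End.mul_apply, ← map_mul, σ_kk, map_mul, Module.End.mul_apply]

include hc in
lemma β_one (x : Γ ⧸ Γ') : β Γ' ρV c 1 x = 0 := by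
  have h := β_mul Γ' ρV c hc 1 1 x
  simp only [mul_one, map_one, Module.End.one_apply, one_smul] at h
  simpa using h

/-- `B g : ℤ[X] → V` -/
noncomputable def B (g : Γ) : MonoidAlgebra ℤ (Γ ⧸ Γ') →ₗ[ℤ] V :=
  (Finsupp.linearCombination ℤ (β Γ' ρV c g)) ∘ₗ (MonoidAlgebra.coeffLinearEquiv ℤ).toLinearMap

lemma B_single (g : Γ) (x : Γ ⧸ Γ') :
    B Γ' ρV c g (MonoidAlgebra.single x 1) = β Γ' ρV c g x := by
  simp only [B, LinearMap.comp_apply, LinearEquiv.coe_coe, MonoidAlgebra.coeffLinearEquiv_apply,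
    MonoidAlgebra.coeff_single, Finsupp.linearCombination_single]
  exact one_smul ℤ _

include hc in
lemma B_mul' (g₁ g₂ : Γ) :
    B Γ' ρV c (g₁ * g₂) = (ρV g₁) ∘ₗ (B Γ' ρV c g₂) +
      (B Γ' ρV c g₁) ∘ₗ (Representation.ofMulAction ℤ Γ (Γ ⧸ Γ') g₂) := by
  ext x
  simp only [LinearMap.comp_apply, MonoidAlgebra.lsingle_apply, LinearMap.add_apply]
  rw [Representation.ofMulAction_single, B_single, B_single, B_single, β_mul Γ' ρV c hc]

include hc in
lemma B_mul (g₁ g₂ : Γ) (ξ : MonoidAlgebra ℤ (Γ ⧸ Γ')) :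
    B Γ' ρV c (g₁ * g₂) ξ = ρV g₁ (B Γ' ρV c g₂ ξ) +
      B Γ' ρV c g₁ (Representation.ofMulAction ℤ Γ (Γ ⧸ Γ') g₂ ξ) :=
  LinearMap.congr_fun (B_mul' Γ' ρV c hc g₁ g₂) ξ

include hc in
lemma B_one (ξ : MonoidAlgebra ℤ (Γ ⧸ Γ')) : B Γ' ρV c 1 ξ = 0 := by
  have : B Γ' ρV c 1 = 0 := by
    ext x
    simp only [LinearMap.comp_apply, MonoidAlgebra.lsingle_apply, LinearMap.zero_apply]
    rw [B_single, β_one Γ' ρV c hc]
  exact LinearMap.congr_fun this ξ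

/-- the twisted representation on `V × ℤ[Γ/Γ']` -/
noncomputable def ρE : Representation ℤ Γ (V × MonoidAlgebra ℤ (Γ ⧸ Γ')) where
  toFun g := LinearMap.prod ((ρV g).coprod (B Γ' ρV c g))
    ((Representation.ofMulAction ℤ Γ (Γ ⧸ Γ') g) ∘ₗ LinearMap.snd ℤ V (MonoidAlgebra ℤ (Γ ⧸ Γ')))
  map_one' := by
    apply LinearMap.ext
    rintro ⟨v, ξ⟩
    simp [B_one Γ' ρV c hc]
  map_mul' g₁ g₂ := by
    apply LinearMap.ext
    rintro ⟨v, ξ⟩
    apply Prod.ext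
    · show ρV (g₁ * g₂) v + B Γ' ρV c (g₁ * g₂) ξ = ρV g₁ (ρV g₂ v + B Γ' ρV c g₂ ξ) +
        B Γ' ρV c g₁ (Representation.ofMulAction ℤ Γ (Γ ⧸ Γ') g₂ ξ)
      rw [B_mul Γ' ρV c hc, map_mul, Module.End.mul_apply, map_add]
      abel
    · show Representation.ofMulAction ℤ Γ (Γ ⧸ Γ') (g₁ * g₂) ξ =
        Representation.ofMulAction ℤ Γ (Γ ⧸ Γ') g₁ (Representation.ofMulAction ℤ Γ (Γ ⧸ Γ') g₂ ξ)
      rw [map_mul, Module.End.mul_apply]

lemma ρE_apply (g : Γ) (v : V) (ξ : MonoidAlgebra ℤ (Γ ⧸ Γ')) :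
    ρE Γ' ρV c hc g (v, ξ) = (ρV g v + B Γ' ρV c g ξ, Representation.ofMulAction ℤ Γ (Γ ⧸ Γ') g ξ) := rfl


include hc in
theorem coboundary_of_section
    (s : MonoidAlgebra ℤ (Γ ⧸ Γ') →ₗ[ℤ] V × MonoidAlgebra ℤ (Γ ⧸ Γ'))
    (hs1 : ∀ g ξ, s (Representation.ofMulAction ℤ Γ (Γ ⧸ Γ') g ξ) = ρE Γ' ρV c hc g (s ξ))
    (hs2 : ∀ ξ, (s ξ).2 = ξ) :
    ∃ v, ∀ h : Γ', ρV h v - v = c h := by
  let x₀ : Γ ⧸ Γ' := QuotientGroup.mk 1
  let φ : Γ ⧸ Γ' → V := fun x => (s (MonoidAlgebra.single x 1)).1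
  have hφ : ∀ (g : Γ) (x : Γ ⧸ Γ'), φ (g • x) = ρV g (φ x) + β Γ' ρV c g x := by
    intro g x
    have h1 := hs1 g (MonoidAlgebra.single x 1)
    rw [Representation.ofMulAction_single] at h1
    have h2 : s (MonoidAlgebra.single x 1) = (φ x, MonoidAlgebra.single x 1) :=
      Prod.ext rfl (hs2 _)
    rw [h2, ρE_apply, B_single] at h1
    exact congrArg Prod.fst h1
  set s₀ : Γ := σ Γ' x₀ with hs₀
  have hs₀mem : s₀ ∈ Γ' := by
    have := σ_spec Γ' x₀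
    rw [QuotientGroup.eq] at this
    simpa using Γ'.inv_mem this
  have hfix : ∀ h : Γ, h ∈ Γ' → h • x₀ = x₀ := by
    intro h hh
    show (QuotientGroup.mk (h * 1) : Γ ⧸ Γ') = QuotientGroup.mk 1
    rw [QuotientGroup.eq]
    simpa using hh
  have hβ : ∀ h : Γ, h ∈ Γ' → β Γ' ρV c h x₀ = ρV s₀ (c' Γ' c (s₀⁻¹ * h * s₀)) := by
    intro h hh
    unfold β kk
    rw [hfix h hh]
  refine ⟨- ρV s₀⁻¹ (φ x₀), ?_⟩
  intro k
  have hmem : s₀ * k * s₀⁻¹ ∈ Γ' := Γ'.mul_mem (Γ'.mul_mem hs₀mem k.2) (Γ'.inv_mem hs₀mem)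
  have h1 := hφ (s₀ * k * s₀⁻¹) x₀
  rw [hfix _ hmem, hβ _ hmem] at h1
  have h2 : s₀⁻¹ * (s₀ * k * s₀⁻¹) * s₀ = k := by group
  rw [h2, c'_of_mem Γ' c k.2] at h1
  have e1 : ρV s₀⁻¹ (ρV s₀ (c k)) = c k := by
    rw [← Module.End.mul_apply, ← map_mul, inv_mul_cancel, map_one, Module.End.one_apply]
  have h4 : s₀⁻¹ * (s₀ * k * s₀⁻¹) = k * s₀⁻¹ := by group
  have e2 : ρV s₀⁻¹ (ρV (s₀ * k * s₀⁻¹) (φ x₀)) = ρV k (ρV s₀⁻¹ (φ x₀)) := by
    rw [← Module.End.mul_apply, ← map_mul, h4, map_mul, Module.End.mul_apply]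
  have h3 : ρV s₀⁻¹ (φ x₀) = ρV k (ρV s₀⁻¹ (φ x₀)) + c k := by
    conv_lhs => rw [h1]
    rw [map_add, e2]
    congr 1
  rw [map_neg]
  have : c k = ρV s₀⁻¹ (φ x₀) - ρV k (ρV s₀⁻¹ (φ x₀)) := by
    rw [eq_sub_iff_add_eq, add_comm]
    exact h3.symm
  rw [this]
  abel

end core2

section assembly

open groupCohomology

variable (Γ : Type) [Group Γ] (Λ : Rep ℤ Γ)

lemma h1_vanish (Γ' : Subgroup Γ)
    (H : Limits.IsZero (groupCohomology (Rep.res Γ'.subtype Λ) 1))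
    (c : Γ' → Λ.V) (hc : ∀ h₁ h₂ : Γ', c (h₁ * h₂) = Λ.ρ h₁ (c h₂) + c h₁) :
    ∃ v : Λ.V, ∀ h : Γ', Λ.ρ h v - v = c h := by
  have hmem : c ∈ cocycles₁ (Rep.res Γ'.subtype Λ) := by
    rw [mem_cocycles₁_iff]
    intro g h
    exact hc g h
  have h0 : H1π (Rep.res Γ'.subtype Λ) ⟨c, hmem⟩ = 0 := by
    have := (ModuleCat.isZero_iff_subsingleton.mp H)
    exact Subsingleton.elim _ _
  rw [H1π_eq_zero_iff] at h0
  obtain ⟨v, hv⟩ := h0
  refine ⟨v, fun h => ?_⟩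
  have := congrFun hv h
  simp only [d₀₁_hom_apply] at this
  exact this

theorem dir1
    (H : ∀ Γ' : Subgroup Γ, Limits.IsZero (groupCohomology (Rep.res Γ'.subtype Λ) 1))
    (X : Type) [MulAction Γ X] (E : ShortComplex (Rep ℤ Γ)) (hE : E.ShortExact)
    (e1 : E.X₁ ≅ Λ) (e3 : E.X₃ ≅ Rep.ofMulAction ℤ Γ X) : Nonempty E.Splitting := by
  have hmono : Mono (e1.inv ≫ E.f) := by
    have := hE.mono_f
    exact mono_comp _ _
  have hepi : Epi (E.g ≫ e3.hom) := by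
    have := hE.epi_g
    exact epi_comp _ _
  have hexact := (ShortComplex.moduleCat_exact_iff _).mp
    (hE.exact.map (forget₂ (Rep ℤ Γ) (ModuleCat ℤ)))
  obtain ⟨s, hs1, hs2⟩ := exists_section (X := X) Λ.ρ E.X₂.ρ
    (e1.inv ≫ E.f).hom.toLinearMap (E.g ≫ e3.hom).hom.toLinearMap
    (fun g v => Rep.hom_comm_apply (e1.inv ≫ E.f) g v)
    (fun g w => Rep.hom_comm_apply (E.g ≫ e3.hom) g w)
    ((Rep.mono_iff_injective _).mp hmono)
    ((Rep.epi_iff_surjective _).mp hepi)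
    (by
      intro w hw
      have hw' : e3.hom.hom (E.g.hom w) = 0 := hw
      have hw2 : E.g.hom w = 0 := by
        have := congrArg e3.inv.hom hw'
        rw [Rep.inv_hom_apply, map_zero] at this
        exact this
      obtain ⟨x₁, hx₁⟩ : ∃ x₁ : E.X₁.V, E.f.hom x₁ = w := hexact w hw2
      refine ⟨e1.hom.hom x₁, ?_⟩
      show E.f.hom (e1.inv.hom (e1.hom.hom x₁)) = w
      rw [Rep.inv_hom_apply]
      exact hx₁)
    (by
      intro v
      show e3.hom.hom (E.g.hom (E.f.hom (e1.inv.hom v))) = 0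
      have : E.g.hom (E.f.hom (e1.inv.hom v)) = 0 := by
        have h0 := E.zero
        have := congrArg (fun q => q.hom (e1.inv.hom v)) h0
        exact this
      rw [this, map_zero])
    (fun x c hc => h1_vanish Γ Λ (MulAction.stabilizer Γ x) (H _) c hc)
  let sM : Rep.ofMulAction ℤ Γ X ⟶ E.X₂ :=
    Rep.ofHom (σ := E.X₂.ρ) (LinearMap.intertwiningMap_of_isIntertwiningMap _ _ s hs1)
  have hsM : sM ≫ (E.g ≫ e3.hom) = 𝟙 _ := by
    apply Rep.hom_ext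
    apply Representation.IntertwiningMap.ext
    apply LinearMap.ext
    intro ξ
    exact hs2 ξ
  have hσ : (e3.hom ≫ sM) ≫ E.g = 𝟙 E.X₃ := by
    calc (e3.hom ≫ sM) ≫ E.g = e3.hom ≫ (sM ≫ (E.g ≫ e3.hom)) ≫ e3.inv := by simp
      _ = 𝟙 E.X₃ := by rw [hsM]; simp
  exact ⟨ShortComplex.Splitting.ofExactOfSection E hE.exact (e3.hom ≫ sM) hσ hE.mono_f⟩


theorem dir2 [Finite Γ]
    (H : ∀ (X : Type) [MulAction Γ X] [Finite X] (E : ShortComplex (Rep ℤ Γ)),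
        E.ShortExact → Nonempty (E.X₁ ≅ Λ) → Nonempty (E.X₃ ≅ Rep.ofMulAction ℤ Γ X) →
          Nonempty E.Splitting)
    (Γ' : Subgroup Γ) : Limits.IsZero (groupCohomology (Rep.res Γ'.subtype Λ) 1) := by
  have key : ∀ c : cocycles₁ (Rep.res Γ'.subtype Λ), ⇑c ∈ coboundaries₁ (Rep.res Γ'.subtype Λ) := by
    intro c
    have hc : ∀ h₁ h₂ : Γ', c (h₁ * h₂) = Λ.ρ h₁ (c h₂) + c h₁ := by
      intro h₁ h₂
      exact (mem_cocycles₁_iff (A := Rep.res Γ'.subtype Λ) c).mp c.2 h₁ h₂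
    -- the extension
    let fM : Λ ⟶ Rep.of (ρE Γ' Λ.ρ (fun h => c h) hc) :=
      Rep.ofHom (ρ := Λ.ρ) (LinearMap.intertwiningMap_of_isIntertwiningMap _ _
        (LinearMap.inl ℤ Λ.V (MonoidAlgebra ℤ (Γ ⧸ Γ')))
        (by
          intro g v
          show ((Λ.ρ g v, 0) : Λ.V × MonoidAlgebra ℤ (Γ ⧸ Γ')) =
            ρE Γ' Λ.ρ (fun h => c h) hc g (v, 0)
          rw [ρE_apply, map_zero, map_zero, add_zero]))
    let gM : Rep.of (ρE Γ' Λ.ρ (fun h => c h) hc) ⟶ Rep.ofMulAction ℤ Γ (Γ ⧸ Γ') :=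
      Rep.ofHom (LinearMap.intertwiningMap_of_isIntertwiningMap _ _
        (LinearMap.snd ℤ Λ.V (MonoidAlgebra ℤ (Γ ⧸ Γ')))
        (by
          rintro g ⟨v, ξ⟩
          rfl))
    have hzero : fM ≫ gM = 0 := by
      apply Rep.hom_ext
      apply Representation.IntertwiningMap.ext
      apply LinearMap.ext
      intro v
      rfl
    let E : ShortComplex (Rep ℤ Γ) := ShortComplex.mk fM gM hzero
    have hE : E.ShortExact := by
      have hmono : Mono fM := by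
        rw [Rep.mono_iff_injective]
        intro a b hab
        exact congrArg Prod.fst hab
      have hepi : Epi gM := by
        rw [Rep.epi_iff_surjective]
        intro ξ
        exact ⟨(0, ξ), rfl⟩
      refine { exact := ?_, mono_f := hmono, epi_g := hepi }
      rw [← ShortComplex.exact_map_iff_of_faithful _ (forget₂ (Rep ℤ Γ) (ModuleCat ℤ)),
        ShortComplex.moduleCat_exact_iff]
      rintro ⟨v, ξ⟩ hx
      have hξ : ξ = 0 := hx
      refine ⟨v, ?_⟩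
      rw [hξ]
      rfl
    obtain ⟨sp⟩ := H (Γ ⧸ Γ') E hE ⟨Iso.refl _⟩ ⟨Iso.refl _⟩
    obtain ⟨v, hv⟩ := coboundary_of_section Γ' Λ.ρ (fun h => c h) hc sp.s.hom.toLinearMap
      (fun g ξ => Rep.hom_comm_apply sp.s g ξ)
      (by
        intro ξ
        have h1 := sp.s_g
        have h2 := congrArg (fun q => q.hom ξ) h1
        exact h2)
    refine ⟨v, ?_⟩
    funext h
    simp only [d₀₁_hom_apply]
    exact hv h
  rw [ModuleCat.isZero_iff_subsingleton]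
  constructor
  intro a b
  have h0 : ∀ y : H1 (Rep.res Γ'.subtype Λ), y = 0 := by
    intro y
    induction y using H1_induction_on with
    | h x => exact (H1π_eq_zero_iff x).mpr (key x)
  rw [h0 a, h0 b]

end assembly

end Generic

end GLat


/-- For a finite group Γ and a Γ-lattice Λ (finitely generated free ℤ-module with Γ-action) the
following are equivalent: (i) H¹(Γ', Λ) = 0 for every subgroup Γ' ≤ Γ; (ii) Ext¹ over ℤ[Γ] of P into
Λ vanishes for every permutation lattice P = ℤ[X], X a finite Γ-set. Condition (ii) is stated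
through Yoneda extensions: every short exact sequence 0 → Λ' → E → P → 0 of ℤ-linear
Γ-representations with Λ' ≅ Λ and P ≅ ℤ[X] splits. (These are the lattices called coflasque.) The
group, the lattice and the Γ-sets are taken in the lowest universe. -/
theorem result
    (Γ : Type) [Group Γ] [Finite Γ] (Λ : Rep ℤ Γ) [Module.Free ℤ Λ.V] [Module.Finite ℤ Λ.V] :
    (∀ Γ' : Subgroup Γ, Limits.IsZero (groupCohomology (Rep.res Γ'.subtype Λ) 1)) ↔
      ∀ (X : Type) [MulAction Γ X] [Finite X] (E : ShortComplex (Rep ℤ Γ)),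
        E.ShortExact → Nonempty (E.X₁ ≅ Λ) → Nonempty (E.X₃ ≅ Rep.ofMulAction ℤ Γ X) →
          Nonempty E.Splitting := by
  constructor
  · intro H X _ _ E hE h1 h3
    obtain ⟨e1⟩ := h1
    obtain ⟨e3⟩ := h3
    exact GLat.dir1 Γ Λ H X E hE e1 e3
  · intro H Γ'
    exact GLat.dir2 Γ Λ H Γ'

end Groth.Agent.S17849
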