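import Groth.Statements.S17853
import Groth.Agent.Lib.Helper85.HorrocksBridge

set_option autoImplicit false
open Polynomial LaurentPolynomial TensorProduct
universe u
open CAlg

namespace Groth.Agent.S17853

section Fwd

variable {A : Type u} [CommRing A] {P : Type u} [AddCommGroup P] [Module A P]

instance isScalarTower_laurent : IsScalarTower A A[X] A[T;T⁻¹] :=
  IsScalarTower.of_algebraMap_eq' (by
    ext a
    simp [LaurentPolynomial.algebraMap_apply, LaurentPolynomial.algebraMap_eq_toLaurent])

/-- `invert ⊗ id` on `A[T;T⁻¹] ⊗[A] P`. -/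
noncomputable def eps : (A[T;T⁻¹] ⊗[A] P) →ₗ[A] (A[T;T⁻¹] ⊗[A] P) :=
  LinearMap.rTensor P (LaurentPolynomial.invert (R := A)).toLinearMap

lemma eps_tmul (l : A[T;T⁻¹]) (p : P) : eps (l ⊗ₜ[A] p) = (LaurentPolynomial.invert l) ⊗ₜ[A] p := by
  simp [eps]

lemma eps_smul (a : A[T;T⁻¹]) (y : A[T;T⁻¹] ⊗[A] P) :
    eps (a • y) = LaurentPolynomial.invert a • eps y := by
  induction y using TensorProduct.induction_on with
  | zero => simp
  | tmul l p =>
    rw [TensorProduct.smul_tmul', eps_tmul, eps_tmul, TensorProduct.smul_tmul', smul_eq_mul,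
      smul_eq_mul, map_mul]
  | add x y hx hy => rw [smul_add, map_add, hx, hy, map_add, smul_add]

lemma eps_eps (y : A[T;T⁻¹] ⊗[A] P) : eps (eps y) = y := by
  induction y using TensorProduct.induction_on with
  | zero => simp
  | tmul l p => rw [eps_tmul, eps_tmul, LaurentPolynomial.involutive_invert]
  | add x y hx hy => rw [map_add, map_add, hx, hy]

end Fwd

/-- For an arbitrary commutative ring A, a finitely generated projective A[t]-module M is extended from
A (isomorphic to A[t] ⊗_A P for an A-module P) if and only if it extends to a vector bundle on the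
projective line over A. The latter is stated by gluing: there are a finitely generated projective
module N over the polynomial ring of the chart at infinity and an isomorphism over the Laurent
polynomial ring between the localisation of M and the base change of N along s ↦ t⁻¹, written as a
bijective additive map A[t,t⁻¹] ⊗ M → A[t,t⁻¹] ⊗ N that is semilinear with respect to the A-algebra
involution t ↦ t⁻¹ of A[t,t⁻¹]. (The published statement adds: for A semilocal, M is then free on
each connected component of the affine line.) -/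
theorem result
    (A : Type u) [CommRing A] (M : Type u) [AddCommGroup M] [Module A[X] M]
    [Module.Finite A[X] M] [Module.Projective A[X] M] :
    (∃ (P : Type u) (_ : AddCommGroup P) (_ : Module A P), Nonempty (M ≃ₗ[A[X]] (A[X] ⊗[A] P))) ↔
      ∃ (N : Type u) (_ : AddCommGroup N) (_ : Module A[X] N),
        Module.Finite A[X] N ∧ Module.Projective A[X] N ∧
        ∃ e : (A[T;T⁻¹] ⊗[A[X]] M) →ₛₗ[(LaurentPolynomial.invert (R := A)).toRingEquiv.toRingHom]
            (A[T;T⁻¹] ⊗[A[X]] N), Function.Bijective e := by
  constructor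
  · rintro ⟨P, _, _, ⟨φ⟩⟩
    refine ⟨M, inferInstance, inferInstance, inferInstance, inferInstance, ?_⟩
    let c : (A[T;T⁻¹] ⊗[A[X]] M) ≃ₗ[A[T;T⁻¹]] (A[T;T⁻¹] ⊗[A] P) :=
      (TensorProduct.AlgebraTensorModule.congr (LinearEquiv.refl A[T;T⁻¹] A[T;T⁻¹]) φ).trans
        (TensorProduct.AlgebraTensorModule.cancelBaseChange A A[X] A[T;T⁻¹] A[T;T⁻¹] P)
    let e : (A[T;T⁻¹] ⊗[A[X]] M) →ₛₗ[(LaurentPolynomial.invert (R := A)).toRingEquiv.toRingHom]
        (A[T;T⁻¹] ⊗[A[X]] M) :=
      { toFun := fun x => c.symm (eps (c x))
        map_add' := fun x y => by simp only [map_add]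
        map_smul' := fun a x => by
          simp only [map_smul, eps_smul]
          rfl }
    refine ⟨e, Function.Involutive.bijective ?_⟩
    intro x
    show c.symm (eps (c (c.symm (eps (c x))))) = x
    rw [LinearEquiv.apply_symm_apply, eps_eps, LinearEquiv.symm_apply_apply]
  · rintro ⟨N, _, _, hfin, hproj, e, he⟩
    exact Groth.Agent.Lib.Helper85.Horrocks.extended_of_semilinear_glue e he

end Groth.Agent.S17853
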