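import Groth.Statements.S17857
import Mathlib.LinearAlgebra.StdBasis
-- import your own Groth.Agent.* helpers here

set_option autoImplicit false
universe u
open Algz

namespace Groth.Agent.S17857

/-- Let `A i` be a family of commutative rings and `P i` a projective `A i`-module for each `i`, and
assume every `P i` is a quotient of the free module of rank `N` for a single `N` independent of `i`
(equivalently, a direct summand of it). Then the product `Π i, P i` is a projective module over the
product ring `Π i, A i`, and it is a quotient of the free module of rank `N` over that ring. -/
theorem result {ι : Type u} (A : ι → Type u) [∀ i, CommRing (A i)]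
    (P : ι → Type u) [∀ i, AddCommGroup (P i)] [∀ i, Module (A i) (P i)]
    [∀ i, Module.Projective (A i) (P i)] (N : ℕ)
    (h : ∀ i, ∃ f : (Fin N → A i) →ₗ[A i] P i, Function.Surjective f) :
    Module.Projective (∀ i, A i) (∀ i, P i) ∧
      ∃ f : (Fin N → ∀ i, A i) →ₗ[∀ i, A i] (∀ i, P i), Function.Surjective f := by
  classical
  choose f hf using h
  have hs : ∀ i, ∃ s : P i →ₗ[A i] (Fin N → A i), (f i).comp s = LinearMap.id := fun i =>
    Module.projective_lifting_property (f i) LinearMap.id (hf i)
  choose s hs using hs
  let F : (Fin N → ∀ i, A i) →ₗ[∀ i, A i] (∀ i, P i) :=
    { toFun := fun v i => f i (fun k => v k i)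
      map_add' := by
        intro v w
        funext i
        have : (fun k => (v + w) k i) = (fun k => v k i) + (fun k => w k i) := rfl
        show f i (fun k => (v + w) k i) = f i (fun k => v k i) + f i (fun k => w k i)
        rw [this, map_add]
      map_smul' := by
        intro c v
        funext i
        have : (fun k => (c • v) k i) = c i • (fun k => v k i) := rfl
        show f i (fun k => (c • v) k i) = c i • f i (fun k => v k i)
        rw [this, map_smul] }
  let S : (∀ i, P i) →ₗ[∀ i, A i] (Fin N → ∀ i, A i) :=
    { toFun := fun p k i => s i (p i) k
      map_add' := by
        intro v w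
        funext k i
        simp
      map_smul' := by
        intro c v
        funext k i
        simp }
  have hFS : F.comp S = LinearMap.id := by
    ext p i
    have := congrArg (fun g => g (p i)) (hs i)
    simpa [F, S] using this
  have : Module.Projective (∀ i, A i) (Fin N → ∀ i, A i) :=
    Module.Projective.of_free
  refine ⟨Module.Projective.of_split S F hFS, F, ?_⟩
  intro p
  exact ⟨S p, by simpa using congrArg (fun g => g p) hFS⟩

end Groth.Agent.S17857
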