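import Groth.Statements.S17859
import Mathlib.RingTheory.Finiteness.Projective
import Mathlib.LinearAlgebra.Contraction
-- import your own Groth.Agent.* helpers here

set_option autoImplicit false
open CategoryTheory MonoidalCategory
universe u
open Algz

namespace Groth.Agent.S17859


open TensorProduct in
/-- Finite dual basis of a finitely generated projective module. -/
theorem exists_dualBasis (R : Type u) [CommRing R] (M : Type u) [AddCommGroup M] [Module R M]
    [Module.Finite R M] [Module.Projective R M] :
    ∃ (n : ℕ) (b : Fin n → M) (φ : Fin n → Module.Dual R M),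
      ∀ x : M, ∑ i, φ i x • b i = x := by
  classical
  obtain ⟨n, f, g, -, -, hfg⟩ := Module.Finite.exists_comp_eq_id_of_projective R M
  refine ⟨n, fun i => f (Pi.single i 1), fun i => (LinearMap.proj i).comp g, fun x => ?_⟩
  have hx : f (g x) = x := by
    simpa using congrArg (fun h => h x) hfg
  conv_rhs => rw [← hx]
  have : g x = ∑ i, (g x i) • (Pi.single i 1 : Fin n → R) := by
    funext j
    simp [Finset.sum_apply, Pi.single_apply]
  conv_rhs => rw [this]
  simp [map_sum, map_smul]

open TensorProduct in
theorem contractLeft_assoc_coev (R : Type u) [CommRing R] (M : Type u) [AddCommGroup M] [Module R M]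
    {n : ℕ} (b : Fin n → M) (φ : Fin n → Module.Dual R M) (hb : ∀ x : M, ∑ i, φ i x • b i = x) :
    (contractLeft R M).rTensor _ ∘ₗ
        (TensorProduct.assoc R _ _ _).symm.toLinearMap ∘ₗ
          (LinearMap.toSpanSingleton R (M ⊗[R] Module.Dual R M)
            (∑ i, b i ⊗ₜ[R] φ i)).lTensor (Module.Dual R M) =
      (TensorProduct.lid R _).symm.toLinearMap ∘ₗ (TensorProduct.rid R _).toLinearMap := by
  apply TensorProduct.ext'
  intro f r
  simp only [LinearMap.coe_comp, Function.comp_apply, LinearEquiv.coe_toLinearMap,
    LinearMap.lTensor_tmul, LinearMap.toSpanSingleton_apply, rid_tmul, lid_symm_apply]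
  rw [TensorProduct.tmul_smul, map_smul, map_smul, TensorProduct.tmul_sum, map_sum, map_sum]
  simp only [assoc_symm_tmul, LinearMap.rTensor_tmul, contractLeft_apply]
  have h1 : ∀ i, (f (b i)) ⊗ₜ[R] (φ i) = (1 : R) ⊗ₜ[R] (f (b i) • φ i) := by
    intro i
    rw [TensorProduct.tmul_smul, TensorProduct.smul_tmul', smul_eq_mul, mul_one]
  simp only [h1]
  rw [← TensorProduct.tmul_sum, ← TensorProduct.tmul_smul]
  congr 2
  ext x
  simp only [LinearMap.coe_sum, Finset.sum_apply, LinearMap.smul_apply, smul_eq_mul]
  conv_rhs => rw [← hb x, map_sum]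
  simp [mul_comm]

open TensorProduct in
theorem contractLeft_assoc_coev' (R : Type u) [CommRing R] (M : Type u) [AddCommGroup M] [Module R M]
    {n : ℕ} (b : Fin n → M) (φ : Fin n → Module.Dual R M) (hb : ∀ x : M, ∑ i, φ i x • b i = x) :
    (contractLeft R M).lTensor _ ∘ₗ
        (TensorProduct.assoc R _ _ _).toLinearMap ∘ₗ
          (LinearMap.toSpanSingleton R (M ⊗[R] Module.Dual R M)
            (∑ i, b i ⊗ₜ[R] φ i)).rTensor M =
      (TensorProduct.rid R _).symm.toLinearMap ∘ₗ (TensorProduct.lid R _).toLinearMap := by
  apply TensorProduct.ext'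
  intro r x
  simp only [LinearMap.coe_comp, Function.comp_apply, LinearEquiv.coe_toLinearMap,
    LinearMap.rTensor_tmul, LinearMap.toSpanSingleton_apply, lid_tmul, rid_symm_apply]
  rw [← TensorProduct.smul_tmul', map_smul, map_smul, TensorProduct.sum_tmul, map_sum, map_sum]
  simp only [assoc_tmul, LinearMap.lTensor_tmul, contractLeft_apply]
  have h1 : ∀ i, (b i) ⊗ₜ[R] (φ i x) = (φ i x • b i) ⊗ₜ[R] (1 : R) := by
    intro i
    rw [TensorProduct.smul_tmul, smul_eq_mul, mul_one]
  simp only [h1]
  rw [← TensorProduct.sum_tmul, hb x, TensorProduct.smul_tmul']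

/-- Over an affine scheme, that is for modules over a commutative ring `R`, a finitely generated
projective `R`-module `M`, viewed as an object of the monoidal category of `R`-modules (tensor
product over `R`), has a right dual. (The published statement is the equivalence, for quasi-coherent
sheaves on a quasi-compact quasi-separated scheme, between being dualizable and being a vector
bundle; stated here is the affine case of the implication from vector bundle to dualizable. The
converse implication, that a module admitting a dual is finitely generated projective, is stated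
separately and is not repeated here.) -/
theorem result (R : Type u) [CommRing R] (M : ModuleCat.{u} R)
    [Module.Finite R M] [Module.Projective R M] : Nonempty (HasRightDual M) := by
  classical
  obtain ⟨n, b, φ, hb⟩ := exists_dualBasis R M
  let D : ModuleCat.{u} R := ModuleCat.of R (Module.Dual R M)
  let coev : 𝟙_ (ModuleCat.{u} R) ⟶ M ⊗ D :=
    ModuleCat.ofHom (LinearMap.toSpanSingleton R (TensorProduct R M (Module.Dual R M))
      (∑ i, TensorProduct.tmul R (b i) (φ i)))
  let ev : D ⊗ M ⟶ 𝟙_ (ModuleCat.{u} R) := ModuleCat.ofHom (contractLeft R M)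
  have hcoev : ∀ r : R, coev.hom r = r • ∑ i, TensorProduct.tmul R (b i) (φ i) := fun r => rfl
  have hev : ∀ (f : Module.Dual R M) (x : M), ev.hom (TensorProduct.tmul R f x) = f x :=
    fun f x => contractLeft_apply f x
  refine ⟨@HasRightDual.mk _ _ _ M D ⟨coev, ev, ?_, ?_⟩⟩
  · apply ModuleCat.MonoidalCategory.tensor_ext
    intro f r
    simp only [ModuleCat.hom_comp, LinearMap.comp_apply]
    exact LinearMap.congr_fun (contractLeft_assoc_coev R M b φ hb) (TensorProduct.tmul R f r)
  · apply ModuleCat.MonoidalCategory.tensor_ext
    intro r x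
    simp only [ModuleCat.hom_comp, LinearMap.comp_apply]
    exact LinearMap.congr_fun (contractLeft_assoc_coev' R M b φ hb) (TensorProduct.tmul R r x)

end Groth.Agent.S17859
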