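import Groth.Statements.S17863
import Mathlib
-- import your own Groth.Agent.* helpers here

set_option autoImplicit false
open CategoryTheory AlgebraicGeometry
universe u
open Algz

namespace Groth.Agent.S17863
open CategoryTheory AlgebraicGeometry



/-- Let `A` be a commutative ring which is `I`-adically complete for an ideal `I` and let `X` be a
quasi-affine scheme. Then the natural map from `X(A)` to compatible systems in the `X(A/I^n)` is
bijective: two morphisms `Spec A ⟶ X` with the same restriction to every `Spec (A/I^n)` are equal,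
and every family of morphisms `Spec (A/I^n) ⟶ X` compatible with the transition maps `Spec (A/I^n) ⟶
Spec (A/I^(n+1))` is the family of restrictions of a morphism `Spec A ⟶ X`. -/
theorem result (A : Type u) [CommRing A] (I : Ideal A) [IsAdicComplete I A]
    (X : Scheme.{u}) [X.IsQuasiAffine] :
    (∀ f g : Spec (CommRingCat.of A) ⟶ X,
      (∀ n : ℕ, Spec.map (CommRingCat.ofHom (Ideal.Quotient.mk (I ^ n))) ≫ f =
        Spec.map (CommRingCat.ofHom (Ideal.Quotient.mk (I ^ n))) ≫ g) → f = g) ∧
    (∀ e : ∀ n : ℕ, Spec (CommRingCat.of (A ⧸ I ^ n)) ⟶ X,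
      (∀ n : ℕ, Spec.map (CommRingCat.ofHom (Ideal.Quotient.factorPowSucc I n)) ≫ e (n + 1) = e n) →
      ∃ f : Spec (CommRingCat.of A) ⟶ X,
        ∀ n : ℕ, Spec.map (CommRingCat.ofHom (Ideal.Quotient.mk (I ^ n))) ≫ f = e n) := by
  let j := X.toSpecΓ
  constructor
  · intro f g h
    rw [← cancel_mono j]
    obtain ⟨φ, hφ⟩ := Spec.map_surjective (f ≫ j)
    obtain ⟨ψ, hψ⟩ := Spec.map_surjective (g ≫ j)
    rw [← hφ, ← hψ]
    congr 1
    have key : ∀ n, φ ≫ CommRingCat.ofHom (Ideal.Quotient.mk (I ^ n)) =
        ψ ≫ CommRingCat.ofHom (Ideal.Quotient.mk (I ^ n)) := by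
      intro n
      apply Spec.map_injective
      rw [Spec.map_comp, Spec.map_comp, hφ, hψ, ← Category.assoc, ← Category.assoc, h n]
    ext b
    have hfun : (fun b => φ.hom b) = (fun b => ψ.hom b) := by
      apply IsHausdorff.funext' I
      intro n b
      have := congrArg (fun θ => θ.hom b) (key n)
      simpa using this
    exact congrFun hfun b
  · intro e he
    choose φ hφ using fun n => Spec.map_surjective (e n ≫ j)
    have hcompat : ∀ {m : ℕ}, (Ideal.Quotient.factorPow I (strictMono_id.monotone m.le_succ)).comp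
        (φ (m + 1)).hom = (φ m).hom := by
      intro m
      have : φ (m + 1) ≫ CommRingCat.ofHom (Ideal.Quotient.factorPowSucc I m) = φ m := by
        apply Spec.map_injective
        rw [Spec.map_comp, hφ, hφ, ← Category.assoc, he m]
      exact congrArg CommRingCat.Hom.hom this
    let Φ : Γ(X, ⊤) →+* A :=
      IsAdicComplete.StrictMono.liftRingHom I strictMono_id (fun n => (φ n).hom) hcompat
    have hΦ : ∀ n, CommRingCat.ofHom Φ ≫ CommRingCat.ofHom (Ideal.Quotient.mk (I ^ n)) = φ n := by
      intro n
      ext b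
      exact IsAdicComplete.StrictMono.mk_liftRingHom I strictMono_id (fun n => (φ n).hom) hcompat b
    let f : Spec (CommRingCat.of A) ⟶ Spec Γ(X, ⊤) := Spec.map (CommRingCat.ofHom Φ)
    have hf : ∀ n, Spec.map (CommRingCat.ofHom (Ideal.Quotient.mk (I ^ n))) ≫ f = e n ≫ j := by
      intro n
      rw [← hφ, ← hΦ n, Spec.map_comp]
    have hrange : Set.range f ⊆ Set.range j := by
      rintro _ ⟨x, rfl⟩
      by_contra hx
      let Z : Set (PrimeSpectrum A) := {y | f y ∉ Set.range j}
      have hop : IsOpen (f ⁻¹' (Set.range j)) :=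
        j.isOpenEmbedding.isOpen_range.preimage f.continuous
      have hZc : IsClosed Z := hop.isClosed_compl
      obtain ⟨J, hJ⟩ := (PrimeSpectrum.isClosed_iff_zeroLocus_ideal Z).1 hZc
      have hJne : J ≠ ⊤ := by
        rintro rfl
        have : x ∈ Z := hx
        rw [hJ] at this
        simp only [Submodule.top_coe, PrimeSpectrum.zeroLocus_univ] at this
        exact this
      obtain ⟨M, hM, hJM⟩ := Ideal.exists_le_maximal J hJne
      let pM : PrimeSpectrum A := ⟨M, hM.isPrime⟩
      have hpM : pM ∈ Z := by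
        rw [hJ]
        exact hJM
      have hIM : I ^ 1 ≤ M := by
        rw [pow_one]
        exact (IsAdicComplete.le_jacobson_bot I).trans (sInf_le ⟨bot_le, hM⟩)
      have hrg : pM ∈ Set.range (PrimeSpectrum.comap (Ideal.Quotient.mk (I ^ 1))) := by
        rw [range_comap_of_surjective (f := Ideal.Quotient.mk (I ^ 1))
          (hf := Ideal.Quotient.mk_surjective), Ideal.mk_ker]
        exact hIM
      obtain ⟨y, hy⟩ := hrg
      apply hpM
      have h1 := hf 1
      have h2 : f pM = (Spec.map (CommRingCat.ofHom (Ideal.Quotient.mk (I ^ 1))) ≫ f) y := by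
        rw [Scheme.Hom.comp_apply]
        congr 1
        exact hy.symm
      rw [h2, h1, Scheme.Hom.comp_apply]
      exact ⟨_, rfl⟩
    refine ⟨IsOpenImmersion.lift j f hrange, fun n => ?_⟩
    rw [← cancel_mono j, Category.assoc, IsOpenImmersion.lift_fac, hf n]

end Groth.Agent.S17863
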