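import Groth.Statements.S5078
import Mathlib.RingTheory.Finiteness.Cardinality
import Mathlib.RingTheory.Ideal.Operations
import Mathlib.LinearAlgebra.Pi

set_option autoImplicit false
universe u v
open Hensel

namespace Groth.Agent.S5078


variable {A : Type u} [CommRing A] (I : Ideal A)

theorem smodEq_map {M : Type*} {N : Type*} [AddCommGroup M] [Module A M] [AddCommGroup N] [Module A N]
    (f : M →ₗ[A] N) {x y : M} {k : ℕ}
    (h : x ≡ y [SMOD (I ^ k • ⊤ : Submodule A M)]) :
    f x ≡ f y [SMOD (I ^ k • ⊤ : Submodule A N)] := by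
  have h1 := h.map f
  refine h1.mono ?_
  rw [Submodule.map_smul'']
  exact Submodule.smul_mono le_rfl le_top

theorem mem_pow_smul_top_pi {ι : Type*} [Fintype ι] [DecidableEq ι] (k : ℕ) (x : ι → A) :
    x ∈ (I ^ k • ⊤ : Submodule A (ι → A)) ↔ ∀ i, x i ∈ I ^ k := by
  constructor
  · intro hx i
    have h1 : (LinearMap.proj i : (ι → A) →ₗ[A] A) x ∈
        (I ^ k • ⊤ : Submodule A (ι → A)).map (LinearMap.proj i) := Submodule.mem_map_of_mem hx
    rw [Submodule.map_smul''] at h1
    have h2 : (I ^ k • (⊤ : Submodule A (ι → A)).map (LinearMap.proj i) : Submodule A A) ≤ I ^ k := by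
      intro z hz
      have : z ∈ (I ^ k • ⊤ : Submodule A A) := Submodule.smul_mono le_rfl le_top hz
      simpa using this
    exact h2 h1
  · intro hx
    rw [pi_eq_sum_univ x]
    refine Submodule.sum_mem _ fun i _ => ?_
    exact Submodule.smul_mem_smul (hx i) trivial

theorem isHausdorff_pi {ι : Type*} [Fintype ι] [DecidableEq ι] [IsHausdorff I A] :
    IsHausdorff I (ι → A) := by
  refine ⟨fun x hx => ?_⟩
  funext i
  refine IsHausdorff.haus' (I := I) (x i) fun n => ?_
  have := smodEq_map I (LinearMap.proj i : (ι → A) →ₗ[A] A) (hx n)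
  simpa using this

theorem isPrecomplete_pi {ι : Type*} [Fintype ι] [DecidableEq ι] [IsPrecomplete I A] :
    IsPrecomplete I (ι → A) := by
  refine ⟨fun f hf => ?_⟩
  have h1 : ∀ i : ι, ∃ L : A, ∀ n, f n i ≡ L [SMOD (I ^ n • ⊤ : Submodule A A)] := by
    intro i
    refine IsPrecomplete.prec' (I := I) (fun n => f n i) ?_
    intro m n hmn
    have := smodEq_map I (LinearMap.proj i : (ι → A) →ₗ[A] A) (hf hmn)
    simpa using this
  choose L hL using h1
  refine ⟨L, fun n => ?_⟩
  rw [SModEq.sub_mem, mem_pow_smul_top_pi]
  intro i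
  have := (hL i n)
  rw [SModEq.sub_mem] at this
  simpa using this

theorem isAdicComplete_of_retract {M : Type*} {N : Type*} [AddCommGroup M] [Module A M]
    [AddCommGroup N] [Module A N] [IsAdicComplete I N]
    (s : M →ₗ[A] N) (p : N →ₗ[A] M) (hps : p.comp s = LinearMap.id) :
    IsAdicComplete I M := by
  have hps' : ∀ x, p (s x) = x := fun x => by
    have := congrArg (fun g : M →ₗ[A] M => g x) hps
    simpa using this
  have hH : IsHausdorff I M := by
    refine ⟨fun x hx => ?_⟩
    have h0 : s x = 0 := by
      refine IsHausdorff.haus' (I := I) (s x) fun n => ?_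
      have := smodEq_map I s (hx n)
      simpa using this
    rw [← hps' x, h0, map_zero]
  have hP : IsPrecomplete I M := by
    refine ⟨fun f hf => ?_⟩
    obtain ⟨L, hL⟩ := IsPrecomplete.prec' (I := I) (fun n => s (f n))
      (fun {m n} hmn => smodEq_map I s (hf hmn))
    refine ⟨p L, fun n => ?_⟩
    have := smodEq_map I p (hL n)
    simpa [hps'] using this
  exact { toIsHausdorff := hH, toIsPrecomplete := hP }

/-- Let A be a ring, I an ideal such that A is I-adically separated and complete, and M a finitely
generated projective A-module. Then M is I-adically separated and complete. -/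
theorem result {A : Type u} [CommRing A] (I : Ideal A) [IsAdicComplete I A]
    (M : Type v) [AddCommGroup M] [Module A M] [Module.Finite A M] [Module.Projective A M] :
    IsAdicComplete I M := by
  classical
  obtain ⟨n, f, hf⟩ := Module.Finite.exists_fin' A M
  obtain ⟨s, hs⟩ := Module.projective_lifting_property f LinearMap.id hf
  haveI : IsAdicComplete I (Fin n → A) :=
    { toIsHausdorff := isHausdorff_pi I, toIsPrecomplete := isPrecomplete_pi I }
  exact isAdicComplete_of_retract I s f hs

end Groth.Agent.S5078
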