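import Groth.Statements.S17866
import Mathlib
import Groth.Prelude.Def_W4c5algebraiztannakaNis
-- import your own Groth.Agent.* helpers here

set_option autoImplicit false
open CategoryTheory AlgebraicGeometry
universe u
open Algz

namespace Groth.Agent.S17866
open Topology W4c5algebraiztannaka


lemma isCompact_of_isConstructible {X : Type*} [TopologicalSpace X] [CompactSpace X]
    [QuasiSeparatedSpace X] {s : Set X} (hs : IsConstructible s) : IsCompact s := by
  have hsub : IsSublattice {U : Set X | IsOpen U ∧ IsRetrocompact U} :=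
    ⟨fun s hs t ht ↦ ⟨hs.1.union ht.1, hs.2.union ht.2⟩,
      fun s hs t ht ↦ ⟨hs.1.inter ht.1, hs.2.inter_isOpen ht.2 ht.1⟩⟩
  have hbot : (⊥ : Set X) ∈ {U : Set X | IsOpen U ∧ IsRetrocompact U} := ⟨isOpen_empty, .empty⟩
  have htop : (⊤ : Set X) ∈ {U : Set X | IsOpen U ∧ IsRetrocompact U} := ⟨isOpen_univ, .univ⟩
  induction s, hs using BooleanSubalgebra.closure_sdiff_sup_induction with
  | isSublattice => exact hsub
  | bot_mem => exact hbot
  | top_mem => exact htop
  | sdiff U hU V hV => exact hU.2.isCompact.diff hV.1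
  | sup s _ t _ hs' ht' => exact hs'.union ht'

/-- image of a constructible set under an embedding whose range is `B \ A`. -/
lemma isConstructible_image {X T : Type*} [TopologicalSpace X] [TopologicalSpace T]
    [CompactSpace X] [QuasiSeparatedSpace X] {A B : Set X} (hA : IsClosed A) (hB : IsClosed B)
    (hAc : IsConstructible A) (hBc : IsConstructible B)
    (g : T → X) (hg : IsEmbedding g) (hr : Set.range g = B \ A) {E : Set T}
    (hE : IsConstructible E) : IsConstructible (g '' E) := by
  have hAo : IsOpen Aᶜ := hA.isOpen_compl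
  have hAr : IsRetrocompact Aᶜ :=
    (isCompact_of_isConstructible hAc.compl).isRetrocompact hAo
  have hBr : IsRetrocompact Bᶜ :=
    (isCompact_of_isConstructible hBc.compl).isRetrocompact hB.isOpen_compl
  -- factor through the subtype Aᶜ
  have hmem : ∀ t, g t ∈ Aᶜ := fun t ↦ by
    have : g t ∈ B \ A := hr ▸ Set.mem_range_self t
    exact this.2
  let g' : T → (Aᶜ : Set X) := fun t ↦ ⟨g t, hmem t⟩
  have hg'emb : IsEmbedding g' := by
    apply IsEmbedding.of_comp (f := g') (g := Subtype.val)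
    · exact (hg.continuous).subtype_mk _
    · exact continuous_subtype_val
    · exact hg
  have hrange' : Set.range g' = Subtype.val ⁻¹' B := by
    ext ⟨x, hx⟩
    simp only [Set.mem_range, Set.mem_preimage, g', Subtype.mk.injEq]
    constructor
    · rintro ⟨t, rfl⟩
      have : g t ∈ B \ A := hr ▸ Set.mem_range_self t
      exact this.1
    · intro hxB
      have : x ∈ Set.range g := hr ▸ ⟨hxB, hx⟩
      exact this
  have hg'cl : IsClosedEmbedding g' :=
    ⟨hg'emb, by rw [hrange']; exact hB.preimage continuous_subtype_val⟩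
  have hopen : IsOpenEmbedding (Subtype.val : (Aᶜ : Set X) → X) := hAo.isOpenEmbedding_subtypeVal
  have h1 : IsConstructible (g' '' E) := by
    refine hE.image_of_isClosedEmbedding hg'cl ?_
    rw [hrange', ← Set.preimage_compl]
    exact hBr.preimage_of_isOpenEmbedding hopen
  have h2 := h1.image_of_isOpenEmbedding hopen (by rw [Subtype.range_coe]; exact hAr)
  rwa [← Set.image_comp] at h2

variable {U Y : Scheme.{u}}

def Chain (f : U ⟶ Y) (m : ℕ) (A B : Set Y) : Prop :=
  ∃ C : ℕ → Set Y, C 0 = A ∧ C m = B ∧ (∀ i, C i ⊆ C (i + 1)) ∧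
    (∀ i, IsClosed (C i) ∧ IsConstructible (C i)) ∧ ∀ i < m, HasSectOver f (C (i + 1) \ C i)

lemma chain_of_flag {f : U ⟶ Y} {m : ℕ} (Z : Fin (m + 1) → Set Y) (hmono : Monotone Z)
    (hcc : ∀ k, IsClosed (Z k) ∧ IsConstructible (Z k))
    (hs : ∀ k : Fin m, HasSectOver f (Z k.succ \ Z k.castSucc)) (k₁ k₂ : ℕ) (hk : k₂ = k₁ + 1)
    (hk₂ : k₂ ≤ m) :
    Chain f 1 (Z ⟨k₁, by omega⟩) (Z ⟨k₂, by omega⟩) := by
  subst hk
  refine ⟨fun i => if i = 0 then Z ⟨k₁, by omega⟩ else Z ⟨k₁ + 1, by omega⟩, by simp, by simp,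
    ?_, ?_, ?_⟩
  · intro i
    by_cases hi : i = 0
    · subst hi
      simp only [↓reduceIte, zero_add, one_ne_zero]
      apply hmono
      simp [Fin.le_def]
    · simp [hi]
  · intro i
    by_cases hi : i = 0
    · simp only [hi, ↓reduceIte]; exact hcc _
    · simp only [hi, ↓reduceIte]; exact hcc _
  · intro i hi
    have hi0 : i = 0 := by omega
    subst hi0
    simp only [↓reduceIte, zero_add, one_ne_zero]
    exact hs ⟨k₁, by omega⟩

lemma chain_trans {f : U ⟶ Y} {m n : ℕ} {A B D : Set Y} (h₁ : Chain f m A B)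
    (h₂ : Chain f n B D) : Chain f (m + n) A D := by
  obtain ⟨C, h0, hm, hmono, hcc, hs⟩ := h₁
  obtain ⟨C', h0', hm', hmono', hcc', hs'⟩ := h₂
  refine ⟨fun i => if i ≤ m then C i else C' (i - m), by simpa using h0, ?_, ?_, ?_, ?_⟩
  · by_cases hn : n = 0
    · subst hn
      simp only [add_zero, le_refl, ↓reduceIte]
      rw [hm, ← h0', hm']
    · have : ¬ (m + n ≤ m) := by omega
      simp only [this, ↓reduceIte, add_tsub_cancel_left]
      exact hm'
  · intro i
    by_cases hi : i + 1 ≤ m
    · have : i ≤ m := by omega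
      simp only [hi, this, ↓reduceIte]
      exact hmono i
    · by_cases hi' : i ≤ m
      · have him : i = m := by omega
        subst him
        simp only [le_refl, ↓reduceIte, hi, add_tsub_cancel_left]
        rw [hm, ← h0']
        exact hmono' 0
      · simp only [hi', hi, ↓reduceIte]
        have : i + 1 - m = (i - m) + 1 := by omega
        rw [this]
        exact hmono' _
  · intro i
    by_cases hi : i ≤ m
    · simp only [hi, ↓reduceIte]; exact hcc _
    · simp only [hi, ↓reduceIte]; exact hcc' _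
  · intro i hi
    by_cases hi1 : i + 1 ≤ m
    · have : i ≤ m := by omega
      simp only [hi1, this, ↓reduceIte]
      exact hs i (by omega)
    · by_cases hi' : i ≤ m
      · have him : i = m := by omega
        subst him
        simp only [le_refl, ↓reduceIte, hi1, add_tsub_cancel_left]
        rw [hm, ← h0']
        exact hs' 0 (by omega)
      · simp only [hi', hi1, ↓reduceIte]
        have : i + 1 - m = (i - m) + 1 := by omega
        rw [this]
        exact hs' _ (by omega)

lemma chain_refl (f : U ⟶ Y) {A : Set Y} (hA : IsClosed A) (hAc : IsConstructible A) :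
    Chain f 0 A A :=
  ⟨fun _ => A, rfl, rfl, fun _ => subset_rfl, fun _ => ⟨hA, hAc⟩, fun i hi => by omega⟩

lemma flag_of_chain {f : U ⟶ Y} {m : ℕ} (h : Chain f m ∅ Set.univ) :
    ∃ Z : Fin (m + 1) → Set Y,
    Z 0 = ∅ ∧ Z (Fin.last m) = Set.univ ∧ Monotone Z ∧
    (∀ k, IsClosed (Z k) ∧ IsConstructible (Z k)) ∧
    ∀ k : Fin m, HasSectOver f (Z k.succ \ Z k.castSucc) := by
  obtain ⟨C, h0, hm, hmono, hcc, hs⟩ := h
  refine ⟨fun k => C k.val, by simpa using h0, by simpa using hm, ?_, fun k => hcc _, ?_⟩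
  · exact (monotone_nat_of_le_succ hmono).comp Fin.val_strictMono.monotone
  · intro k; simpa using hs k.val k.isLt

/-- chain from a flag, all at once. -/
lemma chain_of_flag_all {f : U ⟶ Y} {m : ℕ} (Z : Fin (m + 1) → Set Y) (hmono : Monotone Z)
    (hcc : ∀ k, IsClosed (Z k) ∧ IsConstructible (Z k))
    (hs : ∀ k : Fin m, HasSectOver f (Z k.succ \ Z k.castSucc)) :
    ∀ k (hk : k ≤ m), Chain f k (Z 0) (Z ⟨k, by omega⟩) := by
  intro k
  induction k with
  | zero => intro _; exact chain_refl f (hcc _).1 (hcc _).2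
  | succ k ih =>
    intro hk
    exact chain_trans (ih (by omega)) (chain_of_flag Z hmono hcc hs k (k + 1) rfl hk)

lemma stratum {Y₁ Y₂ Y₃ : Scheme.{u}} (g₁ : Y₁ ⟶ Y₂) (g₂ : Y₂ ⟶ Y₃)
    [CompactSpace Y₂] [QuasiSeparatedSpace Y₂]
    [CompactSpace Y₃] [QuasiSeparatedSpace Y₃] (m₁ : ℕ)
    (h₁ : Chain g₁ m₁ ∅ Set.univ) {A B : Set Y₃} (hA : IsClosed A) (hB : IsClosed B)
    (hAc : IsConstructible A) (hBc : IsConstructible B) (hAB : A ⊆ B)
    (hsec : HasSectOver g₂ (B \ A)) : Chain (g₁ ≫ g₂) m₁ A B := by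
  obtain ⟨C', h0', hm', hmono', hcc', hs'⟩ := h₁
  obtain ⟨T, g, s, hgimm, hrange, hsg⟩ := hsec
  have hgemb : IsEmbedding g := g.isEmbedding
  have hTc : CompactSpace T := by
    rw [← isCompact_univ_iff, hgemb.isCompact_iff, Set.image_univ, hrange]
    exact isCompact_of_isConstructible (hBc.sdiff hAc)
  have hTqs : QuasiSeparatedSpace T := quasiSeparatedSpace_of_quasiSeparated g
  have hpre : ∀ E : Set Y₂, IsConstructible E → IsConstructible (s ⁻¹' E) := by
    intro E hE
    refine hE.preimage s.continuous ?_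
    intro V hVo hVr
    have hVc : IsCompact V := hVr.isCompact
    exact ((QuasiCompact.isCompact_preimage (f := s) V hVo hVc)).isRetrocompact
      (hVo.preimage s.continuous)
  refine ⟨fun i => A ∪ g '' (s ⁻¹' C' i), ?_, ?_, ?_, ?_, ?_⟩
  · simp [h0']
  · simp only [hm', Set.preimage_univ, Set.image_univ]
    rw [show Set.range g = B \ A from hrange]
    exact Set.union_sdiff_cancel hAB
  · intro i
    exact Set.union_subset_union_right _ (Set.image_mono (Set.preimage_mono (hmono' i)))
  · intro i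
    constructor
    · obtain ⟨K, hK, hKeq⟩ := hgemb.isInducing.isClosed_iff.mp
        ((hcc' i).1.preimage s.continuous)
      have : A ∪ g '' (s ⁻¹' C' i) = A ∪ (K ∩ B) := by
        rw [← hKeq, Set.image_preimage_eq_inter_range, show Set.range g = B \ A from hrange]
        ext x
        simp only [Set.mem_union, Set.mem_inter_iff, Set.mem_sdiff]
        tauto
      show IsClosed (A ∪ g '' (s ⁻¹' C' i))
      rw [this]
      exact hA.union (hK.inter hB)
    · exact hAc.union (isConstructible_image hA hB hAc hBc g hgemb hrange (hpre _ (hcc' i).2))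
  · intro i hi
    obtain ⟨T', g', s', hg'imm, hrange', hsg'⟩ := hs' i hi
    refine ⟨Limits.pullback s g', Limits.pullback.fst s g' ≫ g, Limits.pullback.snd s g' ≫ s',
      inferInstance, ?_, ?_⟩
    · have hr1 : Set.range (Limits.pullback.fst s g') = s ⁻¹' (C' (i + 1) \ C' i) := by
        rw [Scheme.Pullback.range_fst]
        congr 1
      have : Set.range (fun t => (Limits.pullback.fst s g' ≫ g) t) =
          g '' Set.range (Limits.pullback.fst s g') := by
        ext x
        simp only [Set.mem_range, Set.mem_image, exists_exists_eq_and]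
        constructor
        · rintro ⟨t, rfl⟩; exact ⟨t, by simp⟩
        · rintro ⟨t, rfl⟩; exact ⟨t, by simp⟩
      rw [this, hr1]
      ext x
      simp only [Set.mem_image, Set.mem_preimage, Set.mem_sdiff, Set.mem_union, not_or,
        not_exists, not_and]
      constructor
      · rintro ⟨t, ⟨ht1, ht2⟩, rfl⟩
        refine ⟨Or.inr ⟨t, ht1, rfl⟩, ?_, ?_⟩
        · have : g t ∈ B \ A := hrange ▸ Set.mem_range_self t
          exact this.2
        · intro t' ht' heq
          have := hgemb.injective heq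
          subst this
          exact ht2 ht'
      · rintro ⟨h1 | ⟨t, ht1, rfl⟩, h2, h3⟩
        · exact absurd h1 h2
        · exact ⟨t, ⟨ht1, fun h => h3 t h rfl⟩, rfl⟩
    · rw [Category.assoc, ← Category.assoc s' g₁ g₂, hsg', ← Category.assoc,
        ← Limits.pullback.condition, Category.assoc, hsg]


/-- In the case of schemes. Let `g₁ : Y₁ ⟶ Y₂` and `g₂ : Y₂ ⟶ Y₃` be Nisnevich covers of quasi-compact
quasi-separated schemes of lengths at most `m₁` and `m₂` respectively. Then `g₁ ≫ g₂` is a Nisnevich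
cover of length at most `m₁ * m₂`. (The original form is for quasi-compact quasi-separated algebraic
spaces; stated here for schemes.) -/
theorem result {Y₁ Y₂ Y₃ : Scheme.{u}} (g₁ : Y₁ ⟶ Y₂) (g₂ : Y₂ ⟶ Y₃)
    [CompactSpace Y₁] [QuasiSeparatedSpace Y₁] [CompactSpace Y₂] [QuasiSeparatedSpace Y₂]
    [CompactSpace Y₃] [QuasiSeparatedSpace Y₃] (m₁ m₂ : ℕ)
    (h₁ : W4c5algebraiztannaka.IsNisCoverLen g₁ m₁) (h₂ : W4c5algebraiztannaka.IsNisCoverLen g₂ m₂) :
    W4c5algebraiztannaka.IsNisCoverLen (g₁ ≫ g₂) (m₁ * m₂) := by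
  obtain ⟨het₁, Z', hZ'0, hZ'm, hZ'mono, hZ'cc, hZ's⟩ := h₁
  obtain ⟨het₂, Z, hZ0, hZm, hZmono, hZcc, hZs⟩ := h₂
  have hc₁ : Chain g₁ m₁ ∅ Set.univ := by
    have := chain_of_flag_all Z' hZ'mono hZ'cc hZ's m₁ le_rfl
    rw [hZ'0] at this
    have h2 : (⟨m₁, by omega⟩ : Fin (m₁ + 1)) = Fin.last m₁ := rfl
    rw [h2, hZ'm] at this
    exact this
  have key : ∀ k (hk : k ≤ m₂), Chain (g₁ ≫ g₂) (k * m₁) ∅ (Z ⟨k, by omega⟩) := by
    intro k
    induction k with
    | zero =>
      intro _
      have h2 : (⟨0, by omega⟩ : Fin (m₂ + 1)) = 0 := rfl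
      rw [h2, hZ0, Nat.zero_mul]
      exact chain_refl _ isClosed_empty .empty
    | succ k ih =>
      intro hk
      rw [Nat.succ_mul]
      refine chain_trans (ih (by omega)) ?_
      refine stratum g₁ g₂ m₁ hc₁ (hZcc _).1 (hZcc _).1 (hZcc _).2 (hZcc _).2 ?_ ?_
      · apply hZmono; simp [Fin.le_def]
      · exact hZs ⟨k, by omega⟩
  refine ⟨inferInstance, ?_⟩
  have hfin := key m₂ le_rfl
  have h2 : (⟨m₂, by omega⟩ : Fin (m₂ + 1)) = Fin.last m₂ := rfl
  rw [h2, hZm, Nat.mul_comm] at hfin
  exact flag_of_chain hfin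

end Groth.Agent.S17866
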