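import Groth.Statements.S17869
import Mathlib
-- import your own Groth.Agent.* helpers here

set_option autoImplicit false
open CategoryTheory AlgebraicGeometry
universe u
open Algz

namespace Groth.Agent.S17869
open CategoryTheory AlgebraicGeometry Limits TopologicalSpace Topology


lemma isConstructible_of_isCompact_isOpen {X : Type*} [TopologicalSpace X] [QuasiSeparatedSpace X]
    {s : Set X} (ho : IsOpen s) (hc : IsCompact s) : IsConstructible s := by
  refine IsRetrocompact.isConstructible ho ?_
  intro U hU hUo
  exact QuasiSeparatedSpace.inter_isCompact s U ho hc hUo hU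


/-- In the case of schemes. Let `U` be a quasi-compact quasi-separated scheme and `V 0, …, V (k-1)`
quasi-compact open subschemes which cover `U`. Then the canonical morphism from the disjoint union
`∐ V i` to `U` is a Nisnevich cover of length at most `k`. (The published example states more
generally that, for a Nisnevich cover of `Y` of length at most `m` with source `U`, the composite
from the disjoint union `∐ V i` to `Y` has length at most `m * k`; stated here is the case of the
identity of `U`, to which the published argument reduces, and the general bound follows by composing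
Nisnevich covers. The original form is for quasi-compact quasi-separated algebraic spaces, with the
members of the cover quasi-compact; stated here for schemes.) -/
theorem result {U : Scheme.{u}} [CompactSpace U] [QuasiSeparatedSpace U]
    (k : ℕ) (V : Fin k → U.Opens) (hV : ∀ i, IsCompact (V i : Set U)) (hcov : ⨆ i, V i = ⊤) :
    W4c5algebraiztannaka.IsNisCoverLen
      (Limits.Sigma.desc (fun i => (V i).ι) : (∐ fun i => ((V i : U.Opens) : Scheme.{u})) ⟶ U) k := by
  refine ⟨IsZariskiLocalAtSource.sigmaDesc (fun i => inferInstance),
    fun j => (⋃ i : Fin k, ⋃ (_ : j.val ≤ i.val), (V i : Set U))ᶜ, ?_, ?_, ?_, ?_, ?_⟩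
  · have : (⋃ i : Fin k, (V i : Set U)) = Set.univ := by
      have := congrArg (fun W : U.Opens => (W : Set U)) hcov
      simpa using this
    simp [this]
  · have : ∀ i : Fin k, ¬ (k ≤ i.val) := fun i => not_le.mpr i.isLt
    simp [this]
  · intro a b hab
    apply Set.compl_subset_compl.mpr
    intro x hx
    simp only [Set.mem_iUnion] at hx ⊢
    obtain ⟨i, hi, hx⟩ := hx
    exact ⟨i, le_trans (Fin.le_def.mp hab) hi, hx⟩
  · intro j
    have hopen : IsOpen (⋃ i : Fin k, ⋃ (_ : j.val ≤ i.val), (V i : Set U)) :=
      isOpen_iUnion fun i => isOpen_iUnion fun _ => (V i).isOpen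
    refine ⟨hopen.isClosed_compl, IsConstructible.compl ?_⟩
    apply IsConstructible.iUnion
    intro i
    by_cases h : j.val ≤ i.val
    · simp only [h, Set.iUnion_true]
      exact isConstructible_of_isCompact_isOpen (V i).isOpen (hV i)
    · simp [h]
  · intro j
    -- closed subset of V j
    let A : Closeds (V j : Scheme.{u}) :=
      ⟨(V j).ι ⁻¹' (⋃ i : Fin k, ⋃ (_ : j.val < i.val), (V i : Set U))ᶜ,
        (isOpen_iUnion fun i => isOpen_iUnion fun _ => (V i).isOpen).isClosed_compl.preimage
          (V j).ι.continuous⟩
    let I := Scheme.IdealSheafData.vanishingIdeal A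
    refine ⟨I.subscheme, I.subschemeι ≫ (V j).ι, I.subschemeι ≫ Sigma.ι (fun i => ((V i : U.Opens) : Scheme.{u})) j, inferInstance, ?_, ?_⟩
    · have h1 : Set.range (fun t : I.subscheme => (I.subschemeι ≫ (V j).ι) t) =
          (V j).ι '' (Set.range I.subschemeι) := by
        ext x
        simp only [Set.mem_range, Set.mem_image, Scheme.Hom.comp_apply]
        constructor
        · rintro ⟨t, rfl⟩; exact ⟨_, ⟨t, rfl⟩, rfl⟩
        · rintro ⟨_, ⟨t, rfl⟩, rfl⟩; exact ⟨t, rfl⟩
      rw [h1, Scheme.IdealSheafData.range_subschemeι,
        Scheme.IdealSheafData.coe_support_vanishingIdeal]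
      ext x
      simp only [A, Closeds.coe_mk, Set.mem_image, Set.mem_preimage, Set.mem_compl_iff,
        Set.mem_iUnion, Set.mem_sdiff, not_exists, Fin.val_succ, Fin.val_castSucc]
      constructor
      · rintro ⟨y, hy, rfl⟩
        refine ⟨fun i hi => hy i (by omega), ?_⟩
        intro h
        exact h j le_rfl y.2
      · rintro ⟨h1, h2⟩
        push Not at h2
        obtain ⟨i, hi, hx⟩ := h2
        have hij : i = j := by
          by_contra hne
          have : j.val + 1 ≤ i.val := by
            have : j.val ≠ i.val := fun e => hne (Fin.ext e.symm)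
            omega
          exact h1 i this hx
        subst hij
        exact ⟨⟨x, hx⟩, fun i' hi' => h1 i' (by omega), rfl⟩
    · simp

end Groth.Agent.S17869
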