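import Groth.Statements.S17872
import Mathlib
-- import your own Groth.Agent.* helpers here

set_option autoImplicit false
universe u v
open GRRSing

namespace Groth.Agent.S17872

/-- Let H be a vector space over a field K and let b_0, …, b_l be elements of H. If the sum of the t ^ i
• b_i vanishes for infinitely many scalars t of K, then all the b_i are zero. -/
theorem result {K : Type u} {H : Type v} [Field K] [AddCommGroup H] [Module K H]
    (l : ℕ) (b : Fin (l + 1) → H)
    (h : Set.Infinite {t : K | ∑ i : Fin (l + 1), t ^ (i : ℕ) • b i = 0}) :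
    b = 0 := by
  funext i
  rw [Pi.zero_apply, ← Module.forall_dual_apply_eq_zero_iff K]
  intro φ
  -- polynomial with coefficients φ (b i)
  set p : Polynomial K := ∑ j : Fin (l + 1), Polynomial.C (φ (b j)) * Polynomial.X ^ (j : ℕ) with hp
  have hroots : {t : K | ∑ i : Fin (l + 1), t ^ (i : ℕ) • b i = 0} ⊆ {t | p.IsRoot t} := by
    intro t ht
    simp only [Set.mem_ofPred_eq] at ht ⊢
    have := congrArg φ ht
    simp only [map_sum, map_smul, smul_eq_mul, map_zero] at this
    rw [Polynomial.IsRoot, hp, Polynomial.eval_finsetSum]
    simp only [Polynomial.eval_mul, Polynomial.eval_C, Polynomial.eval_pow, Polynomial.eval_X]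
    rw [← this]
    exact Finset.sum_congr rfl fun j _ => mul_comm _ _
  have hp0 : p = 0 := by
    by_contra hne
    exact (h.mono hroots) (by simpa using Polynomial.finite_setOfPred_isRoot hne)
  have hcoeff : p.coeff i = φ (b i) := by
    rw [hp, Polynomial.finsetSum_coeff]
    simp only [Polynomial.coeff_C_mul, Polynomial.coeff_X_pow]
    rw [Finset.sum_eq_single i]
    · simp
    · intro j _ hji
      have : (i : ℕ) ≠ (j : ℕ) := fun h => hji (Fin.ext h.symm)
      simp [this]
    · simp
  rw [← hcoeff, hp0, Polynomial.coeff_zero]

end Groth.Agent.S17872
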