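import Groth.Statements.S17875
import Mathlib
-- import your own Groth.Agent.* helpers here

set_option autoImplicit false
universe u
open Polynomial
open GRRSing

namespace Groth.Agent.S17875



theorem part1 {R : Type u} [CommRing R] [Algebra ℚ R]
    (r : R) (δ : ℕ) (hr : (r - 1) ^ (δ + 1) = 0) (n : ℕ) :
    r ^ n = ∑ k ∈ Finset.range (δ + 1), ((descPochhammer ℚ k).eval (n : ℚ) / (k.factorial : ℚ)) • (r - 1) ^ k := by
  have hc : ∀ k, ((descPochhammer ℚ k).eval (n : ℚ) / (k.factorial : ℚ)) • (r - 1) ^ k =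
      (r - 1) ^ k * (n.choose k : R) := by
    intro k
    rw [descPochhammer_eval_eq_descFactorial, Nat.descFactorial_eq_factorial_mul_choose]
    push_cast
    rw [mul_div_cancel_left₀ _ (by exact_mod_cast k.factorial_ne_zero)]
    rw [Nat.cast_smul_eq_nsmul, nsmul_eq_mul, mul_comm]
  rw [Finset.sum_congr rfl fun k _ => hc k]
  have h1 : r ^ n = ∑ m ∈ Finset.range (n + 1), (r - 1) ^ m * (n.choose m : R) := by
    have := add_pow (r - 1) 1 n
    rw [sub_add_cancel] at this
    rw [this]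
    refine Finset.sum_congr rfl fun m _ => ?_
    rw [one_pow, mul_one]
  rw [h1]
  set N := max n δ + 1 with hN
  have e1 : ∑ m ∈ Finset.range (n + 1), (r - 1) ^ m * (n.choose m : R) =
      ∑ m ∈ Finset.range N, (r - 1) ^ m * (n.choose m : R) := by
    apply Finset.sum_subset
    · intro m hm
      rw [Finset.mem_range] at hm ⊢
      omega
    · intro m _ hm
      rw [Finset.mem_range, not_lt] at hm
      rw [Nat.choose_eq_zero_of_lt (by omega)]
      simp
  have e2 : ∑ m ∈ Finset.range (δ + 1), (r - 1) ^ m * (n.choose m : R) =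
      ∑ m ∈ Finset.range N, (r - 1) ^ m * (n.choose m : R) := by
    apply Finset.sum_subset
    · intro m hm
      rw [Finset.mem_range] at hm ⊢
      omega
    · intro m _ hm
      rw [Finset.mem_range, not_lt] at hm
      have : (r - 1) ^ m = 0 := by
        obtain ⟨c, rfl⟩ : ∃ c, m = δ + 1 + c := ⟨m - (δ + 1), by omega⟩
        rw [pow_add, hr, zero_mul]
      rw [this, zero_mul]
  rw [e1, e2]



lemma term {R : Type u} [CommRing R] [Algebra ℚ R] (r : R) (k u : ℕ) (hu : u ≤ k) (s : ℤ) :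
    ((k.factorial : ℚ)⁻¹) • ((s : R) * (r ^ u * (-1) ^ (k - u) * (k.choose u : R))) =
      ((((-1 : ℚ)) ^ (k - u) * (s : ℚ)) / ((u.factorial * (k - u).factorial : ℕ) : ℚ)) • r ^ u := by
  have hq : ((-1 : ℚ) ^ (k - u) * (s : ℚ)) / ((u.factorial * (k - u).factorial : ℕ) : ℚ) =
      (k.factorial : ℚ)⁻¹ * ((s : ℚ) * ((-1) ^ (k - u) * (k.choose u : ℚ))) := by
    rw [Nat.cast_choose ℚ hu]
    have h1 : (k.factorial : ℚ) ≠ 0 := by exact_mod_cast k.factorial_ne_zero
    have h2 : (u.factorial : ℚ) ≠ 0 := by exact_mod_cast u.factorial_ne_zero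
    have h3 : ((k - u).factorial : ℚ) ≠ 0 := by exact_mod_cast (k - u).factorial_ne_zero
    push_cast
    field_simp
  rw [hq, mul_smul]
  congr 1
  rw [Algebra.smul_def]
  simp only [map_mul, map_pow, map_neg, map_one, map_intCast, map_natCast]
  ring

theorem part2 {R : Type u} [CommRing R] [Algebra ℚ R]
    (r : R) (δ : ℕ) :
    (∑ k ∈ Finset.range (δ + 1), ((k.factorial : ℚ)⁻¹ • (descPochhammer R k * Polynomial.C ((r - 1) ^ k))) =
      ∑ j ∈ Finset.range (δ + 1), Polynomial.C (∑ k ∈ Finset.range (δ + 1), ∑ u ∈ Finset.range (k + 1),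
        (((-1 : ℚ) ^ (k - u) * (((descPochhammer ℤ k).coeff j : ℤ) : ℚ)) / ((u.factorial * (k - u).factorial : ℕ) : ℚ)) • r ^ u) * Polynomial.X ^ j) := by
  have hs : ∀ k j, (descPochhammer R k).coeff j = (((descPochhammer ℤ k).coeff j : ℤ) : R) := by
    intro k j
    rw [← descPochhammer_map (Int.castRingHom R), Polynomial.coeff_map]
    rfl
  have hs0 : ∀ k j, k < j → (descPochhammer ℤ k).coeff j = 0 := by
    intro k j hkj
    apply Polynomial.coeff_eq_zero_of_natDegree_lt
    rw [descPochhammer_natDegree]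
    exact hkj
  ext j
  simp only [Polynomial.finsetSum_coeff, Polynomial.coeff_smul, Polynomial.coeff_mul_C,
    Polynomial.coeff_C_mul_X_pow]
  rw [Finset.sum_ite_eq]
  by_cases hj : j ∈ Finset.range (δ + 1)
  · rw [if_pos hj]
    refine Finset.sum_congr rfl fun k _ => ?_
    rw [hs k j]
    have hpow : (r - 1) ^ k = ∑ u ∈ Finset.range (k + 1), r ^ u * (-1) ^ (k - u) * (k.choose u : R) := by
      rw [sub_eq_add_neg, add_pow]
    rw [hpow, Finset.mul_sum, Finset.smul_sum]
    refine Finset.sum_congr rfl fun u hu => ?_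
    exact term r k u (Nat.lt_succ_iff.1 (Finset.mem_range.1 hu)) _
  · rw [if_neg hj]
    apply Finset.sum_eq_zero
    intro k hk
    rw [Finset.mem_range] at hk hj
    rw [hs k j, hs0 k j (by omega)]
    simp



/-- Let R be a commutative ℚ-algebra, r an element of R and δ a natural number with (r - 1) ^ (δ + 1) =
0. Write s(k, j) for the signed Stirling numbers of the first kind, the coefficients of x (x - 1) ⋯
(x - k + 1) = Σ_j s(k, j) x ^ j. Then (i) for every natural number n, r ^ n = Σ_{k ≤ δ} [n (n - 1) ⋯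
(n - k + 1) / k!] (r - 1) ^ k; and (ii) in the polynomial ring R[x], Σ_{k ≤ δ} [x (x - 1) ⋯ (x - k +
1) / k!] (r - 1) ^ k = Σ_{j ≤ δ} [Σ_{k ≤ δ} Σ_{u ≤ k} (-1) ^ (k - u) s(k, j) / (u! (k - u)!) · r ^
u] x ^ j. -/
theorem result {R : Type u} [CommRing R] [Algebra ℚ R]
    (r : R) (δ : ℕ) (hr : (r - 1) ^ (δ + 1) = 0) :
    (∀ n : ℕ, r ^ n = ∑ k ∈ Finset.range (δ + 1), ((descPochhammer ℚ k).eval (n : ℚ) / (k.factorial : ℚ)) • (r - 1) ^ k) ∧
    (∑ k ∈ Finset.range (δ + 1), ((k.factorial : ℚ)⁻¹ • (descPochhammer R k * Polynomial.C ((r - 1) ^ k))) =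
      ∑ j ∈ Finset.range (δ + 1), Polynomial.C (∑ k ∈ Finset.range (δ + 1), ∑ u ∈ Finset.range (k + 1),
        (((-1 : ℚ) ^ (k - u) * (((descPochhammer ℤ k).coeff j : ℤ) : ℚ)) / ((u.factorial * (k - u).factorial : ℕ) : ℚ)) • r ^ u) * Polynomial.X ^ j) := by
  exact ⟨fun n => part1 r δ hr n, part2 r δ⟩

end Groth.Agent.S17875
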