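import Groth.Statements.S17878
import Mathlib

set_option autoImplicit false
universe u
open Filter Topology
open GRRSing

namespace Groth.Agent.S17878

namespace Ab

/-- `A n y = ∑ k, k^n y^k`. -/
noncomputable def A (n : ℕ) (y : ℂ) : ℂ := ∑' k : ℕ, (k : ℂ) ^ n * y ^ k

lemma summ (n : ℕ) {y : ℂ} (hy : ‖y‖ < 1) : Summable (fun k : ℕ => (k : ℂ) ^ n * y ^ k) :=
  summable_pow_mul_geometric_of_norm_lt_one n hy

lemma A_rec (n : ℕ) {y : ℂ} (hy : ‖y‖ < 1) :
    A n y = (if n = 0 then 1 else 0) +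
      y * ∑ j ∈ Finset.range (n + 1), (n.choose j : ℂ) * A j y := by
  unfold A
  rw [(summ n hy).tsum_eq_zero_add]
  congr 1
  · simp [zero_pow_eq]
  · have h1 : ∀ k : ℕ, ((k + 1 : ℕ) : ℂ) ^ n * y ^ (k + 1) =
        y * ∑ j ∈ Finset.range (n + 1), (n.choose j : ℂ) * ((k : ℂ) ^ j * y ^ k) := by
      intro k
      rw [Nat.cast_add, Nat.cast_one, add_pow, Finset.sum_mul, Finset.mul_sum]
      refine Finset.sum_congr rfl (fun j _ => ?_)
      rw [one_pow, pow_succ]
      ring
    simp_rw [h1]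
    rw [tsum_mul_left]
    congr 1
    rw [Summable.tsum_finsetSum]
    · refine Finset.sum_congr rfl (fun j _ => ?_)
      rw [tsum_mul_left]
    · intro j _
      exact (summ j hy).mul_left _

lemma E_rec (E : ℕ → ℚ)
    (hE : PowerSeries.mk (fun j => E j / (j.factorial : ℚ)) * (PowerSeries.exp ℚ + 1) = 2) (n : ℕ) :
    2 * E n + ∑ i ∈ Finset.range n, (n.choose i : ℚ) * E i = if n = 0 then 2 else 0 := by
  have h := congrArg (PowerSeries.coeff n) hE
  rw [PowerSeries.coeff_mul, Finset.Nat.sum_antidiagonal_eq_sum_range_succ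
    (fun i j => PowerSeries.coeff i (PowerSeries.mk (fun j => E j / (j.factorial : ℚ))) *
      PowerSeries.coeff j (PowerSeries.exp ℚ + 1))] at h
  have h2 : (PowerSeries.coeff n) (2 : PowerSeries ℚ) = if n = 0 then 2 else 0 := by
    have : (2 : PowerSeries ℚ) = PowerSeries.C (2 : ℚ) := (map_ofNat (PowerSeries.C (R := ℚ)) 2).symm
    rw [this, PowerSeries.coeff_C]
  rw [h2] at h
  have hn : (n.factorial : ℚ) ≠ 0 := by positivity
  have h3 : ∀ i ∈ Finset.range (n + 1),
      (n.factorial : ℚ) * ((PowerSeries.coeff i) (PowerSeries.mk fun j => E j / (j.factorial : ℚ)) *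
        (PowerSeries.coeff (n - i)) (PowerSeries.exp ℚ + 1)) =
      (n.choose i : ℚ) * E i + if i = n then (n.factorial : ℚ) * (E i / i.factorial) else 0 := by
    intro i hi
    have hi' : i ≤ n := Nat.lt_succ_iff.mp (Finset.mem_range.mp hi)
    rw [PowerSeries.coeff_mk, map_add, PowerSeries.coeff_exp, PowerSeries.coeff_one,
      Nat.cast_choose ℚ hi']
    have hi1 : (i.factorial : ℚ) ≠ 0 := by positivity
    have hi2 : ((n - i).factorial : ℚ) ≠ 0 := by positivity
    have : (n - i = 0) ↔ i = n := by omega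
    by_cases hin : i = n
    · subst hin
      simp
      field_simp
    · have : ¬ (n - i = 0) := by omega
      simp [this, hin]
      field_simp
  have h4 := congrArg (fun q => (n.factorial : ℚ) * q) h
  simp only [Finset.mul_sum] at h4
  rw [Finset.sum_congr rfl h3, Finset.sum_add_distrib, Finset.sum_ite_eq' ] at h4
  simp only [Finset.mem_range, Nat.lt_succ_self, if_true] at h4
  rw [Finset.sum_range_succ, Nat.choose_self, Nat.cast_one, one_mul] at h4
  have h5 : (n.factorial : ℚ) * (E n / n.factorial) = E n := by field_simp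
  rw [h5] at h4
  by_cases hn0 : n = 0
  · subst hn0
    simp at h4 ⊢
    linarith
  · simp only [hn0, if_false, mul_zero] at h4 ⊢
    linarith


lemma norm_lt_of_mem {y : ℝ} (hy : y ∈ Set.Ioo (-1 : ℝ) 1) : ‖(y : ℂ)‖ < 1 := by
  rw [Complex.norm_real, Real.norm_eq_abs, abs_lt]
  exact hy

lemma A_tendsto (E : ℕ → ℚ)
    (hE : PowerSeries.mk (fun j => E j / (j.factorial : ℚ)) * (PowerSeries.exp ℚ + 1) = 2) (n : ℕ) :
    Tendsto (fun y : ℝ => A n (y : ℂ)) (𝓝[Set.Ioo (-1 : ℝ) 1] (-1 : ℝ)) (𝓝 ((E n : ℂ) / 2)) := by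
  induction n using Nat.strong_induction_on with
  | _ n ih =>
    have hy : Tendsto (fun y : ℝ => (y : ℂ)) (𝓝[Set.Ioo (-1 : ℝ) 1] (-1 : ℝ)) (𝓝 (-1 : ℂ)) := by
      have := (Complex.continuous_ofReal.tendsto (-1 : ℝ)).mono_left
        (nhdsWithin_le_nhds (s := Set.Ioo (-1 : ℝ) 1))
      simpa using this
    have hnum : Tendsto (fun y : ℝ => ((if n = 0 then 1 else 0 : ℂ) +
        (y : ℂ) * ∑ j ∈ Finset.range n, (n.choose j : ℂ) * A j (y : ℂ)))
        (𝓝[Set.Ioo (-1 : ℝ) 1] (-1 : ℝ))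
        (𝓝 ((if n = 0 then 1 else 0 : ℂ) +
          (-1 : ℂ) * ∑ j ∈ Finset.range n, (n.choose j : ℂ) * ((E j : ℂ) / 2))) := by
      refine tendsto_const_nhds.add (hy.mul ?_)
      refine tendsto_finsetSum _ (fun j hj => ?_)
      exact (ih j (Finset.mem_range.mp hj)).const_mul _
    have hden : Tendsto (fun y : ℝ => (1 - (y : ℂ))) (𝓝[Set.Ioo (-1 : ℝ) 1] (-1 : ℝ))
        (𝓝 (1 - (-1 : ℂ))) := tendsto_const_nhds.sub hy
    have hdiv := hnum.div hden (by norm_num)
    have hlim : ((if n = 0 then 1 else 0 : ℂ) +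
          (-1 : ℂ) * ∑ j ∈ Finset.range n, (n.choose j : ℂ) * ((E j : ℂ) / 2)) / (1 - (-1 : ℂ))
          = (E n : ℂ) / 2 := by
      have h1 := E_rec E hE n
      have h2 := congrArg (fun q : ℚ => (q : ℂ)) h1
      simp only [Rat.cast_add, Rat.cast_mul, Rat.cast_sum, Rat.cast_natCast, Rat.cast_ofNat] at h2
      have h3 : (((if n = 0 then 2 else 0 : ℚ)) : ℂ) = 2 * (if n = 0 then 1 else 0 : ℂ) := by
        split_ifs <;> simp
      rw [h3] at h2
      have h4 : ∑ j ∈ Finset.range n, (n.choose j : ℂ) * ((E j : ℂ) / 2) =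
          (∑ j ∈ Finset.range n, (n.choose j : ℂ) * (E j : ℂ)) / 2 := by
        rw [Finset.sum_div]
        refine Finset.sum_congr rfl (fun j _ => ?_)
        ring
      rw [h4]
      have h5 : (1 - (-1 : ℂ)) = 2 := by norm_num
      rw [h5]
      field_simp
      linear_combination (-1 : ℂ) * h2
    rw [hlim] at hdiv
    refine hdiv.congr' ?_
    filter_upwards [self_mem_nhdsWithin] with y hy'
    have hlt := norm_lt_of_mem hy'
    have hne : (1 - (y : ℂ)) ≠ 0 := by
      intro h0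
      have : (y : ℂ) = 1 := by linear_combination -h0
      rw [this] at hlt
      simp at hlt
    have hr := A_rec n hlt
    rw [Finset.sum_range_succ, Nat.choose_self, Nat.cast_one, one_mul] at hr
    simp only [Pi.div_apply]
    rw [div_eq_iff hne]
    linear_combination (-1 : ℂ) * hr


lemma hasSum_main {T : Type u} [NormedCommRing T] [NormedAlgebra ℂ T] (P : Polynomial T)
    {y : ℂ} (hy : ‖y‖ < 1) :
    HasSum (fun k : ℕ => y ^ k • P.eval (k : T))
      (∑ j ∈ Finset.range (P.natDegree + 1), A j y • P.coeff j) := by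
  have h1 : ∀ k : ℕ, y ^ k • P.eval (k : T) =
      ∑ j ∈ Finset.range (P.natDegree + 1), ((k : ℂ) ^ j * y ^ k) • P.coeff j := by
    intro k
    rw [Polynomial.eval_eq_sum_range, Finset.smul_sum]
    refine Finset.sum_congr rfl (fun j _ => ?_)
    have : ((k : T)) ^ j = algebraMap ℂ T ((k : ℂ) ^ j) := by
      rw [map_pow, map_natCast]
    rw [this, ← Algebra.commutes, ← Algebra.smul_def, smul_smul, mul_comm]
  simp_rw [h1]
  refine hasSum_sum (fun j _ => ?_)
  exact ((summ j hy).hasSum).smul_const (P.coeff j)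

theorem main {T : Type u} [NormedCommRing T] [NormedAlgebra ℂ T]
    (E : ℕ → ℚ) (hE : PowerSeries.mk (fun j => E j / (j.factorial : ℚ)) * (PowerSeries.exp ℚ + 1) = 2)
    (P : Polynomial T) :
    (∀ y : ℂ, ‖y‖ < 1 → Summable (fun k : ℕ => y ^ k • P.eval (k : T))) ∧
    Tendsto (fun y : ℝ => ∑' k : ℕ, ((y : ℂ) ^ k) • P.eval (k : T)) (𝓝[Set.Ioo (-1 : ℝ) 1] (-1 : ℝ))
      (𝓝 ((2 : ℂ)⁻¹ • ∑ j ∈ Finset.range (P.natDegree + 1), ((E j : ℚ) : ℂ) • P.coeff j)) := by
  refine ⟨fun y hy => (hasSum_main P hy).summable, ?_⟩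
  have h1 : Tendsto (fun y : ℝ => ∑ j ∈ Finset.range (P.natDegree + 1), A j (y : ℂ) • P.coeff j)
      (𝓝[Set.Ioo (-1 : ℝ) 1] (-1 : ℝ))
      (𝓝 (∑ j ∈ Finset.range (P.natDegree + 1), ((E j : ℂ) / 2) • P.coeff j)) := by
    refine tendsto_finsetSum _ (fun j _ => ?_)
    exact (A_tendsto E hE j).smul_const _
  have h2 : (2 : ℂ)⁻¹ • ∑ j ∈ Finset.range (P.natDegree + 1), ((E j : ℚ) : ℂ) • P.coeff j =
      ∑ j ∈ Finset.range (P.natDegree + 1), ((E j : ℂ) / 2) • P.coeff j := by
    rw [Finset.smul_sum]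
    refine Finset.sum_congr rfl (fun j _ => ?_)
    rw [smul_smul]
    congr 1
    ring
  rw [h2]
  refine h1.congr' ?_
  filter_upwards [self_mem_nhdsWithin] with y hy'
  exact ((hasSum_main P (norm_lt_of_mem hy')).tsum_eq).symm

end Ab


/-- Let T be a nonzero commutative normed ℂ-algebra such that the map ℂ → T/nilradical(T) is surjective,
let P = Σ_j d_j x ^ j be a polynomial over T and put h_k = P(k). Let E_0, E_1, … be the rational
numbers with 2/(e^t + 1) = Σ_j E_j t ^ j / j! (so E_0 = 1, E_1 = -1/2). Then for every complex y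
with |y| < 1 the series Σ_k h_k y ^ k converges in T, and as y → -1 along real y in (-1, 1) its sum
tends to (1/2) Σ_j E_j d_j. (The published statement allows any norm topology on T as a complex
vector space; this row takes T a normed ℂ-algebra.) -/
theorem result {T : Type u} [NormedCommRing T] [NormedAlgebra ℂ T] [Nontrivial T]
    (hT : Function.Surjective (algebraMap ℂ (T ⧸ nilradical T)))
    (E : ℕ → ℚ) (hE : PowerSeries.mk (fun j => E j / (j.factorial : ℚ)) * (PowerSeries.exp ℚ + 1) = 2)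
    (P : Polynomial T) :
    (∀ y : ℂ, ‖y‖ < 1 → Summable (fun k : ℕ => y ^ k • P.eval (k : T))) ∧
    Tendsto (fun y : ℝ => ∑' k : ℕ, ((y : ℂ) ^ k) • P.eval (k : T)) (𝓝[Set.Ioo (-1 : ℝ) 1] (-1 : ℝ))
      (𝓝 ((2 : ℂ)⁻¹ • ∑ j ∈ Finset.range (P.natDegree + 1), ((E j : ℚ) : ℂ) • P.coeff j)) :=
  Ab.main E hE P

end Groth.Agent.S17878
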