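import Groth.Statements.S17881
import Mathlib

set_option autoImplicit false
universe u
open CAlg

namespace Groth.Agent.S17881

/-- Let O be a subring of a nontrivial commutative ring A. The following are equivalent: (i) A is a
local ring, every non-unit of A belongs to O, and for every unit u of A one of u, u⁻¹ belongs to O —
equivalently O is the preimage in the local ring A of a valuation ring of the residue field of A,
which makes O a semi-valuation ring with semi-fraction ring A; (ii) for all f, g in A generating the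
unit ideal, either f ∈ gO or g ∈ fO. (A is taken nontrivial: over the zero ring (ii) holds and (i)
fails.) -/
theorem result (A : Type u) [CommRing A] [Nontrivial A]
    (O : Subring A) :
    (IsLocalRing A ∧ (∀ a : A, ¬ IsUnit a → a ∈ O) ∧ (∀ u : Aˣ, (u : A) ∈ O ∨ ((u⁻¹ : Aˣ) : A) ∈ O)) ↔
      ∀ f g : A, IsCoprime f g → (∃ o ∈ O, f = g * o) ∨ (∃ o ∈ O, g = f * o) := by
  constructor
  · rintro ⟨hloc, hnu, hu⟩ f g hfg
    -- one of f, g is a unit
    have key : ∀ f g : A, IsUnit g → (∃ o ∈ O, f = g * o) ∨ (∃ o ∈ O, g = f * o) := by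
      intro f g hg
      obtain ⟨v, rfl⟩ := hg
      by_cases h : IsUnit ((v⁻¹ : Aˣ) * f)
      · obtain ⟨w, hw⟩ := h
        rcases hu w with h1 | h1
        · left
          refine ⟨w, h1, ?_⟩
          rw [hw, ← mul_assoc, Units.mul_inv, one_mul]
        · right
          refine ⟨(w⁻¹ : Aˣ), h1, ?_⟩
          have : f = v * w := by rw [hw, ← mul_assoc, Units.mul_inv, one_mul]
          rw [this, mul_assoc, Units.mul_inv, mul_one]
      · left
        refine ⟨(v⁻¹ : Aˣ) * f, hnu _ h, ?_⟩
        rw [← mul_assoc, Units.mul_inv, one_mul]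
    have : IsUnit f ∨ IsUnit g := by
      by_contra hcon
      push Not at hcon
      obtain ⟨a, b, hab⟩ := hfg
      have h1 : a * f ∈ IsLocalRing.maximalIdeal A :=
        Ideal.mul_mem_left _ _ ((IsLocalRing.mem_maximalIdeal f).2 hcon.1)
      have h2 : b * g ∈ IsLocalRing.maximalIdeal A :=
        Ideal.mul_mem_left _ _ ((IsLocalRing.mem_maximalIdeal g).2 hcon.2)
      have h3 := Ideal.add_mem _ h1 h2
      rw [hab] at h3
      exact (IsLocalRing.mem_maximalIdeal 1).1 h3 isUnit_one
    rcases this with h | h
    · exact (key g f h).symm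
    · exact key f g h
  · intro H
    have hunit : ∀ f g : A, IsCoprime f g → IsUnit f ∨ IsUnit g := by
      intro f g hfg
      obtain ⟨a, b, hab⟩ := hfg
      rcases H f g ⟨a, b, hab⟩ with ⟨o, -, ho⟩ | ⟨o, -, ho⟩
      · right
        refine IsUnit.of_mul_eq_one (a * o + b) ?_
        rw [← hab, ho]; ring
      · left
        refine IsUnit.of_mul_eq_one (a + b * o) ?_
        rw [← hab, ho]; ring
    refine ⟨?_, ?_, ?_⟩
    · apply IsLocalRing.of_isUnit_or_isUnit_one_sub_self
      intro a
      apply hunit
      exact ⟨1, 1, by ring⟩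
    · intro a ha
      rcases H a 1 isCoprime_one_right with ⟨o, ho, h⟩ | ⟨o, ho, h⟩
      · rw [h, one_mul]; exact ho
      · exact absurd (IsUnit.of_mul_eq_one o h.symm) ha
    · intro u
      rcases H u 1 isCoprime_one_right with ⟨o, ho, h⟩ | ⟨o, ho, h⟩
      · left; rw [h, one_mul]; exact ho
      · right
        have : ((u⁻¹ : Aˣ) : A) = o := by
          have h2 : (u : A) * o = 1 := h.symm
          calc ((u⁻¹ : Aˣ) : A) = ((u⁻¹ : Aˣ) : A) * ((u : A) * o) := by rw [h2, mul_one]
            _ = o := by rw [← mul_assoc, Units.inv_mul, one_mul]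
        rw [this]; exact ho

end Groth.Agent.S17881
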