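import Groth.Statements.S17882
import Mathlib

set_option autoImplicit false
universe u
open CAlg

namespace Groth.Agent.S17882

open Matrix in
/-- Cramer for rows: `det A • m = ∑ i, det (A with row i replaced by m) • A i`. -/
theorem cramer_rows {B : Type u} [CommRing B] {r : ℕ} (A : Matrix (Fin r) (Fin r) B)
    (m : Fin r → B) : A.det • m = ∑ i, (A.updateRow i m).det • A i := by
  have h := Matrix.mulVec_cramer Aᵀ m
  rw [Matrix.mulVec_transpose, Matrix.vecMul_eq_sum, Matrix.det_transpose] at h
  rw [← h]
  refine Finset.sum_congr rfl fun i _ => ?_
  rw [Matrix.cramer_transpose_apply]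

/-- Let B be a commutative ring, r ≥ 1, N a finitely generated submodule of B^r, and n_1, …, n_r ∈ N.
Suppose the determinant of the matrix with rows n_1, …, n_r is a nonzerodivisor of B and that the
determinant of every matrix whose rows lie in N is a multiple of it (the image of the top exterior
power of N in that of B^r ≅ B is the principal ideal generated by n_1 ∧ ⋯ ∧ n_r, a nonzerodivisor).
Then n_1, …, n_r are linearly independent over B and span N: N is free of rank r with this basis. -/
theorem result (B : Type u) [CommRing B] (r : ℕ) (hr : 0 < r)
    (N : Submodule B (Fin r → B)) (hN : N.FG) (n : Fin r → (Fin r → B)) (hn : ∀ i, n i ∈ N)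
    (hgen : ∀ m : Fin r → (Fin r → B), (∀ i, m i ∈ N) →
      Matrix.det (Matrix.of m) ∈ Ideal.span {Matrix.det (Matrix.of n)})
    (hnzd : Matrix.det (Matrix.of n) ∈ nonZeroDivisors B) :
    LinearIndependent B n ∧ Submodule.span B (Set.range n) = N := by
  classical
  set A : Matrix (Fin r) (Fin r) B := Matrix.of n with hA
  have hcancel : ∀ x y : Fin r → B, A.det • x = A.det • y → x = y := by
    intro x y hxy
    funext j
    have := congrFun hxy j
    simp only [Pi.smul_apply, smul_eq_mul] at this
    exact (mul_cancel_left_mem_nonZeroDivisors hnzd).1 this
  constructor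
  · rw [Fintype.linearIndependent_iff]
    intro g hg
    have h1 : Matrix.vecMul g A = 0 := by
      rw [Matrix.vecMul_eq_sum]; exact hg
    have h2 : A.det • g = 0 := by
      have : Matrix.vecMul (Matrix.vecMul g A) A.adjugate = A.det • g := by
        rw [Matrix.vecMul_vecMul, Matrix.mul_adjugate, Matrix.vecMul_smul, Matrix.vecMul_one]
      rw [← this, h1, Matrix.zero_vecMul]
    have h3 : g = 0 := hcancel g 0 (by rw [h2, smul_zero])
    intro i
    rw [h3]; rfl
  · apply le_antisymm
    · rw [Submodule.span_le]
      rintro _ ⟨i, rfl⟩
      exact hn i
    · intro m hm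
      have hc : ∀ i : Fin r, ∃ c : B, c * A.det = (A.updateRow i m).det := by
        intro i
        have := hgen (Function.update n i m) (by
          intro j
          by_cases hj : j = i
          · subst hj; rw [Function.update_self]; exact hm
          · rw [Function.update_of_ne hj]; exact hn j)
        rw [Ideal.mem_span_singleton'] at this
        exact this
      choose c hc using hc
      have h1 : A.det • m = A.det • ∑ i, c i • n i := by
        rw [cramer_rows, Finset.smul_sum]
        refine Finset.sum_congr rfl fun i _ => ?_
        rw [← hc i, smul_smul, mul_comm]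
        rfl
      rw [hcancel _ _ h1]
      exact Submodule.sum_mem _ fun i _ => Submodule.smul_mem _ _ (Submodule.subset_span ⟨i, rfl⟩)

end Groth.Agent.S17882
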