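import Groth.Statements.S17889
import Groth.Agent.Lib.Helper56.ConradSep2

set_option autoImplicit false
universe u
open CategoryTheory AlgebraicGeometry TopologicalSpace
open BlowUp

namespace Groth.Agent.S17889

/-- Let X be a Noetherian scheme, X₀ ⊆ X an open subscheme, p : Z → X a morphism of finite type with Z
Noetherian, and F ⊆ X, G ⊆ Z closed subsets with p⁻¹(F ∩ X₀) ∩ G = ∅. Let a be a quasi-coherent
ideal sheaf on X whose support does not meet X₀, which contains the vanishing ideal I_F of F, and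
which is contained in the kernel ideal of V(I_F·O_Z + I_G) → Z → X (the ideal of the
scheme-theoretic image under p of p⁻¹(F) ∩ G). Let π : X' → X be a blowing-up along a, Z' = Z ×_X X'
with projections π' : Z' → Z and p' : Z' → X'. Then p'⁻¹ of the closure in X' of π⁻¹(F ∩ X₀) is
disjoint from the closure in Z' of π'⁻¹(G ∩ p⁻¹(X₀)). Taking a to be that kernel ideal shows such an
a exists. -/
theorem result
    {X Z : Scheme.{u}} [IsNoetherian X] [IsNoetherian Z] (p : Z ⟶ X) [LocallyOfFiniteType p]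
    (X₀ : X.Opens) (F : Closeds X) (G : Closeds Z)
    (hFG : p.base ⁻¹' ((F : Set X) ∩ (X₀ : Set X)) ∩ (G : Set Z) = ∅)
    (𝔞 : X.IdealSheafData) (h₁ : Disjoint (𝔞.support : Set X) (X₀ : Set X))
    (h₂ : Scheme.IdealSheafData.vanishingIdeal F ≤ 𝔞)
    (h₃ : 𝔞 ≤ (((Scheme.IdealSheafData.vanishingIdeal F).comap p ⊔
      Scheme.IdealSheafData.vanishingIdeal G).subschemeι ≫ p).ker)
    {X' : Scheme.{u}} (π : X' ⟶ X) (hπ : BlowUp.IsBlowUp π 𝔞) :
    (Limits.pullback.snd p π).base ⁻¹' closure (π.base ⁻¹' ((F : Set X) ∩ (X₀ : Set X))) ∩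
      closure ((Limits.pullback.fst p π).base ⁻¹' ((G : Set Z) ∩ (p ⁻¹ᵁ X₀ : Set Z))) = ∅ := by
  rw [Set.eq_empty_iff_forall_notMem]
  rintro z ⟨hz1, hz2⟩
  have hF : (F : Set X) ⊆ ((Scheme.IdealSheafData.vanishingIdeal F).support : Set X) :=
    Scheme.IdealSheafData.le_support_iff_le_vanishingIdeal.mpr le_rfl
  have hG : (G : Set Z) ⊆ ((Scheme.IdealSheafData.vanishingIdeal G).support : Set Z) :=
    Scheme.IdealSheafData.le_support_iff_le_vanishingIdeal.mpr le_rfl
  refine Groth.Agent.Lib.Helper56.ConradSep.sep_of_comap_le p X₀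
    (Scheme.IdealSheafData.vanishingIdeal F) 𝔞 (Scheme.IdealSheafData.vanishingIdeal G) h₁ h₂
    (Scheme.IdealSheafData.le_map_iff_comap_le.mp h₃) π hπ.1 z ?_ ?_
  · exact closure_mono (Set.preimage_mono (Set.inter_subset_inter_left _ hF)) hz1
  · exact closure_mono (Set.preimage_mono (Set.inter_subset_inter_left _ hG)) hz2

end Groth.Agent.S17889
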