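import Groth.Statements.S17898
import Mathlib
-- import your own Groth.Agent.* helpers here

set_option autoImplicit false
universe u
open CategoryTheory AlgebraicGeometry
open ValCrit

namespace Groth.Agent.S17898

open IsLocalRing

/-- Two morphisms out of a local scheme which agree at the closed point and after precomposition
with `Spec` of an injective ring map are equal. -/
lemma eq_of_SpecMap_comp_eq' {X : Scheme.{u}} {R' R : CommRingCat.{u}} [IsLocalRing R']
    (ρ : R' ⟶ R) (hρ : Function.Injective ρ.hom)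
    (a b : Spec R' ⟶ X) (hcp : b (closedPoint R') = a (closedPoint R'))
    (h : Spec.map ρ ≫ a = Spec.map ρ ≫ b) : a = b := by
  have key : ∀ (x : X) (e : b (closedPoint R') = x),
      ∃ β : X.presheaf.stalk x ⟶ R', b = Spec.map β ≫ X.fromSpecStalk x := by
    intro x e
    subst e
    exact ⟨Scheme.stalkClosedPointTo b, (Scheme.Spec_stalkClosedPointTo_fromSpecStalk b).symm⟩
  obtain ⟨β, hβ⟩ := key _ hcp
  have hα := (Scheme.Spec_stalkClosedPointTo_fromSpecStalk a).symm
  set α := Scheme.stalkClosedPointTo a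
  rw [hα, hβ] at h ⊢
  rw [← Spec.map_comp_assoc, ← Spec.map_comp_assoc, cancel_mono] at h
  have h3 := Spec.map_injective h
  have : α = β := by
    ext t
    apply hρ
    exact congr($h3 t)
  rw [this]

lemma mem_of_mem_maximalIdeal {K : Type u} [Field K] (R R' : ValuationSubring K) (hRR' : R ≤ R')
    (x : R') (hx : x ∈ maximalIdeal R') : (x : K) ∈ R := by
  by_contra hxR
  have hinv : (x : K)⁻¹ ∈ R := (R.mem_or_inv_mem _).resolve_left hxR
  have hinv' : (x : K)⁻¹ ∈ R' := hRR' hinv
  have hx0 : (x : K) ≠ 0 := by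
    intro h0
    exact hxR (h0 ▸ R.zero_mem)
  have : IsUnit x := by
    refine IsUnit.of_mul_eq_one ⟨_, hinv'⟩ ?_
    apply Subtype.ext
    simp [mul_inv_cancel₀ hx0]
  exact hx this

set_option backward.isDefEq.respectTransparency.types false in
/-- Let f : Y → X be a morphism of schemes (not assumed separated), K a field with valuation rings R ⊆
R' (inclusion ι), i : Spec K → Y and φ : Spec R → X a commutative square over f, and g : Spec R' → Y
a lift of Spec R' → Spec R → X restricting to i on Spec K. Let K̃ be the residue field of R', R̃ ⊆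
K̃ the image of R (a valuation ring of K̃) with the surjection σ : R → R̃. Then every h̃ : Spec R̃ →
Y whose restriction to Spec K̃ is Spec K̃ → Spec R' → Y (via g) and which lies over Spec R̃ → Spec R
→ X is induced by a unique h : Spec R → Y compatible with the whole diagram: h restricts to i on
Spec K, lies over φ, restricts to g along Spec R' → Spec R and to h̃ along Spec R̃ → Spec R. (ι, R̃,
σ are given as data pinned by their defining equations.) -/
theorem result {X Y : Scheme.{u}} (f : Y ⟶ X)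
    (K : Type u) [Field K] (R R' : ValuationSubring K) (hRR' : R ≤ R')
    (ι : ↥R →+* ↥R') (hι : ∀ x : ↥R, ((ι x : ↥R') : K) = (x : K))
    (i : Spec (CommRingCat.of K) ⟶ Y) (φ : Spec (CommRingCat.of ↥R) ⟶ X)
    (w : Spec.map (CommRingCat.ofHom R.subtype) ≫ φ = i ≫ f)
    (g : Spec (CommRingCat.of ↥R') ⟶ Y) (hg₁ : Spec.map (CommRingCat.ofHom R'.subtype) ≫ g = i)
    (hg₂ : g ≫ f = Spec.map (CommRingCat.ofHom ι) ≫ φ)
    (Rt : ValuationSubring (IsLocalRing.ResidueField ↥R')) (σ : ↥R →+* ↥Rt) (hσs : Function.Surjective σ)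
    (hσ : ∀ x : ↥R, ((σ x : ↥Rt) : IsLocalRing.ResidueField ↥R') = IsLocalRing.residue ↥R' (ι x))
    (ht : Spec (CommRingCat.of ↥Rt) ⟶ Y)
    (hht₁ : Spec.map (CommRingCat.ofHom Rt.subtype) ≫ ht =
      Spec.map (CommRingCat.ofHom (IsLocalRing.residue ↥R')) ≫ g)
    (hht₂ : ht ≫ f = Spec.map (CommRingCat.ofHom σ) ≫ φ) :
    ∃! h : Spec (CommRingCat.of ↥R) ⟶ Y, Spec.map (CommRingCat.ofHom R.subtype) ≫ h = i ∧ h ≫ f = φ ∧
      Spec.map (CommRingCat.ofHom ι) ≫ h = g ∧ Spec.map (CommRingCat.ofHom σ) ≫ h = ht := by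
  have hιinj : Function.Injective ι := by
    intro a b hab
    apply Subtype.ext
    rw [← hι, ← hι, hab]
  haveI hσloc : IsLocalHom σ := IsLocalHom.of_surjective σ hσs
  have hσcp : (Spec.map (CommRingCat.ofHom σ)) (closedPoint Rt) = closedPoint R :=
    comap_closedPoint σ
  set y₀ := ht (closedPoint Rt) with hy₀
  set τ := Scheme.stalkClosedPointTo ht with hτ'
  have hτ : Spec.map τ ≫ Y.fromSpecStalk y₀ = ht := Scheme.Spec_stalkClosedPointTo_fromSpecStalk ht
  have hspec : g (closedPoint R') ⤳ y₀ := by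
    have h1 : (Spec.map (CommRingCat.ofHom (residue R'))) (closedPoint (ResidueField R')) =
        closedPoint R' := comap_closedPoint (residue R')
    have h2 : g (closedPoint R') =
        ht ((Spec.map (CommRingCat.ofHom Rt.subtype)) (closedPoint (ResidueField R'))) := by
      rw [← h1, ← Scheme.Hom.comp_apply, ← hht₁]
      rfl
    rw [h2]
    exact (specializes_closedPoint _).map ht.continuous
  set δ : Y.presheaf.stalk y₀ ⟶ .of R' :=
    Y.presheaf.stalkSpecializes hspec ≫ Scheme.stalkClosedPointTo g with hδ'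
  have hδ : Spec.map δ ≫ Y.fromSpecStalk y₀ = g := by
    rw [hδ', Spec.map_comp, Category.assoc, Scheme.SpecMap_stalkSpecializes_fromSpecStalk,
      Scheme.Spec_stalkClosedPointTo_fromSpecStalk]
  have hkey : δ ≫ CommRingCat.ofHom (residue R') = τ ≫ CommRingCat.ofHom Rt.subtype := by
    apply Spec.map_injective
    rw [← cancel_mono (Y.fromSpecStalk y₀)]
    rw [Spec.map_comp, Category.assoc, hδ, Spec.map_comp, Category.assoc, hτ, hht₁]
  have hkey' : ∀ t, residue R' (δ.hom t) = ((τ.hom t : Rt) : ResidueField R') := fun t =>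
    congr($hkey t)
  have hmem : ∀ t, ((δ.hom t : R') : K) ∈ R := by
    intro t
    obtain ⟨r, hr⟩ := hσs (τ.hom t)
    have h1 : residue R' (δ.hom t - ι r) = 0 := by
      rw [map_sub, hkey', ← hr, hσ, sub_self]
    have h2 : (δ.hom t - ι r) ∈ maximalIdeal R' := (residue_eq_zero_iff _).mp h1
    have h3 := mem_of_mem_maximalIdeal R R' hRR' _ h2
    have h4 : ((δ.hom t : R') : K) = (r : K) + ((δ.hom t - ι r : R') : K) := by
      push_cast
      rw [hι]
      ring
    rw [h4]
    exact R.add_mem _ _ r.2 h3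
  let η : Y.presheaf.stalk y₀ →+* ↥R := (R'.subtype.comp δ.hom).codRestrict R hmem
  have hη1 : CommRingCat.ofHom η ≫ CommRingCat.ofHom ι = δ := by
    ext t
    exact hι (η t)
  have hη2 : CommRingCat.ofHom η ≫ CommRingCat.ofHom σ = τ := by
    ext t
    change ((σ (η t) : Rt) : ResidueField R') = _
    rw [hσ, ← hkey']
    congr 1
    exact Subtype.ext (hι (η t))
  have hsub : CommRingCat.ofHom ι ≫ CommRingCat.ofHom R'.subtype = CommRingCat.ofHom R.subtype := by
    ext t
    exact hι t
  set h₀ : Spec (.of R) ⟶ Y := Spec.map (CommRingCat.ofHom η) ≫ Y.fromSpecStalk y₀ with hh₀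
  have hc : Spec.map (CommRingCat.ofHom ι) ≫ h₀ = g := by
    rw [hh₀, ← Spec.map_comp_assoc, hη1, hδ]
  have hd : Spec.map (CommRingCat.ofHom σ) ≫ h₀ = ht := by
    rw [hh₀, ← Spec.map_comp_assoc, hη2, hτ]
  have ha : Spec.map (CommRingCat.ofHom R.subtype) ≫ h₀ = i := by
    rw [← hsub, Spec.map_comp, Category.assoc, hc, hg₁]
  have hb : h₀ ≫ f = φ := by
    refine eq_of_SpecMap_comp_eq' (CommRingCat.ofHom ι) hιinj _ _ ?_ ?_
    · have h1 : φ ((Spec.map (CommRingCat.ofHom σ)) (closedPoint Rt)) =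
          (h₀ ≫ f) ((Spec.map (CommRingCat.ofHom σ)) (closedPoint Rt)) := by
        rw [← Scheme.Hom.comp_apply, ← Scheme.Hom.comp_apply, ← hht₂, ← Category.assoc, hd]
      rw [hσcp] at h1
      exact h1
    · rw [← Category.assoc, hc, hg₂]
  refine ⟨h₀, ⟨ha, hb, hc, hd⟩, ?_⟩
  rintro h₂ ⟨-, -, hc₂, hd₂⟩
  refine eq_of_SpecMap_comp_eq' (CommRingCat.ofHom ι) hιinj _ _ ?_ ?_
  · have h1 : h₀ ((Spec.map (CommRingCat.ofHom σ)) (closedPoint Rt)) =
        h₂ ((Spec.map (CommRingCat.ofHom σ)) (closedPoint Rt)) := by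
      rw [← Scheme.Hom.comp_apply, ← Scheme.Hom.comp_apply, hd, hd₂]
    rw [hσcp] at h1
    exact h1
  · rw [hc, hc₂]

end Groth.Agent.S17898
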