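import Groth.Statements.S17902
import Mathlib
import Groth.Agent.Lib.Helper45.SemilocalBasis

set_option autoImplicit false
universe u
open CAlg
open Groth.Agent.Lib.Helper45 Groth.Agent.Lib.Helper45.Fitting Groth.Agent.Lib.Helper45.Semilocal

namespace Groth.Agent.S17902

/-- Let A be a commutative ring, M a finitely generated projective A-module, n a natural number and P a
finite set of prime ideals of A such that for every p in P there is g outside p with M_g free of
rank n over A_g. Then there exist n elements of M and an open subset U of Spec A containing P such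
that for every prime q in U the images of these elements in M_q form a basis of M_q over A_q. (The
published conclusion is that the associated sheaf is free of rank n on some open neighbourhood of P;
the form given here, with n global elements of M, is what its proof produces.) -/
theorem result (A : Type u) [CommRing A] (M : Type u) [AddCommGroup M] [Module A M]
    [Module.Finite A M] [Module.Projective A M] (n : ℕ) (P : Finset (PrimeSpectrum A))
    (hP : ∀ p ∈ P, ∃ g : A, g ∉ p.asIdeal ∧
      Nonempty (Module.Basis (Fin n) (Localization.Away g) (LocalizedModule (Submonoid.powers g) M))) :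
    ∃ (s : Fin n → M) (U : Set (PrimeSpectrum A)), IsOpen U ∧ (∀ p ∈ P, p ∈ U) ∧
      ∀ q ∈ U,
        LinearIndependent (Localization.AtPrime q.asIdeal)
            (fun j => LocalizedModule.mkLinearMap q.asIdeal.primeCompl M (s j)) ∧
          Submodule.span (Localization.AtPrime q.asIdeal)
            (Set.range fun j => LocalizedModule.mkLinearMap q.asIdeal.primeCompl M (s j)) = ⊤ := by
  classical
  -- rank n at the primes of P
  have hrk : ∀ p ∈ P, Module.rankAtStalk M p = n := by
    intro p hp
    obtain ⟨g, hg, ⟨b⟩⟩ := hP p hp
    have hmem : p ∈ Set.range (PrimeSpectrum.comap (algebraMap A (Localization.Away g))) := by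
      rw [PrimeSpectrum.localization_away_comap_range (Localization.Away g) g]
      exact hg
    obtain ⟨q', rfl⟩ := hmem
    have hnt : Nontrivial (Localization.Away g) := q'.nontrivial
    have hfree : Module.Free (Localization.Away g) (LocalizedModule (Submonoid.powers g) M) :=
      Module.Free.of_basis b
    have h1 := Module.rankAtStalk_isBaseChange (LocalizedModule.isBaseChange (Submonoid.powers g) M) q'
    rw [Module.rankAtStalk_eq_finrank_of_free] at h1
    rw [← h1]
    simp [Module.finrank_eq_card_basis b]
  have hfitt : ∀ p ∈ P, ¬ Fitt.ideal A M n ≤ p.asIdeal := by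
    intro p hp
    rw [← fibreDim_le_iff, fibreDim_eq_rankAtStalk, hrk p hp]
  obtain ⟨s, hs⟩ := exists_spansFibre_finset (R := A) (M := M) n P hfitt
  set V : Set (PrimeSpectrum A) := {q | Module.rankAtStalk M q = n} with hV
  set W : Set (PrimeSpectrum A) :=
    {q | ∃ u : A, u ∉ q.asIdeal ∧ ∀ m : M, u • m ∈ Submodule.span A (Set.range s)} with hW
  have hfp : Module.FinitePresentation A M := Module.finitePresentation_of_projective A M
  have hVo : IsOpen V := (Module.isLocallyConstant_rankAtStalk (R := A) (M := M)).isOpen_fiber n
  have hWo : IsOpen W := by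
    rw [isOpen_iff_mem_nhds]
    rintro q ⟨u, hu, hum⟩
    refine Filter.mem_of_superset ((PrimeSpectrum.basicOpen u).isOpen.mem_nhds hu) ?_
    intro q' hq'
    exact ⟨u, hq', hum⟩
  refine ⟨s, V ∩ W, hVo.inter hWo, fun p hp => ⟨hrk p hp, exists_smul_mem_of_spansFibre s p.asIdeal (hs p hp)⟩, ?_⟩
  rintro q ⟨hqV, u, hu, hum⟩
  have hspan := span_localizedModule_eq_top q.asIdeal.primeCompl s u hu hum
  have hrank : ∀ q' : PrimeSpectrum (Localization.AtPrime q.asIdeal),
      Module.rankAtStalk (LocalizedModule q.asIdeal.primeCompl M) q' = n := by
    intro q'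
    rw [Module.rankAtStalk_isBaseChange (LocalizedModule.isBaseChange q.asIdeal.primeCompl M)]
    have hle : q'.comap (algebraMap A (Localization.AtPrime q.asIdeal)) ≤ q := by
      have hmem : q'.comap (algebraMap A (Localization.AtPrime q.asIdeal)) ∈
          Set.range (PrimeSpectrum.comap (algebraMap A (Localization.AtPrime q.asIdeal))) := ⟨q', rfl⟩
      rw [PrimeSpectrum.localization_comap_range (Localization.AtPrime q.asIdeal) q.asIdeal.primeCompl] at hmem
      exact disjoint_compl_left_iff.mp hmem
    rw [Module.rankAtStalk_eq_of_le_of_finite_of_flat M hle]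
    exact hqV
  exact ⟨linearIndependent_of_span_of_rankAtStalk n hrank _ hspan, hspan⟩

end Groth.Agent.S17902
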