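import Groth.Statements.S17933
import Groth.Agent.Lib.Helper90.MultCrv
-- import your own Groth.Agent.* helpers here

set_option autoImplicit false
universe u
open MultCrv

namespace Groth.Agent.S17933

/-- Let R be a discrete valuation ring, n ≥ 1, A = R[X]/(X^n) with z the class of X, and M a finitely
generated A-module. Then M is torsion-free as an R-module if and only if the submodule M^(1) of
elements killed by z is a free R-module. (This is the statement at a closed point of the sheaf
statement: for a primitive multiple curve of multiplicity n the local ring at a closed point is of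
the form R[X]/(X^n) with R the local ring of the reduced smooth curve, torsion-freeness is the
absence of sections with finite support, and local freeness on the reduced curve is freeness of the
stalk; the row is stated for every discrete valuation ring R.) -/
theorem result (R : Type u) [CommRing R] [IsDomain R] [IsDiscreteValuationRing R] (n : ℕ) (hn : 1 ≤ n) (M : Type u) [AddCommGroup M] [Module (MultCrv.Rn R n) M] [Module R M] [IsScalarTower R (MultCrv.Rn R n) M] [Module.Finite (MultCrv.Rn R n) M] : Module.IsTorsionFree R M ↔ Module.Free R ↥(MultCrv.filt2 R n M 1) := by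
  classical
  haveI : Module.Finite R M := Groth.Agent.Lib.Helper90.MultCrvLib.finite_of_finite_Rn (R := R) (n := n) M
  constructor
  · intro htf
    haveI : Module.IsTorsionFree R ↥(MultCrv.filt2 R n M 1) :=
      Function.Injective.moduleIsTorsionFree (R := R) (N := M)
        (fun x : ↥(MultCrv.filt2 R n M 1) => (x : M)) Subtype.val_injective (fun r m => rfl)
    haveI : IsNoetherian R M := isNoetherian_of_isNoetherianRing_of_finite R M
    haveI : Module.Finite R ↥(MultCrv.filt2 R n M 1) := by
      have : Module.Finite R ↥((MultCrv.filt2 R n M 1).restrictScalars R) :=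
        Module.Finite.of_fg (IsNoetherian.noetherian _)
      exact this
    exact Module.free_of_finite_type_torsion_free'
  · intro hfree
    haveI : Module.IsTorsionFree R ↥(MultCrv.filt2 R n M 1) := inferInstance
    apply Module.IsTorsionFree.of_smul_eq_zero
    intro r m hrm
    by_contra hcon
    push_neg at hcon
    obtain ⟨hr, hm⟩ := hcon
    have hex : ∃ j, MultCrv.z R n ^ j • m = 0 :=
      ⟨n, by rw [Groth.Agent.Lib.Helper90.MultCrvLib.z_pow_n]; exact zero_smul (MultCrv.Rn R n) m⟩
    have hj := Nat.find_spec hex
    have hjmin := fun k => Nat.find_min hex (m := k)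
    set j := Nat.find hex with hjdef
    have hj1 : 1 ≤ j := by
      rcases Nat.eq_zero_or_pos j with h0 | h0
      · rw [h0, pow_zero, one_smul] at hj
        exact absurd hj hm
      · exact h0
    have hne : MultCrv.z R n ^ (j - 1) • m ≠ 0 := hjmin (j - 1) (by omega)
    have hmem : MultCrv.z R n ^ (j - 1) • m ∈ MultCrv.filt2 R n M 1 := by
      change MultCrv.z R n ^ 1 • (MultCrv.z R n ^ (j - 1) • m) = 0
      rw [smul_smul, ← pow_add]
      have : 1 + (j - 1) = j := by omega
      rw [this]
      exact hj
    have h0 : r • (⟨MultCrv.z R n ^ (j - 1) • m, hmem⟩ : ↥(MultCrv.filt2 R n M 1)) = 0 := by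
      apply Subtype.ext
      change r • (MultCrv.z R n ^ (j - 1) • m) = 0
      rw [smul_comm, hrm, smul_zero]
    rcases smul_eq_zero.mp h0 with h | h
    · exact hr h
    · exact hne (congrArg Subtype.val h)

end Groth.Agent.S17933
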