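import Groth.Statements.S17934
import Groth.Agent.Lib.Helper90.MultCrv
-- import your own Groth.Agent.* helpers here

set_option autoImplicit false
universe u
open MultCrv

namespace Groth.Agent.S17934

/-- Let R be a discrete valuation ring, n ≥ 1, A = R[X]/(X^n) with z the class of X, and M a finitely
generated A-module that is torsion-free as an R-module. Then for 1 ≤ i ≤ n the graded piece
M^(i)/M^(i-1) of the second canonical filtration (M^(i) the elements killed by z^i) is a free
R-module. (Statement at a closed point of the sheaf statement on a primitive multiple curve of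
multiplicity n, whose local rings are of the form R[X]/(X^n) with R the local ring of the reduced
smooth curve; stated for every discrete valuation ring R.) -/
theorem result (R : Type u) [CommRing R] [IsDomain R] [IsDiscreteValuationRing R] (n : ℕ) (hn : 1 ≤ n) (M : Type u) [AddCommGroup M] [Module (MultCrv.Rn R n) M] [Module R M] [IsScalarTower R (MultCrv.Rn R n) M] [Module.Finite (MultCrv.Rn R n) M] [Module.IsTorsionFree R M] (i : ℕ) (hi : 1 ≤ i) (hin : i ≤ n) : Module.Free R (MultCrv.G2 R n M i) := by
  classical
  have hfinM : Module.Finite R M :=
    Groth.Agent.Lib.Helper90.MultCrvLib.finite_of_finite_Rn (R := R) (n := n) M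
  have hnoeth : IsNoetherian R M := isNoetherian_of_isNoetherianRing_of_finite R M
  have hfin : Module.Finite R ↥(MultCrv.filt2 R n M i) := by
    have : Module.Finite R ↥((MultCrv.filt2 R n M i).restrictScalars R) :=
      Module.Finite.of_fg (IsNoetherian.noetherian _)
    exact this
  let π : ↥(MultCrv.filt2 R n M i) →ₗ[R] MultCrv.G2 R n M i :=
    { toFun := fun u => Submodule.Quotient.mk u
      map_add' := fun _ _ => rfl
      map_smul' := fun _ _ => rfl }
  have hπ : Function.Surjective π := fun q => by
    obtain ⟨u, rfl⟩ := Submodule.Quotient.mk_surjective _ q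
    exact ⟨u, rfl⟩
  have hfinQ : Module.Finite R (MultCrv.G2 R n M i) := Module.Finite.of_surjective π hπ
  have htf : Module.IsTorsionFree R (MultCrv.G2 R n M i) := by
    apply Module.IsTorsionFree.of_smul_eq_zero
    intro r q hrq
    by_cases hr : r = 0
    · exact Or.inl hr
    · right
      obtain ⟨u, rfl⟩ := Submodule.Quotient.mk_surjective _ q
      have h1 : r • u ∈ Submodule.comap (MultCrv.filt2 R n M i).subtype
          (MultCrv.filt2 R n M (i - 1)) := by
        rw [← Submodule.Quotient.mk_eq_zero]
        exact hrq
      rw [Submodule.Quotient.mk_eq_zero]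
      rw [Submodule.mem_comap] at h1 ⊢
      change MultCrv.z R n ^ (i - 1) • (r • (u : M)) = 0 at h1
      change MultCrv.z R n ^ (i - 1) • (u : M) = 0
      rw [smul_comm] at h1
      rcases smul_eq_zero.mp h1 with h | h
      · exact absurd h hr
      · exact h
  exact Module.free_of_finite_type_torsion_free'

end Groth.Agent.S17934
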