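import Groth.Statements.S17940
import Groth.Agent.Lib.Helper90.MultCrvQF
-- import your own Groth.Agent.* helpers here

set_option autoImplicit false
universe u
open MultCrv

namespace Groth.Agent.S17940

/-- Let R be a discrete valuation ring, n ≥ 1, A = R[X]/(X^n) with z the class of X, and M an A-module
that is quasi-free of type (m_1, …, m_n), i.e. isomorphic to the direct sum of m_i copies of
A/(z^i). Let φ be a surjective A-linear map from a finitely generated free module A^r onto M that is
bijective modulo z (the preimage of zM is zA^r). Then the kernel of φ is quasi-free of type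
(m_{n-1}, m_{n-2}, …, m_1, 0). (Statement at a closed point of the sheaf statement on a primitive
multiple curve of multiplicity n with local rings R[X]/(X^n), for the kernel of a surjection from a
vector bundle onto a quasi locally free sheaf that is an isomorphism on the reduced curve; stated
for every discrete valuation ring R.) -/
theorem result (R : Type u) [CommRing R] [IsDomain R] [IsDiscreteValuationRing R] (n : ℕ) (hn : 1 ≤ n) (m : Fin n → ℕ) (M : Type u) [AddCommGroup M] [Module (MultCrv.Rn R n) M] (hM : MultCrv.IsQuasiFreeOfType R n M m) (r : ℕ) (φ : (Fin r → MultCrv.Rn R n) →ₗ[MultCrv.Rn R n] M) (hφ : Function.Surjective φ) (hφz : ∀ f : Fin r → MultCrv.Rn R n, φ f ∈ MultCrv.filt R n M 1 → f ∈ MultCrv.filt R n (Fin r → MultCrv.Rn R n) 1) : MultCrv.IsQuasiFreeOfType R n ↥(LinearMap.ker φ) (MultCrv.revType n m) := by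
  classical
  obtain ⟨e⟩ := hM
  have hk : ∀ x : Fin r → MultCrv.Rn R n, (e.toLinearMap.comp φ) x = 0 →
      ∃ y : Fin r → MultCrv.Rn R n, x = MultCrv.z R n • y := by
    intro x hx
    have h0 : φ x = 0 := by
      apply e.injective
      rw [map_zero]
      exact hx
    have h1 : φ x ∈ MultCrv.filt R n M 1 := by
      rw [h0]
      exact Submodule.zero_mem _
    obtain ⟨y, hy⟩ := hφz x h1
    refine ⟨y, ?_⟩
    rw [← hy]
    change MultCrv.z R n ^ 1 • y = MultCrv.z R n • y
    rw [pow_one]
  obtain ⟨θ⟩ := Groth.Agent.Lib.Helper90.MultCrvLib.nonempty_ker_equiv_of_minimal_covers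
    (e.toLinearMap.comp φ) (Groth.Agent.Lib.Helper90.MultCrvLib.stdCover R n m)
    (e.surjective.comp hφ) (Groth.Agent.Lib.Helper90.MultCrvLib.stdCover_surjective m) hk
    (Groth.Agent.Lib.Helper90.MultCrvLib.ker_stdCover_le_z m)
  obtain ⟨ψ⟩ := Groth.Agent.Lib.Helper90.MultCrvLib.nonempty_ker_stdCover_equiv (R := R) hn m
  have hker : LinearMap.ker φ = LinearMap.ker (e.toLinearMap.comp φ) := by
    ext x
    rw [LinearMap.mem_ker, LinearMap.mem_ker, LinearMap.comp_apply]
    constructor
    · intro h
      rw [h]
      exact map_zero _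
    · intro h
      apply e.injective
      rw [map_zero]
      exact h
  exact ⟨(LinearEquiv.ofEq _ _ hker).trans (θ.trans ψ)⟩

end Groth.Agent.S17940
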