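import Groth.Statements.S17943
import Groth.Agent.Lib.Helper90.MultCrv
import Mathlib.LinearAlgebra.Dimension.Localization
import Mathlib.LinearAlgebra.Dimension.RankNullity
-- import your own Groth.Agent.* helpers here

set_option autoImplicit false
universe u
open MultCrv

namespace Groth.Agent.S17943

/-- Let R be a discrete valuation ring, n ≥ 1, A = R[X]/(X^n) with z the class of X, and M a finitely
generated A-module. For 0 ≤ i < n the R-modules G^(i+1)(M) = M^(i+1)/M^(i) (M^(j) the elements
killed by z^j) and G_i(M) = z^i M/z^(i+1) M have the same rank over R. (Statement at a closed point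
of the sheaf statement on a primitive multiple curve of multiplicity n with local rings R[X]/(X^n),
where the rank of a coherent sheaf on the reduced smooth curve is its generic rank, here the rank
over R of the stalk; the equality of degrees that the published statement gives together with this
rank equality is a statement on the global curve and is not part of this row; stated for every
discrete valuation ring R.) -/
theorem result (R : Type u) [CommRing R] [IsDomain R] [IsDiscreteValuationRing R] (n : ℕ) (hn : 1 ≤ n) (M : Type u) [AddCommGroup M] [Module (MultCrv.Rn R n) M] [Module R M] [IsScalarTower R (MultCrv.Rn R n) M] [Module.Finite (MultCrv.Rn R n) M] (i : ℕ) (hi : i < n) : Module.finrank R (MultCrv.G2 R n M (i + 1)) = Module.finrank R (MultCrv.G1 R n M i) := by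
  classical
  have hfinM : Module.Finite R M :=
    Groth.Agent.Lib.Helper90.MultCrvLib.finite_of_finite_Rn (R := R) (n := n) M
  have hnoeth : IsNoetherian R M := isNoetherian_of_isNoetherianRing_of_finite R M
  have hfin : ∀ P : Submodule (MultCrv.Rn R n) M, Module.Finite R ↥P := fun P => by
    have : Module.Finite R ↥(P.restrictScalars R) := Module.Finite.of_fg (IsNoetherian.noetherian _)
    exact this
  -- additive rank formula across the tower
  have key : ∀ (Q : Type u) [AddCommGroup Q] [Module (MultCrv.Rn R n) Q] [Module R Q]
      [IsScalarTower R (MultCrv.Rn R n) Q] [Module.Finite R Q] (N : Submodule (MultCrv.Rn R n) Q),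
      Module.finrank R (Q ⧸ N) + Module.finrank R ↥N = Module.finrank R Q := by
    intro Q _ _ _ _ _ N
    exact (N.restrictScalars R).finrank_quotient_add_finrank
  -- the multiplication maps
  let f : ℕ → (M →ₗ[MultCrv.Rn R n] M) := fun j =>
    (MultCrv.z R n ^ j) • (LinearMap.id : M →ₗ[MultCrv.Rn R n] M)
  have hker : ∀ j, LinearMap.ker (f j) = MultCrv.filt2 R n M j := by
    intro j
    ext x
    rw [LinearMap.mem_ker]
    exact Iff.rfl
  have h1 : ∀ j, Module.finrank R ↥(MultCrv.filt R n M j) + Module.finrank R ↥(MultCrv.filt2 R n M j)
      = Module.finrank R M := by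
    intro j
    have e1 : Module.finrank R (M ⧸ LinearMap.ker (f j)) = Module.finrank R ↥(MultCrv.filt R n M j) :=
      LinearEquiv.finrank_eq ((f j).quotKerEquivRange.restrictScalars R)
    have e2 := key M (LinearMap.ker (f j))
    rw [e1, hker j] at e2
    exact e2
  have hle2 : MultCrv.filt2 R n M i ≤ MultCrv.filt2 R n M (i + 1) := by
    intro x hx
    change MultCrv.z R n ^ i • x = 0 at hx
    change MultCrv.z R n ^ (i + 1) • x = 0
    rw [pow_succ', mul_smul, hx, smul_zero]
  have hle1 : MultCrv.filt R n M (i + 1) ≤ MultCrv.filt R n M i := by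
    rintro x ⟨y, rfl⟩
    refine ⟨MultCrv.z R n • y, ?_⟩
    change MultCrv.z R n ^ i • (MultCrv.z R n • y) = MultCrv.z R n ^ (i + 1) • y
    rw [smul_smul, ← pow_succ]
  haveI := hfin (MultCrv.filt2 R n M (i + 1))
  haveI := hfin (MultCrv.filt R n M i)
  have h2 : Module.finrank R (MultCrv.G2 R n M (i + 1)) + Module.finrank R ↥(MultCrv.filt2 R n M i)
      = Module.finrank R ↥(MultCrv.filt2 R n M (i + 1)) := by
    have e2 := key ↥(MultCrv.filt2 R n M (i + 1))
      (Submodule.comap (MultCrv.filt2 R n M (i + 1)).subtype (MultCrv.filt2 R n M i))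
    have e1 : Module.finrank R ↥(Submodule.comap (MultCrv.filt2 R n M (i + 1)).subtype
        (MultCrv.filt2 R n M i)) = Module.finrank R ↥(MultCrv.filt2 R n M i) :=
      LinearEquiv.finrank_eq ((Submodule.comapSubtypeEquivOfLe hle2).restrictScalars R)
    rw [e1] at e2
    exact e2
  have h3 : Module.finrank R (MultCrv.G1 R n M i) + Module.finrank R ↥(MultCrv.filt R n M (i + 1))
      = Module.finrank R ↥(MultCrv.filt R n M i) := by
    have e2 := key ↥(MultCrv.filt R n M i)
      (Submodule.comap (MultCrv.filt R n M i).subtype (MultCrv.filt R n M (i + 1)))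
    have e1 : Module.finrank R ↥(Submodule.comap (MultCrv.filt R n M i).subtype
        (MultCrv.filt R n M (i + 1))) = Module.finrank R ↥(MultCrv.filt R n M (i + 1)) :=
      LinearEquiv.finrank_eq ((Submodule.comapSubtypeEquivOfLe hle1).restrictScalars R)
    rw [e1] at e2
    exact e2
  have ha := h1 i
  have hb := h1 (i + 1)
  omega

end Groth.Agent.S17943
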