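import Groth.Statements.S17962
-- import your own Groth.Agent.* helpers here

set_option autoImplicit false
open CategoryTheory CategoryTheory.Limits AlgebraicGeometry
universe u
open Hensel

namespace Groth.Agent.S17962

/-- Let i : X₀ ⟶ X be a closed immersion such that (X, X₀) is a henselian couple, i.e. for every finite
morphism g : Y ⟶ X every open-closed subset of Y ×_X X₀ is the inverse image under the first
projection of exactly one open-closed subset of Y. Then for every finite morphism h : Y ⟶ X the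
couple (Y, Y ×_X X₀), with the first projection as closed immersion, is again henselian. -/
theorem result {X X₀ : Scheme.{u}}
    (i : X₀ ⟶ X) [IsClosedImmersion i]
    (hX : ∀ (Y : Scheme.{u}) (g : Y ⟶ X), IsFinite g →
      ∀ V : Set ↥(pullback g (i)), IsClopen V →
        ∃! U : Set ↥Y, IsClopen U ∧ (pullback.fst g (i)).base ⁻¹' U = V)
    {Y : Scheme.{u}} (h : Y ⟶ X) [IsFinite h] :
    ∀ (Z : Scheme.{u}) (g : Z ⟶ Y), IsFinite g →
      ∀ V : Set ↥(pullback g (pullback.fst h i)), IsClopen V →
        ∃! U : Set ↥Z, IsClopen U ∧ (pullback.fst g (pullback.fst h i)).base ⁻¹' U = V := by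
  intro Z g hg V hV
  have : IsFinite g := hg
  let α := pullbackRightPullbackFstIso h i g
  have hα : α.hom ≫ pullback.fst (g ≫ h) i = pullback.fst g (pullback.fst h i) :=
    pullbackRightPullbackFstIso_hom_fst h i g
  have hfst : ∀ U : Set ↥Z, (pullback.fst g (pullback.fst h i)).base ⁻¹' U =
      α.hom.base ⁻¹' ((pullback.fst (g ≫ h) i).base ⁻¹' U) := by
    intro U
    rw [← hα]
    rfl
  have hinvhom : ∀ W : Set ↥(pullback g (pullback.fst h i)),
      α.hom.base ⁻¹' (α.inv.base ⁻¹' W) = W := by
    intro W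
    ext x
    simp only [Set.mem_preimage]
    have : α.inv.base (α.hom.base x) = x := by
      rw [← Scheme.Hom.comp_apply, α.hom_inv_id]
      rfl
    rw [this]
  have hhominv : ∀ W : Set ↥(pullback (g ≫ h) i),
      α.inv.base ⁻¹' (α.hom.base ⁻¹' W) = W := by
    intro W
    ext x
    simp only [Set.mem_preimage]
    have : α.hom.base (α.inv.base x) = x := by
      rw [← Scheme.Hom.comp_apply, α.inv_hom_id]
      rfl
    rw [this]
  have hV' : IsClopen (α.inv.base ⁻¹' V) := hV.preimage α.inv.continuous
  obtain ⟨U, ⟨hU, hUV⟩, huniq⟩ := hX Z (g ≫ h) inferInstance _ hV'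
  refine ⟨U, ⟨hU, ?_⟩, ?_⟩
  · rw [hfst, hUV, hinvhom]
  · rintro U₂ ⟨hU₂, hU₂V⟩
    apply huniq
    refine ⟨hU₂, ?_⟩
    rw [← hU₂V, hfst, hhominv]

end Groth.Agent.S17962
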