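import Groth.Statements.S17964
import Mathlib

set_option autoImplicit false
open CategoryTheory CategoryTheory.Limits AlgebraicGeometry
universe u
open Hensel

set_option linter.style.haveILetI false

namespace Groth.Agent.S17964

/-- clopen lifting property of a map -/
def HensT {A B : Type u} [TopologicalSpace A] [TopologicalSpace B] (p : A → B) : Prop :=
  ∀ V : Set A, IsClopen V → ∃! U : Set B, IsClopen U ∧ p ⁻¹' U = V

theorem HensT.of_homeo {A A' B : Type u} [TopologicalSpace A] [TopologicalSpace A']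
    [TopologicalSpace B] (p : A → B) (p' : A' → B) (e : A ≃ₜ A') (h : ∀ a, p' (e a) = p a)
    (hp' : HensT p') : HensT p := by
  intro V hV
  obtain ⟨U, ⟨hU, hUV⟩, huniq⟩ := hp' (e.symm ⁻¹' V) (hV.preimage e.symm.continuous)
  refine ⟨U, ⟨hU, ?_⟩, ?_⟩
  · ext a
    have : a ∈ p ⁻¹' U ↔ e a ∈ p' ⁻¹' U := by simp [h]
    rw [this, hUV]
    simp
  · rintro U' ⟨hU', hU'V⟩
    apply huniq
    refine ⟨hU', ?_⟩
    ext a'
    have : a' ∈ p' ⁻¹' U' ↔ e.symm a' ∈ p ⁻¹' U' := by
      simp only [Set.mem_preimage, ← h, Homeomorph.apply_symm_apply]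
    rw [this, hU'V]
    rfl

theorem HensT.glue {ι : Type u} {P Y : Type u} [TopologicalSpace P] [TopologicalSpace Y]
    (p : P → Y)
    (Pj Yj : ι → Type u) [∀ j, TopologicalSpace (Pj j)] [∀ j, TopologicalSpace (Yj j)]
    (u : ∀ j, Yj j → Y) (hu : ∀ j, Topology.IsOpenEmbedding (u j))
    (hdisj : ∀ j j' (a : Yj j) (b : Yj j'), u j a = u j' b → j = j')
    (hcov : ∀ y : Y, ∃ j a, u j a = y)
    (w : ∀ j, Pj j → P) (hw : ∀ j, Continuous (w j))
    (q : ∀ j, Pj j → Yj j)
    (hcomm : ∀ j z, p (w j z) = u j (q j z))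
    (hcart : ∀ j (x : P) (a : Yj j), p x = u j a → ∃ z, w j z = x ∧ q j z = a)
    (H : ∀ j, HensT (q j)) : HensT p := by
  intro V hV
  choose Uj hUj huniq using fun j => H j (w j ⁻¹' V) (hV.preimage (hw j))
  have hUo : ∀ j, IsOpen (u j '' Uj j) := fun j => (hu j).isOpenMap _ (hUj j).1.isOpen
  have hUc : ∀ j, IsOpen (u j '' (Uj j)ᶜ) := fun j => (hu j).isOpenMap _ (hUj j).1.compl.isOpen
  let U : Set Y := ⋃ j, u j '' Uj j
  have hmem : ∀ j (a : Yj j), u j a ∈ U ↔ a ∈ Uj j := by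
    intro j a
    constructor
    · intro h
      obtain ⟨j', b, hb, hba⟩ := Set.mem_iUnion.1 h
      obtain rfl := hdisj _ _ _ _ hba
      obtain rfl := (hu j').injective hba
      exact hb
    · intro h
      exact Set.mem_iUnion.2 ⟨j, a, h, rfl⟩
  have hcompl : Uᶜ = ⋃ j, u j '' (Uj j)ᶜ := by
    ext y
    obtain ⟨j, a, rfl⟩ := hcov y
    rw [Set.mem_compl_iff, hmem]
    constructor
    · intro h
      exact Set.mem_iUnion.2 ⟨j, a, h, rfl⟩
    · intro h
      obtain ⟨j', b, hb, hba⟩ := Set.mem_iUnion.1 h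
      obtain rfl := hdisj _ _ _ _ hba
      obtain rfl := (hu j').injective hba
      exact hb
  have hUclopen : IsClopen U := by
    refine ⟨?_, isOpen_iUnion hUo⟩
    rw [← isOpen_compl_iff, hcompl]
    exact isOpen_iUnion hUc
  refine ⟨U, ⟨hUclopen, ?_⟩, ?_⟩
  · ext x
    obtain ⟨j, a, ha⟩ := hcov (p x)
    obtain ⟨z, rfl, rfl⟩ := hcart j x a ha.symm
    rw [Set.mem_preimage, hcomm, hmem]
    have := (hUj j).2
    rw [Set.ext_iff] at this
    exact this z
  · rintro U' ⟨hU', hU'V⟩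
    have hj : ∀ j, u j ⁻¹' U' = Uj j := by
      intro j
      apply huniq j
      refine ⟨hU'.preimage (hu j).continuous, ?_⟩
      ext z
      simp only [Set.mem_preimage, ← hcomm]
      rw [← hU'V]
      rfl
    ext y
    obtain ⟨j, a, rfl⟩ := hcov y
    rw [hmem, ← hj]
    rfl


theorem exists_sigmaι_eq' {ι : Type u} (X : ι → Scheme.{u}) (x : ↥(∐ X)) :
    ∃ (j : ι) (y : X j), (Sigma.ι X j).base y = x := by
  obtain ⟨j, y, hy⟩ := (sigmaOpenCover X).exists_eq x
  exact ⟨j, y, hy⟩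

theorem isClosed_range_sigmaι {ι : Type u} (X : ι → Scheme.{u}) (j : ι) :
    IsClosed (Set.range (Sigma.ι X j).base) := by
  have : (Set.range (Sigma.ι X j).base)ᶜ = ⋃ (j' : ι) (_ : j' ≠ j), Set.range (Sigma.ι X j').base := by
    ext x
    simp only [Set.mem_compl_iff, Set.mem_iUnion]
    constructor
    · intro hx
      obtain ⟨j', y, rfl⟩ := exists_sigmaι_eq' X x
      refine ⟨j', ?_, y, rfl⟩
      rintro rfl
      exact hx ⟨y, rfl⟩
    · rintro ⟨j', hj', y, rfl⟩ ⟨z, hz⟩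
      have := (sigmaι_eq_iff X _ _ _ _).mp hz
      exact hj' (congrArg Sigma.fst this).symm
  rw [← isOpen_compl_iff, this]
  exact isOpen_iUnion fun j' => isOpen_iUnion fun _ => (Sigma.ι X j').isOpenEmbedding.isOpen_range

instance isClosedImmersion_sigmaι {ι : Type u} (X : ι → Scheme.{u}) (j : ι) :
    IsClosedImmersion (Sigma.ι X j) :=
  IsClosedImmersion.of_isPreimmersion _ (isClosed_range_sigmaι X j)

theorem range_subset_of_comm {ι : Type u} (X X₀ : ι → Scheme.{u}) (i : ∀ j, X₀ j ⟶ X j) (j : ι)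
    {T : Scheme.{u}} (a : T ⟶ ∐ X₀) (b : T ⟶ X j)
    (h : a ≫ Limits.Sigma.map i = b ≫ Sigma.ι X j) :
    Set.range a.base ⊆ Set.range (Sigma.ι X₀ j).base := by
  intro z hz
  obtain ⟨t, ht⟩ := hz
  obtain ⟨j', x₀, hx₀⟩ := exists_sigmaι_eq' X₀ (a.base t)
  have h1 : (Limits.Sigma.map i).base (a.base t) = (Sigma.ι X j).base (b.base t) := by
    rw [← Scheme.Hom.comp_apply, ← Scheme.Hom.comp_apply, h]
  rw [← hx₀, ← Scheme.Hom.comp_apply] at h1
  have h2 : Sigma.ι X₀ j' ≫ Limits.Sigma.map i = i j' ≫ Sigma.ι X j' := by simp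
  rw [h2, Scheme.Hom.comp_apply] at h1
  have := (sigmaι_eq_iff X _ _ _ _).mp h1
  have hj : j' = j := congrArg Sigma.fst this
  subst hj
  exact ⟨x₀, hx₀.trans ht⟩

theorem isPullback_sigmaι {ι : Type u} (X X₀ : ι → Scheme.{u}) (i : ∀ j, X₀ j ⟶ X j) (j : ι) :
    IsPullback (Sigma.ι X₀ j) (i j) (Limits.Sigma.map i) (Sigma.ι X j) := by
  have hw : Sigma.ι X₀ j ≫ Limits.Sigma.map i = i j ≫ Sigma.ι X j := by simp
  refine ⟨⟨hw⟩, ⟨PullbackCone.IsLimit.mk _
    (fun s => IsOpenImmersion.lift (Sigma.ι X₀ j) s.fst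
      (range_subset_of_comm X X₀ i j s.fst s.snd s.condition)) ?_ ?_ ?_⟩⟩
  · intro s
    exact IsOpenImmersion.lift_fac _ _ _
  · intro s
    rw [← cancel_mono (Sigma.ι X j), Category.assoc, ← hw, IsOpenImmersion.lift_fac_assoc,
      s.condition]
  · intro s m h1 h2
    rw [← cancel_mono (Sigma.ι X₀ j), h1, IsOpenImmersion.lift_fac]


theorem HensT.of_iso {P P' Y : Scheme.{u}} (p : P ⟶ Y) (p' : P' ⟶ Y) (e : P ≅ P')
    (h : e.hom ≫ p' = p) (hp' : HensT p'.base) : HensT p.base := by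
  refine HensT.of_homeo _ _ (Scheme.homeoOfIso e) (fun a => ?_) hp'
  change p'.base (e.hom.base a) = _
  rw [← Scheme.Hom.comp_apply, h]

theorem forward {ι : Type u} (X X₀ : ι → Scheme.{u}) (i : ∀ j, X₀ j ⟶ X j)
    (H : ∀ (Y : Scheme.{u}) (g : Y ⟶ ∐ X), IsFinite g →
      HensT (pullback.fst g (Limits.Sigma.map i)).base)
    (j : ι) (Y : Scheme.{u}) (g : Y ⟶ X j) (hg : IsFinite g) :
    HensT (pullback.fst g (i j)).base := by
  have h1 := H Y (g ≫ Sigma.ι X j) inferInstance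
  have s : IsPullback (pullback.fst g (i j)) (pullback.snd g (i j)) g (i j) :=
    IsPullback.of_hasPullback _ _
  have big := s.paste_vert (isPullback_sigmaι X X₀ i j).flip
  exact HensT.of_iso _ _ big.isoPullback (IsPullback.isoPullback_hom_fst _) h1

theorem backward_step {ι : Type u} (X X₀ : ι → Scheme.{u}) (i : ∀ j, X₀ j ⟶ X j)
    (H : ∀ j : ι, ∀ (Y : Scheme.{u}) (g : Y ⟶ X j), IsFinite g →
      HensT (pullback.fst g (i j)).base)
    (Y : Scheme.{u}) (g : Y ⟶ ∐ X) (hg : IsFinite g) (j : ι) :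
    HensT (pullback.snd (pullback.fst g (Limits.Sigma.map i)) (pullback.fst g (Sigma.ι X j))).base := by
  -- notation
  have s₁ := IsPullback.of_hasPullback (pullback.fst g (Limits.Sigma.map i))
    (pullback.fst g (Sigma.ι X j))
  have t₁ := (IsPullback.of_hasPullback g (Limits.Sigma.map i)).flip
  have outer := s₁.paste_horiz t₁
  have B := isPullback_sigmaι X X₀ i j
  have hc : pullback.fst g (Sigma.ι X j) ≫ g = pullback.snd g (Sigma.ι X j) ≫ Sigma.ι X j :=
    pullback.condition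
  rw [hc] at outer
  let r := B.lift (pullback.fst (pullback.fst g (Limits.Sigma.map i)) (pullback.fst g (Sigma.ι X j)) ≫
      pullback.snd g (Limits.Sigma.map i))
    (pullback.snd (pullback.fst g (Limits.Sigma.map i)) (pullback.fst g (Sigma.ι X j)) ≫
      pullback.snd g (Sigma.ι X j)) (by rw [outer.w, Category.assoc])
  have hr1 : r ≫ Sigma.ι X₀ j = _ := B.lift_fst _ _ _
  have hr2 : r ≫ i j = _ := B.lift_snd _ _ _
  rw [← hr1] at outer
  have left := IsPullback.of_right outer hr2 B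
  have h1 := H j _ (pullback.snd g (Sigma.ι X j)) inferInstance
  exact HensT.of_iso _ _ left.flip.isoPullback (IsPullback.isoPullback_hom_fst _) h1

theorem backward {ι : Type u} (X X₀ : ι → Scheme.{u}) (i : ∀ j, X₀ j ⟶ X j)
    (H : ∀ j : ι, ∀ (Y : Scheme.{u}) (g : Y ⟶ X j), IsFinite g →
      HensT (pullback.fst g (i j)).base)
    (Y : Scheme.{u}) (g : Y ⟶ ∐ X) (hg : IsFinite g) :
    HensT (pullback.fst g (Limits.Sigma.map i)).base := by
  refine HensT.glue (ι := ι) _
    (fun j => ↥(pullback (pullback.fst g (Limits.Sigma.map i)) (pullback.fst g (Sigma.ι X j))))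
    (fun j => ↥(pullback g (Sigma.ι X j)))
    (fun j => (pullback.fst g (Sigma.ι X j)).base)
    (fun j => (pullback.fst g (Sigma.ι X j)).isOpenEmbedding)
    ?_ ?_
    (fun j => (pullback.fst (pullback.fst g (Limits.Sigma.map i)) (pullback.fst g (Sigma.ι X j))).base)
    (fun j => Scheme.Hom.continuous _)
    (fun j => (pullback.snd (pullback.fst g (Limits.Sigma.map i)) (pullback.fst g (Sigma.ι X j))).base)
    ?_ ?_ (fun j => backward_step X X₀ i H Y g hg j)
  · intro j j' a b hab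
    have h1 : g.base ((pullback.fst g (Sigma.ι X j)).base a) =
        (Sigma.ι X j).base ((pullback.snd g (Sigma.ι X j)).base a) := by
      rw [← Scheme.Hom.comp_apply, ← Scheme.Hom.comp_apply, pullback.condition]
    have h2 : g.base ((pullback.fst g (Sigma.ι X j')).base b) =
        (Sigma.ι X j').base ((pullback.snd g (Sigma.ι X j')).base b) := by
      rw [← Scheme.Hom.comp_apply, ← Scheme.Hom.comp_apply, pullback.condition]
    rw [hab, h2] at h1
    exact (congrArg Sigma.fst ((sigmaι_eq_iff X _ _ _ _).mp h1)).symm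
  · intro y
    obtain ⟨j, x, hx⟩ := exists_sigmaι_eq' X (g.base y)
    obtain ⟨a, ha, -⟩ := Scheme.Pullback.exists_preimage_pullback y x hx.symm
    exact ⟨j, a, ha⟩
  · intro j z
    rw [← Scheme.Hom.comp_apply, ← Scheme.Hom.comp_apply, pullback.condition]
  · intro j x a h
    exact Scheme.Pullback.exists_preimage_pullback x a h

theorem main {ι : Type u} (X X₀ : ι → Scheme.{u})
    (i : ∀ j, X₀ j ⟶ X j) [∀ j, IsClosedImmersion (i j)] :
    (∀ (Y : Scheme.{u}) (g : Y ⟶ ∐ X), IsFinite g →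
      ∀ V : Set ↥(pullback g (Limits.Sigma.map i)), IsClopen V →
        ∃! U : Set ↥Y, IsClopen U ∧ (pullback.fst g (Limits.Sigma.map i)).base ⁻¹' U = V) ↔
    ∀ j : ι, ∀ (Y : Scheme.{u}) (g : Y ⟶ X j), IsFinite g →
      ∀ V : Set ↥(pullback g (i j)), IsClopen V →
        ∃! U : Set ↥Y, IsClopen U ∧ (pullback.fst g (i j)).base ⁻¹' U = V :=
  ⟨fun H j Y g hg => forward X X₀ i H j Y g hg, fun H Y g hg => backward X X₀ i H Y g hg⟩


end Groth.Agent.S17964

namespace Groth.Agent.S17964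

/-- Let (X_j) be a family of schemes indexed by a type ι, with closed immersions i_j : X_{j,0} ⟶ X_j,
and consider the induced morphism of disjoint unions ∐ X_{j,0} ⟶ ∐ X_j. Then the couple (∐ X_j, ∐
X_{j,0}) is henselian (for every finite morphism g : Y ⟶ ∐ X_j, every open-closed subset of the
fibre product of Y with ∐ X_{j,0} is the inverse image under the first projection of exactly one
open-closed subset of Y) if and only if each couple (X_j, X_{j,0}) is henselian. -/
theorem result {ι : Type u} (X X₀ : ι → Scheme.{u})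
    (i : ∀ j, X₀ j ⟶ X j) [∀ j, IsClosedImmersion (i j)] :
    (∀ (Y : Scheme.{u}) (g : Y ⟶ ∐ X), IsFinite g →
      ∀ V : Set ↥(pullback g (Limits.Sigma.map i)), IsClopen V →
        ∃! U : Set ↥Y, IsClopen U ∧ (pullback.fst g (Limits.Sigma.map i)).base ⁻¹' U = V) ↔
    ∀ j : ι, ∀ (Y : Scheme.{u}) (g : Y ⟶ X j), IsFinite g →
      ∀ V : Set ↥(pullback g (i j)), IsClopen V →
        ∃! U : Set ↥Y, IsClopen U ∧ (pullback.fst g (i j)).base ⁻¹' U = V := by

  exact Groth.Agent.S17964.main X X₀ i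

end Groth.Agent.S17964
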