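import Groth.Statements.S17968
import Groth.Agent.Lib.Helper37.HenselIdem2

set_option autoImplicit false
universe u
open Hensel

namespace Groth.Agent.S17968

/-- Let A be a commutative ring and I an ideal contained in the Jacobson radical of A. Suppose that for
every natural number m and every monic polynomial p over A whose reduction modulo I is the reduction
of (T^2 - T)^m, every idempotent of B/IB is the image of an idempotent of B, where B = A[T]/(p).
Then (A, I) is a henselian pair. -/
theorem result (A : Type u) [CommRing A]
    (I : Ideal A) (hI : I ≤ Ideal.jacobson ⊥)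
    (h : ∀ (m : ℕ) (p : Polynomial A), p.Monic →
      Polynomial.map (Ideal.Quotient.mk I) p =
        Polynomial.map (Ideal.Quotient.mk I) ((Polynomial.X ^ 2 - Polynomial.X) ^ m) →
      Set.SurjOn (Ideal.Quotient.mk (Ideal.map (algebraMap A (AdjoinRoot p)) I))
        {e : AdjoinRoot p | IsIdempotentElem e} {e | IsIdempotentElem e}) :
    HenselianRing A I := by
  refine Groth.Agent.Lib.Helper37.henselianRing_of_adjoinRoot_idempotent_lift I hI ?_
  intro m p hp hpm ε hε
  have hidem : IsIdempotentElem
      (Ideal.Quotient.mk (Ideal.map (algebraMap A (AdjoinRoot p)) I) ε) := by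
    change _ * _ = _
    rw [← map_mul, Ideal.Quotient.eq]
    exact hε
  obtain ⟨e, he, hee⟩ := h m p hp hpm hidem
  exact ⟨e, he, Ideal.Quotient.eq.mp hee⟩

end Groth.Agent.S17968
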