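import Groth.Statements.S17969
import Mathlib.RingTheory.Adjoin.PowerBasis
import Mathlib.LinearAlgebra.Matrix.Charpoly.Minpoly
import Mathlib.RingTheory.Polynomial.GaussLemma
import Mathlib.RingTheory.Localization.BaseChange
import Mathlib.RingTheory.Polynomial.Tower
import Mathlib.LinearAlgebra.Charpoly.ToMatrix
-- import your own Groth.Agent.* helpers here

set_option autoImplicit false
universe u
open scoped TensorProduct
open CAlg

namespace Groth.Agent.S17969

/-- Let A be an integrally closed domain with fraction field K and B a commutative A-algebra which is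
finite and torsion-free as an A-module and generated as an A-algebra by a single element x. Let P be
the characteristic polynomial of multiplication by 1 ⊗ x on the finite free K-module K ⊗_A B. Then P
has coefficients in A, namely P is the image of a monic polynomial over A, and the kernel of the
A-algebra map A[T] → B sending T to x is generated by that polynomial, so that B is A[T]/(P). -/
theorem result
    (A : Type u) [CommRing A] [IsDomain A] [IsIntegrallyClosed A]
    (B : Type u) [CommRing B] [Algebra A B] [Module.Finite A B] [NoZeroSMulDivisors A B]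
    (x : B) (hx : Algebra.adjoin A {x} = ⊤) :
    ∃ P : Polynomial A, P.Monic ∧
      Polynomial.map (algebraMap A (FractionRing A)) P =
        (LinearMap.mulLeft (FractionRing A) ((1 : FractionRing A) ⊗ₜ[A] x)).charpoly ∧
      RingHom.ker (Polynomial.aeval x).toRingHom = Ideal.span {P} := by
  classical
  set K := FractionRing A with hK
  set y : K ⊗[A] B := (1 : K) ⊗ₜ[A] x with hy
  let inc : B →ₐ[A] K ⊗[A] B := Algebra.TensorProduct.includeRight
  have hinc : ∀ b, inc b = (1 : K) ⊗ₜ[A] b := fun b => rfl
  -- injectivity of `inc`
  have hinj : Function.Injective inc := by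
    rw [injective_iff_map_eq_zero]
    intro b hb
    have h := (IsLocalizedModule.eq_zero_iff (nonZeroDivisors A)
      (TensorProduct.mk A K B 1) (m := b)).mp hb
    obtain ⟨s, hs⟩ := h
    have hs0 : (s : A) ≠ 0 := nonZeroDivisors.ne_zero s.2
    rcases smul_eq_zero.mp hs with h0 | h0
    · exact absurd h0 hs0
    · exact h0
  -- `y` generates
  have hgen : Algebra.adjoin K {y} = ⊤ := by
    have h1 : ∀ b : B, inc b ∈ Algebra.adjoin K {y} := by
      intro b
      have hb : b ∈ Algebra.adjoin A {x} := by rw [hx]; trivial
      rw [Algebra.adjoin_singleton_eq_range_aeval] at hb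
      obtain ⟨p, rfl⟩ := hb
      have : inc (Polynomial.aeval x p) = Polynomial.aeval y (p.map (algebraMap A K)) := by
        rw [Polynomial.aeval_map_algebraMap, ← Polynomial.aeval_algHom_apply]
        rfl
      show inc (Polynomial.aeval x p) ∈ Algebra.adjoin K {y}
      rw [this]
      exact Polynomial.aeval_mem_adjoin_singleton K y
    rw [Algebra.eq_top_iff]
    intro z
    induction z using TensorProduct.induction_on with
    | zero => exact Subalgebra.zero_mem _
    | tmul a b =>
      have : a ⊗ₜ[A] b = a • inc b := by
        rw [hinc, TensorProduct.smul_tmul', smul_eq_mul, mul_one]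
      rw [this]
      exact Subalgebra.smul_mem _ (h1 b) a
    | add z w hz hw => exact Subalgebra.add_mem _ hz hw
  have hyint : IsIntegral K y := IsIntegral.of_finite K y
  let pb : PowerBasis K (K ⊗[A] B) := PowerBasis.ofAdjoinEqTop hyint hgen
  have hcharpoly : (LinearMap.mulLeft K y).charpoly = minpoly K y := by
    have h1 := charpoly_leftMulMatrix pb
    rw [PowerBasis.ofAdjoinEqTop_gen] at h1
    rw [← h1, Algebra.leftMulMatrix_apply, LinearMap.charpoly_toMatrix]
    rfl
  -- `x` is integral over `A`
  have hxint : IsIntegral A x := IsIntegral.of_finite A x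
  have hgy : Polynomial.aeval y ((minpoly A x).map (algebraMap A K)) = 0 := by
    rw [Polynomial.aeval_map_algebraMap]
    have : Polynomial.aeval (inc x) (minpoly A x) = inc (Polynomial.aeval x (minpoly A x)) :=
      Polynomial.aeval_algHom_apply inc x _
    rw [show y = inc x from rfl, this, minpoly.aeval, map_zero]
  have hdvd : minpoly K y ∣ (minpoly A x).map (algebraMap A K) := minpoly.dvd K y hgy
  obtain ⟨P, hP⟩ := IsIntegrallyClosed.eq_map_mul_C_of_dvd K (minpoly.monic hxint) hdvd
  rw [(minpoly.monic hyint).leadingCoeff, map_one, mul_one] at hP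
  have hPmonic : P.Monic := by
    apply Polynomial.monic_of_injective (IsFractionRing.injective A K)
    rw [hP]
    exact minpoly.monic hyint
  refine ⟨P, hPmonic, by rw [hP, hcharpoly], ?_⟩
  ext g
  rw [RingHom.mem_ker, Ideal.mem_span_singleton]
  have hiff : Polynomial.aeval x g = 0 ↔ Polynomial.aeval y (g.map (algebraMap A K)) = 0 := by
    rw [Polynomial.aeval_map_algebraMap]
    have : Polynomial.aeval (inc x) g = inc (Polynomial.aeval x g) :=
      Polynomial.aeval_algHom_apply inc x _
    rw [show y = inc x from rfl, this]
    constructor
    · intro h; rw [h, map_zero]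
    · intro h; exact hinj (by rw [h, map_zero])
  show Polynomial.aeval x g = 0 ↔ P ∣ g
  rw [hiff, ← Polynomial.map_dvd_map _ (IsFractionRing.injective A K) hPmonic, hP]
  constructor
  · intro h; exact minpoly.dvd K y h
  · rintro ⟨q, hq⟩
    rw [hq, map_mul, minpoly.aeval, zero_mul]

end Groth.Agent.S17969
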