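import Groth.Statements.S17970
import Mathlib

set_option autoImplicit false
universe u
open Hensel

namespace Groth.Agent.S17970

section
open Ideal

/-- An idempotent in the Jacobson radical is zero. -/
lemma idem_eq_zero_of_mem_jac {B : Type*} [CommRing B] {x : B} (hx : IsIdempotentElem x)
    (hj : x ∈ Ideal.jacobson (⊥ : Ideal B)) : x = 0 := by
  have hu : IsUnit (x * (-1) + 1) := Ideal.mem_jacobson_bot.1 hj (-1)
  have h0 : x * (x * (-1) + 1) = 0 := by
    have := hx.eq
    linear_combination -this
  exact (hu.mul_left_eq_zero).1 h0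

lemma map_le_jac (A : Type*) [CommRing A] [IsLocalRing A] (B : Type*) [CommRing B] [Algebra A B]
    [Module.Finite A B] :
    Ideal.map (algebraMap A B) (IsLocalRing.maximalIdeal A) ≤ Ideal.jacobson (⊥ : Ideal B) := by
  unfold Ideal.jacobson
  refine le_sInf ?_
  rintro M ⟨-, hM⟩
  rw [Ideal.map_le_iff_le_comap]
  have : (Ideal.comap (algebraMap A B) M).IsMaximal :=
    Ideal.isMaximal_comap_of_isIntegral_of_isMaximal (R := A) M
  rw [IsLocalRing.eq_maximalIdeal this]

lemma keyK {B : Type u} [CommRing B] (J : Ideal B) (hJ : J ≤ Ideal.jacobson (⊥ : Ideal B))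
    {ι : Type u} [Fintype ι] [DecidableEq ι] (R : ι → Type u) [∀ i, CommRing (R i)]
    [∀ i, IsLocalRing (R i)] (ψ : (B ⧸ J) ≃+* (∀ i, R i))
    (hlift : Set.SurjOn (Ideal.Quotient.mk J) {e : B | IsIdempotentElem e}
      {e | IsIdempotentElem e}) :
    ∃ e : ι → B, CompleteOrthogonalIdempotents e ∧
      ∀ i, IsLocalRing (B ⧸ Ideal.span {1 - e i}) := by
  have hidem : ∀ i, IsIdempotentElem (ψ.symm (Pi.single i 1)) := by
    intro i
    unfold IsIdempotentElem
    rw [← map_mul, ← Pi.single_mul, mul_one]
  choose e he hemk using fun i => hlift (hidem i)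
  simp only [Set.mem_ofPred_eq] at he
  have hZ : ∀ x : B, IsIdempotentElem x → Ideal.Quotient.mk J x = 0 → x = 0 := by
    intro x hx h0
    exact idem_eq_zero_of_mem_jac hx (hJ (Ideal.Quotient.eq_zero_iff_mem.1 h0))
  have hortho : OrthogonalIdempotents e := by
    refine ⟨he, ?_⟩
    intro i j hij
    apply hZ _ ((he i).mul (he j))
    rw [map_mul, hemk, hemk, ← map_mul, ← Pi.single_mul_left, Pi.single_eq_of_ne hij, mul_zero,
      Pi.single_zero, map_zero]
  have hcomplete : CompleteOrthogonalIdempotents e := by
    refine ⟨hortho, ?_⟩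
    have hs : IsIdempotentElem (∑ i, e i) := hortho.isIdempotentElem_sum
    have h1 : Ideal.Quotient.mk J (1 - ∑ i, e i) = 0 := by
      rw [map_sub, map_one, map_sum]
      simp only [hemk]
      have hsum : (∑ i, Pi.single i (1 : R i)) = (1 : ∀ i, R i) := Finset.univ_sum_single 1
      rw [← map_sum, hsum, map_one, sub_self]
    have := hZ _ hs.one_sub h1
    exact (sub_eq_zero.1 this).symm
  refine ⟨e, hcomplete, ?_⟩
  intro i
  -- image of J lies in the Jacobson radical of the quotient
  have hjac : ∀ x ∈ J, Ideal.Quotient.mk (Ideal.span {1 - e i}) x ∈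
      Ideal.jacobson (⊥ : Ideal (B ⧸ Ideal.span {1 - e i})) := by
    intro x hx
    rw [Ideal.mem_jacobson_bot]
    intro c
    obtain ⟨y, rfl⟩ := Ideal.Quotient.mk_surjective c
    have := Ideal.mem_jacobson_bot.1 (hJ hx) y
    rw [← map_mul, ← map_one (Ideal.Quotient.mk (Ideal.span {1 - e i})), ← map_add]
    exact this.map _
  have hone : Ideal.Quotient.mk (Ideal.span {1 - e i}) (e i) = 1 := by
    have : Ideal.Quotient.mk (Ideal.span {1 - e i}) (1 - e i) = 0 :=
      Ideal.Quotient.eq_zero_iff_mem.2 (Ideal.subset_span rfl)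
    rw [map_sub, map_one, sub_eq_zero] at this
    exact this.symm
  have hsub : ∀ b : B, IsUnit (ψ (Ideal.Quotient.mk J b) i) →
      IsUnit (Ideal.Quotient.mk (Ideal.span {1 - e i}) b) := by
    intro b hb
    obtain ⟨s, hs⟩ := hb.exists_right_inv
    obtain ⟨c, hc⟩ := Ideal.Quotient.mk_surjective (ψ.symm (Pi.single i s))
    have h1 : Ideal.Quotient.mk J (b * c) = Ideal.Quotient.mk J (e i) := by
      rw [hemk, map_mul, hc]
      apply ψ.injective
      rw [map_mul, RingEquiv.apply_symm_apply, RingEquiv.apply_symm_apply]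
      funext j
      by_cases hj : j = i
      · subst hj; simp [hs]
      · simp [Pi.single_eq_of_ne hj]
    have h2 : b * c - e i ∈ J := Ideal.Quotient.eq.1 h1
    have h3 := Ideal.mem_jacobson_bot.1 (hjac _ h2) 1
    rw [mul_one, map_sub, hone, sub_add_cancel, map_mul] at h3
    exact isUnit_of_mul_isUnit_left h3
  have hnt : Nontrivial (B ⧸ Ideal.span {1 - e i}) := by
    rw [Ideal.Quotient.nontrivial_iff, Ne, Ideal.span_singleton_eq_top]
    intro hu
    have h1 : 1 - e i = 1 := by
      have := (he i).one_sub.eq
      exact (hu.mul_left_inj).1 (by rw [this, one_mul])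
    have h2 : e i = 0 := by linear_combination -h1
    have h3 : ψ.symm (Pi.single i 1) = 0 := by rw [← hemk, h2, map_zero]
    have h4 : (Pi.single i 1 : ∀ i, R i) = 0 := by
      have := congrArg ψ h3
      rwa [RingEquiv.apply_symm_apply, map_zero] at this
    have h5 := congrFun h4 i
    simp at h5
  refine IsLocalRing.of_isUnit_or_isUnit_one_sub_self ?_
  intro a
  obtain ⟨b, rfl⟩ := Ideal.Quotient.mk_surjective a
  rcases IsLocalRing.isUnit_or_isUnit_one_sub_self (ψ (Ideal.Quotient.mk J b) i) with h | h
  · exact Or.inl (hsub b h)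
  · right
    have := hsub (1 - b) (by simpa using h)
    simpa using this

end

/-- Let A be a local ring with maximal ideal m and B a commutative A-algebra which is finitely generated
as an A-module. Then B is ring-isomorphic to a finite product of local rings if and only if every
idempotent of B/mB is the image of an idempotent of B. (Reduction modulo mB is always injective on
the idempotents of B, because mB lies in the Jacobson radical of B; so this surjectivity amounts to
the bijectivity on idempotents in the printed assertion.) -/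
theorem result
    (A : Type u) [CommRing A] [IsLocalRing A] (B : Type u) [CommRing B] [Algebra A B] [Module.Finite A B] :
    (∃ (ι : Type u) (_ : Fintype ι) (C : ι → Type u) (_ : ∀ j, CommRing (C j)),
        (∀ j, IsLocalRing (C j)) ∧ Nonempty (B ≃+* (∀ j, C j))) ↔
      Set.SurjOn (Ideal.Quotient.mk (Ideal.map (algebraMap A B) (IsLocalRing.maximalIdeal A)))
        {e : B | IsIdempotentElem e} {e | IsIdempotentElem e} := by
  classical
  constructor
  · rintro ⟨ι, _, C, _, hloc, ⟨φ⟩⟩
    intro ebar hebar
    obtain ⟨x, rfl⟩ := Ideal.Quotient.mk_surjective ebar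
    have hx : x * x - x ∈ Ideal.map (algebraMap A B) (IsLocalRing.maximalIdeal A) := by
      apply Ideal.Quotient.eq.1
      rw [map_mul]; exact hebar
    set J := Ideal.map (algebraMap A B) (IsLocalRing.maximalIdeal A)
    let x' := φ x
    let e' : ∀ j, C j := fun j => if IsUnit (x' j) then 1 else 0
    let u : ∀ j, C j := fun j => if IsUnit (x' j) then - Ring.inverse (x' j)
      else Ring.inverse (1 - x' j)
    have hkey : e' - x' = u * (x' * x' - x') := by
      funext j
      simp only [Pi.sub_apply, Pi.mul_apply, e', u]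
      by_cases hj : IsUnit (x' j)
      · rw [if_pos hj, if_pos hj]
        have := Ring.inverse_mul_cancel _ hj
        linear_combination (x' j - 1) * this
      · rw [if_neg hj, if_neg hj]
        have hj' : IsUnit (1 - x' j) :=
          (IsLocalRing.isUnit_or_isUnit_one_sub_self (x' j)).resolve_left hj
        have := Ring.inverse_mul_cancel _ hj'
        linear_combination (x' j) * this
    refine ⟨φ.symm e', ?_, ?_⟩
    · show IsIdempotentElem (φ.symm e')
      unfold IsIdempotentElem
      rw [← map_mul]
      congr 1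
      funext j
      simp only [Pi.mul_apply, e']
      split_ifs <;> simp
    · apply Ideal.Quotient.eq.2
      have : φ.symm e' - x = φ.symm u * (x * x - x) := by
        apply φ.injective
        rw [map_sub, map_mul, map_sub, map_mul, RingEquiv.apply_symm_apply,
          RingEquiv.apply_symm_apply]
        exact hkey
      rw [this]
      exact Ideal.mul_mem_left _ _ hx
  · intro hlift
    set J := Ideal.map (algebraMap A B) (IsLocalRing.maximalIdeal A) with hJdef
    have hJ : J ≤ Ideal.jacobson (⊥ : Ideal B) := map_le_jac A B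
    let _ : Field (A ⧸ IsLocalRing.maximalIdeal A) := Ideal.Quotient.field _
    have hfin : Module.Finite (A ⧸ IsLocalRing.maximalIdeal A) (B ⧸ J) :=
      Module.Finite.of_restrictScalars_finite A (A ⧸ IsLocalRing.maximalIdeal A) (B ⧸ J)
    have hart : IsArtinianRing (B ⧸ J) :=
      IsArtinianRing.of_finite (A ⧸ IsLocalRing.maximalIdeal A) (B ⧸ J)
    have : Fintype (PrimeSpectrum (B ⧸ J)) := Fintype.ofFinite _
    obtain ⟨e, he, hloc⟩ := keyK J hJ
      (fun p : PrimeSpectrum (B ⧸ J) => Localization.AtPrime p.asIdeal)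
      (PrimeSpectrum.toPiLocalizationEquiv (B ⧸ J)).toRingEquiv hlift
    exact ⟨PrimeSpectrum (B ⧸ J), inferInstance, fun i => B ⧸ Ideal.span {1 - e i},
      inferInstance, hloc, ⟨RingEquiv.ofBijective _ he.bijective_pi⟩⟩

end Groth.Agent.S17970
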