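import Groth.Statements.S17972
import Groth.Agent.Lib.Helper37.HenselLocal
import Groth.Agent.Lib.Helper45.JacEtale
-- import your own Groth.Agent.* helpers here

set_option autoImplicit false
universe u
open Hensel

namespace Groth.Agent.S17972

/-- Let A be a henselian local ring with maximal ideal m, let P_1, …, P_n be polynomials over A in n
variables and a₀ ∈ A^n a point with P_i(a₀) ∈ m for all i whose Jacobian determinant
det(∂P_i/∂T_j)(a₀) is a unit of A, i.e. nonzero in the residue field. Then there is a ∈ A^n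
congruent to a₀ modulo m in each coordinate with P_i(a) = 0 for all i. -/
theorem result
    (A : Type u) [CommRing A] [HenselianLocalRing A] (n : ℕ)
    (P : Fin n → MvPolynomial (Fin n) A) (a₀ : Fin n → A)
    (h₀ : ∀ i, MvPolynomial.eval a₀ (P i) ∈ IsLocalRing.maximalIdeal A)
    (hJ : IsUnit (Matrix.of (fun i j => MvPolynomial.eval a₀ (MvPolynomial.pderiv j (P i)))).det) :
    ∃ a : Fin n → A, (∀ i, MvPolynomial.eval a (P i) = 0) ∧
      ∀ j, a j - a₀ j ∈ IsLocalRing.maximalIdeal A := by
  classical
  -- notation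
  let I : Ideal (MvPolynomial (Fin n) A) := Ideal.span (Set.range P)
  let J := (Groth.Agent.Lib.Helper45.JacEtale.pre P).jacobian
  haveI hEt : Algebra.Etale A (Localization.Away J) :=
    Groth.Agent.Lib.Helper45.JacEtale.etale_away P _
  let res := IsLocalRing.residue A
  -- the point modulo the maximal ideal
  let ev : MvPolynomial (Fin n) A →+* IsLocalRing.ResidueField A :=
    MvPolynomial.eval₂Hom res (fun j => res (a₀ j))
  have hev : ∀ p, ev p = res (MvPolynomial.eval a₀ p) := by
    intro p
    change MvPolynomial.eval₂ res (fun j => res (a₀ j)) p = res (MvPolynomial.eval₂ (RingHom.id A) a₀ p)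
    rw [MvPolynomial.eval₂_comp_left res (RingHom.id A) a₀ p]
    rfl
  have hevI : ∀ p ∈ I, ev p = 0 := by
    intro p hp
    have hle : I ≤ RingHom.ker ev := by
      rw [Ideal.span_le]
      rintro _ ⟨i, rfl⟩
      change ev (P i) = 0
      rw [hev]
      exact (IsLocalRing.residue_eq_zero_iff _).mpr (h₀ i)
    exact hle hp
  let ψ₀ : (MvPolynomial (Fin n) A ⧸ I) →+* IsLocalRing.ResidueField A :=
    Ideal.Quotient.lift I ev hevI
  have hψ₀ : ∀ p, ψ₀ (Ideal.Quotient.mk I p) = res (MvPolynomial.eval a₀ p) := by
    intro p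
    rw [← hev]
    rfl
  have hJunit : IsUnit (ψ₀ J) := by
    have h1 : J = Ideal.Quotient.mk I (Matrix.det (Matrix.of fun i j : Fin n =>
        MvPolynomial.pderiv j (P i))) := Groth.Agent.Lib.Helper45.JacEtale.pre_jacobian P
    rw [h1, hψ₀, RingHom.map_det]
    have h2 : (MvPolynomial.eval a₀).mapMatrix (Matrix.of fun i j : Fin n =>
        MvPolynomial.pderiv j (P i)) =
        Matrix.of (fun i j => MvPolynomial.eval a₀ (MvPolynomial.pderiv j (P i))) := by
      ext i j
      rfl
    rw [h2]
    exact hJ.map res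
  let ψ : Localization.Away J →+* IsLocalRing.ResidueField A :=
    IsLocalization.Away.lift J hJunit
  have hψ : ∀ b, ψ (algebraMap _ _ b) = ψ₀ b := fun b => IsLocalization.Away.lift_eq J hJunit b
  let q : Ideal (Localization.Away J) := RingHom.ker ψ
  haveI : q.IsPrime := RingHom.ker_isPrime ψ
  let τ : q.ResidueField →+* IsLocalRing.ResidueField A :=
    Ideal.ResidueField.lift q ψ le_rfl (by
      intro x hx
      change IsUnit (ψ x)
      have : ψ x ≠ 0 := fun h => hx h
      exact IsUnit.mk0 _ this)
  have hτ : ∀ x, τ (algebraMap _ _ x) = ψ x := fun x => Ideal.ResidueField.lift_algebraMap _ _ _ _ x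
  have hcompat : τ.comp (algebraMap A q.ResidueField) = res.comp (algebraMap A A) := by
    ext r
    change τ (algebraMap A q.ResidueField r) = res r
    rw [IsScalarTower.algebraMap_apply A (Localization.Away J) q.ResidueField, hτ,
      IsScalarTower.algebraMap_apply A (MvPolynomial (Fin n) A ⧸ I) (Localization.Away J), hψ]
    change ψ₀ (Ideal.Quotient.mk I (MvPolynomial.C r)) = res r
    rw [hψ₀, MvPolynomial.eval_C]
  obtain ⟨f, ⟨_, hf⟩, _⟩ := Groth.Agent.Lib.Helper37.existsUnique_algHom_of_etale_of_henselianLocal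
    A A (Localization.Away J) q τ hcompat
  -- the composite algebra map from the polynomial ring
  let g : MvPolynomial (Fin n) A →ₐ[A] A :=
    f.comp ((IsScalarTower.toAlgHom A (MvPolynomial (Fin n) A ⧸ I) (Localization.Away J)).comp
      (Ideal.Quotient.mkₐ A I))
  have hg : ∀ p, g p = MvPolynomial.eval (fun j => g (MvPolynomial.X j)) p := by
    intro p
    have : g = MvPolynomial.aeval (fun j => g (MvPolynomial.X j)) := by
      apply MvPolynomial.algHom_ext
      intro j
      rw [MvPolynomial.aeval_X]
    rw [this]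
    simp only [MvPolynomial.aeval_X]
    rfl
  refine ⟨fun j => g (MvPolynomial.X j), fun i => ?_, fun j => ?_⟩
  · rw [← hg]
    change f (algebraMap _ _ (Ideal.Quotient.mk I (P i))) = 0
    have : Ideal.Quotient.mk I (P i) = 0 :=
      Ideal.Quotient.eq_zero_iff_mem.mpr (Ideal.subset_span ⟨i, rfl⟩)
    rw [this, map_zero, map_zero]
  · have h1 : res (g (MvPolynomial.X j)) = res (a₀ j) := by
      change res (f (algebraMap _ _ (Ideal.Quotient.mk I (MvPolynomial.X j)))) = _
      rw [hf, hτ, hψ, hψ₀, MvPolynomial.eval_X]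
    rw [← Ideal.Quotient.eq]
    exact h1

end Groth.Agent.S17972
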