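import Groth.Statements.S17974
import Mathlib.RingTheory.Unramified.Finite
-- import your own Groth.Agent.* helpers here

set_option autoImplicit false
universe u
open Unram

namespace Groth.Agent.S17974

/-- Let A be a commutative ring, B an unramified A-algebra (formally unramified and of finite type), C
an A-algebra, p a prime ideal of C, and u, v : B → C two A-algebra homomorphisms which agree after
composition with C → C/p. Then there is an element f of C not in p such that u and v agree after
composition with the localization map C → C[1/f]. -/
theorem result
    (A : Type u) [CommRing A] (B : Type u) [CommRing B] [Algebra A B]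
    [Algebra.FormallyUnramified A B] [Algebra.FiniteType A B]
    (C : Type u) [CommRing C] [Algebra A C] (p : Ideal C) [p.IsPrime]
    (u v : B →ₐ[A] C)
    (huv : (Ideal.Quotient.mk p).comp u.toRingHom = (Ideal.Quotient.mk p).comp v.toRingHom) :
    ∃ f : C, f ∉ p ∧
      (algebraMap C (Localization.Away f)).comp u.toRingHom =
        (algebraMap C (Localization.Away f)).comp v.toRingHom := by
  obtain ⟨t, ht1, ht2⟩ :=
    (Algebra.FormallyUnramified.iff_exists_tensorProduct (R := A) (S := B)).mp inferInstance
  let w : TensorProduct A B B →ₐ[A] C := Algebra.TensorProduct.productMap u v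
  have h1 : ∀ s, (v s - u s) * w t = 0 := by
    intro s
    have := congrArg w (ht1 s)
    simpa [w, Algebra.TensorProduct.productMap_apply_tmul] using this
  have h2 : Ideal.Quotient.mk p (w t) = 1 := by
    have key : ((Ideal.Quotient.mkₐ A p).comp w) =
        ((Ideal.Quotient.mkₐ A p).comp u).comp (Algebra.TensorProduct.lmul' A) := by
      apply Algebra.TensorProduct.ext'
      intro a b
      have hb : Ideal.Quotient.mk p (v b) = Ideal.Quotient.mk p (u b) :=
        (congrArg (fun g => g b) huv).symm
      simp [w, Algebra.TensorProduct.productMap_apply_tmul, hb]
    have := congrArg (fun g => g t) key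
    simpa [ht2] using this
  refine ⟨w t, ?_, ?_⟩
  · intro hτ
    have h0 : Ideal.Quotient.mk p (w t) = 0 := Ideal.Quotient.eq_zero_iff_mem.mpr hτ
    rw [h2] at h0
    exact one_ne_zero h0
  · apply RingHom.ext
    intro s
    have hunit : IsUnit (algebraMap C (Localization.Away (w t)) (w t)) :=
      IsLocalization.Away.algebraMap_isUnit (w t)
    have := congrArg (algebraMap C (Localization.Away (w t))) (h1 s)
    rw [map_mul, map_zero, hunit.mul_left_eq_zero, map_sub, sub_eq_zero] at this
    exact this.symm

end Groth.Agent.S17974
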