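import Groth.Statements.S17975
import Mathlib.RingTheory.Nakayama
import Mathlib.RingTheory.Polynomial.Basic
import Mathlib.Algebra.Polynomial.Lifts
import Mathlib.RingTheory.Polynomial.Tower
import Mathlib.RingTheory.Adjoin.Polynomial.Basic
-- import your own Groth.Agent.* helpers here

set_option autoImplicit false
universe u
open Hensel

namespace Groth.Agent.S17975

/-- Let A be a local ring with maximal ideal m and residue field k, C a commutative A-algebra which is
finitely generated as an A-module, Q₀ a monic polynomial of degree n over k, e an A-algebra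
isomorphism from C/mC to k[T]/(Q₀), and x an element of C whose class is sent by e to the class of
T. Then x generates C as an A-algebra, and x is a root of a monic polynomial Q over A of degree n
whose reduction modulo m equals Q₀. -/
theorem result
    (A : Type u) [CommRing A] [IsLocalRing A] (C : Type u) [CommRing C] [Algebra A C] [Module.Finite A C]
    (Q₀ : Polynomial (IsLocalRing.ResidueField A)) (hQ₀ : Q₀.Monic)
    (e : (C ⧸ Ideal.map (algebraMap A C) (IsLocalRing.maximalIdeal A)) ≃ₐ[A] AdjoinRoot Q₀)
    (x : C) (hx : e (Ideal.Quotient.mk (Ideal.map (algebraMap A C) (IsLocalRing.maximalIdeal A)) x) = AdjoinRoot.root Q₀) :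
    Algebra.adjoin A {x} = ⊤ ∧
      ∃ Q : Polynomial A, Q.Monic ∧ Q.natDegree = Q₀.natDegree ∧
        Polynomial.map (IsLocalRing.residue A) Q = Q₀ ∧ Polynomial.aeval x Q = 0 := by
  classical
  set n := Q₀.natDegree with hn
  have hdegQ₀ : Q₀.degree = (n : WithBot ℕ) := Polynomial.degree_eq_natDegree hQ₀.ne_zero
  let φ : Polynomial A →ₗ[A] C := (Polynomial.aeval x).toLinearMap
  let N : Submodule A C := (Polynomial.degreeLT A n).map φ
  have key : ∀ P : Polynomial A, e (Ideal.Quotient.mk (Ideal.map (algebraMap A C) (IsLocalRing.maximalIdeal A)) (Polynomial.aeval x P)) =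
      AdjoinRoot.mk Q₀ (P.map (IsLocalRing.residue A)) := by
    intro P
    have h1 : Ideal.Quotient.mk (Ideal.map (algebraMap A C) (IsLocalRing.maximalIdeal A)) (Polynomial.aeval x P) =
        Polynomial.aeval (Ideal.Quotient.mk (Ideal.map (algebraMap A C) (IsLocalRing.maximalIdeal A)) x) P :=
      (Polynomial.aeval_algHom_apply (Ideal.Quotient.mkₐ A (Ideal.map (algebraMap A C) (IsLocalRing.maximalIdeal A))) x P).symm
    rw [h1, ← Polynomial.aeval_algHom_apply e, hx, AdjoinRoot.aeval_eq_of_algebra]
    rfl
  have htop : (⊤ : Submodule A C) ≤ N := by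
    apply Submodule.le_of_le_smul_of_le_jacobson_bot (I := IsLocalRing.maximalIdeal A)
      Module.Finite.fg_top (IsLocalRing.maximalIdeal_le_jacobson ⊥)
    intro c _
    obtain ⟨p, hp⟩ := AdjoinRoot.mk_surjective (e (Ideal.Quotient.mk (Ideal.map (algebraMap A C) (IsLocalRing.maximalIdeal A)) c))
    have hp' : AdjoinRoot.mk Q₀ (p %ₘ Q₀) = AdjoinRoot.mk Q₀ p := by
      rw [AdjoinRoot.mk_eq_mk]
      exact Polynomial.dvd_modByMonic_sub p Q₀
    have hlift : (p %ₘ Q₀) ∈ Polynomial.lifts (IsLocalRing.residue A) := by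
      rw [Polynomial.lifts_iff_coeff_lifts]
      intro i
      exact IsLocalRing.residue_surjective _
    obtain ⟨P, hPmap, hPdeg⟩ := Polynomial.exists_degree_eq_of_mem_lifts hlift
    have hPlt : P.degree < (n : WithBot ℕ) := by
      rw [hPdeg, ← hdegQ₀]
      exact Polynomial.degree_modByMonic_lt p hQ₀
    have hmem : c - Polynomial.aeval x P ∈ Ideal.map (algebraMap A C) (IsLocalRing.maximalIdeal A) := by
      rw [← Ideal.Quotient.eq]
      apply e.injective
      rw [key P, hPmap, hp', hp]
    have hc : c = Polynomial.aeval x P + (c - Polynomial.aeval x P) := by ring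
    rw [hc]
    apply Submodule.add_mem_sup
    · exact Submodule.mem_map_of_mem (f := φ) (Polynomial.mem_degreeLT.mpr hPlt)
    · rw [Ideal.smul_top_eq_map]
      exact hmem
  have hN : ∀ c : C, ∃ P : Polynomial A, P.degree < (n : WithBot ℕ) ∧ Polynomial.aeval x P = c := by
    intro c
    obtain ⟨P, hP, hPc⟩ := htop (Submodule.mem_top : c ∈ ⊤)
    exact ⟨P, Polynomial.mem_degreeLT.mp hP, hPc⟩
  constructor
  · rw [Algebra.eq_top_iff]
    intro c
    obtain ⟨P, -, rfl⟩ := hN c
    exact Polynomial.aeval_mem_adjoin_singleton A x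
  · obtain ⟨P, hPlt, hPx⟩ := hN (x ^ n)
    have hmonic : (Polynomial.X ^ n - P).Monic := Polynomial.monic_X_pow_sub hPlt
    have hnat : (Polynomial.X ^ n - P).natDegree = n := by
      apply Polynomial.natDegree_eq_of_degree_eq_some
      rw [Polynomial.degree_sub_eq_left_of_degree_lt (by rwa [Polynomial.degree_X_pow]),
        Polynomial.degree_X_pow]
    have haeval : Polynomial.aeval x (Polynomial.X ^ n - P) = 0 := by
      rw [map_sub, map_pow, Polynomial.aeval_X, hPx, sub_self]
    refine ⟨Polynomial.X ^ n - P, hmonic, hnat, ?_, haeval⟩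
    have hdvd : Q₀ ∣ (Polynomial.X ^ n - P).map (IsLocalRing.residue A) := by
      rw [← AdjoinRoot.mk_eq_zero, ← key, haeval, map_zero, map_zero]
    have hm' : ((Polynomial.X ^ n - P).map (IsLocalRing.residue A)).Monic := hmonic.map _
    have hdeg' : ((Polynomial.X ^ n - P).map (IsLocalRing.residue A)).natDegree = n := by
      rw [hmonic.natDegree_map, hnat]
    exact Polynomial.eq_of_monic_of_dvd_of_natDegree_le hQ₀ hm' hdvd (by rw [hdeg'])

end Groth.Agent.S17975
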