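import Groth.Statements.S17976
import Groth.Agent.Lib.Helper90.QFNbhd
-- import your own Groth.Agent.* helpers here

set_option autoImplicit false
universe u
open Hensel

namespace Groth.Agent.S17976

/-- Let A be a commutative ring, I an ideal of A and B an A-algebra of finite type such that B/IB is a
finite A-module. Then there exist an etale A-algebra A' such that A → A'/IA' is surjective with
kernel I, and a commutative ring C which is an A'-algebra finite over A' and an etale B-algebra,
with compatible A-algebra structures, such that B → C/IC is surjective with kernel IB. In scheme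
language: an etale affine neighbourhood S' of Spec (A/I) in Spec A and an etale neighbourhood Z =
Spec C of Spec (B/IB) in Spec B, finite over S', forming a commutative square. -/
theorem result
    (A : Type u) [CommRing A] (I : Ideal A) (B : Type u) [CommRing B] [Algebra A B] [Algebra.FiniteType A B]
    (hfin : Module.Finite A (B ⧸ Ideal.map (algebraMap A B) I)) :
    ∃ (A' : Type u) (_ : CommRing A') (_ : Algebra A A') (_ : Algebra.Etale A A')
      (C : Type u) (_ : CommRing C) (_ : Algebra A C) (_ : Algebra A' C) (_ : Algebra B C)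
      (_ : IsScalarTower A A' C) (_ : IsScalarTower A B C),
      Function.Surjective ((Ideal.Quotient.mk (Ideal.map (algebraMap A A') I)).comp (algebraMap A A')) ∧
      RingHom.ker ((Ideal.Quotient.mk (Ideal.map (algebraMap A A') I)).comp (algebraMap A A')) = I ∧
      Algebra.Etale B C ∧ Module.Finite A' C ∧
      Function.Surjective ((Ideal.Quotient.mk (Ideal.map (algebraMap A C) I)).comp (algebraMap B C)) ∧
      RingHom.ker ((Ideal.Quotient.mk (Ideal.map (algebraMap A C) I)).comp (algebraMap B C)) =
        Ideal.map (algebraMap A B) I := by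
  classical
  obtain ⟨r, hr, hr1, hrx⟩ := Groth.Agent.Lib.Helper90.QFNbhd.exists_integral_sub_one_mem I hfin
  obtain ⟨D, hrD, hfg, hx, N, hN⟩ :=
    Groth.Agent.Lib.Helper90.QFNbhd.exists_finite_subalgebra I r hr hr1 hrx
  have hfinD : Module.Finite A D := ⟨(Submodule.fg_top _).mpr hfg⟩
  have hinj : Function.Injective (algebraMap D B) := Subtype.val_injective
  have h1 : ∀ x : B, ∃ m : ℕ, ∃ d : D,
      algebraMap D B d = algebraMap D B (⟨r, hrD⟩ : D) ^ m * x := by
    intro x
    obtain ⟨m, hm⟩ := hx x
    exact ⟨m, ⟨_, hm⟩, rfl⟩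
  have h2 : algebraMap D B (⟨r, hrD⟩ : D) - 1 ∈ I.map (algebraMap A B) := hr1
  obtain ⟨A', i1, i2, hA', C, i3, i4, i5, i6, i7, i8, hQB, hEt, hFin, hsurj, hker⟩ :=
    Groth.Agent.Lib.Helper90.QFNbhd.exists_nbhd_of_finite_subalgebra I (B := B) (D := D) hinj
      ⟨r, hrD⟩ N h1 h2 hN
  refine ⟨A', i1, i2, hA', C, i3, i4, i5, i6, i7, i8, ?_, ?_, hEt, hFin, ?_, ?_⟩
  · intro y
    obtain ⟨c, rfl⟩ := Ideal.Quotient.mk_surjective y
    obtain ⟨a, ha⟩ := hQB.surj c
    exact ⟨a, (Ideal.Quotient.eq.mpr ha).symm⟩
  · ext a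
    rw [RingHom.mem_ker, RingHom.comp_apply, Ideal.Quotient.eq_zero_iff_mem]
    exact ⟨hQB.inj a, fun ha => Ideal.mem_map_of_mem _ ha⟩
  · intro y
    obtain ⟨c, rfl⟩ := Ideal.Quotient.mk_surjective y
    obtain ⟨b, hb⟩ := hsurj c
    exact ⟨b, (Ideal.Quotient.eq.mpr hb).symm⟩
  · ext b
    rw [RingHom.mem_ker, RingHom.comp_apply, Ideal.Quotient.eq_zero_iff_mem]
    refine ⟨hker b, fun hb => ?_⟩
    have : (I.map (algebraMap A B)).map (algebraMap B C) = I.map (algebraMap A C) := by
      rw [Ideal.map_map, ← IsScalarTower.algebraMap_eq]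
    rw [← this]
    exact Ideal.mem_map_of_mem _ hb

end Groth.Agent.S17976
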