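import Groth.Statements.S17977
import Groth.Agent.Lib.Helper90.EssEt
-- import your own Groth.Agent.* helpers here

set_option autoImplicit false
universe u
open EGA4loc

namespace Groth.Agent.S17977

/-- Let A be a local ring, B a local ring which is a local-etale A-algebra, and C a local ring with a
local structure map A → C. Then every A-algebra homomorphism B → C is local. (The source states this
for local ind-etale B, i.e. filtered colimits of local-etale algebras along local maps, and reduces
at once to the local-etale case stated here.) -/
theorem result (A : Type u) [CommRing A] [IsLocalRing A]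
    (B : Type u) [CommRing B] [IsLocalRing B] [Algebra A B] (hB : EGA4loc.IsEssentiallyEtale A B)
    (C : Type u) [CommRing C] [IsLocalRing C] [Algebra A C] [IsLocalHom (algebraMap A C)]
    (φ : B →ₐ[A] C) : IsLocalHom φ.toRingHom := by
  obtain ⟨C₀, _, _, q, _, hEt, hq, ⟨e⟩⟩ := hB
  constructor
  intro b hb
  by_contra hnu
  have h1 : e b ∈ IsLocalRing.maximalIdeal (Localization.AtPrime q) := by
    rw [IsLocalRing.mem_maximalIdeal, mem_nonunits_iff]
    intro h
    apply hnu
    have := h.map e.symm
    simpa using this
  rw [← Groth.Agent.Lib.Helper90.map_maximalIdeal_atPrime q hq] at h1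
  let ψ : Localization.AtPrime q →ₐ[A] C := φ.comp e.symm.toAlgHom
  have h2 : ψ (e b) ∈ (IsLocalRing.maximalIdeal A).map (algebraMap A C) := by
    have := Ideal.mem_map_of_mem ψ.toRingHom h1
    rwa [Ideal.map_map, AlgHom.toRingHom_eq_coe, ψ.comp_algebraMap] at this
  have h3 : (IsLocalRing.maximalIdeal A).map (algebraMap A C) ≤ IsLocalRing.maximalIdeal C :=
    ((IsLocalRing.local_hom_TFAE (algebraMap A C)).out 0 2 rfl rfl).mp ‹IsLocalHom (algebraMap A C)›
  have h4 : φ b ∈ IsLocalRing.maximalIdeal C := by
    have := h3 h2
    simpa [ψ] using this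
  exact h4 hb

end Groth.Agent.S17977
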