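import Groth.Statements.S17978
import Groth.Agent.S17974
-- import your own Groth.Agent.* helpers here

set_option autoImplicit false
universe u
open EGA4loc

namespace Groth.Agent.S17978

/-- Let A be a local ring, B a local ring which is a local-etale A-algebra, and C a local ring with a
local structure map A → C. Then two A-algebra homomorphisms B → C which agree after composition with
the residue map of C are equal; in other words an A-algebra map B → C is determined by the map it
induces on residue fields. (The source states this for local ind-etale B and reduces to the
local-etale case stated here; C is an arbitrary local A-algebra with local structure map.) -/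
theorem result (A : Type u) [CommRing A] [IsLocalRing A]
    (B : Type u) [CommRing B] [IsLocalRing B] [Algebra A B] (hB : EGA4loc.IsEssentiallyEtale A B)
    (C : Type u) [CommRing C] [IsLocalRing C] [Algebra A C] [IsLocalHom (algebraMap A C)]
    (u v : B →ₐ[A] C)
    (h : (IsLocalRing.residue C).comp u.toRingHom = (IsLocalRing.residue C).comp v.toRingHom) :
    u = v := by
  obtain ⟨C₀, _, _, q, _, hEt, hq, ⟨e⟩⟩ := hB
  let ι : C₀ →ₐ[A] Localization.AtPrime q := IsScalarTower.toAlgHom A C₀ _
  let u' : C₀ →ₐ[A] C := (u.comp e.symm.toAlgHom).comp ι
  let v' : C₀ →ₐ[A] C := (v.comp e.symm.toAlgHom).comp ι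
  have huv' : (Ideal.Quotient.mk (IsLocalRing.maximalIdeal C)).comp u'.toRingHom =
      (Ideal.Quotient.mk (IsLocalRing.maximalIdeal C)).comp v'.toRingHom := by
    apply RingHom.ext
    intro c
    exact congrArg (fun g => g (e.symm (ι c))) h
  obtain ⟨f, hf, hfeq⟩ := Groth.Agent.S17974.result A C₀ C (IsLocalRing.maximalIdeal C) u' v' huv'
  have hfu : IsUnit f := by
    by_contra hnu
    exact hf hnu
  have hinj : Function.Injective (algebraMap C (Localization.Away f)) := by
    apply IsLocalization.injective (Localization.Away f) (M := Submonoid.powers f)
    rw [Submonoid.powers_le]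
    exact hfu.mem_nonZeroDivisors
  have h1 : ∀ c, u' c = v' c := by
    intro c
    apply hinj
    exact congrArg (fun g => g c) hfeq
  have h2 : (u.comp e.symm.toAlgHom).toRingHom = (v.comp e.symm.toAlgHom).toRingHom := by
    apply IsLocalization.ringHom_ext q.primeCompl
    apply RingHom.ext
    intro c
    exact h1 c
  apply AlgHom.ext
  intro b
  have := congrArg (fun g => g (e b)) h2
  simpa using this

end Groth.Agent.S17978
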