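import Groth.Statements.S17979
import Mathlib.RingTheory.AdjoinRoot
import Mathlib.RingTheory.Nakayama
import Mathlib.RingTheory.Polynomial.Basic
import Mathlib.Tactic.LinearCombination
-- import your own Groth.Agent.* helpers here

set_option autoImplicit false
universe u
open Hensel

namespace Groth.Agent.S17979

/-- Let A be a local ring with residue field k and Q, R polynomials over A with Q monic. If the images
of Q and R in k[T] generate the unit ideal, then Q and R already generate the unit ideal of A[T]. -/
theorem result (A : Type u) [CommRing A] [IsLocalRing A]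
    (Q R : Polynomial A) (hQ : Q.Monic)
    (h : IsCoprime (Polynomial.map (IsLocalRing.residue A) Q) (Polynomial.map (IsLocalRing.residue A) R)) :
    IsCoprime Q R := by
  classical
  obtain ⟨a, b, hab⟩ := h
  obtain ⟨a', rfl⟩ := Polynomial.map_surjective _ IsLocalRing.residue_surjective a
  obtain ⟨b', rfl⟩ := Polynomial.map_surjective _ IsLocalRing.residue_surjective b
  have hE : a' * Q + b' * R - 1 ∈
      (IsLocalRing.maximalIdeal A).map (Polynomial.C : A →+* Polynomial A) := by
    rw [← IsLocalRing.ker_residue, ← Polynomial.ker_mapRingHom, RingHom.mem_ker]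
    simp only [Polynomial.coe_mapRingHom, Polynomial.map_sub, Polynomial.map_add,
      Polynomial.map_mul, Polynomial.map_one, hab, sub_self]
  have : Module.Finite A (AdjoinRoot Q) := hQ.finite_adjoinRoot
  set r : AdjoinRoot Q := AdjoinRoot.mk Q R with hr
  set N : Submodule A (AdjoinRoot Q) := (Ideal.span {r}).restrictScalars A with hN
  have hEm : AdjoinRoot.mk Q (a' * Q + b' * R - 1) ∈
      (IsLocalRing.maximalIdeal A) • (⊤ : Submodule A (AdjoinRoot Q)) := by
    rw [Ideal.smul_top_eq_map]
    show AdjoinRoot.mk Q (a' * Q + b' * R - 1) ∈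
      (IsLocalRing.maximalIdeal A).map (algebraMap A (AdjoinRoot Q))
    have : (IsLocalRing.maximalIdeal A).map (algebraMap A (AdjoinRoot Q)) =
        ((IsLocalRing.maximalIdeal A).map (Polynomial.C : A →+* Polynomial A)).map
          (AdjoinRoot.mk Q) := by
      rw [Ideal.map_map]
      rfl
    rw [this]
    exact Ideal.mem_map_of_mem _ hE
  have h1 : (1 : AdjoinRoot Q) = AdjoinRoot.mk Q b' * r - AdjoinRoot.mk Q (a' * Q + b' * R - 1) := by
    rw [hr]
    simp only [map_sub, map_add, map_mul, map_one, AdjoinRoot.mk_self, mul_zero, zero_add]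
    ring
  have htop : (⊤ : Submodule A (AdjoinRoot Q)) ≤ N := by
    apply Submodule.le_of_le_smul_of_le_jacobson_bot (I := IsLocalRing.maximalIdeal A)
      Module.Finite.fg_top (IsLocalRing.maximalIdeal_le_jacobson ⊥)
    intro s _
    have hs : s = s * (AdjoinRoot.mk Q b' * r) +
        (- s) * AdjoinRoot.mk Q (a' * Q + b' * R - 1) := by
      conv_lhs => rw [← mul_one s, h1]
      ring
    rw [hs]
    apply Submodule.add_mem_sup
    · show s * (AdjoinRoot.mk Q b' * r) ∈ Ideal.span {r}
      rw [← mul_assoc]
      exact Ideal.mul_mem_left _ _ (Ideal.subset_span rfl)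
    · rw [Ideal.smul_top_eq_map] at hEm ⊢
      exact Ideal.mul_mem_left _ _ hEm
  have h1N : (1 : AdjoinRoot Q) ∈ Ideal.span {r} := htop (Submodule.mem_top : (1 : AdjoinRoot Q) ∈ ⊤)
  obtain ⟨c, hc⟩ := Ideal.mem_span_singleton'.mp h1N
  obtain ⟨c', rfl⟩ := AdjoinRoot.mk_surjective c
  have hdiv : Q ∣ c' * R - 1 := by
    rw [← AdjoinRoot.mk_eq_zero, map_sub, map_mul, map_one, ← hr, hc, sub_self]
  obtain ⟨d, hd⟩ := hdiv
  refine ⟨-d, c', ?_⟩
  linear_combination hd

end Groth.Agent.S17979
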