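import Groth.Statements.S17980
import Groth.Agent.S17979
-- import your own Groth.Agent.* helpers here

set_option autoImplicit false
universe u
open Hensel

namespace Groth.Agent.S17980

/-- Let A be a local ring with residue field k, and let Q R = U V be two factorizations of one
polynomial over A with Q and U monic, such that Q and U have the same image in k[T], R and V have
the same image in k[T], and the images of Q and R in k[T] generate the unit ideal. Then Q = U and R
= V. -/
theorem result (A : Type u) [CommRing A] [IsLocalRing A]
    (Q R U V : Polynomial A) (hQ : Q.Monic) (hU : U.Monic)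
    (hQU : Polynomial.map (IsLocalRing.residue A) Q = Polynomial.map (IsLocalRing.residue A) U)
    (hRV : Polynomial.map (IsLocalRing.residue A) R = Polynomial.map (IsLocalRing.residue A) V)
    (hcop : IsCoprime (Polynomial.map (IsLocalRing.residue A) Q) (Polynomial.map (IsLocalRing.residue A) R))
    (h : Q * R = U * V) : Q = U ∧ R = V := by
  have hQV : IsCoprime Q V := Groth.Agent.S17979.result A Q V hQ (by rw [← hRV]; exact hcop)
  have hUR : IsCoprime U R := Groth.Agent.S17979.result A U R hU (by rw [← hQU]; exact hcop)
  have hQdvdU : Q ∣ U := hQV.dvd_of_dvd_mul_right (h ▸ Dvd.intro R rfl)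
  have hUdvdQ : U ∣ Q := hUR.dvd_of_dvd_mul_right (h.symm ▸ Dvd.intro V rfl)
  obtain ⟨W, hW⟩ := hQdvdU
  obtain ⟨W', hW'⟩ := hUdvdQ
  have hWm : W.Monic := by
    have := Polynomial.leadingCoeff_monic_mul (q := W) hQ
    rw [← hW, hU.leadingCoeff] at this
    exact this.symm
  have hW'm : W'.Monic := by
    have := Polynomial.leadingCoeff_monic_mul (q := W') hU
    rw [← hW', hQ.leadingCoeff] at this
    exact this.symm
  have d1 : U.natDegree = Q.natDegree + W.natDegree := by
    rw [hW]; exact hQ.natDegree_mul hWm
  have d2 : Q.natDegree = U.natDegree + W'.natDegree := by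
    conv_lhs => rw [hW']
    exact hU.natDegree_mul hW'm
  have hW1 : W = 1 := Polynomial.eq_one_of_monic_natDegree_zero hWm (by omega)
  have hQU' : Q = U := by rw [hW, hW1, mul_one]
  refine ⟨hQU', ?_⟩
  rw [← hQU'] at h
  exact hQ.isRegular.left h

end Groth.Agent.S17980
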