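import Groth.Statements.S17981
import Mathlib.RingTheory.Ideal.GoingUp
import Mathlib.RingTheory.IntegralClosure.IsIntegralClosure.Basic

set_option autoImplicit false
universe u
open Hensel

namespace Groth.Agent.S17981

/-- Let A be a commutative ring, I an ideal contained in the Jacobson radical of A, and B a commutative
A-algebra which is finitely generated as an A-module. Then two idempotents of B with the same image
in B/IB are equal. -/
theorem result (A : Type u) [CommRing A] (I : Ideal A)
    (hI : I ≤ Ideal.jacobson ⊥) (B : Type u) [CommRing B] [Algebra A B] [Module.Finite A B] :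
    Set.InjOn (Ideal.Quotient.mk (Ideal.map (algebraMap A B) I)) {e : B | IsIdempotentElem e} := by
  classical
  haveI : Algebra.IsIntegral A B := Algebra.IsIntegral.of_finite A B
  -- `I B` is contained in the Jacobson radical of `B`
  have hJ : Ideal.map (algebraMap A B) I ≤ Ideal.jacobson (⊥ : Ideal B) := by
    rw [Ideal.jacobson, le_sInf_iff]
    rintro m ⟨-, hm⟩
    haveI := hm
    have hmax : (m.comap (algebraMap A B)).IsMaximal :=
      Ideal.isMaximal_comap_of_isIntegral_of_isMaximal (R := A) m
    rw [Ideal.map_le_iff_le_comap]
    refine le_trans hI ?_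
    rw [Ideal.jacobson]
    exact sInf_le ⟨bot_le, hmax⟩
  intro e he e' he' heq
  have he : e * e = e := he
  have he' : e' * e' = e' := he'
  have hmem : e - e' ∈ Ideal.map (algebraMap A B) I := by
    rw [← Ideal.Quotient.eq]; exact heq
  set x := e - e' with hx
  have hx3 : x * (1 - x * x) = 0 := by
    have h1 : x * x * x = x := by
      rw [hx]
      have h2 : (e - e') * (e - e') * (e - e') =
          e * e * e - 3 * (e * e) * e' + 3 * e * (e' * e') - e' * e' * e' := by ring
      rw [h2, he, he', he, he']
      ring
    calc x * (1 - x * x) = x - x * x * x := by ring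
      _ = 0 := by rw [h1, sub_self]
  have hxJ : x ∈ Ideal.jacobson (⊥ : Ideal B) := hJ hmem
  have hunit : IsUnit (1 - x * x) := by
    have h2 := (Ideal.mem_jacobson_bot.1 hxJ) (-x)
    have : x * -x + 1 = 1 - x * x := by ring
    rwa [this] at h2
  have hx0 : x = 0 := by
    have := hunit.mul_left_eq_zero.1 hx3
    exact this
  exact sub_eq_zero.1 hx0

end Groth.Agent.S17981
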