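import Groth.Statements.S17982
import Mathlib

set_option autoImplicit false
universe u
open Hensel

namespace Groth.Agent.S17982

section
variable {ι : Type*} [Fintype ι] [DecidableEq ι] (C : ι → Type*) [∀ j, CommRing (C j)]
  [∀ j, IsLocalRing (C j)]

/-- the maximal ideal of the product attached to the index `j`. -/
noncomputable def Nmax (j : ι) : MaximalSpectrum (∀ j, C j) :=
  ⟨Ideal.comap (Pi.evalRingHom C j) (IsLocalRing.maximalIdeal (C j)),
    Ideal.comap_isMaximal_of_surjective _ (Function.surjective_eval j)⟩

theorem mem_Nmax (j : ι) (x : ∀ j, C j) :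
    x ∈ (Nmax C j).asIdeal ↔ ¬ IsUnit (x j) := by
  change x j ∈ IsLocalRing.maximalIdeal (C j) ↔ _
  rw [IsLocalRing.mem_maximalIdeal, mem_nonunits_iff]

theorem exists_eq_Nmax (n : MaximalSpectrum (∀ j, C j)) : ∃ j, n = Nmax C j := by
  have hn := n.isMaximal
  have hex : ∃ j, (Pi.single j 1 : ∀ j, C j) ∉ n.asIdeal := by
    by_contra hcon
    push Not at hcon
    have h1 : (1 : ∀ j, C j) ∈ n.asIdeal := by
      have : (1 : ∀ j, C j) = ∑ j, Pi.single j ((1 : ∀ j, C j) j) :=
        (Finset.univ_sum_single (1 : ∀ j, C j)).symm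
      rw [this]
      exact n.asIdeal.sum_mem (fun j _ => hcon j)
    exact hn.ne_top ((Ideal.eq_top_iff_one _).mpr h1)
  obtain ⟨j, hj⟩ := hex
  refine ⟨j, ?_⟩
  have hle : (Nmax C j).asIdeal ≤ n.asIdeal := by
    intro x hx
    rw [mem_Nmax] at hx
    by_contra hxn
    obtain ⟨c, a, ha, hca⟩ := hn.exists_inv hxn
    have hj1 : c j * x j + a j = 1 := congrFun hca j
    have hnu : c j * x j ∈ nonunits (C j) := by
      rw [mem_nonunits_iff]
      intro hu
      exact hx (isUnit_of_mul_isUnit_right hu)
    have hau : IsUnit (a j) := by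
      have : a j = 1 - c j * x j := by rw [← hj1]; ring
      rw [this]
      exact IsLocalRing.isUnit_one_sub_self_of_mem_nonunits _ hnu
    obtain ⟨u, hu⟩ := hau.exists_right_inv
    apply hj
    have : (Pi.single j 1 : ∀ j, C j) = a * Pi.single j u := by
      funext i
      by_cases hij : i = j
      · subst hij
        simp [hu]
      · simp [Pi.single_apply, hij]
    rw [this]
    exact n.asIdeal.mul_mem_right _ ha
  have := (Nmax C j).isMaximal.eq_of_le hn.ne_top hle
  exact (MaximalSpectrum.ext this).symm

theorem pi_surjective :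
    Function.Surjective (MaximalSpectrum.toPiLocalization (∀ j, C j)) := by
  intro y
  have hrep : ∀ n : MaximalSpectrum (∀ j, C j), ∃ (b : ∀ j, C j) (s : n.asIdeal.primeCompl),
      IsLocalization.mk' (Localization.AtPrime n.asIdeal) b s = y n :=
    fun n => IsLocalization.exists_mk'_eq n.asIdeal.primeCompl (y n)
  choose b s hbs using hrep
  have hunit : ∀ j, IsUnit ((s (Nmax C j) : ∀ j, C j) j) := by
    intro j
    by_contra h
    exact (s (Nmax C j)).2 ((mem_Nmax C j _).mpr h)
  choose v hv using fun j => (hunit j).exists_right_inv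
  refine ⟨fun j => b (Nmax C j) j * v j, ?_⟩
  funext n
  obtain ⟨j, rfl⟩ := exists_eq_Nmax C n
  rw [MaximalSpectrum.toPiLocalization_apply_apply, ← hbs, IsLocalization.eq_mk'_iff_mul_eq,
    ← map_mul, IsLocalization.eq_iff_exists (Nmax C j).asIdeal.primeCompl]
  refine ⟨⟨Pi.single j 1, ?_⟩, ?_⟩
  · change (Pi.single j 1 : ∀ j, C j) ∉ (Nmax C j).asIdeal
    rw [mem_Nmax]
    simp
  · funext i
    by_cases hij : i = j
    · subst hij
      simp only [Pi.mul_apply, Pi.single_eq_same, one_mul]
      rw [mul_assoc, mul_comm (v i), hv i, mul_one]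
    · simp [Pi.single_apply, hij]

end

/-- Let A be a local ring and B a commutative A-algebra which is finitely generated as an A-module. Then
B is ring-isomorphic to a finite product of local rings if and only if the canonical homomorphism
from B to the product of the localizations of B at its maximal ideals is bijective. -/
theorem result
    (A : Type u) [CommRing A] [IsLocalRing A] (B : Type u) [CommRing B] [Algebra A B] [Module.Finite A B] :
    (∃ (ι : Type u) (_ : Fintype ι) (C : ι → Type u) (_ : ∀ j, CommRing (C j)),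
        (∀ j, IsLocalRing (C j)) ∧ Nonempty (B ≃+* (∀ j, C j))) ↔
    Function.Bijective
      (RingHom.pi (fun n : MaximalSpectrum B => algebraMap B (Localization.AtPrime n.asIdeal))) := by
  classical
  have hfun : ⇑(RingHom.pi (fun n : MaximalSpectrum B =>
      algebraMap B (Localization.AtPrime n.asIdeal))) = ⇑(MaximalSpectrum.toPiLocalization B) := by
    funext x n
    rfl
  rw [hfun]
  constructor
  · rintro ⟨ι, _, C, _, hC, ⟨e⟩⟩
    refine ⟨MaximalSpectrum.toPiLocalization_injective B, ?_⟩
    have hbij := MaximalSpectrum.mapPiLocalization_bijective (e : B →+* (∀ j, C j)) e.bijective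
    have hnat := MaximalSpectrum.mapPiLocalization_naturality (e : B →+* (∀ j, C j)) e.bijective
    have hsurj : Function.Surjective
        ((MaximalSpectrum.toPiLocalization (∀ j, C j)).toRingHom.comp (e : B →+* (∀ j, C j))) := by
      rw [RingHom.coe_comp]
      exact (pi_surjective C).comp e.surjective
    rw [← hnat, RingHom.coe_comp] at hsurj
    intro y
    obtain ⟨x, hx⟩ := hsurj (MaximalSpectrum.mapPiLocalization (e : B →+* (∀ j, C j)) e.bijective y)
    exact ⟨x, hbij.1 hx⟩
  · intro hbij
    have hfin : Finite (MaximalSpectrum B) :=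
      MaximalSpectrum.finite_of_toPiLocalization_surjective hbij.2
    have hft : Fintype (MaximalSpectrum B) := Fintype.ofFinite _
    refine ⟨MaximalSpectrum B, hft, fun n => Localization.AtPrime n.asIdeal, inferInstance,
      fun n => inferInstance, ⟨RingEquiv.ofBijective (MaximalSpectrum.toPiLocalization B) hbij⟩⟩

end Groth.Agent.S17982
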