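import Groth.Statements.S17983
import Mathlib

set_option autoImplicit false
universe u
open WeilNum

namespace Groth.Agent.S17983

namespace WN
open Polynomial



theorem pair_facts (S : Finset ℂ) (Q : ℝ) (hQ : 0 < Q)
    (hconj : ∀ z ∈ S, (starRingEnd ℂ) z ∈ S)
    (hnorm : ∀ z ∈ S, ‖z‖ = Real.sqrt Q)
    (hnr : ∀ z ∈ S, z.im ≠ 0) :
    Even S.card ∧ ∏ z ∈ S, z = (Q : ℂ) ^ (S.card / 2) := by
  have hne : ∀ z ∈ S, (starRingEnd ℂ) z ≠ z := by
    intro z hz h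
    exact hnr z hz (Complex.conj_eq_iff_im.mp h)
  have hinv : ∀ z : ℂ, (starRingEnd ℂ) ((starRingEnd ℂ) z) = z := fun z => Complex.conj_conj z
  have hmul : ∀ z ∈ S, z * (starRingEnd ℂ) z = (Q : ℂ) := by
    intro z hz
    rw [Complex.mul_conj, Complex.normSq_eq_norm_sq, hnorm z hz, Real.sq_sqrt hQ.le]
  have heven : Even S.card := by
    have h2 : ∑ z ∈ S, (1 : ZMod 2) = 0 := by
      refine Finset.sum_involution (fun z _ => (starRingEnd ℂ) z) ?_ ?_ ?_ ?_
      · intro z hz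
        decide
      · intro z hz _
        exact hne z hz
      · intro z hz
        exact hconj z hz
      · intro z hz
        exact hinv z
    rw [Finset.sum_const, nsmul_eq_mul, mul_one] at h2
    exact (ZMod.natCast_eq_zero_iff_even).mp h2
  refine ⟨heven, ?_⟩
  have hsq : ((Real.sqrt Q : ℝ) : ℂ) ≠ 0 := by
    have : Real.sqrt Q ≠ 0 := (Real.sqrt_pos.mpr hQ).ne'
    exact_mod_cast this
  have hsq2 : ((Real.sqrt Q : ℝ) : ℂ) * ((Real.sqrt Q : ℝ) : ℂ) = (Q : ℂ) := by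
    rw [← Complex.ofReal_mul, Real.mul_self_sqrt hQ.le]
  have hprod1 : ∏ z ∈ S, (z / ((Real.sqrt Q : ℝ) : ℂ)) = 1 := by
    refine Finset.prod_involution (fun z _ => (starRingEnd ℂ) z) ?_ ?_ ?_ ?_
    · intro z hz
      rw [div_mul_div_comm, hmul z hz, hsq2, div_self]
      rw [← hsq2]; exact mul_ne_zero hsq hsq
    · intro z hz _
      exact hne z hz
    · intro z hz
      exact hconj z hz
    · intro z hz
      exact hinv z
  rw [Finset.prod_div_distrib, Finset.prod_const] at hprod1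
  have hpow : (((Real.sqrt Q : ℝ) : ℂ)) ^ S.card = (Q : ℂ) ^ (S.card / 2) := by
    obtain ⟨k, hk⟩ := heven
    have : S.card / 2 = k := by omega
    rw [this, hk, ← two_mul, pow_mul, sq, hsq2]
  rw [← hpow]
  have hne0 : (((Real.sqrt Q : ℝ) : ℂ)) ^ S.card ≠ 0 := pow_ne_zero _ hsq
  field_simp at hprod1
  exact hprod1

theorem func_eq (S : Finset ℂ) (Q : ℝ) (hQ : 0 < Q)
    (hconj : ∀ z ∈ S, (starRingEnd ℂ) z ∈ S)
    (hnorm : ∀ z ∈ S, ‖z‖ = Real.sqrt Q)
    (hnr : ∀ z ∈ S, z.im ≠ 0) (x : ℂ) (hx : x ≠ 0) :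
    Even S.card ∧
    x ^ S.card * ∏ z ∈ S, ((Q : ℂ) / x - z) = (Q : ℂ) ^ (S.card / 2) * ∏ z ∈ S, (x - z) := by
  obtain ⟨heven, hprod⟩ := pair_facts S Q hQ hconj hnorm hnr
  refine ⟨heven, ?_⟩
  have hmul : ∀ z ∈ S, z * (starRingEnd ℂ) z = (Q : ℂ) := by
    intro z hz
    rw [Complex.mul_conj, Complex.normSq_eq_norm_sq, hnorm z hz, Real.sq_sqrt hQ.le]
  rw [← Finset.prod_const, ← Finset.prod_mul_distrib]
  have h1 : ∀ z ∈ S, x * ((Q : ℂ) / x - z) = (-z) * (x - (starRingEnd ℂ) z) := by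
    intro z hz
    rw [← hmul z hz]
    field_simp
    ring
  rw [Finset.prod_congr rfl h1, Finset.prod_mul_distrib]
  have h2 : ∏ z ∈ S, (-z) = (Q : ℂ) ^ (S.card / 2) := by
    rw [Finset.prod_neg, heven.neg_one_pow, one_mul, hprod]
  rw [h2]
  congr 1
  refine Finset.prod_nbij' (fun z => (starRingEnd ℂ) z) (fun z => (starRingEnd ℂ) z) hconj hconj
    ?_ ?_ ?_
  · intro z _; exact Complex.conj_conj z
  · intro z _; exact Complex.conj_conj z
  · intro z _; rfl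


theorem poly_sym (Pc : ℂ[X]) (hm : Pc.Monic) (hsep : Pc.Separable) (Q : ℝ) (hQ : 0 < Q)
    (hconj : ∀ z ∈ Pc.roots, (starRingEnd ℂ) z ∈ Pc.roots)
    (hnorm : ∀ z ∈ Pc.roots, ‖z‖ = Real.sqrt Q)
    (hnr : ∀ z ∈ Pc.roots, z.im ≠ 0) :
    Even Pc.natDegree ∧ ∀ k ≤ Pc.natDegree,
      Pc.coeff (Pc.natDegree - k) * (Q : ℂ) ^ (Pc.natDegree - k)
        = (Q : ℂ) ^ (Pc.natDegree / 2) * Pc.coeff k := by
  classical
  set S : Finset ℂ := Pc.roots.toFinset with hS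
  have hSval : S.val = Pc.roots := by
    rw [hS, Multiset.toFinset_val, Multiset.dedup_eq_self.mpr (nodup_roots hsep)]
  have hmem : ∀ z, z ∈ S ↔ z ∈ Pc.roots := fun z => Multiset.mem_toFinset
  have hcard : S.card = Pc.natDegree := by
    rw [Finset.card_def, hSval]
    exact IsAlgClosed.card_roots_eq_natDegree
  have heval : ∀ x : ℂ, Pc.eval x = ∏ z ∈ S, (x - z) := by
    intro x
    rw [(IsAlgClosed.splits Pc).eval_eq_prod_roots_of_monic hm x, ← hSval]
    rfl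
  have hconj' : ∀ z ∈ S, (starRingEnd ℂ) z ∈ S := fun z hz => (hmem _).mpr (hconj z ((hmem z).mp hz))
  have hnorm' : ∀ z ∈ S, ‖z‖ = Real.sqrt Q := fun z hz => hnorm z ((hmem z).mp hz)
  have hnr' : ∀ z ∈ S, z.im ≠ 0 := fun z hz => hnr z ((hmem z).mp hz)
  have heven : Even Pc.natDegree := by
    rw [← hcard]
    exact (func_eq S Q hQ hconj' hnorm' hnr' 1 one_ne_zero).1
  refine ⟨heven, ?_⟩
  set N := Pc.natDegree with hN
  set R : ℂ[X] := ∑ j ∈ Finset.range (N + 1), C (Pc.coeff j * (Q : ℂ) ^ j) * X ^ (N - j) with hR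
  have hRev : ∀ x : ℂ, x ≠ 0 → R.eval x = x ^ N * Pc.eval ((Q : ℂ) / x) := by
    intro x hx
    rw [hR, eval_finsetSum, eval_eq_sum_range, Finset.mul_sum]
    refine Finset.sum_congr rfl (fun j hj => ?_)
    have hj' : j ≤ N := Nat.lt_succ_iff.mp (Finset.mem_range.mp hj)
    rw [eval_mul, eval_C, eval_pow, eval_X, pow_sub₀ _ hx hj', div_pow]
    field_simp
  have hfe : ∀ x : ℂ, x ≠ 0 → R.eval x = (C ((Q : ℂ) ^ (N / 2)) * Pc).eval x := by
    intro x hx
    rw [hRev x hx, heval, eval_mul, eval_C, heval, ← hcard]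
    exact (func_eq S Q hQ hconj' hnorm' hnr' x hx).2
  have hpoly : R = C ((Q : ℂ) ^ (N / 2)) * Pc := by
    apply Polynomial.eq_of_infinite_eval_eq
    refine Set.Infinite.mono (s := ({0} : Set ℂ)ᶜ) ?_ ?_
    · intro x hx
      exact hfe x hx
    · exact (Set.finite_singleton (0 : ℂ)).infinite_compl
  intro k hk
  have hc := congrArg (fun p => p.coeff k) hpoly
  simp only [coeff_C_mul] at hc
  rw [← hc, hR, finsetSum_coeff]
  rw [Finset.sum_eq_single (N - k)]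
  · rw [coeff_C_mul_X_pow, if_pos (by omega)]
  · intro j hj hjk
    have hj' : j ≤ N := Nat.lt_succ_iff.mp (Finset.mem_range.mp hj)
    rw [coeff_C_mul_X_pow, if_neg (by omega)]
  · intro h
    exact absurd (Finset.mem_range.mpr (by omega)) h


theorem main (p e : ℕ) [Fact p.Prime] (_he : 0 < e)
    (K : Type u) [Field K] [CharZero K] (π : K) (hπ : IsIntegral ℤ π)
    (hweil : ∀ z ∈ (minpoly ℤ π).aroots ℂ, ‖z‖ = Real.sqrt ((p : ℝ) ^ e))
    (hnr : ∀ z ∈ (minpoly ℤ π).aroots ℂ, z.im ≠ 0) :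
    Even (minpoly ℤ π).natDegree ∧
      ∀ r ≤ (minpoly ℤ π).natDegree / 2,
        (minpoly ℤ π).coeff ((minpoly ℤ π).natDegree / 2 - r) =
          (p : ℤ) ^ (e * r) * (minpoly ℤ π).coeff ((minpoly ℤ π).natDegree / 2 + r) := by
  set P := minpoly ℤ π with hP
  have hmon : P.Monic := minpoly.monic hπ
  set Pc : ℂ[X] := P.map (algebraMap ℤ ℂ) with hPc
  have hroots : P.aroots ℂ = Pc.roots := rfl
  have hmonc : Pc.Monic := hmon.map _
  have hdeg : Pc.natDegree = P.natDegree := hmon.natDegree_map _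
  have hsep : Pc.Separable := by
    have hπQ : IsIntegral ℚ π := hπ.tower_top
    have h1 : minpoly ℚ π = P.map (algebraMap ℤ ℚ) :=
      minpoly.isIntegrallyClosed_eq_field_fractions' ℚ hπ
    have h2 : (minpoly ℚ π).Separable := (minpoly.irreducible hπQ).separable
    have h3 : Pc = (minpoly ℚ π).map (algebraMap ℚ ℂ) := by
      rw [h1, Polynomial.map_map, hPc,
        show (algebraMap ℚ ℂ).comp (algebraMap ℤ ℚ) = algebraMap ℤ ℂ from RingHom.ext_int _ _]
    rw [h3]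
    exact h2.map
  have hp : (0 : ℝ) < (p : ℝ) := by exact_mod_cast (Fact.out : p.Prime).pos
  have hQ : (0 : ℝ) < (p : ℝ) ^ e := pow_pos hp e
  have hconj : ∀ z ∈ Pc.roots, (starRingEnd ℂ) z ∈ Pc.roots := by
    intro z hz
    rw [mem_roots hmonc.ne_zero, IsRoot.def] at hz ⊢
    rw [hPc, eval_map] at hz ⊢
    have := Polynomial.hom_eval₂ P (algebraMap ℤ ℂ) (starRingEnd ℂ) z
    rw [hz, map_zero] at this
    rw [show (starRingEnd ℂ).comp (algebraMap ℤ ℂ) = algebraMap ℤ ℂ from RingHom.ext_int _ _] at this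
    exact this.symm
  obtain ⟨heven, hsym⟩ := poly_sym Pc hmonc hsep _ hQ hconj (hroots ▸ hweil) (hroots ▸ hnr)
  rw [hdeg] at heven hsym
  refine ⟨heven, ?_⟩
  intro r hr
  obtain ⟨d, hd⟩ := heven
  have hd2 : P.natDegree / 2 = d := by omega
  rw [hd2] at hr ⊢
  have h := hsym (d + r) (by omega)
  have e1 : P.natDegree - (d + r) = d - r := by omega
  rw [e1, hd2] at h
  have hc : ∀ j, Pc.coeff j = ((P.coeff j : ℤ) : ℂ) := by
    intro j
    rw [hPc, coeff_map, eq_intCast]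
  rw [hc, hc] at h
  have hq0 : ((((p : ℝ) ^ e : ℝ)) : ℂ) ≠ 0 := by
    have : ((p : ℝ) ^ e : ℝ) ≠ 0 := hQ.ne'
    exact_mod_cast this
  have e2 : d = (d - r) + r := by omega
  have h' : ((P.coeff (d - r) : ℤ) : ℂ) * ((((p : ℝ) ^ e : ℝ)) : ℂ) ^ (d - r) =
      ((((p : ℝ) ^ e : ℝ)) : ℂ) ^ (d - r) *
        (((((p : ℝ) ^ e : ℝ)) : ℂ) ^ r * ((P.coeff (d + r) : ℤ) : ℂ)) := by
    rw [h]
    have hpw : ((((p : ℝ) ^ e : ℝ)) : ℂ) ^ d =
        ((((p : ℝ) ^ e : ℝ)) : ℂ) ^ (d - r) * ((((p : ℝ) ^ e : ℝ)) : ℂ) ^ r := by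
      rw [← pow_add, ← e2]
    rw [hpw]
    ring
  rw [mul_comm] at h'
  have h'' := mul_left_cancel₀ (pow_ne_zero _ hq0) h'
  have : ((P.coeff (d - r) : ℤ) : ℂ) = (((p : ℤ) ^ (e * r) * P.coeff (d + r) : ℤ) : ℂ) := by
    rw [h'']
    push_cast
    rw [pow_mul]
  exact_mod_cast this

end WN


/-- Let p be a prime number, e ≥ 1 and q = p^e. Let π be an element of a field of characteristic zero
which is integral over ℤ, with minimal polynomial P over ℤ, and assume that every complex root of P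
has absolute value √q and that no complex root of P is real (π is a nonreal Weil q-number). Then the
degree of P is even, say 2d, and writing a_j for the coefficient of x^j in P one has a_{d−r} = q^r ·
a_{d+r} for every 0 ≤ r ≤ d. -/
theorem result (p e : ℕ) [Fact p.Prime] (he : 0 < e)
    (K : Type u) [Field K] [CharZero K] (π : K) (hπ : IsIntegral ℤ π)
    (hweil : ∀ z ∈ (minpoly ℤ π).aroots ℂ, ‖z‖ = Real.sqrt ((p : ℝ) ^ e))
    (hnr : ∀ z ∈ (minpoly ℤ π).aroots ℂ, z.im ≠ 0) :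
    Even (minpoly ℤ π).natDegree ∧
      ∀ r ≤ (minpoly ℤ π).natDegree / 2,
        (minpoly ℤ π).coeff ((minpoly ℤ π).natDegree / 2 - r) =
          (p : ℤ) ^ (e * r) * (minpoly ℤ π).coeff ((minpoly ℤ π).natDegree / 2 + r) :=
  WN.main p e he K π hπ hweil hnr

end Groth.Agent.S17983
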