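import Groth.Statements.S18019
import Mathlib.Algebra.Polynomial.Div
import Mathlib.Algebra.Polynomial.RingDivision
import Mathlib.Algebra.Polynomial.Degree.Lemmas
import Mathlib.Tactic.Ring
import Mathlib.Tactic.Linarith

set_option autoImplicit false
universe u
open ClassStk

namespace Groth.Agent.S18019

open Polynomial in
/-- Let R be an integral domain of characteristic 2 and let a be a nonzero element of R, so that x ↦ x +
a defines an R-algebra involution of the polynomial ring R[x] (an action of the group of order two).
A polynomial f is invariant, f(x + a) = f(x), if and only if f belongs to the R-subalgebra generated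
by u = x (x + a); in other words the ring of invariants is the polynomial ring R[u]. -/
theorem result (R : Type u) [CommRing R] [IsDomain R]
    [CharP R 2] (a : R) (ha : a ≠ 0) (f : Polynomial R) :
    f.comp (X + C a) = f ↔ f ∈ Algebra.adjoin R ({X * (X + C a)} : Set (Polynomial R)) := by
  have h2 : (2 : R) = 0 := CharP.ofNat_eq_zero R 2
  have hCa : (C a + C a : R[X]) = 0 := by rw [← C_add, ← two_mul, h2, zero_mul, C_0]
  have hucomp : (X * (X + C a) : R[X]).comp (X + C a) = X * (X + C a) := by
    simp only [mul_comp, add_comp, X_comp, C_comp]
    rw [add_assoc, hCa, add_zero, mul_comm]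
  have hmonic : (X * (X + C a) : R[X]).Monic := monic_X.mul (monic_X_add_C a)
  have hdeg : (X * (X + C a) : R[X]).natDegree = 2 := by
    rw [monic_X.natDegree_mul (monic_X_add_C a), natDegree_X, natDegree_X_add_C]
  have hne1 : (X * (X + C a) : R[X]) ≠ 1 := by
    intro h
    have := congrArg natDegree h
    rw [hdeg, natDegree_one] at this
    omega
  have hqdeg : (X + C a : R[X]).natDegree = 1 := natDegree_X_add_C a
  constructor
  · intro hf
    obtain ⟨n, hn⟩ : ∃ n, f.natDegree = n := ⟨_, rfl⟩
    induction n using Nat.strong_induction_on generalizing f with | _ n ih => ?_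
    set u : R[X] := X * (X + C a) with hu
    set q := f /ₘ u with hq
    set r := f %ₘ u with hr
    have hdecomp : r + u * q = f := modByMonic_add_div f u
    have hrdeg : r.natDegree < 2 := by
      have := natDegree_modByMonic_lt f hmonic hne1
      rw [hdeg] at this
      exact this
    have hcomp : r.comp (X + C a) + u * q.comp (X + C a) = f := by
      have := congrArg (fun p : R[X] => p.comp (X + C a)) hdecomp
      simp only [add_comp, mul_comp, hucomp, hf] at this
      exact this
    have hlt : (r.comp (X + C a)).degree < u.degree := by
      rw [degree_eq_natDegree hmonic.ne_zero, hdeg]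
      refine lt_of_le_of_lt degree_le_natDegree ?_
      rw [natDegree_comp, hqdeg, mul_one]
      exact_mod_cast hrdeg
    obtain ⟨hq', hr'⟩ := div_modByMonic_unique (q.comp (X + C a)) (r.comp (X + C a)) hmonic
      ⟨hcomp, hlt⟩
    -- r is constant
    have hrconst : r = C (r.coeff 0) := by
      have h1 := eq_X_add_C_of_natDegree_le_one (p := r) (by omega)
      have h3 : r.comp (X + C a) = r := hr'.symm
      rw [h1] at h3
      simp only [add_comp, mul_comp, C_comp, X_comp] at h3
      have h4 : C (r.coeff 1) * C a = (0 : R[X]) := by
        have : C (r.coeff 1) * (X + C a) + C (r.coeff 0) - (C (r.coeff 1) * X + C (r.coeff 0)) = 0 :=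
          sub_eq_zero.2 h3
        rw [← this]; ring
      rw [← C_mul, C_eq_zero] at h4
      have h5 : r.coeff 1 = 0 := (mul_eq_zero.1 h4).resolve_right ha
      rw [h1, h5, C_0, zero_mul, zero_add]
      simp
    have hqinv : q.comp (X + C a) = q := hq'.symm
    have hrmem : r ∈ Algebra.adjoin R ({u} : Set R[X]) := by
      rw [hrconst]
      exact Subalgebra.algebraMap_mem _ _
    rw [← hdecomp]
    by_cases hq0 : q = 0
    · rw [hq0, mul_zero, add_zero]
      exact hrmem
    · have hfdeg : 2 ≤ f.natDegree := by
        by_contra hlt2
        apply hq0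
        rw [hq, divByMonic_eq_zero_iff hmonic, degree_eq_natDegree hmonic.ne_zero, hdeg]
        refine lt_of_le_of_lt degree_le_natDegree ?_
        exact_mod_cast (by omega : f.natDegree < 2)
      have hqd : q.natDegree < n := by
        rw [hq, natDegree_divByMonic f hmonic, hdeg, ← hn]
        omega
      have hqmem := ih q.natDegree hqd q hqinv rfl
      exact Subalgebra.add_mem _ hrmem
        (Subalgebra.mul_mem _ (Algebra.subset_adjoin (Set.mem_singleton _)) hqmem)
  · intro hf
    induction hf using Algebra.adjoin_induction with
    | mem x hx => rw [Set.mem_singleton_iff] at hx; rw [hx]; exact hucomp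
    | algebraMap r => rw [Polynomial.algebraMap_apply, Algebra.algebraMap_self_apply, C_comp]
    | add x y _ _ hx hy => rw [add_comp, hx, hy]
    | mul x y _ _ hx hy => rw [mul_comp, hx, hy]

end Groth.Agent.S18019
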