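import Groth.Statements.S1802
-- import your own Groth.Agent.* helpers here
import Groth.Agent.Lib.Helper41.PuncAffine
import Groth.Agent.Lib.Helper41.LCFaltings
import Groth.Agent.S11628
import Groth.Agent.S11629

set_option autoImplicit false
universe u
open AlgebraicGeometry
open LocCoh

namespace Groth.Agent.S1802

/-- For a Noetherian ring. Let I be an ideal of a Noetherian ring A with cd(A, I) = 1, i.e. H^i_I(M) = 0
for all modules M and all i ≥ 2 but H^1_I(M) ≠ 0 for some M. Then the open subscheme Spec A minus
V(I) is nonempty and affine. -/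
theorem result (A : Type u) [CommRing A] [IsNoetherianRing A] (I : Ideal A) (h1 : LocCoh.CdLE A I 1) (h0 : ¬ LocCoh.CdLE A I 0) : Nonempty (↑(LocCoh.puncturedOpen A I) : Scheme.{u}) ∧ IsAffine (↑(LocCoh.puncturedOpen A I) : Scheme.{u}) := by
  constructor
  · by_contra hne
    apply h0
    have hall : ∀ p : PrimeSpectrum A, (I : Set A) ⊆ p.asIdeal := by
      intro p
      by_contra hp
      exact hne ⟨⟨p, hp⟩⟩
    have hnil : I ≤ (⊥ : Ideal A).radical := by
      intro f hf
      rw [Ideal.radical_eq_sInf, Ideal.mem_sInf]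
      rintro p ⟨-, hp⟩
      exact hall ⟨p, hp⟩ hf
    obtain ⟨k, hk⟩ := Ideal.exists_pow_le_of_le_radical_of_fg hnil (IsNoetherian.noetherian I)
    intro M _ _ i hi
    apply Groth.Agent.Lib.Helper41.LC.subsingleton_of_isTorsion I i hi (ModuleCat.of A M)
    intro m
    refine ⟨k, fun a ha => ?_⟩
    have : a = 0 := by simpa using hk ha
    rw [this, zero_smul]
  · exact Groth.Agent.Lib.Helper41.PuncAffine.isAffineOpen_puncturedOpen I
      ((Groth.Agent.S11629.result A I).1 ((Groth.Agent.S11628.result A I).2 h1))

end Groth.Agent.S1802
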