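import Groth.Statements.S18020
import Mathlib.Algebra.Group.Subgroup.Finite

set_option autoImplicit false
open W4c5stacksedinertia

namespace Groth.Agent.S18020

open W4c5stacksedinertia in
/-- In the rational vector space K with basis the isomorphism classes of finite groups (the class of a
group standing for its classifying groupoid), the inertia operator, which sends the class of a
finite group to the sum over its conjugacy classes of the classes of the centralizers of
representatives, preserves the subspace spanned by the classes of groups of order at most `n`. -/
theorem result (n : ℕ) (v : K) (hv : v ∈ Kle n) :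
    inertia v ∈ Kle n := by
  have hcard : ∀ (G : Type) [Group G] [Finite G], (Idx.of G).card = Nat.card G := by
    intro G _ _
    obtain ⟨e⟩ : Nonempty ((Quotient.out (s := FinGrp.setoid) (Idx.of G)).carrier ≃*
        (FinGrp.of G).carrier) := Quotient.exact (Quotient.out_eq (s := FinGrp.setoid) (Idx.of G))
    have h1 : (Idx.of G).card = Nat.card (FinGrp.of G).carrier := Nat.card_congr e.toEquiv
    rw [h1]
    change Nat.card (Fin (Nat.card G)) = Nat.card G
    simp
  rw [Kle, Finsupp.mem_supported] at hv
  change Finsupp.linearCombination ℚ _ v ∈ Kle n
  rw [Finsupp.linearCombination_apply]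
  apply Submodule.sum_mem
  intro i hi
  apply Submodule.smul_mem
  have hin : i.card ≤ n := hv hi
  unfold inertiaROf
  apply finsum_induction (p := (· ∈ Kle n)) (zero_mem _) (fun x y => add_mem)
  intro O
  rw [cl, Kle, Finsupp.mem_supported]
  intro j hj
  have hj' := Finsupp.support_single_subset hj
  rw [Finset.mem_singleton] at hj'
  subst hj'
  change (Idx.of _).card ≤ n
  rw [hcard]
  exact (Subgroup.card_le_card_group _).trans hin

end Groth.Agent.S18020
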