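import Groth.Statements.S18026
import Groth.Agent.Lib.Helper89.HensZMT3

set_option autoImplicit false
universe u
open Hensel

namespace Groth.Agent.S18026

open AlgebraicGeometry CategoryTheory in
/-- Let `A` be a henselian discrete valuation ring and `f : T ⟶ Spec A` an étale surjective morphism of
schemes. Then some open subscheme `U` of `T` is finite over `Spec A` and still maps onto it; in
particular `U → Spec A` is a finite étale cover sitting inside `T` as an open subscheme (étaleness
of the restriction is automatic, and surjectivity records that `U` meets the closed fibre). (The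
published statement asks for an open component of `T` finite étale over `Spec A`; when `T` is not
separated — two copies of `Spec A` glued along the generic point — no open and closed subset of `T`
is finite over `Spec A`, while the published proof constructs an open subscheme, the spectrum of the
local ring of `T` at a point of the closed fibre; so this row asks only for an open subscheme.) -/
theorem result
    (A : Type u) [CommRing A] [IsDomain A] [IsDiscreteValuationRing A] [HenselianLocalRing A]
    (T : Scheme.{u}) (f : T ⟶ Spec (CommRingCat.of A)) [Etale f] [Surjective f] :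
    ∃ U : T.Opens, IsFinite (U.ι ≫ f) ∧ Surjective (U.ι ≫ f) := by
  -- a point over the closed point and an affine open neighbourhood
  obtain ⟨t₀, ht₀⟩ := f.surjective (IsLocalRing.closedPoint A)
  obtain ⟨V, hV, htV⟩ : ∃ V : T.Opens, IsAffineOpen V ∧ t₀ ∈ V := by
    obtain ⟨_, ⟨V, hV, rfl⟩, htV, -⟩ := T.isBasis_affineOpens.exists_subset_of_mem_open
      (Set.mem_univ t₀) isOpen_univ
    exact ⟨V, hV, htV⟩
  have : IsAffine (V : Scheme.{u}) := hV
  have := Groth.Agent.Lib.Helper89.HensZMT.locallyQuasiFinite_of_etale (V.ι ≫ f)
  obtain ⟨W, hWc, hWfin, hWcl⟩ :=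
    Groth.Agent.Lib.Helper89.HensZMT.exists_clopen_finite_local A (V.ι ≫ f)
  refine ⟨V.ι ''ᵁ W, ?_, ?_⟩
  · have h1 : (V.ι ''ᵁ W).ι ≫ f = (V.ι.isoImage W).inv ≫ W.ι ≫ V.ι ≫ f := by
      have h2 := Scheme.Hom.isoImage_inv_ι V.ι W
      rw [← h2, Category.assoc, Category.assoc]
    rw [h1]
    infer_instance
  · -- the image of `W` is open and closed and contains the closed point
    have hopen : IsOpen (Set.range (W.ι ≫ V.ι ≫ f).base) := (W.ι ≫ V.ι ≫ f).isOpenMap.isOpen_range
    have hmem : IsLocalRing.closedPoint A ∈ Set.range (W.ι ≫ V.ι ≫ f).base := by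
      have hw : (⟨t₀, htV⟩ : V) ∈ W := hWcl ⟨t₀, htV⟩ ht₀
      exact ⟨⟨⟨t₀, htV⟩, hw⟩, ht₀⟩
    have huniv := Groth.Agent.Lib.Helper89.HensZMT.eq_univ_of_closedPoint_mem (R := A) _ hopen hmem
    constructor
    intro p
    have hp : p ∈ Set.range (W.ι ≫ V.ι ≫ f).base := by rw [huniv]; trivial
    obtain ⟨w, hw⟩ := hp
    refine ⟨(V.ι.isoImage W).hom.base w, ?_⟩
    rw [← hw]
    have := congrArg (fun g => g.base w) (Scheme.Hom.isoImage_hom_ι_assoc V.ι W f)
    exact this

end Groth.Agent.S18026
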