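import Groth.Statements.S18027
import Groth.Agent.Lib.Helper23.NeutralDim

set_option autoImplicit false
universe u
open CategoryTheory MonoidalCategory CartesianMonoidalCategory MonObj GrpObj AlgebraicGeometry CategoryTheory.Limits
open AlgGrp

namespace Groth.Agent.S18027

/-- Let `k` be a field and `u : G ⟶ H` a homomorphism of smooth `k`-group schemes which is a closed
immersion, where `G` and `H` have the same dimension. Then `u` carries the connected component of
the identity of `G` onto the connected component of the identity of `H`; as `u` is a closed
immersion and `H` is reduced, `u` therefore restricts to an isomorphism between the identity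
components. (The second printed assertion, on the groups of components, is not included.) -/
theorem result (k : Type u) [Field k]
    (G H : Over (Spec (CommRingCat.of k))) [GrpObj G] [GrpObj H]
    [Smooth G.hom] [Smooth H.hom] (u : G ⟶ H) [IsMonHom u] [IsClosedImmersion u.left]
    (hdim : topologicalKrullDim ↥G.left = topologicalKrullDim ↥H.left)
    (t : ↥((𝟙_ (Over (Spec (CommRingCat.of k)))).left)) :
    ⇑u.left.base '' connectedComponent (η[G].left.base t) = connectedComponent (η[H].left.base t) := by
  have heG : η[G].left.base t = AutSch.unitPt G := Groth.Agent.Lib.Helper23.NeutralFlat.unit_apply G t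
  have heH : η[H].left.base t = AutSch.unitPt H := Groth.Agent.Lib.Helper23.NeutralFlat.unit_apply H t
  rw [heG, heH]
  set eG := AutSch.unitPt G with heG'
  set eH := AutSch.unitPt H with heH'
  have hue : u.left.base eG = eH := by
    have h1 : η[G] ≫ u = η[H] := IsMonHom.one_hom u
    have h2 := congrArg (fun s => s.left.base t) h1
    have h3 : u.left.base (η[G].left.base t) = η[H].left.base t := h2
    rw [heG, heH] at h3
    exact h3
  haveI : LocallyOfFiniteType G.hom := inferInstance
  haveI : LocallyOfFiniteType H.hom := inferInstance
  have hZc : IsClosed (u.left.base '' connectedComponent eG) :=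
    u.left.isClosedEmbedding.isClosedMap _ isClosed_connectedComponent
  have hZsub : u.left.base '' connectedComponent eG ⊆ connectedComponent eH := by
    refine (isPreconnected_connectedComponent.image _
      u.left.continuous.continuousOn).subset_connectedComponent ?_
    exact ⟨eG, mem_connectedComponent, hue⟩
  obtain ⟨n, hn⟩ := Groth.Agent.Lib.Helper23.NeutralDim.exists_dim_eq_nat H
  have hdH := Groth.Agent.Lib.Helper23.NeutralDim.dim_neutral_eq H
  have hdG := Groth.Agent.Lib.Helper23.NeutralDim.dim_neutral_eq G
  have hhomeo : topologicalKrullDim ↥(connectedComponent eG) =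
      topologicalKrullDim ↥(u.left.base '' connectedComponent eG) :=
    IsHomeomorph.topologicalKrullDim_eq _
      (u.left.isClosedEmbedding.isEmbedding.homeomorphImage (connectedComponent eG)).isHomeomorph
  by_contra hne
  have hlt := Groth.Agent.Lib.Helper23.NeutralDim.dim_lt_of_ssubset hZc
    (Groth.Agent.Lib.Helper23.NeutralDim.isIrreducible_neutral H) hZsub hne n (hdH.trans hn)
  rw [← hhomeo, hdG, hdim, hn] at hlt
  exact lt_irrefl _ hlt

end Groth.Agent.S18027
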