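import Groth.Statements.S1803
import Mathlib
import Groth.Agent.Lib.Helper33.GorFibreRing
import Groth.Agent.Lib.Helper33.GorField

set_option autoImplicit false
universe u
open scoped TensorProduct
open Goren

namespace Groth.Agent.S1803

/-- Let k'/k be any field extension, C a k-algebra of finite type, q a prime of C ⊗_k k' and p its
contraction to C. Then C_p is Gorenstein if and only if (C ⊗_k k')_q is Gorenstein. -/
theorem result (k k' : Type u) [Field k] [Field k'] [Algebra k k'] (C : Type u) [CommRing C] [Algebra k C] [Algebra.FiniteType k C] (q : PrimeSpectrum (C ⊗[k] k')) : LocCoh.IsGorensteinLocalRing (Localization.AtPrime (q.asIdeal.comap (algebraMap C (C ⊗[k] k')))) ↔ LocCoh.IsGorensteinLocalRing (Localization.AtPrime q.asIdeal) := by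
  haveI : IsNoetherianRing C := Algebra.FiniteType.isNoetherianRing k C
  haveI : IsNoetherianRing (k' ⊗[k] C) := Algebra.FiniteType.isNoetherianRing k' (k' ⊗[k] C)
  haveI : IsNoetherianRing (C ⊗[k] k') :=
    isNoetherianRing_of_ringEquiv (k' ⊗[k] C) (Algebra.TensorProduct.comm k k' C).toRingEquiv
  constructor
  · intro hp
    -- the fibre ring is Gorenstein
    set p : Ideal C := q.asIdeal.comap (algebraMap C (C ⊗[k] k')) with hpdef
    haveI : Algebra.EssFiniteType k p.ResidueField := Algebra.EssFiniteType.comp k C p.ResidueField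
    have hfg : ∃ s : Finset p.ResidueField,
        IntermediateField.adjoin k (s : Set p.ResidueField) = ⊤ :=
      IntermediateField.fg_top_iff.2 inferInstance
    haveI : LocCoh.IsGorensteinLocalRing k' :=
      Groth.Agent.Lib.Helper33.GorTransfer.gorenstein_of_field k'
    haveI : LocCoh.IsGorensteinRing k' :=
      Groth.Agent.Lib.Helper33.GorDescent.isGorensteinRing_of_isGorensteinLocalRing k'
    haveI : LocCoh.IsGorensteinRing (p.ResidueField ⊗[k] k') :=
      Groth.Agent.Lib.Helper33.GorField.isGorensteinRing_tensor_of_fg k p.ResidueField hfg k'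
    haveI : LocCoh.IsGorensteinRing (p.Fiber (C ⊗[k] k')) :=
      Groth.Agent.Lib.Helper33.GorRing.isGorensteinRing_of_ringEquiv
        (Algebra.TensorProduct.cancelBaseChange k C C p.ResidueField k').symm.toRingEquiv
    exact (Groth.Agent.Lib.Helper33.GorFibreRing.gorenstein_localization_iff_of_gorenstein_fiber
      C (C ⊗[k] k') q.asIdeal).2 hp
  · intro hq
    exact Groth.Agent.Lib.Helper33.GorFibreRing.gorenstein_of_gorenstein_localization
      C (C ⊗[k] k') q.asIdeal hq

end Groth.Agent.S1803
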