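import Groth.Statements.S18040
import Mathlib

set_option autoImplicit false
universe u
open AdjLin

namespace Groth.Agent.S18040

/-- Let k be an algebraically closed field of characteristic zero and Z a finite set of points of
projective 3-space over k, realised as points of the projectivization of k⁴, a homogeneous form in
four variables being evaluated at the chosen representative of a point (its vanishing does not
depend on the choice). Suppose Z has the Cayley–Bacharach property in degree n: every form of degree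
n vanishing at all points of Z but one vanishes at that point as well. Then for every m ≤ n, either
there is a nonzero form of degree n − m vanishing at every point of Z, or the rank of the evaluation
map from forms of degree m to functions on Z is at most the number of points of Z minus the
dimension of the space of forms of degree n − m. -/
theorem result (k : Type u) [Field k] [IsAlgClosed k] [CharZero k]
    (Z : Finset (Projectivization k (Fin 4 → k))) (n : ℕ)
    (hCB : (∀ z ∈ Z, ∀ p : MvPolynomial (Fin 4) k, p.IsHomogeneous n →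
      (∀ z' ∈ Z, z' ≠ z → MvPolynomial.eval z'.rep p = 0) → MvPolynomial.eval z.rep p = 0))
    (m : ℕ) (hm : m ≤ n) :
    (∃ s : MvPolynomial (Fin 4) k, s.IsHomogeneous (n - m) ∧ s ≠ 0 ∧ ∀ z ∈ Z, MvPolynomial.eval z.rep s = 0) ∨
      Module.finrank k (LinearMap.range
          ((LinearMap.pi fun z : ↥Z => (MvPolynomial.aeval (R := k) z.1.rep).toLinearMap) ∘ₗ
            (MvPolynomial.homogeneousSubmodule (Fin 4) k m).subtype)) +
        Module.finrank k ↥(MvPolynomial.homogeneousSubmodule (Fin 4) k (n - m)) ≤ Z.card := by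
  classical
  by_cases hex : ∃ s : MvPolynomial (Fin 4) k, s.IsHomogeneous (n - m) ∧ s ≠ 0 ∧
      ∀ z ∈ Z, MvPolynomial.eval z.rep s = 0
  · exact Or.inl hex
  right
  push_neg at hex
  -- evaluation maps
  let ev : ∀ d, ↥(MvPolynomial.homogeneousSubmodule (Fin 4) k d) →ₗ[k] (↥Z → k) := fun d =>
    (LinearMap.pi fun z : ↥Z => (MvPolynomial.aeval (R := k) z.1.rep).toLinearMap) ∘ₗ
      (MvPolynomial.homogeneousSubmodule (Fin 4) k d).subtype
  have hev : ∀ d (p : ↥(MvPolynomial.homogeneousSubmodule (Fin 4) k d)) (z : ↥Z),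
      ev d p z = MvPolynomial.eval z.1.rep p.1 := by
    intro d p z
    rfl
  -- diagonal bilinear forms
  have hBapply : ∀ (φ a b : ↥Z → k), Matrix.toBilin' (Matrix.diagonal φ) a b =
      ∑ z, φ z * a z * b z := by
    intro φ a b
    rw [Matrix.toBilin'_apply', dotProduct]
    apply Finset.sum_congr rfl
    intro z _
    rw [Matrix.mulVec_diagonal]
    ring
  have hBnd : ∀ φ : ↥Z → k, (∀ z, φ z ≠ 0) →
      (Matrix.toBilin' (Matrix.diagonal φ)).Nondegenerate := by
    intro φ hφ
    apply LinearMap.BilinForm.nondegenerate_toBilin'_of_det_ne_zero'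
    rw [Matrix.det_diagonal]
    exact Finset.prod_ne_zero_iff.mpr (fun z _ => hφ z)
  have hBsymm : ∀ φ : ↥Z → k, (Matrix.toBilin' (Matrix.diagonal φ)).IsRefl := by
    intro φ
    apply LinearMap.IsSymm.isRefl
    constructor
    intro a b
    simp only [RingHom.id_apply]
    rw [hBapply, hBapply]
    apply Finset.sum_congr rfl
    intro z _
    ring
  set B₀ : LinearMap.BilinForm k (↥Z → k) := Matrix.toBilin' (Matrix.diagonal (fun _ => 1)) with hB₀
  have hB₀apply : ∀ a b : ↥Z → k, B₀ a b = ∑ z, a z * b z := by
    intro a b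
    rw [hB₀, hBapply]
    simp
  have hB₀nd : B₀.Nondegenerate := hBnd _ (fun _ => one_ne_zero)
  have hB₀refl : B₀.IsRefl := hBsymm _
  set Wn := LinearMap.range (ev n) with hWn
  set N := B₀.orthogonal Wn with hN
  have hcoord : ∀ z : ↥Z, ∃ φ : ↥N, (φ : ↥Z → k) z ≠ 0 := by
    intro z
    by_contra hcon
    push_neg at hcon
    have hez : (Pi.single z 1 : ↥Z → k) ∈ B₀.orthogonal N := by
      rw [LinearMap.BilinForm.mem_orthogonal_iff]
      intro φ hφ
      rw [hB₀apply]
      apply Finset.sum_eq_zero
      intro z' _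
      by_cases hz' : z' = z
      · subst hz'
        have h0 : φ z' = 0 := hcon ⟨φ, hφ⟩
        rw [h0, zero_mul]
      · rw [Pi.single_apply, if_neg hz', mul_zero]
    rw [hN, LinearMap.BilinForm.orthogonal_orthogonal hB₀nd hB₀refl] at hez
    obtain ⟨p, hp⟩ := hez
    have hpz := hCB z.1 z.2 p.1 ((MvPolynomial.mem_homogeneousSubmodule _ _).mp p.2) (by
      intro z' hz' hne
      have := congrFun hp ⟨z', hz'⟩
      rw [hev] at this
      rw [this, Pi.single_apply, if_neg]
      intro h
      exact hne (congrArg Subtype.val h))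
    have := congrFun hp z
    rw [hev, hpz, Pi.single_eq_same] at this
    exact zero_ne_one this
  obtain ⟨φ, hφ⟩ := Module.Dual.exists_forall_ne_zero_of_forall_exists (K := k) (M := ↥N)
    (fun z => (LinearMap.proj z : (↥Z → k) →ₗ[k] k) ∘ₗ N.subtype) hcoord
  have hφ' : ∀ z, (φ : ↥Z → k) z ≠ 0 := hφ
  set Bφ : LinearMap.BilinForm k (↥Z → k) := Matrix.toBilin' (Matrix.diagonal (φ : ↥Z → k)) with hBφ
  have hle : LinearMap.range (ev m) ≤ Bφ.orthogonal (LinearMap.range (ev (n - m))) := by
    rintro _ ⟨p, rfl⟩
    rw [LinearMap.BilinForm.mem_orthogonal_iff]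
    rintro _ ⟨q, rfl⟩
    rw [hBφ, hBapply]
    -- the product q * p is homogeneous of degree n
    have hqp : (q.1 * p.1).IsHomogeneous n := by
      have := ((MvPolynomial.mem_homogeneousSubmodule _ _).mp q.2).mul
        ((MvPolynomial.mem_homogeneousSubmodule _ _).mp p.2)
      rwa [Nat.sub_add_cancel hm] at this
    have hmem : ev n ⟨q.1 * p.1, (MvPolynomial.mem_homogeneousSubmodule _ _).mpr hqp⟩ ∈ Wn :=
      ⟨_, rfl⟩
    have hφN : (φ : ↥Z → k) ∈ B₀.orthogonal Wn := φ.2
    rw [LinearMap.BilinForm.mem_orthogonal_iff] at hφN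
    have h0 := hφN _ hmem
    rw [hB₀apply] at h0
    rw [← h0]
    apply Finset.sum_congr rfl
    intro z _
    rw [hev, hev, hev]
    simp only [map_mul]
    ring
  have hinj : Function.Injective (ev (n - m)) := by
    rw [← LinearMap.ker_eq_bot, LinearMap.ker_eq_bot']
    intro q hq
    by_contra hne
    have hq1 : q.1 ≠ 0 := fun h => hne (Subtype.ext h)
    obtain ⟨z, hz, hzne⟩ := hex q.1 ((MvPolynomial.mem_homogeneousSubmodule _ _).mp q.2) hq1
    have := congrFun hq ⟨z, hz⟩
    rw [hev] at this
    exact hzne this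
  have h1 := Submodule.finrank_mono hle
  rw [LinearMap.BilinForm.finrank_orthogonal (hBnd _ hφ'), LinearMap.finrank_range_of_inj hinj] at h1
  have h2 : Module.finrank k (↥Z → k) = Z.card := by
    rw [Module.finrank_fintype_fun_eq_card, Fintype.card_coe]
  rw [h2] at h1
  have h3 : Module.finrank k ↥(MvPolynomial.homogeneousSubmodule (Fin 4) k (n - m)) ≤ Z.card := by
    rw [← LinearMap.finrank_range_of_inj hinj, ← h2]
    exact Submodule.finrank_le _
  show Module.finrank k (LinearMap.range (ev m)) + _ ≤ _
  omega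

end Groth.Agent.S18040
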