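import Groth.Statements.S18042
import Mathlib
import Groth.Agent.Lib.Helper95.CBPoints

set_option autoImplicit false
universe u
open AdjLin

namespace Groth.Agent.S18042

open Groth.Agent.Lib.Helper95.CBPoints MvPolynomial

section LA
variable {k : Type u} [Field k]

lemma finrank_V : Module.finrank k (Fin 4 → k) = 4 := by simp

/-- proper subspaces are killed by a nonzero functional -/
lemma exists_ne_zero_vanish (U : Submodule k (Fin 4 → k)) (hU : Module.finrank k U ≤ 3) :
    ∃ ψ : Module.Dual k (Fin 4 → k), ψ ≠ 0 ∧ ∀ x ∈ U, ψ x = 0 := by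
  have hne : U ≠ ⊤ := by
    rintro rfl
    rw [finrank_top, finrank_V] at hU
    omega
  obtain ⟨v, hv⟩ : ∃ v, v ∉ U := by
    by_contra h
    push Not at h
    exact hne (eq_top_iff.2 fun x _ => h x)
  obtain ⟨ψ, hψ, hψ'⟩ := exists_sep U v hv
  exact ⟨ψ, fun h0 => hψ (by rw [h0]; rfl), hψ'⟩

/-- exact kernel functional for a 3-dimensional subspace -/
lemma exists_ker_eq (U : Submodule k (Fin 4 → k)) (hU : Module.finrank k U = 3) :
    ∃ ψ : Module.Dual k (Fin 4 → k), ∀ x, ψ x = 0 ↔ x ∈ U := by
  have h1 : Module.finrank k ((Fin 4 → k) ⧸ U) = 1 := by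
    have := Submodule.finrank_quotient_add_finrank U
    rw [hU, finrank_V] at this
    omega
  let e : ((Fin 4 → k) ⧸ U) ≃ₗ[k] k := LinearEquiv.ofFinrankEq _ _ (by rw [h1]; simp)
  refine ⟨e.toLinearMap ∘ₗ U.mkQ, fun x => ?_⟩
  simp [Submodule.Quotient.mk_eq_zero]

lemma finrank_sup_span (W : Submodule k (Fin 4 → k)) (hW : Module.finrank k W = 2)
    (v : Fin 4 → k) (hv : v ∉ W) : Module.finrank k ↥(W ⊔ Submodule.span k {v}) = 3 := by
  have hv0 : v ≠ 0 := fun h => hv (h ▸ W.zero_mem)
  have hinf : W ⊓ Submodule.span k {v} = ⊥ := by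
    rw [eq_bot_iff]
    rintro x ⟨hxW, hxs⟩
    obtain ⟨c, rfl⟩ := Submodule.mem_span_singleton.1 hxs
    by_cases hc : c = 0
    · simp [hc]
    · exfalso
      apply hv
      have := W.smul_mem c⁻¹ hxW
      rwa [smul_smul, inv_mul_cancel₀ hc, one_smul] at this
  have := Submodule.finrank_sup_add_finrank_inf_eq W (Submodule.span k {v})
  rw [hinf, finrank_bot, hW, finrank_span_singleton hv0] at this
  omega

lemma sup_span_eq (W : Submodule k (Fin 4 → k)) (hW : Module.finrank k W = 2)
    (v v' : Fin 4 → k) (hv : v ∉ W) (hv' : v' ∉ W) (h : v' ∈ W ⊔ Submodule.span k {v}) :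
    W ⊔ Submodule.span k {v'} = W ⊔ Submodule.span k {v} := by
  apply Submodule.eq_of_le_of_finrank_eq
  · exact sup_le le_sup_left ((Submodule.span_singleton_le_iff_mem _ _).2 h)
  · rw [finrank_sup_span W hW v' hv', finrank_sup_span W hW v hv]

lemma finrank_span_pair {p q : Projectivization k (Fin 4 → k)} (hpq : p ≠ q) :
    Module.finrank k ↥(Submodule.span k (Set.range (Projectivization.rep ∘ ![p, q]))) = 2 := by
  have hli : LinearIndependent k (Projectivization.rep ∘ ![p, q]) :=
    Projectivization.independent_iff.1 ((Projectivization.independent_pair_iff_ne p q).2 hpq)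
  rw [finrank_span_eq_card hli]; rfl

lemma line_unique (W W' : Submodule k (Fin 4 → k)) (hW : Module.finrank k W = 2)
    (hW' : Module.finrank k W' = 2) {p q : Projectivization k (Fin 4 → k)} (hpq : p ≠ q)
    (hp : p.rep ∈ W) (hq : q.rep ∈ W) (hp' : p.rep ∈ W') (hq' : q.rep ∈ W') : W = W' := by
  have hS := finrank_span_pair hpq
  have hle : ∀ U : Submodule k (Fin 4 → k), p.rep ∈ U → q.rep ∈ U →
      Submodule.span k (Set.range (Projectivization.rep ∘ ![p, q])) ≤ U := by
    intro U h1 h2
    rw [Submodule.span_le]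
    rintro _ ⟨i, rfl⟩
    fin_cases i
    · exact h1
    · exact h2
  have e1 := Submodule.eq_of_le_of_finrank_eq (hle W hp hq) (by rw [hS, hW])
  have e2 := Submodule.eq_of_le_of_finrank_eq (hle W' hp' hq') (by rw [hS, hW'])
  rw [← e1, ← e2]

end LA


section Geo
variable {k : Type u} [Field k]

def Coplanar (Z : Finset (Projectivization k (Fin 4 → k))) : Prop :=
  ∃ φ : Module.Dual k (Fin 4 → k), φ ≠ 0 ∧ ∀ z ∈ Z, φ z.rep = 0

def Skew (Z : Finset (Projectivization k (Fin 4 → k))) : Prop :=
  ∃ W₁ W₂ : Submodule k (Fin 4 → k), Module.finrank k ↥W₁ = 2 ∧ Module.finrank k ↥W₂ = 2 ∧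
    W₁ ⊓ W₂ = ⊥ ∧ ∀ z ∈ Z, z.rep ∈ W₁ ∨ z.rep ∈ W₂

lemma coplanar_of_le {Z : Finset (Projectivization k (Fin 4 → k))} (U : Submodule k (Fin 4 → k))
    (hU : Module.finrank k U ≤ 3) (hZ : ∀ z ∈ Z, z.rep ∈ U) : Coplanar Z := by
  obtain ⟨ψ, hψ, hψ'⟩ := exists_ne_zero_vanish U hU
  exact ⟨ψ, hψ, fun z hz => hψ' _ (hZ z hz)⟩

lemma two_lines {Z : Finset (Projectivization k (Fin 4 → k))} (W₁ W₂ : Submodule k (Fin 4 → k))
    (h1 : Module.finrank k ↥W₁ = 2) (h2 : Module.finrank k ↥W₂ = 2)
    (hZ : ∀ z ∈ Z, z.rep ∈ W₁ ∨ z.rep ∈ W₂) : Coplanar Z ∨ Skew Z := by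
  by_cases hinf : W₁ ⊓ W₂ = ⊥
  · right; exact ⟨W₁, W₂, h1, h2, hinf, hZ⟩
  · left
    have hpos : 0 < Module.finrank k ↥(W₁ ⊓ W₂) := by
      rw [Module.finrank_pos_iff, Submodule.nontrivial_iff_ne_bot]
      exact hinf
    have := Submodule.finrank_sup_add_finrank_inf_eq W₁ W₂
    refine coplanar_of_le (W₁ ⊔ W₂) (by omega) fun z hz => ?_
    rcases hZ z hz with h | h
    · exact Submodule.mem_sup_left h
    · exact Submodule.mem_sup_right h

/-- covering lemma: `≤ j` planes covering `Z \ {z}` must pass through `z`. -/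
lemma cover {Z : Finset (Projectivization k (Fin 4 → k))} {j : ℕ} (h : CB Z j)
    {z : Projectivization k (Fin 4 → k)} (hz : z ∈ Z) (s : Finset (Module.Dual k (Fin 4 → k)))
    (hs : s.card ≤ j) (hcov : ∀ z' ∈ Z, z' ≠ z → ∃ φ ∈ s, φ z'.rep = 0) :
    ∃ φ ∈ s, φ z.rep = 0 := by
  obtain ⟨φ0, hφ0, -⟩ := exists_sep ⊥ z.rep (by simpa using z.rep_nonzero)
  have hh : ((∏ φ ∈ s, lin φ) * lin φ0 ^ (j - s.card)).IsHomogeneous j := by
    have h1 : (∏ φ ∈ s, lin φ).IsHomogeneous (∑ _φ ∈ s, 1) :=
      IsHomogeneous.prod s (fun φ => lin φ) (fun _ => 1) (fun φ _ => lin_hom φ)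
    have h2 : (lin φ0 ^ (j - s.card)).IsHomogeneous (j - s.card) := by
      simpa using (lin_hom φ0).pow (j - s.card)
    have h3 := h1.mul h2
    rw [Finset.sum_const, smul_eq_mul, mul_one, Nat.add_sub_cancel' hs] at h3
    exact h3
  have h1 := h z hz _ hh ?_
  · rw [map_mul, map_prod, map_pow, lin_eval] at h1
    have h2 := (mul_eq_zero.1 h1).resolve_right (pow_ne_zero _ hφ0)
    obtain ⟨φ, hφs, hφ⟩ := Finset.prod_eq_zero_iff.1 h2
    rw [lin_eval] at hφ
    exact ⟨φ, hφs, hφ⟩
  · intro z' hz' hne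
    obtain ⟨φ, hφs, hφ⟩ := hcov z' hz' hne
    rw [map_mul, map_prod]
    rw [Finset.prod_eq_zero hφs (by rw [lin_eval]; exact hφ), zero_mul]

end Geo


section Count
variable {k : Type u} [Field k]

lemma vanish_on_line (W : Submodule k (Fin 4 → k)) (hW : Module.finrank k W = 2)
    {p q : Projectivization k (Fin 4 → k)} (hpq : p ≠ q) (hp : p.rep ∈ W) (hq : q.rep ∈ W)
    (φ : Module.Dual k (Fin 4 → k)) (hφp : φ p.rep = 0) (hφq : φ q.rep = 0) :
    ∀ w ∈ W, φ w = 0 := by
  have hS := finrank_span_pair hpq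
  have hle : Submodule.span k (Set.range (Projectivization.rep ∘ ![p, q])) ≤ W := by
    rw [Submodule.span_le]
    rintro _ ⟨i, rfl⟩
    fin_cases i
    · exact hp
    · exact hq
  have e1 := Submodule.eq_of_le_of_finrank_eq hle (by rw [hS, hW])
  intro w hw
  rw [← e1] at hw
  have hker : Submodule.span k (Set.range (Projectivization.rep ∘ ![p, q])) ≤ LinearMap.ker φ := by
    rw [Submodule.span_le]
    rintro _ ⟨i, rfl⟩
    fin_cases i
    · exact hφp
    · exact hφq
  exact hker hw

open Classical in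
lemma count {Z : Finset (Projectivization k (Fin 4 → k))} {j : ℕ} (hj : 1 ≤ j) (h : CB Z j)
    (W₁ W₂ : Submodule k (Fin 4 → k)) (h2 : Module.finrank k ↥W₂ = 2)
    (hinf : W₁ ⊓ W₂ = ⊥) (hZ : ∀ z ∈ Z, z.rep ∈ W₁ ∨ z.rep ∈ W₂)
    (hne1 : ∃ z ∈ Z, z.rep ∈ W₁) : j + 2 ≤ (Z.filter fun z => z.rep ∈ W₁).card := by
  by_contra hlt
  push Not at hlt
  obtain ⟨z, hzZ, hz1⟩ := hne1
  have hnot2 : ∀ y : Projectivization k (Fin 4 → k), y.rep ∈ W₁ → y.rep ∉ W₂ := by
    intro y hy1 hy2
    have : y.rep ∈ W₁ ⊓ W₂ := ⟨hy1, hy2⟩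
    rw [hinf] at this
    exact y.rep_nonzero ((Submodule.mem_bot k).1 this)
  -- the plane through `W₂` and a point of `W₁` does not contain another point of `W₁`
  have hsepar : ∀ y : Projectivization k (Fin 4 → k), y.rep ∈ W₁ → y ≠ z →
      z.rep ∉ W₂ ⊔ Submodule.span k {y.rep} := by
    intro y hy1 hyz hmem
    obtain ⟨w, hw, u, hu, hwu⟩ := Submodule.mem_sup.1 hmem
    obtain ⟨c, rfl⟩ := Submodule.mem_span_singleton.1 hu
    have hw1 : w ∈ W₁ := by
      have : w = z.rep - c • y.rep := by rw [← hwu]; abel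
      rw [this]
      exact W₁.sub_mem hz1 (W₁.smul_mem c hy1)
    have hw0 : w = 0 := by
      have : w ∈ W₁ ⊓ W₂ := ⟨hw1, hw⟩
      rw [hinf] at this
      exact (Submodule.mem_bot k).1 this
    rw [hw0, zero_add] at hwu
    exact rep_notMem_span (Ne.symm hyz) (Submodule.mem_span_singleton.2 ⟨c, hwu⟩)
  by_cases hne : ((Z.filter fun z => z.rep ∈ W₁).erase z).Nonempty
  · -- choose planes
    have hex : ∀ y : Projectivization k (Fin 4 → k), ∃ ψ : Module.Dual k (Fin 4 → k),
        y.rep ∈ W₁ → ∀ x, ψ x = 0 ↔ x ∈ W₂ ⊔ Submodule.span k {y.rep} := by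
      intro y
      by_cases hy : y.rep ∈ W₁
      · obtain ⟨ψ, hψ⟩ := exists_ker_eq _ (finrank_sup_span W₂ h2 y.rep (hnot2 y hy))
        exact ⟨ψ, fun _ => hψ⟩
      · exact ⟨0, fun h => absurd h hy⟩
    choose ψ hψ using hex
    have hcard : (((Z.filter fun z => z.rep ∈ W₁).erase z).image ψ).card ≤ j := by
      refine le_trans Finset.card_image_le ?_
      rw [Finset.card_erase_of_mem (Finset.mem_filter.2 ⟨hzZ, hz1⟩)]
      omega
    obtain ⟨φ, hφs, hφz⟩ := cover h hzZ _ hcard (by
      intro z' hz' hne'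
      rcases hZ z' hz' with h1 | h2'
      · refine ⟨ψ z', Finset.mem_image_of_mem _ (Finset.mem_erase.2 ⟨hne', Finset.mem_filter.2 ⟨hz', h1⟩⟩), ?_⟩
        rw [hψ z' h1]
        exact Submodule.mem_sup_right (Submodule.mem_span_singleton_self _)
      · obtain ⟨y, hy⟩ := hne
        have hy1 : y.rep ∈ W₁ := (Finset.mem_filter.1 (Finset.mem_of_mem_erase hy)).2
        refine ⟨ψ y, Finset.mem_image_of_mem _ hy, ?_⟩
        rw [hψ y hy1]
        exact Submodule.mem_sup_left h2')
    obtain ⟨y, hy, rfl⟩ := Finset.mem_image.1 hφs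
    have hy1 : y.rep ∈ W₁ := (Finset.mem_filter.1 (Finset.mem_of_mem_erase hy)).2
    have hyz : y ≠ z := Finset.ne_of_mem_erase hy
    exact hsepar y hy1 hyz ((hψ y hy1 _).1 hφz)
  · rw [Finset.not_nonempty_iff_eq_empty] at hne
    obtain ⟨ψ0, hψ0, hψ0'⟩ := exists_sep W₂ z.rep (hnot2 z hz1)
    obtain ⟨φ, hφs, hφz⟩ := cover h hzZ {ψ0} (by simpa using hj) (by
      intro z' hz' hne'
      refine ⟨ψ0, Finset.mem_singleton_self _, ?_⟩
      rcases hZ z' hz' with h1 | h2'
      · exfalso
        have : z' ∈ (Z.filter fun z => z.rep ∈ W₁).erase z :=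
          Finset.mem_erase.2 ⟨hne', Finset.mem_filter.2 ⟨hz', h1⟩⟩
        rw [hne] at this
        exact absurd this (Finset.notMem_empty _)
      · exact hψ0' _ h2')
    rw [Finset.mem_singleton] at hφs
    rw [hφs] at hφz
    exact hψ0 hφz

end Count


section Main
variable {k : Type u} [Field k]

open Classical in
theorem main : ∀ (m : ℕ) (Z : Finset (Projectivization k (Fin 4 → k))), CB Z m →
    Z.card ≤ 3 * m + 1 → Coplanar Z ∨ Skew Z := by
  intro m
  induction m with
  | zero =>
    intro Z h hcard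
    by_cases hne : Z.Nonempty
    · have := part1 0 Z h hne
      omega
    · rw [Finset.not_nonempty_iff_eq_empty] at hne
      left
      exact coplanar_of_le ⊥ (by simp) (by rw [hne]; simp)
  | succ m ih =>
    intro Z h hcard
    by_contra hcon
    push Not at hcon
    obtain ⟨hncop, hnskew⟩ := hcon
    have hnc : ∀ φ : Module.Dual k (Fin 4 → k), φ ≠ 0 → (Z.filter fun z => φ z.rep ≠ 0).Nonempty := by
      intro φ hφ
      by_contra hempty
      rw [Finset.not_nonempty_iff_eq_empty, Finset.filter_eq_empty_iff] at hempty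
      exact hncop ⟨φ, hφ, fun z hz => not_not.1 (hempty hz)⟩
    by_cases hA : ∃ φ : Module.Dual k (Fin 4 → k), (Z.filter fun z => φ z.rep ≠ 0).Nonempty ∧
        (Z.filter fun z => φ z.rep ≠ 0).card ≤ 2 * m + 1
    · -- Case A
      obtain ⟨φ, hRne, hRcard⟩ := hA
      have hCBR : CB (Z.filter fun z => φ z.rep ≠ 0) m := h.filter φ
      obtain ⟨WL, hWL, hRL⟩ := part2 m _ hCBR hRne hRcard
      have hR2 := part1 m _ hCBR hRne
      have hTne : (Z.filter fun z => z.rep ∉ WL).Nonempty := by
        by_contra hempty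
        rw [Finset.not_nonempty_iff_eq_empty, Finset.filter_eq_empty_iff] at hempty
        exact hncop (coplanar_of_le WL (by omega) fun z hz => not_not.1 (hempty hz))
      have hRT : Disjoint (Z.filter fun z => φ z.rep ≠ 0) (Z.filter fun z => z.rep ∉ WL) := by
        rw [Finset.disjoint_left]
        intro z hz hz'
        exact (Finset.mem_filter.1 hz').2 (hRL z hz)
      have hTcard : (Z.filter fun z => z.rep ∉ WL).card ≤ 2 * m + 2 := by
        have h6 : (Z.filter fun z => φ z.rep ≠ 0).card + (Z.filter fun z => z.rep ∉ WL).card ≤ Z.card := by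
          rw [← Finset.card_union_of_disjoint hRT]
          exact Finset.card_le_card (Finset.union_subset (Finset.filter_subset _ _) (Finset.filter_subset _ _))
        omega
      have key : ∀ a ∈ (Z.filter fun z => z.rep ∉ WL), ∃ ψ : Module.Dual k (Fin 4 → k),
          (∀ x, ψ x = 0 ↔ x ∈ WL ⊔ Submodule.span k {a.rep}) ∧
          (Z.filter fun z => ψ z.rep ≠ 0) ⊆ (Z.filter fun z => z.rep ∉ WL) ∧
          m + 2 ≤ (Z.filter fun z => ψ z.rep ≠ 0).card ∧
          ∃ N : Submodule k (Fin 4 → k), Module.finrank k ↥N = 2 ∧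
            ∀ z ∈ (Z.filter fun z => ψ z.rep ≠ 0), z.rep ∈ N := by
        intro a ha
        have haL : a.rep ∉ WL := (Finset.mem_filter.1 ha).2
        have hU3 := finrank_sup_span WL hWL _ haL
        obtain ⟨ψ, hψ⟩ := exists_ker_eq (WL ⊔ Submodule.span k {a.rep}) hU3
        have hψ0 : ψ ≠ 0 := by
          intro h0
          have htop : WL ⊔ Submodule.span k {a.rep} = ⊤ := by
            rw [eq_top_iff]
            intro x _
            rw [← hψ, h0]; rfl
          rw [htop, finrank_top, finrank_V] at hU3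
          omega
        have hSne := hnc ψ hψ0
        have hST : (Z.filter fun z => ψ z.rep ≠ 0) ⊆ (Z.filter fun z => z.rep ∉ WL) := by
          intro z hz
          rw [Finset.mem_filter] at hz ⊢
          refine ⟨hz.1, fun hzL => hz.2 ?_⟩
          rw [hψ]; exact Submodule.mem_sup_left hzL
        have hScard : (Z.filter fun z => ψ z.rep ≠ 0).card ≤ 2 * m + 1 := by
          have hsub : (Z.filter fun z => ψ z.rep ≠ 0) ⊆ (Z.filter fun z => z.rep ∉ WL).erase a := by
            intro z hz
            rw [Finset.mem_erase]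
            refine ⟨?_, hST hz⟩
            rintro rfl
            apply (Finset.mem_filter.1 hz).2
            rw [hψ]; exact Submodule.mem_sup_right (Submodule.mem_span_singleton_self _)
          have := Finset.card_le_card hsub
          rw [Finset.card_erase_of_mem ha] at this
          omega
        have hCBS := h.filter ψ
        obtain ⟨N, hN, hSN⟩ := part2 m _ hCBS hSne hScard
        exact ⟨ψ, hψ, hST, part1 m _ hCBS hSne, N, hN, hSN⟩
      obtain ⟨a, ha⟩ := hTne
      obtain ⟨ψa, hψa, hSaT, hSa2, Na, hNa, hSaN⟩ := key a ha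
      obtain ⟨b, hb⟩ : (Z.filter fun z => ψa z.rep ≠ 0).Nonempty := by
        rw [← Finset.card_pos]; omega
      have hbT := hSaT hb
      obtain ⟨ψb, hψb, hSbT, hSb2, Nb, hNb, hSbN⟩ := key b hbT
      have haL : a.rep ∉ WL := (Finset.mem_filter.1 ha).2
      have hbL : b.rep ∉ WL := (Finset.mem_filter.1 hbT).2
      have hψab : ψa b.rep ≠ 0 := (Finset.mem_filter.1 hb).2
      have hinter : 2 ≤ ((Z.filter fun z => ψa z.rep ≠ 0) ∩ (Z.filter fun z => ψb z.rep ≠ 0)).card := by
        have h7 := Finset.card_union_add_card_inter (Z.filter fun z => ψa z.rep ≠ 0)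
          (Z.filter fun z => ψb z.rep ≠ 0)
        have h8 : ((Z.filter fun z => ψa z.rep ≠ 0) ∪ (Z.filter fun z => ψb z.rep ≠ 0)).card ≤
            (Z.filter fun z => z.rep ∉ WL).card := Finset.card_le_card (Finset.union_subset hSaT hSbT)
        omega
      obtain ⟨p, hp, q, hq, hpq⟩ := Finset.one_lt_card.1 (by omega :
        1 < ((Z.filter fun z => ψa z.rep ≠ 0) ∩ (Z.filter fun z => ψb z.rep ≠ 0)).card)
      have hN : Na = Nb := line_unique Na Nb hNa hNb hpq
        (hSaN p (Finset.mem_of_mem_inter_left hp)) (hSaN q (Finset.mem_of_mem_inter_left hq))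
        (hSbN p (Finset.mem_of_mem_inter_right hp)) (hSbN q (Finset.mem_of_mem_inter_right hq))
      have hTN : ∀ z ∈ (Z.filter fun z => z.rep ∉ WL), z.rep ∈ Na := by
        intro z hz
        by_cases h1 : ψa z.rep ≠ 0
        · exact hSaN z (Finset.mem_filter.2 ⟨(Finset.mem_filter.1 hz).1, h1⟩)
        by_cases h2 : ψb z.rep ≠ 0
        · rw [hN]; exact hSbN z (Finset.mem_filter.2 ⟨(Finset.mem_filter.1 hz).1, h2⟩)
        exfalso
        rw [not_not] at h1 h2
        have hzL : z.rep ∉ WL := (Finset.mem_filter.1 hz).2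
        have e1 := sup_span_eq WL hWL a.rep z.rep haL hzL ((hψa _).1 h1)
        have e2 := sup_span_eq WL hWL b.rep z.rep hbL hzL ((hψb _).1 h2)
        apply hψab
        rw [hψa, ← e1, e2]
        exact Submodule.mem_sup_right (Submodule.mem_span_singleton_self _)
      have hfin := two_lines (Z := Z) WL Na hWL hNa (fun z hz => by
        by_cases hzL : z.rep ∈ WL
        · left; exact hzL
        · right; exact hTN z (Finset.mem_filter.2 ⟨hz, hzL⟩))
      rcases hfin with h' | h'
      · exact hncop h'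
      · exact hnskew h'
    · -- Case B
      push Not at hA
      have hZne : Z.Nonempty := by
        by_contra hempty
        rw [Finset.not_nonempty_iff_eq_empty] at hempty
        exact hncop (coplanar_of_le ⊥ (by simp) (by rw [hempty]; simp))
      have hZ3 := part1 (m + 1) Z h hZne
      obtain ⟨a, b, c, ha, hb, hc, hab, hac, hbc⟩ := Finset.two_lt_card_iff.1 (by omega : 2 < Z.card)
      obtain ⟨φ, hφ0, hφ⟩ := exists_ne_zero_vanish
        (Submodule.span k (Set.range ![a.rep, b.rep, c.rep]))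
        (le_trans (finrank_range_le_card _) (by simp))
      have hφa : φ a.rep = 0 := hφ _ (Submodule.subset_span ⟨0, rfl⟩)
      have hφb : φ b.rep = 0 := hφ _ (Submodule.subset_span ⟨1, rfl⟩)
      have hφc : φ c.rep = 0 := hφ _ (Submodule.subset_span ⟨2, rfl⟩)
      have hRne := hnc φ hφ0
      have hRge := hA φ hRne
      have hRle : (Z.filter fun z => φ z.rep ≠ 0).card + 3 ≤ Z.card := by
        have hsub : (Z.filter fun z => φ z.rep ≠ 0) ⊆ ((Z.erase a).erase b).erase c := by
          intro z hz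
          rw [Finset.mem_filter] at hz
          rw [Finset.mem_erase, Finset.mem_erase, Finset.mem_erase]
          refine ⟨?_, ?_, ?_, hz.1⟩
          · rintro rfl; exact hz.2 hφc
          · rintro rfl; exact hz.2 hφb
          · rintro rfl; exact hz.2 hφa
        have h5 := Finset.card_le_card hsub
        rw [Finset.card_erase_of_mem (Finset.mem_erase.2 ⟨hbc.symm, Finset.mem_erase.2 ⟨hac.symm, hc⟩⟩),
          Finset.card_erase_of_mem (Finset.mem_erase.2 ⟨hab.symm, hb⟩), Finset.card_erase_of_mem ha] at h5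
        omega
      have hCBR : CB (Z.filter fun z => φ z.rep ≠ 0) m := h.filter φ
      have hB1 : ¬ Coplanar (Z.filter fun z => φ z.rep ≠ 0) := by
        rintro ⟨φ', hφ'0, hφ'⟩
        have hR'ne := hnc φ' hφ'0
        have hR'ge := hA φ' hR'ne
        have hdisj : Disjoint (Z.filter fun z => φ z.rep ≠ 0) (Z.filter fun z => φ' z.rep ≠ 0) := by
          rw [Finset.disjoint_left]
          intro z hz hz'
          exact (Finset.mem_filter.1 hz').2 (hφ' z hz)
        have h6 : (Z.filter fun z => φ z.rep ≠ 0).card + (Z.filter fun z => φ' z.rep ≠ 0).card ≤ Z.card := by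
          rw [← Finset.card_union_of_disjoint hdisj]
          exact Finset.card_le_card (Finset.union_subset (Finset.filter_subset _ _) (Finset.filter_subset _ _))
        omega
      rcases ih _ hCBR (by omega) with hcop | ⟨W₁, W₂, h1, h2, hinf, hRW⟩
      · exact hB1 hcop
      · by_cases hR1 : ∃ z ∈ (Z.filter fun z => φ z.rep ≠ 0), z.rep ∈ W₁
        · have hm : 1 ≤ m := by omega
          have hcnt := count hm hCBR W₁ W₂ h2 hinf hRW hR1
          obtain ⟨z1, hz1R, hz1W⟩ := hR1
          -- one of a, b is not on W₁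
          have hab1 : ¬ (a.rep ∈ W₁ ∧ b.rep ∈ W₁) := by
            rintro ⟨haW, hbW⟩
            exact (Finset.mem_filter.1 hz1R).2 (vanish_on_line W₁ h1 hab haW hbW φ hφa hφb _ hz1W)
          obtain ⟨c', hc'Z, hc'φ, hc'W⟩ : ∃ c' ∈ Z, φ c'.rep = 0 ∧ c'.rep ∉ W₁ := by
            by_cases haW : a.rep ∈ W₁
            · exact ⟨b, hb, hφb, fun hbW => hab1 ⟨haW, hbW⟩⟩
            · exact ⟨a, ha, hφa, haW⟩
          obtain ⟨ψ, hψ0, hψ⟩ := exists_ne_zero_vanish (W₁ ⊔ Submodule.span k {c'.rep})
            (by rw [finrank_sup_span W₁ h1 _ hc'W])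
          have hR''ne := hnc ψ hψ0
          have hR''ge := hA ψ hR''ne
          have hsub : insert c' ((Z.filter fun z => φ z.rep ≠ 0).filter fun z => z.rep ∈ W₁) ⊆
              Z \ (Z.filter fun z => ψ z.rep ≠ 0) := by
            intro z hz
            rw [Finset.mem_insert] at hz
            rw [Finset.mem_sdiff, Finset.mem_filter]
            rcases hz with rfl | hz
            · refine ⟨hc'Z, fun hh => hh.2 ?_⟩
              exact hψ _ (Submodule.mem_sup_right (Submodule.mem_span_singleton_self _))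
            · rw [Finset.mem_filter, Finset.mem_filter] at hz
              exact ⟨hz.1.1, fun hh => hh.2 (hψ _ (Submodule.mem_sup_left hz.2))⟩
          have h9 := Finset.card_le_card hsub
          rw [Finset.card_insert_of_notMem (by
            intro hmem
            exact (Finset.mem_filter.1 (Finset.mem_filter.1 hmem).1).2 hc'φ),
            Finset.card_sdiff_of_subset (Finset.filter_subset _ _)] at h9
          have h10 := Finset.card_le_card (Finset.filter_subset (fun z => ψ z.rep ≠ 0) Z)
          omega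
        · push Not at hR1
          apply hB1
          exact coplanar_of_le W₂ (by omega) fun z hz => (hRW z hz).resolve_left (hR1 z hz)

end Main


section Final
variable {k : Type u} [Field k]

lemma coplanar_out {Z : Finset (Projectivization k (Fin 4 → k))} (h : Coplanar Z) :
    ∃ W : Submodule k (Fin 4 → k), Module.finrank k ↥W = 3 ∧ ∀ z ∈ Z, z.submodule ≤ W := by
  obtain ⟨φ, hφ0, hφ⟩ := h
  refine ⟨LinearMap.ker φ, ?_, fun z hz => ?_⟩
  · have := Module.Dual.finrank_ker_add_one_of_ne_zero hφ0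
    rw [finrank_V] at this
    omega
  · rw [Projectivization.submodule_eq, Submodule.span_singleton_le_iff_mem]
    exact hφ z hz

end Final

/-- Let k be an algebraically closed field of characteristic zero, n ≥ 1, and Z a finite set of points
of projective 3-space over k (points of the projectivization of k⁴, forms in four variables being
evaluated at the chosen representative) with the Cayley–Bacharach property in degree n: every form
of degree n vanishing at all points of Z but one vanishes at that point as well. If Z has at most 3n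
+ 1 points, then either all points of Z lie in one plane (a common 3-dimensional subspace of k⁴), or
they lie on the union of two skew lines (two 2-dimensional subspaces of k⁴ meeting in zero), each
line carrying at least n + 1 points of Z, and Z has at least 2n + 3 points. (The source states this
for an arbitrary zero-dimensional subscheme, with a third alternative, containment in the
first-order thickening of a line; for the reduced subschemes treated here that alternative is a case
of coplanarity.) -/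
theorem result (k : Type u) [Field k] [IsAlgClosed k] [CharZero k]
    (Z : Finset (Projectivization k (Fin 4 → k))) (n : ℕ) (hn : 1 ≤ n)
    (hCB : (∀ z ∈ Z, ∀ p : MvPolynomial (Fin 4) k, p.IsHomogeneous n →
      (∀ z' ∈ Z, z' ≠ z → MvPolynomial.eval z'.rep p = 0) → MvPolynomial.eval z.rep p = 0))
    (hcard : Z.card ≤ 3 * n + 1) :
    (∃ W : Submodule k (Fin 4 → k), Module.finrank k ↥W = 3 ∧ ∀ z ∈ Z, z.submodule ≤ W) ∨
      (∃ W₁ W₂ : Submodule k (Fin 4 → k), Module.finrank k ↥W₁ = 2 ∧ Module.finrank k ↥W₂ = 2 ∧ W₁ ⊓ W₂ = ⊥ ∧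
        (∀ z ∈ Z, z.submodule ≤ W₁ ∨ z.submodule ≤ W₂) ∧
        n + 1 ≤ Set.ncard {z : Projectivization k (Fin 4 → k) | z ∈ Z ∧ z.submodule ≤ W₁} ∧
        n + 1 ≤ Set.ncard {z : Projectivization k (Fin 4 → k) | z ∈ Z ∧ z.submodule ≤ W₂} ∧
        2 * n + 3 ≤ Z.card) := by
  classical
  have hcb : CB Z n := hCB
  have hsub : ∀ (z : Projectivization k (Fin 4 → k)) (W : Submodule k (Fin 4 → k)),
      z.submodule ≤ W ↔ z.rep ∈ W := by
    intro z W
    rw [Projectivization.submodule_eq, Submodule.span_singleton_le_iff_mem]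
  rcases main n Z hcb hcard with hcop | ⟨W₁, W₂, h1, h2, hinf, hZW⟩
  · left; exact coplanar_out hcop
  · by_cases hne1 : ∃ z ∈ Z, z.rep ∈ W₁
    · by_cases hne2 : ∃ z ∈ Z, z.rep ∈ W₂
      · right
        have c1 := count hn hcb W₁ W₂ h2 hinf hZW hne1
        have c2 := count hn hcb W₂ W₁ h1 (by rwa [inf_comm]) (fun z hz => (hZW z hz).symm) hne2
        have hset1 : {z : Projectivization k (Fin 4 → k) | z ∈ Z ∧ z.submodule ≤ W₁} =
            ↑(Z.filter fun z => z.rep ∈ W₁) := by
          ext z; simp [hsub]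
        have hset2 : {z : Projectivization k (Fin 4 → k) | z ∈ Z ∧ z.submodule ≤ W₂} =
            ↑(Z.filter fun z => z.rep ∈ W₂) := by
          ext z; simp [hsub]
        have hdisj : Disjoint (Z.filter fun z => z.rep ∈ W₁) (Z.filter fun z => z.rep ∈ W₂) := by
          rw [Finset.disjoint_left]
          intro z hz hz'
          have : z.rep ∈ W₁ ⊓ W₂ := ⟨(Finset.mem_filter.1 hz).2, (Finset.mem_filter.1 hz').2⟩
          rw [hinf] at this
          exact z.rep_nonzero ((Submodule.mem_bot k).1 this)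
        have h6 : (Z.filter fun z => z.rep ∈ W₁).card + (Z.filter fun z => z.rep ∈ W₂).card ≤ Z.card := by
          rw [← Finset.card_union_of_disjoint hdisj]
          exact Finset.card_le_card (Finset.union_subset (Finset.filter_subset _ _) (Finset.filter_subset _ _))
        refine ⟨W₁, W₂, h1, h2, hinf, ?_, ?_, ?_, ?_⟩
        · intro z hz
          rw [hsub, hsub]; exact hZW z hz
        · rw [hset1, Set.ncard_coe_finset]; omega
        · rw [hset2, Set.ncard_coe_finset]; omega
        · omega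
      · left
        push Not at hne2
        exact coplanar_out (coplanar_of_le W₁ (by omega) fun z hz => (hZW z hz).resolve_right (hne2 z hz))
    · left
      push Not at hne1
      exact coplanar_out (coplanar_of_le W₂ (by omega) fun z hz => (hZW z hz).resolve_left (hne1 z hz))

end Groth.Agent.S18042
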