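import Groth.Statements.S18049
import Mathlib.Tactic
-- import your own Groth.Agent.* helpers here

set_option autoImplicit false
open STCI

namespace Groth.Agent.S18049

/-- For natural numbers 0 < k < N such that k does not divide N, ⌊N/k⌋ ≤ (N - k)/gcd(k, N); stated here
in the equivalent cleared form ⌊N/k⌋ · gcd(k, N) ≤ N - k. -/
theorem result (k N : ℕ) (hk : 0 < k) (hkN : k < N) (hndvd : ¬ k ∣ N) :
    N / k * Nat.gcd k N ≤ N - k := by
  have hgk : Nat.gcd k N ∣ k := Nat.gcd_dvd_left k N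
  have hgN : Nat.gcd k N ∣ N := Nat.gcd_dvd_right k N
  have hr : N % k ≠ 0 := fun h => hndvd (Nat.dvd_of_mod_eq_zero h)
  have hgr : Nat.gcd k N ∣ N % k := (Nat.dvd_mod_iff hgk).mpr hgN
  have hrk : N % k < k := Nat.mod_lt _ hk
  have hq : 1 ≤ N / k := Nat.div_pos hkN.le hk
  have hdecomp : k * (N / k) + N % k = N := Nat.div_add_mod N k
  have hg0 : 0 < Nat.gcd k N := Nat.gcd_pos_of_pos_left N hk
  generalize Nat.gcd k N = g at *
  generalize N / k = q at *
  generalize N % k = r at *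
  obtain ⟨a, rfl⟩ := hgk
  obtain ⟨b, rfl⟩ := hgr
  have hb0 : 0 < b := by
    rcases Nat.eq_zero_or_pos b with h | h
    · rw [h, Nat.mul_zero] at hr; exact absurd rfl hr
    · exact h
  have hba : b < a := Nat.lt_of_mul_lt_mul_left hrk
  have h1 : q * g + g * a ≤ N := by
    rw [← hdecomp]
    obtain ⟨q', rfl⟩ : ∃ q', q = q' + 1 := ⟨q - 1, by omega⟩
    have hk2 : g * (b + 1) ≤ g * a := Nat.mul_le_mul_left g hba
    nlinarith [Nat.mul_le_mul_left q' hk2, Nat.mul_le_mul_left g hb0]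
  omega

end Groth.Agent.S18049
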