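import Groth.Statements.S18050
-- import your own Groth.Agent.* helpers here
import Groth.Agent.Lib.Helper91.Euclid
import Groth.Agent.S18049

set_option autoImplicit false
open STCI

namespace Groth.Agent.S18050

open W4c5stcicurvesp3 Groth.Agent.Lib.Helper91 in
theorem aux : ∀ (t k N : ℕ), 0 < k → k ≤ N → 0 < t → irem N k t = 0 →
    (∀ i, 0 < i → i < t → irem N k i ≠ 0) →
    (∑ i ∈ Finset.Icc 1 t, idiv N k i) * Nat.gcd k N ≤ N := by
  intro t
  induction t with
  | zero => intro k N _ _ ht; exact absurd ht (lt_irrefl 0)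
  | succ t ih =>
    intro k N hk hkN _ hzero hmin
    rcases Nat.eq_zero_or_pos t with rfl | ht
    · -- t = 1
      have hmod : N % k = 0 := hzero
      have hdvd : k ∣ N := Nat.dvd_of_mod_eq_zero hmod
      simp only [zero_add, Finset.Icc_self, Finset.sum_singleton, idiv_one]
      rw [Nat.gcd_eq_left hdvd, Nat.div_mul_cancel hdvd]
    · have hr : N % k ≠ 0 := hmin 1 Nat.one_pos (by omega)
      have hrpos : 0 < N % k := Nat.pos_of_ne_zero hr
      have hrk : N % k < k := Nat.mod_lt _ hk
      have hndvd : ¬ k ∣ N := fun h => hr (Nat.mod_eq_zero_of_dvd h)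
      have hkN' : k < N := lt_of_le_of_ne hkN (fun h => hndvd (h ▸ dvd_rfl))
      have IH := ih (N % k) k hrpos hrk.le ht
        (by rw [← irem_shift N k hr t]; exact hzero)
        (by
          intro i hi hit
          rw [← irem_shift N k hr i]
          exact hmin (i + 1) (Nat.succ_pos i) (by omega))
      have hsum : ∑ i ∈ Finset.Icc 1 (t + 1), idiv N k i
          = N / k + ∑ i ∈ Finset.Icc 1 t, idiv k (N % k) i := by
        rw [← Finset.sum_Ioc_add_eq_sum_Icc (by omega : 1 ≤ t + 1), idiv_one, add_comm]
        congr 1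
        have : Finset.Ioc 1 (t + 1) = (Finset.Icc 1 t).map ⟨fun i => i + 1, add_left_injective 1⟩ := by
          ext x
          simp only [Finset.mem_Ioc, Finset.mem_map, Finset.mem_Icc, Function.Embedding.coeFn_mk]
          constructor
          · intro hx; exact ⟨x - 1, by omega, by omega⟩
          · rintro ⟨y, hy, rfl⟩; omega
        rw [this, Finset.sum_map]
        apply Finset.sum_congr rfl
        intro i hi
        simp only [Finset.mem_Icc] at hi
        exact idiv_shift N k hr i (by omega)
      rw [hsum, add_mul]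
      have hg : Nat.gcd k N = Nat.gcd (N % k) k := Nat.gcd_rec k N
      have h49 := Groth.Agent.S18049.result k N hk hkN' hndvd
      rw [hg] at h49 ⊢
      omega


open W4c5stcicurvesp3 in
/-- Let k ≤ N be positive integers, let t be the least positive integer with rem_t(N, k) = 0, where
rem_0 = k, rem_1 = N mod k and rem_i is the remainder of rem_{i-2} by rem_{i-1} (iterated Euclidean
remainders), and let d_i be the corresponding iterated quotients (d_1 = ⌊N/k⌋, d_i =
⌊rem_{i-2}/rem_{i-1}⌋). Then d_1 + ⋯ + d_t ≤ N/gcd(k, N); stated in the cleared form (d_1 + ⋯ + d_t)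
· gcd(k, N) ≤ N. -/
theorem result (k N t : ℕ) (hk : 0 < k) (hkN : k ≤ N) (ht : 0 < t)
    (hzero : irem N k t = 0) (hmin : ∀ i, 0 < i → i < t → irem N k i ≠ 0) :
    (∑ i ∈ Finset.Icc 1 t, idiv N k i) * Nat.gcd k N ≤ N := by
  exact aux t k N hk hkN ht hzero hmin

end Groth.Agent.S18050
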