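import Groth.Statements.S18051
-- import your own Groth.Agent.* helpers here
import Groth.Agent.Lib.Helper91.Euclid

set_option autoImplicit false
open STCI

namespace Groth.Agent.S18051

/-- the rational inequality behind the three step bound -/
theorem three_step_rat (a b r s k N : ℚ) (ha : 2 ≤ a) (hb : 1 ≤ b) (hr : 0 < r) (hs : 0 < s)
    (hk : k = b * r + s) (hN : N = a * k + r) :
    (k - r) / a + (r - s) / (a + b) + s / (a + b + 1) ≤ k ^ 2 / N := by
  have hk0 : 0 < k := by rw [hk]; positivity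
  have hN0 : 0 < N := by rw [hN]; positivity
  have ha0 : 0 < a := by linarith
  have hb0 : 0 < b := by linarith
  have hc0 : 0 < a + b := by linarith
  have hc1 : 0 < a + b + 1 := by linarith
  have hX : 0 ≤ r ^ 2 * b * (a + b + 1) * ((a - 1) * (b - 1))
      + r * s * (2 * a ^ 2 * b + a * b ^ 2 - a * b - a ^ 2 - b ^ 2 - b) + a ^ 2 * s ^ 2 := by
    have h1 : 0 ≤ (a - 1) * (b - 1) := mul_nonneg (by linarith) (by linarith)
    have h2 : 0 ≤ 2 * a ^ 2 * b + a * b ^ 2 - a * b - a ^ 2 - b ^ 2 - b := by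
      obtain ⟨a', rfl⟩ : ∃ a', a = 2 + a' := ⟨a - 2, by ring⟩
      obtain ⟨b', rfl⟩ : ∃ b', b = 1 + b' := ⟨b - 1, by ring⟩
      have ha' : 0 ≤ a' := by linarith
      have hb' : 0 ≤ b' := by linarith
      have : 2 * (2 + a') ^ 2 * (1 + b') + (2 + a') * (1 + b') ^ 2 - (2 + a') * (1 + b') - (2 + a') ^ 2
          - (1 + b') ^ 2 - (1 + b')
          = 2 + 7 * b' + 4 * a' + b' ^ 2 + 9 * a' * b' + a' ^ 2 + a' * b' ^ 2 + 2 * a' ^ 2 * b' := by ring
      rw [this]
      positivity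
    have h3 : 0 ≤ r ^ 2 * b * (a + b + 1) * ((a - 1) * (b - 1)) := by positivity
    have h4 : 0 ≤ r * s * (2 * a ^ 2 * b + a * b ^ 2 - a * b - a ^ 2 - b ^ 2 - b) := by positivity
    have h5 : 0 ≤ a ^ 2 * s ^ 2 := by positivity
    linarith
  have key : k ^ 2 / N - ((k - r) / a + (r - s) / (a + b) + s / (a + b + 1))
      = (r ^ 2 * b * (a + b + 1) * ((a - 1) * (b - 1))
      + r * s * (2 * a ^ 2 * b + a * b ^ 2 - a * b - a ^ 2 - b ^ 2 - b) + a ^ 2 * s ^ 2)
        / (a * (a + b) * (a + b + 1) * N) := by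
    rw [hN, hk]
    have : a * (b * r + s) + r ≠ 0 := by rw [← hk, ← hN]; exact hN0.ne'
    field_simp
    ring
  have : 0 ≤ k ^ 2 / N - ((k - r) / a + (r - s) / (a + b) + s / (a + b + 1)) := by
    rw [key]; positivity
  linarith


open W4c5stcicurvesp3 in
/-- Let k ≤ N/2 be positive integers and let r_i = rem_i(N, k), d_i = div_i(N, k) be the iterated
Euclidean remainders and quotients of (N, k) (r_0 = k, r_1 = N mod k, r_2 = r_0 mod r_1, d_1 =
⌊N/k⌋, d_2 = ⌊r_0/r_1⌋). If the least positive t with r_t = 0 satisfies t ≥ 3, i.e. r_1 ≠ 0 and r_2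
≠ 0, then (r_0 - r_1)/d_1 + (r_1 - r_2)/(d_1 + d_2) + r_2/(d_1 + d_2 + 1) ≤ k²/N (in ℚ). -/
theorem result (k N : ℕ) (hk : 0 < k) (hkN : 2 * k ≤ N)
    (h1 : irem N k 1 ≠ 0) (h2 : irem N k 2 ≠ 0) :
    ((irem N k 0 : ℚ) - irem N k 1) / (idiv N k 1)
      + ((irem N k 1 : ℚ) - irem N k 2) / ((idiv N k 1 : ℚ) + idiv N k 2)
      + (irem N k 2 : ℚ) / ((idiv N k 1 : ℚ) + idiv N k 2 + 1)
      ≤ (k : ℚ) ^ 2 / N := by
  have e0 : irem N k 0 = k := rfl
  have e1 : irem N k 1 = N % k := rfl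
  have h1' : N % k ≠ 0 := h1
  have e2 : irem N k 2 = k % (N % k) := by
    rw [Groth.Agent.Lib.Helper91.irem_succ_succ, e1, if_neg h1']; rfl
  have d1 : idiv N k 1 = N / k := rfl
  have d2 : idiv N k 2 = k / (N % k) := by
    rw [Groth.Agent.Lib.Helper91.idiv_succ_succ, e1, if_neg h1']; rfl
  rw [e0, e1, e2, d1, d2]
  rw [e2] at h2
  have hrk : N % k < k := Nat.mod_lt _ hk
  apply three_step_rat
  · have : 2 ≤ N / k := by
      rw [Nat.le_div_iff_mul_le hk]; exact hkN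
    exact_mod_cast this
  · have : 1 ≤ k / (N % k) := Nat.div_pos hrk.le (Nat.pos_of_ne_zero h1')
    exact_mod_cast this
  · exact_mod_cast Nat.pos_of_ne_zero h1'
  · exact_mod_cast Nat.pos_of_ne_zero h2
  · have := Nat.div_add_mod k (N % k)
    rw [mul_comm] at this
    exact_mod_cast this.symm
  · have := Nat.div_add_mod N k
    rw [mul_comm] at this
    exact_mod_cast this.symm

end Groth.Agent.S18051
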