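import Groth.Statements.S18052
-- import your own Groth.Agent.* helpers here
import Groth.Agent.Lib.Helper91.Euclid

set_option autoImplicit false
open STCI

namespace Groth.Agent.S18052

/-- the rational inequality behind the three step bound (allowing `s = 0`) -/
theorem three_step_rat' (a b r s k N : ℚ) (ha : 2 ≤ a) (hb : 1 ≤ b) (hr : 0 < r) (hs : 0 ≤ s)
    (hk : k = b * r + s) (hN : N = a * k + r) :
    (k - r) / a + (r - s) / (a + b) + s / (a + b + 1) ≤ k ^ 2 / N := by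
  have ha0 : 0 < a := by linarith
  have hb0 : 0 < b := by linarith
  have hk0 : 0 < k := by rw [hk]; positivity
  have hN0 : 0 < N := by rw [hN]; positivity
  have hc0 : 0 < a + b := by linarith
  have hc1 : 0 < a + b + 1 := by linarith
  have hX : 0 ≤ r ^ 2 * b * (a + b + 1) * ((a - 1) * (b - 1))
      + r * s * (2 * a ^ 2 * b + a * b ^ 2 - a * b - a ^ 2 - b ^ 2 - b) + a ^ 2 * s ^ 2 := by
    have h1 : 0 ≤ (a - 1) * (b - 1) := mul_nonneg (by linarith) (by linarith)
    have h2 : 0 ≤ 2 * a ^ 2 * b + a * b ^ 2 - a * b - a ^ 2 - b ^ 2 - b := by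
      obtain ⟨a', rfl⟩ : ∃ a', a = 2 + a' := ⟨a - 2, by ring⟩
      obtain ⟨b', rfl⟩ : ∃ b', b = 1 + b' := ⟨b - 1, by ring⟩
      have ha' : 0 ≤ a' := by linarith
      have hb' : 0 ≤ b' := by linarith
      have : 2 * (2 + a') ^ 2 * (1 + b') + (2 + a') * (1 + b') ^ 2 - (2 + a') * (1 + b') - (2 + a') ^ 2
          - (1 + b') ^ 2 - (1 + b')
          = 2 + 7 * b' + 4 * a' + b' ^ 2 + 9 * a' * b' + a' ^ 2 + a' * b' ^ 2 + 2 * a' ^ 2 * b' := by ring
      rw [this]
      positivity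
    have h3 : 0 ≤ r ^ 2 * b * (a + b + 1) * ((a - 1) * (b - 1)) := by positivity
    have h4 : 0 ≤ r * s * (2 * a ^ 2 * b + a * b ^ 2 - a * b - a ^ 2 - b ^ 2 - b) := by positivity
    have h5 : 0 ≤ a ^ 2 * s ^ 2 := by positivity
    linarith
  have key : k ^ 2 / N - ((k - r) / a + (r - s) / (a + b) + s / (a + b + 1))
      = (r ^ 2 * b * (a + b + 1) * ((a - 1) * (b - 1))
      + r * s * (2 * a ^ 2 * b + a * b ^ 2 - a * b - a ^ 2 - b ^ 2 - b) + a ^ 2 * s ^ 2)
        / (a * (a + b) * (a + b + 1) * N) := by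
    rw [hN, hk]
    have : a * (b * r + s) + r ≠ 0 := by rw [← hk, ← hN]; exact hN0.ne'
    field_simp
    ring
  have : 0 ≤ k ^ 2 / N - ((k - r) / a + (r - s) / (a + b) + s / (a + b + 1)) := by
    rw [key]; positivity
  linarith

open W4c5stcicurvesp3 Groth.Agent.Lib.Helper91 in
theorem irem_succ_le (a b n : ℕ) : irem a b (n + 2) ≤ irem a b (n + 1) := by
  by_cases h : irem a b (n + 1) = 0
  · rw [irem_succ_succ, if_pos h]; exact Nat.zero_le _
  · exact (irem_succ_lt a b n h).le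


open W4c5stcicurvesp3 in
/-- Let k ≤ N/2 be positive integers, let r_i = rem_i(N, k) and d_i = div_i(N, k) be the iterated
Euclidean remainders and quotients of (N, k) (r_0 = k, r_1 = N mod k, …; d_1 = ⌊N/k⌋, d_i =
⌊r_{i-2}/r_{i-1}⌋), and let t be the least positive integer with r_t = 0. Then the sum over i = 0,
…, t - 1 of (r_i - r_{i+1})/(d_1 + ⋯ + d_{i+1}) is at most k²/N (in ℚ). -/
theorem result (k N t : ℕ) (hk : 0 < k) (hkN : 2 * k ≤ N) (ht : 0 < t)
    (hzero : irem N k t = 0) (hmin : ∀ i, 0 < i → i < t → irem N k i ≠ 0) :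
    ∑ i ∈ Finset.range t, ((irem N k i : ℚ) - irem N k (i + 1)) / (∑ j ∈ Finset.Icc 1 (i + 1), (idiv N k j : ℚ))
      ≤ (k : ℚ) ^ 2 / N := by
  have e0 : irem N k 0 = k := rfl
  have e1 : irem N k 1 = N % k := rfl
  have d1 : idiv N k 1 = N / k := rfl
  have hS1 : ∑ j ∈ Finset.Icc 1 1, (idiv N k j : ℚ) = (N / k : ℕ) := by
    simp [d1]
  have ha : (2 : ℚ) ≤ ((N / k : ℕ) : ℚ) := by
    have : 2 ≤ N / k := by
      rw [Nat.le_div_iff_mul_le hk]; exact hkN
    exact_mod_cast this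
  have hNdecomp : (N : ℚ) = ((N / k : ℕ) : ℚ) * k + ((N % k : ℕ) : ℚ) := by
    have := Nat.div_add_mod N k
    rw [mul_comm] at this
    exact_mod_cast this.symm
  rcases Nat.lt_or_ge t 2 with ht1 | ht2
  · -- t = 1
    obtain rfl : t = 1 := by omega
    have hmod : N % k = 0 := hzero
    simp only [Finset.range_one, Finset.sum_singleton, zero_add, hS1, e0, e1, hmod, Nat.cast_zero,
      sub_zero]
    rw [hmod] at hNdecomp
    have hkq : (0 : ℚ) < k := by exact_mod_cast hk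
    rw [hNdecomp]
    have : (0 : ℚ) < ((N / k : ℕ) : ℚ) := by linarith
    rw [le_div_iff₀ (by positivity)]
    field_simp
    exact le_of_eq (by ring)
  · have h1' : N % k ≠ 0 := hmin 1 Nat.one_pos (by omega)
    have e2 : irem N k 2 = k % (N % k) := by
      rw [Groth.Agent.Lib.Helper91.irem_succ_succ, e1, if_neg h1']; rfl
    have d2 : idiv N k 2 = k / (N % k) := by
      rw [Groth.Agent.Lib.Helper91.idiv_succ_succ, e1, if_neg h1']; rfl
    have hS2 : ∑ j ∈ Finset.Icc 1 2, (idiv N k j : ℚ) = ((N / k : ℕ) : ℚ) + ((k / (N % k) : ℕ) : ℚ) := by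
      have : Finset.Icc 1 2 = {1, 2} := by decide
      rw [this, Finset.sum_pair (by decide), d1, d2]
    have hrk : N % k < k := Nat.mod_lt _ hk
    have hb : (1 : ℚ) ≤ ((k / (N % k) : ℕ) : ℚ) := by
      have : 1 ≤ k / (N % k) := Nat.div_pos hrk.le (Nat.pos_of_ne_zero h1')
      exact_mod_cast this
    have hr0 : (0 : ℚ) < ((N % k : ℕ) : ℚ) := by exact_mod_cast Nat.pos_of_ne_zero h1'
    have hs0 : (0 : ℚ) ≤ ((k % (N % k) : ℕ) : ℚ) := by positivity
    have hkdecomp : (k : ℚ) = ((k / (N % k) : ℕ) : ℚ) * ((N % k : ℕ) : ℚ) + ((k % (N % k) : ℕ) : ℚ) := by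
      have := Nat.div_add_mod k (N % k)
      rw [mul_comm] at this
      exact_mod_cast this.symm
    have main := three_step_rat' _ _ _ _ _ _ ha hb hr0 hs0 hkdecomp hNdecomp
    refine le_trans ?_ main
    obtain ⟨m, rfl⟩ : ∃ m, t = m + 2 := ⟨t - 2, by omega⟩
    rw [Finset.sum_range_succ', Finset.sum_range_succ']
    simp only [zero_add, hS1]
    have h1q : ((irem N k 1 : ℚ) - irem N k (1 + 1)) / (∑ j ∈ Finset.Icc 1 (1 + 1), (idiv N k j : ℚ))
        = (((N % k : ℕ) : ℚ) - ((k % (N % k) : ℕ) : ℚ)) / (((N / k : ℕ) : ℚ) + ((k / (N % k) : ℕ) : ℚ)) := by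
      show ((irem N k 1 : ℚ) - irem N k 2) / (∑ j ∈ Finset.Icc 1 2, (idiv N k j : ℚ)) = _
      rw [hS2, e1, e2]
    rw [h1q, e0, e1]
    have hrest : ∑ i ∈ Finset.range m, ((irem N k (i + 1 + 1) : ℚ) - irem N k (i + 1 + 1 + 1))
          / (∑ j ∈ Finset.Icc 1 (i + 1 + 1 + 1), (idiv N k j : ℚ))
        ≤ ((k % (N % k) : ℕ) : ℚ) / (((N / k : ℕ) : ℚ) + ((k / (N % k) : ℕ) : ℚ) + 1) := by
      rcases Nat.eq_zero_or_pos m with rfl | hm
      · simp only [Finset.range_zero, Finset.sum_empty]; positivity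
      · -- r_2 ≠ 0, d_3 ≥ 1
        have h2' : irem N k 2 ≠ 0 := hmin 2 (by omega) (by omega)
        have d3 : 1 ≤ idiv N k 3 := by
          show 1 ≤ idiv N k (1 + 2)
          rw [Groth.Agent.Lib.Helper91.idiv_succ_succ, if_neg h2']
          exact Nat.div_pos (Groth.Agent.Lib.Helper91.irem_succ_lt N k 0 h1').le (Nat.pos_of_ne_zero h2')
        have hD : ∀ i, ((N / k : ℕ) : ℚ) + ((k / (N % k) : ℕ) : ℚ) + 1
            ≤ ∑ j ∈ Finset.Icc 1 (i + 1 + 1 + 1), (idiv N k j : ℚ) := by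
          intro i
          have hsub : ∑ j ∈ Finset.Icc 1 3, idiv N k j ≤ ∑ j ∈ Finset.Icc 1 (i + 1 + 1 + 1), idiv N k j :=
            Finset.sum_le_sum_of_subset (Finset.Icc_subset_Icc le_rfl (by omega))
          have h3 : ∑ j ∈ Finset.Icc 1 3, idiv N k j = N / k + k / (N % k) + idiv N k 3 := by
            have : Finset.Icc 1 3 = {1, 2, 3} := by decide
            rw [this, Finset.sum_insert (by decide), Finset.sum_pair (by decide), d1, d2, add_assoc]
          have : N / k + k / (N % k) + 1 ≤ ∑ j ∈ Finset.Icc 1 (i + 1 + 1 + 1), idiv N k j := by omega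
          exact_mod_cast this
        have hpos : (0 : ℚ) < ((N / k : ℕ) : ℚ) + ((k / (N % k) : ℕ) : ℚ) + 1 := by positivity
        calc ∑ i ∈ Finset.range m, ((irem N k (i + 1 + 1) : ℚ) - irem N k (i + 1 + 1 + 1))
              / (∑ j ∈ Finset.Icc 1 (i + 1 + 1 + 1), (idiv N k j : ℚ))
            ≤ ∑ i ∈ Finset.range m, ((irem N k (i + 1 + 1) : ℚ) - irem N k (i + 1 + 1 + 1))
              / (((N / k : ℕ) : ℚ) + ((k / (N % k) : ℕ) : ℚ) + 1) := by
              apply Finset.sum_le_sum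
              intro i _
              apply div_le_div_of_nonneg_left _ hpos (hD i)
              have : irem N k (i + 1 + 2) ≤ irem N k (i + 1 + 1) := irem_succ_le N k (i + 1)
              have : (irem N k (i + 1 + 1 + 1) : ℚ) ≤ irem N k (i + 1 + 1) := by exact_mod_cast this
              linarith
          _ = ((irem N k 2 : ℚ) - irem N k (m + 2)) / (((N / k : ℕ) : ℚ) + ((k / (N % k) : ℕ) : ℚ) + 1) := by
              rw [← Finset.sum_div]
              congr 1
              have := Finset.sum_range_sub' (fun i => (irem N k (i + 2) : ℚ)) m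
              simpa using this
          _ = ((k % (N % k) : ℕ) : ℚ) / (((N / k : ℕ) : ℚ) + ((k / (N % k) : ℕ) : ℚ) + 1) := by
              rw [hzero, e2]; simp
    linarith

end Groth.Agent.S18052
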