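import Groth.Statements.S18053
-- import your own Groth.Agent.* helpers here
import Mathlib.Tactic
import Mathlib.Topology.Algebra.InfiniteSum.Basic

set_option autoImplicit false
open STCI

namespace Groth.Agent.S18053

/-- the weighted term -/
noncomputable def w (p : ℕ → ℕ) (k : ℕ) : ℝ := (p k : ℝ) / (((k : ℝ) + 1) * ((k : ℝ) + 2))

theorem tail_bound (p : ℕ → ℕ) (j M : ℕ) :
    ∑ k ∈ Finset.range M, w p (k + j)
      ≤ (∑ k ∈ Finset.range M, (p (k + j) : ℝ)) / (((j : ℝ) + 1) * ((j : ℝ) + 2)) := by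
  rw [Finset.sum_div]
  apply Finset.sum_le_sum
  intro k _
  unfold w
  apply div_le_div_of_nonneg_left (Nat.cast_nonneg _) (by positivity)
  push_cast
  have h1 : (0:ℝ) ≤ k := Nat.cast_nonneg k
  have h2 : (0:ℝ) ≤ j := Nat.cast_nonneg j
  nlinarith


/-- Let (p_k)_{k ≥ 1} be a sequence of nonnegative integers and n a nonnegative integer such that (i)
p_1 ≤ 9 - (2/5)n, (ii) p_1 ≥ p_2 ≥ p_3 ≥ ⋯, (iii) Σ_k p_k ≤ 19 - n, and (iv) n/4 + Σ_{k ≥ 1}
p_k/(k(k+1)) ≥ 6. Then n = 0 and (p_k) is one of (9, 8, 2), (9, 9), (9, 9, 1) (followed by zeros).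
Here the sequence is indexed from 0 (so p 0 is p_1 and the weight of p k is 1/((k+1)(k+2))), (iii)
is stated for every partial sum, and the series in (iv) is the real sum Σ' over all k. -/
theorem result (p : ℕ → ℕ) (n : ℕ)
    (h1 : (p 0 : ℝ) ≤ 9 - (2 / 5 : ℝ) * n) (h2 : Antitone p)
    (h3 : ∀ m : ℕ, ((∑ k ∈ Finset.range m, p k : ℕ) : ℝ) ≤ 19 - (n : ℝ))
    (h4 : (6 : ℝ) ≤ (n : ℝ) / 4 + ∑' k : ℕ, (p k : ℝ) / (((k : ℝ) + 1) * ((k : ℝ) + 2))) :
    n = 0 ∧ (p = (fun k => if k = 0 then 9 else if k = 1 then 8 else if k = 2 then 2 else 0)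
      ∨ p = (fun k => if k = 0 then 9 else if k = 1 then 9 else 0)
      ∨ p = (fun k => if k = 0 then 9 else if k = 1 then 9 else if k = 2 then 1 else 0)) := by
  -- nat version of h3
  have h3' : ∀ m, (∑ k ∈ Finset.range m, p k) + n ≤ 19 := by
    intro m
    have := h3 m
    have h : (((∑ k ∈ Finset.range m, p k) + n : ℕ) : ℝ) ≤ 19 := by
      rw [Nat.cast_add]; linarith
    exact_mod_cast h
  -- support
  have hsupp : ∀ k, 20 ≤ k → p k = 0 := by
    intro k hk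
    by_contra hne
    have hpos : 1 ≤ p k := Nat.one_le_iff_ne_zero.mpr hne
    have hall : ∀ j ∈ Finset.range 20, 1 ≤ p j := fun j hj =>
      le_trans hpos (h2 (by simp only [Finset.mem_range] at hj; omega))
    have hcard : 20 ≤ ∑ j ∈ Finset.range 20, p j := by
      calc 20 = ∑ j ∈ Finset.range 20, 1 := by simp
        _ ≤ _ := Finset.sum_le_sum hall
    have := h3' 20
    omega
  have htsum : ∑' k : ℕ, (p k : ℝ) / (((k : ℝ) + 1) * ((k : ℝ) + 2)) = ∑ k ∈ Finset.range 20, w p k := by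
    apply tsum_eq_sum
    intro k hk
    simp only [Finset.mem_range, not_lt] at hk
    simp [hsupp k hk]
  rw [htsum] at h4
  have e20 : ∑ k ∈ Finset.range 20, w p k = ∑ k ∈ Finset.range 18, w p (k + 2) + w p 1 + w p 0 := by
    rw [show 20 = 18 + 1 + 1 from rfl, Finset.sum_range_succ', Finset.sum_range_succ']
  have s20 : ∑ k ∈ Finset.range 20, p k = ∑ k ∈ Finset.range 18, p (k + 2) + p 1 + p 0 := by
    rw [show 20 = 18 + 1 + 1 from rfl, Finset.sum_range_succ', Finset.sum_range_succ']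
  have e18 : ∑ k ∈ Finset.range 18, w p (k + 2) = ∑ k ∈ Finset.range 17, w p (k + 3) + w p 2 := by
    rw [show 18 = 17 + 1 from rfl, Finset.sum_range_succ']
  have s18 : ∑ k ∈ Finset.range 18, p (k + 2) = ∑ k ∈ Finset.range 17, p (k + 3) + p 2 := by
    rw [show 18 = 17 + 1 from rfl, Finset.sum_range_succ']
  have s17 : p 3 ≤ ∑ k ∈ Finset.range 17, p (k + 3) := by
    rw [show 17 = 16 + 1 from rfl, Finset.sum_range_succ']
    exact Nat.le_add_left _ _
  have w0 : w p 0 = (p 0 : ℝ) / 2 := by unfold w; norm_num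
  have w1 : w p 1 = (p 1 : ℝ) / 6 := by unfold w; norm_num
  have w2 : w p 2 = (p 2 : ℝ) / 12 := by unfold w; norm_num
  have t2 := tail_bound p 2 18
  have t3 := tail_bound p 3 17
  obtain ⟨R2, hR2⟩ : ∃ R2, R2 = ∑ k ∈ Finset.range 18, p (k + 2) := ⟨_, rfl⟩
  obtain ⟨R3, hR3⟩ : ∃ R3, R3 = ∑ k ∈ Finset.range 17, p (k + 3) := ⟨_, rfl⟩
  have t2' : ∑ k ∈ Finset.range 18, w p (k + 2) ≤ (R2 : ℝ) / 12 := by
    rw [hR2]; push_cast; norm_num at t2; linarith
  have t3' : ∑ k ∈ Finset.range 17, w p (k + 3) ≤ (R3 : ℝ) / 20 := by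
    rw [hR3]; push_cast; norm_num at t3; linarith
  -- the natural number facts
  have f1 : 5 * p 0 + 2 * n ≤ 45 := by
    have : ((5 * p 0 + 2 * n : ℕ) : ℝ) ≤ 45 := by push_cast; linarith
    exact_mod_cast this
  have f2a : p 1 ≤ p 0 := h2 (by omega)
  have f2b : p 2 ≤ p 1 := h2 (by omega)
  have f2c : p 3 ≤ p 2 := h2 (by omega)
  have f3 : R2 + p 1 + p 0 + n ≤ 19 := by
    have := h3' 20
    rw [s20, ← hR2] at this
    exact this
  have f3' : R2 = R3 + p 2 := by rw [hR2, hR3, s18]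
  have f3'' : p 3 ≤ R3 := by rw [hR3]; exact s17
  have f4 : 72 ≤ 3 * n + 6 * p 0 + 2 * p 1 + R2 := by
    have : (72 : ℝ) ≤ ((3 * n + 6 * p 0 + 2 * p 1 + R2 : ℕ) : ℝ) := by
      push_cast
      rw [e20, w0, w1] at h4
      linarith
    exact_mod_cast this
  have f5 : 360 ≤ 15 * n + 30 * p 0 + 10 * p 1 + 5 * p 2 + 3 * R3 := by
    have : (360 : ℝ) ≤ ((15 * n + 30 * p 0 + 10 * p 1 + 5 * p 2 + 3 * R3 : ℕ) : ℝ) := by
      push_cast
      rw [e20, e18, w0, w1, w2] at h4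
      linarith
    exact_mod_cast this
  have hfin : n = 0 ∧ ((p 0 = 9 ∧ p 1 = 8 ∧ p 2 = 2 ∧ p 3 = 0) ∨ (p 0 = 9 ∧ p 1 = 9 ∧ p 2 = 0 ∧ p 3 = 0)
      ∨ (p 0 = 9 ∧ p 1 = 9 ∧ p 2 = 1 ∧ p 3 = 0)) := by
    omega
  have htail : p 3 = 0 → ∀ k, p (k + 3) = 0 := by
    intro h k
    have : p (k + 3) ≤ p 3 := h2 (by omega)
    omega
  refine ⟨hfin.1, ?_⟩
  rcases hfin.2 with ⟨h0, h1, h2', h3''⟩ | ⟨h0, h1, h2', h3''⟩ | ⟨h0, h1, h2', h3''⟩
  · left
    funext k
    rcases k with _ | _ | _ | k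
    · simpa using h0
    · simpa using h1
    · simpa using h2'
    · simpa using htail h3'' k
  · right; left
    funext k
    rcases k with _ | _ | _ | k
    · simpa using h0
    · simpa using h1
    · simpa using h2'
    · simpa using htail h3'' k
  · right; right
    funext k
    rcases k with _ | _ | _ | k
    · simpa using h0
    · simpa using h1
    · simpa using h2'
    · simpa using htail h3'' k

end Groth.Agent.S18053
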