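import Groth.Statements.S18054
-- import your own Groth.Agent.* helpers here
import Mathlib.Tactic

set_option autoImplicit false
open STCI

namespace Groth.Agent.S18054

/-- Let s, t, d, g be integers with t ≥ s ≥ 4, d ≥ 1, g ≥ 0 and d dividing st; put n = st/d and assume n
≥ 2; put r = d[n(s - 4) + t] + (2 - 2g)n and assume r ≤ (s/3)(2s² - 6s + 7) - 1. Then d ≤ g + 3.
(The bound is written cleared of the denominator 3; s(2s² - 6s + 7) is always divisible by 3, so
this is the same condition.) -/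
theorem result (s t d g n : ℤ) (hs : 4 ≤ s) (hst : s ≤ t) (hd : 1 ≤ d) (hg : 0 ≤ g)
    (hn : s * t = d * n) (hn2 : 2 ≤ n)
    (hr : 3 * (d * (n * (s - 4) + t) + (2 - 2 * g) * n) ≤ s * (2 * s ^ 2 - 6 * s + 7) - 3) :
    d ≤ g + 3 := by
  by_contra hcon
  have hdg : g + 4 ≤ d := by omega
  have hd4 : 4 ≤ d := by omega
  -- replace g by d - 4
  have h1 : (10 - 2 * d) * n ≤ (2 - 2 * g) * n := by
    have : 0 ≤ (2 * d - 2 * g - 8) * n := mul_nonneg (by omega) (by omega)
    nlinarith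
  have hexp : d * (n * (s - 4) + t) + (10 - 2 * d) * n = (d * n) * (s - 6) + d * t + 10 * n := by ring
  have h2 : 3 * ((s * t) * (s - 6) + d * t + 10 * n) ≤ s * (2 * s ^ 2 - 6 * s + 7) - 3 := by
    rw [hn, ← hexp]; linarith
  set X := d * t + 10 * n with hX
  have hXpos : 0 < X := by
    have : 0 < d * t := mul_pos (by omega) (by omega)
    omega
  have hXsq : 40 * s * t ^ 2 ≤ X ^ 2 := by
    have : X ^ 2 = (d * t - 10 * n) ^ 2 + 40 * (d * n) * t := by rw [hX]; ring
    rw [this, ← hn]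
    nlinarith [sq_nonneg (d * t - 10 * n)]
  have h3 : 3 * X ≤ s * (2 * s ^ 2 - 6 * s + 7) - 3 - 3 * (s * t) * (s - 6) := by
    rw [hX]; linarith
  rcases le_or_gt 6 s with hs6 | hs6
  · -- s ≥ 6
    have hmono : s * s * (s - 6) ≤ (s * t) * (s - 6) := by
      apply mul_le_mul_of_nonneg_right _ (by omega)
      exact mul_le_mul_of_nonneg_left hst (by omega)
    have h4 : 3 * X ≤ -s ^ 3 + 12 * s ^ 2 + 7 * s - 3 := by nlinarith
    have hs12 : s ≤ 12 := by
      by_contra h
      have h13 : 13 ≤ s := by omega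
      have : -s ^ 3 + 12 * s ^ 2 + 7 * s - 3 < 0 := by nlinarith [sq_nonneg s, mul_pos (by omega : (0:ℤ) < s) (by omega : (0:ℤ) < s)]
      omega
    have h5 : 9 * X ^ 2 ≤ (-s ^ 3 + 12 * s ^ 2 + 7 * s - 3) ^ 2 := by
      have : (3 * X) ^ 2 ≤ (-s ^ 3 + 12 * s ^ 2 + 7 * s - 3) ^ 2 := by
        apply pow_le_pow_left₀ (by omega) h4
      nlinarith
    have h6 : 360 * s ^ 3 ≤ 360 * s * t ^ 2 := by
      have : s ^ 2 ≤ t ^ 2 := pow_le_pow_left₀ (by omega) hst 2
      nlinarith
    have h7 : 360 * s ^ 3 ≤ (-s ^ 3 + 12 * s ^ 2 + 7 * s - 3) ^ 2 := by nlinarith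
    interval_cases s <;> norm_num at h7
  · have hs45 : s = 4 ∨ s = 5 := by omega
    rcases hs45 with rfl | rfl
    · -- s = 4
      have h4 : 3 * X ≤ 57 + 24 * t := by nlinarith
      have h5 : 9 * X ^ 2 ≤ (57 + 24 * t) ^ 2 := by
        have : (3 * X) ^ 2 ≤ (57 + 24 * t) ^ 2 := pow_le_pow_left₀ (by omega) h4 2
        nlinarith
      have h6 : 864 * t ^ 2 - 2736 * t - 3249 ≤ 0 := by nlinarith
      have ht4 : t = 4 := by
        by_contra h
        have : 5 ≤ t := by omega
        nlinarith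
      subst ht4
      have hdn : d * n = 16 := by omega
      have hd8 : d ≤ 8 := by nlinarith
      have hX51 : X ≤ 51 := by omega
      rw [hX] at hX51
      interval_cases d <;> omega
    · -- s = 5
      have h4 : 3 * X ≤ 132 + 15 * t := by nlinarith
      have h5 : 9 * X ^ 2 ≤ (132 + 15 * t) ^ 2 := by
        have : (3 * X) ^ 2 ≤ (132 + 15 * t) ^ 2 := pow_le_pow_left₀ (by omega) h4 2
        nlinarith
      nlinarith

end Groth.Agent.S18054
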