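import Groth.Statements.S18055
-- import your own Groth.Agent.* helpers here
import Mathlib.Tactic

set_option autoImplicit false
open STCI

namespace Groth.Agent.S18055

/-- Let d ≥ 1, g ≥ 0 and 1 ≤ s ≤ t be integers with d dividing st, put n = st/d and r = d[n(s - 4) + t]
+ (2 - 2g)n, and assume n ≥ 2, r > 0 and (n - 1) divides r. Then s < 2d² and t < 2d⁴. This is the
statement about the degree data (d, g the degree and genus of the curve, s ≤ t the degrees of the
two surfaces) to which the published proof reduces the degree bound: there the divisibility and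
positivity express that r/(n - 1), the common value of the type numbers of the pair, is a positive
integer; the geometric hypotheses themselves are not part of this row. -/
theorem result (d g s t n : ℤ) (hd : 1 ≤ d) (hg : 0 ≤ g) (hs : 1 ≤ s) (hst : s ≤ t)
    (hn : s * t = d * n) (hn2 : 2 ≤ n)
    (hpos : 0 < d * (n * (s - 4) + t) + (2 - 2 * g) * n)
    (hdvd : (n - 1) ∣ d * (n * (s - 4) + t) + (2 - 2 * g) * n) :
    s < 2 * d ^ 2 ∧ t < 2 * d ^ 4 := by
  have hn0 : 0 < n := by omega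
  have hn1 : 0 < n - 1 := by omega
  have ht : 1 ≤ t := by omega
  have hd2 : 1 ≤ d ^ 2 := by nlinarith
  have hdt : 0 < d * t := mul_pos (by omega) (by omega)
  -- first reduction: (n-1) ∣ R
  obtain ⟨R, hR⟩ : ∃ R, R = d * (s + t - 4) + 2 - 2 * g := ⟨_, rfl⟩
  have hrR : d * (n * (s - 4) + t) + (2 - 2 * g) * n = (n - 1) * (R - d * t) + R := by
    rw [hR]; ring
  have hdvdR : (n - 1) ∣ R := by
    have h := hdvd
    rw [hrR] at h
    exact (Int.dvd_add_right (Dvd.intro _ rfl)).mp h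
  have hRpos : 0 < R := by
    have h1 : 0 < n * R := by
      have : n * R = (d * (n * (s - 4) + t) + (2 - 2 * g) * n) + (n - 1) * (d * t) := by
        rw [hrR]; ring
      rw [this]
      have : 0 < (n - 1) * (d * t) := mul_pos hn1 hdt
      linarith
    rcases lt_trichotomy R 0 with hlt | heq | hgt
    · exact absurd h1 (not_lt.mpr (mul_nonpos_of_nonneg_of_nonpos hn0.le hlt.le))
    · rw [heq, mul_zero] at h1; exact absurd h1 (lt_irrefl 0)
    · exact hgt
  have hnR : n - 1 ≤ R := Int.le_of_dvd hRpos hdvdR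
  have hA : s * t ≤ d ^ 2 * (s + t) - 4 * d ^ 2 + 3 * d := by
    have h1 : n ≤ d * (s + t - 4) + 3 := by rw [hR] at hnR; omega
    have h2 : d * n ≤ d * (d * (s + t - 4) + 3) := mul_le_mul_of_nonneg_left h1 (by omega)
    rw [hn]; nlinarith
  -- second reduction: (n-1) ∣ Q
  obtain ⟨Q, hQ⟩ : ∃ Q, Q = d * s * (s - 4) + d ^ 2 + (2 - 2 * g) * s := ⟨_, rfl⟩
  have hsr : s * (d * (n * (s - 4) + t) + (2 - 2 * g) * n) = n * Q := by
    have : s * (d * (n * (s - 4) + t) + (2 - 2 * g) * n)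
        = s * d * n * (s - 4) + d * (s * t) + (2 - 2 * g) * n * s := by ring
    rw [this, hn, hQ]; ring
  have hdvdQ : (n - 1) ∣ Q := by
    have h : (n - 1) ∣ n * Q := by rw [← hsr]; exact Dvd.dvd.mul_left hdvd s
    have : n * Q = (n - 1) * Q + Q := by ring
    rw [this] at h
    exact (Int.dvd_add_right (Dvd.intro _ rfl)).mp h
  have hQpos : 0 < Q := by
    have h1 : 0 < n * Q := by rw [← hsr]; exact mul_pos (by omega) hpos
    rcases lt_trichotomy Q 0 with hlt | heq | hgt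
    · exact absurd h1 (not_lt.mpr (mul_nonpos_of_nonneg_of_nonpos hn0.le hlt.le))
    · rw [heq, mul_zero] at h1; exact absurd h1 (lt_irrefl 0)
    · exact hgt
  have hnQ : n - 1 ≤ Q := Int.le_of_dvd hQpos hdvdQ
  have hB : s * t ≤ d ^ 2 * s * (s - 4) + d ^ 3 + 2 * s * d + d := by
    have hgs : 0 ≤ g * s := mul_nonneg hg (by omega)
    have h1 : n ≤ d * s * (s - 4) + d ^ 2 + 2 * s + 1 := by rw [hQ] at hnQ; nlinarith
    have h2 : d * n ≤ d * (d * s * (s - 4) + d ^ 2 + 2 * s + 1) := mul_le_mul_of_nonneg_left h1 (by omega)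
    rw [hn]; nlinarith
  have hs2 : s < 2 * d ^ 2 := by
    by_contra hcon
    have hcon' : 2 * d ^ 2 ≤ s := by omega
    have h1 : 2 * d ^ 2 * t ≤ s * t := mul_le_mul_of_nonneg_right hcon' (by omega)
    have h2 : d ^ 2 * s ≤ d ^ 2 * t := mul_le_mul_of_nonneg_left hst (by omega)
    have h3 : 3 * d < 4 * d ^ 2 := by nlinarith
    nlinarith
  refine ⟨hs2, ?_⟩
  by_contra hcon
  have hcon' : 2 * d ^ 4 ≤ t := by omega
  have hd4 : 1 ≤ d ^ 4 := by nlinarith
  have hd3 : d ^ 3 ≤ d ^ 4 := by nlinarith [pow_pos (by omega : (0:ℤ) < d) 3]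
  have hd24 : d ^ 2 ≤ d ^ 4 := by nlinarith
  have h3d : 3 * d < 4 * d ^ 2 := by nlinarith
  rcases le_or_gt s (d ^ 2) with hsd | hsd
  · -- s ≤ d²: use hB
    have h1 : s * (2 * d ^ 4) ≤ s * t := mul_le_mul_of_nonneg_left hcon' (by omega)
    have h2 : d ^ 2 * s * (s - 4) ≤ d ^ 2 * s * (d ^ 2 - 4) :=
      mul_le_mul_of_nonneg_left (by omega) (by positivity)
    have h3 : s * (d ^ 4 + 4 * d ^ 2 - 2 * d) ≤ d ^ 3 + d := by
      have e1 : d ^ 2 * s * (d ^ 2 - 4) = d ^ 4 * s - 4 * (d ^ 2 * s) := by ring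
      have e2 : s * (d ^ 4 + 4 * d ^ 2 - 2 * d) = d ^ 4 * s + 4 * (d ^ 2 * s) - 2 * s * d := by ring
      have e3 : s * (2 * d ^ 4) = 2 * (d ^ 4 * s) := by ring
      linarith
    have h4 : 0 < d ^ 4 + 4 * d ^ 2 - 2 * d := by linarith
    have h5 : 1 * (d ^ 4 + 4 * d ^ 2 - 2 * d) ≤ s * (d ^ 4 + 4 * d ^ 2 - 2 * d) :=
      mul_le_mul_of_nonneg_right hs h4.le
    linarith
  · -- s > d²: use hA
    have hu : 1 ≤ s - d ^ 2 := by omega
    have h1 : (s - d ^ 2) * (2 * d ^ 4) ≤ (s - d ^ 2) * t := mul_le_mul_of_nonneg_left hcon' (by omega)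
    have h2 : (s - d ^ 2) * t ≤ d ^ 2 * s - 4 * d ^ 2 + 3 * d := by
      have e1 : (s - d ^ 2) * t = s * t - d ^ 2 * t := by ring
      have e2 : d ^ 2 * (s + t) = d ^ 2 * s + d ^ 2 * t := by ring
      linarith
    have h4 : (s - d ^ 2) * (2 * d ^ 4 - d ^ 2) < d ^ 4 := by
      have e1 : (s - d ^ 2) * (2 * d ^ 4 - d ^ 2) = (s - d ^ 2) * (2 * d ^ 4) - d ^ 2 * s + d ^ 4 := by ring
      linarith
    have h5 : 1 * (2 * d ^ 4 - d ^ 2) ≤ (s - d ^ 2) * (2 * d ^ 4 - d ^ 2) :=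
      mul_le_mul_of_nonneg_right hu (by linarith)
    linarith

end Groth.Agent.S18055
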