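import Groth.Statements.S18069
import Groth.Agent.Lib.Helper60.Rigidity

set_option autoImplicit false
universe u
open CategoryTheory MonoidalCategory CartesianMonoidalCategory MonObj GrpObj AlgebraicGeometry CategoryTheory.Limits
open AlgGrp

namespace Groth.Agent.S18069

/-- Let k be a field and G₁, G₂ connected k-group schemes of finite type. Then G₁ × G₂ is anti-affine,
i.e. O(G₁ × G₂) = k, if and only if G₁ and G₂ are both anti-affine. -/
theorem result (k : Type u) [Field k]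
    (G₁ G₂ : Over (Spec (CommRingCat.of k))) [GrpObj G₁] [LocallyOfFiniteType G₁.hom] [QuasiCompact G₁.hom] [ConnectedSpace ↥G₁.left]
    [GrpObj G₂] [LocallyOfFiniteType G₂.hom] [QuasiCompact G₂.hom] [ConnectedSpace ↥G₂.left] :
    Function.Bijective ((Scheme.ΓSpecIso (CommRingCat.of k)).inv ≫ (G₁ ⊗ G₂).hom.appTop).hom ↔
      Function.Bijective ((Scheme.ΓSpecIso (CommRingCat.of k)).inv ≫ G₁.hom.appTop).hom ∧ Function.Bijective ((Scheme.ΓSpecIso (CommRingCat.of k)).inv ≫ G₂.hom.appTop).hom := by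
  haveI : IsLocallyNoetherian G₁.left := LocallyOfFiniteType.isLocallyNoetherian G₁.hom
  haveI : QuasiSeparatedSpace G₁.left := inferInstance
  haveI : QuasiSeparated G₁.hom := inferInstance
  constructor
  · intro h
    constructor
    · refine Groth.Agent.Lib.Helper60.Rigidity.bijective_of_section (G₁ ⊗ G₂).hom G₁.hom
        (fst G₁ G₂).left (lift (𝟙 G₁) (toUnit G₁ ≫ η[G₂])).left ?_ (Over.w (fst G₁ G₂)) h
      exact congrArg (fun g => g.left) (lift_fst (𝟙 G₁) (toUnit G₁ ≫ η[G₂]))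
    · refine Groth.Agent.Lib.Helper60.Rigidity.bijective_of_section (G₁ ⊗ G₂).hom G₂.hom
        (snd G₁ G₂).left (lift (toUnit G₂ ≫ η[G₁]) (𝟙 G₂)).left ?_ (Over.w (snd G₁ G₂)) h
      exact congrArg (fun g => g.left) (lift_snd (toUnit G₂ ≫ η[G₁]) (𝟙 G₂))
  · rintro ⟨h₁, h₂⟩
    exact Groth.Agent.Lib.Helper60.Rigidity.bijective_prod G₁.hom G₂.hom h₁ h₂

end Groth.Agent.S18069
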