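import Groth.Statements.S18070
import Groth.Agent.Lib.Helper60.DiagHom
import Groth.Agent.Lib.Helper60.Rigidity
import Groth.Agent.Lib.Helper43.GaGm
set_option autoImplicit false
universe u
open CategoryTheory MonoidalCategory CartesianMonoidalCategory MonObj GrpObj AlgebraicGeometry CategoryTheory.Limits
open AlgGrp

namespace Groth.Agent.S18070

/-- Let k be a field and 1 → G₁ → G → G₂ → 1 an exact sequence of k-group schemes of finite type with
G₁, G₂ connected (i : G₁ → G a homomorphism and closed immersion which is the kernel of the flat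
surjective homomorphism q : G → G₂). Anti-affineness passes from G to the quotient G₂; in the other
direction, G is anti-affine whenever G₁ and G₂ both are. -/
theorem result (k : Type u) [Field k]
    (G₁ G G₂ : Over (Spec (CommRingCat.of k))) [GrpObj G₁] [LocallyOfFiniteType G₁.hom] [QuasiCompact G₁.hom] [ConnectedSpace ↥G₁.left]
    [GrpObj G] [LocallyOfFiniteType G.hom] [QuasiCompact G.hom]
    [GrpObj G₂] [LocallyOfFiniteType G₂.hom] [QuasiCompact G₂.hom] [ConnectedSpace ↥G₂.left]
    (i : G₁ ⟶ G) [IsMonHom i] [IsClosedImmersion i.left] (q : G ⟶ G₂) [IsMonHom q] [Surjective q.left] [Flat q.left]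
    (hex : AlgGrp.IsKernel i q) :
    (Function.Bijective ((Scheme.ΓSpecIso (CommRingCat.of k)).inv ≫ G.hom.appTop).hom → Function.Bijective ((Scheme.ΓSpecIso (CommRingCat.of k)).inv ≫ G₂.hom.appTop).hom) ∧
    (Function.Bijective ((Scheme.ΓSpecIso (CommRingCat.of k)).inv ≫ G₁.hom.appTop).hom → Function.Bijective ((Scheme.ΓSpecIso (CommRingCat.of k)).inv ≫ G₂.hom.appTop).hom → Function.Bijective ((Scheme.ΓSpecIso (CommRingCat.of k)).inv ≫ G.hom.appTop).hom) := by
  -- quasi-compactness of q
  haveI : IsLocallyNoetherian G₂.left := LocallyOfFiniteType.isLocallyNoetherian G₂.hom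
  haveI : CompactSpace G₂.left := (quasiCompact_iff_compactSpace G₂.hom).mp inferInstance
  haveI : IsNoetherian G₂.left := {}
  haveI : QuasiSeparated G₂.hom := (quasiSeparated_iff_quasiSeparatedSpace G₂.hom).mpr inferInstance
  haveI : QuasiCompact (q.left ≫ G₂.hom) := by rw [Over.w q]; infer_instance
  haveI : QuasiCompact q.left := QuasiCompact.of_comp q.left G₂.hom
  haveI : Epi q.left := inferInstance
  haveI : Epi q := Over.epi_of_epi_left q
  have hinj : Function.Injective q.left.appTop.hom :=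
    Groth.Agent.Lib.Helper60.DiagHom.appTop_injective_of_epi q
  have hcomp : (Scheme.ΓSpecIso (CommRingCat.of k)).inv ≫ G.hom.appTop =
      ((Scheme.ΓSpecIso (CommRingCat.of k)).inv ≫ G₂.hom.appTop) ≫ q.left.appTop := by
    rw [← Over.w q, Scheme.Hom.comp_appTop, Category.assoc]
  refine ⟨fun hG => ?_, fun hG₁ hG₂ => ?_⟩
  · rw [hcomp, CommRingCat.hom_comp, RingHom.coe_comp] at hG
    refine ⟨fun x y hxy => hG.1 (by simp only [Function.comp_apply]; rw [hxy]), fun t => ?_⟩
    obtain ⟨c, hc⟩ := hG.2 (q.left.appTop.hom t)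
    exact ⟨c, hinj hc⟩
  · -- G₁ is qcqs
    haveI : IsLocallyNoetherian G₁.left := LocallyOfFiniteType.isLocallyNoetherian G₁.hom
    haveI : CompactSpace G₁.left := (quasiCompact_iff_compactSpace G₁.hom).mp inferInstance
    haveI : IsNoetherian G₁.left := {}
    haveI : QuasiSeparated G₁.hom :=
      (quasiSeparated_iff_quasiSeparatedSpace G₁.hom).mpr inferInstance
    have H : IsPullback (pullback.snd G.hom G₁.hom) (pullback.fst G.hom G₁.hom) G₁.hom G.hom :=
      (IsPullback.of_hasPullback G.hom G₁.hom).flip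
    haveI hfstiso : IsIso (pullback.fst G.hom G₁.hom).appTop :=
      Groth.Agent.Lib.Helper48.FibBaseChange.isIso_app_of_isPullback H
        (Groth.Agent.Lib.Helper60.Rigidity.isIso_app_of_bijective G₁.hom hG₁) ⊤
    have hfstsurj : Function.Surjective (fst G G₁).left.appTop.hom :=
      (ConcreteCategory.bijective_of_isIso (pullback.fst G.hom G₁.hom).appTop).2
    refine ⟨?_, ?_⟩
    · obtain ⟨x⟩ : Nonempty G.left := by
        obtain ⟨z⟩ := (inferInstance : ConnectedSpace G₂.left).toNonempty
        obtain ⟨x, -⟩ := (inferInstance : Surjective q.left).surj z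
        exact ⟨x⟩
      haveI : Nonempty (⊤ : G.left.Opens) := ⟨⟨x, trivial⟩⟩
      haveI : Nontrivial Γ(G.left, ⊤) := G.left.component_nontrivial ⊤
      exact RingHom.injective _
    · intro x
      obtain ⟨y, rfl⟩ := Groth.Agent.Lib.Helper43.gaFn_surjective (S := Spec (CommRingCat.of k))
        (X := G) x
      -- invariance under G₁
      let σ : G ⟶ G ⊗ G₁ := lift (𝟙 G) (toUnit G ≫ η[G₁])
      let m : G ⊗ G₁ ⟶ G := (fst G G₁) * (snd G G₁ ≫ i)
      have hσm : σ ≫ m = 𝟙 G := by
        show σ ≫ ((fst G G₁) * (snd G G₁ ≫ i)) = 𝟙 G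
        rw [MonObj.comp_mul, lift_fst, lift_snd_assoc, Category.assoc,
          IsMonHom.one_hom (f := i)]
        have : toUnit G ≫ η[G] = (1 : G ⟶ G) := rfl
        rw [this, _root_.mul_one]
      have hξ : m ≫ y = fst G G₁ ≫ y := by
        apply Groth.Agent.Lib.Helper43.gaFn_injective
        rw [Groth.Agent.Lib.Helper43.gaFn_comp (fst G G₁) y]
        obtain ⟨z, hz⟩ := hfstsurj (Red.gaFn (m ≫ y))
        have h1 : Red.gaFn y = z := by
          have h2 : Red.gaFn (σ ≫ m ≫ y) = z := by
            rw [Groth.Agent.Lib.Helper43.gaFn_comp σ (m ≫ y), ← hz]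
            have h3 : σ ≫ fst G G₁ = 𝟙 G := lift_fst _ _
            have h4 := congrArg (fun f => f.left.appTop.hom z) h3
            simpa using h4
          rwa [reassoc_of% hσm] at h2
        rw [h1]; exact hz.symm
      have hinv : ∀ {T : Over (Spec (CommRingCat.of k))} (a₁ a₂ : T ⟶ G), a₁ ≫ q = a₂ ≫ q →
          a₁ ≫ y = a₂ ≫ y := by
        intro T a₁ a₂ h
        have hh : (a₁⁻¹ * a₂) ≫ q = toUnit T ≫ η[G₂] := by
          rw [MonObj.mul_comp, GrpObj.inv_comp, h, inv_mul_cancel]; rfl
        let h' : T ⟶ G₁ := hex.lift (a₁⁻¹ * a₂) (toUnit T) hh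
        have hh' : h' ≫ i = a₁⁻¹ * a₂ := hex.lift_fst _ _ _
        have e2 : lift a₁ h' ≫ m = a₂ := by
          show lift a₁ h' ≫ ((fst G G₁) * (snd G G₁ ≫ i)) = a₂
          rw [MonObj.comp_mul, lift_fst, lift_snd_assoc, hh']
          group
        have e1 : lift a₁ h' ≫ fst G G₁ = a₁ := lift_fst _ _
        rw [← e2, Category.assoc, hξ, reassoc_of% e1]
      let ybar : G₂.left ⟶ (Red.Ga (Spec (CommRingCat.of k))).left :=
        EffectiveEpi.desc q.left y.left (by
          intro Z g₁ g₂ hg
          have hg2 : g₂ ≫ G.hom = g₁ ≫ G.hom := by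
            rw [← Over.w q, ← Category.assoc, ← hg, Category.assoc]
          let T : Over (Spec (CommRingCat.of k)) := Over.mk (g₁ ≫ G.hom)
          let a₁ : T ⟶ G := Over.homMk g₁ rfl
          let a₂ : T ⟶ G := Over.homMk g₂ hg2
          have := hinv a₁ a₂ (by apply Over.OverMorphism.ext; exact hg)
          exact congrArg (fun f => f.left) this)
      have hfac : q.left ≫ ybar = y.left := EffectiveEpi.fac _ _ _
      let ybar' : G₂ ⟶ Red.Ga (Spec (CommRingCat.of k)) := Over.homMk ybar (by
        rw [← cancel_epi q.left, ← Category.assoc, hfac, Over.w y, Over.w q])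
      have hy : q ≫ ybar' = y := by
        apply Over.OverMorphism.ext
        exact hfac
      obtain ⟨c, hc⟩ := hG₂.2 (Red.gaFn ybar')
      refine ⟨c, ?_⟩
      rw [← hy, Groth.Agent.Lib.Helper43.gaFn_comp q ybar', ← hc, hcomp]
      rfl

end Groth.Agent.S18070
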