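import Groth.Statements.S18112
-- import your own Groth.Agent.* helpers here
import Groth.Agent.Lib.Helper91.IntValued

set_option autoImplicit false
universe u
open CategoryTheory CategoryTheory.Limits MonoidalCategory CartesianMonoidalCategory MonObj GrpObj AlgebraicGeometry
open AbVar

namespace Groth.Agent.S18112

open Polynomial in
theorem step (g : ℕ) (u v : ℚ) (Q : ℚ[X]) (hQ : Q.natDegree ≤ g) (N : ℤ → ℕ → ℕ)
    (hpoly : ∀ (a : ℤ) (b : ℕ), 0 < b → u < (a : ℚ) / (b : ℚ) → (a : ℚ) / (b : ℚ) < v →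
      ((N a b : ℕ) : ℚ) / (b : ℚ) ^ (2 * g) = Q.eval ((a : ℚ) / (b : ℚ)))
    (j : ℕ) (hj : j ≤ g) (b : ℕ) (hb : 0 < b) (hbig : (g : ℚ) + 1 < b * (v - u)) :
    ∃ z : ℤ, (g.factorial : ℚ) * Q.coeff j * (b : ℚ) ^ (2 * g - j) = z := by
  have hb0 : (b : ℚ) ≠ 0 := by exact_mod_cast hb.ne'
  have hbpos : (0 : ℚ) < b := by exact_mod_cast hb
  set R : ℚ[X] := C ((b : ℚ) ^ (2 * g)) * Q.comp (C ((b : ℚ)⁻¹) * X) with hR
  have hRdeg : R.natDegree ≤ g := by
    refine (natDegree_C_mul_le _ _).trans ?_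
    refine (natDegree_comp_le).trans ?_
    have : (C ((b : ℚ)⁻¹) * X : ℚ[X]).natDegree ≤ 1 := (natDegree_C_mul_le _ _).trans natDegree_X_le
    calc Q.natDegree * (C ((b : ℚ)⁻¹) * X : ℚ[X]).natDegree ≤ g * 1 := Nat.mul_le_mul hQ this
      _ = g := mul_one g
  set a₀ : ℤ := ⌊(b : ℚ) * u⌋ + 1 with ha₀
  have h1 : (b : ℚ) * u < a₀ := by
    rw [ha₀]; push_cast; exact Int.lt_floor_add_one _
  have h2 : (a₀ : ℚ) ≤ b * u + 1 := by
    rw [ha₀]; push_cast; linarith [Int.floor_le ((b : ℚ) * u)]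
  have hval : ∀ i : ℕ, i ≤ g → ∃ z : ℤ, R.eval ((a₀ : ℚ) + i) = z := by
    intro i hi
    have hi' : (i : ℚ) ≤ g := by exact_mod_cast hi
    have hlo : u < ((a₀ + i : ℤ) : ℚ) / b := by
      rw [lt_div_iff₀ hbpos]; push_cast
      have : (0 : ℚ) ≤ i := by positivity
      linarith
    have hhi : ((a₀ + i : ℤ) : ℚ) / b < v := by
      rw [div_lt_iff₀ hbpos]; push_cast
      linarith
    have := hpoly (a₀ + i) b hb hlo hhi
    refine ⟨(N (a₀ + i) b : ℤ), ?_⟩
    rw [hR, eval_mul, eval_C, eval_comp, eval_mul, eval_C, eval_X]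
    have e : (b : ℚ)⁻¹ * ((a₀ : ℚ) + i) = ((a₀ + i : ℤ) : ℚ) / b := by
      push_cast; field_simp
    rw [e, ← this]
    have hbp : (b : ℚ) ^ (2 * g) ≠ 0 := pow_ne_zero _ hb0
    field_simp
    push_cast
    rfl
  obtain ⟨z, hz⟩ := Groth.Agent.Lib.Helper91.intValued_coeff g R hRdeg a₀ hval j
  refine ⟨z, ?_⟩
  rw [← hz, hR, coeff_C_mul, comp_C_mul_X_coeff]
  have hsplit : (b : ℚ) ^ (2 * g) = (b : ℚ) ^ (2 * g - j) * (b : ℚ) ^ j := by
    rw [← pow_add]; congr 1; omega
  rw [hsplit, inv_pow]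
  field_simp

theorem pure (g : ℕ) (u v : ℚ) (huv : u < v) (Q : Polynomial ℚ) (hQ : Q.natDegree ≤ g)
    (N : ℤ → ℕ → ℕ)
    (hpoly : ∀ (a : ℤ) (b : ℕ), 0 < b → u < (a : ℚ) / (b : ℚ) → (a : ℚ) / (b : ℚ) < v →
      ((N a b : ℕ) : ℚ) / (b : ℚ) ^ (2 * g) = Q.eval ((a : ℚ) / (b : ℚ)))
    (j : ℕ) : ∃ z : ℤ, (Nat.factorial g : ℚ) * Q.coeff j = (z : ℚ) := by
  by_cases hj : g < j
  · refine ⟨0, ?_⟩
    rw [Polynomial.coeff_eq_zero_of_natDegree_lt (lt_of_le_of_lt hQ hj)]
    simp
  · have hj' : j ≤ g := not_lt.mp hj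
    have hvu : 0 < v - u := sub_pos.mpr huv
    obtain ⟨B, hB⟩ := exists_nat_gt (((g : ℚ) + 1) / (v - u))
    have hB' : (g : ℚ) + 1 < B * (v - u) := by
      rwa [div_lt_iff₀ hvu] at hB
    have hBpos : 0 < B := by
      rcases Nat.eq_zero_or_pos B with h | h
      · subst h
        have : (0 : ℚ) ≤ g := by positivity
        simp at hB'
        linarith
      · exact h
    have hB1' : (g : ℚ) + 1 < ((B + 1 : ℕ) : ℚ) * (v - u) := by
      push_cast; nlinarith
    obtain ⟨z₁, hz₁⟩ := step g u v Q hQ N hpoly j hj' B hBpos hB'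
    obtain ⟨z₂, hz₂⟩ := step g u v Q hQ N hpoly j hj' (B + 1) (Nat.succ_pos B) hB1'
    have hcop : IsCoprime ((B : ℤ) ^ (2 * g - j)) (((B : ℤ) + 1) ^ (2 * g - j)) := by
      apply IsCoprime.pow
      exact ⟨-1, 1, by ring⟩
    obtain ⟨s, t, hst⟩ := hcop
    refine ⟨s * z₁ + t * z₂, ?_⟩
    have hstq : (s : ℚ) * (B : ℚ) ^ (2 * g - j) + (t : ℚ) * ((B : ℚ) + 1) ^ (2 * g - j) = 1 := by
      exact_mod_cast hst
    push_cast at hz₂ ⊢
    rw [← hz₁, ← hz₂]
    linear_combination (-(g.factorial : ℚ) * Q.coeff j) * hstq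

/-- Let k be an algebraically closed field of characteristic zero, A an abelian variety over k (a proper
smooth k-group scheme with geometrically connected fibres) of dimension g, (A^t, φ) a given dual
abelian variety of A for the fppf topology with A^t itself an abelian variety, and P an invertible
module on A ×_k A^t whose class is a Poincaré class; for a k-point α of A^t write P_α for the
restriction of P to A × {α}. Let L be an ample invertible O_A-module with an inverse L' (L ⊗ L' ≅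
O_A), negative powers of L meaning powers of L'. For a coherent O_A-module G write h^i_gen(G) for
the generic value of h^i(A, G ⊗ P_α), rendered as the minimum over all k-points α of A^t (the
generic value by semicontinuity), and for b ≥ 1 let b_A : A → A be multiplication by b. Let F be a
coherent O_A-module and i ≥ 0, and consider the i-th cohomological rank function of F with respect
to L, the function on the rationals x = a/b (b ≥ 1) with value b^{-2g} · h^i_gen(b_A^* F ⊗ L^{ab}).
Suppose that on an open interval (u, v), u < v rational, this function agrees with a polynomial Q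
with rational coefficients of degree at most g. Then every coefficient of Q lies in (1/g!)ℤ, i.e. g!
· Q has integer coefficients. (Stated for a coherent module; the source allows any object of the
bounded derived category of coherent modules. The degree bound on Q, which the source takes from the
local polynomiality of rank functions, is made a hypothesis here.) -/
theorem result (k : Type u) [Field k] [IsAlgClosed k] [CharZero k]
    (A At : Over (Spec (CommRingCat.of k))) [GrpObj A] [IsProper A.hom] [Smooth A.hom] [GeometricallyConnected A.hom]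
    [GrpObj At] [IsProper At.hom] [Smooth At.hom] [GeometricallyConnected At.hom]
    (φ : ∀ T : Over (Spec (CommRingCat.of k)), PicF.Cl (PicF.XT A.hom T) → (T ⟶ At))
    (hφ : AbDual.IsDualAV Scheme.fppfPrecoverage A At φ)
    (P : (pullback A.hom At.hom).Modules) (hP : PicF.IsInvertible P)
    (hPξ : AbDual.IsPoincareCl A At φ (PicF.cl P))
    (g : ℕ) (hg : topologicalKrullDim ↥A.left = g)
    (L L' : A.left.Modules) (hL : CohB1.IsAmple L) (hLL' : Nonempty (CohB1.tensorMod L L' ≅ Coh.structureModule A.left))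
    (F : A.left.Modules) (hF : Coh.IsCoh F) (i : ℕ) (u v : ℚ) (huv : u < v)
    (Q : Polynomial ℚ) (hQ : Q.natDegree ≤ g)
    (hpoly : ∀ (a : ℤ) (b : ℕ), 0 < b → u < (a : ℚ) / (b : ℚ) → (a : ℚ) / (b : ℚ) < v →
      ((W4c5cohrankabvar.hgen k P (W4c5cohrankabvar.twist A F L L' b (a * b)) i : ℕ) : ℚ) / (b : ℚ) ^ (2 * g) =
        Q.eval ((a : ℚ) / (b : ℚ)))
    (j : ℕ) : ∃ z : ℤ, (Nat.factorial g : ℚ) * Q.coeff j = (z : ℚ) := by
  exact pure g u v huv Q hQ
    (fun a b => W4c5cohrankabvar.hgen k P (W4c5cohrankabvar.twist A F L L' b (a * b)) i) hpoly j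

end Groth.Agent.S18112
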