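import Groth.Statements.S18121
import Mathlib

set_option autoImplicit false
universe u
open Pinch

namespace Groth.Agent.S18121

open Polynomial

section
variable (B : Type u) [CommRing B] (b : B)

lemma root_sq : (AdjoinRoot.root (X ^ 2 - C b : B[X])) ^ 2 = AdjoinRoot.of _ b := by
  have := AdjoinRoot.eval₂_root (X ^ 2 - C b : B[X])
  simpa [sub_eq_zero] using this

lemma repr (w : AdjoinRoot (X ^ 2 - C b : B[X])) :
    ∃ β γ : B, w = AdjoinRoot.of _ β + AdjoinRoot.of _ γ * AdjoinRoot.root _ := by
  induction w using AdjoinRoot.induction_on with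
  | ih p =>
    induction p using Polynomial.induction_on with
    | C a => exact ⟨a, 0, by simp⟩
    | add p q hp hq =>
      obtain ⟨β, γ, h⟩ := hp
      obtain ⟨β', γ', h'⟩ := hq
      refine ⟨β + β', γ + γ', ?_⟩
      rw [map_add, h, h']
      simp only [map_add]
      ring
    | monomial n a h =>
      obtain ⟨β, γ, h⟩ := h
      refine ⟨γ * b, β, ?_⟩
      have : (AdjoinRoot.mk (X ^ 2 - C b : B[X])) (C a * X ^ (n + 1)) =
          (AdjoinRoot.mk (X ^ 2 - C b : B[X])) (C a * X ^ n) * AdjoinRoot.root _ := by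
        rw [pow_succ X n, ← mul_assoc, map_mul, AdjoinRoot.mk_X]
      rw [this, h, add_mul, mul_assoc, ← pow_two, root_sq, map_mul, add_comm]

lemma indep (β γ : B)
    (h : AdjoinRoot.of (X ^ 2 - C b : B[X]) β + AdjoinRoot.of _ γ * AdjoinRoot.root _ = 0) :
    β = 0 ∧ γ = 0 := by
  nontriviality B
  have h1 : AdjoinRoot.mk (X ^ 2 - C b : B[X]) (C γ * X + C β) = 0 := by
    rw [map_add, map_mul, AdjoinRoot.mk_X, AdjoinRoot.mk_C, add_comm]; exact h
  rw [AdjoinRoot.mk_eq_zero] at h1
  have h2 : (C γ * X + C β : B[X]) = 0 := by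
    by_contra hne
    refine (monic_X_pow_sub_C b (by norm_num)).not_dvd_of_degree_lt hne ?_ h1
    rw [degree_X_pow_sub_C (by norm_num) b]
    exact lt_of_le_of_lt (degree_linear_le) (by norm_num)
  constructor
  · have := congrArg (fun p => coeff p 0) h2
    simpa using this
  · have := congrArg (fun p => coeff p 1) h2
    simpa using this

/-- the map Ψ -/
noncomputable def Psi : MvPolynomial (Fin 2) B →ₐ[B] Polynomial (AdjoinRoot (X ^ 2 - C b : B[X])) :=
  MvPolynomial.aeval ![C (AdjoinRoot.root (X ^ 2 - C b : B[X])) * X, X]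

lemma Psi_X0 : Psi B b (MvPolynomial.X 0) = C (AdjoinRoot.root (X ^ 2 - C b : B[X])) * X := by
  simp [Psi]
lemma Psi_X1 : Psi B b (MvPolynomial.X 1) = X := by
  simp [Psi]
lemma Psi_C (c : B) : Psi B b (MvPolynomial.C c) = C (AdjoinRoot.of _ c) := by
  simp [Psi]

lemma range_claim (G : Polynomial (AdjoinRoot (X ^ 2 - C b : B[X])))
    (hG : ∃ c : B, G.coeff 0 = algebraMap B (AdjoinRoot (X ^ 2 - C b : B[X])) c) :
    G ∈ (Psi B b).range := by
  obtain ⟨c, hc⟩ := hG
  rw [G.as_sum_support]
  refine Subalgebra.sum_mem _ fun n _ => ?_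
  rcases n with _ | k
  · refine (AlgHom.mem_range _).mpr ⟨MvPolynomial.C c, ?_⟩
    rw [Psi_C, hc, monomial_zero_left]; rfl
  · obtain ⟨β, γ, h⟩ := repr B b (G.coeff (k + 1))
    refine (AlgHom.mem_range _).mpr ⟨MvPolynomial.C β * MvPolynomial.X 1 ^ (k + 1) +
      MvPolynomial.C γ * MvPolynomial.X 0 * MvPolynomial.X 1 ^ k, ?_⟩
    simp only [map_add, map_mul, map_pow, Psi_C, Psi_X0, Psi_X1]
    rw [h, ← C_mul_X_pow_eq_monomial, map_add, map_mul]
    ring


lemma Psi_gen : Psi B b (MvPolynomial.X 0 ^ 2 - MvPolynomial.C b * MvPolynomial.X 1 ^ 2) = 0 := by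
  simp only [map_sub, map_mul, map_pow, Psi_X0, Psi_X1, Psi_C]
  rw [mul_pow, ← C_pow, root_sq, sub_self]

lemma normal_form (F : MvPolynomial (Fin 2) B) : ∃ F0 F1 : B[X],
    F - (Polynomial.aeval (MvPolynomial.X 1 : MvPolynomial (Fin 2) B) F0 +
      MvPolynomial.X 0 * Polynomial.aeval (MvPolynomial.X 1 : MvPolynomial (Fin 2) B) F1) ∈
      Ideal.span {MvPolynomial.X 0 ^ 2 - MvPolynomial.C b * MvPolynomial.X 1 ^ 2} := by
  induction F using MvPolynomial.induction_on with
  | C a => exact ⟨C a, 0, by simp [MvPolynomial.algebraMap_eq]⟩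
  | add p q hp hq =>
    obtain ⟨F0, F1, h⟩ := hp
    obtain ⟨G0, G1, h'⟩ := hq
    refine ⟨F0 + G0, F1 + G1, ?_⟩
    have := Ideal.add_mem _ h h'
    convert this using 1
    simp only [map_add]
    ring
  | mul_X p i hp =>
    obtain ⟨F0, F1, h⟩ := hp
    fin_cases i
    · refine ⟨C b * X ^ 2 * F1, F0, ?_⟩
      have := Ideal.add_mem _ (Ideal.mul_mem_right (MvPolynomial.X 0) _ h)
        (Ideal.mul_mem_right (Polynomial.aeval (MvPolynomial.X 1 : MvPolynomial (Fin 2) B) F1) _
          (Ideal.subset_span (Set.mem_singleton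
            (MvPolynomial.X 0 ^ 2 - MvPolynomial.C b * MvPolynomial.X 1 ^ 2))))
      convert this using 1
      simp only [map_mul, map_pow, Polynomial.aeval_C, Polynomial.aeval_X, MvPolynomial.algebraMap_eq,
        Fin.zero_eta]
      ring
    · refine ⟨F0 * X, F1 * X, ?_⟩
      have := Ideal.mul_mem_right (MvPolynomial.X 1) _ h
      convert this using 1
      simp only [map_mul, Polynomial.aeval_X, Fin.mk_one]
      ring

lemma ker_claim : RingHom.ker (Psi B b).toRingHom =
    Ideal.span {MvPolynomial.X 0 ^ 2 - MvPolynomial.C b * MvPolynomial.X 1 ^ 2} := by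
  apply le_antisymm
  · intro F hF
    obtain ⟨F0, F1, h⟩ := normal_form B b F
    have hd : Psi B b (F - (Polynomial.aeval (MvPolynomial.X 1 : MvPolynomial (Fin 2) B) F0 +
      MvPolynomial.X 0 * Polynomial.aeval (MvPolynomial.X 1 : MvPolynomial (Fin 2) B) F1)) = 0 := by
      have hle : Ideal.span {MvPolynomial.X 0 ^ 2 - MvPolynomial.C b * MvPolynomial.X 1 ^ 2} ≤
          RingHom.ker (Psi B b).toRingHom := by
        rw [Ideal.span_singleton_le_iff_mem]
        exact Psi_gen B b
      exact hle h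
    have hF' : Psi B b F = 0 := hF
    rw [map_sub, hF', zero_sub, neg_eq_zero, map_add, map_mul, Psi_X0,
      ← Polynomial.aeval_algHom_apply, ← Polynomial.aeval_algHom_apply, Psi_X1,
      Polynomial.aeval_X_left_eq_map, Polynomial.aeval_X_left_eq_map] at hd
    have hcoef : ∀ n, F0.coeff n = 0 ∧ (n ≥ 1 → F1.coeff (n - 1) = 0) := by
      intro n
      have hn := congrArg (fun p => Polynomial.coeff p n) hd
      simp only [Polynomial.coeff_add, Polynomial.coeff_map, Polynomial.coeff_zero, mul_assoc,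
        Polynomial.coeff_C_mul] at hn
      rcases n with _ | k
      · simp only [Polynomial.coeff_X_mul_zero, mul_zero, add_zero] at hn
        have := indep B b (F0.coeff 0) 0 (by simpa using hn)
        exact ⟨this.1, by intro h; omega⟩
      · simp only [Polynomial.coeff_X_mul, Polynomial.coeff_map] at hn
        have := indep B b (F0.coeff (k + 1)) (F1.coeff k) (by
          rw [← hn, mul_comm (AdjoinRoot.root _)]; rfl)
        exact ⟨this.1, fun _ => by simpa using this.2⟩
    have hF0 : F0 = 0 := by ext n; simpa using (hcoef n).1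
    have hF1 : F1 = 0 := by
      ext n; have := (hcoef (n + 1)).2 (by omega); simpa using this
    rw [hF0, hF1] at h
    simpa using h
  · rw [Ideal.span_singleton_le_iff_mem]
    exact Psi_gen B b

end
/-- Let B be a commutative ring, b an element of B, B' := B[z]/(z^2 - b) the rank-two B-algebra with z^2
= b, and Ψ : B[u, v] → B'[t] the B-algebra homomorphism with u ↦ z t and v ↦ t. Then the kernel of Ψ
is the principal ideal generated by u^2 - b v^2, and a polynomial of B'[t] lies in the image of Ψ as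
soon as its constant coefficient lies in B. Equivalently, B[u, v]/(u^2 - b v^2) is the fibre product
of B'[t] and B over B' (for t ↦ 0 and the inclusion of B): the pinching of Spec B' × 𝔸¹ along Spec
B' × {0} by the double cover Spec B' → Spec B is the hypersurface u^2 = b v^2 over B; for B = K[w]
and b = w this is the pinch point u^2 = v^2 w. -/
theorem result (B : Type u) [CommRing B] (b : B) :
    letI Ψ : MvPolynomial (Fin 2) B →ₐ[B] Polynomial (AdjoinRoot (Polynomial.X ^ 2 - Polynomial.C b)) :=
      MvPolynomial.aeval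
        ![Polynomial.C (AdjoinRoot.root (Polynomial.X ^ 2 - Polynomial.C b)) * Polynomial.X, Polynomial.X]
    RingHom.ker Ψ.toRingHom =
        Ideal.span {MvPolynomial.X 0 ^ 2 - MvPolynomial.C b * MvPolynomial.X 1 ^ 2} ∧
      ∀ G : Polynomial (AdjoinRoot (Polynomial.X ^ 2 - Polynomial.C b)),
        (∃ c : B, G.coeff 0 = algebraMap B (AdjoinRoot (Polynomial.X ^ 2 - Polynomial.C b)) c) →
          G ∈ Ψ.range := by
  exact ⟨ker_claim B b, range_claim B b⟩

end Groth.Agent.S18121
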