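import Groth.Statements.S18122
-- import your own Groth.Agent.* helpers here
import Mathlib.Tactic
import Mathlib.Algebra.MvPolynomial.Division
import Mathlib.Algebra.MvPolynomial.Derivation

set_option autoImplicit false
universe u
open Pinch

namespace Groth.Agent.S18122

theorem aux (K : Type u) [Field K] [NeZero (2 : K)] (R : Subalgebra K (MvPolynomial (Fin 2) K))
    (hR : R = Algebra.adjoin K {MvPolynomial.X 0 ^ 2, MvPolynomial.X 0 * MvPolynomial.X 1, MvPolynomial.X 1})
    (δ : Derivation K R (MvPolynomial (Fin 2) K)) :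
    ∃! D : Derivation K (MvPolynomial (Fin 2) K) (MvPolynomial (Fin 2) K),
      ∀ r : R, D (r : MvPolynomial (Fin 2) K) = δ r := by
  set x : MvPolynomial (Fin 2) K := MvPolynomial.X 0 with hx
  set y : MvPolynomial (Fin 2) K := MvPolynomial.X 1 with hy
  have hx2m : x ^ 2 ∈ R := by rw [hR]; exact Algebra.subset_adjoin (by simp)
  have hxym : x * y ∈ R := by rw [hR]; exact Algebra.subset_adjoin (by simp)
  have hym : y ∈ R := by rw [hR]; exact Algebra.subset_adjoin (by simp)
  have hx0 : x ≠ 0 := MvPolynomial.X_ne_zero _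
  have hy0 : y ≠ 0 := MvPolynomial.X_ne_zero _
  have h2K : (2 : K) ≠ 0 := NeZero.ne 2
  have h2 : (2 : MvPolynomial (Fin 2) K) ≠ 0 := by
    have : (2 : MvPolynomial (Fin 2) K) = MvPolynomial.C (2 : K) := (map_ofNat MvPolynomial.C 2).symm
    rw [this]
    intro h
    exact h2K (MvPolynomial.C_injective _ _ (by rw [h, map_zero]))
  have hhalf : (MvPolynomial.C (2⁻¹ : K) : MvPolynomial (Fin 2) K) * 2 = 1 := by
    have : (2 : MvPolynomial (Fin 2) K) = MvPolynomial.C (2 : K) := (map_ofNat MvPolynomial.C 2).symm
    rw [this, ← MvPolynomial.C_mul, inv_mul_cancel₀ h2K, MvPolynomial.C_1]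
  -- the key relation
  have hrel : (⟨x * y, hxym⟩ : R) * ⟨x * y, hxym⟩ = ⟨x ^ 2, hx2m⟩ * (⟨y, hym⟩ * ⟨y, hym⟩) := by
    apply Subtype.ext
    show x * y * (x * y) = x ^ 2 * (y * y)
    ring
  have hδrel := congrArg δ hrel
  rw [Derivation.leibniz, Derivation.leibniz, Derivation.leibniz] at hδrel
  simp only [Subalgebra.smul_def, smul_eq_mul, Subalgebra.coe_mul] at hδrel
  -- hδrel : x*y * δ xy + x*y * δ xy = x^2 * (y * δ y + y * δ y) + (y*y) * δ x2
  set dxy := δ ⟨x * y, hxym⟩ with hdxy
  set dx2 := δ ⟨x ^ 2, hx2m⟩ with hdx2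
  set dy := δ ⟨y, hym⟩ with hdy
  have hrel2 : 2 * x * dxy = y * dx2 + 2 * x ^ 2 * dy := by
    apply mul_left_cancel₀ hy0
    linear_combination hδrel
  have hdvd : x ∣ dx2 := by
    have h1 : x ∣ y * dx2 := by
      refine ⟨2 * dxy - 2 * x * dy, ?_⟩
      linear_combination (-1 : MvPolynomial (Fin 2) K) * hrel2
    rcases (MvPolynomial.X_prime (R := K) (i := (0 : Fin 2))).dvd_or_dvd h1 with h | h
    · exfalso
      -- x ∣ y is impossible
      rw [hy, MvPolynomial.X_dvd_X] at h
      exact absurd h (by decide)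
    · exact h
  obtain ⟨q, hq⟩ := hdvd
  set a := MvPolynomial.C (2⁻¹ : K) * q with ha
  have h2a : 2 * a = q := by
    rw [ha, ← mul_assoc, mul_comm 2, hhalf, one_mul]
  set D := MvPolynomial.mkDerivation K ![a, dy] with hD
  have hDx : D x = a := by rw [hD, hx, MvPolynomial.mkDerivation_X]; rfl
  have hDy : D y = dy := by rw [hD, hy, MvPolynomial.mkDerivation_X]; rfl
  have hDx2 : D (x ^ 2) = dx2 := by
    rw [pow_two, Derivation.leibniz, hDx, smul_eq_mul, hq, ← h2a]; ring
  have hDxy : D (x * y) = dxy := by
    rw [Derivation.leibniz, hDx, hDy, smul_eq_mul, smul_eq_mul]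
    apply mul_left_cancel₀ (mul_ne_zero h2 hx0)
    rw [hrel2, hq, ← h2a]; ring
  have hagree : ∀ (r : MvPolynomial (Fin 2) K) (hr : r ∈ R), D r = δ ⟨r, hr⟩ := by
    intro r hr
    have hr' : r ∈ Algebra.adjoin K {x ^ 2, x * y, y} := by rw [← hR]; exact hr
    have key : ∀ (hr'' : r ∈ R), D r = δ ⟨r, hr''⟩ := by
      induction hr' using Algebra.adjoin_induction with
      | mem z hz =>
        intro _
        simp only [Set.mem_insert_iff, Set.mem_singleton_iff] at hz
        rcases hz with rfl | rfl | rfl
        · exact hDx2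
        · exact hDxy
        · exact hDy
      | algebraMap c =>
        intro _
        rw [Derivation.map_algebraMap]
        have : (⟨algebraMap K (MvPolynomial (Fin 2) K) c, Subalgebra.algebraMap_mem _ c⟩ : R)
            = algebraMap K R c := rfl
        rw [this, Derivation.map_algebraMap]
      | add p q hp hq ihp ihq =>
        intro _
        have hp' : p ∈ R := by rw [hR]; exact hp
        have hq' : q ∈ R := by rw [hR]; exact hq
        have : (⟨p + q, Subalgebra.add_mem _ hp' hq'⟩ : R) = ⟨p, hp'⟩ + ⟨q, hq'⟩ := rfl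
        rw [this, map_add, map_add, ihp hp' hp', ihq hq' hq']
      | mul p q hp hq ihp ihq =>
        intro _
        have hp' : p ∈ R := by rw [hR]; exact hp
        have hq' : q ∈ R := by rw [hR]; exact hq
        have : (⟨p * q, Subalgebra.mul_mem _ hp' hq'⟩ : R) = ⟨p, hp'⟩ * ⟨q, hq'⟩ := rfl
        rw [this, Derivation.leibniz, Derivation.leibniz, ihp hp' hp', ihq hq' hq']
        simp only [Subalgebra.smul_def, smul_eq_mul]
    exact key hr
  refine ⟨D, fun r => hagree r r.2, ?_⟩
  intro D' hD'
  apply MvPolynomial.derivation_ext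
  intro i
  have hD'x2 : D' (x ^ 2) = dx2 := hD' ⟨x ^ 2, hx2m⟩
  have hD'y : D' y = dy := hD' ⟨y, hym⟩
  fin_cases i
  · show D' x = D x
    rw [hDx]
    apply mul_left_cancel₀ (mul_ne_zero h2 hx0)
    have : D' (x ^ 2) = 2 * x * D' x := by
      rw [pow_two, Derivation.leibniz, smul_eq_mul]; ring
    rw [← this, hD'x2, hq, ← h2a]; ring
  · show D' y = D y
    rw [hDy, hD'y]


/-- Let K be a field in which 2 ≠ 0, S = K[x, y], and R ⊆ S the K-subalgebra generated by x^2, x y and
y; R is the coordinate ring of the pinch point u^2 = v^2 w (u = x y, v = y, w = x^2) and S is its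
normalization. Then restriction along R ⊆ S is a bijection from the K-derivations S → S onto the
K-derivations R → S: every K-derivation R → S extends uniquely to S. In sheaf terms, the natural
injective map from the tangent sheaf of the normalization to the dual of the pulled-back sheaf of
differentials of the pinch point is an isomorphism. (The text works over an algebraically closed
field of characteristic different from 2 and for every semi-smooth variety; only this model case is
stated, and the computation uses only 2 ≠ 0.) -/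
theorem result
    (K : Type u) [Field K] [NeZero (2 : K)] :
    letI R : Subalgebra K (MvPolynomial (Fin 2) K) :=
      Algebra.adjoin K {MvPolynomial.X 0 ^ 2, MvPolynomial.X 0 * MvPolynomial.X 1, MvPolynomial.X 1}
    ∀ δ : Derivation K R (MvPolynomial (Fin 2) K),
      ∃! D : Derivation K (MvPolynomial (Fin 2) K) (MvPolynomial (Fin 2) K),
        ∀ r : R, D (r : MvPolynomial (Fin 2) K) = δ r := by
  intro δ
  exact aux K _ rfl δ

end Groth.Agent.S18122
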