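import Groth.Statements.S18123
import Mathlib

set_option autoImplicit false
universe u
open Pinch

namespace Groth.Agent.S18123

section
variable (K : Type u) [Field K]

local notation "x" => (MvPolynomial.X 0 : MvPolynomial (Fin 2) K)
local notation "y" => (MvPolynomial.X 1 : MvPolynomial (Fin 2) K)
local notation "RR" => (Algebra.adjoin K {x ^ 2, x * y, y} : Subalgebra K (MvPolynomial (Fin 2) K))

/-- evaluation at y = 0 -/
noncomputable def ev : MvPolynomial (Fin 2) K →ₐ[K] Polynomial K :=
  MvPolynomial.aeval ![Polynomial.X, 0]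

@[simp] lemma ev_x : ev K x = Polynomial.X := by simp [ev]
@[simp] lemma ev_y : ev K y = 0 := by simp [ev]

lemma decomp (f : MvPolynomial (Fin 2) K) :
    ∃ h : MvPolynomial (Fin 2) K, f = Polynomial.aeval x (ev K f) + y * h := by
  induction f using MvPolynomial.induction_on with
  | C a => exact ⟨0, by simp [ev, MvPolynomial.algebraMap_eq]⟩
  | add p q hp hq =>
    obtain ⟨h1, e1⟩ := hp
    obtain ⟨h2, e2⟩ := hq
    refine ⟨h1 + h2, ?_⟩
    rw [map_add, map_add]
    nth_rewrite 1 [e1]
    nth_rewrite 1 [e2]
    ring
  | mul_X p i hp =>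
    obtain ⟨h1, e1⟩ := hp
    fin_cases i
    · refine ⟨h1 * x, ?_⟩
      simp only [Fin.zero_eta, map_mul, ev_x, Polynomial.aeval_X]
      nth_rewrite 1 [e1]
      ring
    · refine ⟨p, ?_⟩
      simp only [Fin.mk_one, map_mul, ev_y, mul_zero, map_zero, zero_add]
      ring

lemma x2_mem : x ^ 2 ∈ RR := Algebra.subset_adjoin (by simp)
lemma xy_mem : x * y ∈ RR := Algebra.subset_adjoin (by simp)
lemma y_mem : y ∈ RR := Algebra.subset_adjoin (by simp)

lemma yS (f : MvPolynomial (Fin 2) K) : y * f ∈ RR ∧ x * y * f ∈ RR := by
  induction f using MvPolynomial.induction_on with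
  | C a =>
    constructor
    · have : y * MvPolynomial.C a = a • y := by rw [MvPolynomial.smul_eq_C_mul, mul_comm]
      rw [this]
      exact Subalgebra.smul_mem _ (y_mem K) a
    · have : x * y * MvPolynomial.C a = a • (x * y) := by rw [MvPolynomial.smul_eq_C_mul, mul_comm]
      rw [this]
      exact Subalgebra.smul_mem _ (xy_mem K) a
  | add p q hp hq =>
    constructor
    · rw [mul_add]; exact Subalgebra.add_mem _ hp.1 hq.1
    · rw [mul_add]; exact Subalgebra.add_mem _ hp.2 hq.2
  | mul_X p i hp =>
    fin_cases i
    · constructor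
      · have : y * (p * x) = x * y * p := by ring
        rw [Fin.zero_eta, this]; exact hp.2
      · have : x * y * (p * x) = x ^ 2 * (y * p) := by ring
        rw [Fin.zero_eta, this]; exact Subalgebra.mul_mem _ (x2_mem K) hp.1
    · constructor
      · have : y * (p * y) = (y * p) * y := by ring
        rw [Fin.mk_one, this]; exact Subalgebra.mul_mem _ hp.1 (y_mem K)
      · have : x * y * (p * y) = (x * y * p) * y := by ring
        rw [Fin.mk_one, this]; exact Subalgebra.mul_mem _ hp.2 (y_mem K)

/-- evenness -/
def Even' (q : Polynomial K) : Prop := ∀ n, n % 2 = 1 → q.coeff n = 0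


variable [NeZero (2 : K)]

noncomputable def sg : Polynomial K →ₐ[K] Polynomial K :=
  Polynomial.aeval (Polynomial.C (-1) * Polynomial.X)

lemma coeff_sg (q : Polynomial K) (n : ℕ) : (sg K q).coeff n = q.coeff n * (-1) ^ n := by
  unfold sg; rw [← Polynomial.comp_eq_aeval]; exact Polynomial.comp_C_mul_X_coeff

omit [NeZero (2 : K)] in
lemma two_mul_eq_zero {c : K} [NeZero (2 : K)] (h : (2 : K) * c = 0) : c = 0 :=
  (mul_eq_zero.mp h).resolve_left (NeZero.ne 2)

lemma even_of_fix (q : Polynomial K) (h : sg K q = q) : Even' K q := by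
  intro n hn
  have := congrArg (fun p => Polynomial.coeff p n) h
  simp only [coeff_sg] at this
  have hodd : Odd n := Nat.odd_iff.mpr hn
  rw [hodd.neg_one_pow, mul_neg_one] at this
  exact two_mul_eq_zero K (by linear_combination (-1 : K) * this)

lemma R_even (f : MvPolynomial (Fin 2) K) (hf : f ∈ RR) : Even' K (ev K f) := by
  apply even_of_fix
  have hle : RR ≤ Subalgebra.comap (ev K) (AlgHom.equalizer (sg K) (AlgHom.id K _)) := by
    apply Algebra.adjoin_le
    intro g hg
    simp only [Set.mem_insert_iff, Set.mem_singleton_iff] at hg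
    rcases hg with rfl | rfl | rfl <;>
      simp [AlgHom.mem_equalizer, sg, mul_pow]
  exact hle hf

omit [NeZero (2 : K)] in
lemma mem_R_of_even (f : MvPolynomial (Fin 2) K) (hf : Even' K (ev K f)) : f ∈ RR := by
  obtain ⟨h, e⟩ := decomp K f
  rw [e]
  refine Subalgebra.add_mem _ ?_ (yS K h).1
  rw [Polynomial.aeval_eq_sum_range]
  refine Subalgebra.sum_mem _ fun n _ => ?_
  rcases Nat.even_or_odd' n with ⟨k, rfl | rfl⟩
  · refine Subalgebra.smul_mem _ ?_ _
    rw [pow_mul]; exact Subalgebra.pow_mem _ (x2_mem K) k
  · rw [hf (2 * k + 1) (by omega), zero_smul]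
    exact Subalgebra.zero_mem _

omit [NeZero (2 : K)] in
lemma even_and_X_mul_even (q : Polynomial K) (h1 : Even' K q) (h2 : Even' K (Polynomial.X * q)) :
    q = 0 := by
  ext n
  rw [Polynomial.coeff_zero]
  rcases Nat.even_or_odd' n with ⟨k, rfl | rfl⟩
  · have := h2 (2 * k + 1) (by omega)
    rwa [Polynomial.coeff_X_mul] at this
  · exact h1 _ (by omega)

omit [NeZero (2 : K)] in
lemma odd_form (q : Polynomial K) (h2 : Even' K (Polynomial.X * q)) :
    ∃ p : Polynomial K, q = Polynomial.X * Polynomial.expand K 2 p := by
  refine ⟨Polynomial.contract 2 q.divX, ?_⟩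
  ext n
  rcases n with _ | m
  · rw [Polynomial.coeff_X_mul_zero]
    have := h2 1 (by norm_num)
    rwa [Polynomial.coeff_X_mul] at this
  · rw [Polynomial.coeff_X_mul, Polynomial.coeff_expand (by norm_num)]
    split_ifs with hm
    · obtain ⟨k, rfl⟩ := hm
      rw [Polynomial.coeff_contract (by norm_num), Nat.mul_div_cancel_left _ (by norm_num),
        Polynomial.coeff_divX, mul_comm]
    · have := h2 (m + 2) (by omega)
      rw [show m + 2 = (m + 1) + 1 by ring, Polynomial.coeff_X_mul] at this
      exact this

end
/-- Let K be a field in which 2 ≠ 0, S = K[x, y], and R ⊆ S the K-subalgebra generated by x^2, x y, y,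
the coordinate ring of the pinch point with normalization S, obtained by gluing the plane along the
line y = 0 via x ↦ -x. A K-derivation D of S maps R into R if and only if D(y) is a multiple of y
and D(x) = y s + x p(x^2) for some s in S and some polynomial p in one variable. Every K-derivation
R → S extends uniquely to S, and under this identification the derivations mapping R into R form the
image of the tangent sheaf of the pinch point in that of its normalization; so this image contains y
times all derivations of S, and modulo those it is spanned by the odd multiples x^(2k+1) ∂/∂x, the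
part of the tangent sheaf of the line y = 0 invariant under x ↦ -x. (The text works over an
algebraically closed field of characteristic different from 2; the computation uses only 2 ≠ 0.) -/
theorem result
    (K : Type u) [Field K] [NeZero (2 : K)]
    (D : Derivation K (MvPolynomial (Fin 2) K) (MvPolynomial (Fin 2) K)) :
    letI x : MvPolynomial (Fin 2) K := MvPolynomial.X 0
    letI y : MvPolynomial (Fin 2) K := MvPolynomial.X 1
    letI R : Subalgebra K (MvPolynomial (Fin 2) K) := Algebra.adjoin K {x ^ 2, x * y, y}
    (∀ r ∈ R, D r ∈ R) ↔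
      (D y ∈ Ideal.span {y} ∧
        ∃ (s : MvPolynomial (Fin 2) K) (p : Polynomial K), D x = y * s + x * Polynomial.aeval (x ^ 2) p) := by
  constructor
  · intro hD
    have hy : Even' K (ev K (D (MvPolynomial.X 1))) := R_even K _ (hD _ (y_mem K))
    have hxy : Even' K (ev K (D (MvPolynomial.X 0 * MvPolynomial.X 1))) :=
      R_even K _ (hD _ (xy_mem K))
    have hx2 : Even' K (ev K (D (MvPolynomial.X 0 ^ 2))) := R_even K _ (hD _ (x2_mem K))
    rw [Derivation.leibniz] at hxy
    simp only [smul_eq_mul, map_add, map_mul, ev_x, ev_y, zero_mul, add_zero] at hxy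
    have hQ0 : ev K (D (MvPolynomial.X 1)) = 0 := even_and_X_mul_even K _ hy hxy
    refine ⟨?_, ?_⟩
    · obtain ⟨h, e⟩ := decomp K (D (MvPolynomial.X 1))
      rw [hQ0, map_zero, zero_add] at e
      rw [e]; exact Ideal.mul_mem_right _ _ (Ideal.subset_span rfl)
    · rw [Derivation.leibniz_pow] at hx2
      simp only [Nat.add_one_sub_one, pow_one, smul_eq_mul, nsmul_eq_mul, Nat.cast_ofNat, map_mul,
        ev_x] at hx2
      have h2 : Even' K (Polynomial.X * ev K (D (MvPolynomial.X 0))) := by
        intro n hn
        have := hx2 n hn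
        rw [map_ofNat, Polynomial.coeff_ofNat_mul] at this
        exact two_mul_eq_zero K this
      obtain ⟨p, hp⟩ := odd_form K _ h2
      obtain ⟨h, e⟩ := decomp K (D (MvPolynomial.X 0))
      refine ⟨h, p, ?_⟩
      rw [hp, map_mul, Polynomial.aeval_X, Polynomial.expand_aeval] at e
      rw [e]; ring
  · rintro ⟨hy, s, p, hx⟩
    obtain ⟨q', hq'⟩ := Ideal.mem_span_singleton'.mp hy
    intro r hr
    induction hr using Algebra.adjoin_induction with
    | mem g hg =>
      simp only [Set.mem_insert_iff, Set.mem_singleton_iff] at hg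
      rcases hg with rfl | rfl | rfl
      · rw [Derivation.leibniz_pow, hx]
        simp only [Nat.add_one_sub_one, pow_one, smul_eq_mul, nsmul_eq_mul, Nat.cast_ofNat]
        have : (2 : MvPolynomial (Fin 2) K) * (MvPolynomial.X 0 * (MvPolynomial.X 1 * s +
            MvPolynomial.X 0 * Polynomial.aeval (MvPolynomial.X 0 ^ 2) p)) =
            MvPolynomial.X 1 * (2 * MvPolynomial.X 0 * s) +
            (2 : K) • (MvPolynomial.X 0 ^ 2 * Polynomial.aeval (MvPolynomial.X 0 ^ 2) p) := by
          rw [Algebra.smul_def]
          simp only [map_ofNat]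
          ring
        rw [this]
        refine Subalgebra.add_mem _ (yS K _).1 (Subalgebra.smul_mem _ (Subalgebra.mul_mem _ (x2_mem K) ?_) _)
        rw [Polynomial.aeval_eq_sum_range]
        exact Subalgebra.sum_mem _ fun n _ =>
          Subalgebra.smul_mem _ (Subalgebra.pow_mem _ (x2_mem K) n) _
      · rw [Derivation.leibniz, hx, ← hq']
        simp only [smul_eq_mul]
        have : MvPolynomial.X 0 * (q' * MvPolynomial.X 1) + MvPolynomial.X 1 *
            (MvPolynomial.X 1 * s + MvPolynomial.X 0 * Polynomial.aeval (MvPolynomial.X 0 ^ 2) p) =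
            MvPolynomial.X 1 * (MvPolynomial.X 0 * q' + (MvPolynomial.X 1 * s +
              MvPolynomial.X 0 * Polynomial.aeval (MvPolynomial.X 0 ^ 2) p)) := by ring
        rw [this]
        exact (yS K _).1
      · rw [← hq', mul_comm q']
        exact (yS K _).1
    | algebraMap c =>
      rw [Derivation.map_algebraMap]; exact Subalgebra.zero_mem _
    | add a b _ _ ha hb =>
      rw [map_add]; exact Subalgebra.add_mem _ ha hb
    | mul a b ha' hb' ha hb =>
      rw [Derivation.leibniz]
      simp only [smul_eq_mul]
      exact Subalgebra.add_mem _ (Subalgebra.mul_mem _ ha' hb) (Subalgebra.mul_mem _ hb' ha)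

end Groth.Agent.S18123
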