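import Groth.Statements.S18125
-- import your own Groth.Agent.* helpers here
import Mathlib.Tactic

set_option autoImplicit false
universe u
open Pinch

namespace Groth.Agent.S18125

open MvPolynomial in
/-- setting the first variable to zero -/
noncomputable def phi (K : Type u) [Field K] (n : ℕ) :
    MvPolynomial (Fin (n + 3)) K →ₐ[K] MvPolynomial (Fin (n + 3)) K :=
  MvPolynomial.aeval (fun i => if i = 0 then 0 else MvPolynomial.X i)

open MvPolynomial in
theorem sub_phi_mem (K : Type u) [Field K] (n : ℕ) (f : MvPolynomial (Fin (n + 3)) K) :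
    f - phi K n f ∈ Ideal.span {(X 0 : MvPolynomial (Fin (n + 3)) K)} := by
  induction f using MvPolynomial.induction_on with
  | C a =>
    have : phi K n (C a) = C a := by
      unfold phi; exact MvPolynomial.aeval_C _ a
    rw [this, sub_self]; exact Ideal.zero_mem _
  | add p q hp hq =>
    have : p + q - phi K n (p + q) = (p - phi K n p) + (q - phi K n q) := by
      rw [map_add]; ring
    rw [this]; exact Ideal.add_mem _ hp hq
  | mul_X p i hp =>
    have hX : (X i : MvPolynomial (Fin (n + 3)) K) - phi K n (X i) ∈ Ideal.span {(X 0 : MvPolynomial (Fin (n + 3)) K)} := by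
      unfold phi
      rw [MvPolynomial.aeval_X]
      by_cases hi : i = 0
      · rw [if_pos hi, sub_zero, hi]; exact Ideal.subset_span rfl
      · rw [if_neg hi, sub_self]; exact Ideal.zero_mem _
    have : p * X i - phi K n (p * X i) = (p - phi K n p) * X i + phi K n p * (X i - phi K n (X i)) := by
      rw [map_mul]; ring
    rw [this]
    exact Ideal.add_mem _ (Ideal.mul_mem_right _ _ hp) (Ideal.mul_mem_left _ _ hX)


/-- Let K be a field in which 2 ≠ 0, n ≥ 0, S = K[u, v, w, t_1, …, t_n] (u, v, w the first three
variables), h = u^2 - v^2 w the equation of the pinch-point model, and Jac the ideal generated by h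
and its three partial derivatives 2u, -2vw, -v^2, which cuts out the scheme-theoretic singular locus
of {h = 0}. Then the ideal (u, v) of the double locus is Jac + (v), and the colon ideal of Jac by
(v) is (u, v, w). Consequently (u, v)/Jac, the ideal of the double locus restricted to the singular
locus, is an invertible sheaf on the pinch locus u = v = w = 0: it is free of rank one over K[t_1,
…, t_n] on the class of v. (The text states this for every semi-smooth variety and reduces to this
model; K algebraically closed is not needed for the model computation.) -/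
theorem result
    (K : Type u) [Field K] [NeZero (2 : K)] (n : ℕ) :
    letI u : MvPolynomial (Fin (n + 3)) K := MvPolynomial.X 0
    letI v : MvPolynomial (Fin (n + 3)) K := MvPolynomial.X 1
    letI w : MvPolynomial (Fin (n + 3)) K := MvPolynomial.X 2
    letI Jac : Ideal (MvPolynomial (Fin (n + 3)) K) :=
      Ideal.span {u ^ 2 - v ^ 2 * w, 2 * u, -(2 * v * w), -(v ^ 2)}
    Ideal.span {u, v} = Jac ⊔ Ideal.span {v} ∧ Jac.colon (Ideal.span {v}) = Ideal.span {u, v, w} := by
  set u : MvPolynomial (Fin (n + 3)) K := MvPolynomial.X 0 with hu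
  set v : MvPolynomial (Fin (n + 3)) K := MvPolynomial.X 1 with hv
  set w : MvPolynomial (Fin (n + 3)) K := MvPolynomial.X 2 with hw
  have h2 : (2 : K) ≠ 0 := NeZero.ne 2
  have hhalf : (MvPolynomial.C (2⁻¹ : K) : MvPolynomial (Fin (n + 3)) K) * 2 = 1 := by
    have : (2 : MvPolynomial (Fin (n + 3)) K) = MvPolynomial.C (2 : K) := (map_ofNat MvPolynomial.C 2).symm
    rw [this, ← MvPolynomial.C_mul, inv_mul_cancel₀ h2, MvPolynomial.C_1]
  set Jac : Ideal (MvPolynomial (Fin (n + 3)) K) :=
    Ideal.span {u ^ 2 - v ^ 2 * w, 2 * u, -(2 * v * w), -v ^ 2} with hJac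
  have g1 : u ^ 2 - v ^ 2 * w ∈ Jac := Ideal.subset_span (by simp)
  have g2 : 2 * u ∈ Jac := Ideal.subset_span (by simp)
  have g3 : -(2 * v * w) ∈ Jac := Ideal.subset_span (by simp)
  have g4 : -v ^ 2 ∈ Jac := Ideal.subset_span (by simp)
  have huJ : u ∈ Jac := by
    have : u = MvPolynomial.C (2⁻¹ : K) * (2 * u) := by
      rw [← mul_assoc, hhalf, one_mul]
    rw [this]; exact Ideal.mul_mem_left _ _ g2
  have hvvJ : v * v ∈ Jac := by
    have : v * v = -(-v ^ 2) := by ring
    rw [this]; exact neg_mem g4
  have hwvJ : w * v ∈ Jac := by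
    have : w * v = -(MvPolynomial.C (2⁻¹ : K) * (-(2 * v * w))) := by
      have : MvPolynomial.C (2⁻¹ : K) * (-(2 * v * w)) = -((MvPolynomial.C (2⁻¹ : K) * 2) * (v * w)) := by ring
      rw [this, hhalf]; ring
    rw [this]; exact neg_mem (Ideal.mul_mem_left _ _ g3)
  constructor
  · apply le_antisymm
    · rw [Ideal.span_le]
      rintro x hx
      rcases hx with rfl | rfl
      · exact Ideal.mem_sup_left huJ
      · exact Ideal.mem_sup_right (Ideal.subset_span rfl)
    · rw [sup_le_iff]
      constructor
      · rw [hJac, Ideal.span_le]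
        rintro x hx
        simp only [Set.mem_insert_iff, Set.mem_singleton_iff] at hx
        rcases hx with rfl | rfl | rfl | rfl
        · exact Ideal.mem_span_pair.mpr ⟨u, -(v * w), by ring⟩
        · exact Ideal.mem_span_pair.mpr ⟨2, 0, by ring⟩
        · exact Ideal.mem_span_pair.mpr ⟨0, -(2 * w), by ring⟩
        · exact Ideal.mem_span_pair.mpr ⟨0, -v, by ring⟩
      · rw [Ideal.span_le]
        rintro x hx
        rw [Set.mem_singleton_iff] at hx
        rw [hx]
        exact Ideal.subset_span (by simp)
  · apply le_antisymm
    · intro f hf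
      rw [Ideal.mem_colon_span_singleton] at hf
      -- extract coefficients
      rw [hJac, Ideal.mem_span_insert] at hf
      obtain ⟨a, z1, hz1, hf⟩ := hf
      rw [Ideal.mem_span_insert] at hz1
      obtain ⟨b, z2, hz2, rfl⟩ := hz1
      rw [Ideal.mem_span_insert] at hz2
      obtain ⟨c, z3, hz3, rfl⟩ := hz2
      rw [Ideal.mem_span_singleton'] at hz3
      obtain ⟨d, rfl⟩ := hz3
      -- apply phi
      have hφu : phi K n u = 0 := by
        unfold phi; rw [hu, MvPolynomial.aeval_X, if_pos rfl]
      have hφv : phi K n v = v := by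
        unfold phi; rw [hv, MvPolynomial.aeval_X, if_neg (by simp)]
      have hφw : phi K n w = w := by
        have h20 : (2 : Fin (n + 3)) ≠ 0 := by
          intro h
          have h' := congrArg Fin.val h
          rw [Fin.val_two, Fin.val_zero] at h'
          omega
        unfold phi; rw [hw, MvPolynomial.aeval_X, if_neg h20]
      have hφ := congrArg (phi K n) hf
      simp only [map_add, map_mul, map_sub, map_neg, map_pow, hφu, hφv, hφw, map_ofNat] at hφ
      have hv0 : v ≠ 0 := MvPolynomial.X_ne_zero _
      have hcancel : phi K n f = -(phi K n a * v * w) - 2 * phi K n c * w - phi K n d * v := by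
        apply mul_right_cancel₀ hv0
        rw [hφ]; ring
      have hφf : phi K n f ∈ Ideal.span {u, v, w} := by
        rw [hcancel]
        have hvm : v ∈ Ideal.span {u, v, w} := Ideal.subset_span (by simp)
        have hwm : w ∈ Ideal.span {u, v, w} := Ideal.subset_span (by simp)
        refine Ideal.sub_mem _ (Ideal.sub_mem _ (neg_mem ?_) ?_) ?_
        · exact Ideal.mul_mem_left _ _ hwm
        · exact Ideal.mul_mem_left _ _ hwm
        · exact Ideal.mul_mem_left _ _ hvm
      have hsub : f - phi K n f ∈ Ideal.span {u, v, w} := by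
        have := sub_phi_mem K n f
        refine Ideal.span_mono ?_ this
        intro x hx
        rw [Set.mem_singleton_iff] at hx
        rw [hx]; simp [hu]
      have : f = (f - phi K n f) + phi K n f := by ring
      rw [this]; exact Ideal.add_mem _ hsub hφf
    · rw [Ideal.span_le]
      rintro x hx
      simp only [Set.mem_insert_iff, Set.mem_singleton_iff] at hx
      rw [SetLike.mem_coe, Ideal.mem_colon_span_singleton]
      rcases hx with rfl | rfl | rfl
      · exact Ideal.mul_mem_right _ _ huJ
      · exact hvvJ
      · exact hwvJ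

end Groth.Agent.S18125
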