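import Groth.Statements.S18127
-- import your own Groth.Agent.* helpers here
import Mathlib.Tactic
import Mathlib.LinearAlgebra.Matrix.Transvection

set_option autoImplicit false
universe u
open LocAlg

namespace Groth.Agent.S18127

open Matrix in
/-- if at least `s` columns of `N` have all entries in `I`, then `det N ∈ I ^ s` -/
theorem det_mem_pow {R : Type u} [CommRing R] {n : ℕ} (I : Ideal R) (N : Matrix (Fin n) (Fin n) R)
    (S : Finset (Fin n)) (hS : ∀ j ∈ S, ∀ i, N i j ∈ I) : N.det ∈ I ^ S.card := by
  rw [Matrix.det_apply']
  apply Ideal.sum_mem
  intro σ _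
  apply Ideal.mul_mem_left
  rw [← Finset.prod_mul_prod_compl S (fun i => N (σ i) i)]
  apply Ideal.mul_mem_right
  have := Ideal.prod_mem_prod (s := S) (I := fun _ => I) (x := fun i => N (σ i) i)
    (fun i hi => hS i hi (σ i))
  rwa [Finset.prod_const] at this

open Matrix in
/-- lifting a transvection along a surjection -/
noncomputable def liftT {R k : Type u} [CommRing R] [CommRing k] {n : ℕ} (f : R →+* k)
    (hf : Function.Surjective f) (t : TransvectionStruct (Fin n) k) : TransvectionStruct (Fin n) R :=
  ⟨t.i, t.j, t.hij, (hf t.c).choose⟩

open Matrix in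
theorem liftT_map {R k : Type u} [CommRing R] [CommRing k] {n : ℕ} (f : R →+* k)
    (hf : Function.Surjective f) (t : TransvectionStruct (Fin n) k) :
    f.mapMatrix (liftT f hf t).toMatrix = t.toMatrix := by
  ext a b
  have hc : f (hf t.c).choose = t.c := (hf t.c).choose_spec
  simp only [RingHom.mapMatrix_apply, Matrix.map_apply, TransvectionStruct.toMatrix, liftT,
    transvection, Matrix.add_apply, Matrix.one_apply, Matrix.single_apply, map_add]
  split_ifs <;> simp [hc]

open Matrix in
theorem liftT_prod {R k : Type u} [CommRing R] [CommRing k] {n : ℕ} (f : R →+* k)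
    (hf : Function.Surjective f) (L : List (TransvectionStruct (Fin n) k)) :
    f.mapMatrix (((L.map (liftT f hf)).map TransvectionStruct.toMatrix).prod)
      = (L.map TransvectionStruct.toMatrix).prod := by
  induction L with
  | nil => simp
  | cons t L ih =>
    simp only [List.map_cons, List.prod_cons, map_mul, ih, liftT_map]


/-- Let R be a local ring with maximal ideal m and algebraically closed residue field, and M an n × n
matrix over R whose reduction modulo m has rank at most r. Then the determinant of M lies in m^(n −
r). (The published setting is the local ring of germs of holomorphic functions at a point of a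
complex manifold, where this says that the determinant vanishes to order at least n − r at a point
where the matrix has rank at most r.) -/
theorem result
    {R : Type u} [CommRing R] [IsLocalRing R] [IsAlgClosed (IsLocalRing.ResidueField R)]
    {n : ℕ} (M : Matrix (Fin n) (Fin n) R) (r : ℕ)
    (hr : (M.map (IsLocalRing.residue R)).rank ≤ r) :
    M.det ∈ IsLocalRing.maximalIdeal R ^ (n - r) := by
  classical
  set res := IsLocalRing.residue R with hres
  have hsurj : Function.Surjective res := IsLocalRing.residue_surjective
  obtain ⟨L, L', D, hD⟩ :=
    Matrix.Pivot.exists_list_transvec_mul_mul_list_transvec_eq_diagonal (M.map res)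
  set PR := ((L.map (liftT res hsurj)).map Matrix.TransvectionStruct.toMatrix).prod with hPR
  set QR := ((L'.map (liftT res hsurj)).map Matrix.TransvectionStruct.toMatrix).prod with hQR
  set N := PR * M * QR with hN
  have hNres : res.mapMatrix N = Matrix.diagonal D := by
    rw [hN, map_mul, map_mul, hPR, hQR, liftT_prod, liftT_prod]
    exact hD
  have hdet : N.det = M.det := by
    rw [hN, Matrix.det_mul, Matrix.det_mul, hPR, hQR, Matrix.TransvectionStruct.det_toMatrix_prod,
      Matrix.TransvectionStruct.det_toMatrix_prod, one_mul, mul_one]
  -- rank of the diagonal matrix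
  have hrank : (Matrix.diagonal D).rank = (M.map res).rank := by
    rw [← hD, Matrix.rank_mul_eq_left_of_isUnit_det _ _ (by
        rw [Matrix.TransvectionStruct.det_toMatrix_prod]; exact isUnit_one),
      Matrix.rank_mul_eq_right_of_isUnit_det _ _ (by
        rw [Matrix.TransvectionStruct.det_toMatrix_prod]; exact isUnit_one)]
  rw [Matrix.rank_diagonal] at hrank
  set S : Finset (Fin n) := Finset.univ.filter (fun j => D j = 0) with hSdef
  have hcard : n - r ≤ S.card := by
    have h1 : Fintype.card {i // D i ≠ 0} = (Finset.univ.filter (fun j => D j ≠ 0)).card :=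
      Fintype.card_subtype _
    have h2 : S.card + (Finset.univ.filter (fun j => D j ≠ 0)).card
        = (Finset.univ : Finset (Fin n)).card :=
      Finset.card_filter_add_card_filter_not _
    rw [Finset.card_univ, Fintype.card_fin] at h2
    have h3 : (Finset.univ.filter (fun j => D j ≠ 0)).card ≤ r := by rw [← h1, hrank]; exact hr
    omega
  have hcols : ∀ j ∈ S, ∀ i, N i j ∈ IsLocalRing.maximalIdeal R := by
    intro j hj i
    rw [← IsLocalRing.residue_eq_zero_iff]
    have h1 : res (N i j) = (Matrix.diagonal D) i j := by
      rw [← hNres]; rfl
    have hj0 : D j = 0 := (Finset.mem_filter.mp hj).2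
    rw [← hres, h1, Matrix.diagonal_apply]
    split_ifs with hij
    · rw [hij]; exact hj0
    · rfl
  rw [← hdet]
  exact Ideal.pow_le_pow_right hcard (det_mem_pow _ N S hcols)

end Groth.Agent.S18127
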