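import Groth.Statements.S18128
import Groth.Agent.Lib.Helper29.Acyclic

set_option autoImplicit false
universe u
open CAlg

namespace Groth.Agent.S18128

/-- Local step of Buchsbaum–Eisenbud: let R be a Noetherian local ring with maximal ideal m, and 0 →
R^(n_e) → ⋯ → R^(n_1) → R^(n_0) a complex of finite free modules, the map R^(n_(i+1)) → R^(n_i)
being given by the matrix A i, with 1 ≤ e and e at most the depth of R (there is an R-regular
sequence of length e inside m). If for every prime ideal p ≠ m the complex of matrices over R_p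
obtained by localization is exact at R_p^(n_e), …, R_p^(n_1), then the complex is exact at R^(n_e),
…, R^(n_1). -/
theorem result
    {R : Type u} [CommRing R] [IsLocalRing R] [IsNoetherianRing R]
    (e : ℕ) (he : 1 ≤ e) (n : ℕ → ℕ) (A : (i : ℕ) → Matrix (Fin (n i)) (Fin (n (i + 1))) R)
    (hA : ∀ i, i + 2 ≤ e → A i * A (i + 1) = 0)
    (rs : List R) (hlen : rs.length = e) (hmem : ∀ x ∈ rs, x ∈ IsLocalRing.maximalIdeal R)
    (hreg : RingTheory.Sequence.IsRegular R rs)
    (hloc : ∀ (p : Ideal R) [p.IsPrime], p ≠ IsLocalRing.maximalIdeal R →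
      LinearMap.ker ((A (e - 1)).map (algebraMap R (Localization.AtPrime p))).mulVecLin = ⊥ ∧
        ∀ i, i + 2 ≤ e →
          LinearMap.ker ((A i).map (algebraMap R (Localization.AtPrime p))).mulVecLin =
            LinearMap.range ((A (i + 1)).map (algebraMap R (Localization.AtPrime p))).mulVecLin) :
    LinearMap.ker (A (e - 1)).mulVecLin = ⊥ ∧
      ∀ i, i + 2 ≤ e → LinearMap.ker (A i).mulVecLin = LinearMap.range (A (i + 1)).mulVecLin := by
  classical
  have hdepR : ∀ i, i < e → Subsingleton (CategoryTheory.Abelian.Ext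
      (ModuleCat.of R (R ⧸ IsLocalRing.maximalIdeal R)) (ModuleCat.of R R) i) := by
    have h1 := Groth.Agent.Lib.Helper29.DepthLib.length_le_idealDepth (IsLocalRing.maximalIdeal R) R
      hreg.toIsWeaklyRegular hmem
    rw [hlen] at h1
    exact (Groth.Agent.Lib.Helper29.DepthSES.natCast_le_idealDepth_iff _ R e).1 h1
  have hdepF : ∀ j i, i < e → Subsingleton (CategoryTheory.Abelian.Ext
      (ModuleCat.of R (R ⧸ IsLocalRing.maximalIdeal R)) (ModuleCat.of R (Fin (n j) → R)) i) :=
    fun j i hi => Groth.Agent.Lib.Helper29.Acyclic.subsingleton_ext_pi _ i (n j) (hdepR i hi)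
  let C' : (i : ℕ) → Submodule R (Fin (n i) → R) := fun i =>
    if i < e then LinearMap.range (A i).mulVecLin else ⊥
  have hC'pos : ∀ i, i < e → C' i = LinearMap.range (A i).mulVecLin := fun i hi => if_pos hi
  have hC'neg : ∀ i, ¬ i < e → C' i = ⊥ := fun i hi => if_neg hi
  -- the key step
  have hstep : ∀ i, i < e →
      (∀ l, l < i + 2 → Subsingleton (CategoryTheory.Abelian.Ext
        (ModuleCat.of R (R ⧸ IsLocalRing.maximalIdeal R)) (ModuleCat.of R (C' (i + 1))) l)) →
      LinearMap.ker (A i).mulVecLin = C' (i + 1) := by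
    intro i hi hQ
    have hCZ : C' (i + 1) ≤ LinearMap.ker (A i).mulVecLin := by
      by_cases h : i + 1 < e
      · rw [hC'pos _ h]
        rintro _ ⟨w, rfl⟩
        rw [LinearMap.mem_ker, Matrix.mulVecLin_apply, Matrix.mulVecLin_apply,
          Matrix.mulVec_mulVec, hA i (by omega), Matrix.zero_mulVec]
      · rw [hC'neg _ h]
        exact bot_le
    refine le_antisymm ?_ hCZ
    apply Groth.Agent.Lib.Helper29.Acyclic.le_of_ext (Fin (n (i + 1)) → R) (C' (i + 1)) _ hCZ
      (hdepF (i + 1) 0 (by omega)) (hQ 1 (by omega))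
    intro p hp hpm z hz
    rw [LinearMap.mem_ker, Matrix.mulVecLin_apply] at hz
    obtain ⟨hl1, hl2⟩ := hloc p hpm
    have hzp : ((A i).map (algebraMap R (Localization.AtPrime p))).mulVec
        (algebraMap R (Localization.AtPrime p) ∘ z) = 0 := by
      funext k
      rw [← RingHom.map_mulVec, hz]
      simp
    by_cases h : i + 1 < e
    · rw [hC'pos _ h]
      have hmem : (algebraMap R (Localization.AtPrime p) ∘ z) ∈
          LinearMap.ker ((A i).map (algebraMap R (Localization.AtPrime p))).mulVecLin := by
        rw [LinearMap.mem_ker, Matrix.mulVecLin_apply]; exact hzp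
      rw [hl2 i (by omega)] at hmem
      obtain ⟨w, hw⟩ := hmem
      rw [Matrix.mulVecLin_apply] at hw
      obtain ⟨s0, hs0, w', hw'⟩ := Groth.Agent.Lib.Helper29.Acyclic.exists_integer_vec
        p.primeCompl (Localization.AtPrime p) w
      have hv : algebraMap R (Localization.AtPrime p) ∘ (s0 • z - (A (i + 1)).mulVec w') = 0 := by
        funext k
        simp only [Function.comp_apply, Pi.sub_apply, Pi.smul_apply, smul_eq_mul, map_sub, map_mul,
          Pi.zero_apply]
        rw [RingHom.map_mulVec, hw', Matrix.mulVec_smul, hw]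
        simp
      obtain ⟨t, ht, htv⟩ := Groth.Agent.Lib.Helper29.Acyclic.exists_smul_eq_zero
        p.primeCompl (Localization.AtPrime p) _ hv
      refine ⟨t * s0, (p.primeCompl.mul_mem ht hs0), ⟨t • w', ?_⟩⟩
      rw [Matrix.mulVecLin_apply, Matrix.mulVec_smul, mul_smul]
      rw [smul_sub, sub_eq_zero] at htv
      exact htv.symm
    · rw [hC'neg _ h]
      have hie : i + 1 = e := by omega
      have hmem : (algebraMap R (Localization.AtPrime p) ∘ z) ∈
          LinearMap.ker ((A i).map (algebraMap R (Localization.AtPrime p))).mulVecLin := by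
        rw [LinearMap.mem_ker, Matrix.mulVecLin_apply]; exact hzp
      have hi' : i = e - 1 := by omega
      subst hi'
      rw [hl1] at hmem
      obtain ⟨t, ht, htv⟩ := Groth.Agent.Lib.Helper29.Acyclic.exists_smul_eq_zero
        p.primeCompl (Localization.AtPrime p) z ((Submodule.mem_bot _).1 hmem)
      exact ⟨t, ht, by rw [htv]; exact Submodule.zero_mem _⟩
  -- downward induction
  have hQ : ∀ t i, i + t = e → ∀ l, l < i + 1 → Subsingleton (CategoryTheory.Abelian.Ext
        (ModuleCat.of R (R ⧸ IsLocalRing.maximalIdeal R)) (ModuleCat.of R (C' i)) l) := by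
    intro t
    induction t with
    | zero =>
      intro i hi l _
      have hbot : C' i = ⊥ := hC'neg i (by omega)
      rw [hbot]
      exact Groth.Agent.Lib.Helper29.Acyclic.subsingleton_ext_of_subsingleton_right _ _ l
    | succ t ih =>
      intro i hi l hl
      have hie : i < e := by omega
      have hQ1 := ih (i + 1) (by omega)
      have hex := hstep i hie hQ1
      rw [hC'pos i hie]
      have hfg : Function.Exact (C' (i + 1)).subtype (A i).mulVecLin.rangeRestrict := by
        intro v
        constructor
        · intro hv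
          have hv' : v ∈ LinearMap.ker (A i).mulVecLin := by
            rw [LinearMap.mem_ker]
            exact congrArg Subtype.val hv
          rw [hex] at hv'
          exact ⟨⟨v, hv'⟩, rfl⟩
        · rintro ⟨⟨c, hc⟩, rfl⟩
          rw [← hex] at hc
          exact Subtype.ext hc
      exact Groth.Agent.Lib.Helper29.DepthSES.subsingleton_ext_right _ (C' (i + 1))
        (Fin (n (i + 1)) → R) (LinearMap.range (A i).mulVecLin) (C' (i + 1)).subtype
        (A i).mulVecLin.rangeRestrict (Submodule.injective_subtype _)
        (A i).mulVecLin.surjective_rangeRestrict hfg l (hdepF (i + 1) l (by omega))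
        (hQ1 (l + 1) (by omega))
  constructor
  · have h := hstep (e - 1) (by omega) (hQ 0 (e - 1 + 1) (by omega))
    rw [h]
    exact hC'neg _ (by omega)
  · intro i hi
    have h := hstep i (by omega) (hQ (e - (i + 1)) (i + 1) (by omega))
    rw [h]
    exact hC'pos _ (by omega)

end Groth.Agent.S18128
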