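import Groth.Statements.S18136
import Mathlib

set_option autoImplicit false
universe u v
open IsLocalRing
open CAlg

namespace Groth.Agent.S18136

theorem indep_of_map {B A : Type*} [CommRing B] [IsLocalRing B] [CommRing A] [IsLocalRing A]
    (ψ : B →+* A) [IsLocalHom ψ] {σ : Type*} [Fintype σ] (H : σ → maximalIdeal B)
    (h : σ → maximalIdeal A) (hH : ∀ s, ψ (H s : B) = (h s : A))
    (hind : LinearIndependent (ResidueField A) (⇑(maximalIdeal A).toCotangent ∘ h)) :
    LinearIndependent (ResidueField B) (⇑(maximalIdeal B).toCotangent ∘ H) := by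
  classical
  rw [Fintype.linearIndependent_iff] at hind ⊢
  intro cf hc s
  have hsurj : ∀ t, ∃ l : B, IsLocalRing.residue B l = cf t :=
    fun t => IsLocalRing.residue_surjective (cf t)
  choose l hl using hsurj
  have hmapmax : ∀ x : B, x ∈ maximalIdeal B → ψ x ∈ maximalIdeal A := by
    intro x hx
    rw [IsLocalRing.mem_maximalIdeal, mem_nonunits_iff] at hx ⊢
    exact fun hu => hx (isUnit_of_map_unit ψ x hu)
  have h1 : ∀ t, cf t • (maximalIdeal B).toCotangent (H t) =
      (maximalIdeal B).toCotangent (l t • H t) := by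
    intro t
    rw [map_smul, ← hl t]
    exact (algebraMap_smul (ResidueField B) (l t) ((maximalIdeal B).toCotangent (H t)))
  have h2 : (maximalIdeal B).toCotangent (∑ t, l t • H t) = 0 := by
    rw [map_sum, ← hc]
    refine Finset.sum_congr rfl fun t _ => ?_
    rw [Function.comp_apply, h1]
  rw [Ideal.toCotangent_eq_zero] at h2
  have h3 : ψ ((∑ t, l t • H t : maximalIdeal B) : B) ∈ maximalIdeal A ^ 2 := by
    have hle : (maximalIdeal B ^ 2).map ψ ≤ maximalIdeal A ^ 2 := by
      rw [Ideal.map_pow]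
      exact Ideal.pow_right_mono (Ideal.map_le_iff_le_comap.mpr hmapmax) 2
    exact hle (Ideal.mem_map_of_mem ψ h2)
  have h4 : ψ ((∑ t, l t • H t : maximalIdeal B) : B) =
      ((∑ t, ψ (l t) • h t : maximalIdeal A) : A) := by
    rw [AddSubmonoidClass.coe_finsetSum, AddSubmonoidClass.coe_finsetSum, map_sum]
    refine Finset.sum_congr rfl fun t _ => ?_
    simp only [Submodule.coe_smul, smul_eq_mul, map_mul, hH]
  rw [h4, ← Ideal.toCotangent_eq_zero, map_sum] at h3
  have h5 := hind (fun t => IsLocalRing.residue A (ψ (l t))) (by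
    rw [← h3]
    refine Finset.sum_congr rfl fun t _ => ?_
    rw [Function.comp_apply, map_smul]
    exact (algebraMap_smul (ResidueField A) (ψ (l t)) ((maximalIdeal A).toCotangent (h t)))) s
  rw [IsLocalRing.residue_eq_zero_iff] at h5
  rw [← hl s, IsLocalRing.residue_eq_zero_iff, IsLocalRing.mem_maximalIdeal, mem_nonunits_iff]
  intro hu
  have : IsUnit (ψ (l s)) := hu.map ψ
  rw [IsLocalRing.mem_maximalIdeal, mem_nonunits_iff] at h5
  exact h5 this

/-- Let A be a regular local ring with maximal ideal m and residue field k, written as a directed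
colimit of regular local rings A_j with local transition maps (compatible maps ψ_j : A_j → A that
are jointly surjective, an element dying in A dying at some later stage). Let f_1, …, f_c, g_1, …,
g_d ∈ m have linearly independent classes in m/m^2 over k, and put I = (f_1, …, f_c) ⊆ I' = (f_1, …,
f_c, g_1, …, g_d) (so I is generated by part of a regular system of parameters of A and I'/I by part
of a regular system of parameters of A/I; for a regular local ring the condition on I ⊆ I' is stated
through such a joint family). Then there are an index j_0 and ideals I_j ⊆ I'_j ⊆ A_j for j ≥ j_0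
such that: each I_j is generated by c elements and I'_j by these together with d further elements of
the maximal ideal m_j, the c + d classes in m_j/m_j^2 being linearly independent over the residue
field of A_j; the transition maps carry I_i, I'_i onto generators of I_j, I'_j for j_0 ≤ i ≤ j; and
I_j, I'_j generate I, I' in A. -/
theorem result
    {A : Type u} [CommRing A] [IsRegularLocalRing A]
    {ι : Type v} [Preorder ι] [Nonempty ι] [IsDirected ι (· ≤ ·)]
    (B : ι → Type u) [∀ j, CommRing (B j)] [∀ j, IsRegularLocalRing (B j)]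
    (φ : ∀ i j, i ≤ j → (B i →+* B j)) (hφloc : ∀ i j (h : i ≤ j), IsLocalHom (φ i j h))
    (hφ : ∀ i j l (hij : i ≤ j) (hjl : j ≤ l), (φ j l hjl).comp (φ i j hij) = φ i l (hij.trans hjl))
    (ψ : ∀ j, B j →+* A) (hψ : ∀ i j (h : i ≤ j), (ψ j).comp (φ i j h) = ψ i)
    (hsurj : ∀ a : A, ∃ j, ∃ x : B j, ψ j x = a)
    (hker : ∀ j (x : B j), ψ j x = 0 → ∃ l, ∃ h : j ≤ l, φ j l h x = 0)
    (c d : ℕ) (f : Fin c → maximalIdeal A) (g : Fin d → maximalIdeal A)
    (hind : LinearIndependent (ResidueField A) (⇑(maximalIdeal A).toCotangent ∘ Sum.elim f g)) :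
    ∃ j₀ : ι, ∃ (P : ∀ j, j₀ ≤ j → Ideal (B j)) (Q : ∀ j, j₀ ≤ j → Ideal (B j)),
      (∀ j (hj : j₀ ≤ j), ∃ (F : Fin c → maximalIdeal (B j)) (E : Fin d → maximalIdeal (B j)),
        LinearIndependent (ResidueField (B j)) (⇑(maximalIdeal (B j)).toCotangent ∘ Sum.elim F E) ∧
        P j hj = Ideal.span (Set.range (fun s => (F s : B j))) ∧
        Q j hj = P j hj ⊔ Ideal.span (Set.range (fun t => (E t : B j)))) ∧
      (∀ i j (hi : j₀ ≤ i) (hij : i ≤ j),
        (P i hi).map (φ i j hij) = P j (le_trans hi hij) ∧ (Q i hi).map (φ i j hij) = Q j (le_trans hi hij)) ∧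
      (∀ j (hj : j₀ ≤ j),
        (P j hj).map (ψ j) = Ideal.span (Set.range (fun s => (f s : A))) ∧
        (Q j hj).map (ψ j) = Ideal.span (Set.range (fun s => (f s : A))) ⊔ Ideal.span (Set.range (fun t => (g t : A)))) := by
  classical
  -- ψ j is local
  have hψloc : ∀ j, IsLocalHom (ψ j) := by
    intro j
    constructor
    intro x hx
    obtain ⟨y', hy'⟩ := hx.exists_right_inv
    obtain ⟨l0, y0, hy0⟩ := hsurj y'
    obtain ⟨l, hjl, hl0l⟩ := exists_ge_ge j l0
    have hz : ψ l (φ j l hjl x * φ l0 l hl0l y0 - 1) = 0 := by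
      rw [map_sub, map_mul, map_one]
      have e1 : ψ l (φ j l hjl x) = ψ j x := RingHom.congr_fun (hψ j l hjl) x
      have e2 : ψ l (φ l0 l hl0l y0) = ψ l0 y0 := RingHom.congr_fun (hψ l0 l hl0l) y0
      rw [e1, e2, hy0, hy', sub_self]
    obtain ⟨l', hll', hz'⟩ := hker l _ hz
    rw [map_sub, map_mul, map_one, sub_eq_zero] at hz'
    have e3 : φ l l' hll' (φ j l hjl x) = φ j l' (hjl.trans hll') x :=
      RingHom.congr_fun (hφ j l l' hjl hll') x
    rw [e3] at hz'
    have hu : IsUnit (φ j l' (hjl.trans hll') x) := IsUnit.of_mul_eq_one _ hz'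
    have := hφloc j l' (hjl.trans hll')
    exact isUnit_of_map_unit (φ j l' (hjl.trans hll')) x hu
  -- lifts
  let h : Fin c ⊕ Fin d → maximalIdeal A := Sum.elim f g
  have hlift : ∀ s, ∃ (j : ι) (x : B j), ψ j x = (h s : A) := fun s => hsurj _
  choose js xs hxs using hlift
  obtain ⟨j₀, hj₀⟩ := Finite.exists_le js
  let X0 : Fin c ⊕ Fin d → B j₀ := fun s => φ (js s) j₀ (hj₀ s) (xs s)
  have hX0 : ∀ s, ψ j₀ (X0 s) = (h s : A) := by
    intro s
    have : ψ j₀ (φ (js s) j₀ (hj₀ s) (xs s)) = ψ (js s) (xs s) :=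
      RingHom.congr_fun (hψ (js s) j₀ (hj₀ s)) (xs s)
    rw [this, hxs]
  let X : ∀ j, j₀ ≤ j → Fin c ⊕ Fin d → B j := fun j hj s => φ j₀ j hj (X0 s)
  have hX : ∀ j hj s, ψ j (X j hj s) = (h s : A) := by
    intro j hj s
    have : ψ j (φ j₀ j hj (X0 s)) = ψ j₀ (X0 s) := RingHom.congr_fun (hψ j₀ j hj) (X0 s)
    rw [this, hX0]
  have hXmem : ∀ j hj s, X j hj s ∈ maximalIdeal (B j) := by
    intro j hj s
    rw [IsLocalRing.mem_maximalIdeal, mem_nonunits_iff]
    intro hu
    have hu' : IsUnit (ψ j (X j hj s)) := hu.map (ψ j)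
    rw [hX] at hu'
    have := (h s).2
    rw [IsLocalRing.mem_maximalIdeal, mem_nonunits_iff] at this
    exact this hu'
  have hXcomp : ∀ i j (hi : j₀ ≤ i) (hij : i ≤ j) s,
      φ i j hij (X i hi s) = X j (le_trans hi hij) s := by
    intro i j hi hij s
    exact RingHom.congr_fun (hφ j₀ i j hi hij) (X0 s)
  refine ⟨j₀, fun j hj => Ideal.span (Set.range fun s : Fin c => X j hj (Sum.inl s)),
    fun j hj => Ideal.span (Set.range fun s : Fin c => X j hj (Sum.inl s)) ⊔
      Ideal.span (Set.range fun t : Fin d => X j hj (Sum.inr t)), ?_, ?_, ?_⟩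
  · intro j hj
    have := hψloc j
    let Hj : Fin c ⊕ Fin d → maximalIdeal (B j) := fun s => ⟨X j hj s, hXmem j hj s⟩
    refine ⟨fun s => Hj (Sum.inl s), fun t => Hj (Sum.inr t), ?_, rfl, rfl⟩
    have hel : Sum.elim (fun s => Hj (Sum.inl s)) (fun t => Hj (Sum.inr t)) = Hj := by
      funext s; cases s <;> rfl
    rw [hel]
    exact indep_of_map (ψ j) Hj h (fun s => hX j hj s) hind
  · intro i j hi hij
    have e1 : (Ideal.span (Set.range fun s : Fin c => X i hi (Sum.inl s))).map (φ i j hij) =
        Ideal.span (Set.range fun s : Fin c => X j (le_trans hi hij) (Sum.inl s)) := by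
      rw [Ideal.map_span, ← Set.range_comp]
      congr 2
      funext s
      exact hXcomp i j hi hij _
    have e2 : (Ideal.span (Set.range fun t : Fin d => X i hi (Sum.inr t))).map (φ i j hij) =
        Ideal.span (Set.range fun t : Fin d => X j (le_trans hi hij) (Sum.inr t)) := by
      rw [Ideal.map_span, ← Set.range_comp]
      congr 2
      funext s
      exact hXcomp i j hi hij _
    refine ⟨e1, ?_⟩
    rw [Ideal.map_sup, e1, e2]
  · intro j hj
    have e1 : (Ideal.span (Set.range fun s : Fin c => X j hj (Sum.inl s))).map (ψ j) =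
        Ideal.span (Set.range (fun s => (f s : A))) := by
      rw [Ideal.map_span, ← Set.range_comp]
      congr 2
      funext s
      exact hX j hj (Sum.inl s)
    have e2 : (Ideal.span (Set.range fun t : Fin d => X j hj (Sum.inr t))).map (ψ j) =
        Ideal.span (Set.range (fun t => (g t : A))) := by
      rw [Ideal.map_span, ← Set.range_comp]
      congr 2
      funext s
      exact hX j hj (Sum.inr s)
    refine ⟨e1, ?_⟩
    rw [Ideal.map_sup, e1, e2]

end Groth.Agent.S18136
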