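import Groth.Statements.S18153
-- import your own Groth.Agent.* helpers here
import Mathlib.Tactic
import Mathlib.RingTheory.MvPolynomial.Basic
import Mathlib.LinearAlgebra.Multilinear.Basis
import Mathlib.LinearAlgebra.Matrix.Adjugate

set_option autoImplicit false
universe u w
open FrobAlg

namespace Groth.Agent.S18153

open MvPolynomial

variable {R : Type u} [CommRing R] {m : ℕ} {σ : Type w}

/-- the rows of the Jacobian, as a linear map -/
noncomputable def rowMap :
    MvPolynomial (Fin m ⊕ σ) R →ₗ[R] (Fin m → MvPolynomial (Fin m ⊕ σ) R) :=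
  LinearMap.pi (fun j => (pderiv (Sum.inl j) :
    Derivation R (MvPolynomial (Fin m ⊕ σ) R) (MvPolynomial (Fin m ⊕ σ) R)).toLinearMap)

/-- the coefficient of the Jacobian determinant as a multilinear map -/
noncomputable def Phi (μ : (Fin m ⊕ σ) →₀ ℕ) :
    MultilinearMap R (fun _ : Fin m => MvPolynomial (Fin m ⊕ σ) R) R :=
  (lcoeff R μ).compMultilinearMap
    (((Matrix.detRowAlternating (n := Fin m)
      (R := MvPolynomial (Fin m ⊕ σ) R)).toMultilinearMap.restrictScalars R).compLinearMap
        (fun _ => rowMap))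

theorem Phi_apply (μ : (Fin m ⊕ σ) →₀ ℕ) (f : Fin m → MvPolynomial (Fin m ⊕ σ) R) :
    Phi μ f = coeff μ (Matrix.of fun i j : Fin m => pderiv (Sum.inl j) (f i)).det := rfl

theorem det_eq_zero_of_col_sum (hm : 0 < m) (A : Matrix (Fin m) (Fin m) R)
    (h : ∀ j, ∑ i, A i j = 0) : A.det = 0 := by
  have h1 : Matrix.vecMul (1 : Fin m → R) A = 0 := by
    ext j
    simp [Matrix.vecMul, dotProduct, h j]
  have h2 : Matrix.vecMul (Matrix.vecMul (1 : Fin m → R) A) A.adjugate = A.det • (1 : Fin m → R) := by
    rw [Matrix.vecMul_vecMul, Matrix.mul_adjugate, Matrix.vecMul_smul, Matrix.vecMul_one]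
  rw [h1, Matrix.zero_vecMul] at h2
  have := congrFun h2 ⟨0, hm⟩
  simpa using this.symm

theorem key (p : ℕ) [Fact p.Prime] [CharP R p] (hm : 0 < m) (a : Fin m → ((Fin m ⊕ σ) →₀ ℕ)) :
    coeff (Finsupp.sumElim (Finsupp.equivFunOnFinite.symm fun _ : Fin m => p - 1) (0 : σ →₀ ℕ))
      (Matrix.of fun i j : Fin m => pderiv (Sum.inl j) (monomial (a i) (1 : R))).det = 0 := by
  classical
  set μ : (Fin m ⊕ σ) →₀ ℕ :=
    Finsupp.sumElim (Finsupp.equivFunOnFinite.symm fun _ : Fin m => p - 1) (0 : σ →₀ ℕ) with hμ
  set τ : (Fin m ⊕ σ) →₀ ℕ := ∑ j : Fin m, Finsupp.single (Sum.inl j) 1 with hτ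
  set J : Matrix (Fin m) (Fin m) (MvPolynomial (Fin m ⊕ σ) R) :=
    Matrix.of fun i j : Fin m => pderiv (Sum.inl j) (monomial (a i) (1 : R)) with hJ
  set A : Matrix (Fin m) (Fin m) R := Matrix.of fun i j : Fin m => ((a i (Sum.inl j) : ℕ) : R) with hA
  have hT : (monomial τ (1 : R)) = ∏ j : Fin m, X (Sum.inl j) := by
    rw [hτ, monomial_sum_one]
    rfl
  -- step (a)
  have ha : monomial τ (1 : R) * J.det = monomial (∑ i, a i) 1 * C A.det := by
    rw [hT, ← Matrix.det_mul_row]
    have : (Matrix.of fun i j : Fin m => X (Sum.inl j) * J i j)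
        = Matrix.of fun i j : Fin m => monomial (a i) (1 : R) * (C.mapMatrix A) i j := by
      ext i j
      simp only [Matrix.of_apply, hJ, hA, RingHom.mapMatrix_apply, Matrix.map_apply]
      rw [X_mul_pderiv_monomial, nsmul_eq_mul, mul_comm]
      simp
    rw [this, Matrix.det_mul_column, ← RingHom.map_det, monomial_sum_one]
  -- step (b)
  have hb : coeff μ J.det = coeff (τ + μ) (monomial τ (1 : R) * J.det) := by
    rw [coeff_monomial_mul, one_mul]
  rw [hb, ha, mul_comm, C_mul_monomial, mul_one, coeff_monomial]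
  split_ifs with hsum
  · apply det_eq_zero_of_col_sum hm
    intro j
    have h1 : (∑ i, a i) (Sum.inl j) = (τ + μ) (Sum.inl j) := by rw [hsum]
    rw [Finsupp.finsetSum_apply, Finsupp.add_apply] at h1
    have h2 : τ (Sum.inl j) = 1 := by
      rw [hτ, Finsupp.finsetSum_apply]
      simp [Finsupp.single_apply]
    have h3 : μ (Sum.inl j) = p - 1 := by
      rw [hμ, Finsupp.sumElim_inl]; rfl
    rw [h2, h3] at h1
    have hp : 1 ≤ p := (Fact.out : p.Prime).one_lt.le
    have h4 : ∑ i, a i (Sum.inl j) = p := by omega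
    simp only [hA, Matrix.of_apply]
    rw [← Nat.cast_sum, h4, CharP.cast_eq_zero]
  · rfl


/-- Let R be a commutative ring of prime characteristic p and f_1, …, f_m (m ≥ 1) polynomials over R in
the variables t_1, …, t_m and a further, possibly empty, family of variables s_a. Then in the m × m
Jacobian determinant det(∂f_i/∂t_j) with respect to the t-variables, the coefficient of the monomial
t_1^{p-1} ⋯ t_m^{p-1} (all s-exponents zero) vanishes. (In the source this is the claim, for formal
power series in n ≥ m variables over the base field, to which the proof of the proposition reduces;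
the coefficient in question only involves truncations of the f_i, so the polynomial form over any
ring of characteristic p is the same assertion.) -/
theorem result
    (p : ℕ) [Fact p.Prime] (R : Type u) [CommRing R] [CharP R p]
    {m : ℕ} (hm : 0 < m) (σ : Type w) (f : Fin m → MvPolynomial (Fin m ⊕ σ) R) :
    MvPolynomial.coeff
        (Finsupp.sumElim (Finsupp.equivFunOnFinite.symm fun _ : Fin m => p - 1) (0 : σ →₀ ℕ))
        (Matrix.of fun i j : Fin m => MvPolynomial.pderiv (Sum.inl j) (f i)).det = 0 := by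
  rw [← Phi_apply]
  have : Phi (R := R) (m := m) (σ := σ)
      (Finsupp.sumElim (Finsupp.equivFunOnFinite.symm fun _ : Fin m => p - 1) (0 : σ →₀ ℕ)) = 0 := by
    apply Module.Basis.ext_multilinear (fun _ => MvPolynomial.basisMonomials (Fin m ⊕ σ) R)
    intro v
    rw [Phi_apply, zero_apply]
    simp only [MvPolynomial.coe_basisMonomials]
    exact key p hm v
  rw [this, zero_apply]

end Groth.Agent.S18153
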