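import Groth.Statements.S18155
import Groth.Agent.Lib.Helper27.SmoothLift
import Groth.Agent.Lib.Helper27.TwistLift
import Groth.Agent.Lib.Helper27.W2Lift
import Mathlib.RingTheory.Smooth.StandardSmoothOfFree

set_option autoImplicit false
universe u v
open FrobAlg

namespace Groth.Agent.S18155

/-- Let k be an algebraically closed field of characteristic p, A a commutative k-algebra and C an étale
A-algebra. If A admits a flat lifting over W_2(k) together with a lift of Frobenius, then so does C.
(The source states this for an étale cover Y → X of smooth varieties over k; its argument uses only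
that Y is étale over X, and the affine case is stated here with no smoothness or finiteness
hypothesis on A over k.) -/
theorem result
    (p : ℕ) [Fact p.Prime] (k : Type u) [Field k] [IsAlgClosed k] [CharP k p]
    (A C : Type v) [CommRing A] [CommRing C] [Algebra k A] [Algebra k C]
    [Algebra A C] [IsScalarTower k A C] [Algebra.Etale A C]
    (hA : FrobAlg.IsFLiftable p k A) : FrobAlg.IsFLiftable p k C := by
  obtain ⟨B, _, ι, π, Φ, hΦ⟩ := hA
  have hL : IsLift p k A B ι π := hΦ.toIsLift
  -- the kernel of `π` has square zero
  have hK : (RingHom.ker π) ^ 2 = ⊥ := by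
    rw [sq, eq_bot_iff, Ideal.mul_le]
    intro x hx y hy
    obtain ⟨c, rfl⟩ := (Groth.Agent.Lib.Helper27.W2Lift.mem_ker_iff p k hL x).1 hx
    obtain ⟨d, rfl⟩ := (Groth.Agent.Lib.Helper27.W2Lift.mem_ker_iff p k hL y).1 hy
    have h0 := Groth.Agent.Lib.Helper27.W2Lift.p_sq p k ι
    have : (p : B) * c * ((p : B) * d) = (p : B) * (p : B) * (c * d) := by ring
    rw [Ideal.mem_bot, this, h0, zero_mul]
  haveI : Algebra.IsStandardSmoothOfRelativeDimension 0 A C :=
    Algebra.Etale.iff_isStandardSmoothOfRelativeDimension_zero.1 inferInstance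
  haveI : Algebra.IsStandardSmooth A C :=
    Algebra.IsStandardSmoothOfRelativeDimension.isStandardSmooth 0
  obtain ⟨C', _, _, πC, hsurj, halg, hker, hsm⟩ :=
    Groth.Agent.Lib.Helper27.SmoothLift.exists_lift_of_isStandardSmooth (A := A) (C := C)
      π hL.surj hK
  let ιC : W2 p k →+* C' := (algebraMap B C').comp ι
  have hLC : IsLift p k C C' ιC πC :=
    { flat := RingHom.Flat.comp hL.flat (RingHom.flat_algebraMap_iff.2
        (inferInstance : Module.Flat B C'))
      surj := hsurj
      ker_eq := by rw [hker, hL.ker_eq, Ideal.map_map]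
      comm := by
        ext w
        have h1 := congrArg (fun f => f w) hL.comm
        simp only [RingHom.comp_apply] at h1
        simp only [RingHom.comp_apply, ιC]
        rw [halg, h1, ← IsScalarTower.algebraMap_apply] }
  rcases subsingleton_or_nontrivial C with hC | hC
  · -- `C` is the zero ring: then so is `C'`... we use the identity
    have hC' : Subsingleton C' := by
      have h1 : (1 : C') ∈ RingHom.ker πC := by
        rw [RingHom.mem_ker]; exact Subsingleton.elim _ _
      have hnil : (1 : C') ^ 2 ∈ (RingHom.ker πC) ^ 2 := Ideal.pow_mem_pow h1 2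
      have hKC : (RingHom.ker πC) ^ 2 = ⊥ := by
        rw [hker, ← Ideal.map_pow, hK, Ideal.map_bot]
      rw [hKC, one_pow, Ideal.mem_bot] at hnil
      exact subsingleton_of_zero_eq_one hnil.symm
    refine ⟨C', inferInstance, ιC, πC, RingHom.id C', { toIsLift := hLC, semi := ?_, red := ?_ }⟩
    · ext w; exact Subsingleton.elim _ _
    · intro b; exact Subsingleton.elim _ _
  · have : CharP C p := charP_of_injective_algebraMap (algebraMap k C).injective p
    let N : Ideal C' := RingHom.ker πC
    have hN : N ^ 2 = ⊥ := by
      change (RingHom.ker πC) ^ 2 = ⊥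
      rw [hker, ← Ideal.map_pow, hK, Ideal.map_bot]
    let e : C' ⧸ N ≃+* C := RingHom.quotientKerEquivOfSurjective hsurj
    have he : ∀ s : C', e (Ideal.Quotient.mk N s) = πC s := fun s => rfl
    let g₀ : C' →+* C' ⧸ N := (e.symm : C →+* C' ⧸ N).comp ((frobenius C p).comp πC)
    have hg₀ : ∀ b : B, g₀ (algebraMap B C' b) = Ideal.Quotient.mk N (algebraMap B C' (Φ b)) := by
      intro b
      apply e.injective
      rw [he, halg, hΦ.red]
      simp only [g₀, RingHom.comp_apply, RingHom.coe_coe, RingEquiv.apply_symm_apply,
        frobenius_def, halg, map_pow]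
    obtain ⟨Ψ, hΨ1, hΨ2⟩ :=
      Groth.Agent.Lib.Helper27.TwistLift.exists_semilinear_lift (R := B) (S := C') Φ N hN g₀ hg₀
    refine ⟨C', inferInstance, ιC, πC, Ψ, { toIsLift := hLC, semi := ?_, red := ?_ }⟩
    · ext w
      have h1 := congrArg (fun f => f w) hΦ.semi
      simp only [RingHom.comp_apply] at h1
      simp only [RingHom.comp_apply, ιC]
      rw [hΨ1, h1]
    · intro s
      rw [← he, hΨ2]
      simp only [g₀, RingHom.comp_apply, RingHom.coe_coe, RingEquiv.apply_symm_apply,
        frobenius_def]

end Groth.Agent.S18155
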