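import Groth.Statements.S18156
import Mathlib
-- import your own Groth.Agent.* helpers here

set_option autoImplicit false
universe u v
open CAlg

namespace Groth.Agent.S18156

open AdicCompletion

section
variable {k : Type u} [Field k] {A : Type v} [CommRing A] [Algebra k A] (I : Ideal A)
  (D : Derivation k A A)

theorem D_pow_mem (n : ℕ) : ∀ a ∈ I ^ (n + 1), D a ∈ I ^ n := by
  induction n with
  | zero => intro a _; simp
  | succ n ih =>
    intro a ha
    rw [pow_succ] at ha
    refine Submodule.mul_induction_on ha ?_ ?_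
    · intro x hx y hy
      rw [Derivation.leibniz]
      refine Ideal.add_mem _ ?_ ?_
      · rw [smul_eq_mul]; exact Ideal.mul_mem_right _ _ hx
      · rw [smul_eq_mul, pow_succ]
        exact Ideal.mul_mem_mul_rev (ih x hx) hy
    · intro x y hx hy
      rw [map_add]; exact Ideal.add_mem _ hx hy

theorem mem_smul_top_iff (n : ℕ) (a : A) : a ∈ (I ^ n • ⊤ : Ideal A) ↔ a ∈ I ^ n := by
  simp

theorem mk_D_eq (n : ℕ) (a a' : A)
    (h : Ideal.Quotient.mk (I ^ (n + 1) • ⊤ : Ideal A) a = Ideal.Quotient.mk _ a') :
    Ideal.Quotient.mk (I ^ n • ⊤ : Ideal A) (D a) = Ideal.Quotient.mk _ (D a') := by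
  rw [Ideal.Quotient.eq, mem_smul_top_iff] at h ⊢
  rw [← map_sub]
  exact D_pow_mem I D n _ h

/-- the components of `D̂ x`. -/
noncomputable def dval (x : AdicCompletion I A) (n : ℕ) : A ⧸ (I ^ n • ⊤ : Ideal A) :=
  Ideal.Quotient.mk _ (D (Ideal.Quotient.mk_surjective (x.val (n + 1))).choose)

theorem dval_eq (x : AdicCompletion I A) (n : ℕ) (a : A)
    (h : x.val (n + 1) = Ideal.Quotient.mk _ a) :
    dval I D x n = Ideal.Quotient.mk _ (D a) := by
  unfold dval
  apply mk_D_eq
  rw [(Ideal.Quotient.mk_surjective (x.val (n + 1))).choose_spec, h]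

theorem val_of_val_succ (x : AdicCompletion I A) {m n : ℕ} (hmn : m ≤ n) (a : A)
    (h : x.val n = Ideal.Quotient.mk _ a) :
    x.val m = Ideal.Quotient.mk _ a := by
  rw [← x.property hmn, h]
  rfl

noncomputable def Dhat (x : AdicCompletion I A) : AdicCompletion I A :=
  ⟨dval I D x, by
    intro m n hmn
    obtain ⟨a, ha⟩ := Ideal.Quotient.mk_surjective (x.val (n + 1))
    rw [dval_eq I D x n a ha.symm,
      dval_eq I D x m a (val_of_val_succ I x (Nat.succ_le_succ hmn) a ha.symm)]
    rfl⟩

theorem Dhat_val (x : AdicCompletion I A) (n : ℕ) (a : A)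
    (h : x.val (n + 1) = Ideal.Quotient.mk _ a) :
    (Dhat I D x).val n = Ideal.Quotient.mk _ (D a) :=
  dval_eq I D x n a h

theorem Dhat_add (x y : AdicCompletion I A) : Dhat I D (x + y) = Dhat I D x + Dhat I D y := by
  apply AdicCompletion.ext
  intro n
  obtain ⟨a, ha⟩ := Ideal.Quotient.mk_surjective (x.val (n + 1))
  obtain ⟨b, hb⟩ := Ideal.Quotient.mk_surjective (y.val (n + 1))
  rw [val_add_apply, Dhat_val I D x n a ha.symm, Dhat_val I D y n b hb.symm,
    Dhat_val I D (x + y) n (a + b) (by rw [val_add_apply, ← ha, ← hb, map_add]), map_add, map_add]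

theorem Dhat_mul (x y : AdicCompletion I A) :
    Dhat I D (x * y) = x * Dhat I D y + y * Dhat I D x := by
  apply AdicCompletion.ext
  intro n
  obtain ⟨a, ha⟩ := Ideal.Quotient.mk_surjective (x.val (n + 1))
  obtain ⟨b, hb⟩ := Ideal.Quotient.mk_surjective (y.val (n + 1))
  rw [val_add_apply, val_mul, val_mul, Dhat_val I D x n a ha.symm, Dhat_val I D y n b hb.symm,
    Dhat_val I D (x * y) n (a * b) (by rw [val_mul, ← ha, ← hb, map_mul]),
    val_of_val_succ I x (Nat.le_succ n) a ha.symm, val_of_val_succ I y (Nat.le_succ n) b hb.symm,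
    Derivation.leibniz, map_add]
  simp only [smul_eq_mul, map_mul]

theorem Dhat_of (a : A) : Dhat I D (of I A a) = of I A (D a) := by
  apply AdicCompletion.ext
  intro n
  rw [Dhat_val I D _ n a rfl]
  rfl

theorem Dhat_smul (c : k) (x : AdicCompletion I A) : Dhat I D (c • x) = c • Dhat I D x := by
  rw [Algebra.smul_def, Algebra.smul_def, Dhat_mul, AdicCompletion.algebraMap_apply, Dhat_of,
    Derivation.map_algebraMap, _root_.map_zero, mul_zero, add_zero]

end

/-- Let k be a field and A a regular local ring that is a k-algebra, with maximal ideal m and m-adic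
completion Â. Then every k-derivation D of A into itself extends to a k-derivation D̂ of Â into
itself along the canonical map ρ : A → Â, in the sense that D̂(ρ(a)) = ρ(D(a)) for every a ∈ A. (The
source works throughout over an algebraically closed field of characteristic p; neither assumption
enters this statement.) -/
theorem result
    (k : Type u) [Field k] (A : Type v) [CommRing A] [Algebra k A] [IsRegularLocalRing A]
    (D : Derivation k A A) :
    ∃ Dhat : Derivation k (AdicCompletion (IsLocalRing.maximalIdeal A) A)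
        (AdicCompletion (IsLocalRing.maximalIdeal A) A),
      ∀ a : A, Dhat (algebraMap A (AdicCompletion (IsLocalRing.maximalIdeal A) A) a) =
        algebraMap A (AdicCompletion (IsLocalRing.maximalIdeal A) A) (D a) := by
  set I := IsLocalRing.maximalIdeal A with hI
  let L : AdicCompletion I A →ₗ[k] AdicCompletion I A :=
    { toFun := Dhat I D
      map_add' := Dhat_add I D
      map_smul' := fun c x => Dhat_smul I D c x }
  refine ⟨Derivation.mk' L ?_, ?_⟩
  · intro a b
    change Dhat I D (a * b) = a • Dhat I D b + b • Dhat I D a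
    rw [Dhat_mul]
    rfl
  · intro a
    exact Dhat_of I D a

end Groth.Agent.S18156
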