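import Groth.Statements.S18179
import Mathlib
import Groth.Agent.Lib.Helper91.WeightBounds

set_option autoImplicit false
open FunFld

namespace Groth.Agent.S18179

/-- Let `k` be an algebraically closed field of characteristic zero and `K/k` a function field of one
variable (the function field of a smooth projective curve over `k`). A `g^r_d` is a divisor `D` of
degree `d` with a subspace `V ⊆ L(D)` of dimension `r + 1`; for a place `P` and `n ≥ 0`, `V(-nP) = V
∩ L(D - nP)` is the space of members vanishing to order at least `n` at `P`, so `dim V(-nP)` counts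
the vanishing orders `m_0 < ⋯ < m_r` of `V` at `P` that are at least `n`, and the weight of `V` at
`P` is `∑_{n=1}^{d} dim V(-nP) - r(r+1)/2`. Aspects `(D_Y, V_Y)` on `K_Y` and `(D_Z, V_Z)` on `K_Z`
of a limit `g^r_d` on two components meeting in a node (a place `P` of `K_Y` and a place `Q` of
`K_Z`) are compatible there when `m_i(V_Y, P) + m_{r-i}(V_Z, Q) = d` for every `i`, equivalently
`dim V_Y(-nP) + dim V_Z(-(d+1-n)Q) = r + 1` for `0 ≤ n ≤ d + 1`. A backbone is a chain of rational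
components `Z_0, …, Z_N` (function fields `K_i` of genus `0`), `Z_i` meeting `Z_{i+1}` in a node
given by a place `B_i` of `K_i` and a place `A_{i+1}` of `K_{i+1}`, the two node places `A_i ≠ B_i`
of an inner component being distinct; each `Z_i` carries an aspect `(D_i, V_i)` of a limit `g^r_d`
and consecutive aspects are compatible at the nodes. A set `T` of indices marks the components
carrying a tail: for `i ∈ T` the aspect `V_i` has at least a cusp (`dim V_i(-2Q_i) ≥ r`) at a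
further place `Q_i` of `K_i`, distinct from the node places of `Z_i`. (In the source these are the
backbone components of a flag curve to which a chain of rational curves ending in an elliptic tail
is attached, `T` has `g` elements, and the cusp is forced by that chain.) Conclusion: `r · |T| ≤
(r+1)(d-r)`, that is, the Brill–Noether number `ρ(|T|, r, d) = |T| - (r+1)(|T| - d + r)` is
nonnegative. (The source deduces from this, by degenerating a general curve of genus `g` to a flag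
curve with `g` tails, that a general curve has no `g^r_d` when `ρ < 0`; that consequence is not
stated here.) (The source states this for curves over the complex numbers.) -/
theorem result
    (k : Type*) [Field k] [IsAlgClosed k] [CharZero k]
    (N : ℕ) (Z : Fin (N + 1) → Type*) [∀ i, Field (Z i)] [∀ i, Algebra k (Z i)]
    (hZ : ∀ i, FunFld.IsFunctionField k (Z i)) (hrat : ∀ i, FunFld.genus k (Z i) = 0)
    (d r : ℕ) (D : ∀ i, FunFld.Divisor k (Z i)) (hD : ∀ i, (D i).deg = d)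
    (V : ∀ i, Submodule k (Z i)) (hV : ∀ i, V i ≤ FunFld.L (D i))
    (hVr : ∀ i, Module.finrank k ↥(V i) = r + 1)
    (A B : ∀ i, FunFld.Place k (Z i))
    (hAB : ∀ i : Fin (N + 1), 0 < (i : ℕ) → (i : ℕ) < N → A i ≠ B i)
    (hcomp : ∀ (l : Fin N) (m : ℕ), m ≤ d + 1 →
      Module.finrank k ↥((V l.castSucc) ⊓ FunFld.L ((D l.castSucc) - Finsupp.single (B l.castSucc) ((m : ℤ)))) +
        Module.finrank k ↥((V l.succ) ⊓ FunFld.L ((D l.succ) - Finsupp.single (A l.succ) ((d : ℤ) + 1 - m))) = r + 1)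
    (T : Finset (Fin (N + 1))) (Q : ∀ i, FunFld.Place k (Z i))
    (hQA : ∀ i ∈ T, 0 < (i : ℕ) → Q i ≠ A i) (hQB : ∀ i ∈ T, (i : ℕ) < N → Q i ≠ B i)
    (hcusp : ∀ i ∈ T, r ≤ Module.finrank k ↥((V i) ⊓ FunFld.L ((D i) - Finsupp.single (Q i) ((2 : ℤ))))) :
    r * T.card + r * (r + 1) ≤ (r + 1) * d := by
  classical
  open FunFld Module Groth.Agent.Lib.Helper55 Groth.Agent.Lib.Helper91.LimLin in
  have h2t := two_mul_half r
  -- indicator of `T`
  set g : ℕ → ℕ := fun j => if h : j < N + 1 then (if (⟨j, h⟩ : Fin (N + 1)) ∈ T then 1 else 0) else 0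
    with hg
  have hgT : ∑ j ∈ Finset.range (N + 1), g j = T.card := by
    rw [← Fin.sum_univ_eq_sum_range g (N + 1)]
    have hx : ∀ x : Fin (N + 1), g (x : ℕ) = if x ∈ T then 1 else 0 := by
      intro x
      simp only [hg]
      rw [dif_pos x.2]
    simp only [hx]
    simp
  have hg_in : ∀ (i : ℕ) (hi : i < N + 1), (⟨i, hi⟩ : Fin (N + 1)) ∈ T → g i = 1 := by
    intro i hi h
    simp only [hg]
    rw [dif_pos hi, if_pos h]
  have hg_out : ∀ (i : ℕ) (hi : i < N + 1), (⟨i, hi⟩ : Fin (N + 1)) ∉ T → g i = 0 := by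
    intro i hi h
    simp only [hg]
    rw [dif_pos hi, if_neg h]
  -- the main claim
  have main : ∀ (i : ℕ) (h1 : 1 ≤ i) (hi : i < N + 1),
      r * (r + 1) / 2 + r * (∑ j ∈ Finset.range i, g j) ≤
        (∑ j ∈ Finset.range d, finrank k
          ↥((V ⟨i, hi⟩) ⊓ L ((D ⟨i, hi⟩) - Finsupp.single (A ⟨i, hi⟩) ((j : ℤ) + 1)))) := by
    intro i h1
    induction i, h1 using Nat.le_induction with
    | base =>
      intro hi
      have hN : 0 < N := by omega
      have hc' := compat_sum d r (D (⟨0, hN⟩ : Fin N).castSucc)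
        (V (⟨0, hN⟩ : Fin N).castSucc) (B (⟨0, hN⟩ : Fin N).castSucc)
        (D (⟨0, hN⟩ : Fin N).succ) (V (⟨0, hN⟩ : Fin N).succ)
        (A (⟨0, hN⟩ : Fin N).succ) (hcomp ⟨0, hN⟩)
      have hc'' : (∑ j ∈ Finset.range d, finrank k ↥((V 0) ⊓
          L ((D 0) - Finsupp.single (B 0) ((j : ℤ) + 1)))) +
          (∑ j ∈ Finset.range d, finrank k ↥((V ⟨1, hi⟩) ⊓
          L ((D ⟨1, hi⟩) - Finsupp.single (A ⟨1, hi⟩) ((j : ℤ) + 1)))) =
          (r + 1) * d := hc'
      rw [Finset.sum_range_one]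
      by_cases h0 : (⟨0, by omega⟩ : Fin (N + 1)) ∈ T
      · rw [hg_in 0 (by omega) h0, mul_one]
        have hne : Q 0 ≠ B 0 := hQB 0 h0 hN
        have htp := two_point (hZ 0) d r (D 0) (hD 0) (V 0) (hV 0) (hVr 0) (Q 0) (B 0) hne
        have hlc := s_lower_cusp (hZ 0) d r (D 0) (hD 0) (V 0) (hV 0) (hVr 0) (Q 0) (hcusp 0 h0)
        omega
      · rw [hg_out 0 (by omega) h0, mul_zero, add_zero]
        exact s_lower (hZ _) d r (D _) (hD _) (V _) (hV _) (hVr _) (A _)
    | succ i h1 ih =>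
      intro hi
      have hi' : i < N + 1 := by omega
      have ih' := ih hi'
      have hiN : i < N := by omega
      have hc' := compat_sum d r (D (⟨i, hiN⟩ : Fin N).castSucc)
        (V (⟨i, hiN⟩ : Fin N).castSucc) (B (⟨i, hiN⟩ : Fin N).castSucc)
        (D (⟨i, hiN⟩ : Fin N).succ) (V (⟨i, hiN⟩ : Fin N).succ)
        (A (⟨i, hiN⟩ : Fin N).succ) (hcomp ⟨i, hiN⟩)
      have hc'' : (∑ j ∈ Finset.range d, finrank k ↥((V ⟨i, hi'⟩) ⊓
          L ((D ⟨i, hi'⟩) - Finsupp.single (B ⟨i, hi'⟩) ((j : ℤ) + 1)))) +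
          (∑ j ∈ Finset.range d, finrank k ↥((V ⟨i + 1, hi⟩) ⊓
          L ((D ⟨i + 1, hi⟩) - Finsupp.single (A ⟨i + 1, hi⟩) ((j : ℤ) + 1)))) =
          (r + 1) * d := hc'
      have hne : A ⟨i, hi'⟩ ≠ B ⟨i, hi'⟩ := hAB ⟨i, hi'⟩ (show 0 < i from h1) (show i < N from hiN)
      have esum : r * (∑ j ∈ Finset.range (i + 1), g j) =
          r * (∑ j ∈ Finset.range i, g j) + r * g i := by
        rw [Finset.sum_range_succ, mul_add]
      rw [esum]
      by_cases h0 : (⟨i, hi'⟩ : Fin (N + 1)) ∈ T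
      · rw [hg_in i hi' h0, mul_one]
        have hneA : A ⟨i, hi'⟩ ≠ Q ⟨i, hi'⟩ := (hQA _ h0 (show 0 < i from h1)).symm
        have hneB : B ⟨i, hi'⟩ ≠ Q ⟨i, hi'⟩ := (hQB _ h0 (show i < N from hiN)).symm
        have htp := two_point_cusp (hZ ⟨i, hi'⟩) (hrat _) d r (D ⟨i, hi'⟩)
          (hD ⟨i, hi'⟩) (V ⟨i, hi'⟩) (hV ⟨i, hi'⟩) (hVr ⟨i, hi'⟩) (A ⟨i, hi'⟩) (B ⟨i, hi'⟩) hne
          (Q ⟨i, hi'⟩) hneA hneB (hcusp _ h0)
        omega
      · rw [hg_out i hi' h0, mul_zero, add_zero]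
        have htp := two_point (hZ ⟨i, hi'⟩) d r (D ⟨i, hi'⟩)
          (hD ⟨i, hi'⟩) (V ⟨i, hi'⟩) (hV ⟨i, hi'⟩) (hVr ⟨i, hi'⟩) (A ⟨i, hi'⟩) (B ⟨i, hi'⟩) hne
        omega
  -- conclusion
  have esum : r * (∑ j ∈ Finset.range (N + 1), g j) =
      r * (∑ j ∈ Finset.range N, g j) + r * g N := by
    rw [Finset.sum_range_succ, mul_add]
  rw [← hgT, esum]
  rcases Nat.eq_zero_or_pos N with hN0 | hNpos
  · subst hN0
    rw [Finset.sum_range_zero, mul_zero, zero_add]
    by_cases h0 : (⟨0, by omega⟩ : Fin (0 + 1)) ∈ T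
    · rw [hg_in 0 (by omega) h0, mul_one]
      have hlc := s_lower_cusp (hZ _) d r (D _) (hD _) (V _) (hV _) (hVr _) (Q _) (hcusp _ h0)
      have hup := s_upper (hZ _) d r (D _) (hD _) (V _) (hV _) (hVr _) (Q ⟨0, by omega⟩)
      omega
    · rw [hg_out 0 (by omega) h0, mul_zero, zero_add]
      have hlc := s_lower (hZ _) d r (D _) (hD _) (V _) (hV _) (hVr _) (A ⟨0, by omega⟩)
      have hup := s_upper (hZ _) d r (D _) (hD _) (V _) (hV _) (hVr _) (A ⟨0, by omega⟩)
      omega
  · have hm := main N hNpos (by omega)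
    by_cases h0 : (⟨N, by omega⟩ : Fin (N + 1)) ∈ T
    · rw [hg_in N (by omega) h0, mul_one]
      have hne : A ⟨N, by omega⟩ ≠ Q ⟨N, by omega⟩ := (hQA _ h0 (show 0 < N from hNpos)).symm
      have htp := two_point (hZ _) d r (D _) (hD _) (V _) (hV _) (hVr _) (A ⟨N, by omega⟩)
        (Q ⟨N, by omega⟩) hne
      have hlc := s_lower_cusp (hZ _) d r (D _) (hD _) (V _) (hV _) (hVr _) (Q _) (hcusp _ h0)
      omega
    · rw [hg_out N (by omega) h0, mul_zero, add_zero]
      have hup := s_upper (hZ _) d r (D _) (hD _) (V _) (hV _) (hVr _) (A ⟨N, by omega⟩)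
      omega

end Groth.Agent.S18179
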