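import Groth.Statements.S18181
import Mathlib
import Groth.Agent.Lib.Helper91.Backbone
import Groth.Agent.Lib.Helper91.PluckerTransfer

set_option autoImplicit false
open FunFld

namespace Groth.Agent.S18181

/-- Let `k` be an algebraically closed field of characteristic zero and `K/k` a function field of one
variable (the function field of a smooth projective curve over `k`). A `g^r_d` is a divisor `D` of
degree `d` with a subspace `V ⊆ L(D)` of dimension `r + 1`; for a place `P` and `n ≥ 0`, `V(-nP) = V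
∩ L(D - nP)` is the space of members vanishing to order at least `n` at `P`, so `dim V(-nP)` counts
the vanishing orders `m_0 < ⋯ < m_r` of `V` at `P` that are at least `n`, and the weight of `V` at
`P` is `∑_{n=1}^{d} dim V(-nP) - r(r+1)/2`. Aspects `(D_Y, V_Y)` on `K_Y` and `(D_Z, V_Z)` on `K_Z`
of a limit `g^r_d` on two components meeting in a node (a place `P` of `K_Y` and a place `Q` of
`K_Z`) are compatible there when `m_i(V_Y, P) + m_{r-i}(V_Z, Q) = d` for every `i`, equivalently
`dim V_Y(-nP) + dim V_Z(-(d+1-n)Q) = r + 1` for `0 ≤ n ≤ d + 1`. A backbone is a chain of rational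
components `Z_0, …, Z_N` (function fields `K_i` of genus `0`), `Z_i` meeting `Z_{i+1}` in a node
given by a place `B_i` of `K_i` and a place `A_{i+1}` of `K_{i+1}`, the two node places `A_i ≠ B_i`
of an inner component being distinct; each `Z_i` carries an aspect `(D_i, V_i)` of a limit `g^r_d`
and consecutive aspects are compatible at the nodes. A set `T` of indices marks the components
carrying a tail: for `i ∈ T` the aspect `V_i` has at least a cusp (`dim V_i(-2Q_i) ≥ r`) at a
further place `Q_i` of `K_i`, distinct from the node places of `Z_i`. (In the source these are the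
backbone components of a flag curve to which a chain of rational curves ending in an elliptic tail
is attached, `T` has `g` elements, and the cusp is forced by that chain.) Then for an inner backbone
component `Z_i` with `i ∈ T` the weight of its aspect at the place `Q_i` where the tail is attached
is at most `(r+1)(d-r) - r · |T ∖ {i}|` (in the source: `(r+1)(d-r) - r(g-1)`), that is `∑_{n=1}^{d}
dim V_i(-nQ_i) + r · |T ∖ {i}| + r(r+1)/2 ≤ (r+1)d`. (The source states this for curves over the
complex numbers.) -/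
theorem result
    (k : Type*) [Field k] [IsAlgClosed k] [CharZero k]
    (N : ℕ) (Z : Fin (N + 1) → Type*) [∀ i, Field (Z i)] [∀ i, Algebra k (Z i)]
    (hZ : ∀ i, FunFld.IsFunctionField k (Z i)) (hrat : ∀ i, FunFld.genus k (Z i) = 0)
    (d r : ℕ) (D : ∀ i, FunFld.Divisor k (Z i)) (hD : ∀ i, (D i).deg = d)
    (V : ∀ i, Submodule k (Z i)) (hV : ∀ i, V i ≤ FunFld.L (D i))
    (hVr : ∀ i, Module.finrank k ↥(V i) = r + 1)
    (A B : ∀ i, FunFld.Place k (Z i))
    (hAB : ∀ i : Fin (N + 1), 0 < (i : ℕ) → (i : ℕ) < N → A i ≠ B i)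
    (hcomp : ∀ (l : Fin N) (m : ℕ), m ≤ d + 1 →
      Module.finrank k ↥((V l.castSucc) ⊓ FunFld.L ((D l.castSucc) - Finsupp.single (B l.castSucc) ((m : ℤ)))) +
        Module.finrank k ↥((V l.succ) ⊓ FunFld.L ((D l.succ) - Finsupp.single (A l.succ) ((d : ℤ) + 1 - m))) = r + 1)
    (T : Finset (Fin (N + 1))) (Q : ∀ i, FunFld.Place k (Z i))
    (hQA : ∀ i ∈ T, 0 < (i : ℕ) → Q i ≠ A i) (hQB : ∀ i ∈ T, (i : ℕ) < N → Q i ≠ B i)
    (hcusp : ∀ i ∈ T, r ≤ Module.finrank k ↥((V i) ⊓ FunFld.L ((D i) - Finsupp.single (Q i) ((2 : ℤ)))))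
    (i : Fin (N + 1)) (hiT : i ∈ T) (hi0 : 0 < (i : ℕ)) (hiN : (i : ℕ) < N) :
    (∑ n ∈ Finset.range d, Module.finrank k ↥((V i) ⊓ FunFld.L ((D i) - Finsupp.single (Q i) ((n : ℤ) + 1)))) +
      r * (T.erase i).card + r * (r + 1) / 2 ≤ (r + 1) * d := by
  classical
  open FunFld Module Groth.Agent.Lib.Helper55 Groth.Agent.Lib.Helper91.LimLin in
  have h2t := two_mul_half r
  have hf := forward hZ hrat d r D hD V hV hVr A B hAB hcomp T Q hQA hQB hcusp (i : ℕ) hi0 i.2
  have hb := backward hZ hrat d r D hD V hV hVr A B hAB hcomp T Q hQA hQB hcusp (N - (i : ℕ) - 1)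
    (i : ℕ) (by omega) i.2
  have he := ind_sum_erase T i
  have hmul : r * (T.erase i).card = r * (∑ j ∈ Finset.range (i : ℕ), ind T j) +
      r * (∑ j ∈ Finset.Ico ((i : ℕ) + 1) (N + 1), ind T j) := by
    rw [← he, mul_add]
  rw [hmul]
  have hf' : r * (r + 1) / 2 + r * (∑ j ∈ Finset.range (i : ℕ), ind T j) ≤
      (∑ n ∈ Finset.range d, finrank k ↥((V i) ⊓ L ((D i) - Finsupp.single (A i) ((n : ℤ) + 1)))) := hf
  have hb' : r * (r + 1) / 2 + r * (∑ j ∈ Finset.Ico ((i : ℕ) + 1) (N + 1), ind T j) ≤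
      (∑ n ∈ Finset.range d, finrank k ↥((V i) ⊓ L ((D i) - Finsupp.single (B i) ((n : ℤ) + 1)))) := hb
  have hAB' : A i ≠ B i := hAB i hi0 hiN
  have hQA' : Q i ≠ A i := hQA i hiT hi0
  have hQB' : Q i ≠ B i := hQB i hiT hiN
  have hnot : A i ∉ ({B i, Q i} : Finset (Place k (Z i))) := by
    simp only [Finset.mem_insert, Finset.mem_singleton, not_or]
    exact ⟨hAB', hQA'.symm⟩
  have hpl := Groth.Agent.Lib.Helper91.Plucker.plucker_K (hZ i) (hrat i) d r (D i) (hD i) (V i)
    (hV i) (hVr i) (A i) {B i, Q i} hnot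
  rw [Finset.sum_pair hQB'.symm, Finset.card_pair hQB'.symm] at hpl
  omega

end Groth.Agent.S18181
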