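import Groth.Statements.S18182
import Groth.Agent.Lib.Helper55.FunFld.GenusOneTors
open Groth.Agent.Lib.Helper55

set_option autoImplicit false
open FunFld

namespace Groth.Agent.S18182

/-- Let `k` be an algebraically closed field of characteristic zero and `K/k` a function field of one
variable (the function field of a smooth projective curve over `k`). A `g^r_d` is a divisor `D` of
degree `d` with a subspace `V ⊆ L(D)` of dimension `r + 1`; for a place `P` and `n ≥ 0`, `V(-nP) = V
∩ L(D - nP)` is the space of members vanishing to order at least `n` at `P`, so `dim V(-nP)` counts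
the vanishing orders `m_0 < ⋯ < m_r` of `V` at `P` that are at least `n`, and the weight of `V` at
`P` is `∑_{n=1}^{d} dim V(-nP) - r(r+1)/2`. Assume `K` has genus one, fix a place `P` and natural
numbers `d` and `r ≥ 1`. Then only finitely many places `Q ≠ P` admit a `g^r_d` `(D, V)` whose
weights at `P` and `Q` are large in the sense `w(V, P) + w(V, Q) ≥ (r+1)(d-r) - (r-1)`, that is
`(r+1)d + 1 ≤ ∑_{n=1}^{d} dim V(-nP) + ∑_{n=1}^{d} dim V(-nQ) + r`. (In the source `K` is an
elliptic tail of a flag curve degenerating a general curve of genus `g`, `P` its node, `Q` the limit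
of a moving ramification point, and the weight hypothesis is what `ρ ≤ 0` gives; the finiteness of
torsion points of bounded order on an elliptic curve is used.) (The source states this for curves
over the complex numbers.) -/
theorem result
    (k : Type*) [Field k] [IsAlgClosed k] [CharZero k]
    (K : Type*) [Field K] [Algebra k K] (hK : FunFld.IsFunctionField k K) (hg1 : FunFld.genus k K = 1)
    (P : FunFld.Place k K) (d r : ℕ) (hr : 1 ≤ r) :
    Set.Finite {Q : FunFld.Place k K | Q ≠ P ∧ ∃ (D : FunFld.Divisor k K) (V : Submodule k K),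
      D.deg = d ∧ V ≤ FunFld.L D ∧ Module.finrank k ↥V = r + 1 ∧
      (r + 1) * d + 1 ≤
        (∑ n ∈ Finset.range d, Module.finrank k ↥(V ⊓ FunFld.L (D - Finsupp.single P ((n : ℤ) + 1)))) +
          (∑ n ∈ Finset.range d, Module.finrank k ↥(V ⊓ FunFld.L (D - Finsupp.single Q ((n : ℤ) + 1)))) + r} :=
  by
  have hfin : (⋃ m ∈ Finset.Icc 1 d, {Q : FunFld.Place k K | Q ≠ P ∧
      ∃ f ∈ FunFld.L (Finsupp.single P (m : ℤ)), Q.1 f = WithZero.exp (-(m : ℤ))}).Finite :=
    Set.Finite.biUnion (Finset.finite_toSet _) fun m hm =>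
      ff_finite_torsion hK hg1 P m (by
        have := Finset.mem_Icc.mp hm
        omega)
  refine hfin.subset ?_
  rintro Q ⟨hQP, D, V, hD, hV, hrk, hw⟩
  obtain ⟨m, hm1, hmd, f, hf, hQf⟩ := ff_exists_torsion_of_weights hK P Q hQP
    (ff_deg_eq_one_of_isAlgClosed hK P) (ff_deg_eq_one_of_isAlgClosed hK Q) d r D V hD hV hrk hw
  simp only [Set.mem_iUnion]
  exact ⟨m, Finset.mem_coe.mpr (Finset.mem_Icc.mpr ⟨hm1, hmd⟩), hQP, f, hf, hQf⟩

end Groth.Agent.S18182
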