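import Groth.Statements.S18183
import Mathlib
import Groth.Agent.Lib.Helper91.Backbone
import Groth.Agent.Lib.Helper91.PluckerTransfer

set_option autoImplicit false
open FunFld

namespace Groth.Agent.S18183

/-- Let `k` be an algebraically closed field of characteristic zero and `K/k` a function field of one
variable (the function field of a smooth projective curve over `k`). A `g^r_d` is a divisor `D` of
degree `d` with a subspace `V ⊆ L(D)` of dimension `r + 1`; for a place `P` and `n ≥ 0`, `V(-nP) = V
∩ L(D - nP)` is the space of members vanishing to order at least `n` at `P`, so `dim V(-nP)` counts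
the vanishing orders `m_0 < ⋯ < m_r` of `V` at `P` that are at least `n`, and the weight of `V` at
`P` is `∑_{n=1}^{d} dim V(-nP) - r(r+1)/2`. Aspects `(D_Y, V_Y)` on `K_Y` and `(D_Z, V_Z)` on `K_Z`
of a limit `g^r_d` on two components meeting in a node (a place `P` of `K_Y` and a place `Q` of
`K_Z`) are compatible there when `m_i(V_Y, P) + m_{r-i}(V_Z, Q) = d` for every `i`, equivalently
`dim V_Y(-nP) + dim V_Z(-(d+1-n)Q) = r + 1` for `0 ≤ n ≤ d + 1`. A backbone is a chain of rational
components `Z_0, …, Z_N` (function fields `K_i` of genus `0`), `Z_i` meeting `Z_{i+1}` in a node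
given by a place `B_i` of `K_i` and a place `A_{i+1}` of `K_{i+1}`, the two node places `A_i ≠ B_i`
of an inner component being distinct; each `Z_i` carries an aspect `(D_i, V_i)` of a limit `g^r_d`
and consecutive aspects are compatible at the nodes. A set `T` of indices marks the components
carrying a tail: for `i ∈ T` the aspect `V_i` has at least a cusp (`dim V_i(-2Q_i) ≥ r`) at a
further place `Q_i` of `K_i`, distinct from the node places of `Z_i`. (In the source these are the
backbone components of a flag curve to which a chain of rational curves ending in an elliptic tail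
is attached, `T` has `g` elements, and the cusp is forced by that chain.) Let `Q'` be a place of
some `Z_i` other than its node places and other than `Q_i` when `i ∈ T`. Then `w(V_i, Q') ≤
(r+1)(d-r) - r · |T|`, that is `∑_{j=1}^{d} dim V_i(-jQ') + r · |T| + r(r+1) ≤ (r+1)d + r(r+1)/2`.
Hence, when `|T| = g` and the moving-point Brill–Noether number `ρ = 1 + g - (r+1)(g+r-d) - ∑(m_i -
i)` is `≤ 0`, a point with vanishing sequence `(m_i)`, whose weight is then at least `(r+1)(d-r) -
rg + 1`, cannot lie on a backbone component away from the nodes; the source states this as: the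
limit of the ramification point lies on an elliptic tail. (The printed argument bounds such weights
only by `(r+1)(d-r) - r(g-1)`; the sharper bound here also uses that the aspect has weight at least
`r` at a cusp.) (The source states this for curves over the complex numbers.) -/
theorem result
    (k : Type*) [Field k] [IsAlgClosed k] [CharZero k]
    (N : ℕ) (Z : Fin (N + 1) → Type*) [∀ i, Field (Z i)] [∀ i, Algebra k (Z i)]
    (hZ : ∀ i, FunFld.IsFunctionField k (Z i)) (hrat : ∀ i, FunFld.genus k (Z i) = 0)
    (d r : ℕ) (D : ∀ i, FunFld.Divisor k (Z i)) (hD : ∀ i, (D i).deg = d)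
    (V : ∀ i, Submodule k (Z i)) (hV : ∀ i, V i ≤ FunFld.L (D i))
    (hVr : ∀ i, Module.finrank k ↥(V i) = r + 1)
    (A B : ∀ i, FunFld.Place k (Z i))
    (hAB : ∀ i : Fin (N + 1), 0 < (i : ℕ) → (i : ℕ) < N → A i ≠ B i)
    (hcomp : ∀ (l : Fin N) (m : ℕ), m ≤ d + 1 →
      Module.finrank k ↥((V l.castSucc) ⊓ FunFld.L ((D l.castSucc) - Finsupp.single (B l.castSucc) ((m : ℤ)))) +
        Module.finrank k ↥((V l.succ) ⊓ FunFld.L ((D l.succ) - Finsupp.single (A l.succ) ((d : ℤ) + 1 - m))) = r + 1)
    (T : Finset (Fin (N + 1))) (Q : ∀ i, FunFld.Place k (Z i))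
    (hQA : ∀ i ∈ T, 0 < (i : ℕ) → Q i ≠ A i) (hQB : ∀ i ∈ T, (i : ℕ) < N → Q i ≠ B i)
    (hcusp : ∀ i ∈ T, r ≤ Module.finrank k ↥((V i) ⊓ FunFld.L ((D i) - Finsupp.single (Q i) ((2 : ℤ)))))
    (i : Fin (N + 1)) (Q' : FunFld.Place k (Z i)) (hQ'A : 0 < (i : ℕ) → Q' ≠ A i)
    (hQ'B : (i : ℕ) < N → Q' ≠ B i) (hQ'Q : i ∈ T → Q' ≠ Q i) :
    (∑ j ∈ Finset.range d, Module.finrank k ↥((V i) ⊓ FunFld.L ((D i) - Finsupp.single Q' ((j : ℤ) + 1)))) + r * T.card + r * (r + 1) ≤
      (r + 1) * d + r * (r + 1) / 2 := by
  classical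
  open FunFld Module Groth.Agent.Lib.Helper55 Groth.Agent.Lib.Helper91.LimLin in
  have h2t := two_mul_half r
  -- counting
  have he := ind_sum_erase T i
  have hTc : T.card = (T.erase i).card + ind T (i : ℕ) := by
    by_cases hi : i ∈ T
    · rw [ind_in T (i : ℕ) i.2 hi, Finset.card_erase_add_one hi]
    · rw [ind_out T (i : ℕ) i.2 hi, Finset.erase_eq_of_notMem hi, add_zero]
  have hmul : r * T.card = r * (∑ j ∈ Finset.range (i : ℕ), ind T j) +
      r * (∑ j ∈ Finset.Ico ((i : ℕ) + 1) (N + 1), ind T j) + r * ind T (i : ℕ) := by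
    rw [hTc, ← he, mul_add, mul_add]
  rw [hmul]
  have ha0 : ¬ 0 < (i : ℕ) → r * (∑ j ∈ Finset.range (i : ℕ), ind T j) = 0 := by
    intro h
    have : (i : ℕ) = 0 := by omega
    rw [this, Finset.range_zero, Finset.sum_empty, mul_zero]
  have hb0 : ¬ (i : ℕ) < N → r * (∑ j ∈ Finset.Ico ((i : ℕ) + 1) (N + 1), ind T j) = 0 := by
    intro h
    have h1 : N + 1 ≤ (i : ℕ) + 1 := by omega
    rw [Finset.Ico_eq_empty_of_le h1, Finset.sum_empty, mul_zero]
  -- node bounds
  have hf : 0 < (i : ℕ) → r * (r + 1) / 2 + r * (∑ j ∈ Finset.range (i : ℕ), ind T j) ≤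
      (∑ n ∈ Finset.range d, finrank k ↥((V i) ⊓ L ((D i) - Finsupp.single (A i) ((n : ℤ) + 1)))) :=
    fun hi0 => forward hZ hrat d r D hD V hV hVr A B hAB hcomp T Q hQA hQB hcusp (i : ℕ) hi0 i.2
  have hb : (i : ℕ) < N → r * (r + 1) / 2 + r * (∑ j ∈ Finset.Ico ((i : ℕ) + 1) (N + 1), ind T j) ≤
      (∑ n ∈ Finset.range d, finrank k ↥((V i) ⊓ L ((D i) - Finsupp.single (B i) ((n : ℤ) + 1)))) :=
    fun hiN => backward hZ hrat d r D hD V hV hVr A B hAB hcomp T Q hQA hQB hcusp
      (N - (i : ℕ) - 1) (i : ℕ) (by omega) i.2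
  -- Plücker with `P∞ = Q'`
  have key := fun (S : Finset (Place k (Z i))) (hS : Q' ∉ S) =>
    Groth.Agent.Lib.Helper91.Plucker.plucker_K (hZ i) (hrat i) d r (D i) (hD i) (V i)
      (hV i) (hVr i) Q' S hS
  by_cases hiT : i ∈ T
  · -- a cusp at `Q i`
    rw [ind_in T (i : ℕ) i.2 hiT, mul_one]
    have hQQ := hQ'Q hiT
    have hlc := s_lower_cusp (hZ i) d r (D i) (hD i) (V i) (hV i) (hVr i) (Q i) (hcusp i hiT)
    by_cases hi0 : 0 < (i : ℕ)
    · have hfA := hf hi0
      have hQ'A' := hQ'A hi0
      have hQA' : Q i ≠ A i := hQA i hiT hi0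
      by_cases hiN : (i : ℕ) < N
      · have hbB := hb hiN
        have hQ'B' := hQ'B hiN
        have hQB' : Q i ≠ B i := hQB i hiT hiN
        have hAB' : A i ≠ B i := hAB i hi0 hiN
        have hnot : Q' ∉ ({A i, B i, Q i} : Finset (Place k (Z i))) := by
          simp only [Finset.mem_insert, Finset.mem_singleton, not_or]
          exact ⟨hQ'A', hQ'B', hQQ⟩
        have hpl := key {A i, B i, Q i} hnot
        have hA_not : A i ∉ ({B i, Q i} : Finset (Place k (Z i))) := by
          simp only [Finset.mem_insert, Finset.mem_singleton, not_or]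
          exact ⟨hAB', hQA'.symm⟩
        rw [Finset.sum_insert hA_not, Finset.sum_pair hQB'.symm,
          Finset.card_insert_of_notMem hA_not, Finset.card_pair hQB'.symm] at hpl
        omega
      · have hb0' := hb0 hiN
        have hnot : Q' ∉ ({A i, Q i} : Finset (Place k (Z i))) := by
          simp only [Finset.mem_insert, Finset.mem_singleton, not_or]
          exact ⟨hQ'A', hQQ⟩
        have hpl := key {A i, Q i} hnot
        rw [Finset.sum_pair hQA'.symm, Finset.card_pair hQA'.symm] at hpl
        omega
    · have ha0' := ha0 hi0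
      by_cases hiN : (i : ℕ) < N
      · have hbB := hb hiN
        have hQ'B' := hQ'B hiN
        have hQB' : Q i ≠ B i := hQB i hiT hiN
        have hnot : Q' ∉ ({B i, Q i} : Finset (Place k (Z i))) := by
          simp only [Finset.mem_insert, Finset.mem_singleton, not_or]
          exact ⟨hQ'B', hQQ⟩
        have hpl := key {B i, Q i} hnot
        rw [Finset.sum_pair hQB'.symm, Finset.card_pair hQB'.symm] at hpl
        omega
      · have hb0' := hb0 hiN
        have hnot : Q' ∉ ({Q i} : Finset (Place k (Z i))) := by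
          simp only [Finset.mem_singleton]
          exact hQQ
        have hpl := key {Q i} hnot
        rw [Finset.sum_singleton, Finset.card_singleton] at hpl
        omega
  · rw [ind_out T (i : ℕ) i.2 hiT, mul_zero, add_zero]
    by_cases hi0 : 0 < (i : ℕ)
    · have hfA := hf hi0
      have hQ'A' := hQ'A hi0
      by_cases hiN : (i : ℕ) < N
      · have hbB := hb hiN
        have hQ'B' := hQ'B hiN
        have hAB' : A i ≠ B i := hAB i hi0 hiN
        have hnot : Q' ∉ ({A i, B i} : Finset (Place k (Z i))) := by
          simp only [Finset.mem_insert, Finset.mem_singleton, not_or]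
          exact ⟨hQ'A', hQ'B'⟩
        have hpl := key {A i, B i} hnot
        rw [Finset.sum_pair hAB', Finset.card_pair hAB'] at hpl
        omega
      · have hb0' := hb0 hiN
        have hnot : Q' ∉ ({A i} : Finset (Place k (Z i))) := by
          simp only [Finset.mem_singleton]
          exact hQ'A'
        have hpl := key {A i} hnot
        rw [Finset.sum_singleton, Finset.card_singleton] at hpl
        omega
    · have ha0' := ha0 hi0
      by_cases hiN : (i : ℕ) < N
      · have hbB := hb hiN
        have hQ'B' := hQ'B hiN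
        have hnot : Q' ∉ ({B i} : Finset (Place k (Z i))) := by
          simp only [Finset.mem_singleton]
          exact hQ'B'
        have hpl := key {B i} hnot
        rw [Finset.sum_singleton, Finset.card_singleton] at hpl
        omega
      · have hb0' := hb0 hiN
        have hup := s_upper (hZ i) d r (D i) (hD i) (V i) (hV i) (hVr i) Q'
        omega

end Groth.Agent.S18183
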