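import Groth.Statements.S18185
import Mathlib
import Groth.Agent.Lib.Helper91.TwoPtCusp
import Groth.Agent.S18184

set_option autoImplicit false
open FunFld

namespace Groth.Agent.S18185

/-- Let `k` be an algebraically closed field of characteristic zero and `K/k` a function field of one
variable (the function field of a smooth projective curve over `k`). A `g^r_d` is a divisor `D` of
degree `d` with a subspace `V ⊆ L(D)` of dimension `r + 1`; for a place `P` and `n ≥ 0`, `V(-nP) = V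
∩ L(D - nP)` is the space of members vanishing to order at least `n` at `P`, so `dim V(-nP)` counts
the vanishing orders `m_0 < ⋯ < m_r` of `V` at `P` that are at least `n`, and the weight of `V` at
`P` is `∑_{n=1}^{d} dim V(-nP) - r(r+1)/2`. Aspects `(D_Y, V_Y)` on `K_Y` and `(D_Z, V_Z)` on `K_Z`
of a limit `g^r_d` on two components meeting in a node (a place `P` of `K_Y` and a place `Q` of
`K_Z`) are compatible there when `m_i(V_Y, P) + m_{r-i}(V_Z, Q) = d` for every `i`, equivalently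
`dim V_Y(-nP) + dim V_Z(-(d+1-n)Q) = r + 1` for `0 ≤ n ≤ d + 1`. Consider a chain of components
`U_0, U_1, …, U_n` (`n ≥ 1`; function fields `K_l`), `U_l` meeting `U_{l+1}` in a node given by
places `B_l` of `K_l` and `A_{l+1}` of `K_{l+1}`, with `A_l ≠ B_l` on the inner components `U_1, …,
U_{n-1}`, which have genus `0`; each `U_l` carries an aspect `(D_l, V_l)` of a limit `g^r_d`,
consecutive aspects compatible at the nodes, and the weight of `V_0` at `B_0` is at most `(r+1)(d-r)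
- c`. (In the source `U_0` is a backbone component of a flag curve with `g` tails, `U_1, …, U_{n-1}`
the chain of rational curves attached to it at `B_0`, `U_n` the elliptic tail, and `c = r(g-1)`, the
weight bound at `B_0` being the one established for backbone components.) Assume moreover that `U_n`
has positive genus. Then at every place `Q'` of an inner component `U_l` (`0 < l < n`) other than
`A_l, B_l`, the weight of `V_l` is at most `(r+1)(d-r) - c - r`: `∑_{j=1}^{d} dim V_l(-jQ') + c + r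
+ r(r+1) ≤ (r+1)d + r(r+1)/2`. With `c = r(g-1)` this is `(r+1)(d-r) - rg`, so when `ρ ≤ 0` the
limit of the moving ramification point (weight `≥ (r+1)(d-r) - rg + 1`) is not on the chain curves
either. (The printed argument bounds such weights only by `(r+1)(d-r) - r(g-1)`; the extra `r` comes
from the cusp that `V_l` has at `B_l`.) (The source states this for curves over the complex
numbers.) -/
theorem result
    (k : Type*) [Field k] [IsAlgClosed k] [CharZero k]
    (n : ℕ) (hn : 0 < n) (U : Fin (n + 1) → Type*) [∀ l, Field (U l)] [∀ l, Algebra k (U l)]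
    (hU : ∀ l, FunFld.IsFunctionField k (U l))
    (hrat : ∀ l : Fin (n + 1), 0 < (l : ℕ) → (l : ℕ) < n → FunFld.genus k (U l) = 0)
    (d r : ℕ) (D : ∀ l, FunFld.Divisor k (U l)) (hD : ∀ l, (D l).deg = d)
    (V : ∀ l, Submodule k (U l)) (hV : ∀ l, V l ≤ FunFld.L (D l))
    (hVr : ∀ l, Module.finrank k ↥(V l) = r + 1)
    (A B : ∀ l, FunFld.Place k (U l))
    (hAB : ∀ l : Fin (n + 1), 0 < (l : ℕ) → (l : ℕ) < n → A l ≠ B l)
    (hcomp : ∀ (l : Fin n) (m : ℕ), m ≤ d + 1 →
      Module.finrank k ↥((V l.castSucc) ⊓ FunFld.L ((D l.castSucc) - Finsupp.single (B l.castSucc) ((m : ℤ)))) +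
        Module.finrank k ↥((V l.succ) ⊓ FunFld.L ((D l.succ) - Finsupp.single (A l.succ) ((d : ℤ) + 1 - m))) = r + 1)
    (c : ℕ) (hc : (∑ j ∈ Finset.range d, Module.finrank k ↥((V 0) ⊓ FunFld.L ((D 0) - Finsupp.single (B 0) ((j : ℤ) + 1)))) + c + r * (r + 1) ≤ (r + 1) * d + r * (r + 1) / 2)
    (hpos : 0 < FunFld.genus k (U (Fin.last n)))
    (l : Fin (n + 1)) (hl0 : 0 < (l : ℕ)) (hln : (l : ℕ) < n)
    (Q' : FunFld.Place k (U l)) (hQ'A : Q' ≠ A l) (hQ'B : Q' ≠ B l) :
    (∑ j ∈ Finset.range d, Module.finrank k ↥((V l) ⊓ FunFld.L ((D l) - Finsupp.single Q' ((j : ℤ) + 1)))) + c + r + r * (r + 1) ≤ (r + 1) * d + r * (r + 1) / 2 := by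
  classical
  open FunFld Module Groth.Agent.Lib.Helper55 Groth.Agent.Lib.Helper91.LimLin in
  have h2t := Groth.Agent.Lib.Helper91.LimLin.two_mul_half r
  rcases Nat.eq_zero_or_pos r with hr0 | hrpos
  · -- r = 0: no cusp needed; use two_point
    subst hr0
    have h84 := Groth.Agent.S18184.result k n hn U hU hrat d 0 D hD V hV hVr A B hAB hcomp c hc l hl0
    have htp := two_point (hU l) d 0 (D l) (hD l) (V l) (hV l) (hVr l) Q' (A l) hQ'A
    omega
  have hrd : r ≤ d := r_le_d (hU l) d r (D l) (hD l) (V l) (hV l) (hVr l)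
  have hd1 : 1 ≤ d := by omega
  -- the claim along the chain
  have claim : ∀ (i : ℕ) (j : ℕ) (hj : j < n + 1), 0 < j → j + i = n →
      finrank k ↥((V ⟨j, hj⟩) ⊓ L ((D ⟨j, hj⟩) - Finsupp.single (A ⟨j, hj⟩) ((d : ℤ) - 1))) ≤ 1 := by
    intro i
    induction i with
    | zero =>
      intro j hj hj0 hjn
      have hjl : (⟨j, hj⟩ : Fin (n + 1)) = Fin.last n := by
        ext; simp only [Fin.val_last]; omega
      have hg : 0 < genus k (U ⟨j, hj⟩) := by rw [hjl]; exact hpos
      have hE : ((D ⟨j, hj⟩) - Finsupp.single (A ⟨j, hj⟩) ((d : ℤ) - 1)).deg = 1 := by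
        rw [ff_deg_sub, ff_deg_single, hD, ff_deg_eq_one_of_isAlgClosed (hU _) (A _)]
        push_cast
        ring
      have h1 := ell_le_one_of_deg_one (hU ⟨j, hj⟩) hg _ hE
      have := ff_L_finiteDimensional (hU ⟨j, hj⟩) ((D ⟨j, hj⟩) - Finsupp.single (A ⟨j, hj⟩) ((d : ℤ) - 1))
      have h2 : finrank k ↥((V ⟨j, hj⟩) ⊓ L ((D ⟨j, hj⟩) - Finsupp.single (A ⟨j, hj⟩) ((d : ℤ) - 1))) ≤
          finrank k ↥(L ((D ⟨j, hj⟩) - Finsupp.single (A ⟨j, hj⟩) ((d : ℤ) - 1))) :=
        Submodule.finrank_mono inf_le_right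
      unfold ell at h1
      omega
    | succ i ih =>
      intro j hj hj0 hjn
      have hj' : j + 1 < n + 1 := by omega
      have hjn' : j < n := by omega
      have ih' := ih (j + 1) hj' (by omega) (by omega)
      have hcj := hcomp ⟨j, hjn'⟩ 2 (by omega)
      have e1 : ((d : ℤ) + 1 - ((2 : ℕ) : ℤ)) = (d : ℤ) - 1 := by push_cast; ring
      rw [e1] at hcj
      have hcj' : finrank k ↥((V ⟨j, hj⟩) ⊓ L ((D ⟨j, hj⟩) - Finsupp.single (B ⟨j, hj⟩) ((2 : ℕ) : ℤ))) +
          finrank k ↥((V ⟨j + 1, hj'⟩) ⊓ L ((D ⟨j + 1, hj'⟩) - Finsupp.single (A ⟨j + 1, hj'⟩) ((d : ℤ) - 1))) = r + 1 := hcj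
      have h76 := (Groth.Agent.S18176.result k (U ⟨j, hj⟩) (hU _) d r (D _) (hD _) (V _) (hV _) (hVr _)
        (A ⟨j, hj⟩) (B ⟨j, hj⟩) (hAB ⟨j, hj⟩ hj0 hjn')).1 (d - 1) (by omega)
      have e2 : (((d - 1 : ℕ)) : ℤ) = (d : ℤ) - 1 := by omega
      have e3 : ((d : ℤ) + 1 - ((d - 1 : ℕ) : ℤ)) = ((2 : ℕ) : ℤ) := by push_cast; omega
      rw [e3, e2] at h76
      omega
  -- cusp at B l
  have hcusp : r ≤ finrank k ↥((V l) ⊓ L ((D l) - Finsupp.single (B l) (2 : ℤ))) := by
    have hl' : (l : ℕ) + 1 < n + 1 := by omega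
    have h0 := claim (n - ((l : ℕ) + 1)) ((l : ℕ) + 1) hl' (by omega) (by omega)
    have hcl := hcomp ⟨(l : ℕ), hln⟩ 2 (by omega)
    have e1 : ((d : ℤ) + 1 - ((2 : ℕ) : ℤ)) = (d : ℤ) - 1 := by push_cast; ring
    rw [e1] at hcl
    have hcl' : finrank k ↥((V l) ⊓ L ((D l) - Finsupp.single (B l) ((2 : ℕ) : ℤ))) +
        finrank k ↥((V ⟨(l : ℕ) + 1, hl'⟩) ⊓ L ((D ⟨(l : ℕ) + 1, hl'⟩) -
          Finsupp.single (A ⟨(l : ℕ) + 1, hl'⟩) ((d : ℤ) - 1))) = r + 1 := hcl
    have e4 : ((2 : ℕ) : ℤ) = (2 : ℤ) := rfl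
    rw [e4] at hcl'
    omega
  have h84 := Groth.Agent.S18184.result k n hn U hU hrat d r D hD V hV hVr A B hAB hcomp c hc l hl0
  have htp := two_point_cusp (hU l) (hrat l hl0 hln) d r (D l) (hD l) (V l) (hV l) (hVr l) Q' (A l) hQ'A
    (B l) hQ'B (hAB l hl0 hln) hcusp
  omega

end Groth.Agent.S18185
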