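import Groth.Statements.S18188
import Mathlib

set_option autoImplicit false
universe u
open OrbRR

namespace Groth.Agent.S18188

section helpers

variable {K : Type u} [Field K]

/-- the left-hand side as a function of `j`. -/
noncomputable def L (N : ℕ) (ζ : K) (j : ℕ) : K :=
  ∑ i ∈ Finset.Ioo 0 N, ζ ^ (i * j) / (2 - ζ ^ i - (ζ ^ i)⁻¹)

theorem sum_range_eq (N : ℕ) (hN : 0 < N) (f : ℕ → K) :
    ∑ i ∈ Finset.range N, f i = f 0 + ∑ i ∈ Finset.Ioo 0 N, f i := by
  rw [Finset.range_eq_Ico, ← Finset.Ioo_insert_left hN, Finset.sum_insert (by simp)]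

theorem geom_zero {w : K} {N : ℕ} (hw : w ≠ 1) (hwN : w ^ N = 1) :
    ∑ i ∈ Finset.range N, w ^ i = 0 := by
  have h := mul_geom_sum w N
  rw [hwN, sub_self] at h
  rcases mul_eq_zero.mp h with h1 | h1
  · exact absurd (sub_eq_zero.mp h1) hw
  · exact h1

theorem term_eq {z : K} (hz0 : z ≠ 0) (hz1 : z ≠ 1) (j : ℕ) :
    z ^ (j + 2) / (2 - z - z⁻¹) - 2 * (z ^ (j + 1) / (2 - z - z⁻¹)) + z ^ j / (2 - z - z⁻¹)
      = - z ^ (j + 1) := by
  have hd : (2 - z - z⁻¹) ≠ 0 := by
    intro h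
    have h2 : (2 - z - z⁻¹) * z = -(z - 1) ^ 2 := by
      field_simp
      ring
    rw [h, zero_mul] at h2
    have : (z - 1) ^ 2 = 0 := by linear_combination h2
    exact hz1 (sub_eq_zero.mp (pow_eq_zero_iff (two_ne_zero) |>.mp this))
  have key : z ^ (j + 2) - 2 * z ^ (j + 1) + z ^ j = - z ^ (j + 1) * (2 - z - z⁻¹) := by
    field_simp
    ring
  have e1 : z ^ (j + 2) / (2 - z - z⁻¹) - 2 * (z ^ (j + 1) / (2 - z - z⁻¹))
      + z ^ j / (2 - z - z⁻¹) = (z ^ (j + 2) - 2 * z ^ (j + 1) + z ^ j) / (2 - z - z⁻¹) := by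
    ring
  rw [e1, key, mul_div_cancel_right₀ _ hd]

theorem L_diff {N : ℕ} {ζ : K} (hζ : IsPrimitiveRoot ζ N) (hN : 0 < N) (j : ℕ)
    (hj : ¬ N ∣ j + 1) :
    L N ζ (j + 2) - 2 * L N ζ (j + 1) + L N ζ j = 1 := by
  unfold L
  rw [Finset.mul_sum, ← Finset.sum_sub_distrib, ← Finset.sum_add_distrib]
  have hterm : ∀ i ∈ Finset.Ioo 0 N,
      ζ ^ (i * (j + 2)) / (2 - ζ ^ i - (ζ ^ i)⁻¹) - 2 * (ζ ^ (i * (j + 1)) / (2 - ζ ^ i - (ζ ^ i)⁻¹))
        + ζ ^ (i * j) / (2 - ζ ^ i - (ζ ^ i)⁻¹) = - (ζ ^ (j + 1)) ^ i := by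
    intro i hi
    rw [Finset.mem_Ioo] at hi
    have hz0 : ζ ^ i ≠ 0 := pow_ne_zero _ (hζ.ne_zero hN.ne')
    have hz1 : ζ ^ i ≠ 1 := hζ.pow_ne_one_of_pos_of_lt hi.1.ne' hi.2
    rw [pow_mul, pow_mul, pow_mul, term_eq hz0 hz1, ← pow_mul, ← pow_mul, mul_comm]
  rw [Finset.sum_congr rfl hterm, Finset.sum_neg_distrib]
  have hw1 : ζ ^ (j + 1) ≠ 1 := fun h => hj ((hζ.pow_eq_one_iff_dvd _).mp h)
  have hwN : (ζ ^ (j + 1)) ^ N = 1 := by
    rw [← pow_mul, mul_comm, pow_mul, hζ.pow_eq_one, one_pow]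
  have h0 := geom_zero hw1 hwN
  rw [sum_range_eq N hN] at h0
  simp only [pow_zero] at h0
  linear_combination -h0

theorem affine_of_second_diff (h : ℕ → K) (N : ℕ)
    (hd : ∀ j, j + 2 ≤ N → h (j + 2) - 2 * h (j + 1) + h j = 0) :
    ∀ j, j ≤ N → h j = h 0 + (j : K) * (h 1 - h 0) := by
  intro j
  induction j using Nat.strong_induction_on with
  | _ j ih =>
    intro hj
    match j, ih, hj with
    | 0, _, _ => simp
    | 1, _, _ => simp
    | (j + 2), ih, hj =>
      have h1 := ih j (by omega) (by omega)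
      have h2 := ih (j + 1) (by omega) (by omega)
      have h3 := hd j hj
      push_cast at h1 h2 ⊢
      linear_combination h3 + 2 * h2 - h1

theorem sum_R (N n : ℕ) :
    ∑ j ∈ Finset.range n, (6 * (j : K) * ((j : K) - (N : K)) + ((N : K) ^ 2 - 1)) =
      (n : K) * ((n : K) - 1) * (2 * (n : K) - 1) - 3 * (N : K) * ((n : K) * ((n : K) - 1))
        + (n : K) * ((N : K) ^ 2 - 1) := by
  induction n with
  | zero => simp
  | succ n ih =>
    rw [Finset.sum_range_succ, ih]
    push_cast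
    ring

theorem sum_L {N : ℕ} {ζ : K} (hζ : IsPrimitiveRoot ζ N) :
    ∑ j ∈ Finset.range N, L N ζ j = 0 := by
  unfold L
  rw [Finset.sum_comm]
  apply Finset.sum_eq_zero
  intro i hi
  rw [Finset.mem_Ioo] at hi
  rw [← Finset.sum_div]
  have hz1 : ζ ^ i ≠ 1 := hζ.pow_ne_one_of_pos_of_lt hi.1.ne' hi.2
  have hzN : (ζ ^ i) ^ N = 1 := by
    rw [← pow_mul, mul_comm, pow_mul, hζ.pow_eq_one, one_pow]
  have : ∑ j ∈ Finset.range N, ζ ^ (i * j) = 0 := by
    simp_rw [pow_mul]
    exact geom_zero hz1 hzN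
  rw [this, zero_div]

end helpers

/-- Let K be a field in which 6 ≠ 0, let j < N be natural numbers (so N ≥ 1), and let ζ ∈ K be a
primitive N-th root of unity. Then the sum over i = 1, …, N − 1 of ζ^{ij} / (2 − ζ^i − ζ^{−i})
equals j(j − N)/2 + (N² − 1)/12. (The published setting is characteristic zero; the identity is
stated here over any field of characteristic different from 2 and 3, where the published proof
applies unchanged: a field containing a primitive N-th root of unity has characteristic prime to N,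
and each denominator 2 − ζ^i − ζ^{−i} = −(1 − ζ^i)²/ζ^i with 0 < i < N is nonzero. In
characteristics 2 and 3 the right-hand side has no meaning.) -/
theorem result (K : Type u) [Field K] (h6 : (6 : K) ≠ 0)
    (N j : ℕ) (hj : j < N) (ζ : K) (hζ : IsPrimitiveRoot ζ N) :
    ∑ i ∈ Finset.Ioo 0 N, ζ ^ (i * j) / (2 - ζ ^ i - (ζ ^ i)⁻¹) =
      (j : K) * ((j : K) - (N : K)) / 2 + ((N : K) ^ 2 - 1) / 12 := by
  classical
  have hN : 0 < N := by omega
  have h2 : (2 : K) ≠ 0 := fun h => h6 (by linear_combination 3 * h)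
  have h12 : (12 : K) ≠ 0 := fun h => h6 (by
    have : (2 : K) * 6 = 0 := by linear_combination h
    rcases mul_eq_zero.mp this with h' | h'
    · exact absurd h' h2
    · exact h')
  have : NeZero N := ⟨hN.ne'⟩
  have hNK : (N : K) ≠ 0 := (hζ.neZero').ne
  -- the difference function
  set R : ℕ → K := fun j => (j : K) * ((j : K) - (N : K)) / 2 + ((N : K) ^ 2 - 1) / 12 with hR
  set h : ℕ → K := fun j => L N ζ j - R j with hh
  have hd : ∀ j, j + 2 ≤ N → h (j + 2) - 2 * h (j + 1) + h j = 0 := by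
    intro j hjN
    have hndvd : ¬ N ∣ j + 1 := by
      intro hdvd
      have := Nat.le_of_dvd (by omega) hdvd
      omega
    have hL := L_diff hζ hN j hndvd
    have hRd : R (j + 2) - 2 * R (j + 1) + R j = 1 := by
      simp only [hR]
      push_cast
      field_simp
      ring
    simp only [hh]
    linear_combination hL - hRd
  have haff := affine_of_second_diff h N hd
  have hLN : L N ζ N = L N ζ 0 := by
    unfold L
    apply Finset.sum_congr rfl
    intro i _
    rw [mul_comm, pow_mul, hζ.pow_eq_one, one_pow, mul_zero, pow_zero]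
  have hhN : h N = h 0 := by
    simp only [hh, hR, hLN]
    push_cast
    ring
  have hc : h 1 - h 0 = 0 := by
    have := haff N le_rfl
    rw [hhN] at this
    have h' : (N : K) * (h 1 - h 0) = 0 := by linear_combination -this
    rcases mul_eq_zero.mp h' with h'' | h''
    · exact absurd h'' hNK
    · exact h''
  have hconst : ∀ j, j ≤ N → h j = h 0 := by
    intro j hj
    rw [haff j hj, hc, mul_zero, add_zero]
  have hsumR : ∑ j ∈ Finset.range N, R j = 0 := by
    have h1 := sum_R (K := K) N N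
    have h3 : ∑ j ∈ Finset.range N, R j =
        (∑ j ∈ Finset.range N, (6 * (j : K) * ((j : K) - (N : K)) + ((N : K) ^ 2 - 1))) / 12 := by
      rw [Finset.sum_div]
      apply Finset.sum_congr rfl
      intro j _
      simp only [hR]
      field_simp
      ring
    rw [h3, h1]
    field_simp
    ring
  have hsumh : ∑ j ∈ Finset.range N, h j = 0 := by
    simp only [hh]
    rw [Finset.sum_sub_distrib, sum_L hζ, hsumR, sub_zero]
  have hh0 : h 0 = 0 := by
    have h1 : ∑ j ∈ Finset.range N, h j = (N : K) * h 0 := by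
      rw [Finset.sum_congr rfl (fun j hj => hconst j (Finset.mem_range.mp hj).le)]
      simp
    rw [hsumh] at h1
    rcases mul_eq_zero.mp h1.symm with h'' | h''
    · exact absurd h'' hNK
    · exact h''
  have hfin : h j = 0 := by rw [hconst j hj.le, hh0]
  have : L N ζ j = R j := sub_eq_zero.mp hfin
  exact this

end Groth.Agent.S18188
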