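import Groth.Statements.S18189
import Mathlib
import Groth.Agent.S18188

set_option autoImplicit false
open OrbRR

namespace Groth.Agent.S18189

section helpers

open Finset

/-- the denominator `2 - z - z⁻¹` is a nonnegative real when `‖z‖ = 1`. -/
theorem denom_real {z : ℂ} (hz : ‖z‖ = 1) :
    ∃ r : ℝ, 0 ≤ r ∧ (2 - z - z⁻¹ : ℂ) = (r : ℂ) := by
  refine ⟨2 - 2 * z.re, ?_, ?_⟩
  · have : z.re ≤ ‖z‖ := Complex.re_le_norm z
    linarith
  · rw [Complex.inv_eq_conj hz]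
    have := Complex.add_conj z
    push_cast at this ⊢
    linear_combination -this

theorem inv_denom_real {z : ℂ} (hz : ‖z‖ = 1) :
    ∃ c : ℝ, 0 ≤ c ∧ (1 / (2 - z - z⁻¹) : ℂ) = (c : ℂ) := by
  obtain ⟨r, hr, h⟩ := denom_real hz
  refine ⟨1 / r, by positivity, ?_⟩
  rw [h]
  push_cast
  rfl

theorem geom_sum_ite {ζ : ℂ} {N : ℕ} (hζ : IsPrimitiveRoot ζ N) (t : ℕ) :
    ∑ i ∈ range N, ζ ^ (t * i) = if N ∣ t then (N : ℂ) else 0 := by
  split_ifs with h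
  · have : ζ ^ t = 1 := (hζ.pow_eq_one_iff_dvd t).mpr h
    simp [pow_mul, this]
  · have h1 : ζ ^ t ≠ 1 := fun h' => h ((hζ.pow_eq_one_iff_dvd t).mp h')
    simp_rw [pow_mul]
    exact Groth.Agent.S18188.geom_zero h1
      (by rw [← pow_mul, mul_comm, pow_mul, hζ.pow_eq_one, one_pow])

/-- the key Fourier computation -/
theorem eps_eq (N : ℕ) (hN : 0 < N) (ζ : ℂ) (hζ : IsPrimitiveRoot ζ N) (m : ℕ) :
    ∑ i ∈ range N,
        ((i : ℂ) * ((i : ℂ) - (N : ℂ)) / 2 + ((N : ℂ) ^ 2 - 1) / 12) / (N : ℂ) * ζ ^ (m * i) =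
      ∑ k ∈ Ioo 0 N, (if N ∣ k + m then (1 / (2 - ζ ^ k - (ζ ^ k)⁻¹) : ℂ) else 0) := by
  have hNC : (N : ℂ) ≠ 0 := by exact_mod_cast hN.ne'
  have h6 : (6 : ℂ) ≠ 0 := by norm_num
  have step1 : ∀ i ∈ range N,
      ((i : ℂ) * ((i : ℂ) - (N : ℂ)) / 2 + ((N : ℂ) ^ 2 - 1) / 12) / (N : ℂ) * ζ ^ (m * i) =
      ∑ k ∈ Ioo 0 N, (1 / (2 - ζ ^ k - (ζ ^ k)⁻¹) / (N : ℂ)) * ζ ^ ((k + m) * i) := by
    intro i hi
    rw [← Groth.Agent.S18188.result ℂ h6 N i (mem_range.mp hi) ζ hζ, sum_div, sum_mul]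
    apply sum_congr rfl
    intro k _
    rw [add_mul, pow_add]
    ring
  rw [sum_congr rfl step1, sum_comm]
  apply sum_congr rfl
  intro k _
  rw [← mul_sum, geom_sum_ite hζ]
  split_ifs with h
  · field_simp
  · simp

end helpers

/-- Let N ≥ 1 be a natural number, let ζ ∈ ℂ be a primitive N-th root of unity, and put f(i) = i(i −
N)/2 + (N² − 1)/12 for 0 ≤ i < N. For every natural number m the complex number ε_m = (1/N)
∑_{i=0}^{N−1} f(i) ζ^{mi}, an eigenvalue of the symmetric circulant N × N matrix with (i, j) entry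
f(j − i)/N, is real and nonnegative. -/
theorem result (N : ℕ) (hN : 0 < N) (ζ : ℂ)
    (hζ : IsPrimitiveRoot ζ N) (m : ℕ) :
    (∑ i ∈ Finset.range N,
        ((i : ℂ) * ((i : ℂ) - (N : ℂ)) / 2 + ((N : ℂ) ^ 2 - 1) / 12) / (N : ℂ) * ζ ^ (m * i)).im = 0 ∧
    0 ≤ (∑ i ∈ Finset.range N,
        ((i : ℂ) * ((i : ℂ) - (N : ℂ)) / 2 + ((N : ℂ) ^ 2 - 1) / 12) / (N : ℂ) * ζ ^ (m * i)).re := by
  classical
  rw [eps_eq N hN ζ hζ m]
  have hnorm : ∀ k : ℕ, ‖ζ ^ k‖ = 1 := by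
    intro k
    rw [norm_pow, hζ.norm'_eq_one hN.ne', one_pow]
  choose c hc0 hc using fun k : ℕ => inv_denom_real (hnorm k)
  have hsum : ∑ k ∈ Finset.Ioo 0 N, (if N ∣ k + m then (1 / (2 - ζ ^ k - (ζ ^ k)⁻¹) : ℂ) else 0) =
      ((∑ k ∈ Finset.Ioo 0 N, (if N ∣ k + m then c k else 0) : ℝ) : ℂ) := by
    rw [Complex.ofReal_sum]
    apply Finset.sum_congr rfl
    intro k _
    split_ifs
    · exact hc k
    · simp
  rw [hsum]
  refine ⟨Complex.ofReal_im _, ?_⟩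
  rw [Complex.ofReal_re]
  apply Finset.sum_nonneg
  intro k _
  split_ifs
  · exact hc0 k
  · exact le_rfl

end Groth.Agent.S18189
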