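import Groth.Statements.S1819
import Groth.Agent.Lib.Helper68.BiduTB
import Groth.Agent.Lib.Helper68.BiduUnit
import Groth.Agent.Lib.Helper68.BiduFin
import Groth.Agent.Lib.Helper12.DualizingBidual

set_option autoImplicit false
universe u
open CategoryTheory
attribute [local instance] HasDerivedCategory.standard
open Dual

namespace Groth.Agent.S1819

/-- Let A be a Noetherian ring with a dualizing complex ω and K a complex of A-modules all of whose
cohomology modules are finite; assume RHom(K, −) exists. Then every cohomology module of RHom_A(K,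
ω) is finite, and for every complex E representing RHom_A(K, ω) (with RHom(E, −) existing) there is
an isomorphism RHom_A(E, ω) ≅ K in D(A). -/
theorem result (A : Type u) [CommRing A] [IsNoetherianRing A] (ω : Dual.D A) (hω : Dual.IsDualizing A ω) (K : DRing.Cx A) [DRing.HasRHomCx K] (hK : ∀ i : ℤ, Module.Finite A (Dual.HD A (DRing.toD K) i)) : (∀ i : ℤ, Module.Finite A (Dual.HD A ((DRing.RHomCx K).obj ω) i)) ∧ ∀ (E : DRing.Cx A) [DRing.HasRHomCx E], Nonempty (DRing.toD E ≅ (DRing.RHomCx K).obj ω) → Nonempty ((DRing.RHomCx E).obj ω ≅ DRing.toD K) := by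
  classical
  obtain ⟨a, b, I, hIv, hinj, ⟨e⟩⟩ :=
    Groth.Agent.Lib.Helper12.ModDual.exists_injective_model ω hω
  have hωI : Dual.IsDualizing A (DRing.toD I) :=
    Groth.Agent.Lib.Helper12.DualizingBC.isDualizing_of_iso e.symm hω
  have hGE : I.IsStrictlyGE a := by
    rw [CochainComplex.isStrictlyGE_iff]
    intro i hi
    exact hIv i (Or.inl hi)
  have hinj' : ∀ n : ℤ, Injective (I.X n) := fun n => by
    have := hinj n
    exact Module.injective_object_of_injective_module A (I.X n)
  have hKI : I.IsKInjective := CochainComplex.isKInjective_of_injective I a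
  have hIfin : ∀ i : ℤ, Module.Finite A (I.homology i) := fun i => by
    have h1 : Module.Finite A ((Groth.Agent.Lib.Helper12.HF A i).obj (DRing.toD I)) :=
      hωI.finite_cohomology i
    exact Module.Finite.equiv (Groth.Agent.Lib.Helper12.HFQIso i I).toLinearEquiv
  have hKfin : ∀ i : ℤ, Module.Finite A (K.homology i) := fun i => by
    have h1 : Module.Finite A ((Groth.Agent.Lib.Helper12.HF A i).obj (DRing.toD K)) := hK i
    exact Module.Finite.equiv (Groth.Agent.Lib.Helper12.HFQIso i K).toLinearEquiv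
  have hunit : Groth.Agent.Lib.Helper36.BD.TB I Groth.Agent.Lib.Helper36.BD.U :=
    Groth.Agent.Lib.Helper68.Bidu.tb_unit_of_dualizing I hωI.toEnd_bijective
      hωI.ext_self_subsingleton
  have hdev : Groth.Agent.Lib.Helper36.PInd.Dev (Groth.Agent.Lib.Helper36.BD.TB I) :=
    { retract := fun i r h hF => Groth.Agent.Lib.Helper36.BD.tb_retract _ i r h hF
      split₂ := fun S σ => Groth.Agent.Lib.Helper36.BD.tb_split₂ _ S σ
      split₃ := fun S σ => Groth.Agent.Lib.Helper36.BD.tb_split₃ _ S σ
      split₁ := fun S σ => Groth.Agent.Lib.Helper36.BD.tb_split₁ _ S σ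
      contr := fun C h => Groth.Agent.Lib.Helper36.BD.tb_contr _ C h
      unit := hunit }
  let e1 : (DRing.RHomCx K).obj ω ≅ DerivedCategory.Q.obj (DRing.homCx K I) :=
    (DRing.RHomCx K).mapIso e.symm ≪≫ Groth.Agent.Lib.Helper36.RHC.rhomCxObjIso K I
  refine ⟨fun i => ?_, ?_⟩
  · have h1 := Groth.Agent.Lib.Helper68.Bidu.finite_homology_homCx I a b hIv hIfin K hKfin i
    exact Module.Finite.equiv (((Groth.Agent.Lib.Helper12.HF A i).mapIso e1) ≪≫
      Groth.Agent.Lib.Helper12.HFQIso i _).symm.toLinearEquiv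
  · intro E _ ⟨eE⟩
    obtain ⟨P, f, hf, hP, -⟩ := Groth.Agent.Lib.Helper36.KP.exists_resolution E
    have := hP
    have := hf
    obtain ⟨g, hg⟩ := Groth.Agent.Lib.Helper12.exists_map_of_isKProjective P (DRing.homCx K I)
      (DerivedCategory.Q.map f ≫ eE.hom ≫ e1.hom)
    have hg' : QuasiIso g := by
      rw [← DerivedCategory.isIso_Q_map_iff_quasiIso, hg]
      have : IsIso (DerivedCategory.Q.map f) :=
        (DerivedCategory.isIso_Q_map_iff_quasiIso _ f).2 hf
      infer_instance
    obtain ⟨e2⟩ := Groth.Agent.Lib.Helper36.RHR.nonempty_rhomCx_iso_of_quasiIso E P f I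
    have h3 : QuasiIso (Groth.Agent.Lib.Helper36.HCA.homCxPre g I) :=
      Groth.Agent.Lib.Helper36.RHR.quasiIso_homCxPre g I
    have h3' : IsIso (DerivedCategory.Q.map (Groth.Agent.Lib.Helper36.HCA.homCxPre g I)) :=
      (DerivedCategory.isIso_Q_map_iff_quasiIso _ _).2 h3
    have h4 : IsIso (DerivedCategory.Q.map (Groth.Agent.Lib.Helper36.BD.eta I K)) :=
      Groth.Agent.Lib.Helper68.Bidu.tb_of_finite I a b hIv hdev K hKfin
    exact ⟨(DRing.RHomCx E).mapIso e.symm ≪≫ e2 ≪≫
      (asIso (DerivedCategory.Q.map (Groth.Agent.Lib.Helper36.HCA.homCxPre g I))).symm ≪≫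
      (asIso (DerivedCategory.Q.map (Groth.Agent.Lib.Helper36.BD.eta I K))).symm⟩


end Groth.Agent.S1819
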