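import Groth.Statements.S18190
import Mathlib
import Groth.Agent.S18188
import Groth.Agent.S18189

set_option autoImplicit false
open OrbRR

namespace Groth.Agent.S18190

section helpers

open Finset ComplexConjugate

/-- the real function `f(t) = t(t-N)/2 + (N²-1)/12`. -/
noncomputable def fR (N t : ℕ) : ℝ :=
  ((t : ℝ) * ((t : ℝ) - (N : ℝ))) / 2 + ((N : ℝ) ^ 2 - 1) / 12

theorem fR_symm (N t : ℕ) (ht : t ≤ N) : fR N (N - t) = fR N t := by
  unfold fR
  rw [Nat.cast_sub ht]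
  ring

theorem pow_mod_of_pow_eq_one {w : ℂ} {N : ℕ} (h : w ^ N = 1) (n : ℕ) : w ^ (n % N) = w ^ n := by
  conv_rhs => rw [← Nat.div_add_mod n N, pow_add, pow_mul, h, one_pow, one_mul]

theorem chi_add {N : ℕ} [NeZero N] {ζ : ℂ} (hζ : ζ ^ N = 1) (k : ℕ) (a b : ZMod N) :
    ζ ^ (k * (a + b).val) = ζ ^ (k * a.val) * ζ ^ (k * b.val) := by
  have hk : (ζ ^ k) ^ N = 1 := by rw [← pow_mul, mul_comm, pow_mul, hζ, one_pow]
  rw [pow_mul, pow_mul, pow_mul, ZMod.val_add, pow_mod_of_pow_eq_one hk, pow_add]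

theorem chi_sub {N : ℕ} [NeZero N] {ζ : ℂ} (hζ : ζ ^ N = 1) (hnorm : ‖ζ‖ = 1) (k : ℕ)
    (i j : ZMod N) :
    ζ ^ (k * (j - i).val) = ζ ^ (k * j.val) * conj (ζ ^ (k * i.val)) := by
  have h1 := chi_add hζ k (j - i) i
  rw [sub_add_cancel] at h1
  have hn : ‖ζ ^ (k * i.val)‖ = 1 := by rw [norm_pow, hnorm, one_pow]
  rw [← Complex.inv_eq_conj hn, h1]
  have hne : ζ ^ (k * i.val) ≠ 0 := by
    intro h
    rw [h, norm_zero] at hn
    exact zero_ne_one hn
  field_simp

theorem fR_fourier {N : ℕ} [NeZero N] {ζ : ℂ} (hζ : IsPrimitiveRoot ζ N) (t : ℕ) (ht : t < N) :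
    ((fR N t : ℝ) : ℂ) = ∑ k ∈ Ioo 0 N, ζ ^ (k * t) / (2 - ζ ^ k - (ζ ^ k)⁻¹) := by
  have h6 : (6 : ℂ) ≠ 0 := by norm_num
  rw [Groth.Agent.S18188.result ℂ h6 N t ht ζ hζ]
  unfold fR
  push_cast
  ring

end helpers

/-- Let N ≥ 1 and let f : ℤ/Nℤ → ℚ be f(x) = x(x − N)/2 + (N² − 1)/12, where x is read as its
representative with 0 ≤ x < N. The real N × N matrix indexed by ℤ/Nℤ whose (i, j) entry is f(j −
i)/N, a symmetric circulant matrix, is positive semidefinite. -/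
theorem result (N : ℕ) [NeZero N] :
    (Matrix.of fun i j : ZMod N =>
        ((((j - i).val : ℝ) * (((j - i).val : ℝ) - (N : ℝ))) / 2 + ((N : ℝ) ^ 2 - 1) / 12) / (N : ℝ)).PosSemidef := by
  classical
  have hN : 0 < N := Nat.pos_of_ne_zero (NeZero.ne N)
  have hNR : (N : ℝ) ≠ 0 := by exact_mod_cast hN.ne'
  have hNC : (N : ℂ) ≠ 0 := by exact_mod_cast hN.ne'
  set ζ : ℂ := Complex.exp (2 * Real.pi * Complex.I / N) with hζdef
  have hζ : IsPrimitiveRoot ζ N := Complex.isPrimitiveRoot_exp N hN.ne'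
  have hζN : ζ ^ N = 1 := hζ.pow_eq_one
  have hnorm : ‖ζ‖ = 1 := hζ.norm'_eq_one hN.ne'
  have hentry : ∀ i j : ZMod N,
      (Matrix.of fun i j : ZMod N =>
        ((((j - i).val : ℝ) * (((j - i).val : ℝ) - (N : ℝ))) / 2 + ((N : ℝ) ^ 2 - 1) / 12) / (N : ℝ))
        i j = fR N (j - i).val / (N : ℝ) := fun i j => rfl
  apply Matrix.PosSemidef.of_dotProduct_mulVec_nonneg
  · -- Hermitian
    ext i j
    rw [Matrix.conjTranspose_apply, hentry, hentry, star_trivial]
    congr 1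
    have hneg : i - j = -(j - i) := by ring
    rw [hneg, ZMod.neg_val]
    split_ifs with h0
    · rw [h0, ZMod.val_zero]
    · exact fR_symm N _ (ZMod.val_lt (j - i)).le
  · intro x
    -- the Fourier coefficients
    have hnk : ∀ k : ℕ, ‖ζ ^ k‖ = 1 := fun k => by rw [norm_pow, hnorm, one_pow]
    choose c hc0 hc using fun k : ℕ => Groth.Agent.S18189.inv_denom_real (hnk k)
    set S : ℕ → ℂ := fun k => ∑ j : ZMod N, (x j : ℂ) * ζ ^ (k * j.val) with hS
    have hMij : ∀ i j : ZMod N, ((fR N (j - i).val / (N : ℝ) : ℝ) : ℂ) =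
        ∑ k ∈ Finset.Ioo 0 N, ((c k : ℂ) / (N : ℂ)) *
          (ζ ^ (k * j.val) * (starRingEnd ℂ) (ζ ^ (k * i.val))) := by
      intro i j
      rw [Complex.ofReal_div, fR_fourier hζ _ (ZMod.val_lt (j - i)), Finset.sum_div]
      apply Finset.sum_congr rfl
      intro k _
      rw [chi_sub hζN hnorm k i j, ← hc k]
      push_cast
      ring
    have key : ((star x ⬝ᵥ (Matrix.of fun i j : ZMod N =>
        ((((j - i).val : ℝ) * (((j - i).val : ℝ) - (N : ℝ))) / 2 + ((N : ℝ) ^ 2 - 1) / 12) / (N : ℝ)).mulVec x : ℝ) : ℂ)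
        = ((∑ k ∈ Finset.Ioo 0 N, c k / (N : ℝ) * Complex.normSq (S k) : ℝ) : ℂ) := by
      simp only [dotProduct, Matrix.mulVec, hentry, star_trivial, Pi.star_apply]
      push_cast
      simp_rw [← Complex.mul_conj]
      have e1 : ∀ i j : ZMod N, ((fR N (j - i).val : ℝ) : ℂ) / (N : ℂ) =
          ∑ k ∈ Finset.Ioo 0 N, ((c k : ℂ) / (N : ℂ)) *
          (ζ ^ (k * j.val) * (starRingEnd ℂ) (ζ ^ (k * i.val))) := by
        intro i j
        rw [← hMij i j]
        push_cast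
        rfl
      simp_rw [e1, hS, map_sum, map_mul, Complex.conj_ofReal, Finset.sum_mul, Finset.mul_sum]
      rw [Finset.sum_congr rfl (fun i _ => Finset.sum_comm), Finset.sum_comm]
      apply Finset.sum_congr rfl
      intro k _
      rw [Finset.sum_comm]
      apply Finset.sum_congr rfl
      intro j _
      apply Finset.sum_congr rfl
      intro i _
      ring
    have hreal := Complex.ofReal_injective key
    rw [hreal]
    apply Finset.sum_nonneg
    intro k _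
    have : 0 ≤ c k / (N : ℝ) := div_nonneg (hc0 k) (Nat.cast_nonneg N)
    exact mul_nonneg this (Complex.normSq_nonneg _)

end Groth.Agent.S18190
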