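import Groth.Statements.S18195
-- import your own Groth.Agent.* helpers here
import Groth.Agent.Lib.Helper91.LocImmNhd

set_option autoImplicit false
universe u
open LocImm

namespace Groth.Agent.S18195

open CategoryTheory AlgebraicGeometry in
/-- Let `f : X ⟶ Y` and `g : Y ⟶ Z` be morphisms of Noetherian schemes with `g` separated and `f ≫ g` a
localizing immersion (localizing and injective on points). If `f` has schematically dense image,
i.e. each ring map `Γ(Y, U) → Γ(X, f⁻¹U)` is injective, then `f` is a localizing immersion. -/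
theorem result {X Y Z : Scheme.{u}} [IsNoetherian X] [IsNoetherian Y] [IsNoetherian Z]
    (f : X ⟶ Y) (g : Y ⟶ Z) (hfg : LocImm.IsLocImmersion (f ≫ g)) [IsSeparated g]
    (hd : ∀ U : Y.Opens, Function.Injective (f.app U).hom) : LocImm.IsLocImmersion f := by
  obtain ⟨hloc, hinj⟩ := hfg
  refine ⟨?_, ?_⟩
  swap
  · intro a b hab
    apply hinj
    show (f ≫ g) a = (f ≫ g) b
    rw [Scheme.Hom.comp_apply, Scheme.Hom.comp_apply]
    exact congrArg _ hab
  · intro x
    -- Step 1: a good affine neighbourhood of `g (f x)` in `Z`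
    obtain ⟨V, hzV, hV, hhV, -, hφ⟩ :=
      Groth.Agent.Lib.Helper91.LocImmLib.exists_affine_nhd (f ≫ g) ⟨hloc, hinj⟩ x ⊤ trivial
    have hyV : f x ∈ g ⁻¹ᵁ V := by
      show g (f x) ∈ V
      rw [← Scheme.Hom.comp_apply]; exact hzV
    -- Step 2: an affine open `U ∋ f x` inside `g⁻¹V`
    obtain ⟨U, hU, hyU, hUV⟩ := TopologicalSpace.Opens.isBasis_iff_nbhd.mp Y.isBasis_affineOpens hyV
    have hU' : IsAffineOpen U := hU
    have hfU : f ⁻¹ᵁ U ≤ (f ≫ g) ⁻¹ᵁ V := by
      intro w hw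
      show (f ≫ g) w ∈ V
      rw [Scheme.Hom.comp_apply]
      exact hUV hw
    -- Step 3: a basic open of `(f ≫ g)⁻¹V` around `x` inside `f⁻¹U`
    obtain ⟨b, hb1, hb2⟩ := hhV.exists_basicOpen_le (V := f ⁻¹ᵁ U) ⟨x, hyU⟩ hzV
    let _ := ((f ≫ g).app V).hom.toAlgebra
    obtain ⟨T, hT⟩ := id hφ
    obtain ⟨⟨c, t⟩, hct⟩ := IsLocalization.surj T b
    have hu : IsUnit (((f ≫ g).app V).hom t.1) := IsLocalization.map_units _ t
    have hct' : b * ((f ≫ g).app V).hom t.1 = ((f ≫ g).app V).hom c := hct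
    have hbc : X.basicOpen b = (f ≫ g) ⁻¹ᵁ Z.basicOpen c := by
      rw [Scheme.preimage_basicOpen]
      have : X.basicOpen (((f ≫ g).app V).hom c) = X.basicOpen b := by
        rw [← hct', Scheme.basicOpen_mul, Scheme.basicOpen_of_isUnit _ hu]
        exact inf_eq_left.mpr (Scheme.basicOpen_le _ _)
      exact this.symm
    -- Step 4
    have hW₁aff : IsAffineOpen ((f ≫ g) ⁻¹ᵁ Z.basicOpen c) := by
      rw [Scheme.preimage_basicOpen]; exact hhV.basicOpen _
    have hU₁ : Y.basicOpen ((g.appLE V U hUV) c) = U ⊓ g ⁻¹ᵁ Z.basicOpen c :=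
      Scheme.basicOpen_appLE g U V hUV c
    have hW₁U₁ : (f ≫ g) ⁻¹ᵁ Z.basicOpen c = f ⁻¹ᵁ Y.basicOpen ((g.appLE V U hUV) c) := by
      rw [hU₁]
      apply le_antisymm
      · intro w hw
        refine ⟨?_, ?_⟩
        · exact hb1 (hbc ▸ hw)
        · show g (f w) ∈ Z.basicOpen c
          rw [← Scheme.Hom.comp_apply]; exact hw
      · intro w hw
        show (f ≫ g) w ∈ Z.basicOpen c
        rw [Scheme.Hom.comp_apply]
        exact hw.2
    have hxW₁ : x ∈ (f ≫ g) ⁻¹ᵁ Z.basicOpen c := hbc ▸ hb2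
    have hV₁U₁ : Y.basicOpen ((g.appLE V U hUV) c) ≤ g ⁻¹ᵁ Z.basicOpen c := by
      rw [hU₁]; exact inf_le_right
    refine ⟨⟨Y.basicOpen ((g.appLE V U hUV) c), hU'.basicOpen _⟩,
      ⟨(f ≫ g) ⁻¹ᵁ Z.basicOpen c, hW₁aff⟩, hxW₁, hW₁U₁.le, ?_⟩
    apply Groth.Agent.Lib.Helper91.LocImmLib.isLocHom_of_comp_of_injective
      (g.appLE (Z.basicOpen c) (Y.basicOpen ((g.appLE V U hUV) c)) hV₁U₁).hom
    · -- the composite is `(f ≫ g).app (Z.basicOpen c)`, which is localizing
      rw [← CommRingCat.hom_comp, Scheme.Hom.appLE_comp_appLE, Scheme.Hom.appLE_eq_app,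
        IsAffineOpen.app_basicOpen_eq_away_map (f ≫ g) hV hhV c, CommRingCat.hom_comp]
      refine Groth.Agent.Lib.Helper91.LocHom.comp ?_
        (Groth.Agent.Lib.Helper91.LocHom.of_bijective
          (ConcreteCategory.bijective_of_isIso (X.presheaf.map (eqToHom _).op)))
      exact @Groth.Agent.Lib.Helper91.LocHom.localizationAwayPreserves _ _ _ _
        ((f ≫ g).app V).hom c _ _ _ _ _ _ (hV.isLocalization_basicOpen c)
        (hhV.isLocalization_basicOpen ((f ≫ g).app V c)) hφ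
    · -- injectivity
      have := (Scheme.Hom.appLE_congr f hW₁U₁.le rfl hW₁U₁
        (fun g => Function.Injective g.hom)).mpr
      apply this
      rw [Scheme.Hom.appLE_eq_app]
      exact hd _

end Groth.Agent.S18195
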