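import Groth.Statements.S18196
-- import your own Groth.Agent.* helpers here
import Mathlib.AlgebraicGeometry.Morphisms.SurjectiveOnStalks
import Mathlib.AlgebraicGeometry.ZariskisMainTheorem

set_option autoImplicit false
universe u
open LocImm

namespace Groth.Agent.S18196

open CategoryTheory AlgebraicGeometry in
/-- a localizing morphism is surjective on stalks -/
theorem surjectiveOnStalks_of_isLocalizing {X Y : Scheme.{u}} (h : X ⟶ Y)
    (hloc : LocImm.IsLocalizing h) : SurjectiveOnStalks h := by
  have hQ : RingHom.StableUnderCompositionWithLocalizationAwaySource RingHom.SurjectiveOnStalks := by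
    intro R S T _ _ _ _ r _ f hf
    exact hf.comp (RingHom.surjectiveOnStalks_of_isLocalization (Submonoid.powers r) S)
  rw [HasRingHomProperty.iff_exists_appLE (P := @SurjectiveOnStalks) hQ]
  intro x
  obtain ⟨U, V, hxV, e, hLoc⟩ := hloc x
  refine ⟨U, V, hxV, e, ?_⟩
  let _ := (h.appLE U V e).hom.toAlgebra
  obtain ⟨S, hS⟩ := hLoc
  exact RingHom.surjectiveOnStalks_of_isLocalization S _


open CategoryTheory AlgebraicGeometry in
/-- Let `f : X ⟶ Y` and `g : Y ⟶ Z` be morphisms of Noetherian schemes with `g` separated and `f ≫ g` a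
localizing immersion (localizing and injective on points). If `f` is proper then `f` is a closed
immersion. -/
theorem result {X Y Z : Scheme.{u}} [IsNoetherian X] [IsNoetherian Y] [IsNoetherian Z]
    (f : X ⟶ Y) (g : Y ⟶ Z) (hfg : LocImm.IsLocImmersion (f ≫ g)) [IsSeparated g] [IsProper f] : IsClosedImmersion f := by
  obtain ⟨hloc, hinj⟩ := hfg
  have hS : SurjectiveOnStalks (f ≫ g) := surjectiveOnStalks_of_isLocalizing _ hloc
  have hm : Mono (f ≫ g) := SurjectiveOnStalks.mono_of_injective hinj
  have hmf : Mono f := mono_of_mono f g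
  exact (IsClosedImmersion.iff_isProper_and_mono f).mpr ⟨inferInstance, hmf⟩

end Groth.Agent.S18196
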