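import Groth.Statements.S18197
-- import your own Groth.Agent.* helpers here
import Groth.Agent.Lib.Helper91.LocImm
import Mathlib.AlgebraicGeometry.Morphisms.Separated

set_option autoImplicit false
universe u
open LocImm

namespace Groth.Agent.S18197

open CategoryTheory AlgebraicGeometry in
/-- Let `f : X ⟶ Y` be a localizing morphism of Noetherian schemes. Then `f` is injective on points if
and only if `f` is separated and injective on the set of maximal points of `X` (the generic points
of its irreducible components, i.e. the points with no proper generization). -/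
theorem result {X Y : Scheme.{u}} [IsNoetherian X] [IsNoetherian Y] (f : X ⟶ Y) (hf : LocImm.IsLocalizing f) :
    Function.Injective f.base ↔ (IsSeparated f ∧ Set.InjOn (fun x => f x) {x : X | ∀ x' : X, x' ⤳ x → x' = x}) := by
  have hS : SurjectiveOnStalks f := Groth.Agent.S18196.surjectiveOnStalks_of_isLocalizing _ hf
  have hflat := Groth.Agent.Lib.Helper91.LocImmLib.flat_of_isLocalizing f hf
  constructor
  · intro hinj
    have hm : Mono f := SurjectiveOnStalks.mono_of_injective hinj
    exact ⟨inferInstance, fun a _ b _ hab => hinj hab⟩
  · rintro ⟨hsep, hmax⟩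
    suffices h : UniversallyInjective f from f.injective
    rw [UniversallyInjective.iff_diagonal]
    refine ⟨fun z => ?_⟩
    -- the diagonal has closed range
    have hcl : IsClosed (Set.range (Limits.pullback.diagonal f)) :=
      (Limits.pullback.diagonal f).isClosedEmbedding.isClosed_range
    obtain ⟨ζ, hζz, hζmax⟩ :=
      Groth.Agent.Lib.Helper91.LocImmLib.exists_maximal_generization z
    have hg1 : GeneralizingMap (Limits.pullback.fst f f) := Flat.generalizingMap _
    have hg2 : GeneralizingMap (Limits.pullback.snd f f) := Flat.generalizingMap _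
    have hξ₁ : ∀ x' : X, x' ⤳ (Limits.pullback.fst f f) ζ → x' = (Limits.pullback.fst f f) ζ :=
      Groth.Agent.Lib.Helper91.LocImmLib.maximal_map_of_generalizing hg1 hζmax
    have hξ₂ : ∀ x' : X, x' ⤳ (Limits.pullback.snd f f) ζ → x' = (Limits.pullback.snd f f) ζ :=
      Groth.Agent.Lib.Helper91.LocImmLib.maximal_map_of_generalizing hg2 hζmax
    have hfeq : f ((Limits.pullback.fst f f) ζ) = f ((Limits.pullback.snd f f) ζ) := by
      rw [← Scheme.Hom.comp_apply, ← Scheme.Hom.comp_apply, Limits.pullback.condition]
    have hξ : (Limits.pullback.fst f f) ζ = (Limits.pullback.snd f f) ζ := hmax hξ₁ hξ₂ hfeq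
    have hζΔ : (Limits.pullback.diagonal f) ((Limits.pullback.fst f f) ζ) = ζ := by
      have e1 : ∀ x : X, (Limits.pullback.fst f f) ((Limits.pullback.diagonal f) x) = x := by
        intro x
        rw [← Scheme.Hom.comp_apply, Limits.pullback.diagonal_fst]; rfl
      have e2 : ∀ x : X, (Limits.pullback.snd f f) ((Limits.pullback.diagonal f) x) = x := by
        intro x
        rw [← Scheme.Hom.comp_apply, Limits.pullback.diagonal_snd]; rfl
      apply (SurjectiveOnStalks.isEmbedding_pullback f f).injective
      simp only [Prod.mk.injEq]
      exact ⟨e1 _, (e2 _).trans hξ⟩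
    have hζr : ζ ∈ Set.range (Limits.pullback.diagonal f) := ⟨_, hζΔ⟩
    exact hcl.stableUnderSpecialization hζz hζr

end Groth.Agent.S18197
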