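import Groth.Statements.S18202
-- import your own Groth.Agent.* helpers here
import Groth.Agent.Lib.Helper91.LocalizingProp
import Groth.Agent.S18196
import Mathlib.AlgebraicGeometry.Morphisms.UniversallyInjective

set_option autoImplicit false
universe u
open LocImm

namespace Groth.Agent.S18202

open CategoryTheory AlgebraicGeometry Limits in
/-- Let `f : X ⟶ Y` be a localizing immersion (localizing and injective on points) of Noetherian schemes
and `g : Y' ⟶ Y` a morphism with `Y'` Noetherian. Then the base change `X ×_Y Y' ⟶ Y'` is a
localizing immersion. -/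
theorem result {X Y Y' : Scheme.{u}} [IsNoetherian X] [IsNoetherian Y] [IsNoetherian Y']
    (f : X ⟶ Y) (g : Y' ⟶ Y) (hf : LocImm.IsLocImmersion f) : LocImm.IsLocImmersion (pullback.snd f g) := by
  obtain ⟨hloc, hinj⟩ := hf
  have hS : SurjectiveOnStalks f := Groth.Agent.S18196.surjectiveOnStalks_of_isLocalizing _ hloc
  have hm : Mono f := SurjectiveOnStalks.mono_of_injective hinj
  refine ⟨Groth.Agent.Lib.Helper91.LocHom.isLocalizing_pullback_snd f g hloc, ?_⟩
  exact (pullback.snd f g).injective

end Groth.Agent.S18202
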