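import Groth.Statements.S18204
-- import your own Groth.Agent.* helpers here
import Groth.Agent.Lib.Helper91.LocImm

set_option autoImplicit false
universe u
open LocImm

namespace Groth.Agent.S18204

open CategoryTheory AlgebraicGeometry in
/-- A localizing immersion (localizing and injective on points) of Noetherian schemes which is locally
of finite type is an open immersion. -/
theorem result {X Y : Scheme.{u}} [IsNoetherian X] [IsNoetherian Y]
    (f : X ⟶ Y) (hf : LocImm.IsLocImmersion f) [LocallyOfFiniteType f] : IsOpenImmersion f := by
  obtain ⟨hloc, hinj⟩ := hf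
  have hflat := Groth.Agent.Lib.Helper91.LocImmLib.flat_of_isLocalizing f hloc
  have hfp : LocallyOfFinitePresentation f :=
    LocallyOfFinitePresentation.iff_locallyOfFiniteType.mpr inferInstance
  have hopen : IsOpenMap f := f.isOpenMap
  have : ∀ x, IsIso (f.stalkMap x) :=
    Groth.Agent.Lib.Helper91.LocImmLib.isIso_stalkMap_of_isLocalizing f hloc
  exact IsOpenImmersion.of_isIso_stalkMap f
    (Topology.IsOpenEmbedding.of_continuous_injective_isOpenMap f.continuous hinj hopen)

end Groth.Agent.S18204
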