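import Groth.Statements.S18206
import Mathlib
import Groth.Agent.Lib.Helper91.LocImmNhd
import Groth.Agent.Lib.Helper20.IdealComap
-- import your own Groth.Agent.* helpers here

set_option autoImplicit false
universe u
open LocImm

namespace Groth.Agent.S18206



open CategoryTheory AlgebraicGeometry in
/-- Let `f : X ⟶ Y` be a localizing immersion (localizing and injective on points) of Noetherian
schemes. Then every quasi-coherent ideal sheaf `I` on `X` is the inverse image ideal `J·O_X` of some
quasi-coherent ideal sheaf `J` on `Y` (all such ideals are coherent, the schemes being Noetherian). -/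
theorem result {X Y : Scheme.{u}} [IsNoetherian X] [IsNoetherian Y]
    (f : X ⟶ Y) (hf : LocImm.IsLocImmersion f) (I : X.IdealSheafData) : ∃ J : Y.IdealSheafData, J.comap f = I := by
  have hqc : QuasiCompact f := inferInstance
  refine ⟨I.map f, ?_⟩
  choose V hV1 hV2 hV3 hV4 hV5 using fun x : X => Groth.Agent.Lib.Helper91.LocImmLib.exists_affine_nhd f hf x ⊤ trivial
  refine Scheme.IdealSheafData.ext_of_iSup_eq_top
    (fun x : X => (⟨f ⁻¹ᵁ V x, hV3 x⟩ : X.affineOpens)) ?_ ?_
  · rw [eq_top_iff]
    intro x _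
    exact TopologicalSpace.Opens.mem_iSup.mpr ⟨x, hV1 x⟩
  · intro x
    rw [Groth.Agent.Lib.Helper20.ideal_comap f (I.map f) ⟨f ⁻¹ᵁ V x, hV3 x⟩ ⟨V x, hV2 x⟩ le_rfl,
      Scheme.IdealSheafData.ideal_map I f ⟨V x, hV2 x⟩ (hV3 x)]
    have hloc := hV5 x
    have e : f.appLE (V x) (f ⁻¹ᵁ V x) le_rfl = f.app (V x) := by
      simp [Scheme.Hom.appLE]
    dsimp only
    rw [e]
    letI := (f.app (V x)).hom.toAlgebra
    obtain ⟨S, hS⟩ := hloc
    exact IsLocalization.map_under S _ _

end Groth.Agent.S18206
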