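import Groth.Statements.S18208
-- import your own Groth.Agent.* helpers here
import Groth.Agent.Lib.Helper91.LocalizingProp
import Groth.Agent.Lib.Helper91.LocImm

set_option autoImplicit false
universe u
open LocImm

namespace Groth.Agent.S18208

open CategoryTheory AlgebraicGeometry in
/-- A morphism `f : X ⟶ Y` of Noetherian schemes is a localizing immersion (localizing and injective on
points) if and only if every point of `f(X)` has an affine open neighbourhood `V` in `Y` whose
preimage `f⁻¹V` is affine with `Γ(Y, V) → Γ(X, f⁻¹V)` a localizing ring map (its target is the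
localization of its source at some submonoid). In particular such an `f` is quasi-affine. -/
theorem result {X Y : Scheme.{u}} [IsNoetherian X] [IsNoetherian Y] (f : X ⟶ Y) :
    LocImm.IsLocImmersion f ↔ ∀ x : X, ∃ V : Y.Opens, f x ∈ V ∧ IsAffineOpen V ∧ IsAffineOpen (f ⁻¹ᵁ V) ∧ LocImm.IsLocHom (f.app V).hom := by
  constructor
  · rintro ⟨hloc, hinj⟩ x
    have hflat := Groth.Agent.Lib.Helper91.LocImmLib.flat_of_isLocalizing f hloc
    have hgen : GeneralizingMap f := Flat.generalizingMap f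
    have hemb := Groth.Agent.Lib.Helper91.LocImmLib.isEmbedding_of_generalizing (fun x => f x)
      f.continuous hinj hgen
    obtain ⟨U, V', hxV', e, hφ⟩ := hloc x
    obtain ⟨O, hO, hOeq⟩ := hemb.isInducing.isOpen_iff.mp V'.1.isOpen
    have hfxO : f x ∈ O := by
      have : x ∈ (fun x => f x) ⁻¹' O := by rw [hOeq]; exact hxV'
      exact this
    have hfxU : f x ∈ U.1 := e hxV'
    obtain ⟨a, ha1, ha2⟩ := U.2.exists_basicOpen_le
      (V := (⟨O, hO⟩ : Y.Opens) ⊓ U.1) ⟨f x, ⟨hfxO, hfxU⟩⟩ hfxU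
    have hpre : f ⁻¹ᵁ Y.basicOpen a = X.basicOpen (f.appLE U.1 V'.1 e a) := by
      have h1 : f.appLE U.1 V'.1 e a = X.presheaf.map (homOfLE e).op (f.app U.1 a) := by
        simp [Scheme.Hom.appLE]
      rw [h1, Scheme.basicOpen_res, ← Scheme.preimage_basicOpen]
      apply le_antisymm
      · refine le_inf ?_ le_rfl
        intro z hz
        have hz' : f z ∈ Y.basicOpen a := hz
        have hzO : f z ∈ O := (ha1 hz').1
        have : z ∈ (fun x => f x) ⁻¹' O := hzO
        rw [hOeq] at this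
        exact this
      · exact inf_le_right
    refine ⟨Y.basicOpen a, ha2, U.2.basicOpen a, ?_, ?_⟩
    · rw [hpre]
      exact V'.2.basicOpen _
    · have key := IsAffineOpen.appLE_eq_away_map f U.2 V'.2 e a
      have hQ : LocImm.IsLocHom (f.appLE (Y.basicOpen a) (X.basicOpen (f.appLE U.1 V'.1 e a))
          (by simp [Scheme.Hom.appLE])).hom := by
        rw [key]
        exact @Groth.Agent.Lib.Helper91.LocHom.localizationAwayPreserves _ _ _ _
          (f.appLE U.1 V'.1 e).hom a _ _ _ _ _ _ (U.2.isLocalization_basicOpen a)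
          (V'.2.isLocalization_basicOpen (f.appLE U.1 V'.1 e a)) hφ
      rw [Scheme.Hom.app_eq_appLE]
      exact (Scheme.Hom.appLE_congr f le_rfl rfl hpre
        (fun g => LocImm.IsLocHom g.hom)).mpr hQ
  · intro H
    have hloc : LocImm.IsLocalizing f := by
      intro x
      obtain ⟨V, hxV, hV, hfV, hQ⟩ := H x
      refine ⟨⟨V, hV⟩, ⟨f ⁻¹ᵁ V, hfV⟩, hxV, le_rfl, ?_⟩
      rw [← Scheme.Hom.app_eq_appLE]
      exact hQ
    refine ⟨hloc, ?_⟩
    intro x₁ x₂ h12
    obtain ⟨V, hxV, hV, hfV, hQ⟩ := H x₁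
    have hx₁ : x₁ ∈ f ⁻¹ᵁ V := hxV
    have hx₂ : x₂ ∈ f ⁻¹ᵁ V := by
      show f x₂ ∈ V
      have : f x₂ = f x₁ := h12.symm
      rw [this]; exact hxV
    -- the key claim
    have claim : ∀ (O : X.Opens) (p q : X), p ∈ f ⁻¹ᵁ V → q ∈ f ⁻¹ᵁ V → f p = f q →
        p ∈ O → q ∈ O := by
      intro O p q hp hq hpq hpO
      obtain ⟨s, hs1, hs2⟩ := hfV.exists_basicOpen_le (V := O) ⟨p, hpO⟩ hp
      let _ := (f.app V).hom.toAlgebra
      obtain ⟨S, hS⟩ := hQ
      obtain ⟨⟨a', u⟩, hau⟩ := IsLocalization.surj S s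
      have hu : IsUnit ((f.app V).hom u.1) := IsLocalization.map_units _ u
      have hau' : s * (f.app V).hom u.1 = (f.app V).hom a' := hau
      have hb : X.basicOpen s = f ⁻¹ᵁ Y.basicOpen a' := by
        rw [Scheme.preimage_basicOpen]
        have : X.basicOpen ((f.app V).hom a') = X.basicOpen s := by
          rw [← hau', Scheme.basicOpen_mul, Scheme.basicOpen_of_isUnit _ hu]
          exact inf_eq_left.mpr (Scheme.basicOpen_le _ _)
        exact this.symm
      have hp' : p ∈ f ⁻¹ᵁ Y.basicOpen a' := hb ▸ hs2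
      have hq' : q ∈ f ⁻¹ᵁ Y.basicOpen a' := by
        show f q ∈ Y.basicOpen a'
        rw [← hpq]; exact hp'
      exact hs1 (hb ▸ hq')
    have hins : Inseparable x₁ x₂ := by
      rw [inseparable_iff_forall_isOpen]
      intro O hO
      exact ⟨claim ⟨O, hO⟩ x₁ x₂ hx₁ hx₂ h12, claim ⟨O, hO⟩ x₂ x₁ hx₂ hx₁ h12.symm⟩
    exact hins.eq

end Groth.Agent.S18208
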