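import Groth.Statements.S18234
-- import your own Groth.Agent.* helpers here
import Groth.Agent.S18232

set_option autoImplicit false
universe u
open CategoryTheory MonoidalCategory CartesianMonoidalCategory AlgebraicGeometry Opposite
open Magnet

namespace Groth.Agent.S18234

/-- Let S be a scheme, M a finitely generated abelian group, N a submonoid of M, X and Y schemes over S
with actions of the diagonalizable group scheme D(M)_S, and f : X → Y a formally unramified
equivariant S-morphism. If the attractors X^N and Y^N are represented by S-schemes Z_X and Z_Y, and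
j : Z_X → Z_Y is the S-morphism that corresponds to f^N under the two representing bijections, then
j is formally unramified. (Stated for schemes; the published statement is for algebraic spaces over
S.) -/
theorem result (S : Scheme.{u}) (M : Type) [AddCommGroup M]
    [AddGroup.FG M] (N : AddSubmonoid M) {X Y : Over S} (aX : Magnet.MonAct (Magnet.AMonS S M) X)
    (aY : Magnet.MonAct (Magnet.AMonS S M) Y) (f : X ⟶ Y) (hf : Magnet.MonAct.IsEquivariant aX aY f)
    [FormallyUnramified f.left] {ZX ZY : Over S} (eX : (Magnet.attr aX N).RepresentableBy ZX) (eY : (Magnet.attr aY N).RepresentableBy ZY)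
    (j : ZX ⟶ ZY) (hj : ∀ (T : Over S) (z : T ⟶ ZX),
      eY.homEquiv (z ≫ j) = (Magnet.MonAct.eqvHom.postcomp (Magnet.subAct S M N) f hf).app (op T) (eX.homEquiv z)) :
    FormallyUnramified j.left := by
  apply FormallyUnramified.of_hom_ext
  intro R S' φ hφ hker g₁ g₂ h1 h2
  have hstr : g₂ ≫ ZX.hom = g₁ ≫ ZX.hom := by
    rw [← Over.w j, ← Category.assoc, ← Category.assoc, h2]
  have hz : (Over.homMk g₁ rfl : Over.mk (g₁ ≫ ZX.hom) ⟶ ZX) = Over.homMk g₂ hstr := by
    apply eX.homEquiv.injective
    have hι : Spec.map (CommRingCat.ofHom (Ideal.Quotient.mk (RingHom.ker φ.hom))) ≫ g₁ =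
        Spec.map (CommRingCat.ofHom (Ideal.Quotient.mk (RingHom.ker φ.hom))) ≫ g₂ := by
      have hfac : CommRingCat.ofHom (Ideal.Quotient.mk (RingHom.ker φ.hom)) ≫
          (RingHom.quotientKerEquivOfSurjective (f := φ.hom) hφ).toCommRingCatIso.hom = φ := by
        refine CommRingCat.hom_ext (RingHom.ext fun x => ?_)
        exact RingHom.quotientKerEquivOfSurjective_apply_mk (f := φ.hom) hφ x
      rw [← hfac, Spec.map_comp, Category.assoc, Category.assoc] at h1
      exact (cancel_epi _).mp h1
    refine Groth.Agent.S18232.result S M N aX aY f hf R (RingHom.ker φ.hom) hker (g₁ ≫ ZX.hom)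
      (eX.homEquiv (Over.homMk g₁ rfl)) (eX.homEquiv (Over.homMk g₂ hstr)) ?_ ?_
    · have e1 := eX.homEquiv_comp (Over.homMk (Spec.map (CommRingCat.ofHom
          (Ideal.Quotient.mk (RingHom.ker φ.hom)))) rfl :
          Over.mk (Spec.map (CommRingCat.ofHom (Ideal.Quotient.mk (RingHom.ker φ.hom))) ≫
            (g₁ ≫ ZX.hom)) ⟶ Over.mk (g₁ ≫ ZX.hom)) (Over.homMk g₁ rfl)
      have e2 := eX.homEquiv_comp (Over.homMk (Spec.map (CommRingCat.ofHom
          (Ideal.Quotient.mk (RingHom.ker φ.hom)))) rfl :
          Over.mk (Spec.map (CommRingCat.ofHom (Ideal.Quotient.mk (RingHom.ker φ.hom))) ≫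
            (g₁ ≫ ZX.hom)) ⟶ Over.mk (g₁ ≫ ZX.hom)) (Over.homMk g₂ hstr)
      refine e1.symm.trans (Eq.trans ?_ e2)
      congr 1
      apply Over.OverMorphism.ext
      exact hι
    · rw [← hj, ← hj]
      congr 1
      apply Over.OverMorphism.ext
      exact h2
  exact congrArg (fun z => z.left) hz

end Groth.Agent.S18234
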