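import Groth.Statements.S18247
import Mathlib
-- import your own Groth.Agent.* helpers here

set_option autoImplicit false
universe u
open W4c5m1nsnscurves
open Curves

namespace Groth.Agent.S18247

open MvPolynomial

/-- images of the generators in the polynomial ring on six variables -/
noncomputable def g : UGen 2 → MvPolynomial (Fin 6) ℤ
  | .a => X 0
  | .c => (X 0 + X 1 + X 2 + X 3 + X 4 - X 5) * X 3 + X 5 * X 1 - X 1 * X 3
  | .cb => (X 0 + X 1 + X 2 + X 3 + X 4 - X 5) * X 2 + X 5 * X 4 - X 2 * X 4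
  | .ci i => if i = 0 then X 1 else X 3
  | .cbi i => if i = 0 then X 2 else X 4
  | .cij i _ _ => if i = 0 then X 5 else X 0 + X 1 + X 2 + X 3 + X 4 - X 5

theorem psi0_rel : ∀ p ∈ URel ℤ 2, aeval g p = 0 := by
  intro p hp
  simp only [URel, Set.mem_union, Set.mem_range] at hp
  rcases hp with ((⟨q, rfl⟩ | ⟨q, rfl⟩) | ⟨q, rfl⟩) | ⟨q, rfl⟩
  · obtain ⟨⟨i, j⟩, h⟩ := q
    fin_cases i <;> fin_cases j
    · exact absurd rfl h
    · simp [g]
    · simp [g]; ring
    · exact absurd rfl h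
  · obtain ⟨⟨i, j⟩, h⟩ := q
    fin_cases i <;> fin_cases j
    · exact absurd rfl h
    · simp [g] <;> ring
    · simp [g] <;> ring
    · exact absurd rfl h
  · obtain ⟨⟨i, j⟩, h⟩ := q
    fin_cases i <;> fin_cases j
    · exact absurd rfl h
    · simp [g] <;> ring
    · simp [g] <;> ring
    · exact absurd rfl h
  · obtain ⟨⟨i, j, k⟩, h1, h2, h3⟩ := q
    exfalso
    fin_cases i <;> fin_cases j <;> fin_cases k <;> simp at h1 h2 h3

/-- the inverse map -/
noncomputable def psi : URing ℤ 2 →ₐ[ℤ] MvPolynomial (Fin 6) ℤ :=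
  Ideal.Quotient.liftₐ (Ideal.span (URel ℤ 2)) (aeval g) (fun p hp => by
    have hle : Ideal.span (URel ℤ 2) ≤ RingHom.ker (aeval g : MvPolynomial (UGen 2) ℤ →ₐ[ℤ] _) :=
      Ideal.span_le.2 (fun q hq => (RingHom.mem_ker).2 (psi0_rel q hq))
    exact (RingHom.mem_ker).1 (hle hp))

theorem psi_ugen (x : UGen 2) : psi (ugen ℤ 2 x) = g x := by
  change aeval g (X x) = g x
  exact aeval_X g x

theorem h01 : (0 : Fin 2) ≠ 1 := Fin.zero_ne_one
theorem h10 : (1 : Fin 2) ≠ 0 := Ne.symm Fin.zero_ne_one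

theorem rel_lin : ugen ℤ 2 (.cij 1 0 h10) = ugen ℤ 2 .a + ugen ℤ 2 (.ci 0) + ugen ℤ 2 (.cbi 0)
    + ugen ℤ 2 (.ci 1) + ugen ℤ 2 (.cbi 1) - ugen ℤ 2 (.cij 0 1 h01) := by
  have hmem : (X (.cij 0 1 h01) + X (.cij 1 0 h10) -
      (X .a + X (.ci 0) + X (.cbi 0) + X (.ci 1) + X (.cbi 1)) : MvPolynomial (UGen 2) ℤ) ∈ URel ℤ 2 :=
    Or.inl (Or.inl (Or.inl ⟨⟨(0, 1), h01⟩, rfl⟩))
  have := Ideal.Quotient.eq_zero_iff_mem.2 (Ideal.subset_span hmem)
  simp only [map_sub, map_add] at this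
  unfold ugen
  linear_combination this

theorem rel_c : ugen ℤ 2 .c = ugen ℤ 2 (.cij 1 0 h10) * ugen ℤ 2 (.ci 1)
    + ugen ℤ 2 (.cij 0 1 h01) * ugen ℤ 2 (.ci 0) - ugen ℤ 2 (.ci 0) * ugen ℤ 2 (.ci 1) := by
  have hmem : (X (.cij 1 0 h10) * X (.ci 1) + X (.cij 0 1 h01) * X (.ci 0) -
      X (.ci 0) * X (.ci 1) - X .c : MvPolynomial (UGen 2) ℤ) ∈ URel ℤ 2 :=
    Or.inl (Or.inl (Or.inr ⟨⟨(0, 1), h01⟩, rfl⟩))
  have := Ideal.Quotient.eq_zero_iff_mem.2 (Ideal.subset_span hmem)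
  simp only [map_sub, map_add, map_mul] at this
  unfold ugen
  linear_combination -this

theorem rel_cb : ugen ℤ 2 .cb = ugen ℤ 2 (.cij 1 0 h10) * ugen ℤ 2 (.cbi 0)
    + ugen ℤ 2 (.cij 0 1 h01) * ugen ℤ 2 (.cbi 1) - ugen ℤ 2 (.cbi 0) * ugen ℤ 2 (.cbi 1) := by
  have hmem : (X (.cij 1 0 h10) * X (.cbi 0) + X (.cij 0 1 h01) * X (.cbi 1) -
      X (.cbi 0) * X (.cbi 1) - X .cb : MvPolynomial (UGen 2) ℤ) ∈ URel ℤ 2 :=
    Or.inl (Or.inr ⟨⟨(0, 1), h01⟩, rfl⟩)
  have := Ideal.Quotient.eq_zero_iff_mem.2 (Ideal.subset_span hmem)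
  simp only [map_sub, map_add, map_mul] at this
  unfold ugen
  linear_combination -this

/-- the forward map -/
noncomputable abbrev phi : MvPolynomial (Fin 6) ℤ →ₐ[ℤ] URing ℤ 2 :=
  MvPolynomial.aeval (R := ℤ) (S₁ := URing ℤ 2)
      ![ugen ℤ 2 .a, ugen ℤ 2 (.ci 0), ugen ℤ 2 (.cbi 0), ugen ℤ 2 (.ci 1), ugen ℤ 2 (.cbi 1),
        ugen ℤ 2 (.cij 0 1 Fin.zero_ne_one)]

theorem phi_g (x : UGen 2) : phi (g x) = ugen ℤ 2 x := by
  have hS : phi (X 0 + X 1 + X 2 + X 3 + X 4 - X 5) = ugen ℤ 2 (.cij 1 0 h10) := by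
    rw [rel_lin]
    simp [phi]
  cases x with
  | a => simp [g, phi]
  | c =>
    simp only [g, map_add, map_sub, map_mul] at hS ⊢
    rw [rel_c]
    simp only [phi, aeval_X] at hS ⊢
    simp only [Matrix.cons_val_zero, Matrix.cons_val_one, Matrix.cons_val] at hS ⊢
    linear_combination (ugen ℤ 2 (.ci 1)) * hS
  | cb =>
    simp only [g, map_add, map_sub, map_mul] at hS ⊢
    rw [rel_cb]
    simp only [phi, aeval_X] at hS ⊢
    simp only [Matrix.cons_val_zero, Matrix.cons_val_one, Matrix.cons_val] at hS ⊢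
    linear_combination (ugen ℤ 2 (.cbi 0)) * hS
  | ci i =>
    fin_cases i
    · simp [g, phi]
    · simp [g, phi]
  | cbi i =>
    fin_cases i
    · simp [g, phi]
    · simp [g, phi]
  | cij i j h =>
    fin_cases i <;> fin_cases j
    · exact absurd rfl h
    · simp [g, phi]
    · simp only [g]
      rw [if_neg (by decide)]
      exact hS
    · exact absurd rfl h

/-- Case n = 5: the coordinate ring of U_5 over ℤ (m = 2 indices, standing for the points 4 and 5;
generators a, c, c̄, c_4, c̄_4, c_5, c̄_5, c_{45}, c_{54} with the linear and the two quadratic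
relations for the one pair of indices, and no triple) is the polynomial ring on a, c_4, c̄_4, c_5,
c̄_5, c_{45}: the ℤ-algebra map from the polynomial ring in six variables sending the variables to
these six classes, in this order, is bijective. -/
theorem result :
    Function.Bijective (MvPolynomial.aeval (R := ℤ) (S₁ := URing ℤ 2)
      ![ugen ℤ 2 .a, ugen ℤ 2 (.ci 0), ugen ℤ 2 (.cbi 0), ugen ℤ 2 (.ci 1), ugen ℤ 2 (.cbi 1),
        ugen ℤ 2 (.cij 0 1 Fin.zero_ne_one)]) := by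
  have hleft : ∀ p : MvPolynomial (Fin 6) ℤ, psi (phi p) = p := by
    intro p
    have : (psi.comp phi) = AlgHom.id ℤ _ := by
      apply MvPolynomial.algHom_ext
      intro i
      rw [AlgHom.comp_apply, AlgHom.id_apply]
      fin_cases i <;> simp [phi, psi_ugen, g]
    exact congrArg (fun f => f p) this
  have hright : ∀ y : URing ℤ 2, phi (psi y) = y := by
    intro y
    have : (phi.comp psi) = AlgHom.id ℤ _ := by
      apply Ideal.Quotient.algHom_ext
      apply MvPolynomial.algHom_ext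
      intro x
      simp only [AlgHom.comp_apply, Ideal.Quotient.mkₐ_eq_mk, AlgHom.id_apply]
      have := psi_ugen x
      unfold ugen at this
      rw [this, phi_g x]
      rfl
    exact congrArg (fun f => f y) this
  exact ⟨Function.LeftInverse.injective hleft, Function.RightInverse.surjective hright⟩

end Groth.Agent.S18247
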