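import Groth.Statements.S18248
import Mathlib

set_option autoImplicit false
universe u
open W4c5m1nsnscurves
open Curves

namespace Groth.Agent.S18248

open MvPolynomial

section URels

variable (R : Type u) [CommRing R] (m : ℕ)

lemma relL (i j : Fin m) (h : i ≠ j) :
    ugen R m (.cij i j h) + ugen R m (.cij j i h.symm) =
      ugen R m .a + ugen R m (.ci i) + ugen R m (.cbi i) + ugen R m (.ci j) + ugen R m (.cbi j) := by
  have h1 : _ ∈ URel R m := Set.mem_union_left _ (Set.mem_union_left _ (Set.mem_union_left _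
      (Set.mem_range_self (⟨(i, j), h⟩ : DPair m))))
  have h2 := Ideal.Quotient.eq_zero_iff_mem.mpr (Ideal.subset_span h1)
  simp only [map_sub, map_add] at h2
  exact sub_eq_zero.mp h2

lemma relQ (i j : Fin m) (h : i ≠ j) :
    ugen R m (.cij j i h.symm) * ugen R m (.ci j) + ugen R m (.cij i j h) * ugen R m (.ci i) -
      ugen R m (.ci i) * ugen R m (.ci j) - ugen R m .c = 0 := by
  have h1 : _ ∈ URel R m := Set.mem_union_left _ (Set.mem_union_left _ (Set.mem_union_right _
      (Set.mem_range_self (⟨(i, j), h⟩ : DPair m))))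
  have h2 := Ideal.Quotient.eq_zero_iff_mem.mpr (Ideal.subset_span h1)
  simp only [map_sub, map_add, map_mul] at h2
  exact h2

lemma relQb (i j : Fin m) (h : i ≠ j) :
    ugen R m (.cij j i h.symm) * ugen R m (.cbi i) + ugen R m (.cij i j h) * ugen R m (.cbi j) -
      ugen R m (.cbi i) * ugen R m (.cbi j) - ugen R m .cb = 0 := by
  have h1 : _ ∈ URel R m := Set.mem_union_left _ (Set.mem_union_right _
      (Set.mem_range_self (⟨(i, j), h⟩ : DPair m)))
  have h2 := Ideal.Quotient.eq_zero_iff_mem.mpr (Ideal.subset_span h1)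
  simp only [map_sub, map_add, map_mul] at h2
  exact h2

end URels

section Tangent

variable (k : Type u) [Field k] (m : ℕ)

/-- index set of the free weight-one coordinates -/
abbrev Idx (m : ℕ) : Type := Unit ⊕ (Fin m ⊕ (Fin m ⊕ {q : Fin m × Fin m // q.1 < q.2}))

/-- the basis vector -/
noncomputable def ev (β : Idx m) : Idx m → k := Pi.single β 1

/-- tangent directions of the generators -/
noncomputable def w : UGen m → (Idx m → k)
  | .a => ev k m (Sum.inl ())
  | .c => 0
  | .cb => 0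
  | .ci i => ev k m (Sum.inr (Sum.inl i))
  | .cbi i => ev k m (Sum.inr (Sum.inr (Sum.inl i)))
  | .cij i j h =>
      if hlt : i < j then ev k m (Sum.inr (Sum.inr (Sum.inr ⟨(i, j), hlt⟩)))
      else ev k m (Sum.inl ()) + ev k m (Sum.inr (Sum.inl i)) +
        ev k m (Sum.inr (Sum.inr (Sum.inl i))) + ev k m (Sum.inr (Sum.inl j)) +
        ev k m (Sum.inr (Sum.inr (Sum.inl j))) -
        ev k m (Sum.inr (Sum.inr (Sum.inr ⟨(j, i), lt_of_le_of_ne (not_lt.mp hlt) h.symm⟩)))

lemma w_lin (i j : Fin m) (h : i ≠ j) :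
    w k m (.cij i j h) + w k m (.cij j i h.symm) =
      w k m .a + w k m (.ci i) + w k m (.cbi i) + w k m (.ci j) + w k m (.cbi j) := by
  rcases lt_or_gt_of_ne h with hlt | hgt
  · have hn : ¬ j < i := not_lt.mpr hlt.le
    simp only [w, dif_pos hlt, dif_neg hn]
    abel
  · have hn : ¬ i < j := not_lt.mpr hgt.le
    simp only [w, dif_pos hgt, dif_neg hn]
    abel

/-- the first-order map on polynomials -/
noncomputable def D₀ : MvPolynomial (UGen m) k →ₐ[k] TrivSqZeroExt k (Idx m → k) :=
  aeval (fun g => TrivSqZeroExt.inr (w k m g))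

lemma D₀_X (g : UGen m) : D₀ k m (X g) = TrivSqZeroExt.inr (w k m g) := by
  rw [D₀, aeval_X]

lemma D₀_kills : ∀ p ∈ Ideal.span (URel k m), D₀ k m p = 0 := by
  have h : Ideal.span (URel k m) ≤ RingHom.ker (D₀ k m) := by
    rw [Ideal.span_le]
    intro p hp
    rw [SetLike.mem_coe, RingHom.mem_ker]
    rcases hp with ((⟨q, rfl⟩ | ⟨q, rfl⟩) | ⟨q, rfl⟩) | ⟨q, rfl⟩
    · obtain ⟨⟨i, j⟩, h⟩ := q
      simp only [map_sub, map_add, D₀_X, ← TrivSqZeroExt.inr_add, ← TrivSqZeroExt.inr_sub]
      rw [w_lin k m i j h, sub_self, TrivSqZeroExt.inr_zero]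
    · simp only [map_sub, map_add, map_mul, D₀_X, TrivSqZeroExt.inr_mul_inr, w,
        TrivSqZeroExt.inr_zero]
      simp
    · simp only [map_sub, map_add, map_mul, D₀_X, TrivSqZeroExt.inr_mul_inr, w,
        TrivSqZeroExt.inr_zero]
      simp
    · simp only [map_sub, map_add, map_mul, D₀_X, add_mul, TrivSqZeroExt.inr_mul_inr, w,
        TrivSqZeroExt.inr_zero]
      simp
  intro p hp
  exact RingHom.mem_ker.mp (h hp)

/-- the first-order map -/
noncomputable def D : URing k m →ₐ[k] TrivSqZeroExt k (Idx m → k) :=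
  Ideal.Quotient.liftₐ _ (D₀ k m) (D₀_kills k m)

lemma D_ugen (g : UGen m) : D k m (ugen k m g) = TrivSqZeroExt.inr (w k m g) := by
  rw [ugen]
  change D₀ k m (X g) = _
  rw [D₀_X]

lemma fst_D_of_mem {x : URing k m} (hx : x ∈ uorigin k m) : (D k m x).fst = 0 := by
  have h : uorigin k m ≤ RingHom.ker ((TrivSqZeroExt.fstHom k k (Idx m → k)).comp (D k m)) := by
    rw [uorigin, Ideal.span_le]
    rintro _ ⟨g, rfl⟩
    rw [SetLike.mem_coe, RingHom.mem_ker, AlgHom.comp_apply, D_ugen]
    change (TrivSqZeroExt.inr (w k m g) : TrivSqZeroExt k (Idx m → k)).fst = 0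
    exact TrivSqZeroExt.fst_inr k (w k m g)
  exact RingHom.mem_ker.mp (h hx)

end Tangent

section Cot

variable (k : Type u) [Field k] (m : ℕ)

/-- a generator as an element of the origin ideal -/
noncomputable def gI (g : UGen m) : uorigin k m :=
  ⟨ugen k m g, Ideal.subset_span (Set.mem_range_self g)⟩

/-- the linear functional on the ideal -/
noncomputable def ΦI : uorigin k m →ₗ[k] (Idx m → k) :=
  ((TrivSqZeroExt.sndHom k (Idx m → k)).comp (D k m).toLinearMap).comp
    ((uorigin k m).subtype.restrictScalars k)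

lemma ΦI_apply (x : uorigin k m) : ΦI k m x = (D k m x.1).snd := rfl

lemma ΦI_mul (x y : uorigin k m) : ΦI k m (x * y) = 0 := by
  rw [ΦI_apply]
  change (D k m (x.1 * y.1)).snd = 0
  rw [map_mul, TrivSqZeroExt.snd_mul, fst_D_of_mem k m x.2, fst_D_of_mem k m y.2]
  simp

/-- the induced map on the cotangent space -/
noncomputable def Φ : (uorigin k m).Cotangent →ₗ[k] (Idx m → k) :=
  Ideal.Cotangent.lift (ΦI k m) (ΦI_mul k m)

/-- the free generator attached to an index -/
def free : Idx m → UGen m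
  | Sum.inl _ => .a
  | Sum.inr (Sum.inl i) => .ci i
  | Sum.inr (Sum.inr (Sum.inl i)) => .cbi i
  | Sum.inr (Sum.inr (Sum.inr q)) => .cij q.1.1 q.1.2 (ne_of_lt q.2)

lemma w_free (β : Idx m) : w k m (free m β) = ev k m β := by
  rcases β with _ | i | i | q
  · rfl
  · rfl
  · rfl
  · simp only [free, w, dif_pos q.2]

/-- the candidate basis of the cotangent space -/
noncomputable def b (β : Idx m) : (uorigin k m).Cotangent :=
  (uorigin k m).toCotangent (gI k m (free m β))

lemma Φ_b (β : Idx m) : Φ k m (b k m β) = ev k m β := by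
  rw [Φ, b, Ideal.Cotangent.lift_toCotangent, ΦI_apply]
  change (D k m (ugen k m (free m β))).snd = _
  rw [D_ugen, TrivSqZeroExt.snd_inr, w_free]

lemma Φ_surjective : Function.Surjective (Φ k m) := by
  intro v
  refine ⟨∑ β, v β • b k m β, ?_⟩
  rw [map_sum]
  simp only [map_smul, Φ_b]
  ext γ
  simp [ev, Finset.sum_apply, Pi.single_apply]

/-- the augmentation -/
noncomputable def aug : URing k m →ₐ[k] k :=
  (TrivSqZeroExt.fstHom k k (Idx m → k)).comp (D k m)

lemma aug_ugen (g : UGen m) : aug k m (ugen k m g) = 0 := by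
  rw [aug, AlgHom.comp_apply, D_ugen]
  exact TrivSqZeroExt.fst_inr k (w k m g)

lemma sub_aug_mem (r : URing k m) : r - algebraMap k (URing k m) (aug k m r) ∈ uorigin k m := by
  obtain ⟨p, rfl⟩ := Ideal.Quotient.mk_surjective r
  induction p using MvPolynomial.induction_on with
  | C c =>
    have : Ideal.Quotient.mk (Ideal.span (URel k m)) (C c) = algebraMap k (URing k m) c := rfl
    rw [this, AlgHom.commutes]
    simp
  | add p q hp hq =>
    have e : Ideal.Quotient.mk (Ideal.span (URel k m)) (p + q) -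
        algebraMap k (URing k m) (aug k m (Ideal.Quotient.mk (Ideal.span (URel k m)) (p + q))) =
        (Ideal.Quotient.mk (Ideal.span (URel k m)) p -
          algebraMap k (URing k m) (aug k m (Ideal.Quotient.mk (Ideal.span (URel k m)) p))) +
        (Ideal.Quotient.mk (Ideal.span (URel k m)) q -
          algebraMap k (URing k m) (aug k m (Ideal.Quotient.mk (Ideal.span (URel k m)) q))) := by
      simp only [map_add]; ring
    rw [e]
    exact Ideal.add_mem _ hp hq
  | mul_X p g _ =>
    have e : Ideal.Quotient.mk (Ideal.span (URel k m)) (p * X g) =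
        Ideal.Quotient.mk (Ideal.span (URel k m)) p * ugen k m g := by
      rw [map_mul]; rfl
    rw [e, map_mul, aug_ugen, mul_zero, map_zero, sub_zero]
    exact Ideal.mul_mem_left _ _ (Ideal.subset_span (Set.mem_range_self g))

lemma ugen_mem (g : UGen m) : ugen k m g ∈ uorigin k m :=
  Ideal.subset_span (Set.mem_range_self g)

lemma toCot_gI_mem (hm : 2 ≤ m) (g : UGen m) :
    (uorigin k m).toCotangent (gI k m g) ∈ Submodule.span k (Set.range (b k m)) := by
  have hb : ∀ β, b k m β ∈ Submodule.span k (Set.range (b k m)) :=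
    fun β => Submodule.subset_span (Set.mem_range_self β)
  have hsq : ∀ x y : URing k m, x ∈ uorigin k m → y ∈ uorigin k m →
      x * y ∈ uorigin k m ^ 2 := fun x y hx hy => by
    rw [pow_two]; exact Ideal.mul_mem_mul hx hy
  have h01 : (⟨0, by omega⟩ : Fin m) ≠ ⟨1, by omega⟩ := by
    intro e; simpa using congrArg Fin.val e
  cases g with
  | a => exact hb (Sum.inl ())
  | ci i => exact hb (Sum.inr (Sum.inl i))
  | cbi i => exact hb (Sum.inr (Sum.inr (Sum.inl i)))
  | c =>
    have h0 : (uorigin k m).toCotangent (gI k m .c) = 0 := by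
      rw [Ideal.toCotangent_eq_zero]
      change ugen k m .c ∈ _
      have hQ := relQ k m ⟨0, by omega⟩ ⟨1, by omega⟩ h01
      have e : ugen k m .c = ugen k m (.cij ⟨1, by omega⟩ ⟨0, by omega⟩ h01.symm) *
          ugen k m (.ci ⟨1, by omega⟩) + ugen k m (.cij ⟨0, by omega⟩ ⟨1, by omega⟩ h01) *
          ugen k m (.ci ⟨0, by omega⟩) - ugen k m (.ci ⟨0, by omega⟩) *
          ugen k m (.ci ⟨1, by omega⟩) := by
        linear_combination (-1 : URing k m) * hQ
      rw [e]
      exact Ideal.sub_mem _ (Ideal.add_mem _ (hsq _ _ (ugen_mem k m _) (ugen_mem k m _))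
        (hsq _ _ (ugen_mem k m _) (ugen_mem k m _))) (hsq _ _ (ugen_mem k m _) (ugen_mem k m _))
    rw [h0]; exact Submodule.zero_mem _
  | cb =>
    have h0 : (uorigin k m).toCotangent (gI k m .cb) = 0 := by
      rw [Ideal.toCotangent_eq_zero]
      change ugen k m .cb ∈ _
      have hQ := relQb k m ⟨0, by omega⟩ ⟨1, by omega⟩ h01
      have e : ugen k m .cb = ugen k m (.cij ⟨1, by omega⟩ ⟨0, by omega⟩ h01.symm) *
          ugen k m (.cbi ⟨0, by omega⟩) + ugen k m (.cij ⟨0, by omega⟩ ⟨1, by omega⟩ h01) *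
          ugen k m (.cbi ⟨1, by omega⟩) - ugen k m (.cbi ⟨0, by omega⟩) *
          ugen k m (.cbi ⟨1, by omega⟩) := by
        linear_combination (-1 : URing k m) * hQ
      rw [e]
      exact Ideal.sub_mem _ (Ideal.add_mem _ (hsq _ _ (ugen_mem k m _) (ugen_mem k m _))
        (hsq _ _ (ugen_mem k m _) (ugen_mem k m _))) (hsq _ _ (ugen_mem k m _) (ugen_mem k m _))
    rw [h0]; exact Submodule.zero_mem _
  | cij i j h =>
    by_cases hlt : i < j
    · exact hb (Sum.inr (Sum.inr (Sum.inr ⟨(i, j), hlt⟩)))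
    · have hgt : j < i := lt_of_le_of_ne (not_lt.mp hlt) h.symm
      have e : gI k m (.cij i j h) = gI k m .a + gI k m (.ci i) + gI k m (.cbi i) +
          gI k m (.ci j) + gI k m (.cbi j) - gI k m (.cij j i h.symm) := by
        apply Subtype.ext
        change ugen k m (.cij i j h) = ugen k m .a + ugen k m (.ci i) + ugen k m (.cbi i) +
          ugen k m (.ci j) + ugen k m (.cbi j) - ugen k m (.cij j i h.symm)
        linear_combination relL k m i j h
      rw [e, map_sub, map_add, map_add, map_add, map_add]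
      refine Submodule.sub_mem _ (Submodule.add_mem _ (Submodule.add_mem _ (Submodule.add_mem _
        (Submodule.add_mem _ ?_ ?_) ?_) ?_) ?_) ?_
      · exact hb (Sum.inl ())
      · exact hb (Sum.inr (Sum.inl i))
      · exact hb (Sum.inr (Sum.inr (Sum.inl i)))
      · exact hb (Sum.inr (Sum.inl j))
      · exact hb (Sum.inr (Sum.inr (Sum.inl j)))
      · exact hb (Sum.inr (Sum.inr (Sum.inr ⟨(j, i), hgt⟩)))

lemma smul_mem_span (r : URing k m) {y : (uorigin k m).Cotangent}
    (hy : y ∈ Submodule.span k (Set.range (b k m))) :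
    r • y ∈ Submodule.span k (Set.range (b k m)) := by
  have e : r • y = (r - algebraMap k (URing k m) (aug k m r)) • y +
      (algebraMap k (URing k m) (aug k m r)) • y := by
    have h := add_smul (r - algebraMap k (URing k m) (aug k m r))
      (algebraMap k (URing k m) (aug k m r)) y
    rw [sub_add_cancel] at h
    exact h
  have e2 : (algebraMap k (URing k m) (aug k m r)) • y = (aug k m r) • y :=
    algebraMap_smul (URing k m) (aug k m r) y
  have e3 : (r - algebraMap k (URing k m) (aug k m r)) • y = 0 :=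
    Ideal.Cotangent.smul_eq_zero_of_mem (sub_aug_mem k m r) y
  rw [e, e2, e3, zero_add]
  exact Submodule.smul_mem _ _ hy

lemma span_b (hm : 2 ≤ m) : Submodule.span k (Set.range (b k m)) = ⊤ := by
  rw [eq_top_iff]
  intro y hy
  clear hy
  obtain ⟨x, rfl⟩ := Ideal.toCotangent_surjective _ y
  obtain ⟨x, hx⟩ := x
  unfold uorigin at hx
  induction hx using Submodule.span_induction with
  | mem x hx =>
    obtain ⟨g, rfl⟩ := hx
    exact toCot_gI_mem k m hm g
  | zero =>
    have : (⟨0, Submodule.zero_mem _⟩ : uorigin k m) = 0 := rfl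
    rw [this, map_zero]; exact Submodule.zero_mem _
  | add x y hx hy ihx ihy =>
    have : (⟨x + y, Submodule.add_mem _ hx hy⟩ : uorigin k m) = ⟨x, hx⟩ + ⟨y, hy⟩ := rfl
    rw [this, map_add]; exact Submodule.add_mem _ ihx ihy
  | smul r x hx ih =>
    have : (⟨r • x, Submodule.smul_mem _ r hx⟩ : uorigin k m) = r • ⟨x, hx⟩ := rfl
    rw [this, map_smul]; exact smul_mem_span k m r ih

lemma card_Idx : Fintype.card (Idx m) = (m + 2) * (m + 1) / 2 := by
  have h1 : Fintype.card {q : Fin m × Fin m // q.1 < q.2} = m.choose 2 := by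
    rw [Fintype.card_subtype]
    have := Fintype.card_product_filter_lt (α := Fin m)
    rw [Fintype.card_fin] at this
    exact this
  rw [Fintype.card_sum, Fintype.card_sum, Fintype.card_sum, h1, Fintype.card_unit,
    Fintype.card_fin, Nat.choose_two_right]
  have h2 : (m + 2) * (m + 1) = m * (m - 1) + 2 * (1 + (m + m)) := by
    cases m with
    | zero => rfl
    | succ n => simp only [Nat.add_sub_cancel]; ring
  rw [h2, Nat.add_mul_div_left _ _ (by norm_num : 0 < 2)]
  ring

theorem finrank_cot (hm : 2 ≤ m) :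
    Module.finrank k (uorigin k m).Cotangent = (m + 2) * (m + 1) / 2 := by
  have hspan := span_b k m hm
  have : Module.Finite k (uorigin k m).Cotangent :=
    ⟨by rw [← hspan]; exact Submodule.fg_span (Set.finite_range _)⟩
  apply le_antisymm
  · have h1 := finrank_range_le_card (R := k) (b k m)
    rw [Set.finrank, hspan, finrank_top, card_Idx] at h1
    exact h1
  · have h2 := LinearMap.finrank_le_finrank_of_surjective (Φ_surjective k m)
    rw [Module.finrank_pi, card_Idx] at h2
    exact h2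

end Cot

section Adjoin

variable (m : ℕ)

theorem adjoin_eq_top (hm : 2 ≤ m) :
    Algebra.adjoin ℤ ({ugen ℤ m .a} ∪ Set.range (fun i : Fin m => ugen ℤ m (.ci i)) ∪
        Set.range (fun i : Fin m => ugen ℤ m (.cbi i)) ∪
        Set.range (fun q : {q : Fin m × Fin m // q.1 < q.2} =>
          ugen ℤ m (.cij q.1.1 q.1.2 (ne_of_lt q.2)))) = ⊤ := by
  set B := Algebra.adjoin ℤ ({ugen ℤ m .a} ∪ Set.range (fun i : Fin m => ugen ℤ m (.ci i)) ∪
        Set.range (fun i : Fin m => ugen ℤ m (.cbi i)) ∪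
        Set.range (fun q : {q : Fin m × Fin m // q.1 < q.2} =>
          ugen ℤ m (.cij q.1.1 q.1.2 (ne_of_lt q.2)))) with hB
  have ha : ugen ℤ m .a ∈ B :=
    Algebra.subset_adjoin (Or.inl (Or.inl (Or.inl rfl)))
  have hci : ∀ i, ugen ℤ m (.ci i) ∈ B := fun i =>
    Algebra.subset_adjoin (Or.inl (Or.inl (Or.inr ⟨i, rfl⟩)))
  have hcbi : ∀ i, ugen ℤ m (.cbi i) ∈ B := fun i =>
    Algebra.subset_adjoin (Or.inl (Or.inr ⟨i, rfl⟩))
  have hlt : ∀ (i j : Fin m) (h : i < j), ugen ℤ m (.cij i j (ne_of_lt h)) ∈ B := fun i j h =>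
    Algebra.subset_adjoin (Or.inr ⟨⟨(i, j), h⟩, rfl⟩)
  have hcij : ∀ (i j : Fin m) (h : i ≠ j), ugen ℤ m (.cij i j h) ∈ B := by
    intro i j h
    by_cases hl : i < j
    · exact hlt i j hl
    · have hgt : j < i := lt_of_le_of_ne (not_lt.mp hl) h.symm
      have e : ugen ℤ m (.cij i j h) = ugen ℤ m .a + ugen ℤ m (.ci i) + ugen ℤ m (.cbi i) +
          ugen ℤ m (.ci j) + ugen ℤ m (.cbi j) - ugen ℤ m (.cij j i h.symm) := by
        linear_combination relL ℤ m i j h
      rw [e]
      exact B.sub_mem (B.add_mem (B.add_mem (B.add_mem (B.add_mem ha (hci i)) (hcbi i)) (hci j))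
        (hcbi j)) (hlt j i hgt)
  have h01 : (⟨0, by omega⟩ : Fin m) ≠ ⟨1, by omega⟩ := by
    intro e; simpa using congrArg Fin.val e
  have hc : ugen ℤ m .c ∈ B := by
    have hQ := relQ ℤ m ⟨0, by omega⟩ ⟨1, by omega⟩ h01
    have e : ugen ℤ m .c = ugen ℤ m (.cij ⟨1, by omega⟩ ⟨0, by omega⟩ h01.symm) *
        ugen ℤ m (.ci ⟨1, by omega⟩) + ugen ℤ m (.cij ⟨0, by omega⟩ ⟨1, by omega⟩ h01) *
        ugen ℤ m (.ci ⟨0, by omega⟩) - ugen ℤ m (.ci ⟨0, by omega⟩) *
        ugen ℤ m (.ci ⟨1, by omega⟩) := by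
      linear_combination (-1 : URing ℤ m) * hQ
    rw [e]
    exact B.sub_mem (B.add_mem (B.mul_mem (hcij _ _ _) (hci _)) (B.mul_mem (hcij _ _ _) (hci _)))
      (B.mul_mem (hci _) (hci _))
  have hcb : ugen ℤ m .cb ∈ B := by
    have hQ := relQb ℤ m ⟨0, by omega⟩ ⟨1, by omega⟩ h01
    have e : ugen ℤ m .cb = ugen ℤ m (.cij ⟨1, by omega⟩ ⟨0, by omega⟩ h01.symm) *
        ugen ℤ m (.cbi ⟨0, by omega⟩) + ugen ℤ m (.cij ⟨0, by omega⟩ ⟨1, by omega⟩ h01) *
        ugen ℤ m (.cbi ⟨1, by omega⟩) - ugen ℤ m (.cbi ⟨0, by omega⟩) *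
        ugen ℤ m (.cbi ⟨1, by omega⟩) := by
      linear_combination (-1 : URing ℤ m) * hQ
    rw [e]
    exact B.sub_mem (B.add_mem (B.mul_mem (hcij _ _ _) (hcbi _))
      (B.mul_mem (hcij _ _ _) (hcbi _))) (B.mul_mem (hcbi _) (hcbi _))
  have hall : ∀ g, ugen ℤ m g ∈ B := by
    intro g
    cases g with
    | a => exact ha
    | c => exact hc
    | cb => exact hcb
    | ci i => exact hci i
    | cbi i => exact hcbi i
    | cij i j h => exact hcij i j h
  rw [eq_top_iff]
  intro x hx
  clear hx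
  obtain ⟨p, rfl⟩ := Ideal.Quotient.mk_surjective x
  induction p using MvPolynomial.induction_on with
  | C c =>
    have : Ideal.Quotient.mk (Ideal.span (URel ℤ m)) (C c) = algebraMap ℤ (URing ℤ m) c := rfl
    rw [this]
    exact B.algebraMap_mem c
  | add p q hp hq =>
    rw [map_add]; exact B.add_mem hp hq
  | mul_X p g hp =>
    rw [map_mul]; exact B.mul_mem hp (hall g)

end Adjoin

/-- Let m ≥ 2, so that n = m + 3 ≥ 5 points are marked. For every field k, the Zariski cotangent space
of U_n over k at the origin, that is I/I² for the ideal I of the coordinate ring of U_n over k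
generated by the classes of all the generators a, c, c̄, c_i, c̄_i, c_{ij}, has dimension (n − 1)(n
− 2)/2 = (m + 2)(m + 1)/2 over k; and the weight-one classes a, c_i, c̄_i (all indices i) and c_{ij}
(i < j) generate the coordinate ring of U_n over ℤ as a ℤ-algebra (so they form a minimal generating
set). -/
theorem result (m : ℕ) (hm : 2 ≤ m) :
    (∀ (k : Type u) [Field k], Module.finrank k (uorigin k m).Cotangent = (m + 2) * (m + 1) / 2) ∧
    Algebra.adjoin ℤ ({ugen ℤ m .a} ∪ Set.range (fun i : Fin m => ugen ℤ m (.ci i)) ∪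
        Set.range (fun i : Fin m => ugen ℤ m (.cbi i)) ∪
        Set.range (fun q : {q : Fin m × Fin m // q.1 < q.2} => ugen ℤ m (.cij q.1.1 q.1.2 (ne_of_lt q.2)))) = ⊤ := by
  exact ⟨fun k _ => finrank_cot k m hm, adjoin_eq_top m hm⟩

end Groth.Agent.S18248
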