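import Groth.Statements.S18251
import Mathlib
-- import your own Groth.Agent.* helpers here

set_option autoImplicit false
universe u
open W4c5m1nsnscurves
open Curves

namespace Groth.Agent.S18251

open MvPolynomial MonomialOrder
open scoped MonomialOrder

/-- the lexicographic order in which the second variable is the most significant -/
noncomputable def mo : MonomialOrder (Fin 2) := (MonomialOrder.lex : MonomialOrder (Fin 2)ᵒᵈ)

theorem mo_lt_of_one {c d : Fin 2 →₀ ℕ} (h : c 1 < d 1) : c ≺[mo] d := by
  refine (MonomialOrder.lex_lt_iff (σ := (Fin 2)ᵒᵈ) (c := c) (d := d)).2 ?_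
  rw [Finsupp.Lex.lt_iff]
  refine ⟨OrderDual.toDual (1 : Fin 2), ?_, h⟩
  intro j hj
  exfalso
  have : (1 : Fin 2) < OrderDual.ofDual j := hj
  omega

/-- the exponent of the leading monomial `x y²` -/
noncomputable def d12 : Fin 2 →₀ ℕ := Finsupp.single 0 1 + Finsupp.single 1 2

theorem d12_le_iff (c : Fin 2 →₀ ℕ) : d12 ≤ c ↔ 1 ≤ c 0 ∧ 2 ≤ c 1 := by
  constructor
  · intro h
    have h0 := h 0
    have h1 := h 1
    simp [d12] at h0 h1
    exact ⟨h0, h1⟩
  · rintro ⟨h0, h1⟩ i
    fin_cases i
    · simpa [d12] using h0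
    · simpa [d12] using h1

section general

variable {R : Type u} [CommRing R]

theorem ff_eq (a b c d : R) :
    (X 0 * X 1 ^ 2 - X 0 ^ 2 * X 1 - (C a * X 0 * X 1 + C b * X 0 + C c * X 1 + C d) :
      MvPolynomial (Fin 2) R) = monomial (Finsupp.single 0 1 + Finsupp.single 1 2) (1 : R) +
    (- monomial (Finsupp.single 0 2 + Finsupp.single 1 1) (1 : R) - (monomial (Finsupp.single 0 1 + Finsupp.single 1 1) a +
      monomial (Finsupp.single 0 1) b + monomial (Finsupp.single 1 1) c + monomial 0 d)) := by
  simp only [X, C_apply, monomial_mul, monomial_pow, mul_one, one_pow, smul_eq_mul,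
    Finsupp.smul_single, zero_add]
  ring

theorem deg_ff [Nontrivial R] (a b c d : R) :
    mo.degree (X 0 * X 1 ^ 2 - X 0 ^ 2 * X 1 - (C a * X 0 * X 1 + C b * X 0 + C c * X 1 + C d) :
      MvPolynomial (Fin 2) R) = d12 ∧
    mo.leadingCoeff (X 0 * X 1 ^ 2 - X 0 ^ 2 * X 1 - (C a * X 0 * X 1 + C b * X 0 + C c * X 1 + C d) :
      MvPolynomial (Fin 2) R) = 1 := by
  classical
  rw [ff_eq]
  obtain ⟨g, hg⟩ : ∃ g : MvPolynomial (Fin 2) R, g = (- monomial (Finsupp.single 0 2 + Finsupp.single 1 1) (1 : R) -
      (monomial (Finsupp.single 0 1 + Finsupp.single 1 1) a +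
      monomial (Finsupp.single 0 1) b + monomial (Finsupp.single 1 1) c + monomial 0 d)) := ⟨_, rfl⟩
  rw [← hg]
  have hd : 0 ≺[mo] (Finsupp.single 0 1 + Finsupp.single 1 2 : Fin 2 →₀ ℕ) := by
    apply mo_lt_of_one
    simp
  have hlt : mo.degree g ≺[mo] mo.degree (monomial (Finsupp.single 0 1 + Finsupp.single 1 2) (1 : R)) := by
    rw [degree_monomial, if_neg one_ne_zero, degree_lt_iff hd]
    intro e he
    apply mo_lt_of_one
    have he' : coeff e g ≠ 0 := MvPolynomial.mem_support_iff.1 he
    by_contra hge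
    apply he'
    have hge' : 2 ≤ e 1 := by
      have : ¬ (e 1 < 2) := by simpa using hge
      omega
    have ne : ∀ (e' : Fin 2 →₀ ℕ), e' 1 ≤ 1 → ¬ (e' = e) := fun e' he' h => by subst h; omega
    simp only [hg, coeff_sub, coeff_neg, coeff_add, coeff_monomial]
    rw [if_neg (ne _ (by simp)), if_neg (ne _ (by simp)), if_neg (ne _ (by simp)),
      if_neg (ne _ (by simp)), if_neg (ne _ (by simp))]
    simp
  constructor
  · rw [degree_add_of_lt hlt, degree_monomial, if_neg one_ne_zero]
    rfl
  · rw [leadingCoeff_add_of_lt hlt, leadingCoeff_monomial]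

/-- exponents of the standard monomials -/
noncomputable def ee : Option (ℕ ⊕ (Fin 2 × ℕ)) → (Fin 2 →₀ ℕ)
  | none => 0
  | some (Sum.inl k) => Finsupp.single 0 (k + 1) + Finsupp.single 1 1
  | some (Sum.inr (y, k)) => Finsupp.single y (k + 1)

/-- a left inverse of `ee` -/
def ee_inv (c : Fin 2 →₀ ℕ) : Option (ℕ ⊕ (Fin 2 × ℕ)) :=
  if c 1 = 0 then (if c 0 = 0 then none else some (Sum.inr (0, c 0 - 1)))
  else if c 0 = 0 then some (Sum.inr (1, c 1 - 1)) else some (Sum.inl (c 0 - 1))

theorem ee_inv_ee (i : Option (ℕ ⊕ (Fin 2 × ℕ))) : ee_inv (ee i) = i := by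
  rcases i with _ | k | ⟨y, k⟩
  · simp [ee, ee_inv]
  · simp [ee, ee_inv]
  · fin_cases y
    · simp [ee, ee_inv]
    · simp [ee, ee_inv]

theorem ee_injective : Function.Injective ee := Function.LeftInverse.injective ee_inv_ee

theorem ee_not_le (i : Option (ℕ ⊕ (Fin 2 × ℕ))) : ¬ d12 ≤ ee i := by
  rw [d12_le_iff]
  rcases i with _ | k | ⟨y, k⟩
  · simp [ee]
  · simp [ee]
  · fin_cases y
    · simp [ee]
    · simp [ee]

theorem ee_surj (c : Fin 2 →₀ ℕ) (hc : ¬ d12 ≤ c) : ∃ i, ee i = c := by
  rw [d12_le_iff] at hc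
  refine ⟨ee_inv c, ?_⟩
  unfold ee_inv
  split_ifs with h1 h0 h0
  · ext i; fin_cases i
    · simp [ee, h0]
    · simp [ee, h1]
  · ext i; fin_cases i
    · simp [ee]; omega
    · simp [ee, h1]
  · ext i; fin_cases i
    · simp [ee, h0]
    · simp [ee]; omega
  · have : c 1 = 1 := by omega
    ext i; fin_cases i
    · simp [ee]; omega
    · simp [ee, this]

/-- standard remainders in a principal ideal with monic generator vanish -/
theorem rem_eq_zero (f r : MvPolynomial (Fin 2) R) (hdeg : mo.degree f = d12)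
    (hlc : mo.leadingCoeff f = 1) (hr : r ∈ Ideal.span {f})
    (hsupp : ∀ c ∈ r.support, ¬ d12 ≤ c) : r = 0 := by
  obtain ⟨g, rfl⟩ := Ideal.mem_span_singleton'.1 hr
  by_contra hne
  have hg : g ≠ 0 := by
    rintro rfl
    exact hne (zero_mul _)
  have hreg : IsRegular (mo.leadingCoeff f) := by rw [hlc]; exact isRegular_one
  have hdeg' := mo.degree_mul_of_isRegular_right hg hreg
  have hmem := mo.degree_mem_support hne
  apply hsupp _ hmem
  rw [hdeg', hdeg]
  exact le_add_self

/-- the general statement for a polynomial with leading monomial `x y²` and leading coefficient 1 -/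
theorem main (f : MvPolynomial (Fin 2) R) (hdeg : mo.degree f = d12) (hlc : mo.leadingCoeff f = 1) :
    LinearIndependent R (fun i => Ideal.Quotient.mkₐ R (Ideal.span {f}) (monomial (ee i) (1 : R))) ∧
      Submodule.span R (Set.range
        (fun i => Ideal.Quotient.mkₐ R (Ideal.span {f}) (monomial (ee i) (1 : R)))) = ⊤ := by
  classical
  constructor
  · -- linear independence
    rw [linearIndependent_iff]
    intro l hl
    rw [Finsupp.linearCombination_apply, Finsupp.sum] at hl
    -- the polynomial representative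
    obtain ⟨r, hrdef⟩ : ∃ r : MvPolynomial (Fin 2) R, r = ∑ i ∈ l.support, monomial (ee i) (l i) :=
      ⟨_, rfl⟩
    have hmk : Ideal.Quotient.mkₐ R (Ideal.span {f}) r = 0 := by
      rw [hrdef, map_sum, ← hl]
      refine Finset.sum_congr rfl fun i _ => ?_
      rw [← map_smul, smul_monomial, smul_eq_mul, mul_one]
    have hcoeff : ∀ j, coeff (ee j) r = l j := by
      intro j
      rw [hrdef, coeff_sum]
      simp only [coeff_monomial]
      rw [Finset.sum_eq_single j]
      · simp
      · intro i _ hij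
        rw [if_neg (fun h => hij (ee_injective h))]
      · intro hj
        rw [if_pos rfl]
        simpa using hj
    have hsupp : ∀ e ∈ r.support, ¬ d12 ≤ e := by
      intro e he
      rw [hrdef] at he
      have := MvPolynomial.support_sum he
      rw [Finset.mem_biUnion] at this
      obtain ⟨i, _, hi⟩ := this
      have := support_monomial_subset hi
      rw [Finset.mem_singleton] at this
      rw [this]
      exact ee_not_le i
    have hrI : r ∈ Ideal.span {f} := by
      rw [Ideal.Quotient.mkₐ_eq_mk] at hmk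
      exact Ideal.Quotient.eq_zero_iff_mem.1 hmk
    have hr0 := rem_eq_zero f r hdeg hlc hrI hsupp
    ext j
    rw [← hcoeff j, hr0]
    simp
  · -- spanning
    rw [eq_top_iff]
    intro x _
    obtain ⟨p, rfl⟩ := Ideal.Quotient.mk_surjective x
    obtain ⟨g, r, hgr, -, hsupp⟩ := mo.div_single (b := f) (by rw [hlc]; exact isUnit_one) p
    rw [hdeg] at hsupp
    have hpr : Ideal.Quotient.mk (Ideal.span {f}) p = Ideal.Quotient.mkₐ R (Ideal.span {f}) r := by
      rw [Ideal.Quotient.mkₐ_eq_mk, hgr, map_add]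
      have : Ideal.Quotient.mk (Ideal.span {f}) (g * f) = 0 :=
        Ideal.Quotient.eq_zero_iff_mem.2 (Ideal.mul_mem_left _ _ (Ideal.mem_span_singleton_self f))
      rw [this, zero_add]
    rw [hpr, ← support_sum_monomial_coeff r, map_sum]
    refine Submodule.sum_mem _ fun e he => ?_
    obtain ⟨i, hi⟩ := ee_surj e (hsupp e he)
    have : (monomial e (coeff e r) : MvPolynomial (Fin 2) R) = coeff e r • monomial (ee i) (1 : R) := by
      rw [smul_monomial, smul_eq_mul, mul_one, hi]
    rw [this, map_smul]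
    exact Submodule.smul_mem _ _ (Submodule.subset_span ⟨i, rfl⟩)

end general

/-- Case n = 3: let R be a commutative ring and a, b, c, d elements of R (a point of U_3, which is
affine 4-space, so no condition is imposed). Then in the R-algebra R[x_2, x_3]/(x_2 x_3² − x_2² x_3
− a x_2 x_3 − b x_2 − c x_3 − d) the classes of the monomials 1, x_2^k x_3, x_2^k and x_3^k (k ≥ 1)
are linearly independent over R and span, i.e. form an R-basis. -/
theorem result (R : Type u) [CommRing R] (a b c d : R) :
    LinearIndependent R (cmon3 R a b c d) ∧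
      Submodule.span R (Set.range (cmon3 R a b c d)) = ⊤ := by
  classical
  rcases subsingleton_or_nontrivial R with hR | hR
  · have : Subsingleton (CurveAlg3 R a b c d) := Module.subsingleton R _
    refine ⟨linearIndependent_of_subsingleton, ?_⟩
    rw [eq_top_iff]
    intro x _
    rw [Subsingleton.elim x 0]
    exact zero_mem _
  obtain ⟨hdeg, hlc⟩ := deg_ff a b c d
  -- the classes are classes of monomials
  have hcm : cmon3 R a b c d = fun i =>
      Ideal.Quotient.mkₐ R (Ideal.span {X 0 * X 1 ^ 2 - X 0 ^ 2 * X 1 -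
        (C a * X 0 * X 1 + C b * X 0 + C c * X 1 + C d)}) (monomial (ee i) (1 : R)) := by
    funext i
    rw [Ideal.Quotient.mkₐ_eq_mk]
    rcases i with _ | k | ⟨y, k⟩
    · simp only [cmon3, ee]
      rw [show (monomial 0 (1 : R) : MvPolynomial (Fin 2) R) = 1 from rfl, map_one]
    · simp only [cmon3, ee]
      congr 1
      simp only [X, monomial_mul, monomial_pow, mul_one, one_pow, smul_eq_mul, Finsupp.smul_single]
    · simp only [cmon3, ee]
      congr 1
      simp only [X, monomial_pow, mul_one, one_pow, smul_eq_mul, Finsupp.smul_single]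
  rw [hcm]
  exact main _ hdeg hlc

end Groth.Agent.S18251
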