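import Groth.Statements.S18252
import Mathlib

set_option autoImplicit false
universe u
open W4c5m1nsnscurves
open Curves

namespace Groth.Agent.S18252

open MvPolynomial

section URels

variable (R : Type u) [CommRing R] (m : ℕ)

lemma relL (i j : Fin m) (h : i ≠ j) :
    ugen R m (.cij i j h) + ugen R m (.cij j i h.symm) =
      ugen R m .a + ugen R m (.ci i) + ugen R m (.cbi i) + ugen R m (.ci j) + ugen R m (.cbi j) := by
  have h1 : _ ∈ URel R m := Set.mem_union_left _ (Set.mem_union_left _ (Set.mem_union_left _
      (Set.mem_range_self (⟨(i, j), h⟩ : DPair m))))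
  have h2 := Ideal.Quotient.eq_zero_iff_mem.mpr (Ideal.subset_span h1)
  simp only [map_sub, map_add] at h2
  exact sub_eq_zero.mp h2

lemma relQ (i j : Fin m) (h : i ≠ j) :
    ugen R m (.cij j i h.symm) * ugen R m (.ci j) + ugen R m (.cij i j h) * ugen R m (.ci i) -
      ugen R m (.ci i) * ugen R m (.ci j) - ugen R m .c = 0 := by
  have h1 : _ ∈ URel R m := Set.mem_union_left _ (Set.mem_union_left _ (Set.mem_union_right _
      (Set.mem_range_self (⟨(i, j), h⟩ : DPair m))))
  have h2 := Ideal.Quotient.eq_zero_iff_mem.mpr (Ideal.subset_span h1)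
  simp only [map_sub, map_add, map_mul] at h2
  exact h2

lemma relQb (i j : Fin m) (h : i ≠ j) :
    ugen R m (.cij j i h.symm) * ugen R m (.cbi i) + ugen R m (.cij i j h) * ugen R m (.cbi j) -
      ugen R m (.cbi i) * ugen R m (.cbi j) - ugen R m .cb = 0 := by
  have h1 : _ ∈ URel R m := Set.mem_union_left _ (Set.mem_union_right _
      (Set.mem_range_self (⟨(i, j), h⟩ : DPair m)))
  have h2 := Ideal.Quotient.eq_zero_iff_mem.mpr (Ideal.subset_span h1)
  simp only [map_sub, map_add, map_mul] at h2
  exact h2

lemma relK (i j k : Fin m) (hij : i ≠ j) (hjk : j ≠ k) (hik : i ≠ k) :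
    ugen R m (.cij i j hij) * ugen R m (.cij j k hjk) +
      ugen R m (.cij j i hij.symm) * ugen R m (.cij i k hik) -
      ugen R m (.cij i k hik) * ugen R m (.cij j k hjk) +
      (ugen R m .a + ugen R m (.ci k) + ugen R m (.cbi k)) * ugen R m (.ci k) - ugen R m .c = 0 := by
  have h1 : _ ∈ URel R m := Set.mem_union_right _
      (Set.mem_range_self (⟨(i, j, k), hij, hjk, hik⟩ : DTriple m))
  have h2 := Ideal.Quotient.eq_zero_iff_mem.mpr (Ideal.subset_span h1)
  simp only [map_sub, map_add, map_mul] at h2
  exact h2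

lemma uincl_ugen (g : UGen m) : uincl R m (ugen R m g) = ugen R (m + 1) g.castSucc := by
  change (Ideal.Quotient.mkₐ R (Ideal.span (URel R (m + 1)))) (rename UGen.castSucc (X g)) = _
  rw [rename_X]
  rfl

end URels

section CRels

variable (S : Type u) [CommRing S] (m : ℕ) (v : UGen m → S)

/-- the class of a variable -/
noncomputable def cx (y : CVar m) : CurveAlg S m v :=
  Ideal.Quotient.mk (Ideal.span (CRel S m v)) (X y)

/-- the class of a constant -/
noncomputable def ck : S →+* CurveAlg S m v :=
  (Ideal.Quotient.mk (Ideal.span (CRel S m v))).comp (C : S →+* MvPolynomial (CVar m) S)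

lemma ck_apply (s : S) : ck S m v s = Ideal.Quotient.mk (Ideal.span (CRel S m v)) (C s) := rfl

lemma relC1 (i : Fin m) :
    cx S m v .x2 * cx S m v (.xi i) = cx S m v .x2 * cx S m v .x3 +
      ck S m v (v (.ci i)) * cx S m v (.xi i) + ck S m v (v (.cbi i)) * cx S m v .x2 -
      ck S m v (v .c) := by
  have h1 : _ ∈ CRel S m v := Set.mem_union_left _ (Set.mem_union_left _ (Set.mem_range_self i))
  have h2 := Ideal.Quotient.eq_zero_iff_mem.mpr (Ideal.subset_span h1)
  simp only [map_sub, map_add, map_mul] at h2
  rw [cx, cx, cx, ck_apply, ck_apply, ck_apply]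
  exact sub_eq_zero.mp h2

lemma relC2 (i : Fin m) :
    cx S m v .x3 * cx S m v (.xi i) = cx S m v .x2 * cx S m v .x3 +
      ck S m v (v .a + v (.ci i) + v (.cbi i)) * (cx S m v (.xi i) - ck S m v (v (.cbi i))) +
      ck S m v (v .cb) - ck S m v (v .c) := by
  have h1 : _ ∈ CRel S m v := Set.mem_union_left _ (Set.mem_union_right _ (Set.mem_range_self i))
  have h2 := Ideal.Quotient.eq_zero_iff_mem.mpr (Ideal.subset_span h1)
  simp only [map_sub, map_add, map_mul] at h2
  rw [cx, cx, cx, ck_apply, ck_apply, ck_apply, ck_apply]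
  simp only [map_add]
  exact sub_eq_zero.mp h2

lemma relC3 (i j : Fin m) (h : i ≠ j) :
    cx S m v (.xi i) * cx S m v (.xi j) = cx S m v .x2 * cx S m v .x3 +
      ck S m v (v (.cij i j h)) * cx S m v (.xi j) +
      ck S m v (v (.cij j i h.symm)) * cx S m v (.xi i) - ck S m v (v .c) := by
  have h1 : _ ∈ CRel S m v := Set.mem_union_right _ (Set.mem_range_self (⟨(i, j), h⟩ : DPair m))
  have h2 := Ideal.Quotient.eq_zero_iff_mem.mpr (Ideal.subset_span h1)
  simp only [map_sub, map_add, map_mul] at h2
  rw [cx, cx, cx, cx, ck_apply, ck_apply, ck_apply]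
  exact sub_eq_zero.mp h2

end CRels

section Maps

variable (R : Type u) [CommRing R] (m : ℕ)

/-- images of the curve variables -/
noncomputable def xv : CVar m → URing R (m + 1)
  | .x2 => ugen R (m + 1) (.ci (Fin.last m))
  | .x3 => ugen R (m + 1) .a + ugen R (m + 1) (.ci (Fin.last m)) +
      ugen R (m + 1) (.cbi (Fin.last m))
  | .xi i => ugen R (m + 1) (.cij i.castSucc (Fin.last m) (Fin.castSucc_lt_last i).ne)

/-- the forward map on polynomials -/
noncomputable def φ₀ : MvPolynomial (CVar m) (URing R m) →+* URing R (m + 1) :=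
  eval₂Hom (uincl R m : URing R m →+* URing R (m + 1)) (xv R m)

lemma φ₀_C (s : URing R m) : φ₀ R m (C s) = uincl R m s := by
  rw [φ₀, coe_eval₂Hom, eval₂_C]; rfl

lemma φ₀_X (y : CVar m) : φ₀ R m (X y) = xv R m y := by
  rw [φ₀, coe_eval₂Hom, eval₂_X]

lemma φ₀_kills : Ideal.span (CRel (URing R m) m (ugen R m)) ≤ RingHom.ker (φ₀ R m) := by
  rw [Ideal.span_le]
  intro p hp
  rw [SetLike.mem_coe, RingHom.mem_ker]
  rcases hp with (⟨i, rfl⟩ | ⟨i, rfl⟩) | ⟨q, rfl⟩
  · simp only [map_sub, map_add, map_mul, φ₀_C, φ₀_X, uincl_ugen, xv, UGen.castSucc]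
    have hne : i.castSucc ≠ Fin.last m := (Fin.castSucc_lt_last i).ne
    have hL := relL R (m + 1) i.castSucc (Fin.last m) hne
    have hQ := relQ R (m + 1) i.castSucc (Fin.last m) hne
    linear_combination (-1 : URing R (m + 1)) * hQ + ugen R (m + 1) (.ci (Fin.last m)) * hL
  · simp only [map_sub, map_add, map_mul, φ₀_C, φ₀_X, uincl_ugen, xv, UGen.castSucc]
    have hne : i.castSucc ≠ Fin.last m := (Fin.castSucc_lt_last i).ne
    have hL := relL R (m + 1) i.castSucc (Fin.last m) hne
    have hQ := relQ R (m + 1) i.castSucc (Fin.last m) hne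
    have hQb := relQb R (m + 1) i.castSucc (Fin.last m) hne
    linear_combination (-1 : URing R (m + 1)) * hQ + hQb +
      (ugen R (m + 1) (.ci (Fin.last m)) - ugen R (m + 1) (.cbi i.castSucc)) * hL
  · obtain ⟨⟨i, j⟩, h⟩ := q
    simp only [map_sub, map_add, map_mul, φ₀_C, φ₀_X, uincl_ugen, xv, UGen.castSucc]
    have hi : i.castSucc ≠ Fin.last m := (Fin.castSucc_lt_last i).ne
    have hj : j.castSucc ≠ Fin.last m := (Fin.castSucc_lt_last j).ne
    have hij : i.castSucc ≠ j.castSucc := fun e => h (Fin.castSucc_injective _ e)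
    have hK := relK R (m + 1) i.castSucc j.castSucc (Fin.last m) hij hj hi
    linear_combination (-1 : URing R (m + 1)) * hK

/-- the forward map -/
noncomputable def φ : CurveAlg (URing R m) m (ugen R m) →+* URing R (m + 1) :=
  Ideal.Quotient.lift _ (φ₀ R m) (fun a ha => RingHom.mem_ker.mp (φ₀_kills R m ha))

lemma φ_ck (s : URing R m) : φ R m (ck (URing R m) m (ugen R m) s) = uincl R m s := by
  rw [ck_apply, φ, Ideal.Quotient.lift_mk, φ₀_C]

lemma φ_cx (y : CVar m) : φ R m (cx (URing R m) m (ugen R m) y) = xv R m y := by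
  rw [cx, φ, Ideal.Quotient.lift_mk, φ₀_X]

end Maps

section Back

variable (R : Type u) [CommRing R] (m : ℕ)

local notation "Cm" => CurveAlg (URing R m) m (ugen R m)
local notation "κ" => ck (URing R m) m (ugen R m)
local notation "xx" => cx (URing R m) m (ugen R m)
local notation "ug" => ugen R m

/-- images of the generators of `U_{n+1}` in the curve algebra -/
noncomputable def ψgen : UGen (m + 1) → Cm
  | .a => κ (ug .a)
  | .c => κ (ug .c)
  | .cb => κ (ug .cb)
  | .ci i => if hi : i = Fin.last m then xx .x2 else κ (ug (.ci (i.castPred hi)))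
  | .cbi i => if hi : i = Fin.last m then xx .x3 - κ (ug .a) - xx .x2
      else κ (ug (.cbi (i.castPred hi)))
  | .cij i j h =>
      if hi : i = Fin.last m then
        (if hj : j = Fin.last m then 0
          else κ (ug (.ci (j.castPred hj))) + κ (ug (.cbi (j.castPred hj))) + xx .x3 -
            xx (.xi (j.castPred hj)))
      else if hj : j = Fin.last m then xx (.xi (i.castPred hi))
      else κ (ug (.cij (i.castPred hi) (j.castPred hj)
        (fun e => h (by
          have := congrArg Fin.castSucc e
          rwa [Fin.castSucc_castPred, Fin.castSucc_castPred] at this))))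

lemma ψgen_ci_c (i : Fin m) : ψgen R m (.ci i.castSucc) = κ (ug (.ci i)) := by
  rw [ψgen, dif_neg (Fin.castSucc_lt_last i).ne]
  simp only [Fin.castPred_castSucc]

lemma ψgen_ci_l : ψgen R m (.ci (Fin.last m)) = xx .x2 := by
  rw [ψgen, dif_pos rfl]

lemma ψgen_cbi_c (i : Fin m) : ψgen R m (.cbi i.castSucc) = κ (ug (.cbi i)) := by
  rw [ψgen, dif_neg (Fin.castSucc_lt_last i).ne]
  simp only [Fin.castPred_castSucc]

lemma ψgen_cbi_l : ψgen R m (.cbi (Fin.last m)) = xx .x3 - κ (ug .a) - xx .x2 := by
  rw [ψgen, dif_pos rfl]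

lemma ψgen_cij_cc (i j : Fin m) (h : i.castSucc ≠ j.castSucc) (h' : i ≠ j) :
    ψgen R m (.cij i.castSucc j.castSucc h) = κ (ug (.cij i j h')) := by
  rw [ψgen, dif_neg (Fin.castSucc_lt_last i).ne, dif_neg (Fin.castSucc_lt_last j).ne]
  simp only [Fin.castPred_castSucc]

lemma ψgen_cij_cl (i : Fin m) (h : i.castSucc ≠ Fin.last m) :
    ψgen R m (.cij i.castSucc (Fin.last m) h) = xx (.xi i) := by
  rw [ψgen, dif_neg (Fin.castSucc_lt_last i).ne, dif_pos rfl]
  simp only [Fin.castPred_castSucc]

lemma ψgen_cij_lc (j : Fin m) (h : Fin.last m ≠ j.castSucc) :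
    ψgen R m (.cij (Fin.last m) j.castSucc h) =
      κ (ug (.ci j)) + κ (ug (.cbi j)) + xx .x3 - xx (.xi j) := by
  rw [ψgen, dif_pos rfl, dif_neg (Fin.castSucc_lt_last j).ne]
  simp only [Fin.castPred_castSucc]

/-- the backward map on polynomials -/
noncomputable def ψ₀ : MvPolynomial (UGen (m + 1)) R →+* Cm :=
  eval₂Hom ((κ).comp (algebraMap R (URing R m))) (ψgen R m)

lemma ψ₀_X (g : UGen (m + 1)) : ψ₀ R m (X g) = ψgen R m g := by
  rw [ψ₀, coe_eval₂Hom, eval₂_X]

lemma ψgen_a : ψgen R m .a = κ (ug .a) := rfl
lemma ψgen_c : ψgen R m .c = κ (ug .c) := rfl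
lemma ψgen_cb : ψgen R m .cb = κ (ug .cb) := rfl

lemma ψ₀_kills : Ideal.span (URel R (m + 1)) ≤ RingHom.ker (ψ₀ R m) := by
  rw [Ideal.span_le]
  intro p hp
  rw [SetLike.mem_coe, RingHom.mem_ker]
  rcases hp with ((⟨q, rfl⟩ | ⟨q, rfl⟩) | ⟨q, rfl⟩) | ⟨q, rfl⟩
  · -- linear relations
    obtain ⟨⟨i, j⟩, h⟩ := q
    simp only [map_sub, map_add, ψ₀_X]
    revert h
    induction i using Fin.lastCases with
    | last =>
      induction j using Fin.lastCases with
      | last => intro h; exact absurd rfl h
      | cast j =>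
        intro h
        simp only [ψgen_cij_lc, ψgen_cij_cl, ψgen_a, ψgen_ci_l, ψgen_cbi_l, ψgen_ci_c, ψgen_cbi_c]
        ring
    | cast i =>
      induction j using Fin.lastCases with
      | last =>
        intro h
        simp only [ψgen_cij_lc, ψgen_cij_cl, ψgen_a, ψgen_ci_l, ψgen_cbi_l, ψgen_ci_c, ψgen_cbi_c]
        ring
      | cast j =>
        intro h
        have h' : i ≠ j := fun e => h (by rw [e])
        rw [ψgen_cij_cc R m i j _ h', ψgen_cij_cc R m j i _ h'.symm, ψgen_a, ψgen_ci_c, ψgen_cbi_c,
          ψgen_ci_c, ψgen_cbi_c]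
        have hL := congrArg (κ) (relL R m i j h')
        simp only [map_add] at hL
        linear_combination hL
  · -- quadratic relations for c
    obtain ⟨⟨i, j⟩, h⟩ := q
    simp only [map_sub, map_add, map_mul, ψ₀_X]
    revert h
    induction i using Fin.lastCases with
    | last =>
      induction j using Fin.lastCases with
      | last => intro h; exact absurd rfl h
      | cast j =>
        intro h
        simp only [ψgen_cij_lc, ψgen_cij_cl, ψgen_c, ψgen_ci_l, ψgen_ci_c]
        linear_combination (-1 : Cm) * relC1 (URing R m) m (ugen R m) j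
    | cast i =>
      induction j using Fin.lastCases with
      | last =>
        intro h
        simp only [ψgen_cij_lc, ψgen_cij_cl, ψgen_c, ψgen_ci_l, ψgen_ci_c]
        linear_combination (-1 : Cm) * relC1 (URing R m) m (ugen R m) i
      | cast j =>
        intro h
        have h' : i ≠ j := fun e => h (by rw [e])
        rw [ψgen_cij_cc R m i j _ h', ψgen_cij_cc R m j i _ h'.symm, ψgen_c, ψgen_ci_c, ψgen_ci_c]
        have hQ := congrArg (κ) (relQ R m i j h')
        simp only [map_add, map_sub, map_mul, map_zero] at hQ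
        linear_combination hQ
  · -- quadratic relations for cb
    obtain ⟨⟨i, j⟩, h⟩ := q
    simp only [map_sub, map_add, map_mul, ψ₀_X]
    revert h
    induction i using Fin.lastCases with
    | last =>
      induction j using Fin.lastCases with
      | last => intro h; exact absurd rfl h
      | cast j =>
        intro h
        simp only [ψgen_cij_lc, ψgen_cij_cl, ψgen_cb, ψgen_cbi_l, ψgen_cbi_c]
        have h2 := relC2 (URing R m) m (ugen R m) j
        simp only [map_add] at h2
        linear_combination h2 - relC1 (URing R m) m (ugen R m) j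
    | cast i =>
      induction j using Fin.lastCases with
      | last =>
        intro h
        simp only [ψgen_cij_lc, ψgen_cij_cl, ψgen_cb, ψgen_cbi_l, ψgen_cbi_c]
        have h2 := relC2 (URing R m) m (ugen R m) i
        simp only [map_add] at h2
        linear_combination h2 - relC1 (URing R m) m (ugen R m) i
      | cast j =>
        intro h
        have h' : i ≠ j := fun e => h (by rw [e])
        rw [ψgen_cij_cc R m i j _ h', ψgen_cij_cc R m j i _ h'.symm, ψgen_cb, ψgen_cbi_c,
          ψgen_cbi_c]
        have hQ := congrArg (κ) (relQb R m i j h')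
        simp only [map_add, map_sub, map_mul, map_zero] at hQ
        linear_combination hQ
  · -- cubic relations
    obtain ⟨⟨i, j, k⟩, hij, hjk, hik⟩ := q
    simp only [map_sub, map_add, map_mul, ψ₀_X]
    revert hij hjk hik
    induction i using Fin.lastCases with
    | last =>
      induction j using Fin.lastCases with
      | last => intro hij; exact absurd rfl hij
      | cast j =>
        induction k using Fin.lastCases with
        | last => intro _ _ hik; exact absurd rfl hik
        | cast k =>
          intro hij hjk hik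
          have hjk' : j ≠ k := fun e => hjk (by rw [e])
          rw [ψgen_cij_cc R m j k _ hjk']
          simp only [ψgen_cij_lc, ψgen_cij_cl, ψgen_a, ψgen_c, ψgen_ci_c, ψgen_cbi_c]
          have h2 := relC2 (URing R m) m (ugen R m) j
          simp only [map_add] at h2
          have h3 := relC3 (URing R m) m (ugen R m) j k hjk'
          have hL := congrArg (κ) (relL R m j k hjk')
          simp only [map_add] at hL
          have hQ := congrArg (κ) (relQ R m j k hjk')
          simp only [map_add, map_sub, map_mul, map_zero] at hQ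
          have hQb := congrArg (κ) (relQb R m j k hjk')
          simp only [map_add, map_sub, map_mul, map_zero] at hQb
          linear_combination h2 - h3 + (-(xx (.xi j)) + κ (ug (.cbi j)) - κ (ug (.ci k))) * hL -
            hQb + hQ
    | cast i =>
      induction j using Fin.lastCases with
      | last =>
        induction k using Fin.lastCases with
        | last => intro _ hjk _; exact absurd rfl hjk
        | cast k =>
          intro hij hjk hik
          have hik' : i ≠ k := fun e => hik (by rw [e])
          rw [ψgen_cij_cc R m i k _ hik']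
          simp only [ψgen_cij_lc, ψgen_cij_cl, ψgen_a, ψgen_c, ψgen_ci_c, ψgen_cbi_c]
          have h2 := relC2 (URing R m) m (ugen R m) i
          simp only [map_add] at h2
          have h3 := relC3 (URing R m) m (ugen R m) i k hik'
          have hL := congrArg (κ) (relL R m i k hik')
          simp only [map_add] at hL
          have hQ := congrArg (κ) (relQ R m i k hik')
          simp only [map_add, map_sub, map_mul, map_zero] at hQ
          have hQb := congrArg (κ) (relQb R m i k hik')
          simp only [map_add, map_sub, map_mul, map_zero] at hQb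
          linear_combination h2 - h3 + (-(xx (.xi i)) + κ (ug (.cbi i)) - κ (ug (.ci k))) * hL -
            hQb + hQ
      | cast j =>
        induction k using Fin.lastCases with
        | last =>
          intro hij hjk hik
          have hij' : i ≠ j := fun e => hij (by rw [e])
          rw [ψgen_cij_cc R m i j _ hij', ψgen_cij_cc R m j i _ hij'.symm]
          simp only [ψgen_cij_cl, ψgen_a, ψgen_c, ψgen_ci_l, ψgen_cbi_l]
          linear_combination (-1 : Cm) * relC3 (URing R m) m (ugen R m) i j hij'
        | cast k =>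
          intro hij hjk hik
          have hij' : i ≠ j := fun e => hij (by rw [e])
          have hjk' : j ≠ k := fun e => hjk (by rw [e])
          have hik' : i ≠ k := fun e => hik (by rw [e])
          rw [ψgen_cij_cc R m i j _ hij', ψgen_cij_cc R m j i _ hij'.symm,
            ψgen_cij_cc R m j k _ hjk', ψgen_cij_cc R m i k _ hik', ψgen_a, ψgen_c, ψgen_ci_c,
            ψgen_cbi_c]
          have hK := congrArg (κ) (relK R m i j k hij' hjk' hik')
          simp only [map_add, map_sub, map_mul, map_zero] at hK
          linear_combination hK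

/-- the backward map -/
noncomputable def ψ : URing R (m + 1) →+* Cm :=
  Ideal.Quotient.lift _ (ψ₀ R m) (fun a ha => RingHom.mem_ker.mp (ψ₀_kills R m ha))

lemma ψ_ugen (g : UGen (m + 1)) : ψ R m (ugen R (m + 1) g) = ψgen R m g := by
  rw [ugen, ψ, Ideal.Quotient.lift_mk, ψ₀_X]

end Back

section Final

variable (R : Type u) [CommRing R] (m : ℕ)

local notation "Cm" => CurveAlg (URing R m) m (ugen R m)
local notation "κ" => ck (URing R m) m (ugen R m)
local notation "xx" => cx (URing R m) m (ugen R m)
local notation "ug" => ugen R m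

lemma φ_ψgen (g : UGen (m + 1)) : φ R m (ψgen R m g) = ugen R (m + 1) g := by
  cases g with
  | a => rw [ψgen_a, φ_ck, uincl_ugen]; rfl
  | c => rw [ψgen_c, φ_ck, uincl_ugen]; rfl
  | cb => rw [ψgen_cb, φ_ck, uincl_ugen]; rfl
  | ci i =>
    induction i using Fin.lastCases with
    | last => rw [ψgen_ci_l, φ_cx]; rfl
    | cast i => rw [ψgen_ci_c, φ_ck, uincl_ugen]; rfl
  | cbi i =>
    induction i using Fin.lastCases with
    | last =>
      rw [ψgen_cbi_l, map_sub, map_sub, φ_cx, φ_cx, φ_ck, uincl_ugen]
      simp only [xv, UGen.castSucc]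
      ring
    | cast i => rw [ψgen_cbi_c, φ_ck, uincl_ugen]; rfl
  | cij i j h =>
    revert h
    induction i using Fin.lastCases with
    | last =>
      induction j using Fin.lastCases with
      | last => intro h; exact absurd rfl h
      | cast j =>
        intro h
        rw [ψgen_cij_lc, map_sub, map_add, map_add, φ_ck, φ_ck, φ_cx, φ_cx, uincl_ugen, uincl_ugen]
        simp only [xv, UGen.castSucc]
        have hL := relL R (m + 1) j.castSucc (Fin.last m) h.symm
        linear_combination (-1 : URing R (m + 1)) * hL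
    | cast i =>
      induction j using Fin.lastCases with
      | last => intro h; rw [ψgen_cij_cl, φ_cx]; rfl
      | cast j =>
        intro h
        have h' : i ≠ j := fun e => h (by rw [e])
        rw [ψgen_cij_cc R m i j _ h', φ_ck, uincl_ugen]; rfl

lemma ψ₀_C (r : R) : ψ₀ R m (C r) = κ (algebraMap R (URing R m) r) := by
  rw [ψ₀, coe_eval₂Hom, eval₂_C]; rfl

lemma φψ : (φ R m).comp (ψ R m) = RingHom.id _ := by
  apply Ideal.Quotient.ringHom_ext
  apply MvPolynomial.ringHom_ext
  · intro r
    change φ R m (ψ R m (Ideal.Quotient.mk _ (C r))) = Ideal.Quotient.mk _ (C r)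
    rw [ψ, Ideal.Quotient.lift_mk, ψ₀_C, φ_ck]
    exact (uincl R m).commutes r
  · intro g
    change φ R m (ψ R m (ugen R (m + 1) g)) = ugen R (m + 1) g
    rw [ψ_ugen, φ_ψgen]

lemma ψ_uincl (s : URing R m) : ψ R m (uincl R m s) = κ s := by
  have h : (ψ R m).comp (uincl R m : URing R m →+* URing R (m + 1)) = κ := by
    apply Ideal.Quotient.ringHom_ext
    apply MvPolynomial.ringHom_ext
    · intro r
      change ψ R m (uincl R m (algebraMap R (URing R m) r)) = κ (algebraMap R (URing R m) r)
      rw [AlgHom.commutes]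
      change ψ R m (Ideal.Quotient.mk _ (C r)) = _
      rw [ψ, Ideal.Quotient.lift_mk, ψ₀_C]
    · intro g
      change ψ R m (uincl R m (ugen R m g)) = κ (ugen R m g)
      rw [uincl_ugen, ψ_ugen]
      cases g with
      | a => rfl
      | c => rfl
      | cb => rfl
      | ci i => exact ψgen_ci_c R m i
      | cbi i => exact ψgen_cbi_c R m i
      | cij i j h => exact ψgen_cij_cc R m i j _ h
  exact DFunLike.congr_fun h s

lemma ψφ : (ψ R m).comp (φ R m) = RingHom.id _ := by
  apply Ideal.Quotient.ringHom_ext
  apply MvPolynomial.ringHom_ext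
  · intro s
    change ψ R m (φ R m (κ s)) = κ s
    rw [φ_ck, ψ_uincl]
  · intro y
    change ψ R m (φ R m (xx y)) = xx y
    rw [φ_cx]
    cases y with
    | x2 => simp only [xv]; rw [ψ_ugen, ψgen_ci_l]
    | x3 =>
      simp only [xv]
      rw [map_add, map_add, ψ_ugen, ψ_ugen, ψ_ugen, ψgen_a, ψgen_ci_l, ψgen_cbi_l]
      ring
    | xi i => simp only [xv]; rw [ψ_ugen, ψgen_cij_cl]

end Final

/-- Let R be a commutative ring and m ≥ 1, so that n = m + 3 ≥ 4. Consider the projection U_{n+1} → U_n
forgetting the coordinates c_{n+1}, c̄_{n+1}, c_{i,n+1}, c_{n+1,i}, i.e. the ring map O(U_n) →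
O(U_{n+1}) sending each generator to the generator with the same indices, and the affine curve C_n →
U_n, i.e. the curve algebra over O(U_n) whose constants a, c, c̄, c_i, c̄_i, c_{ij} are the
generators of O(U_n) themselves. Then x_2 ↦ c_{n+1}, x_3 ↦ a + c_{n+1} + c̄_{n+1}, x_i ↦ c_{i,n+1}
defines an isomorphism O(C_n) ≅ O(U_{n+1}) over O(U_n): there is a ring isomorphism with these
values on the variables whose composite with the structure map O(U_n) → O(C_n) is the projection's
ring map. -/
theorem result (R : Type u) [CommRing R] (m : ℕ) (hm : 1 ≤ m) :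
    ∃ e : CurveAlg (URing R m) m (ugen R m) ≃+* URing R (m + 1),
      (∀ r : URing R m, e (algebraMap (URing R m) (CurveAlg (URing R m) m (ugen R m)) r) = uincl R m r) ∧
      e (Ideal.Quotient.mk (Ideal.span (CRel (URing R m) m (ugen R m))) (MvPolynomial.X CVar.x2)) =
        ugen R (m + 1) (UGen.ci (Fin.last m)) ∧
      e (Ideal.Quotient.mk (Ideal.span (CRel (URing R m) m (ugen R m))) (MvPolynomial.X CVar.x3)) =
        ugen R (m + 1) UGen.a + ugen R (m + 1) (UGen.ci (Fin.last m)) + ugen R (m + 1) (UGen.cbi (Fin.last m)) ∧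
      ∀ i : Fin m, e (Ideal.Quotient.mk (Ideal.span (CRel (URing R m) m (ugen R m))) (MvPolynomial.X (CVar.xi i))) =
        ugen R (m + 1) (UGen.cij i.castSucc (Fin.last m) (Fin.castSucc_lt_last i).ne) := by
  refine ⟨RingEquiv.ofRingHom (φ R m) (ψ R m) (φψ R m) (ψφ R m), ?_, ?_, ?_, ?_⟩
  · intro r
    exact φ_ck R m r
  · exact φ_cx R m .x2
  · exact φ_cx R m .x3
  · intro i
    exact φ_cx R m (.xi i)

end Groth.Agent.S18252
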