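import Groth.Statements.S18256
import Mathlib
-- import your own Groth.Agent.* helpers here

set_option autoImplicit false
universe u
open ArtFun

namespace Groth.Agent.S18256

open CategoryTheory TensorProduct

section aux

variable (R : Type u) [CommRing R] [IsArtinianRing R] [IsLocalRing R]
    (k : Type u) [Field k] [Algebra R k] (hk : Function.Surjective (algebraMap R k))

include hk in
theorem ker_algebraMap : RingHom.ker (algebraMap R k) = IsLocalRing.maximalIdeal R := by
  have : (RingHom.ker (algebraMap R k)).IsMaximal := RingHom.ker_isMaximal_of_surjective _ hk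
  exact IsLocalRing.eq_maximalIdeal this

theorem quot_nontrivial (J : Ideal R) (hJ : J ≤ IsLocalRing.maximalIdeal R) : Nontrivial (R ⧸ J) := by
  rw [Ideal.Quotient.nontrivial_iff]
  rintro rfl
  exact (IsLocalRing.maximalIdeal.isMaximal R).ne_top (top_le_iff.1 hJ)

/-- the augmentation of `R ⧸ J` -/
noncomputable def quotRes (J : Ideal R) (hJ : J ≤ IsLocalRing.maximalIdeal R) : (R ⧸ J) →ₐ[R] k :=
  Ideal.Quotient.liftₐ J (Algebra.ofId R k) (fun a ha => by
    have : a ∈ RingHom.ker (algebraMap R k) := by rw [ker_algebraMap R k hk]; exact hJ ha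
    exact this)

theorem quotRes_surjective (J : Ideal R) (hJ : J ≤ IsLocalRing.maximalIdeal R) :
    Function.Surjective (quotRes R k hk J hJ) := by
  intro y
  obtain ⟨x, rfl⟩ := hk y
  exact ⟨Ideal.Quotient.mk J x, rfl⟩

/-- the object `R ⧸ J` of the category of Artinian local algebras -/
noncomputable def quotArt (J : Ideal R) (hJ : J ≤ IsLocalRing.maximalIdeal R) : ArtFun.Art R k :=
  haveI : Nontrivial (R ⧸ J) := quot_nontrivial R J hJ
  haveI : IsLocalRing (R ⧸ J) :=
    IsLocalRing.of_surjective' (Ideal.Quotient.mk J) Ideal.Quotient.mk_surjective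
  haveI : IsArtinianRing (R ⧸ J) := (Ideal.Quotient.mk_surjective (I := J)).isArtinianRing
  { carrier := R ⧸ J
    res := quotRes R k hk J hJ
    res_surjective := quotRes_surjective R k hk J hJ }

/-- the transition map -/
noncomputable def quotHom (J' J : Ideal R) (hJ : J ≤ IsLocalRing.maximalIdeal R) (hle : J' ≤ J) :
    quotArt R k hk J' (hle.trans hJ) ⟶ quotArt R k hk J hJ :=
  ArtFun.Art.homMk (A := quotArt R k hk J' (hle.trans hJ)) (B := quotArt R k hk J hJ)
    (Ideal.Quotient.factorₐ R hle) (by
      apply AlgHom.ext
      intro y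
      obtain ⟨x, rfl⟩ := Ideal.Quotient.mk_surjective y
      rfl)

omit [IsArtinianRing R] in
theorem step {M : Type u} [AddCommGroup M] [Module R M]
    (h : ∀ (A' A : ArtFun.Art R k) (p : A' ⟶ A), ArtFun.Art.IsSmallExt p →
      Function.Injective
        (LinearMap.lTensor M (((RingHom.ker p.toAlgHom).restrictScalars R).subtype)))
    (A' A : ArtFun.Art R k) (p : A' ⟶ A) (hA' : Function.Surjective (algebraMap R A'))
    (hA : Function.Surjective (algebraMap R A))
    (J' J : Ideal R) (hkerA' : RingHom.ker (algebraMap R A') = J')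
    (hkerA : RingHom.ker (algebraMap R A) = J) [IsNoetherianRing R]
    (hlt : J' < J)
    (hmax : ∀ K : Ideal R, K < J → ¬ J' < K)
    (ih : Function.Injective (LinearMap.lTensor M (Submodule.subtype J'))) :
    Function.Injective (LinearMap.lTensor M (Submodule.subtype J)) := by
  have hzero : ∀ y : R, algebraMap R A' y = 0 ↔ y ∈ J' := by
    intro y; rw [← hkerA', RingHom.mem_ker]
  -- Nakayama
  have hmJ : IsLocalRing.maximalIdeal R * J ≤ J' := by
    by_contra hcon
    have h1 : J' < J' ⊔ IsLocalRing.maximalIdeal R * J :=
      lt_of_le_of_ne le_sup_left (fun e => hcon (e ▸ le_sup_right))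
    have h2 : J' ⊔ IsLocalRing.maximalIdeal R * J ≤ J := sup_le hlt.le Ideal.mul_le_right
    have h3 : J' ⊔ IsLocalRing.maximalIdeal R * J = J := by
      by_contra hne
      exact hmax _ (lt_of_le_of_ne h2 hne) h1
    have h4 : J ≤ J' := Submodule.le_of_le_smul_of_le_jacobson_bot (IsNoetherian.noetherian J)
      (IsLocalRing.maximalIdeal_le_jacobson ⊥) (by rw [smul_eq_mul]; exact h3.ge)
    exact absurd h4 (not_le_of_gt hlt)
  obtain ⟨x, hxJ, hxJ'⟩ := SetLike.exists_of_lt hlt
  have hspan : J' ⊔ Ideal.span {x} = J := by
    by_contra hne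
    have h2 : J' ⊔ Ideal.span {x} ≤ J :=
      sup_le hlt.le ((Ideal.span_singleton_le_iff_mem _).2 hxJ)
    have h1 : J' < J' ⊔ Ideal.span {x} :=
      lt_of_le_of_ne le_sup_left (fun e => hxJ'
        (e ▸ (le_sup_right : Ideal.span {x} ≤ _) (Ideal.mem_span_singleton_self x)))
    exact hmax _ (lt_of_le_of_ne h2 hne) h1
  -- the small extension
  have hkermem : ∀ y : R, algebraMap R A' y ∈ RingHom.ker p.toAlgHom ↔ y ∈ J := by
    intro y
    rw [RingHom.mem_ker, AlgHom.commutes, ← hkerA, RingHom.mem_ker]
  have hsmall : ArtFun.Art.IsSmallExt p := by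
    refine ⟨?_, ?_, ?_, ?_⟩
    · intro b
      obtain ⟨b0, rfl⟩ := hA b
      exact ⟨algebraMap R A' b0, p.toAlgHom.commutes b0⟩
    · intro hbot
      have : algebraMap R A' x ∈ RingHom.ker p.toAlgHom := (hkermem x).2 hxJ
      rw [hbot, Ideal.mem_bot] at this
      exact hxJ' ((hzero x).1 this)
    · refine ⟨⟨algebraMap R A' x, ?_⟩⟩
      apply le_antisymm
      · intro y hy
        obtain ⟨y0, rfl⟩ := hA' y
        have hy0 : y0 ∈ J := (hkermem y0).1 hy
        rw [← hspan] at hy0
        obtain ⟨j, hj, z, hz, rfl⟩ := Submodule.mem_sup.1 hy0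
        obtain ⟨r, rfl⟩ := Ideal.mem_span_singleton'.1 hz
        rw [Ideal.submodule_span_eq, Ideal.mem_span_singleton']
        refine ⟨algebraMap R A' r, ?_⟩
        rw [map_add, map_mul, (hzero j).2 hj, zero_add]
      · rw [Ideal.submodule_span_eq, Ideal.span_le]
        rintro _ rfl
        exact (hkermem x).2 hxJ
    · rw [eq_bot_iff, Ideal.mul_le]
      intro a ha b hb
      obtain ⟨a0, rfl⟩ := hA' a
      obtain ⟨b0, rfl⟩ := hA' b
      have hb0 : b0 ∈ J := (hkermem b0).1 hb
      have ha0 : a0 ∈ IsLocalRing.maximalIdeal R := by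
        rw [IsLocalRing.mem_maximalIdeal, mem_nonunits_iff]
        intro hu
        have : IsUnit (algebraMap R A' a0) := hu.map _
        exact ha this
      rw [Ideal.mem_bot, ← map_mul]
      exact (hzero _).2 (hmJ (Ideal.mul_mem_mul ha0 hb0))
  have hinj := h _ _ _ hsmall
  -- the comparison map
  let φ : J →ₗ[R] ((RingHom.ker p.toAlgHom).restrictScalars R) :=
    LinearMap.codRestrict _ ((Algebra.linearMap R A').comp J.subtype)
      (fun a => (hkermem a.1).2 a.2)
  have hφsurj : Function.Surjective φ := by
    rintro ⟨y, hy⟩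
    obtain ⟨y0, rfl⟩ := hA' y
    exact ⟨⟨y0, (hkermem y0).1 hy⟩, rfl⟩
  have hexact : Function.Exact (Submodule.inclusion hlt.le) φ := by
    intro a
    constructor
    · intro ha
      have : algebraMap R A' a.1 = 0 := congrArg Subtype.val ha
      exact ⟨⟨a.1, (hzero _).1 this⟩, rfl⟩
    · rintro ⟨b, rfl⟩
      apply Subtype.ext
      exact (hzero _).2 b.2
  have hexactT := lTensor_exact M hexact hφsurj
  have hcomm : (((RingHom.ker p.toAlgHom).restrictScalars R).subtype).comp φ
      = (Algebra.linearMap R A').comp J.subtype := LinearMap.ext (fun a => rfl)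
  rw [injective_iff_map_eq_zero]
  intro z hz
  have h1 : LinearMap.lTensor M
      (((RingHom.ker p.toAlgHom).restrictScalars R).subtype)
      (LinearMap.lTensor M φ z) = 0 := by
    rw [← LinearMap.comp_apply, ← LinearMap.lTensor_comp, hcomm, LinearMap.lTensor_comp,
      LinearMap.comp_apply, hz, map_zero]
  have h2 : LinearMap.lTensor M φ z = 0 := hinj (h1.trans (map_zero _).symm)
  obtain ⟨y, rfl⟩ := (hexactT z).1 h2
  have h3 : LinearMap.lTensor M (Submodule.subtype J') y = 0 := by
    have : Submodule.subtype J' = (Submodule.subtype J).comp (Submodule.inclusion hlt.le) :=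
      LinearMap.ext (fun a => rfl)
    rw [this, LinearMap.lTensor_comp, LinearMap.comp_apply, hz]
  rw [ih (h3.trans (map_zero _).symm), map_zero]

end aux

open CategoryTheory TensorProduct in
/-- Let R be an Artinian local ring with residue field k and M a finitely generated R-module. Suppose
that for every small extension p : A' → A of local Artinian R-algebras with residue field k (p
surjective, its kernel I a nonzero principal ideal killed by the maximal ideal of A'), the map M ⊗_R
I → M ⊗_R A' induced by the inclusion I ⊆ A' is injective (equivalently, the sequence 0 → M ⊗_R I →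
M ⊗_R A' → M ⊗_R A → 0 is exact). Then M is a free R-module. (The printed conclusion reads free over
the residue field; the proof establishes freeness over R, which is what is stated here.) -/
theorem result
    (R : Type u) [CommRing R] [IsArtinianRing R] [IsLocalRing R]
    (k : Type u) [Field k] [Algebra R k] (hk : Function.Surjective (algebraMap R k))
    (M : Type u) [AddCommGroup M] [Module R M] [Module.Finite R M]
    (h : ∀ (A' A : ArtFun.Art R k) (p : A' ⟶ A), ArtFun.Art.IsSmallExt p →
      Function.Injective
        (LinearMap.lTensor M (((RingHom.ker p.toAlgHom).restrictScalars R).subtype))) :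
    Module.Free R M := by
  have key : ∀ J : Ideal R, J ≤ IsLocalRing.maximalIdeal R →
      Function.Injective (LinearMap.lTensor M (Submodule.subtype J)) := by
    intro J
    induction J using WellFoundedLT.induction with
    | ind J ih =>
      intro hJ
      by_cases hbot : J = ⊥
      · subst hbot
        have hz : ∀ z : M ⊗[R] (⊥ : Ideal R), z = 0 := by
          intro z
          induction z using TensorProduct.induction_on with
          | zero => rfl
          | tmul m j =>
            have : j = 0 := Subsingleton.elim _ _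
            rw [this, TensorProduct.tmul_zero]
          | add a b ha hb => rw [ha, hb, add_zero]
        intro a b _
        rw [hz a, hz b]
      · have hne : {K : Ideal R | K < J}.Nonempty := ⟨⊥, bot_lt_iff_ne_bot.2 hbot⟩
        obtain ⟨J', hJ'lt, hJ'max⟩ :=
          (set_has_maximal_iff_noetherian (R := R) (M := R)).2 inferInstance _ hne
        refine step R k h (quotArt R k hk J' (hJ'lt.le.trans hJ)) (quotArt R k hk J hJ)
          (quotHom R k hk J' J hJ hJ'lt.le) ?_ ?_ J' J ?_ ?_ hJ'lt (fun K hK => hJ'max K hK)
          (ih J' hJ'lt (hJ'lt.le.trans hJ))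
        · exact (Ideal.Quotient.mk_surjective (I := J'))
        · exact (Ideal.Quotient.mk_surjective (I := J))
        · exact Ideal.mk_ker
        · exact Ideal.mk_ker
  have hm := key (IsLocalRing.maximalIdeal R) le_rfl
  have : Module.FinitePresentation R M := Module.finitePresentation_of_finite R M
  apply Module.free_of_maximalIdeal_rTensor_injective
  rwa [← LinearMap.lTensor_inj_iff_rTensor_inj]

end Groth.Agent.S18256
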