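import Groth.Statements.S1826
import Groth.Agent.Lib.Helper12.DualizingAscent
import Groth.Agent.S0538
import Groth.Agent.S0539

set_option autoImplicit false
universe u
open CategoryTheory
attribute [local instance] HasDerivedCategory.standard
open Dual

namespace Groth.Agent.S1826

/-- Let A be a Noetherian local ring, B a strict henselization of A and ω a dualizing complex for A;
assume the derived base change functor D(A) → D(B) exists. Then the base change ω ⊗^L_A B is a
dualizing complex for B. -/
theorem result (A B : Type u) [CommRing A] [IsLocalRing A] [IsNoetherianRing A] [CommRing B] [IsLocalRing B] [IsNoetherianRing B] [Algebra A B] [IsLocalHom (algebraMap A B)] [Hensel.IsStrictHenselization A B] [DRing.HasLBaseChange (algebraMap A B)] (ω : Dual.D A) (hω : Dual.IsDualizing A ω) : Dual.IsDualizing B ((DRing.LBaseChange (algebraMap A B)).obj ω) := by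
  haveI : Module.FaithfullyFlat A B := Groth.Agent.S0539.result A B
  have hm : (IsLocalRing.maximalIdeal A).map (algebraMap A B) = IsLocalRing.maximalIdeal B :=
    Groth.Agent.S0538.result A B
  let e₁ : (B ⧸ IsLocalRing.maximalIdeal B) ≃ₗ[B]
      TensorProduct A B (A ⧸ IsLocalRing.maximalIdeal A) :=
    (Submodule.quotEquivOfEq _ _ hm.symm) ≪≫ₗ
      (Algebra.TensorProduct.quotIdealMapEquivTensorQuot B
        (IsLocalRing.maximalIdeal A)).toLinearEquiv
  have h1 : Dual.IsDualizing B ((Groth.Agent.Lib.Helper12.extScD A B).obj ω) := by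
    refine Groth.Agent.Lib.Helper12.DualizingAscent.isDualizing_extScD_of_maximal ω hω
      (fun n hn' => ?_)
    have hn'' : n = IsLocalRing.maximalIdeal B := IsLocalRing.eq_maximalIdeal hn'
    subst hn''
    exact ⟨IsLocalRing.maximalIdeal A, ⟨e₁⟩⟩
  exact Groth.Agent.Lib.Helper12.DualizingBC.isDualizing_of_iso
    ((Groth.Agent.Lib.Helper12.FlatHomBC.lBaseChangeIsoExtScD (A := A) (B := B)).app ω).symm h1

end Groth.Agent.S1826
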