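import Groth.Statements.S18263
import Groth.Agent.Lib.Helper75.PointSetB

set_option autoImplicit false
universe u
open InvQ

namespace Groth.Agent.S18263

/-- Let k be an algebraically closed field in which m! is non-zero, n ≥ 1 and m ≤ n natural numbers, and
p_1, …, p_m non-zero vectors of k^(n+1), an ordered configuration of m points of projective n-space,
encoded by the product π = ∏_i (Σ_j p_i,j x_j) of its linear forms, on which the special linear
group SL(n+1) acts by substitution; let a be the point of the affine space of degree-m forms in n +
1 variables whose form is π. Then a is not stable for SL(n+1): a configuration of at most n points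
of projective n-space is never stable. (The case n = 0 is excluded: there the group is trivial and
the empty configuration is stable. The published statement allows any characteristic; this row
assumes m! non-zero in k, as the space of forms used here requires.) -/
theorem result (k : Type u) [Field k] [IsAlgClosed k] (n m : ℕ) (hn : 1 ≤ n) (hmn : m ≤ n)
    (hm : (Nat.factorial m : k) ≠ 0) (p : Fin m → Fin (n + 1) → k) (hp : ∀ i, p i ≠ 0)
    (a : CoordGrp.FormIdx (n + 1) m → k)
    (ha : CoordGrp.formPoly a = ∏ i, ∑ j, MvPolynomial.C (p i j) * MvPolynomial.X j) :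
    ¬ @GLin.IsStableVec k _ (CoordGrp.SLn (n + 1) k) _ _ (CoordGrp.FormIdx (n + 1) m)
      (GLin.comodAlong ((CoordGrp.SLn.mkHom (n + 1) k).comp (CoordGrp.Mat.toGLn (n + 1) k)) (CoordGrp.formsCoact k (n + 1) m))
      (GLin.isCoactAlg_comodAlong ((CoordGrp.SLn.mkHom (n + 1) k).comp (CoordGrp.Mat.toGLn (n + 1) k)) (CoordGrp.formsCoact k (n + 1) m) (CoordGrp.formsCoact_isCoactAlg k (n + 1) m)) a := by
  classical
  intro hst
  by_cases hm0 : m = 0
  · -- the empty configuration: use a line
    subst hm0
    let W : Submodule k (Fin (n + 1) → k) := Submodule.span k {Pi.single 0 1}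
    have hfr : Module.finrank k W = 1 := by
      apply finrank_span_singleton
      intro h0
      have := congrFun h0 0
      simp at this
    have hW : W ≠ ⊥ := by
      intro h
      rw [h, finrank_bot] at hfr
      exact zero_ne_one hfr
    have hW' : W ≠ ⊤ := by
      intro h
      rw [h, finrank_top, Module.finrank_fin_fun] at hfr
      omega
    have := Groth.Agent.Lib.Helper75.PointSet.lt_of_isStableVec n 0 hm p a ha hst W hW hW'
    simp at this
  · let W : Submodule k (Fin (n + 1) → k) := Submodule.span k (Set.range p)
    have hmpos : 0 < m := Nat.pos_of_ne_zero hm0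
    have hfr : Module.finrank k W ≤ m := by
      have h1 := finrank_range_le_card (R := k) p
      rw [Fintype.card_fin] at h1
      exact h1
    have hW : W ≠ ⊥ := by
      intro h
      have hmem : p ⟨0, hmpos⟩ ∈ W := Submodule.subset_span ⟨_, rfl⟩
      rw [h, Submodule.mem_bot] at hmem
      exact hp _ hmem
    have hW' : W ≠ ⊤ := by
      intro h
      rw [h, finrank_top, Module.finrank_fin_fun] at hfr
      omega
    have hlt := Groth.Agent.Lib.Helper75.PointSet.lt_of_isStableVec n m hm p a ha hst W hW hW'
    have hcard : Nat.card {i : Fin m // p i ∈ W} = m := by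
      have hall : ∀ i, p i ∈ W := fun i => Submodule.subset_span ⟨i, rfl⟩
      rw [Nat.card_eq_fintype_card, Fintype.card_subtype]
      simp [hall]
    rw [hcard] at hlt
    have : m * Module.finrank k W ≤ m * m := Nat.mul_le_mul_left m hfr
    have : m * m ≤ m * n := Nat.mul_le_mul_left m hmn
    nlinarith

end Groth.Agent.S18263
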