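import Groth.Statements.S18265
import Mathlib
-- import your own Groth.Agent.* helpers here

set_option autoImplicit false
universe u
open InvQ

namespace Groth.Agent.S18265

theorem isIntegrallyClosed_of_fixed {k P : Type*} [CommRing k] [CommRing P] [IsDomain P]
    [Algebra k P] [IsIntegrallyClosed P]
    (S : Subalgebra k P) (Φ : Set (P →+* P)) (hS : ∀ x, x ∈ S ↔ ∀ φ ∈ Φ, φ x = x) :
    IsIntegrallyClosed S := by
  rw [isIntegrallyClosed_iff (FractionRing S)]
  intro x hx
  obtain ⟨a, b, hb, rfl⟩ := IsFractionRing.div_surjective (A := S) x
  have hb0 : b ≠ 0 := nonZeroDivisors.ne_zero hb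
  have hbP : (b : P) ≠ 0 := fun h => hb0 (Subtype.ext h)
  let L := FractionRing P
  let g : S →+* L := (algebraMap P L).comp (S.val : S →+* P)
  have hg : Function.Injective g := by
    intro u v huv
    have := IsFractionRing.injective P L huv
    exact Subtype.ext this
  let ι : FractionRing S →+* L := IsFractionRing.lift hg
  have hι : ∀ s : S, ι (algebraMap S (FractionRing S) s) = algebraMap P L (s : P) := by
    intro s
    exact IsFractionRing.lift_algebraMap hg s
  have hint : IsIntegral P (ι (algebraMap S (FractionRing S) a / algebraMap S (FractionRing S) b)) := by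
    refine IsIntegral.map_of_comp_eq (S.val : S →+* P) ι ?_ hx
    ext s
    simp [hι]
  rw [map_div₀, hι, hι] at hint
  obtain ⟨c, hc⟩ := IsIntegrallyClosed.isIntegral_iff.mp hint
  have hbL : algebraMap P L (b : P) ≠ 0 := by
    intro h
    exact hbP ((IsFractionRing.injective P L) (by simpa using h))
  have hcb : c * (b : P) = (a : P) := by
    apply IsFractionRing.injective P L
    rw [map_mul, hc, div_mul_cancel₀ _ hbL]
  have hcS : c ∈ S := by
    rw [hS]
    intro φ hφ
    have ha := (hS a).mp a.2 φ hφ
    have hb' := (hS b).mp b.2 φ hφ
    have : φ c * (b : P) = c * (b : P) := by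
      calc φ c * (b : P) = φ c * φ (b : P) := by rw [hb']
        _ = φ (c * (b : P)) := (map_mul φ _ _).symm
        _ = c * (b : P) := by rw [hcb, ha]
    exact mul_right_cancel₀ hbP this
  refine ⟨⟨c, hcS⟩, ?_⟩
  have hbK : algebraMap S (FractionRing S) b ≠ 0 := by
    intro h
    exact hb0 ((IsFractionRing.injective S (FractionRing S)) (by simpa using h))
  rw [eq_div_iff hbK, ← map_mul]
  congr 1
  exact Subtype.ext hcb

/-- Let k be an algebraically closed field and n, m natural numbers, and let R be the ring of polynomial
functions of m vectors of k^(n+1) invariant under the special linear group SL(n+1, k) acting on all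
the vectors at once and under the rescalings of the individual vectors by units with product 1
(equivalently: invariant and homogeneous of one and the same degree in each vector) — the graded
ring of invariant sections whose Proj is the quotient variety of ordered m-point sets in projective
n-space. Then R is integrally closed in its field of fractions; hence that quotient variety is
normal. (Only the normality assertion of the source's statement is given here; its dimension,
rationality and singular-locus assertions are not.) -/
theorem result (k : Type u) [Field k] [IsAlgClosed k] (n m : ℕ) :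
    IsIntegrallyClosed (W4c5pointsetsdelpezzo.invRing k n m) := by
  classical
  refine isIntegrallyClosed_of_fixed (W4c5pointsetsdelpezzo.invRing k n m)
    ({φ | ∃ g, φ = (W4c5pointsetsdelpezzo.slSubst k n m g : _ →+* _)} ∪
      {φ | ∃ s : {s : Fin m → kˣ // ∏ i, s i = 1}, φ = (W4c5pointsetsdelpezzo.colScale k n m s.1 : _ →+* _)}) ?_
  intro x
  simp only [W4c5pointsetsdelpezzo.invRing, Algebra.mem_inf, Algebra.mem_iInf, AlgHom.mem_equalizer,
    AlgHom.id_apply, Set.mem_union, Set.mem_ofPred_eq]
  constructor
  · rintro ⟨h1, h2⟩ φ (⟨g, rfl⟩ | ⟨s, rfl⟩)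
    · exact h1 g
    · exact h2 s
  · intro h
    exact ⟨fun g => h _ (Or.inl ⟨g, rfl⟩), fun s => h _ (Or.inr ⟨s, rfl⟩)⟩

end Groth.Agent.S18265
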