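import Groth.Statements.S7631
import Mathlib
import Groth.Agent.Lib.Helper20.IdealComap

set_option autoImplicit false
universe u
open CategoryTheory CategoryTheory.Limits AlgebraicGeometry
open Variety

set_option linter.style.haveILetI false
open AlgebraicGeometry.Scheme

namespace Groth.Agent.S7631

variable {X Y Z S : Scheme.{u}}

theorem toImage_dominant (f : X ⟶ Y) [QuasiCompact f] : IsSchemeTheoreticallyDominant f.toImage := by
  rw [isSchemeTheoreticallyDominant_iff]
  refine IdealSheafData.ext_of_iSup_eq_top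
    (fun U : Y.affineOpens => ⟨f.imageι ⁻¹ᵁ U.1, U.2.preimage f.imageι⟩) ?_ ?_
  · rw [eq_top_iff]
    intro z _
    obtain ⟨_, ⟨V, hV, rfl⟩, hzV, -⟩ :=
      Y.isBasis_affineOpens.exists_subset_of_mem_open (Set.mem_univ (f.imageι z)) isOpen_univ
    exact TopologicalSpace.Opens.mem_iSup.2 ⟨⟨V, hV⟩, hzV⟩
  · intro U
    rw [Scheme.Hom.ker_apply, IdealSheafData.ideal_bot]
    exact (RingHom.injective_iff_ker_eq_bot _).1 (f.toImage_app_injective U)

/-- L1: flat base change of the kernel. -/
theorem ker_of_isPullback_of_flat {f : X ⟶ S} {g : Y ⟶ S} {pX : Z ⟶ X} {pY : Z ⟶ Y}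
    (H : IsPullback pX pY f g) [QuasiCompact f] [Flat g] : pY.ker = f.ker.comap g := by
  haveI := toImage_dominant f
  -- T' = pullback g (imageι f)
  let T' := pullback g f.imageι
  have hw : pY ≫ g = (pX ≫ f.toImage) ≫ f.imageι := by
    rw [Category.assoc, f.toImage_imageι, H.w]
  let h : Z ⟶ T' := pullback.lift pY (pX ≫ f.toImage) hw
  have h1 : h ≫ pullback.fst g f.imageι = pY := pullback.lift_fst _ _ _
  have h2 : h ≫ pullback.snd g f.imageι = pX ≫ f.toImage := pullback.lift_snd _ _ _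
  -- the square Z → T' over X → image is a pullback
  have hsq : IsPullback pX h f.toImage (pullback.snd g f.imageι) := by
    refine (IsPullback.of_right (h₁₂ := pullback.fst g f.imageι) (h₂₂ := f.imageι)
      (v₁₃ := g) ?_ h2 (IsPullback.of_hasPullback g f.imageι)).flip
    rw [h1, f.toImage_imageι]
    exact H.flip
  haveI : IsSchemeTheoreticallyDominant h := IsSchemeTheoreticallyDominant.of_isPullback hsq
  rw [← h1, Scheme.Hom.ker_comp, Scheme.Hom.ker_eq_bot h, IdealSheafData.map_bot,
    IdealSheafData.ker_fst_of_isClosedImmersion]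
  congr 1
  exact f.ker.ker_subschemeι

/-- L2: for a closed immersion, `map ι (comap ι M) = M ⊔ ker ι`. -/
theorem map_comap_of_isClosedImmersion (ι : X ⟶ Y) [IsClosedImmersion ι] (M : Y.IdealSheafData) :
    (M.comap ι).map ι = M ⊔ ι.ker := by
  ext U : 2
  rw [IdealSheafData.ideal_map_of_isAffineHom, IdealSheafData.ideal_sup]
  have h1 := Groth.Agent.Lib.Helper20.ideal_comap ι M ⟨ι ⁻¹ᵁ U.1, U.2.preimage ι⟩ U le_rfl
  rw [h1]
  have h2 : (ι.appLE U.1 (ι ⁻¹ᵁ U.1) le_rfl) = ι.app U.1 := (Scheme.Hom.app_eq_appLE ι).symm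
  rw [h2, Ideal.comap_map_of_surjective _ (ι.app_surjective U.1 U.2)]
  rw [Pi.sup_apply, Scheme.Hom.ker_apply]
  rfl


theorem ker_prod {S X Y A B : Scheme.{u}} (x : X ⟶ S) (y : Y ⟶ S) (a : A ⟶ S) (b : B ⟶ S)
    (f : A ⟶ X) (g : B ⟶ Y) (hf : f ≫ x = a) (hg : g ≫ y = b) [QuasiCompact f] [QuasiCompact g]
    (hflat : ∀ {T : Scheme.{u}} (t : T ⟶ S), Flat t)
    (F : pullback a b ⟶ pullback x y)
    (hF₁ : F ≫ pullback.fst x y = pullback.fst a b ≫ f)
    (hF₂ : F ≫ pullback.snd x y = pullback.snd a b ≫ g) :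
    F.ker = f.ker.comap (pullback.fst x y) ⊔ g.ker.comap (pullback.snd x y) := by
  haveI := hflat a
  haveI := hflat b
  haveI := hflat x
  haveI := hflat y
  let F₁ : pullback a b ⟶ pullback x b :=
    pullback.lift (pullback.fst a b ≫ f) (pullback.snd a b)
      (by rw [Category.assoc, hf, pullback.condition])
  let F₂ : pullback x b ⟶ pullback x y :=
    pullback.lift (pullback.fst x b) (pullback.snd x b ≫ g)
      (by rw [Category.assoc, hg, pullback.condition])
  have hF₁₁ : F₁ ≫ pullback.fst x b = pullback.fst a b ≫ f := pullback.lift_fst _ _ _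
  have hF₁₂ : F₁ ≫ pullback.snd x b = pullback.snd a b := pullback.lift_snd _ _ _
  have hF₂₁ : F₂ ≫ pullback.fst x y = pullback.fst x b := pullback.lift_fst _ _ _
  have hF₂₂ : F₂ ≫ pullback.snd x y = pullback.snd x b ≫ g := pullback.lift_snd _ _ _
  have hF : F = F₁ ≫ F₂ := by
    apply pullback.hom_ext
    · rw [hF₁, Category.assoc, hF₂₁, hF₁₁]
    · rw [hF₂, Category.assoc, hF₂₂, ← Category.assoc, hF₁₂]
  -- (α)
  have hα : IsPullback (pullback.fst a b) F₁ f (pullback.fst x b) := by
    refine (IsPullback.of_right (h₁₂ := pullback.snd x b) (h₂₂ := x) (v₁₃ := b) ?_ hF₁₁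
      (IsPullback.of_hasPullback x b).flip).flip
    rw [hF₁₂, hf]
    exact (IsPullback.of_hasPullback a b).flip
  have hkerF₁ : F₁.ker = f.ker.comap (pullback.fst x b) := ker_of_isPullback_of_flat hα
  -- (β)
  have hβ : IsPullback F₂ (pullback.snd x b) (pullback.snd x y) g := by
    refine IsPullback.of_right (h₁₂ := pullback.fst x y) (h₂₂ := y) (v₁₃ := x) ?_ hF₂₂
      (IsPullback.of_hasPullback x y)
    rw [hF₂₁, hg]
    exact IsPullback.of_hasPullback x b
  set K₁ := f.ker.comap (pullback.fst x y) with hK₁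
  set K₂ := g.ker.comap (pullback.snd x y) with hK₂
  -- (γ)
  have hγ : IsPullback (pullback.fst F₂ K₁.subschemeι ≫ pullback.snd x b)
      (pullback.snd F₂ K₁.subschemeι) g (K₁.subschemeι ≫ pullback.snd x y) :=
    ((IsPullback.of_hasPullback F₂ K₁.subschemeι).flip.paste_vert hβ).flip
  -- flatness of ι₁ ≫ p₂
  haveI hfl : Flat (K₁.subschemeι ≫ pullback.snd x y) := by
    have h1 : IsPullback (pullback.fst (pullback.fst x y) f.ker.subschemeι ≫ pullback.snd x y)
        (pullback.snd (pullback.fst x y) f.ker.subschemeι) y (f.ker.subschemeι ≫ x) :=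
      (IsPullback.of_hasPullback (pullback.fst x y) f.ker.subschemeι).paste_horiz
        (IsPullback.of_hasPullback x y).flip
    haveI := hflat (f.ker.subschemeι ≫ x)
    have h2 : Flat (pullback.fst (pullback.fst x y) f.ker.subschemeι ≫ pullback.snd x y) :=
      MorphismProperty.of_isPullback h1.flip (hflat _)
    have h3 : K₁.subschemeι = (f.ker.comapIso (pullback.fst x y)).hom ≫
        pullback.fst (pullback.fst x y) f.ker.subschemeι :=
      (IdealSheafData.comapIso_hom_fst _ _).symm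
    rw [h3, Category.assoc]
    infer_instance
  have hkerw₂ : (pullback.snd F₂ K₁.subschemeι).ker = K₂.comap K₁.subschemeι := by
    rw [ker_of_isPullback_of_flat hγ, IdealSheafData.comap_comp]
  -- (G)
  have hG : (K₁.comap F₂).map F₂ = (pullback.snd F₂ K₁.subschemeι).ker.map K₁.subschemeι := by
    change (pullback.fst F₂ K₁.subschemeι).ker.map F₂ = _
    rw [IdealSheafData.map_ker, IdealSheafData.map_ker, pullback.condition]
  have h4 : f.ker.comap (pullback.fst x b) = K₁.comap F₂ := by
    rw [hK₁, ← IdealSheafData.comap_comp, hF₂₁]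
  rw [hF, Scheme.Hom.ker_comp, hkerF₁, h4, hG, hkerw₂, map_comap_of_isClosedImmersion,
    IdealSheafData.ker_subschemeι, sup_comm]

end Groth.Agent.S7631

namespace Groth.Agent.S7631

/-- Let f : A → X and g : B → Y be quasi-compact morphisms of schemes over a field k and F = f × g : A
×_k B → X ×_k Y. Then the scheme-theoretic image of F is Z ×_k Z', where Z ⊆ X and Z' ⊆ Y are the
scheme-theoretic images of f and g: in terms of kernel ideal sheaves, ker F is the sum of the
pullback of ker f along the first projection and of ker g along the second. -/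
theorem result (k : Type u) [Field k] (X : Scheme.{u}) [X.Over (Spec (CommRingCat.of k))] (Y : Scheme.{u}) [Y.Over (Spec (CommRingCat.of k))]
    (A B : Scheme.{u}) [A.Over (Spec (CommRingCat.of k))] [B.Over (Spec (CommRingCat.of k))]
    (f : A ⟶ X) [f.IsOver (Spec (CommRingCat.of k))] [QuasiCompact f] (g : B ⟶ Y) [g.IsOver (Spec (CommRingCat.of k))] [QuasiCompact g]
    (F : pullback (A ↘ (Spec (CommRingCat.of k))) (B ↘ (Spec (CommRingCat.of k))) ⟶ pullback (X ↘ (Spec (CommRingCat.of k))) (Y ↘ (Spec (CommRingCat.of k))))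
    (hF₁ : F ≫ pullback.fst (X ↘ (Spec (CommRingCat.of k))) (Y ↘ (Spec (CommRingCat.of k))) = pullback.fst (A ↘ (Spec (CommRingCat.of k))) (B ↘ (Spec (CommRingCat.of k))) ≫ f)
    (hF₂ : F ≫ pullback.snd (X ↘ (Spec (CommRingCat.of k))) (Y ↘ (Spec (CommRingCat.of k))) = pullback.snd (A ↘ (Spec (CommRingCat.of k))) (B ↘ (Spec (CommRingCat.of k))) ≫ g) :
    F.ker = f.ker.comap (pullback.fst (X ↘ (Spec (CommRingCat.of k))) (Y ↘ (Spec (CommRingCat.of k)))) ⊔ g.ker.comap (pullback.snd (X ↘ (Spec (CommRingCat.of k))) (Y ↘ (Spec (CommRingCat.of k)))) := by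

  exact Groth.Agent.S7631.ker_prod (X ↘ (Spec (CommRingCat.of k))) (Y ↘ (Spec (CommRingCat.of k)))
    (A ↘ (Spec (CommRingCat.of k))) (B ↘ (Spec (CommRingCat.of k))) f g
    (CategoryTheory.comp_over f _) (CategoryTheory.comp_over g _) (fun t => inferInstance) F hF₁ hF₂

end Groth.Agent.S7631
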