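import Groth.Statements.S18266
import Mathlib
import Groth.Agent.S7631

set_option autoImplicit false
universe u
open CategoryTheory AlgebraicGeometry
open FDesc

set_option linter.style.haveILetI false
open CategoryTheory.Limits AlgebraicGeometry.Scheme

namespace Groth.Agent.S18266

theorem qc_fromSpecResidueField {S : Scheme.{u}} [IsAffine S] (η : S) :
    QuasiCompact (S.fromSpecResidueField η) := by
  haveI : IsAffineHom (S.fromSpecResidueField η) := isAffineHom_of_isAffine _
  infer_instance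

theorem qc_fiberι {X S : Scheme.{u}} (f : X ⟶ S) [IsAffine S] (η : S) : QuasiCompact (f.fiberι η) := by
  haveI := qc_fromSpecResidueField η
  change QuasiCompact (pullback.fst f (S.fromSpecResidueField η))
  infer_instance

theorem appLE_congr_hom {X Y : Scheme.{u}} {f g : X ⟶ Y} (h : f = g) (U : Y.Opens) (V : X.Opens)
    (e : V ≤ f ⁻¹ᵁ U) (s : Γ(Y, U)) : f.appLE U V e s = g.appLE U V (h ▸ e) s := by
  subst h; rfl

/-- a section pulled back from Spec A which is nonzero is a unit on the generic fibre -/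
theorem isUnit_on_fibre (A : Type u) [CommRing A] [IsDomain A] {X : Scheme.{u}}
    (f : X ⟶ Spec (CommRingCat.of A)) (η : ↥(Spec (CommRingCat.of A))) (hη : η.asIdeal = ⊥)
    (V : (f.fiber η).Opens) (e : V ≤ (f.fiberι η ≫ f) ⁻¹ᵁ ⊤)
    (a : Γ(Spec (CommRingCat.of A), ⊤)) (ha : a ≠ 0) :
    IsUnit ((f.fiberι η ≫ f).appLE ⊤ V e a) := by
  apply RingedSpace.isUnit_of_isUnit_germ
  intro z hz
  have hmem : z ∈ (f.fiber η).basicOpen ((f.fiberι η ≫ f).appLE ⊤ V e a) := by
    rw [Scheme.basicOpen_appLE]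
    refine ⟨hz, ?_⟩
    change (f.fiberι η ≫ f) z ∈ (Spec (CommRingCat.of A)).basicOpen a
    have h1 : (f.fiberι η ≫ f) z = η := by
      have : f.fiberι η z ∈ f ⁻¹' {η} := by
        rw [← Scheme.Hom.range_fiberι]
        exact ⟨z, rfl⟩
      exact this
    rw [h1]
    obtain ⟨r, rfl⟩ : ∃ r : A, (Scheme.ΓSpecIso (CommRingCat.of A)).inv r = a :=
      ⟨(Scheme.ΓSpecIso (CommRingCat.of A)).hom a, by
        rw [← CommRingCat.comp_apply, Iso.hom_inv_id]; rfl⟩
    rw [basicOpen_eq_of_affine]
    change r ∉ η.asIdeal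
    rw [hη]
    intro hr
    apply ha
    rw [(Ideal.mem_bot).1 hr, map_zero]
  exact (Scheme.mem_basicOpen _ _ z hz).1 hmem


theorem part1 (A : Type u) [CommRing A] [IsDomain A] [IsPrincipalIdealRing A] {X : Scheme.{u}}
    (f : X ⟶ Spec (CommRingCat.of A)) (η : ↥(Spec (CommRingCat.of A))) (hη : η.asIdeal = ⊥) :
    Flat ((f.fiberι η).imageι ≫ f) := by
  haveI := qc_fiberι f η
  haveI := Groth.Agent.S7631.toImage_dominant (f.fiberι η)
  refine HasRingHomProperty.of_iSup_eq_top (P := @Flat)
    (fun U : (f.fiberι η).image.affineOpens => U) (iSup_affineOpens_eq_top _) ?_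
  intro U
  -- the ring R = Γ(Spec A, ⊤) is a Bezout domain
  let eR : Γ(Spec (CommRingCat.of A), ⊤) ≃+* A :=
    (Scheme.ΓSpecIso (CommRingCat.of A)).commRingCatIsoToRingEquiv
  haveI : IsDomain Γ(Spec (CommRingCat.of A), ⊤) := eR.toMulEquiv.isDomain
  haveI : IsPrincipalIdealRing Γ(Spec (CommRingCat.of A), ⊤) :=
    IsPrincipalIdealRing.of_surjective eR.symm.toRingHom eR.symm.surjective
  set φ := (((f.fiberι η).imageι ≫ f).appLE ⊤ U.1 le_top).hom with hφ
  change φ.Flat
  rw [RingHom.Flat]
  letI := φ.toAlgebra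
  rw [Module.Flat.flat_iff_torsion_eq_bot_of_isBezout, Submodule.eq_bot_iff]
  intro x hx
  rw [Submodule.mem_torsion_iff] at hx
  obtain ⟨a, hax⟩ := hx
  have ha0 : (a : Γ(Spec (CommRingCat.of A), ⊤)) ≠ 0 := nonZeroDivisors.coe_ne_zero a
  have hax' : φ a * x = 0 := hax
  -- push to the fibre
  have hinj := (f.fiberι η).toImage.app_injective U.1
  apply hinj
  rw [map_zero]
  have h1 : (f.fiberι η).toImage.app U.1 (φ a) * (f.fiberι η).toImage.app U.1 x = 0 := by
    rw [← map_mul, hax', map_zero]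
  have h2 : (f.fiberι η).toImage.app U.1 (φ a) =
      (f.fiberι η ≫ f).appLE ⊤ ((f.fiberι η).toImage ⁻¹ᵁ U.1) le_top a := by
    have h3 := Scheme.Hom.appLE_comp_appLE (f.fiberι η).toImage ((f.fiberι η).imageι ≫ f) ⊤ U.1
      ((f.fiberι η).toImage ⁻¹ᵁ U.1) le_top le_rfl
    rw [Scheme.Hom.appLE_eq_app] at h3
    have h4 := ConcreteCategory.congr_hom h3 a
    rw [CommRingCat.comp_apply] at h4
    rw [hφ]
    refine h4.trans ?_
    have hcomp : (f.fiberι η).toImage ≫ (f.fiberι η).imageι ≫ f = f.fiberι η ≫ f := by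
      rw [← Category.assoc, Scheme.Hom.toImage_imageι]
    exact appLE_congr_hom hcomp _ _ _ _
  rw [h2] at h1
  exact (isUnit_on_fibre A f η hη _ _ a ha0).mul_right_eq_zero.1 h1

theorem part2 {X S : Scheme.{u}} (f : X ⟶ S) [IsAffine S] (η : S)
    (hdom : IsSchemeTheoreticallyDominant (S.fromSpecResidueField η))
    (Z : Scheme.{u}) (i : Z ⟶ X) (hflat : Flat (i ≫ f)) : (f.fiberι η).ker ≤ i.ker := by
  haveI := qc_fromSpecResidueField η
  let q := S.fromSpecResidueField η
  let z₁ := pullback.fst (i ≫ f) q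
  let z₂ := pullback.snd (i ≫ f) q
  haveI : IsSchemeTheoreticallyDominant z₁ := inferInstance
  let m : pullback (i ≫ f) q ⟶ f.fiber η := pullback.lift (z₁ ≫ i) z₂
    (by rw [Category.assoc, pullback.condition])
  have hm : m ≫ f.fiberι η = z₁ ≫ i := pullback.lift_fst _ _ _
  have h1 : i.ker = (m ≫ f.fiberι η).ker := by
    rw [hm, Scheme.Hom.ker_comp, Scheme.Hom.ker_eq_bot z₁, IdealSheafData.map_bot]
  rw [h1, Scheme.Hom.ker_comp, ← IdealSheafData.map_bot]
  exact IdealSheafData.map_mono _ bot_le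

theorem closure_generic (A : Type u) [CommRing A] (x : PrimeSpectrum A) (hx : x.asIdeal = ⊥) :
    closure ({x} : Set (PrimeSpectrum A)) = Set.univ := by
  rw [PrimeSpectrum.closure_singleton, hx]
  simp

theorem dominant_generic (A : Type u) [CommRing A] [IsDomain A]
    (η : ↥(Spec (CommRingCat.of A))) (hη : η.asIdeal = ⊥) :
    IsSchemeTheoreticallyDominant ((Spec (CommRingCat.of A)).fromSpecResidueField η) := by
  haveI : IsReduced (Spec (CommRingCat.of A)) := inferInstance
  haveI : IsDominant ((Spec (CommRingCat.of A)).fromSpecResidueField η) := by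
    rw [isDominant_iff, DenseRange, Scheme.range_fromSpecResidueField, dense_iff_closure_eq]
    exact closure_generic A η hη
  exact IsSchemeTheoreticallyDominant.of_isDominant _


theorem main (A : Type u) [CommRing A] [IsDomain A]
    [IsDiscreteValuationRing A] {X : Scheme.{u}} (f : X ⟶ Spec (CommRingCat.of A))
    (η : ↥(Spec (CommRingCat.of A))) (hη : η.asIdeal = ⊥) :
    Flat ((f.fiberι η).imageι ≫ f) ∧
      ∀ (Z : Scheme.{u}) (i : Z ⟶ X), IsClosedImmersion i → Flat (i ≫ f) →
        (f.fiberι η).ker ≤ i.ker :=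
  ⟨part1 A f η hη, fun Z i _ hfl => part2 f η (dominant_generic A η hη) Z i hfl⟩

end Groth.Agent.S18266

namespace Groth.Agent.S18266

/-- Let A be a discrete valuation ring, η the generic point of Spec A, and f : X → Spec A a morphism
from an arbitrary scheme X. The scheme-theoretic closure of the generic fibre X_η in X (the flat
completion) is flat over Spec A, and it is the largest closed subscheme of X flat over Spec A: for
every closed immersion i : Z → X with Z flat over Spec A, the ideal sheaf of the flat completion is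
contained in the ideal sheaf of i. -/
theorem result (A : Type u) [CommRing A] [IsDomain A]
    [IsDiscreteValuationRing A] {X : Scheme.{u}} (f : X ⟶ Spec (CommRingCat.of A))
    (η : ↥(Spec (CommRingCat.of A))) (hη : η.asIdeal = ⊥) :
    Flat ((f.fiberι η).imageι ≫ f) ∧
      ∀ (Z : Scheme.{u}) (i : Z ⟶ X), IsClosedImmersion i → Flat (i ≫ f) → (f.fiberι η).ker ≤ i.ker := by

  exact Groth.Agent.S18266.main A f η hη

end Groth.Agent.S18266
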