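import Groth.Statements.S18267
import Mathlib
import Groth.Agent.Lib.Helper61.DimOneFib
import Groth.Agent.Lib.Helper91.FlatDedekind
import Groth.Agent.Lib.Helper69.SmoothNormalSch
import Groth.Agent.Lib.Helper7.NormField
import Groth.Agent.Lib.Helper20.PnSmooth
-- import your own Groth.Agent.* helpers here

set_option autoImplicit false
set_option linter.style.haveILetI false
set_option linter.unusedSectionVars false
set_option linter.unusedVariables false
open CategoryTheory CategoryTheory.Limits AlgebraicGeometry
open ZCorr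

namespace Groth.Agent.S18267

open CategoryTheory CategoryTheory.Limits AlgebraicGeometry Topology TopologicalSpace

section Helpers


theorem isFinite_of_proper_surj {Z C : Scheme.{0}} [IsIntegral Z] [IsIntegral C] [IsNoetherian Z]
    (p : Z ⟶ C) [IsProper p]
    (hs : Function.Surjective p) (hZ : topologicalKrullDim Z = 1) (hC : topologicalKrullDim C = 1) :
    IsFinite p := by
  have hgen : p (genericPoint Z) = genericPoint C := by
    obtain ⟨z, hz⟩ := hs (genericPoint C)
    have h1 : p (genericPoint Z) ⤳ genericPoint C := by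
      rw [← hz]; exact (genericPoint_specializes z).map p.continuous
    exact (h1.antisymm (genericPoint_specializes _)).eq
  haveI : LocallyQuasiFinite p := by
    apply LocallyQuasiFinite.of_finite_preimage_singleton
    intro c
    by_cases hc : c = genericPoint C
    · subst hc
      apply Set.Finite.subset (Set.finite_singleton (genericPoint Z))
      intro z hz
      by_contra hne
      have hzcl : IsClosed ({z} : Set Z) :=
        Groth.Agent.Lib.Helper61.DimOneFib.isClosed_singleton_of_ne_genericPoint hZ.le z hne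
      have hpz : IsClosed ({p z} : Set C) := by
        have := p.isClosedMap _ hzcl
        rwa [Set.image_singleton] at this
      have hz' : p z = genericPoint C := hz
      rw [hz'] at hpz
      exact Groth.Agent.Lib.Helper61.DimOneFib.not_isClosed_singleton_genericPoint hC hpz
    · have hccl : IsClosed ({c} : Set C) :=
        Groth.Agent.Lib.Helper61.DimOneFib.isClosed_singleton_of_ne_genericPoint hC.le c hc
      apply Groth.Agent.Lib.Helper61.DimOneFib.finite_of_isClosed_of_forall_isClosed_singleton _
        (hccl.preimage p.continuous)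
      intro z hz
      apply Groth.Agent.Lib.Helper61.DimOneFib.isClosed_singleton_of_ne_genericPoint hZ.le
      rintro rfl
      have hz' : p (genericPoint Z) = c := hz
      exact hc (hz'.symm.trans hgen)
  exact IsFinite.of_isProper_of_locallyQuasiFinite p

end Helpers

/-- Over the complex numbers, suppose C is a quasi-projective curve that is smooth and irreducible and X
is a projective variety that is smooth and irreducible; take Z to be an integral closed subscheme of
C × X of dimension one whose projection to C is surjective (a non-vertical irreducible component of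
a correspondence from C to X). Then the projection Z → C is finite and flat. -/
theorem result
    (C X : Scheme.{0}) [C.Over (Spec (CommRingCat.of ℂ))] [X.Over (Spec (CommRingCat.of ℂ))]
    [AlgebraicGeometry.IsIntegral C] [Smooth (C ↘ Spec (CommRingCat.of ℂ))] (hC : RelProj.IsHQuasiProjective (C ↘ Spec (CommRingCat.of ℂ)))
    (hdimC : topologicalKrullDim C = 1)
    [AlgebraicGeometry.IsIntegral X] [Smooth (X ↘ Spec (CommRingCat.of ℂ))] (hX : RelProj.IsHProjective (X ↘ Spec (CommRingCat.of ℂ)))
    {Z : Scheme.{0}} (i : Z ⟶ pullback (C ↘ Spec (CommRingCat.of ℂ)) (X ↘ Spec (CommRingCat.of ℂ))) [IsClosedImmersion i]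
    [AlgebraicGeometry.IsIntegral Z] (hdimZ : topologicalKrullDim Z = 1)
    (hsurj : Function.Surjective ⇑(i ≫ pullback.fst (C ↘ Spec (CommRingCat.of ℂ)) (X ↘ Spec (CommRingCat.of ℂ)))) :
    IsFinite (i ≫ pullback.fst (C ↘ Spec (CommRingCat.of ℂ)) (X ↘ Spec (CommRingCat.of ℂ))) ∧
      Flat (i ≫ pullback.fst (C ↘ Spec (CommRingCat.of ℂ)) (X ↘ Spec (CommRingCat.of ℂ))) := by
  obtain ⟨n, j, hj, hjc⟩ := hX
  haveI := hj
  haveI : IsProper (CohB1.ProjSpaceOver.toBase n (Spec (CommRingCat.of ℂ))) :=
    Groth.Agent.Lib.Helper20.PnSmooth.isProper_toBase n _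
  haveI : IsProper (X ↘ Spec (CommRingCat.of ℂ)) := by rw [← hjc]; infer_instance
  obtain ⟨m, jC, hjC1, hjC2, hjCc⟩ := hC
  haveI := hjC1
  haveI := hjC2
  haveI : IsProper (CohB1.ProjSpaceOver.toBase m (Spec (CommRingCat.of ℂ))) :=
    Groth.Agent.Lib.Helper20.PnSmooth.isProper_toBase m _
  haveI : QuasiCompact (C ↘ Spec (CommRingCat.of ℂ)) := by rw [← hjCc]; infer_instance
  haveI : IsProper (i ≫ pullback.fst (C ↘ Spec (CommRingCat.of ℂ)) (X ↘ Spec (CommRingCat.of ℂ))) :=
    inferInstance
  haveI : IsNoetherianRing (CommRingCat.of ℂ) := inferInstanceAs (IsNoetherianRing ℂ)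
  haveI : IsLocallyNoetherian C :=
    LocallyOfFiniteType.isLocallyNoetherian (C ↘ Spec (CommRingCat.of ℂ))
  haveI : CompactSpace C := QuasiCompact.compactSpace_of_compactSpace (C ↘ Spec (CommRingCat.of ℂ))
  haveI : IsLocallyNoetherian Z := LocallyOfFiniteType.isLocallyNoetherian
    (i ≫ pullback.fst (C ↘ Spec (CommRingCat.of ℂ)) (X ↘ Spec (CommRingCat.of ℂ)))
  haveI : CompactSpace Z := QuasiCompact.compactSpace_of_compactSpace
    (i ≫ pullback.fst (C ↘ Spec (CommRingCat.of ℂ)) (X ↘ Spec (CommRingCat.of ℂ)))
  haveI : IsNoetherian Z := {}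
  haveI : IsDomain (CommRingCat.of ℂ) := inferInstanceAs (IsDomain ℂ)
  haveI : IsIntegrallyClosed (CommRingCat.of ℂ) := inferInstanceAs (IsIntegrallyClosed ℂ)
  have hSpec : Pi1.IsNormalScheme (Spec (CommRingCat.of ℂ)) :=
    Groth.Agent.Lib.Helper7.NormField.isNormalScheme_Spec _
  have hCn : Pi1.IsNormalScheme C :=
    Groth.Agent.Lib.Helper69.SmoothNormalSch.isNormalScheme_of_smooth
      (C ↘ Spec (CommRingCat.of ℂ)) hSpec
  haveI : Surjective (i ≫ pullback.fst (C ↘ Spec (CommRingCat.of ℂ)) (X ↘ Spec (CommRingCat.of ℂ))) :=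
    ⟨hsurj⟩
  exact ⟨isFinite_of_proper_surj _ hsurj hdimZ hdimC,
    Groth.Agent.Lib.Helper91.FlatDedekind.flat_of_isDominant _ hdimC.le (fun y => (hCn y).2)⟩

end Groth.Agent.S18267
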