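import Groth.Statements.S18283
import Mathlib
-- import your own Groth.Agent.* helpers here

set_option autoImplicit false
universe u v
open CAlgX

namespace Groth.Agent.S18283

/-- Let A be a commutative ring, ι a finite index type, H a finite set of indices (the head indices) and
c : ι → ι → A a table of coefficients; for j ∈ H put f_j = e_j − Σ_{i ∉ H} c_{ji} e_i in the free
module A^ι, so that each f_j has head e_j with coefficient 1 and tail supported outside H. If a
submodule M of A^ι contains every f_j with j ∈ H, then M is the A-span of these f_j if and only if
every wedge product of |H|+1 elements of M vanishes in the (|H|+1)-st exterior power of A^ι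
(equivalently, every (|H|+1)-minor of every matrix whose rows lie in M vanishes). The published
statement is the case where A is a Noetherian algebra over a field of characteristic zero, A^ι is
the degree-(m+1) part of the polynomial ring over A with its basis of terms, H is the set of
degree-(m+1) terms of a strongly stable monomial ideal generated in degree m, and M is the
degree-(m+1) part of an ideal generated by a marked set on that monomial ideal; this row allows any
commutative ring and any submodule containing the marked polynomials. -/
theorem result
    {A : Type u} [CommRing A] {ι : Type v} [Fintype ι] [DecidableEq ι]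
    (H : Finset ι) (c : ι → ι → A) (M : Submodule A (ι → A))
    (hf : ∀ j ∈ H, (Pi.single j (1 : A) - ∑ i ∈ Hᶜ, c j i • Pi.single i (1 : A)) ∈ M) :
    M = Submodule.span A ((fun j => Pi.single j (1 : A) - ∑ i ∈ Hᶜ, c j i • Pi.single i (1 : A)) '' ↑H)
      ↔ ∀ v : Fin (H.card + 1) → ι → A, (∀ k, v k ∈ M) →
          exteriorPower.ιMulti A (H.card + 1) v = 0 := by
  classical
  obtain ⟨f, hfdef⟩ : ∃ f : ι → (ι → A),
      f = fun j => Pi.single j (1 : A) - ∑ i ∈ Hᶜ, c j i • Pi.single i (1 : A) := ⟨_, rfl⟩
  have hf' : ∀ j ∈ H, f j ∈ M := by
    intro j hj; rw [hfdef]; exact hf j hj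
  have himage : (fun j => Pi.single j (1 : A) - ∑ i ∈ Hᶜ, c j i • Pi.single i (1 : A)) '' ↑H
      = f '' ↑H := by rw [hfdef]
  rw [himage]
  -- values of f on H
  have hfH : ∀ j : ι, ∀ j' ∈ H, f j j' = if j = j' then 1 else 0 := by
    intro j j' hj'
    rw [hfdef]
    simp only [Pi.sub_apply, Finset.sum_apply, Pi.smul_apply, smul_eq_mul]
    have : ∑ i ∈ Hᶜ, c j i * (Pi.single i (1 : A) : ι → A) j' = 0 := by
      apply Finset.sum_eq_zero
      intro i hi
      have hne : j' ≠ i := by
        rintro rfl
        exact (Finset.mem_compl.1 hi) hj'
      rw [Pi.single_eq_of_ne hne, mul_zero]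
    rw [this, sub_zero, Pi.single_apply]
    simp only [eq_comm]
  obtain ⟨e, -⟩ : ∃ e : ↥H ≃ Fin H.card, True := ⟨H.equivFin, trivial⟩
  constructor
  · -- a module generated by `H.card` elements has vanishing higher exterior powers
    intro hM v hv
    let g : Fin H.card → (ι → A) := fun k => f (e.symm k)
    have hrange : Set.range g = f '' ↑H := by
      ext y
      constructor
      · rintro ⟨k, rfl⟩
        exact ⟨(e.symm k : ι), (e.symm k).2, rfl⟩
      · rintro ⟨j, hj, rfl⟩
        exact ⟨e ⟨j, hj⟩, by simp [g]⟩
    have hvmem : ∀ k, v k ∈ Submodule.span A (Set.range g) := by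
      intro k
      rw [hrange, ← hM]
      exact hv k
    let w : Fin (H.card + 1) → ↥(Submodule.span A (Set.range g)) := fun k => ⟨v k, hvmem k⟩
    have hvw : v = (Submodule.span A (Set.range g)).subtype ∘ w := rfl
    have hmem : exteriorPower.ιMulti A (H.card + 1) v ∈
        LinearMap.range (exteriorPower.map (H.card + 1) (Submodule.span A (Set.range g)).subtype) := by
      rw [hvw, ← exteriorPower.map_apply_ιMulti]
      exact LinearMap.mem_range_self _ _
    rw [exteriorPower.ιMulti_family_span] at hmem
    have hempty : IsEmpty (Set.powersetCard (Fin H.card) (H.card + 1)) := by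
      constructor
      rintro ⟨s, hs⟩
      have hs' : s.card = H.card + 1 := hs
      have := Finset.card_le_univ s
      rw [Fintype.card_fin] at this
      omega
    have : Set.range (exteriorPower.ιMulti_family A (H.card + 1) g) = ∅ := Set.range_eq_empty _
    rw [this, Submodule.span_empty] at hmem
    exact (Submodule.mem_bot A).1 hmem
  · intro hw
    apply le_antisymm
    · intro m hm
      -- subtract the head part
      obtain ⟨m', hm'def⟩ : ∃ m' : ι → A, m' = m - ∑ j ∈ H, m j • f j := ⟨_, rfl⟩
      have hm'M : m' ∈ M := by
        rw [hm'def]
        exact M.sub_mem hm (M.sum_mem fun j hj => M.smul_mem _ (hf' j hj))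
      have hm'H : ∀ j' ∈ H, m' j' = 0 := by
        intro j' hj'
        rw [hm'def]
        simp only [Pi.sub_apply, Finset.sum_apply, Pi.smul_apply, smul_eq_mul]
        have : ∑ j ∈ H, m j * f j j' = m j' := by
          rw [Finset.sum_eq_single j']
          · rw [hfH j' j' hj', if_pos rfl, mul_one]
          · intro j _ hne
            rw [hfH j j' hj', if_neg hne, mul_zero]
          · intro h; exact absurd hj' h
        rw [this, sub_self]
      have hm'0 : m' = 0 := by
        funext i
        by_cases hi : i ∈ H
        · exact hm'H i hi
        -- determinant argument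
        let col : Fin (H.card + 1) → ι := Fin.cons i (fun k => ((e.symm k : ↥H) : ι))
        let vv : Fin (H.card + 1) → (ι → A) := Fin.cons m' (fun k => f (e.symm k))
        have hvvM : ∀ k, vv k ∈ M := by
          intro k
          refine Fin.cases ?_ (fun k' => ?_) k
          · simpa [vv] using hm'M
          · simpa [vv] using hf' _ (e.symm k').2
        have hzero := hw vv hvvM
        let galt : (ι → A) [⋀^Fin (H.card + 1)]→ₗ[A] A :=
          (Matrix.detRowAlternating (n := Fin (H.card + 1)) (R := A)).compLinearMap
            (LinearMap.funLeft A A col)
        have hg0 : galt vv = 0 := by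
          rw [← exteriorPower.alternatingMapLinearEquiv_apply_ιMulti galt vv, hzero, map_zero]
        have hgdet : galt vv = Matrix.det (Matrix.of fun a b => vv a (col b)) := rfl
        have hlower : (Matrix.of fun a b => vv a (col b) : Matrix (Fin (H.card + 1)) (Fin (H.card + 1)) A).IsLowerTriangular := by
          intro a b hab
          have hab' : a < b := hab
          induction b using Fin.cases with
          | zero => exact absurd hab' (Fin.not_lt_zero a)
          | succ l =>
            induction a using Fin.cases with
            | zero =>
              simp only [Matrix.of_apply, vv, col, Fin.cons_zero, Fin.cons_succ]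
              exact hm'H _ (e.symm l).2
            | succ k =>
              simp only [Matrix.of_apply, vv, col, Fin.cons_succ]
              rw [hfH _ _ (e.symm l).2, if_neg]
              intro heq
              have hkl : k = l := e.symm.injective (Subtype.ext heq)
              rw [hkl] at hab'
              exact lt_irrefl _ hab'
        have hdet : Matrix.det (Matrix.of fun a b => vv a (col b)) = m' i := by
          rw [Matrix.det_of_isLowerTriangular _ hlower, Fin.prod_univ_succ]
          simp only [Matrix.of_apply, vv, col, Fin.cons_zero, Fin.cons_succ]
          rw [Finset.prod_eq_one, mul_one]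
          intro k _
          rw [hfH _ _ (e.symm k).2, if_pos rfl]
        rw [← hdet, ← hgdet, hg0]
        rfl
      have : m = ∑ j ∈ H, m j • f j := by
        have := hm'def
        rw [hm'0] at this
        exact (sub_eq_zero.1 this.symm)
      rw [this]
      exact Submodule.sum_mem _ fun j hj =>
        Submodule.smul_mem _ _ (Submodule.subset_span ⟨j, hj, rfl⟩)
    · exact Submodule.span_le.2 (by rintro _ ⟨j, hj, rfl⟩; exact hf' j hj)

end Groth.Agent.S18283
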