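import Groth.Statements.S18285
-- import your own Groth.Agent.* helpers here
import Groth.Agent.Lib.Helper40.MagnetDense

set_option autoImplicit false
universe u
open CategoryTheory MonoidalCategory CartesianMonoidalCategory MonObj AlgebraicGeometry Opposite
open Magnet

namespace Groth.Agent.S18285

/-- Let X be an S-scheme separated over S with an action of the diagonalizable monoid scheme A(M)_S of a
commutative monoid M, and N a submonoid of M. Then the canonical map from the attractor X^N to X
(evaluation at the unit section of A(N)_S) is a monomorphism: for every S-scheme T it is injective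
on T-points. (The published statement allows X to be an algebraic space over S; here X is a scheme.) -/
theorem result (S : Scheme.{u}) (M : Type) [AddCommMonoid M]
    (X : Over S) [IsSeparated X.hom] (a : Magnet.MonAct (Magnet.AMonS S M) X) (N : AddSubmonoid M) (T : Over S) :
    Function.Injective (fun φ => (Magnet.attrToX a N).app (op T) φ) := by
  intro φ₁ φ₂ h
  have h' : lift (toUnit T ≫ η[AMonS S N]) (𝟙 T) ≫ φ₁.1 =
      lift (toUnit T ≫ η[AMonS S N]) (𝟙 T) ≫ φ₂.1 := h
  apply Subtype.ext
  haveI := Groth.Agent.Lib.Helper40.MagnetDense.dominant_AMonS_map_whiskerRight S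
    N.subtype (fun x y hxy => Subtype.ext hxy) T
  apply Groth.Agent.Lib.Helper40.MagnetDense.eq_of_dominant_comp_eq (AMonS.map S N.subtype ▷ T)
  have e1 := Groth.Agent.Lib.Helper40.MagnetDense.whiskerRight_comp_eq_of_mem_eqvHom
    (AMonS.map S N.subtype) a φ₁.1 φ₁.2
  have e2 := Groth.Agent.Lib.Helper40.MagnetDense.whiskerRight_comp_eq_of_mem_eqvHom
    (AMonS.map S N.subtype) a φ₂.1 φ₂.2
  exact e1.trans ((congrArg (fun x => (AMonS S M ◁ x) ≫ a.act) h').trans e2.symm)

end Groth.Agent.S18285
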