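import Groth.Statements.S18286
-- import your own Groth.Agent.* helpers here
import Groth.Agent.Lib.Helper40.MagnetDense

set_option autoImplicit false
universe u
open CategoryTheory MonoidalCategory CartesianMonoidalCategory MonObj AlgebraicGeometry Opposite
open Magnet

namespace Groth.Agent.S18286

/-- Let Y be an S-scheme affine over S with an action of the diagonalizable monoid scheme A(M)_S of a
commutative monoid M, let f : Z → Y be an equivariant closed immersion (for an action of A(M)_S on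
Z), and let N ⊆ M be a submonoid (magnet). Then Z^N = Z ×_Y Y^N: the square of functors on S-schemes
formed by f^N : Z^N → Y^N, the canonical maps Z^N → Z and Y^N → Y (evaluation at the unit section)
and f is cartesian. -/
theorem result (S : Scheme.{u}) (M : Type) [AddCommMonoid M]
    (N : AddSubmonoid M) (Y Z : Over S) [IsAffineHom Y.hom] (aY : Magnet.MonAct (Magnet.AMonS S M) Y)
    (aZ : Magnet.MonAct (Magnet.AMonS S M) Z) (f : Z ⟶ Y) [IsClosedImmersion f.left]
    (hf : Magnet.MonAct.IsEquivariant aZ aY f) :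
    IsPullback (Magnet.MonAct.eqvHom.postcomp (Magnet.subAct S M N) f hf) (Magnet.attrToX aZ N)
      (Magnet.attrToX aY N) (yoneda.map f) := by
  haveI hfmono : Mono f := Groth.Agent.Lib.Helper40.DenseFactor.mono_of_isClosedImmersion_left f
  have hf' : aZ.act ≫ f = (AMonS S M ◁ f) ≫ aY.act := hf
  apply IsPullback.of_forall_isPullback_app
  intro T
  rw [CategoryTheory.Limits.Types.isPullback_iff]
  refine ⟨?_, ?_, ?_⟩
  · refine ConcreteCategory.hom_ext _ _ fun φ => ?_
    change lift (toUnit (unop T) ≫ η[AMonS S N]) (𝟙 (unop T)) ≫ (φ.1 ≫ f) =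
      (lift (toUnit (unop T) ≫ η[AMonS S N]) (𝟙 (unop T)) ≫ φ.1) ≫ f
    rw [Category.assoc]
  · rintro φ₁ φ₂ ⟨h1, -⟩
    apply Subtype.ext
    have h1' : φ₁.1 ≫ f = φ₂.1 ≫ f := congrArg Subtype.val h1
    exact (cancel_mono f).mp h1'
  · intro φ z hz
    have hz' : lift (toUnit (unop T) ≫ η[AMonS S N]) (𝟙 (unop T)) ≫ φ.1 = z ≫ f := hz
    have hφ := φ.2
    obtain ⟨ψ, hψdef⟩ : ∃ ψ : AMonS S M ⊗ unop T ⟶ Z, ψ = (AMonS S M ◁ z) ≫ aZ.act := ⟨_, rfl⟩
    have h : (AMonS.map S N.subtype ▷ unop T) ≫ φ.1 = ψ ≫ f := by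
      refine (Groth.Agent.Lib.Helper40.MagnetDense.whiskerRight_comp_eq_of_mem_eqvHom
        (AMonS.map S N.subtype) aY φ.1 hφ).trans ?_
      rw [hz', hψdef, MonoidalCategory.whiskerLeft_comp, Category.assoc, Category.assoc, hf']
    haveI := Groth.Agent.Lib.Helper40.MagnetDense.dominant_AMonS_map_whiskerRight S
      N.subtype (fun x y hxy => Subtype.ext hxy) (unop T)
    obtain ⟨χ, hχ⟩ := Groth.Agent.Lib.Helper40.DenseFactor.exists_factor_over
      (AMonS.map S N.subtype ▷ unop T) f φ.1 ψ h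
    have hχeq : Magnet.MonAct.IsEquivariant
        ((Magnet.subAct S M N).prod (Magnet.MonAct.trivial (AMonS S M) (unop T))) aZ χ := by
      change _ ≫ χ = (AMonS S M ◁ χ) ≫ aZ.act
      rw [← cancel_mono f, Category.assoc, hχ, Category.assoc, hf',
        ← Category.assoc (AMonS S M ◁ χ), ← MonoidalCategory.whiskerLeft_comp, hχ]
      exact hφ
    refine ⟨⟨χ, hχeq⟩, Subtype.ext hχ, ?_⟩
    change lift (toUnit (unop T) ≫ η[AMonS S N]) (𝟙 (unop T)) ≫ χ = z
    rw [← cancel_mono f, Category.assoc, hχ, hz']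

end Groth.Agent.S18286
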