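import Groth.Statements.S18288
-- import your own Groth.Agent.* helpers here
import Groth.Agent.Lib.Helper40.MagnetDense

set_option autoImplicit false
universe u
open CategoryTheory MonoidalCategory CartesianMonoidalCategory MonObj AlgebraicGeometry Opposite
open Magnet

namespace Groth.Agent.S18288

/-- Let M be a commutative monoid with an injective homomorphism f : M → Z into a commutative group Z
(so M is cancellative; the published statement takes Z to be the group completion of M, and the same
argument applies to any such Z), let Y be a submonoid of Z contained in the image of M, and let X be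
an S-scheme separated over S with an action of the diagonalizable monoid scheme A(M)_S. Regard X as
a D(Z)_S-scheme through D(Z)_S → A(M)_S. Then the canonical map of attractors X^{f⁻¹Y ⊂ M} → X^{Y ⊂
Z} is an isomorphism: a D(Z)_S-equivariant family out of A(Y)_S is automatically A(M)_S-equivariant.
(The published statement allows X to be an algebraic space; here X is a scheme.) -/
theorem result (S : Scheme.{u}) (M Z : Type) [AddCommMonoid M]
    [AddCommGroup Z] (f : M →+ Z) (hf : Function.Injective f) (Y : AddSubmonoid Z)
    (hY : Y ≤ AddMonoidHom.mrange f) (X : Over S) [IsSeparated X.hom]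
    (a : Magnet.MonAct (Magnet.AMonS S M) X) :
    IsIso (Magnet.attrComap a f Y) := by
  have hg : Function.Bijective ((f.comp (Y.comap f).subtype).codRestrict Y (fun x => x.2)) := by
    constructor
    · intro x y hxy
      exact Subtype.ext (hf (congrArg Subtype.val hxy))
    · intro y
      obtain ⟨m, hm⟩ := hY y.2
      exact ⟨⟨m, by show f m ∈ Y; rw [hm]; exact y.2⟩, Subtype.ext hm⟩
  haveI hkiso : IsIso (AMonS.map S ((f.comp (Y.comap f).subtype).codRestrict Y (fun x => x.2))) :=
    Groth.Agent.Lib.Helper40.MagnetDense.isIso_AMonS_map S _ hg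
  have hkeq : Magnet.MonAct.IsEquivariant (Magnet.subAct S Z Y)
      ((Magnet.subAct S M (Y.comap f)).restrict (AMonS.map S f))
      (AMonS.map S ((f.comp (Y.comap f).subtype).codRestrict Y (fun x => x.2))) := by
    rw [Magnet.subAct, Magnet.subAct, Magnet.MonAct.restrict_restrict]
    exact Magnet.MonAct.isEquivariant_restrict_regular _ _ _
      (by rw [← AMonS.map_comp, ← AMonS.map_comp]; rfl)
  have hkinv := Groth.Agent.Lib.Helper40.MagnetDense.isEquivariant_inv _ hkeq
  rw [NatTrans.isIso_iff_isIso_app]
  intro T
  rw [CategoryTheory.isIso_iff_bijective]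
  constructor
  · intro φ₁ φ₂ h
    apply Subtype.ext
    have h' : (AMonS.map S ((f.comp (Y.comap f).subtype).codRestrict Y (fun x => x.2)) ▷ unop T) ≫
        φ₁.1 = (AMonS.map S ((f.comp (Y.comap f).subtype).codRestrict Y (fun x => x.2)) ▷
          unop T) ≫ φ₂.1 := congrArg Subtype.val h
    exact (cancel_epi _).mp h'
  · intro ψ
    obtain ⟨φ₀, hφ₀⟩ : ∃ φ₀ : (Magnet.MonAct.eqvHom
        ((Magnet.subAct S M (Y.comap f)).restrict (AMonS.map S f))
        (a.restrict (AMonS.map S f))).obj T,
        φ₀ = (Magnet.MonAct.eqvHom.precomp (a.restrict (AMonS.map S f)) _ hkinv).app T ψ :=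
      ⟨_, rfl⟩
    have hφ₀1 : φ₀.1 =
        (inv (AMonS.map S ((f.comp (Y.comap f).subtype).codRestrict Y (fun x => x.2))) ▷ unop T) ≫
          ψ.1 := by rw [hφ₀]; rfl
    have hE : Magnet.MonAct.IsEquivariant
        ((Magnet.subAct S M (Y.comap f)).prod (Magnet.MonAct.trivial (AMonS S M) (unop T))) a φ₀.1 := by
      refine Groth.Agent.Lib.Helper40.MagnetDense.isEquivariant_of_restrict (AMonS.map S f)
        (Magnet.subAct S M (Y.comap f)) a φ₀.1 φ₀.2 ?_
      intro u v huv
      haveI := Groth.Agent.Lib.Helper40.MagnetDense.dominant_AMonS_map_whiskerRight S f hf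
        (AMonS S (Y.comap f) ⊗ unop T)
      exact Groth.Agent.Lib.Helper40.MagnetDense.eq_of_dominant_comp_eq _ huv
    refine ⟨⟨φ₀.1, hE⟩, Subtype.ext ?_⟩
    show (AMonS.map S ((f.comp (Y.comap f).subtype).codRestrict Y (fun x => x.2)) ▷ unop T) ≫ φ₀.1 =
      ψ.1
    rw [hφ₀1, ← MonoidalCategory.comp_whiskerRight_assoc, IsIso.hom_inv_id,
      MonoidalCategory.id_whiskerRight, Category.id_comp]

end Groth.Agent.S18288
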