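import Groth.Statements.S18295
import Groth.Agent.Lib.Helper16.AttrMain

set_option autoImplicit false
universe u
open CategoryTheory MonoidalCategory CartesianMonoidalCategory MonObj AlgebraicGeometry Opposite
open Magnet

namespace Groth.Agent.S18295

/-- Let X be an S-scheme affine over S with an action of the diagonalizable monoid scheme A(M)_S of a
commutative monoid M, and N a submonoid (magnet) of M. Then X^N is represented by a closed subscheme
Z of X: there are a closed immersion i : Z → X over S and an isomorphism of the functor of points of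
Z with X^N under which the canonical map X^N → X (evaluation at the unit section) is composition
with i. (Over an affine base the ideal of Z is generated by the homogeneous components of degree
outside N; that description is a separate statement.) -/
theorem result (S : Scheme.{u}) (M : Type)
    [AddCommMonoid M] (N : AddSubmonoid M) (X : Over S) [IsAffineHom X.hom]
    (a : Magnet.MonAct (Magnet.AMonS S M) X) :
    ∃ (Z : Over S) (i : Z ⟶ X) (e : (Magnet.attr a N).RepresentableBy Z), IsClosedImmersion i.left ∧
      ∀ (T : Over S) (z : T ⟶ Z), (Magnet.attrToX a N).app (op T) (e.homEquiv z) = z ≫ i := by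
  obtain ⟨Z, j, hcl, hZ⟩ := Lib.Helper16.AttrMain.exists_closed_attr M N a
  haveI : IsClosedImmersion j.left := hcl
  haveI : Mono j := (Over.forget S).mono_of_mono_map (inferInstanceAs (Mono j.left))
  haveI : IsSeparated X.hom := inferInstance
  have hepi : ∀ (T : Over S) (φ₁ φ₂ : Magnet.AMonS S ↥N ⊗ T ⟶ X),
      ((Magnet.AMonS.map S N.subtype) ▷ T) ≫ φ₁ = ((Magnet.AMonS.map S N.subtype) ▷ T) ≫ φ₂ →
        φ₁ = φ₂ :=
    fun T φ₁ φ₂ h => Lib.Helper16.AttrGeom.hepi M N T φ₁ φ₂ h
  obtain ⟨e, he⟩ := Lib.Helper16.ExtCat.exists_representableBy (Magnet.AMonS.map S N.subtype) a j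
    hepi (Lib.Helper16.AttrCover.hepi2_of_hepi (Magnet.AMonS.map S N.subtype) hepi)
    (fun x => hZ x)
  exact ⟨Z, j, e, hcl, he⟩

end Groth.Agent.S18295
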