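import Groth.Statements.S18299
import Groth.Agent.Lib.Helper16.FprDescent

set_option autoImplicit false
universe u
open CategoryTheory MonoidalCategory CartesianMonoidalCategory MonObj AlgebraicGeometry Opposite
open Magnet

namespace Groth.Agent.S18299

/-- Let Q be a commutative group, X and U S-schemes with actions of the diagonalizable group scheme
D(Q)_S, and f : U → X an equivariant morphism over S which is étale and surjective and fixed-point
reflecting: the square formed by the fixed-point functors U^{D(Q)} → X^{D(Q)} over U → X is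
cartesian (an FPR atlas). If the fixed-point functor of U is represented by a closed subscheme of U
— which holds when U is a disjoint union of D(Q)_S-stable S-affine schemes, by the affine
representability of attractors — then the fixed-point functor of X is represented by a closed
subscheme of X, compatibly with its inclusion into X. (In the source Q = M/Z for a subgroup Z of a
commutative group M acting through D(M)_S, the fixed points of D(M/Z)_S being the attractor X^Z, and
X may be an algebraic space; here X is a scheme.) -/
theorem result (S : Scheme.{u}) (Q : Type)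
    [AddCommGroup Q] (X U : Over S) (aX : AlgGrp.Action (Red.DS S Q) X) (aU : AlgGrp.Action (Red.DS S Q) U)
    (f : U ⟶ X) [Etale f.left] [Surjective f.left]
    (hf : Magnet.MonAct.IsEquivariant (Magnet.MonAct.ofAction aU) (Magnet.MonAct.ofAction aX) f)
    (hfpr : IsPullback (Magnet.MonAct.fixedPsh.map f hf) (Magnet.MonAct.fixedPshι (Magnet.MonAct.ofAction aU))
      (Magnet.MonAct.fixedPshι (Magnet.MonAct.ofAction aX)) (yoneda.map f))
    (hU : ∃ (W' : Over S) (i' : W' ⟶ U) (e' : (Magnet.MonAct.fixedPsh (Magnet.MonAct.ofAction aU)).RepresentableBy W'),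
      IsClosedImmersion i'.left ∧ ∀ (T : Over S) (w : T ⟶ W'),
        (Magnet.MonAct.fixedPshι (Magnet.MonAct.ofAction aU)).app (op T) (e'.homEquiv w) = w ≫ i') :
    ∃ (W : Over S) (i : W ⟶ X) (e : (Magnet.MonAct.fixedPsh (Magnet.MonAct.ofAction aX)).RepresentableBy W),
      IsClosedImmersion i.left ∧ ∀ (T : Over S) (w : T ⟶ W),
        (Magnet.MonAct.fixedPshι (Magnet.MonAct.ofAction aX)).app (op T) (e.homEquiv w) = w ≫ i := by
  obtain ⟨W', i', e', hcl, he'⟩ := hU
  haveI := hcl
  have hfixU : ∀ {T : Over S} (u : T ⟶ U), Lib.Helper16.FprDescent.Fix (Magnet.MonAct.ofAction aU) u ↔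
      ∃ w : T ⟶ W', w ≫ i' = u :=
    fun u => Lib.Helper16.FprDescent.fix_iff_of_representableBy i' e' he' u
  have hI' := fun {T : Over S} (u : T ⟶ U) =>
    Lib.Helper16.FprDescent.fix_iff_factors i' hfixU u
  have hfpr' : ∀ {T : Over S} (u : T ⟶ U),
      Lib.Helper16.FprDescent.Fix (Magnet.MonAct.ofAction aX) (u ≫ f) →
      Lib.Helper16.FprDescent.Fix (Magnet.MonAct.ofAction aU) u :=
    fun u h => Lib.Helper16.FprDescent.fix_of_fpr hf hfpr u h
  obtain ⟨W, i, hi, hW⟩ := Lib.Helper16.FprDescent.exists_fixed_closed hf i'.left.ker hI' hfpr'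
    f.left.isOpenMap
  haveI := hi
  haveI : Mono i.left := inferInstance
  haveI : Mono i := Over.mono_of_mono_left i
  obtain ⟨e, he⟩ := Lib.Helper16.FprDescent.exists_representableBy i hW
  exact ⟨W, i, e, hi, he⟩

end Groth.Agent.S18299
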