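import Groth.Statements.S18301
-- import your own Groth.Agent.* helpers here

set_option autoImplicit false
universe v₁ u₁
open CategoryTheory MonoidalCategory CartesianMonoidalCategory MonObj Opposite
open Magnet Magnet.MonAct

namespace Groth.Agent.S18301

/-- Let A be a monoid object of a cartesian monoidal category acting on B and on a group object X by
group endomorphisms, i.e. the multiplication of X is equivariant for the diagonal action on X × X
(in the source A = A(M)_S, B = A(N)_S and X is a group S-space). Then X^N is a group functor: for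
every T the equivariant maps B × T → X are closed under pointwise inversion in the group of maps
into X (closure under products and the unit being the monoid case). -/
theorem act_mul {C : Type u₁} [Category.{v₁} C]
    [CartesianMonoidalCategory C] {A X : C} [MonObj A] [MonObj X] (a : Magnet.MonAct A X)
    (hμ : Magnet.MonAct.IsEquivariant (a.prod a) a μ[X]) {T : C} (g : T ⟶ A) (x y : T ⟶ X) :
    lift g (x * y) ≫ a.act = (lift g x ≫ a.act) * (lift g y ≫ a.act) := by
  rw [isEquivariant_iff] at hμ
  have h := hμ T g (lift x y)
  rw [lift_prod_act_assoc, ← Hom.mul_def, ← Hom.mul_def] at h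
  exact h.symm

theorem result {C : Type u₁} [Category.{v₁} C]
    [CartesianMonoidalCategory C] {A B X : C} [MonObj A] [GrpObj X] (ρ : Magnet.MonAct A B) (a : Magnet.MonAct A X)
    (hμ : Magnet.MonAct.IsEquivariant (a.prod a) a μ[X]) (T : C) (φ : B ⊗ T ⟶ X)
    (hφ : Magnet.MonAct.IsEquivariant (ρ.prod (Magnet.MonAct.trivial A T)) a φ) :
    Magnet.MonAct.IsEquivariant (ρ.prod (Magnet.MonAct.trivial A T)) a φ⁻¹ := by
  rw [mem_eqvHom_iff] at hφ ⊢
  intro T' g b t
  rw [GrpObj.comp_inv, GrpObj.comp_inv, hφ]
  set x : T' ⟶ X := lift b t ≫ φ with hx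
  -- g • 1 = 1
  have h1 : lift g (1 : T' ⟶ X) ≫ a.act = 1 := by
    have h := act_mul a hμ g (1 : T' ⟶ X) 1
    rw [_root_.mul_one] at h
    exact (mul_eq_left.1 h.symm)
  have h2 : (lift g x ≫ a.act) * (lift g x⁻¹ ≫ a.act) = 1 := by
    rw [← act_mul a hμ, mul_inv_cancel, h1]
  exact (eq_inv_of_mul_eq_one_right h2).symm

end Groth.Agent.S18301
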