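import Groth.Statements.S1831
import Mathlib
import Groth.Agent.Lib.Helper95.Hexagon

set_option autoImplicit false
universe u v
open CycAlg

namespace Groth.Agent.S1831

open CycAlg Lib.Helper95.Hexagon Lib.Helper95.LengthT

section abstract

variable {R : Type u} [CommRing R] {M : Type v} [AddCommGroup M] [Module R M]

theorem exact_A (β γ π θ π' θ' : M →ₗ[R] M) (c1 : π ∘ₗ LinearMap.id = π' ∘ₗ β)
    (c2 : θ ∘ₗ π' = LinearMap.id ∘ₗ γ) (c3 : π' ∘ₗ β = LinearMap.id ∘ₗ π)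
    (c4 : θ' ∘ₗ LinearMap.id = β ∘ₗ θ) :
    Function.Exact (Hmap β γ π θ LinearMap.id π' c1 c2) (Hmap π θ π' θ' β LinearMap.id c3 c4) := by
  intro z
  obtain ⟨x, rfl⟩ := Submodule.Quotient.mk_surjective _ z
  constructor
  · intro hz
    rw [Hmap_mk, Submodule.Quotient.mk_eq_zero, mem_sub, fK_coe] at hz
    obtain ⟨y, hy⟩ := hz
    have h4 : θ' y = β (θ y) := LinearMap.congr_fun c4 y
    have hw : β (x.1 - θ y) = 0 := by rw [map_sub, ← h4, hy, sub_self]
    refine ⟨Submodule.Quotient.mk ⟨x.1 - θ y, hw⟩, ?_⟩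
    rw [Hmap_mk, Submodule.Quotient.eq, mem_sub]
    refine ⟨-y, ?_⟩
    rw [map_neg]
    change -θ y = (x.1 - θ y) - x.1
    abel
  · rintro ⟨w, hw⟩
    obtain ⟨x₁, rfl⟩ := Submodule.Quotient.mk_surjective _ w
    rw [← hw, Hmap_mk, Hmap_mk]
    have : fK π π' β LinearMap.id c3 (fK β π LinearMap.id π' c1 x₁) = 0 :=
      Subtype.ext (by change β (x₁.1) = 0; exact x₁.2)
    rw [this, Submodule.Quotient.mk_zero]

theorem exact_B (π θ π₂ ψ₂ ρ α g : M →ₗ[R] M) (c1 : π₂ ∘ₗ α = LinearMap.id ∘ₗ π)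
    (c2 : ψ₂ ∘ₗ LinearMap.id = α ∘ₗ θ) (c3 : ρ ∘ₗ LinearMap.id = g ∘ₗ π₂)
    (c4 : α ∘ₗ g = LinearMap.id ∘ₗ ψ₂) :
    Function.Exact (Hmap π θ π₂ ψ₂ α LinearMap.id c1 c2) (Hmap π₂ ψ₂ ρ α LinearMap.id g c3 c4) := by
  intro z
  obtain ⟨x, rfl⟩ := Submodule.Quotient.mk_surjective _ z
  constructor
  · intro hz
    rw [Hmap_mk, Submodule.Quotient.mk_eq_zero, mem_sub, fK_coe] at hz
    obtain ⟨y, hy⟩ := hz
    have hy' : α y = x.1 := hy
    have h1 : π₂ (α y) = π y := LinearMap.congr_fun c1 y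
    have hyk : π y = 0 := by rw [← h1, hy']; exact x.2
    refine ⟨Submodule.Quotient.mk ⟨y, hyk⟩, ?_⟩
    rw [Hmap_mk]
    congr 1
    exact Subtype.ext hy'
  · rintro ⟨w, hw⟩
    obtain ⟨y, rfl⟩ := Submodule.Quotient.mk_surjective _ w
    rw [← hw, Hmap_mk, Hmap_mk, Submodule.Quotient.mk_eq_zero, mem_sub]
    exact ⟨y.1, rfl⟩

/-- length of the cohomology `ker φ^p / im φ^q` -/
noncomputable def L (φ : M →ₗ[R] M) (p q : ℕ) : ℕ∞ := Module.length R (perH (φ ^ p) (φ ^ q))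

theorem cA (φ : M →ₗ[R] M) (a b c : ℕ) (h : a + b = c) :
    (φ ^ c) ∘ₗ LinearMap.id = (φ ^ a) ∘ₗ (φ ^ b) := by
  rw [LinearMap.comp_id, ← h, pow_add]; rfl

theorem cB (φ : M →ₗ[R] M) (a b c : ℕ) (h : a + b = c) :
    (φ ^ a) ∘ₗ (φ ^ b) = LinearMap.id ∘ₗ (φ ^ c) := by
  rw [LinearMap.id_comp, ← h, pow_add]; rfl

theorem hex (φ : M →ₗ[R] M) (i k s : ℕ) (h : i + k = s) :
    L φ (i + 1) k ≤ L φ 1 s + L φ i (k + 1) ∧ L φ k (i + 1) ≤ L φ s 1 + L φ (k + 1) i ∧
      L φ (i + 1) k + L φ s 1 + L φ (k + 1) i = L φ 1 s + L φ i (k + 1) + L φ k (i + 1) := by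
  -- the six maps
  have a1 := cA φ i 1 (i + 1) rfl
  have a2 := cB φ k i s (by omega)
  have b1 := cB φ i 1 (i + 1) rfl
  have b2 := cA φ 1 k (k + 1) (by omega)
  have d1 := cA φ k i s (by omega)
  have d2 := cB φ 1 k (k + 1) (by omega)
  have e1 := cB φ k i s (by omega)
  have e2 := cA φ i 1 (i + 1) rfl
  have f1 := cA φ 1 k (k + 1) (by omega)
  have f2 := cB φ i 1 (i + 1) rfl
  have g1 := cB φ 1 k (k + 1) (by omega)
  have g2 := cA φ k i s (by omega)
  have E1 := exact_A (φ ^ 1) (φ ^ s) (φ ^ (i + 1)) (φ ^ k) (φ ^ i) (φ ^ (k + 1)) a1 a2 b1 b2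
  have E2 := exact_B (φ ^ (i + 1)) (φ ^ k) (φ ^ i) (φ ^ (k + 1)) (φ ^ s) (φ ^ 1) (φ ^ k) b1 b2 d1 d2
  have E3 := exact_A (φ ^ i) (φ ^ (k + 1)) (φ ^ s) (φ ^ 1) (φ ^ k) (φ ^ (i + 1)) d1 d2 e1 e2
  have E4 := exact_B (φ ^ s) (φ ^ 1) (φ ^ k) (φ ^ (i + 1)) (φ ^ (k + 1)) (φ ^ i) (φ ^ 1) e1 e2 f1 f2
  have E5 := exact_A (φ ^ k) (φ ^ (i + 1)) (φ ^ (k + 1)) (φ ^ i) (φ ^ 1) (φ ^ s) f1 f2 g1 g2
  have E6 := exact_B (φ ^ (k + 1)) (φ ^ i) (φ ^ 1) (φ ^ s) (φ ^ (i + 1)) (φ ^ k) (φ ^ i) g1 g2 a1 a2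
  have L1 := length_eq_range_add_range E6
  have L2 := length_eq_range_add_range E1
  have L3 := length_eq_range_add_range E2
  have L4 := length_eq_range_add_range E3
  have L5 := length_eq_range_add_range E4
  have L6 := length_eq_range_add_range E5
  have le1 : Module.length R (LinearMap.range
      (Hmap (φ ^ 1) (φ ^ s) (φ ^ (i + 1)) (φ ^ k) LinearMap.id (φ ^ i) a1 a2)) ≤ L φ 1 s :=
    Module.length_le_of_surjective (LinearMap.rangeRestrict _) (LinearMap.surjective_rangeRestrict _)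
  have le2 : Module.length R (LinearMap.range
      (Hmap (φ ^ (i + 1)) (φ ^ k) (φ ^ i) (φ ^ (k + 1)) (φ ^ 1) LinearMap.id b1 b2)) ≤
      L φ i (k + 1) :=
    Module.length_le_of_injective (Submodule.subtype _) (Submodule.subtype_injective _)
  have le4 : Module.length R (LinearMap.range
      (Hmap (φ ^ s) (φ ^ 1) (φ ^ k) (φ ^ (i + 1)) (φ ^ i) LinearMap.id e1 e2)) ≤ L φ s 1 :=
    Module.length_le_of_surjective (LinearMap.rangeRestrict _) (LinearMap.surjective_rangeRestrict _)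
  have le5 : Module.length R (LinearMap.range
      (Hmap (φ ^ k) (φ ^ (i + 1)) (φ ^ (k + 1)) (φ ^ i) LinearMap.id (φ ^ 1) f1 f2)) ≤
      L φ (k + 1) i :=
    Module.length_le_of_injective (Submodule.subtype _) (Submodule.subtype_injective _)
  unfold L at *
  refine ⟨?_, ?_, ?_⟩
  · rw [L2]; exact add_le_add le1 le2
  · rw [L5]; exact add_le_add le4 le5
  · rw [L1, L2, L3, L4, L5, L6]; ring

end abstract

section zero

variable {R : Type u} [CommRing R] {M : Type v} [AddCommGroup M] [Module R M]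

theorem L_zero_left (φ : M →ₗ[R] M) (q : ℕ) : L φ 0 q = 0 := by
  unfold L
  rw [Module.length_eq_zero_iff]
  have hsub : Subsingleton (LinearMap.ker (φ ^ 0)) := by
    refine ⟨fun x y => ?_⟩
    apply Subtype.ext
    have hx : (φ ^ 0) x.1 = 0 := x.2
    have hy : (φ ^ 0) y.1 = 0 := y.2
    have h0 : ∀ z : M, (φ ^ 0) z = z := fun z => by rw [pow_zero]; rfl
    rw [h0] at hx hy
    rw [hx, hy]
  infer_instance

theorem L_zero_right (φ : M →ₗ[R] M) (p : ℕ) : L φ p 0 = 0 := by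
  unfold L
  rw [Module.length_eq_zero_iff, Submodule.Quotient.subsingleton_iff, eq_top_iff]
  intro x _
  rw [mem_sub, pow_zero]
  exact ⟨x.1, rfl⟩

end zero

/-- If φ is an endomorphism of M with φ^n = 0 (n > 0) and ker φ / im φ^(n-1) has finite length, then for
each 0 ≤ i ≤ n the (2,1)-periodic complex (M, φ^i, φ^(n-i)) has finite-length cohomology modules and
its Herbrand quotient vanishes. -/
theorem result {R : Type u} [CommRing R] {M : Type v} [AddCommGroup M] [Module R M] (φ : M →ₗ[R] M) (n : ℕ) (hn : 0 < n) (hφ : φ ^ n = 0) (hfin : Module.length R (CycAlg.perH φ (φ ^ (n - 1))) < ⊤) (i : ℕ) (hi : i ≤ n) : CycAlg.FinCoh R (φ ^ i) (φ ^ (n - i)) ∧ CycAlg.herbrand R (φ ^ i) (φ ^ (n - i)) = 0 := by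
  have key : ∀ a b : ℕ∞, a + b < ⊤ ↔ a < ⊤ ∧ b < ⊤ := fun a b => WithTop.add_lt_top
  have h1 : L φ 1 (n - 1) < ⊤ := by
    unfold L
    rw [pow_one]
    exact hfin
  -- finiteness of H⁰
  have P : ∀ j : ℕ, j ≤ n → L φ j (n - j) < ⊤ := by
    intro j
    induction j with
    | zero => intro _; rw [L_zero_left]; exact WithTop.top_pos
    | succ j ih =>
      intro hj
      have hx := (hex φ j (n - (j + 1)) (n - 1) (by omega)).1
      have e : n - (j + 1) + 1 = n - j := by omega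
      rw [e] at hx
      exact lt_of_le_of_lt hx ((key _ _).mpr ⟨h1, ih (by omega)⟩)
  have Q : ∀ j : ℕ, j ≤ n → L φ (n - j) j < ⊤ := by
    intro j hj
    have := P (n - j) (by omega)
    rwa [Nat.sub_sub_self hj] at this
  -- the relation e_j = j * e_1
  have E : ∀ j : ℕ, j ≤ n → ((L φ j (n - j)).toNat : ℤ) - ((L φ (n - j) j).toNat : ℤ) =
      j * (((L φ 1 (n - 1)).toNat : ℤ) - ((L φ (n - 1) 1).toNat : ℤ)) := by
    intro j
    induction j with
    | zero =>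
      intro _
      rw [L_zero_left, Nat.sub_zero, L_zero_right]
      simp
    | succ j ih =>
      intro hj
      have hx := (hex φ j (n - (j + 1)) (n - 1) (by omega)).2.2
      have e : n - (j + 1) + 1 = n - j := by omega
      rw [e] at hx
      have ih' := ih (by omega)
      have f1 := P (j + 1) hj
      have f2 := Q (j + 1) hj
      have f3 := P j (by omega)
      have f4 := Q j (by omega)
      have f5 := P 1 (by omega)
      have f6 := Q 1 (by omega)
      generalize L φ (j + 1) (n - (j + 1)) = B0 at *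
      generalize L φ (n - (j + 1)) (j + 1) = B1 at *
      generalize L φ j (n - j) = C0 at *
      generalize L φ (n - j) j = C1 at *
      generalize L φ 1 (n - 1) = A0 at *
      generalize L φ (n - 1) 1 = A1 at *
      lift B0 to ℕ using f1.ne
      lift B1 to ℕ using f2.ne
      lift C0 to ℕ using f3.ne
      lift C1 to ℕ using f4.ne
      lift A0 to ℕ using f5.ne
      lift A1 to ℕ using f6.ne
      simp only [ENat.toNat_natCast] at ih' ⊢
      have hx' : B0 + A1 + C1 = A0 + C0 + B1 := by exact_mod_cast hx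
      push_cast
      have hx'' : (B0 : ℤ) + A1 + C1 = A0 + C0 + B1 := by exact_mod_cast hx'
      linear_combination hx'' + ih'
  have En := E n le_rfl
  rw [Nat.sub_self, L_zero_right, L_zero_left] at En
  have e1 : ((L φ 1 (n - 1)).toNat : ℤ) - ((L φ (n - 1) 1).toNat : ℤ) = 0 := by
    have hn' : (n : ℤ) ≠ 0 := by exact_mod_cast hn.ne'
    have : (n : ℤ) * (((L φ 1 (n - 1)).toNat : ℤ) - ((L φ (n - 1) 1).toNat : ℤ)) = 0 := by
      rw [← En]; simp
    rcases mul_eq_zero.mp this with h | h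
    · exact absurd h hn'
    · exact h
  refine ⟨⟨P i hi, Q i hi⟩, ?_⟩
  have Ei := E i hi
  rw [e1, mul_zero] at Ei
  exact Ei

end Groth.Agent.S1831
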