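import Groth.Statements.S1832
import Mathlib

set_option autoImplicit false
universe u v
open Pointwise
open CycAlg

namespace Groth.Agent.S1832

theorem finLen_of_supportDim_le_zero {R : Type*} [CommRing R] [IsNoetherianRing R] (P : Type*)
    [AddCommGroup P] [Module R P] [Module.Finite R P] (h : Module.supportDim R P ≤ 0) :
    IsFiniteLength R P := by
  rw [Module.supportDim_eq_ringKrullDim_quotient_annihilator] at h
  have hA : IsArtinianRing (R ⧸ Module.annihilator R P) := by
    rw [isArtinianRing_iff_krullDimLE_zero, Ring.KrullDimLE, Order.krullDimLE_iff, ← ringKrullDim]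
    exact h
  let _i1 : Module (R ⧸ Module.annihilator R P) P := Module.quotientAnnihilator
  have _i2 : IsScalarTower R (R ⧸ Module.annihilator R P) P := inferInstance
  have _i3 : Module.Finite (R ⧸ Module.annihilator R P) P :=
    Module.Finite.of_restrictScalars_finite R _ P
  have _i4 : IsArtinian (R ⧸ Module.annihilator R P) P := inferInstance
  have _i5 : IsArtinian R P :=
    isArtinian_of_surjective_algebraMap (R := R ⧸ Module.annihilator R P)
      Ideal.Quotient.mk_surjective
  rw [isFiniteLength_iff_isNoetherian_isArtinian]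
  exact ⟨inferInstance, inferInstance⟩

theorem finLen_of_kill {R : Type*} [CommRing R] [IsNoetherianRing R] {M : Type*} [AddCommGroup M]
    [Module R M] [Module.Finite R M] (x : R)
    (h : Module.supportDim R (M ⧸ x • (⊤ : Submodule R M)) ≤ 0)
    (P : Type*) [AddCommGroup P] [Module R P] [Module.Finite R P]
    (hx : ∀ p : P, x • p = 0)
    (hann : ∀ r : R, (∀ m : M, r • m = 0) → ∀ p : P, r • p = 0) :
    Module.length R P < ⊤ := by
  rw [lt_top_iff_ne_top, Module.length_ne_top_iff]
  apply finLen_of_supportDim_le_zero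
  refine le_trans ?_ h
  have key : ∀ a : PrimeSpectrum R, a ∈ Module.support R P →
      a ∈ Module.support R (QuotSMulTop x M) := by
    intro a ha
    rw [Module.support_quotSMulTop]
    rw [Module.mem_support_iff_of_finite] at ha
    refine ⟨Module.mem_support_iff_of_finite.mpr (le_trans ?_ ha), ?_⟩
    · intro r hr
      rw [Module.mem_annihilator] at hr ⊢
      exact hann r hr
    · rw [PrimeSpectrum.mem_zeroLocus, Set.singleton_subset_iff]
      apply ha
      rw [Module.mem_annihilator]
      exact hx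
  exact Order.krullDim_le_of_strictMono (f := fun a => ⟨a.1, key a.1 a.2⟩) (fun a b hab => hab)

section gen
variable {R : Type*} [CommRing R] {M : Type*} [AddCommGroup M] [Module R M]

/-- length of `V / (U ∩ V)` -/
noncomputable def lenQ (U V : Submodule R M) : ℕ∞ := Module.length R (↥V ⧸ U.submoduleOf V)

theorem lenQ_tower {U V W : Submodule R M} (hUV : U ≤ V) (hVW : V ≤ W) :
    lenQ U W = lenQ U V + lenQ V W := by
  unfold lenQ
  let f : (↥V ⧸ U.submoduleOf V) →ₗ[R] (↥W ⧸ U.submoduleOf W) :=
    Submodule.mapQ _ _ (Submodule.inclusion hVW) (by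
      intro v hv
      exact hv)
  let g : (↥W ⧸ U.submoduleOf W) →ₗ[R] (↥W ⧸ V.submoduleOf W) :=
    Submodule.mapQ _ _ LinearMap.id (by
      intro w hw
      exact hUV hw)
  have hf : Function.Injective f := by
    rw [← LinearMap.ker_eq_bot, LinearMap.ker_eq_bot']
    intro a ha
    obtain ⟨v, rfl⟩ := Submodule.mkQ_surjective _ a
    rw [Submodule.mkQ_apply] at ha ⊢
    rw [Submodule.Quotient.mk_eq_zero]
    have ha' : Submodule.Quotient.mk (p := U.submoduleOf W) (Submodule.inclusion hVW v) = 0 := ha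
    rw [Submodule.Quotient.mk_eq_zero] at ha'
    exact ha'
  have hg : Function.Surjective g := by
    intro b
    obtain ⟨w, rfl⟩ := Submodule.mkQ_surjective _ b
    exact ⟨Submodule.Quotient.mk w, rfl⟩
  have hfg : Function.Exact f g := by
    intro b
    constructor
    · intro hb
      obtain ⟨w, rfl⟩ := Submodule.mkQ_surjective _ b
      have hb' : Submodule.Quotient.mk (p := V.submoduleOf W) w = 0 := hb
      rw [Submodule.Quotient.mk_eq_zero] at hb'
      exact ⟨Submodule.Quotient.mk ⟨w.1, hb'⟩, rfl⟩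
    · rintro ⟨a, rfl⟩
      obtain ⟨v, rfl⟩ := Submodule.mkQ_surjective _ a
      change Submodule.Quotient.mk (p := V.submoduleOf W) (Submodule.inclusion hVW v) = 0
      rw [Submodule.Quotient.mk_eq_zero]
      exact v.2
  exact Module.length_eq_add_of_exact f g hf hg hfg

theorem len_eq_of_surj {A C : Type*} [AddCommGroup A] [Module R A] [AddCommGroup C] [Module R C]
    (S : Submodule R A) (q : A →ₗ[R] C) (hq : Function.Surjective q)
    (hker : LinearMap.ker q = S) : Module.length R (A ⧸ S) = Module.length R C := by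
  subst hker
  exact (LinearMap.quotKerEquivOfSurjective q hq).length_eq

theorem piece1 (φ ψ : M →ₗ[R] M) (hper : IsPeriodic φ ψ) (x : R) :
    Module.length R (perH (x • φ) ψ) = Module.length R (perH φ ψ) +
      Module.length R (perH (x • LinearMap.id : ↥(LinearMap.range φ) →ₗ[R] ↥(LinearMap.range φ)) 0) := by
  have h1 : LinearMap.range ψ ≤ LinearMap.ker φ := by
    rintro _ ⟨m, rfl⟩
    exact LinearMap.congr_fun hper.1 m
  have h2 : LinearMap.ker φ ≤ LinearMap.ker (x • φ) := by
    intro m hm
    rw [LinearMap.mem_ker] at hm ⊢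
    rw [LinearMap.smul_apply, hm, smul_zero]
  have := lenQ_tower h1 h2
  unfold lenQ at this
  change Module.length R (↥(LinearMap.ker (x • φ)) ⧸
    (LinearMap.range ψ).submoduleOf (LinearMap.ker (x • φ))) = _
  rw [this]
  congr 1
  let T : ↥(LinearMap.range φ) →ₗ[R] ↥(LinearMap.range φ) := x • LinearMap.id
  let φ' : ↥(LinearMap.ker (x • φ)) →ₗ[R] ↥(LinearMap.ker T) :=
    LinearMap.codRestrict _ (φ.rangeRestrict.comp (Submodule.subtype _)) (by
      intro m
      rw [LinearMap.mem_ker]
      apply Subtype.ext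
      have := m.2
      rw [LinearMap.mem_ker, LinearMap.smul_apply] at this
      simpa [T] using this)
  let q := (Submodule.mkQ ((LinearMap.range (0 : ↥(LinearMap.range φ) →ₗ[R] ↥(LinearMap.range φ))).submoduleOf
    (LinearMap.ker T))).comp φ'
  apply len_eq_of_surj _ q
  · apply Function.Surjective.comp (Submodule.mkQ_surjective _)
    rintro ⟨⟨n, m, rfl⟩, hn⟩
    refine ⟨⟨m, ?_⟩, ?_⟩
    · rw [LinearMap.mem_ker] at hn ⊢
      have := congrArg Subtype.val hn
      simpa [T] using this
    · apply Subtype.ext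
      apply Subtype.ext
      rfl
  · ext m
    rw [LinearMap.mem_ker]
    change Submodule.Quotient.mk (φ' m) = 0 ↔ _
    rw [Submodule.Quotient.mk_eq_zero]
    change (φ' m : ↥(LinearMap.range φ)) ∈ LinearMap.range
      (0 : ↥(LinearMap.range φ) →ₗ[R] ↥(LinearMap.range φ)) ↔ (m : M) ∈ LinearMap.ker φ
    rw [LinearMap.range_zero, Submodule.mem_bot, LinearMap.mem_ker]
    constructor
    · intro h; exact congrArg Subtype.val h
    · intro h; exact Subtype.ext h

theorem piece2 (φ ψ : M →ₗ[R] M) (hper : IsPeriodic φ ψ) (x : R) :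
    Module.length R (perH ψ (x • φ)) =
      Module.length R (perH (0 : ↥(LinearMap.range φ) →ₗ[R] ↥(LinearMap.range φ)) (x • LinearMap.id))
      + Module.length R (perH ψ φ) := by
  have h1 : LinearMap.range (x • φ) ≤ LinearMap.range φ := by
    rintro _ ⟨m, rfl⟩
    exact ⟨x • m, by simp⟩
  have h2 : LinearMap.range φ ≤ LinearMap.ker ψ := by
    rintro _ ⟨m, rfl⟩
    exact LinearMap.congr_fun hper.2 m
  have := lenQ_tower h1 h2
  unfold lenQ at this
  change Module.length R (↥(LinearMap.ker ψ) ⧸
    (LinearMap.range (x • φ)).submoduleOf (LinearMap.ker ψ)) = _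
  rw [this]
  congr 1
  let T : ↥(LinearMap.range φ) →ₗ[R] ↥(LinearMap.range φ) := x • LinearMap.id
  let Z : ↥(LinearMap.range φ) →ₗ[R] ↥(LinearMap.range φ) := 0
  let ι : ↥(LinearMap.range φ) →ₗ[R] ↥(LinearMap.ker Z) :=
    LinearMap.codRestrict _ LinearMap.id (by
      intro m
      rw [LinearMap.mem_ker]
      rfl)
  let q := (Submodule.mkQ ((LinearMap.range T).submoduleOf (LinearMap.ker Z))).comp ι
  apply len_eq_of_surj _ q
  · apply Function.Surjective.comp (Submodule.mkQ_surjective _)
    rintro ⟨n, hn⟩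
    exact ⟨n, rfl⟩
  · ext n
    rw [LinearMap.mem_ker]
    change Submodule.Quotient.mk (ι n) = 0 ↔ _
    rw [Submodule.Quotient.mk_eq_zero]
    change n ∈ LinearMap.range T ↔ (n : M) ∈ LinearMap.range (x • φ)
    constructor
    · rintro ⟨n', hn'⟩
      obtain ⟨m, hm⟩ := n'.2
      refine ⟨m, ?_⟩
      have := congrArg Subtype.val hn'
      change x • (n' : M) = n at this
      rw [LinearMap.smul_apply, hm, this]
    · rintro ⟨m, hm⟩
      refine ⟨⟨φ m, m, rfl⟩, ?_⟩
      apply Subtype.ext
      change x • φ m = n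
      rw [← hm, LinearMap.smul_apply]

end gen

theorem fin_pieces {R : Type*} [CommRing R] [IsNoetherianRing R] {M : Type*} [AddCommGroup M]
    [Module R M] [Module.Finite R M] (φ : M →ₗ[R] M) (x : R)
    (h : Module.supportDim R (M ⧸ x • (⊤ : Submodule R M)) ≤ 0) :
    Module.length R (perH (x • LinearMap.id : ↥(LinearMap.range φ) →ₗ[R] ↥(LinearMap.range φ)) 0) < ⊤
    ∧ Module.length R (perH (0 : ↥(LinearMap.range φ) →ₗ[R] ↥(LinearMap.range φ)) (x • LinearMap.id)) < ⊤ := by
  have _i : IsNoetherian R M := inferInstance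
  constructor
  · apply finLen_of_kill x h
    · intro p
      obtain ⟨n, rfl⟩ := Submodule.mkQ_surjective _ p
      rw [← map_smul]
      have : x • n = 0 := by
        apply Subtype.ext
        exact LinearMap.mem_ker.mp n.2
      rw [this, map_zero]
    · intro r hr p
      obtain ⟨n, rfl⟩ := Submodule.mkQ_surjective _ p
      rw [← map_smul]
      have : r • n = 0 := by
        apply Subtype.ext
        apply Subtype.ext
        simpa using hr n.1.1
      rw [this, map_zero]
  · apply finLen_of_kill x h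
    · intro p
      obtain ⟨n, rfl⟩ := Submodule.mkQ_surjective _ p
      rw [← map_smul, Submodule.mkQ_apply, Submodule.Quotient.mk_eq_zero]
      exact ⟨n.1, by simp⟩
    · intro r hr p
      obtain ⟨n, rfl⟩ := Submodule.mkQ_surjective _ p
      rw [← map_smul]
      have : r • n = 0 := by
        apply Subtype.ext
        apply Subtype.ext
        simpa using hr n.1.1
      rw [this, map_zero]

theorem partA {R : Type*} [CommRing R] [IsNoetherianRing R] {M : Type*} [AddCommGroup M]
    [Module R M] [Module.Finite R M] (φ ψ : M →ₗ[R] M) (hper : IsPeriodic φ ψ)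
    (hfin : FinCoh R φ ψ) (x : R)
    (hx : Module.supportDim R (M ⧸ x • (⊤ : Submodule R M)) ≤ 0) :
    FinCoh R (x • φ) ψ ∧ herbrand R (x • φ) ψ = herbrand R φ ψ -
      herbrand R (0 : ↥(LinearMap.range φ) →ₗ[R] ↥(LinearMap.range φ)) (x • LinearMap.id) := by
  obtain ⟨f1, f2⟩ := fin_pieces φ x hx
  obtain ⟨g1, g2⟩ := hfin
  have p1 := piece1 φ ψ hper x
  have p2 := piece2 φ ψ hper x
  have key : ∀ a b : ℕ∞, a + b < ⊤ ↔ a < ⊤ ∧ b < ⊤ := fun a b => WithTop.add_lt_top
  refine ⟨⟨?_, ?_⟩, ?_⟩
  · rw [p1, key]; exact ⟨g1, f1⟩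
  · rw [p2, key]; exact ⟨f2, g2⟩
  · unfold herbrand
    rw [p1, p2]
    generalize Module.length R (perH φ ψ) = a at *
    generalize Module.length R (perH ψ φ) = b at *
    generalize Module.length R (perH (x • LinearMap.id : ↥(LinearMap.range φ) →ₗ[R] ↥(LinearMap.range φ)) 0) = c at *
    generalize Module.length R (perH (0 : ↥(LinearMap.range φ) →ₗ[R] ↥(LinearMap.range φ)) (x • LinearMap.id)) = d at *
    lift a to ℕ using g1.ne
    lift b to ℕ using g2.ne
    lift c to ℕ using f1.ne
    lift d to ℕ using f2.ne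
    have e1 : ((a : ℕ∞) + (c : ℕ∞)).toNat = a + c := by
      rw [← Nat.cast_add, ENat.toNat_natCast]
    have e2 : ((d : ℕ∞) + (b : ℕ∞)).toNat = d + b := by
      rw [← Nat.cast_add, ENat.toNat_natCast]
    rw [e1, e2]
    simp only [ENat.toNat_natCast]
    push_cast
    ring

/-- Over a Noetherian local ring, let (M, φ, ψ) be a (2,1)-periodic complex with M finite and cohomology
of finite length, and let x be a ring element with M/xM supported in dimension ≤ 0. Then (M, xφ, ψ)
and (M, φ, xψ) again have finite-length cohomology, and their Herbrand quotients differ from that of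
(M, φ, ψ) by the Herbrand quotient of (im φ, 0, x), respectively (im ψ, 0, x). -/
theorem result {R : Type u} [CommRing R] [IsNoetherianRing R] [IsLocalRing R] {M : Type v} [AddCommGroup M] [Module R M] [Module.Finite R M] (φ ψ : M →ₗ[R] M) (hper : CycAlg.IsPeriodic φ ψ) (hfin : CycAlg.FinCoh R φ ψ) (x : R) (hx : Module.supportDim R (M ⧸ x • (⊤ : Submodule R M)) ≤ 0) : (CycAlg.FinCoh R (x • φ) ψ ∧ CycAlg.herbrand R (x • φ) ψ = CycAlg.herbrand R φ ψ - CycAlg.herbrand R (0 : ↥(LinearMap.range φ) →ₗ[R] ↥(LinearMap.range φ)) (x • LinearMap.id)) ∧ (CycAlg.FinCoh R φ (x • ψ) ∧ CycAlg.herbrand R φ (x • ψ) = CycAlg.herbrand R φ ψ + CycAlg.herbrand R (0 : ↥(LinearMap.range ψ) →ₗ[R] ↥(LinearMap.range ψ)) (x • LinearMap.id)) := by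
  refine ⟨partA φ ψ hper hfin x hx, ?_⟩
  have hB := partA ψ φ ⟨hper.2, hper.1⟩ ⟨hfin.2, hfin.1⟩ x hx
  refine ⟨⟨hB.1.2, hB.1.1⟩, ?_⟩
  have h1 : herbrand R φ (x • ψ) = - herbrand R (x • ψ) φ := by unfold herbrand; ring
  have h2 : herbrand R φ ψ = - herbrand R ψ φ := by unfold herbrand; ring
  rw [h1, hB.2, h2]
  ring

end Groth.Agent.S1832
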