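import Groth.Statements.S18329
import Groth.Agent.Lib.Helper17.IdemTensor
import Mathlib.RingTheory.HopfAlgebra.Convolution

set_option autoImplicit false
universe u
open TensorProduct
open SGA3

namespace Groth.Agent.S18329

section aux

open Groth.Agent.Lib.Helper75 Groth.Agent.Lib.Helper17.IdemTensor

variable {k A : Type u} [Field k] [CommRing A] [Algebra k A]

theorem mem_range_map_val_iff (D : Subalgebra k A) (x : A ⊗[k] A) :
    x ∈ LinearMap.range (TensorProduct.map D.val.toLinearMap D.val.toLinearMap) ↔
      (∀ f : A →ₗ[k] k, contractR A f x ∈ D) ∧ (∀ φ : A →ₗ[k] k, contractL A φ x ∈ D) := by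
  have h := mem_range_map_iff (Subalgebra.toSubmodule D) (Subalgebra.toSubmodule D) x
  exact h

theorem mem_range_inf (D₁ D₂ : Subalgebra k A) (x : A ⊗[k] A)
    (h1 : x ∈ LinearMap.range (TensorProduct.map D₁.val.toLinearMap D₁.val.toLinearMap))
    (h2 : x ∈ LinearMap.range (TensorProduct.map D₂.val.toLinearMap D₂.val.toLinearMap)) :
    x ∈ LinearMap.range
      (TensorProduct.map (D₁ ⊓ D₂).val.toLinearMap (D₁ ⊓ D₂).val.toLinearMap) := by
  rw [mem_range_map_val_iff] at h1 h2 ⊢
  exact ⟨fun f => Algebra.mem_inf.2 ⟨h1.1 f, h2.1 f⟩, fun φ => Algebra.mem_inf.2 ⟨h1.2 φ, h2.2 φ⟩⟩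

theorem isSeparable_algHom {B : Type u} [CommRing B] [Algebra k B] (g : A →ₐ[k] B) {a : A}
    (ha : IsSeparable k a) : IsSeparable k (g a) := by
  have h1 : Polynomial.aeval (g a) (minpoly k a) = 0 := by
    rw [Polynomial.aeval_algHom_apply, minpoly.aeval, map_zero]
  exact Polynomial.Separable.of_dvd ha (minpoly.dvd k (g a) h1)

end aux

/-- Let k be an algebraically closed field of prime characteristic p and A a commutative Hopf algebra
over k, the coordinate ring of an affine k-group G, quotient groups of G being read as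
sub-Hopf-algebras of A (subalgebras stable under comultiplication and antipode). Let B₀ be the
subalgebra of elements of A that are separable over k (its spectrum is the group of connected
components π₀(G)) and let C be the largest cocommutative sub-Hopf-algebra of A (its spectrum is the
largest commutative quotient group G_ab). Then B₀ ⊓ C, whose spectrum is π₀(G_ab), is the largest
cocommutative sub-Hopf-algebra of A contained in B₀, whose spectrum is the largest commutative
quotient of π₀(G): the canonical homomorphism from π₀(G_ab) to (π₀(G))_ab is an isomorphism. (The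
abelianization is rendered through its universal property among affine quotient groups, as the
largest cocommutative sub-Hopf-algebra, rather than as the quotient by the derived subgroup.) -/
theorem result (k A : Type u) [Field k] [IsAlgClosed k]
    (p : ℕ) [Fact p.Prime] [CharP k p] [CommRing A] [HopfAlgebra k A]
    (B₀ : Subalgebra k A) (hB₀ : ∀ a : A, a ∈ B₀ ↔ IsSeparable k a)
    (C : Subalgebra k A) (hC : SGA3.IsHopfSubalgebra k A C)
    (hCc : ∀ c ∈ C, TensorProduct.comm k A A (Coalgebra.comul c) = Coalgebra.comul c)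
    (hCmax : ∀ D : Subalgebra k A, SGA3.IsHopfSubalgebra k A D →
      (∀ d ∈ D, TensorProduct.comm k A A (Coalgebra.comul d) = Coalgebra.comul d) → D ≤ C) :
    IsGreatest {D : Subalgebra k A | SGA3.IsHopfSubalgebra k A D ∧
      (∀ d ∈ D, TensorProduct.comm k A A (Coalgebra.comul d) = Coalgebra.comul d) ∧ D ≤ B₀}
      (B₀ ⊓ C) := by
  classical
  have hidem : ∀ e : A, IsIdempotentElem e → e ∈ B₀ := fun e he =>
    (hB₀ e).2 (Groth.Agent.Lib.Helper17.IdemTensor.isSeparable_of_isIdempotentElem he)
  have hΔidem : ∀ e : A, IsIdempotentElem e → CoalgebraStruct.comul (R := k) (A := A) e ∈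
      LinearMap.range (TensorProduct.map B₀.val.toLinearMap B₀.val.toLinearMap) := by
    intro e he
    have hE : IsIdempotentElem (Bialgebra.comulAlgHom k A e) := he.map _
    have hmem := Groth.Agent.Lib.Helper17.IdemTensor.mem_spanTmul (k := k) _ hE
    refine (Submodule.span_le.2 ?_) hmem
    rintro _ ⟨e1, f1, he1, hf1, rfl⟩
    exact ⟨(⟨e1, hidem e1 he1⟩ : B₀) ⊗ₜ[k] (⟨f1, hidem f1 hf1⟩ : B₀), by simp⟩
  have hΔspan : ∀ a ∈ Groth.Agent.Lib.Helper17.IdemTensor.spanIdem k A,
      CoalgebraStruct.comul (R := k) (A := A) a ∈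
        LinearMap.range (TensorProduct.map B₀.val.toLinearMap B₀.val.toLinearMap) := by
    intro a ha
    unfold Groth.Agent.Lib.Helper17.IdemTensor.spanIdem at ha
    induction ha using Submodule.span_induction with
    | mem x hx => exact hΔidem x hx
    | zero => rw [map_zero]; exact Submodule.zero_mem _
    | add x y _ _ hx hy => rw [map_add]; exact Submodule.add_mem _ hx hy
    | smul c x _ hx => rw [map_smul]; exact Submodule.smul_mem _ c hx
  have hΔB₀ : ∀ a ∈ B₀, CoalgebraStruct.comul (R := k) (A := A) a ∈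
      LinearMap.range (TensorProduct.map B₀.val.toLinearMap B₀.val.toLinearMap) := fun a ha =>
    hΔspan a (Groth.Agent.Lib.Helper17.IdemTensor.mem_spanIdem_of_isSeparable a ((hB₀ a).1 ha))
  refine ⟨⟨⟨?_, ?_⟩, ?_, inf_le_left⟩, ?_⟩
  · intro b hb
    obtain ⟨hb1, hb2⟩ := Algebra.mem_inf.1 hb
    exact mem_range_inf B₀ C _ (hΔB₀ b hb1) (hC.1 b hb2)
  · intro b hb
    obtain ⟨hb1, hb2⟩ := Algebra.mem_inf.1 hb
    refine Algebra.mem_inf.2 ⟨?_, hC.2 b hb2⟩
    rw [hB₀]
    exact isSeparable_algHom (HopfAlgebra.antipodeAlgHom k A) ((hB₀ b).1 hb1)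
  · intro d hd
    exact hCc d (Algebra.mem_inf.1 hd).2
  · intro D hD
    exact le_inf hD.2.2 (hCmax D hD.1 hD.2.1)

end Groth.Agent.S18329
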