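import Groth.Statements.S18330
import Mathlib
-- import your own Groth.Agent.* helpers here

set_option autoImplicit false
open CAlg

namespace Groth.Agent.S18330

section PRE

lemma gcd_basis_vec {r : ℕ} (bM : Module.Basis (Fin r) ℤ (Fin r → ℤ)) (j : Fin r) :
    Finset.univ.gcd (bM j) = 1 := by
  obtain ⟨q, hq⟩ : ∃ q, q = Finset.univ.gcd (bM j) := ⟨_, rfl⟩
  rw [← hq]
  have hdiv : ∀ i, q ∣ bM j i := fun i => hq ▸ Finset.gcd_dvd (Finset.mem_univ i)
  choose w' hw' using hdiv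
  have hw : bM j = q • w' := by
    funext i; rw [hw' i]; rfl
  have h1 := congrArg (fun x => bM.repr x j) hw
  simp only [Module.Basis.repr_self, Finsupp.single_eq_same, map_smul, Finsupp.smul_apply,
    smul_eq_mul] at h1
  have hu : IsUnit q := IsUnit.of_mul_eq_one _ h1.symm
  have hn : normalize q = q := by rw [hq]; exact Finset.normalize_gcd
  rw [← hn]
  exact normalize_eq_one.mpr hu

lemma exists_basis (r : ℕ) (hr : 0 < r) (d : Fin r → ℤ) :
    ∃ v : Module.Basis (Fin r) ℤ (Fin r → ℤ), d = (Finset.univ.gcd d) • v ⟨0, hr⟩ := by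
  by_cases hd : d = 0
  · refine ⟨Pi.basisFun ℤ (Fin r), ?_⟩
    subst hd
    have : Finset.univ.gcd (0 : Fin r → ℤ) = 0 := by
      rw [Finset.gcd_eq_zero_iff]; intro x _; rfl
    rw [this, zero_smul]
  · obtain ⟨n, snf⟩ := Submodule.smithNormalForm (Pi.basisFun ℤ (Fin r)) (Submodule.span ℤ {d})
    have hn : n = 1 := by
      have e := LinearEquiv.toSpanNonzeroSingleton ℤ (Fin r → ℤ) d hd
      have h1 : Module.finrank ℤ (Submodule.span ℤ {d}) = 1 := by
        rw [← e.finrank_eq, Module.finrank_self]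
      have h2 := Module.finrank_eq_card_basis snf.bN
      rw [Fintype.card_fin] at h2
      omega
    subst hn
    have hdmem : d ∈ Submodule.span ℤ {d} := Submodule.subset_span rfl
    have h3 := snf.bN.sum_repr ⟨d, hdmem⟩
    rw [Fin.sum_univ_one] at h3
    have h4 := congrArg Subtype.val h3
    rw [Submodule.coe_smul, snf.snf, smul_smul] at h4
    obtain ⟨m, hm⟩ : ∃ m : ℤ, m = snf.bN.repr ⟨d, hdmem⟩ 0 * snf.a 0 := ⟨_, rfl⟩
    rw [← hm] at h4
    have h4' : d = m • snf.bM (snf.f 0) := h4.symm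
    obtain ⟨bM, hbM⟩ : ∃ b, b = snf.bM := ⟨_, rfl⟩
    obtain ⟨j, hj⟩ : ∃ j, j = snf.f 0 := ⟨_, rfl⟩
    rw [← hbM, ← hj] at h4'
    clear hm h4 h3 hbM hj hdmem snf
    subst h4'
    have hgcd : Finset.univ.gcd (m • bM j) = |m| := by
      have : m • bM j = fun i => m * bM j i := by
        funext i; simp
      rw [this, Finset.gcd_mul_left, gcd_basis_vec, mul_one, Int.abs_eq_normalize]
    rcases abs_choice m with h | h
    · refine ⟨bM.reindex (Equiv.swap j ⟨0, hr⟩), ?_⟩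
      rw [hgcd, h, Module.Basis.reindex_apply, Equiv.symm_swap, Equiv.swap_apply_right]
    · refine ⟨(bM.unitsSMul (fun _ => -1)).reindex (Equiv.swap j ⟨0, hr⟩), ?_⟩
      rw [hgcd, h, Module.Basis.reindex_apply, Equiv.symm_swap, Equiv.swap_apply_right,
        Module.Basis.unitsSMul_apply]
      simp


lemma cast_eq_zero_iff (δ : ℕ) (a : ℤ) (x : ZMod δ) (h : Int.gcd δ a ∣ δ) :
    ZMod.castHom h (ZMod (Int.gcd δ a)) x = 0 ↔ ∃ s : ℤ, x = ((a * s : ℤ) : ZMod δ) := by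
  obtain ⟨n, rfl⟩ := ZMod.intCast_surjective x
  rw [map_intCast, CharP.intCast_eq_zero_iff (ZMod (Int.gcd δ a)) (Int.gcd δ a)]
  constructor
  · rintro ⟨q, hq⟩
    refine ⟨Int.gcdB δ a * q, ?_⟩
    have hb := Int.gcd_eq_gcd_ab (δ:ℤ) a
    have : n = a * (Int.gcdB δ a * q) + δ * (Int.gcdA δ a * q) := by rw [hq, hb]; ring
    rw [this]; push_cast; simp
  · rintro ⟨s, hs⟩
    have h0 := (ZMod.intCast_eq_intCast_iff_dvd_sub _ _ δ).mp hs
    have h1 : (Int.gcd δ a : ℤ) ∣ δ := Int.gcd_dvd_left ..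
    have h2 : (Int.gcd δ a : ℤ) ∣ a := Int.gcd_dvd_right ..
    have : n = a * s - (a * s - n) := by ring
    rw [this]; exact dvd_sub (h2.mul_right s) (h1.trans h0)

lemma cast_eq_zero_iff₂ (δ : ℕ) (D g : ℤ) (x : ZMod δ)
    (h : Int.gcd δ (Int.gcd (g - 1) D) ∣ δ) :
    ZMod.castHom h (ZMod (Int.gcd δ (Int.gcd (g - 1) D))) x = 0 ↔
      ∃ s t : ℤ, x = ((D * s + (1 - g) * t : ℤ) : ZMod δ) := by
  rw [cast_eq_zero_iff]
  constructor
  · rintro ⟨s₀, rfl⟩
    have hb := Int.gcd_eq_gcd_ab (g - 1) D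
    refine ⟨Int.gcdB (g - 1) D * s₀, - Int.gcdA (g - 1) D * s₀, ?_⟩
    rw [hb]
    congr 1
    ring
  · rintro ⟨s, t, rfl⟩
    obtain ⟨p, hp⟩ : (Int.gcd (g - 1) D : ℤ) ∣ g - 1 := Int.gcd_dvd_left ..
    obtain ⟨q, hq⟩ : (Int.gcd (g - 1) D : ℤ) ∣ D := Int.gcd_dvd_right ..
    refine ⟨q * s - p * t, ?_⟩
    congr 1
    linear_combination s * hq - t * hp

section main
variable {n : ℕ} (v : Module.Basis (Fin (n + 1)) ℤ (Fin (n + 1) → ℤ)) (δ : ℕ) (g D : ℤ)

/-- the set of generators -/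
def gens (d : Fin (n + 1) → ℤ) : Set ((Fin (n + 1) → ℤ) →+ ZMod δ) :=
  {φ | ∃ b : LinearMap.BilinForm ℤ (Fin (n + 1) → ℤ), b.IsSymm ∧
      ∀ x, φ x = ((b d x + (1 - g) * b x x : ℤ) : ZMod δ)}

lemma dvd₁ : Int.gcd δ (D + 1 - g) ∣ δ := by
  have := Int.gcd_dvd_left (δ : ℤ) (D + 1 - g)
  exact_mod_cast this

lemma dvd₂ : Int.gcd δ (Int.gcd (g - 1) D) ∣ δ := by
  have := Int.gcd_dvd_left (δ : ℤ) (Int.gcd (g - 1) D)
  exact_mod_cast this

/-- the quotient map -/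
noncomputable def F : ((Fin (n + 1) → ℤ) →+ ZMod δ) →+
    ZMod (Int.gcd δ (D + 1 - g)) × (Fin n → ZMod (Int.gcd δ (Int.gcd (g - 1) D))) where
  toFun φ := (ZMod.castHom (dvd₁ δ g D) _ (φ (v 0)),
    fun i => ZMod.castHom (dvd₂ δ g D) _ (φ (v i.succ)))
  map_zero' := by ext <;> simp
  map_add' φ ψ := by
    ext <;> simp only [AddMonoidHom.add_apply, map_add, Prod.fst_add, Prod.snd_add, Pi.add_apply]

lemma F_surj : Function.Surjective (F v δ g D) := by
  rintro ⟨u, w⟩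
  obtain ⟨u', hu'⟩ := ZMod.castHom_surjective (dvd₁ δ g D) u
  have hw' := fun i => ZMod.castHom_surjective (dvd₂ δ g D) (w i)
  choose w' hw' using hw'
  refine ⟨(v.constr ℤ (Fin.cons u' w' : Fin (n + 1) → ZMod δ)).toAddMonoidHom, ?_⟩
  refine Prod.ext ?_ (funext fun (i : Fin n) => ?_)
  · show ZMod.castHom _ _ ((v.constr ℤ (Fin.cons u' w' : Fin (n + 1) → ZMod δ)) (v 0)) = u
    rw [Module.Basis.constr_basis, Fin.cons_zero, hu']
  · show ZMod.castHom _ _ ((v.constr ℤ (Fin.cons u' w' : Fin (n + 1) → ZMod δ)) (v i.succ)) = w i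
    rw [Module.Basis.constr_basis, Fin.cons_succ, hw']

lemma mem_ker_F (φ : (Fin (n + 1) → ℤ) →+ ZMod δ) :
    φ ∈ (F v δ g D).ker ↔ (∃ s : ℤ, φ (v 0) = (((D + 1 - g) * s : ℤ) : ZMod δ)) ∧
      ∀ i : Fin n, ∃ s t : ℤ, φ (v i.succ) = ((D * s + (1 - g) * t : ℤ) : ZMod δ) := by
  rw [AddMonoidHom.mem_ker]
  show (ZMod.castHom (dvd₁ δ g D) _ (φ (v 0)),
    fun i : Fin n => ZMod.castHom (dvd₂ δ g D) _ (φ (v i.succ))) = 0 ↔ _
  rw [Prod.mk_eq_zero, cast_eq_zero_iff, funext_iff]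
  simp only [Pi.zero_apply, cast_eq_zero_iff₂]


lemma gens_sub_ker (d : Fin (n + 1) → ℤ) (hd : d = D • v 0) :
    gens δ g d ⊆ ((F v δ g D).ker : Set ((Fin (n + 1) → ℤ) →+ ZMod δ)) := by
  rintro φ ⟨b, -, hb⟩
  rw [SetLike.mem_coe, mem_ker_F]
  constructor
  · refine ⟨b (v 0) (v 0), ?_⟩
    rw [hb, hd, map_smul, LinearMap.smul_apply]
    congr 1
    simp only [smul_eq_mul]; ring
  · intro i
    refine ⟨b (v 0) (v i.succ), b (v i.succ) (v i.succ), ?_⟩
    rw [hb, hd, map_smul, LinearMap.smul_apply]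
    rfl

lemma ker_sub_gens (hδ : (δ : ℤ) ∣ 2 * (g - 1)) (d : Fin (n + 1) → ℤ) (hd : d = D • v 0) :
    ((F v δ g D).ker : Set ((Fin (n + 1) → ℤ) →+ ZMod δ)) ⊆ gens δ g d := by
  intro φ hφ
  rw [SetLike.mem_coe, mem_ker_F] at hφ
  obtain ⟨⟨s, hs⟩, h2⟩ := hφ
  choose S T hST using h2
  let M : Matrix (Fin (n + 1)) (Fin (n + 1)) ℤ := fun j k =>
    if j = k then (Fin.cons s T : Fin (n + 1) → ℤ) j
    else if j = 0 then (Fin.cons 0 S : Fin (n + 1) → ℤ) k
    else if k = 0 then (Fin.cons 0 S : Fin (n + 1) → ℤ) j else 0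
  have hMsymm : M.IsSymm := by
    ext j k
    simp only [Matrix.transpose_apply, M]
    by_cases hjk : j = k
    · subst hjk; rfl
    · have hkj : k ≠ j := Ne.symm hjk
      simp only [hjk, hkj, if_false]
      by_cases hj : j = 0 <;> by_cases hk : k = 0
      · exact absurd (hj.trans hk.symm) hjk
      · simp [hj, hk]
      · simp [hj, hk]
      · simp [hj, hk]
  let b := Matrix.toBilin v M
  have hb : ∀ j k, b (v j) (v k) = M j k := by
    intro j k
    rw [← LinearMap.BilinForm.toMatrix_apply v b j k, LinearMap.BilinForm.toMatrix_toBilin]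
  have hbsymm : b.IsSymm := (Matrix.isSymm_toBilin_iff_isSymm v).mpr hMsymm
  refine ⟨b, hbsymm, ?_⟩
  let ψ : (Fin (n + 1) → ℤ) →+ ZMod δ :=
    AddMonoidHom.mk' (fun x => ((b d x + (1 - g) * b x x : ℤ) : ZMod δ)) (by
      intro x y
      rw [← Int.cast_add, ZMod.intCast_eq_intCast_iff_dvd_sub]
      obtain ⟨q, hq⟩ := hδ
      refine ⟨q * b x y, ?_⟩
      have hsym : b y x = b x y := hbsymm.eq y x
      simp only [map_add, LinearMap.add_apply, hsym]
      linear_combination (b x y) * hq)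
  have hψ : ∀ x, ψ x = ((b d x + (1 - g) * b x x : ℤ) : ZMod δ) := fun x => rfl
  have heq : φ.toIntLinearMap = ψ.toIntLinearMap := by
    refine v.ext (fun j => ?_)
    show φ (v j) = ψ (v j)
    rw [hψ, hd, map_smul, LinearMap.smul_apply, hb, hb, smul_eq_mul]
    refine Fin.cases ?_ (fun i => ?_) j
    · rw [hs]
      congr 1
      simp only [M, if_true, Fin.cons_zero]
      ring
    · rw [hST]
      congr 1
      have h0 : (0 : Fin (n + 1)) ≠ i.succ := (Fin.succ_ne_zero i).symm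
      simp only [M, h0, if_false, if_true, Fin.cons_succ]
  intro x
  rw [← hψ]
  exact DFunLike.congr_fun heq x

lemma closure_eq (hδ : (δ : ℤ) ∣ 2 * (g - 1)) (d : Fin (n + 1) → ℤ) (hd : d = D • v 0) :
    AddSubgroup.closure (gens δ g d) = (F v δ g D).ker :=
  le_antisymm ((AddSubgroup.closure_le _).mpr (gens_sub_ker v δ g D d hd))
    (fun _ h => AddSubgroup.subset_closure (ker_sub_gens v δ g D hδ d hd h))

end main

theorem main' (n : ℕ) (δ : ℕ) (g : ℤ) (hδ : (δ : ℤ) ∣ 2 * (g - 1)) (d : Fin (n + 1) → ℤ) :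
    Nonempty ((((Fin (n + 1) → ℤ) →+ ZMod δ) ⧸ AddSubgroup.closure
      {φ : (Fin (n + 1) → ℤ) →+ ZMod δ | ∃ b : LinearMap.BilinForm ℤ (Fin (n + 1) → ℤ), b.IsSymm ∧
      ∀ x, φ x = ((b d x + (1 - g) * b x x : ℤ) : ZMod δ)}) ≃+
      (ZMod (Int.gcd δ (Finset.univ.gcd d + 1 - g)) ×
        (Fin n → ZMod (Int.gcd δ (Int.gcd (g - 1) (Finset.univ.gcd d)))))) := by
  obtain ⟨v, hv⟩ := exists_basis (n + 1) (Nat.succ_pos n) d
  have hcl := closure_eq v δ g (Finset.univ.gcd d) hδ d hv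
  exact ⟨(QuotientAddGroup.quotientAddEquivOfEq hcl).trans
    (QuotientAddGroup.quotientKerEquivOfSurjective _ (F_surj v δ g _))⟩

theorem main (r : ℕ) (hr : 0 < r) (δ : ℕ) (g : ℤ) (hδ : (δ : ℤ) ∣ 2 * (g - 1))
    (d : Fin r → ℤ) :
    Nonempty ((((Fin r → ℤ) →+ ZMod δ) ⧸ AddSubgroup.closure
      {φ : (Fin r → ℤ) →+ ZMod δ | ∃ b : LinearMap.BilinForm ℤ (Fin r → ℤ), b.IsSymm ∧
      ∀ x, φ x = ((b d x + (1 - g) * b x x : ℤ) : ZMod δ)}) ≃+
      (ZMod (Int.gcd δ (Finset.univ.gcd d + 1 - g)) ×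
        (Fin (r - 1) → ZMod (Int.gcd δ (Int.gcd (g - 1) (Finset.univ.gcd d)))))) := by
  obtain ⟨n, rfl⟩ := Nat.exists_eq_succ_of_ne_zero hr.ne'
  exact main' n δ g hδ d

end PRE

/-- Let r ≥ 1, let δ ≥ 0 and g be integers with δ dividing 2(g - 1), and let d be a vector of ℤ^r whose
coordinates have non-negative gcd D (its divisibility). For a symmetric bilinear form b on ℤ^r the
map x ↦ b(d, x) + (1 - g) b(x, x) taken modulo δ is additive (because δ divides 2(g - 1)); let H be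
the subgroup of Hom(ℤ^r, ℤ/δℤ) generated by all such maps. Then the quotient of Hom(ℤ^r, ℤ/δℤ) by H
is isomorphic to ℤ/gcd(δ, D + 1 - g) × (ℤ/gcd(δ, g - 1, D))^(r-1) (existence of an isomorphism of
abelian groups; for δ = 0 read ℤ/0ℤ = ℤ). (The published corollary is a statement about the cokernel
of the weight homomorphism on the Picard group of the rigidified stack of T-bundles of degree d on a
family of curves of genus g with invariant δ; this row is the lattice computation that its printed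
proof carries out, the divisibility δ ∣ 2g - 2 being the standing property of that invariant.) -/
theorem result
    (r : ℕ) (hr : 0 < r) (δ : ℕ) (g : ℤ) (hδ : (δ : ℤ) ∣ 2 * (g - 1))
    (d : Fin r → ℤ) :
    Nonempty ((((Fin r → ℤ) →+ ZMod δ) ⧸ AddSubgroup.closure
      {φ : (Fin r → ℤ) →+ ZMod δ | ∃ b : LinearMap.BilinForm ℤ (Fin r → ℤ), b.IsSymm ∧
      ∀ x, φ x = ((b d x + (1 - g) * b x x : ℤ) : ZMod δ)}) ≃+
      (ZMod (Int.gcd δ (Finset.univ.gcd d + 1 - g)) ×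
        (Fin (r - 1) → ZMod (Int.gcd δ (Int.gcd (g - 1) (Finset.univ.gcd d)))))) := by
  exact main r hr δ g hδ d

end Groth.Agent.S18330
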