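import Groth.Statements.S18331
import Mathlib
import Groth.Agent.S18330
-- import your own Groth.Agent.* helpers here

set_option autoImplicit false
open CAlg

namespace Groth.Agent.S18331

section PRE
open Groth.Agent.S18330

/-- multiplication by `m` as a map `ℤ/(δ/m) → ℤ/δ` -/
noncomputable def mulHom (δ m : ℕ) (hm : m ∣ δ) : ZMod (δ / m) →+ ZMod δ :=
  ZMod.lift (δ / m) ⟨zmultiplesHom (ZMod δ) (m : ZMod δ), by
    rw [zmultiplesHom_apply, natCast_zsmul, nsmul_eq_mul, ← Nat.cast_mul, Nat.div_mul_cancel hm]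
    exact ZMod.natCast_self δ⟩

lemma mulHom_intCast (δ m : ℕ) (hm : m ∣ δ) (k : ℤ) :
    mulHom δ m hm (k : ZMod (δ / m)) = ((k * m : ℤ) : ZMod δ) := by
  rw [mulHom, ZMod.lift_coe]
  simp

lemma mulHom_injective (δ m : ℕ) (hδ0 : 0 < δ) (hm : m ∣ δ) :
    Function.Injective (mulHom δ m hm) := by
  rw [injective_iff_map_eq_zero]
  intro x hx
  obtain ⟨k, rfl⟩ := ZMod.intCast_surjective x
  rw [mulHom_intCast, CharP.intCast_eq_zero_iff (ZMod δ) δ] at hx
  rw [CharP.intCast_eq_zero_iff (ZMod (δ / m)) (δ / m)]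
  have hm0 : (m : ℤ) ≠ 0 := by
    intro h0
    have : m = 0 := by exact_mod_cast h0
    subst this
    simp at hm
    omega
  have hδm : (δ : ℤ) = ((δ / m : ℕ) : ℤ) * m := by
    rw [← Nat.cast_mul, Nat.div_mul_cancel hm]
  rw [hδm] at hx
  exact Int.dvd_of_mul_dvd_mul_right hm0 hx

lemma mem_range_mulHom (δ m : ℕ) (hm : m ∣ δ) (y : ZMod δ) :
    y ∈ (mulHom δ m hm).range ↔ ZMod.castHom hm (ZMod m) y = 0 := by
  constructor
  · rintro ⟨x, rfl⟩
    obtain ⟨k, rfl⟩ := ZMod.intCast_surjective x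
    rw [mulHom_intCast, map_intCast]
    push_cast
    simp
  · intro hy
    obtain ⟨j, rfl⟩ := ZMod.intCast_surjective y
    rw [map_intCast, CharP.intCast_eq_zero_iff (ZMod m) m] at hy
    obtain ⟨k, rfl⟩ := hy
    refine ⟨(k : ZMod (δ / m)), ?_⟩
    rw [mulHom_intCast, mul_comm]


section main
variable {n : ℕ} (v : Module.Basis (Fin (n + 1)) ℤ (Fin (n + 1) → ℤ)) (δ : ℕ) (g D : ℤ)

/-- the parametrisation of the kernel -/
noncomputable def Θ : ZMod (δ / Int.gcd δ (D + 1 - g)) ×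
    (Fin n → ZMod (δ / Int.gcd δ (Int.gcd (g - 1) D))) →+ ((Fin (n + 1) → ℤ) →+ ZMod δ) :=
  AddMonoidHom.mk' (fun uw => (v.constr ℤ (Fin.cons (mulHom δ _ (dvd₁ δ g D) uw.1)
      (fun i => mulHom δ _ (dvd₂ δ g D) (uw.2 i)) : Fin (n + 1) → ZMod δ)).toAddMonoidHom) (by
    intro a b
    apply AddMonoidHom.toIntLinearMap_injective
    refine v.ext (fun j => ?_)
    show (v.constr ℤ (_ : Fin (n + 1) → ZMod δ)) (v j) = (v.constr ℤ (_ : Fin (n + 1) → ZMod δ)) (v j) + (v.constr ℤ (_ : Fin (n + 1) → ZMod δ)) (v j)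
    rw [Module.Basis.constr_basis, Module.Basis.constr_basis, Module.Basis.constr_basis]
    refine Fin.cases ?_ (fun i => ?_) j
    · simp only [Fin.cons_zero, Prod.fst_add, map_add]
    · simp only [Fin.cons_succ, Prod.snd_add, Pi.add_apply, map_add])

lemma Θ_zero (uw : ZMod (δ / Int.gcd δ (D + 1 - g)) ×
    (Fin n → ZMod (δ / Int.gcd δ (Int.gcd (g - 1) D)))) :
    Θ v δ g D uw (v 0) = mulHom δ _ (dvd₁ δ g D) uw.1 := by
  show (v.constr ℤ (_ : Fin (n + 1) → ZMod δ)) (v 0) = _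
  rw [Module.Basis.constr_basis, Fin.cons_zero]

lemma Θ_succ (uw : ZMod (δ / Int.gcd δ (D + 1 - g)) ×
    (Fin n → ZMod (δ / Int.gcd δ (Int.gcd (g - 1) D)))) (i : Fin n) :
    Θ v δ g D uw (v i.succ) = mulHom δ _ (dvd₂ δ g D) (uw.2 i) := by
  show (v.constr ℤ (_ : Fin (n + 1) → ZMod δ)) (v i.succ) = _
  rw [Module.Basis.constr_basis, Fin.cons_succ]

lemma Θ_injective (hδ0 : 0 < δ) : Function.Injective (Θ v δ g D) := by
  rw [injective_iff_map_eq_zero]
  intro uw h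
  refine Prod.ext ?_ (funext fun (i : Fin n) => ?_)
  · have h0 := Θ_zero v δ g D uw
    rw [h, AddMonoidHom.zero_apply] at h0
    exact mulHom_injective δ _ hδ0 _ (h0.symm.trans (map_zero _).symm)
  · have h0 := Θ_succ v δ g D uw i
    rw [h, AddMonoidHom.zero_apply] at h0
    exact mulHom_injective δ _ hδ0 _ (h0.symm.trans (map_zero _).symm)

lemma Θ_range : (Θ v δ g D).range = (F v δ g D).ker := by
  ext φ
  constructor
  · rintro ⟨uw, rfl⟩
    rw [AddMonoidHom.mem_ker]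
    refine Prod.ext ?_ (funext fun (i : Fin n) => ?_)
    · show ZMod.castHom (dvd₁ δ g D) (ZMod (Int.gcd δ (D + 1 - g))) (Θ v δ g D uw (v 0)) = 0
      rw [Θ_zero, ← mem_range_mulHom]
      exact ⟨_, rfl⟩
    · show ZMod.castHom (dvd₂ δ g D) (ZMod (Int.gcd δ (Int.gcd (g - 1) D))) (Θ v δ g D uw (v i.succ)) = 0
      rw [Θ_succ, ← mem_range_mulHom]
      exact ⟨_, rfl⟩
  · intro hφ
    rw [AddMonoidHom.mem_ker] at hφ
    have h1 : ZMod.castHom (dvd₁ δ g D) (ZMod (Int.gcd δ (D + 1 - g))) (φ (v 0)) = 0 := congrArg Prod.fst hφ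
    have h2 : ∀ i : Fin n, ZMod.castHom (dvd₂ δ g D) (ZMod (Int.gcd δ (Int.gcd (g - 1) D))) (φ (v i.succ)) = 0 :=
      fun i => congrFun (congrArg Prod.snd hφ) i
    rw [← mem_range_mulHom] at h1
    obtain ⟨u, hu⟩ := h1
    have h2' : ∀ i : Fin n, ∃ w, mulHom δ _ (dvd₂ δ g D) w = φ (v i.succ) := by
      intro i
      have := h2 i
      rw [← mem_range_mulHom] at this
      exact this
    choose w hw using h2'
    refine ⟨(u, w), ?_⟩
    apply AddMonoidHom.toIntLinearMap_injective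
    refine v.ext (fun j => ?_)
    show Θ v δ g D (u, w) (v j) = φ (v j)
    refine Fin.cases ?_ (fun i => ?_) j
    · rw [Θ_zero, hu]
    · rw [Θ_succ, hw]

end main

theorem main' (n : ℕ) (δ : ℕ) (hδ0 : 0 < δ) (g : ℤ) (hδ : (δ : ℤ) ∣ 2 * (g - 1))
    (d : Fin (n + 1) → ℤ) :
    Nonempty (AddSubgroup.closure
      {φ : (Fin (n + 1) → ℤ) →+ ZMod δ | ∃ b : LinearMap.BilinForm ℤ (Fin (n + 1) → ℤ), b.IsSymm ∧
      ∀ x, φ x = ((b d x + (1 - g) * b x x : ℤ) : ZMod δ)} ≃+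
      (ZMod (δ / Int.gcd δ (Finset.univ.gcd d + 1 - g)) ×
        (Fin n → ZMod (δ / Int.gcd δ (Int.gcd (g - 1) (Finset.univ.gcd d)))))) := by
  obtain ⟨v, hv⟩ := exists_basis (n + 1) (Nat.succ_pos n) d
  have hcl := closure_eq v δ g (Finset.univ.gcd d) hδ d hv
  have e1 := AddMonoidHom.ofInjective (Θ_injective v δ g (Finset.univ.gcd d) hδ0)
  have e2 : (Θ v δ g (Finset.univ.gcd d)).range = AddSubgroup.closure (gens δ g d) :=
    (Θ_range v δ g _).trans hcl.symm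
  exact ⟨(e1.trans (AddEquiv.addSubgroupCongr e2)).symm⟩

theorem main (r : ℕ) (hr : 0 < r) (δ : ℕ) (hδ0 : 0 < δ) (g : ℤ) (hδ : (δ : ℤ) ∣ 2 * (g - 1))
    (d : Fin r → ℤ) :
    Nonempty (AddSubgroup.closure
      {φ : (Fin r → ℤ) →+ ZMod δ | ∃ b : LinearMap.BilinForm ℤ (Fin r → ℤ), b.IsSymm ∧
      ∀ x, φ x = ((b d x + (1 - g) * b x x : ℤ) : ZMod δ)} ≃+
      (ZMod (δ / Int.gcd δ (Finset.univ.gcd d + 1 - g)) ×
        (Fin (r - 1) → ZMod (δ / Int.gcd δ (Int.gcd (g - 1) (Finset.univ.gcd d)))))) := by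
  obtain ⟨n, rfl⟩ := Nat.exists_eq_succ_of_ne_zero hr.ne'
  exact main' n δ hδ0 g hδ d

end PRE

/-- Let r ≥ 1, let δ ≥ 1 and g be integers with δ dividing 2(g - 1), and let d be a vector of ℤ^r whose
coordinates have non-negative gcd D. Let H be the subgroup of Hom(ℤ^r, ℤ/δℤ) generated by the
additive maps x ↦ b(d, x) + (1 - g) b(x, x) modulo δ, for b a symmetric bilinear form on ℤ^r. Then H
is isomorphic to ℤ/(δ/gcd(δ, D + 1 - g)) × (ℤ/(δ/gcd(δ, g - 1, D)))^(r-1) (existence of an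
isomorphism of abelian groups). (The published corollary states this as the structure of the
cokernel of the class map to the Neron-Severi lattice for the rigidified stack of T-bundles of
degree d on a family of curves of genus g with invariant δ > 0; this row is the lattice computation
that its printed proof carries out.) -/
theorem result
    (r : ℕ) (hr : 0 < r) (δ : ℕ) (hδ0 : 0 < δ) (g : ℤ) (hδ : (δ : ℤ) ∣ 2 * (g - 1))
    (d : Fin r → ℤ) :
    Nonempty (AddSubgroup.closure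
      {φ : (Fin r → ℤ) →+ ZMod δ | ∃ b : LinearMap.BilinForm ℤ (Fin r → ℤ), b.IsSymm ∧
      ∀ x, φ x = ((b d x + (1 - g) * b x x : ℤ) : ZMod δ)} ≃+
      (ZMod (δ / Int.gcd δ (Finset.univ.gcd d + 1 - g)) ×
        (Fin (r - 1) → ZMod (δ / Int.gcd δ (Int.gcd (g - 1) (Finset.univ.gcd d)))))) := by
  exact main r hr δ hδ0 g hδ d

end Groth.Agent.S18331
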