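import Groth.Statements.S1834
import Groth.Agent.Lib.Helper86.ComFac3

set_option autoImplicit false
set_option linter.style.haveILetI false
universe u
open CycAlg

namespace Groth.Agent.S1834

/-- Let R be a Noetherian local ring of dimension 1 and a, b nonzerodivisors. There is a finite
extension ring R ⊆ R' with R'/R killed by a power of the maximal ideal, and nonzerodivisors t, a',
b' of R' with a = t a', b = t b' and (a', b') the unit ideal of R'. -/
theorem result (R : Type u) [CommRing R] [IsNoetherianRing R] [IsLocalRing R] (hR : ringKrullDim R = 1) (a b : R) (ha : a ∈ nonZeroDivisors R) (hb : b ∈ nonZeroDivisors R) : ∃ (R' : Type u) (_ : CommRing R') (_ : Algebra R R'), CycAlg.IsFinExt R R' (IsLocalRing.maximalIdeal R) ∧ ∃ t a' b' : R', t ∈ nonZeroDivisors R' ∧ a' ∈ nonZeroDivisors R' ∧ b' ∈ nonZeroDivisors R' ∧ algebraMap R R' a = t * a' ∧ algebraMap R R' b = t * b' ∧ Ideal.span {a', b'} = ⊤ := by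
  haveI : Ring.KrullDimLE 1 R := by
    rw [Ring.KrullDimLE, Order.krullDimLE_iff]
    exact hR.le
  by_cases hau : IsUnit a
  · refine ⟨R, inferInstance, Algebra.id R, ⟨Function.injective_id, inferInstance, 0, ?_⟩,
      1, a, b, one_mem _, ha, hb, by simp, by simp, ?_⟩
    · intro r _ x
      exact ⟨r • x, rfl⟩
    · exact Ideal.eq_top_of_isUnit_mem _ (Ideal.subset_span (by simp)) hau
  by_cases hbu : IsUnit b
  · refine ⟨R, inferInstance, Algebra.id R, ⟨Function.injective_id, inferInstance, 0, ?_⟩,
      1, a, b, one_mem _, ha, hb, by simp, by simp, ?_⟩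
    · intro r _ x
      exact ⟨r • x, rfl⟩
    · exact Ideal.eq_top_of_isUnit_mem _ (Ideal.subset_span (by simp)) hbu
  obtain ⟨A, hfin, t, a', b', x, y, hta, htb, hxy, hna, hnb⟩ :=
    Groth.Agent.Lib.Helper86.ComFac.main a b ha hb hau
  obtain ⟨n, hn⟩ := Groth.Agent.Lib.Helper86.ComFac.exists_pow_smul_mem_range A hfin
  refine ⟨A, inferInstance, inferInstance, ⟨?_, hfin, n, hn⟩, t, a', b', ?_, ?_, ?_, hta, htb, ?_⟩
  · intro r r' h
    have h1 : algebraMap R (FractionRing R) r = algebraMap R (FractionRing R) r' :=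
      congr_arg Subtype.val h
    exact IsLocalization.injective (FractionRing R) (le_refl (nonZeroDivisors R)) h1
  · rw [hta] at hna
    exact (mul_mem_nonZeroDivisors.1 hna).1
  · rw [hta] at hna
    exact (mul_mem_nonZeroDivisors.1 hna).2
  · rw [htb] at hnb
    exact (mul_mem_nonZeroDivisors.1 hnb).2
  · rw [Ideal.eq_top_iff_one, ← hxy]
    exact Ideal.add_mem _ (Ideal.mul_mem_left _ _ (Ideal.subset_span (by simp)))
      (Ideal.mul_mem_left _ _ (Ideal.subset_span (by simp)))

end Groth.Agent.S1834
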