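import Groth.Statements.S18343
import Mathlib
import Groth.Agent.Lib.Helper20.IdealComap

set_option autoImplicit false
universe u
open CategoryTheory CategoryTheory.Limits AlgebraicGeometry
open MultCurve

namespace Groth.Agent.S18343
open CategoryTheory CategoryTheory.Limits AlgebraicGeometry TopologicalSpace
set_option linter.style.haveILetI false

theorem alg_surj {A B E : Type*} [CommRing A] [CommRing B] [CommRing E] (φ : A →+* B) (ψ : B →+* E)
    (hsurj : Function.Surjective (ψ.comp φ))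
    (hker : RingHom.ker ψ = (RingHom.ker (ψ.comp φ)).map φ)
    (hsq : RingHom.ker ψ ^ 2 = ⊥) : Function.Surjective φ := by
  have hmul : ∀ x y, x ∈ RingHom.ker ψ → y ∈ RingHom.ker ψ → x * y = 0 := by
    intro x y hx hy
    have : x * y ∈ RingHom.ker ψ ^ 2 := by
      rw [pow_two]; exact Ideal.mul_mem_mul hx hy
    rw [hsq] at this
    exact this
  -- every element of ker ψ is in the range of φ
  have key : ∀ x ∈ RingHom.ker ψ, x ∈ φ.range := by
    intro x hx
    have hx' := hx
    rw [hker, Ideal.map] at hx'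
    refine Submodule.span_induction (p := fun y _ => y ∈ RingHom.ker ψ → y ∈ φ.range)
      ?_ ?_ ?_ ?_ hx' hx
    · rintro _ ⟨j, _, rfl⟩ _
      exact ⟨j, rfl⟩
    · intro _; exact Subring.zero_mem _
    · intro y z hy hz ihy ihz _
      have hyk : y ∈ RingHom.ker ψ := by rw [hker, Ideal.map]; exact hy
      have hzk : z ∈ RingHom.ker ψ := by rw [hker, Ideal.map]; exact hz
      exact Subring.add_mem _ (ihy hyk) (ihz hzk)
    · intro b y hy ihy _
      have hyk : y ∈ RingHom.ker ψ := by rw [hker, Ideal.map]; exact hy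
      obtain ⟨a, ha⟩ := hsurj (ψ b)
      have hn : b - φ a ∈ RingHom.ker ψ := by
        rw [RingHom.mem_ker, map_sub, sub_eq_zero]
        exact ha.symm
      have : b • y = φ a * y := by
        have h0 := hmul _ _ hn hyk
        rw [smul_eq_mul]
        linear_combination h0
      rw [this]
      exact Subring.mul_mem _ ⟨a, rfl⟩ (ihy hyk)
  intro b
  obtain ⟨a, ha⟩ := hsurj (ψ b)
  have hn : b - φ a ∈ RingHom.ker ψ := by
    rw [RingHom.mem_ker, map_sub, sub_eq_zero]
    exact ha.symm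
  obtain ⟨a', ha'⟩ := key _ hn
  exact ⟨a' + a, by rw [map_add, ha']; ring⟩


variable {D C X : Scheme.{u}} (i : D ⟶ C) [IsClosedImmersion i]

/-- a section killed by `i^#` squares to zero when the ideal of `i` has square zero. -/
theorem sq_zero_of_app_eq_zero (hsq : i.ker ^ 2 = ⊥) (W : C.Opens) (t : Γ(C, W))
    (ht : i.app W t = 0) : t ^ 2 = 0 := by
  -- check on the affine opens contained in W
  apply TopCat.Sheaf.eq_of_locally_eq' C.sheaf
    (fun U : {U : C.affineOpens // U.1 ≤ W} => U.1.1) W (fun U => homOfLE U.2)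
  · intro x hx
    obtain ⟨_, ⟨U, hU, rfl⟩, hxU, hUW⟩ := (C.isBasis_affineOpens).exists_subset_of_mem_open hx W.isOpen
    exact TopologicalSpace.Opens.mem_iSup.mpr ⟨⟨⟨U, hU⟩, hUW⟩, hxU⟩
  · rintro ⟨U, hUW⟩
    have h1 : C.presheaf.map (homOfLE hUW).op t ∈ i.ker.ideal U := by
      rw [Scheme.Hom.ker_apply, RingHom.mem_ker]
      have nat := i.naturality (homOfLE hUW).op
      have := ConcreteCategory.congr_hom nat t
      simp only [CommRingCat.comp_apply] at this
      rw [this, ht, map_zero]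
    have h2 : (C.presheaf.map (homOfLE hUW).op t) ^ 2 ∈ (i.ker ^ 2).ideal U := by
      rw [Scheme.IdealSheafData.ideal_pow]
      exact Ideal.pow_mem_pow h1 2
    rw [hsq, Scheme.IdealSheafData.ideal_bot] at h2
    change (C.presheaf.map (homOfLE hUW).op) (t ^ 2) = (C.presheaf.map (homOfLE hUW).op) 0
    rw [map_pow, map_zero]
    exact h2


theorem surj_of_sq (hsq : i.ker ^ 2 = ⊥) : Function.Surjective i := by
  intro c
  obtain ⟨_, ⟨U, hU, rfl⟩, hcU, -⟩ :=
    (C.isBasis_affineOpens).exists_subset_of_mem_open (Set.mem_univ c) isOpen_univ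
  have hc : c ∈ i.ker.support := by
    rw [Scheme.IdealSheafData.mem_support_iff_of_mem (U := ⟨U, hU⟩) hcU, Scheme.mem_zeroLocus_iff]
    intro s hs hcs
    have h2 : s ^ 2 ∈ (i.ker ^ 2).ideal ⟨U, hU⟩ := by
      rw [Scheme.IdealSheafData.ideal_pow]
      exact Ideal.pow_mem_pow hs 2
    rw [hsq, Scheme.IdealSheafData.ideal_bot] at h2
    have h3 : s ^ 2 = 0 := h2
    have h4 : C.basicOpen s = ⊥ := by
      rw [← Scheme.basicOpen_pow C s (n := 2) (by norm_num), h3, Scheme.basicOpen_zero]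
    rw [h4] at hcs
    exact hcs
  have hcl : IsClosed (Set.range i) := i.isClosedEmbedding.isClosed_range
  have : c ∈ closure (Set.range i) := by
    rw [← Scheme.Hom.support_ker]; exact hc
  rw [hcl.closure_eq] at this
  exact this


theorem exists_preimage_eq (hsq : i.ker ^ 2 = ⊥) (f : C ⟶ X) [IsClosedImmersion (i ≫ f)]
    (U : C.Opens) : ∃ V' : X.Opens, f ⁻¹ᵁ V' = U := by
  have hind : Topology.IsInducing (i ≫ f) := (i ≫ f).isClosedEmbedding.isInducing
  have hopen : IsOpen ((i ⁻¹ᵁ U : D.Opens) : Set D) := (i ⁻¹ᵁ U).isOpen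
  rw [hind.isOpen_iff] at hopen
  obtain ⟨t, ht, hpre⟩ := hopen
  refine ⟨⟨t, ht⟩, ?_⟩
  ext c
  obtain ⟨d, rfl⟩ := surj_of_sq i hsq c
  have h1 : d ∈ (i ≫ f) ⁻¹' t ↔ d ∈ ((i ⁻¹ᵁ U : D.Opens) : Set D) := by rw [hpre]
  simp only [Set.mem_preimage, Scheme.Hom.comp_apply] at h1
  exact h1


theorem affine_preimage (hsq : i.ker ^ 2 = ⊥) (f : C ⟶ X) [IsClosedImmersion (i ≫ f)]
    (V : X.Opens) (hV : IsAffineOpen V) : IsAffineOpen (f ⁻¹ᵁ V) := by
  set φ := (f.app V).hom with hφ
  apply isAffineOpen_of_isAffineOpen_basicOpen (f ⁻¹ᵁ V)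
    {s | ∃ a : Γ(X, V), s = φ a ∧ IsAffineOpen (C.basicOpen (φ a))}
  swap
  · rintro _ ⟨a, rfl, ha⟩; exact ha
  set 𝔟 : Ideal Γ(X, V) := Ideal.span {a | IsAffineOpen (C.basicOpen (φ a))} with h𝔟
  set J : Ideal Γ(X, V) := (i ≫ f).ker.ideal ⟨V, hV⟩ with hJ
  have htop : 𝔟 ⊔ J = ⊤ := by
    by_contra hne
    obtain ⟨𝔪, h𝔪, hle⟩ := Ideal.exists_le_maximal _ hne
    have hprime : 𝔪.IsPrime := h𝔪.isPrime
    set y : PrimeSpectrum Γ(X, V) := ⟨𝔪, hprime⟩ with hy
    set x : X := hV.fromSpec y with hx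
    have hxV : x ∈ V := by
      have := hV.range_fromSpec
      rw [← SetLike.mem_coe, ← this]
      exact Set.mem_range_self y
    have hbasic : ∀ s : Γ(X, V), x ∈ X.basicOpen s ↔ s ∉ 𝔪 := by
      intro s
      have h1 := hV.fromSpec_preimage_basicOpen s
      have h2 := congrArg (fun O : (Spec Γ(X, V)).Opens => y ∈ O) h1
      exact iff_of_eq h2
    have hxsupp : x ∈ (i ≫ f).ker.support := by
      rw [Scheme.IdealSheafData.mem_support_iff_of_mem (U := ⟨V, hV⟩) hxV, Scheme.mem_zeroLocus_iff]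
      intro s hs hxs
      exact (hbasic s).mp hxs (hle (Ideal.mem_sup_right hs))
    have hcl : IsClosed (Set.range (i ≫ f)) := (i ≫ f).isClosedEmbedding.isClosed_range
    have hxr : x ∈ closure (Set.range (i ≫ f)) := by
      rw [← Scheme.Hom.support_ker]; exact hxsupp
    rw [hcl.closure_eq] at hxr
    obtain ⟨d, hd⟩ := hxr
    have hcW : i d ∈ f ⁻¹ᵁ V := by
      change f (i d) ∈ V
      rw [← Scheme.Hom.comp_apply, hd]; exact hxV
    obtain ⟨_, ⟨U, hU, rfl⟩, hcU, hUW⟩ :=
      (C.isBasis_affineOpens).exists_subset_of_mem_open hcW (f ⁻¹ᵁ V).isOpen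
    obtain ⟨V', hV'⟩ := exists_preimage_eq i hsq f U
    have hxV' : x ∈ V' := by
      have : i d ∈ f ⁻¹ᵁ V' := by rw [hV']; exact hcU
      have h2 : f (i d) ∈ V' := this
      rw [← Scheme.Hom.comp_apply, hd] at h2
      exact h2
    obtain ⟨a, hale, hxa⟩ := hV.exists_basicOpen_le (V := V') ⟨x, hxV'⟩ hxV
    have hpre : C.basicOpen (φ a) = f ⁻¹ᵁ X.basicOpen a := (Scheme.preimage_basicOpen f a).symm
    have hleU : C.basicOpen (φ a) ≤ U := by
      rw [hpre, ← hV']
      exact fun c hc => hale hc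
    have haff : IsAffineOpen (C.basicOpen (φ a)) := by
      have h1 := (show IsAffineOpen U from hU).basicOpen (C.presheaf.map (homOfLE hUW).op (φ a))
      have h3 : C.basicOpen (C.presheaf.map (homOfLE hUW).op (φ a)) = U ⊓ C.basicOpen (φ a) :=
        Scheme.basicOpen_res C (φ a) (homOfLE hUW).op
      rw [h3, inf_eq_right.mpr hleU] at h1
      exact h1
    have ham : a ∈ 𝔪 := hle (Ideal.mem_sup_left (Ideal.subset_span haff))
    exact (hbasic a).mp hxa ham
  -- now produce a unit in the span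
  have h1 : (1 : Γ(X, V)) ∈ 𝔟 ⊔ J := by rw [htop]; trivial
  obtain ⟨b, hb, j, hj, hbj⟩ := Submodule.mem_sup.mp h1
  have hjz : (φ j) ^ 2 = 0 := by
    apply sq_zero_of_app_eq_zero i hsq
    have hj' : j ∈ RingHom.ker ((i ≫ f).app V).hom := by
      rw [← Scheme.Hom.ker_apply (i ≫ f) ⟨V, hV⟩]; exact hj
    rw [RingHom.mem_ker] at hj'
    have hcomp : (i ≫ f).app V = f.app V ≫ i.app (f ⁻¹ᵁ V) := Scheme.Hom.comp_app i f V
    rw [hcomp] at hj'
    exact hj'
  have hunit : IsUnit (φ b) := by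
    have hb1 : φ b = 1 - φ j := by
      rw [← map_one φ, ← hbj, map_add]; ring
    refine IsUnit.of_mul_eq_one (1 + φ j) ?_
    rw [hb1]
    linear_combination -hjz
  have hmem : φ b ∈ Ideal.span {s | ∃ a : Γ(X, V), s = φ a ∧ IsAffineOpen (C.basicOpen (φ a))} := by
    have h2 : φ b ∈ Ideal.map φ 𝔟 := Ideal.mem_map_of_mem φ hb
    rw [h𝔟, Ideal.map_span] at h2
    refine Ideal.span_mono ?_ h2
    rintro _ ⟨a, ha, rfl⟩
    exact ⟨a, rfl, ha⟩
  exact Ideal.eq_top_of_isUnit_mem _ hmem hunit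


theorem closedImm_of_thick (hsq : i.ker ^ 2 = ⊥) (f : C ⟶ X) [IsClosedImmersion (i ≫ f)]
    (hker : (i ≫ f).ker.comap f = i.ker) : IsClosedImmersion f := by
  rw [isClosedImmersion_iff_isAffineHom]
  refine ⟨⟨fun V hV => affine_preimage i hsq f V hV⟩, fun V hV => ?_⟩
  have hW := affine_preimage i hsq f V hV
  have hcomp : (i ≫ f).app V = f.app V ≫ i.app (f ⁻¹ᵁ V) := Scheme.Hom.comp_app i f V
  have hcomp' : ((i ≫ f).app V).hom = (i.app (f ⁻¹ᵁ V)).hom.comp (f.app V).hom := by
    rw [hcomp]; rfl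
  have h1 : i.ker.ideal ⟨f ⁻¹ᵁ V, hW⟩ = RingHom.ker (i.app (f ⁻¹ᵁ V)).hom :=
    Scheme.Hom.ker_apply i _
  apply alg_surj (f.app V).hom (i.app (f ⁻¹ᵁ V)).hom
  · rw [← hcomp']
    exact (i ≫ f).app_surjective V hV
  · have h2 : (i ≫ f).ker.ideal ⟨V, hV⟩ = RingHom.ker ((i ≫ f).app V).hom :=
      Scheme.Hom.ker_apply _ _
    have h3 := Groth.Agent.Lib.Helper20.ideal_comap f (i ≫ f).ker ⟨f ⁻¹ᵁ V, hW⟩ ⟨V, hV⟩ le_rfl
    rw [hker, h1, h2, hcomp'] at h3
    rw [h3]
    congr 2
    exact Scheme.Hom.appLE_eq_app f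
  · rw [← h1]
    have : (i.ker ^ 2).ideal ⟨f ⁻¹ᵁ V, hW⟩ = (i.ker.ideal ⟨f ⁻¹ᵁ V, hW⟩) ^ 2 := by
      rw [Scheme.IdealSheafData.ideal_pow]; rfl
    rw [← this, hsq, Scheme.IdealSheafData.ideal_bot]
    rfl


theorem comap_ker_of_mono (f : C ⟶ X) [IsClosedImmersion f] :
    (i ≫ f).ker.comap f = i.ker := by
  have hpb : IsPullback i (𝟙 D) f (i ≫ f) := by
    refine IsPullback.of_isLimit (PullbackCone.IsLimit.mk (by simp) (fun s => s.snd) ?_ ?_ ?_)
    · intro s
      rw [← cancel_mono f, Category.assoc, ← s.condition]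
    · intro s; simp
    · intro s m _ h2
      simpa using h2
  rw [← Scheme.IdealSheafData.ker_fst_of_isClosedImmersion (i ≫ f) f]
  have e : hpb.isoPullback.hom ≫ pullback.fst f (i ≫ f) = i := hpb.isoPullback_hom_fst
  rw [← Scheme.Hom.ker_comp_of_isIso hpb.isoPullback.hom, e]


theorem main (D C X : Scheme.{u}) (i : D ⟶ C)
    (hR : MultCurve.IsRibbon i) (f : C ⟶ X) :
    IsClosedImmersion f ↔ (IsClosedImmersion (i ≫ f) ∧ (i ≫ f).ker.comap f = i.ker) := by
  obtain ⟨⟨hi, hsq, -⟩, -⟩ := hR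
  haveI := hi
  constructor
  · intro hf
    haveI := hf
    exact ⟨inferInstance, comap_ker_of_mono i f⟩
  · rintro ⟨hg, hker⟩
    haveI := hg
    exact closedImm_of_thick i hsq f hker

end Groth.Agent.S18343

namespace Groth.Agent.S18343

/-- Suppose C is a ribbon on the reduced scheme D via the closed immersion i : D ⟶ C (meaning the ideal
of D squares to zero and is locally generated by a single section z whose annihilator lies in (z)),
and consider an arbitrary morphism of schemes f : C ⟶ X. The morphism f is a closed immersion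
exactly when two things hold: the composite i ≫ f, i.e. f restricted to D, is a closed immersion,
and pulling back along f the ideal of the scheme-theoretic image of D in X yields the entire ideal
of D in C. This second requirement amounts to surjectivity of the map α_f that sends the pullback of
the conormal sheaf of the image of D in X onto the conormal bundle of D in C. (The statement is
given for arbitrary schemes and any morphism f; the published version assumes all schemes are of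
finite type over a field and D is connected, but the proof relies on neither assumption.) -/
theorem result (D C X : Scheme.{u}) (i : D ⟶ C)
    (hR : MultCurve.IsRibbon i) (f : C ⟶ X) :
    IsClosedImmersion f ↔ (IsClosedImmersion (i ≫ f) ∧ (i ≫ f).ker.comap f = i.ker) := by

  exact Groth.Agent.S18343.main D C X i hR f

end Groth.Agent.S18343
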