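import Groth.Statements.S1835
import Mathlib
import Groth.Agent.S7652

set_option autoImplicit false
universe u
open CycAlg

namespace Groth.Agent.S1835

/-- Let R be a Noetherian local ring of dimension 1, a a nonzerodivisor in the maximal ideal and b a
nonzerodivisor. There is an integer n such that whenever b = a^m c in some finite extension ring R ⊆
R', one has m ≤ n. -/
theorem result (R : Type u) [CommRing R] [IsNoetherianRing R] [IsLocalRing R] (hR : ringKrullDim R = 1) (a b : R) (ha : a ∈ nonZeroDivisors R) (ham : a ∈ IsLocalRing.maximalIdeal R) (hb : b ∈ nonZeroDivisors R) : ∃ n : ℕ, ∀ (R' : Type u) [CommRing R'] [Algebra R R'], Function.Injective (algebraMap R R') → Module.Finite R R' → ∀ (m : ℕ) (c : R'), algebraMap R R' b = algebraMap R R' a ^ m * c → m ≤ n := by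
  classical
  have hfin : Module.length R (R ⧸ Ideal.span {b}) ≠ ⊤ :=
    Groth.Agent.S7652.length_quot_nzd_lt_top R hR b hb
  refine ⟨(Module.length R (R ⧸ Ideal.span {b})).toNat, ?_⟩
  intro R' _ _ hinj hfinR' m c hbc
  -- the ideals I_j
  set α : R' := algebraMap R R' a with hα
  let I : ℕ → Ideal R := fun j => Ideal.comap (algebraMap R R') (Ideal.span {α ^ j})
  have hanti : ∀ j, I (j + 1) ≤ I j := by
    intro j
    apply Ideal.comap_mono
    rw [Ideal.span_singleton_le_iff_mem, pow_succ]
    exact Ideal.mul_mem_right _ _ (Ideal.mem_span_singleton_self _)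
  have hmem : ∀ j, a ^ j ∈ I j := by
    intro j
    change algebraMap R R' (a ^ j) ∈ Ideal.span {α ^ j}
    rw [map_pow]
    exact Ideal.mem_span_singleton_self _
  have hjac : IsLocalRing.maximalIdeal R ≤ Ideal.jacobson ⊥ := by
    rw [IsLocalRing.jacobson_eq_maximalIdeal ⊥ bot_ne_top]
  have hnmem : ∀ j, a ^ j ∉ I (j + 1) := by
    intro j hj
    have hj' : algebraMap R R' (a ^ j) ∈ Ideal.span {α ^ (j + 1)} := hj
    rw [map_pow, Ideal.mem_span_singleton'] at hj'
    obtain ⟨r', hr'⟩ := hj'
    -- N = a^j • ⊤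
    let N : Submodule R R' := Submodule.map (LinearMap.lsmul R R' (a ^ j)) ⊤
    have hNfg : N.FG := by
      have : (⊤ : Submodule R R').FG := Module.Finite.fg_top
      exact this.map (LinearMap.lsmul R R' (a ^ j))
    have hNle : N ≤ IsLocalRing.maximalIdeal R • N := by
      rintro x ⟨y, -, rfl⟩
      change a ^ j • y ∈ _
      have e : a ^ j • y = a • (a ^ j • (r' * y)) := by
        rw [Algebra.smul_def, Algebra.smul_def, Algebra.smul_def, map_pow, ← hα]
        calc α ^ j * y = (r' * α ^ (j + 1)) * y := by rw [hr']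
          _ = α * (α ^ j * (r' * y)) := by ring
      rw [e]
      exact Submodule.smul_mem_smul ham ⟨r' * y, trivial, rfl⟩
    have hN0 : N = ⊥ := Submodule.eq_bot_of_le_smul_of_le_jacobson_bot _ N hNfg hNle hjac
    have h1 : a ^ j • (1 : R') ∈ N := ⟨1, trivial, rfl⟩
    rw [hN0, Submodule.mem_bot, Algebra.smul_def, mul_one] at h1
    have h2 : a ^ j = 0 := hinj (by rw [h1, map_zero])
    have h3 : a ^ j ∈ nonZeroDivisors R := pow_mem ha j
    have h4 : (1 : R) = 0 := by
      have := h3.2 1 (by rw [one_mul]; exact h2)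
      exact this
    exact one_ne_zero h4
  have hstrict : StrictAnti I := by
    apply strictAnti_nat_of_succ_lt
    intro j
    exact lt_of_le_of_ne (hanti j) (fun h => hnmem j (h ▸ hmem j))
  have hbI : Ideal.span {b} ≤ I m := by
    rw [Ideal.span_singleton_le_iff_mem]
    change algebraMap R R' b ∈ Ideal.span {α ^ m}
    rw [hbc]
    exact Ideal.mul_mem_right _ _ (Ideal.mem_span_singleton_self _)
  have hbIj : ∀ j, j ≤ m → Ideal.span {b} ≤ I j := fun j hj =>
    hbI.trans (hstrict.antitone hj)
  -- LTSeries in Set.Ici (span {b})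
  let f : Fin (m + 1) → Set.Ici (Ideal.span {b} : Submodule R R) :=
    fun i => ⟨I (m - i), hbIj _ (Nat.sub_le _ _)⟩
  have hf : StrictMono f := by
    intro i i' hii'
    change I (m - i) < I (m - i')
    apply hstrict
    have h1 : (i : ℕ) < i' := hii'
    have h2 : (i' : ℕ) ≤ m := Nat.lt_succ_iff.mp i'.2
    omega
  have h1 : ((LTSeries.mk m f hf).length : WithBot ℕ∞) ≤
      Order.krullDim (Set.Ici (Ideal.span {b} : Submodule R R)) :=
    Order.LTSeries.length_le_krullDim _
  rw [← Order.krullDim_eq_of_orderIso (Submodule.comapMkQRelIso (Ideal.span {b} : Submodule R R)),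
    ← Module.coe_length] at h1
  have h2 : (m : ℕ∞) ≤ Module.length R (R ⧸ Ideal.span {b}) := by
    exact_mod_cast h1
  rw [← ENat.natCast_toNat hfin] at h2
  exact_mod_cast h2

end Groth.Agent.S1835
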