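import Groth.Statements.S1836
import Groth.Agent.Lib.Helper86.ComFac6

set_option autoImplicit false
set_option linter.style.haveILetI false
universe u
open CycAlg

namespace Groth.Agent.S1836

/-- Let A be a Noetherian local ring of dimension 1 and a₁, …, a_r (r ≥ 2) nonzerodivisors, not all
units. There is a finite extension ring A ⊆ B with B/A killed by a power of the maximal ideal such
that at every maximal ideal of B there is a nonzerodivisor π of the local ring B_𝔪 with each a_i
equal to a unit of B_𝔪 times a power of π. -/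
theorem result (A : Type u) [CommRing A] [IsNoetherianRing A] [IsLocalRing A] (hA : ringKrullDim A = 1) (r : ℕ) (hr : 2 ≤ r) (a : Fin r → A) (ha : ∀ i, a i ∈ nonZeroDivisors A) (hna : ∃ i, ¬ IsUnit (a i)) : ∃ (B : Type u) (_ : CommRing B) (_ : Algebra A B), CycAlg.IsFinExt A B (IsLocalRing.maximalIdeal A) ∧ ∀ q : MaximalSpectrum B, ∃ π : Localization.AtPrime q.asIdeal, π ∈ nonZeroDivisors (Localization.AtPrime q.asIdeal) ∧ ∀ i, ∃ (v : (Localization.AtPrime q.asIdeal)ˣ) (e : ℕ), algebraMap A (Localization.AtPrime q.asIdeal) (a i) = (v : Localization.AtPrime q.asIdeal) * π ^ e := by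
  classical
  haveI : Ring.KrullDimLE 1 A := by
    rw [Ring.KrullDimLE, Order.krullDimLE_iff]
    exact hA.le
  obtain ⟨i₀, hi₀⟩ := hna
  have ha₀m : a i₀ ∈ IsLocalRing.maximalIdeal A := hi₀
  have hunit : ∀ i, IsUnit (algebraMap A (FractionRing A) (a i)) := fun i =>
    IsLocalization.map_units (FractionRing A) (⟨a i, ha i⟩ : nonZeroDivisors A)
  let α : Fin r → (FractionRing A)ˣ := fun i => (hunit i).unit
  have hα : ∀ i, ((α i : (FractionRing A)ˣ) : FractionRing A) = algebraMap A (FractionRing A) (a i) :=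
    fun i => IsUnit.unit_spec _
  have hB₀ : Module.Finite A (⊥ : Subalgebra A (FractionRing A)) := Subalgebra.finite_bot
  have hS₀ : ∀ u ∈ Finset.univ.image α, (u : FractionRing A) ∈ (⊥ : Subalgebra A (FractionRing A)) := by
    intro u hu
    obtain ⟨i, -, rfl⟩ := Finset.mem_image.1 hu
    rw [hα]
    exact Subalgebra.algebraMap_mem _ _
  obtain ⟨B', -, hB', S', hS', hcl, hco⟩ :=
    Groth.Agent.Lib.Helper86.ComFac.euclid (a i₀) (ha i₀) ha₀m _ ⊥ hB₀ (Finset.univ.image α) hS₀ rfl
  obtain ⟨n, hn⟩ := Groth.Agent.Lib.Helper86.ComFac.exists_pow_smul_mem_range B' hB'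
  refine ⟨B', inferInstance, inferInstance, ⟨?_, hB', n, hn⟩, ?_⟩
  · intro x y h
    have h1 : algebraMap A (FractionRing A) x = algebraMap A (FractionRing A) y :=
      congr_arg Subtype.val h
    exact IsLocalization.injective (FractionRing A) (le_refl (nonZeroDivisors A)) h1
  · intro q
    obtain ⟨π, hπ, hall⟩ :=
      Groth.Agent.Lib.Helper86.ComFac.local_factor B' S' hS' hco q.asIdeal
    refine ⟨π, hπ, fun i => ?_⟩
    obtain ⟨hz, v, e, he⟩ := hall (α i) (hcl _ (Finset.mem_image_of_mem α (Finset.mem_univ i)))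
    refine ⟨v, e, ?_⟩
    rw [← he, IsScalarTower.algebraMap_apply A B' (Localization.AtPrime q.asIdeal)]
    congr 1

end Groth.Agent.S1836
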