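import Groth.Statements.S18363
import Groth.Agent.Lib.Helper29.MatFac
import Groth.Agent.Lib.Helper29.ReducedReg
import Groth.Agent.Lib.Helper29.DepthExt

set_option autoImplicit false
universe u
open CategoryTheory
open CAlg

namespace Groth.Agent.S18363

/-- Let R be a Noetherian local ring with maximal ideal m, and P, Q ideals of R such that P + Q contains
a power of m while R/P and R/Q are both reduced of Krull dimension one. Let I and J be nonzero
finitely generated R-modules with P·I = 0 and Q·J = 0, such that every element of R whose class in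
R/P is a non-zero-divisor acts injectively on I, and every element whose class in R/Q is a
non-zero-divisor acts injectively on J. Then the group Ext¹_R(I, J) is nonzero. (This is the stalk
statement behind the existence of a non-split extension of a torsion-free rank-one sheaf on a
subcurve Y by one on a subcurve Z of a reduced projective curve, at a point where Y and Z meet
without sharing a component; in that situation the modules moreover have rank one at the generic
points of their supports and P ∩ Q = 0, two assumptions the argument does not use.) -/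
theorem result
    (R : Type u) [CommRing R] [IsNoetherianRing R] [IsLocalRing R]
    (P Q : Ideal R) (hPQ : ∃ n : ℕ, IsLocalRing.maximalIdeal R ^ n ≤ P ⊔ Q)
    [IsReduced (R ⧸ P)] [IsReduced (R ⧸ Q)]
    (hPdim : ringKrullDim (R ⧸ P) = 1) (hQdim : ringKrullDim (R ⧸ Q) = 1)
    (I J : Type u) [AddCommGroup I] [Module R I] [Module.Finite R I] [Nontrivial I]
    [AddCommGroup J] [Module R J] [Module.Finite R J] [Nontrivial J]
    (hPI : ∀ p ∈ P, ∀ x : I, p • x = 0) (hQJ : ∀ q ∈ Q, ∀ y : J, q • y = 0)
    (hItf : ∀ r : R, Ideal.Quotient.mk P r ∈ nonZeroDivisors (R ⧸ P) → ∀ x : I, r • x = 0 → x = 0)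
    (hJtf : ∀ r : R, Ideal.Quotient.mk Q r ∈ nonZeroDivisors (R ⧸ Q) → ∀ y : J, r • y = 0 → y = 0) :
    Nontrivial (Abelian.Ext (ModuleCat.of R I) (ModuleCat.of R J) 1) := by
  obtain ⟨n, hn⟩ := hPQ
  have hQtop : Q ≠ ⊤ := by
    intro h
    have : Subsingleton (R ⧸ Q) := by rw [h]; exact Ideal.Quotient.subsingleton_iff.2 rfl
    rw [ringKrullDim_eq_bot_of_subsingleton] at hQdim
    exact absurd hQdim (by decide)
  have : Nontrivial (R ⧸ Q) := Ideal.Quotient.nontrivial_iff.2 hQtop
  have hloc : IsLocalRing (R ⧸ Q) :=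
    IsLocalRing.of_surjective' (Ideal.Quotient.mk Q) Ideal.Quotient.mk_surjective
  -- a regular element of `R ⧸ Q` in the maximal ideal
  have hmQ : IsLocalRing.maximalIdeal (R ⧸ Q) ≠ ⊥ := by
    intro hbot
    have hf : IsField (R ⧸ Q) := IsLocalRing.isField_iff_maximalIdeal_eq.2 hbot
    have := ringKrullDim_eq_zero_of_isField hf
    rw [hQdim] at this
    exact absurd this (by decide)
  obtain ⟨tb, htbm, htbreg⟩ :=
    Groth.Agent.Lib.Helper29.ReducedReg.exists_regular_of_isReduced (R ⧸ Q) hmQ
  obtain ⟨t, rfl⟩ := Ideal.Quotient.mk_surjective tb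
  have htm : t ∈ IsLocalRing.maximalIdeal R := by
    by_contra h
    rw [IsLocalRing.mem_maximalIdeal, mem_nonunits_iff, not_not] at h
    exact htbm (h.map (Ideal.Quotient.mk Q))
  have htnzd : Ideal.Quotient.mk Q t ∈ nonZeroDivisors (R ⧸ Q) := by
    rw [mem_nonZeroDivisors_iff]
    constructor
    · intro z hz
      exact htbreg (by simpa [smul_eq_mul] using hz)
    · intro z hz
      exact htbreg (by simpa [smul_eq_mul, mul_comm] using hz)
  have htJ : IsSMulRegular J t := by
    intro y₁ y₂ h
    have h' : t • (y₁ - y₂) = 0 := by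
      rw [smul_sub]; exact sub_eq_zero.2 h
    exact sub_eq_zero.1 (hJtf t htnzd _ h')
  -- `Hom(N, J) = 0` for every submodule `N` of `I`
  have hHom : ∀ (N : Submodule R I) (φ : N →ₗ[R] J), φ = 0 := by
    intro N φ
    ext x
    obtain ⟨p, hp, q, hq, hpq⟩ := Submodule.mem_sup.1 (hn (Ideal.pow_mem_pow htm n))
    have h1 : t ^ n • φ x = 0 := by
      rw [← hpq, add_smul, hQJ q hq, add_zero, ← map_smul]
      have : p • x = 0 := Subtype.ext (hPI p hp x.1)
      rw [this, map_zero]
    have := (htJ.pow n) (h1.trans (smul_zero (t ^ n)).symm)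
    rw [this]
    rfl
  -- depth of `J` is one
  have hIM := Groth.Agent.Lib.Helper29.maximalIdeal_smul_top_ne_top R J
  have hd1 : (1 : ℕ∞) ≤ LocCoh.depth R J := by
    have hw : RingTheory.Sequence.IsWeaklyRegular J [t] := by
      rw [RingTheory.Sequence.isWeaklyRegular_cons_iff]
      exact ⟨htJ, RingTheory.Sequence.IsWeaklyRegular.nil R _⟩
    have := Groth.Agent.Lib.Helper29.DepthLib.length_le_idealDepth (IsLocalRing.maximalIdeal R) J hw
      (by simpa using htm)
    exact_mod_cast this
  have hd2 : ((LocCoh.depth R J : ℕ∞) : WithBot ℕ∞) ≤ 1 := by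
    refine (Groth.Agent.Lib.Helper29.DepthLib.depth_le_supportDim R J).trans ?_
    rw [Module.supportDim_eq_ringKrullDim_quotient_annihilator, ← hQdim]
    have hle : Q ≤ Module.annihilator R J := fun q hq =>
      Module.mem_annihilator.2 (hQJ q hq)
    exact ringKrullDim_le_of_surjective (Ideal.Quotient.factor hle)
      (Ideal.Quotient.factor_surjective hle)
  have hd : LocCoh.idealDepth (IsLocalRing.maximalIdeal R) J = ((1 : ℕ) : ℕ∞) := by
    apply le_antisymm
    · have : ((LocCoh.depth R J : ℕ∞) : WithBot ℕ∞) ≤ ((1 : ℕ∞) : WithBot ℕ∞) := hd2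
      exact_mod_cast this
    · exact_mod_cast hd1
  have hext := Groth.Agent.Lib.Helper29.DepthExt.nontrivial_ext_of_idealDepth_eq
    (IsLocalRing.maximalIdeal R) J hIM 1 hd
  -- a surjection `I → R ⧸ 𝔪`
  obtain ⟨N, hN⟩ := IsCoatomic.exists_coatom (α := Submodule R I)
  have hsimple : IsSimpleModule R (I ⧸ N) := isSimpleModule_iff_isCoatom.2 hN
  obtain ⟨m', hm', ⟨e⟩⟩ := isSimpleModule_iff_quot_maximal.mp hsimple
  have hm'eq : m' = IsLocalRing.maximalIdeal R := IsLocalRing.eq_maximalIdeal hm'
  subst hm'eq
  let g : I →ₗ[R] R ⧸ IsLocalRing.maximalIdeal R := e.toLinearMap ∘ₗ N.mkQ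
  have hg : Function.Surjective g := e.surjective.comp N.mkQ_surjective
  have hex : Function.Exact N.subtype g := by
    intro x
    constructor
    · intro hx
      have hx' : N.mkQ x = 0 := e.injective (by rw [map_zero]; exact hx)
      rw [Submodule.mkQ_apply, Submodule.Quotient.mk_eq_zero] at hx'
      exact ⟨⟨x, hx'⟩, rfl⟩
    · rintro ⟨⟨y, hy⟩, rfl⟩
      change e (N.mkQ y) = 0
      rw [Submodule.mkQ_apply, (Submodule.Quotient.mk_eq_zero N).2 hy, map_zero]
  by_contra hne
  rw [not_nontrivial_iff_subsingleton] at hne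
  have h0 := Groth.Agent.Lib.Helper29.MatFac.subsingleton_ext_zero_of_forall N J (hHom N)
  have := Groth.Agent.Lib.Helper29.MatFac.subsingleton_ext_succ_of_contra (ModuleCat.of R J)
    N I (R ⧸ IsLocalRing.maximalIdeal R) N.subtype g (Submodule.injective_subtype _) hg hex 0 h0 hne
  exact not_subsingleton _ this

end Groth.Agent.S18363
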