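import Groth.Statements.S18364
import Groth.Agent.Lib.Helper9.ModifKer
import Mathlib.RingTheory.Ideal.MinimalPrime.Localization
import Mathlib.RingTheory.Localization.AtPrime.Basic
import Mathlib.Tactic.Ring
-- import your own Groth.Agent.* helpers here

set_option autoImplicit false
universe u
open CAlg

open Groth.Agent.Lib.Helper9

namespace Groth.Agent.S18364

lemma nilp {A : Type u} [CommRing A] (π : A) (P : Ideal A) [P.IsPrime]
    (hP : P ∈ (Ideal.span {π}).minimalPrimes) (s₀ : A) (hs₀ : s₀ ∈ P) :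
    ∃ (n : ℕ) (t a : A), t ∉ P ∧ t * s₀ ^ n = π * a := by
  have hmem : algebraMap A (Localization.AtPrime P) s₀ ∈
      P.map (algebraMap A (Localization.AtPrime P)) := Ideal.mem_map_of_mem _ hs₀
  rw [← IsLocalization.AtPrime.radical_map_of_mem_minimalPrimes (A := Localization.AtPrime P) P
    (Ideal.span {π}) hP] at hmem
  obtain ⟨n, hn⟩ := hmem
  rw [Ideal.map_span, Set.image_singleton, Ideal.mem_span_singleton'] at hn
  obtain ⟨z, hz⟩ := hn
  obtain ⟨⟨a, t⟩, hat⟩ := IsLocalization.surj P.primeCompl z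
  have h1 : algebraMap A (Localization.AtPrime P) ((t : A) * s₀ ^ n) =
      algebraMap A (Localization.AtPrime P) (π * a) := by
    simp only [map_mul, map_pow]
    rw [← hz, ← hat]
    ring
  obtain ⟨c, hc⟩ := (IsLocalization.eq_iff_exists P.primeCompl _).mp h1
  refine ⟨n, c * t, c * a, P.primeCompl.mul_mem c.2 t.2, ?_⟩
  rw [mul_assoc, hc]
  ring

/-- Let A be a Noetherian ring, π an element of A, and (𝔓_i)_{i ∈ ι} an injective finite family listing
exactly the minimal prime ideals over (π). Let M be a finitely generated A-module and M̄ = M/πM. For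
a subset T of ι let K(T) ⊆ M̄ be the submodule of elements whose image in the localisation of M̄ at
𝔓_i is zero for every i ∈ T, and N(T) ⊆ M its preimage in M. Assume K(ι) = 0, i.e. no nonzero
element of M̄ vanishes at all the minimal primes (every associated prime of M̄ is one of the 𝔓_i).
Then for every subset Y of ι with complement Z one has N(Y) ∩ N(Z) = πM, and the same construction
applied to the module N(Y) instead of M — the preimage in N(Y) of the elements of N(Y)/πN(Y)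
vanishing at every 𝔓_i with i ∈ Z — is, as a submodule of M, equal to N(Y) ∩ N(Z). (Geometric
meaning: A is the local ring of a flat family of curves over a discrete valuation ring with
uniformizer π at a point of the reduced special fibre, M the stalk of a torsion-free rank-one sheaf
I, Y a set of components of the special fibre through the point, and N(Y) the stalk of the kernel
I^Y of I → I(s)_Y; the statement is (I^Y)^Z = I^Y ∩ I^Z = πI. Reducedness of A/πA, flatness and rank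
one are not used.) -/
theorem result
    (A : Type u) [CommRing A] [IsNoetherianRing A] (π : A)
    (ι : Type) [Finite ι] (𝔓 : ι → Ideal A) [∀ i, (𝔓 i).IsPrime]
    (h𝔓 : ∀ i, 𝔓 i ∈ (Ideal.span {π}).minimalPrimes) (h𝔓inj : Function.Injective 𝔓)
    (h𝔓surj : ∀ 𝔔 ∈ (Ideal.span {π}).minimalPrimes, ∃ i, 𝔓 i = 𝔔)
    (M : Type u) [AddCommGroup M] [Module A M] [Module.Finite A M]
    (K : Set ι → Submodule A (M ⧸ Ideal.span {π} • (⊤ : Submodule A M)))
    (hK : ∀ T : Set ι, K T = ⨅ i ∈ T, LinearMap.ker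
      (LocalizedModule.mkLinearMap (𝔓 i).primeCompl (M ⧸ Ideal.span {π} • (⊤ : Submodule A M))))
    (htf : K Set.univ = ⊥)
    (N : Set ι → Submodule A M)
    (hN : ∀ T : Set ι, N T = (K T).comap (Submodule.mkQ (Ideal.span {π} • (⊤ : Submodule A M))))
    (Y : Set ι) :
    N Y ⊓ N Yᶜ = Ideal.span {π} • (⊤ : Submodule A M) ∧
    Submodule.map (N Y).subtype
      ((⨅ i ∈ Yᶜ, LinearMap.ker (LocalizedModule.mkLinearMap (𝔓 i).primeCompl
          (↥(N Y) ⧸ Ideal.span {π} • (⊤ : Submodule A ↥(N Y))))).comap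
        (Submodule.mkQ (Ideal.span {π} • (⊤ : Submodule A ↥(N Y)))))
      = N Y ⊓ N Yᶜ := by
  classical
  have _ := Fintype.ofFinite ι
  have hNmem : ∀ (T : Set ι) (x : M), x ∈ N T ↔
      ∀ i ∈ T, ∃ s, s ∉ 𝔓 i ∧ ∃ m' : M, s • x = π • m' := by
    intro T x
    rw [hN, Submodule.mem_comap, hK]
    simp only [Submodule.mem_iInf]
    exact forall₂_congr fun i _ => mkQ_mem_ker_iff π (𝔓 i) x
  have hπN : ∀ (T : Set ι) (m : M), π • m ∈ N T := fun T m =>
    (hNmem T _).mpr fun i _ => ⟨1, (Ideal.ne_top_iff_one _).mp (Ideal.IsPrime.ne_top inferInstance),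
      m, one_smul _ _⟩
  have hNuniv : ∀ x, x ∈ N Set.univ → ∃ m', x = π • m' := by
    intro x hx
    rw [hN, Submodule.mem_comap, htf, Submodule.mem_bot, Submodule.mkQ_apply,
      Submodule.Quotient.mk_eq_zero, mem_span_singleton_smul_top_iff] at hx
    exact hx
  have hNinter : ∀ (T : Set ι) (x : M), x ∈ N T → x ∈ N Tᶜ → ∃ m', x = π • m' := by
    intro T x h1 h2
    apply hNuniv
    rw [hNmem] at h1 h2 ⊢
    intro i _
    by_cases hi : i ∈ T
    · exact h1 i hi
    · exact h2 i hi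
  have hfirst : N Y ⊓ N Yᶜ = Ideal.span {π} • (⊤ : Submodule A M) := by
    apply le_antisymm
    · rintro x ⟨h1, h2⟩
      rw [mem_span_singleton_smul_top_iff]
      exact hNinter Y x h1 h2
    · intro x hx
      rw [mem_span_singleton_smul_top_iff] at hx
      obtain ⟨m', rfl⟩ := hx
      exact ⟨hπN _ _, hπN _ _⟩
  refine ⟨hfirst, ?_⟩
  apply le_antisymm
  · rintro _ ⟨x, hx, rfl⟩
    rw [SetLike.mem_coe, Submodule.mem_comap] at hx
    simp only [Submodule.mem_iInf] at hx
    refine ⟨x.2, ?_⟩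
    show (x : M) ∈ N Yᶜ
    rw [hNmem]
    intro i hi
    obtain ⟨s, hs, y, hy⟩ := (mkQ_mem_ker_iff π (𝔓 i) x).mp (hx i hi)
    refine ⟨s, hs, (y : M), ?_⟩
    have := congrArg Subtype.val hy
    simpa using this
  · rw [hfirst]
    intro z hz
    rw [mem_span_singleton_smul_top_iff] at hz
    obtain ⟨m, rfl⟩ := hz
    refine ⟨⟨π • m, hπN Y m⟩, ?_, rfl⟩
    rw [SetLike.mem_coe, Submodule.mem_comap]
    simp only [Submodule.mem_iInf]
    intro i hi
    rw [mkQ_mem_ker_iff]
    -- choose s₀ in all 𝔓 j (j ∈ Y) but not in 𝔓 i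
    have hnle : ¬ (∏ j ∈ Finset.univ.filter (· ∈ Y), 𝔓 j) ≤ 𝔓 i := by
      rw [(inferInstance : (𝔓 i).IsPrime).prod_le]
      rintro ⟨j, hj, hji⟩
      have hjY : j ∈ Y := (Finset.mem_filter.mp hj).2
      have : 𝔓 j = 𝔓 i := le_antisymm hji ((h𝔓 i).2 (h𝔓 j).1 hji)
      exact hi ((h𝔓inj this) ▸ hjY)
    obtain ⟨s₀, hs₀, hs₀i⟩ := SetLike.not_le_iff_exists.mp hnle
    have hs₀j : ∀ j ∈ Y, s₀ ∈ 𝔓 j := fun j hj =>
      Ideal.prod_le_inf.trans (Finset.inf_le (Finset.mem_filter.mpr ⟨Finset.mem_univ j, hj⟩)) hs₀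
    have hnil : ∀ j : ι, ∃ (n : ℕ) (t a : A), j ∈ Y → (t ∉ 𝔓 j ∧ t * s₀ ^ n = π * a) := by
      intro j
      by_cases hj : j ∈ Y
      · obtain ⟨n, t, a, ht, hta⟩ := nilp π (𝔓 j) (h𝔓 j) s₀ (hs₀j j hj)
        exact ⟨n, t, a, fun _ => ⟨ht, hta⟩⟩
      · exact ⟨0, 0, 0, fun h => absurd h hj⟩
    choose nf tf af hf using hnil
    have hsY : (s₀ ^ (∑ j, nf j)) • m ∈ N Y := by
      rw [hNmem]
      intro j hj
      obtain ⟨ht, hta⟩ := hf j hj
      refine ⟨tf j, ht, (af j * s₀ ^ ((∑ j, nf j) - nf j)) • m, ?_⟩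
      have hle : nf j ≤ ∑ j, nf j :=
        Finset.single_le_sum (f := nf) (fun _ _ => Nat.zero_le _) (Finset.mem_univ j)
      have hpow : s₀ ^ (∑ j, nf j) = s₀ ^ nf j * s₀ ^ ((∑ j, nf j) - nf j) := by
        rw [← pow_add, Nat.add_sub_cancel' hle]
      rw [smul_smul, smul_smul, hpow, ← mul_assoc, hta]
      ring_nf
    refine ⟨s₀ ^ (∑ j, nf j), fun h => hs₀i ((inferInstance : (𝔓 i).IsPrime).mem_of_pow_mem _ h),
      ⟨(s₀ ^ (∑ j, nf j)) • m, hsY⟩, ?_⟩
    apply Subtype.ext
    simp only [Submodule.coe_smul]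
    rw [smul_comm]

end Groth.Agent.S18364
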