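import Groth.Statements.S18365
import Groth.Agent.Lib.Helper9.ModifKer
-- import your own Groth.Agent.* helpers here

set_option autoImplicit false
universe u
open CAlg

open Groth.Agent.Lib.Helper9

namespace Groth.Agent.S18365

/-- Let A be a Noetherian ring, π an element of A, (𝔓_i)_{i ∈ ι} an injective finite family listing
exactly the minimal prime ideals over (π), and M a finitely generated A-module on which π acts
injectively; put M̄ = M/πM. For T ⊆ ι let K(T) ⊆ M̄ be the submodule of elements whose image in the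
localisation of M̄ at 𝔓_i vanishes for every i ∈ T, and N(T) ⊆ M its preimage; assume K(ι) = 0.
Suppose that M̄ decomposes at Y, i.e. K(Y) + K(Yᶜ) = M̄, and that for a subset Z the module
N(Y)/πN(Y) decomposes at Z, i.e. its submodule of elements vanishing at every 𝔓_i (i ∈ Z) and its
submodule of elements vanishing at every 𝔓_i (i ∉ Z) together span it. Then M̄ decomposes at Z: K(Z)
+ K(Zᶜ) = M̄. (Geometric meaning: for a flat family of curves over a discrete valuation ring with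
uniformizer π, I a torsion-free rank-one sheaf flat over the base, Y a subcurve of the special fibre
X(s) at which I(s) decomposes and I^Y = ker(I → I(s)_Y): if I^Y(s) decomposes at a subcurve Z then
so does I(s); decomposition of a sheaf at Z is the surjectivity of I(s) → I(s)_Z ⊕ I(s)_{Z^c},
checked on stalks. Reducedness of the special fibre and rank one are not used.) -/
theorem result
    (A : Type u) [CommRing A] [IsNoetherianRing A] (π : A)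
    (ι : Type) [Finite ι] (𝔓 : ι → Ideal A) [∀ i, (𝔓 i).IsPrime]
    (h𝔓 : ∀ i, 𝔓 i ∈ (Ideal.span {π}).minimalPrimes) (h𝔓inj : Function.Injective 𝔓)
    (h𝔓surj : ∀ 𝔔 ∈ (Ideal.span {π}).minimalPrimes, ∃ i, 𝔓 i = 𝔔)
    (M : Type u) [AddCommGroup M] [Module A M] [Module.Finite A M]
    (hπ : ∀ m : M, π • m = 0 → m = 0)
    (K : Set ι → Submodule A (M ⧸ Ideal.span {π} • (⊤ : Submodule A M)))
    (hK : ∀ T : Set ι, K T = ⨅ i ∈ T, LinearMap.ker
      (LocalizedModule.mkLinearMap (𝔓 i).primeCompl (M ⧸ Ideal.span {π} • (⊤ : Submodule A M))))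
    (htf : K Set.univ = ⊥)
    (N : Set ι → Submodule A M)
    (hN : ∀ T : Set ι, N T = (K T).comap (Submodule.mkQ (Ideal.span {π} • (⊤ : Submodule A M))))
    (Y Z : Set ι) (hY : K Y ⊔ K Yᶜ = ⊤)
    (K' : Set ι → Submodule A (↥(N Y) ⧸ Ideal.span {π} • (⊤ : Submodule A ↥(N Y))))
    (hK' : ∀ T : Set ι, K' T = ⨅ i ∈ T, LinearMap.ker
      (LocalizedModule.mkLinearMap (𝔓 i).primeCompl (↥(N Y) ⧸ Ideal.span {π} • (⊤ : Submodule A ↥(N Y)))))
    (hZ : K' Z ⊔ K' Zᶜ = ⊤) :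
    K Z ⊔ K Zᶜ = ⊤ := by
  classical
  have hNmem : ∀ (T : Set ι) (x : M), x ∈ N T ↔
      ∀ i ∈ T, ∃ s, s ∉ 𝔓 i ∧ ∃ m' : M, s • x = π • m' := by
    intro T x
    rw [hN, Submodule.mem_comap, hK]
    simp only [Submodule.mem_iInf]
    exact forall₂_congr fun i _ => mkQ_mem_ker_iff π (𝔓 i) x
  have hK'mem : ∀ (T : Set ι) (x : ↥(N Y)),
      Submodule.mkQ (Ideal.span {π} • (⊤ : Submodule A ↥(N Y))) x ∈ K' T ↔
      ∀ i ∈ T, ∃ s, s ∉ 𝔓 i ∧ ∃ y : ↥(N Y), s • x = π • y := by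
    intro T x
    rw [hK']
    simp only [Submodule.mem_iInf]
    exact forall₂_congr fun i _ => mkQ_mem_ker_iff π (𝔓 i) x
  have hπN : ∀ (T : Set ι) (m : M), π • m ∈ N T := fun T m =>
    (hNmem T _).mpr fun i _ => ⟨1, (Ideal.ne_top_iff_one _).mp (Ideal.IsPrime.ne_top inferInstance),
      m, one_smul _ _⟩
  have hNuniv : ∀ x, x ∈ N Set.univ → ∃ m', x = π • m' := by
    intro x hx
    rw [hN, Submodule.mem_comap, htf, Submodule.mem_bot, Submodule.mkQ_apply,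
      Submodule.Quotient.mk_eq_zero, mem_span_singleton_smul_top_iff] at hx
    exact hx
  have hNinter : ∀ (T : Set ι) (x : M), x ∈ N T → x ∈ N Tᶜ → ∃ m', x = π • m' := by
    intro T x h1 h2
    apply hNuniv
    rw [hNmem] at h1 h2 ⊢
    intro i _
    by_cases hi : i ∈ T
    · exact h1 i hi
    · exact h2 i hi
  have hsplitY : ∀ m : M, ∃ n ∈ N Y, ∃ m₀ ∈ N Yᶜ, m = n + m₀ := by
    intro m
    have hm : Submodule.mkQ (Ideal.span {π} • (⊤ : Submodule A M)) m ∈ K Y ⊔ K Yᶜ :=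
      hY ▸ Submodule.mem_top
    obtain ⟨k₁, hk₁, k₂, hk₂, hk⟩ := Submodule.mem_sup.mp hm
    obtain ⟨n₁, rfl⟩ := Submodule.mkQ_surjective _ k₁
    refine ⟨n₁, by rw [hN]; exact hk₁, m - n₁, ?_, by abel⟩
    rw [hN, Submodule.mem_comap, map_sub, ← hk, add_sub_cancel_left]
    exact hk₂
  have hsplitZ' : ∀ x : ↥(N Y), ∃ x₁ x₂ : ↥(N Y),
      Submodule.mkQ (Ideal.span {π} • (⊤ : Submodule A ↥(N Y))) x₁ ∈ K' Z ∧
      Submodule.mkQ (Ideal.span {π} • (⊤ : Submodule A ↥(N Y))) x₂ ∈ K' Zᶜ ∧ x = x₁ + x₂ := by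
    intro x
    have hx : Submodule.mkQ (Ideal.span {π} • (⊤ : Submodule A ↥(N Y))) x ∈ K' Z ⊔ K' Zᶜ :=
      hZ ▸ Submodule.mem_top
    obtain ⟨k₁, hk₁, k₂, hk₂, hk⟩ := Submodule.mem_sup.mp hx
    obtain ⟨x₁, rfl⟩ := Submodule.mkQ_surjective _ k₁
    refine ⟨x₁, x - x₁, hk₁, ?_, by abel⟩
    rw [map_sub, ← hk, add_sub_cancel_left]
    exact hk₂
  have hcoe : ∀ (T : Set ι) (x : ↥(N Y)),
      Submodule.mkQ (Ideal.span {π} • (⊤ : Submodule A ↥(N Y))) x ∈ K' T → (x : M) ∈ N T := by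
    intro T x hx
    rw [hK'mem] at hx
    rw [hNmem]
    intro i hi
    obtain ⟨s, hs, y, hy⟩ := hx i hi
    refine ⟨s, hs, (y : M), ?_⟩
    have := congrArg Subtype.val hy
    simpa using this
  suffices hmain : ∀ m : M, ∃ p ∈ N Z, ∃ q ∈ N Zᶜ, m = p + q by
    rw [eq_top_iff]
    rintro k -
    obtain ⟨m, rfl⟩ := Submodule.mkQ_surjective _ k
    obtain ⟨p, hp, q, hq, rfl⟩ := hmain m
    rw [map_add]
    refine Submodule.add_mem_sup ?_ ?_
    · rw [hN] at hp; exact hp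
    · rw [hN] at hq; exact hq
  intro m
  obtain ⟨n, hn, m₀, hm₀, rfl⟩ := hsplitY m
  -- Part A
  obtain ⟨x₁, x₂, hx₁, hx₂, hx⟩ := hsplitZ' ⟨n, hn⟩
  have hA₁ := hcoe Z x₁ hx₁
  have hA₂ := hcoe Zᶜ x₂ hx₂
  have hnx : n = (x₁ : M) + (x₂ : M) := by
    have := congrArg Subtype.val hx
    simpa using this
  -- Part B
  obtain ⟨w₁, w₂, hw₁, hw₂, hw⟩ := hsplitZ' ⟨π • m₀, hπN Y m₀⟩
  have hB₁ := hcoe Z w₁ hw₁
  have hB₂ := hcoe Zᶜ w₂ hw₂
  have hwsum : π • m₀ = (w₁ : M) + (w₂ : M) := by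
    have := congrArg Subtype.val hw
    simpa using this
  have hw₁' : (w₁ : M) ∈ N Zᶜ := by
    have h : (w₁ : M) = π • m₀ - (w₂ : M) := by rw [hwsum]; abel
    rw [h]
    exact (N Zᶜ).sub_mem (hπN _ _) hB₂
  have hw₂' : (w₂ : M) ∈ N Z := by
    have h : (w₂ : M) = π • m₀ - (w₁ : M) := by rw [hwsum]; abel
    rw [h]
    exact (N Z).sub_mem (hπN _ _) hB₁
  obtain ⟨m₁, hm₁⟩ := hNinter Z _ hB₁ hw₁'
  obtain ⟨m₂, hm₂⟩ := hNinter Z _ hw₂' hB₂
  have hm₀eq : m₀ = m₁ + m₂ := by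
    have h := hπ (m₀ - (m₁ + m₂)) (by rw [smul_sub, smul_add, ← hm₁, ← hm₂, hwsum, sub_self])
    exact sub_eq_zero.mp h
  have hc₁ : ∀ i ∈ Z, ∃ s, s ∉ 𝔓 i ∧ s • m₁ ∈ N Y := by
    intro i hi
    obtain ⟨s, hs, y, hy⟩ := (hK'mem Z w₁).mp hw₁ i hi
    refine ⟨s, hs, ?_⟩
    have h1 : s • (w₁ : M) = π • (y : M) := by
      have := congrArg Subtype.val hy
      simpa using this
    rw [hm₁, smul_comm] at h1
    have h2 : s • m₁ = (y : M) := by
      have h := hπ (s • m₁ - (y : M)) (by rw [smul_sub, h1, sub_self])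
      exact sub_eq_zero.mp h
    rw [h2]
    exact y.2
  have hc₂ : ∀ i ∈ Zᶜ, ∃ s, s ∉ 𝔓 i ∧ s • m₂ ∈ N Y := by
    intro i hi
    obtain ⟨s, hs, y, hy⟩ := (hK'mem Zᶜ w₂).mp hw₂ i hi
    refine ⟨s, hs, ?_⟩
    have h1 : s • (w₂ : M) = π • (y : M) := by
      have := congrArg Subtype.val hy
      simpa using this
    rw [hm₂, smul_comm] at h1
    have h2 : s • m₂ = (y : M) := by
      have h := hπ (s • m₂ - (y : M)) (by rw [smul_sub, h1, sub_self])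
      exact sub_eq_zero.mp h
    rw [h2]
    exact y.2
  obtain ⟨a₁, ha₁, b₁, hb₁, hab₁⟩ := hsplitY m₁
  obtain ⟨a₂, ha₂, b₂, hb₂, hab₂⟩ := hsplitY m₂
  have hb₁Z : b₁ ∈ N Z := by
    rw [hNmem]
    intro i hi
    obtain ⟨s, hs, hsm⟩ := hc₁ i hi
    have h1 : s • b₁ ∈ N Y := by
      have h : s • b₁ = s • m₁ - s • a₁ := by rw [hab₁, smul_add]; abel
      rw [h]
      exact (N Y).sub_mem hsm ((N Y).smul_mem _ ha₁)
    have h2 : s • b₁ ∈ N Yᶜ := (N Yᶜ).smul_mem _ hb₁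
    obtain ⟨m', hm'⟩ := hNinter Y _ h1 h2
    exact ⟨s, hs, m', hm'⟩
  have hb₂Z : b₂ ∈ N Zᶜ := by
    rw [hNmem]
    intro i hi
    obtain ⟨s, hs, hsm⟩ := hc₂ i hi
    have h1 : s • b₂ ∈ N Y := by
      have h : s • b₂ = s • m₂ - s • a₂ := by rw [hab₂, smul_add]; abel
      rw [h]
      exact (N Y).sub_mem hsm ((N Y).smul_mem _ ha₂)
    have h2 : s • b₂ ∈ N Yᶜ := (N Yᶜ).smul_mem _ hb₂
    obtain ⟨m', hm'⟩ := hNinter Y _ h1 h2
    exact ⟨s, hs, m', hm'⟩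
  have ha : a₁ + a₂ ∈ N Yᶜ := by
    have h : a₁ + a₂ = m₀ - (b₁ + b₂) := by rw [hm₀eq, hab₁, hab₂]; abel
    rw [h]
    exact (N Yᶜ).sub_mem hm₀ ((N Yᶜ).add_mem hb₁ hb₂)
  obtain ⟨m₃, hm₃⟩ := hNinter Y _ ((N Y).add_mem ha₁ ha₂) ha
  refine ⟨(x₁ : M) + (a₁ + a₂) + b₁, ?_, (x₂ : M) + b₂, ?_, ?_⟩
  · exact (N Z).add_mem ((N Z).add_mem hA₁ (hm₃ ▸ hπN Z m₃)) hb₁Z
  · exact (N Zᶜ).add_mem hA₂ hb₂Z
  · rw [hnx, hm₀eq, hab₁, hab₂]; abel

end Groth.Agent.S18365
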