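import Groth.Statements.S18366
import Groth.Agent.Lib.Helper23.GeomRedSmooth
import Groth.Agent.Lib.Helper23.SepClosedDense

set_option autoImplicit false
universe u
open CategoryTheory CategoryTheory.Limits AlgebraicGeometry
open Variety

namespace Groth.Agent.S18366

/-- Let k be a separably closed field and X a non-empty k-scheme of finite type which is geometrically
reduced. Then X has a k-rational point, i.e. the structure morphism admits a section. (Non-emptiness
is part of the hypotheses: the empty scheme is geometrically reduced of finite type and has no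
point. The published statement does not assume X non-empty; this row does, since the empty scheme
has no rational point.) -/
theorem result (k : Type u) [Field k] [IsSepClosed k]
    {X : Scheme.{u}} (f : X ⟶ Spec (CommRingCat.of k)) [LocallyOfFiniteType f] [QuasiCompact f] [GeometricallyReduced f]
    [Nonempty X] :
    ∃ s : Spec (CommRingCat.of k) ⟶ X, s ≫ f = 𝟙 (Spec (CommRingCat.of k)) := by
  have hlfp : LocallyOfFinitePresentation f := inferInstance
  have hd := Groth.Agent.Lib.Helper23.GeomRedSmooth.dense_smoothLocus f
  obtain ⟨x, hx⟩ := hd.nonempty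
  let U := f.smoothLocus
  have hsm : Smooth (U.ι ≫ f) := by
    rw [← Scheme.Hom.smoothLocus_eq_top_iff, ← Scheme.Hom.preimage_smoothLocus_eq]
    exact U.ι_preimage_self
  have hne : Nonempty U := ⟨⟨x, hx⟩⟩
  have hsm' : Smooth (Over.mk (U.ι ≫ f)).hom := hsm
  have hne' : Nonempty ↥(Over.mk (U.ι ≫ f)).left := hne
  obtain ⟨s, hs⟩ := Groth.Agent.Lib.Helper23.SepClosedDense.exists_section_of_smooth
    (Over.mk (U.ι ≫ f))
  exact ⟨s ≫ U.ι, by simpa using hs⟩

end Groth.Agent.S18366
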