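import Groth.Statements.S18367
import Groth.Agent.Lib.Helper29.CoAcyclic
import Groth.Agent.Lib.Helper29.FlatLocal2
import Groth.Agent.Lib.Helper33.AuslanderBuchsbaum

set_option autoImplicit false
universe u
open CategoryTheory CategoryTheory.Limits
open LocAlg

namespace Groth.Agent.S18367

/-- Let R be a Cohen–Macaulay local ring of Krull dimension g and K = (K^0 → K^1 → ⋯) a bounded cochain
complex of finitely generated free R-modules (K^i = 0 for i > N) such that every cohomology module
H^i(K) has finite length. Then H^i(K) = 0 for all i < g. -/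
theorem result (R : Type u) [CommRing R]
    [LocCoh.IsCohenMacaulayLocalRing R] (g : ℕ) (hg : ringKrullDim R = g) (K : CochainComplex (ModuleCat.{u} R) ℕ)
    (N : ℕ) (hbd : ∀ i, N < i → IsZero (K.X i)) (hfree : ∀ i, Module.Free R (K.X i) ∧ Module.Finite R (K.X i))
    (hfl : ∀ i, IsFiniteLength R (K.homology i)) (i : ℕ) (hi : i < g) :
    IsZero (K.homology i) := by
  have hfin : ∀ j, Module.Finite R ((fun j => (K.X j : Type u)) j) := fun j => (hfree j).2
  have hfr : ∀ j, Module.Free R (K.X j) := fun j => (hfree j).1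
  let d : ∀ j, (K.X j) →ₗ[R] (K.X (j + 1)) := fun j => (K.d j (j + 1)).hom
  have hd : ∀ j, (d (j + 1)).comp (d j) = 0 := by
    intro j
    have := K.d_comp_d j (j + 1) (j + 1 + 1)
    exact congrArg ModuleCat.Hom.hom this
  -- depth of `R`
  have hdR : (g : ℕ∞) ≤ LocCoh.depth R R := by
    have h1 := LocCoh.IsCohenMacaulayLocalRing.supportDim_eq_depth (R := R)
    rw [Module.supportDim_self_eq_ringKrullDim, hg] at h1
    have h2 : ((g : ℕ∞) : WithBot ℕ∞) = ((LocCoh.depth R R : ℕ∞) : WithBot ℕ∞) := h1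
    exact (WithBot.coe_injective h2).le
  have hdepth : ∀ j, (g : ℕ∞) ≤ LocCoh.depth R (K.X j) := by
    intro j
    unfold LocCoh.depth at hdR ⊢
    rw [Groth.Agent.Lib.Helper29.DepthSES.natCast_le_idealDepth_iff] at hdR ⊢
    intro l hl
    exact Groth.Agent.Lib.Helper33.AB.ext_free_subsingleton _ l (K.X j) (hdR l hl)
  -- annihilation of cohomology
  have hann : ∀ j, ∀ x ∈ IsLocalRing.maximalIdeal R, ∃ k : ℕ, ∀ c : K.homology j, x ^ k • c = 0 := by
    intro j x hx
    have hnoeH : IsNoetherian R (K.homology j) :=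
      (isFiniteLength_iff_isNoetherian_isArtinian.1 (hfl j)).1
    have hfinH : Module.Finite R (K.homology j) := inferInstance
    have h1 := Groth.Agent.Lib.Helper29.DimTheory.supportDim_le_zero_of_isFiniteLength
      (K.homology j) (hfl j)
    obtain ⟨k, hk⟩ := Groth.Agent.Lib.Helper29.FlatLocal.exists_pow_mem_annihilator R
      (K.homology j) h1 hx
    exact ⟨k, fun c => Module.mem_annihilator.1 hk c⟩
  have h0 : ∀ z : K.X 0, d 0 z = 0 → ∀ x ∈ IsLocalRing.maximalIdeal R, ∃ k : ℕ, x ^ k • z = 0 := by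
    intro z hz x hx
    obtain ⟨k, hk⟩ := hann 0 x hx
    refine ⟨k, ?_⟩
    let S := K.sc' 0 0 1
    let eiso : K.homology 0 ≅ S.moduleCatLeftHomologyData.H :=
      (K.homologyIsoSc' 0 0 1 (by simp) (by simp)) ≪≫ S.moduleCatHomologyIso
    let zc : LinearMap.ker S.g.hom := ⟨z, hz⟩
    have h1 : x ^ k • (Submodule.Quotient.mk zc :
        LinearMap.ker S.g.hom ⧸ LinearMap.range S.moduleCatToCycles) = 0 := by
      have h2 := hk (eiso.toLinearEquiv.symm (Submodule.Quotient.mk zc))
      have h2' := (eiso.toLinearEquiv.symm.map_smul (x ^ k) (Submodule.Quotient.mk zc)).trans h2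
      exact eiso.toLinearEquiv.symm.injective (h2'.trans (map_zero _).symm)
    rw [← Submodule.Quotient.mk_smul, Submodule.Quotient.mk_eq_zero] at h1
    obtain ⟨w, hw⟩ := h1
    have h3 := congrArg Subtype.val hw
    have hf0 : K.d 0 0 = 0 := K.shape 0 0 (by simp)
    have h4 : (S.moduleCatToCycles w : S.X₂) = (K.d 0 0).hom w := rfl
    rw [h4, hf0] at h3
    exact h3.symm
  have hH : ∀ j, ∀ z : K.X (j + 1), d (j + 1) z = 0 → ∀ x ∈ IsLocalRing.maximalIdeal R,
      ∃ k : ℕ, ∃ w : K.X j, d j w = x ^ k • z := by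
    intro j z hz x hx
    obtain ⟨k, hk⟩ := hann (j + 1) x hx
    refine ⟨k, ?_⟩
    let S := K.sc' j (j + 1) (j + 1 + 1)
    let eiso : K.homology (j + 1) ≅ S.moduleCatLeftHomologyData.H :=
      (K.homologyIsoSc' j (j + 1) (j + 1 + 1) (by simp) (by simp)) ≪≫ S.moduleCatHomologyIso
    let zc : LinearMap.ker S.g.hom := ⟨z, hz⟩
    have h1 : x ^ k • (Submodule.Quotient.mk zc :
        LinearMap.ker S.g.hom ⧸ LinearMap.range S.moduleCatToCycles) = 0 := by
      have h2 := hk (eiso.toLinearEquiv.symm (Submodule.Quotient.mk zc))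
      have h2' := (eiso.toLinearEquiv.symm.map_smul (x ^ k) (Submodule.Quotient.mk zc)).trans h2
      exact eiso.toLinearEquiv.symm.injective (h2'.trans (map_zero _).symm)
    rw [← Submodule.Quotient.mk_smul, Submodule.Quotient.mk_eq_zero] at h1
    obtain ⟨w, hw⟩ := h1
    exact ⟨w, congrArg Subtype.val hw⟩
  rw [← K.exactAt_iff_isZero_homology]
  cases i with
  | zero =>
    rw [K.exactAt_iff' 0 0 1 (by simp) (by simp),
      CategoryTheory.ShortComplex.ShortExact.moduleCat_exact_iff_function_exact]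
    have hinj := Groth.Agent.Lib.Helper29.CoAcyclic.injective_zero
      (fun j => (K.X j : Type u)) d g hdepth h0 hi
    have hf0 : K.d 0 0 = 0 := K.shape 0 0 (by simp)
    intro y
    change (K.d 0 1).hom y = 0 ↔ y ∈ Set.range (K.d 0 0).hom
    constructor
    · intro hy
      have h1 : (d 0) y = (d 0) 0 := hy.trans (map_zero _).symm
      have : y = 0 := hinj h1
      exact ⟨0, by rw [this]; exact map_zero _⟩
    · rintro ⟨w, rfl⟩
      rw [hf0]
      simp
  | succ j =>
    rw [K.exactAt_iff' j (j + 1) (j + 1 + 1) (by simp) (by simp),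
      CategoryTheory.ShortComplex.ShortExact.moduleCat_exact_iff_function_exact]
    exact Groth.Agent.Lib.Helper29.CoAcyclic.exact_of_lt
      (fun j => (K.X j : Type u)) d hd g hdepth h0 hH j hi

end Groth.Agent.S18367
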