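import Groth.Statements.S1837
import Groth.Agent.Lib.Helper86.Glue5

set_option autoImplicit false
set_option linter.style.haveILetI false
universe u
open TensorProduct
open CycAlg

namespace Groth.Agent.S1837

/-- Let A be Noetherian with pairwise distinct maximal ideals 𝔪₁, …, 𝔪_r, and for each i a ring map φ_i
from A_{𝔪_i} to B_i whose kernel and cokernel are killed by a power of 𝔪_i. Then there is an
A-algebra B whose base change to each A_{𝔪_i} is isomorphic to B_i and whose structure map has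
kernel and cokernel killed by a power of 𝔪₁ ∩ … ∩ 𝔪_r; if every φ_i is finite (resp. injective,
resp. surjective) B can be taken with the same property. -/
theorem result (A : Type u) [CommRing A] [IsNoetherianRing A] (r : ℕ) (m : Fin r → Ideal A) (hm : ∀ i, (m i).IsMaximal) (hinj : Function.Injective m) (B : Fin r → Type u) [∀ i, CommRing (B i)] [∀ i, Algebra (Localization.AtPrime (m i)) (B i)] (hker : ∀ i, ∃ n : ℕ, ∀ x ∈ RingHom.ker (algebraMap (Localization.AtPrime (m i)) (B i)), ∀ y ∈ Ideal.map (algebraMap A (Localization.AtPrime (m i))) (m i) ^ n, y * x = 0) (hcoker : ∀ i, ∃ n : ℕ, ∀ y ∈ Ideal.map (algebraMap A (Localization.AtPrime (m i))) (m i) ^ n, ∀ b : B i, y • b ∈ (algebraMap (Localization.AtPrime (m i)) (B i)).range) : ∃ (C : Type u) (_ : CommRing C) (_ : Algebra A C), (∀ i, Nonempty ((Localization.AtPrime (m i)) ⊗[A] C ≃ₐ[Localization.AtPrime (m i)] B i)) ∧ (∃ n : ℕ, (∀ x ∈ RingHom.ker (algebraMap A C), ∀ y ∈ (⨅ i, m i) ^ n, y * x = 0) ∧ (∀ y ∈ (⨅ i, m i)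 ^ n, ∀ c : C, y • c ∈ (algebraMap A C).range)) ∧ ((∀ i, (algebraMap (Localization.AtPrime (m i)) (B i)).Finite) → (algebraMap A C).Finite) ∧ ((∀ i, Function.Injective (algebraMap (Localization.AtPrime (m i)) (B i))) → Function.Injective (algebraMap A C)) ∧ ((∀ i, Function.Surjective (algebraMap (Localization.AtPrime (m i)) (B i))) → Function.Surjective (algebraMap A C)) := by
  classical
  letI : ∀ i, Algebra A (B i) := fun i =>
    ((algebraMap (Localization.AtPrime (m i)) (B i)).comp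
      (algebraMap A (Localization.AtPrime (m i)))).toAlgebra
  haveI : ∀ i, IsScalarTower A (Localization.AtPrime (m i)) (B i) := fun i =>
    IsScalarTower.of_algebraMap_eq (fun _ => rfl)
  have hunit : ∀ i, ∀ s, s ∉ m i → IsUnit (algebraMap A (B i) s) := by
    intro i s hs
    have : IsUnit (algebraMap A (Localization.AtPrime (m i)) s) :=
      IsLocalization.map_units _ (⟨s, hs⟩ : (m i).primeCompl)
    exact this.map (algebraMap (Localization.AtPrime (m i)) (B i))
  have hpow : ∀ i n y, y ∈ (m i) ^ n → algebraMap A (Localization.AtPrime (m i)) y ∈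
      (Ideal.map (algebraMap A (Localization.AtPrime (m i))) (m i)) ^ n := by
    intro i n y hy
    rw [← Ideal.map_pow]; exact Ideal.mem_map_of_mem _ hy
  have hker' : ∀ i, ∃ n, ∀ a, algebraMap A (B i) a = 0 → ∀ y ∈ (m i) ^ n,
      ∃ t, t ∉ m i ∧ t * (y * a) = 0 := by
    intro i
    obtain ⟨n, hn⟩ := hker i
    refine ⟨n, fun a ha y hy => ?_⟩
    have h1 : algebraMap A (Localization.AtPrime (m i)) a ∈
        RingHom.ker (algebraMap (Localization.AtPrime (m i)) (B i)) := RingHom.mem_ker.2 ha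
    have h3 := hn _ h1 _ (hpow i n y hy)
    rw [← map_mul] at h3
    obtain ⟨t, ht⟩ := (IsLocalization.map_eq_zero_iff (m i).primeCompl _ _).1 h3
    exact ⟨t, t.2, ht⟩
  have hcoker' : ∀ i, ∃ n, ∀ y ∈ (m i) ^ n, ∀ b : B i,
      ∃ t, t ∉ m i ∧ ∃ a, algebraMap A (B i) a = t • y • b := by
    intro i
    obtain ⟨n, hn⟩ := hcoker i
    refine ⟨n, fun y hy b => ?_⟩
    obtain ⟨α, hα⟩ := hn _ (hpow i n y hy) b
    obtain ⟨⟨a, τ⟩, hτ⟩ := IsLocalization.surj (m i).primeCompl α
    refine ⟨τ, τ.2, a, ?_⟩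
    rw [IsScalarTower.algebraMap_apply A (Localization.AtPrime (m i)) (B i), ← hτ, map_mul, hα,
      algebraMap_smul, ← IsScalarTower.algebraMap_apply, Algebra.smul_def (τ : A), mul_comm]
  obtain ⟨C, iC, aC, h1, ⟨n, hn1, hn2⟩, hfin, hinjC, hsurjC⟩ :=
    Groth.Agent.Lib.Helper86.Glue.exists_glue m B hinj hunit hker' hcoker'
  refine ⟨C, iC, aC, h1, ⟨n, fun x hx y hy => hn1 x (RingHom.mem_ker.1 hx) y hy,
    fun y hy c => ?_⟩, ?_, hinjC, hsurjC⟩
  · obtain ⟨a, ha⟩ := hn2 y hy c
    exact ⟨a, ha⟩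
  · intro hf
    rw [RingHom.finite_algebraMap]
    exact hfin (fun i => RingHom.finite_algebraMap.1 (hf i))

end Groth.Agent.S1837
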