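import Groth.Statements.S18370
import Mathlib.Tactic
-- import your own Groth.Agent.* helpers here

set_option autoImplicit false
universe u
open CategoryTheory CategoryTheory.Limits MonoidalCategory CartesianMonoidalCategory MonObj GrpObj AlgebraicGeometry
open GrpSch

namespace Groth.Agent.S18370

theorem general {C : Type*} [Category C] [CartesianMonoidalCategory C] [BraidedCategory C] (G Ga Gb : C)
    [GrpObj G] [IsCommMonObj G] (n a b : ℕ) (hn : n = a * b) (hab : Nat.Coprime a b)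
    (hG : (𝟙 G) ^ n = 1)
    (ia : Ga ⟶ G) (hia : IsPullback ia (toUnit Ga) ((𝟙 G) ^ a) η[G])
    (ib : Gb ⟶ G) (hib : IsPullback ib (toUnit Gb) ((𝟙 G) ^ b) η[G]) :
    IsIso ((fst Ga Gb ≫ ia) * (snd Ga Gb ≫ ib)) := by
  -- Bezout
  obtain ⟨u, v, hbez⟩ : ∃ u v : ℤ, (a : ℤ) * u + (b : ℤ) * v = 1 := by
    refine ⟨Int.gcdA a b, Int.gcdB a b, ?_⟩
    rw [← Int.gcd_eq_gcd_ab]
    have : Int.gcd (a : ℤ) (b : ℤ) = 1 := by
      rw [Int.gcd_natCast_natCast]; exact hab
    rw [this]; rfl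
  -- basic facts
  have F1 : ∀ {T : C} (x : T ⟶ G), x ^ n = 1 := by
    intro T x
    have := MonObj.comp_pow (𝟙 G) n x
    rw [hG, MonObj.comp_one, Category.comp_id] at this
    exact this.symm
  have F2 : ∀ {T : C} (y : T ⟶ Ga), (y ≫ ia) ^ a = 1 := by
    intro T y
    have := MonObj.comp_pow (𝟙 G) a (y ≫ ia)
    rw [Category.comp_id, Category.assoc, hia.w, ← Category.assoc,
      toUnit_unique (y ≫ toUnit Ga) (toUnit T), ← Hom.one_def] at this
    exact this.symm
  have F3 : ∀ {T : C} (y : T ⟶ Gb), (y ≫ ib) ^ b = 1 := by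
    intro T y
    have := MonObj.comp_pow (𝟙 G) b (y ≫ ib)
    rw [Category.comp_id, Category.assoc, hib.w, ← Category.assoc,
      toUnit_unique (y ≫ toUnit Gb) (toUnit T), ← Hom.one_def] at this
    exact this.symm
  -- powers
  have P1 : ∀ {T : C} (x : T ⟶ G), (x ^ ((b : ℤ) * v)) ^ a = 1 := by
    intro T x
    rw [← zpow_natCast, ← zpow_mul,
      show (b : ℤ) * v * (a : ℤ) = ((a * b : ℕ) : ℤ) * v by push_cast; ring,
      zpow_mul, zpow_natCast, ← hn, F1, one_zpow]
  have P2 : ∀ {T : C} (x : T ⟶ G), (x ^ ((a : ℤ) * u)) ^ b = 1 := by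
    intro T x
    rw [← zpow_natCast, ← zpow_mul,
      show (a : ℤ) * u * (b : ℤ) = ((a * b : ℕ) : ℤ) * u by push_cast; ring,
      zpow_mul, zpow_natCast, ← hn, F1, one_zpow]
  have Q1 : ∀ {T : C} (p : T ⟶ G), p ^ a = 1 → p ^ ((b : ℤ) * v) = p := by
    intro T p hp
    rw [show (b : ℤ) * v = 1 - (a : ℤ) * u by linarith, zpow_sub, zpow_one, zpow_mul,
      zpow_natCast, hp, one_zpow, inv_one, _root_.mul_one]
  have Q2 : ∀ {T : C} (p : T ⟶ G), p ^ b = 1 → p ^ ((a : ℤ) * u) = p := by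
    intro T p hp
    rw [show (a : ℤ) * u = 1 - (b : ℤ) * v by linarith, zpow_sub, zpow_one, zpow_mul,
      zpow_natCast, hp, one_zpow, inv_one, _root_.mul_one]
  have R1 : ∀ {T : C} (q : T ⟶ G), q ^ b = 1 → q ^ ((b : ℤ) * v) = 1 := by
    intro T q hq
    rw [zpow_mul, zpow_natCast, hq, one_zpow]
  have R2 : ∀ {T : C} (q : T ⟶ G), q ^ a = 1 → q ^ ((a : ℤ) * u) = 1 := by
    intro T q hq
    rw [zpow_mul, zpow_natCast, hq, one_zpow]
  -- the two components of the inverse
  have wα : ((𝟙 G) ^ ((b : ℤ) * v)) ≫ (𝟙 G) ^ a = toUnit G ≫ η[G] := by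
    rw [MonObj.comp_pow, Category.comp_id, P1, Hom.one_def]
  have wβ : ((𝟙 G) ^ ((a : ℤ) * u)) ≫ (𝟙 G) ^ b = toUnit G ≫ η[G] := by
    rw [MonObj.comp_pow, Category.comp_id, P2, Hom.one_def]
  have eα : hia.lift _ _ wα ≫ ia = (𝟙 G) ^ ((b : ℤ) * v) := hia.lift_fst _ _ _
  have eβ : hib.lift _ _ wβ ≫ ib = (𝟙 G) ^ ((a : ℤ) * u) := hib.lift_fst _ _ _
  refine ⟨⟨lift (hia.lift _ _ wα) (hib.lift _ _ wβ), ?_, ?_⟩⟩
  · -- m ≫ ψ = 𝟙
    apply CartesianMonoidalCategory.hom_ext
    · rw [Category.assoc, lift_fst, Category.id_comp]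
      apply hia.hom_ext
      · rw [Category.assoc, eα, GrpObj.comp_zpow, Category.comp_id, mul_zpow,
          Q1 _ (F2 _), R1 _ (F3 _), _root_.mul_one]
      · exact toUnit_unique _ _
    · rw [Category.assoc, lift_snd, Category.id_comp]
      apply hib.hom_ext
      · rw [Category.assoc, eβ, GrpObj.comp_zpow, Category.comp_id, mul_zpow,
          R2 _ (F2 _), Q2 _ (F3 _), _root_.one_mul]
      · exact toUnit_unique _ _
  · -- ψ ≫ m = 𝟙
    rw [MonObj.comp_mul, lift_fst_assoc, lift_snd_assoc, eα, eβ, ← zpow_add,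
      show (b : ℤ) * v + (a : ℤ) * u = 1 by linarith, zpow_one]

/-- Let S be a scheme and G a commutative S-group scheme which is killed by a natural number n, i.e. the
n-th power map of G is the trivial homomorphism, and let n = a·b with a and b coprime. If i_a : G_a
→ G and i_b : G_b → G are scheme-theoretic kernels of the a-th and b-th power maps of G, then the
morphism G_a ×_S G_b → G sending (x, y) to i_a(x)·i_b(y) is an isomorphism of S-schemes. (The
published statement assumes n ≠ 0; the case n = 0, where {a, b} = {0, 1} and one kernel is all of G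
while the other is trivial, is included here.) -/
theorem result {S : Scheme.{u}} (G Ga Gb : Over S)
    [GrpObj G] [IsCommMonObj G] (n a b : ℕ) (hn : n = a * b) (hab : Nat.Coprime a b)
    (hG : (𝟙 G) ^ n = 1)
    (ia : Ga ⟶ G) (hia : AlgGrp.IsKernel ia ((𝟙 G) ^ a))
    (ib : Gb ⟶ G) (hib : AlgGrp.IsKernel ib ((𝟙 G) ^ b)) :
    IsIso ((fst Ga Gb ≫ ia) * (snd Ga Gb ≫ ib)) := by
  exact general G Ga Gb n a b hn hab hG ia hia ib hib

end Groth.Agent.S18370
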