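import Groth.Statements.S18375
import Mathlib
import Groth.Agent.Lib.Helper32.TreeSide
-- import your own Groth.Agent.* helpers here

set_option autoImplicit false
universe u
open PhiStab

namespace Groth.Agent.S18375

section PRE
open PhiStab LabGraph Finset
open Groth.Agent.Lib.Helper32.TreeSide

variable {V E : Type u} [Fintype V] [Fintype E] [DecidableEq V] [DecidableEq E]

/-- crossing indicator -/
noncomputable def chi (ends : E → V × V) (S : Finset V) (e : E) : ℝ :=
  if ((ends e).1 ∈ S ∧ (ends e).2 ∉ S) ∨ ((ends e).1 ∉ S ∧ (ends e).2 ∈ S) then 1 else 0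

/-- inner indicator -/
noncomputable def inn (ends : E → V × V) (S : Finset V) (e : E) : ℝ :=
  if (ends e).1 ∈ S ∧ (ends e).2 ∈ S then 1 else 0

/-- endpoint indicators -/
noncomputable def mem1 (ends : E → V × V) (S : Finset V) (e : E) : ℝ :=
  if (ends e).1 ∈ S then 1 else 0

noncomputable def mem2 (ends : E → V × V) (S : Finset V) (e : E) : ℝ :=
  if (ends e).2 ∈ S then 1 else 0

lemma mem_add (ends : E → V × V) (S : Finset V) (e : E) :
    mem1 ends S e + mem2 ends S e = 2 * inn ends S e + chi ends S e := by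
  unfold mem1 mem2 inn chi
  by_cases h1 : (ends e).1 ∈ S <;> by_cases h2 : (ends e).2 ∈ S <;> simp [h1, h2] <;> norm_num

lemma abs_mem_sub (ends : E → V × V) (S : Finset V) (e : E) :
    |mem1 ends S e - mem2 ends S e| = chi ends S e := by
  unfold mem1 mem2 chi
  by_cases h1 : (ends e).1 ∈ S <;> by_cases h2 : (ends e).2 ∈ S <;> simp [h1, h2]

lemma chi_nonneg (ends : E → V × V) (S : Finset V) (e : E) : 0 ≤ chi ends S e := by
  unfold chi
  split_ifs <;> norm_num

lemma chi_compl (ends : E → V × V) (S : Finset V) (e : E) : chi ends Sᶜ e = chi ends S e := by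
  unfold chi
  by_cases h1 : (ends e).1 ∈ S <;> by_cases h2 : (ends e).2 ∈ S <;> simp [h1, h2]

lemma cut_cast (ends : E → V × V) (S : Finset V) :
    (cut ends S : ℝ) = ∑ e, chi ends S e := by
  unfold cut chi
  rw [Finset.card_filter]
  push_cast
  rfl

lemma cutT_cast (ends : E → V × V) (T : Finset E) (S : Finset V) :
    (cut (spanEnds ends T) S : ℝ) = ∑ e ∈ T, chi ends S e := by
  rw [cut_cast]
  exact Finset.sum_coe_sort T (fun e => chi ends S e)

lemma inner_cast (ends : E → V × V) (N : Finset E) (S : Finset V) :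
    ((N ∩ PhiStab.inner ends S).card : ℝ) = ∑ e ∈ N, inn ends S e := by
  unfold PhiStab.inner inn
  rw [Finset.inter_filter, Finset.inter_univ, Finset.card_filter]
  push_cast
  rfl

/-- number of `N`-edge ends at a vertex -/
noncomputable def dN (ends : E → V × V) (N : Finset E) (v : V) : ℝ :=
  ∑ e ∈ N, ((if (ends e).1 = v then (1 : ℝ) else 0) + (if (ends e).2 = v then 1 else 0))

lemma sum_dN (ends : E → V × V) (N : Finset E) (S : Finset V) :
    ∑ v ∈ S, dN ends N v = ∑ e ∈ N, (mem1 ends S e + mem2 ends S e) := by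
  unfold dN mem1 mem2
  rw [Finset.sum_comm]
  refine Finset.sum_congr rfl (fun e _ => ?_)
  rw [Finset.sum_add_distrib, Finset.sum_ite_eq, Finset.sum_ite_eq]

/-- the modified weighting -/
noncomputable def phi' (ends : E → V × V) (N : Finset E) (φ : V → ℝ) (v : V) : ℝ :=
  φ v - dN ends N v / 2

lemma key_identity (ends : E → V × V) (T : Finset E) (φ : V → ℝ) (S : Finset V) :
    ∑ v ∈ S, phi' ends Tᶜ φ v - (cut (spanEnds ends T) S : ℝ) / 2 =
      ∑ v ∈ S, φ v - (cut ends S : ℝ) / 2 - ((Tᶜ ∩ PhiStab.inner ends S).card : ℝ) := by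
  have h1 : ∑ v ∈ S, phi' ends Tᶜ φ v = ∑ v ∈ S, φ v - (∑ v ∈ S, dN ends Tᶜ v) / 2 := by
    unfold phi'
    rw [Finset.sum_sub_distrib, Finset.sum_div]
  have h2 : ∑ e ∈ Tᶜ, (mem1 ends S e + mem2 ends S e) =
      2 * ∑ e ∈ Tᶜ, inn ends S e + ∑ e ∈ Tᶜ, chi ends S e := by
    rw [Finset.mul_sum, ← Finset.sum_add_distrib]
    exact Finset.sum_congr rfl (fun e _ => mem_add ends S e)
  have h3 : ∑ e, chi ends S e = ∑ e ∈ T, chi ends S e + ∑ e ∈ Tᶜ, chi ends S e :=
    (Finset.sum_add_sum_compl T _).symm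
  rw [h1, sum_dN, h2, cutT_cast, cut_cast, inner_cast, h3]
  ring

lemma sum_phi'_univ (ends : E → V × V) (N : Finset E) (φ : V → ℝ) :
    ∑ v, phi' ends N φ v = ∑ v, φ v - (N.card : ℝ) := by
  have h1 : ∑ v, phi' ends N φ v = ∑ v, φ v - (∑ v ∈ (Finset.univ : Finset V), dN ends N v) / 2 := by
    unfold phi'
    rw [Finset.sum_sub_distrib, Finset.sum_div]
  rw [h1, sum_dN]
  have : ∑ e ∈ N, (mem1 ends (Finset.univ : Finset V) e + mem2 ends Finset.univ e) = 2 * (N.card : ℝ) := by
    unfold mem1 mem2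
    simp
    ring
  rw [this]
  ring

lemma degOn_cast (ends : E → V × V) (m : V → ℤ) (N : Finset E) (S : Finset V) :
    (degOn ends m N S : ℝ) = ∑ v ∈ S, (m v : ℝ) + ((N ∩ PhiStab.inner ends S).card : ℝ) := by
  unfold degOn
  push_cast
  rfl

lemma stable_iff (ends : E → V × V) (T : Finset E) (φ : V → ℝ) (m : V → ℤ) :
    IsStable ends φ m Tᶜ ↔ ∀ S : Finset V, S.Nonempty → S ≠ Finset.univ →
      ∑ v ∈ S, (phi' ends Tᶜ φ v - (m v : ℝ)) < (cut (spanEnds ends T) S : ℝ) / 2 := by
  unfold IsStable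
  refine forall_congr' (fun S => forall_congr' (fun _ => forall_congr' (fun _ => ?_)))
  rw [degOn_cast, Finset.sum_sub_distrib]
  have := key_identity ends T φ S
  constructor <;> intro h <;> linarith

lemma semistable_iff (ends : E → V × V) (T : Finset E) (φ : V → ℝ) (m : V → ℤ) :
    IsSemistable ends φ m Tᶜ ↔ ∀ S : Finset V, S.Nonempty → S ≠ Finset.univ →
      ∑ v ∈ S, (phi' ends Tᶜ φ v - (m v : ℝ)) ≤ (cut (spanEnds ends T) S : ℝ) / 2 := by
  unfold IsSemistable
  refine forall_congr' (fun S => forall_congr' (fun _ => forall_congr' (fun _ => ?_)))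
  rw [degOn_cast, Finset.sum_sub_distrib]
  have := key_identity ends T φ S
  constructor <;> intro h <;> linarith

lemma totDeg_iff (ends : E → V × V) (T : Finset E) (φ : V → ℝ) (b : ℤ)
    (hφ : (∑ v : V, φ v) = (b : ℝ)) (m : V → ℤ) :
    totDeg m Tᶜ = b ↔ ∑ v, (phi' ends Tᶜ φ v - (m v : ℝ)) = 0 := by
  rw [Finset.sum_sub_distrib, sum_phi'_univ, hφ]
  unfold totDeg
  constructor
  · intro h
    have : ((∑ v : V, m v : ℤ) : ℝ) + ((Tᶜ : Finset E).card : ℝ) = (b : ℝ) := by exact_mod_cast h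
    push_cast at this
    linarith
  · intro h
    have : ((∑ v : V, m v : ℤ) : ℝ) + ((Tᶜ : Finset E).card : ℝ) = (b : ℝ) := by
      push_cast
      linarith
    exact_mod_cast this


section tree
variable (ends : E → V × V)

/-- divergence of an edge function -/
noncomputable def Dv (g : E → ℝ) (v : V) : ℝ :=
  ∑ e, g e * ((if (ends e).1 = v then (1 : ℝ) else 0) - (if (ends e).2 = v then 1 else 0))

lemma sum_Dv (g : E → ℝ) (S : Finset V) :
    ∑ v ∈ S, Dv ends g v = ∑ e, g e * (mem1 ends S e - mem2 ends S e) := by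
  unfold Dv mem1 mem2
  rw [Finset.sum_comm]
  refine Finset.sum_congr rfl (fun e _ => ?_)
  rw [← Finset.mul_sum, Finset.sum_sub_distrib, Finset.sum_ite_eq, Finset.sum_ite_eq]

lemma sum_Dv_univ (g : E → ℝ) : ∑ v, Dv ends g v = 0 := by
  rw [sum_Dv]
  unfold mem1 mem2
  simp

lemma mem_sub_side (hT : DualGr.IsTree ends) (e' e : E) :
    mem1 ends (side ends e') e - mem2 ends (side ends e') e = if e = e' then 1 else 0 := by
  unfold mem1 mem2
  by_cases h : e = e'
  · subst h
    rw [if_pos (fst_mem_side ends e), if_neg (snd_not_mem_side ends hT e), if_pos rfl, sub_zero]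
  · rw [if_neg h]
    have := mem_side_of_ne ends e' e h
    by_cases hm : (ends e).1 ∈ side ends e'
    · rw [if_pos hm, if_pos (this.1 hm), sub_self]
    · rw [if_neg hm, if_neg (fun h' => hm (this.2 h')), sub_self]

lemma sum_Dv_side (hT : DualGr.IsTree ends) (g : E → ℝ) (e' : E) :
    ∑ v ∈ side ends e', Dv ends g v = g e' := by
  rw [sum_Dv]
  simp_rw [mem_sub_side ends hT e']
  simp

lemma chi_side (hT : DualGr.IsTree ends) (e' e : E) :
    chi ends (side ends e') e = if e = e' then 1 else 0 := by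
  rw [← abs_mem_sub, mem_sub_side ends hT]
  split_ifs <;> simp

lemma cut_side (hT : DualGr.IsTree ends) (e' : E) : (cut ends (side ends e') : ℝ) = 1 := by
  rw [cut_cast]
  simp_rw [chi_side ends hT e']
  simp

lemma cut_side_compl (hT : DualGr.IsTree ends) (e' : E) : (cut ends (side ends e')ᶜ : ℝ) = 1 := by
  rw [cut_cast]
  simp_rw [chi_compl, chi_side ends hT e']
  simp

/-- a weighting of total zero is the divergence of its side sums -/
lemma flow (hT : DualGr.IsTree ends) (ψ : V → ℝ) (h0 : ∑ v, ψ v = 0) :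
    ψ = Dv ends (fun e => ∑ v ∈ side ends e, ψ v) := by
  obtain ⟨φ₀, -, huniq⟩ := main ends hT (fun e => ∑ v ∈ side ends e, ψ v) 0
  have h1 := huniq ψ ⟨fun e => rfl, h0⟩
  have h2 := huniq (Dv ends (fun e => ∑ v ∈ side ends e, ψ v))
    ⟨fun e => sum_Dv_side ends hT _ e, sum_Dv_univ ends _⟩
  exact h1.trans h2.symm

lemma sum_le_of_flow (hT : DualGr.IsTree ends) (ψ : V → ℝ) (h0 : ∑ v, ψ v = 0) (S : Finset V) :
    ∑ v ∈ S, ψ v ≤ ∑ e, |∑ v ∈ side ends e, ψ v| * chi ends S e := by
  have h := flow ends hT ψ h0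
  have h1 : ∑ v ∈ S, ψ v = ∑ v ∈ S, Dv ends (fun e => ∑ v ∈ side ends e, ψ v) v := by
    rw [← h]
  rw [h1, sum_Dv]
  refine Finset.sum_le_sum (fun e _ => ?_)
  rw [← abs_mem_sub, ← abs_mul]
  exact le_abs_self _

lemma side_nonempty (e : E) : (side ends e).Nonempty := ⟨_, fst_mem_side ends e⟩

lemma side_ne_univ (hT : DualGr.IsTree ends) (e : E) : side ends e ≠ Finset.univ := by
  intro h
  exact snd_not_mem_side ends hT e (h ▸ Finset.mem_univ _)

lemma side_compl_nonempty (hT : DualGr.IsTree ends) (e : E) : (side ends e)ᶜ.Nonempty :=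
  ⟨_, Finset.mem_compl.mpr (snd_not_mem_side ends hT e)⟩

lemma side_compl_ne_univ (e : E) : (side ends e)ᶜ ≠ Finset.univ := by
  intro h
  have := h ▸ Finset.mem_univ (ends e).1
  exact (Finset.mem_compl.mp this) (fst_mem_side ends e)

/-- integer divergence -/
def Dz (y : E → ℤ) (v : V) : ℤ :=
  ∑ e, y e * ((if (ends e).1 = v then (1 : ℤ) else 0) - (if (ends e).2 = v then 1 else 0))

lemma Dz_cast (y : E → ℤ) (v : V) : ((Dz ends y v : ℤ) : ℝ) = Dv ends (fun e => (y e : ℝ)) v := by
  unfold Dz Dv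
  push_cast
  rfl

end tree


theorem main' (ends : E → V × V) (T : Finset E)
    (hT : DualGr.IsTree (spanEnds ends T)) (b : ℤ) (φ : V → ℝ) (hφ : (∑ v : V, φ v) = (b : ℝ))
    (hnd : Nondegenerate ends φ) :
    ∃! m : V → ℤ, totDeg m Tᶜ = b ∧ IsStable ends φ m Tᶜ := by
  classical
  set eT := spanEnds ends T with heT
  set p := phi' ends Tᶜ φ with hp
  obtain ⟨⟨r⟩, -⟩ := hT.1
  let b' : ℤ := b - ((Tᶜ : Finset E).card : ℤ)
  let x : {e // e ∈ T} → ℤ := fun e => round (∑ v ∈ side eT e, p v)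
  let y : {e // e ∈ T} → ℤ := fun e => x e - (if r ∈ side eT e then b' else 0)
  let m₀ : V → ℤ := fun v => Dz eT y v + (if v = r then b' else 0)
  have hm₀cast : ∀ v, ((m₀ v : ℤ) : ℝ) =
      Dv eT (fun e => (y e : ℝ)) v + (if v = r then (b' : ℝ) else 0) := by
    intro v
    simp only [m₀]
    push_cast
    rw [Dz_cast]
  have hside : ∀ e, ∑ v ∈ side eT e, ((m₀ v : ℤ) : ℝ) = (x e : ℝ) := by
    intro e
    simp_rw [hm₀cast]
    rw [Finset.sum_add_distrib, sum_Dv_side eT hT, Finset.sum_ite_eq']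
    simp only [y]
    push_cast
    split_ifs <;> ring
  have htot : ∑ v, ((m₀ v : ℤ) : ℝ) = (b' : ℝ) := by
    simp_rw [hm₀cast]
    rw [Finset.sum_add_distrib, sum_Dv_univ, Finset.sum_ite_eq']
    simp
  have hsump : ∑ v, p v = (b' : ℝ) := by
    rw [hp, sum_phi'_univ, hφ]
    simp [b']
  have h0 : ∑ v, (p v - (m₀ v : ℝ)) = 0 := by
    rw [Finset.sum_sub_distrib, hsump, htot, sub_self]
  have htd : totDeg m₀ Tᶜ = b := (totDeg_iff ends T φ b hφ m₀).mpr h0
  have hss : IsSemistable ends φ m₀ Tᶜ := by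
    rw [semistable_iff]
    intro S _ _
    refine (sum_le_of_flow eT hT _ h0 S).trans ?_
    rw [cut_cast, Finset.sum_div]
    refine Finset.sum_le_sum (fun e _ => ?_)
    have hf : |∑ v ∈ side eT e, (p v - (m₀ v : ℝ))| ≤ 1 / 2 := by
      rw [Finset.sum_sub_distrib, hside]
      exact abs_sub_round _
    calc _ ≤ 1 / 2 * chi eT S e := mul_le_mul_of_nonneg_right hf (chi_nonneg _ _ _)
      _ = chi eT S e / 2 := by ring
  have hst : IsStable ends φ m₀ Tᶜ := hnd m₀ Tᶜ (by rw [hφ, htd]) hss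
  refine ⟨m₀, ⟨htd, hst⟩, ?_⟩
  have hbound : ∀ m : V → ℤ, totDeg m Tᶜ = b → IsStable ends φ m Tᶜ → ∀ e,
      |∑ v ∈ side eT e, p v - ∑ v ∈ side eT e, (m v : ℝ)| < 1 / 2 := by
    intro m hm1 hm2 e
    rw [stable_iff] at hm2
    have h0' := (totDeg_iff ends T φ b hφ m).mp hm1
    have h1 := hm2 (side eT e) (side_nonempty eT e) (side_ne_univ eT hT e)
    have h2 := hm2 (side eT e)ᶜ (side_compl_nonempty eT hT e) (side_compl_ne_univ eT e)
    rw [cut_side eT hT] at h1
    rw [cut_side_compl eT hT] at h2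
    have h3 := Finset.sum_add_sum_compl (side eT e) (fun v => p v - (m v : ℝ))
    rw [h0'] at h3
    rw [← Finset.sum_sub_distrib, abs_lt]
    constructor <;> linarith
  rintro m ⟨hm1, hm2⟩
  have hb1 := hbound m hm1 hm2
  have hb0 := hbound m₀ htd hst
  have hdiff : ∀ e, ∑ v ∈ side eT e, ((m v : ℝ) - (m₀ v : ℝ)) = 0 := by
    intro e
    have h1 := hb1 e
    have h2 := hb0 e
    have hlt : |(∑ v ∈ side eT e, (m v - m₀ v) : ℤ)| < 1 := by
      have : ((|(∑ v ∈ side eT e, (m v - m₀ v) : ℤ)| : ℤ) : ℝ) < 1 := by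
        push_cast
        rw [Finset.sum_sub_distrib]
        rw [abs_lt] at h1 h2 ⊢
        constructor <;> linarith [h1.1, h1.2, h2.1, h2.2]
      exact_mod_cast this
    have hz := Int.abs_lt_one_iff.mp hlt
    have : ((∑ v ∈ side eT e, (m v - m₀ v) : ℤ) : ℝ) = 0 := by rw [hz]; simp
    push_cast at this
    exact this
  have htot' : ∑ v, ((m v : ℝ) - (m₀ v : ℝ)) = 0 := by
    have h1 := (totDeg_iff ends T φ b hφ m).mp hm1
    rw [Finset.sum_sub_distrib] at h1 h0 ⊢
    linarith
  obtain ⟨φ₀, -, huniq⟩ := main eT hT (fun _ => 0) 0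
  have e1 := huniq (fun v => (m v : ℝ) - (m₀ v : ℝ)) ⟨hdiff, htot'⟩
  have e2 := huniq (fun _ => 0) ⟨fun e => by simp, by simp⟩
  funext v
  have := congrFun (e1.trans e2.symm) v
  have h : ((m v : ℤ) : ℝ) = (m₀ v : ℝ) := by linarith
  exact_mod_cast h

end PRE

open PhiStab in
/-- Let (V, E, ends) be a finite multigraph and T a set of edges forming a spanning tree (the spanning
subgraph with edge set T is connected and contains no circuit), b an integer and φ a nondegenerate
real weighting of the vertices with Σ_v φ v = b. Then there is a unique integer multidegree m for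
which the sheaf datum (m, Tᶜ), not locally free exactly at the edges outside T, has total degree b
and is φ-stable. This is the statement that a stable pointed curve with this dual graph carries a
φ-stable rank-1 torsion-free sheaf of degree g - 1 = b failing to be locally free exactly at the
nodes outside T, of uniquely determined multidegree, written for the combinatorial datum. -/
theorem result {V E : Type u} [Fintype V] [Fintype E] [DecidableEq V] [DecidableEq E]
    (ends : E → V × V) (T : Finset E)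
    (hT : DualGr.IsTree (spanEnds ends T)) (b : ℤ) (φ : V → ℝ) (hφ : (∑ v : V, φ v) = (b : ℝ))
    (hnd : Nondegenerate ends φ) :
    ∃! m : V → ℤ, totDeg m Tᶜ = b ∧ IsStable ends φ m Tᶜ := by
  exact main' ends T hT b φ hφ hnd

end Groth.Agent.S18375
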