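import Groth.Statements.S18376
import Groth.Agent.Lib.Helper64.PhiStabB

set_option autoImplicit false
universe u
open PhiStab

namespace Groth.Agent.S18376

open PhiStab in
/-- Let (V, E, ends) be a connected finite multigraph, b an integer, and φ₁, φ₂ real weightings of the
vertices with Σ_v φ₁ v = Σ_v φ₂ v = b, φ₁ nondegenerate. Then every φ₁-stable sheaf datum (m, N) of
total degree b is φ₂-semistable if and only if φ₂ lies in the closed stability polytope of φ₁, that
is, for every elementary vertex set S and every integer d with d - Σ_{v ∈ S} φ₁ v + cut S / 2 > 0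
one has d - Σ_{v ∈ S} φ₂ v + cut S / 2 ≥ 0. Membership in the closure of the polytope is expressed
by this half-space condition, the form in which the source's proof uses it; the sheaves of degree g
- 1 = b on stable pointed curves with this dual graph enter through their combinatorial data. -/
theorem result {V E : Type u} [Fintype V] [Fintype E] [DecidableEq V] [DecidableEq E]
    (ends : E → V × V)
    (hconn : LabGraph.Connected ends) (b : ℤ) (φ₁ φ₂ : V → ℝ) (h₁ : (∑ v : V, φ₁ v) = (b : ℝ))
    (h₂ : (∑ v : V, φ₂ v) = (b : ℝ)) (hnd : Nondegenerate ends φ₁) :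
    (∀ (m : V → ℤ) (N : Finset E), totDeg m N = b → IsStable ends φ₁ m N → IsSemistable ends φ₂ m N) ↔
      InClosedPolytope ends φ₁ φ₂ := by
  constructor
  · intro H S hS d hd
    obtain ⟨m, hm1, hm2, hm3⟩ :=
      Groth.Agent.Lib.Helper64.PhiStabB.exists_datum ends hconn φ₁ b h₁ S hS
    have hst : IsStable ends φ₁ m ∅ := hnd m ∅ (by rw [h₁, hm1]) hm2
    have hss := H m ∅ hm1 hst
    obtain ⟨hSne, hSu⟩ := Groth.Agent.Lib.Helper64.PhiStabA.isElementary_nonempty hS
    have h3 := hss S hSne hSu
    rw [hm3] at h3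
    unfold ell at hd ⊢
    have h4 : ⌊(∑ v ∈ S, φ₁ v) - (LabGraph.cut ends S : ℝ) / 2⌋ < d := by
      rw [Int.floor_lt]; linarith
    have h5 : ((⌊(∑ v ∈ S, φ₁ v) - (LabGraph.cut ends S : ℝ) / 2⌋ : ℤ) : ℝ) + 1 ≤ (d : ℝ) := by
      exact_mod_cast h4
    linarith
  · intro H m N hmN hst
    rw [Groth.Agent.Lib.Helper64.PhiStabA.semistable_iff ends hconn φ₂ m N (by rw [h₂, hmN])]
    intro S hS
    obtain ⟨hSne, hSu⟩ := Groth.Agent.Lib.Helper64.PhiStabA.isElementary_nonempty hS
    have h1 := hst S hSne hSu
    have h2 := H S hS (degOn ends m N S) (by unfold ell; linarith)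
    unfold ell at h2
    linarith

end Groth.Agent.S18376
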