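import Groth.Statements.S18377
-- import your own Groth.Agent.* helpers here
import Groth.Agent.Lib.Helper72.VerlindeE
open Groth.Agent.Lib.Helper72.Verlinde

set_option autoImplicit false
open Complex
open VerlindeComb

namespace Groth.Agent.S18377

/-- Let r, k ≥ 1 be integers and v_1 > v_2 > ⋯ > v_r ≥ 0 integers below r + k; put z_j = exp(2πi v_j /
(r + k)) and, for μ = (μ_1, …, μ_r), let S_μ(z) = det(z_j^{μ_i + r - i}) / det(z_j^{r - i}) be the
value of the Schur polynomial (the z_j are distinct, so the Vandermonde denominator is nonzero).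
Then, summing over all μ with k > μ_1 ≥ ⋯ ≥ μ_r ≥ 0 and writing μ* = (k - μ_r, …, k - μ_1), one has
Σ_μ S_μ(z) S_{μ*}(z) = exp(2πi k (v_1 + ⋯ + v_r) / (r + k)) · k (r + k)^{r-1} / ∏_{i<j} (2 sin(π
(v_i - v_j) / (r + k)))². Indices are 0-based below: μ i stands for μ_{i+1}. -/
theorem result (r k : ℕ) (hr : 1 ≤ r) (hk : 1 ≤ k)
    (v : Fin r → ℕ) (hv : StrictAnti v) (hvlt : ∀ i, v i < r + k)
    (z : Fin r → ℂ) (hz : ∀ j, z j = Complex.exp (2 * Real.pi * Complex.I * (v j : ℂ) / ((r : ℂ) + k)))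
    (S : (Fin r → ℕ) → ℂ)
    (hS : ∀ μ : Fin r → ℕ, S μ =
      (Matrix.of fun i j : Fin r => z j ^ (μ i + (r - 1 - (i : ℕ)))).det /
        (Matrix.of fun i j : Fin r => z j ^ (r - 1 - (i : ℕ))).det) :
    (∑ μ ∈ (Finset.univ : Finset (Fin r → Fin k)).filter (fun μ : Fin r → Fin k => Antitone μ),
        S (fun i => (μ i : ℕ)) * S (fun i => k - (μ (Fin.rev i) : ℕ))) =
      Complex.exp (2 * Real.pi * Complex.I * (k : ℂ) * ((∑ j, v j : ℕ) : ℂ) / ((r : ℂ) + k)) *
        ((k : ℂ) * ((r : ℂ) + k) ^ (r - 1)) /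
        (∏ p ∈ (Finset.univ : Finset (Fin r × Fin r)).filter (fun p => p.1 < p.2),
          (((2 : ℝ) * Real.sin (Real.pi * ((v p.1 : ℝ) - (v p.2 : ℝ)) / ((r : ℝ) + k))) ^ 2 : ℝ) : ℂ) := by
  classical
  have hN0 : r + k ≠ 0 := by omega
  have : NeZero (r + k) := ⟨hN0⟩
  have hr0 : r ≠ 0 := by omega
  have hcast : ((r : ℂ) + k) = ((r + k : ℕ) : ℂ) := by push_cast; rfl
  have hz' : ∀ j, z j = zeta (r + k) ^ v j := by
    intro j
    rw [hz, hcast, exp_eq_zeta_pow]
  set w : Fin r → ℤ := fun j => (v j : ℤ) with hw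
  set A0 := altZ (r + k) (rho r) w with hA0
  have hnum : ∀ e : Fin r → ℕ, (Matrix.of fun i j : Fin r => z j ^ e i).det =
      altZ (r + k) (fun i => (e i : ℤ)) w := fun e => det_pow_eq_altZ (r + k) z v e hz'
  have hden : (Matrix.of fun i j : Fin r => z j ^ (r - 1 - (i : ℕ))).det = A0 := by
    rw [hnum]; rfl
  set s : ℂ := ((Equiv.Perm.sign (Fin.revPerm : Equiv.Perm (Fin r)) : ℤ) : ℂ) with hs
  have hss : s * s = 1 := sign_mul_sign _
  have hs0 : s ≠ 0 := by
    intro h; rw [h] at hss; simp at hss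
  have hzeta : zeta (r + k) ≠ 0 := zeta_ne_zero (r + k)
  -- denominator reflection
  have hA0r : A0 = s * zeta (r + k) ^ (((r : ℤ) - 1) * ∑ j, w j) * (starRingEnd ℂ) A0 := by
    have h := altZ_reflect (r + k) (rho r) w ((r : ℤ) - 1)
    have h1 : (fun i : Fin r => ((r : ℤ) - 1) - rho r (Fin.rev i)) = rho r := by
      funext i
      simp only [rho, Fin.val_rev]
      have := i.2
      omega
    rw [h1] at h
    exact h
  set nA : ℂ := ((Complex.normSq A0 : ℝ) : ℂ) with hnA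
  have hAA : A0 * A0 = s * zeta (r + k) ^ (((r : ℤ) - 1) * ∑ j, w j) * nA := by
    have h1 : A0 * A0 = A0 * (s * zeta (r + k) ^ (((r : ℤ) - 1) * ∑ j, w j) * (starRingEnd ℂ) A0) := by
      rw [← hA0r]
    rw [h1, hnA, ← Complex.mul_conj]
    ring
  set f : (Fin r → ℕ) → ℂ := fun e =>
    ((Complex.normSq (altZ (r + k) (fun i => (e i : ℤ)) w) : ℝ) : ℂ) with hf
  have hterm : ∀ μ : Fin r → Fin k,
      S (fun i => (μ i : ℕ)) * S (fun i => k - (μ (Fin.rev i) : ℕ)) =
        zeta (r + k) ^ ((k : ℤ) * ∑ j, w j) / nA * f (fun i => (μ i : ℕ) + (r - 1 - (i : ℕ))) := by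
    intro μ
    rw [hS, hS, hden, hnum, hnum]
    set e : Fin r → ℤ := fun i => (((μ i : ℕ) + (r - 1 - (i : ℕ)) : ℕ) : ℤ) with he
    have h2 : (fun i : Fin r => ((k - (μ (Fin.rev i) : ℕ) + (r - 1 - (i : ℕ)) : ℕ) : ℤ)) =
        fun i => (((r + k : ℕ) : ℤ) - 1) - e (Fin.rev i) := by
      funext i
      simp only [he, Fin.val_rev]
      have := i.2
      have := (μ (Fin.rev i)).2
      omega
    rw [h2, altZ_reflect]
    have h3 : (((r + k : ℕ) : ℤ) - 1) * ∑ j, w j =
        ((r : ℤ) - 1) * ∑ j, w j + (k : ℤ) * ∑ j, w j := by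
      push_cast; ring
    rw [h3, zpow_add₀ hzeta]
    have h4 : f (fun i => (μ i : ℕ) + (r - 1 - (i : ℕ))) =
        altZ (r + k) e w * (starRingEnd ℂ) (altZ (r + k) e w) := by
      simp only [hf]
      rw [Complex.mul_conj]
    rw [h4]
    set E := altZ (r + k) e w
    set Z0 := zeta (r + k) ^ (((r : ℤ) - 1) * ∑ j, w j) with hZ0
    have hZ0ne : Z0 ≠ 0 := zpow_ne_zero _ hzeta
    rw [div_mul_div_comm, hAA]
    by_cases hnA0 : nA = 0
    · simp [hnA0]
    · field_simp
      rw [hs]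
      ring
  have hsum := sum_antitone_eq_sum_strictAnti (r := r) k (r + k) (by omega) f
  -- the strictly decreasing sum
  have hfil : (Finset.univ : Finset (Fin r → Fin (r + k))).filter
        (fun a : Fin r → Fin (r + k) => StrictAnti a ∧ ∀ i, (a i : ℕ) + 1 < k + r) =
      (Finset.univ : Finset (Fin r → Fin (r + k))).filter
        (fun a => StrictAnti a ∧ (⟨r + k - 1, by omega⟩ : Fin (r + k)) ∉ Set.range a) := by
    ext a
    simp only [Finset.mem_filter, Finset.mem_univ, true_and, Set.mem_range, not_exists]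
    constructor
    · rintro ⟨h1, h2⟩
      refine ⟨h1, fun i hi => ?_⟩
      have := h2 i
      rw [hi] at this
      simp at this
      omega
    · rintro ⟨h1, h2⟩
      refine ⟨h1, fun i => ?_⟩
      have h3 := h2 i
      have h4 := (a i).2
      have h5 : (a i : ℕ) ≠ r + k - 1 := by
        intro h
        apply h3
        exact Fin.ext h
      omega
  have hwinj : ∀ i j, i ≠ j → ¬ ((r + k : ℕ) : ℤ) ∣ w i - w j := by
    intro i j hij hdvd
    have hi := hvlt i
    have hj := hvlt j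
    have hne : v i ≠ v j := fun h => hij (hv.injective h)
    have h0 : w i - w j = 0 := by
      apply Int.eq_zero_of_abs_lt_dvd hdvd
      simp only [hw]
      rw [abs_lt]
      constructor <;> push_cast <;> omega
    simp only [hw] at h0
    omega
  have hGG : ∀ a : Fin r → Fin (r + k), f (fun i => (a i : ℕ)) = GG (r + k) w w a := by
    intro a
    rw [GG_self_eq_normSq, altZ_transpose]
    rfl
  have hS1 := sum_not_mem_range (N := r + k) hr0 w hwinj ⟨r + k - 1, by omega⟩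
  simp_rw [hterm]
  rw [← Finset.mul_sum, hsum, hfil]
  simp_rw [hGG]
  rw [hS1]
  have hnA' : nA = (∏ p ∈ (Finset.univ : Finset (Fin r × Fin r)).filter (fun p => p.1 < p.2),
          (((2 : ℝ) * Real.sin (Real.pi * ((v p.1 : ℝ) - (v p.2 : ℝ)) / ((r : ℝ) + k))) ^ 2 : ℝ) : ℂ) := by
    rw [hnA, hA0]
    have := normSq_altZ_rho (r + k) w
    rw [show (fun i : Fin r => ((r - 1 - (i : ℕ) : ℕ) : ℤ)) = rho r from rfl] at this
    rw [this, Complex.ofReal_prod]
    refine Finset.prod_congr rfl (fun p _ => ?_)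
    simp only [hw]
    push_cast
    rfl
  have hexp : Complex.exp (2 * Real.pi * Complex.I * (k : ℂ) * ((∑ j, v j : ℕ) : ℂ) / ((r : ℂ) + k)) =
      zeta (r + k) ^ ((k : ℤ) * ∑ j, w j) := by
    have h1 : (2 * Real.pi * Complex.I * (k : ℂ) * ((∑ j, v j : ℕ) : ℂ) / ((r : ℂ) + k)) =
        2 * Real.pi * Complex.I * ((k * ∑ j, v j : ℕ) : ℂ) / ((r + k : ℕ) : ℂ) := by
      push_cast; ring
    rw [h1, exp_eq_zeta_pow, ← zpow_natCast]
    congr 1
    simp only [hw]
    push_cast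
    rfl
  rw [hexp, ← hnA']
  push_cast
  have : ((r : ℂ) + k - r) = k := by ring
  rw [this]
  ring

end Groth.Agent.S18377
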