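import Groth.Statements.S18378
-- import your own Groth.Agent.* helpers here
import Groth.Agent.Lib.Helper72.VerlindeF
open Groth.Agent.Lib.Helper72.Verlinde

set_option autoImplicit false
open Complex
open VerlindeComb

namespace Groth.Agent.S18378

/-- Let r, k ≥ 1 be integers and v, v' two integer vectors with r + k > v_1 > ⋯ > v_r ≥ 0 and r + k >
v'_1 > ⋯ > v'_r ≥ 0 whose difference v - v' is not a constant vector (a, …, a). Put z_j = exp(2πi
v_j / (r + k)), z'_j = exp(2πi v'_j / (r + k)), let S_μ(w) = det(w_j^{μ_i + r - i}) / det(w_j^{r -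
i}) be the Schur value at w = z or z', and write |x| for the sum of the coordinates of a vector and
μ* = (k - μ_r, …, k - μ_1). Then the sum over all μ with k ≥ μ_1 ≥ ⋯ ≥ μ_{r-1} ≥ μ_r = 0 of exp(-2πi
|μ| |v| / (r (r + k))) · exp(-2πi |μ*| |v'| / (r (r + k))) · S_μ(z) · S_{μ*}(z') is zero. The
vanishing is the orthogonality of distinct characters and holds exactly for non-equivalent v, v';
for v - v' constant the sum is nonzero. Indices are 0-based below: μ i stands for μ_{i+1}. -/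
theorem result (r k : ℕ) (hr : 1 ≤ r)
    (hk : 1 ≤ k) (v v' : Fin r → ℕ) (hv : StrictAnti v) (hvlt : ∀ i, v i < r + k) (hv' : StrictAnti v')
    (hv'lt : ∀ i, v' i < r + k) (hne : ¬ ∃ a : ℤ, ∀ i, (v i : ℤ) - (v' i : ℤ) = a)
    (z z' : Fin r → ℂ) (hz : ∀ j, z j = Complex.exp (2 * Real.pi * Complex.I * (v j : ℂ) / ((r : ℂ) + k)))
    (hz' : ∀ j, z' j = Complex.exp (2 * Real.pi * Complex.I * (v' j : ℂ) / ((r : ℂ) + k)))
    (S S' : (Fin r → ℕ) → ℂ)
    (hS : ∀ μ : Fin r → ℕ, S μ =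
      (Matrix.of fun i j : Fin r => z j ^ (μ i + (r - 1 - (i : ℕ)))).det /
        (Matrix.of fun i j : Fin r => z j ^ (r - 1 - (i : ℕ))).det)
    (hS' : ∀ μ : Fin r → ℕ, S' μ =
      (Matrix.of fun i j : Fin r => z' j ^ (μ i + (r - 1 - (i : ℕ)))).det /
        (Matrix.of fun i j : Fin r => z' j ^ (r - 1 - (i : ℕ))).det) :
    (∑ μ ∈ (Finset.univ : Finset (Fin r → Fin (k + 1))).filter
        (fun μ : Fin r → Fin (k + 1) => Antitone μ ∧ ∀ i : Fin r, (i : ℕ) = r - 1 → (μ i : ℕ) = 0),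
      Complex.exp (-(2 * Real.pi * Complex.I * ((∑ i, (μ i : ℕ) : ℕ) : ℂ) * ((∑ j, v j : ℕ) : ℂ) /
          ((r : ℂ) * ((r : ℂ) + k)))) *
      Complex.exp (-(2 * Real.pi * Complex.I * ((∑ i, (k - (μ (Fin.rev i) : ℕ)) : ℕ) : ℂ) *
          ((∑ j, v' j : ℕ) : ℂ) / ((r : ℂ) * ((r : ℂ) + k)))) *
      S (fun i => (μ i : ℕ)) * S' (fun i => k - (μ (Fin.rev i) : ℕ))) = 0 := by
  classical
  have hN0 : r + k ≠ 0 := by omega
  have : NeZero (r + k) := ⟨hN0⟩
  have hr0 : r ≠ 0 := by omega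
  have hcast : ((r : ℂ) + k) = ((r + k : ℕ) : ℂ) := by push_cast; rfl
  set wv : Fin r → ℤ := fun j => (v j : ℤ) with hwv
  set wv' : Fin r → ℤ := fun j => (v' j : ℤ) with hwv'
  have hSA : StrictAnti wv := fun i j hij => by
    simp only [hwv]; exact_mod_cast hv hij
  have hSA' : StrictAnti wv' := fun i j hij => by
    simp only [hwv']; exact_mod_cast hv' hij
  have hs : ∀ i j, wv i - wv j < ((r + k : ℕ) : ℤ) := by
    intro i j; have := hvlt i; simp only [hwv]; push_cast; omega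
  have hs' : ∀ i j, wv' i - wv' j < ((r + k : ℕ) : ℤ) := by
    intro i j; have := hv'lt i; simp only [hwv']; push_cast; omega
  have horth := twisted_orth (N := r + k) hr0 wv wv' hSA hSA' hs hs' hne
  have hzv : ∀ j, z j = Complex.exp (2 * Real.pi * Complex.I * (v j : ℂ) / ((r + k : ℕ) : ℂ)) := by
    intro j; rw [hz, hcast]
  have hzv' : ∀ j, z' j = Complex.exp (2 * Real.pi * Complex.I * (v' j : ℂ) / ((r + k : ℕ) : ℂ)) := by
    intro j; rw [hz', hcast]
  set A0 := altZ (r + k) (rho r) wv with hA0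
  set A0' := altZ (r + k) (rho r) wv' with hA0'
  set R : ℤ := ∑ i, rho r i with hR
  set u : ℂ := zeta (r * (r + k)) with hu
  have hu0 : u ≠ 0 := zeta_ne_zero _
  set Z1 : ℂ := zeta (r + k) ^ ((((r + k : ℕ) : ℤ) - 1) * ∑ j, wv' j) with hZ1
  set Cst : ℂ := u ^ (R * (∑ j, wv j - ∑ j, wv' j) - (r : ℤ) * k * ∑ j, wv' j) * sgnRev r * Z1 /
    (A0 * A0') with hCst
  set f : (Fin r → ℕ) → ℂ := fun e =>
    u ^ (-((∑ i, (e i : ℤ)) * (∑ j, wv j - ∑ j, wv' j))) *
      (altZ (r + k) (fun i => (e i : ℤ)) wv * altZ (r + k) (fun i => -(e i : ℤ)) wv') with hf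
  have hterm : ∀ μ : Fin r → Fin (k + 1),
      Complex.exp (-(2 * Real.pi * Complex.I * ((∑ i, (μ i : ℕ) : ℕ) : ℂ) * ((∑ j, v j : ℕ) : ℂ) /
          ((r : ℂ) * ((r : ℂ) + k)))) *
      Complex.exp (-(2 * Real.pi * Complex.I * ((∑ i, (k - (μ (Fin.rev i) : ℕ)) : ℕ) : ℂ) *
          ((∑ j, v' j : ℕ) : ℂ) / ((r : ℂ) * ((r : ℂ) + k)))) *
      S (fun i => (μ i : ℕ)) * S' (fun i => k - (μ (Fin.rev i) : ℕ)) =
      Cst * f (fun i => (μ i : ℕ) + (r - 1 - (i : ℕ))) := by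
    intro μ
    have hμk : ∀ i, (μ i : ℕ) ≤ k := fun i => Nat.lt_succ_iff.mp (μ i).2
    rw [hS, hS', schur_eq (r + k) z v hzv, schur_eq (r + k) z' v' hzv']
    rw [altZ_dual k (fun i => (μ i : ℕ)) hμk wv', conj_altZ]
    set M : ℤ := ∑ i, ((μ i : ℕ) : ℤ) with hM
    have hdual : ((∑ i, (k - (μ (Fin.rev i) : ℕ)) : ℕ) : ℤ) = (r : ℤ) * k - M := by
      have h1 : ∑ i, (k - (μ (Fin.rev i) : ℕ)) = ∑ i, (k - (μ i : ℕ)) :=
        Equiv.sum_comp Fin.revPerm (fun i => k - (μ i : ℕ))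
      have h2 : ∑ i, (k - (μ i : ℕ)) + ∑ i, (μ i : ℕ) = r * k := by
        rw [← Finset.sum_add_distrib]
        have : ∀ i, (k - (μ i : ℕ)) + (μ i : ℕ) = k := fun i => by have := hμk i; omega
        simp [this]
      rw [h1]
      have h3 : ((∑ i, (k - (μ i : ℕ)) : ℕ) : ℤ) + M = (r : ℤ) * k := by
        rw [hM]
        exact_mod_cast h2
      linarith
    have hE1 : Complex.exp (-(2 * Real.pi * Complex.I * ((∑ i, (μ i : ℕ) : ℕ) : ℂ) * ((∑ j, v j : ℕ) : ℂ) /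
          ((r : ℂ) * ((r : ℂ) + k)))) = u ^ (-(M * ∑ j, wv j)) := by
      rw [hu, ← exp_eq_zeta_zpow]
      congr 1
      simp only [hM, hwv]
      push_cast
      ring
    have hE2 : Complex.exp (-(2 * Real.pi * Complex.I * ((∑ i, (k - (μ (Fin.rev i) : ℕ)) : ℕ) : ℂ) *
          ((∑ j, v' j : ℕ) : ℂ) / ((r : ℂ) * ((r : ℂ) + k)))) = u ^ (-(((r : ℤ) * k - M) * ∑ j, wv' j)) := by
      rw [hu, ← exp_eq_zeta_zpow, ← hdual]
      congr 1
      simp only [hwv']
      push_cast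
      ring
    rw [hE1, hE2]
    have hsume : ∑ i, ((((μ i : ℕ) + (r - 1 - (i : ℕ)) : ℕ)) : ℤ) = M + R := by
      rw [hM, hR, ← Finset.sum_add_distrib]
      refine Finset.sum_congr rfl (fun i _ => ?_)
      simp only [rho]
      push_cast
      rfl
    have hpq : u ^ (-(M * ∑ j, wv j)) * u ^ (-(((r : ℤ) * k - M) * ∑ j, wv' j)) =
        u ^ (R * (∑ j, wv j - ∑ j, wv' j) - (r : ℤ) * k * ∑ j, wv' j) *
          u ^ (-((M + R) * (∑ j, wv j - ∑ j, wv' j))) := by
      rw [← zpow_add₀ hu0, ← zpow_add₀ hu0]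
      congr 1
      ring
    simp only [hf, hCst]
    rw [hsume]
    set X := altZ (r + k) (fun i => ((((μ i : ℕ) + (r - 1 - (i : ℕ)) : ℕ)) : ℤ)) wv with hX
    set Y := altZ (r + k) (fun i => -((((μ i : ℕ) + (r - 1 - (i : ℕ)) : ℕ)) : ℤ)) wv' with hY
    calc u ^ (-(M * ∑ j, wv j)) * u ^ (-(((r : ℤ) * k - M) * ∑ j, wv' j)) * (X / A0) *
          (sgnRev r * Z1 * Y / A0')
        = (u ^ (-(M * ∑ j, wv j)) * u ^ (-(((r : ℤ) * k - M) * ∑ j, wv' j))) *
          (sgnRev r * Z1 * X * Y / (A0 * A0')) := by ring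
      _ = _ := by rw [hpq]; ring
  rw [Finset.sum_congr rfl (fun μ _ => hterm μ), ← Finset.mul_sum]
  -- reindexing
  set f' : (Fin r → ℕ) → ℂ := fun e =>
    if (∀ i : Fin r, (i : ℕ) = r - 1 → e i = 0) then f e else 0 with hf'
  have h1 : ∑ μ ∈ (Finset.univ : Finset (Fin r → Fin (k + 1))).filter
        (fun μ : Fin r → Fin (k + 1) => Antitone μ ∧ ∀ i : Fin r, (i : ℕ) = r - 1 → (μ i : ℕ) = 0),
        f (fun i => (μ i : ℕ) + (r - 1 - (i : ℕ))) =
      ∑ μ ∈ (Finset.univ : Finset (Fin r → Fin (k + 1))).filter Antitone,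
        f' (fun i => (μ i : ℕ) + (r - 1 - (i : ℕ))) := by
    rw [← Finset.filter_filter, Finset.sum_filter]
    refine Finset.sum_congr rfl (fun μ _ => ?_)
    simp only [hf']
    refine if_congr ?_ rfl rfl
    constructor
    · intro h i hi
      rw [h i hi]
      omega
    · intro h i hi
      have := h i hi
      omega
  rw [h1, sum_antitone_eq_sum_strictAnti (r := r) (k + 1) (r + k) (by omega) f']
  have h2 : ∑ a ∈ (Finset.univ : Finset (Fin r → Fin (r + k))).filter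
        (fun a : Fin r → Fin (r + k) => StrictAnti a ∧ ∀ i, (a i : ℕ) + 1 < k + 1 + r),
        f' (fun i => (a i : ℕ)) =
      ∑ a ∈ Dset r (r + k), FF r (r + k) wv wv' (Groth.Agent.Lib.Helper72.Verlinde.lift a) := by
    simp only [hf']
    rw [← Finset.sum_filter]
    have hset : ((Finset.univ : Finset (Fin r → Fin (r + k))).filter
        (fun a : Fin r → Fin (r + k) => StrictAnti a ∧ ∀ i, (a i : ℕ) + 1 < k + 1 + r)).filter
        (fun a => ∀ i : Fin r, (i : ℕ) = r - 1 → (a i : ℕ) = 0) = Dset r (r + k) := by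
      ext a
      simp only [Dset, Finset.mem_filter, Finset.mem_univ, true_and]
      constructor
      · rintro ⟨⟨h1, _⟩, h3⟩
        exact ⟨h1, h3⟩
      · rintro ⟨h1, h3⟩
        refine ⟨⟨h1, fun i => ?_⟩, h3⟩
        have := (a i).2
        omega
    rw [hset]
    refine Finset.sum_congr rfl (fun a _ => ?_)
    simp only [hf]
    unfold FF
    have e1 : altZ (r + k) (fun i => (((a i : ℕ)) : ℤ)) wv =
        altZ (r + k) wv (Groth.Agent.Lib.Helper72.Verlinde.lift a) := altZ_transpose _ _ _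
    have e2 : altZ (r + k) (fun i => -(((a i : ℕ)) : ℤ)) wv' =
        altZ (r + k) (fun i => - wv' i) (Groth.Agent.Lib.Helper72.Verlinde.lift a) := by
      rw [altZ_neg_left_eq_neg_right, altZ_transpose]
      rfl
    rw [e1, e2]
    congr 2
    rw [mul_comm]
    rfl
  rw [h2, horth, mul_zero]

end Groth.Agent.S18378
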