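import Groth.Statements.S18379
-- import your own Groth.Agent.* helpers here
import Groth.Agent.Lib.Helper72.VerlindeE
open Groth.Agent.Lib.Helper72.Verlinde

set_option autoImplicit false
open VerlindeComb

namespace Groth.Agent.S18379

/-- Let r, k ≥ 1 be integers. Summing over all integer vectors v with r + k > v_1 > v_2 > ⋯ > v_{r-1} >
v_r = 0, one has Σ_v ∏_{i<j} (2 sin(π (v_i - v_j) / (r + k)))² = r (r + k)^{r-1}; that is, the
genus-zero Verlinde number of rank r and level k with no parabolic points, defined as (r (r +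
k)^{r-1})⁻¹ times this sum, equals 1. Indices are 0-based below: v i stands for v_{i+1}. -/
theorem result (r k : ℕ) (hr : 1 ≤ r) (hk : 1 ≤ k) :
    (∑ v ∈ (Finset.univ : Finset (Fin r → Fin (r + k))).filter
        (fun v : Fin r → Fin (r + k) => StrictAnti v ∧ ∀ i : Fin r, (i : ℕ) = r - 1 → (v i : ℕ) = 0),
      ∏ p ∈ (Finset.univ : Finset (Fin r × Fin r)).filter (fun p => p.1 < p.2),
        ((2 : ℝ) * Real.sin (Real.pi * ((v p.1 : ℕ) - (v p.2 : ℕ) : ℝ) / ((r : ℝ) + k))) ^ 2) =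
      (r : ℝ) * ((r : ℝ) + k) ^ (r - 1) := by
  classical
  have hN0 : r + k ≠ 0 := by omega
  have : NeZero (r + k) := ⟨hN0⟩
  have hr0 : r ≠ 0 := by omega
  have h1 := sum_Dset_self (N := r + k) hr0 (rho r) (fun i j hij => rho_inj_mod (by omega) i j hij)
  simp_rw [GG_self_eq_normSq] at h1
  have h2 : ∀ v : Fin r → Fin (r + k),
      Complex.normSq (altZ (r + k) (rho r) (lift v)) =
      ∏ p ∈ (Finset.univ : Finset (Fin r × Fin r)).filter (fun p => p.1 < p.2),
        ((2 : ℝ) * Real.sin (Real.pi * ((v p.1 : ℕ) - (v p.2 : ℕ) : ℝ) / ((r : ℝ) + k))) ^ 2 := by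
    intro v
    have := normSq_altZ_rho (r + k) (lift v)
    rw [show (fun i : Fin r => ((r - 1 - (i : ℕ) : ℕ) : ℤ)) = rho r from rfl] at this
    rw [this]
    refine Finset.prod_congr rfl (fun p _ => ?_)
    simp only [lift]
    push_cast
    rfl
  simp_rw [h2] at h1
  have h3 : ((∑ v ∈ Dset r (r + k), ∏ p ∈ (Finset.univ : Finset (Fin r × Fin r)).filter (fun p => p.1 < p.2),
        ((2 : ℝ) * Real.sin (Real.pi * ((v p.1 : ℕ) - (v p.2 : ℕ) : ℝ) / ((r : ℝ) + k))) ^ 2 : ℝ) : ℂ) =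
      (((r : ℝ) * ((r : ℝ) + k) ^ (r - 1) : ℝ) : ℂ) := by
    push_cast
    push_cast at h1
    exact h1
  exact Complex.ofReal_injective h3

end Groth.Agent.S18379
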