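import Groth.Statements.S18383
import Mathlib
-- import your own Groth.Agent.* helpers here

set_option autoImplicit false
universe u
open CategoryTheory CategoryTheory.Limits MonoidalCategory CartesianMonoidalCategory MonObj GrpObj AlgebraicGeometry
open GrpSch

namespace Groth.Agent.S18383

theorem isPullback_whiskerRight {C : Type*} [Category C] [CartesianMonoidalCategory C] {X Y : C}
    (f : X ⟶ Y) (Z : C) : IsPullback (f ▷ Z) (fst X Z) (fst Y Z) f := by
  refine ⟨⟨whiskerRight_fst f Z⟩, ⟨PullbackCone.IsLimit.mk _
    (fun s => lift s.snd (s.fst ≫ snd Y Z)) (fun s => ?_) (fun s => ?_) (fun s m h1 h2 => ?_)⟩⟩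
  · apply CartesianMonoidalCategory.hom_ext
    · rw [Category.assoc, whiskerRight_fst, lift_fst_assoc, s.condition]
    · rw [Category.assoc, whiskerRight_snd, lift_snd]
  · exact lift_fst _ _
  · apply CartesianMonoidalCategory.hom_ext
    · rw [lift_fst]; exact h2
    · rw [lift_snd, ← h1, Category.assoc, whiskerRight_snd]

theorem shear_isIso {C : Type*} [Category C] [CartesianMonoidalCategory C] (H : C) [GrpObj H] :
    IsIso (lift μ[H] (snd H H)) := by
  have hμ : μ[H] = fst H H * snd H H := by
    rw [Hom.mul_def, lift_fst_snd, Category.id_comp]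
  refine ⟨⟨lift (lift (fst H H) (snd H H ≫ ι[H]) ≫ μ[H]) (snd H H), ?_, ?_⟩⟩
  · apply CartesianMonoidalCategory.hom_ext
    · rw [Category.assoc, lift_fst, Category.id_comp, comp_lift_assoc, lift_fst, lift_snd_assoc,
        ← Hom.mul_def, ← Hom.inv_def, hμ]
      exact mul_inv_cancel_right _ _
    · rw [Category.assoc, lift_snd, lift_snd, Category.id_comp]
  · apply CartesianMonoidalCategory.hom_ext
    · rw [Category.assoc, lift_fst, Category.id_comp, ← Hom.mul_def, ← Hom.mul_def, ← Hom.inv_def]
      exact inv_mul_cancel_right _ _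
    · rw [Category.assoc, lift_snd, lift_snd, Category.id_comp]

/-- Let S be a scheme, H an S-group scheme and i : G → H a homomorphism of S-group schemes which is a
closed immersion (G a closed subgroup scheme of H). Then the left-translation action of G on H is
strictly free: the S-morphism G ×_S H → H ×_S H, (g, h) ↦ (i(g)·h, h), is a closed immersion. -/
theorem result {S : Scheme.{u}} (G H : Over S)
    [GrpObj G] [GrpObj H] (i : G ⟶ H) [IsMonHom i] [IsClosedImmersion i.left] :
    IsClosedImmersion (CartesianMonoidalCategory.lift ((i ▷ H) ≫ μ[H]) (snd G H)).left := by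
  have hfac : CartesianMonoidalCategory.lift ((i ▷ H) ≫ μ[H]) (snd G H) =
      (i ▷ H) ≫ lift μ[H] (snd H H) := by
    rw [comp_lift, whiskerRight_snd]
  rw [hfac, Over.comp_left]
  have hsq : IsPullback (i ▷ H).left (fst G H).left (fst H H).left i.left :=
    (isPullback_whiskerRight i H).map (Over.forget S)
  have h1 : IsClosedImmersion (i ▷ H).left :=
    MorphismProperty.of_isPullback (P := @IsClosedImmersion) hsq.flip inferInstance
  have h2 : IsIso (lift μ[H] (snd H H)).left := by
    have := shear_isIso H
    exact Functor.map_isIso (Over.forget S) (lift μ[H] (snd H H))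
  infer_instance

end Groth.Agent.S18383
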