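import Groth.Statements.S18384
import Mathlib

set_option autoImplicit false
universe u
open CategoryTheory CategoryTheory.Limits AlgebraicGeometry
open Coherent

set_option linter.style.haveILetI false

namespace Groth.Agent.S18384

theorem app_eq_zero_of_factor {X T : Scheme.{u}} (I : X.IdealSheafData) (w : T ⟶ I.subscheme)
    (u : T ⟶ X) (hw : w ≫ I.subschemeι = u) (D : X.affineOpens) (s : Γ(X, D.1))
    (hs : s ∈ I.ideal D) : u.app D.1 s = 0 := by
  subst hw
  have h0 : I.subschemeι.app D.1 s = 0 := by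
    have := I.ker_subschemeι_app D
    rw [← RingHom.mem_ker, this]
    exact hs
  rw [Scheme.Hom.comp_app]
  change (w.app (I.subschemeι ⁻¹ᵁ D.1)) (I.subschemeι.app D.1 s) = 0
  rw [h0, map_zero]

set_option backward.isDefEq.respectTransparency false in
/-- a morphism from the spectrum of a local ring over the stalk, factoring through the closed
subscheme: sections of the ideal are killed -/
theorem map_germ_eq_zero {X : Scheme.{u}} (x : X) (I : X.IdealSheafData)
    (R : CommRingCat.{u}) [IsLocalRing R] (π : X.presheaf.stalk x ⟶ R) [IsLocalHom π.hom]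
    (w : Spec R ⟶ I.subscheme)
    (hw : w ≫ I.subschemeι = Spec.map π ≫ X.fromSpecStalk x)
    (D : X.affineOpens) (hxD : x ∈ D.1) (s : Γ(X, D.1)) (hs : s ∈ I.ideal D) :
    π (X.presheaf.germ D.1 x hxD s) = 0 := by
  have hu : (Spec.map π ≫ X.fromSpecStalk x) (IsLocalRing.closedPoint R) ∈ D.1 := by
    rw [Scheme.Hom.comp_apply, Spec_closedPoint, Scheme.fromSpecStalk_closedPoint]
    exact hxD
  have h1 := Scheme.germ_stalkClosedPointTo_Spec_fromSpecStalk (X := X) (x := x) π D.1 hu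
  have h2 := Scheme.germ_stalkClosedPointTo (Spec.map π ≫ X.fromSpecStalk x) D.1 hu
  have h3 : (Spec.map π ≫ X.fromSpecStalk x).app D.1 s = 0 :=
    app_eq_zero_of_factor I w _ hw D s hs
  have h4 := congr($(h1) s)
  have h5 := congr($(h2) s)
  simp only [CommRingCat.hom_comp, RingHom.comp_apply] at h4 h5
  rw [← h4, h5, h3, map_zero]


theorem map_pow_le {X S : Scheme.{u}} (p : X ⟶ S) (x : X) (n : ℕ) :
    (IsLocalRing.maximalIdeal (S.presheaf.stalk (p x)) ^ (n + 1)).map (p.stalkMap x).hom ≤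
      IsLocalRing.maximalIdeal (X.presheaf.stalk x) ^ (n + 1) := by
  rw [Ideal.map_pow]
  exact Ideal.pow_right_mono (IsLocalRing.map_maximalIdeal_le (p.stalkMap x).hom) _

theorem stepA {X S : Scheme.{u}} [IsLocallyNoetherian X] (p : X ⟶ S) (x : X)
    (I : X.IdealSheafData)
    (h : ∀ n : ℕ, ∃ g : pullback p (Spec.map (CommRingCat.ofHom (Ideal.Quotient.mk
        (IsLocalRing.maximalIdeal ↑(S.presheaf.stalk (p x)) ^ (n + 1)))) ≫
          S.fromSpecStalk (p x)) ⟶ I.subscheme,
        g ≫ I.subschemeι = pullback.fst p _)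
    (D : X.affineOpens) (hxD : x ∈ D.1) (s : Γ(X, D.1)) (hs : s ∈ I.ideal D) :
    X.presheaf.germ D.1 x hxD s = 0 := by
  have key : ∀ n : ℕ, X.presheaf.germ D.1 x hxD s ∈
      IsLocalRing.maximalIdeal (X.presheaf.stalk x) ^ (n + 1) := by
    intro n
    obtain ⟨g, hg⟩ := h n
    let φ := p.stalkMap x
    let J : Ideal (X.presheaf.stalk x) :=
      (IsLocalRing.maximalIdeal (S.presheaf.stalk (p x)) ^ (n + 1)).map φ.hom
    have hJle : J ≤ IsLocalRing.maximalIdeal (X.presheaf.stalk x) ^ (n + 1) := map_pow_le p x n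
    have hJtop : J ≠ ⊤ := by
      intro e
      have : IsLocalRing.maximalIdeal (X.presheaf.stalk x) = ⊤ := by
        rw [eq_top_iff, ← e]
        exact hJle.trans (Ideal.pow_le_self (by omega))
      exact (IsLocalRing.maximalIdeal.isMaximal _).ne_top this
    have : Nontrivial (X.presheaf.stalk x ⧸ J) := Ideal.Quotient.nontrivial_iff.mpr hJtop
    have : IsLocalRing (X.presheaf.stalk x ⧸ J) :=
      IsLocalRing.of_surjective' (Ideal.Quotient.mk J) Ideal.Quotient.mk_surjective
    have hloc : IsLocalHom (Ideal.Quotient.mk J) :=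
      IsLocalHom.of_surjective (Ideal.Quotient.mk J) Ideal.Quotient.mk_surjective
    let R' : CommRingCat.{u} := CommRingCat.of (X.presheaf.stalk x ⧸ J)
    haveI : IsLocalRing R' := this
    let π : X.presheaf.stalk x ⟶ R' := CommRingCat.ofHom (Ideal.Quotient.mk J)
    haveI : IsLocalHom π.hom := hloc
    let q : CommRingCat.of (S.presheaf.stalk (p x) ⧸
        IsLocalRing.maximalIdeal (S.presheaf.stalk (p x)) ^ (n + 1)) ⟶ R' :=
      CommRingCat.ofHom (Ideal.quotientMap J φ.hom Ideal.le_comap_map)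
    have hsq : CommRingCat.ofHom (Ideal.Quotient.mk
        (IsLocalRing.maximalIdeal (S.presheaf.stalk (p x)) ^ (n + 1))) ≫ q = φ ≫ π := by
      ext a
      exact Ideal.quotientMap_mk (I := J) (f := φ.hom) (H := Ideal.le_comap_map) (x := a)
    have comm : (Spec.map π ≫ X.fromSpecStalk x) ≫ p =
        Spec.map q ≫ (Spec.map (CommRingCat.ofHom (Ideal.Quotient.mk
          (IsLocalRing.maximalIdeal (S.presheaf.stalk (p x)) ^ (n + 1)))) ≫
          S.fromSpecStalk (p x)) := by
      rw [Category.assoc, ← Scheme.SpecMap_stalkMap_fromSpecStalk, ← Category.assoc,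
        ← Category.assoc, ← Spec.map_comp, ← Spec.map_comp, hsq]
    let w' := pullback.lift _ _ comm
    have hw : (w' ≫ g) ≫ I.subschemeι = Spec.map π ≫ X.fromSpecStalk x := by
      rw [Category.assoc, hg]
      exact pullback.lift_fst _ _ _
    have h0 := map_germ_eq_zero x I R' π (w' ≫ g) hw D hxD s hs
    exact hJle (Ideal.Quotient.eq_zero_iff_mem.mp h0)
  have hinf : X.presheaf.germ D.1 x hxD s ∈
      ⨅ i, IsLocalRing.maximalIdeal (X.presheaf.stalk x) ^ i := by
    rw [Ideal.mem_iInf]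
    intro i
    cases i with
    | zero => simp
    | succ n => exact key n
  rw [Ideal.iInf_pow_eq_bot_of_isLocalRing _ (IsLocalRing.maximalIdeal.isMaximal _).ne_top] at hinf
  exact hinf


theorem exists_open_res_eq_zero {X : Scheme.{u}} (x : X) (D₀ : X.Opens) (hx : x ∈ D₀)
    (G : Finset Γ(X, D₀)) (hG : ∀ s ∈ G, X.presheaf.germ D₀ x hx s = 0) :
    ∃ (W : X.Opens) (hW : W ≤ D₀), x ∈ W ∧ ∀ s ∈ G, X.presheaf.map (homOfLE hW).op s = 0 := by
  classical
  induction G using Finset.induction_on with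
  | empty => exact ⟨D₀, le_rfl, hx, by simp⟩
  | insert a G ha ih =>
    obtain ⟨W, hW, hxW, hWG⟩ := ih (fun s hs => hG s (Finset.mem_insert_of_mem hs))
    have h0 : X.presheaf.germ D₀ x hx a = X.presheaf.germ D₀ x hx 0 := by
      rw [hG a (Finset.mem_insert_self a G), map_zero]
    obtain ⟨W', hxW', iU, iV, e⟩ := TopCat.Presheaf.germ_eq X.presheaf x hx hx a 0 h0
    rw [map_zero] at e
    refine ⟨W ⊓ W', inf_le_left.trans hW, ⟨hxW, hxW'⟩, ?_⟩
    intro s hs
    rcases Finset.mem_insert.mp hs with rfl | hs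
    · have : (homOfLE (inf_le_left.trans hW : W ⊓ W' ≤ D₀)).op =
          iU.op ≫ (homOfLE (inf_le_right : W ⊓ W' ≤ W')).op := rfl
      rw [this, Functor.map_comp, CommRingCat.comp_apply, e, map_zero]
    · have : (homOfLE (inf_le_left.trans hW : W ⊓ W' ≤ D₀)).op =
          (homOfLE hW).op ≫ (homOfLE (inf_le_left : W ⊓ W' ≤ W)).op := rfl
      rw [this, Functor.map_comp, CommRingCat.comp_apply, hWG s hs, map_zero]

theorem exists_affine_mem {X : Scheme.{u}} (x : X) : ∃ D₀ : X.affineOpens, x ∈ D₀.1 := by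
  obtain ⟨_, ⟨D₀, hD₀, rfl⟩, hxD₀, -⟩ :=
    X.isBasis_affineOpens.exists_subset_of_mem_open (Set.mem_univ x) isOpen_univ
  exact ⟨⟨D₀, hD₀⟩, hxD₀⟩

theorem stepB {X : Scheme.{u}} [IsLocallyNoetherian X] (I : X.IdealSheafData) (x : X)
    (hI : ∀ (D : X.affineOpens) (hxD : x ∈ D.1) (s : Γ(X, D.1)), s ∈ I.ideal D →
      X.presheaf.germ D.1 x hxD s = 0) :
    ∃ D : X.affineOpens, x ∈ D.1 ∧ I.ideal D = ⊥ := by
  obtain ⟨D₀, hxD₀⟩ := exists_affine_mem x
  have hN : IsNoetherianRing Γ(X, D₀.1) := IsLocallyNoetherian.component_noetherian D₀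
  obtain ⟨G, hG⟩ := (isNoetherianRing_iff_ideal_fg _).mp hN (I.ideal D₀)
  obtain ⟨W, hW, hxW, hWG⟩ := exists_open_res_eq_zero x D₀.1 hxD₀ G (fun s hs =>
    hI D₀ hxD₀ s (hG ▸ Ideal.subset_span hs))
  obtain ⟨f, hfW, hxf⟩ := D₀.2.exists_basicOpen_le ⟨x, hxW⟩ hxD₀
  refine ⟨X.affineBasicOpen f, hxf, ?_⟩
  have h1 : (I.ideal D₀).map (X.presheaf.map (homOfLE (X.basicOpen_le f)).op).hom = ⊥ := by
    rw [← hG, Ideal.map_span, Ideal.span_eq_bot]
    rintro _ ⟨s, hs, rfl⟩
    have : (homOfLE (X.basicOpen_le f)).op =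
        (homOfLE hW).op ≫ (homOfLE hfW).op := rfl
    rw [this, Functor.map_comp, CommRingCat.hom_comp, RingHom.comp_apply, hWG s hs, map_zero]
  rw [← I.map_ideal_basicOpen D₀ f]
  exact h1


theorem ideal_eq_bot_congr {X : Scheme.{u}} (I : X.IdealSheafData) (V W : X.affineOpens)
    (e : V.1 = W.1) (h : I.ideal W = ⊥) : I.ideal V = ⊥ := by
  obtain rfl : V = W := Subtype.ext e
  exact h

theorem comap_eq_bot_iff {X T : Scheme.{u}} (t : T ⟶ X) (K : X.IdealSheafData) :
    K.comap t = ⊥ ↔ IsIso (pullback.fst t K.subschemeι) := by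
  change (pullback.fst t K.subschemeι).ker = ⊥ ↔ _
  constructor
  · intro h
    refine IsClosedImmersion.isIso_of_ker_eq (pullback.fst t K.subschemeι) (𝟙 T) _
      (Category.comp_id _) ?_
    rw [h]
    simp
  · intro h
    simp

theorem main {X S : Scheme.{u}}
    [IsLocallyNoetherian X] (p : X ⟶ S) (t : S) (I : X.IdealSheafData)
    (h : ∀ n : ℕ, ∃ g : pullback p (Spec.map (CommRingCat.ofHom (Ideal.Quotient.mk
        (IsLocalRing.maximalIdeal ↑(S.presheaf.stalk t) ^ (n + 1)))) ≫ S.fromSpecStalk t) ⟶ I.subscheme,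
        g ≫ I.subschemeι = pullback.fst p _) :
    ∃ U : X.Opens, (∀ x : X, p.base x = t → x ∈ U) ∧
      ∃ g : (U : Scheme.{u}) ⟶ I.subscheme, g ≫ I.subschemeι = U.ι := by
  let α := {D : X.affineOpens // I.ideal D = ⊥}
  let U : X.Opens := ⨆ D : α, D.1.1
  have hle : ∀ D : α, D.1.1 ≤ U := fun D => le_iSup (fun D : α => D.1.1) D
  refine ⟨U, ?_, ?_⟩
  · rintro x rfl
    obtain ⟨D, hxD, hD⟩ := stepB I x (fun D hxD s hs => stepA p x I h D hxD s hs)
    exact TopologicalSpace.Opens.mem_iSup.mpr ⟨⟨D, hD⟩, hxD⟩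
  · have haff : ∀ D : α, IsAffineOpen (U.ι ⁻¹ᵁ D.1.1) := fun D =>
      D.1.2.preimage_of_isOpenImmersion U.ι (by rw [Scheme.Opens.opensRange_ι]; exact hle D)
    have hbot : I.comap U.ι = ⊥ := by
      apply Scheme.IdealSheafData.ext_of_iSup_eq_top (fun D : α => ⟨U.ι ⁻¹ᵁ D.1.1, haff D⟩)
      · rw [eq_top_iff]
        intro y _
        have hy : U.ι y ∈ U := y.2
        obtain ⟨D, hD⟩ := TopologicalSpace.Opens.mem_iSup.mp hy
        exact TopologicalSpace.Opens.mem_iSup.mpr ⟨D, hD⟩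
      · intro D
        rw [Scheme.IdealSheafData.ideal_comap_of_isOpenImmersion]
        have : I.ideal ⟨U.ι ''ᵁ (U.ι ⁻¹ᵁ D.1.1), (haff D).image_of_isOpenImmersion U.ι⟩ = ⊥ := by
          apply ideal_eq_bot_congr I _ D.1 _ D.2
          change U.ι ''ᵁ (U.ι ⁻¹ᵁ D.1.1) = D.1.1
          rw [Scheme.Hom.image_preimage_eq_opensRange_inf, Scheme.Opens.opensRange_ι]
          exact inf_eq_right.mpr (hle D)
        rw [this]
        change Ideal.comap _ ⊥ = ⊥
        exact Ideal.comap_bot_of_injective _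
          (ConcreteCategory.bijective_of_isIso (U.ι.appIso (U.ι ⁻¹ᵁ D.1.1)).inv).1
    have hiso : IsIso (pullback.fst U.ι I.subschemeι) := (comap_eq_bot_iff _ _).1 hbot
    exact ⟨inv (pullback.fst U.ι I.subschemeι) ≫ pullback.snd _ _, by
      rw [Category.assoc, ← pullback.condition, IsIso.inv_hom_id_assoc]⟩

end Groth.Agent.S18384

namespace Groth.Agent.S18384

/-- Let p : X → S be a morphism of locally Noetherian schemes, t a point of S, m the maximal ideal of
the local ring O_{S,t}, and Z the closed subscheme of X defined by a quasi-coherent ideal I. Suppose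
that for every n ≥ 1 the projection X ×_S Spec(O_{S,t}/m^n) → X factors through Z. Then there is an
open subscheme U of X containing every point of the fibre p⁻¹(t) such that the inclusion U → X
factors through Z. -/
theorem result {X S : Scheme.{u}}
    [IsLocallyNoetherian X] [IsLocallyNoetherian S] (p : X ⟶ S) (t : S) (I : X.IdealSheafData)
    (h : ∀ n : ℕ, ∃ g : pullback p (Spec.map (CommRingCat.ofHom (Ideal.Quotient.mk
        (IsLocalRing.maximalIdeal ↑(S.presheaf.stalk t) ^ (n + 1)))) ≫ S.fromSpecStalk t) ⟶ I.subscheme,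
        g ≫ I.subschemeι = pullback.fst p _) :
    ∃ U : X.Opens, (∀ x : X, p.base x = t → x ∈ U) ∧
      ∃ g : (U : Scheme.{u}) ⟶ I.subscheme, g ≫ I.subschemeι = U.ι := by

  exact Groth.Agent.S18384.main p t I h

end Groth.Agent.S18384
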