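import Groth.Statements.S18386
import Mathlib

set_option autoImplicit false
universe u
open LVCorr

namespace Groth.Agent.S18386

open AlgebraicGeometry in
/-- Let X be a connected Noetherian scheme and I a quasi-coherent sheaf of ideals on X, different from
the structure sheaf, such that I^k = I^(k+1) for some natural number k. Then I^k = 0. -/
theorem result (X : Scheme.{u}) [AlgebraicGeometry.IsNoetherian X]
    [ConnectedSpace X] (I : X.IdealSheafData) (hI : I ≠ ⊤) (k : ℕ)
    (h : I ^ k = I ^ (k + 1)) : I ^ k = ⊥ := by
  classical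
  -- k = 0 is impossible
  have hk : k ≠ 0 := by
    rintro rfl
    apply hI
    have : I = I ^ 1 := (pow_one I).symm
    rw [this, ← h, pow_zero]; rfl
  set J := I ^ k with hJ
  have hpow : ∀ m : ℕ, I ^ (k + m) = I ^ k := by
    intro m
    induction m with
    | zero => rfl
    | succ m ih => rw [← add_assoc, pow_succ, ih, ← pow_succ, ← h]
  have hJJ : J * J = J := by rw [hJ, ← pow_add, hpow]
  -- the local idempotent generator
  have hloc : ∀ U : X.affineOpens, ∃ e : Γ(X, U.1), IsIdempotentElem e ∧ J.ideal U = Ideal.span {e} := by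
    intro U
    have hN : IsNoetherianRing Γ(X, U.1) := IsLocallyNoetherian.component_noetherian U
    have hfg : (J.ideal U).FG := (isNoetherianRing_iff_ideal_fg _).mp hN _
    have hidem : IsIdempotentElem (J.ideal U) := by
      change J.ideal U * J.ideal U = J.ideal U
      have := congrArg (fun K : X.IdealSheafData => K.ideal U) hJJ
      simpa using this
    exact (Ideal.isIdempotentElem_iff_of_fg _ hfg).mp hidem
  -- support of J is open
  have hopen : IsOpen (J.support : Set X) := by
    rw [isOpen_iff_forall_mem_open]
    intro x hx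
    obtain ⟨_, ⟨U, hU : IsAffineOpen U, rfl⟩, hxU, -⟩ :=
      (X.isBasis_affineOpens).exists_subset_of_mem_open (Set.mem_univ x) isOpen_univ
    obtain ⟨e, he, hJe⟩ := hloc ⟨U, hU⟩
    have hdisj : X.basicOpen e ⊓ X.basicOpen (1 - e) = ⊥ := by
      rw [← Scheme.basicOpen_mul, mul_sub, mul_one, he.eq, sub_self, Scheme.basicOpen_zero]
    have hcov : ∀ y : X, y ∈ U → y ∈ X.basicOpen e ∨ y ∈ X.basicOpen (1 - e) := by
      intro y hy
      have h1 : y ∈ X.basicOpen (e + (1 - e)) := by
        rw [add_sub_cancel, Scheme.basicOpen_one]; exact hy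
      exact X.basicOpen_add_le e (1 - e) h1
    refine ⟨X.basicOpen (1 - e), ?_, (X.basicOpen (1 - e)).2, ?_⟩
    · intro y hy
      have hyU : y ∈ U := X.basicOpen_le _ hy
      rw [SetLike.mem_coe, Scheme.IdealSheafData.mem_support_iff_of_mem (U := ⟨U, hU⟩) hyU, hJe,
        Scheme.zeroLocus_span, Scheme.zeroLocus_singleton]
      intro hye
      have : y ∈ X.basicOpen e ⊓ X.basicOpen (1 - e) := ⟨hye, hy⟩
      rw [hdisj] at this
      exact this
    · have hx' := (Scheme.IdealSheafData.mem_support_iff_of_mem (U := ⟨U, hU⟩) hxU).mp hx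
      rw [hJe, Scheme.zeroLocus_span, Scheme.zeroLocus_singleton] at hx'
      rcases hcov x hxU with h1 | h1
      · exact absurd h1 hx'
      · exact h1
  have hclopen : IsClopen (J.support : Set X) := ⟨J.support.isClosed, hopen⟩
  rcases isClopen_iff.mp hclopen with hemp | huniv
  · exfalso
    apply hI
    have h1 : J.support = ⊥ := TopologicalSpace.Closeds.ext hemp
    rw [hJ, Scheme.IdealSheafData.support_pow _ _ hk] at h1
    exact (Scheme.IdealSheafData.support_eq_bot_iff I).mp h1
  · apply Scheme.IdealSheafData.ext
    funext U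
    obtain ⟨e, he, hJe⟩ := hloc U
    rw [hJe, Scheme.IdealSheafData.ideal_bot]
    have hbot : X.basicOpen e = ⊥ := by
      rw [eq_bot_iff]
      intro y hy
      have hyU : y ∈ U.1 := X.basicOpen_le _ hy
      have hys : y ∈ J.support := by
        change y ∈ (J.support : Set X)
        rw [huniv]; trivial
      have := (Scheme.IdealSheafData.mem_support_iff_of_mem (U := U) hyU).mp hys
      rw [hJe, Scheme.zeroLocus_span, Scheme.zeroLocus_singleton] at this
      exact absurd hy this
    have hnil : IsNilpotent e :=
      (Scheme.isNilpotent_iff_basicOpen_eq_bot_of_isCompact U.2.isCompact e).mpr hbot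
    obtain ⟨n, hn⟩ := hnil
    have he0 : e = 0 := by
      cases n with
      | zero =>
        rw [pow_zero] at hn
        calc e = e * 1 := (mul_one e).symm
          _ = 0 := by rw [hn, mul_zero]
      | succ n => rw [he.pow_succ_eq] at hn; exact hn
    rw [he0]
    simp

end Groth.Agent.S18386
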