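import Groth.Statements.S18387
import Mathlib
-- import your own Groth.Agent.* helpers here

set_option autoImplicit false
universe u
open LVCorr

namespace Groth.Agent.S18387

/-- In the affine form which its proof establishes. Let A be a commutative algebra over a field F which
is finite-dimensional of dimension d over F. Then the d-th power of the nilradical of A vanishes.
(Applied to the fibre algebra A = B/mB of a quasi-finite morphism over a closed point with maximal
ideal m, this says that the d-th power of the radical of mB lies in mB, i.e. the ramification of the
morphism at that point is at most the degree d of the fibre.) -/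
theorem result (F A : Type u) [Field F] [CommRing A] [Algebra F A]
    [FiniteDimensional F A] : nilradical A ^ Module.finrank F A = ⊥ := by
  classical
  have : IsNoetherianRing A := isNoetherian_of_tower F (inferInstance : IsNoetherian F A)
  obtain ⟨m, hm⟩ : IsNilpotent (nilradical A) := IsNoetherianRing.isNilpotent_nilradical A
  set N := nilradical A with hN
  -- stabilisation forces vanishing
  have hstab : ∀ k : ℕ, N ^ (k + 1) = N ^ k → N ^ k = ⊥ := by
    intro k hk
    have : ∀ j : ℕ, N ^ (k + j) = N ^ k := by
      intro j
      induction j with
      | zero => rfl
      | succ j ih => rw [← add_assoc, pow_succ, ih, ← pow_succ, hk]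
    have h := this m
    rw [pow_add, hm] at h
    rw [← h]
    simp
  have key : ∀ k : ℕ, N ^ k = ⊥ ∨
      Module.finrank F ((N ^ k).restrictScalars F) + k ≤ Module.finrank F A := by
    intro k
    induction k with
    | zero =>
      right
      simp only [add_zero]
      exact Submodule.finrank_le _
    | succ k ih =>
      rcases ih with h | h
      · left; rw [pow_succ, h]; simp
      · by_cases heq : N ^ (k + 1) = N ^ k
        · left
          rw [heq]; exact hstab k heq
        · right
          have hle : N ^ (k + 1) ≤ N ^ k := Ideal.pow_le_pow_right (Nat.le_succ k)
          have hlt : (N ^ (k + 1)).restrictScalars F < (N ^ k).restrictScalars F := by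
            refine lt_of_le_of_ne (fun x hx => hle hx) ?_
            intro h'
            apply heq
            apply le_antisymm hle
            intro x hx
            have : x ∈ (N ^ k).restrictScalars F := hx
            rw [← h'] at this
            exact this
          have := Submodule.finrank_lt_finrank_of_lt hlt
          omega
  rcases key (Module.finrank F A) with h | h
  · exact h
  · have h0 : Module.finrank F ((N ^ Module.finrank F A).restrictScalars F) = 0 := by omega
    have := Submodule.finrank_eq_zero.1 h0
    apply le_antisymm _ bot_le
    intro x hx
    have hx' : x ∈ (N ^ Module.finrank F A).restrictScalars F := hx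
    rw [this] at hx'
    simpa using hx'

end Groth.Agent.S18387
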