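import Groth.Statements.S18389
-- import your own Groth.Agent.* helpers here

set_option autoImplicit false
universe u
open LVCorr

namespace Groth.Agent.S18389

open AlgebraicGeometry CategoryTheory in
/-- Let j : C → C̄ be an open immersion with dense image and jX : X → X̄ an open immersion, and let c₁ :
C → X and c̄₁ : C̄ → X̄ satisfy j followed by c̄₁ equals c₁ followed by jX, with c̄₁ separated. Let
U be an open subset of X such that c₁⁻¹(U) is dense in C and the restriction c₁⁻¹(U) → U of c₁ is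
proper. Then c̄₁⁻¹(jX(U)) = j(c₁⁻¹(U)) as open subsets of C̄. (In the source all schemes are
separated of finite type over a field, C̄ and X̄ are compactifications of a correspondence and of X,
so that c̄₁ is automatically separated.) -/
theorem result {C Cb X Xb : Scheme.{u}}
    (j : C ⟶ Cb) [IsOpenImmersion j] (hj : DenseRange j.base)
    (jX : X ⟶ Xb) [IsOpenImmersion jX] (c₁ : C ⟶ X) (cb₁ : Cb ⟶ Xb) [IsSeparated cb₁]
    (h : j ≫ cb₁ = c₁ ≫ jX) (U : X.Opens) (hU : Dense ((c₁ ⁻¹ᵁ U : C.Opens) : Set C))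
    [IsProper (c₁ ∣_ U)] :
    cb₁ ⁻¹ᵁ (jX ''ᵁ U) = j ''ᵁ (c₁ ⁻¹ᵁ U) := by
  set Ub : Xb.Opens := jX ''ᵁ U with hUb
  set Wb : Cb.Opens := cb₁ ⁻¹ᵁ Ub with hWb
  set W₀ : C.Opens := c₁ ⁻¹ᵁ U with hW₀
  -- easy inclusion
  have hle : j ''ᵁ W₀ ≤ Wb := by
    rintro _ ⟨c, hc, rfl⟩
    show cb₁ (j c) ∈ Ub
    rw [← Scheme.Hom.comp_apply, h, Scheme.Hom.comp_apply]
    exact ⟨c₁ c, hc, rfl⟩
  refine le_antisymm ?_ hle
  -- the map `W₀ → Wb`
  have hsub : Set.range (W₀.ι ≫ j) ⊆ Set.range Wb.ι := by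
    rintro _ ⟨c, rfl⟩
    rw [Scheme.Opens.range_ι]
    apply hle
    rw [Scheme.Hom.comp_apply]
    exact ⟨W₀.ι c, c.2, rfl⟩
  let t : (↑W₀ : Scheme.{u}) ⟶ Wb := IsOpenImmersion.lift Wb.ι (W₀.ι ≫ j) hsub
  have ht : t ≫ Wb.ι = W₀.ι ≫ j := IsOpenImmersion.lift_fac _ _ _
  have hcomp : t ≫ (cb₁ ∣_ Ub) = (c₁ ∣_ U) ≫ (jX.isoImage U).hom := by
    rw [← cancel_mono Ub.ι, Category.assoc, Category.assoc, morphismRestrict_ι,
      Scheme.Hom.isoImage_hom_ι, ← Category.assoc, ht, Category.assoc, h,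
      ← Category.assoc, ← Category.assoc, morphismRestrict_ι]
  haveI : UniversallyClosed t := by
    haveI : UniversallyClosed (t ≫ (cb₁ ∣_ Ub)) := by rw [hcomp]; infer_instance
    exact UniversallyClosed.of_comp_of_isSeparated t (cb₁ ∣_ Ub)
  have hclosed : IsClosed (Set.range t) := t.isClosedMap.isClosed_range
  have himg : Wb.ι '' Set.range t = j '' (W₀ : Set C) := by
    rw [← Set.range_comp]
    have : (Wb.ι : _ → Cb) ∘ t = (j : C → Cb) ∘ W₀.ι := by
      have := congrArg (fun g : (↑W₀ : Scheme.{u}) ⟶ Cb => (g : _ → Cb)) ht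
      exact this
    rw [this, Set.range_comp, Scheme.Opens.range_ι]
  have hdense : Dense (Set.range t) := by
    have h1 : Dense (j '' (W₀ : Set C)) := hj.dense_image j.continuous hU
    have h2 : Dense (Wb.ι ⁻¹' (j '' (W₀ : Set C))) := h1.preimage Wb.ι.isOpenEmbedding.isOpenMap
    rw [← himg, Set.preimage_image_eq _ Wb.ι.isOpenEmbedding.injective] at h2
    exact h2
  have hrange : Set.range t = Set.univ := by
    rw [← hclosed.closure_eq]; exact hdense.closure_eq
  intro p hp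
  have hp' : p ∈ Set.range Wb.ι := by rw [Scheme.Opens.range_ι]; exact hp
  obtain ⟨p', rfl⟩ := hp'
  have : Wb.ι p' ∈ Wb.ι '' Set.range t := ⟨p', by rw [hrange]; trivial, rfl⟩
  rw [himg] at this
  exact this


end Groth.Agent.S18389
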