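import Groth.Statements.S1839
import Groth.Agent.Lib.Helper64.CycDetC

set_option autoImplicit false
universe u v
open CycDet

namespace Groth.Agent.S1839

/-- For a finite length module M over a local ring with residue field κ, the symbol in det_κ(M) of any
admissible tuple of length length(M) whose entries generate M is nonzero. (Together with the rank
bound dim_κ det_κ(M) ≤ 1 this gives dim_κ det_κ(M) = 1.) -/
theorem result (R : Type u) [CommRing R] [IsLocalRing R] (M : Type v) [AddCommGroup M] [Module R M] (hM : IsFiniteLength R M) (e : CycDet.Adm R M (Module.length R M).toNat) (he : Submodule.span R (Set.range e.1) = ⊤) : CycDet.symbol R M e ≠ 0 := by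
  have hne : Module.length R M ≠ ⊤ := Module.length_ne_top_iff.mpr hM
  exact Groth.Agent.Lib.Helper64.CycDetC.symbol_ne_zero (R := R) (Module.length R M).toNat M
    (ENat.coe_toNat hne).symm e he

end Groth.Agent.S1839
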