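import Groth.Statements.S18390
import Mathlib
-- import your own Groth.Agent.* helpers here

set_option autoImplicit false
universe u
open LVCorr

namespace Groth.Agent.S18390

/-- In the affine, ring-theoretic form which its proof establishes. Let φ : A' → A be a ring
homomorphism, I' a finitely generated ideal of A' and I an ideal of A containing the image of I'.
Then some power I'^k is mapped into I^(k+1) if and only if for every n ≥ 1 and every a ∈ I'^n there
is a k with φ(a)^k ∈ I^(nk+1). (Geometrically, for a morphism f : (X, Z) → (X', Z') of pairs with Z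
a closed subscheme of the preimage of Z', the normal cone of Z in X is the spectrum of the
associated graded algebra of I, and the second condition says that the induced map of normal cones
sends the normal cone of Z set-theoretically into the zero section Z'; the source states the
equivalence in that language.) -/
theorem aux {A : Type u} [CommRing A] (I M1 M2 : Ideal A) (h1 : M1 ≤ I) (h2 : M2 ≤ I) (k1 k2 : ℕ)
    (hk1 : M1 ^ k1 ≤ I ^ (k1 + 1)) (hk2 : M2 ^ k2 ≤ I ^ (k2 + 1)) :
    (M1 ⊔ M2) ^ (k1 + k2) ≤ I ^ (k1 + k2 + 1) := by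
  rw [← Ideal.add_eq_sup, add_pow, Ideal.sum_eq_sup]
  apply Finset.sup_le
  intro i hi
  have hi' : i ≤ k1 + k2 := Nat.lt_succ_iff.1 (Finset.mem_range.1 hi)
  refine Ideal.mul_le_left.trans ?_
  by_cases h : k1 ≤ i
  · calc M1 ^ i * M2 ^ (k1 + k2 - i) = M1 ^ k1 * M1 ^ (i - k1) * M2 ^ (k1 + k2 - i) := by
          rw [← pow_add]; congr 2; omega
      _ ≤ I ^ (k1 + 1) * I ^ (i - k1) * I ^ (k1 + k2 - i) :=
          Ideal.mul_mono (Ideal.mul_mono hk1 (Ideal.pow_right_mono h1 _)) (Ideal.pow_right_mono h2 _)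
      _ = I ^ (k1 + k2 + 1) := by
          rw [← pow_add, ← pow_add]; congr 1; omega
  · calc M1 ^ i * M2 ^ (k1 + k2 - i) = M1 ^ i * (M2 ^ k2 * M2 ^ (k1 - i)) := by
          rw [← pow_add]; congr 2; omega
      _ ≤ I ^ i * (I ^ (k2 + 1) * I ^ (k1 - i)) :=
          Ideal.mul_mono (Ideal.pow_right_mono h1 _) (Ideal.mul_mono hk2 (Ideal.pow_right_mono h2 _))
      _ = I ^ (k1 + k2 + 1) := by
          rw [← pow_add, ← pow_add]; congr 1; omega

theorem result (A' A : Type u) [CommRing A'] [CommRing A]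
    (φ : A' →+* A) (I' : Ideal A') (hI' : I'.FG) (I : Ideal A) (hle : I'.map φ ≤ I) :
    (∃ k : ℕ, (I' ^ k).map φ ≤ I ^ (k + 1)) ↔
      ∀ n : ℕ, 1 ≤ n → ∀ a ∈ I' ^ n, ∃ k : ℕ, 1 ≤ k ∧ φ a ^ k ∈ I ^ (n * k + 1) := by
  constructor
  · rintro ⟨k, hk⟩ n hn a ha
    rcases Nat.eq_zero_or_pos k with rfl | hkpos
    · -- then I = ⊤
      have htop : I = ⊤ := by
        rw [Ideal.eq_top_iff_one]
        have h1 : φ 1 ∈ (I' ^ 0).map φ := Ideal.mem_map_of_mem φ (by simp)
        have := hk h1
        simpa using this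
      refine ⟨1, le_rfl, ?_⟩
      rw [htop, Ideal.top_pow]; exact Submodule.mem_top
    · refine ⟨k, hkpos, ?_⟩
      have h1 : a ^ k ∈ (I' ^ k) ^ n := by
        rw [← pow_mul, mul_comm, pow_mul]
        exact Ideal.pow_mem_pow ha k
      have h2 : φ (a ^ k) ∈ ((I' ^ k) ^ n).map φ := Ideal.mem_map_of_mem φ h1
      rw [Ideal.map_pow] at h2
      have h3 : ((I' ^ k).map φ) ^ n ≤ I ^ (n * k + 1) := by
        calc ((I' ^ k).map φ) ^ n ≤ (I ^ (k + 1)) ^ n := Ideal.pow_right_mono hk n
          _ = I ^ ((k + 1) * n) := by rw [← pow_mul]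
          _ ≤ I ^ (n * k + 1) := Ideal.pow_le_pow_right (by nlinarith)
      rw [map_pow] at h2
      exact h3 h2
  · intro h
    -- the n = 1 case
    have h1 : ∀ a ∈ I', ∃ k : ℕ, 1 ≤ k ∧ φ a ^ k ∈ I ^ (k + 1) := by
      intro a ha
      obtain ⟨k, hk1, hk⟩ := h 1 le_rfl a (by simpa using ha)
      exact ⟨k, hk1, by simpa using hk⟩
    suffices H : ∀ J : Ideal A', J.FG → J ≤ I' → ∃ k : ℕ, (J ^ k).map φ ≤ I ^ (k + 1) from
      H I' hI' le_rfl
    intro J hJ
    induction J, hJ using Submodule.fg_induction with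
    | singleton x =>
      intro hx
      have hx' : x ∈ I' := hx (Submodule.mem_span_singleton_self x)
      obtain ⟨k, -, hk⟩ := h1 x hx'
      refine ⟨k, ?_⟩
      rw [Ideal.submodule_span_eq, Ideal.span_singleton_pow, Ideal.map_span, Ideal.span_le]
      rintro _ ⟨y, hy, rfl⟩
      rw [Set.mem_singleton_iff] at hy
      rw [hy, map_pow]
      exact hk
    | sup J₁ J₂ _ _ ih₁ ih₂ =>
      intro hle'
      obtain ⟨k1, hk1⟩ := ih₁ (le_sup_left.trans hle')
      obtain ⟨k2, hk2⟩ := ih₂ (le_sup_right.trans hle')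
      refine ⟨k1 + k2, ?_⟩
      rw [Ideal.map_pow, Ideal.map_sup]
      rw [Ideal.map_pow] at hk1 hk2
      exact aux I (Ideal.map φ J₁) (Ideal.map φ J₂)
        ((Ideal.map_mono (le_sup_left.trans hle')).trans hle)
        ((Ideal.map_mono (le_sup_right.trans hle')).trans hle) k1 k2 hk1 hk2

end Groth.Agent.S18390
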