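import Groth.Statements.S18391
import Mathlib
-- import your own Groth.Agent.* helpers here

set_option autoImplicit false
universe u
open LVCorr

namespace Groth.Agent.S18391

/-- Let A be a normal (integrally closed) Noetherian domain and z an element of A such that the radical
of the principal ideal (z) is prime. Then there exist elements w, t of A and a natural number r,
with w not in the radical of (z), such that in the localization A[1/w] the ideal generated by z
equals the ideal generated by t^r and the ideal generated by t is prime. (The condition on w is the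
one the printed proof produces and the later use of the lemma needs.) -/
theorem result (A : Type u) [CommRing A] [IsDomain A]
    [IsNoetherianRing A] [IsIntegrallyClosed A] (z : A) (hz : (Ideal.span {z}).radical.IsPrime) :
    ∃ (w t : A) (r : ℕ), w ∉ (Ideal.span {z}).radical ∧
      Ideal.span {algebraMap A (Localization.Away w) z} =
        Ideal.span {algebraMap A (Localization.Away w) t ^ r} ∧
      (Ideal.span {algebraMap A (Localization.Away w) t}).IsPrime := by
  classical
  by_cases hz0 : z = 0
  · subst hz0
    have hdom : IsDomain (Localization.Away (1 : A)) :=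
      IsLocalization.isDomain_localization (M := Submonoid.powers (1 : A))
        (powers_le_nonZeroDivisors_of_noZeroDivisors one_ne_zero)
    refine ⟨1, 0, 1, ?_, ?_, ?_⟩
    · intro h
      exact hz.ne_top ((Ideal.eq_top_iff_one _).mpr h)
    · simp
    · simp only [map_zero, Ideal.span_singleton_eq_bot.mpr]
      exact Ideal.isPrime_bot
  set p := (Ideal.span {z}).radical with hp
  have hpmin : p ∈ (Ideal.span {z}).minimalPrimes := by
    refine ⟨⟨hz, Ideal.le_radical⟩, ?_⟩
    rintro q ⟨hq, hzq⟩ _
    exact hq.radical_le_iff.mpr hzq
  have hht : p.height ≤ 1 := Ideal.height_le_one_of_isPrincipal_of_mem_minimalPrimes _ p hpmin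
  have hzp : z ∈ p := Ideal.le_radical (Ideal.mem_span_singleton_self z)
  have hbelow : ∀ q : Ideal A, q.IsPrime → q ≤ p → q ≠ ⊥ → q = p := by
    intro q hq hqp hq0
    by_contra hne
    have hlt : q < p := lt_of_le_of_ne hqp hne
    have h1 := Ideal.height_strict_mono_of_isPrime_of_isPrime hlt
    have h0 : q.height = 0 := Order.lt_one_iff.mp (lt_of_lt_of_le h1 hht)
    exact hq0 (Ideal.height_eq_zero_iff_eq_bot.mp h0)
  let R := Localization.AtPrime p
  have hinjR : Function.Injective (algebraMap A R) :=
    IsLocalization.injective R (Ideal.primeCompl_le_nonZeroDivisors p)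
  have hIC : IsIntegrallyClosed R :=
    isIntegrallyClosed_of_isLocalization R p.primeCompl (Ideal.primeCompl_le_nonZeroDivisors p)
  have hprimes : ∀ P : Ideal R, P ≠ ⊥ → P.IsPrime → P = IsLocalRing.maximalIdeal R := by
    intro P hP0 hPp
    have hPP := (IsLocalization.isPrime_iff_isPrime_disjoint p.primeCompl R P).mp hPp
    have hqp : P.under A ≤ p := by
      intro x hx
      by_contra hxp
      exact Set.disjoint_left.mp hPP.2 hxp hx
    have hq0 : P.under A ≠ ⊥ := by
      intro h
      apply hP0
      rw [← IsLocalization.map_under p.primeCompl R P, h, Ideal.map_bot]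
    have hqeq := hbelow _ hPP.1 hqp hq0
    rw [← IsLocalization.map_under p.primeCompl R P, hqeq]
    exact IsLocalization.AtPrime.map_eq_maximalIdeal p R
  have tfae := tfae_of_isNoetherianRing_of_isLocalRing_of_isDomain R
  have h34 : (IsIntegrallyClosed R ∧
      ∀ P : Ideal R, P ≠ ⊥ → P.IsPrime → P = IsLocalRing.maximalIdeal R) ↔
      (IsLocalRing.maximalIdeal R).IsPrincipal := tfae.out 3 4
  have h36 : (IsIntegrallyClosed R ∧
      ∀ P : Ideal R, P ≠ ⊥ → P.IsPrime → P = IsLocalRing.maximalIdeal R) ↔
      (∀ I : Ideal R, I ≠ ⊥ → ∃ n : ℕ, I = IsLocalRing.maximalIdeal R ^ n) := tfae.out 3 6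
  have hprin : (IsLocalRing.maximalIdeal R).IsPrincipal := h34.mp ⟨hIC, hprimes⟩
  have hpow : ∀ I : Ideal R, I ≠ ⊥ → ∃ n : ℕ, I = IsLocalRing.maximalIdeal R ^ n :=
    h36.mp ⟨hIC, hprimes⟩
  obtain ⟨π, hπ⟩ := hprin.principal
  obtain ⟨t, s, rfl⟩ := IsLocalization.exists_mk'_eq p.primeCompl π
  have hsunit : IsUnit (algebraMap A R (s : A)) := IsLocalization.map_units R s
  have hτ : Ideal.span {algebraMap A R t} = IsLocalRing.maximalIdeal R := by
    rw [hπ]
    change Ideal.span {algebraMap A R t} = Ideal.span {IsLocalization.mk' R t s}
    rw [Ideal.span_singleton_eq_span_singleton]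
    exact (show Associated (IsLocalization.mk' R t s) (algebraMap A R t) from
      ⟨hsunit.unit, IsLocalization.mk'_spec R t s⟩).symm
  -- `t ∈ p`
  have htp : t ∈ p := by
    rw [← IsLocalization.AtPrime.to_map_mem_maximal_iff R p t, ← hτ]
    exact Ideal.mem_span_singleton_self _
  -- local statement: elements of `p` are multiples of `t` up to a denominator outside `p`
  have hloc : ∀ g ∈ p, ∃ c d : A, d ∉ p ∧ g * d = c * t := by
    intro g hg
    have hgm : algebraMap A R g ∈ Ideal.span {algebraMap A R t} := by
      rw [hτ]; exact (IsLocalization.AtPrime.to_map_mem_maximal_iff R p g).mpr hg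
    obtain ⟨c, hc⟩ := Ideal.mem_span_singleton'.mp hgm
    obtain ⟨c', d', rfl⟩ := IsLocalization.exists_mk'_eq p.primeCompl c
    refine ⟨c', d', d'.2, ?_⟩
    apply hinjR
    rw [map_mul, map_mul, ← hc, mul_assoc, mul_comm (algebraMap A R t), ← mul_assoc,
      IsLocalization.mk'_spec]
  -- common denominator for finitely many elements
  have hcommon : ∀ G : Finset A, (∀ g ∈ G, g ∈ p) → ∃ d, d ∉ p ∧ ∀ g ∈ G, ∃ c, g * d = c * t := by
    intro G
    induction G using Finset.induction_on with
    | empty => exact fun _ => ⟨1, fun h => hz.ne_top ((Ideal.eq_top_iff_one _).mpr h), by simp⟩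
    | insert g G hg ih =>
      intro hG
      obtain ⟨d₀, hd₀, hd₀G⟩ := ih (fun x hx => hG x (Finset.mem_insert_of_mem hx))
      obtain ⟨c, d, hd, hgd⟩ := hloc g (hG g (Finset.mem_insert_self g G))
      refine ⟨d₀ * d, fun h => (hz.mem_or_mem h).elim hd₀ hd, ?_⟩
      intro x hx
      rcases Finset.mem_insert.mp hx with rfl | hx
      · exact ⟨c * d₀, by linear_combination d₀ * hgd⟩
      · obtain ⟨c₁, hc₁⟩ := hd₀G x hx
        exact ⟨c₁ * d, by linear_combination d * hc₁⟩
  obtain ⟨G, hG⟩ := (isNoetherianRing_iff_ideal_fg A).mp inferInstance p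
  obtain ⟨D, hD, hDG⟩ := hcommon G (fun g hg => hG ▸ Ideal.subset_span hg)
  -- `z` is a unit times a power of `t` in `R`
  have hzR : Ideal.span {algebraMap A R z} ≠ ⊥ := by
    rw [Ne, Ideal.span_singleton_eq_bot]
    intro h
    exact hz0 (hinjR (by rw [h, map_zero]))
  obtain ⟨r, hr⟩ := hpow _ hzR
  rw [← hτ, Ideal.span_singleton_pow, Ideal.span_singleton_eq_span_singleton] at hr
  obtain ⟨u, hu⟩ := hr
  obtain ⟨a, b, hab⟩ := IsLocalization.exists_mk'_eq p.primeCompl (u : R)
  have ha : a ∉ p := by
    have : IsUnit (IsLocalization.mk' R a b) := hab ▸ u.isUnit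
    exact (IsLocalization.AtPrime.isUnit_mk'_iff R p a b).mp this
  have hzt : z * a = t ^ r * b := by
    apply hinjR
    rw [map_mul, map_mul, map_pow, ← hu, ← hab, mul_assoc, IsLocalization.mk'_spec]
  -- the element `w`
  refine ⟨a * b * D, t, r, ?_, ?_, ?_⟩
  · intro h
    rcases hz.mem_or_mem h with h | h
    · rcases hz.mem_or_mem h with h | h
      · exact ha h
      · exact b.2 h
    · exact hD h
  all_goals
    set w := a * (b : A) * D with hw
    have hw0 : w ≠ 0 := by
      intro h
      have : w ∈ p := h ▸ p.zero_mem
      rcases hz.mem_or_mem this with h | h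
      · rcases hz.mem_or_mem h with h | h
        · exact ha h
        · exact b.2 h
      · exact hD h
    have hdomS : IsDomain (Localization.Away w) :=
      IsLocalization.isDomain_localization (M := Submonoid.powers w)
        (powers_le_nonZeroDivisors_of_noZeroDivisors hw0)
    have hwunit : IsUnit (algebraMap A (Localization.Away w) w) :=
      IsLocalization.Away.algebraMap_isUnit w
    have haunit : IsUnit (algebraMap A (Localization.Away w) a) := by
      have : algebraMap A (Localization.Away w) w =
          algebraMap A (Localization.Away w) a * algebraMap A (Localization.Away w) ((b : A) * D) := by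
        rw [← map_mul, hw, mul_assoc]
      exact isUnit_of_mul_isUnit_left (this ▸ hwunit)
    have hbunit : IsUnit (algebraMap A (Localization.Away w) (b : A)) := by
      have : algebraMap A (Localization.Away w) w =
          algebraMap A (Localization.Away w) (b : A) * algebraMap A (Localization.Away w) (a * D) := by
        rw [← map_mul, hw]; congr 1; ring
      exact isUnit_of_mul_isUnit_left (this ▸ hwunit)
    have hDunit : IsUnit (algebraMap A (Localization.Away w) D) := by
      have : algebraMap A (Localization.Away w) w =
          algebraMap A (Localization.Away w) D * algebraMap A (Localization.Away w) (a * (b : A)) := by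
        rw [← map_mul, hw]; congr 1; ring
      exact isUnit_of_mul_isUnit_left (this ▸ hwunit)
  · -- span {z} = span {t ^ r}
    rw [Ideal.span_singleton_eq_span_singleton]
    refine ⟨haunit.unit * hbunit.unit⁻¹, ?_⟩
    rw [Units.val_mul, ← mul_assoc]
    rw [Units.mul_inv_eq_iff_eq_mul]
    change algebraMap A (Localization.Away w) z * algebraMap A (Localization.Away w) a =
      algebraMap A (Localization.Away w) t ^ r * algebraMap A (Localization.Away w) (b : A)
    rw [← map_mul, ← map_pow, ← map_mul, hzt]
  · -- span {t} is prime
    have hmap : Ideal.span {algebraMap A (Localization.Away w) t} =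
        Ideal.map (algebraMap A (Localization.Away w)) p := by
      apply le_antisymm
      · rw [Ideal.span_singleton_le_iff_mem]
        exact Ideal.mem_map_of_mem _ htp
      · rw [Ideal.map_le_iff_le_comap, ← hG, Ideal.span_le]
        intro g hg
        obtain ⟨c, hc⟩ := hDG g hg
        rw [SetLike.mem_coe, Ideal.mem_comap, Ideal.mem_span_singleton']
        refine ⟨algebraMap A (Localization.Away w) c * (hDunit.unit⁻¹ : (Localization.Away w)ˣ), ?_⟩
        rw [mul_assoc, mul_comm ((hDunit.unit⁻¹ : (Localization.Away w)ˣ) : Localization.Away w),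
          ← mul_assoc, Units.mul_inv_eq_iff_eq_mul]
        change algebraMap A (Localization.Away w) c * algebraMap A (Localization.Away w) t =
          algebraMap A (Localization.Away w) g * algebraMap A (Localization.Away w) D
        rw [← map_mul, ← map_mul, hc]
    rw [hmap]
    refine IsLocalization.isPrime_of_isPrime_disjoint (Submonoid.powers w) _ p hz ?_
    rw [Set.disjoint_left]
    rintro x ⟨n, rfl⟩ hx
    have hwp : w ∈ p := hz.mem_of_pow_mem n hx
    rcases hz.mem_or_mem hwp with h | h
    · rcases hz.mem_or_mem h with h | h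
      · exact ha h
      · exact b.2 h
    · exact hD h

end Groth.Agent.S18391
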