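import Groth.Statements.S18392
import Mathlib
-- import your own Groth.Agent.* helpers here

set_option autoImplicit false
universe u
open LVCorr

namespace Groth.Agent.S18392

/-- Let A be a normal (integrally closed) Noetherian domain and z an element of A such that the radical
of (z) is prime. Then for every non-empty open subset V of Spec A contained in the basic open set
D(z) (that is, every non-empty open subset of Spec A[1/z]) there is an element x of A, not in the
radical of (z), such that the basic open set D(xz) = Spec A[1/xz] is contained in V. -/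
theorem result (A : Type u) [CommRing A]
    [IsDomain A] [IsNoetherianRing A] [IsIntegrallyClosed A] (z : A)
    (hz : (Ideal.span {z}).radical.IsPrime) (V : Set (PrimeSpectrum A)) (hV : IsOpen V)
    (hVz : V ⊆ (PrimeSpectrum.basicOpen z : Set (PrimeSpectrum A))) (hne : V.Nonempty) :
    ∃ x : A, x ∉ (Ideal.span {z}).radical ∧
      ((PrimeSpectrum.basicOpen (x * z) : TopologicalSpace.Opens (PrimeSpectrum A)) :
        Set (PrimeSpectrum A)) ⊆ V := by
  classical
  obtain ⟨P, hP⟩ : ∃ P : Ideal A, P = (Ideal.span {z}).radical := ⟨_, rfl⟩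
  rw [← hP] at hz ⊢
  obtain ⟨J, hJ⟩ := (PrimeSpectrum.isClosed_iff_zeroLocus_ideal Vᶜ).1 hV.isClosed_compl
  have hzP : z ∈ P := hP ▸ Ideal.le_radical (Ideal.mem_span_singleton_self z)
  have key : ∃ x : A, x ∉ P ∧ ∃ n : ℕ, x * z ^ n ∈ J := by
    by_contra hcon
    push Not at hcon
    let S : Submonoid A := P.primeCompl ⊔ Submonoid.powers z
    have hdisj : Disjoint (J : Set A) S := by
      rw [Set.disjoint_left]
      intro s hsJ hsS
      obtain ⟨x, hx, y, ⟨n, rfl⟩, rfl⟩ := Submonoid.mem_sup.1 hsS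
      exact hcon x hx n hsJ
    obtain ⟨Q, hQprime, hJQ, hQS⟩ := Ideal.exists_le_prime_disjoint J S hdisj
    have hQP : Q ≤ P := by
      intro x hxQ
      by_contra hxP
      exact Set.disjoint_left.1 hQS hxQ
        (Submonoid.mem_sup_left (show x ∈ P.primeCompl from hxP))
    have hzQ : z ∉ Q := fun h =>
      Set.disjoint_left.1 hQS h (Submonoid.mem_sup_right (Submonoid.mem_powers z))
    have hQne : Q ≠ ⊥ := by
      obtain ⟨q, hq⟩ := hne
      intro hQ
      have hJbot : J = ⊥ := by rw [← le_bot_iff, ← hQ]; exact hJQ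
      have hq' : q ∈ Vᶜ := by rw [hJ, hJbot]; simp
      exact hq' hq
    have hlt : Q < P := lt_of_le_of_ne hQP (fun h => hzQ (h ▸ hzP))
    have hbot : (⊥ : Ideal A) < Q := bot_lt_iff_ne_bot.2 hQne
    have hPmin : P ∈ (Ideal.span {z}).minimalPrimes := by
      refine ⟨⟨hz, hP ▸ Ideal.le_radical⟩, fun q ⟨hq1, hq2⟩ _ => ?_⟩
      rw [hP]
      exact hq1.radical_le_iff.2 hq2
    have hht := Ideal.height_le_one_of_isPrincipal_of_mem_minimalPrimes (Ideal.span {z}) P hPmin
    have h1 : (⊥ : Ideal A).height + 1 ≤ Q.height :=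
      Ideal.height_add_one_le_of_lt_of_isPrime hbot
    have h2 : Q.height + 1 ≤ P.height := Ideal.height_add_one_le_of_lt_of_isPrime hlt
    rw [Ideal.height_bot, zero_add] at h1
    have h3 : (1 : ℕ∞) + 1 ≤ 1 := (add_le_add_left h1 1).trans (h2.trans hht)
    exact absurd h3 (by decide)
  obtain ⟨x, hxP, n, hn⟩ := key
  refine ⟨x, hxP, ?_⟩
  intro q hq
  by_contra hqV
  have hq' : q ∈ Vᶜ := hqV
  rw [hJ, PrimeSpectrum.mem_zeroLocus] at hq'
  have hmem : (x * z) ^ (n + 1) ∈ q.asIdeal := by
    have : (x * z) ^ (n + 1) = (x ^ n * z) * (x * z ^ n) := by ring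
    rw [this]
    exact Ideal.mul_mem_left _ _ (hq' hn)
  have := q.isPrime.mem_of_pow_mem _ hmem
  exact (PrimeSpectrum.mem_basicOpen _ _).1 hq this

end Groth.Agent.S18392
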