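import Groth.Statements.S18393
import Mathlib.Tactic
-- import your own Groth.Agent.* helpers here

set_option autoImplicit false
universe u v
open LVCorr

namespace Groth.Agent.S18393

/-- Stated for the underlying continuous maps. Let c₁, c₂ : C → X be continuous maps with C a Noetherian
topological space, let Z be a closed subset of X and B the closure in C of c₂⁻¹(Z) ∖ c₁⁻¹(Z). Call Z
locally invariant when every point x of Z has an open neighbourhood U such that every y in C with
c₂(y) ∈ Z ∩ U and c₁(y) ∈ U satisfies c₁(y) ∈ Z. Then Z is locally invariant if and only if for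
every irreducible subset T of B the closures of c₁(T) and of c₂(T) in X are disjoint. (The source
states this for a correspondence c = (c₁, c₂) : C → X × X of separated schemes of finite type over
an algebraically closed field and for the irreducible components of B; the condition for all
irreducible subsets of B is the same condition.) -/
theorem result {C : Type u} {X : Type v}
    [TopologicalSpace C] [TopologicalSpace X] [TopologicalSpace.NoetherianSpace C]
    (c₁ c₂ : C → X) (hc₁ : Continuous c₁) (hc₂ : Continuous c₂) (Z : Set X) (hZ : IsClosed Z) :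
    (∀ x ∈ Z, ∃ U : Set X, IsOpen U ∧ x ∈ U ∧
        ∀ y : C, c₂ y ∈ Z → c₂ y ∈ U → c₁ y ∈ U → c₁ y ∈ Z) ↔
      ∀ T : Set C, T ⊆ closure (c₂ ⁻¹' Z \ c₁ ⁻¹' Z) → IsIrreducible T →
        closure (c₁ '' T) ∩ closure (c₂ '' T) = ∅ := by
  classical
  constructor
  · intro hloc T hTB hT
    rw [Set.eq_empty_iff_forall_notMem]
    rintro p ⟨hp1, hp2⟩
    -- the closure of W lies in c₂⁻¹ Z
    have hBZ : closure (c₂ ⁻¹' Z \ c₁ ⁻¹' Z) ⊆ c₂ ⁻¹' Z :=
      closure_minimal Set.sdiff_subset (hZ.preimage hc₂)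
    have hpZ : p ∈ Z := by
      have : closure (c₂ '' T) ⊆ Z := by
        apply closure_minimal _ hZ
        rintro _ ⟨t, ht, rfl⟩
        exact hBZ (hTB ht)
      exact this hp2
    obtain ⟨U, hUo, hpU, hU⟩ := hloc p hpZ
    -- U meets both images
    obtain ⟨_, hu1, t1, ht1, rfl⟩ := mem_closure_iff.1 hp1 U hUo hpU
    obtain ⟨_, hu2, t2, ht2, rfl⟩ := mem_closure_iff.1 hp2 U hUo hpU
    obtain ⟨t, htT, ht1U, ht2U⟩ := hT.2 (c₁ ⁻¹' U) (c₂ ⁻¹' U) (hUo.preimage hc₁) (hUo.preimage hc₂)
      ⟨t1, ht1, hu1⟩ ⟨t2, ht2, hu2⟩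
    -- t in closure of W, and the open c₁⁻¹U ∩ c₂⁻¹U contains t
    obtain ⟨y, ⟨hy1, hy2⟩, hyW⟩ := mem_closure_iff.1 (hTB htT) (c₁ ⁻¹' U ∩ c₂ ⁻¹' U)
      ((hUo.preimage hc₁).inter (hUo.preimage hc₂)) ⟨ht1U, ht2U⟩
    exact hyW.2 (hU y hyW.1 hy2 hy1)
  · intro hirr x hx
    obtain ⟨S, hSf, hSc, hSi, hSU⟩ :=
      TopologicalSpace.NoetherianSpace.exists_finite_set_isClosed_irreducible
        (isClosed_closure : IsClosed (closure (c₂ ⁻¹' Z \ c₁ ⁻¹' Z)))
    have hsub : ∀ T ∈ S, T ⊆ closure (c₂ ⁻¹' Z \ c₁ ⁻¹' Z) := by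
      intro T hT
      rw [hSU]
      exact Set.subset_sUnion_of_mem hT
    let Uof : Set C → Set X := fun T =>
      if x ∈ closure (c₁ '' T) then (closure (c₂ '' T))ᶜ else (closure (c₁ '' T))ᶜ
    refine ⟨⋂ T ∈ S, Uof T, ?_, ?_, ?_⟩
    · apply hSf.isOpen_biInter
      intro T _
      simp only [Uof]
      split_ifs
      · exact isClosed_closure.isOpen_compl
      · exact isClosed_closure.isOpen_compl
    · simp only [Set.mem_iInter]
      intro T hT
      simp only [Uof]
      split_ifs with h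
      · intro h2
        have := hirr T (hsub T hT) (hSi T hT)
        rw [Set.eq_empty_iff_forall_notMem] at this
        exact this x ⟨h, h2⟩
      · exact h
    · intro y hyZ hy2 hy1
      by_contra hcon
      have hyW : y ∈ closure (c₂ ⁻¹' Z \ c₁ ⁻¹' Z) := subset_closure ⟨hyZ, hcon⟩
      rw [hSU] at hyW
      obtain ⟨T, hTS, hyT⟩ := hyW
      simp only [Set.mem_iInter] at hy1 hy2
      have h1 := hy1 T hTS
      have h2 := hy2 T hTS
      simp only [Uof] at h1 h2
      split_ifs at h1 h2 with h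
      · exact h2 (subset_closure ⟨y, hyT, rfl⟩)
      · exact h1 (subset_closure ⟨y, hyT, rfl⟩)

end Groth.Agent.S18393
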