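import Groth.Statements.S18399
import Mathlib

set_option autoImplicit false
universe u
open CAlg

namespace Groth.Agent.S18399

open IsLocalRing

section
variable {k : Type u} [Field k] {A : Type u} [CommRing A] [Algebra k A]

/-- the `k`-linear map `a ↦ a - σ a`. -/
noncomputable def D (σ : A →ₐ[k] A) : A →ₗ[k] A := LinearMap.id - σ.toLinearMap

lemma D_apply (σ : A →ₐ[k] A) (a : A) : D σ a = a - σ a := rfl

lemma D_mul (σ : A →ₐ[k] A) (a b : A) : D σ (a * b) = D σ a * b + σ a * D σ b := by
  simp only [D_apply, map_mul]; ring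

/-- the averaging-type operator -/
noncomputable def T (σ : A →ₐ[k] A) (n : ℕ) : A →ₗ[k] A :=
  (n : k)⁻¹ • ∑ j ∈ Finset.range n, ∑ i ∈ Finset.range j, (σ ^ i).toLinearMap

lemma sum_pow_D (σ : A →ₐ[k] A) (j : ℕ) (x : A) :
    ∑ i ∈ Finset.range j, D σ ((σ ^ i) x) = x - (σ ^ j) x := by
  induction j with
  | zero => simp
  | succ j ih =>
    rw [Finset.sum_range_succ, ih, D_apply, pow_succ', AlgHom.mul_apply]
    ring

lemma D_T (σ : A →ₐ[k] A) (n : ℕ) (hn : (n : k) ≠ 0) (x : A) :
    D σ (T σ n x) = x - (n : k)⁻¹ • ∑ j ∈ Finset.range n, (σ ^ j) x := by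
  have h1 : T σ n x = (n : k)⁻¹ • ∑ j ∈ Finset.range n, ∑ i ∈ Finset.range j, (σ ^ i) x := by
    simp [T, LinearMap.sum_apply]
  rw [h1, map_smul, map_sum]
  have h2 : ∀ j ∈ Finset.range n, D σ (∑ i ∈ Finset.range j, (σ ^ i) x) = x - (σ ^ j) x := by
    intro j _
    rw [map_sum, sum_pow_D]
  rw [Finset.sum_congr rfl h2, Finset.sum_sub_distrib, smul_sub, Finset.sum_const, Finset.card_range,
    ← Nat.cast_smul_eq_nsmul k, smul_smul, inv_mul_cancel₀ hn, one_smul]

lemma D_T_D (σ : A →ₐ[k] A) (n : ℕ) (hσ : ∀ a : A, (σ ^ n) a = a) (hn : (n : k) ≠ 0) (a : A) :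
    D σ (T σ n (D σ a)) = D σ a := by
  rw [D_T σ n hn]
  have : ∑ j ∈ Finset.range n, (σ ^ j) (D σ a) = 0 := by
    have h := sum_pow_D σ n a
    rw [hσ, sub_self] at h
    rw [← h]
    refine Finset.sum_congr rfl fun j _ => ?_
    simp only [D_apply, map_sub]
    rw [← AlgHom.mul_apply, ← AlgHom.mul_apply, ← pow_succ, ← pow_succ']
  rw [this, smul_zero, sub_zero]

lemma T_mem (σ : A →ₐ[k] A) (n : ℕ) (K : Ideal A) (hK : ∀ x ∈ K, σ x ∈ K) {x : A} (hx : x ∈ K) :
    T σ n x ∈ K := by
  have hpow : ∀ i : ℕ, (σ ^ i) x ∈ K := by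
    intro i
    induction i with
    | zero => simpa using hx
    | succ i ih => rw [pow_succ', AlgHom.mul_apply]; exact hK _ ih
  have h1 : T σ n x = (n : k)⁻¹ • ∑ j ∈ Finset.range n, ∑ i ∈ Finset.range j, (σ ^ i) x := by
    simp [T, LinearMap.sum_apply]
  rw [h1, Algebra.smul_def]
  exact K.mul_mem_left _ (K.sum_mem fun j _ => K.sum_mem fun i _ => hpow i)

variable [IsLocalRing A]

lemma sigma_mem (σ : A →ₐ[k] A) (n : ℕ) (hσ : ∀ a : A, (σ ^ n) a = a) (hn : n ≠ 0) {a : A}
    (ha : a ∈ maximalIdeal A) : σ a ∈ maximalIdeal A := by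
  rw [mem_maximalIdeal, mem_nonunits_iff] at ha ⊢
  intro hu
  apply ha
  have h1 : a = (σ ^ (n - 1)) (σ a) := by
    rw [← AlgHom.mul_apply, ← pow_succ, Nat.sub_add_cancel (Nat.one_le_iff_ne_zero.2 hn), hσ]
  rw [h1]
  exact hu.map _

lemma sigma_sq_mem (σ : A →ₐ[k] A) (n : ℕ) (hσ : ∀ a : A, (σ ^ n) a = a) (hn : n ≠ 0) {x : A}
    (hx : x ∈ maximalIdeal A ^ 2) : σ x ∈ maximalIdeal A ^ 2 := by
  rw [pow_two] at hx ⊢
  refine Submodule.mul_induction_on hx ?_ ?_
  · intro a ha b hb
    rw [map_mul]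
    exact Ideal.mul_mem_mul (sigma_mem σ n hσ hn ha) (sigma_mem σ n hσ hn hb)
  · intro a b ha hb
    rw [map_add]; exact Ideal.add_mem _ ha hb

/-- Leibniz: if `D A ⊆ K` then `D (m²) ⊆ m * K`. -/
lemma D_sq_mem (σ : A →ₐ[k] A) (n : ℕ) (hσ : ∀ a : A, (σ ^ n) a = a) (hn : n ≠ 0) (K : Ideal A)
    (hK : ∀ a, D σ a ∈ K) {x : A} (hx : x ∈ maximalIdeal A ^ 2) :
    D σ x ∈ maximalIdeal A * K := by
  rw [pow_two] at hx
  refine Submodule.mul_induction_on hx ?_ ?_
  · intro a ha b hb
    rw [D_mul]
    refine Ideal.add_mem _ ?_ ?_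
    · rw [mul_comm (D σ a) b]; exact Ideal.mul_mem_mul hb (hK a)
    · exact Ideal.mul_mem_mul (sigma_mem σ n hσ hn ha) (hK b)
  · intro a b ha hb
    rw [map_add]; exact Ideal.add_mem _ ha hb

end

/-- Let k be a field and A a regular local k-algebra with residue field k (the structure map from k onto
the residue field of A is surjective), let σ be a k-algebra endomorphism of A of finite order n with
n invertible in k, and let I_σ be the ideal of A generated by the elements f - σ f. Then I_σ is
generated by finitely many elements of the maximal ideal whose classes in the cotangent space m/m^2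
are linearly independent over the residue field. (Such elements are part of a regular system of
parameters of A, hence part of a regular sequence, which is the printed conclusion; the generators
with independent classes are what the argument produces.) -/
theorem result {k : Type u} [Field k] {A : Type u} [CommRing A] [Algebra k A] [IsRegularLocalRing A] (hres : Function.Surjective ⇑(algebraMap k (IsLocalRing.ResidueField A))) (σ : A →ₐ[k] A) (n : ℕ) (hσ : ∀ a : A, (⇑σ)^[n] a = a) (hn : (n : k) ≠ 0) : ∃ (m : ℕ) (f : Fin m → ↥(IsLocalRing.maximalIdeal A)), Ideal.span (Set.range fun i : Fin m => (f i : A)) = Ideal.span (Set.range fun a : A => a - σ a) ∧ LinearIndependent (IsLocalRing.ResidueField A) (fun i : Fin m => (IsLocalRing.maximalIdeal A).toCotangent (f i)) := by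
  classical
  have hn0 : n ≠ 0 := by rintro rfl; simp at hn
  have hσ' : ∀ a : A, (σ ^ n) a = a := by intro a; rw [AlgHom.coe_pow]; exact hσ a
  -- `D a ∈ m`
  have hDm : ∀ a, D σ a ∈ maximalIdeal A := by
    intro a
    obtain ⟨c, hc⟩ := hres (residue A a)
    have h1 : a - algebraMap k A c ∈ maximalIdeal A := by
      rw [← Ideal.Quotient.eq_zero_iff_mem, map_sub, sub_eq_zero]
      rw [IsScalarTower.algebraMap_apply k A (ResidueField A)] at hc
      exact hc.symm
    have h2 : D σ a = D σ (a - algebraMap k A c) := by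
      simp [D_apply]
    rw [h2, D_apply]
    exact (maximalIdeal A).sub_mem h1 (sigma_mem σ n hσ' hn0 h1)
  let S : Set (CotangentSpace A) :=
    Set.range fun a : A => (maximalIdeal A).toCotangent ⟨D σ a, hDm a⟩
  obtain ⟨b, hbS, hspan, hli⟩ := exists_linearIndependent (ResidueField A) S
  have hbfin : b.Finite := hli.set_finite_of_isNoetherian
  have : Fintype b := hbfin.fintype
  let e : b ≃ Fin (Fintype.card b) := Fintype.equivFin b
  let v : Fin (Fintype.card b) → CotangentSpace A := fun i => ((e.symm i : b) : CotangentSpace A)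
  have hvli : LinearIndependent (ResidueField A) v := hli.comp e.symm e.symm.injective
  have hvS : ∀ i, ∃ g : A, (maximalIdeal A).toCotangent ⟨D σ g, hDm g⟩ = v i := by
    intro i
    exact hbS (e.symm i).2
  choose g hg using hvS
  have hrange : Set.range v = b := by
    ext x
    constructor
    · rintro ⟨i, rfl⟩; exact (e.symm i).2
    · intro hx; exact ⟨e ⟨x, hx⟩, by simp [v]⟩
  let f : Fin (Fintype.card b) → ↥(maximalIdeal A) := fun i => ⟨D σ (g i), hDm (g i)⟩
  have hfv : (fun i => (maximalIdeal A).toCotangent (f i)) = v := funext hg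
  set J : Ideal A := Ideal.span (Set.range fun i => (f i : A)) with hJ
  -- decomposition
  have hdec : ∀ a : A, ∃ c : Fin (Fintype.card b) → k,
      D σ a - ∑ i, algebraMap k A (c i) * D σ (g i) ∈ maximalIdeal A ^ 2 := by
    intro a
    have hmem : (maximalIdeal A).toCotangent ⟨D σ a, hDm a⟩ ∈
        Submodule.span (ResidueField A) (Set.range v) := by
      rw [hrange, hspan]
      exact Submodule.subset_span ⟨a, rfl⟩
    obtain ⟨cb, hcb⟩ := (Submodule.mem_span_range_iff_exists_fun _).1 hmem
    have hlift : ∀ i, ∃ c : k, algebraMap k (ResidueField A) c = cb i := fun i => hres (cb i)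
    choose c hc using hlift
    refine ⟨c, ?_⟩
    have h3 : (maximalIdeal A).toCotangent (∑ i, algebraMap k A (c i) • f i) =
        (maximalIdeal A).toCotangent ⟨D σ a, hDm a⟩ := by
      rw [← hcb, map_sum]
      refine Finset.sum_congr rfl fun i _ => ?_
      rw [map_smul, ← hc i, IsScalarTower.algebraMap_apply k A (ResidueField A),
        algebraMap_smul (ResidueField A)]
      exact congrArg _ (hg i)
    have h4 := (Ideal.toCotangent_eq _).1 h3.symm
    have h5 : ((∑ i, algebraMap k A (c i) • f i : ↥(maximalIdeal A)) : A) =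
        ∑ i, algebraMap k A (c i) * D σ (g i) := by
      rw [AddSubmonoidClass.coe_finsetSum]
      rfl
    rw [← h5]
    exact h4
  -- main induction
  have hind : ∀ i : ℕ, ∀ a : A, D σ a ∈ J ⊔ maximalIdeal A ^ i := by
    intro i
    induction i with
    | zero => intro a; simp
    | succ i ih =>
      intro a
      obtain ⟨c, hc⟩ := hdec a
      set bb := D σ a - ∑ i, algebraMap k A (c i) * D σ (g i) with hbb
      have hb1 : bb = D σ (a - ∑ i, c i • g i) := by
        rw [hbb, map_sub, map_sum]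
        congr 1
        refine Finset.sum_congr rfl fun i _ => ?_
        rw [map_smul, Algebra.smul_def]
      have hb2 : bb = D σ (T σ n bb) := by
        rw [hb1, D_T_D σ n hσ' hn]
      have hTb : T σ n bb ∈ maximalIdeal A ^ 2 :=
        T_mem σ n _ (fun x hx => sigma_sq_mem σ n hσ' hn0 hx) hc
      have h5 := D_sq_mem σ n hσ' hn0 _ ih hTb
      rw [← hb2] at h5
      have h6 : maximalIdeal A * (J ⊔ maximalIdeal A ^ i) ≤ J ⊔ maximalIdeal A ^ (i + 1) := by
        rw [Ideal.mul_sup]
        refine sup_le_sup Ideal.mul_le_right (le_of_eq ?_)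
        rw [pow_succ']
      have h7 : D σ a = bb + ∑ i, algebraMap k A (c i) * D σ (g i) := by rw [hbb]; ring
      rw [h7]
      refine Ideal.add_mem _ (h6 h5) (Ideal.mem_sup_left ?_)
      refine J.sum_mem fun i _ => J.mul_mem_left _ (Ideal.subset_span ⟨i, rfl⟩)
  -- Krull
  have hkrull : ∀ a : A, D σ a ∈ J := by
    intro a
    have hne : maximalIdeal A ≠ ⊤ := Ideal.IsPrime.ne_top'
    have h8 := Ideal.iInf_pow_smul_eq_bot_of_isLocalRing (R := A) (M := A ⧸ J) (maximalIdeal A) hne
    have h9 : Ideal.Quotient.mk J (D σ a) ∈ (⨅ i : ℕ, maximalIdeal A ^ i • ⊤ : Submodule A (A ⧸ J)) := by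
      rw [Submodule.mem_iInf]
      intro i
      obtain ⟨j, hj, y, hy, hjy⟩ := Submodule.mem_sup.1 (hind i a)
      have h10 : Ideal.Quotient.mk J (D σ a) = y • (Ideal.Quotient.mk J 1) := by
        rw [← hjy, map_add, Ideal.Quotient.eq_zero_iff_mem.2 hj, zero_add, Algebra.smul_def, map_one,
          mul_one]
        rfl
      rw [h10]
      exact Submodule.smul_mem_smul hy Submodule.mem_top
    rw [h8, Submodule.mem_bot] at h9
    exact Ideal.Quotient.eq_zero_iff_mem.1 h9
  refine ⟨Fintype.card b, f, ?_, ?_⟩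
  · apply le_antisymm
    · rw [Ideal.span_le]
      rintro _ ⟨i, rfl⟩
      exact Ideal.subset_span ⟨g i, rfl⟩
    · rw [Ideal.span_le]
      rintro _ ⟨a, rfl⟩
      exact hkrull a
  · rw [hfv]; exact hvli

end Groth.Agent.S18399
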