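import Groth.Statements.S1840
import Groth.Agent.Lib.Helper64.CycDetB

set_option autoImplicit false
universe u v
open CycDet

namespace Groth.Agent.S1840

open IsLocalRing in
theorem aux (R : Type u) [CommRing R] [IsLocalRing R] (M : Type v) [AddCommGroup M] [Module R M]
    [Module (ResidueField R) M] [IsScalarTower R (ResidueField R) M]
    [Module.Finite (ResidueField R) M] (l : ℕ) (hl : l = Module.finrank (ResidueField R) M)
    (hrank : Module.rank (ResidueField R) (DetOfLen R M l) ≤ 1) :
    ∃ Φ : DetOfLen R M l ≃ₗ[ResidueField R] (⋀[ResidueField R]^l M),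
      ∀ e : Adm R M l, Φ (Submodule.Quotient.mk (sym R M e))
        = exteriorPower.ιMulti (ResidueField R) l e.1 := by
  have hsm : ∀ (r : R) (m : M), r • m = residue R r • m := by
    intro r m
    rw [← IsLocalRing.ResidueField.algebraMap_eq, algebraMap_smul]
  have hmax : ∀ r ∈ maximalIdeal R, ∀ m : M, r • m = 0 := by
    intro r hr m
    rw [hsm, (residue_eq_zero_iff r).mpr hr, zero_smul]
  have hadm : ∀ v : Fin l → M, IsAdmissible R M v := by
    intro v i r hr
    rw [hmax r hr]
    exact Submodule.zero_mem _
  have hwz : ∀ (v : Fin l → M) (a : Fin l),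
      v a ∈ Submodule.span R (v '' {j : Fin l | (j : ℕ) < (a : ℕ)}) →
      exteriorPower.ιMulti (ResidueField R) l v = 0 := by
    intro v a h
    apply AlternatingMap.map_linearDependent
    intro hLI
    have hna : a ∉ {j : Fin l | (j : ℕ) < (a : ℕ)} := by simp
    exact hLI.notMem_span_image hna (Submodule.span_le_restrictScalars R (ResidueField R) _ h)
  let F0 : Free R M l →ₗ[ResidueField R] (⋀[ResidueField R]^l M) :=
    Finsupp.linearCombination (ResidueField R)
      (fun e : Adm R M l => exteriorPower.ιMulti (ResidueField R) l e.1)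
  have hF0 : ∀ e, F0 (sym R M e) = exteriorPower.ιMulti (ResidueField R) l e.1 := by
    intro e
    show Finsupp.linearCombination _ _ (Finsupp.single e 1) = _
    rw [Finsupp.linearCombination_single, one_smul]
  have hk : Submodule.span (ResidueField R) (relSet R M l) ≤ LinearMap.ker F0 := by
    rw [Submodule.span_le]
    rintro x ((⟨e, a, h, rfl⟩ | ⟨e, e', a, c, hne, h, rfl⟩) | ⟨e, e', a, b, hab, hm, hsw, rfl⟩)
    · rw [SetLike.mem_coe, LinearMap.mem_ker, hF0]
      exact hwz e.1 a h
    · rw [SetLike.mem_coe, LinearMap.mem_ker, map_sub, map_smul, hF0, hF0, sub_eq_zero]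
      have he : e.1 = Function.update e'.1 a ((c : R) • e'.1 a + (e.1 a - (c : R) • e'.1 a)) := by
        funext j
        by_cases hj : j = a
        · rw [hj, Function.update_self]; abel
        · rw [Function.update_of_ne hj, hne j hj]
      have h0 : exteriorPower.ιMulti (ResidueField R) l
          (Function.update e'.1 a (e.1 a - (c : R) • e'.1 a)) = 0 := by
        apply hwz _ a
        rw [Function.update_self]
        have himg : Function.update e'.1 a (e.1 a - (c : R) • e'.1 a) ''
            {j : Fin l | (j : ℕ) < (a : ℕ)} = e.1 '' {j : Fin l | (j : ℕ) < (a : ℕ)} := by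
          apply Set.image_congr
          intro j hj
          have hja : j ≠ a := fun h => by
            rw [h] at hj
            exact lt_irrefl (a : ℕ) hj
          rw [Function.update_of_ne hja, hne j hja]
        rw [himg]
        exact h
      have h1 : exteriorPower.ιMulti (ResidueField R) l
          (Function.update e'.1 a ((c : R) • e'.1 a))
          = residue R (c : R) • exteriorPower.ιMulti (ResidueField R) l e'.1 := by
        rw [hsm, AlternatingMap.map_update_smul, Function.update_eq_self]
      calc exteriorPower.ιMulti (ResidueField R) l e.1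
          = exteriorPower.ιMulti (ResidueField R) l
              (Function.update e'.1 a ((c : R) • e'.1 a + (e.1 a - (c : R) • e'.1 a))) :=
            congrArg _ he
        _ = _ := by rw [AlternatingMap.map_update_add, h0, add_zero, h1]
    · rw [SetLike.mem_coe, LinearMap.mem_ker, map_add, hF0, hF0, hsw]
      have hne : a ≠ b := by
        intro h
        rw [h] at hab
        omega
      rw [AlternatingMap.map_swap _ _ hne, add_neg_cancel]
  let Φ0 : DetOfLen R M l →ₗ[ResidueField R] (⋀[ResidueField R]^l M) :=
    Submodule.liftQ _ F0 hk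
  have hΦ0 : ∀ e, Φ0 (Submodule.Quotient.mk (sym R M e))
      = exteriorPower.ιMulti (ResidueField R) l e.1 := fun e => by
    show Submodule.liftQ _ F0 hk (Submodule.Quotient.mk _) = _
    rw [Submodule.liftQ_apply, hF0]
  have hsurj : Function.Surjective Φ0 := by
    rw [← LinearMap.range_eq_top, eq_top_iff, ← exteriorPower.ιMulti_span (ResidueField R) l M,
      Submodule.span_le]
    rintro _ ⟨v, rfl⟩
    exact ⟨Submodule.Quotient.mk (sym R M ⟨v, hadm v⟩), hΦ0 _⟩
  have hfr : Module.finrank (ResidueField R) (⋀[ResidueField R]^l M) = 1 := by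
    rw [exteriorPower.finrank_eq, ← hl, Nat.choose_self]
  have hinj : Function.Injective Φ0 := by
    obtain ⟨v₀, hv₀⟩ := rank_le_one_iff.mp hrank
    rw [injective_iff_map_eq_zero]
    intro v hv
    obtain ⟨r, rfl⟩ := hv₀ v
    rw [map_smul] at hv
    rcases smul_eq_zero.mp hv with hr | hv0
    · rw [hr, zero_smul]
    · exfalso
      have hall : ∀ y : ⋀[ResidueField R]^l M, y = 0 := by
        intro y
        obtain ⟨v, rfl⟩ := hsurj y
        obtain ⟨r, rfl⟩ := hv₀ v
        rw [map_smul, hv0, smul_zero]
      haveI : Subsingleton (⋀[ResidueField R]^l M) := ⟨fun a b => by rw [hall a, hall b]⟩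
      rw [Module.finrank_zero_of_subsingleton] at hfr
      exact zero_ne_one hfr
  exact ⟨LinearEquiv.ofBijective Φ0 ⟨hinj, hsurj⟩, fun e => by
    rw [LinearEquiv.ofBijective_apply]; exact hΦ0 e⟩

/-- Let M be a finite-dimensional vector space over the residue field κ of a local ring R, viewed as an
R-module. There is a κ-linear isomorphism from det_κ(M) to the top exterior power of M sending the
symbol of an admissible tuple (e₁, …, e_l) to e₁ ∧ … ∧ e_l. -/
theorem result (R : Type u) [CommRing R] [IsLocalRing R] (M : Type v) [AddCommGroup M] [Module R M] [Module (IsLocalRing.ResidueField R) M] [IsScalarTower R (IsLocalRing.ResidueField R) M] [Module.Finite (IsLocalRing.ResidueField R) M] : ∃ Φ : CycDet.Det R M ≃ₗ[IsLocalRing.ResidueField R] (⋀[IsLocalRing.ResidueField R]^((Module.length R M).toNat) M), ∀ e : CycDet.Adm R M (Module.length R M).toNat, Φ (CycDet.symbol R M e) = exteriorPower.ιMulti (IsLocalRing.ResidueField R) ((Module.length R M).toNat) e.1 := by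
  have hsurjκ : Function.Surjective (algebraMap R (IsLocalRing.ResidueField R)) :=
    IsLocalRing.residue_surjective
  have hlen : Module.length R M = (Module.finrank (IsLocalRing.ResidueField R) M : ℕ∞) := by
    rw [Module.length_eq_of_surjective (S := R) (R := IsLocalRing.ResidueField R) hsurjκ,
      Module.length_eq_finrank]
  have hne : Module.length R M ≠ ⊤ := by rw [hlen]; exact ENat.coe_ne_top _
  have hl : (Module.length R M).toNat = Module.finrank (IsLocalRing.ResidueField R) M := by
    rw [hlen]; exact ENat.toNat_coe _
  have hrank := Groth.Agent.Lib.Helper64.CycDetB.rank_le_one (R := R) (Module.length R M).toNat M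
    (ENat.coe_toNat hne).symm
  exact aux R M _ hl hrank

end Groth.Agent.S1840
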