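import Groth.Statements.S18402
import Mathlib.AlgebraicGeometry.Morphisms.QuasiFinite

set_option autoImplicit false
universe u
open Pi1

namespace Groth.Agent.S18402

open AlgebraicGeometry CategoryTheory CategoryTheory.Limits in
/-- Let X be an irreducible scheme and π : W ⟶ X a flat morphism whose fibre over every field-valued
point of X is irreducible (so every fibre is geometrically irreducible and π is surjective). Then
for every finite étale cover Z of X with Z connected, the base change of Z along π is connected.
Ranging over all finite étale covers of X, this says that the monodromy group of each cover (the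
image of the fundamental group in the permutations of a geometric fibre) is unchanged by pullback
along π. The published statement asserts that equality of monodromy groups, for generically finite,
generically étale covers between irreducible algebraic stacks. -/
theorem result {X W : Scheme.{u}}
    [IrreducibleSpace X] (π : W ⟶ X) [Flat π] [GeometricallyIrreducible π]
    (Z : FEt.Cat X) [ConnectedSpace Z.left] :
    ConnectedSpace ↥(pullback Z.hom π) := by
  -- notation
  let p : Z.left ⟶ X := Z.hom
  have hfin : IsFinite p := Z.prop.1
  have het : Etale p := Z.prop.2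
  let q : pullback Z.hom π ⟶ Z.left := pullback.fst Z.hom π
  have : Flat q := inferInstanceAs (Flat (pullback.fst Z.hom π))
  have : GeometricallyIrreducible q :=
    inferInstanceAs (GeometricallyIrreducible (pullback.fst Z.hom π))
  have hqsurj : Function.Surjective q := q.surjective
  have hqgen : GeneralizingMap q := Flat.generalizingMap q
  have hpgen : GeneralizingMap p := Flat.generalizingMap p
  -- fibres of q are preconnected
  have hfib : ∀ z : Z.left, _root_.IsPreconnected (q ⁻¹' {z}) := by
    intro z
    rw [← q.range_fiberι z, ← Set.image_univ]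
    exact ((IrreducibleSpace.isIrreducible_univ (q.fiber z)).image _
      (q.fiberι z).continuous.continuousOn).isPreirreducible.isPreconnected
  -- clopen sets are saturated
  have hsat : ∀ T : Set ↥(pullback Z.hom π), IsClopen T → ∀ a b, q a = q b → a ∈ T → b ∈ T := by
    intro T hT a b hab ha
    have hsub : q ⁻¹' {q a} ⊆ T :=
      (hfib (q a)).subset_isClopen hT ⟨a, rfl, ha⟩
    exact hsub (show q b ∈ ({q a} : Set _) from hab.symm ▸ rfl)
  -- images of clopen sets are stable under generization
  have hgenS : ∀ T : Set ↥(pullback Z.hom π), IsClopen T →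
      ∀ z z' : Z.left, z' ⤳ z → z ∈ q '' T → z' ∈ q '' T := by
    intro T hT z z' hzz' hz
    obtain ⟨a, ha, rfl⟩ := hz
    obtain ⟨a', ha', rfl⟩ := hqgen hzz'
    exact ⟨a', ha'.mem_open hT.isOpen ha, rfl⟩
  -- complement of the image is image of the complement
  have hcompl : ∀ T : Set ↥(pullback Z.hom π), IsClopen T → (q '' T)ᶜ = q '' Tᶜ := by
    intro T hT
    ext z
    constructor
    · intro hz
      obtain ⟨a, rfl⟩ := hqsurj z
      exact ⟨a, fun ha => hz ⟨a, ha, rfl⟩, rfl⟩
    · rintro ⟨a, ha, rfl⟩ ⟨b, hb, hab⟩
      exact ha (hsat T hT b a hab hb)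
  -- the generic fibre
  let η : X := genericPoint X
  have hF : (p ⁻¹' {η}).Finite := p.finite_preimage_singleton η
  have hexists : ∀ z : Z.left, ∃ z' ∈ p ⁻¹' {η}, z' ⤳ z := by
    intro z
    obtain ⟨z', hz', hpz'⟩ := hpgen (genericPoint_specializes (p z))
    exact ⟨z', hpz', hz'⟩
  -- images of clopen sets are closed
  have hclosed : ∀ T : Set ↥(pullback Z.hom π), IsClopen T → IsClosed (q '' T) := by
    intro T hT
    have hEq : q '' T = ⋃ z' ∈ (p ⁻¹' {η}) ∩ (q '' T), closure {z'} := by
      ext z
      simp only [Set.mem_iUnion, exists_prop]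
      constructor
      · intro hz
        obtain ⟨z', hz'F, hz'z⟩ := hexists z
        exact ⟨z', ⟨hz'F, hgenS T hT z z' hz'z hz⟩, specializes_iff_mem_closure.mp hz'z⟩
      · rintro ⟨z', ⟨_, hz'S⟩, hz⟩
        have hspec : z' ⤳ z := specializes_iff_mem_closure.mpr hz
        by_contra hzS
        have hzc : z ∈ q '' Tᶜ := by rw [← hcompl T hT]; exact hzS
        have := hgenS Tᶜ hT.compl z z' hspec hzc
        rw [← hcompl T hT] at this
        exact this hz'S
    rw [hEq]
    exact (hF.subset Set.inter_subset_left).isClosed_biUnion fun _ _ => isClosed_closure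
  -- conclusion
  have : Nonempty ↥(pullback Z.hom π) := by
    obtain ⟨z⟩ := (inferInstance : Nonempty Z.left)
    obtain ⟨a, _⟩ := hqsurj z
    exact ⟨a⟩
  have : PreconnectedSpace ↥(pullback Z.hom π) := by
    rw [preconnectedSpace_iff_clopen]
    intro T hT
    have hSclopen : IsClopen (q '' T) := by
      refine ⟨hclosed T hT, ?_⟩
      rw [← isClosed_compl_iff, hcompl T hT]
      exact hclosed Tᶜ hT.compl
    rcases isClopen_iff.mp hSclopen with h | h
    · left
      exact Set.image_eq_empty.mp h
    · right
      have h2 : q '' Tᶜ = ∅ := by rw [← hcompl T hT, h, Set.compl_univ]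
      have h3 : Tᶜ = ∅ := Set.image_eq_empty.mp h2
      exact Set.compl_empty_iff.mp h3
  exact { toNonempty := ‹_› }

end Groth.Agent.S18402
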