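import Groth.Statements.S18412
-- import your own Groth.Agent.* helpers here
import Groth.Agent.Lib.Helper72.CubicHesseD

set_option autoImplicit false
universe u
open Cubic

namespace Groth.Agent.S18412

open MvPolynomial in
/-- For all k ∈ ℂ outside a finite set, the Hesse cubic h_k = X₀³ + X₁³ + X₂³ − 3k·X₀X₁X₂ has exactly 18
projective automorphisms; spelled without quotients as: the matrices A of determinant 1 whose
substitution X_i ↦ Σ_j A_ij X_j carries h_k to a constant multiple of h_k are exactly 54 in number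
(every projective class has three lifts of determinant one, so 54 = 3 · 18). As every smooth plane
cubic over ℂ is projectively equivalent to some h_k, this is the statement that the general smooth
plane cubic has a projective automorphism group of order 18. -/
theorem result :
    ∃ T : Finset ℂ, ∀ k : ℂ, k ∉ T →
      Nat.card {A : Matrix (Fin 3) (Fin 3) ℂ // A.det = 1 ∧
        ∃ c : ℂ, aeval (fun i : Fin 3 => ∑ j : Fin 3, C (A i j) * X j) (HesseCubic.form k) =
          C c * HesseCubic.form k} = 54 := by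
  classical
  obtain ⟨ω, hω⟩ := Groth.Agent.Lib.Helper72.CubicForm.exists_omega (K := ℂ)
  have hω3 := Groth.Agent.Lib.Helper72.CubicForm.omega_cube hω
  obtain ⟨p, hpdef⟩ : ∃ p : Polynomial ℂ, p = Polynomial.X * (Polynomial.X ^ 3 - 1) *
      (Polynomial.X ^ 3 + 8) * (Polynomial.X ^ 6 - 20 * Polynomial.X ^ 3 - 8) := ⟨_, rfl⟩
  have hp : p ≠ 0 := by
    intro h
    have := congrArg (Polynomial.eval 2) h
    rw [hpdef] at this
    simp at this
    norm_num at this
  refine ⟨p.roots.toFinset, fun k hk => ?_⟩
  have hpk : p.eval k ≠ 0 := by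
    intro h
    exact hk (Multiset.mem_toFinset.2 ((Polynomial.mem_roots hp).2 h))
  rw [hpdef] at hpk
  simp only [Polynomial.eval_mul, Polynomial.eval_sub, Polynomial.eval_add, Polynomial.eval_pow,
    Polynomial.eval_X, Polynomial.eval_one, Polynomial.eval_ofNat] at hpk
  have hk0 : k ≠ 0 := by
    intro h
    apply hpk
    rw [h]
    ring
  have hk1 : k ^ 3 ≠ 1 := by
    intro h
    apply hpk
    rw [h]
    ring
  have hk8 : k ^ 3 + 8 ≠ 0 := by
    intro h
    apply hpk
    rw [h]
    ring
  have hk6 : k ^ 6 - 20 * k ^ 3 - 8 ≠ 0 := by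
    intro h
    apply hpk
    rw [h]
    ring
  have hset : ∀ A : Matrix (Fin 3) (Fin 3) ℂ,
      (A.det = 1 ∧ ∃ c : ℂ, aeval (fun i : Fin 3 => ∑ j : Fin 3, C (A i j) * X j)
        (HesseCubic.form k) = C c * HesseCubic.form k) ↔
      A ∈ Set.range (Groth.Agent.Lib.Helper72.CubicForm.hessePhi ω) := by
    intro A
    constructor
    · rintro ⟨hdet, c, hc⟩
      obtain ⟨q, hq⟩ := Groth.Agent.Lib.Helper72.CubicForm.hessePhi_surjective hω hk0 hk1 hk8 hk6
        A hdet (c := c) (fun x => by
          rw [← Groth.Agent.Lib.Helper72.CubicForm.eval_hesse,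
            ← Groth.Agent.Lib.Helper72.CubicForm.eval_hesse]
          exact Groth.Agent.Lib.Helper72.CubicForm.eval_of_subst_eq A _ c hc x)
      exact ⟨q, hq⟩
    · rintro ⟨q, rfl⟩
      refine ⟨Groth.Agent.Lib.Helper72.CubicForm.hessePhi_det hω3 q, (-1) ^ (q.2.2.2 : ℕ), ?_⟩
      apply Groth.Agent.Lib.Helper72.CubicForm.subst_eq_of_eval
      intro v
      rw [Groth.Agent.Lib.Helper72.CubicForm.eval_hesse,
        Groth.Agent.Lib.Helper72.CubicForm.eval_hesse]
      exact Groth.Agent.Lib.Helper72.CubicForm.hessePhi_aut hω3 k q v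
  rw [Nat.card_congr ((Equiv.subtypeEquivRight hset).trans
    (Equiv.ofInjective _ (Groth.Agent.Lib.Helper72.CubicForm.hessePhi_injective hω)).symm)]
  simp [Nat.card_eq_fintype_card]

end Groth.Agent.S18412
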