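import Mathlib
import Groth.Statements.S18415

set_option autoImplicit false
universe u
open CategoryTheory AlgebraicGeometry
open EtCoh

namespace Groth.Agent.S18415

open Opposite

section alg
open Polynomial
variable {R : Type u} [CommRing R] (p : ℕ) (a : R)

lemma as_degree_lt (hp : p.Prime) : (X + C a : R[X]).degree < p := by
  refine (degree_add_le _ _).trans_lt (max_lt ?_ ?_)
  · exact degree_X_le.trans_lt (by exact_mod_cast hp.one_lt)
  · exact degree_C_le.trans_lt (by exact_mod_cast hp.pos)

lemma as_monic (hp : p.Prime) : (X ^ p - X - C a : R[X]).Monic := by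
  rw [sub_sub]
  exact monic_X_pow_sub (as_degree_lt p a hp)

/-- The standard étale pair `(X^p - X - a, 1)` in characteristic `p`. -/
noncomputable def asPair (hp : p.Prime) (h0 : (p : R) = 0) : StandardEtalePair R where
  f := X ^ p - X - C a
  monic_f := as_monic p a hp
  g := 1
  cond := by
    refine ⟨-1, 0, 0, ?_⟩
    have : (C (p : R) : R[X]) = 0 := by rw [h0, C_0]
    simp only [derivative_sub, derivative_X_pow, derivative_X, derivative_C, sub_zero, mul_zero,
      add_zero, pow_zero]
    rw [this]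
    ring

lemma asPair_X (hp : p.Prime) (h0 : (p : R) = 0) :
    (asPair p a hp h0).X ^ p - (asPair p a hp h0).X = algebraMap R (asPair p a hp h0).Ring a := by
  have h := (asPair p a hp h0).hasMap_X.1
  have hf : (asPair p a hp h0).f = X ^ p - X - C a := rfl
  rw [hf, map_sub, map_sub, map_pow, aeval_X, aeval_C] at h
  exact sub_eq_zero.mp h

lemma asPair_exists_prime (hp : p.Prime) (h0 : (p : R) = 0) (P : Ideal R) [P.IsPrime] :
    ∃ q : Ideal (asPair p a hp h0).Ring, q.IsPrime ∧
      q.comap (algebraMap R (asPair p a hp h0).Ring) = P := by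
  let K := AlgebraicClosure P.ResidueField
  let f : K[X] := X ^ p - X - C (algebraMap R K a)
  have hdeg : f.degree ≠ 0 := by
    have : f.degree = p := by
      show (X ^ p - X - C (algebraMap R K a) : K[X]).degree = p
      rw [sub_sub, degree_sub_eq_left_of_degree_lt, degree_X_pow]
      rw [degree_X_pow]
      exact as_degree_lt p _ hp
    rw [this]
    exact_mod_cast hp.ne_zero
  obtain ⟨b, hb⟩ := IsAlgClosed.exists_root f hdeg
  have hmap : (asPair p a hp h0).HasMap b := by
    have hf : (asPair p a hp h0).f = X ^ p - X - C a := rfl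
    have hg : (asPair p a hp h0).g = 1 := rfl
    refine ⟨?_, ?_⟩
    · rw [hf, map_sub, map_sub, map_pow, aeval_X, aeval_C]
      simpa [f, IsRoot.def, eval_sub, eval_pow, eval_X, eval_C] using hb
    · rw [hg, map_one]; exact isUnit_one
  let ψ := (asPair p a hp h0).lift b hmap
  refine ⟨RingHom.ker ψ.toRingHom, RingHom.ker_isPrime _, ?_⟩
  ext r
  simp only [Ideal.mem_comap, RingHom.mem_ker, AlgHom.toRingHom_eq_coe, RingHom.coe_coe,
    AlgHom.commutes]
  rw [IsScalarTower.algebraMap_apply R P.ResidueField K, map_eq_zero_iff _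
    (algebraMap P.ResidueField K).injective, Ideal.algebraMap_residueField_eq_zero]

end alg

set_option backward.isDefEq.respectTransparency.types false in
theorem locSurj (p : ℕ) (hp : p.Prime) {X : Scheme.{u}} (h0 : (p : Γ(X, ⊤)) = 0) :
    Sheaf.IsLocallySurjective (W4c5etcohweilstudent.artinSchreierEndo X p hp h0) := by
  constructor
  intro U a
  have key : ∀ R : Sieve U, (∀ x : U.left, ∃ (Y : X.Etale) (f : Y ⟶ U) (y : Y.left),
        R f ∧ EtCoh.etaleMP f.left ∧ f.left y = x) → R ∈ X.smallEtaleTopology U := by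
    intro R h
    have eS : X.smallEtaleTopology =
        (X.smallPretopology (P := EtCoh.etaleMP) (Q := EtCoh.etaleMP)).toGrothendieck :=
      Scheme.smallGrothendieckTopology_eq_toGrothendieck_smallPretopology X le_rfl
    rw [eS]
    exact (Scheme.mem_toGrothendieck_smallPretopology U _).2 h
  apply key
  intro x
  obtain ⟨W, hW, hxW, -⟩ := exists_isAffineOpen_mem_and_subset
    (X := U.left) (TopologicalSpace.Opens.mem_top x)
  let a' : Γ(U.left, ⊤) := a.down
  let ρ : Γ(U.left, ⊤) ⟶ Γ(U.left, W) := U.left.presheaf.map (homOfLE le_top).op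
  let aW : Γ(U.left, W) := ρ.hom a'
  have h0R : (p : Γ(U.left, W)) = 0 := by
    have := congrArg (U.hom.appTop ≫ ρ).hom h0
    rwa [map_natCast, map_zero] at this
  let P := asPair p aW hp h0R
  let B : CommRingCat.{u} := CommRingCat.of P.Ring
  let φ : Γ(U.left, W) ⟶ B := CommRingCat.ofHom (algebraMap Γ(U.left, W) P.Ring)
  have hφ : Etale (Spec.map φ) := by
    rw [HasRingHomProperty.Spec_iff (P := @Etale.{u})]
    show (algebraMap Γ(U.left, W) P.Ring).Etale
    rw [RingHom.etale_algebraMap]
    infer_instance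
  let f₀ : Spec B ⟶ U.left := Spec.map φ ≫ hW.fromSpec
  have hf₀ : Etale f₀ := inferInstance
  let Y : X.Etale := Scheme.Etale.mk (f₀ ≫ U.hom)
  let g : Y ⟶ U := MorphismProperty.Over.homMk f₀ rfl
  obtain ⟨q, hq, hqp⟩ := asPair_exists_prime p aW hp h0R (hW.primeIdealOf ⟨x, hxW⟩).asIdeal
  let y : Spec B := ⟨q, hq⟩
  refine ⟨Y, g, y, ?_, hf₀, ?_⟩
  · have hXpow := asPair_X p aW hp h0R
    let tB : Γ(Spec B, ⊤) := (Scheme.ΓSpecIso B).inv.hom P.X
    refine ⟨ULift.up tB, ?_⟩
    have hcomp : f₀.appTop = ρ ≫ φ ≫ (Scheme.ΓSpecIso B).inv := by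
      show (Spec.map φ ≫ hW.fromSpec).appTop = _
      rw [Scheme.Hom.comp_appTop, Scheme.ΓSpecIso_inv_naturality]
      show hW.fromSpec.app ⊤ ≫ _ = _
      rw [hW.fromSpec_app_of_le ⊤ le_top]
      simp only [Category.assoc]
      congr 2
    apply ULift.ext
    show tB ^ p - tB = f₀.appTop.hom a'
    rw [hcomp]
    show ((Scheme.ΓSpecIso B).inv.hom P.X) ^ p - (Scheme.ΓSpecIso B).inv.hom P.X =
      (Scheme.ΓSpecIso B).inv.hom (algebraMap Γ(U.left, W) P.Ring aW)
    rw [← hXpow, map_sub, map_pow]
  · show hW.fromSpec (Spec.map φ y) = x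
    have h1 : Spec.map φ y = hW.primeIdealOf ⟨x, hxW⟩ := by
      rw [Spec.map_apply]
      exact PrimeSpectrum.ext hqp
    rw [h1, hW.fromSpec_primeIdealOf]

theorem result
    (p : ℕ) (hp : p.Prime) {X : Scheme.{u}} (h0 : (p : Γ(X, ⊤)) = 0) :
    Epi (W4c5etcohweilstudent.artinSchreierEndo X p hp h0) := by
  have := locSurj p hp h0
  infer_instance

end Groth.Agent.S18415
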