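import Groth.Statements.S18417
import Groth.Agent.Lib.Helper63.QRegTrunc

set_option autoImplicit false
universe u v
open CAlg

namespace Groth.Agent.S18417

/-- Let R → A be a ring homomorphism and x_1, …, x_d a weakly regular sequence in A generating an ideal
J such that B = A/J is formally smooth over R. Then for every N ≥ 1 there is an isomorphism of
R-algebras e : A/J^N ≅ B[T_1, …, T_d]/(T_1, …, T_d)^N which sends the class of x_i to the class of
T_i and which is compatible with the projections to B: for every a ∈ A, e(a mod J^N) is congruent to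
the constant a mod J modulo the ideal generated by the variables. (The source also assumes R → A
smooth, which its argument does not use, and a regular sequence; weak regularity is what the
argument uses.) -/
theorem result
    (R : Type u) (A : Type v) [CommRing R] [CommRing A] [Algebra R A] (d : ℕ) (x : Fin d → A)
    (hreg : RingTheory.Sequence.IsWeaklyRegular A (List.ofFn x))
    [Algebra.FormallySmooth R (A ⧸ Ideal.span (Set.range x))] (N : ℕ) (hN : 1 ≤ N) :
    ∃ e : (A ⧸ Ideal.span (Set.range x) ^ N) ≃ₐ[R]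
        (MvPolynomial (Fin d) (A ⧸ Ideal.span (Set.range x)) ⧸
          Ideal.span (Set.range (MvPolynomial.X : Fin d → MvPolynomial (Fin d) (A ⧸ Ideal.span (Set.range x)))) ^ N),
      (∀ i : Fin d, e (Ideal.Quotient.mk _ (x i)) = Ideal.Quotient.mk _ (MvPolynomial.X i)) ∧
      ∀ a : A, e (Ideal.Quotient.mk _ a) - Ideal.Quotient.mk _ (MvPolynomial.C (Ideal.Quotient.mk _ a)) ∈
        (Ideal.span (Set.range (MvPolynomial.X : Fin d → MvPolynomial (Fin d) (A ⧸ Ideal.span (Set.range x))))).map
          (Ideal.Quotient.mk _) := by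
  classical
  have hx : CAlgX.IsQuasiRegular x :=
    Groth.Agent.Lib.Helper77.QuasiReg.isQuasiRegular_of_isWeaklyRegular d x hreg
  have hN0 : N ≠ 0 := by omega
  -- the projection
  let q : (A ⧸ Ideal.span (Set.range x) ^ N) →ₐ[R] (A ⧸ Ideal.span (Set.range x)) :=
    Ideal.Quotient.factorₐ R (Ideal.pow_le_self hN0)
  have hq_mk : ∀ a : A, q (Ideal.Quotient.mk _ a) = Ideal.Quotient.mk _ a := fun a => rfl
  have hq_surj : Function.Surjective q := by
    intro b
    obtain ⟨a, rfl⟩ := Ideal.Quotient.mk_surjective b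
    exact ⟨Ideal.Quotient.mk _ a, rfl⟩
  have hker : RingHom.ker (q : (A ⧸ Ideal.span (Set.range x) ^ N) →+* (A ⧸ Ideal.span (Set.range x))) ≤
      Groth.Agent.Lib.Helper63.QRegTrunc.KK x N := by
    intro y hy
    obtain ⟨a, rfl⟩ := Ideal.Quotient.mk_surjective y
    rw [RingHom.mem_ker] at hy
    have h1 : Ideal.Quotient.mk (Ideal.span (Set.range x)) a = 0 := hy
    exact Ideal.mem_map_of_mem _ (Ideal.Quotient.eq_zero_iff_mem.1 h1)
  have hnil : IsNilpotent (RingHom.ker (q : (A ⧸ Ideal.span (Set.range x) ^ N) →+* (A ⧸ Ideal.span (Set.range x)))) := by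
    refine ⟨N, ?_⟩
    rw [Ideal.zero_eq_bot, eq_bot_iff, ← Groth.Agent.Lib.Helper63.QRegTrunc.KK_pow_N x N]
    exact Ideal.pow_right_mono hker N
  -- the section
  let σ : (A ⧸ Ideal.span (Set.range x)) →ₐ[R] (A ⧸ Ideal.span (Set.range x) ^ N) :=
    Algebra.FormallySmooth.liftOfSurjective (AlgHom.id R _) q hq_surj hnil
  have hσq : ∀ b, q (σ b) = b := fun b =>
    Algebra.FormallySmooth.liftOfSurjective_apply (AlgHom.id R _) q hq_surj hnil b
  have hσ : ∀ a : A, Ideal.Quotient.mk (Ideal.span (Set.range x) ^ N) a -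
      (σ : (A ⧸ Ideal.span (Set.range x)) →+* (A ⧸ Ideal.span (Set.range x) ^ N))
        (Ideal.Quotient.mk (Ideal.span (Set.range x)) a) ∈
      Groth.Agent.Lib.Helper63.QRegTrunc.KK x N := by
    intro a
    apply hker
    rw [RingHom.mem_ker]
    change q (_ - σ _) = 0
    rw [map_sub, hσq, hq_mk, sub_self]
  -- the comparison map as an algebra hom
  let φr := Groth.Agent.Lib.Helper63.QRegTrunc.phi x N
    (σ : (A ⧸ Ideal.span (Set.range x)) →+* (A ⧸ Ideal.span (Set.range x) ^ N))
  let φ : MvPolynomial (Fin d) (A ⧸ Ideal.span (Set.range x)) →ₐ[R]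
      (A ⧸ Ideal.span (Set.range x) ^ N) :=
    { φr with
      commutes' := fun r => by
        change φr (algebraMap R _ r) = _
        rw [MvPolynomial.algebraMap_apply]
        change Groth.Agent.Lib.Helper63.QRegTrunc.phi x N _ (MvPolynomial.C _) = _
        rw [Groth.Agent.Lib.Helper63.QRegTrunc.phi_C]
        exact σ.commutes r }
  have hφ : ∀ P, φ P = φr P := fun P => rfl
  have hφker : ∀ P ∈ Ideal.span (Set.range (MvPolynomial.X :
      Fin d → MvPolynomial (Fin d) (A ⧸ Ideal.span (Set.range x)))) ^ N, φ P = 0 := fun P hP =>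
    Groth.Agent.Lib.Helper63.QRegTrunc.phi_eq_zero_of_mem x N _ hP
  let φb := Ideal.Quotient.liftₐ _ φ hφker
  have hφb : ∀ P, φb (Ideal.Quotient.mk _ P) = φr P := fun P => rfl
  have hbij : Function.Bijective φb := by
    constructor
    · rw [injective_iff_map_eq_zero]
      intro y hy
      obtain ⟨P, rfl⟩ := Ideal.Quotient.mk_surjective y
      rw [hφb] at hy
      exact Ideal.Quotient.eq_zero_iff_mem.2
        (Groth.Agent.Lib.Helper63.QRegTrunc.mem_pow_of_phi_eq_zero x N _ hσ hx P hy)
    · intro y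
      obtain ⟨P, hP⟩ := Groth.Agent.Lib.Helper63.QRegTrunc.phi_surjective x N _ hσ hN0 y
      exact ⟨Ideal.Quotient.mk _ P, hP⟩
  let e0 := AlgEquiv.ofBijective φb hbij
  have he0 : ∀ P, e0 (Ideal.Quotient.mk _ P) = φr P := fun P => rfl
  refine ⟨e0.symm, fun i => ?_, fun a => ?_⟩
  · rw [AlgEquiv.symm_apply_eq, he0]
    exact (Groth.Agent.Lib.Helper63.QRegTrunc.phi_X x N _ i).symm
  · -- constant term map
    have hcc : ∀ P ∈ Ideal.span (Set.range (MvPolynomial.X :
        Fin d → MvPolynomial (Fin d) (A ⧸ Ideal.span (Set.range x)))) ^ N,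
        (MvPolynomial.constantCoeff : MvPolynomial (Fin d) (A ⧸ Ideal.span (Set.range x)) →+* _) P = 0 := by
      intro P hP
      have h1 := (MvPolynomial.mem_pow_idealOfVars_iff' N P).1 hP 0 (by
        simpa using Nat.pos_of_ne_zero hN0)
      simpa [MvPolynomial.constantCoeff_eq] using h1
    let π := Ideal.Quotient.lift _ (MvPolynomial.constantCoeff :
      MvPolynomial (Fin d) (A ⧸ Ideal.span (Set.range x)) →+* _) hcc
    have hπ : ∀ P, π (Ideal.Quotient.mk _ P) = MvPolynomial.constantCoeff P := fun P => rfl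
    -- q ∘ φ = constantCoeff
    have hqφ : ((q : (A ⧸ Ideal.span (Set.range x) ^ N) →+* (A ⧸ Ideal.span (Set.range x))).comp φr) =
        MvPolynomial.constantCoeff := by
      apply MvPolynomial.ringHom_ext
      · intro b
        change q (φr (MvPolynomial.C b)) = _
        rw [Groth.Agent.Lib.Helper63.QRegTrunc.phi_C]
        change q (σ b) = _
        rw [hσq, MvPolynomial.constantCoeff_C]
      · intro i
        change q (φr (MvPolynomial.X i)) = _
        rw [Groth.Agent.Lib.Helper63.QRegTrunc.phi_X, hq_mk, MvPolynomial.constantCoeff_X]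
        exact Ideal.Quotient.eq_zero_iff_mem.2 (Ideal.subset_span ⟨i, rfl⟩)
    have hπe : ∀ y, π y = q (e0 y) := by
      intro y
      obtain ⟨P, rfl⟩ := Ideal.Quotient.mk_surjective y
      rw [hπ, he0, ← hqφ]
      rfl
    -- kernel of π
    have hkerπ : ∀ y, π y = 0 → y ∈ (Ideal.span (Set.range (MvPolynomial.X :
        Fin d → MvPolynomial (Fin d) (A ⧸ Ideal.span (Set.range x))))).map (Ideal.Quotient.mk _) := by
      intro y hy
      obtain ⟨P, rfl⟩ := Ideal.Quotient.mk_surjective y
      rw [hπ] at hy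
      apply Ideal.mem_map_of_mem
      have h1 : P ∈ MvPolynomial.idealOfVars (Fin d) (A ⧸ Ideal.span (Set.range x)) ^ 1 := by
        rw [MvPolynomial.mem_pow_idealOfVars_iff']
        intro m hm
        have hm0 : m = 0 := by
          have : m.degree = 0 := by omega
          exact (Finsupp.degree_eq_zero_iff m).1 this
        rw [hm0]
        simpa [MvPolynomial.constantCoeff_eq] using hy
      simpa using h1
    apply hkerπ
    rw [map_sub, hπe, AlgEquiv.apply_symm_apply, hq_mk, hπ, MvPolynomial.constantCoeff_C, sub_self]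

end Groth.Agent.S18417
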