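import Groth.Statements.S18422
import Mathlib
-- import your own Groth.Agent.* helpers here

set_option autoImplicit false
universe u v
open Pi1

namespace Groth.Agent.S18422

/-- Let p and l be distinct primes, G a profinite group (a compact totally disconnected topological
group) which is pro-p, meaning that every open normal subgroup of G has index a power of p, and H a
profinite group which is pro-l in the same sense. Then every continuous group homomorphism from G to
H is trivial. -/
theorem result {p l : ℕ} (hp : p.Prime) (hl : l.Prime) (hpl : p ≠ l)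
    (G : Type u) [Group G] [TopologicalSpace G] [IsTopologicalGroup G] [CompactSpace G]
    [TotallyDisconnectedSpace G]
    (H : Type v) [Group H] [TopologicalSpace H] [IsTopologicalGroup H] [CompactSpace H]
    [TotallyDisconnectedSpace H]
    (hG : ∀ U : OpenNormalSubgroup G, ∃ n : ℕ, U.toSubgroup.index = p ^ n)
    (hH : ∀ V : OpenNormalSubgroup H, ∃ n : ℕ, V.toSubgroup.index = l ^ n)
    (f : G →* H) (hf : Continuous f) (g : G) : f g = 1 := by
  classical
  by_contra hne
  -- H is T1, as its connected components are points
  have hT1 : T1Space H := ⟨fun x => by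
    have := isClosed_connectedComponent (x := x)
    rwa [connectedComponent_eq_singleton] at this⟩
  -- an open normal subgroup V of H missing f g
  obtain ⟨V, hV⟩ := ProfiniteGrp.exist_openNormalSubgroup_sub_open_nhds_of_one
    (G := H) (U := ({f g} : Set H)ᶜ) isOpen_compl_singleton
    (by simpa [eq_comm] using hne)
  have hfgV : f g ∉ V.toSubgroup := fun h => (hV h) rfl
  have : V.toSubgroup.Normal := V.isNormal'
  -- its preimage U in G
  let U : OpenNormalSubgroup G :=
    { toSubgroup := V.toSubgroup.comap f
      isOpen' := V.isOpen'.preimage hf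
      isNormal' := inferInstance }
  obtain ⟨a, ha⟩ := hG U
  obtain ⟨b, hb⟩ := hH V
  have hidx : U.toSubgroup.index = V.toSubgroup.relIndex f.range := Subgroup.index_comap _ f
  have hdvd : p ^ a ∣ l ^ b := by
    rw [← ha, ← hb, hidx]
    exact Subgroup.relIndex_dvd_index_of_normal _ _
  have hcop : Nat.Coprime (p ^ a) (l ^ b) :=
    Nat.Coprime.pow _ _ ((Nat.coprime_primes hp hl).2 hpl)
  have h1 : p ^ a = 1 := Nat.Coprime.eq_one_of_dvd hcop hdvd
  have htop : U.toSubgroup = ⊤ := Subgroup.index_eq_one.1 (ha.trans h1)
  have : g ∈ U.toSubgroup := htop ▸ Subgroup.mem_top g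
  exact hfgV this

end Groth.Agent.S18422
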