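import Groth.Statements.S18423
import Mathlib
import Groth.Agent.Lib.Helper45.DiscEtale

set_option autoImplicit false
universe u v
open Pi1


namespace Groth.Agent.S18423

open TensorProduct Groth.Agent.Lib.Helper45.DiscEtale

attribute [local instance] Algebra.TensorProduct.rightAlgebra in
/-- if `D(f) ⊆ Spec B` lies in the étale locus then `A_f ⊗ B` is formally étale over `A_f`. -/
theorem formallyEtale_away_tensor {A B : Type*} [CommRing A] [CommRing B] [Algebra A B] (f : A)
    (h : (PrimeSpectrum.basicOpen (algebraMap A B f) : Set (PrimeSpectrum B)) ⊆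
      Algebra.etaleLocus A B) :
    Algebra.FormallyEtale (Localization.Away f) (Localization.Away f ⊗[A] B) := by
  have h1 : Algebra.FormallyEtale A (Localization.Away (algebraMap A B f)) :=
    Algebra.basicOpen_subset_etaleLocus_iff.mp h
  have h2 : IsLocalization (Algebra.algebraMapSubmonoid B (Submonoid.powers f))
      (Localization.Away f ⊗[A] B) := inferInstance
  have h3 : Algebra.algebraMapSubmonoid B (Submonoid.powers f) =
      Submonoid.powers (algebraMap A B f) := Submonoid.map_powers _ _
  rw [h3] at h2
  let e : Localization.Away (algebraMap A B f) ≃ₐ[B] (Localization.Away f ⊗[A] B) :=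
    IsLocalization.algEquiv (Submonoid.powers (algebraMap A B f)) _ _
  have h4 : Algebra.FormallyEtale A (Localization.Away f ⊗[A] B) :=
    Algebra.FormallyEtale.of_equiv (e.restrictScalars A)
  exact Algebra.FormallyEtale.localization_base (Submonoid.powers f)

end Groth.Agent.S18423

namespace Groth.Agent.S18423

/-- Let A be a Noetherian local ring of Krull dimension at least 2 and B a finite flat commutative
A-algebra. If B is etale over A at every prime of B lying over a non-maximal prime of A (that is,
Spec B is etale over the punctured spectrum of A), then B is etale over A. -/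
theorem result (A : Type u) (B : Type v) [CommRing A] [CommRing B]
    [Algebra A B] [IsNoetherianRing A] [IsLocalRing A] (hdim : (2 : WithBot ℕ∞) ≤ ringKrullDim A)
    [Module.Finite A B] [Module.Flat A B]
    (h : ∀ q : PrimeSpectrum B, q.asIdeal.comap (algebraMap A B) ≠ IsLocalRing.maximalIdeal A →
      Algebra.IsEtaleAt A q.asIdeal) :
    Algebra.Etale A B := by
  classical
  haveI : Module.Free A B := Module.free_of_flat_of_isLocalRing
  let b := Module.Free.chooseBasis A B
  haveI : Module.FinitePresentation A B := Module.finitePresentation_of_projective A B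
  haveI : Algebra.FinitePresentation A B := Algebra.FinitePresentation.of_finitePresentation A B
  rw [Groth.Agent.Lib.Helper45.DiscEtale.etale_iff_isUnit_discr b]
  by_contra hd
  have hdm : Algebra.discr A b ∈ IsLocalRing.maximalIdeal A :=
    (IsLocalRing.mem_maximalIdeal _).mpr hd
  have key : ∀ p : Ideal A, p.IsPrime → Algebra.discr A b ∈ p →
      IsLocalRing.maximalIdeal A ≤ p := by
    intro p hp hdp f hf
    by_contra hfp
    have hloc : (PrimeSpectrum.basicOpen (algebraMap A B f) : Set (PrimeSpectrum B)) ⊆
        Algebra.etaleLocus A B := by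
      intro q hq
      apply h q
      intro hqm
      apply hq
      have : f ∈ q.asIdeal.comap (algebraMap A B) := hqm ▸ hf
      exact this
    have hfe := Groth.Agent.S18423.formallyEtale_away_tensor f hloc
    haveI : Algebra.Etale (Localization.Away f) (TensorProduct A (Localization.Away f) B) :=
      ⟨hfe, inferInstance⟩
    have hu := Groth.Agent.Lib.Helper45.DiscEtale.isUnit_discr_of_etale
      (Algebra.TensorProduct.basis (Localization.Away f) b)
    rw [Groth.Agent.Lib.Helper45.DiscEtale.discr_baseChange] at hu
    have hdisj : Disjoint (Submonoid.powers f : Set A) (p : Set A) := by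
      rw [Set.disjoint_left]
      rintro _ ⟨n, rfl⟩ hn
      exact hfp (hp.mem_of_pow_mem n hn)
    have hprime := IsLocalization.isPrime_of_isPrime_disjoint (Submonoid.powers f)
      (Localization.Away f) p hp hdisj
    exact hprime.ne_top (Ideal.eq_top_of_isUnit_mem _ (Ideal.mem_map_of_mem _ hdp) hu)
  have hmin : IsLocalRing.maximalIdeal A ∈ (Ideal.span {Algebra.discr A b}).minimalPrimes := by
    refine ⟨⟨inferInstance, (Ideal.span_singleton_le_iff_mem _).mpr hdm⟩, ?_⟩
    rintro p ⟨hp, hle⟩ _
    exact key p hp (hle (Ideal.mem_span_singleton_self _))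
  have hht := Ideal.height_le_one_of_isPrincipal_of_mem_minimalPrimes _ _ hmin
  rw [← IsLocalRing.maximalIdeal_height_eq_ringKrullDim] at hdim
  have h2 : (2 : WithBot ℕ∞) ≤ ((1 : ℕ∞) : WithBot ℕ∞) :=
    hdim.trans (WithBot.coe_le_coe.mpr hht)
  exact absurd h2 (by decide)

end Groth.Agent.S18423
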