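import Groth.Statements.S18425
import Mathlib.CategoryTheory.Galois.IsFundamentalgroup

set_option autoImplicit false
universe u
open Pi1

namespace Groth.Agent.S18425

section Helpers

open CategoryTheory PreGaloisCategory ProfiniteGrp ProfiniteCompletion

variable (G : Type u) [Group G]

/-- The forgetful fibre functor. -/
abbrev FF : Action FintypeCat.{u} G ⥤ FintypeCat.{u} := Action.forget FintypeCat.{u} G

instance instMulActionFF (X : Action FintypeCat.{u} G) : MulAction G ((FF G).obj X) :=
  inferInstanceAs (MulAction G X.V)

instance : IsNaturalSMul (FF G) G where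
  naturality g _ _ f x := ConcreteCategory.congr_hom (f.comm g) x

/-- The canonical map `G → Aut F`. -/
noncomputable def iota : G →* Aut (FF G) := toAut (FF G) G

lemma iota_apply (g : G) (X : Action FintypeCat.{u} G) (x : X.V) :
    (iota G g).hom.app X x = (X.ρ g).hom x := rfl

end Helpers

section Hat

open CategoryTheory PreGaloisCategory ProfiniteGrp ProfiniteCompletion

variable (G : Type u) [Group G]

/-- The profinite completion. -/
abbrev Ghat : ProfiniteGrp.{u} := completion (GrpCat.of G)

/-- The discrete profinite group of permutations of the underlying set of a finite `G`-set. -/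
noncomputable def PX (X : Action FintypeCat.{u} G) : ProfiniteGrp.{u} :=
  ProfiniteGrp.ofFiniteGrp (FiniteGrp.of (Equiv.Perm X.V))

/-- The extension of the action map to the completion. -/
noncomputable def LX (X : Action FintypeCat.{u} G) : Ghat G ⟶ PX G X :=
  lift (P := PX G X) (GrpCat.ofHom (MulAction.toPermHom G X.V))

/-- The same as a monoid homomorphism to permutations. -/
noncomputable def LXhom (X : Action FintypeCat.{u} G) : Ghat G →* Equiv.Perm X.V :=
  (LX G X).hom.toMonoidHom

lemma LXhom_eta (X : Action FintypeCat.{u} G) (g : G) (a : X.V) :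
    LXhom G X (etaFn (GrpCat.of G) g) a = g • a := by
  have := ConcreteCategory.congr_hom
    (lift_eta (P := PX G X) (GrpCat.ofHom (MulAction.toPermHom G X.V))) g
  exact congrArg (fun σ : Equiv.Perm X.V => σ a) this

lemma LXhom_continuous (X : Action FintypeCat.{u} G) :
    @Continuous _ _ _ ⊥ (LXhom G X) :=
  (LX G X).hom.continuous_toFun

end Hat

section Fund

open CategoryTheory PreGaloisCategory ProfiniteGrp ProfiniteCompletion

variable (G : Type u) [Group G]

noncomputable instance instMulActionHatV (X : Action FintypeCat.{u} G) :
    MulAction (Ghat G) X.V :=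
  MulAction.compHom X.V (LXhom G X)

noncomputable instance instMulActionHat (X : Action FintypeCat.{u} G) :
    MulAction (Ghat G) ((FF G).obj X) :=
  inferInstanceAs (MulAction (Ghat G) X.V)

lemma hat_smul_def (X : Action FintypeCat.{u} G) (x : Ghat G) (a : X.V) :
    x • a = LXhom G X x a := rfl

lemma eta_smul (X : Action FintypeCat.{u} G) (g : G) (a : X.V) :
    (etaFn (GrpCat.of G) g : Ghat G) • a = g • a :=
  LXhom_eta G X g a

/-- For fixed `a`, the orbit map of the completion is continuous. -/
lemma continuous_hat_smul (X : Action FintypeCat.{u} G) (a : X.V) :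
    @Continuous _ _ _ ⊥ (fun x : Ghat G => x • a) := by
  have h1 := LXhom_continuous G X
  have h2 : @Continuous (Equiv.Perm X.V) X.V ⊥ ⊥ (fun σ => σ a) :=
    continuous_bot
  exact @Continuous.comp _ _ _ _ ⊥ ⊥ _ _ h2 h1

/-- Density principle: two continuous maps to a discrete fibre agreeing on `G` agree. -/
lemma hat_ext {T : Type*} (f₁ f₂ : Ghat G → T)
    (h₁ : @Continuous _ _ _ ⊥ f₁) (h₂ : @Continuous _ _ _ ⊥ f₂)
    (h : ∀ g : G, f₁ (etaFn (GrpCat.of G) g) = f₂ (etaFn (GrpCat.of G) g)) : f₁ = f₂ := by
  let _ : TopologicalSpace T := ⊥
  have : DiscreteTopology T := ⟨rfl⟩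
  exact (denseRange (GrpCat.of G)).equalizer h₁ h₂ (funext h)

lemma hat_naturality (x : Ghat G) {X Y : Action FintypeCat.{u} G} (f : X ⟶ Y) (a : X.V) :
    f.hom (x • a) = x • f.hom a := by
  have := hat_ext G (fun x : Ghat G => f.hom (x • a))
    (fun x : Ghat G => x • f.hom a)
    (@Continuous.comp _ _ _ _ ⊥ ⊥ _ _
      (continuous_bot) (continuous_hat_smul G X a))
    (continuous_hat_smul G Y _)
    (fun g => by
      rw [eta_smul, eta_smul]
      exact IsNaturalSMul.naturality (F := FF G) g f a)
  exact congrFun this x

instance : IsNaturalSMul (FF G) (Ghat G) where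
  naturality x _ _ f a := hat_naturality G x f a

end Fund

section Fund2

open CategoryTheory PreGaloisCategory ProfiniteGrp ProfiniteCompletion

variable (G : Type u) [Group G]

/-- The finite `G`-set `G/U`. -/
noncomputable def XU (U : FiniteIndexNormalSubgroup G) : Action FintypeCat.{u} G :=
  letI : Fintype (G ⧸ U.toSubgroup) := Fintype.ofFinite _
  Action.FintypeCat.ofMulAction G (FintypeCat.of (G ⧸ U.toSubgroup))

lemma hat_smul_one (U : FiniteIndexNormalSubgroup G) (x : Ghat G) :
    (x • (show (XU G U).V from (QuotientGroup.mk (1 : G) : G ⧸ U.toSubgroup)) : (XU G U).V) =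
      (show (XU G U).V from x.1 U) := by
  have := hat_ext G
    (fun x : Ghat G => (x • (show (XU G U).V from (QuotientGroup.mk (1 : G) : G ⧸ U.toSubgroup)) :
      (XU G U).V))
    (fun x : Ghat G => (show (XU G U).V from x.1 U))
    (continuous_hat_smul G (XU G U) _)
    ((limitCone (diagram (GrpCat.of G))).π.app U).hom.continuous_toFun
    (fun g => by
      rw [eta_smul]
      change (QuotientGroup.mk (g * 1) : G ⧸ U.toSubgroup) = QuotientGroup.mk g
      rw [mul_one])
  exact congrFun this x

instance : IsFundamentalGroup (FF G) (Ghat G) where
  transitive_of_isGalois X _ := by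
    have := FintypeCat.Action.pretransitive_of_isConnected G X
    constructor
    intro a b
    obtain ⟨g, hg⟩ := MulAction.exists_smul_eq G (show X.V from a) (show X.V from b)
    exact ⟨etaFn _ g, (eta_smul G X g a).trans hg⟩
  continuous_smul X := by
    constructor
    rw [continuous_prod_of_discrete_right]
    intro a
    exact continuous_hat_smul G X a
  non_trivial' x hx := by
    apply Subtype.ext
    funext U
    have h1 := hat_smul_one G U x
    have h2 := hx (XU G U) (show (XU G U).V from (QuotientGroup.mk (1 : G) : G ⧸ U.toSubgroup))
    exact h1.symm.trans h2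

end Fund2

open CategoryTheory in
/-- In the case of a discrete group G, let F be the forgetful functor from the category of finite G-sets
to finite sets. Then the canonical homomorphism from G to Aut(F), letting g act on every finite
G-set, extends to an isomorphism of topological groups from the profinite completion of G (the limit
of the finite quotients G/U over normal subgroups U of finite index) onto Aut(F) with its profinite
topology. (The published statement is for an arbitrary topological group G, with finite G-sets
carrying a continuous action and the completion taken over open normal subgroups of finite index;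
this row is the case of a discrete group.) -/
theorem result (G : Type u) [Group G] :
    ∃ φ : (ProfiniteGrp.ProfiniteCompletion.completion (GrpCat.of G)) ≃ₜ* Aut (Action.forget FintypeCat.{u} G),
      ∀ (g : G) (X : Action FintypeCat.{u} G) (x : X.V),
        (φ (ProfiniteGrp.ProfiniteCompletion.etaFn (GrpCat.of G) g)).hom.app X x = (X.ρ g).hom x := by
  let e := PreGaloisCategory.toAutMulEquiv (FF G) (Ghat G)
  have he := PreGaloisCategory.toAutMulEquiv_isHomeomorph (FF G) (Ghat G)
  refine ⟨{ toMulEquiv := e
            continuous_toFun := he.continuous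
            continuous_invFun := he.homeomorph.symm.continuous }, ?_⟩
  intro g X x
  exact eta_smul G X g x

end Groth.Agent.S18425
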