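import Groth.Statements.S18426
import Groth.Agent.Lib.Helper7.BiratIso

set_option autoImplicit false
universe u
open Pi1

namespace Groth.Agent.S18426

section Helpers

open AlgebraicGeometry CategoryTheory CategoryTheory.Limits

variable {X : Scheme.{u}} [IsIntegral X]

/- The next three lemmas are copied from `Lib/Helper89/NormalFEt` (helper89) to keep imports small. -/

lemma genericPoint_mem (V : X.Opens) [h : Nonempty V] : genericPoint X ∈ V :=
  ((genericPoint_spec X).mem_open_set_iff V.isOpen).mpr (by simpa using h)

lemma top_le_preimage_fromSpecStalk (V : X.Opens) [Nonempty V] :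
    (⊤ : (Spec (X.presheaf.stalk (genericPoint X))).Opens) ≤
      X.fromSpecStalk (genericPoint X) ⁻¹ᵁ V := by
  intro z _
  have h1 : X.fromSpecStalk (genericPoint X) z ⤳ genericPoint X := by
    have : X.fromSpecStalk (genericPoint X) z ∈
        Set.range (X.fromSpecStalk (genericPoint X)) := Set.mem_range_self z
    rwa [Scheme.range_fromSpecStalk] at this
  exact h1.mem_open V.isOpen (genericPoint_mem V)

lemma fromSpecStalk_appLE_ΓSpecIso (V : X.Opens) [Nonempty V] :
    (X.fromSpecStalk (genericPoint X)).appLE V ⊤ (top_le_preimage_fromSpecStalk V) ≫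
      (Scheme.ΓSpecIso (X.presheaf.stalk (genericPoint X))).hom =
    X.presheaf.germ V (genericPoint X) (genericPoint_mem V) := by
  rw [Scheme.Hom.appLE, Scheme.fromSpecStalk_app (genericPoint_mem V)]
  simp only [Category.assoc, ← Functor.map_comp]
  have : ((homOfLE le_top).op ≫ (homOfLE (top_le_preimage_fromSpecStalk V)).op :
      Opposite.op (⊤ : (Spec (X.presheaf.stalk (genericPoint X))).Opens) ⟶ Opposite.op ⊤) =
      𝟙 _ := Subsingleton.elim _ _
  rw [this, CategoryTheory.Functor.map_id, Category.id_comp, Iso.inv_hom_id, Category.comp_id]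

end Helpers

section Main

open AlgebraicGeometry CategoryTheory CategoryTheory.Limits

open Groth.Agent.Lib.Helper7

variable {X : Scheme.{u}} [IsIntegral X]

set_option linter.style.haveILetI false in
theorem finite_sections [IsNoetherian X] (hX : Pi1.IsNormalScheme X) (L : Type u) [Field L]
    [Algebra X.functionField L] [FiniteDimensional X.functionField L]
    [Algebra.IsSeparable X.functionField L] (U : X.Opens) (hU : IsAffineOpen U) :
    letI := ((Spec.map (CommRingCat.ofHom (algebraMap X.functionField L)) ≫
      X.fromSpecStalk (genericPoint X)).app U).hom.toAlgebra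
    Module.Finite Γ(X, U) (integralClosure Γ(X, U)
      Γ(Spec (CommRingCat.of L), (Spec.map (CommRingCat.ofHom (algebraMap X.functionField L)) ≫
      X.fromSpecStalk (genericPoint X)) ⁻¹ᵁ U)) := by
  set φ : CommRingCat.of X.functionField ⟶ CommRingCat.of L :=
    CommRingCat.ofHom (algebraMap X.functionField L) with hφ
  set g := Spec.map φ ≫ X.fromSpecStalk (genericPoint X) with hg
  letI := (g.app U).hom.toAlgebra
  by_cases hne : Nonempty U
  · haveI : Nonempty U := hne
    haveI : IsIntegrallyClosed Γ(X, U) :=
      BiratIso.isIntegrallyClosed_sections_of_isNormalScheme hX U hU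
    haveI : IsFractionRing Γ(X, U) X.functionField :=
      functionField_isFractionRing_of_isAffineOpen X U hU
    haveI : IsNoetherianRing Γ(X, U) := IsLocallyNoetherian.component_noetherian ⟨U, hU⟩
    have htop : (⊤ : (Spec (CommRingCat.of L)).Opens) ≤ g ⁻¹ᵁ U := by
      intro z _
      exact top_le_preimage_fromSpecStalk U (Set.mem_univ ((Spec.map φ) z))
    have heq : g ⁻¹ᵁ U = ⊤ := top_le_iff.mp htop
    let ψ : Γ(Spec (CommRingCat.of L), g ⁻¹ᵁ U) ≅ CommRingCat.of L :=
      (Spec (CommRingCat.of L)).presheaf.mapIso (eqToIso heq.symm).op ≪≫ Scheme.ΓSpecIso _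
    have hcomp : g.app U ≫ ψ.hom = X.germToFunctionField U ≫ φ := by
      have h1 : g.app U ≫ (Spec (CommRingCat.of L)).presheaf.map (eqToIso heq.symm).op.hom =
          g.appLE U ⊤ htop := by
        rw [Scheme.Hom.appLE]
        congr 1
      have hle2 : (⊤ : (Spec (CommRingCat.of L)).Opens) ≤
          (Spec.map φ) ⁻¹ᵁ (⊤ : (Spec (X.presheaf.stalk (genericPoint X))).Opens) :=
        fun _ _ => trivial
      have h2 : g.appLE U ⊤ htop =
          (X.fromSpecStalk (genericPoint X)).appLE U ⊤ (top_le_preimage_fromSpecStalk U) ≫
            (Spec.map φ).appLE ⊤ ⊤ hle2 := by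
        rw [Scheme.Hom.appLE_comp_appLE]
      have h3 : (Spec.map φ).appLE ⊤ ⊤ hle2 = (Spec.map φ).appTop :=
        Scheme.Hom.appLE_eq_app _
      have h4 := fromSpecStalk_appLE_ΓSpecIso U
      calc g.app U ≫ ψ.hom
          = g.appLE U ⊤ htop ≫ (Scheme.ΓSpecIso (CommRingCat.of L)).hom := by
            rw [← h1]; simp [ψ]
        _ = ((X.fromSpecStalk (genericPoint X)).appLE U ⊤ (top_le_preimage_fromSpecStalk U) ≫
              (Spec.map φ).appTop) ≫ (Scheme.ΓSpecIso (CommRingCat.of L)).hom := by
            rw [h2, h3]
        _ = (X.fromSpecStalk (genericPoint X)).appLE U ⊤ (top_le_preimage_fromSpecStalk U) ≫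
              ((Scheme.ΓSpecIso _).hom ≫ φ) := by
            rw [Category.assoc, Scheme.ΓSpecIso_naturality]
            rfl
        _ = ((X.fromSpecStalk (genericPoint X)).appLE U ⊤ (top_le_preimage_fromSpecStalk U) ≫
              (Scheme.ΓSpecIso _).hom) ≫ φ := (Category.assoc _ _ _).symm
        _ = X.germToFunctionField U ≫ φ := congrArg (· ≫ φ) h4
    letI : Algebra Γ(X, U) L :=
      ((algebraMap X.functionField L).comp (algebraMap Γ(X, U) X.functionField)).toAlgebra
    haveI : IsScalarTower Γ(X, U) X.functionField L :=
      IsScalarTower.of_algebraMap_eq (fun _ => rfl)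
    have hfin : Module.Finite Γ(X, U) (integralClosure Γ(X, U) L) :=
      IsIntegralClosure.finite Γ(X, U) X.functionField L _
    let e : Γ(Spec (CommRingCat.of L), g ⁻¹ᵁ U) ≃ₐ[Γ(X, U)] L :=
      { ψ.commRingCatIsoToRingEquiv with
        commutes' := fun a => congr($hcomp a) }
    exact Module.Finite.equiv (e.mapIntegralClosure).symm.toLinearEquiv
  · have hbot : U = ⊥ := by
      rw [not_nonempty_iff] at hne
      ext x
      simp only [TopologicalSpace.Opens.coe_bot, Set.mem_empty_iff_false, iff_false]
      exact fun hx => hne.false ⟨x, hx⟩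
    have h1 : Subsingleton Γ(X, U) := by rw [hbot]; infer_instance
    have h2 : Subsingleton (integralClosure Γ(X, U)
        Γ(Spec (CommRingCat.of L), g ⁻¹ᵁ U)) := by
      have h01 : (0 : Γ(X, U)) = 1 := Subsingleton.elim _ _
      have := congrArg (algebraMap Γ(X, U) (integralClosure Γ(X, U)
        Γ(Spec (CommRingCat.of L), g ⁻¹ᵁ U))) h01
      rw [map_zero, map_one] at this
      exact subsingleton_of_zero_eq_one this
    exact Module.Finite.of_finite

end Main

open AlgebraicGeometry CategoryTheory CategoryTheory.Limits in
/-- Suppose X is an integral scheme that is Noetherian and normal, write K for its function field, and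
take L to be a finite separable extension of K. Then the normalization of X in L, namely the
relative normalization of the morphism Spec L → Spec K → X, is finite over X. (That this
normalization is a normal integral scheme with function field L is not restated.) -/
theorem result {X : Scheme.{u}} [IsIntegral X] [IsNoetherian X]
    (hX : Pi1.IsNormalScheme X) (L : Type u) [Field L] [Algebra X.functionField L] [FiniteDimensional X.functionField L]
    [Algebra.IsSeparable X.functionField L]
    [QuasiCompact (Spec.map (CommRingCat.ofHom (algebraMap X.functionField L)) ≫ X.fromSpecStalk (genericPoint X))]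
    [QuasiSeparated (Spec.map (CommRingCat.ofHom (algebraMap X.functionField L)) ≫ X.fromSpecStalk (genericPoint X))] :
    IsFinite (Spec.map (CommRingCat.ofHom (algebraMap X.functionField L)) ≫ X.fromSpecStalk (genericPoint X)).fromNormalization := by
  refine (isFinite_iff _).mpr ⟨inferInstance, fun U hU => ?_⟩
  have hfin' := finite_sections hX L U hU
  rw [Scheme.Hom.fromNormalization_app _ hU, CommRingCat.hom_comp]
  refine RingHom.Finite.comp ?_ ?_
  · exact RingHom.Finite.of_surjective _
      (ConcreteCategory.bijective_of_isIso (Scheme.Hom.normalizationObjIso _ hU).inv).2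
  · exact hfin'

end Groth.Agent.S18426
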