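import Groth.Statements.S18428
import Mathlib.CategoryTheory.Galois.IsFundamentalgroup
import Mathlib.CategoryTheory.Action.Concrete
import Mathlib.CategoryTheory.Galois.Examples

set_option autoImplicit false
set_option linter.unusedSectionVars false
universe u
open scoped FintypeCatDiscrete
open Pi1

namespace Groth.Agent.S18428

section Helpers

open CategoryTheory PreGaloisCategory

variable (G : Type u) [Group G] [TopologicalSpace G] [IsTopologicalGroup G]

/-- The forgetful functor. -/
abbrev FF : ContAction FintypeCat.{u} G ⥤ FintypeCat.{u} :=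
  forget₂ (ContAction FintypeCat.{u} G) FintypeCat.{u}

instance instMulActionFF (X : ContAction FintypeCat.{u} G) : MulAction G ((FF G).obj X) :=
  inferInstanceAs (MulAction G X.obj.V)

instance : IsNaturalSMul (FF G) G where
  naturality g _ _ f x := ConcreteCategory.congr_hom (f.hom.comm g) x

/-- The canonical map `G → Aut F`. -/
noncomputable def iota : G →* Aut (FF G) := toAut (FF G) G

lemma iota_apply (g : G) (X : ContAction FintypeCat.{u} G) (x : X.obj.V) :
    (iota G g).hom.app X x = (X.obj.ρ g).hom x := rfl

variable {G}

/-- Orbit maps of continuous finite `G`-sets are continuous. -/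
lemma continuous_smul_const (X : ContAction FintypeCat.{u} G) (x : X.obj.V) :
    Continuous (fun g : G => g • x) := by
  have h : ContinuousSMul G X.obj.V := X.property
  exact continuous_id.smul continuous_const

lemma isOpen_setOf_smul_eq (X : ContAction FintypeCat.{u} G) (x y : X.obj.V) :
    IsOpen {g : G | g • x = y} :=
  (isOpen_discrete {y}).preimage (continuous_smul_const X x)

end Helpers

section Cont

open CategoryTheory PreGaloisCategory

variable (G : Type u) [Group G] [TopologicalSpace G] [IsTopologicalGroup G]

lemma iota_app_eq_iff (g : G) (X : ContAction FintypeCat.{u} G) (τ : Aut ((FF G).obj X)) :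
    (iota G g).app X = τ ↔ ∀ x : X.obj.V, g • x = τ.hom x := by
  constructor
  · intro h x
    rw [← h]
    rfl
  · intro h
    ext x
    exact h x

lemma continuous_iota : Continuous (iota G) := by
  rw [continuous_induced_rng]
  apply continuous_pi
  intro X
  rw [continuous_discrete_rng]
  intro τ
  have : (fun g : G => (autEmbedding (FF G) ∘ iota G) g X) ⁻¹' {τ} =
      ⋂ x : X.obj.V, {g : G | g • x = τ.hom x} := by
    ext g
    simp only [Function.comp_apply, autEmbedding_apply, Set.mem_preimage, Set.mem_singleton_iff,
      Set.mem_iInter, Set.mem_ofPred_eq]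
    exact iota_app_eq_iff G g X τ
  rw [this]
  exact isOpen_iInter_of_finite (fun x => isOpen_setOf_smul_eq X x _)

end Cont

section Orbit

open CategoryTheory PreGaloisCategory

variable {G : Type u} [Group G] [TopologicalSpace G] [IsTopologicalGroup G]
variable {n : ℕ} (Xs : Fin n → ContAction FintypeCat.{u} G)

/-- The product of all the finite `G`-sets `Xs i`, each repeated once for each of its elements. -/
abbrev Z : Type u := ∀ p : (Σ i : Fin n, (Xs i).obj.V), (Xs p.1).obj.V

/-- The tautological point. -/
def tpt : Z Xs := fun p => p.2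

/-- The orbit of the tautological point. -/
abbrev W : Type u := MulAction.orbit G (tpt Xs)

instance : Finite (W Xs) := Subtype.finite

lemma isOpen_setOf_smul_eq_W (w w' : W Xs) : IsOpen {g : G | g • w = w'} := by
  have : {g : G | g • w = w'} =
      ⋂ p : (Σ i : Fin n, (Xs i).obj.V), {g : G | g • (w.1 p) = w'.1 p} := by
    ext g
    simp only [Set.mem_ofPred_eq, Set.mem_iInter]
    constructor
    · intro h p
      rw [← h]
      rfl
    · intro h
      apply Subtype.ext
      funext p
      exact h p
  rw [this]
  exact isOpen_iInter_of_finite (fun p => isOpen_setOf_smul_eq (Xs p.1) _ _)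

/-- The orbit as a finite continuous `G`-set. -/
noncomputable def WObj : ContAction FintypeCat.{u} G :=
  letI : Fintype (W Xs) := Fintype.ofFinite _
  ⟨Action.FintypeCat.ofMulAction G (FintypeCat.of (W Xs)), by
    have : DiscreteTopology ((forget₂ (Action FintypeCat G) TopCat).obj
      (Action.FintypeCat.ofMulAction G (FintypeCat.of (W Xs)))) := ⟨rfl⟩
    constructor
    rw [continuous_prod_of_discrete_right]
    intro w
    rw [continuous_discrete_rng]
    intro w'
    exact isOpen_setOf_smul_eq_W Xs w w'⟩

/-- The projections. -/
noncomputable def prW (p : Σ i : Fin n, (Xs i).obj.V) : WObj Xs ⟶ Xs p.1 :=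
  ObjectProperty.homMk
    { hom := FintypeCat.homMk (fun w : W Xs => w.1 p)
      comm := fun _ => rfl }

lemma exists_iota_app_eq (τ : Aut (FF G)) :
    ∃ g : G, ∀ i, (iota G g).app (Xs i) = τ.app (Xs i) := by
  let t₀ : (WObj Xs).obj.V := (⟨tpt Xs, MulAction.mem_orbit_self _⟩ : W Xs)
  obtain ⟨g, hg⟩ : ∃ g : G, g • tpt Xs = (show W Xs from τ.hom.app (WObj Xs) t₀).1 :=
    (show W Xs from τ.hom.app (WObj Xs) t₀).2
  refine ⟨g, fun i => ?_⟩
  rw [iota_app_eq_iff]
  intro x
  have hnat := ConcreteCategory.congr_hom (τ.hom.naturality (prW Xs ⟨i, x⟩)) t₀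
  have h1 : (show W Xs from τ.hom.app (WObj Xs) t₀).1 ⟨i, x⟩ = (τ.app (Xs i)).hom x :=
    hnat.symm
  rw [← h1, ← hg]
  rfl

end Orbit

section Dense

open CategoryTheory PreGaloisCategory

variable (G : Type u) [Group G] [TopologicalSpace G] [IsTopologicalGroup G]

lemma denseRange_iota : DenseRange (iota G) := by
  rw [DenseRange, dense_iff_inter_open]
  rintro U hU ⟨τ, hτ⟩
  obtain ⟨V, hV, rfl⟩ := isOpen_induced_iff.1 hU
  obtain ⟨I, u, hu, hsub⟩ := isOpen_pi_iff.1 hV _ hτ
  obtain ⟨g, hg⟩ := exists_iota_app_eq (fun k : Fin I.card => ((I.equivFin).symm k).1) τ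
  refine ⟨iota G g, ?_, g, rfl⟩
  apply hsub
  intro X hX
  obtain ⟨k, hk⟩ : ∃ k, ((I.equivFin).symm k).1 = X := ⟨I.equivFin ⟨X, hX⟩, by simp⟩
  subst hk
  rw [autEmbedding_apply, hg k]
  exact (hu _ hX).2

end Dense

section Univ

open CategoryTheory PreGaloisCategory

variable (G : Type u) [Group G] [TopologicalSpace G] [IsTopologicalGroup G]
variable (Q : Type u) [Group Q] [Finite Q] [TopologicalSpace Q] [DiscreteTopology Q]
  (π : G →* Q) (hπ : Continuous π)

/-- `Q` as a finite continuous `G`-set through `π`. -/
noncomputable def XQ : ContAction FintypeCat.{u} G :=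
  letI : Fintype Q := Fintype.ofFinite _
  letI : MulAction G Q := MulAction.compHom Q π
  ⟨Action.FintypeCat.ofMulAction G (FintypeCat.of Q), by
    have : DiscreteTopology ((forget₂ (Action FintypeCat G) TopCat).obj
      (Action.FintypeCat.ofMulAction G (FintypeCat.of Q))) := ⟨rfl⟩
    constructor
    rw [continuous_prod_of_discrete_right]
    intro q
    rw [continuous_discrete_rng]
    intro q'
    have : (fun g : G => π g * (show Q from q)) ⁻¹' {(show Q from q')} =
        π ⁻¹' {(show Q from q') * (show Q from q)⁻¹} := by
      ext g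
      simp only [Set.mem_preimage, Set.mem_singleton_iff]
      exact eq_mul_inv_iff_mul_eq.symm
    exact this ▸ (isOpen_discrete _).preimage hπ⟩

/-- Right multiplications are equivariant. -/
noncomputable def rmul (q₀ : Q) : XQ G Q π hπ ⟶ XQ G Q π hπ :=
  ObjectProperty.homMk
    { hom := FintypeCat.homMk (fun q : Q => q * q₀)
      comm := fun g => by
        ext q
        exact mul_assoc (π g) (show Q from q) q₀ }

lemma app_XQ (σ : Aut (FF G)) (q : Q) :
    (show Q from σ.hom.app (XQ G Q π hπ) (show Q from q)) =
      (show Q from σ.hom.app (XQ G Q π hπ) (show Q from (1 : Q))) * q := by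
  have hnat := ConcreteCategory.congr_hom (σ.hom.naturality (rmul G Q π hπ q)) (show Q from (1 : Q))
  have h1 : (show Q from σ.hom.app (XQ G Q π hπ) (show Q from ((1 : Q) * q))) =
      (show Q from σ.hom.app (XQ G Q π hπ) (show Q from (1 : Q))) * q := hnat
  rwa [one_mul] at h1

/-- The factorization. -/
noncomputable def psi : Aut (FF G) →* Q where
  toFun σ := (show Q from σ.hom.app (XQ G Q π hπ) (show Q from (1 : Q)))
  map_one' := rfl
  map_mul' σ τ := by
    change (show Q from σ.hom.app (XQ G Q π hπ) (τ.hom.app (XQ G Q π hπ) (show Q from (1 : Q)))) = _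
    exact app_XQ G Q π hπ σ _

lemma continuous_psi : Continuous (psi G Q π hπ) := by
  have h1 : Continuous (fun σ : Aut (FF G) => autEmbedding (FF G) σ (XQ G Q π hπ)) :=
    (continuous_apply _).comp continuous_induced_dom
  have h2 : Continuous (fun τ : Aut ((FF G).obj (XQ G Q π hπ)) =>
      (show Q from τ.hom (show Q from (1 : Q)))) := continuous_of_discreteTopology
  exact h2.comp h1

lemma psi_comp_iota : (psi G Q π hπ).comp (iota G) = π := by
  ext g
  change π g * 1 = π g
  rw [mul_one]

end Univ

open CategoryTheory in
/-- Let G be a topological group, consider the category of finite sets (with the discrete topology)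
equipped with a continuous action of G, and let F be the forgetful functor to finite sets, so that
Aut(F) is a profinite group. Then the homomorphism ι : G → Aut(F) letting g act on every finite
continuous G-set exists and is continuous, has dense image, and every continuous homomorphism from G
to a finite discrete group factors uniquely through ι by a continuous homomorphism on Aut(F). As
Aut(F) is profinite, these properties say that ι induces an isomorphism of topological groups from
the profinite completion of G (the limit of the quotients G/U by open normal subgroups of finite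
index) onto Aut(F). -/
theorem result (G : Type u) [Group G]
    [TopologicalSpace G] [IsTopologicalGroup G] :
    ∃ ι : G →* Aut (forget₂ (ContAction FintypeCat.{u} G) FintypeCat.{u}),
      Continuous ι ∧
      (∀ (g : G) (X : ContAction FintypeCat.{u} G) (x : X.obj.V), (ι g).hom.app X x = (X.obj.ρ g).hom x) ∧
      DenseRange ι ∧
      ∀ (Q : Type u) [Group Q] [Finite Q] [TopologicalSpace Q] [DiscreteTopology Q] (π : G →* Q),
        Continuous π → ∃! ψ : Aut (forget₂ (ContAction FintypeCat.{u} G) FintypeCat.{u}) →* Q,
          Continuous ψ ∧ ψ.comp ι = π := by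
  refine ⟨iota G, continuous_iota G, fun g X x => iota_apply G g X x, denseRange_iota G, ?_⟩
  intro Q _ _ _ _ π hπ
  refine ⟨psi G Q π hπ, ⟨continuous_psi G Q π hπ, psi_comp_iota G Q π hπ⟩, ?_⟩
  rintro ψ' ⟨hc, hcomp⟩
  have := (denseRange_iota G).equalizer hc (continuous_psi G Q π hπ) (funext fun g => by
    have h1 : ψ' (iota G g) = π g := DFunLike.congr_fun hcomp g
    have h2 : psi G Q π hπ (iota G g) = π g := DFunLike.congr_fun (psi_comp_iota G Q π hπ) g
    exact h1.trans h2.symm)
  exact MonoidHom.ext (congrFun this)

end Groth.Agent.S18428
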