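import Groth.Statements.S18429
import Mathlib.Tactic
-- import your own Groth.Agent.* helpers here

set_option autoImplicit false
universe u
open SpinCurv

namespace Groth.Agent.S18429

/-- Let n ≥ 1 and r ≥ 2 be integers and let e_0, …, e_{nr} be integers with e_0 = e_{nr} = 0 (the
coefficients of a chain of nr - 1 exceptional curves joining two non-exceptional components with
coefficient zero) such that at every interior index 1 ≤ j ≤ nr - 1 the second difference e_{j-1} - 2
e_j + e_{j+1} (the degree of the divisor Σ e_i E_i on the j-th curve of the chain) is divisible by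
r. Then there are integers e'_0, …, e'_{nr}, with e'_j ≡ e_j modulo r for every interior j, with
e'_0 = e'_{nr} = 0 and every e'_j ≤ 0, whose second differences at the interior indices are each 0
or r, and are nonzero at no two distinct interior indices. -/
theorem result (n r : ℕ) (hn : 1 ≤ n) (hr : 2 ≤ r)
    (e : ℕ → ℤ) (he0 : e 0 = 0) (henr : e (n * r) = 0)
    (hdiv : ∀ j : ℕ, 1 ≤ j → j < n * r → (r : ℤ) ∣ e (j - 1) - 2 * e j + e (j + 1)) :
    ∃ e' : ℕ → ℤ, e' 0 = 0 ∧ e' (n * r) = 0 ∧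
      (∀ j : ℕ, 1 ≤ j → j < n * r → (r : ℤ) ∣ e' j - e j) ∧
      (∀ j : ℕ, j ≤ n * r → e' j ≤ 0) ∧
      (∀ j : ℕ, 1 ≤ j → j < n * r →
        (e' (j - 1) - 2 * e' j + e' (j + 1) = 0 ∨ e' (j - 1) - 2 * e' j + e' (j + 1) = r)) ∧
      (∀ j j' : ℕ, 1 ≤ j → j < n * r → 1 ≤ j' → j' < n * r →
        e' (j - 1) - 2 * e' j + e' (j + 1) ≠ 0 → e' (j' - 1) - 2 * e' j' + e' (j' + 1) ≠ 0 → j = j') := by
  classical
  -- all first differences are congruent to the first one
  have key : ∀ j : ℕ, j < n * r → (r : ℤ) ∣ (e (j + 1) - e j) - (e 1 - e 0) := by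
    intro j
    induction j with
    | zero => intro _; simp
    | succ j ih =>
      intro hj
      have h1 := ih (by omega)
      have h2 := hdiv (j + 1) (by omega) hj
      have h3 : e (j + 1 + 1) - e (j + 1) - (e 1 - e 0)
          = (e (j + 1 - 1) - 2 * e (j + 1) + e (j + 1 + 1)) + ((e (j + 1) - e j) - (e 1 - e 0)) := by
        simp only [Nat.add_sub_cancel]; ring
      rw [h3]
      exact dvd_add h2 h1
  have sum : ∀ j : ℕ, j ≤ n * r → (r : ℤ) ∣ e j - (j : ℤ) * e 1 := by
    intro j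
    induction j with
    | zero => intro _; simp [he0]
    | succ j ih =>
      intro hj
      have h1 := ih (by omega)
      have h2 := key j (by omega)
      have h3 : e (j + 1) - ((j + 1 : ℕ) : ℤ) * e 1
          = ((e (j + 1) - e j) - (e 1 - e 0)) + (e j - (j : ℤ) * e 1) := by
        push_cast; rw [he0]; ring
      rw [h3]
      exact dvd_add h2 h1
  have hrpos : (0 : ℤ) < r := by exact_mod_cast (by omega : 0 < r)
  obtain ⟨a, ha0, har, hadvd⟩ : ∃ a : ℤ, 0 ≤ a ∧ a < r ∧ (r : ℤ) ∣ a + e 1 := by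
    refine ⟨(-(e 1)) % r, Int.emod_nonneg _ hrpos.ne', Int.emod_lt_of_pos _ hrpos, ?_⟩
    have := Int.emod_add_mul_ediv (-(e 1)) r
    exact ⟨-((-(e 1)) / r), by linarith⟩
  obtain ⟨j0, hj0⟩ : ∃ j0 : ℤ, j0 = n * (r - a) := ⟨_, rfl⟩
  have hj0nn : 0 ≤ j0 := by
    rw [hj0]; exact mul_nonneg (Int.natCast_nonneg n) (by linarith)
  obtain ⟨t, ht⟩ : ∃ t : ℕ → ℤ, ∀ j : ℕ, t j = max ((j : ℤ) - j0) 0 := ⟨_, fun _ => rfl⟩
  have ht_le : ∀ j : ℕ, (j : ℤ) ≤ j0 → t j = 0 := by
    intro j hj; rw [ht]; exact max_eq_right (by linarith)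
  have ht_ge : ∀ j : ℕ, j0 ≤ (j : ℤ) → t j = (j : ℤ) - j0 := by
    intro j hj; rw [ht]; exact max_eq_left (by linarith)
  -- second difference of t
  have ht2 : ∀ i : ℕ, t i - 2 * t (i + 1) + t (i + 2) = if ((i : ℤ) + 1 = j0) then 1 else 0 := by
    intro i
    rw [ht, ht, ht]
    push_cast
    simp only [max_def]
    split_ifs <;> omega
  -- second difference of e'
  have hsd : ∀ i : ℕ, (-a * (i : ℤ) + r * t i) - 2 * (-a * ((i + 1 : ℕ) : ℤ) + r * t (i + 1))
      + (-a * ((i + 1 + 1 : ℕ) : ℤ) + r * t (i + 1 + 1)) = if ((i : ℤ) + 1 = j0) then (r : ℤ) else 0 := by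
    intro i
    have h := ht2 i
    have : (-a * (i : ℤ) + r * t i) - 2 * (-a * ((i + 1 : ℕ) : ℤ) + r * t (i + 1))
      + (-a * ((i + 1 + 1 : ℕ) : ℤ) + r * t (i + 1 + 1)) = r * (t i - 2 * t (i + 1) + t (i + 2)) := by
      push_cast; ring
    rw [this, h]
    split_ifs <;> simp
  refine ⟨fun j => -a * (j : ℤ) + r * t j, ?_, ?_, ?_, ?_, ?_, ?_⟩
  · -- e' 0 = 0
    simp only [Nat.cast_zero, mul_zero, zero_add]
    rw [ht_le 0 (by simpa using hj0nn)]; simp
  · -- e' (n r) = 0
    have h1 : j0 ≤ ((n * r : ℕ) : ℤ) := by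
      rw [hj0]; push_cast
      have : (0 : ℤ) ≤ n * a := mul_nonneg (Int.natCast_nonneg n) ha0
      linarith
    simp only
    rw [ht_ge _ h1, hj0]; push_cast; ring
  · -- congruence
    intro j hj1 hj2
    have h1 := sum j (by omega)
    have : -a * (j : ℤ) + r * t j - e j = r * t j - (j : ℤ) * (a + e 1) - (e j - (j : ℤ) * e 1) := by
      ring
    simp only
    rw [this]
    exact dvd_sub (dvd_sub (dvd_mul_right _ _) (dvd_mul_of_dvd_right hadvd _)) h1
  · -- nonpositivity
    intro j hj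
    simp only
    rcases le_or_gt (j : ℤ) j0 with h | h
    · rw [ht_le j h]
      have : 0 ≤ a * (j : ℤ) := mul_nonneg ha0 (Int.natCast_nonneg j)
      linarith
    · rw [ht_ge j h.le, hj0]
      have h1 : -a * (j : ℤ) + r * ((j : ℤ) - n * (r - a)) = (r - a) * ((j : ℤ) - n * r) := by ring
      rw [h1]
      have h2 : (j : ℤ) - n * r ≤ 0 := by
        have : ((j : ℕ) : ℤ) ≤ ((n * r : ℕ) : ℤ) := by exact_mod_cast hj
        push_cast at this; linarith
      exact mul_nonpos_of_nonneg_of_nonpos (by linarith) h2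
  · -- second differences are 0 or r
    intro j hj1 hj2
    obtain ⟨i, rfl⟩ : ∃ i, j = i + 1 := ⟨j - 1, by omega⟩
    simp only [Nat.add_sub_cancel]
    rw [hsd i]
    split_ifs
    · right; rfl
    · left; rfl
  · -- at most one nonzero second difference
    intro j j' hj1 hj2 hj1' hj2' h h'
    obtain ⟨i, rfl⟩ : ∃ i, j = i + 1 := ⟨j - 1, by omega⟩
    obtain ⟨i', rfl⟩ : ∃ i', j' = i' + 1 := ⟨j' - 1, by omega⟩
    simp only [Nat.add_sub_cancel] at h h'
    rw [hsd i] at h
    rw [hsd i'] at h'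
    have e1 : (i : ℤ) + 1 = j0 := by
      by_contra hc; rw [if_neg hc] at h; exact h rfl
    have e2 : (i' : ℤ) + 1 = j0 := by
      by_contra hc; rw [if_neg hc] at h'; exact h' rfl
    have : (i : ℤ) = i' := by linarith
    have : i = i' := by exact_mod_cast this
    rw [this]

end Groth.Agent.S18429
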