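import Groth.Statements.S18431
import Mathlib.RingTheory.LocalRing.MaximalIdeal.Basic
import Mathlib.Algebra.Order.Ring.GeomSum
import Mathlib.Tactic
-- import your own Groth.Agent.* helpers here

set_option autoImplicit false
universe u
open SpinCurv

namespace Groth.Agent.S18431

/-- Let R be a Noetherian local ring in which the natural number r is invertible and let ξ, ζ ∈ R
satisfy ξ^r = 1 and ζ^r = 1. Then either ξ = ζ, or ξ - ζ is a unit of R. (Consequently an element of
R annihilated by ξ - ζ is zero unless ξ = ζ. In the published setting R is moreover complete; the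
step does not use completeness.) -/
theorem result (R : Type u) [CommRing R] [IsNoetherianRing R] [IsLocalRing R]
    (r : ℕ) (hr : IsUnit (r : R)) (ξ ζ : R) (hξ : ξ ^ r = 1) (hζ : ζ ^ r = 1) :
    ξ = ζ ∨ IsUnit (ξ - ζ) := by
  classical
  by_cases hu : IsUnit (ξ - ζ)
  · exact Or.inr hu
  left
  -- ξ - ζ lies in the maximal ideal
  have hmem : ξ - ζ ∈ IsLocalRing.maximalIdeal R := (IsLocalRing.mem_maximalIdeal _).2 hu
  have hr0 : r ≠ 0 := by
    rintro rfl
    simp at hr
  -- ζ is a unit
  have hζu : IsUnit ζ := IsUnit.of_pow_eq_one hζ hr0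
  -- the geometric sum
  set S : R := ∑ i ∈ Finset.range r, ξ ^ i * ζ ^ (r - 1 - i) with hS
  have hmul : S * (ξ - ζ) = 0 := by
    rw [hS, (Commute.all ξ ζ).geom_sum₂_mul, hξ, hζ, sub_self]
  -- S ≡ r ζ^(r-1) mod m
  have hcong : S - (r : R) * ζ ^ (r - 1) ∈ IsLocalRing.maximalIdeal R := by
    have : S - (r : R) * ζ ^ (r - 1) = ∑ i ∈ Finset.range r, (ξ ^ i * ζ ^ (r - 1 - i) - ζ ^ (r - 1)) := by
      rw [Finset.sum_sub_distrib, Finset.sum_const, Finset.card_range, nsmul_eq_mul]
    rw [this]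
    refine Ideal.sum_mem _ fun i hi => ?_
    have hi' : i < r := Finset.mem_range.1 hi
    have h1 : ζ ^ (r - 1) = ζ ^ i * ζ ^ (r - 1 - i) := by
      rw [← pow_add]; congr 1; omega
    rw [h1, ← sub_mul]
    refine Ideal.mul_mem_right _ _ ?_
    have : ξ - ζ ∣ ξ ^ i - ζ ^ i := sub_dvd_pow_sub_pow ξ ζ i
    obtain ⟨c, hc⟩ := this
    rw [hc]
    exact Ideal.mul_mem_right _ _ hmem
  have hSu : IsUnit S := by
    have hunit : IsUnit ((r : R) * ζ ^ (r - 1)) := hr.mul (hζu.pow _)
    by_contra hns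
    have hSm : S ∈ IsLocalRing.maximalIdeal R := (IsLocalRing.mem_maximalIdeal _).2 hns
    have : (r : R) * ζ ^ (r - 1) ∈ IsLocalRing.maximalIdeal R := by
      have := Ideal.sub_mem _ hSm hcong
      simpa using this
    exact (IsLocalRing.mem_maximalIdeal _).1 this hunit
  have := hSu.mul_right_eq_zero.1 hmul
  exact sub_eq_zero.1 this

end Groth.Agent.S18431
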