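import Groth.Statements.S18433
import Groth.Agent.Lib.Helper76.NodeNF

set_option autoImplicit false
universe u
open SpinCurv

namespace Groth.Agent.S18433

/-- Let R be a complete Noetherian local ring, p, q elements of its maximal ideal, A = R[[x, y]]/(xy -
pq), and α(p, q) the endomorphism (a, b) ↦ (x a + p b, q a + y b) of A². Restrict α(p, q) to pairs
(f, g) with f a power series in x alone and g a power series in y alone: the resulting map R[[x]] ×
R[[y]] → A², (f, g) ↦ (x f + p g, q f + y g), is injective and has the same image as α(p, q). Thus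
the image E(p, q) of α(p, q) is identified, R-linearly, with R[[x]] ⊕ R[[y]]. -/
theorem result (R : Type u) [CommRing R] [IsNoetherianRing R] [IsLocalRing R]
    [IsAdicComplete (IsLocalRing.maximalIdeal R) R]
    (p q : R) (hp : p ∈ IsLocalRing.maximalIdeal R) (hq : q ∈ IsLocalRing.maximalIdeal R) :
    Function.Injective (fun fg : PowerSeries R × PowerSeries R =>
        Matrix.mulVec (SpinCurv.nodeAlpha R p q)
          ![SpinCurv.NodeRing.ofX R (p * q) fg.1, SpinCurv.NodeRing.ofY R (p * q) fg.2]) ∧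
    Set.range (fun fg : PowerSeries R × PowerSeries R =>
        Matrix.mulVec (SpinCurv.nodeAlpha R p q)
          ![SpinCurv.NodeRing.ofX R (p * q) fg.1, SpinCurv.NodeRing.ofY R (p * q) fg.2]) =
      Set.range (Matrix.mulVec (SpinCurv.nodeAlpha R p q)) := by
  constructor
  · intro fg fg' h
    have h' : Matrix.mulVec (SpinCurv.nodeAlpha R p q)
        ![SpinCurv.NodeRing.ofX R (p * q) (fg.1 - fg'.1),
          SpinCurv.NodeRing.ofY R (p * q) (fg.2 - fg'.2)] = 0 := by
      have h2 : (![SpinCurv.NodeRing.ofX R (p * q) (fg.1 - fg'.1),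
          SpinCurv.NodeRing.ofY R (p * q) (fg.2 - fg'.2)] : Fin 2 → SpinCurv.NodeRing R (p * q)) =
          ![SpinCurv.NodeRing.ofX R (p * q) fg.1, SpinCurv.NodeRing.ofY R (p * q) fg.2] -
          ![SpinCurv.NodeRing.ofX R (p * q) fg'.1, SpinCurv.NodeRing.ofY R (p * q) fg'.2] := by
        rw [Groth.Agent.Lib.Helper76.NodeNF.ofX_sub, Groth.Agent.Lib.Helper76.NodeNF.ofY_sub]
        funext i
        fin_cases i <;> rfl
      rw [h2, Matrix.mulVec_sub]
      exact sub_eq_zero.mpr h
    obtain ⟨h1, h2⟩ := Groth.Agent.Lib.Helper76.NodeNF.alpha_injective R p q hq _ _ h'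
    exact Prod.ext (sub_eq_zero.mp h1) (sub_eq_zero.mp h2)
  · ext w
    constructor
    · rintro ⟨fg, rfl⟩
      exact ⟨_, rfl⟩
    · rintro ⟨v, rfl⟩
      obtain ⟨f, g, a, b, hv⟩ := Groth.Agent.Lib.Helper76.NodeNF.alpha_reduce R p q hq v
      refine ⟨(f, g), ?_⟩
      show Matrix.mulVec (SpinCurv.nodeAlpha R p q)
        ![SpinCurv.NodeRing.ofX R (p * q) f, SpinCurv.NodeRing.ofY R (p * q) g] = _
      rw [hv, Matrix.mulVec_add, Matrix.mulVec_add, Matrix.mulVec_smul, Matrix.mulVec_smul,
        Groth.Agent.Lib.Helper76.NodeNF.alpha_gen1, Groth.Agent.Lib.Helper76.NodeNF.alpha_gen2,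
        smul_zero, smul_zero, add_zero, add_zero]

end Groth.Agent.S18433
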