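import Groth.Statements.S18435


set_option autoImplicit false
universe u
open SpinCurv

namespace Groth.Agent.S18435

open Polynomial LaurentPolynomial

section aux

variable (k : Type u) [Field k]

/-- The defining ideal of `k[x,y]/(xy)`. -/
noncomputable abbrev nodeIdeal : Ideal (MvPolynomial (Fin 2) k) :=
  Ideal.span {(MvPolynomial.X 0 * MvPolynomial.X 1 - MvPolynomial.C 0 : MvPolynomial (Fin 2) k)}

/-- evaluation `x ↦ X, y ↦ 0`. -/
noncomputable def evU : MvPolynomial (Fin 2) k →ₐ[k] k[X] :=
  MvPolynomial.aeval ![Polynomial.X, 0]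

/-- evaluation `x ↦ 0, y ↦ X`. -/
noncomputable def evV : MvPolynomial (Fin 2) k →ₐ[k] k[X] :=
  MvPolynomial.aeval ![0, Polynomial.X]

lemma evU_mem (a : MvPolynomial (Fin 2) k) (ha : a ∈ nodeIdeal k) : evU k a = 0 := by
  obtain ⟨c, rfl⟩ := Ideal.mem_span_singleton'.mp ha
  simp [evU]

lemma evV_mem (a : MvPolynomial (Fin 2) k) (ha : a ∈ nodeIdeal k) : evV k a = 0 := by
  obtain ⟨c, rfl⟩ := Ideal.mem_span_singleton'.mp ha
  simp [evV]

/-- `ψU : k[x,y]/(xy) → k[X]`, `x ↦ X, y ↦ 0`. -/
noncomputable def psiU : SpinCurv.PolyNodeRing k 0 →ₐ[k] k[X] :=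
  Ideal.Quotient.liftₐ (nodeIdeal k) (evU k) (evU_mem k)

/-- `ψV : k[x,y]/(xy) → k[X]`, `x ↦ 0, y ↦ X`. -/
noncomputable def psiV : SpinCurv.PolyNodeRing k 0 →ₐ[k] k[X] :=
  Ideal.Quotient.liftₐ (nodeIdeal k) (evV k) (evV_mem k)

@[simp] lemma psiU_mk (H : MvPolynomial (Fin 2) k) :
    psiU k (Ideal.Quotient.mk (nodeIdeal k) H) = evU k H := rfl

@[simp] lemma psiV_mk (H : MvPolynomial (Fin 2) k) :
    psiV k (Ideal.Quotient.mk (nodeIdeal k) H) = evV k H := rfl

lemma psiU_x : psiU k (SpinCurv.PolyNodeRing.x k 0) = Polynomial.X := by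
  simp [SpinCurv.PolyNodeRing.x, evU]

lemma psiU_y : psiU k (SpinCurv.PolyNodeRing.y k 0) = 0 := by
  simp [SpinCurv.PolyNodeRing.y, evU]

lemma psiV_x : psiV k (SpinCurv.PolyNodeRing.x k 0) = 0 := by
  simp [SpinCurv.PolyNodeRing.x, evV]

lemma psiV_y : psiV k (SpinCurv.PolyNodeRing.y k 0) = Polynomial.X := by
  simp [SpinCurv.PolyNodeRing.y, evV]

/-- Algebra maps out of `k[x,y]/(xy)` are determined by the images of `x` and `y`. -/
lemma node_algHom_ext {B : Type*} [Semiring B] [Algebra k B]
    (φ ψ : SpinCurv.PolyNodeRing k 0 →ₐ[k] B)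
    (hx : φ (SpinCurv.PolyNodeRing.x k 0) = ψ (SpinCurv.PolyNodeRing.x k 0))
    (hy : φ (SpinCurv.PolyNodeRing.y k 0) = ψ (SpinCurv.PolyNodeRing.y k 0)) : φ = ψ := by
  apply Ideal.Quotient.algHom_ext
  apply MvPolynomial.algHom_ext
  intro i
  fin_cases i
  · exact hx
  · exact hy

/-- `X 1 ∣ H - H(x,0)`. -/
lemma X1_dvd_sub (H : MvPolynomial (Fin 2) k) :
    (MvPolynomial.X 1 : MvPolynomial (Fin 2) k) ∣
      H - MvPolynomial.aeval (![MvPolynomial.X 0, 0] : Fin 2 → MvPolynomial (Fin 2) k) H := by
  induction H using MvPolynomial.induction_on with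
  | C a => simp
  | add p q hp hq =>
    rw [map_add, add_sub_add_comm]
    exact dvd_add hp hq
  | mul_X p i hp =>
    fin_cases i
    · rw [map_mul]
      simp only [MvPolynomial.aeval_X, Fin.zero_eta, Matrix.cons_val_zero]
      rw [← sub_mul]
      exact Dvd.dvd.mul_right hp _
    · rw [map_mul]
      simp only [MvPolynomial.aeval_X, Fin.mk_one, Matrix.cons_val_one, Matrix.cons_val_zero,
        mul_zero, sub_zero]
      exact Dvd.intro_left _ rfl

/-- `X 0 ∣ H - H(0,y)`. -/
lemma X0_dvd_sub (H : MvPolynomial (Fin 2) k) :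
    (MvPolynomial.X 0 : MvPolynomial (Fin 2) k) ∣
      H - MvPolynomial.aeval (![0, MvPolynomial.X 1] : Fin 2 → MvPolynomial (Fin 2) k) H := by
  induction H using MvPolynomial.induction_on with
  | C a => simp
  | add p q hp hq =>
    rw [map_add, add_sub_add_comm]
    exact dvd_add hp hq
  | mul_X p i hp =>
    fin_cases i
    · rw [map_mul]
      simp only [MvPolynomial.aeval_X, Fin.zero_eta, Matrix.cons_val_zero, mul_zero, sub_zero]
      exact Dvd.intro_left _ rfl
    · rw [map_mul]
      simp only [MvPolynomial.aeval_X, Fin.mk_one, Matrix.cons_val_one, Matrix.cons_val_zero]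
      rw [← sub_mul]
      exact Dvd.dvd.mul_right hp _

lemma aeval_X0_comp_evU (H : MvPolynomial (Fin 2) k) :
    MvPolynomial.aeval (![MvPolynomial.X 0, 0] : Fin 2 → MvPolynomial (Fin 2) k) H =
      Polynomial.aeval (MvPolynomial.X 0 : MvPolynomial (Fin 2) k) (evU k H) := by
  have : (MvPolynomial.aeval (![MvPolynomial.X 0, 0] : Fin 2 → MvPolynomial (Fin 2) k)) =
      (Polynomial.aeval (MvPolynomial.X 0 : MvPolynomial (Fin 2) k)).comp (evU k) := by
    apply MvPolynomial.algHom_ext
    intro i
    fin_cases i <;> simp [evU]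
  rw [this]; rfl

lemma aeval_X1_comp_evV (H : MvPolynomial (Fin 2) k) :
    MvPolynomial.aeval (![0, MvPolynomial.X 1] : Fin 2 → MvPolynomial (Fin 2) k) H =
      Polynomial.aeval (MvPolynomial.X 1 : MvPolynomial (Fin 2) k) (evV k H) := by
  have : (MvPolynomial.aeval (![0, MvPolynomial.X 1] : Fin 2 → MvPolynomial (Fin 2) k)) =
      (Polynomial.aeval (MvPolynomial.X 1 : MvPolynomial (Fin 2) k)).comp (evV k) := by
    apply MvPolynomial.algHom_ext
    intro i
    fin_cases i <;> simp [evV]
  rw [this]; rfl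

/-- Joint injectivity of `(evU, evV)` modulo `(xy)`. -/
lemma mem_nodeIdeal_of_ev (H : MvPolynomial (Fin 2) k) (hU : evU k H = 0) (hV : evV k H = 0) :
    H ∈ nodeIdeal k := by
  have h1 := X1_dvd_sub k H
  rw [aeval_X0_comp_evU, hU, map_zero, sub_zero] at h1
  obtain ⟨H', rfl⟩ := h1
  have hV' : evV k H' = 0 := by
    have : evV k (MvPolynomial.X 1 * H') = Polynomial.X * evV k H' := by
      simp [evV]
    rw [this] at hV
    exact (mul_eq_zero.mp hV).resolve_left Polynomial.X_ne_zero
  have h0 := X0_dvd_sub k H'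
  rw [aeval_X1_comp_evV, hV', map_zero, sub_zero] at h0
  obtain ⟨H'', rfl⟩ := h0
  rw [Ideal.mem_span_singleton']
  refine ⟨H'', ?_⟩
  simp only [map_zero, sub_zero]
  ring

lemma node_eq_zero (h : SpinCurv.PolyNodeRing k 0) (hU : psiU k h = 0) (hV : psiV k h = 0) :
    h = 0 := by
  obtain ⟨H, rfl⟩ := Ideal.Quotient.mk_surjective h
  rw [psiU_mk] at hU
  rw [psiV_mk] at hV
  exact Ideal.Quotient.eq_zero_iff_mem.mpr (mem_nodeIdeal_of_ev k H hU hV)

/-- truncation of an inverted polynomial keeps only the constant term. -/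
lemma trunc_invert_toLaurent (p : k[X]) :
    LaurentPolynomial.trunc (LaurentPolynomial.invert (Polynomial.toLaurent p)) =
      Polynomial.C (p.coeff 0) := by
  induction p using Polynomial.induction_on' with
  | add p q hp hq => simp only [map_add, hp, hq, Polynomial.coeff_add]
  | monomial n a =>
    rw [← Polynomial.C_mul_X_pow_eq_monomial, Polynomial.toLaurent_C_mul_X_pow, map_mul,
      LaurentPolynomial.invert_C, LaurentPolynomial.invert_T, LaurentPolynomial.trunc_C_mul_T]
    rcases Nat.eq_zero_or_pos n with rfl | hn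
    · simp
    · have : ¬ (0 : ℤ) ≤ -(n : ℤ) := by omega
      rw [if_neg this]
      simp [Polynomial.coeff_X_pow, hn.ne]

end aux


/-- Let k be a field and A = k[x, y]/(xy) the node, with the two affine charts U = Spec k[s, y]/(sy) and
V = Spec k[t, x]/(tx) of the curve obtained by the (p, q)-construction with p = q = 0, glued along
k[s, s⁻¹] by t = s⁻¹ (y ↦ 0 from U, x ↦ 0 from V), and with A → O(U) given by x ↦ 0, y ↦ y and A →
O(V) by x ↦ x, y ↦ 0. A global section of O(1) is a pair (g, f) with g = s f on U ∩ V. If such a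
pair is annihilated by both x and y (acting through the two restriction maps), then g = 0 and f = 0;
so the module of global sections of O(1) has no nonzero element killed by the maximal ideal (x, y),
i.e. its direct image on the node is torsion-free there. All three coordinate rings are written as
the quotient of the polynomial ring in two variables by the product of the variables, and the four
restriction homomorphisms are k-algebra maps pinned by their values on generators. (The published
proof reduces the torsion-freeness of the direct image of O(1), for general R, p, q, to exactly this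
case of a field with p = q = 0.) -/
theorem result (k : Type u) [Field k]
    (rU : SpinCurv.PolyNodeRing k 0 →ₐ[k] SpinCurv.PolyNodeRing k 0)
    (hrUx : rU (SpinCurv.PolyNodeRing.x k 0) = 0)
    (hrUy : rU (SpinCurv.PolyNodeRing.y k 0) = SpinCurv.PolyNodeRing.y k 0)
    (rV : SpinCurv.PolyNodeRing k 0 →ₐ[k] SpinCurv.PolyNodeRing k 0)
    (hrVx : rV (SpinCurv.PolyNodeRing.x k 0) = SpinCurv.PolyNodeRing.y k 0)
    (hrVy : rV (SpinCurv.PolyNodeRing.y k 0) = 0)
    (gU : SpinCurv.PolyNodeRing k 0 →ₐ[k] LaurentPolynomial k)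
    (hgUs : gU (SpinCurv.PolyNodeRing.x k 0) = LaurentPolynomial.T 1)
    (hgUy : gU (SpinCurv.PolyNodeRing.y k 0) = 0)
    (gV : SpinCurv.PolyNodeRing k 0 →ₐ[k] LaurentPolynomial k)
    (hgVt : gV (SpinCurv.PolyNodeRing.x k 0) = LaurentPolynomial.T (-1))
    (hgVx : gV (SpinCurv.PolyNodeRing.y k 0) = 0)
    (g f : SpinCurv.PolyNodeRing k 0) (hsec : gU g = LaurentPolynomial.T 1 * gV f)
    (hx : rU (SpinCurv.PolyNodeRing.x k 0) * g = 0 ∧ rV (SpinCurv.PolyNodeRing.x k 0) * f = 0)
    (hy : rU (SpinCurv.PolyNodeRing.y k 0) * g = 0 ∧ rV (SpinCurv.PolyNodeRing.y k 0) * f = 0) :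
    g = 0 ∧ f = 0 := by
  -- the hypotheses reduce to `y * f = 0`, `y * g = 0`
  have hyf : SpinCurv.PolyNodeRing.y k 0 * f = 0 := by
    have := hx.2; rwa [hrVx] at this
  have hyg : SpinCurv.PolyNodeRing.y k 0 * g = 0 := by
    have := hy.1; rwa [hrUy] at this
  -- identify `gU`, `gV`
  have hgU : ∀ h, gU h = Polynomial.toLaurent (psiU k h) := by
    have : gU = (Polynomial.toLaurentAlg).comp (psiU k) := by
      apply node_algHom_ext
      · show gU _ = Polynomial.toLaurentAlg (psiU k _)
        rw [hgUs, psiU_x, Polynomial.toLaurentAlg_apply, Polynomial.toLaurent_X]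
      · show gU _ = Polynomial.toLaurentAlg (psiU k _)
        rw [hgUy, psiU_y, map_zero]
    intro h; rw [this]; rfl
  have hgV : ∀ h, gV h = LaurentPolynomial.invert (Polynomial.toLaurent (psiU k h)) := by
    have : gV = (LaurentPolynomial.invert (R := k)).toAlgHom.comp
        ((Polynomial.toLaurentAlg).comp (psiU k)) := by
      apply node_algHom_ext
      · show gV _ = LaurentPolynomial.invert (Polynomial.toLaurentAlg (psiU k _))
        rw [hgVt, psiU_x, Polynomial.toLaurentAlg_apply, Polynomial.toLaurent_X,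
          LaurentPolynomial.invert_T]
      · show gV _ = LaurentPolynomial.invert (Polynomial.toLaurentAlg (psiU k _))
        rw [hgVx, psiU_y, map_zero, map_zero]
    intro h; rw [this]; rfl
  -- `ψV` kills `g` and `f`
  have hVg : psiV k g = 0 := by
    have := congrArg (psiV k) hyg
    have h0 : psiV k (0 : SpinCurv.PolyNodeRing k 0) = 0 := map_zero _
    rw [map_mul, psiV_y, h0] at this
    exact (mul_eq_zero.mp this).resolve_left Polynomial.X_ne_zero
  have hVf : psiV k f = 0 := by
    have := congrArg (psiV k) hyf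
    have h0 : psiV k (0 : SpinCurv.PolyNodeRing k 0) = 0 := map_zero _
    rw [map_mul, psiV_y, h0] at this
    exact (mul_eq_zero.mp this).resolve_left Polynomial.X_ne_zero
  -- constant terms
  have hconst : ∀ h, (psiU k h).coeff 0 = (psiV k h).coeff 0 := by
    have : (Polynomial.aeval (0 : k)).comp (psiU k) = (Polynomial.aeval (0 : k)).comp (psiV k) := by
      apply node_algHom_ext
      · show Polynomial.aeval (0 : k) (psiU k _) = Polynomial.aeval (0 : k) (psiV k _)
        rw [psiU_x, psiV_x]; simp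
      · show Polynomial.aeval (0 : k) (psiU k _) = Polynomial.aeval (0 : k) (psiV k _)
        rw [psiU_y, psiV_y]; simp
    intro h
    have := DFunLike.congr_fun this h
    rw [Polynomial.coeff_zero_eq_aeval_zero, Polynomial.coeff_zero_eq_aeval_zero]
    exact this
  have ha0 : (psiU k g).coeff 0 = 0 := by rw [hconst, hVg]; simp
  have hb0 : (psiU k f).coeff 0 = 0 := by rw [hconst, hVf]; simp
  obtain ⟨b', hb'⟩ := Polynomial.X_dvd_iff.mpr hb0
  -- the gluing condition
  have hsec' : Polynomial.toLaurent (psiU k g) =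
      LaurentPolynomial.invert (Polynomial.toLaurent b') := by
    rw [hgU, hgV, hb', map_mul, map_mul, Polynomial.toLaurent_X, LaurentPolynomial.invert_T,
      ← mul_assoc, ← LaurentPolynomial.T_add] at hsec
    simpa using hsec
  have hA : psiU k g = Polynomial.C (b'.coeff 0) := by
    have := congrArg LaurentPolynomial.trunc hsec'
    rwa [Polynomial.trunc_toLaurent, trunc_invert_toLaurent] at this
  have hc : b'.coeff 0 = 0 := by
    rw [hA] at ha0; simpa using ha0
  have hUg : psiU k g = 0 := by rw [hA, hc, map_zero]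
  have hb'0 : b' = 0 := by
    rw [hUg, map_zero] at hsec'
    have := (LaurentPolynomial.invert (R := k)).injective (hsec'.symm.trans (map_zero _).symm)
    exact Polynomial.toLaurent_eq_zero.mp this
  have hUf : psiU k f = 0 := by rw [hb', hb'0, mul_zero]
  exact ⟨node_eq_zero k g hUg hVg, node_eq_zero k f hUf hVf⟩

end Groth.Agent.S18435
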