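import Groth.Statements.S18436
import Mathlib
-- import your own Groth.Agent.* helpers here

set_option autoImplicit false
universe u
open SpinCurv

namespace Groth.Agent.S18436

section PRE
open LaurentPolynomial

variable {R : Type u} [CommRing R] (π : R)

lemma xy_eq : SpinCurv.PolyNodeRing.x R π * SpinCurv.PolyNodeRing.y R π =
    algebraMap R (SpinCurv.PolyNodeRing R π) π := by
  have h : (MvPolynomial.X 0 * MvPolynomial.X 1 - MvPolynomial.C π : MvPolynomial (Fin 2) R) ∈
      Ideal.span {(MvPolynomial.X 0 * MvPolynomial.X 1 - MvPolynomial.C π : MvPolynomial (Fin 2) R)} :=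
    Ideal.subset_span rfl
  have h2 := (Ideal.Quotient.eq).mpr h
  rw [map_mul] at h2
  exact h2

lemma smul_eq' (r : R) (v : SpinCurv.PolyNodeRing R π) :
    r • v = algebraMap R (SpinCurv.PolyNodeRing R π) r * v := Algebra.smul_def r v

/-- the basis elements `x^k` (k ≥ 0), `y^(-k)` (k < 0) -/
noncomputable def bas (k : ℤ) : SpinCurv.PolyNodeRing R π :=
  SpinCurv.PolyNodeRing.x R π ^ k.toNat * SpinCurv.PolyNodeRing.y R π ^ (-k).toNat

/-- the parametrisation by Laurent coefficient vectors -/
noncomputable def iota : (ℤ →₀ R) →ₗ[R] SpinCurv.PolyNodeRing R π :=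
  Finsupp.linearCombination R (bas π)

lemma iota_single (k : ℤ) (r : R) : iota π (Finsupp.single k r) = r • bas π k := by
  simp [iota]

lemma x_mul_bas (k : ℤ) : SpinCurv.PolyNodeRing.x R π * bas π k ∈ LinearMap.range (iota π) := by
  by_cases hk : 0 ≤ k
  · refine ⟨Finsupp.single (k + 1) 1, ?_⟩
    rw [iota_single, one_smul, bas, bas]
    have h1 : (k + 1).toNat = k.toNat + 1 := by omega
    have h2 : (-(k + 1)).toNat = 0 := by omega
    have h3 : (-k).toNat = 0 := by omega
    rw [h1, h2, h3, pow_succ]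
    ring
  · refine ⟨Finsupp.single (k + 1) π, ?_⟩
    rw [iota_single, bas, bas]
    have h1 : (k + 1).toNat = 0 := by omega
    have h2 : (-k).toNat = (-(k + 1)).toNat + 1 := by omega
    have h3 : k.toNat = 0 := by omega
    rw [h1, h2, h3, pow_succ, pow_zero, one_mul, one_mul, smul_eq', ← xy_eq]
    ring

lemma y_mul_bas (k : ℤ) : SpinCurv.PolyNodeRing.y R π * bas π k ∈ LinearMap.range (iota π) := by
  by_cases hk : k ≤ 0
  · refine ⟨Finsupp.single (k - 1) 1, ?_⟩
    rw [iota_single, one_smul, bas, bas]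
    have h1 : (k - 1).toNat = 0 := by omega
    have h2 : (-(k - 1)).toNat = (-k).toNat + 1 := by omega
    have h3 : k.toNat = 0 := by omega
    rw [h1, h2, h3, pow_succ]
    ring
  · refine ⟨Finsupp.single (k - 1) π, ?_⟩
    rw [iota_single, bas, bas]
    have h1 : (-(k - 1)).toNat = 0 := by omega
    have h2 : k.toNat = (k - 1).toNat + 1 := by omega
    have h3 : (-k).toNat = 0 := by omega
    rw [h1, h2, h3, pow_succ, pow_zero, mul_one, mul_one, smul_eq', ← xy_eq]
    ring

lemma mul_mem_range (a : SpinCurv.PolyNodeRing R π)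
    (ha : ∀ k, a * bas π k ∈ LinearMap.range (iota π))
    (v : SpinCurv.PolyNodeRing R π) (hv : v ∈ LinearMap.range (iota π)) :
    a * v ∈ LinearMap.range (iota π) := by
  obtain ⟨z, rfl⟩ := hv
  induction z using Finsupp.induction_linear with
  | zero => simp
  | add z w hz hw =>
    rw [map_add, mul_add]
    exact Submodule.add_mem _ hz hw
  | single k r =>
    rw [iota_single, mul_smul_comm]
    exact Submodule.smul_mem _ _ (ha k)

lemma iota_surjective : Function.Surjective (iota π) := by
  intro v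
  obtain ⟨f, rfl⟩ := Ideal.Quotient.mk_surjective v
  change _ ∈ LinearMap.range (iota π)
  induction f using MvPolynomial.induction_on with
  | C a =>
    refine ⟨Finsupp.single 0 a, ?_⟩
    rw [iota_single, bas, smul_eq']
    simp
    rfl
  | add f g hf hg =>
    rw [map_add]
    exact Submodule.add_mem _ hf hg
  | mul_X f i hf =>
    have hmul : (Ideal.Quotient.mk (Ideal.span {(MvPolynomial.X 0 * MvPolynomial.X 1 - MvPolynomial.C π :
        MvPolynomial (Fin 2) R)}) (f * MvPolynomial.X i) : SpinCurv.PolyNodeRing R π) =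
        Ideal.Quotient.mk _ (MvPolynomial.X i) * Ideal.Quotient.mk _ f := by
      rw [← map_mul, mul_comm f]
    rw [hmul]
    fin_cases i
    · exact mul_mem_range π _ (x_mul_bas π) _ hf
    · exact mul_mem_range π _ (y_mul_bas π) _ hf


lemma int_toNat_sub (k : ℤ) : ((k.toNat : ℤ) - ((-k).toNat : ℤ)) = k := by omega

lemma map_bas (g : SpinCurv.PolyNodeRing R π →ₐ[R] LaurentPolynomial R) (a b : R)
    (hx : g (SpinCurv.PolyNodeRing.x R π) = C a * T 1)
    (hy : g (SpinCurv.PolyNodeRing.y R π) = C b * T (-1)) (k : ℤ) :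
    g (bas π k) = C (a ^ k.toNat * b ^ (-k).toNat) * T k := by
  rw [bas, map_mul, map_pow, map_pow, hx, hy, mul_pow, mul_pow, T_pow, T_pow, ← map_pow, ← map_pow,
    map_mul]
  have : (T (↑k.toNat * 1) : LaurentPolynomial R) * T (↑(-k).toNat * -1) = T k := by
    rw [← T_add]
    congr 1
    omega
  rw [← this]
  ring

lemma coeff_map_iota (g : SpinCurv.PolyNodeRing R π →ₐ[R] LaurentPolynomial R) (a b : R)
    (hx : g (SpinCurv.PolyNodeRing.x R π) = C a * T 1)
    (hy : g (SpinCurv.PolyNodeRing.y R π) = C b * T (-1)) (z : ℤ →₀ R) (k : ℤ) :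
    (g (iota π z)).coeff k = a ^ k.toNat * b ^ (-k).toNat * z k := by
  induction z using Finsupp.induction_linear with
  | zero => simp
  | add z w hz hw =>
    rw [map_add, map_add, AddMonoidAlgebra.coeff_add, Finsupp.add_apply, Finsupp.add_apply, hz, hw,
      mul_add]
  | single j r =>
    rw [iota_single, map_smul, map_bas π g a b hx hy, AddMonoidAlgebra.coeff_smul_apply,
      ← single_eq_C_mul_T, AddMonoidAlgebra.coeff_single]
    by_cases hjk : j = k
    · subst hjk
      simp [mul_comm]
    · simp [hjk]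

/-- the algebra maps `x ↦ a T`, `y ↦ b T⁻¹` for `a b = π` -/
noncomputable def phi (a b : R) (hab : a * b = π) :
    SpinCurv.PolyNodeRing R π →ₐ[R] LaurentPolynomial R :=
  Ideal.Quotient.liftₐ _ (MvPolynomial.aeval ![C a * T 1, C b * T (-1)]) (by
    intro f hf
    obtain ⟨c, rfl⟩ := Ideal.mem_span_singleton'.mp hf
    rw [map_mul, map_sub, map_mul, MvPolynomial.aeval_X, MvPolynomial.aeval_X, MvPolynomial.aeval_C]
    have : (![C a * T 1, C b * T (-1)] 0 : LaurentPolynomial R) * ![C a * T 1, C b * T (-1)] 1 =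
        algebraMap R (LaurentPolynomial R) π := by
      simp only [Matrix.cons_val_zero, Matrix.cons_val_one]
      rw [mul_mul_mul_comm, ← T_add, ← map_mul, hab, C_eq_algebraMap]
      simp
    rw [this, sub_self, mul_zero])

lemma phi_x (a b : R) (hab : a * b = π) :
    phi π a b hab (SpinCurv.PolyNodeRing.x R π) = C a * T 1 := by
  show Ideal.Quotient.liftₐ _ _ _ (Ideal.Quotient.mk _ _) = _
  rw [Ideal.Quotient.liftₐ_apply, Ideal.Quotient.lift_mk]
  simp

lemma phi_y (a b : R) (hab : a * b = π) :
    phi π a b hab (SpinCurv.PolyNodeRing.y R π) = C b * T (-1) := by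
  show Ideal.Quotient.liftₐ _ _ _ (Ideal.Quotient.mk _ _) = _
  rw [Ideal.Quotient.liftₐ_apply, Ideal.Quotient.lift_mk]
  simp

lemma iota_injective : Function.Injective (iota π) := by
  rw [← LinearMap.ker_eq_bot, LinearMap.ker_eq_bot']
  intro z hz
  ext k
  have h1 := coeff_map_iota π (phi π 1 π (one_mul π)) 1 π (phi_x π _ _ _) (phi_y π _ _ _) z k
  have h2 := coeff_map_iota π (phi π π 1 (mul_one π)) π 1 (phi_x π _ _ _) (phi_y π _ _ _) z k
  rw [hz, map_zero, AddMonoidAlgebra.coeff_zero, Finsupp.zero_apply] at h1 h2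
  by_cases hk : 0 ≤ k
  · have : (-k).toNat = 0 := by omega
    rw [this] at h1
    simpa using h1.symm
  · have : k.toNat = 0 := by omega
    rw [this] at h2
    simpa using h2.symm

/-- the `R`-linear isomorphism with Laurent coefficient vectors -/
noncomputable def iotaEquiv : (ℤ →₀ R) ≃ₗ[R] SpinCurv.PolyNodeRing R π :=
  LinearEquiv.ofBijective (iota π) ⟨iota_injective π, iota_surjective π⟩


/-- diagonal operator -/
noncomputable def diag (c : ℤ → R) : (ℤ →₀ R) →ₗ[R] (ℤ →₀ R) where
  toFun z := Finsupp.onFinset z.support (fun k => c k * z k) (by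
    intro k hk
    rw [Finsupp.mem_support_iff]
    intro h
    exact hk (by rw [h, mul_zero]))
  map_add' z w := by
    ext k
    simp [mul_add]
  map_smul' r z := by
    ext k
    simp [mul_left_comm]

lemma diag_apply (c : ℤ → R) (z : ℤ →₀ R) (k : ℤ) : diag c z k = c k * z k := rfl

/-- reflection `k ↦ n - k` -/
noncomputable def refl (n : ℤ) : (ℤ →₀ R) ≃ₗ[R] (ℤ →₀ R) := Finsupp.domLCongr (Equiv.subLeft n)

lemma refl_apply (n : ℤ) (z : ℤ →₀ R) (k : ℤ) : refl n z k = z (n - k) := by
  simp [refl, Finsupp.domLCongr_apply, Finsupp.domCongr_apply, Finsupp.equivMapDomain_apply]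
  congr 1
  ring

section main
variable (p q : R)
    (gU : SpinCurv.PolyNodeRing R q →ₐ[R] LaurentPolynomial R)
    (hgUs : gU (SpinCurv.PolyNodeRing.x R q) = LaurentPolynomial.T 1)
    (hgUy : gU (SpinCurv.PolyNodeRing.y R q) = LaurentPolynomial.C q * LaurentPolynomial.T (-1))
    (gV : SpinCurv.PolyNodeRing R p →ₐ[R] LaurentPolynomial R)
    (hgVt : gV (SpinCurv.PolyNodeRing.x R p) = LaurentPolynomial.T (-1))
    (hgVx : gV (SpinCurv.PolyNodeRing.y R p) = LaurentPolynomial.C p * LaurentPolynomial.T 1)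
    (n : ℤ)

include hgUs hgUy in
lemma coeff_gU (u : ℤ →₀ R) (k : ℤ) : (gU (iota q u)).coeff k = q ^ (-k).toNat * u k := by
  have := coeff_map_iota q gU 1 q (by rw [hgUs, map_one, one_mul]) hgUy u k
  rw [this, one_pow, one_mul]

include hgVt hgVx in
lemma coeff_gV (w : ℤ →₀ R) (k : ℤ) : (gV (iota p w)).coeff k = p ^ k.toNat * w (-k) := by
  have := coeff_map_iota p ((invert : LaurentPolynomial R ≃ₐ[R] LaurentPolynomial R).toAlgHom.comp gV)
    1 p (by simp [hgVt]) (by simp [hgVx]) w (-k)
  rw [one_pow, one_mul, neg_neg] at this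
  rw [← this]
  simp

/-- the linear map of the statement -/
noncomputable abbrev Lmap : (SpinCurv.PolyNodeRing R q × SpinCurv.PolyNodeRing R p) →ₗ[R] LaurentPolynomial R :=
  gU.toLinearMap.comp (LinearMap.fst R (SpinCurv.PolyNodeRing R q) (SpinCurv.PolyNodeRing R p)) -
    (LinearMap.mulLeft R (LaurentPolynomial.T n)).comp
      (gV.toLinearMap.comp (LinearMap.snd R (SpinCurv.PolyNodeRing R q) (SpinCurv.PolyNodeRing R p)))

include hgUs hgUy hgVt hgVx in
lemma Lmap_eq_zero_iff (u w : ℤ →₀ R) :
    Lmap p q gU gV n (iota q u, iota p w) = 0 ↔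
      ∀ k, q ^ (-k).toNat * u k = p ^ (k - n).toNat * w (n - k) := by
  have hL : Lmap p q gU gV n (iota q u, iota p w) = gU (iota q u) - T n * gV (iota p w) := rfl
  rw [hL, sub_eq_zero]
  constructor
  · intro h k
    have := congrArg (fun f => f.coeff k) h
    rw [coeff_gU q gU hgUs hgUy, T, AddMonoidAlgebra.coeff_single_mul_apply, one_mul,
      coeff_gV p gV hgVt hgVx] at this
    rw [this]
    congr 2 <;> ring_nf
  · intro h
    apply LaurentPolynomial.ext
    intro k
    rw [coeff_gU q gU hgUs hgUy, T, AddMonoidAlgebra.coeff_single_mul_apply, one_mul,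
      coeff_gV p gV hgVt hgVx, h k]
    congr 2 <;> ring_nf

/-- the parametrisation of the kernel -/
noncomputable def Psi : (ℤ →₀ R) →ₗ[R] (SpinCurv.PolyNodeRing R q × SpinCurv.PolyNodeRing R p) :=
  LinearMap.prod ((iota q).comp (diag (fun k => p ^ (k - n).toNat)))
    ((iota p).comp ((refl n).toLinearMap.comp (diag (fun k => q ^ (-k).toNat))))

lemma Psi_apply (z : ℤ →₀ R) : Psi p q n z =
    (iota q (diag (fun k => p ^ (k - n).toNat) z), iota p (refl n (diag (fun k => q ^ (-k).toNat) z))) := rfl

include hgUs hgUy hgVt hgVx in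
lemma Psi_mem (z : ℤ →₀ R) : Psi p q n z ∈ LinearMap.ker (Lmap p q gU gV n) := by
  rw [LinearMap.mem_ker, Psi_apply, Lmap_eq_zero_iff p q gU hgUs hgUy gV hgVt hgVx]
  intro k
  rw [refl_apply, diag_apply, diag_apply, sub_sub_cancel]
  ring

lemma Psi_injective (hn : -1 ≤ n) : Function.Injective (Psi p q n) := by
  rw [← LinearMap.ker_eq_bot, LinearMap.ker_eq_bot']
  intro z hz
  rw [Psi_apply, Prod.mk_eq_zero] at hz
  obtain ⟨h1, h2⟩ := hz
  have h1' := (map_eq_zero_iff _ (iota_injective q)).mp h1
  have h2' := (map_eq_zero_iff _ (iota_injective p)).mp h2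
  have h2'' := (map_eq_zero_iff _ (refl (R := R) n).injective).mp h2'
  ext k
  by_cases hk : k ≤ n
  · have := DFunLike.congr_fun h1' k
    rw [diag_apply] at this
    have h0 : (k - n).toNat = 0 := by omega
    simpa [h0] using this
  · have := DFunLike.congr_fun h2'' k
    rw [diag_apply] at this
    have h0 : (-k).toNat = 0 := by omega
    simpa [h0] using this

include hgUs hgUy hgVt hgVx in
lemma Psi_surjective (hn : -1 ≤ n) (v : SpinCurv.PolyNodeRing R q × SpinCurv.PolyNodeRing R p)
    (hv : v ∈ LinearMap.ker (Lmap p q gU gV n)) : ∃ z, Psi p q n z = v := by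
  obtain ⟨g, f⟩ := v
  obtain ⟨u, rfl⟩ := iota_surjective q g
  obtain ⟨w, rfl⟩ := iota_surjective p f
  rw [LinearMap.mem_ker, Lmap_eq_zero_iff p q gU hgUs hgUy gV hgVt hgVx] at hv
  classical
  let z : ℤ →₀ R := Finsupp.onFinset (u.support ∪ w.support.image (fun j => n - j))
    (fun k => if k ≤ n then u k else w (n - k)) (by
      intro k hk
      rw [Finset.mem_union, Finsupp.mem_support_iff, Finset.mem_image]
      by_cases hkn : k ≤ n
      · rw [if_pos hkn] at hk
        exact Or.inl hk
      · rw [if_neg hkn] at hk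
        exact Or.inr ⟨n - k, Finsupp.mem_support_iff.mpr hk, by ring⟩)
  have hz : ∀ k, z k = if k ≤ n then u k else w (n - k) := fun k => rfl
  refine ⟨z, ?_⟩
  rw [Psi_apply]
  congr 2
  · ext k
    rw [diag_apply, hz]
    by_cases hkn : k ≤ n
    · have h0 : (k - n).toNat = 0 := by omega
      rw [if_pos hkn, h0, pow_zero, one_mul]
    · have h0 : (-k).toNat = 0 := by omega
      rw [if_neg hkn, ← hv k, h0, pow_zero, one_mul]
  · ext j
    rw [refl_apply, diag_apply, hz]
    by_cases hj : 0 ≤ j
    · have hkn : n - j ≤ n := by omega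
      have h0 : (n - j - n).toNat = 0 := by omega
      rw [if_pos hkn, hv (n - j), h0, pow_zero, one_mul, sub_sub_cancel]
    · have hkn : ¬ (n - j ≤ n) := by omega
      have h0 : (-(n - j)).toNat = 0 := by omega
      rw [if_neg hkn, h0, pow_zero, one_mul, sub_sub_cancel]

include hgUs hgUy hgVt hgVx in
theorem main (hn : -1 ≤ n) : Module.Free R (LinearMap.ker (Lmap p q gU gV n)) := by
  let Ψ' : (ℤ →₀ R) →ₗ[R] LinearMap.ker (Lmap p q gU gV n) :=
    (Psi p q n).codRestrict _ (Psi_mem p q gU hgUs hgUy gV hgVt hgVx n)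
  have hbij : Function.Bijective Ψ' := by
    constructor
    · intro z z' h
      apply Psi_injective p q n hn
      exact congrArg Subtype.val h
    · rintro ⟨v, hv⟩
      obtain ⟨z, hz⟩ := Psi_surjective p q gU hgUs hgUy gV hgVt hgVx n hn v hv
      exact ⟨z, Subtype.ext hz⟩
  exact Module.Free.of_equiv (LinearEquiv.ofBijective Ψ' hbij)

end main

end PRE

/-- Let R be a commutative ring and p, q ∈ R, and consider the two affine charts U = Spec R[s, y]/(sy -
q) and V = Spec R[t, x]/(xt - p) of the curve obtained from the node xy = pq by the (p,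
q)-construction, glued along R[s, s⁻¹] by t = s⁻¹ (so y = q s⁻¹ on U and x = p s on V). For an
integer n ≥ -1 the global sections of the twisting sheaf O(n) (equal to vⁿ O on U and to ξⁿ O on V,
ξ = s v) are the pairs (g, f) of functions on U and V with g = sⁿ f on U ∩ V. This R-module, written
as the kernel of the R-linear map (g, f) ↦ g|_{U ∩ V} - sⁿ · f|_{U ∩ V} into R[s, s⁻¹], is free over
R (hence the direct image of O(n) on the node is flat over R). Both chart rings are written as the
quotient of the polynomial ring in two variables by (first variable)·(second variable) - constant,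
and the two restriction homomorphisms to R[s, s⁻¹] are R-algebra maps pinned by their values on
generators. (The published setting has R complete local and p, q in the maximal ideal; the printed
computation uses neither.) -/
theorem result (R : Type u) [CommRing R] (p q : R)
    (gU : SpinCurv.PolyNodeRing R q →ₐ[R] LaurentPolynomial R)
    (hgUs : gU (SpinCurv.PolyNodeRing.x R q) = LaurentPolynomial.T 1)
    (hgUy : gU (SpinCurv.PolyNodeRing.y R q) = LaurentPolynomial.C q * LaurentPolynomial.T (-1))
    (gV : SpinCurv.PolyNodeRing R p →ₐ[R] LaurentPolynomial R)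
    (hgVt : gV (SpinCurv.PolyNodeRing.x R p) = LaurentPolynomial.T (-1))
    (hgVx : gV (SpinCurv.PolyNodeRing.y R p) = LaurentPolynomial.C p * LaurentPolynomial.T 1)
    (n : ℤ) (hn : -1 ≤ n) :
    Module.Free R (LinearMap.ker
      (gU.toLinearMap.comp (LinearMap.fst R (SpinCurv.PolyNodeRing R q) (SpinCurv.PolyNodeRing R p)) -
        (LinearMap.mulLeft R (LaurentPolynomial.T n)).comp
          (gV.toLinearMap.comp (LinearMap.snd R (SpinCurv.PolyNodeRing R q) (SpinCurv.PolyNodeRing R p))))) := by
  exact main p q gU hgUs hgUy gV hgVt hgVx n hn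

end Groth.Agent.S18436
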