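import Groth.Statements.S18437
import Mathlib
import Groth.Agent.Lib.Helper95.NodeGlue

set_option autoImplicit false
universe u
open SpinCurv

namespace Groth.Agent.S18437

open Groth.Agent.Lib.Helper95.NodeNormal LaurentPolynomial

section
variable {R : Type u} [CommRing R] (p q : R)
  (rU : Nd R (p * q) →ₐ[R] Nd R q) (rV : Nd R (p * q) →ₐ[R] Nd R p) (n : ℕ)

/-- the section map as an `R`-linear map -/
noncomputable def Psi : (Fin (n + 1) → Nd R (p * q)) →ₗ[R] (Nd R q × Nd R p) where
  toFun F := (∑ i : Fin (n + 1), rU (F i) * xN q ^ (n - (i : ℕ)),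
    ∑ i : Fin (n + 1), rV (F i) * xN p ^ (i : ℕ))
  map_add' := by
    intro F F'
    simp only [Pi.add_apply, map_add, add_mul, Finset.sum_add_distrib, Prod.mk_add_mk]
  map_smul' := by
    intro r F
    simp only [Pi.smul_apply, map_smul, smul_mul_assoc, ← Finset.smul_sum, RingHom.id_apply,
      Prod.smul_mk]

lemma Psi_apply (F : Fin (n + 1) → Nd R (p * q)) :
    Psi p q rU rV n F = (∑ i : Fin (n + 1), rU (F i) * xN q ^ (n - (i : ℕ)),
      ∑ i : Fin (n + 1), rV (F i) * xN p ^ (i : ℕ)) := rfl

lemma Psi_single (i : Fin (n + 1)) (a : Nd R (p * q)) :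
    Psi p q rU rV n (Pi.single i a) = (rU a * xN q ^ (n - (i : ℕ)), rV a * xN p ^ (i : ℕ)) := by
  rw [Psi_apply]
  congr 1
  · rw [Finset.sum_eq_single i]
    · rw [Pi.single_eq_same]
    · intro b _ hb; rw [Pi.single_eq_of_ne hb, map_zero, zero_mul]
    · intro h; exact absurd (Finset.mem_univ i) h
  · rw [Finset.sum_eq_single i]
    · rw [Pi.single_eq_same]
    · intro b _ hb; rw [Pi.single_eq_of_ne hb, map_zero, zero_mul]
    · intro h; exact absurd (Finset.mem_univ i) h

lemma Psi_smulA (a : Nd R (p * q)) (F : Fin (n + 1) → Nd R (p * q)) :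
    Psi p q rU rV n (a • F) =
      (rU a * (Psi p q rU rV n F).1, rV a * (Psi p q rU rV n F).2) := by
  simp only [Psi_apply, Pi.smul_apply, smul_eq_mul, map_mul, mul_assoc, ← Finset.mul_sum]

/-- normal forms -/
noncomputable def NF (j : ℤ) : Fin (n + 1) → Nd R (p * q) :=
  if (n : ℤ) < j then Pi.single 0 (xN (p * q) ^ (j - n).toNat)
  else if h0 : 0 ≤ j then Pi.single ⟨((n : ℤ) - j).toNat, by omega⟩ 1
  else Pi.single (Fin.last n) (yN (p * q) ^ (-j).toNat)

variable (hrUx : rU (xN (p * q)) = algebraMap R _ p * xN q)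
  (hrUy : rU (yN (p * q)) = yN q)
  (hrVx : rV (xN (p * q)) = yN p)
  (hrVy : rV (yN (p * q)) = algebraMap R _ q * xN p)

include hrUx hrUy hrVx hrVy in
lemma Psi_NF (j : ℤ) :
    Psi p q rU rV n (NF p q n j) = G p q (n : ℤ) (Finsupp.single j 1) := by
  rw [G_single, one_smul]
  unfold NF
  split_ifs with h1 h0
  · obtain ⟨k, rfl⟩ : ∃ k : ℕ, j = (n : ℤ) + k := ⟨(j - n).toNat, by omega⟩
    have e1 : ((n : ℤ) + k - n).toNat = k := by omega
    have e2 : (-((n : ℤ) + k)).toNat = 0 := by omega
    have e3 : (n : ℤ) - ((n : ℤ) + k) = -(k : ℤ) := by ring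
    have e4 : ((n : ℤ) + k) = ((n + k : ℕ) : ℤ) := by push_cast; rfl
    rw [Psi_single, e1, e2, e3, E_neg_natCast, e4, E_natCast, map_pow, map_pow, hrUx, hrVx,
      pow_zero, one_smul, smul_eq, map_pow, mul_pow]
    simp only [Fin.val_zero, Nat.sub_zero, pow_zero, mul_one]
    congr 1
    rw [pow_add]; ring
  · lift j to ℕ using h0
    have hjn : j ≤ n := by omega
    have e1 : ((j : ℤ) - n).toNat = 0 := by omega
    have e2 : (-(j : ℤ)).toNat = 0 := by omega
    have e3 : (n : ℤ) - (j : ℤ) = ((n - j : ℕ) : ℤ) := by omega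
    have e4 : ((n : ℤ) - (j : ℤ)).toNat = n - j := by omega
    rw [Psi_single]
    simp only
    rw [e4, e1, e2, e3, E_natCast, E_natCast, pow_zero, one_smul, pow_zero, one_smul,
      map_one, map_one, one_mul, one_mul]
    congr 2
    omega
  · obtain ⟨k, rfl⟩ : ∃ k : ℕ, j = -(k : ℤ) := ⟨(-j).toNat, by omega⟩
    have e1 : (-(k : ℤ) - n).toNat = 0 := by omega
    have e2 : (- -(k : ℤ)).toNat = k := by omega
    have e3 : (n : ℤ) - -(k : ℤ) = ((n + k : ℕ) : ℤ) := by push_cast; ring
    rw [Psi_single, e1, e2, e3, E_neg_natCast, E_natCast, map_pow, map_pow, hrUy, hrVy,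
      pow_zero, one_smul, smul_eq, map_pow, mul_pow]
    simp only [Fin.val_last, Nat.sub_self, pow_zero, mul_one]
    congr 1
    rw [pow_add]; ring

/-- linear extension of the normal forms -/
noncomputable def NFlin : (ℤ →₀ R) →ₗ[R] (Fin (n + 1) → Nd R (p * q)) :=
  Finsupp.linearCombination R (NF p q n)

include hrUx hrUy hrVx hrVy in
lemma Psi_NFlin (l : ℤ →₀ R) :
    Psi p q rU rV n (NFlin p q n l) = G p q (n : ℤ) l := by
  induction l using Finsupp.induction_linear with
  | zero => simp
  | add f g hf hg => rw [map_add, map_add, map_add, hf, hg]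
  | single j r =>
    have : NFlin p q n (Finsupp.single j r) = r • NF p q n j := by simp [NFlin]
    rw [this, map_smul, Psi_NF p q rU rV n hrUx hrUy hrVx hrVy, ← map_smul, Finsupp.smul_single,
      smul_eq_mul, mul_one]

/-- the relation set -/
def relSet : Set (Fin (n + 1) → Nd R (p * q)) :=
  Set.range (fun i : Fin n =>
      (Pi.single (Fin.castSucc i) (algebraMap R (Nd R (p * q)) p) -
        Pi.single (Fin.succ i) (xN (p * q)) : Fin (n + 1) → Nd R (p * q))) ∪
  Set.range (fun i : Fin n =>
      (Pi.single (Fin.castSucc i) (yN (p * q)) -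
        Pi.single (Fin.succ i) (algebraMap R (Nd R (p * q)) q) : Fin (n + 1) → Nd R (p * q)))

include hrUx hrUy hrVx hrVy in
lemma Psi_rel (F : Fin (n + 1) → Nd R (p * q)) (hF : F ∈ relSet p q n) :
    Psi p q rU rV n F = 0 := by
  rcases hF with ⟨i, rfl⟩ | ⟨i, rfl⟩
  · simp only
    rw [map_sub, Psi_single, Psi_single, AlgHom.commutes, AlgHom.commutes, hrUx, hrVx,
      Prod.mk_sub_mk]
    have hi : (i : ℕ) < n := i.isLt
    have e : n - (i : ℕ) = (n - ((i : ℕ) + 1)) + 1 := by omega
    simp only [Fin.val_castSucc, Fin.val_succ]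
    rw [e, pow_succ (xN q), pow_succ (xN p), ← xN_mul_yN p]
    ext <;> simp <;> ring
  · simp only
    rw [map_sub, Psi_single, Psi_single, AlgHom.commutes, AlgHom.commutes, hrUy, hrVy,
      Prod.mk_sub_mk]
    have hi : (i : ℕ) < n := i.isLt
    have e : n - (i : ℕ) = (n - ((i : ℕ) + 1)) + 1 := by omega
    simp only [Fin.val_castSucc, Fin.val_succ]
    rw [e, pow_succ (xN q), pow_succ (xN p), ← xN_mul_yN q]
    ext <;> simp <;> ring

include hrUx hrUy hrVx hrVy in
lemma Psi_span (F : Fin (n + 1) → Nd R (p * q))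
    (hF : F ∈ Submodule.span (Nd R (p * q)) (relSet p q n)) : Psi p q rU rV n F = 0 := by
  induction hF using Submodule.span_induction with
  | mem x hx => exact Psi_rel p q rU rV n hrUx hrUy hrVx hrVy x hx
  | zero => exact map_zero _
  | add x y _ _ hx hy => rw [map_add, hx, hy, add_zero]
  | smul a x _ hx => rw [Psi_smulA, hx]; simp

/-- every vector is a relation plus a normal form -/
lemma mem_W (F : Fin (n + 1) → Nd R (p * q)) :
    F ∈ (Submodule.span (Nd R (p * q)) (relSet p q n)).restrictScalars R ⊔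
      LinearMap.range (NFlin p q n) := by
  set L := Submodule.span (Nd R (p * q)) (relSet p q n) with hL
  set W := L.restrictScalars R ⊔ LinearMap.range (NFlin p q n) with hW
  have hLW : ∀ z, z ∈ L → z ∈ W := fun z hz =>
    Submodule.mem_sup_left ((Submodule.restrictScalars_mem R L z).mpr hz)
  have hNW : ∀ j, NF p q n j ∈ W := fun j =>
    Submodule.mem_sup_right ⟨Finsupp.single j 1, by simp [NFlin]⟩
  have hone : ∀ i : Fin (n + 1), (Pi.single i 1 : Fin (n + 1) → Nd R (p * q)) ∈ W := by
    intro i
    have hi : (i : ℕ) ≤ n := Fin.is_le i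
    have := hNW ((n : ℤ) - (i : ℕ))
    unfold NF at this
    rw [if_neg (by omega), dif_pos (by omega)] at this
    convert this using 2
    ext
    simp only
    omega
  have hx : ∀ (k : ℕ) (i : Fin (n + 1)),
      (Pi.single i (xN (p * q) ^ k) : Fin (n + 1) → Nd R (p * q)) ∈ W := by
    intro k
    induction k with
    | zero => intro i; rw [pow_zero]; exact hone i
    | succ k ih =>
      intro i
      refine Fin.cases ?_ (fun i' => ?_) i
      · have := hNW ((n : ℤ) + (k + 1 : ℕ))
        unfold NF at this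
        rw [if_pos (by push_cast; omega)] at this
        have e : ((n : ℤ) + ((k + 1 : ℕ) : ℤ) - n).toNat = k + 1 := by omega
        rwa [e] at this
      · have hρ : (Pi.single (Fin.castSucc i') (algebraMap R (Nd R (p * q)) p) -
            Pi.single (Fin.succ i') (xN (p * q)) : Fin (n + 1) → Nd R (p * q)) ∈ L :=
          Submodule.subset_span (Or.inl ⟨i', rfl⟩)
        have h1 := hLW _ (L.smul_mem (xN (p * q) ^ k) hρ)
        have h2 := W.smul_mem p (ih (Fin.castSucc i'))
        have h3 := W.sub_mem h2 h1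
        convert h3 using 1
        ext m
        simp only [Pi.sub_apply, Pi.smul_apply, smul_eq_mul, Pi.single_apply]
        rw [smul_eq]
        split_ifs <;> ring
  have hy : ∀ (k : ℕ) (i : Fin (n + 1)),
      (Pi.single i (yN (p * q) ^ k) : Fin (n + 1) → Nd R (p * q)) ∈ W := by
    intro k
    induction k with
    | zero => intro i; rw [pow_zero]; exact hone i
    | succ k ih =>
      intro i
      refine Fin.lastCases ?_ (fun i' => ?_) i
      · have := hNW (-((k + 1 : ℕ) : ℤ))
        unfold NF at this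
        rw [if_neg (by push_cast; omega), dif_neg (by push_cast; omega)] at this
        have e : (- -((k + 1 : ℕ) : ℤ)).toNat = k + 1 := by omega
        rwa [e] at this
      · have hσ : (Pi.single (Fin.castSucc i') (yN (p * q)) -
            Pi.single (Fin.succ i') (algebraMap R (Nd R (p * q)) q) :
              Fin (n + 1) → Nd R (p * q)) ∈ L :=
          Submodule.subset_span (Or.inr ⟨i', rfl⟩)
        have h1 := hLW _ (L.smul_mem (yN (p * q) ^ k) hσ)
        have h2 := W.smul_mem q (ih (Fin.succ i'))
        have h3 := W.add_mem h1 h2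
        convert h3 using 1
        ext m
        simp only [Pi.add_apply, Pi.sub_apply, Pi.smul_apply, smul_eq_mul, Pi.single_apply]
        rw [smul_eq]
        split_ifs <;> ring
  have hE : ∀ (j : ℤ) (i : Fin (n + 1)),
      (Pi.single i (E (p * q) j) : Fin (n + 1) → Nd R (p * q)) ∈ W := by
    intro j i
    rcases le_total 0 j with h | h
    · lift j to ℕ using h
      rw [E_natCast]; exact hx j i
    · obtain ⟨k, rfl⟩ : ∃ k : ℕ, j = -(k : ℤ) := ⟨(-j).toNat, by omega⟩
      rw [E_neg_natCast]; exact hy k i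
  have hsingle : ∀ (i : Fin (n + 1)) (a : Nd R (p * q)),
      (Pi.single i a : Fin (n + 1) → Nd R (p * q)) ∈ W := by
    intro i a
    have ha : a ∈ Submodule.span R (Set.range (E (p * q))) := by
      rw [← Finsupp.range_linearCombination]
      exact ⟨coord (p * q) a, emb_coord (p * q) a⟩
    have hle : Submodule.span R (Set.range (E (p * q))) ≤
        W.comap (LinearMap.single R (fun _ : Fin (n + 1) => Nd R (p * q)) i) := by
      rw [Submodule.span_le]
      rintro _ ⟨j, rfl⟩
      exact hE j i
    exact hle ha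
  rw [← Finset.univ_sum_single F]
  exact W.sum_mem (fun i _ => hsingle i (F i))

end

section
variable {R : Type u} [CommRing R] (p q : R)

lemma main
    (rU : Nd R (p * q) →ₐ[R] Nd R q)
    (hrUx : rU (xN (p * q)) = algebraMap R _ p * xN q)
    (hrUy : rU (yN (p * q)) = yN q)
    (rV : Nd R (p * q) →ₐ[R] Nd R p)
    (hrVx : rV (xN (p * q)) = yN p)
    (hrVy : rV (yN (p * q)) = algebraMap R _ q * xN p)
    (gU : Nd R q →ₐ[R] LaurentPolynomial R)
    (hgUs : gU (xN q) = LaurentPolynomial.T 1)
    (hgUy : gU (yN q) = LaurentPolynomial.C q * LaurentPolynomial.T (-1))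
    (gV : Nd R p →ₐ[R] LaurentPolynomial R)
    (hgVt : gV (xN p) = LaurentPolynomial.T (-1))
    (hgVx : gV (yN p) = LaurentPolynomial.C p * LaurentPolynomial.T 1) (n : ℕ) :
    Set.range (fun F : Fin (n + 1) → Nd R (p * q) => Psi p q rU rV n F) =
      {gf : Nd R q × Nd R p | gU gf.1 = LaurentPolynomial.T (n : ℤ) * gV gf.2} ∧
    {F : Fin (n + 1) → Nd R (p * q) | Psi p q rU rV n F = 0} =
      (Submodule.span (Nd R (p * q)) (relSet p q n) : Set (Fin (n + 1) → Nd R (p * q))) := by
  have hn : (-1 : ℤ) ≤ (n : ℤ) := by omega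
  constructor
  · ext gf
    simp only [Set.mem_range, Set.mem_ofPred_eq]
    constructor
    · rintro ⟨F, rfl⟩
      have hh : gU.comp rU = gV.comp rV := by
        apply Ideal.Quotient.algHom_ext
        apply MvPolynomial.algHom_ext
        intro i
        fin_cases i
        · change gU (rU (xN (p * q))) = gV (rV (xN (p * q)))
          rw [hrUx, hrVx, map_mul, AlgHom.commutes, hgUs, hgVx]; rfl
        · change gU (rU (yN (p * q))) = gV (rV (yN (p * q)))
          rw [hrUy, hrVy, hgUy, map_mul, AlgHom.commutes, hgVt]; rfl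
      have hh' : ∀ a, gU (rU a) = gV (rV a) := fun a => DFunLike.congr_fun hh a
      rw [Psi_apply]
      simp only [map_sum, map_mul, map_pow, hgUs, hgVt, hh', Finset.mul_sum, T_pow]
      refine Finset.sum_congr rfl (fun i _ => ?_)
      rw [mul_left_comm, ← T_add]
      congr 2
      have hi : (i : ℕ) ≤ n := Fin.is_le i
      push_cast [Nat.cast_sub hi]
      ring
    · intro h
      obtain ⟨l, hl⟩ := exists_G_eq p q (n : ℤ) hn gU hgUs hgUy gV hgVt hgVx gf.1 gf.2 h
      exact ⟨NFlin p q n l, by rw [Psi_NFlin p q rU rV n hrUx hrUy hrVx hrVy, hl]⟩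
  · ext F
    simp only [Set.mem_ofPred_eq, SetLike.mem_coe]
    constructor
    · intro hF
      have hW := mem_W p q n F
      obtain ⟨l, hl, z, ⟨c, rfl⟩, rfl⟩ := Submodule.mem_sup.mp hW
      rw [Submodule.restrictScalars_mem] at hl
      rw [map_add, Psi_span p q rU rV n hrUx hrUy hrVx hrVy l hl, zero_add,
        Psi_NFlin p q rU rV n hrUx hrUy hrVx hrVy] at hF
      have hc : c = 0 := G_injective p q (n : ℤ) hn (by rw [hF, map_zero])
      rw [hc, map_zero, add_zero]
      exact hl
    · intro hF
      exact Psi_span p q rU rV n hrUx hrUy hrVx hrVy F hF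

end

/-- Let R be a commutative ring and p, q ∈ R; put A = R[x, y]/(xy - pq) and consider the two affine
charts U = Spec R[s, y]/(sy - q) and V = Spec R[t, x]/(xt - p) of the curve obtained from Spec A by
blowing up as in the (p, q)-construction, glued along R[s, s⁻¹] by t = s⁻¹ (so y = q s⁻¹ on U and x
= p s on V), with the projection to Spec A given by x ↦ p s, y ↦ y on U and x ↦ x, y ↦ q t on V. For
n ≥ 0 the twisting sheaf O(n) is vⁿ O on U and ξⁿ O on V with ξ = s v, so its global sections are
the pairs (g, f) of functions on U and V with g = sⁿ f on U ∩ V. Then the map A^{n+1} → O(U) × O(V)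
sending (F_0, …, F_n), i.e. the section Σ F_i ξ^{n-i} v^i, to (Σ F_i|_U s^{n-i}, Σ F_i|_V t^i) has
image exactly the set of such pairs, and F is sent to zero exactly when it lies in the A-submodule
of A^{n+1} generated by the vectors p e_i - x e_{i+1} and y e_i - q e_{i+1} for 0 ≤ i < n (e_0, …,
e_n the standard basis). So the global sections of O(n) form the degree-n piece of A[ξ, v]/(p ξ - x
v, q v - y ξ). For n = 0 this says that a ↦ (a|_U, a|_V) is injective on A with image the pairs of
functions that agree on U ∩ V, so that the functions on the blown-up curve are exactly the functions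
on Spec A (the direct image of its structure sheaf is the structure sheaf of Spec A); for n = 1 it
presents the global sections of O(1) as A ξ ⊕ A v modulo the relations p ξ = x v and y ξ = q v. Here
R[s, y]/(sy - q) and R[t, x]/(xt - p) are both written as the quotient of the polynomial ring in two
variables by (first variable)·(second variable) - constant, the homomorphisms rU, rV are the
restriction maps from A to the two charts and gU, gV the restriction maps from the charts to their
intersection R[s, s⁻¹] (Laurent polynomials), each pinned by its values on the two generators. (The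
published setting has R complete local and p, q in the maximal ideal, and reduces to this polynomial
computation, which uses neither.) -/
theorem result (R : Type u) [CommRing R] (p q : R)
    (rU : SpinCurv.PolyNodeRing R (p * q) →ₐ[R] SpinCurv.PolyNodeRing R q)
    (hrUx : rU (SpinCurv.PolyNodeRing.x R (p * q)) = algebraMap R _ p * SpinCurv.PolyNodeRing.x R q)
    (hrUy : rU (SpinCurv.PolyNodeRing.y R (p * q)) = SpinCurv.PolyNodeRing.y R q)
    (rV : SpinCurv.PolyNodeRing R (p * q) →ₐ[R] SpinCurv.PolyNodeRing R p)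
    (hrVx : rV (SpinCurv.PolyNodeRing.x R (p * q)) = SpinCurv.PolyNodeRing.y R p)
    (hrVy : rV (SpinCurv.PolyNodeRing.y R (p * q)) = algebraMap R _ q * SpinCurv.PolyNodeRing.x R p)
    (gU : SpinCurv.PolyNodeRing R q →ₐ[R] LaurentPolynomial R)
    (hgUs : gU (SpinCurv.PolyNodeRing.x R q) = LaurentPolynomial.T 1)
    (hgUy : gU (SpinCurv.PolyNodeRing.y R q) = LaurentPolynomial.C q * LaurentPolynomial.T (-1))
    (gV : SpinCurv.PolyNodeRing R p →ₐ[R] LaurentPolynomial R)
    (hgVt : gV (SpinCurv.PolyNodeRing.x R p) = LaurentPolynomial.T (-1))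
    (hgVx : gV (SpinCurv.PolyNodeRing.y R p) = LaurentPolynomial.C p * LaurentPolynomial.T 1) (n : ℕ) :
    Set.range (fun F : Fin (n + 1) → SpinCurv.PolyNodeRing R (p * q) =>
        (∑ i : Fin (n + 1), rU (F i) * SpinCurv.PolyNodeRing.x R q ^ (n - (i : ℕ)),
         ∑ i : Fin (n + 1), rV (F i) * SpinCurv.PolyNodeRing.x R p ^ (i : ℕ))) =
      {gf : SpinCurv.PolyNodeRing R q × SpinCurv.PolyNodeRing R p |
        gU gf.1 = LaurentPolynomial.T (n : ℤ) * gV gf.2} ∧
    {F : Fin (n + 1) → SpinCurv.PolyNodeRing R (p * q) |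
        (∑ i : Fin (n + 1), rU (F i) * SpinCurv.PolyNodeRing.x R q ^ (n - (i : ℕ)),
         ∑ i : Fin (n + 1), rV (F i) * SpinCurv.PolyNodeRing.x R p ^ (i : ℕ)) = 0} =
      (Submodule.span (SpinCurv.PolyNodeRing R (p * q))
        (Set.range (fun i : Fin n =>
            (Pi.single (Fin.castSucc i) (algebraMap R (SpinCurv.PolyNodeRing R (p * q)) p) -
              Pi.single (Fin.succ i) (SpinCurv.PolyNodeRing.x R (p * q)) : Fin (n + 1) → SpinCurv.PolyNodeRing R (p * q))) ∪
         Set.range (fun i : Fin n =>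
            (Pi.single (Fin.castSucc i) (SpinCurv.PolyNodeRing.y R (p * q)) -
              Pi.single (Fin.succ i) (algebraMap R (SpinCurv.PolyNodeRing R (p * q)) q) : Fin (n + 1) → SpinCurv.PolyNodeRing R (p * q)))) :
        Set (Fin (n + 1) → SpinCurv.PolyNodeRing R (p * q))) := by
  exact main p q rU hrUx hrUy rV hrVx hrVy gU hgUs hgUy gV hgVt hgVx n

end Groth.Agent.S18437
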