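import Groth.Statements.S18457
import Mathlib.Tactic
-- import your own Groth.Agent.* helpers here

set_option autoImplicit false
open Finset
open Surf

namespace Groth.Agent.S18457

/-- In the Picard lattice of the plane blown up at n ≤ 8 points, with basis h, e_1, …, e_n, form h² = 1,
e_i² = −1, all other products 0, and anticanonical class D = 3h − Σ e_i, let d·h − Σ a_i e_i be a
class with all a_i ≥ 0 (the class of the strict transform of a degree-d plane curve having
multiplicity a_i at the i-th point) which is a (−2)-class orthogonal to D, that is d² − Σ a_i² = −2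
and 3d = Σ a_i. Then one of the following holds: d = 1 and every a_i is 0 or 1 with exactly three
equal to 1; d = 2 and every a_i is 0 or 1 with exactly six equal to 1; d = 3, n = 8, and one a_i
equals 2 while the remaining seven equal 1. The published statement is geometric: under the
general-position hypotheses on the points, no smooth rational curve on the blown-up plane is
orthogonal to D; this row is the lattice enumeration its proof carries out (a line through three of
the points, a conic through six, a cubic through all eight and singular at one). -/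
theorem result (n : ℕ) (hn : n ≤ 8)
    (d : ℤ) (a : Fin n → ℤ) (ha : ∀ i, 0 ≤ a i)
    (hsq : d ^ 2 - ∑ i, (a i) ^ 2 = -2) (hK : 3 * d = ∑ i, a i) :
    (d = 1 ∧ (∀ i, a i = 0 ∨ a i = 1) ∧ (Finset.univ.filter (fun i => a i = 1)).card = 3) ∨
      (d = 2 ∧ (∀ i, a i = 0 ∨ a i = 1) ∧ (Finset.univ.filter (fun i => a i = 1)).card = 6) ∨
      (d = 3 ∧ n = 8 ∧ ∃ j, a j = 2 ∧ ∀ i, i ≠ j → a i = 1) := by
  classical
  have hcard : ((Finset.univ : Finset (Fin n)).card : ℤ) = n := by simp
  have hn' : (n : ℤ) ≤ 8 := by exact_mod_cast hn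
  set S1 := ∑ i, a i with hS1
  set S2 := ∑ i, (a i) ^ 2 with hS2
  -- quadratic sums
  have hq : ∀ (p q : ℤ), ∑ i, (p * a i - q) ^ 2 = p ^ 2 * S2 - 2 * p * q * S1 + q ^ 2 * n := by
    intro p q
    have : ∀ i, (p * a i - q) ^ 2 = p ^ 2 * (a i) ^ 2 - 2 * p * q * a i + q ^ 2 := by
      intro i; ring
    simp only [this, Finset.sum_add_distrib, Finset.sum_sub_distrib, ← Finset.mul_sum,
      Finset.sum_const, Finset.card_univ, Fintype.card_fin, nsmul_eq_mul]
    ring
  have hprod : ∀ (t : ℤ), ∑ i, (a i - t) * (a i - t - 1) = S2 - (2 * t + 1) * S1 + t * (t + 1) * n := by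
    intro t
    have : ∀ i, (a i - t) * (a i - t - 1) = (a i) ^ 2 - (2 * t + 1) * a i + t * (t + 1) := by
      intro i; ring
    simp only [this, Finset.sum_add_distrib, Finset.sum_sub_distrib, ← Finset.mul_sum,
      Finset.sum_const, Finset.card_univ, Fintype.card_fin, nsmul_eq_mul]
    ring
  have hconsec : ∀ (t : ℤ) (i : Fin n), 0 ≤ (a i - t) * (a i - t - 1) := by
    intro t i
    rcases le_or_gt (a i - t) 0 with h | h
    · exact mul_nonneg_of_nonpos_of_nonpos h (by omega)
    · exact mul_nonneg (by omega) (by omega)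
  have hS1nn : 0 ≤ S1 := Finset.sum_nonneg (fun i _ => ha i)
  have hd0 : 0 ≤ d := by omega
  -- bound on d
  have hbound : 0 ≤ 64 * S2 - 48 * d * S1 + 9 * d ^ 2 * n := by
    have h := hq 8 (3 * d)
    have h2 : 0 ≤ ∑ i, (8 * a i - 3 * d) ^ 2 := Finset.sum_nonneg (fun i _ => sq_nonneg _)
    rw [h] at h2
    nlinarith [h2]
  have hS2 : S2 = d ^ 2 + 2 := by omega
  have hS1' : S1 = 3 * d := hK.symm
  have hd4 : d ≤ 4 := by
    rw [hS2, hS1'] at hbound
    have : 9 * d ^ 2 * (n : ℤ) ≤ 9 * d ^ 2 * 8 := by
      apply mul_le_mul_of_nonneg_left hn'; positivity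
    nlinarith
  have h0 := hprod 0
  have h1 := hprod 1
  have h0nn : 0 ≤ ∑ i, (a i - 0) * (a i - 0 - 1) := Finset.sum_nonneg (fun i _ => hconsec 0 i)
  have h1nn : 0 ≤ ∑ i, (a i - 1) * (a i - 1 - 1) := Finset.sum_nonneg (fun i _ => hconsec 1 i)
  rw [hS2, hS1'] at h0 h1
  -- helper: from zero-one, count
  have hcount : (∀ i, a i = 0 ∨ a i = 1) → ((Finset.univ.filter (fun i => a i = 1)).card : ℤ) = S1 := by
    intro h01
    rw [hS1, Finset.card_filter]
    push_cast
    apply Finset.sum_congr rfl
    intro i _
    rcases h01 i with h | h <;> simp [h]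
  have h01_of : (∑ i, (a i - 0) * (a i - 0 - 1) = 0) → ∀ i, a i = 0 ∨ a i = 1 := by
    intro hz i
    have := (Finset.sum_eq_zero_iff_of_nonneg (fun i _ => hconsec 0 i)).1 hz i (Finset.mem_univ i)
    rcases mul_eq_zero.1 this with h | h
    · left; omega
    · right; omega
  interval_cases d
  · -- d = 0
    exfalso
    have hz : ∀ i, a i = 0 := by
      intro i
      have := (Finset.sum_eq_zero_iff_of_nonneg (fun i _ => ha i)).1 (by rw [← hS1]; omega) i (Finset.mem_univ i)
      exact this
    have : S2 = 0 := by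
      have h2 : ∑ i, (a i) ^ 2 = 0 := Finset.sum_eq_zero (fun i _ => by rw [hz i]; norm_num)
      exact h2
    omega
  · -- d = 1
    left
    have hz : ∑ i, (a i - 0) * (a i - 0 - 1) = 0 := by rw [h0]; norm_num
    have h01 := h01_of hz
    refine ⟨rfl, h01, ?_⟩
    have := hcount h01
    omega
  · -- d = 2
    right; left
    have hz : ∑ i, (a i - 0) * (a i - 0 - 1) = 0 := by rw [h0]; norm_num
    have h01 := h01_of hz
    refine ⟨rfl, h01, ?_⟩
    have := hcount h01
    omega
  · -- d = 3
    right; right
    have hn8 : n = 8 := by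
      rw [h1] at h1nn
      omega
    subst hn8
    have hz : ∑ i, (a i - 1) * (a i - 1 - 1) = 0 := by rw [h1]; norm_num
    have h12 : ∀ i, a i = 1 ∨ a i = 2 := by
      intro i
      have := (Finset.sum_eq_zero_iff_of_nonneg (fun i _ => hconsec 1 i)).1 hz i (Finset.mem_univ i)
      rcases mul_eq_zero.1 this with h | h
      · left; omega
      · right; omega
    have hsum1 : ∑ i, (a i - 1) = 1 := by
      rw [Finset.sum_sub_distrib, ← hS1, hS1']
      simp
    have hnn : ∀ i ∈ (Finset.univ : Finset (Fin 8)), 0 ≤ a i - 1 := by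
      intro i _
      rcases h12 i with h | h <;> omega
    have hex : ∃ j, a j = 2 := by
      by_contra hne
      have hne : ∀ j, a j ≠ 2 := fun j hj => hne ⟨j, hj⟩
      have : ∑ i, (a i - 1) = 0 := by
        apply Finset.sum_eq_zero
        intro i _
        rcases h12 i with h | h
        · omega
        · exact absurd h (hne i)
      omega
    obtain ⟨j, hj⟩ := hex
    refine ⟨rfl, rfl, j, hj, ?_⟩
    intro i hij
    have hsplit := Finset.add_sum_erase Finset.univ (fun i => a i - 1) (Finset.mem_univ j)
    rw [hsum1] at hsplit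
    simp only [hj] at hsplit
    have hrest : ∑ x ∈ Finset.univ.erase j, (a x - 1) = 0 := by omega
    have := (Finset.sum_eq_zero_iff_of_nonneg (fun i hi => hnn i (Finset.mem_univ i))).1 hrest i
      (Finset.mem_erase.2 ⟨hij, Finset.mem_univ i⟩)
    omega
  · -- d = 4
    exfalso
    rw [h1] at h1nn
    omega

end Groth.Agent.S18457
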