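import Groth.Statements.S1846
import Groth.Agent.S8048
import Mathlib.LinearAlgebra.FreeModule.Finite.Basic
import Mathlib.LinearAlgebra.Dimension.Free
import Mathlib.RingTheory.TensorProduct.Free
-- import your own Groth.Agent.* helpers here

set_option autoImplicit false
universe u v
open GrpSch

namespace Groth.Agent.S1846

open TensorProduct

/-- Affine case of the last sentence: for a group scheme over a field the module of differentials is a
free module; stated for an affine group scheme Spec B, i.e. for a commutative Hopf algebra B over a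
field K: Ω_{B/K} is a free B-module. -/
theorem result (K : Type u) [Field K] (B : Type v) [CommRing B] [HopfAlgebra K B] : Module.Free B (Ω[B⁄K]) := by
  classical
  -- the projection `B → I/I²`
  let π₀ : B →ₗ[K] (RingHom.ker (Bialgebra.counitAlgHom K B)) :=
    { toFun := fun b => ⟨b - algebraMap K B (Bialgebra.counitAlgHom K B b), by
        rw [RingHom.mem_ker, map_sub, AlgHom.commutes, Algebra.algebraMap_self, RingHom.id_apply,
          sub_self]⟩
      map_add' := by
        intro a b
        apply Subtype.ext
        simp only [map_add, Submodule.coe_add]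
        ring
      map_smul' := by
        intro c a
        apply Subtype.ext
        change c • a - algebraMap K B (Bialgebra.counitAlgHom K B (c • a)) =
          c • (a - algebraMap K B (Bialgebra.counitAlgHom K B a))
        rw [map_smul, smul_sub, Algebra.smul_def c (Bialgebra.counitAlgHom K B a), map_mul,
          ← Algebra.smul_def]
        rfl }
  let π : B →ₗ[K] (RingHom.ker (Bialgebra.counitAlgHom K B)).Cotangent :=
    ((RingHom.ker (Bialgebra.counitAlgHom K B)).toCotangent.restrictScalars K) ∘ₗ π₀
  have hπI : ∀ x : (RingHom.ker (Bialgebra.counitAlgHom K B)),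
      π (x : B) = (RingHom.ker (Bialgebra.counitAlgHom K B)).toCotangent x := by
    intro x
    have : π₀ (x : B) = x := by
      apply Subtype.ext
      change (x : B) - algebraMap K B (Bialgebra.counitAlgHom K B (x : B)) = x
      rw [(RingHom.mem_ker).1 x.2, map_zero, sub_zero]
    change (RingHom.ker (Bialgebra.counitAlgHom K B)).toCotangent (π₀ (x : B)) = _
    rw [this]
  have hπ1 : π 1 = 0 := by
    have : π₀ 1 = 0 := by
      apply Subtype.ext
      change (1 : B) - algebraMap K B (Bialgebra.counitAlgHom K B 1) = 0
      rw [map_one, map_one, sub_self]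
    change (RingHom.ker (Bialgebra.counitAlgHom K B)).toCotangent (π₀ 1) = 0
    rw [this, map_zero]
  obtain ⟨hleib, huniv⟩ := Groth.Agent.S8048.result.{u, v, v} K B π hπI hπ1
  let Dd : Derivation K B (B ⊗[K] (RingHom.ker (Bialgebra.counitAlgHom K B)).Cotangent) :=
    Derivation.mk' ((π.lTensor B) ∘ₗ (CoalgebraStruct.comul (R := K) (A := B))) hleib
  let Φ : Ω[B⁄K] →ₗ[B] B ⊗[K] (RingHom.ker (Bialgebra.counitAlgHom K B)).Cotangent :=
    Dd.liftKaehlerDifferential
  obtain ⟨Ψ, hΨ, -⟩ := huniv Ω[B⁄K] (KaehlerDifferential.D K B)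
  obtain ⟨f₀, -, huniq⟩ := huniv _ Dd
  have hΦΨ : Φ ∘ₗ Ψ = LinearMap.id := by
    have h1 := huniq (Φ ∘ₗ Ψ) (by
      intro a
      rw [LinearMap.comp_apply, hΨ a]
      exact Derivation.liftKaehlerDifferential_comp_D Dd a)
    have h2 := huniq LinearMap.id (by intro a; rfl)
    rw [h1, ← h2]
  have hΨΦ : Ψ ∘ₗ Φ = LinearMap.id := by
    apply Derivation.liftKaehlerDifferential_unique
    ext a
    change Ψ (Dd.liftKaehlerDifferential (KaehlerDifferential.D K B a)) = KaehlerDifferential.D K B a
    rw [Derivation.liftKaehlerDifferential_comp_D]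
    exact hΨ a
  let e : Ω[B⁄K] ≃ₗ[B] B ⊗[K] (RingHom.ker (Bialgebra.counitAlgHom K B)).Cotangent :=
    LinearEquiv.ofLinearMap Φ Ψ hΦΨ hΨΦ
  exact Module.Free.of_equiv e.symm

end Groth.Agent.S1846
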