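import Groth.Statements.S18466
import Mathlib

set_option autoImplicit false
universe u
open Hopf

namespace Groth.Agent.S18466

section aux

open ConstGrp TensorProduct

variable {k : Type u} [Field k] {n : ℕ} [NeZero n]

/-- the pairing character `b ↦ ζ^(c b)` -/
noncomputable def chi {ζ : k} (hζ : ζ ^ n = 1) (c : Multiplicative (ZMod n)) :
    Multiplicative (ZMod n) →* k where
  toFun b := AddChar.zmodChar n hζ (c.toAdd * b.toAdd)
  map_one' := by simp
  map_mul' a b := by simp [toAdd_mul, mul_add, AddChar.map_add_eq_mul]

noncomputable def fHom {ζ : k} (hζ : ζ ^ n = 1) :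
    Multiplicative (ZMod n) →* ConstGrp.F k (Multiplicative (ZMod n)) where
  toFun c := (fun b => chi hζ c b : Multiplicative (ZMod n) → k)
  map_one' := by
    ext b
    simp [chi]
  map_mul' a b := by
    ext x
    simp [chi, toAdd_mul, add_mul, AddChar.map_add_eq_mul]

theorem chi_injective {ζ : k} (h : IsPrimitiveRoot ζ n) :
    Function.Injective (chi (n := n) h.pow_eq_one) := by
  intro c c' hcc
  have h1 := DFunLike.congr_fun hcc (Multiplicative.ofAdd (1 : ZMod n))
  simp only [chi, MonoidHom.coe_mk, OneHom.coe_mk, toAdd_ofAdd, mul_one,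
    AddChar.zmodChar_apply] at h1
  have h2 := h.pow_inj (ZMod.val_lt _) (ZMod.val_lt _) h1
  have h3 : c.toAdd = c'.toAdd := ZMod.val_injective n h2
  exact Multiplicative.toAdd.injective h3

theorem exists_equiv {ζ : k} (h : IsPrimitiveRoot ζ n) :
    Nonempty (ConstGrp.F k (Multiplicative (ZMod n)) ≃ₐc[k]
      MonoidAlgebra k (Multiplicative (ZMod n))) := by
  classical
  have hζ := h.pow_eq_one
  let ψ₀ : MonoidAlgebra k (Multiplicative (ZMod n)) →ₐ[k]
      ConstGrp.F k (Multiplicative (ZMod n)) := MonoidAlgebra.lift k _ _ (fHom hζ)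
  have hψ : ∀ c, ψ₀ (MonoidAlgebra.single c 1) = fHom hζ c := by
    intro c
    simp [ψ₀]
  have hcounit : (Bialgebra.counitAlgHom k _).comp ψ₀ = Bialgebra.counitAlgHom k _ := by
    refine MonoidAlgebra.algHom_ext (fun c => ?_) (Subsingleton.elim _ _)
    simp only [AlgHom.comp_apply, Bialgebra.counitAlgHom_apply, hψ, ConstGrp.counit_apply,
      MonoidAlgebra.counit_single, CommSemiring.counit_apply]
    simp [fHom, chi]
  have hmulf : ∀ c a b, (fHom hζ c) (a * b) = (fHom hζ c) a * (fHom hζ c) b := by
    intro c a b
    exact (chi hζ c).map_mul a b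
  have hcomul : (Algebra.TensorProduct.map ψ₀ ψ₀).comp (Bialgebra.comulAlgHom k _) =
      (Bialgebra.comulAlgHom k _).comp ψ₀ := by
    refine MonoidAlgebra.algHom_ext (fun c => ?_) (Subsingleton.elim _ _)
    have hL : (Algebra.TensorProduct.map ψ₀ ψ₀)
        (Coalgebra.comul (R := k) (MonoidAlgebra.single c (1 : k))) =
        fHom hζ c ⊗ₜ[k] fHom hζ c := by
      rw [MonoidAlgebra.comul_single, CommSemiring.comul_apply, TensorProduct.map_tmul,
        Algebra.TensorProduct.map_tmul]
      simp only [MonoidAlgebra.lsingle_apply, hψ]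
    have hR : Coalgebra.comul (R := k) (fHom hζ c) = fHom hζ c ⊗ₜ[k] fHom hζ c := by
      have hfc := ConstGrp.eq_sum_smul_e (R := k) (fHom hζ c)
      calc Coalgebra.comul (R := k) (fHom hζ c)
          = ∑ a, ∑ b, (fHom hζ c) (a * b) • (e k a ⊗ₜ[k] e k b) :=
            ConstGrp.comul_eq_sum k _ _
        _ = ∑ a, ∑ b, ((fHom hζ c) a * (fHom hζ c) b) • (e k a ⊗ₜ[k] e k b) := by
            simp_rw [hmulf]
        _ = (∑ a, (fHom hζ c) a • e k a) ⊗ₜ[k] (∑ b, (fHom hζ c) b • e k b) := by
            rw [TensorProduct.sum_tmul]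
            refine Finset.sum_congr rfl fun a _ => ?_
            rw [TensorProduct.tmul_sum]
            refine Finset.sum_congr rfl fun b _ => ?_
            rw [TensorProduct.smul_tmul_smul]
        _ = fHom hζ c ⊗ₜ[k] fHom hζ c := by rw [← hfc]
    change (Algebra.TensorProduct.map ψ₀ ψ₀)
        (Coalgebra.comul (R := k) (MonoidAlgebra.single c (1 : k))) =
      Coalgebra.comul (R := k) (ψ₀ (MonoidAlgebra.single c 1))
    rw [hL, hψ, hR]
  have hinj : Function.Injective ψ₀ := by
    rw [injective_iff_map_eq_zero]
    intro x hx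
    have hli : LinearIndependent k (fun c : Multiplicative (ZMod n) =>
        ((chi hζ c : Multiplicative (ZMod n) →* k) : Multiplicative (ZMod n) → k)) :=
      (linearIndependent_monoidHom (Multiplicative (ZMod n)) k).comp (chi hζ) (chi_injective h)
    rw [Fintype.linearIndependent_iff] at hli
    have hsum : ∑ c, x.coeff c •
        ((chi hζ c : Multiplicative (ZMod n) →* k) : Multiplicative (ZMod n) → k) = 0 := by
      have h1 : ψ₀ x = ∑ c, x.coeff c • fHom hζ c := by
        simp only [ψ₀, MonoidAlgebra.lift_apply]
        rw [Finsupp.sum_fintype]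
        intro c
        simp
      rw [h1] at hx
      exact hx
    have hc := hli _ hsum
    apply MonoidAlgebra.ext
    ext c
    simpa using hc c
  haveI : Module.Finite k (MonoidAlgebra k (Multiplicative (ZMod n))) :=
    Module.Finite.equiv (MonoidAlgebra.coeffLinearEquiv k).symm
  have hdim : Module.finrank k (MonoidAlgebra k (Multiplicative (ZMod n))) =
      Module.finrank k (ConstGrp.F k (Multiplicative (ZMod n))) := by
    rw [(MonoidAlgebra.coeffLinearEquiv k).finrank_eq, Module.finrank_finsupp_self]
    exact (Module.finrank_fintype_fun_eq_card k).symm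
  have hsurj : Function.Surjective ψ₀ :=
    (LinearMap.injective_iff_surjective_of_finrank_eq_finrank (f := ψ₀.toLinearMap) hdim).1 hinj
  exact ⟨(BialgEquiv.ofBijective (BialgHom.ofAlgHom ψ₀ hcounit hcomul) ⟨hinj, hsurj⟩).symm⟩

theorem exists_root
    (φ : ConstGrp.F k (Multiplicative (ZMod n)) ≃ₐc[k]
      MonoidAlgebra k (Multiplicative (ZMod n))) : ∃ ζ : k, IsPrimitiveRoot ζ n := by
  classical
  rw [← card_rootsOfUnity_eq_iff_exists_isPrimitiveRoot]
  apply le_antisymm (card_rootsOfUnity k n)
  -- the points
  let pt : Multiplicative (ZMod n) → (MonoidAlgebra k (Multiplicative (ZMod n)) →ₐ[k] k) :=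
    fun g => (ConstGrp.ev k g).comp (φ.symm.toAlgEquiv : _ →ₐ[k] _)
  let m : Multiplicative (ZMod n) → (Multiplicative (ZMod n) →* k) :=
    fun g => (MonoidAlgebra.lift k k (Multiplicative (ZMod n))).symm (pt g)
  let γ : Multiplicative (ZMod n) := Multiplicative.ofAdd (1 : ZMod n)
  have hγn : γ ^ n = 1 := by
    change Multiplicative.ofAdd (1 : ZMod n) ^ n = 1
    rw [← ofAdd_nsmul, nsmul_one, ZMod.natCast_self]
    rfl
  have hγ : ∀ c : Multiplicative (ZMod n), c = γ ^ (c.toAdd.val) := by
    intro c
    change c = Multiplicative.ofAdd (1 : ZMod n) ^ (c.toAdd.val)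
    rw [← ofAdd_nsmul, nsmul_one, ZMod.natCast_zmod_val]
    rfl
  have hpow : ∀ g, (m g γ) ^ n = 1 := by
    intro g
    rw [← map_pow, hγn, map_one]
  have hminj : Function.Injective (fun g => m g γ) := by
    intro g g' hgg
    have h1 : m g = m g' := by
      apply MonoidHom.ext
      intro c
      rw [hγ c, map_pow, map_pow]
      exact congrArg (· ^ (c.toAdd.val)) hgg
    have h2 : pt g = pt g' := (MonoidAlgebra.lift k k (Multiplicative (ZMod n))).symm.injective h1
    have h3 : ∀ f : ConstGrp.F k (Multiplicative (ZMod n)), f g = f g' := by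
      intro f
      have := DFunLike.congr_fun h2 (φ f)
      simpa [pt] using this
    have h4 := h3 (ConstGrp.e k g)
    rw [ConstGrp.e_apply_self, ConstGrp.e_apply] at h4
    by_contra hne
    rw [if_neg (fun h => hne h.symm)] at h4
    exact one_ne_zero h4
  have hcard : Nat.card (Multiplicative (ZMod n)) = n := by
    rw [Nat.card_eq_fintype_card, Fintype.card_multiplicative, ZMod.card]
  have hle : Nat.card (Multiplicative (ZMod n)) ≤ Nat.card (rootsOfUnity n k) := by
    apply Nat.card_le_card_of_injective
      (fun g => rootsOfUnity.mkOfPowEq (m g γ) (hpow g))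
    intro g g' hgg
    apply hminj
    have := congrArg (fun x : rootsOfUnity n k => ((x : kˣ) : k)) hgg
    simpa using this
  rw [hcard] at hle
  exact hle

end aux

/-- Let k be a field and n ≥ 1. The constant group scheme ℤ/n over k is self-dual, that is, isomorphic
to its Cartier dual μ_n — equivalently the Hopf algebra of k-valued functions on the cyclic group of
order n and the group algebra of that group over k (group elements group-like) are isomorphic as
bialgebras — precisely when the field k has a primitive n-th root of unity, i.e. k contains n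
distinct n-th roots of unity in k. (The published statement assumes that the characteristic of k
does not divide n; both directions hold without that assumption by the same argument, since a
primitive n-th root of unity forces n to be nonzero in k, so it is omitted here.) -/
theorem result
    (k : Type u) [Field k] (n : ℕ) [NeZero n] :
    Nonempty (ConstGrp.F k (Multiplicative (ZMod n)) ≃ₐc[k] MonoidAlgebra k (Multiplicative (ZMod n))) ↔
      ∃ ζ : k, IsPrimitiveRoot ζ n := by
  constructor
  · rintro ⟨φ⟩
    exact exists_root φ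
  · rintro ⟨ζ, hζ⟩
    exact exists_equiv hζ

end Groth.Agent.S18466
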