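import Groth.Statements.S18467
import Mathlib.FieldTheory.Finite.Basic
import Mathlib.RingTheory.IntegralDomain
import Mathlib.Algebra.Ring.GeomSum
-- import your own Groth.Agent.* helpers here

set_option autoImplicit false
universe u
open Hopf

namespace Groth.Agent.S18467

section aux

variable {p : ℕ} [Fact p.Prime] {R : Type u} [CommRing R] (u : R)
  (χ : (ZMod p)ˣ →* Rˣ)

/-- the coefficient `χ(m⁻¹)` -/
private noncomputable def cc (m : (ZMod p)ˣ) : R := ((χ m⁻¹ : Rˣ) : R)

private lemma cc_mul (m n : (ZMod p)ˣ) : cc χ (m * n) = cc χ m * cc χ n := by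
  simp only [cc, mul_inv_rev, map_mul, Units.val_mul]
  ring

private lemma cc_one : cc χ (1 : (ZMod p)ˣ) = 1 := by
  simp [cc]

private lemma cc_mul_chi (m : (ZMod p)ˣ) : cc χ m * ((χ m : Rˣ) : R) = 1 := by
  simp only [cc, map_inv, Units.inv_mul]

private lemma cc_inv (m : (ZMod p)ˣ) : cc χ m⁻¹ = ((χ m : Rˣ) : R) := by
  simp [cc]

/-- the unnormalised element `E i = Σ_m χ(m⁻¹)^i [m]` -/
private noncomputable def EE (i : ℕ) : MonoidAlgebra R (ZMod p)ˣ :=
  ∑ m : (ZMod p)ˣ, (cc χ m) ^ i • MonoidAlgebra.of R (ZMod p)ˣ m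

private lemma of_mul_EE (g : (ZMod p)ˣ) (i : ℕ) :
    MonoidAlgebra.of R (ZMod p)ˣ g * EE χ i = (((χ g : Rˣ) : R) ^ i) • EE χ i := by
  simp only [EE, Finset.mul_sum, Finset.smul_sum]
  rw [← Equiv.sum_comp (Equiv.mulLeft g⁻¹)]
  apply Finset.sum_congr rfl
  intro m _
  simp only [Equiv.coe_mulLeft]
  rw [mul_smul_comm, ← map_mul, mul_inv_cancel_left, cc_mul, cc_inv, mul_pow, mul_smul]

/-- character sum -/
private lemma char_sum_mul (g : (ZMod p)ˣ) (i j : ℕ) :
    ((cc χ g) ^ j * ((χ g : Rˣ) : R) ^ i - 1) *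
      ∑ m : (ZMod p)ˣ, (cc χ m) ^ j * ((χ m : Rˣ) : R) ^ i = 0 := by
  rw [sub_mul, one_mul, Finset.mul_sum, sub_eq_zero]
  rw [← Equiv.sum_comp (Equiv.mulLeft g) (fun m => (cc χ m) ^ j * ((χ m : Rˣ) : R) ^ i)]
  apply Finset.sum_congr rfl
  intro m _
  simp only [Equiv.coe_mulLeft, cc_mul, map_mul, Units.val_mul]
  ring

end aux

/-- Let p be a prime and R a commutative ring containing an element u with u(p − 1) = 1, and let χ be a
homomorphism from the group of units of ℤ/p to the group of units of R such that χ(m) − 1 is a unit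
of R for every m ≠ 1. For 0 ≤ i < p − 1 put e_i = u · Σ_m χ(m)^{−i} [m] in the group algebra
R[(ℤ/p)ˣ]. Then the e_i are idempotents, e_i e_j = 0 for i ≠ j, and Σ_i e_i = 1. (The published
statement is for algebras over the subring of the p-adic integers generated over ℤ by the values of
the Teichmüller character χ and by 1/(p(p − 1)); the hypotheses on R and χ here are the properties
of that situation which the computation uses, so the row is stated for every such pair.) -/
theorem result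
    (p : ℕ) [Fact p.Prime] (R : Type u) [CommRing R] (u : R) (hu : u * ((p - 1 : ℕ) : R) = 1)
    (χ : (ZMod p)ˣ →* Rˣ) (hχ : ∀ m : (ZMod p)ˣ, m ≠ 1 → IsUnit ((χ m : R) - 1)) :
    CompleteOrthogonalIdempotents (fun i : Fin (p - 1) =>
      u • ∑ m : (ZMod p)ˣ, ((χ m⁻¹ : Rˣ) : R) ^ (i : ℕ) • MonoidAlgebra.of R (ZMod p)ˣ m) := by
  classical
  have : NeZero p := ⟨(Fact.out : p.Prime).ne_zero⟩
  have hcard : Fintype.card (ZMod p)ˣ = p - 1 := ZMod.card_units p
  -- rewrite the family in terms of EE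
  have hfam : (fun i : Fin (p - 1) =>
      u • ∑ m : (ZMod p)ˣ, ((χ m⁻¹ : Rˣ) : R) ^ (i : ℕ) • MonoidAlgebra.of R (ZMod p)ˣ m) =
      fun i : Fin (p - 1) => u • EE χ (i : ℕ) := rfl
  rw [hfam]
  -- the character sums
  have hS_eq : ∀ i : ℕ, ∑ m : (ZMod p)ˣ, (cc χ m) ^ i * ((χ m : Rˣ) : R) ^ i = ((p - 1 : ℕ) : R) := by
    intro i
    have : ∀ m : (ZMod p)ˣ, (cc χ m) ^ i * ((χ m : Rˣ) : R) ^ i = 1 := by
      intro m; rw [← mul_pow, cc_mul_chi, one_pow]
    simp only [this, Finset.sum_const, Finset.card_univ, hcard, nsmul_eq_mul, mul_one]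
  obtain ⟨g, hg⟩ := IsCyclic.exists_generator (α := (ZMod p)ˣ)
  have hord : orderOf g = p - 1 := by
    rw [orderOf_eq_card_of_forall_mem_zpowers hg, Nat.card_eq_fintype_card, hcard]
  have hS_ne : ∀ i j : ℕ, i < p - 1 → j < p - 1 → i ≠ j →
      ∑ m : (ZMod p)ˣ, (cc χ m) ^ j * ((χ m : Rˣ) : R) ^ i = 0 := by
    intro i j hi hj hij
    have h1 := char_sum_mul χ g i j
    -- the factor is a unit
    have hne : (g⁻¹) ^ j * g ^ i ≠ 1 := by
      intro h
      have h2 : g ^ i = g ^ j := by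
        have := congrArg (fun t => g ^ j * t) h
        simp only [inv_pow, mul_inv_cancel_left, mul_one] at this
        exact this
      have h3 := pow_eq_pow_iff_modEq.1 h2
      rw [hord] at h3
      exact hij (by
        have := Nat.ModEq.eq_of_lt_of_lt h3 hi hj
        exact this)
    have hunit := hχ _ hne
    have hval : ((χ ((g⁻¹) ^ j * g ^ i) : Rˣ) : R) = (cc χ g) ^ j * ((χ g : Rˣ) : R) ^ i := by
      simp only [cc, map_mul, map_pow, Units.val_mul, Units.val_pow_eq_pow_val]
    rw [hval] at hunit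
    exact (hunit.mul_right_eq_zero).1 h1
  -- product formula
  have hprod : ∀ i j : ℕ, (u • EE χ j) * (u • EE χ i) =
      (u * ∑ m : (ZMod p)ˣ, (cc χ m) ^ j * ((χ m : Rˣ) : R) ^ i) • (u • EE χ i) := by
    intro i j
    rw [smul_mul_assoc]
    conv_lhs => rw [EE, Finset.sum_mul]
    simp only [smul_mul_assoc, mul_smul_comm, of_mul_EE, smul_smul]
    rw [← Finset.sum_smul, smul_smul]
    congr 1
    rw [Finset.mul_sum, Finset.mul_sum, Finset.sum_mul]
    apply Finset.sum_congr rfl
    intro m _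
    ring
  refine ⟨⟨?_, ?_⟩, ?_⟩
  · intro i
    change (u • EE χ (i : ℕ)) * (u • EE χ (i : ℕ)) = u • EE χ (i : ℕ)
    rw [hprod, hS_eq, hu, one_smul]
  · intro i j hij
    change (u • EE χ (i : ℕ)) * (u • EE χ (j : ℕ)) = 0
    rw [hprod, hS_ne (j : ℕ) (i : ℕ) j.2 i.2 (fun h => hij (Fin.ext h.symm)), mul_zero, zero_smul]
  · -- completeness
    rw [← Finset.smul_sum]
    simp only [EE]
    rw [Finset.sum_comm]
    simp only [← Finset.sum_smul]
    have hgeom : ∀ m : (ZMod p)ˣ, ∑ i : Fin (p - 1), (cc χ m) ^ (i : ℕ) =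
        if m = 1 then ((p - 1 : ℕ) : R) else 0 := by
      intro m
      rw [Fin.sum_univ_eq_sum_range (fun i => (cc χ m) ^ i) (p - 1)]
      split_ifs with hm
      · subst hm
        simp [cc_one]
      · have h1 : (cc χ m - 1) * ∑ i ∈ Finset.range (p - 1), (cc χ m) ^ i = 0 := by
          rw [mul_geom_sum]
          have : (cc χ m) ^ (p - 1) = 1 := by
            have h2 : m⁻¹ ^ (p - 1) = 1 := ZMod.units_pow_card_sub_one_eq_one p m⁻¹
            simp only [cc]
            rw [← Units.val_pow_eq_pow_val, ← map_pow, h2, map_one, Units.val_one]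
          rw [this, sub_self]
        have hm' : m⁻¹ ≠ 1 := by simpa using hm
        have hunit := hχ _ hm'
        exact (hunit.mul_right_eq_zero).1 h1
    simp only [hgeom]
    rw [Finset.sum_eq_single 1]
    · simp only [if_true, map_one]
      rw [smul_smul, hu, one_smul]
    · intro m _ hm
      rw [if_neg hm, zero_smul]
    · intro h; exact absurd (Finset.mem_univ _) h

end Groth.Agent.S18467
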