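import Groth.Statements.S18470
-- import your own Groth.Agent.* helpers here

set_option autoImplicit false
universe u v
open OortTate

namespace Groth.Agent.S18470

/-- Let R be a commutative ring and A a commutative Hopf algebra over R which is finitely generated and
projective as an R-module (a finite locally free group scheme G = Spec A, not assumed commutative),
and let A^D = Hom_R(A, R) be the dual algebra with its Hopf structure (the Cartier dual when A is
cocommutative), whose counit is evaluation at 1. Then restriction of linear forms to the
augmentation ideal I = ker ε_A of A is a bijection from the augmentation ideal of A^D onto the dual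
module Hom_R(I, R): the dual of the augmentation ideal of G is the augmentation ideal of the dual.
The published statement is for a group scheme of order p over a Λ_p-algebra; the argument uses only
the splitting A = R·1 ⊕ ker ε. -/
theorem result
    (R : Type u) [CommRing R] (A : Type v) [CommRing A] [HopfAlgebra R A]
    [Module.Finite R A] [Module.Projective R A] :
    Function.Bijective (fun f : LinearMap.ker (Bialgebra.counitAlgHom R (CartDual.D R A)).toLinearMap =>
      ((CartDual.toDual R A) (f : CartDual.D R A)).comp
        (LinearMap.ker (Bialgebra.counitAlgHom R A).toLinearMap).subtype) := by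
  classical
  let I : Submodule R A := LinearMap.ker (Bialgebra.counitAlgHom R A).toLinearMap
  -- the projection onto the augmentation ideal
  have hmem : ∀ a : A, a - (Bialgebra.counitAlgHom R A a) • (1 : A) ∈ I := by
    intro a
    change (Bialgebra.counitAlgHom R A).toLinearMap (a - (Bialgebra.counitAlgHom R A a) • (1 : A)) = 0
    rw [AlgHom.toLinearMap_apply, map_sub, map_smul, map_one, smul_eq_mul, mul_one, sub_self]
  let π : A →ₗ[R] I :=
    { toFun := fun a => ⟨a - (Bialgebra.counitAlgHom R A a) • (1 : A), hmem a⟩
      map_add' := by
        intro a b
        apply Subtype.ext
        simp only [map_add, add_smul, Submodule.coe_add]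
        abel
      map_smul' := by
        intro r a
        apply Subtype.ext
        simp only [map_smul, smul_eq_mul, RingHom.id_apply, Submodule.coe_smul, smul_sub, mul_smul] }
  have hπI : ∀ a : I, π (a : A) = a := by
    intro a
    apply Subtype.ext
    have ha : Bialgebra.counitAlgHom R A (a : A) = 0 := a.2
    change (a : A) - (Bialgebra.counitAlgHom R A (a : A)) • (1 : A) = a
    rw [ha, zero_smul, sub_zero]
  have hcounit : ∀ f : CartDual.D R A,
      (Bialgebra.counitAlgHom R (CartDual.D R A)).toLinearMap f = f 1 := fun f => rfl
  constructor
  · intro f g hfg
    apply Subtype.ext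
    apply (CartDual.toDual R A).injective
    apply LinearMap.ext
    intro a
    have hf1 : (CartDual.toDual R A (f : CartDual.D R A)) 1 = 0 := by
      have := f.2
      rw [LinearMap.mem_ker, hcounit] at this
      exact this
    have hg1 : (CartDual.toDual R A (g : CartDual.D R A)) 1 = 0 := by
      have := g.2
      rw [LinearMap.mem_ker, hcounit] at this
      exact this
    have hres := LinearMap.congr_fun hfg (π a)
    simp only [LinearMap.comp_apply, Submodule.subtype_apply] at hres
    have hπa : ((π a : I) : A) = a - (Bialgebra.counitAlgHom R A a) • (1 : A) := rfl
    rw [hπa, map_sub, map_sub, map_smul, map_smul, hf1, hg1, smul_zero, sub_zero, sub_zero] at hres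
    exact hres
  · intro g
    let f0 : CartDual.D R A := (CartDual.toDual R A).symm (g.comp π)
    have hf0 : (Bialgebra.counitAlgHom R (CartDual.D R A)).toLinearMap f0 = 0 := by
      rw [hcounit]
      change (g.comp π) 1 = 0
      have : π 1 = 0 := by
        apply Subtype.ext
        change (1 : A) - (Bialgebra.counitAlgHom R A 1) • (1 : A) = 0
        rw [map_one, one_smul, sub_self]
      rw [LinearMap.comp_apply, this, map_zero]
    refine ⟨⟨f0, hf0⟩, ?_⟩
    apply LinearMap.ext
    intro a
    change (CartDual.toDual R A f0) (a : A) = g a
    rw [LinearEquiv.apply_symm_apply, LinearMap.comp_apply, hπI]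

end Groth.Agent.S18470
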