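import Groth.Statements.S18479
import Groth.Agent.Lib.Helper93.RankTwoHopf
-- import your own Groth.Agent.* helpers here

set_option autoImplicit false
universe u v
open scoped TensorProduct
open OortTate

namespace Groth.Agent.S18479

/-- Let R be a commutative ring and A a commutative Hopf algebra over R whose augmentation ideal ker ε
is a free R-module of rank one with generator x (this is the situation of a group scheme of order 2
over a local ring: A free of rank 2, so ker ε is free of rank 1). Then there are a, b ∈ R with x² =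
a·x, Δ(x) = x ⊗ 1 + 1 ⊗ x + b·(x ⊗ x), and ab = −2; thus A is the Hopf algebra R[T]/(T² − aT) with
comultiplication T ↦ T ⊗ 1 + 1 ⊗ T + b T ⊗ T. (The copy works over a Noetherian local ring to get
freeness; the computation uses only that ker ε is free on x.) -/
theorem result
    (R : Type u) [CommRing R] (A : Type v) [CommRing A] [HopfAlgebra R A]
    (x : A) (hx : Bialgebra.counitAlgHom R A x = 0)
    (hgen : ∀ f : A, Bialgebra.counitAlgHom R A f = 0 → ∃ r : R, f = r • x)
    (hfree : ∀ r : R, r • x = 0 → r = 0) :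
    ∃ a b : R, x * x = a • x ∧
      Bialgebra.comulAlgHom R A x = x ⊗ₜ[R] 1 + 1 ⊗ₜ[R] x + b • (x ⊗ₜ[R] x) ∧ a * b = -2 := by
  classical
  have hεx : Coalgebra.counit (R := R) x = 0 := hx
  have hxx : Bialgebra.counitAlgHom R A (x * x) = 0 := by rw [map_mul, hx, mul_zero]
  obtain ⟨a, ha⟩ := hgen _ hxx
  obtain ⟨c00, c01, c10, c11, hD⟩ : ∃ c00 c01 c10 c11 : R, Coalgebra.comul (R := R) x =
      c00 • ((1 : A) ⊗ₜ[R] (1 : A)) + c01 • ((1 : A) ⊗ₜ[R] x) + c10 • (x ⊗ₜ[R] (1 : A)) +
        c11 • (x ⊗ₜ[R] x) :=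
    ⟨_, _, _, _, Groth.Agent.Lib.Helper93.RankTwo.decomp2 x hx hgen hfree _⟩
  -- independence of 1, x in A
  have hind : ∀ s t : R, s • (1 : A) + t • x = x → s = 0 ∧ t = 1 := by
    intro s t hst
    have h1 := congrArg (Bialgebra.counitAlgHom R A) hst
    rw [map_add, map_smul, map_smul, map_one, hx, smul_zero, add_zero, smul_eq_mul, mul_one] at h1
    refine ⟨h1, ?_⟩
    rw [h1, zero_smul, zero_add] at hst
    have : (t - 1) • x = 0 := by rw [sub_smul, one_smul, hst, sub_self]
    have := hfree _ this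
    linear_combination this
  -- right counit law
  have h1 := Coalgebra.rTensor_counit_comul (R := R) x
  rw [hD] at h1
  have h1' := congrArg (TensorProduct.lid R A) h1
  simp only [map_add, map_smul, LinearMap.rTensor_tmul, hεx, Bialgebra.counit_one,
    TensorProduct.lid_tmul, one_smul, zero_smul, smul_zero, add_zero] at h1'
  obtain ⟨h00, h01⟩ := hind c00 c01 h1'
  -- left counit law
  have h2 := Coalgebra.lTensor_counit_comul (R := R) x
  rw [hD] at h2
  have h2' := congrArg (TensorProduct.rid R A) h2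
  simp only [map_add, map_smul, LinearMap.lTensor_tmul, hεx, Bialgebra.counit_one,
    TensorProduct.rid_tmul, one_smul, zero_smul, smul_zero, add_zero] at h2'
  obtain ⟨-, h10⟩ := hind c00 c10 h2'
  have hD' : Coalgebra.comul (R := R) x = x ⊗ₜ[R] 1 + 1 ⊗ₜ[R] x + c11 • (x ⊗ₜ[R] x) := by
    rw [hD, h00, h01, h10, zero_smul, one_smul, one_smul, zero_add, add_comm ((1 : A) ⊗ₜ[R] x)]
  -- multiplicativity of the comultiplication
  have hmul : Coalgebra.comul (R := R) (x * x) = Coalgebra.comul (R := R) x * Coalgebra.comul (R := R) x :=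
    Bialgebra.comul_mul x x
  rw [ha, map_smul, hD'] at hmul
  have hexp : (x ⊗ₜ[R] (1 : A) + (1 : A) ⊗ₜ[R] x + c11 • (x ⊗ₜ[R] x)) *
      (x ⊗ₜ[R] (1 : A) + (1 : A) ⊗ₜ[R] x + c11 • (x ⊗ₜ[R] x)) =
      (0 : R) • ((1 : A) ⊗ₜ[R] (1 : A)) + a • ((1 : A) ⊗ₜ[R] x) + a • (x ⊗ₜ[R] (1 : A)) +
        (2 + 4 * a * c11 + a ^ 2 * c11 ^ 2) • (x ⊗ₜ[R] x) := by
    simp only [add_mul, mul_add, smul_mul_assoc, mul_smul_comm,
      Algebra.TensorProduct.tmul_mul_tmul, one_mul, mul_one, ha, TensorProduct.tmul_smul,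
      ← TensorProduct.smul_tmul', smul_smul]
    module
  have hlhs : a • (x ⊗ₜ[R] (1 : A) + (1 : A) ⊗ₜ[R] x + c11 • (x ⊗ₜ[R] x)) =
      (0 : R) • ((1 : A) ⊗ₜ[R] (1 : A)) + a • ((1 : A) ⊗ₜ[R] x) + a • (x ⊗ₜ[R] (1 : A)) +
        (a * c11) • (x ⊗ₜ[R] x) := by
    module
  rw [hexp, hlhs] at hmul
  obtain ⟨-, -, -, hab⟩ := Groth.Agent.Lib.Helper93.RankTwo.coeff_unique x hx hgen hfree hmul
  -- the antipode
  have hS0 : Bialgebra.counitAlgHom R A (HopfAlgebra.antipode R x) = 0 := by
    change Coalgebra.counit (R := R) (HopfAlgebra.antipode R x) = 0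
    rw [HopfAlgebra.counit_antipode]; exact hεx
  obtain ⟨c, hc⟩ := hgen _ hS0
  have hanti := HopfAlgebra.mul_antipode_rTensor_comul_apply (R := R) x
  rw [hD', hεx, map_zero] at hanti
  simp only [map_add, map_smul, LinearMap.rTensor_tmul, LinearMap.mul'_apply,
    HopfAlgebra.antipode_one, hc, mul_one, one_mul, smul_mul_assoc, ha, smul_smul] at hanti
  have hc' : (c + 1 + c11 * (c * a)) • x = 0 := by
    rw [add_smul, add_smul, one_smul]; exact hanti
  have hc'' := hfree _ hc'
  refine ⟨a, c11, ha, hD', ?_⟩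
  linear_combination (a * c11 + 2) * hc'' + c * hab

end Groth.Agent.S18479
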