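import Groth.Statements.S18480
import Groth.Agent.Lib.Helper93.RankTwoHopf
-- import your own Groth.Agent.* helpers here

set_option autoImplicit false
universe u v
open scoped TensorProduct
open OortTate

namespace Groth.Agent.S18480

/-- Let R be a commutative ring and let A and A' be commutative Hopf algebras over R whose augmentation
ideals are free of rank one with generators x and x', with constants a, b and a', b' ∈ R such that
x² = a x, Δ(x) = x ⊗ 1 + 1 ⊗ x + b x ⊗ x and x'² = a' x', Δ(x') = x' ⊗ 1 + 1 ⊗ x' + b' x' ⊗ x' (the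
group schemes of order two G_{a,b} and G_{a',b'}). Then A and A' are isomorphic as bialgebras over R
(G_{a,b} ≅ G_{a',b'} as group schemes) if and only if there is a unit s of R with a = a'·s and b' =
b·s. -/
theorem result
    (R : Type u) [CommRing R] (A : Type v) [CommRing A] [HopfAlgebra R A]
    (x : A) (hx : Bialgebra.counitAlgHom R A x = 0)
    (hgen : ∀ f : A, Bialgebra.counitAlgHom R A f = 0 → ∃ r : R, f = r • x)
    (hfree : ∀ r : R, r • x = 0 → r = 0)
    (a b : R) (hxa : x * x = a • x)
    (hxb : Bialgebra.comulAlgHom R A x = x ⊗ₜ[R] 1 + 1 ⊗ₜ[R] x + b • (x ⊗ₜ[R] x))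
    (A' : Type v) [CommRing A'] [HopfAlgebra R A']
    (x' : A') (hx' : Bialgebra.counitAlgHom R A' x' = 0)
    (hgen' : ∀ f : A', Bialgebra.counitAlgHom R A' f = 0 → ∃ r : R, f = r • x')
    (hfree' : ∀ r : R, r • x' = 0 → r = 0)
    (a' b' : R) (hxa' : x' * x' = a' • x')
    (hxb' : Bialgebra.comulAlgHom R A' x' = x' ⊗ₜ[R] 1 + 1 ⊗ₜ[R] x' + b' • (x' ⊗ₜ[R] x')) :
    Nonempty (A ≃ₐc[R] A') ↔ ∃ s : Rˣ, a = a' * (s : R) ∧ b' = b * (s : R) := by
  classical
  have hεx : Coalgebra.counit (R := R) x = 0 := hx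
  have hεx' : Coalgebra.counit (R := R) x' = 0 := hx'
  have hD : Coalgebra.comul (R := R) x = x ⊗ₜ[R] 1 + 1 ⊗ₜ[R] x + b • (x ⊗ₜ[R] x) := hxb
  have hD' : Coalgebra.comul (R := R) x' = x' ⊗ₜ[R] 1 + 1 ⊗ₜ[R] x' + b' • (x' ⊗ₜ[R] x') := hxb'
  constructor
  · rintro ⟨e⟩
    have h1 : Bialgebra.counitAlgHom R A' (e x) = 0 := by
      change Coalgebra.counit (R := R) (e x) = 0
      rw [CoalgHomClass.counit_comp_apply]; exact hεx
    have h2 : Bialgebra.counitAlgHom R A (e.symm x') = 0 := by
      change Coalgebra.counit (R := R) (e.symm x') = 0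
      rw [CoalgHomClass.counit_comp_apply]; exact hεx'
    obtain ⟨t, ht⟩ := hgen' _ h1
    obtain ⟨t', ht'⟩ := hgen _ h2
    have htt : t * t' = 1 := by
      have h3 : e.symm (e x) = x := e.symm_apply_apply x
      rw [ht, map_smul, ht', smul_smul] at h3
      have h4 : (t * t' - 1) • x = 0 := by rw [sub_smul, one_smul, h3, sub_self]
      have := hfree _ h4
      linear_combination this
    refine ⟨Units.mkOfMulEqOne t t' htt, ?_, ?_⟩
    · -- a = a' * t
      have h5 : e (x * x) = e x * e x := map_mul e x x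
      rw [hxa, map_smul, ht, smul_mul_smul_comm, hxa', smul_smul, smul_smul] at h5
      have h6 : (a * t - t * t * a') • x' = 0 := by rw [sub_smul, h5, sub_self]
      have h7 := hfree' _ h6
      change a = a' * t
      linear_combination t' * h7 + a * (-(htt)) + (t * a') * htt
    · -- b' = b * t
      have h5 := CoalgHomClass.map_comp_comul_apply (R := R) e x
      rw [hD, ht, map_smul, hD'] at h5
      have h5' : TensorProduct.map (e : A →ₗ[R] A') (e : A →ₗ[R] A') (x ⊗ₜ[R] x) =
          (t * t) • (x' ⊗ₜ[R] x') := by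
        rw [TensorProduct.map_tmul]
        change (e x) ⊗ₜ[R] (e x) = _
        rw [ht, TensorProduct.smul_tmul_smul]
      have h5a : TensorProduct.map (e : A →ₗ[R] A') (e : A →ₗ[R] A') (x ⊗ₜ[R] (1 : A)) =
          t • (x' ⊗ₜ[R] (1 : A')) := by
        rw [TensorProduct.map_tmul]
        change (e x) ⊗ₜ[R] (e 1) = _
        rw [ht, map_one, TensorProduct.smul_tmul']
      have h5b : TensorProduct.map (e : A →ₗ[R] A') (e : A →ₗ[R] A') ((1 : A) ⊗ₜ[R] x) =
          t • ((1 : A') ⊗ₜ[R] x') := by
        rw [TensorProduct.map_tmul]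
        change (e 1) ⊗ₜ[R] (e x) = _
        rw [ht, map_one, TensorProduct.tmul_smul]
      have h8 : (0 : R) • ((1 : A') ⊗ₜ[R] (1 : A')) + t • ((1 : A') ⊗ₜ[R] x') +
          t • (x' ⊗ₜ[R] (1 : A')) + (b * (t * t)) • (x' ⊗ₜ[R] x') =
          (0 : R) • ((1 : A') ⊗ₜ[R] (1 : A')) + t • ((1 : A') ⊗ₜ[R] x') +
          t • (x' ⊗ₜ[R] (1 : A')) + (t * b') • (x' ⊗ₜ[R] x') := by
        have h9 : TensorProduct.map (e : A →ₗ[R] A') (e : A →ₗ[R] A')
            (x ⊗ₜ[R] 1 + 1 ⊗ₜ[R] x + b • (x ⊗ₜ[R] x)) =
            t • (x' ⊗ₜ[R] 1 + 1 ⊗ₜ[R] x' + b' • (x' ⊗ₜ[R] x')) := by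
          have := CoalgHomClass.map_comp_comul_apply (R := R) e x
          rw [hD, ht, map_smul, hD'] at this
          exact this
        rw [map_add, map_add, map_smul, h5', h5a, h5b] at h9
        calc _ = t • (x' ⊗ₜ[R] (1 : A')) + t • ((1 : A') ⊗ₜ[R] x') + b • (t * t) • (x' ⊗ₜ[R] x') := by
              module
          _ = _ := h9
          _ = _ := by module
      obtain ⟨-, -, -, h11⟩ :=
        Groth.Agent.Lib.Helper93.RankTwo.coeff_unique x' hx' hgen' hfree' h8
      change b' = b * t
      linear_combination (-t') * h11 + b' * (-(htt)) + (b * t) * htt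
  · rintro ⟨s, has, hbs⟩
    let B := Groth.Agent.Lib.Helper93.RankTwo.basis x hx hgen hfree
    let B' := Groth.Agent.Lib.Helper93.RankTwo.basis x' hx' hgen' hfree'
    have hB0 : B 0 = 1 := Groth.Agent.Lib.Helper93.RankTwo.basis_zero x hx hgen hfree
    have hB1 : B 1 = x := Groth.Agent.Lib.Helper93.RankTwo.basis_one x hx hgen hfree
    have hB'0 : B' 0 = 1 := Groth.Agent.Lib.Helper93.RankTwo.basis_zero x' hx' hgen' hfree'
    have hB'1 : B' 1 = x' := Groth.Agent.Lib.Helper93.RankTwo.basis_one x' hx' hgen' hfree'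
    let φ : A →ₗ[R] A' := B.constr R ![1, (s : R) • x']
    let ψ : A' →ₗ[R] A := B'.constr R ![1, ((s⁻¹ : Rˣ) : R) • x]
    have hφ1 : φ 1 = 1 := by
      have := B.constr_basis R ![1, (s : R) • x'] 0
      rw [hB0] at this; exact this
    have hφx : φ x = (s : R) • x' := by
      have := B.constr_basis R ![1, (s : R) • x'] 1
      rw [hB1] at this; exact this
    have hψ1 : ψ 1 = 1 := by
      have := B'.constr_basis R ![1, ((s⁻¹ : Rˣ) : R) • x] 0
      rw [hB'0] at this; exact this
    have hψx : ψ x' = ((s⁻¹ : Rˣ) : R) • x := by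
      have := B'.constr_basis R ![1, ((s⁻¹ : Rˣ) : R) • x] 1
      rw [hB'1] at this; exact this
    have hφψ : φ ∘ₗ ψ = LinearMap.id := by
      apply B'.ext
      intro i
      fin_cases i
      · simp only [Fin.zero_eta, LinearMap.comp_apply, LinearMap.id_apply]
        rw [hB'0, hψ1, hφ1]
      · simp only [Fin.mk_one, LinearMap.comp_apply, LinearMap.id_apply]
        rw [hB'1, hψx, map_smul, hφx, smul_smul, Units.inv_mul, one_smul]
    have hψφ : ψ ∘ₗ φ = LinearMap.id := by
      apply B.ext
      intro i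
      fin_cases i
      · simp only [Fin.zero_eta, LinearMap.comp_apply, LinearMap.id_apply]
        rw [hB0, hφ1, hψ1]
      · simp only [Fin.mk_one, LinearMap.comp_apply, LinearMap.id_apply]
        rw [hB1, hφx, map_smul, hψx, smul_smul, Units.mul_inv, one_smul]
    let l : A ≃ₗ[R] A' := LinearEquiv.ofLinearMap φ ψ hφψ hψφ
    have hmul : ∀ f g : A, φ (f * g) = φ f * φ g := by
      have hbil : (LinearMap.mul R A).compr₂ φ = (LinearMap.mul R A').compl₁₂ φ φ := by
        apply B.ext
        intro i
        apply B.ext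
        intro j
        simp only [LinearMap.compr₂_apply, LinearMap.compl₁₂_apply, LinearMap.mul_apply']
        fin_cases i <;> fin_cases j
        · simp only [Fin.zero_eta]; rw [hB0, one_mul, hφ1, one_mul]
        · simp only [Fin.zero_eta, Fin.mk_one]; rw [hB0, hB1, one_mul, hφ1, one_mul]
        · simp only [Fin.zero_eta, Fin.mk_one]; rw [hB0, hB1, mul_one, hφ1, mul_one]
        · simp only [Fin.mk_one]
          rw [hB1, hxa, map_smul, hφx, smul_mul_smul_comm, hxa', smul_smul, smul_smul, has]
          congr 1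
          ring
      intro f g
      have := LinearMap.congr_fun (LinearMap.congr_fun hbil f) g
      simpa only [LinearMap.compr₂_apply, LinearMap.compl₁₂_apply, LinearMap.mul_apply'] using this
    let E : A ≃ₐ[R] A' := AlgEquiv.ofLinearEquiv l hφ1 hmul
    have hEφ : ∀ f, E f = φ f := fun f => rfl
    refine ⟨BialgEquiv.ofAlgEquiv E ?_ ?_⟩
    · apply AlgHom.ext
      intro f
      have hlin : (Bialgebra.counitAlgHom R A').toLinearMap ∘ₗ φ =
          (Bialgebra.counitAlgHom R A).toLinearMap := by
        apply B.ext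
        intro i
        fin_cases i
        · simp only [Fin.zero_eta, LinearMap.comp_apply, AlgHom.toLinearMap_apply]
          rw [hB0, hφ1, map_one, map_one]
        · simp only [Fin.mk_one, LinearMap.comp_apply, AlgHom.toLinearMap_apply]
          rw [hB1, hφx, map_smul, hx', hx, smul_zero]
      exact LinearMap.congr_fun hlin f
    · apply AlgHom.ext
      intro f
      have hlin : (Algebra.TensorProduct.map (E : A →ₐ[R] A') (E : A →ₐ[R] A')).toLinearMap ∘ₗ
          (Bialgebra.comulAlgHom R A).toLinearMap =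
          (Bialgebra.comulAlgHom R A').toLinearMap ∘ₗ φ := by
        apply B.ext
        intro i
        fin_cases i
        · simp only [Fin.zero_eta, LinearMap.comp_apply, AlgHom.toLinearMap_apply]
          rw [hB0, hφ1, map_one, map_one, map_one]
        · simp only [Fin.mk_one, LinearMap.comp_apply, AlgHom.toLinearMap_apply]
          rw [hB1, hφx, map_smul, hxb, hxb']
          simp only [map_add, map_smul, Algebra.TensorProduct.map_tmul, AlgEquiv.coe_toAlgHom,
            hEφ, hφx, map_one]
          rw [hbs]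
          simp only [TensorProduct.tmul_smul, ← TensorProduct.smul_tmul', smul_smul]
          module
      exact LinearMap.congr_fun hlin f

end Groth.Agent.S18480
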