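import Groth.Statements.S18498
import Mathlib
-- import your own Groth.Agent.* helpers here

set_option autoImplicit false
universe u
open CategoryTheory CategoryTheory.Limits AlgebraicGeometry MonObj
open Neron

namespace Groth.Agent.S18498


theorem isSchemeTheoreticallyDominant_SpecMap {A B : CommRingCat.{u}} (φ : A ⟶ B)
    (hφ : Function.Injective φ.hom) : IsSchemeTheoreticallyDominant (Spec.map φ) := by
  have hinj : Function.Injective (Spec.map φ).appTop := by
    have h := Scheme.ΓSpecIso_naturality φ
    have h2 : (Spec.map φ).appTop = (Scheme.ΓSpecIso A).hom ≫ φ ≫ (Scheme.ΓSpecIso B).inv := by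
      rw [← Category.assoc, ← h, Category.assoc, Iso.hom_inv_id, Category.comp_id]
    rw [h2]
    have hA : Function.Injective (Scheme.ΓSpecIso A).hom :=
      (ConcreteCategory.bijective_of_isIso (Scheme.ΓSpecIso A).hom).1
    have hB : Function.Injective (Scheme.ΓSpecIso B).inv :=
      (ConcreteCategory.bijective_of_isIso (Scheme.ΓSpecIso B).inv).1
    intro a b hab
    apply hA
    apply hφ
    apply hB
    exact hab
  refine ⟨Scheme.IdealSheafData.ext_of_isAffine ?_⟩
  rw [(Spec.map φ).ker_apply ⟨⊤, isAffineOpen_top (Spec A)⟩, Scheme.IdealSheafData.ideal_bot]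
  exact (RingHom.injective_iff_ker_eq_bot _).mp hinj

/-- Let R be a Dedekind domain with fraction field K, X a Spec R-scheme which is flat over Spec R, Y a
Spec R-scheme which is separated over Spec R, and f, g : X → Y two R-morphisms whose restrictions to
generic fibres X_K → Y_K are equal. Then f = g: an R-morphism from a flat R-scheme to a separated
R-scheme is determined by its generic fibre. (The source states this for algebraic spaces over a
connected Dedekind scheme; the case of schemes over an affine base is stated.) -/
theorem result (R : Type u) [CommRing R] [IsDedekindDomain R]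
    (X Y : Over (Spec (CommRingCat.of R))) [Flat X.hom] [IsSeparated Y.hom] (f g : X ⟶ Y)
    (h : (Neron.genericFibre R).map f = (Neron.genericFibre R).map g) : f = g := by
  -- the projection from the generic fibre is scheme-theoretically dominant
  have hgen : IsSchemeTheoreticallyDominant (Neron.genPt R) :=
    isSchemeTheoreticallyDominant_SpecMap _ (IsFractionRing.injective R (FractionRing R))
  have hπ : IsSchemeTheoreticallyDominant (pullback.fst X.hom (Neron.genPt R)) := inferInstance
  -- the equalizer
  have hcl : IsClosedImmersion (equalizer.ι f g).left := inferInstance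
  -- π equalizes f and g
  have hfg : pullback.fst X.hom (Neron.genPt R) ≫ f.left =
      pullback.fst X.hom (Neron.genPt R) ≫ g.left := by
    have h1 : ((Neron.genericFibre R).map f).left ≫ pullback.fst Y.hom (Neron.genPt R) =
        pullback.fst X.hom (Neron.genPt R) ≫ f.left := by
      simp only [Neron.genericFibre, Over.pullback_map_left]
      exact pullback.lift_fst _ _ _
    have h2 : ((Neron.genericFibre R).map g).left ≫ pullback.fst Y.hom (Neron.genPt R) =
        pullback.fst X.hom (Neron.genPt R) ≫ g.left := by
      simp only [Neron.genericFibre, Over.pullback_map_left]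
      exact pullback.lift_fst _ _ _
    rw [← h1, ← h2, h]
  -- build the lift in Over S
  let XK : Over (Spec (CommRingCat.of R)) :=
    Over.mk (pullback.fst X.hom (Neron.genPt R) ≫ X.hom)
  let π : XK ⟶ X := Over.homMk (pullback.fst X.hom (Neron.genPt R)) rfl
  have hπfg : π ≫ f = π ≫ g := by
    ext1
    exact hfg
  have hfac : (equalizer.lift π hπfg).left ≫ (equalizer.ι f g).left =
      pullback.fst X.hom (Neron.genPt R) := by
    rw [← Over.comp_left, equalizer.lift_ι]
    rfl
  have hker : (equalizer.ι f g).left.ker = ⊥ := by
    have := Scheme.Hom.le_ker_comp (equalizer.lift π hπfg).left (equalizer.ι f g).left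
    rw [hfac, hπ.ker_eq_bot] at this
    exact le_bot_iff.mp this
  have hiso : IsIso (equalizer.ι f g).left := IsClosedImmersion.isIso_iff_ker_eq_bot.mpr hker
  ext1
  rw [← cancel_epi (equalizer.ι f g).left]
  exact congr($(equalizer.condition f g).left)

end Groth.Agent.S18498
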