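import Groth.Statements.S18484
-- import your own Groth.Agent.* helpers here
import Groth.Agent.S18498
import Groth.Agent.Lib.Helper40.DenseFactor

set_option autoImplicit false
universe u
open CategoryTheory CategoryTheory.Limits AlgebraicGeometry MonObj
open Neron

namespace Groth.Agent.S18484

/-- Let R be a Dedekind domain with fraction field K, X a Spec R-scheme which is a Néron model of its
generic fibre X_K, and i : G → X a closed immersion with G smooth over Spec R. Then G is a Néron
model of its generic fibre G_K: smooth, separated, of finite type, and for every smooth Spec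
R-scheme Y restriction to generic fibres is a bijection from R-morphisms Y → G onto K-morphisms Y_K
→ G_K. (The source states this for a closed subgroup scheme of a Néron model; the group laws play no
part and are not assumed. The converse direction of the source, that a Néron model is a closed
subgroup of a Néron model, is immediate and not stated.) -/
theorem result (R : Type u) [CommRing R] [IsDedekindDomain R]
    (X G : Over (Spec (CommRingCat.of R))) (hX : Neron.IsNeronModelOf R X ((Neron.genericFibre R).obj X) (Iso.refl _))
    (i : G ⟶ X) [IsClosedImmersion i.left] [Smooth G.hom] :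
    Neron.IsNeronModelOf R G ((Neron.genericFibre R).obj G) (Iso.refl _) := by
  obtain ⟨hXs, hXsep, hXlft, hXqc, hXmap⟩ := hX
  haveI := hXsep
  haveI := hXlft
  haveI := hXqc
  haveI himono : Mono i := Groth.Agent.Lib.Helper40.DenseFactor.mono_of_isClosedImmersion_left i
  have hw : i.left ≫ X.hom = G.hom := Over.w i
  refine ⟨inferInstance, ?_, ?_, ?_, ?_⟩
  · rw [← hw]
    infer_instance
  · infer_instance
  · rw [← hw]
    infer_instance
  · intro Y hY
    haveI := hY
    constructor
    · intro g₁ g₂ h
      have h' : (Neron.genericFibre R).map g₁ = (Neron.genericFibre R).map g₂ := by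
        simpa using h
      have h2 : (Neron.genericFibre R).map (g₁ ≫ i) ≫ (Iso.refl _).hom =
          (Neron.genericFibre R).map (g₂ ≫ i) ≫ (Iso.refl _).hom := by
        rw [Functor.map_comp, Functor.map_comp, h']
      have h3 := (hXmap Y hY).1 h2
      exact (cancel_mono i).mp h3
    · intro u
      obtain ⟨f, hf⟩ := (hXmap Y hY).2 (u ≫ (Neron.genericFibre R).map i)
      have hf' : (Neron.genericFibre R).map f = u ≫ (Neron.genericFibre R).map i := by
        simpa using hf
      haveI hgen : IsSchemeTheoreticallyDominant (Neron.genPt R) :=
        Groth.Agent.S18498.isSchemeTheoreticallyDominant_SpecMap _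
          (IsFractionRing.injective R (FractionRing R))
      haveI : Flat Y.hom := inferInstance
      haveI hπ : IsSchemeTheoreticallyDominant (pullback.fst Y.hom (Neron.genPt R)) :=
        inferInstance
      have e1 : ((Neron.genericFibre R).map f).left ≫ pullback.fst X.hom (Neron.genPt R) =
          pullback.fst Y.hom (Neron.genPt R) ≫ f.left := pullback.lift_fst _ _ _
      have e2 : ((Neron.genericFibre R).map i).left ≫ pullback.fst X.hom (Neron.genPt R) =
          pullback.fst G.hom (Neron.genPt R) ≫ i.left := pullback.lift_fst _ _ _
      have h3 : pullback.fst Y.hom (Neron.genPt R) ≫ f.left =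
          (u.left ≫ pullback.fst G.hom (Neron.genPt R)) ≫ i.left := by
        rw [← e1, hf', Over.comp_left, Category.assoc, e2, Category.assoc]
      obtain ⟨χ₀, hχ₀⟩ := Groth.Agent.Lib.Helper40.DenseFactor.exists_factor_of_schemeDominant
        (pullback.fst Y.hom (Neron.genPt R)) i.left f.left
        (u.left ≫ pullback.fst G.hom (Neron.genPt R)) h3
      obtain ⟨g, hg⟩ : ∃ g : Y ⟶ G, g ≫ i = f := by
        refine ⟨Over.homMk χ₀ ?_, ?_⟩
        · rw [← hw, ← Category.assoc, hχ₀, Over.w f]
        · ext
          exact hχ₀
      refine ⟨g, ?_⟩
      haveI : (Neron.genericFibre R).IsRightAdjoint := ⟨_, ⟨Over.mapPullbackAdj _⟩⟩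
      haveI : Mono ((Neron.genericFibre R).map i) := inferInstance
      have h4 : (Neron.genericFibre R).map g ≫ (Neron.genericFibre R).map i =
          u ≫ (Neron.genericFibre R).map i := by
        rw [← Functor.map_comp, hg, hf']
      change (Neron.genericFibre R).map g ≫ (Iso.refl _).hom = u
      rw [Iso.refl_hom, Category.comp_id]
      exact (cancel_mono _).mp h4

end Groth.Agent.S18484
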