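import Groth.Statements.S18485
import Groth.Agent.S1608
import Groth.Agent.Lib.Helper73.QFAt2
-- import your own Groth.Agent.* helpers here

set_option autoImplicit false
universe u
open CategoryTheory CategoryTheory.Limits AlgebraicGeometry MonObj
open Neron

namespace Groth.Agent.S18485

/-- Let R be a Dedekind domain with fraction field K and H a Spec R-scheme which is flat and locally of
finite type over Spec R. If the generic fibre H_K is locally quasi-finite over K, then H is locally
quasi-finite over Spec R. (The published statement is about the schematic closure, in an S-group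
algebraic space of finite type over a connected Dedekind scheme S, of a finite subgroup of the
generic fibre, which it asserts to be a quasi-finite S-group; this row is the statement about flat
schemes locally of finite type over an affine Dedekind base on which that rests. Locally
quasi-finite is meant here without a finite type clause, which is assumed separately.) -/
theorem result (R : Type u) [CommRing R]
    [IsDedekindDomain R] (H : Over (Spec (CommRingCat.of R))) [Flat H.hom] [LocallyOfFiniteType H.hom]
    [LocallyQuasiFinite ((Neron.genericFibre R).obj H).hom] : LocallyQuasiFinite H.hom := by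
  have hlqf : LocallyQuasiFinite (pullback.snd H.hom (Neron.genPt R)) :=
    ‹LocallyQuasiFinite ((Neron.genericFibre R).obj H).hom›
  apply Groth.Agent.Lib.Helper73.QFAt.locallyQuasiFinite_of_forall_quasiFiniteAt
  intro x
  have hdim : ringKrullDim ((Spec (CommRingCat.of R)).presheaf.stalk (H.hom.base x)) ≤ 1 := by
    refine (Groth.Agent.Lib.Helper73.QFAt.ringKrullDim_stalk_Spec_le _ _).trans ?_
    exact (Ring.krullDimLE_iff (n := 1) (R := R)).mp inferInstance
  refine Groth.Agent.S1608.result H.hom (H.hom.base x) hdim ?_ x rfl
  intro Z hZ w hw
  have hmax : ∀ w' : H.left, w' ⤳ w → w' = w := by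
    apply Groth.Agent.Lib.Helper73.SchemeDim.maximal_of_closure_singleton_mem_irreducibleComponents
    rw [hw.def]; exact hZ
  have hgen : ∀ s' : Spec (CommRingCat.of R), s' ⤳ H.hom.base w → s' = H.hom.base w := by
    intro s' hs'
    obtain ⟨w', hw'w, rfl⟩ := Flat.generalizingMap H.hom hs'
    rw [hmax w' hw'w]
  -- the generic point of `Spec R`
  let ζ : Spec (CommRingCat.of (FractionRing R)) := (⟨⊥, Ideal.isPrime_bot⟩ : PrimeSpectrum (FractionRing R))
  have hζ : (Neron.genPt R).base ζ ⤳ H.hom.base w := by
    have h1 : @LE.le (PrimeSpectrum R) _ ((Neron.genPt R).base ζ) (H.hom.base w) := by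
      change PrimeSpectrum.asIdeal (R := R) ((Neron.genPt R).base ζ) ≤ _
      have : PrimeSpectrum.asIdeal (R := R) ((Neron.genPt R).base ζ) = ⊥ := by
        change Ideal.comap (algebraMap R (FractionRing R)) ⊥ = ⊥
        exact Ideal.comap_bot_of_injective _ (IsFractionRing.injective R (FractionRing R))
      rw [this]
      exact bot_le
    exact (PrimeSpectrum.le_iff_specializes (R := R) _ _).mp h1
  have hζ' := hgen _ hζ
  obtain ⟨w', hw'1, hw'2⟩ := Scheme.Pullback.exists_preimage_pullback (f := H.hom)
    (g := Neron.genPt R) w ζ hζ'.symm
  have hsq : IsPullback (pullback.fst H.hom (Neron.genPt R)) (pullback.snd H.hom (Neron.genPt R))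
      H.hom (Neron.genPt R) := IsPullback.of_hasPullback _ _
  have h1 := (Groth.Agent.S9358.result H.hom (Neron.genPt R) _ _ hsq 0).1 w'
  rw [hw'1] at h1
  rw [Groth.Agent.Lib.Helper73.QFAt.quasiFiniteAt_iff_fibreDimAt_eq_zero, ← h1,
    ← Groth.Agent.Lib.Helper73.QFAt.quasiFiniteAt_iff_fibreDimAt_eq_zero]
  exact (pullback.snd H.hom (Neron.genPt R)).quasiFiniteAt w'

end Groth.Agent.S18485
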