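import Groth.Statements.S18486
-- import your own Groth.Agent.* helpers here
import Groth.Agent.Lib.Helper40.NeronTorsor
import Groth.Agent.Lib.Helper40.LocTrivCov
import Groth.Agent.Lib.Helper40.FpqcLocal
import Groth.Agent.S1581

set_option autoImplicit false
universe u
open CategoryTheory CategoryTheory.Limits AlgebraicGeometry MonObj
open Neron

namespace Groth.Agent.S18486

/-- Let R be a Dedekind domain with fraction field K, X a group scheme over Spec R which is a Néron
model of its generic fibre, and P a Spec R-scheme with an action of X making it an X-torsor for the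
fppf topology (a pseudo-torsor which acquires sections on the members of some fppf covering family
of Spec R). Then P is smooth, separated and of finite type over Spec R and has the Néron mapping
property: for every smooth Spec R-scheme Y restriction to generic fibres is a bijection from
R-morphisms Y → P onto K-morphisms Y_K → P_K; that is, P is a Néron model of P_K. (The source treats
Néron lft models, torsors that are algebraic spaces and the mapping property towards smooth
algebraic spaces; the case of a Néron model of finite type and a torsor which is a scheme is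
stated.) -/
theorem result (R : Type u) [CommRing R] [IsDedekindDomain R]
    (X : Over (Spec (CommRingCat.of R))) [GrpObj X] (hX : Neron.IsNeronModelOf R X ((Neron.genericFibre R).obj X) (Iso.refl _))
    (P : NonAbH1.TorsorSch X Scheme.fppfPrecoverage) :
    Neron.IsNeronModelOf R P.X ((Neron.genericFibre R).obj P.X) (Iso.refl _) := by
  obtain ⟨hsm, hsep, hlft, hqc, hmap⟩ := hX
  obtain ⟨hpt, hloc⟩ := P.isTorsor
  have hNcov : Groth.Agent.Lib.Helper40.FpqcCov.IsCov P.X.hom :=
    Groth.Agent.Lib.Helper40.FpqcCov.isCov_of_isLocallyTrivialFor_fppf P.X hloc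
  have hiso : IsIso (CartesianMonoidalCategory.lift P.act.act (CartesianMonoidalCategory.snd X P.X)) := hpt
  have sqPP : IsPullback (CartesianMonoidalCategory.snd P.X P.X).left
      (CartesianMonoidalCategory.fst P.X P.X).left P.X.hom P.X.hom := by
    rw [Over.snd_left, Over.fst_left]
    exact (IsPullback.of_hasPullback P.X.hom P.X.hom).flip
  have e0 : CartesianMonoidalCategory.snd P.X P.X =
      inv (CartesianMonoidalCategory.lift P.act.act (CartesianMonoidalCategory.snd X P.X)) ≫
        CartesianMonoidalCategory.snd X P.X :=
    (IsIso.eq_inv_comp _).mpr (CartesianMonoidalCategory.lift_snd _ _)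
  have e : (CartesianMonoidalCategory.snd P.X P.X).left =
      (inv (CartesianMonoidalCategory.lift P.act.act (CartesianMonoidalCategory.snd X P.X))).left ≫
        (CartesianMonoidalCategory.snd X P.X).left := by
    rw [← Over.comp_left, ← e0]
  haveI : IsIso (inv (CartesianMonoidalCategory.lift P.act.act
      (CartesianMonoidalCategory.snd X P.X))).left :=
    inferInstanceAs (IsIso ((Over.forget _).map (inv (CartesianMonoidalCategory.lift P.act.act
      (CartesianMonoidalCategory.snd X P.X)))))
  have key : ∀ (Q : MorphismProperty Scheme.{u}) [Q.IsStableUnderBaseChange] [Q.RespectsIso],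
      Q X.hom → Q (CartesianMonoidalCategory.snd P.X P.X).left := by
    intro Q _ _ hQ
    rw [e, Q.cancel_left_of_respectsIso, Over.snd_left]
    exact Q.pullback_snd _ _ hQ
  have i1 := Groth.Agent.S1581.isSeparated_descendsAlong.{u}
  have iqc := Groth.Agent.Lib.Helper40.FpqcLocal.quasiCompact_descendsAlong_fpqc.{u}
  have hsm' : Smooth P.X.hom := hNcov.descends @Smooth sqPP (key @Smooth hsm)
  have hsep' : IsSeparated P.X.hom := hNcov.descends @IsSeparated sqPP (key @IsSeparated hsep)
  have hlft' : LocallyOfFiniteType P.X.hom :=
    hNcov.descends @LocallyOfFiniteType sqPP (key @LocallyOfFiniteType hlft)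
  have hqc' : QuasiCompact P.X.hom := hNcov.descends @QuasiCompact sqPP (key @QuasiCompact hqc)
  refine ⟨hsm', hsep', hlft', hqc', ?_⟩
  have hP : ∀ Z : Over (Spec (CommRingCat.of R)), Smooth Z.hom →
      Smooth (MonoidalCategory.tensorObj Z P.X).hom := by
    intro Z hZ
    have h1 : (MonoidalCategory.tensorObj Z P.X).hom =
        (CartesianMonoidalCategory.fst Z P.X).left ≫ Z.hom :=
      (Over.w (CartesianMonoidalCategory.fst Z P.X)).symm
    have h2 : Smooth (CartesianMonoidalCategory.fst Z P.X).left := by
      rw [Over.fst_left]
      infer_instance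
    rw [h1]
    infer_instance
  have key2 := Groth.Agent.Lib.Helper40.NeronTorsor.bijective_iff
    (Over.pullback (Neron.genPt R) ⋙ Over.map (Neron.genPt R))
    (Over.mapPullbackAdj (Neron.genPt R)).counit P.act
    (fun f hf => Groth.Agent.Lib.Helper40.NeronTorsor.epi_map_of_isCov (Neron.genPt R) f hf)
    hpt hNcov (fun Z => Smooth Z.hom) hP
  have hmap' : ∀ Z : Over (Spec (CommRingCat.of R)), Smooth Z.hom →
      Function.Bijective (fun g : Z ⟶ X => (Over.pullback (Neron.genPt R)).map g) := by
    intro Z hZ
    have := hmap Z hZ
    simp only [Iso.refl_hom, Category.comp_id] at this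
    exact this
  intro Y hY
  have h3 := key2.1 (fun Z hZ =>
    (Groth.Agent.Lib.Helper40.NeronTorsor.bijective_pullback_map_iff (Neron.genPt R) Z X).1
      (hmap' Z hZ)) Y hY
  have h4 := (Groth.Agent.Lib.Helper40.NeronTorsor.bijective_pullback_map_iff
    (Neron.genPt R) Y P.X).2 h3
  simp only [Iso.refl_hom, Category.comp_id]
  exact h4

end Groth.Agent.S18486
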