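import Groth.Statements.S18490
import Mathlib
-- import your own Groth.Agent.* helpers here

set_option autoImplicit false
universe u
open CategoryTheory CategoryTheory.Limits AlgebraicGeometry
open FlatMor

namespace Groth.Agent.S18490


theorem ringHom_flat_of_retract {A C B : Type*} [CommRing A] [CommRing B] [CommRing C]
    (φ : A →+* C) (ρ : C →+* B) (τ : B →+* C) (h : τ.comp ρ = RingHom.id C)
    (hflat : (ρ.comp φ).Flat) : φ.Flat := by
  let _ := φ.toAlgebra
  let _ := (ρ.comp φ).toAlgebra
  have hB : Module.Flat A B := hflat
  let i : C →ₗ[A] B :=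
    { toFun := ρ
      map_add' := map_add ρ
      map_smul' := by
        intro a c
        simp only [Algebra.smul_def, RingHom.algebraMap_toAlgebra, map_mul, RingHom.id_apply,
          RingHom.comp_apply] }
  let r : B →ₗ[A] C :=
    { toFun := τ
      map_add' := map_add τ
      map_smul' := by
        intro a b
        have h1 : τ (ρ (φ a)) = φ a := by
          have := congrArg (fun g : C →+* C => g (φ a)) h
          simpa using this
        simp only [Algebra.smul_def, RingHom.algebraMap_toAlgebra, map_mul, RingHom.id_apply,
          RingHom.comp_apply, h1] }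
  have hri : r.comp i = LinearMap.id := by
    ext c
    have := congrArg (fun g : C →+* C => g c) h
    simpa [i, r] using this
  exact Module.Flat.of_retract i r hri

theorem flat_of_retract {X W S : Scheme.{u}} (s : X ⟶ W) (r : W ⟶ X) (f : X ⟶ S)
    (hsr : s ≫ r = 𝟙 X) [Flat (r ≫ f)] : Flat f := by
  rw [Flat.iff_flat_stalkMap]
  intro x
  have hx : r (s x) = x := by
    have := congrArg (fun g : X ⟶ X => g x) hsr
    simpa using this
  have key : ∀ x' (hx' : x' = x), (f.stalkMap x').hom.Flat → (f.stalkMap x).hom.Flat := by
    intro x' hx' h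
    subst hx'
    exact h
  refine key (r (s x)) hx ?_
  have hflat : ((r.stalkMap (s x)).hom.comp (f.stalkMap (r (s x))).hom).Flat := by
    have := Flat.stalkMap (r ≫ f) (s x)
    rw [Scheme.Hom.stalkMap_comp] at this
    exact this
  have h1 : r.stalkMap (s x) ≫ s.stalkMap x =
      (X.presheaf.stalkCongr (.of_eq (by rw [hx]))).hom := by
    rw [← Scheme.Hom.stalkMap_comp, Scheme.Hom.stalkMap_congr_hom (s ≫ r) (𝟙 X) hsr x,
      Scheme.Hom.stalkMap_id]
    exact Category.comp_id _
  refine ringHom_flat_of_retract (f.stalkMap (r (s x))).hom (r.stalkMap (s x)).hom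
    (s.stalkMap x ≫ (X.presheaf.stalkCongr (.of_eq (by rw [hx]))).inv).hom ?_ hflat
  rw [← CommRingCat.hom_comp, ← Category.assoc, h1, Iso.hom_inv_id]
  rfl

/-- Let f : X → S and g : Y → S be morphisms of schemes and suppose that g has a section y : S → Y. If
the structure morphism X ×_S Y → S (first projection followed by f) is quasi-compact, then so is f;
likewise for locally of finite type, for separated, and for flat. (Finite type, also listed in the
source, is the conjunction of the first two.) -/
theorem result {X Y S : Scheme.{u}} (f : X ⟶ S) (g : Y ⟶ S)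
    (y : S ⟶ Y) (hy : y ≫ g = 𝟙 S) :
    (QuasiCompact (pullback.fst f g ≫ f) → QuasiCompact f) ∧
    (LocallyOfFiniteType (pullback.fst f g ≫ f) → LocallyOfFiniteType f) ∧
    (IsSeparated (pullback.fst f g ≫ f) → IsSeparated f) ∧
    (Flat (pullback.fst f g ≫ f) → Flat f) := by
  have hs : pullback.lift (𝟙 X) (f ≫ y) (by rw [Category.id_comp, Category.assoc, hy, Category.comp_id]) ≫
      pullback.fst f g = 𝟙 X := pullback.lift_fst _ _ _
  set s : X ⟶ pullback f g :=
    pullback.lift (𝟙 X) (f ≫ y) (by rw [Category.id_comp, Category.assoc, hy, Category.comp_id]) with hs_def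
  have hf : f = s ≫ (pullback.fst f g ≫ f) := by rw [← Category.assoc, hs, Category.id_comp]
  have hsimm : IsImmersion s := by
    have : IsImmersion (s ≫ pullback.fst f g) := by rw [hs]; infer_instance
    exact IsImmersion.of_comp s (pullback.fst f g)
  refine ⟨fun h => ?_, fun h => ?_, fun h => ?_, fun h => ?_⟩
  · constructor
    intro U hU hUc
    have hc : IsCompact ((pullback.fst f g ≫ f) ⁻¹' U) := h.isCompact_preimage U hU hUc
    have : f ⁻¹' U = (pullback.fst f g) '' ((pullback.fst f g ≫ f) ⁻¹' U) := by
      ext x
      constructor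
      · intro hx
        have h2 : (pullback.fst f g) (s x) = x := by
          have := congrArg (fun φ : X ⟶ X => φ x) hs
          simpa using this
        refine ⟨s x, ?_, h2⟩
        rw [Set.mem_preimage, Scheme.Hom.comp_apply, h2]
        exact hx
      · rintro ⟨w, hw, rfl⟩
        rw [Set.mem_preimage, Scheme.Hom.comp_apply] at hw
        exact hw
    rw [this]
    exact hc.image (pullback.fst f g).continuous
  · rw [hf]; infer_instance
  · rw [hf]; infer_instance
  · exact flat_of_retract s (pullback.fst f g) f hs

end Groth.Agent.S18490
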