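import Groth.Statements.S18491
import Groth.Agent.Lib.Helper16.FiberUnramified
import Groth.Agent.Lib.Helper16.FinGrpSchEtale

set_option autoImplicit false
universe u
open CategoryTheory CategoryTheory.Limits AlgebraicGeometry MonObj
open GrpSch

namespace Groth.Agent.S18491

/-- Let S be a scheme and G an S-group scheme whose structure morphism is locally quasi-finite, of
finite type, flat and locally of finite presentation (a quasi-finite fppf group scheme). Suppose
that for every point s of S the fibre G_s, a finite group scheme over the residue field k(s), has
order non-zero in k(s): the rank of G_s → Spec k(s) at the point of Spec k(s) is not divisible by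
the characteristic. Then G → S is étale. -/
theorem result {S : Scheme.{u}} (G : Over S) [GrpObj G]
    [LocallyQuasiFinite G.hom] [QuasiCompact G.hom] [Flat G.hom] [LocallyOfFinitePresentation G.hom]
    (h : ∀ (s : S) (x : ↥(Spec (S.residueField s))),
      ((pullback.snd G.hom (S.fromSpecResidueField s)).finrank x : S.residueField s) ≠ 0) :
    Etale G.hom := by
  apply Lib.Helper16.FiberUnr.etale_of_etale_fiber
  intro s
  change Etale (pullback.snd G.hom (S.fromSpecResidueField s))
  letI : GrpObj ((Over.pullback (S.fromSpecResidueField s)).obj G) :=
    Functor.grpObjObj (F := Over.pullback (S.fromSpecResidueField s)) (G := G)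
  haveI : IsFinite ((Over.pullback (S.fromSpecResidueField s)).obj G).hom :=
    inferInstanceAs (IsFinite (G.hom.fiberToSpecResidueField s))
  haveI : Flat ((Over.pullback (S.fromSpecResidueField s)).obj G).hom :=
    inferInstanceAs (Flat (pullback.snd G.hom (S.fromSpecResidueField s)))
  haveI : LocallyOfFinitePresentation ((Over.pullback (S.fromSpecResidueField s)).obj G).hom :=
    inferInstanceAs (LocallyOfFinitePresentation (pullback.snd G.hom (S.fromSpecResidueField s)))
  have key := Lib.Helper16.FinGrpSch.etale_of_finrank_ne_zero
    ((Over.pullback (S.fromSpecResidueField s)).obj G) (fun x => by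
    intro h0
    apply h s x
    let ψ : S.residueField s →+* (Spec (S.residueField s)).residueField x :=
      ((Scheme.Spec.residueFieldIso (S.residueField s) x).inv.hom).comp
        (algebraMap (S.residueField s) x.asIdeal.ResidueField)
    have h2 : ψ (((pullback.snd G.hom (S.fromSpecResidueField s)).finrank x : ℕ) :
        S.residueField s) = 0 := by
      rw [map_natCast]
      exact h0
    exact (map_eq_zero ψ).1 h2)
  exact key

end Groth.Agent.S18491
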