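import Groth.Statements.S18501
import Groth.Agent.Lib.Helper23.NeutralFlat
import Groth.Agent.Lib.Helper24.LfpOfComp
import Groth.Agent.Lib.Helper69.ReducedSmoothLocal

set_option autoImplicit false
universe u
open CategoryTheory CategoryTheory.Limits AlgebraicGeometry MonObj
open Neron

namespace Groth.Agent.S18501

/-- Let R be a discrete valuation ring with fraction field K and residue field k, let A and B be group
schemes over Spec R which are Néron models of their generic fibres, both abelian varieties over K
(proper and geometrically integral), and let φ : A → B be a homomorphism whose generic fibre is an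
isogeny (surjective with finite kernel). Then φ is flat if and only if the special fibre φ_k : A_k →
B_k maps the connected component of the identity point of A_k onto the connected component of the
identity point of B_k, i.e. the image of the former subset is the latter (φ induces a surjection of
identity components; on the generic fibre this is automatic). (The published lemma is over a
connected Dedekind scheme, with this condition at every point, and includes a further equivalent
condition, quasi-finiteness of φ; the case of a discrete valuation ring is stated here, where only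
the closed point matters.) -/
theorem result (R : Type u) [CommRing R]
    [IsDomain R] [IsDiscreteValuationRing R] (A B : Over (Spec (CommRingCat.of R))) [GrpObj A] [GrpObj B]
    (hA : Neron.IsNeronModelOf R A ((Neron.genericFibre R).obj A) (Iso.refl _))
    (hB : Neron.IsNeronModelOf R B ((Neron.genericFibre R).obj B) (Iso.refl _))
    [IsProper ((Neron.genericFibre R).obj A).hom] [GeometricallyIntegral ((Neron.genericFibre R).obj A).hom]
    [IsProper ((Neron.genericFibre R).obj B).hom] [GeometricallyIntegral ((Neron.genericFibre R).obj B).hom]
    (φ : A ⟶ B) [IsMonHom φ] (hφ : SGA7.IsIsogenyOver ((Neron.genericFibre R).map φ)) :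
    Flat φ.left ↔
      ((Over.pullback (Spec.map (CommRingCat.ofHom (IsLocalRing.residue R)))).map φ).left.base ''
          connectedComponent ((η[Red.bc (Spec.map (CommRingCat.ofHom (IsLocalRing.residue R))) A]).left.base (IsLocalRing.closedPoint (IsLocalRing.ResidueField R))) =
        connectedComponent ((η[Red.bc (Spec.map (CommRingCat.ofHom (IsLocalRing.residue R))) B]).left.base (IsLocalRing.closedPoint (IsLocalRing.ResidueField R))) := by
  obtain ⟨hAsm, hAsep, hAlft, hAqc, -⟩ := hA
  obtain ⟨hBsm, hBsep, hBlft, hBqc, -⟩ := hB
  have hw : φ.left ≫ B.hom = A.hom := Over.w φ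
  haveI : LocallyOfFinitePresentation (φ.left ≫ B.hom) := by rw [hw]; infer_instance
  haveI : LocallyOfFinitePresentation φ.left :=
    Groth.Agent.Lib.Helper24.locallyOfFinitePresentation_of_comp φ.left B.hom
  set f := Spec.map (CommRingCat.ofHom (IsLocalRing.residue R)) with hf
  let Ak : Over (Spec (CommRingCat.of (IsLocalRing.ResidueField R))) := Red.bc f A
  let Bk : Over (Spec (CommRingCat.of (IsLocalRing.ResidueField R))) := Red.bc f B
  let φk : Ak ⟶ Bk := (Over.pullback f).map φ
  haveI : IsMonHom φk := inferInstance
  have sq := Groth.Agent.Lib.Helper23.FibreHomFlat.isPullback_bc_map f φ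
  have hAn : SGA3x.neutralSet Ak = connectedComponent ((η[Ak]).left.base (IsLocalRing.closedPoint (IsLocalRing.ResidueField R))) :=
    AutSch.neutralSet_eq_connectedComponent (k := IsLocalRing.ResidueField R) Ak
  have hBn : SGA3x.neutralSet Bk = connectedComponent ((η[Bk]).left.base (IsLocalRing.closedPoint (IsLocalRing.ResidueField R))) :=
    AutSch.neutralSet_eq_connectedComponent (k := IsLocalRing.ResidueField R) Bk
  show Flat φ.left ↔ φk.left.base '' connectedComponent ((η[Ak]).left.base (IsLocalRing.closedPoint (IsLocalRing.ResidueField R))) =
    connectedComponent ((η[Bk]).left.base (IsLocalRing.closedPoint (IsLocalRing.ResidueField R)))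
  rw [← hAn, ← hBn]
  constructor
  · intro hflat
    haveI : Flat φk.left := MorphismProperty.of_isPullback (P := @Flat) sq hflat
    haveI : LocallyOfFinitePresentation φk.left :=
      MorphismProperty.of_isPullback (P := @LocallyOfFinitePresentation) sq inferInstance
    have hopen : IsOpenMap φk.left := φk.left.isOpenMap
    haveI : LocallyOfFiniteType Ak.hom :=
      inferInstanceAs (LocallyOfFiniteType (pullback.snd A.hom f))
    apply Set.Subset.antisymm
    · exact Groth.Agent.Lib.Helper23.NeutralFlat.image_neutralSet_subset φk
    · exact Groth.Agent.Lib.Helper23.NeutralFlat.neutralSet_subset_image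
        (k := IsLocalRing.ResidueField R) φk hopen
  · intro himg
    haveI : Flat A.hom := inferInstance
    have hred : ∀ s : ↥(Spec (CommRingCat.of R)), IsReduced (B.hom.fiber s) := by
      intro s
      haveI : Smooth (B.hom.fiberToSpecResidueField s) :=
        inferInstanceAs (Smooth (pullback.snd B.hom _))
      exact Groth.Agent.Lib.Helper69.ReducedSmoothLocal.isReduced_of_smooth
        (B.hom.fiberToSpecResidueField s)
    apply Groth.Agent.Lib.Helper23.NeutralFlat.flat_of_neutralSet_subset_range_base hred φ
    intro y hy
    -- the two points of `Spec R`
    have hcases : B.hom y ∈ Set.range f ∨ B.hom y ∈ Set.range (Neron.genPt R) := by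
      set s : PrimeSpectrum R := B.hom y with hs
      by_cases h0 : s.asIdeal = ⊥
      · right
        refine ⟨(⊥ : PrimeSpectrum (FractionRing R)), ?_⟩
        apply PrimeSpectrum.ext
        show Ideal.comap (algebraMap R (FractionRing R)) ⊥ = s.asIdeal
        rw [h0]
        exact Ideal.comap_bot_of_injective _ (IsFractionRing.injective R (FractionRing R))
      · left
        refine ⟨IsLocalRing.closedPoint (IsLocalRing.ResidueField R), ?_⟩
        have h1 : s.asIdeal.IsMaximal := Ring.DimensionLEOne.maximalOfPrime h0 s.isPrime
        have h2 : s.asIdeal = IsLocalRing.maximalIdeal R := IsLocalRing.eq_maximalIdeal h1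
        have h3 := IsLocalRing.comap_closedPoint (IsLocalRing.residue R)
        apply PrimeSpectrum.ext
        rw [h2]
        exact congrArg PrimeSpectrum.asIdeal h3
    rcases hcases with hc | hc
    · -- closed point: use the hypothesis
      have hy_range : y ∈ Set.range (pullback.fst B.hom f) := by
        rw [Scheme.Pullback.range_fst]
        exact hc
      obtain ⟨y', hy'⟩ := hy_range
      have hy'n : y' ∈ SGA3x.neutralSet Bk := by
        rw [Groth.Agent.Lib.Helper79.NeutralBC.neutralSet_bc f B]
        show (pullback.fst B.hom f) y' ∈ SGA3x.neutralSet B
        rw [hy']; exact hy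
      rw [← himg] at hy'n
      obtain ⟨x', -, hx'⟩ := hy'n
      refine ⟨(pullback.fst A.hom f) x', ?_⟩
      have h1 : φ.left ((pullback.fst A.hom f) x') = (pullback.fst B.hom f) (φk.left x') :=
        congrArg (fun t => t.base x') sq.w
      exact h1.trans ((congrArg _ hx').trans hy')
    · -- generic point: the generic fibre of φ is surjective
      have sqK := Groth.Agent.Lib.Helper23.FibreHomFlat.isPullback_bc_map (Neron.genPt R) φ
      have hy_range : y ∈ Set.range (pullback.fst B.hom (Neron.genPt R)) := by
        rw [Scheme.Pullback.range_fst]
        exact hc
      obtain ⟨y', hy'⟩ := hy_range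
      obtain ⟨x', hx'⟩ := hφ.1.surj y'
      refine ⟨(pullback.fst A.hom (Neron.genPt R)) x', ?_⟩
      have h1 : φ.left ((pullback.fst A.hom (Neron.genPt R)) x') =
          (pullback.fst B.hom (Neron.genPt R)) (((Neron.genericFibre R).map φ).left x') :=
        congrArg (fun t => t.base x') sqK.w
      exact h1.trans ((congrArg _ hx').trans hy')

end Groth.Agent.S18501
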