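import Groth.Statements.S18502
-- import your own Groth.Agent.* helpers here
import Groth.Agent.Lib.Helper40.GrpPts
import Groth.Agent.Lib.Helper40.GeomQuot

set_option autoImplicit false
universe u
open CategoryTheory MonoidalCategory CartesianMonoidalCategory MonObj GrpObj AlgebraicGeometry Topology
open EqInt

namespace Groth.Agent.S18502

/-- Over a field k, let an affine group scheme G of finite type act on X, let X and Y be separated and
of finite type over k, and let φ : X → Y be G-invariant, flat and surjective with (σ, p₂) : G × X →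
X ×_Y X an isomorphism (X is a principal G-bundle over Y). Conclusion: the pair (Y, φ) realizes Y as
a geometric quotient of X under G, and G acts freely, meaning (σ, p₂) : G × X → X × X is a closed
immersion. (The source takes X and Y integral; integrality plays no role. A geometric quotient is
taken here with φ universally submersive.) -/
theorem result (k : Type u) [Field k]
    (G X Y : Over (Spec (CommRingCat.of k))) [GrpObj G] [IsAffine G.left] [LocallyOfFiniteType G.hom]
    [LocallyOfFiniteType X.hom] [QuasiCompact X.hom] [IsSeparated X.hom]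
    [LocallyOfFiniteType Y.hom] [QuasiCompact Y.hom] [IsSeparated Y.hom]
    (a : AlgGrp.Action G X) (φ : X ⟶ Y) (hinv : GIT.IsInvariant a φ) [Flat φ.left] [Surjective φ.left]
    (hcart : IsIso (GIT.PsiY a φ hinv)) :
    GIT.IsGeomQuot a φ ∧ IsClosedImmersion (GIT.psi a (𝟙 X)).left := by
  have hqc : QuasiCompact φ.left := Groth.Agent.Lib.Helper40.GrpPts.quasiCompact_left_of_field φ
  have hcov : Groth.Agent.Lib.Helper40.FpqcCov.IsCov φ.left :=
    (Groth.Agent.Lib.Helper40.FpqcCov.IsQCov.of_quasiCompact φ.left).isCov
  have hpb : IsPullback a.act.left (snd G X).left φ.left φ.left := by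
    refine IsPullback.of_iso_pullback ⟨hinv.left⟩ (asIso (GIT.PsiY a φ hinv)) ?_ ?_
    · exact Limits.pullback.lift_fst _ _ _
    · exact Limits.pullback.lift_snd _ _ _
  refine ⟨Groth.Agent.Lib.Helper40.GeomQuot.isGeomQuot_of_isCov a φ hinv hcov ?_
    (Groth.Agent.Lib.Helper40.GeomQuotSec.RelCovers.of_isPullback hpb), ?_⟩
  · intro z
    refine ⟨(inv (GIT.PsiY a φ hinv)).base z, ?_⟩
    rw [← Scheme.Hom.comp_apply, IsIso.inv_hom_id]
    rfl
  · let m : (G ⊗ X).left ⟶ Limits.pullback (φ.left ≫ Y.hom) (φ.left ≫ Y.hom) :=
      GIT.PsiY a φ hinv ≫ Limits.pullback.mapDesc φ.left φ.left Y.hom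
    have hm : IsClosedImmersion m := inferInstance
    let e' : Limits.pullback (φ.left ≫ Y.hom) (φ.left ≫ Y.hom) ⟶ Limits.pullback X.hom X.hom :=
      (Limits.pullback.congrHom (Over.w φ) (Over.w φ)).hom
    have he' : IsIso e' := inferInstance
    have hl1 : (GIT.psi a (𝟙 X)).left ≫ Limits.pullback.fst X.hom X.hom = a.act.left := by
      rw [← Over.fst_left, ← Over.comp_left]
      simp [GIT.psi]
    have hl2 : (GIT.psi a (𝟙 X)).left ≫ Limits.pullback.snd X.hom X.hom = (snd G X).left := by
      rw [← Over.snd_left, ← Over.comp_left]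
      simp [GIT.psi]
    have hr1 : (m ≫ e') ≫ Limits.pullback.fst X.hom X.hom = a.act.left := by
      simp only [m, e', GIT.PsiY, Category.assoc, Limits.pullback.congrHom_hom,
        Limits.pullback.lift_fst, Limits.pullback.lift_fst_assoc, Category.comp_id]
    have hr2 : (m ≫ e') ≫ Limits.pullback.snd X.hom X.hom = (snd G X).left := by
      simp only [m, e', GIT.PsiY, Category.assoc, Limits.pullback.congrHom_hom,
        Limits.pullback.lift_snd, Limits.pullback.lift_snd_assoc, Category.comp_id]
    have key : (GIT.psi a (𝟙 X)).left = m ≫ e' := by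
      apply Limits.pullback.hom_ext
      · rw [hl1, hr1]
      · rw [hl2, hr2]
    have hme : IsClosedImmersion (m ≫ e') := inferInstance
    rw [key]
    exact hme

end Groth.Agent.S18502
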