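import Groth.Statements.S18504
import Groth.Agent.Lib.Helper93.GeomQuotOpen
-- import your own Groth.Agent.* helpers here

set_option autoImplicit false
universe u
open CategoryTheory MonoidalCategory CartesianMonoidalCategory MonObj GrpObj AlgebraicGeometry Topology
open EqInt

namespace Groth.Agent.S18504

/-- Over a field k, let an affine group scheme G of finite type act on X, with X and Y separated of
finite type over k, and let (Y, φ) be a geometric quotient of X by G. Then φ is universally open.
(The source takes X and Y integral; integrality plays no role. A geometric quotient is taken here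
with φ universally submersive, and with this reading the universal openness is what the argument
gives.) -/
theorem result (k : Type u) [Field k]
    (G X Y : Over (Spec (CommRingCat.of k))) [GrpObj G] [IsAffine G.left] [LocallyOfFiniteType G.hom]
    [LocallyOfFiniteType X.hom] [QuasiCompact X.hom] [IsSeparated X.hom]
    [LocallyOfFiniteType Y.hom] [QuasiCompact Y.hom] [IsSeparated Y.hom]
    (a : AlgGrp.Action G X) (φ : X ⟶ Y) (h : GIT.IsGeomQuot a φ) :
    UniversallyOpen φ.left := by
  have hsurj : Surjective (GIT.PsiY a φ h.inv) := ⟨h.orbit⟩
  have hcomp : GIT.PsiY a φ h.inv ≫ Limits.pullback.snd φ.left φ.left = (snd G X).left := by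
    unfold GIT.PsiY
    exact Limits.pullback.lift_snd _ _ _
  have hopen : UniversallyOpen (GIT.PsiY a φ h.inv ≫ Limits.pullback.snd φ.left φ.left) := by
    rw [hcomp, Over.snd_left]
    infer_instance
  exact Groth.Agent.Lib.Helper93.universallyOpen_of_surjective_cover φ.left (GIT.PsiY a φ h.inv) h.subm

end Groth.Agent.S18504
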