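import Groth.Statements.S18507
-- import your own Groth.Agent.* helpers here
import Groth.Agent.Lib.Helper40.GeomQuotDesc

set_option autoImplicit false
universe u
open CategoryTheory MonoidalCategory CartesianMonoidalCategory MonObj GrpObj AlgebraicGeometry Topology
open EqInt

namespace Groth.Agent.S18507

/-- Over a field k, let an affine group scheme G of finite type act on X, with X and Y separated of
finite type over k, and let φ : X → Y be G-invariant. Let α : Y' → Y be faithfully flat and
quasi-compact, let X' → Y' be the base change of φ with its induced action of G (the action on X'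
for which X' → X is equivariant and X' → Y' is invariant). If (Y', φ') is a geometric quotient of X'
by G, then (Y, φ) is a geometric quotient of X by G. (The source takes X and Y integral; integrality
plays no role. A geometric quotient is taken here with universally submersive structure map, on both
sides.) -/
theorem result (k : Type u) [Field k]
    (G X Y X' Y' : Over (Spec (CommRingCat.of k))) [GrpObj G] [IsAffine G.left] [LocallyOfFiniteType G.hom]
    [LocallyOfFiniteType X.hom] [QuasiCompact X.hom] [IsSeparated X.hom]
    [LocallyOfFiniteType Y.hom] [QuasiCompact Y.hom] [IsSeparated Y.hom]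
    (a : AlgGrp.Action G X) (φ : X ⟶ Y) (hinv : GIT.IsInvariant a φ)
    (α : Y' ⟶ Y) [Flat α.left] [Surjective α.left] [QuasiCompact α.left]
    (pr : X' ⟶ X) (φ' : X' ⟶ Y') (hpb : IsPullback pr φ' φ α)
    (a' : AlgGrp.Action G X') (heq : a'.act ≫ pr = (G ◁ pr) ≫ a.act) (hinv' : GIT.IsInvariant a' φ')
    (h : GIT.IsGeomQuot a' φ') :
    GIT.IsGeomQuot a φ := by
  have hpbL : IsPullback pr.left φ'.left φ.left α.left := hpb.map (Over.forget _)
  have hα : Groth.Agent.Lib.Helper40.FpqcCov.IsCov α.left :=
    (Groth.Agent.Lib.Helper40.FpqcCov.IsQCov.of_quasiCompact α.left).isCov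
  have hσ : a'.act.left ≫ pr.left = (G ◁ pr).left ≫ a.act.left :=
    congrArg CommaMorphism.left heq
  have hp : (snd G X').left ≫ pr.left = (G ◁ pr).left ≫ (snd G X).left :=
    (congrArg CommaMorphism.left (whiskerLeft_snd G pr)).symm
  haveI : QuasiSeparated φ.left := by
    have e : φ.left ≫ Y.hom = X.hom := Over.w φ
    haveI : QuasiSeparated (φ.left ≫ Y.hom) := by rw [e]; infer_instance
    exact QuasiSeparated.of_comp φ.left Y.hom
  haveI : QuasiCompact φ.left := by
    have e : φ.left ≫ Y.hom = X.hom := Over.w φ
    haveI : QuasiCompact (φ.left ≫ Y.hom) := by rw [e]; infer_instance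
    exact QuasiCompact.of_comp φ.left Y.hom
  haveI : QuasiSeparated φ'.left :=
    MorphismProperty.of_isPullback (P := @QuasiSeparated) hpbL inferInstance
  haveI : QuasiCompact φ'.left :=
    MorphismProperty.of_isPullback (P := @QuasiCompact) hpbL inferInstance
  refine ⟨hinv, ?_, ?_, ?_, ?_⟩
  · exact Groth.Agent.Lib.Helper40.GeomQuotDesc.surj_desc hpbL
      (inferInstance : Surjective α.left).surj h.surj
  · exact Groth.Agent.Lib.Helper40.GeomQuotDesc.orbit_desc hinv.left hinv'.left hpbL hσ hp h.orbit
  · exact Groth.Agent.Lib.Helper40.GeomQuotDesc.subm_desc hpbL hα h.subm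
  · intro U
    obtain ⟨h1, h2⟩ := Groth.Agent.Lib.Helper40.GeomQuotDesc.sections_desc hinv.left hpbL hα hσ hp
      (fun U' => ⟨(h.sections U').1, fun f' hf' => by
        have hm : f' ∈ {f | GIT.IsInvSection a' φ' U' f} := hf'
        rw [← (h.sections U').2] at hm
        exact hm⟩) U
    refine ⟨h1, ?_⟩
    ext f
    exact h2 f

end Groth.Agent.S18507
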