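import Groth.Statements.S18510
-- import your own Groth.Agent.* helpers here
import Groth.Agent.Lib.Helper40.PrinBundle
import Groth.Agent.S1581
import Groth.Prelude.Def_Magnet

set_option autoImplicit false
universe u
open CategoryTheory MonoidalCategory CartesianMonoidalCategory MonObj GrpObj AlgebraicGeometry Topology
open EqInt

namespace Groth.Agent.S18510

/-- Over a field k, let an affine group scheme G of finite type act on X, on Y and on U (quasi-separated
schemes of finite type over k), let f : X → Y be G-equivariant, and let q_X : X × U → X_G and q_Y :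
Y × U → Y_G be principal bundle quotients for the diagonal actions (each is invariant, flat and
surjective, and (σ, p₂) into the fibre square over the quotient is an isomorphism), X_G and Y_G
being quasi-separated of finite type over k. Let f_G : X_G → Y_G satisfy f_G ∘ q_X = q_Y ∘ (f ×
id_U) as maps X × U → Y_G. If f is proper, resp. flat, resp. smooth, then so is f_G. (Stated for
schemes; the source allows algebraic spaces and also treats regular embeddings and local complete
intersection morphisms, which are not stated here.) -/
theorem result (k : Type u) [Field k]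
    (G X Y U XG YG : Over (Spec (CommRingCat.of k))) [GrpObj G] [IsAffine G.left] [LocallyOfFiniteType G.hom]
    [LocallyOfFiniteType X.hom] [QuasiCompact X.hom] [QuasiSeparated X.hom]
    [LocallyOfFiniteType Y.hom] [QuasiCompact Y.hom] [QuasiSeparated Y.hom]
    [LocallyOfFiniteType U.hom] [QuasiCompact U.hom] [QuasiSeparated U.hom]
    [LocallyOfFiniteType XG.hom] [QuasiCompact XG.hom] [QuasiSeparated XG.hom]
    [LocallyOfFiniteType YG.hom] [QuasiCompact YG.hom] [QuasiSeparated YG.hom]
    (a : AlgGrp.Action G X) (aY : AlgGrp.Action G Y) (b : AlgGrp.Action G U)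
    (f : X ⟶ Y) (hf : AlgGrp.Action.IsEquivariant a aY f)
    (qX : X ⊗ U ⟶ XG) (hqX : GIT.IsInvariant (a.prod b) qX) [Flat qX.left] [Surjective qX.left]
    (hcX : IsIso (GIT.PsiY (a.prod b) qX hqX))
    (qY : Y ⊗ U ⟶ YG) (hqY : GIT.IsInvariant (aY.prod b) qY) [Flat qY.left] [Surjective qY.left]
    (hcY : IsIso (GIT.PsiY (aY.prod b) qY hqY))
    (fG : XG ⟶ YG) (hfG : qX ≫ fG = (f ▷ U) ≫ qY) :
    (IsProper f.left → IsProper fG.left) ∧ (Flat f.left → Flat fG.left) ∧
      (Smooth f.left → Smooth fG.left) := by
  have hcX' := hcX
  have hcY' := hcY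
  have ifl := Groth.Agent.Lib.Helper40.FpqcLocal.flat_descendsAlong_fpqc.{u}
  have i1 := Groth.Agent.S1581.isSeparated_descendsAlong.{u}
  have hf' : a.act ≫ f = (G ◁ f) ≫ aY.act := hf
  have heq : (a.prod b).act ≫ (f ▷ U) = (G ◁ (f ▷ U)) ≫ (aY.prod b).act := by
    apply Magnet.hom_ext_lift₂
    intro T g z
    have hz : z = lift (z ≫ fst X U) (z ≫ snd X U) := by
      apply CartesianMonoidalCategory.hom_ext <;> simp
    rw [hz, AlgGrp.Action.lift_prod_act_assoc, lift_whiskerRight, lift_whiskerLeft_assoc,
      lift_whiskerRight, AlgGrp.Action.lift_prod_act, Category.assoc, hf', lift_whiskerLeft_assoc]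
  have hcovX : Groth.Agent.Lib.Helper40.FpqcCov.IsCov qX.left := by
    have h1 : QuasiCompact (qX.left ≫ XG.hom) := by
      rw [Over.w qX, Over.tensorObj_hom]
      infer_instance
    have h2 : QuasiCompact qX.left := QuasiCompact.of_comp qX.left XG.hom
    exact (Groth.Agent.Lib.Helper40.FpqcCov.IsQCov.of_quasiCompact qX.left).isCov
  have hcovY : Groth.Agent.Lib.Helper40.FpqcCov.IsCov qY.left := by
    have h1 : QuasiCompact (qY.left ≫ YG.hom) := by
      rw [Over.w qY, Over.tensorObj_hom]
      infer_instance
    have h2 : QuasiCompact qY.left := QuasiCompact.of_comp qY.left YG.hom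
    exact (Groth.Agent.Lib.Helper40.FpqcCov.IsQCov.of_quasiCompact qY.left).isCov
  have sq : IsPullback (f ▷ U).left qX.left qY.left fG.left :=
    (Groth.Agent.Lib.Helper40.PrinBundle.isPullback_of_equivariant (a.prod b) qX hqX (aY.prod b) qY
      hqY (f ▷ U) heq fG hfG hcovX).flip
  have sqf : IsPullback (fst X U).left (f ▷ U).left f.left (fst Y U).left :=
    ((Groth.Agent.Lib.Helper40.FpqcCov.isPullback_whiskerRight f U).map (Over.forget _)).flip
  refine ⟨fun h => ?_, fun h => ?_, fun h => ?_⟩
  · have hP : IsProper (f ▷ U).left := MorphismProperty.of_isPullback (P := @IsProper) sqf h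
    have h1 : IsSeparated fG.left := hcovY.descends @IsSeparated sq inferInstance
    have h2 : UniversallyClosed fG.left := hcovY.descends @UniversallyClosed sq inferInstance
    have h3 : LocallyOfFiniteType fG.left := hcovY.descends @LocallyOfFiniteType sq inferInstance
    exact { }
  · have hP : Flat (f ▷ U).left := MorphismProperty.of_isPullback (P := @Flat) sqf h
    exact hcovY.descends @Flat sq hP
  · have hP : Smooth (f ▷ U).left := MorphismProperty.of_isPullback (P := @Smooth) sqf h
    exact hcovY.descends @Smooth sq hP

end Groth.Agent.S18510
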