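import Groth.Statements.S18519
import Mathlib
import Groth.Agent.Lib.Helper59.BaseChange
import Groth.Agent.Lib.Helper59.PrimeFactors

set_option linter.style.haveILetI false

set_option autoImplicit false
universe u
open scoped TensorProduct
open Brauer

namespace Groth.Agent.S18519

open Groth.Agent.Lib.Helper59.TPow Groth.Agent.Lib.Helper59.BrauerCalc
  Groth.Agent.Lib.Helper59.BaseChange Groth.Agent.Lib.Helper59.PrimeFactors IntermediateField

/-- A central simple algebra over a field all of whose central division algebras are trivial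
is split. -/
theorem isSplit_of_forall_division {F' : Type u} [Field F'] {A : Type u} [Ring A] [Algebra F' A]
    (hA : IsCSA F' A)
    (h : ∀ (D : Type u) [DivisionRing D] [Algebra F' D] [Algebra.IsCentral F' D]
      [FiniteDimensional F' D], Module.finrank F' D = 1) : IsSplit F' A := by
  obtain ⟨m, hm, D, _, _, _, ⟨e⟩⟩ := exists_matrix_of_isCSA hA
  obtain ⟨hm0, hD⟩ := isCSA_division hA e
  haveI := hD.central
  have h1 := h D
  have hbot : (⊥ : Subalgebra F' D) = ⊤ := Subalgebra.bot_eq_top_of_finrank_eq_one h1
  let g : D ≃ₐ[F'] F' :=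
    ((Subalgebra.topEquiv (R := F') (A := D)).symm.trans
      (Subalgebra.equivOfEq _ _ hbot.symm)).trans (Algebra.botEquiv F' D)
  exact ⟨m, hm0, ⟨e.trans (AlgEquiv.mapMatrix g)⟩⟩

theorem forward (K F : Type u) [Field K] [Field F] [Algebra K F]
    (ha : ∀ (F' : Type u) [Field F'] [Algebra F F'] [FiniteDimensional F F']
        [Algebra.IsSeparable F F']
        (D : Type u) [DivisionRing D] [Algebra F' D] [Algebra.IsCentral F' D]
        [FiniteDimensional F' D], Module.finrank F' D = 1)
    (E : Type u) [Field E] [Algebra K E] [FiniteDimensional K E] [Algebra.IsSeparable K E]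
    (D : Type u) [DivisionRing D] [Algebra E D] [Algebra.IsCentral E D] [FiniteDimensional E D]
    (M : Type u) [Field M] [Algebra K M] [Algebra E M] [Algebra F M] [IsScalarTower K E M]
    [IsScalarTower K F M] :
    ∃ n : ℕ, Nonempty ((M ⊗[E] D) ≃ₐ[M] Matrix (Fin n) (Fin n) M) := by
  classical
  obtain ⟨θ, hθ⟩ := Field.exists_primitive_element K E
  obtain ⟨θ', hθ'⟩ : ∃ t : M, t = algebraMap E M θ := ⟨_, rfl⟩
  have hθint : IsIntegral K θ := Algebra.IsIntegral.isIntegral θ
  have hθ'intK : IsIntegral K θ' := by
    rw [hθ']; exact hθint.map (IsScalarTower.toAlgHom K E M)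
  have hθ'int : IsIntegral F θ' := hθ'intK.tower_top
  have hsepθ : IsSeparable K θ := Algebra.IsSeparable.isSeparable K θ
  have hsepθ'K : IsSeparable K θ' := by
    unfold IsSeparable at hsepθ ⊢
    rw [hθ', minpoly.algebraMap_eq (algebraMap E M).injective]
    exact hsepθ
  have hsepθ' : IsSeparable F θ' := hsepθ'K.tower_top F
  haveI : FiniteDimensional F F⟮θ'⟯ := IntermediateField.adjoin.finiteDimensional hθ'int
  haveI : Algebra.IsSeparable F F⟮θ'⟯ :=
    (IntermediateField.isSeparable_adjoin_simple_iff_isSeparable F M).mpr hsepθ'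
  have hmem : ∀ e : E, algebraMap E M e ∈ F⟮θ'⟯ := by
    intro e
    have he : e ∈ K⟮θ⟯ := hθ ▸ IntermediateField.mem_top
    rw [← IntermediateField.mem_toSubalgebra,
      IntermediateField.adjoin_simple_toSubalgebra_of_isAlgebraic hθint.isAlgebraic,
      Algebra.adjoin_singleton_eq_range_aeval] at he
    obtain ⟨p, rfl⟩ := he
    change algebraMap E M (Polynomial.aeval θ p) ∈ F⟮θ'⟯
    have h1 : algebraMap E M (Polynomial.aeval θ p) =
        Polynomial.aeval θ' (p.map (algebraMap K F)) := by
      rw [Polynomial.aeval_map_algebraMap, hθ', ← Polynomial.aeval_algebraMap_apply]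
    rw [h1]
    exact IntermediateField.algebra_adjoin_le_adjoin F {θ'}
      (Polynomial.aeval_mem_adjoin_singleton F θ')
  let φ : E →+* F⟮θ'⟯ := (algebraMap E M).codRestrict F⟮θ'⟯ hmem
  letI : Algebra E F⟮θ'⟯ := φ.toAlgebra
  haveI : IsScalarTower E F⟮θ'⟯ M := IsScalarTower.of_algebraMap_eq (fun e => rfl)
  have hD : IsCSA E D := isCSA_of E D
  have hA' : IsCSA F⟮θ'⟯ (F⟮θ'⟯ ⊗[E] D) := hD.baseChange F⟮θ'⟯
  have hsplit : IsSplit F⟮θ'⟯ (F⟮θ'⟯ ⊗[E] D) :=
    isSplit_of_forall_division hA' (fun D' _ _ _ _ => ha F⟮θ'⟯ D')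
  have hsplitM : IsSplit M (M ⊗[F⟮θ'⟯] (F⟮θ'⟯ ⊗[E] D)) := isSplit_baseChange M hsplit
  obtain ⟨e⟩ := nonempty_cancelBaseChange F⟮θ'⟯ M hD
  obtain ⟨n, hn, ⟨f⟩⟩ := hsplitM
  exact ⟨n, ⟨e.trans f⟩⟩



theorem backward (K F : Type u) [Field K] [Field F] [Algebra K F] [Algebra.IsSeparable K F]
    (hb : ∀ (E : Type u) [Field E] [Algebra K E] [FiniteDimensional K E] [Algebra.IsSeparable K E]
        (D : Type u) [DivisionRing D] [Algebra E D] [Algebra.IsCentral E D] [FiniteDimensional E D]
        (M : Type u) [Field M] [Algebra K M] [Algebra E M] [Algebra F M] [IsScalarTower K E M]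
        [IsScalarTower K F M],
        ∃ n : ℕ, Nonempty ((M ⊗[E] D) ≃ₐ[M] Matrix (Fin n) (Fin n) M))
    (F' : Type u) [Field F'] [Algebra F F'] [FiniteDimensional F F'] [Algebra.IsSeparable F F']
    (D : Type u) [DivisionRing D] [Algebra F' D] [Algebra.IsCentral F' D]
    [FiniteDimensional F' D] :
    Module.finrank F' D = 1 := by
  classical
  letI : Algebra K F' := ((algebraMap F F').comp (algebraMap K F)).toAlgebra
  haveI : IsScalarTower K F F' := IsScalarTower.of_algebraMap_eq (fun _ => rfl)
  haveI : Algebra.IsSeparable K F' := Algebra.IsSeparable.trans K F F'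
  obtain ⟨m, hm⟩ : ∃ m : ℕ, m = Module.finrank F' D := ⟨_, rfl⟩
  let b : Module.Basis (Fin m) F' D := (Module.finBasis F' D).reindex (finCongr hm.symm)
  -- structure constants
  let c : Fin m → Fin m → Fin m → F' := fun i j l => b.repr (b i * b j) l
  let u : Fin m → F' := fun l => b.repr 1 l
  let S : Set F' := (Set.range fun x : Fin m × Fin m × Fin m => c x.1 x.2.1 x.2.2) ∪ Set.range u
  have hSfin : S.Finite := (Set.finite_range _).union (Set.finite_range _)
  haveI : Finite S := hSfin.to_subtype
  let E : IntermediateField K F' := IntermediateField.adjoin K S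
  haveI : FiniteDimensional K E :=
    IntermediateField.finiteDimensional_adjoin (fun x _ => Algebra.IsIntegral.isIntegral x)
  haveI : Algebra.IsSeparable K E := Algebra.isSeparable_tower_bot_of_isSeparable K E F'
  have hc : ∀ i j l, c i j l ∈ E := fun i j l =>
    IntermediateField.subset_adjoin K S (Or.inl ⟨(i, j, l), rfl⟩)
  have hu : ∀ l, u l ∈ E := fun l => IntermediateField.subset_adjoin K S (Or.inr ⟨l, rfl⟩)
  -- the `E`-span of the basis
  let V : Submodule E D := Submodule.span E (Set.range b)
  have hbV : ∀ l, b l ∈ V := fun l => Submodule.subset_span ⟨l, rfl⟩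
  have hsmulV : ∀ (x : F') (_ : x ∈ E) (l : Fin m), x • b l ∈ V := by
    intro x hx l
    have : x • b l = (⟨x, hx⟩ : E) • b l := rfl
    rw [this]
    exact Submodule.smul_mem _ _ (hbV l)
  have hV1 : (1 : D) ∈ V := by
    rw [← b.sum_repr 1]
    exact Submodule.sum_mem _ (fun l _ => hsmulV _ (hu l) l)
  have hVV : V * V ≤ V := by
    rw [Submodule.span_mul_span, Submodule.span_le]
    rintro _ ⟨_, ⟨i, rfl⟩, _, ⟨j, rfl⟩, rfl⟩
    change b i * b j ∈ V
    rw [← b.sum_repr (b i * b j)]
    exact Submodule.sum_mem _ (fun l _ => hsmulV _ (hc i j l) l)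
  have hVmul : ∀ x y, x ∈ V → y ∈ V → x * y ∈ V := fun x y hx hy =>
    hVV (Submodule.mul_mem_mul hx hy)
  let D₀ : Subalgebra E D := V.toSubalgebra hV1 hVmul
  have hD₀mem : ∀ x : D, x ∈ D₀ ↔ x ∈ V := fun x => Iff.rfl
  haveI : FiniteDimensional E V := FiniteDimensional.span_of_finite E (Set.finite_range b)
  haveI : FiniteDimensional E D₀ := this
  have hrankV : Module.finrank E D₀ ≤ m := by
    have h1 : Module.finrank E V ≤ Fintype.card (Fin m) := finrank_range_le_card (R := E) b
    rw [Fintype.card_fin] at h1
    exact h1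
  letI : DivisionRing D₀ := divisionRingOfFiniteDimensional E D₀
  -- centrality
  haveI : Algebra.IsCentral E D₀ := by
    constructor
    intro z hz
    rw [Subalgebra.mem_center_iff] at hz
    -- `z` commutes with the basis
    have hzb : ∀ l, (z : D) * b l = b l * (z : D) := by
      intro l
      have := hz ⟨b l, hbV l⟩
      have := congrArg Subtype.val this
      simpa using this.symm
    have hzc : (z : D) ∈ Subalgebra.center F' D := by
      rw [Subalgebra.mem_center_iff]
      intro x
      rw [← b.sum_repr x, Finset.sum_mul, Finset.mul_sum]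
      refine Finset.sum_congr rfl (fun l _ => ?_)
      rw [smul_mul_assoc, mul_smul_comm, hzb l]
    obtain ⟨f, hf⟩ := Algebra.mem_bot.mp (Algebra.IsCentral.out hzc)
    -- coordinates of `z` in `E`
    obtain ⟨w, hw⟩ := (Submodule.mem_span_range_iff_exists_fun E).mp z.2
    have hw' : (∑ l, (w l : F') • b l) = (z : D) := by
      rw [← hw]; rfl
    have hrepr1 : ∀ l, b.repr (z : D) l = (w l : F') := by
      intro l
      rw [← hw', b.repr_sum_self]
    have hrepr2 : ∀ l, b.repr (z : D) l = f * u l := by
      intro l
      rw [← hf, Algebra.algebraMap_eq_smul_one, map_smul]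
      rfl
    -- some `u l ≠ 0`
    have hex : ∃ l, u l ≠ 0 := by
      by_contra hne
      push Not at hne
      have : (1 : D) = 0 := by
        rw [← b.sum_repr 1]
        exact Finset.sum_eq_zero (fun l _ => by
          change u l • b l = 0
          rw [hne l, zero_smul])
      exact one_ne_zero this
    obtain ⟨l, hl⟩ := hex
    have hfE : f ∈ E := by
      have h1 : f = (w l : F') / u l := by
        rw [eq_div_iff hl, ← hrepr2, hrepr1]
      rw [h1]
      exact E.div_mem (w l).2 (hu l)
    refine Algebra.mem_bot.mpr ⟨⟨f, hfE⟩, ?_⟩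
    apply Subtype.ext
    rw [← hf]
    rfl
  obtain ⟨n, ⟨ψ⟩⟩ := hb E D₀ F'
  -- the multiplication map `F' ⊗[E] D₀ → D`
  have hcomm : ∀ (x : F') (y : D₀), Commute ((Algebra.ofId F' D) x) (D₀.val y) := by
    intro x y
    exact Algebra.commutes x (y : D)
  let μ : F' ⊗[E] D₀ →ₐ[F'] D := Algebra.TensorProduct.lift (Algebra.ofId F' D) D₀.val hcomm
  have hμsurj : Function.Surjective μ := by
    intro x
    rw [← b.sum_repr x]
    refine ⟨∑ l, (b.repr x l) ⊗ₜ[E] (⟨b l, hbV l⟩ : D₀), ?_⟩
    rw [map_sum]
    refine Finset.sum_congr rfl (fun l _ => ?_)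
    simp only [μ, Algebra.TensorProduct.lift_tmul]
    rw [Algebra.ofId_apply, Algebra.algebraMap_eq_smul_one, smul_mul_assoc, one_mul]
    rfl
  -- dimension count
  have hdim1 : Module.finrank F' (F' ⊗[E] D₀) = Module.finrank E D₀ := Module.finrank_baseChange
  have hdim2 : Module.finrank F' D ≤ Module.finrank F' (F' ⊗[E] D₀) :=
    LinearMap.finrank_le_finrank_of_surjective (f := μ.toLinearMap) hμsurj
  have hdim : Module.finrank F' (F' ⊗[E] D₀) = Module.finrank F' D := by omega
  have hμinj : Function.Injective μ := by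
    have := (LinearMap.injective_iff_surjective_of_finrank_eq_finrank
      (f := μ.toLinearMap) hdim).mpr hμsurj
    exact this
  let μe : F' ⊗[E] D₀ ≃ₐ[F'] D := AlgEquiv.ofBijective μ ⟨hμinj, hμsurj⟩
  have hn : n ≠ 0 := by
    rintro rfl
    have h1 : Subsingleton (Matrix (Fin 0) (Fin 0) F') := inferInstance
    have h2 : Subsingleton D := (μe.symm.trans ψ).toEquiv.subsingleton
    exact not_subsingleton D h2
  let g : Matrix (Fin n) (Fin n) F' ≃ₐ[F'] D := ψ.symm.trans μe
  have hnn : Module.finrank F' D = n * n := by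
    rw [← g.toLinearEquiv.finrank_eq, Module.finrank_matrix]
    simp
  have hlt : n < 2 := by
    by_contra hge
    push Not at hge
    let i0 : Fin n := ⟨0, by omega⟩
    let i1 : Fin n := ⟨1, by omega⟩
    have hne : i0 ≠ i1 := by simp [i0, i1, Fin.ext_iff]
    have hmul : (Matrix.single i0 i0 (1 : F')) * Matrix.single i1 i1 (1 : F') = 0 :=
      Matrix.single_mul_single_of_ne _ i0 i0 i1 hne _
    have h0 : g (Matrix.single i0 i0 (1 : F')) * g (Matrix.single i1 i1 (1 : F')) = 0 := by
      rw [← map_mul, hmul, map_zero]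
    have hs : ∀ i : Fin n, Matrix.single i i (1 : F') ≠ 0 := by
      intro i h
      have := congrFun (congrFun h i) i
      simp at this
    rcases mul_eq_zero.mp h0 with h | h
    · exact hs i0 (g.injective (by rw [h, map_zero]))
    · exact hs i1 (g.injective (by rw [h, map_zero]))
  have : n = 1 := by omega
  rw [hnn, this]

/-- For a field K with maximal abelian extension K_ab, cd(K_ab) ≤ 1 if and only if for every etale
K-algebra E the restriction map Br(E) ⟶ Br(E ⊗_K K_ab) is trivial; the same holds with the maximal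
solvable extension. Stated here for an arbitrary separable algebraic extension F of K in place of
K_ab (the published lemma takes for F the maximal abelian or the maximal solvable extension of K;
this row allows any separable algebraic extension), with cd(F) ≤ 1 unfolded by the Brauer-group
criterion (every finite separable extension of F has trivial Brauer group) and with etale algebras
replaced by their field factors: (a) every finite-dimensional central division algebra over a finite
separable extension F′ of F is F′ itself; if and only if (b) for every finite separable extension E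
of K, every finite-dimensional central division algebra D over E and every field M containing E and
F compatibly over K, the base change M ⊗_E D is isomorphic over M to a matrix algebra over M. -/
theorem result
    (K F : Type u) [Field K] [Field F] [Algebra K F] [Algebra.IsSeparable K F] :
    (∀ (F' : Type u) [Field F'] [Algebra F F'] [FiniteDimensional F F'] [Algebra.IsSeparable F F']
        (D : Type u) [DivisionRing D] [Algebra F' D] [Algebra.IsCentral F' D] [FiniteDimensional F' D],
        Module.finrank F' D = 1) ↔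
    (∀ (E : Type u) [Field E] [Algebra K E] [FiniteDimensional K E] [Algebra.IsSeparable K E]
        (D : Type u) [DivisionRing D] [Algebra E D] [Algebra.IsCentral E D] [FiniteDimensional E D]
        (M : Type u) [Field M] [Algebra K M] [Algebra E M] [Algebra F M] [IsScalarTower K E M]
        [IsScalarTower K F M],
        ∃ n : ℕ, Nonempty ((M ⊗[E] D) ≃ₐ[M] Matrix (Fin n) (Fin n) M)) := by
  constructor
  · intro ha E _ _ _ _ D _ _ _ _ M _ _ _ _ _ _
    exact forward K F ha E D M
  · intro hb F' _ _ _ _ D _ _ _ _
    exact backward K F hb F' D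

end Groth.Agent.S18519
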