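import Groth.Statements.S18534
import Groth.Agent.Lib.Helper84.CplInv2
import Groth.Agent.Lib.Helper84.CplInv4

set_option autoImplicit false
universe u
open scoped Pointwise
open EtAlg

namespace Groth.Agent.S18534

open IsLocalRing Groth.Agent.Lib.Helper84.CplInv

theorem finite_of_galois (R S G : Type u) [CommRing R] [CommRing S] [IsDomain R] [IsDomain S]
    [IsNoetherianRing R] [IsIntegrallyClosed R] [Algebra R S] [FaithfulSMul R S]
    [IsIntegrallyClosed S]
    [Group G] [Finite G] [MulSemiringAction G S] [SMulCommClass G R S] [IsGaloisGroup G R S] :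
    Module.Finite R S := by
  let := FractionRing.liftAlgebra R (FractionRing S)
  let := IsFractionRing.mulSemiringAction G S (FractionRing S)
  have h1 : IsGaloisGroup G (FractionRing R) (FractionRing S) :=
    IsGaloisGroup.to_isFractionRing G R S _ _
  have h2 := IsGaloisGroup.isGalois G (FractionRing R) (FractionRing S)
  have h3 := IsGaloisGroup.finiteDimensional G (FractionRing R) (FractionRing S)
  have h4 : Algebra.IsIntegral R S :=
    (IsGaloisGroup.isInvariant (G := G) (A := R) (B := S)).isIntegral
  have h5 : IsIntegralClosure S R (FractionRing S) :=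
    IsIntegralClosure.of_isIntegrallyClosed S R (FractionRing S)
  exact IsIntegralClosure.finite R (FractionRing R) (FractionRing S) S

/-- Let R be a normal domain which is excellent and S a normal domain containing R on which a finite
group G acts by R-algebra automorphisms, faithfully and with ring of invariants exactly R (so S is
the integral closure of R in a finite Galois extension of Frac R with group G), Q a prime of S lying
over the prime P of R, and D the decomposition group of Q (the stabilizer of Q in G). Equip the
completion of the local ring S_Q with an action of D by ring automorphisms extending the action of D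
on S, and with an algebra structure over the completion of R_P compatible with R → S (both exist and
are unique, by density and continuity). Then D is a Galois group for the completed extension: it
acts faithfully, linearly over the completion of R_P, and its ring of invariants is exactly the
image of the completion of R_P; equivalently the extension of fraction fields of the completed local
rings is Galois with group D. (Only the completions of the local rings R_P and S_Q are treated. For
the P-adic completion of R itself and the Q-adic completion of S the analogous finiteness fails: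
with R = k[x,y], S = k[y,t], t² = x + y², char k ≠ 2 and Q = (t − y) over P = (x), the Q-adic
completion k[y][[t − y]] is not finite over the (x)-adic completion k[y][[x]] and their fraction
fields form an extension of infinite degree.) -/
theorem result
    (R S G : Type u) [CommRing R] [CommRing S] [IsDomain R] [IsDomain S]
    [IsIntegrallyClosed R] [IsIntegrallyClosed S] (hR : EGA4.IsExcellent R)
    [Algebra R S] [FaithfulSMul R S]
    [Group G] [Finite G] [MulSemiringAction G S] [SMulCommClass G R S] [IsGaloisGroup G R S]
    (P : Ideal R) [P.IsPrime] (Q : Ideal S) [Q.IsPrime] [Q.LiesOver P]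
    [MulSemiringAction (MulAction.stabilizer G Q) (EGA4.Cpl (Localization.AtPrime Q))]
    (hact : ∀ (g : MulAction.stabilizer G Q) (s : S),
      g • algebraMap (Localization.AtPrime Q) (EGA4.Cpl (Localization.AtPrime Q)) (algebraMap S (Localization.AtPrime Q) s) =
        algebraMap (Localization.AtPrime Q) (EGA4.Cpl (Localization.AtPrime Q)) (algebraMap S (Localization.AtPrime Q) (g • s)))
    [Algebra (EGA4.Cpl (Localization.AtPrime P)) (EGA4.Cpl (Localization.AtPrime Q))]
    (halg : ∀ r : R,
      algebraMap (EGA4.Cpl (Localization.AtPrime P)) (EGA4.Cpl (Localization.AtPrime Q)) (algebraMap (Localization.AtPrime P) (EGA4.Cpl (Localization.AtPrime P)) (algebraMap R (Localization.AtPrime P) r)) =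
        algebraMap (Localization.AtPrime Q) (EGA4.Cpl (Localization.AtPrime Q)) (algebraMap S (Localization.AtPrime Q) (algebraMap R S r))) :
    IsGaloisGroup (MulAction.stabilizer G Q) (EGA4.Cpl (Localization.AtPrime P)) (EGA4.Cpl (Localization.AtPrime Q)) := by
  have hRn : IsNoetherianRing R := hR.1
  have hfin : Module.Finite R S := finite_of_galois R S G
  have hSn : IsNoetherianRing S := IsNoetherianRing.of_finite R S
  have hinjR : Function.Injective (algebraMap R S) := FaithfulSMul.algebraMap_injective R S
  have hinvR : ∀ s : S, (∀ g : G, g • s = s) → ∃ r : R, algebraMap R S r = s :=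
    fun s hs => Algebra.IsInvariant.isInvariant (A := R) (G := G) s hs
  have hP : P = Q.comap (algebraMap R S) := Ideal.LiesOver.over (P := Q) (p := P)
  obtain ⟨hC1, hC2⟩ := hC12 Q hinvR P hP hinjR
  -- abbreviations
  let ιA : Localization.AtPrime P →+* EGA4.Cpl (Localization.AtPrime P) := algebraMap _ _
  let ιB : Localization.AtPrime Q →+* EGA4.Cpl (Localization.AtPrime Q) := algebraMap _ _
  let jA : R →+* Localization.AtPrime P := algebraMap _ _
  let jB : S →+* Localization.AtPrime Q := algebraMap _ _
  have hιBunit : ∀ s : S, s ∉ Q → IsUnit (ιB (jB s)) := fun s hs =>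
    (IsLocalization.map_units (M := Q.primeCompl) (Localization.AtPrime Q) ⟨s, hs⟩).map ιB
  -- compatibility of the action
  have hσ : ∀ (g : MulAction.stabilizer G Q) (b : Localization.AtPrime Q),
      g • (AdicCompletion.of (maximalIdeal (Localization.AtPrime Q)) _ b) =
        AdicCompletion.of (maximalIdeal (Localization.AtPrime Q)) _ (act Q (hQ_stab Q) g b) := by
    intro g b
    obtain ⟨s, t, rfl⟩ := IsLocalization.exists_mk'_eq Q.primeCompl b
    change g • ιB (IsLocalization.mk' _ s t) = ιB (act Q (hQ_stab Q) g (IsLocalization.mk' _ s t))
    have hgt : g • (t : S) ∉ Q := fun h => t.2 ((smul_mem_iff Q (hQ_stab Q) g _).mp h)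
    apply (hιBunit _ hgt).mul_right_cancel
    have e1 : g • ιB (IsLocalization.mk' _ s t) * ιB (jB (g • (t : S))) = ιB (jB (g • s)) := by
      rw [← hact g (t : S), ← smul_mul', ← map_mul, IsLocalization.mk'_spec, hact]
    have e2 : ιB (act Q (hQ_stab Q) g (IsLocalization.mk' _ s t)) * ιB (jB (g • (t : S))) =
        ιB (jB (g • s)) := by
      rw [← map_mul]
      congr 1
      change _ * algebraMap S _ (g • (t : S)) = algebraMap S _ (g • s)
      rw [← act_algebraMap Q (hQ_stab Q), ← map_mul, IsLocalization.mk'_spec, act_algebraMap]
    rw [e1, e2]
  -- compatibility of the algebra structure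
  have hf : ∀ a : Localization.AtPrime P,
      algebraMap (EGA4.Cpl (Localization.AtPrime P)) (EGA4.Cpl (Localization.AtPrime Q))
        (AdicCompletion.of (maximalIdeal (Localization.AtPrime P)) _ a) =
        AdicCompletion.of (maximalIdeal (Localization.AtPrime Q)) _ (phi Q P hP a) := by
    intro a
    obtain ⟨r, t, rfl⟩ := IsLocalization.exists_mk'_eq P.primeCompl a
    change algebraMap (EGA4.Cpl (Localization.AtPrime P)) (EGA4.Cpl (Localization.AtPrime Q))
        (ιA (IsLocalization.mk' _ r t)) = ιB (phi Q P hP (IsLocalization.mk' _ r t))
    have hmem : ∀ x : R, x ∈ P ↔ algebraMap R S x ∈ Q := fun x => by rw [hP]; rfl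
    have ht : algebraMap R S (t : R) ∉ Q := fun h => t.2 ((hmem _).mpr h)
    apply (hιBunit _ ht).mul_right_cancel
    have e1 : algebraMap (EGA4.Cpl (Localization.AtPrime P)) (EGA4.Cpl (Localization.AtPrime Q))
        (ιA (IsLocalization.mk' _ r t)) * ιB (jB (algebraMap R S (t : R))) =
        ιB (jB (algebraMap R S r)) := by
      rw [← halg (t : R), ← map_mul, ← map_mul, IsLocalization.mk'_spec, halg]
    have e2 : ιB (phi Q P hP (IsLocalization.mk' _ r t)) * ιB (jB (algebraMap R S (t : R))) =
        ιB (jB (algebraMap R S r)) := by
      rw [← map_mul]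
      congr 1
      exact phi_mk'_mul Q P hP r t
    rw [e1, e2]
  have hfixed := cpl_fixed (phi Q P hP) (phi_mem_maximalIdeal Q P hP) (act Q (hQ_stab Q))
    (act_mem_maximalIdeal Q (hQ_stab Q)) (act_phi Q P hP) hσ
    (algebraMap (EGA4.Cpl (Localization.AtPrime P)) (EGA4.Cpl (Localization.AtPrime Q))) hf
  have hinvar := cpl_invariant (phi Q P hP) (phi_mem_maximalIdeal Q P hP) (act Q (hQ_stab Q))
    (act_mem_maximalIdeal Q (hQ_stab Q)) hC1 hC2 hσ
    (algebraMap (EGA4.Cpl (Localization.AtPrime P)) (EGA4.Cpl (Localization.AtPrime Q))) hf
  refine { faithful := ⟨fun {g1 g2} h => ?_⟩, commutes := ⟨fun g c x => ?_⟩,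
           isInvariant := ⟨fun x hx => hinvar x hx⟩ }
  · have hfaith : FaithfulSMul G S := IsGaloisGroup.faithful R
    apply Subtype.ext
    apply eq_of_smul_eq_smul (α := S)
    intro s
    have h1 := h (ιB (jB s))
    rw [hact, hact] at h1
    have h2 : jB (g1 • s) = jB (g2 • s) :=
      AdicCompletion.of_injective (maximalIdeal (Localization.AtPrime Q)) _ h1
    exact algebraMap_B_injective Q h2
  · rw [Algebra.smul_def, Algebra.smul_def, smul_mul', hfixed]

end Groth.Agent.S18534
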