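import Groth.Statements.S18535
import Mathlib
import Groth.Agent.S9405

set_option autoImplicit false
universe u
open EtAlg

namespace Groth.Agent.S18535

namespace IN
open Polynomial IsLocalRing
open scoped Pointwise

theorem finite_of_galois (R S G : Type u) [CommRing R] [CommRing S] [IsDomain R] [IsDomain S]
    [IsNoetherianRing R] [IsIntegrallyClosed R] [Algebra R S] [FaithfulSMul R S]
    [IsIntegrallyClosed S]
    [Group G] [Finite G] [MulSemiringAction G S] [SMulCommClass G R S] [IsGaloisGroup G R S] :
    Module.Finite R S := by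
  let := FractionRing.liftAlgebra R (FractionRing S)
  let := IsFractionRing.mulSemiringAction G S (FractionRing S)
  have h1 : IsGaloisGroup G (FractionRing R) (FractionRing S) :=
    IsGaloisGroup.to_isFractionRing G R S _ _
  have h2 := IsGaloisGroup.isGalois G (FractionRing R) (FractionRing S)
  have h3 := IsGaloisGroup.finiteDimensional G (FractionRing R) (FractionRing S)
  have h4 : Algebra.IsIntegral R S := (IsGaloisGroup.isInvariant (G := G) (A := R) (B := S)).isIntegral
  have h5 : IsIntegralClosure S R (FractionRing S) :=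
    IsIntegralClosure.of_isIntegrallyClosed S R (FractionRing S)
  exact IsIntegralClosure.finite R (FractionRing R) (FractionRing S) S


theorem isLocalRing_of_complete (R S : Type u) [CommRing R] [CommRing S] [IsDomain S]
    [IsNoetherianRing R] [IsLocalRing R] [IsAdicComplete (IsLocalRing.maximalIdeal R) R]
    [Algebra R S] [Module.Finite R S] : IsLocalRing S := by
  apply IsLocalRing.of_unique_max_ideal
  obtain ⟨M, hM⟩ := Ideal.exists_maximal S
  refine ⟨M, hM, fun M' hM' => ?_⟩
  by_contra hne
  obtain ⟨e, he1, he0⟩ := Groth.Agent.S9405.exists_idem R S ⟨M, hM⟩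
  have hinj : Function.Injective (algebraMap S (Localization.AtPrime M)) :=
    IsLocalization.injective _ M.primeCompl_le_nonZeroDivisors
  have h1 : e = 1 := hinj (by rw [he1, map_one])
  have h0 := he0 ⟨M', hM'⟩ (by
    intro h
    apply hne
    exact congrArg MaximalSpectrum.asIdeal h)
  rw [h1, map_one] at h0
  exact one_ne_zero h0


attribute [local instance] Ideal.Quotient.field

theorem exists_free_element (k k' : Type u) [Field k] [Field k'] [Algebra k k']
    [FiniteDimensional k k'] :
    ∃ t : k', ∀ σ : k' ≃ₐ[k] k', σ t = t → σ = 1 := by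
  classical
  let A := k' ≃ₐ[k] k'
  have : Finite A := inferInstance
  let E := FixedPoints.subfield A k'
  have hgal : IsGalois E k' := IsGalois.of_fixed_field k' A
  have hfd : FiniteDimensional E k' := inferInstance
  obtain ⟨t, ht⟩ := Field.exists_primitive_element E k'
  refine ⟨t, fun σ hσ => ?_⟩
  have hint : IsIntegral E t := Algebra.IsIntegral.isIntegral _
  have hadj : Algebra.adjoin E {t} = ⊤ := by
    rw [← IntermediateField.adjoin_simple_toSubalgebra_of_isAlgebraic hint.isAlgebraic, ht]
    rfl
  have h := AlgHom.ext_of_adjoin_eq_top (s := {t}) hadj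
    (φ₁ := MulSemiringAction.toAlgHom E k' σ) (φ₂ := AlgHom.id E k') (by
      intro x hx
      rw [Set.mem_singleton_iff] at hx
      subst hx
      exact hσ)
  ext x
  have := DFunLike.congr_fun h x
  exact this


theorem mk_aeval (R S : Type u) [CommRing R] [CommRing S] [IsLocalRing R] [Algebra R S]
  (n : Ideal S) [n.LiesOver (maximalIdeal R)] (θ : S) (p : R[X]) :
    Ideal.Quotient.mk n (aeval θ p) =
      aeval (Ideal.Quotient.mk n θ) (p.map (algebraMap R (R ⧸ maximalIdeal R))) := by
  rw [aeval_map_algebraMap]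
  exact (aeval_algHom_apply (Ideal.Quotient.mkₐ R n) θ p).symm

/-- a polynomial with coefficients in `m` evaluates into `mS`. -/
theorem aeval_mem_map (R S : Type u) [CommRing R] [CommRing S] [Algebra R S] (m : Ideal R)
    (θ : S) (P : R[X]) (hP : P.map (Ideal.Quotient.mk m) = 0) :
    aeval θ P ∈ m.map (algebraMap R S) := by
  rw [aeval_eq_sum_range]
  refine Ideal.sum_mem _ (fun i _ => ?_)
  have hc : P.coeff i ∈ m := by
    have := congrArg (fun q => q.coeff i) hP
    simp only [coeff_map, coeff_zero] at this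
    exact Ideal.Quotient.eq_zero_iff_mem.mp this
  rw [Algebra.smul_def]
  exact Ideal.mul_mem_right _ _ (Ideal.mem_map_of_mem _ hc)

theorem unramified_of_inertia_trivial (R S G : Type u) [CommRing R] [CommRing S]
    [IsLocalRing R] [IsLocalRing S] [Algebra R S] [Module.Finite R S]
    [Group G] [Fintype G] [MulSemiringAction G S] [SMulCommClass G R S]
    [Algebra.IsInvariant R S G]
    (n : Ideal S) [n.IsMaximal] [n.LiesOver (maximalIdeal R)]
    (hI : n.toAddSubgroup.inertia G = ⊥) :
    (maximalIdeal R).map (algebraMap R S) = n ∧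
      Module.Finite (R ⧸ maximalIdeal R) (S ⧸ n) ∧
      Algebra.IsSeparable (R ⧸ maximalIdeal R) (S ⧸ n) := by
  classical
  set m := maximalIdeal R with hm
  have hn : n = maximalIdeal S := IsLocalRing.eq_maximalIdeal ‹_›
  have hstab : ∀ g : G, g • n = n := by
    intro g
    apply smul_eq_of_smul_le
    rw [hn]
    apply IsLocalRing.le_maximalIdeal
    have : (g • maximalIdeal S).IsPrime := Ideal.IsPrime.smul g
    exact this.ne_top
  have hfinR : Module.Finite R (S ⧸ n) := inferInstance
  have hfin : Module.Finite (R ⧸ m) (S ⧸ n) := Module.Finite.of_restrictScalars_finite R _ _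
  obtain ⟨t, ht⟩ := exists_free_element (R ⧸ m) (S ⧸ n)
  obtain ⟨θ, rfl⟩ := Ideal.Quotient.mk_surjective t
  have hfree : ∀ g : G, g • θ - θ ∈ n → g = 1 := by
    intro g hg
    have h1 := ht (Ideal.Quotient.stabilizerHom n m G ⟨g, hstab g⟩) (by
      rw [Ideal.Quotient.stabilizerHom_apply]
      exact Ideal.Quotient.eq.mpr hg)
    have h2 : g ∈ n.toAddSubgroup.inertia G := by
      intro x
      have := DFunLike.congr_fun h1 (Ideal.Quotient.mk n x)
      rw [Ideal.Quotient.stabilizerHom_apply, AlgEquiv.one_apply] at this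
      exact Ideal.Quotient.eq.mp this
    rw [hI] at h2
    exact Subgroup.mem_bot.mp h2
  have hfree2 : ∀ g h : G, g • θ - h • θ ∈ n → g = h := by
    intro g h hgh
    have h3 : (h⁻¹ * g) • θ - θ ∈ n := by
      have := (Ideal.smul_mem_pointwise_smul_iff (a := h⁻¹)).mpr hgh
      rw [hstab, smul_sub, smul_smul, inv_smul_smul] at this
      exact this
    have := hfree _ h3
    exact (inv_mul_eq_one.mp this).symm
  -- the unit
  set u : S := ∏ h ∈ Finset.univ.erase (1 : G), (θ - h • θ) with hu_def
  have hu : IsUnit u := by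
    have hnot : u ∉ n := by
      intro hmem
      obtain ⟨h, hh, hmem'⟩ := (Ideal.IsPrime.prod_mem_iff (hp := inferInstance)).mp hmem
      have := hfree2 1 h (by simpa using hmem')
      exact (Finset.ne_of_mem_erase hh) this.symm
    rw [hn] at hnot
    exact IsLocalRing.notMem_maximalIdeal.mp hnot
  -- Lagrange interpolation: S = R[θ]
  have hrange : ∀ s : S, ∃ p : R[X], aeval θ p = s := by
    intro s
    obtain ⟨v, hv⟩ := hu
    set z : S := s * ↑v⁻¹ with hz
    let T : S[X] := ∑ g : G, C (g • z) *
      ∏ h ∈ Finset.univ.erase (1 : G), (X - C ((g * h) • θ))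
    have hT : ∀ σ : G, σ • T = T := by
      intro σ
      simp only [T, Finset.smul_sum, smul_mul', smul_C, Finset.smul_prod', smul_sub, smul_X,
        smul_smul]
      exact Fintype.sum_equiv (Equiv.mulLeft σ) _ _ (fun g => by simp [mul_assoc])
    have hlift : T ∈ lifts (algebraMap R S) :=
      T.lifts_iff_coeff_lifts.mpr fun k =>
        Algebra.IsInvariant.isInvariant (G := G) _ (fun σ => by rw [← coeff_smul, hT])
    obtain ⟨p, hp⟩ := (mem_lifts _).mp hlift
    refine ⟨p, ?_⟩
    rw [← eval_map_algebraMap, hp]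
    simp only [T, eval_finsetSum, eval_mul, eval_C, eval_prod, eval_sub, eval_X]
    rw [Finset.sum_eq_single 1]
    · simp only [one_smul, one_mul]
      rw [← hu_def, ← hv, hz, mul_assoc, Units.inv_mul, mul_one]
    · intro g _ hg
      have hmem : g⁻¹ ∈ Finset.univ.erase (1 : G) := by
        rw [Finset.mem_erase]
        exact ⟨inv_ne_one.mpr hg, Finset.mem_univ _⟩
      rw [Finset.prod_eq_zero hmem (by rw [mul_inv_cancel, one_smul, sub_self]), mul_zero]
    · intro h; exact absurd (Finset.mem_univ _) h
  -- the characteristic polynomial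
  obtain ⟨F, hF⟩ := (mem_lifts _).mp (Algebra.IsInvariant.charpoly_mem_lifts R S G θ)
  have hF0 : aeval θ F = 0 := by
    rw [← eval_map_algebraMap, hF, MulSemiringAction.eval_charpoly]
  set Fb : (R ⧸ m)[X] := F.map (algebraMap R (R ⧸ m)) with hFb
  have hFbmap : Fb.map (algebraMap (R ⧸ m) (S ⧸ n)) =
      ∏ g : G, (X - C (Ideal.Quotient.mk n (g • θ))) := by
    rw [hFb, Polynomial.map_map, ← IsScalarTower.algebraMap_eq,
      IsScalarTower.algebraMap_eq R S (S ⧸ n), ← Polynomial.map_map, hF,
      MulSemiringAction.charpoly_eq, Polynomial.map_prod]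
    refine Finset.prod_congr rfl (fun g _ => ?_)
    rw [Polynomial.map_sub, map_X, map_C]
    rfl
  have hFbsep : Fb.Separable := by
    rw [← Polynomial.separable_map (algebraMap (R ⧸ m) (S ⧸ n)), hFbmap,
      separable_prod_X_sub_C_iff]
    intro g h hgh
    exact hfree2 g h (Ideal.Quotient.eq.mp hgh)
  have hFbroot : aeval (Ideal.Quotient.mk n θ) Fb = 0 := by
    rw [hFb, ← mk_aeval R S n θ F, hF0, map_zero]
  have hθsep : IsSeparable (R ⧸ m) (Ideal.Quotient.mk n θ) :=
    hFbsep.of_dvd (minpoly.dvd _ _ hFbroot)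
  -- S/n = k[θ̄]
  have hadj : Algebra.adjoin (R ⧸ m) {Ideal.Quotient.mk n θ} = ⊤ := by
    rw [eq_top_iff]
    intro x _
    obtain ⟨s, rfl⟩ := Ideal.Quotient.mk_surjective x
    obtain ⟨p, rfl⟩ := hrange s
    rw [mk_aeval R S n θ p, Algebra.adjoin_singleton_eq_range_aeval]
    exact ⟨_, rfl⟩
  have hsepalg : Algebra.IsSeparable (R ⧸ m) (S ⧸ n) := by
    rw [← separableClosure.eq_top_iff, eq_top_iff]
    intro x _
    have h1 : Algebra.adjoin (R ⧸ m) {Ideal.Quotient.mk n θ} ≤
        (separableClosure (R ⧸ m) (S ⧸ n)).toSubalgebra := by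
      rw [Algebra.adjoin_le_iff]
      intro y hy
      rw [Set.mem_singleton_iff] at hy
      subst hy
      exact mem_separableClosure_iff.mpr hθsep
    exact h1 (by rw [hadj]; trivial)
  refine ⟨?_, hfin, hsepalg⟩
  -- mS = n
  apply le_antisymm
  · rw [Ideal.map_le_iff_le_comap]
    exact le_of_eq (Ideal.LiesOver.over (P := n) (p := m))
  · intro x hx
    obtain ⟨P, rfl⟩ := hrange x
    set μb := minpoly (R ⧸ m) (Ideal.Quotient.mk n θ) with hμb
    have hPb : aeval (Ideal.Quotient.mk n θ) (P.map (algebraMap R (R ⧸ m))) = 0 := by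
      rw [← mk_aeval R S n θ P]
      exact Ideal.Quotient.eq_zero_iff_mem.mpr hx
    obtain ⟨Qb, hQb⟩ := minpoly.dvd _ _ hPb
    obtain ⟨νb, hνb⟩ := minpoly.dvd _ _ hFbroot
    obtain ⟨μ, hμ⟩ := Polynomial.map_surjective _ (Ideal.Quotient.mk_surjective (I := m)) μb
    obtain ⟨Q, hQ⟩ := Polynomial.map_surjective _ (Ideal.Quotient.mk_surjective (I := m)) Qb
    obtain ⟨ν, hν⟩ := Polynomial.map_surjective _ (Ideal.Quotient.mk_surjective (I := m)) νb
    -- ν(θ) is a unit
    have hνroot : aeval (Ideal.Quotient.mk n θ) νb ≠ 0 := by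
      intro h0
      have hder := hFbsep.aeval_derivative_ne_zero hFbroot
      apply hder
      rw [hνb, derivative_mul, map_add, map_mul, map_mul, h0, mul_zero, zero_add, ← hμb,
        minpoly.aeval, zero_mul]
    have hνunit : IsUnit (aeval θ ν) := by
      rw [← IsLocalRing.notMem_maximalIdeal, ← hn, ← Ideal.Quotient.eq_zero_iff_mem,
        mk_aeval R S n θ ν]
      rw [show (algebraMap R (R ⧸ m)) = Ideal.Quotient.mk m from rfl, hν]
      exact hνroot
    -- μ(θ)ν(θ) ∈ mS
    have h1 : aeval θ (F - μ * ν) ∈ m.map (algebraMap R S) := by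
      apply aeval_mem_map
      rw [Polynomial.map_sub, Polynomial.map_mul, hμ, hν, ← hνb]
      exact sub_self _
    rw [map_sub, hF0, zero_sub, Ideal.neg_mem_iff, map_mul] at h1
    have h2 : aeval θ μ ∈ m.map (algebraMap R S) := by
      obtain ⟨w, hw⟩ := hνunit
      have := Ideal.mul_mem_right (↑w⁻¹ : S) _ h1
      rwa [← hw, mul_assoc, Units.mul_inv, mul_one] at this
    have h3 : aeval θ (P - μ * Q) ∈ m.map (algebraMap R S) := by
      apply aeval_mem_map
      rw [Polynomial.map_sub, Polynomial.map_mul, hμ, hQ, ← hQb]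
      exact sub_self _
    have : aeval θ P = aeval θ (P - μ * Q) + aeval θ μ * aeval θ Q := by
      rw [map_sub, map_mul]; ring
    rw [this]
    exact Ideal.add_mem _ h3 (Ideal.mul_mem_right _ _ h2)


theorem inertia_trivial_of_unramified (R S G : Type u) [CommRing R] [CommRing S] [IsDomain S]
    [IsLocalRing R] [Algebra R S] [Module.Finite R S]
    [Group G] [MulSemiringAction G S] [SMulCommClass G R S] [FaithfulSMul G S]
    (n : Ideal S) [n.IsMaximal] [n.LiesOver (maximalIdeal R)]
    (hmn : (maximalIdeal R).map (algebraMap R S) = n)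
    [Module.Finite (R ⧸ maximalIdeal R) (S ⧸ n)]
    [Algebra.IsSeparable (R ⧸ maximalIdeal R) (S ⧸ n)] :
    n.toAddSubgroup.inertia G = ⊥ := by
  set m := maximalIdeal R with hm
  -- primitive element
  obtain ⟨θb, hθb⟩ := Field.exists_primitive_element (R ⧸ m) (S ⧸ n)
  obtain ⟨θ, rfl⟩ := Ideal.Quotient.mk_surjective θb
  have hint : IsIntegral (R ⧸ m) (Ideal.Quotient.mk n θ) := Algebra.IsIntegral.isIntegral _
  have hadj : Algebra.adjoin (R ⧸ m) {Ideal.Quotient.mk n θ} = ⊤ := by
    rw [← IntermediateField.adjoin_simple_toSubalgebra_of_isAlgebraic hint.isAlgebraic, hθb]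
    rfl
  -- every element of S is a polynomial in θ modulo n
  have hmod : ∀ s : S, ∃ p : R[X], s - aeval θ p ∈ n := by
    intro s
    have : Ideal.Quotient.mk n s ∈ Algebra.adjoin (R ⧸ m) {Ideal.Quotient.mk n θ} := by
      rw [hadj]; trivial
    rw [Algebra.adjoin_singleton_eq_range_aeval] at this
    obtain ⟨pb, hpb⟩ := this
    obtain ⟨p, rfl⟩ := Polynomial.map_surjective _ (Ideal.Quotient.mk_surjective (I := m)) pb
    refine ⟨p, ?_⟩
    rw [← Ideal.Quotient.eq_zero_iff_mem, map_sub, mk_aeval R S n θ p, sub_eq_zero]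
    exact hpb.symm
  -- Nakayama: S = R[θ]
  have htop : (Algebra.adjoin R {θ}).toSubmodule = ⊤ := by
    rw [eq_top_iff]
    refine Submodule.le_of_le_smul_of_le_jacobson_bot (I := m) Module.Finite.fg_top ?_ ?_
    · rw [IsLocalRing.jacobson_eq_maximalIdeal ⊥ bot_ne_top]
    · intro s _
      obtain ⟨p, hp⟩ := hmod s
      have h1 : aeval θ p ∈ (Algebra.adjoin R {θ}).toSubmodule := by
        rw [Subalgebra.mem_toSubmodule, Algebra.adjoin_singleton_eq_range_aeval]
        exact ⟨p, rfl⟩
      have h2 : s - aeval θ p ∈ m • (⊤ : Submodule R S) := by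
        rw [Ideal.smul_top_eq_map, hmn]
        exact hp
      have : s = aeval θ p + (s - aeval θ p) := by ring
      rw [this]
      exact Submodule.add_mem_sup h1 h2
  have hrange : ∀ s : S, ∃ p : R[X], aeval θ p = s := by
    intro s
    have : s ∈ (Algebra.adjoin R {θ}).toSubmodule := by rw [htop]; trivial
    rw [Subalgebra.mem_toSubmodule, Algebra.adjoin_singleton_eq_range_aeval] at this
    exact this
  -- elements of mS are polynomials in θ with coefficients in m
  have hmS : ∀ x ∈ n, ∃ P : R[X], P.map (algebraMap R (R ⧸ m)) = 0 ∧ aeval θ P = x := by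
    intro x hx
    rw [← hmn, Ideal.map] at hx
    induction hx using Submodule.span_induction with
    | mem x hx =>
      obtain ⟨a, ha, rfl⟩ := hx
      refine ⟨C a, ?_, by simp⟩
      rw [Polynomial.map_C, Ideal.Quotient.algebraMap_eq, Ideal.Quotient.eq_zero_iff_mem.mpr ha,
        map_zero]
    | zero => exact ⟨0, by simp, by simp⟩
    | add x y _ _ hx hy =>
      obtain ⟨P, hP0, hP⟩ := hx
      obtain ⟨Q, hQ0, hQ⟩ := hy
      exact ⟨P + Q, by rw [Polynomial.map_add, hP0, hQ0, add_zero], by rw [map_add, hP, hQ]⟩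
    | smul s x _ hx =>
      obtain ⟨P, hP0, hP⟩ := hx
      obtain ⟨P₀, hP₀⟩ := hrange s
      exact ⟨P₀ * P, by rw [Polynomial.map_mul, hP0, mul_zero],
        by rw [map_mul, hP, hP₀, smul_eq_mul]⟩
  -- the polynomial F
  have hsep : (minpoly (R ⧸ m) (Ideal.Quotient.mk n θ)).Separable :=
    Algebra.IsSeparable.isSeparable (R ⧸ m) _
  obtain ⟨μ, hμ⟩ := Polynomial.map_surjective _ (Ideal.Quotient.mk_surjective (I := m))
    (minpoly (R ⧸ m) (Ideal.Quotient.mk n θ))
  have hμn : aeval θ μ ∈ n := by
    rw [← Ideal.Quotient.eq_zero_iff_mem, mk_aeval R S n θ μ]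
    rw [show (algebraMap R (R ⧸ m)) = Ideal.Quotient.mk m from rfl, hμ, minpoly.aeval]
  obtain ⟨P, hP0, hP⟩ := hmS _ hμn
  set F := μ - P with hF
  have hFmap : F.map (algebraMap R (R ⧸ m)) = minpoly (R ⧸ m) (Ideal.Quotient.mk n θ) := by
    rw [hF, Polynomial.map_sub, hP0, sub_zero]
    exact hμ
  have hF0 : aeval θ F = 0 := by rw [hF, map_sub, hP, sub_self]
  have hF' : aeval θ (derivative F) ∉ n := by
    rw [← Ideal.Quotient.eq_zero_iff_mem, mk_aeval R S n θ, ← derivative_map, hFmap]
    exact hsep.aeval_derivative_ne_zero (minpoly.aeval _ _)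
  -- now the inertia argument
  rw [eq_bot_iff]
  intro g hg
  rw [Subgroup.mem_bot]
  have hδ : g • θ - θ ∈ n := hg θ
  have hgF : aeval (g • θ) F = 0 := by
    have := aeval_algHom_apply (MulSemiringAction.toAlgHom R S g) θ F
    rw [MulSemiringAction.toAlgHom_apply] at this
    rw [this, hF0, map_zero]
  obtain ⟨c, hc⟩ := Polynomial.binomExpansion (F.map (algebraMap R S)) θ (g • θ - θ)
  rw [add_sub_cancel, eval_map_algebraMap, eval_map_algebraMap, hgF, hF0, zero_add,
    derivative_map, eval_map_algebraMap] at hc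
  have hfac : (g • θ - θ) * (aeval θ (derivative F) + c * (g • θ - θ)) = 0 := by
    rw [hc]; ring
  have hne : aeval θ (derivative F) + c * (g • θ - θ) ≠ 0 := by
    intro h0
    apply hF'
    have : aeval θ (derivative F) = - (c * (g • θ - θ)) := eq_neg_of_add_eq_zero_left h0
    rw [this]
    exact n.neg_mem (n.mul_mem_left c hδ)
  have hgθ : g • θ = θ := by
    rcases mul_eq_zero.mp hfac with h | h
    · exact sub_eq_zero.mp h
    · exact absurd h hne
  apply eq_of_smul_eq_smul (α := S)
  intro s
  obtain ⟨p, rfl⟩ := hrange s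
  have := aeval_algHom_apply (MulSemiringAction.toAlgHom R S g) θ p
  rw [MulSemiringAction.toAlgHom_apply, MulSemiringAction.toAlgHom_apply, hgθ] at this
  rw [← this, one_smul]



theorem main (R S G : Type u) [CommRing R] [CommRing S] [IsDomain R] [IsDomain S]
    [IsNoetherianRing R] [IsLocalRing R] [IsIntegrallyClosed R]
    [IsAdicComplete (IsLocalRing.maximalIdeal R) R]
    [Algebra R S] [FaithfulSMul R S] [IsIntegrallyClosed S]
    [Group G] [Finite G] [MulSemiringAction G S] [SMulCommClass G R S] [IsGaloisGroup G R S]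
    (n : Ideal S) [n.IsMaximal] [n.LiesOver (IsLocalRing.maximalIdeal R)] :
    n.toAddSubgroup.inertia G = ⊥ ↔
      ((IsLocalRing.maximalIdeal R).map (algebraMap R S) = n ∧
        Module.Finite (R ⧸ IsLocalRing.maximalIdeal R) (S ⧸ n) ∧
        Algebra.IsSeparable (R ⧸ IsLocalRing.maximalIdeal R) (S ⧸ n)) := by
  have hfin : Module.Finite R S := finite_of_galois R S G
  have hinv : Algebra.IsInvariant R S G := IsGaloisGroup.isInvariant
  have hfaith : FaithfulSMul G S := IsGaloisGroup.faithful R
  constructor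
  · intro hI
    have : IsLocalRing S := isLocalRing_of_complete R S
    cases nonempty_fintype G
    exact unramified_of_inertia_trivial R S G n hI
  · rintro ⟨hmn, hf, hs⟩
    exact inertia_trivial_of_unramified R S G n hmn

end IN


/-- Let R be a complete Noetherian local normal domain with maximal ideal m, let S be a normal domain
containing R on which a finite group G acts by R-algebra automorphisms, faithfully and with ring of
invariants exactly R (so that S is the integral closure of R in some finite Galois extension, with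
group G, of Frac R), and let n be a maximal ideal of S over m. Then the inertia subgroup of n in G
(the elements g with g s - s ∈ n for all s ∈ S) is trivial if and only if mS = n and the residue
field S/n is finite and separable over R/m. -/
theorem result
    (R S G : Type u) [CommRing R] [CommRing S] [IsDomain R] [IsDomain S]
    [IsNoetherianRing R] [IsLocalRing R] [IsIntegrallyClosed R]
    [IsAdicComplete (IsLocalRing.maximalIdeal R) R]
    [Algebra R S] [FaithfulSMul R S] [IsIntegrallyClosed S]
    [Group G] [Finite G] [MulSemiringAction G S] [SMulCommClass G R S] [IsGaloisGroup G R S]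
    (n : Ideal S) [n.IsMaximal] [n.LiesOver (IsLocalRing.maximalIdeal R)] :
    n.toAddSubgroup.inertia G = ⊥ ↔
      ((IsLocalRing.maximalIdeal R).map (algebraMap R S) = n ∧
        Module.Finite (R ⧸ IsLocalRing.maximalIdeal R) (S ⧸ n) ∧
        Algebra.IsSeparable (R ⧸ IsLocalRing.maximalIdeal R) (S ⧸ n)) :=
  IN.main R S G n

end Groth.Agent.S18535
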