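import Groth.Statements.S18538
import Mathlib
-- import your own Groth.Agent.* helpers here

set_option autoImplicit false
universe u
open EtAlg

namespace Groth.Agent.S18538
open scoped TensorProduct

/-- Let A ⊆ B be an injective finite extension of integrally closed domains, with fraction fields K ⊆ L
and L separable over K. Then A → B → B ⊗_A B is exact, the second map being b ↦ b ⊗ 1 - 1 ⊗ b: every
element of B whose two images in B ⊗_A B agree comes from A. -/
theorem result
    (A B K L : Type u) [CommRing A] [CommRing B] [IsDomain A] [IsDomain B]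
    [IsIntegrallyClosed A] [IsIntegrallyClosed B] [Algebra A B] [FaithfulSMul A B] [Module.Finite A B]
    [Field K] [Field L] [Algebra A K] [IsFractionRing A K] [Algebra B L] [IsFractionRing B L]
    [Algebra K L] [Algebra A L] [IsScalarTower A K L] [IsScalarTower A B L]
    [Algebra.IsSeparable K L] :
    Algebra.IsEffective A B := by
  intro b
  refine ⟨fun hb => ?_, Algebra.TensorProduct.includeLeftSubRight_zero_of_mem_range⟩
  -- transport to L ⊗[K] L
  let ι : B →ₗ[A] L := (IsScalarTower.toAlgHom A B L).toLinearMap
  let φ : B ⊗[A] B →ₗ[A] L ⊗[K] L :=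
    (TensorProduct.mapOfCompatibleSMul K A A L L) ∘ₗ (TensorProduct.map ι ι)
  have hφ : φ (Algebra.TensorProduct.includeLeftSubRight A B b) = 0 := by rw [hb, map_zero]
  have hβ : Algebra.TensorProduct.includeLeftSubRight K L (algebraMap B L b) = 0 := by
    rw [← hφ]
    simp [φ, ι, Algebra.TensorProduct.includeLeftSubRight_apply]
  have heff : Algebra.IsEffective K L := Algebra.IsEffective.of_faithfullyFlat K L
  obtain ⟨k, hk⟩ := (heff (algebraMap B L b)).mp hβ
  -- k is integral over A
  have hbint : IsIntegral A b := Algebra.IsIntegral.isIntegral b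
  have hβint : IsIntegral A (algebraMap B L b) := hbint.map (IsScalarTower.toAlgHom A B L)
  have hkint : IsIntegral A k := by
    have : IsIntegral A (algebraMap K L k) := by
      rw [← hk] at hβint
      exact hβint
    exact (isIntegral_algHom_iff (IsScalarTower.toAlgHom A K L) (algebraMap K L).injective).mp this
  obtain ⟨a, ha⟩ := IsIntegrallyClosed.isIntegral_iff.mp hkint
  refine ⟨a, ?_⟩
  apply IsFractionRing.injective B L
  rw [Algebra.linearMap_apply, ← IsScalarTower.algebraMap_apply, IsScalarTower.algebraMap_apply A K L, ha]
  exact hk

end Groth.Agent.S18538
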