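import Groth.Statements.S18544
import Mathlib
-- import your own Groth.Agent.* helpers here

set_option autoImplicit false
universe u
open CAlg

namespace Groth.Agent.S18544


open Polynomial Matrix

variable {F : Type u} [Field F] {n : ℕ}

/-- evaluation of `N` at a matrix. -/
noncomputable def Nf (N : MvPolynomial (Fin n × Fin n) F) (x : Matrix (Fin n) (Fin n) F) : F :=
  MvPolynomial.eval (fun ij : Fin n × Fin n => x ij.1 ij.2) N

/-- one-variable polynomial obtained by substituting a matrix of polynomials. -/
noncomputable def NP (N : MvPolynomial (Fin n × Fin n) F) (M : Matrix (Fin n) (Fin n) F[X]) :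
    F[X] :=
  MvPolynomial.aeval (fun ij : Fin n × Fin n => M ij.1 ij.2) N

lemma eval_NP (N : MvPolynomial (Fin n × Fin n) F) (M : Matrix (Fin n) (Fin n) F[X]) (t : F) :
    (NP N M).eval t = Nf N (M.map (Polynomial.eval t)) := by
  unfold NP Nf
  have h := MvPolynomial.comp_aeval (R := F) (fun ij : Fin n × Fin n => M ij.1 ij.2)
    (Polynomial.aeval (R := F) t)
  have h2 := DFunLike.congr_fun h N
  simp only [AlgHom.comp_apply, Polynomial.coe_aeval_eq_eval] at h2
  rw [h2, MvPolynomial.aeval_def, MvPolynomial.eval, MvPolynomial.eval₂Hom]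
  rfl

/-- A polynomial with `p(s+t) = p(s)p(t)` and `p ≠ 0` is constantly `1`. -/
lemma eval_eq_one_of_add [Infinite F] (p : F[X]) (hp : p ≠ 0)
    (h : ∀ s t : F, p.eval (s + t) = p.eval s * p.eval t) (t : F) : p.eval t = 1 := by
  have h1 : p.comp (X + C t) = C (p.eval t) * p := by
    apply Polynomial.funext
    intro s
    simp [h, mul_comm]
  have h2 := congrArg Polynomial.leadingCoeff h1
  rw [Polynomial.leadingCoeff_comp (by simp), Polynomial.leadingCoeff_X_add_C, one_pow, mul_one,
    Polynomial.leadingCoeff_mul, Polynomial.leadingCoeff_C] at h2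
  have h3 : p.leadingCoeff ≠ 0 := Polynomial.leadingCoeff_ne_zero.mpr hp
  have h4 : (1 - p.eval t) * p.leadingCoeff = 0 := by rw [sub_mul, one_mul, ← h2, sub_self]
  rcases mul_eq_zero.mp h4 with h5 | h5
  · exact (sub_eq_zero.mp h5).symm
  · exact absurd h5 h3

/-- A nonzero polynomial with `q(st) = q(s)q(t)` is a monomial `t^k`. -/
lemma eval_eq_pow_of_mul [Infinite F] (q : F[X]) (hq : q ≠ 0)
    (h : ∀ s t : F, q.eval (s * t) = q.eval s * q.eval t) : ∃ k : ℕ, ∀ t : F, q.eval t = t ^ k := by
  obtain ⟨k, hk⟩ : ∃ k, q.coeff k ≠ 0 := by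
    by_contra hcon
    push Not at hcon
    exact hq (Polynomial.ext (by simpa using hcon))
  refine ⟨k, fun t => ?_⟩
  have h1 : q.comp (C t * X) = C (q.eval t) * q := by
    apply Polynomial.funext
    intro s
    rw [Polynomial.eval_comp, Polynomial.eval_mul, Polynomial.eval_C, Polynomial.eval_X,
      Polynomial.eval_mul, Polynomial.eval_C, h]
  have h2 := congrArg (fun r => Polynomial.coeff r k) h1
  simp only [Polynomial.coeff_C_mul] at h2
  rw [Polynomial.comp_C_mul_X_coeff] at h2
  have h4 : (t ^ k - q.eval t) * q.coeff k = 0 := by rw [sub_mul, ← h2]; ring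
  rcases mul_eq_zero.mp h4 with h5 | h5
  · exact (sub_eq_zero.mp h5).symm
  · exact absurd h5 hk

/-- Let F be an algebraically closed field of characteristic zero, n a natural number, and N a nonzero
polynomial over F in the n² matrix entries whose evaluation on n × n matrices is multiplicative,
N(xy) = N(x)·N(y) for all x, y (a norm form on the matrix algebra M_n(F) over F). Then N is a
natural power of the determinant: for some m, N(x) = det(x)^m for every matrix x. The published
statement concerns norm forms of any central simple algebra over a subfield; this row is the case of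
the full matrix algebra over an algebraically closed field, which is the case its proof treats. -/
theorem result (F : Type u) [Field F] [IsAlgClosed F]
    [CharZero F] (n : ℕ) (N : MvPolynomial (Fin n × Fin n) F) (hN : N ≠ 0)
    (hmul : ∀ x y : Matrix (Fin n) (Fin n) F,
      MvPolynomial.eval (fun ij : Fin n × Fin n => (x * y) ij.1 ij.2) N =
        MvPolynomial.eval (fun ij : Fin n × Fin n => x ij.1 ij.2) N * MvPolynomial.eval (fun ij : Fin n × Fin n => y ij.1 ij.2) N) :
    ∃ m : ℕ, ∀ x : Matrix (Fin n) (Fin n) F,
      MvPolynomial.eval (fun ij : Fin n × Fin n => x ij.1 ij.2) N = x.det ^ m := by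
  classical
  have : Infinite F := inferInstance
  set f : Matrix (Fin n) (Fin n) F → F := Nf N with hf
  have hmul' : ∀ x y, f (x * y) = f x * f y := hmul
  -- `f 1 = 1`
  have h1 : f 1 = 1 := by
    have h11 : f 1 * f 1 = f 1 := by rw [← hmul', mul_one]
    by_contra hne
    have h0 : f 1 = 0 := by
      have : f 1 * (f 1 - 1) = 0 := by rw [mul_sub, h11, mul_one, sub_self]
      rcases mul_eq_zero.mp this with h | h
      · exact h
      · exact absurd (sub_eq_zero.mp h) hne
    apply hN
    apply MvPolynomial.funext
    intro v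
    have h2 : f (Matrix.of fun i j => v (i, j)) = 0 := by
      rw [← mul_one (Matrix.of fun i j => v (i, j)), hmul', h0, mul_zero]
    simpa [f, Nf] using h2
  -- transvections
  have htr : ∀ (i j : Fin n), i ≠ j → ∀ c : F, f (transvection i j c) = 1 := by
    intro i j hij c
    set p : F[X] := NP N (transvection i j (X : F[X])) with hp
    have hpe : ∀ t : F, p.eval t = f (transvection i j t) := by
      intro t
      rw [hp, eval_NP]
      congr 1
      ext a b
      simp only [transvection, Matrix.map_apply, Matrix.add_apply, Matrix.single_apply,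
        Matrix.one_apply, Polynomial.eval_add]
      split_ifs <;> simp
    have hp0 : p ≠ 0 := by
      intro h0
      have h2 := hpe 0
      rw [h0, Polynomial.eval_zero, transvection_zero, h1] at h2
      exact zero_ne_one h2
    rw [← hpe]
    apply eval_eq_one_of_add p hp0
    intro s t
    rw [hpe, hpe, hpe, ← hmul', transvection_mul_transvection_same _ _ hij]
  -- diagonal matrices with one non-trivial entry
  have hdiag1 : ∀ i : Fin n, ∃ k : ℕ, ∀ t : F, f (diagonal (Pi.mulSingle i t)) = t ^ k := by
    intro i
    set q : F[X] := NP N (diagonal (Pi.mulSingle i (X : F[X]))) with hq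
    have hqe : ∀ t : F, q.eval t = f (diagonal (Pi.mulSingle i t)) := by
      intro t
      rw [hq, eval_NP]
      congr 1
      rw [Matrix.diagonal_map (Polynomial.eval_zero)]
      congr 1
      ext k
      by_cases hk : k = i
      · subst hk; simp
      · simp [hk]
    have hq0 : q ≠ 0 := by
      intro h0
      have h2 := hqe 1
      rw [h0, Polynomial.eval_zero, Pi.mulSingle_one, show (diagonal (1 : Fin n → F)) = 1 from Matrix.diagonal_one, h1] at h2
      exact zero_ne_one h2
    obtain ⟨k, hk⟩ := eval_eq_pow_of_mul q hq0 (by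
      intro s t
      rw [hqe, hqe, hqe, ← hmul', Matrix.diagonal_mul_diagonal]
      congr 2
      ext k
      by_cases hk : k = i
      · subst hk; simp
      · simp [hk])
    exact ⟨k, fun t => by rw [← hqe, hk]⟩
  -- conjugation by permutation matrices
  have hperm : ∀ (σ : Equiv.Perm (Fin n)) (A : Matrix (Fin n) (Fin n) F),
      f (A.submatrix σ σ) = f A := by
    intro σ A
    have key : ∀ B : Matrix (Fin n) (Fin n) F,
        σ.toPEquiv.toMatrix * B * σ.symm.toPEquiv.toMatrix = B.submatrix σ σ := by
      intro B
      rw [PEquiv.toMatrix_toPEquiv_mul, PEquiv.mul_toMatrix_toPEquiv]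
      ext a b
      simp
    have hPP : f (σ.toPEquiv.toMatrix) * f (σ.symm.toPEquiv.toMatrix) = 1 := by
      rw [← hmul', ← mul_one (σ.toPEquiv.toMatrix : Matrix (Fin n) (Fin n) F), key 1]
      simp [h1]
    rw [← key A, hmul', hmul', mul_right_comm, hPP, one_mul]
  -- uniform exponent
  obtain ⟨m, hm⟩ : ∃ m : ℕ, ∀ (i : Fin n) (t : F), f (diagonal (Pi.mulSingle i t)) = t ^ m := by
    rcases Nat.eq_zero_or_pos n with hn | hn
    · subst hn
      exact ⟨0, fun i => i.elim0⟩
    · obtain ⟨m, hm⟩ := hdiag1 ⟨0, hn⟩
      refine ⟨m, fun i t => ?_⟩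
      rw [← hm t, ← hperm (Equiv.swap i ⟨0, hn⟩) (diagonal (Pi.mulSingle ⟨0, hn⟩ t)),
        Matrix.submatrix_diagonal_equiv]
      congr 2
      ext k
      by_cases hk : k = i
      · subst hk; simp
      · have : Equiv.swap i ⟨0, hn⟩ k ≠ ⟨0, hn⟩ := by
          intro h
          apply hk
          have := congrArg (Equiv.swap i ⟨0, hn⟩) h
          simpa using this
        simp [Pi.mulSingle_apply, hk, this]
  -- all diagonal matrices
  have hdiag : ∀ d : Fin n → F, f (diagonal d) = (diagonal d).det ^ m := by
    intro d
    let ψ : (Fin n → F) →* F :=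
      { toFun := fun d => f (diagonal d)
        map_one' := by rw [show (diagonal (1 : Fin n → F)) = 1 from Matrix.diagonal_one, h1]
        map_mul' := fun a b => by
          rw [← hmul', Matrix.diagonal_mul_diagonal]; rfl }
    have h2 : ψ d = ∏ i, ψ (Pi.mulSingle i (d i)) := by
      rw [← map_prod, Finset.univ_prod_mulSingle]
    change ψ d = _
    rw [h2, Matrix.det_diagonal, ← Finset.prod_pow]
    exact Finset.prod_congr rfl fun i _ => hm i (d i)
  refine ⟨m, fun x => ?_⟩
  change f x = x.det ^ m
  refine Matrix.diagonal_transvection_induction (fun M => f M = M.det ^ m) x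
    (fun D _ => hdiag D) ?_ ?_
  · intro t
    rw [TransvectionStruct.det, one_pow]
    exact htr t.i t.j t.hij t.c
  · intro A B hA hB
    change f (A * B) = (A * B).det ^ m
    rw [hmul', hA, hB, Matrix.det_mul, mul_pow]

end Groth.Agent.S18544
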