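import Groth.Statements.S18545
import Mathlib
-- import your own Groth.Agent.* helpers here

set_option autoImplicit false
universe u
open AbVar

namespace Groth.Agent.S18545


section helpers
variable {K : Type u} [Field K] {V : Type u} [AddCommGroup V] [Module K V]

lemma stable_sup_span (F : Subalgebra K (Module.End K V)) (W : Submodule K V)
    (hWF : ∀ f ∈ F, ∀ w ∈ W, f w ∈ W) (u : V) (hu : ∀ f ∈ F, ∃ a : K, f u = a • u) :
    ∀ f ∈ F, ∀ w ∈ W ⊔ K ∙ u, f w ∈ W ⊔ K ∙ u := by
  intro f hf w hw
  obtain ⟨w', hw', z, hz, rfl⟩ := Submodule.mem_sup.mp hw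
  obtain ⟨b, rfl⟩ := Submodule.mem_span_singleton.mp hz
  obtain ⟨a, ha⟩ := hu f hf
  rw [map_add, map_smul, ha]
  exact Submodule.add_mem_sup (hWF f hf w' hw')
    (Submodule.smul_mem _ _ (Submodule.smul_mem _ _ (Submodule.mem_span_singleton_self u)))

lemma isotropic_sup_span (e : LinearMap.BilinForm K V) (he : e.IsAlt) (W : Submodule K V)
    (hWiso : ∀ x ∈ W, ∀ y ∈ W, e x y = 0) (u : V) (hu : ∀ w ∈ W, e w u = 0) :
    ∀ x ∈ W ⊔ K ∙ u, ∀ y ∈ W ⊔ K ∙ u, e x y = 0 := by
  intro x hx y hy
  obtain ⟨w, hw, z, hz, rfl⟩ := Submodule.mem_sup.mp hx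
  obtain ⟨a, rfl⟩ := Submodule.mem_span_singleton.mp hz
  obtain ⟨w', hw', z', hz', rfl⟩ := Submodule.mem_sup.mp hy
  obtain ⟨b, rfl⟩ := Submodule.mem_span_singleton.mp hz'
  have h1 : e u w' = 0 := by rw [← LinearMap.IsAlt.neg he w' u, hu w' hw', neg_zero]
  simp [hWiso w hw w' hw', hu w hw, h1, he.self_eq_zero]

lemma finrank_sup_span [FiniteDimensional K V] (W : Submodule K V) (u : V) (hu : u ∉ W) :
    Module.finrank K ↥(W ⊔ K ∙ u) = Module.finrank K W + 1 := by
  have hu0 : u ≠ 0 := fun h => hu (h ▸ W.zero_mem)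
  have hdis : Disjoint W (K ∙ u) := (Submodule.disjoint_span_singleton' hu0).mpr hu
  have h := Submodule.finrank_sup_add_finrank_inf_eq W (K ∙ u)
  rw [hdis.eq_bot, finrank_bot, add_zero, finrank_span_singleton hu0] at h
  exact h

end helpers

/-- A step in the proof of Tate's isogeny result over finite fields, in linear-algebra form. Let K be a
field and V a K-vector space of finite dimension 2g carrying a nondegenerate alternating bilinear
form e. Let F be a K-subalgebra of End(V) which is isomorphic as a K-algebra to a finite product K ×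
⋯ × K and which is spanned over K by a set S of similitudes of e (for each s in S there is a nonzero
scalar c with e(s x, s y) = c·e(x, y) for all x, y). Let D be a set of endomorphisms of V such that
every F-stable isotropic subspace W of dimension g (a maximal isotropic subspace) is D-stable. Then
every F-stable isotropic subspace of V is D-stable. (In the application V is the rational ℓ-adic
Tate module of an abelian variety over a finite field with the Riemann form of a polarisation, F the
algebra generated by the Galois group, split for the chosen ℓ, and D the commutant of the image of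
the endomorphism algebra; the hypothesis on maximal isotropic subspaces is the step obtained from
the finiteness of isomorphism classes.) -/
theorem result (K : Type u) [Field K]
    (V : Type u) [AddCommGroup V] [Module K V] [FiniteDimensional K V] (g : ℕ) (hV : Module.finrank K V = 2 * g)
    (e : LinearMap.BilinForm K V) (he : e.IsAlt) (hnd : e.Nondegenerate)
    (F : Subalgebra K (Module.End K V)) (r : ℕ) (hF : Nonempty (F ≃ₐ[K] (Fin r → K)))
    (S : Set (Module.End K V)) (hS : Submodule.span K S = Subalgebra.toSubmodule F)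
    (hsim : ∀ s ∈ S, ∃ c : K, c ≠ 0 ∧ ∀ x y : V, e (s x) (s y) = c * e x y)
    (D : Set (Module.End K V))
    (hmax : ∀ W : Submodule K V, (∀ f ∈ F, ∀ w ∈ W, f w ∈ W) → (∀ x ∈ W, ∀ y ∈ W, e x y = 0) →
      Module.finrank K W = g → ∀ d ∈ D, ∀ w ∈ W, d w ∈ W)
    (W : Submodule K V) (hWF : ∀ f ∈ F, ∀ w ∈ W, f w ∈ W) (hWiso : ∀ x ∈ W, ∀ y ∈ W, e x y = 0) :
    ∀ d ∈ D, ∀ w ∈ W, d w ∈ W := by
  classical
  obtain ⟨φ⟩ := hF
  -- the primitive idempotents of `F`
  let ε : Fin r → Module.End K V := fun i => ((φ.symm (Pi.single i 1) : F) : Module.End K V)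
  have hεF : ∀ i, ε i ∈ F := fun i => (φ.symm (Pi.single i 1)).2
  have hsum : ∑ i, ε i = 1 := by
    have h1 : (∑ i, φ.symm (Pi.single i (1 : K)) : F) = 1 := by
      rw [← map_sum]
      have h0 : (∑ x : Fin r, Pi.single x (1 : K) : Fin r → K) = 1 :=
        Finset.univ_sum_single (1 : Fin r → K)
      rw [h0]
      exact map_one φ.symm
    have h2 := congrArg (Subalgebra.val F) h1
    simpa [ε] using h2
  have heig : ∀ (f : Module.End K V) (hf : f ∈ F) (i : Fin r) (x : V),
      f (ε i x) = (φ ⟨f, hf⟩ i) • ε i x := by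
    intro f hf i x
    have h1 : (⟨f, hf⟩ : F) * φ.symm (Pi.single i 1) =
        (φ ⟨f, hf⟩ i) • φ.symm (Pi.single i 1) := by
      apply φ.injective
      rw [map_mul, map_smul, AlgEquiv.apply_symm_apply]
      ext j
      by_cases h : j = i
      · subst h; simp
      · simp [h]
    have h2 := congrArg (fun z : F => (z : Module.End K V) x) h1
    simpa [ε] using h2
  -- the orthogonal of an `F`-stable subspace is `F`-stable
  have horth : ∀ W : Submodule K V, (∀ f ∈ F, ∀ w ∈ W, f w ∈ W) →
      ∀ f ∈ F, ∀ x ∈ e.orthogonal W, f x ∈ e.orthogonal W := by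
    intro W hW f hf
    have hfS : f ∈ Submodule.span K S := by rw [hS]; exact hf
    refine Submodule.span_induction
      (p := fun f _ => ∀ x ∈ e.orthogonal W, f x ∈ e.orthogonal W) ?_ ?_ ?_ ?_ hfS
    · intro s hs x hx
      obtain ⟨c, hc, hsc⟩ := hsim s hs
      have hsF : s ∈ F := by
        have h1 : s ∈ Submodule.span K S := Submodule.subset_span hs
        rw [hS] at h1; exact h1
      have hinj : Function.Injective s := by
        rw [injective_iff_map_eq_zero]
        intro v hv
        apply hnd.1
        intro y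
        have h1 := hsc v y
        rw [hv, map_zero, LinearMap.zero_apply] at h1
        exact (mul_eq_zero.mp h1.symm).resolve_left hc
      let sW : W →ₗ[K] W := s.restrict (hW s hsF)
      have hsWinj : Function.Injective sW := by
        intro a b hab
        apply Subtype.ext
        apply hinj
        exact congrArg Subtype.val hab
      have hsWsurj : Function.Surjective sW := LinearMap.surjective_of_injective hsWinj
      intro w hw
      obtain ⟨w', hw'⟩ := hsWsurj ⟨w, hw⟩
      have h2 : s w' = w := congrArg Subtype.val hw'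
      rw [← h2, hsc, hx w' w'.2, mul_zero]
    · intro x _; simp
    · intro f g _ _ hf hg x hx
      rw [LinearMap.add_apply]; exact Submodule.add_mem _ (hf x hx) (hg x hx)
    · intro a f _ hf x hx
      rw [LinearMap.smul_apply]; exact Submodule.smul_mem _ _ (hf x hx)
  -- main downward induction
  have main : ∀ (k : ℕ) (W : Submodule K V), (∀ f ∈ F, ∀ w ∈ W, f w ∈ W) →
      (∀ x ∈ W, ∀ y ∈ W, e x y = 0) → Module.finrank K W + k = g →
      ∀ d ∈ D, ∀ w ∈ W, d w ∈ W := by
    intro k
    induction k with
    | zero =>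
      intro W h1 h2 h3
      exact hmax W h1 h2 (by simpa using h3)
    | succ k ih =>
      intro W hWF hWiso hdim d hd w hw
      have hWle : W ≤ e.orthogonal W := fun x hx y hy => hWiso y hy x hx
      have hfr : Module.finrank K (e.orthogonal W) = Module.finrank K W + 2 * k + 2 := by
        rw [LinearMap.BilinForm.finrank_orthogonal hnd, hV]; omega
      have ext1 : ∀ W' : Submodule K V, W' ≤ e.orthogonal W →
          Module.finrank K W' < Module.finrank K (e.orthogonal W) →
          ∃ u ∈ e.orthogonal W, u ∉ W' ∧ ∀ f ∈ F, ∃ a : K, f u = a • u := by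
        intro W' hle hlt
        have hlt' : W' < e.orthogonal W := Submodule.lt_of_le_of_finrank_lt_finrank hle hlt
        obtain ⟨x, hx, hxW'⟩ := SetLike.exists_of_lt hlt'
        have hex : ∃ i, ε i x ∉ W' := by
          by_contra hcon
          push Not at hcon
          apply hxW'
          have h1 : x = ∑ i, ε i x := by
            rw [← LinearMap.sum_apply, hsum]; rfl
          rw [h1]
          exact Submodule.sum_mem _ fun i _ => hcon i
        obtain ⟨i, hi⟩ := hex
        exact ⟨ε i x, horth W hWF (ε i) (hεF i) x hx, hi, fun f hf => ⟨_, heig f hf i x⟩⟩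
      obtain ⟨u₁, hu₁o, hu₁W, hu₁e⟩ := ext1 W hWle (by omega)
      have hW₁le : W ⊔ K ∙ u₁ ≤ e.orthogonal W :=
        sup_le hWle ((Submodule.span_singleton_le_iff_mem _ _).mpr hu₁o)
      have hW₁fr := finrank_sup_span W u₁ hu₁W
      obtain ⟨u₂, hu₂o, hu₂W₁, hu₂e⟩ := ext1 (W ⊔ K ∙ u₁) hW₁le (by omega)
      have hu₂W : u₂ ∉ W := fun h => hu₂W₁ (le_sup_left (a := W) h)
      have hW₂fr := finrank_sup_span W u₂ hu₂W
      have h1 := ih (W ⊔ K ∙ u₁) (stable_sup_span F W hWF u₁ hu₁e)
        (isotropic_sup_span e he W hWiso u₁ hu₁o) (by omega) d hd w (le_sup_left (a := W) hw)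
      have h2 := ih (W ⊔ K ∙ u₂) (stable_sup_span F W hWF u₂ hu₂e)
        (isotropic_sup_span e he W hWiso u₂ hu₂o) (by omega) d hd w (le_sup_left (a := W) hw)
      obtain ⟨w₂, hw₂, z, hz, hsum2⟩ := Submodule.mem_sup.mp h2
      obtain ⟨b, rfl⟩ := Submodule.mem_span_singleton.mp hz
      by_cases hb : b = 0
      · rw [hb, zero_smul, add_zero] at hsum2
        rw [← hsum2]; exact hw₂
      · exfalso
        apply hu₂W₁
        have h3 : b • u₂ ∈ W ⊔ K ∙ u₁ := by
          have h4 : b • u₂ = d w - w₂ := by rw [← hsum2]; abel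
          rw [h4]
          exact Submodule.sub_mem _ h1 (le_sup_left (a := W) hw₂)
        have h5 := Submodule.smul_mem _ b⁻¹ h3
        rwa [smul_smul, inv_mul_cancel₀ hb, one_smul] at h5
  -- conclusion: `finrank W ≤ g`
  have hWle : W ≤ e.orthogonal W := fun x hx y hy => hWiso y hy x hx
  have hle : Module.finrank K W ≤ g := by
    have h1 := Submodule.finrank_mono hWle
    rw [LinearMap.BilinForm.finrank_orthogonal hnd, hV] at h1
    omega
  exact main (g - Module.finrank K W) W hWF hWiso (by omega)

end Groth.Agent.S18545
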