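import Groth.Statements.S18546
import Mathlib
-- import your own Groth.Agent.* helpers here

set_option autoImplicit false
open scoped TensorProduct
universe u v
open GalCoh

namespace Groth.Agent.S18546

/-- Let G be a group acting linearly on a vector space V of dimension 2 over the field 𝔽₂ with two
elements. Then the short exact sequence of G-modules 0 → V → S²V → Λ²V → 0 (v ↦ v·v, x·y ↦ x ∧ y)
splits G-equivariantly. Here, for a vector space V over the field with two elements carrying a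
linear action ρ of a group G, write N_a ⊆ V ⊗ V for the span of the tensors v ⊗ v and N_s ⊆ N_a for
the span of the tensors x ⊗ y + y ⊗ x, so that S²V = (V ⊗ V)/N_s, Λ²V = (V ⊗ V)/N_a and the
surjection S²V → Λ²V, x·y ↦ x ∧ y, is G-equivariant for the diagonal action; a G-equivariant linear
section of this surjection is the same thing as a G-stable subspace W of V ⊗ V with W ∩ N_a = N_s
and W + N_a = V ⊗ V, which is how the splitting is stated. (The source has the absolute Galois group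
of a field acting continuously; any group is allowed here.) -/
theorem result (G : Type u) [Group G] (V : Type v)
    [AddCommGroup V] [Module (ZMod 2) V] (hV : Module.finrank (ZMod 2) V = 2)
    (ρ : Representation (ZMod 2) G V) :
    ∃ W : Submodule (ZMod 2) (V ⊗[ZMod 2] V),
      (∀ g : G, ∀ w ∈ W, ρ.tprod ρ g w ∈ W) ∧
      W ⊓ Submodule.span (ZMod 2) (Set.range fun v : V => v ⊗ₜ[ZMod 2] v) =
        Submodule.span (ZMod 2) (Set.range fun p : V × V => p.1 ⊗ₜ[ZMod 2] p.2 + p.2 ⊗ₜ[ZMod 2] p.1) ∧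
      W ⊔ Submodule.span (ZMod 2) (Set.range fun v : V => v ⊗ₜ[ZMod 2] v) = ⊤ := by
  classical
  have hadd_self : ∀ (x : V ⊗[ZMod 2] V), x + x = 0 := by
    intro x
    have h2 : (2 : ZMod 2) = 0 := by decide
    rw [← two_smul (ZMod 2) x, h2, zero_smul]
  have hfin : Module.Finite (ZMod 2) V := Module.finite_of_finrank_eq_succ hV
  let b : Module.Basis (Fin 2) (ZMod 2) V := Module.finBasisOfFinrankEq (ZMod 2) V hV
  set e₁ : V := b 0 with he₁
  set e₂ : V := b 1 with he₂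
  let bb : Module.Basis (Fin 2 × Fin 2) (ZMod 2) (V ⊗[ZMod 2] V) := b.tensorProduct b
  have hbb : ∀ i j, bb (i, j) = b i ⊗ₜ[ZMod 2] b j := fun i j =>
    Module.Basis.tensorProduct_apply b b i j
  -- the four vectors
  have hcases : ∀ v : V, v = 0 ∨ v = e₁ ∨ v = e₂ ∨ v = e₁ + e₂ := by
    intro v
    have hv : v = b.repr v 0 • e₁ + b.repr v 1 • e₂ := by
      conv_lhs => rw [← b.sum_repr v, Fin.sum_univ_two]
    have h01 : ∀ a : ZMod 2, a = 0 ∨ a = 1 := by decide
    rcases h01 (b.repr v 0) with h0 | h0 <;> rcases h01 (b.repr v 1) with h1 | h1 <;>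
      rw [h0, h1] at hv <;> simp at hv <;> tauto
  let q : V → V → V ⊗[ZMod 2] V := fun x y => x ⊗ₜ[ZMod 2] x + y ⊗ₜ[ZMod 2] y + x ⊗ₜ[ZMod 2] y
  let sy : V → V → V ⊗[ZMod 2] V := fun x y => x ⊗ₜ[ZMod 2] y + y ⊗ₜ[ZMod 2] x
  have hq : ∀ x y, q x y = x ⊗ₜ[ZMod 2] x + y ⊗ₜ[ZMod 2] y + x ⊗ₜ[ZMod 2] y := fun _ _ => rfl
  have hsy : ∀ x y, sy x y = x ⊗ₜ[ZMod 2] y + y ⊗ₜ[ZMod 2] x := fun _ _ => rfl
  -- identities
  have idA : ∀ x y, q y x = q x y + sy x y := by
    intro x y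
    have : q x y + sy x y = q y x + (x ⊗ₜ[ZMod 2] y + x ⊗ₜ[ZMod 2] y) := by
      rw [hq, hq, hsy]; abel
    rw [this, hadd_self, add_zero]
  have idB : ∀ x y, q x (x + y) = q x y + sy x y := by
    intro x y
    have h1 : q x (x + y) = (x ⊗ₜ[ZMod 2] x + y ⊗ₜ[ZMod 2] y + y ⊗ₜ[ZMod 2] x) +
        (x ⊗ₜ[ZMod 2] x + x ⊗ₜ[ZMod 2] x) + (x ⊗ₜ[ZMod 2] y + x ⊗ₜ[ZMod 2] y) := by
      rw [hq]; simp only [TensorProduct.tmul_add, TensorProduct.add_tmul]; abel
    have h2 : q x y + sy x y = (x ⊗ₜ[ZMod 2] x + y ⊗ₜ[ZMod 2] y + y ⊗ₜ[ZMod 2] x) +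
        (x ⊗ₜ[ZMod 2] y + x ⊗ₜ[ZMod 2] y) := by
      rw [hq, hsy]; abel
    rw [h1, h2, hadd_self, hadd_self, add_zero]
  have idC : ∀ x y, sy y x = sy x y := by
    intro x y; rw [hsy, hsy, add_comm]
  have idD : ∀ x y, sy x (x + y) = sy x y := by
    intro x y
    have : sy x (x + y) = sy x y + (x ⊗ₜ[ZMod 2] x + x ⊗ₜ[ZMod 2] x) := by
      rw [hsy, hsy]; simp only [TensorProduct.tmul_add, TensorProduct.add_tmul]; abel
    rw [this, hadd_self, add_zero]
  set c : V ⊗[ZMod 2] V := q e₁ e₂ with hc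
  set s0 : V ⊗[ZMod 2] V := sy e₁ e₂ with hs0
  let W : Submodule (ZMod 2) (V ⊗[ZMod 2] V) := Submodule.span (ZMod 2) {c, s0}
  let Na : Submodule (ZMod 2) (V ⊗[ZMod 2] V) :=
    Submodule.span (ZMod 2) (Set.range fun v : V => v ⊗ₜ[ZMod 2] v)
  let Ns : Submodule (ZMod 2) (V ⊗[ZMod 2] V) :=
    Submodule.span (ZMod 2) (Set.range fun p : V × V => p.1 ⊗ₜ[ZMod 2] p.2 + p.2 ⊗ₜ[ZMod 2] p.1)
  have hcW : c ∈ W := Submodule.subset_span (by simp)
  have hsW : s0 ∈ W := Submodule.subset_span (by simp)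
  have e12 : e₁ ≠ e₂ := by
    intro h
    have := b.injective h
    exact absurd this (by decide)
  -- key
  have key : ∀ x y : V, x ≠ 0 → y ≠ 0 → x ≠ y → q x y ∈ W := by
    intro x y hx hy hxy
    have q12 : q e₁ e₂ ∈ W := hcW
    have q21 : q e₂ e₁ ∈ W := by rw [idA e₁ e₂]; exact W.add_mem hcW hsW
    have q13 : q e₁ (e₁ + e₂) ∈ W := by rw [idB]; exact W.add_mem hcW hsW
    have s13 : sy e₁ (e₁ + e₂) ∈ W := by rw [idD]; exact hsW
    have q31 : q (e₁ + e₂) e₁ ∈ W := by rw [idA e₁ (e₁ + e₂)]; exact W.add_mem q13 s13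
    have s21 : sy e₂ e₁ ∈ W := by rw [idC]; exact hsW
    have q23 : q e₂ (e₁ + e₂) ∈ W := by
      rw [add_comm e₁ e₂, idB]; exact W.add_mem q21 s21
    have s23 : sy e₂ (e₁ + e₂) ∈ W := by rw [add_comm e₁ e₂, idD]; exact s21
    have q32 : q (e₁ + e₂) e₂ ∈ W := by rw [idA e₂ (e₁ + e₂)]; exact W.add_mem q23 s23
    rcases hcases x with rfl | rfl | rfl | rfl <;> rcases hcases y with rfl | rfl | rfl | rfl <;>
      first
      | exact absurd rfl hx
      | exact absurd rfl hy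
      | exact absurd rfl hxy
      | assumption
  -- Ns ≤ W
  have hNsW : Ns ≤ W := by
    rw [Submodule.span_le]
    rintro _ ⟨⟨x, y⟩, rfl⟩
    let T : V ⊗[ZMod 2] V →ₗ[ZMod 2] V ⊗[ZMod 2] V :=
      LinearMap.id + (TensorProduct.comm (ZMod 2) V V).toLinearMap
    have hT : ∀ t, T t ∈ W := by
      intro t
      have ht : t ∈ Submodule.span (ZMod 2) (Set.range bb) := by
        rw [bb.span_eq]; exact Submodule.mem_top
      have hmap : Submodule.map T (Submodule.span (ZMod 2) (Set.range bb)) ≤ W := by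
        rw [Submodule.map_span_le]
        rintro _ ⟨⟨i, j⟩, rfl⟩
        rw [hbb]
        change b i ⊗ₜ[ZMod 2] b j + b j ⊗ₜ[ZMod 2] b i ∈ W
        fin_cases i <;> fin_cases j
        · rw [hadd_self]; exact W.zero_mem
        · exact hsW
        · have : sy e₂ e₁ ∈ W := by rw [idC]; exact hsW
          exact this
        · rw [hadd_self]; exact W.zero_mem
      exact hmap ⟨t, ht, rfl⟩
    exact hT (x ⊗ₜ[ZMod 2] y)
  -- Ns ≤ Na
  have hNsNa : Ns ≤ Na := by
    rw [Submodule.span_le]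
    rintro _ ⟨⟨x, y⟩, rfl⟩
    have h1 : x ⊗ₜ[ZMod 2] y + y ⊗ₜ[ZMod 2] x =
        (x + y) ⊗ₜ[ZMod 2] (x + y) - x ⊗ₜ[ZMod 2] x - y ⊗ₜ[ZMod 2] y := by
      rw [TensorProduct.add_tmul, TensorProduct.tmul_add, TensorProduct.tmul_add]; abel
    change x ⊗ₜ[ZMod 2] y + y ⊗ₜ[ZMod 2] x ∈ Na
    rw [h1]
    exact Na.sub_mem (Na.sub_mem (Submodule.subset_span ⟨x + y, rfl⟩)
      (Submodule.subset_span ⟨x, rfl⟩)) (Submodule.subset_span ⟨y, rfl⟩)
  -- the alternating functional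
  let φ : V ⊗[ZMod 2] V →ₗ[ZMod 2] ZMod 2 := bb.coord (0, 1) + bb.coord (1, 0)
  have hφtmul : ∀ x y : V, φ (x ⊗ₜ[ZMod 2] y) =
      b.repr x 0 * b.repr y 1 + b.repr x 1 * b.repr y 0 := by
    intro x y
    simp only [φ, LinearMap.add_apply, Module.Basis.coord_apply, bb,
      Module.Basis.tensorProduct_repr_tmul_apply, smul_eq_mul]
    ring
  have hφNa : ∀ t ∈ Na, φ t = 0 := by
    intro t ht
    have : Na ≤ LinearMap.ker φ := by
      rw [Submodule.span_le]
      rintro _ ⟨v, rfl⟩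
      rw [SetLike.mem_coe, LinearMap.mem_ker, hφtmul]
      have h2 : ∀ a : ZMod 2, a + a = 0 := by decide
      rw [mul_comm (b.repr v 1)]
      exact h2 _
    exact this ht
  have hφc : φ c = 1 := by
    rw [hc, hq, map_add, map_add, hφtmul, hφtmul, hφtmul]
    simp [e₁, e₂, Module.Basis.repr_self]
  refine ⟨W, ?_, ?_, ?_⟩
  · -- stability
    intro g w hw
    have hmap : Submodule.map (ρ.tprod ρ g) W ≤ W := by
      rw [Submodule.map_span_le]
      intro t ht
      have hinj : Function.Injective (ρ g) := by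
        intro x y hxy
        have h7 : ∀ x, ρ g⁻¹ (ρ g x) = x := by
          intro x
          rw [← Module.End.mul_apply, ← map_mul, inv_mul_cancel, map_one, Module.End.one_apply]
        have := congrArg (ρ g⁻¹) hxy
        rwa [h7, h7] at this
      rcases ht with rfl | rfl
      · -- g c
        have : ρ.tprod ρ g c = q (ρ g e₁) (ρ g e₂) := by
          rw [hc, hq, hq, map_add, map_add, Representation.tprod_apply]
          simp only [TensorProduct.map_tmul]
        rw [this]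
        apply key
        · intro h; exact b.ne_zero 0 (hinj (by rw [h, map_zero]))
        · intro h; exact b.ne_zero 1 (hinj (by rw [h, map_zero]))
        · intro h; exact e12 (hinj h)
      · have : ρ.tprod ρ g s0 = sy (ρ g e₁) (ρ g e₂) := by
          rw [hs0, hsy, hsy, map_add, Representation.tprod_apply]
          simp only [TensorProduct.map_tmul]
        rw [this]
        exact hNsW (Submodule.subset_span ⟨(ρ g e₁, ρ g e₂), rfl⟩)
    exact hmap ⟨w, hw, rfl⟩
  · apply le_antisymm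
    · rintro w ⟨hwW, hwNa⟩
      obtain ⟨α, β, rfl⟩ := Submodule.mem_span_pair.1 hwW
      have h0 := hφNa _ hwNa
      have hs0Na : s0 ∈ Na := hNsNa (Submodule.subset_span ⟨(e₁, e₂), rfl⟩)
      rw [map_add, map_smul, map_smul, hφc, hφNa _ hs0Na, smul_zero, add_zero, smul_eq_mul,
        mul_one] at h0
      rw [h0, zero_smul, zero_add]
      exact Submodule.smul_mem _ _ (Submodule.subset_span ⟨(e₁, e₂), rfl⟩)
    · exact le_inf hNsW hNsNa
  · rw [eq_top_iff, ← bb.span_eq, Submodule.span_le]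
    rintro _ ⟨⟨i, j⟩, rfl⟩
    rw [hbb]
    have h11 : e₁ ⊗ₜ[ZMod 2] e₁ ∈ W ⊔ Na := Submodule.mem_sup_right (Submodule.subset_span ⟨e₁, rfl⟩)
    have h22 : e₂ ⊗ₜ[ZMod 2] e₂ ∈ W ⊔ Na := Submodule.mem_sup_right (Submodule.subset_span ⟨e₂, rfl⟩)
    have h12 : e₁ ⊗ₜ[ZMod 2] e₂ ∈ W ⊔ Na := by
      have : e₁ ⊗ₜ[ZMod 2] e₂ = c - e₁ ⊗ₜ[ZMod 2] e₁ - e₂ ⊗ₜ[ZMod 2] e₂ := by
        rw [hc, hq]; abel
      rw [this]
      exact Submodule.sub_mem _ (Submodule.sub_mem _ (Submodule.mem_sup_left hcW) h11) h22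
    have h21 : e₂ ⊗ₜ[ZMod 2] e₁ ∈ W ⊔ Na := by
      have : e₂ ⊗ₜ[ZMod 2] e₁ = s0 - e₁ ⊗ₜ[ZMod 2] e₂ := by
        rw [hs0, hsy]; abel
      rw [this]
      exact Submodule.sub_mem _ (Submodule.mem_sup_left hsW) h12
    fin_cases i <;> fin_cases j
    · exact h11
    · exact h12
    · exact h21
    · exact h22

end Groth.Agent.S18546
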