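import Groth.Statements.S18547
import Mathlib
-- import your own Groth.Agent.* helpers here

set_option autoImplicit false
open scoped TensorProduct
universe u v
open GalCoh

namespace Groth.Agent.S18547

variable {V : Type v} [AddCommGroup V] [Module (ZMod 2) V]

abbrev Na (V : Type v) [AddCommGroup V] [Module (ZMod 2) V] : Submodule (ZMod 2) (V ⊗[ZMod 2] V) :=
  Submodule.span (ZMod 2) (Set.range fun v : V => v ⊗ₜ[ZMod 2] v)

abbrev Ns (V : Type v) [AddCommGroup V] [Module (ZMod 2) V] : Submodule (ZMod 2) (V ⊗[ZMod 2] V) :=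
  Submodule.span (ZMod 2) (Set.range fun p : V × V => p.1 ⊗ₜ[ZMod 2] p.2 + p.2 ⊗ₜ[ZMod 2] p.1)

theorem add_self_tensor (x : V ⊗[ZMod 2] V) : x + x = 0 := by
  have h2 : (2 : ZMod 2) = 0 := by decide
  rw [← two_smul (ZMod 2) x, h2, zero_smul]

theorem diag_mem (x : V) : x ⊗ₜ[ZMod 2] x ∈ Na V := Submodule.subset_span ⟨x, rfl⟩

theorem sym_mem_Ns (x y : V) : x ⊗ₜ[ZMod 2] y + y ⊗ₜ[ZMod 2] x ∈ Ns V :=
  Submodule.subset_span ⟨(x, y), rfl⟩

theorem Ns_le_Na : Ns V ≤ Na V := by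
  rw [Submodule.span_le]
  rintro _ ⟨⟨x, y⟩, rfl⟩
  have h1 : x ⊗ₜ[ZMod 2] y + y ⊗ₜ[ZMod 2] x =
      (x + y) ⊗ₜ[ZMod 2] (x + y) - x ⊗ₜ[ZMod 2] x - y ⊗ₜ[ZMod 2] y := by
    rw [TensorProduct.add_tmul, TensorProduct.tmul_add, TensorProduct.tmul_add]; abel
  change x ⊗ₜ[ZMod 2] y + y ⊗ₜ[ZMod 2] x ∈ Na V
  rw [h1]
  exact (Na V).sub_mem ((Na V).sub_mem (diag_mem _) (diag_mem _)) (diag_mem _)

theorem swap_mem (x y : V) : x ⊗ₜ[ZMod 2] y - y ⊗ₜ[ZMod 2] x ∈ Na V := by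
  have : x ⊗ₜ[ZMod 2] y - y ⊗ₜ[ZMod 2] x =
      (x ⊗ₜ[ZMod 2] y + y ⊗ₜ[ZMod 2] x) - (y ⊗ₜ[ZMod 2] x + y ⊗ₜ[ZMod 2] x) := by abel
  rw [this, add_self_tensor, sub_zero]
  exact Ns_le_Na (sym_mem_Ns x y)

noncomputable def alt (B : Module.Basis (Fin 3) (ZMod 2) V) (i j : Fin 3) :
    V ⊗[ZMod 2] V →ₗ[ZMod 2] ZMod 2 :=
  (B.tensorProduct B).coord (i, j) + (B.tensorProduct B).coord (j, i)

theorem alt_tmul (B : Module.Basis (Fin 3) (ZMod 2) V) (i j : Fin 3) (x y : V) :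
    alt B i j (x ⊗ₜ[ZMod 2] y) = B.repr x i * B.repr y j + B.repr x j * B.repr y i := by
  simp only [alt, LinearMap.add_apply, Module.Basis.coord_apply,
    Module.Basis.tensorProduct_repr_tmul_apply, smul_eq_mul]
  ring

theorem alt_Na (B : Module.Basis (Fin 3) (ZMod 2) V) (i j : Fin 3) {t : V ⊗[ZMod 2] V}
    (ht : t ∈ Na V) : alt B i j t = 0 := by
  have : Na V ≤ LinearMap.ker (alt B i j) := by
    rw [Submodule.span_le]
    rintro _ ⟨v, rfl⟩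
    rw [SetLike.mem_coe, LinearMap.mem_ker, alt_tmul]
    have h2 : ∀ a : ZMod 2, a + a = 0 := by decide
    rw [mul_comm (B.repr v j)]
    exact h2 _
  exact this ht

theorem red_mem (B : Module.Basis (Fin 3) (ZMod 2) V) (u : V ⊗[ZMod 2] V) :
    u - (alt B 0 1 u • (B 0 ⊗ₜ[ZMod 2] B 1) + alt B 0 2 u • (B 0 ⊗ₜ[ZMod 2] B 2) +
      alt B 1 2 u • (B 1 ⊗ₜ[ZMod 2] B 2)) ∈ Na V := by
  let L : V ⊗[ZMod 2] V →ₗ[ZMod 2] V ⊗[ZMod 2] V :=
    LinearMap.id - ((alt B 0 1).smulRight (B 0 ⊗ₜ[ZMod 2] B 1) +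
      (alt B 0 2).smulRight (B 0 ⊗ₜ[ZMod 2] B 2) + (alt B 1 2).smulRight (B 1 ⊗ₜ[ZMod 2] B 2))
  have hL : ∀ u, L u = u - (alt B 0 1 u • (B 0 ⊗ₜ[ZMod 2] B 1) + alt B 0 2 u • (B 0 ⊗ₜ[ZMod 2] B 2) +
      alt B 1 2 u • (B 1 ⊗ₜ[ZMod 2] B 2)) := by
    intro u; simp [L]
  rw [← hL]
  have hu : u ∈ Submodule.span (ZMod 2) (Set.range (B.tensorProduct B)) := by
    rw [(B.tensorProduct B).span_eq]; exact Submodule.mem_top
  have hmap : Submodule.map L (Submodule.span (ZMod 2) (Set.range (B.tensorProduct B))) ≤ Na V := by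
    rw [Submodule.map_span_le]
    rintro _ ⟨⟨i, j⟩, rfl⟩
    rw [Module.Basis.tensorProduct_apply, hL, alt_tmul, alt_tmul, alt_tmul]
    fin_cases i <;> fin_cases j <;>
      simp [Module.Basis.repr_self] <;>
      first
      | exact diag_mem _
      | exact swap_mem _ _
  exact hmap ⟨u, hu, rfl⟩

theorem mem_Na_of_alt (B : Module.Basis (Fin 3) (ZMod 2) V) (u : V ⊗[ZMod 2] V)
    (h01 : alt B 0 1 u = 0) (h02 : alt B 0 2 u = 0) (h12 : alt B 1 2 u = 0) : u ∈ Na V := by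
  have := red_mem B u
  rw [h01, h02, h12] at this
  simpa using this

theorem Na_stable {G : Type u} [Group G] (ρ : Representation (ZMod 2) G V) (g : G)
    {u : V ⊗[ZMod 2] V} (hu : u ∈ Na V) : ρ.tprod ρ g u ∈ Na V := by
  have hmap : Submodule.map (ρ.tprod ρ g) (Na V) ≤ Na V := by
    rw [Submodule.map_span_le]
    rintro _ ⟨v, rfl⟩
    rw [Representation.tprod_apply, TensorProduct.map_tmul]
    exact diag_mem _
  exact hmap ⟨u, hu, rfl⟩

theorem main_with_basis {G : Type u} [Group G] (ρ : Representation (ZMod 2) G V)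
    (B : Module.Basis (Fin 3) (ZMod 2) V) (t : V ⊗[ZMod 2] V)
    (hxy : t - B 1 ⊗ₜ[ZMod 2] B 2 ∈ Na V)
    (ht : ∀ g : G, ρ.tprod ρ g t - t ∈ Na V) :
    ∃ t' : V ⊗[ZMod 2] V, t' - t ∈ Na V ∧ ∀ g : G, ρ.tprod ρ g t' - t' ∈ Ns V := by
  refine ⟨B 1 ⊗ₜ[ZMod 2] B 1 + B 2 ⊗ₜ[ZMod 2] B 2 + B 1 ⊗ₜ[ZMod 2] B 2, ?_, ?_⟩
  · have : B 1 ⊗ₜ[ZMod 2] B 1 + B 2 ⊗ₜ[ZMod 2] B 2 + B 1 ⊗ₜ[ZMod 2] B 2 - t =
        B 1 ⊗ₜ[ZMod 2] B 1 + B 2 ⊗ₜ[ZMod 2] B 2 - (t - B 1 ⊗ₜ[ZMod 2] B 2) := by abel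
    rw [this]
    exact (Na V).sub_mem ((Na V).add_mem (diag_mem _) (diag_mem _)) hxy
  · intro g
    have hg : ρ.tprod ρ g (B 1 ⊗ₜ[ZMod 2] B 2) = ρ g (B 1) ⊗ₜ[ZMod 2] ρ g (B 2) := by
      rw [Representation.tprod_apply, TensorProduct.map_tmul]
    have h1 : ρ g (B 1) ⊗ₜ[ZMod 2] ρ g (B 2) - B 1 ⊗ₜ[ZMod 2] B 2 ∈ Na V := by
      have : ρ g (B 1) ⊗ₜ[ZMod 2] ρ g (B 2) - B 1 ⊗ₜ[ZMod 2] B 2 =
          (ρ.tprod ρ g t - t) + (t - B 1 ⊗ₜ[ZMod 2] B 2) -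
            ρ.tprod ρ g (t - B 1 ⊗ₜ[ZMod 2] B 2) := by
        rw [map_sub, hg]; abel
      rw [this]
      exact (Na V).sub_mem ((Na V).add_mem (ht g) hxy) (Na_stable ρ g hxy)
    have e12 := alt_Na B 1 2 h1
    have e01 := alt_Na B 0 1 h1
    have e02 := alt_Na B 0 2 h1
    rw [map_sub, alt_tmul, alt_tmul] at e12 e01 e02
    simp only [Module.Basis.repr_self] at e12 e01 e02
    simp at e12 e01 e02
    have hsx := (B.sum_repr (ρ g (B 1))).symm
    have hsy := (B.sum_repr (ρ g (B 2))).symm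
    rw [Fin.sum_univ_three] at hsx hsy
    generalize (B.repr ((ρ g) (B 1))) 0 = a0 at e12 e01 e02 hsx
    generalize (B.repr ((ρ g) (B 1))) 1 = a1 at e12 e01 e02 hsx
    generalize (B.repr ((ρ g) (B 1))) 2 = a2 at e12 e01 e02 hsx
    generalize (B.repr ((ρ g) (B 2))) 0 = b0 at e12 e01 e02 hsy
    generalize (B.repr ((ρ g) (B 2))) 1 = b1 at e12 e01 e02 hsy
    generalize (B.repr ((ρ g) (B 2))) 2 = b2 at e12 e01 e02 hsy
    have hdec : ∀ a0 a1 a2 b0 b1 b2 : ZMod 2, a1 * b2 + a2 * b1 - 1 = 0 → a0 * b1 + a1 * b0 = 0 →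
        a0 * b2 + a2 * b0 = 0 → a0 = 0 ∧ b0 = 0 := by decide
    obtain ⟨rfl, rfl⟩ := hdec _ _ _ _ _ _ e12 e01 e02
    rw [zero_smul, zero_add] at hsx hsy
    have hdec2 : ∀ a1 a2 b1 b2 : ZMod 2, a1 * b2 + a2 * b1 - 1 = 0 →
        (a1 * a1 + b1 * b1 + a1 * b1 - 1 = 0 ∧ a2 * a2 + b2 * b2 + a2 * b2 - 1 = 0 ∧
          a1 * a2 + b1 * b2 + a1 * b2 - 1 = a1 * a2 + b1 * b2 + a2 * b1) := by decide
    obtain ⟨hA, hB, hC⟩ := hdec2 _ _ _ _ e12
    have hexp : ρ.tprod ρ g (B 1 ⊗ₜ[ZMod 2] B 1 + B 2 ⊗ₜ[ZMod 2] B 2 + B 1 ⊗ₜ[ZMod 2] B 2) -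
        (B 1 ⊗ₜ[ZMod 2] B 1 + B 2 ⊗ₜ[ZMod 2] B 2 + B 1 ⊗ₜ[ZMod 2] B 2) =
        (a1 * a1 + b1 * b1 + a1 * b1 - 1) • (B 1 ⊗ₜ[ZMod 2] B 1) +
        (a2 * a2 + b2 * b2 + a2 * b2 - 1) • (B 2 ⊗ₜ[ZMod 2] B 2) +
        (a1 * a2 + b1 * b2 + a1 * b2 - 1) • (B 1 ⊗ₜ[ZMod 2] B 2) +
        (a1 * a2 + b1 * b2 + a2 * b1) • (B 2 ⊗ₜ[ZMod 2] B 1) := by
      rw [map_add, map_add, Representation.tprod_apply]
      simp only [TensorProduct.map_tmul]
      rw [hsx, hsy]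
      simp only [TensorProduct.add_tmul, TensorProduct.tmul_add, ← TensorProduct.smul_tmul',
        TensorProduct.tmul_smul, smul_smul, smul_add]
      module
    rw [hexp, hA, hB, hC, zero_smul, zero_smul, zero_add, zero_add, ← smul_add]
    exact (Ns V).smul_mem _ (sym_mem_Ns _ _)


theorem final {G : Type u} [Group G]
    (hV : Module.finrank (ZMod 2) V = 3)
    (ρ : Representation (ZMod 2) G V) (t : V ⊗[ZMod 2] V)
    (ht : ∀ g : G, ρ.tprod ρ g t - t ∈ Na V) :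
    ∃ t' : V ⊗[ZMod 2] V, t' - t ∈ Na V ∧ ∀ g : G, ρ.tprod ρ g t' - t' ∈ Ns V := by
  have hfin : Module.Finite (ZMod 2) V := Module.finite_of_finrank_eq_succ hV
  let b : Module.Basis (Fin 3) (ZMod 2) V := Module.finBasisOfFinrankEq (ZMod 2) V hV
  have h01 : ∀ a : ZMod 2, a = 0 ∨ a = 1 := by decide
  by_cases hNa : t ∈ Na V
  · refine ⟨0, ?_, ?_⟩
    · rw [zero_sub]; exact (Na V).neg_mem hNa
    · intro g; simp
  obtain ⟨x, y, hxy⟩ : ∃ x y : V, t - x ⊗ₜ[ZMod 2] y ∈ Na V := by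
    rcases h01 (alt b 0 1 t) with hα | hα
    · refine ⟨alt b 0 2 t • b 0 + alt b 1 2 t • b 1, b 2, ?_⟩
      apply mem_Na_of_alt b
      · rw [map_sub, alt_tmul, hα]; simp [Module.Basis.repr_self]
      · rw [map_sub, alt_tmul]; simp [Module.Basis.repr_self]
      · rw [map_sub, alt_tmul]; simp [Module.Basis.repr_self]
    · refine ⟨b 0 + alt b 1 2 t • b 2, b 1 + alt b 0 2 t • b 2, ?_⟩
      apply mem_Na_of_alt b
      · rw [map_sub, alt_tmul, hα]; simp [Module.Basis.repr_self]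
      · rw [map_sub, alt_tmul]; simp [Module.Basis.repr_self]
      · rw [map_sub, alt_tmul]; simp [Module.Basis.repr_self]
  have hxyNa : x ⊗ₜ[ZMod 2] y ∉ Na V := fun h => hNa (by
    have := (Na V).add_mem hxy h
    simpa using this)
  have hx0 : x ≠ 0 := by
    rintro rfl; exact hxyNa (by rw [TensorProduct.zero_tmul]; exact zero_mem _)
  have hy0 : y ≠ 0 := by
    rintro rfl; exact hxyNa (by rw [TensorProduct.tmul_zero]; exact zero_mem _)
  have hne : x ≠ y := by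
    rintro rfl; exact hxyNa (diag_mem _)
  have hli : LinearIndependent (ZMod 2) ![x, y] := by
    rw [LinearIndependent.pair_iff]
    intro s t' hst
    rcases h01 s with rfl | rfl <;> rcases h01 t' with rfl | rfl
    · exact ⟨rfl, rfl⟩
    · simp at hst; exact absurd hst hy0
    · simp at hst; exact absurd hst hx0
    · exfalso
      simp only [one_smul] at hst
      have hyy : y + y = 0 := by
        have h2 : (2 : ZMod 2) = 0 := by decide
        rw [← two_smul (ZMod 2) y, h2, zero_smul]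
      apply hne
      have : x = (x + y) + y - (y + y) := by abel
      rw [this, hst, hyy]; simp
  obtain ⟨z, hz⟩ := exists_linearIndependent_cons_of_lt_finrank hli (by rw [hV]; norm_num)
  let B : Module.Basis (Fin 3) (ZMod 2) V :=
    basisOfLinearIndependentOfCardEqFinrank hz (by simp [hV])
  have hB1 : B 1 = x := by
    simp [B, coe_basisOfLinearIndependentOfCardEqFinrank]
  have hB2 : B 2 = y := by
    simp [B, coe_basisOfLinearIndependentOfCardEqFinrank]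
  exact main_with_basis ρ B t (by rw [hB1, hB2]; exact hxy) ht


/-- Let G be a group acting linearly on a vector space V of dimension 3 over the field 𝔽₂ with two
elements. Then the connecting map (Λ²V)^G → H¹(G, V) of the short exact sequence of G-modules 0 → V
→ S²V → Λ²V → 0 (v ↦ v·v, x·y ↦ x ∧ y) is zero; equivalently, every G-invariant element of Λ²V is
the image of a G-invariant element of S²V. Here N_a ⊆ V ⊗ V is the span of the tensors v ⊗ v and N_s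
⊆ N_a the span of the tensors x ⊗ y + y ⊗ x, so that S²V = (V ⊗ V)/N_s and Λ²V = (V ⊗ V)/N_a with
the diagonal action of G, and the statement reads: a tensor t whose class modulo N_a is G-invariant
is congruent modulo N_a to a tensor whose class modulo N_s is G-invariant. (The source writes the
rank hypothesis on the lattice M with V = M/2M, which has the same rank, and has the absolute Galois
group of a field acting; any group is allowed here.) -/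
theorem result (G : Type u) [Group G] (V : Type v)
    [AddCommGroup V] [Module (ZMod 2) V] (hV : Module.finrank (ZMod 2) V = 3)
    (ρ : Representation (ZMod 2) G V) (t : V ⊗[ZMod 2] V)
    (ht : ∀ g : G, ρ.tprod ρ g t - t ∈ Submodule.span (ZMod 2) (Set.range fun v : V => v ⊗ₜ[ZMod 2] v)) :
    ∃ t' : V ⊗[ZMod 2] V, t' - t ∈ Submodule.span (ZMod 2) (Set.range fun v : V => v ⊗ₜ[ZMod 2] v) ∧
      ∀ g : G, ρ.tprod ρ g t' - t' ∈
        Submodule.span (ZMod 2) (Set.range fun p : V × V => p.1 ⊗ₜ[ZMod 2] p.2 + p.2 ⊗ₜ[ZMod 2] p.1) := by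
  exact final hV ρ t ht

end Groth.Agent.S18547
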