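import Groth.Statements.S18548
import Mathlib.LinearAlgebra.TensorProduct.Basis
import Mathlib.LinearAlgebra.Basis.Basic
import Mathlib.Tactic
-- import your own Groth.Agent.* helpers here

set_option autoImplicit false
open scoped TensorProduct
universe u v w
open GalCoh

namespace Groth.Agent.S18548

/-- Let G be a group acting linearly on a vector space V over the field 𝔽₂ with two elements, and
suppose V is a permutation module: G permutes the vectors of some basis of V. Then the short exact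
sequence of G-modules 0 → V → S²V → Λ²V → 0 (v ↦ v·v, x·y ↦ x ∧ y) splits G-equivariantly. Here, for
a vector space V over the field with two elements carrying a linear action ρ of a group G, write N_a
⊆ V ⊗ V for the span of the tensors v ⊗ v and N_s ⊆ N_a for the span of the tensors x ⊗ y + y ⊗ x,
so that S²V = (V ⊗ V)/N_s, Λ²V = (V ⊗ V)/N_a and the surjection S²V → Λ²V, x·y ↦ x ∧ y, is
G-equivariant for the diagonal action; a G-equivariant linear section of this surjection is the same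
thing as a G-stable subspace W of V ⊗ V with W ∩ N_a = N_s and W + N_a = V ⊗ V, which is how the
splitting is stated. (The source has the absolute Galois group of a field acting continuously; any
group and any basis index set are allowed here.) -/
theorem result (G : Type u) [Group G] (V : Type v)
    [AddCommGroup V] [Module (ZMod 2) V] (ρ : Representation (ZMod 2) G V)
    (ι : Type w) (b : Module.Basis ι (ZMod 2) V) (hb : ∀ g : G, ∀ i : ι, ∃ j : ι, ρ g (b i) = b j) :
    ∃ W : Submodule (ZMod 2) (V ⊗[ZMod 2] V),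
      (∀ g : G, ∀ w ∈ W, ρ.tprod ρ g w ∈ W) ∧
      W ⊓ Submodule.span (ZMod 2) (Set.range fun v : V => v ⊗ₜ[ZMod 2] v) =
        Submodule.span (ZMod 2) (Set.range fun p : V × V => p.1 ⊗ₜ[ZMod 2] p.2 + p.2 ⊗ₜ[ZMod 2] p.1) ∧
      W ⊔ Submodule.span (ZMod 2) (Set.range fun v : V => v ⊗ₜ[ZMod 2] v) = ⊤ := by
  classical
  have hadd_self : ∀ {M : Type (max v v)} [AddCommGroup M] [Module (ZMod 2) M] (x : M), x + x = 0 := by
    intro M _ _ x
    have h2 : (2 : ZMod 2) = 0 := by decide
    rw [← two_smul (ZMod 2) x, h2, zero_smul]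
  let bb : Module.Basis (ι × ι) (ZMod 2) (V ⊗[ZMod 2] V) := b.tensorProduct b
  have hbb : ∀ i j, bb (i, j) = b i ⊗ₜ[ZMod 2] b j := fun i j =>
    Module.Basis.tensorProduct_apply b b i j
  let offd : Set (ι × ι) := {p | p.1 ≠ p.2}
  let diag : Set (ι × ι) := {p | p.1 = p.2}
  let W : Submodule (ZMod 2) (V ⊗[ZMod 2] V) := Submodule.span (ZMod 2) (bb '' offd)
  let D : Submodule (ZMod 2) (V ⊗[ZMod 2] V) := Submodule.span (ZMod 2) (bb '' diag)
  let Na : Submodule (ZMod 2) (V ⊗[ZMod 2] V) :=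
    Submodule.span (ZMod 2) (Set.range fun v : V => v ⊗ₜ[ZMod 2] v)
  let Ns : Submodule (ZMod 2) (V ⊗[ZMod 2] V) :=
    Submodule.span (ZMod 2) (Set.range fun p : V × V => p.1 ⊗ₜ[ZMod 2] p.2 + p.2 ⊗ₜ[ZMod 2] p.1)
  have hWmem : ∀ i j, i ≠ j → b i ⊗ₜ[ZMod 2] b j ∈ W := by
    intro i j hij
    rw [← hbb]
    exact Submodule.subset_span ⟨(i, j), hij, rfl⟩
  have hDmem : ∀ i, b i ⊗ₜ[ZMod 2] b i ∈ D := by
    intro i
    rw [← hbb]
    exact Submodule.subset_span ⟨(i, i), rfl, rfl⟩
  -- Ns ≤ W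
  have hNsW : Ns ≤ W := by
    rw [Submodule.span_le]
    rintro _ ⟨⟨x, y⟩, rfl⟩
    let T : V ⊗[ZMod 2] V →ₗ[ZMod 2] V ⊗[ZMod 2] V :=
      LinearMap.id + (TensorProduct.comm (ZMod 2) V V).toLinearMap
    have hT : ∀ t, T t ∈ W := by
      intro t
      have ht : t ∈ Submodule.span (ZMod 2) (Set.range bb) := by
        rw [bb.span_eq]; exact Submodule.mem_top
      have hmap : Submodule.map T (Submodule.span (ZMod 2) (Set.range bb)) ≤ W := by
        rw [Submodule.map_span_le]
        rintro _ ⟨⟨i, j⟩, rfl⟩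
        rw [hbb]
        change b i ⊗ₜ[ZMod 2] b j + b j ⊗ₜ[ZMod 2] b i ∈ W
        by_cases hij : i = j
        · subst hij
          rw [hadd_self]; exact W.zero_mem
        · exact W.add_mem (hWmem i j hij) (hWmem j i (Ne.symm hij))
      exact hmap ⟨t, ht, rfl⟩
    exact hT (x ⊗ₜ[ZMod 2] y)
  -- Ns ≤ Na
  have hNsNa : Ns ≤ Na := by
    rw [Submodule.span_le]
    rintro _ ⟨⟨x, y⟩, rfl⟩
    have h1 : x ⊗ₜ[ZMod 2] y + y ⊗ₜ[ZMod 2] x =
        (x + y) ⊗ₜ[ZMod 2] (x + y) - x ⊗ₜ[ZMod 2] x - y ⊗ₜ[ZMod 2] y := by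
      rw [TensorProduct.add_tmul, TensorProduct.tmul_add, TensorProduct.tmul_add]; abel
    change x ⊗ₜ[ZMod 2] y + y ⊗ₜ[ZMod 2] x ∈ Na
    rw [h1]
    exact Na.sub_mem (Na.sub_mem (Submodule.subset_span ⟨x + y, rfl⟩)
      (Submodule.subset_span ⟨x, rfl⟩)) (Submodule.subset_span ⟨y, rfl⟩)
  -- Na ≤ D ⊔ Ns
  have hNaDNs : Na ≤ D ⊔ Ns := by
    rw [Submodule.span_le]
    rintro _ ⟨v, rfl⟩
    change v ⊗ₜ[ZMod 2] v ∈ D ⊔ Ns
    have hv : v ∈ Submodule.span (ZMod 2) (Set.range b) := by
      rw [b.span_eq]; exact Submodule.mem_top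
    induction hv using Submodule.span_induction with
    | mem x hx =>
      obtain ⟨i, rfl⟩ := hx
      exact Submodule.mem_sup_left (hDmem i)
    | zero => rw [TensorProduct.zero_tmul]; exact Submodule.zero_mem _
    | add x y _ _ hx hy =>
      have h1 : (x + y) ⊗ₜ[ZMod 2] (x + y) =
          x ⊗ₜ[ZMod 2] x + y ⊗ₜ[ZMod 2] y + (x ⊗ₜ[ZMod 2] y + y ⊗ₜ[ZMod 2] x) := by
        rw [TensorProduct.add_tmul, TensorProduct.tmul_add, TensorProduct.tmul_add]; abel
      rw [h1]
      exact Submodule.add_mem _ (Submodule.add_mem _ hx hy)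
        (Submodule.mem_sup_right (Submodule.subset_span ⟨(x, y), rfl⟩))
    | smul c x _ hx =>
      rw [TensorProduct.smul_tmul_smul]
      exact Submodule.smul_mem _ _ hx
  -- D ⊓ W = ⊥
  have hDW : ∀ d, d ∈ D → d ∈ W → d = 0 := by
    intro d hdD hdW
    have h1 := (bb.mem_span_image).1 hdD
    have h2 := (bb.mem_span_image).1 hdW
    have h3 : (bb.repr d).support = ∅ := by
      rw [Finset.eq_empty_iff_forall_notMem]
      intro p hp
      exact (h2 hp) (h1 hp)
    have h4 : bb.repr d = 0 := Finsupp.support_eq_empty.1 h3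
    exact (LinearEquiv.map_eq_zero_iff bb.repr).1 h4
  refine ⟨W, ?_, ?_, ?_⟩
  · -- stability
    intro g w hw
    have hmap : Submodule.map (ρ.tprod ρ g) W ≤ W := by
      rw [Submodule.map_span_le]
      rintro _ ⟨⟨i, j⟩, hij, rfl⟩
      rw [hbb, Representation.tprod_apply, TensorProduct.map_tmul]
      obtain ⟨i', hi'⟩ := hb g i
      obtain ⟨j', hj'⟩ := hb g j
      rw [hi', hj']
      apply hWmem
      intro h
      apply hij
      change i = j
      apply b.injective
      have h5 : ρ g (b i) = ρ g (b j) := by rw [hi', hj', h]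
      have h6 := congrArg (ρ g⁻¹) h5
      have h7 : ∀ x, ρ g⁻¹ (ρ g x) = x := by
        intro x
        rw [← Module.End.mul_apply, ← map_mul, inv_mul_cancel, map_one, Module.End.one_apply]
      rwa [h7, h7] at h6
    exact hmap ⟨w, hw, rfl⟩
  · apply le_antisymm
    · rintro w ⟨hwW, hwNa⟩
      obtain ⟨d, hd, s', hs', hds⟩ := Submodule.mem_sup.1 (hNaDNs hwNa)
      have hdW : d ∈ W := by
        have : d = w - s' := by rw [← hds]; abel
        rw [this]
        exact W.sub_mem hwW (hNsW hs')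
      have hd0 := hDW d hd hdW
      rw [hd0, zero_add] at hds
      rw [← hds]; exact hs'
    · exact le_inf hNsW hNsNa
  · rw [eq_top_iff, ← bb.span_eq, Submodule.span_le]
    rintro _ ⟨⟨i, j⟩, rfl⟩
    rw [hbb]
    by_cases hij : i = j
    · subst hij
      exact Submodule.mem_sup_right (Submodule.subset_span ⟨b i, rfl⟩)
    · exact Submodule.mem_sup_left (hWmem i j hij)

end Groth.Agent.S18548
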