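import Groth.Statements.S18549
import Groth.Agent.S18548
import Mathlib.LinearAlgebra.Basis.VectorSpace
import Mathlib.LinearAlgebra.Basis.Prod
import Mathlib.Tactic
-- import your own Groth.Agent.* helpers here

set_option autoImplicit false
open scoped TensorProduct
universe u v
open GalCoh

namespace Groth.Agent.S18549

/-- An involution of a vector space over `𝔽₂` has a basis which it permutes. -/
lemma exists_perm_basis (V : Type v) [AddCommGroup V] [Module (ZMod 2) V]
    (s : V →ₗ[ZMod 2] V) (hss : ∀ v, s (s v) = v) :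
    ∃ (ι : Type v) (b : Module.Basis ι (ZMod 2) V), ∀ i : ι, ∃ j : ι, s (b i) = b j := by
  classical
  have hadd_self : ∀ x : V, x + x = 0 := by
    intro x
    have h2 : (2 : ZMod 2) = 0 := by decide
    rw [← two_smul (ZMod 2) x, h2, zero_smul]
  let N : V →ₗ[ZMod 2] V := s + LinearMap.id
  have hN : ∀ v, N v = s v + v := fun v => rfl
  have hNN : ∀ v, N (N v) = 0 := by
    intro v
    rw [hN, hN, map_add, hss]
    calc v + s v + (s v + v) = (v + v) + (s v + s v) := by abel
      _ = 0 := by rw [hadd_self, hadd_self, add_zero]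
  let K : Submodule (ZMod 2) V := LinearMap.ker N
  let I : Submodule (ZMod 2) V := LinearMap.range N
  have hIK : I ≤ K := by
    rintro _ ⟨v, rfl⟩
    exact hNN v
  have hfix : ∀ c ∈ K, s c = c := by
    intro c hc
    have h1 : s c + c = 0 := hc
    calc s c = s c + (c + c) := by rw [hadd_self, add_zero]
      _ = (s c + c) + c := by abel
      _ = c := by rw [h1, zero_add]
  obtain ⟨U, hU⟩ := Submodule.exists_isCompl K
  obtain ⟨C', hC'⟩ := Submodule.exists_isCompl I
  let C : Submodule (ZMod 2) V := C' ⊓ K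
  have hIC_inf : ∀ x, x ∈ I → x ∈ C → x = 0 := by
    intro x hxI hxC
    have : x ∈ I ⊓ C' := ⟨hxI, hxC.1⟩
    rw [hC'.inf_eq_bot] at this
    exact this
  have hIC_sup : ∀ k ∈ K, ∃ i ∈ I, ∃ c ∈ C, i + c = k := by
    intro k hk
    have h1 : k ∈ I ⊔ C' := by rw [hC'.sup_eq_top]; exact Submodule.mem_top
    obtain ⟨i, hi, c, hc, hic⟩ := Submodule.mem_sup.1 h1
    refine ⟨i, hi, c, ⟨hc, ?_⟩, hic⟩
    have : c = k - i := by rw [← hic]; abel
    rw [this]
    exact K.sub_mem hk (hIK hi)
  have hKU_inf : ∀ x, x ∈ K → x ∈ U → x = 0 := by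
    intro x hxK hxU
    have : x ∈ K ⊓ U := ⟨hxK, hxU⟩
    rw [hU.inf_eq_bot] at this
    exact this
  have hKU_sup : ∀ v : V, ∃ k ∈ K, ∃ u ∈ U, k + u = v := by
    intro v
    have h1 : v ∈ K ⊔ U := by rw [hU.sup_eq_top]; exact Submodule.mem_top
    exact Submodule.mem_sup.1 h1
  let Φ : (U × U) × C →ₗ[ZMod 2] V :=
    ((U.subtype).coprod (s ∘ₗ U.subtype)).coprod C.subtype
  have hΦ : ∀ (p q : U) (c : C), Φ ((p, q), c) = (p : V) + s (q : V) + (c : V) := by
    intro p q c; rfl
  have hΦinj : Function.Injective Φ := by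
    rw [← LinearMap.ker_eq_bot, eq_bot_iff]
    rintro ⟨⟨p, q⟩, c⟩ h
    rw [LinearMap.mem_ker, hΦ] at h
    -- p + s q + c = (p + q) + (N q + c)
    have h1 : ((p : V) + (q : V)) + (N (q : V) + (c : V)) = 0 := by
      rw [hN, ← h]
      calc ((p : V) + (q : V)) + (s (q : V) + (q : V) + (c : V))
          = (p : V) + s (q : V) + (c : V) + ((q : V) + (q : V)) := by abel
        _ = (p : V) + s (q : V) + (c : V) := by rw [hadd_self, add_zero]
    have hk : N (q : V) + (c : V) ∈ K := K.add_mem (hIK ⟨_, rfl⟩) c.2.2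
    have hu : (p : V) + (q : V) ∈ U := U.add_mem p.2 q.2
    have h2 : (p : V) + (q : V) = -(N (q : V) + (c : V)) := eq_neg_of_add_eq_zero_left h1
    have h3 : (p : V) + (q : V) = 0 := by
      apply hKU_inf _ _ hu
      rw [h2]; exact K.neg_mem hk
    rw [h3, zero_add] at h1
    have h4 : N (q : V) = -(c : V) := eq_neg_of_add_eq_zero_left h1
    have h5 : N (q : V) = 0 := by
      apply hIC_inf _ ⟨_, rfl⟩
      rw [h4]; exact C.neg_mem c.2
    have hq : (q : V) = 0 := hKU_inf _ h5 q.2
    have hp : (p : V) = 0 := by rw [hq, add_zero] at h3; exact h3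
    have hc : (c : V) = 0 := by rw [h5, zero_add] at h1; exact h1
    rw [Submodule.mem_bot]
    refine Prod.ext (Prod.ext (Subtype.ext hp) (Subtype.ext hq)) (Subtype.ext hc)
  have hΦsurj : Function.Surjective Φ := by
    intro v
    obtain ⟨k, hk, u, hu, rfl⟩ := hKU_sup v
    obtain ⟨i, hi, c, hc, rfl⟩ := hIC_sup k hk
    obtain ⟨v', rfl⟩ := hi
    obtain ⟨k', hk', u', hu', rfl⟩ := hKU_sup v'
    have hNk' : N k' = 0 := hk'
    refine ⟨((⟨u + u', U.add_mem hu hu'⟩, ⟨u', hu'⟩), ⟨c, hc⟩), ?_⟩
    rw [hΦ]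
    change u + u' + s u' + c = N (k' + u') + c + u
    rw [map_add, hNk', zero_add, hN]
    abel
  let e : ((U × U) × C) ≃ₗ[ZMod 2] V := LinearEquiv.ofBijective Φ ⟨hΦinj, hΦsurj⟩
  let bU := Module.Basis.ofVectorSpace (ZMod 2) U
  let bC := Module.Basis.ofVectorSpace (ZMod 2) C
  let B := ((bU.prod bU).prod bC).map e
  refine ⟨_, B, ?_⟩
  have hB : ∀ i, B i = Φ (((bU.prod bU).prod bC) i) := fun i => rfl
  rintro ((i | i) | j)
  · refine ⟨Sum.inl (Sum.inr i), ?_⟩
    rw [hB, hB]
    simp only [Module.Basis.prod_apply, Sum.elim_inl, Sum.elim_inr, Function.comp_apply,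
      LinearMap.inl_apply, LinearMap.inr_apply]
    rw [hΦ, hΦ]
    simp
  · refine ⟨Sum.inl (Sum.inl i), ?_⟩
    rw [hB, hB]
    simp only [Module.Basis.prod_apply, Sum.elim_inl, Sum.elim_inr, Function.comp_apply,
      LinearMap.inl_apply, LinearMap.inr_apply]
    rw [hΦ, hΦ]
    simp [hss]
  · refine ⟨Sum.inr j, ?_⟩
    rw [hB]
    simp only [Module.Basis.prod_apply, Sum.elim_inl, Sum.elim_inr, Function.comp_apply,
      LinearMap.inl_apply, LinearMap.inr_apply]
    have h0 : Φ ((0 : U × U), bC j) = ((bC j : C) : V) := by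
      change Φ (((0 : U), (0 : U)), bC j) = _
      rw [hΦ]
      simp
    rw [h0]
    exact hfix _ (bC j).2.2

/-- Over the real numbers, that is for the group G = Gal(ℂ/ℝ) of order 2 acting linearly on a
finite-dimensional vector space V over the field 𝔽₂ with two elements, the short exact sequence of
G-modules 0 → V → S²V → Λ²V → 0 (v ↦ v·v, x·y ↦ x ∧ y) splits G-equivariantly. Here, for a vector
space V over the field with two elements carrying a linear action ρ of a group G, write N_a ⊆ V ⊗ V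
for the span of the tensors v ⊗ v and N_s ⊆ N_a for the span of the tensors x ⊗ y + y ⊗ x, so that
S²V = (V ⊗ V)/N_s, Λ²V = (V ⊗ V)/N_a and the surjection S²V → Λ²V, x·y ↦ x ∧ y, is G-equivariant for
the diagonal action; a G-equivariant linear section of this surjection is the same thing as a
G-stable subspace W of V ⊗ V with W ∩ N_a = N_s and W + N_a = V ⊗ V, which is how the splitting is
stated. (G is any group of order 2 here; V is taken finite-dimensional, the case covered by the
structure theory of finitely generated modules over 𝔽₂[G] that the argument uses.) -/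
theorem result (G : Type u) [Group G] (hG : Nat.card G = 2)
    (V : Type v) [AddCommGroup V] [Module (ZMod 2) V] [Module.Finite (ZMod 2) V]
    (ρ : Representation (ZMod 2) G V) :
    ∃ W : Submodule (ZMod 2) (V ⊗[ZMod 2] V),
      (∀ g : G, ∀ w ∈ W, ρ.tprod ρ g w ∈ W) ∧
      W ⊓ Submodule.span (ZMod 2) (Set.range fun v : V => v ⊗ₜ[ZMod 2] v) =
        Submodule.span (ZMod 2) (Set.range fun p : V × V => p.1 ⊗ₜ[ZMod 2] p.2 + p.2 ⊗ₜ[ZMod 2] p.1) ∧
      W ⊔ Submodule.span (ZMod 2) (Set.range fun v : V => v ⊗ₜ[ZMod 2] v) = ⊤ := by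
  classical
  obtain ⟨x, y, hxy, hset⟩ := Nat.card_eq_two_iff.1 hG
  obtain ⟨σ, hσ⟩ : ∃ σ : G, ∀ g : G, g = 1 ∨ g = σ := by
    have h1 : (1 : G) ∈ ({x, y} : Set G) := by rw [hset]; trivial
    rcases h1 with h1 | h1
    · refine ⟨y, fun g => ?_⟩
      have : g ∈ ({x, y} : Set G) := by rw [hset]; trivial
      rcases this with h | h
      · left; rw [h, h1]
      · right; exact h
    · refine ⟨x, fun g => ?_⟩
      have : g ∈ ({x, y} : Set G) := by rw [hset]; trivial
      rcases this with h | h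
      · right; exact h
      · left; rw [h]; exact h1.symm
  have hσσ : σ * σ = 1 := by
    rcases hσ (σ * σ) with h | h
    · exact h
    · have h1 : σ = 1 := by simpa using h
      rw [h1, one_mul]
  have hss : ∀ v, (ρ σ) ((ρ σ) v) = v := by
    intro v
    rw [← Module.End.mul_apply, ← map_mul, hσσ, map_one, Module.End.one_apply]
  obtain ⟨ι, b, hb⟩ := exists_perm_basis V (ρ σ) hss
  refine Groth.Agent.S18548.result G V ρ ι b ?_
  intro g i
  rcases hσ g with h | h
  · refine ⟨i, ?_⟩
    rw [h, map_one, Module.End.one_apply]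
  · rw [h]; exact hb i

end Groth.Agent.S18549
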