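import Groth.Statements.S18550
import Mathlib.Tactic
import Mathlib.Algebra.Homology.DerivedCategory.TStructure
import Mathlib.Algebra.Homology.DerivedCategory.FullyFaithful
import Mathlib.CategoryTheory.Triangulated.TStructure.TruncLEGT
-- import your own Groth.Agent.* helpers here

set_option autoImplicit false
open CategoryTheory Limits
universe w v u
open CohDer

namespace Groth.Agent.S18550

section aux

open DerivedCategory Pretriangulated

variable {A : Type u} [Category.{v} A] [Abelian A] [HasDerivedCategory.{w} A]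

/-- An endomorphism of an object concentrated in a single degree which is zero on cohomology
is zero. -/
lemma eq_zero_of_single_degree (X : DerivedCategory A) (a : ℤ) [X.IsGE a] [X.IsLE a] (f : X ⟶ X)
    (hf : (homologyFunctor A a).map f = 0) : f = 0 := by
  obtain ⟨Y, ⟨e⟩⟩ := exists_iso_singleFunctor_obj_of_isGE_of_isLE X a
  obtain ⟨φ, hφ⟩ := (singleFunctor A a).map_surjective (e.inv ≫ f ≫ e.hom)
  have hφ0 : φ = 0 := by
    have h1 : (homologyFunctor A a).map ((singleFunctor A a).map φ) = 0 := by
      rw [hφ, Functor.map_comp, Functor.map_comp, hf, zero_comp, comp_zero]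
    have h2 := (singleFunctorCompHomologyFunctorIso A a).hom.naturality φ
    simp only [Functor.comp_map, Functor.id_map] at h2
    rw [h1, zero_comp] at h2
    exact (cancel_epi ((singleFunctorCompHomologyFunctorIso A a).hom.app Y)).1
      (by rw [← h2, comp_zero])
  rw [hφ0, Functor.map_zero] at hφ
  have h3 : f = e.hom ≫ (e.inv ≫ f ≫ e.hom) ≫ e.inv := by simp
  rw [h3, ← hφ]; simp

lemma pow_comp_comm {C : Type*} [Category C] {X Y : C} (f : End X) (f' : End Y) (g : X ⟶ Y)
    (h : (f : X ⟶ X) ≫ g = g ≫ (f' : Y ⟶ Y)) (k : ℕ) :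
    ((f ^ k : End X) : X ⟶ X) ≫ g = g ≫ ((f' ^ k : End Y) : Y ⟶ Y) := by
  induction k with
  | zero => simp [End.one_def]
  | succ k ih =>
    rw [pow_succ, pow_succ, End.mul_def, End.mul_def, Category.assoc, ih, ← Category.assoc, h,
      Category.assoc]

lemma main_aux (n : ℕ) : ∀ (a : ℤ) (X : DerivedCategory A) [X.IsGE a] [X.IsLE (a + n)]
    (f : End X), (∀ i : ℤ, (homologyFunctor A i).map f = 0) → f ^ (n + 1) = 0 := by
  induction n with
  | zero =>
    intro a X _ hle f hf
    have : X.IsLE a := by simpa using hle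
    rw [pow_one]
    exact eq_zero_of_single_degree X a f (hf a)
  | succ n ih =>
    intro a X _ hle f hf
    let t := (TStructure.t : Triangulated.TStructure (DerivedCategory A))
    let X₁ := (t.truncLE a).obj X
    let X₃ := (t.truncGT a).obj X
    let ι : X₁ ⟶ X := (t.truncLEι a).app X
    let π : X ⟶ X₃ := (t.truncGTπ a).app X
    let f₁ : End X₁ := (t.truncLE a).map f
    let f₃ : End X₃ := (t.truncGT a).map f
    have hι : (f₁ : X₁ ⟶ X₁) ≫ ι = ι ≫ f := (t.truncLEι a).naturality f
    have hπ : (f : X ⟶ X) ≫ π = π ≫ f₃ := (t.truncGTπ a).naturality f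
    have hT := t.triangleLEGT_distinguished a X
    have : X₁.IsGE a := inferInstanceAs (t.IsGE ((t.truncLE a).obj X) a)
    have : X₁.IsLE a := inferInstanceAs (t.IsLE ((t.truncLE a).obj X) a)
    have : X₃.IsGE (a + 1) := inferInstanceAs (t.IsGE ((t.truncGT a).obj X) (a + 1))
    have : X.IsLE (a + 1 + n) := by
      have h : a + ((n + 1 : ℕ) : ℤ) = a + 1 + n := by push_cast; ring
      rw [← h]; exact hle
    have : X₃.IsLE (a + 1 + n) := inferInstanceAs (t.IsLE ((t.truncGT a).obj X) (a + 1 + n))
    -- f₁ = 0
    have hf₁ : f₁ = 0 := by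
      apply eq_zero_of_single_degree X₁ a
      have hmono : Mono ((homologyFunctor A a).map ι) := by
        have := (HomologySequence.mono_homologyMap_mor₁_iff _ hT (a - 1) a (by ring)).2
          ((isZero_of_isGE X₃ (a + 1) (a - 1) (by omega)).eq_of_src _ _)
        exact this
      have h1 : (homologyFunctor A a).map f₁ ≫ (homologyFunctor A a).map ι = 0 := by
        rw [← Functor.map_comp, hι, Functor.map_comp, hf a, comp_zero]
      exact (cancel_mono ((homologyFunctor A a).map ι)).1 (by rw [h1, zero_comp])
    -- H(f₃) = 0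
    have hf₃ : ∀ i : ℤ, (homologyFunctor A i).map f₃ = 0 := by
      intro i
      by_cases hi : i ≤ a
      · exact (isZero_of_isGE X₃ (a + 1) i (by omega)).eq_of_src _ _
      · have hepi : Epi ((homologyFunctor A i).map π) := by
          have := (HomologySequence.epi_homologyMap_mor₂_iff _ hT i (i + 1) rfl).2
            ((isZero_of_isLE X₁ a (i + 1) (by omega)).eq_of_tgt _ _)
          exact this
        have h1 : (homologyFunctor A i).map π ≫ (homologyFunctor A i).map f₃ = 0 := by
          rw [← Functor.map_comp, ← hπ, Functor.map_comp, hf i, zero_comp]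
        exact (cancel_epi ((homologyFunctor A i).map π)).1 (by rw [h1, comp_zero])
    have hpow₃ : f₃ ^ (n + 1) = 0 := ih (a + 1) X₃ f₃ hf₃
    have hcomm := pow_comp_comm f f₃ π hπ (n + 1)
    rw [hpow₃] at hcomm
    have hzero : ((f ^ (n + 1) : End X) : X ⟶ X) ≫ π = 0 := by
      rw [hcomm]; exact comp_zero
    obtain ⟨h, hh⟩ := Triangle.coyoneda_exact₂ _ hT ((f ^ (n + 1) : End X) : X ⟶ X) hzero
    let h' : X ⟶ X₁ := h
    have hh' : ((f ^ (n + 1) : End X) : X ⟶ X) = h' ≫ ι := hh
    rw [pow_succ', End.mul_def]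
    have h0 : (0 : End X₁) = (0 : X₁ ⟶ X₁) := rfl
    calc ((f ^ (n + 1) : End X) : X ⟶ X) ≫ (f : X ⟶ X) = (h' ≫ ι) ≫ (f : X ⟶ X) := by rw [hh']
      _ = h' ≫ (ι ≫ (f : X ⟶ X)) := Category.assoc _ _ _
      _ = h' ≫ ((f₁ : X₁ ⟶ X₁) ≫ ι) := by rw [hι]
      _ = h' ≫ ((0 : X₁ ⟶ X₁) ≫ ι) := by rw [hf₁, h0]
      _ = 0 := by rw [zero_comp, comp_zero]

end aux

/-- Let A be an abelian category, X an object of its derived category whose cohomology objects H^i(X)
are zero for all integers i outside the interval [a, a + n], and f : X → X an endomorphism in the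
derived category such that H^i(f) = 0 for every i. Then f^(n+1) = 0. (The source works in the
bounded derived category; the statement in D(A) for an object with cohomology bounded in this way is
the same assertion, the bounded derived category being a full subcategory.) -/
theorem result (A : Type u) [Category.{v} A] [Abelian A]
    [HasDerivedCategory.{w} A] (X : DerivedCategory A) (a : ℤ) (n : ℕ)
    (hX : ∀ i : ℤ, i < a ∨ a + n < i → IsZero ((DerivedCategory.homologyFunctor A i).obj X))
    (f : CategoryTheory.End X) (hf : ∀ i : ℤ, (DerivedCategory.homologyFunctor A i).map f = 0) :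
    f ^ (n + 1) = 0 := by
  have : X.IsGE a := (DerivedCategory.isGE_iff X a).2 (fun i hi => hX i (Or.inl hi))
  have : X.IsLE (a + n) := (DerivedCategory.isLE_iff X (a + n)).2 (fun i hi => hX i (Or.inr hi))
  exact main_aux n a X f hf

end Groth.Agent.S18550
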