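import Groth.Statements.S1856
import Mathlib
import Groth.Agent.S1857
import Groth.Agent.Lib.Helper22.FlatRat
-- import your own Groth.Agent.* helpers here

set_option autoImplicit false
universe u
open CategoryTheory AlgebraicGeometry
open Cyc

namespace Groth.Agent.S1856

/-- Let f : X → Y be flat, locally of finite type, of relative dimension r, and α, β rationally
equivalent k-cycles on Y. Then the flat pullbacks f^*α, f^*β (any cycles on X whose coefficients are
given by the flat-pullback formula) are rationally equivalent (k + r)-cycles on X. Here a pair (X,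
δ) with Cyc.IsSetup plays the role of a scheme locally of finite type over a fixed base with a
dimension function (X locally Noetherian with universally catenary local rings, δ a dimension
function), and Cyc.DeltaCompat records that the dimension function upstairs is the induced one. -/
theorem result (X Y : Scheme.{u}) (δX : X → ℤ) (δY : Y → ℤ) (hX : Cyc.IsSetup X δX) (hY : Cyc.IsSetup Y δY) (f : X ⟶ Y) [Flat f] [LocallyOfFiniteType f] (r : ℕ) (hr : Cyc.HasRelDim f r) (hδ : Cyc.DeltaCompat f δX δY) (k : ℤ) (α β : AlgebraicCycle Y ℤ) (hα : α ∈ Cyc.Zk Y δY k) (hβ : β ∈ Cyc.Zk Y δY k) (h : Cyc.RatEquiv δY k α β) (α' β' : AlgebraicCycle X ℤ) (hα' : ⇑α' = Cyc.pullFun f δX δY r ⇑α) (hβ' : ⇑β' = Cyc.pullFun f δX δY r ⇑β) : Cyc.RatEquiv δX (k + r) α' β' := by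
  haveI := hX.1
  haveI := hY.1
  have hcf : ∀ x : X, Groth.Agent.S6479.MaxFib f x → δX x = δY (f x) + r := by
    intro x hx
    obtain ⟨n, hn, hδ'⟩ := hδ x
    have := Groth.Agent.S1857.td_eq_of_max f r hr x hx n hn
    rw [hδ', this]
  obtain ⟨ι', ξ', f', h1, h2, h3, h4⟩ :=
    Groth.Agent.Lib.Helper22.FlatRat.pull_ratEquivZero f δY δX hY.2.2 hX.2.2 r hcf k (⇑(α - β)) h
  refine ⟨ι', ξ', f', h1, h2, h3, fun x => ?_⟩
  rw [← h4 x, Function.locallyFinsuppWithin.coe_sub]
  show α' x - β' x = _
  have ha : α' x = Cyc.pullFun f δX δY r (⇑α) x := congrFun hα' x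
  have hb : β' x = Cyc.pullFun f δX δY r (⇑β) x := congrFun hβ' x
  rw [ha, hb]
  unfold Cyc.pullFun
  split_ifs with hc
  · rw [Function.locallyFinsuppWithin.coe_sub]
    show _ = (α (f x) - β (f x)) * _
    ring
  · ring

end Groth.Agent.S1856
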