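import Groth.Statements.S18560
import Mathlib.LinearAlgebra.FiniteDimensional.Basic
import Mathlib.LinearAlgebra.Dimension.FreeAndStrongRankCondition
import Mathlib.Tactic
-- import your own Groth.Agent.* helpers here

set_option autoImplicit false
universe u v
open PtQuiv

namespace Groth.Agent.S18560

/-- Let K be a field and s i ∈ K² (i in a finite index type) nonzero vectors, regarded as a
representation of the quiver with a central vertex carrying the plane and one vertex per i carrying
a line that maps to the plane by 1 ↦ s i. For a weight θ in the hypersimplex (0 ≤ θ i ≤ 1, Σ θ i =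
2, central weight -1) the representation is θ-semistable if and only if, for every vector v, the
indices i with s i on the line K ∙ v have total weight at most 1. (The published statement is over
an algebraically closed field, assumes semistability for some interior weight instead of s i ≠ 0,
and phrases the bound through the classes of pairwise proportional s i; any field is allowed here.
Its further assertion that the bounding walls, where the total weight of one proportionality class
equals 1, do not meet in the interior of the hypersimplex is not part of this row.) -/
theorem result (K : Type u) [Field K] (ι : Type v) [Fintype ι]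
    (s : ι → (Fin 2 → K)) (hs : ∀ i, s i ≠ 0) (θ : ι → ℚ) (h0 : ∀ i, 0 ≤ θ i)
    (h1 : ∀ i, θ i ≤ 1) (h2 : ∑ i, θ i = 2) :
    PtQuiv.QSemistable (-1) θ s ↔
      ∀ (J : Finset ι) (v : Fin 2 → K), (∀ i ∈ J, s i ∈ K ∙ v) → ∑ i ∈ J, θ i ≤ 1 := by
  classical
  constructor
  · rintro ⟨-, hss⟩ J v hJ
    have hsub : PtQuiv.QSubrep s (K ∙ v) J := hJ
    have hw := hss (K ∙ v) J hsub
    unfold PtQuiv.QWt at hw
    have hdim : (Module.finrank K (K ∙ v) : ℚ) ≤ 1 := by
      have : Module.finrank K (K ∙ v) ≤ 1 := by
        by_cases hv : v = 0
        · subst hv
          rw [Submodule.span_zero_singleton, finrank_bot]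
          exact Nat.zero_le 1
        · rw [finrank_span_singleton hv]
      exact_mod_cast this
    linarith
  · intro h
    refine ⟨by rw [h2]; norm_num, ?_⟩
    intro L I hLI
    unfold PtQuiv.QWt
    have hle2 : Module.finrank K L ≤ 2 := by
      have := Submodule.finrank_le L
      simpa using this
    have hsumI : ∑ i ∈ I, θ i ≤ 2 := by
      rw [← h2]
      exact Finset.sum_le_sum_of_subset_of_nonneg (Finset.subset_univ I) (fun i _ _ => h0 i)
    rcases Nat.lt_or_ge (Module.finrank K L) 2 with hlt | hge
    · rcases Nat.lt_or_ge (Module.finrank K L) 1 with hlt1 | hge1
      · -- finrank = 0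
        have h0' : Module.finrank K L = 0 := by omega
        have hbot : L = ⊥ := Submodule.finrank_eq_zero.1 h0'
        have hI : I = ∅ := by
          rw [Finset.eq_empty_iff_forall_notMem]
          intro i hi
          have := hLI i hi
          rw [hbot, Submodule.mem_bot] at this
          exact hs i this
        rw [hI, h0']
        simp
      · -- finrank = 1
        have h1' : Module.finrank K L = 1 := by omega
        obtain ⟨v, hv0, hv⟩ := finrank_eq_one_iff'.1 h1'
        have hJ : ∀ i ∈ I, s i ∈ K ∙ (v : Fin 2 → K) := by
          intro i hi
          obtain ⟨c, hc⟩ := hv ⟨s i, hLI i hi⟩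
          rw [Submodule.mem_span_singleton]
          exact ⟨c, congrArg Subtype.val hc⟩
        have := h I (v : Fin 2 → K) hJ
        rw [h1']
        push_cast
        linarith
    · have h2' : Module.finrank K L = 2 := by omega
      rw [h2']
      push_cast
      linarith

end Groth.Agent.S18560
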