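import Groth.Statements.S18561
import Mathlib
-- import your own Groth.Agent.* helpers here

set_option autoImplicit false
universe u v
open PtQuiv

namespace Groth.Agent.S18561

open Module

lemma finrank_cases {K : Type*} [Field K] (L : Submodule K (Fin 2 → K)) :
    finrank K L = 0 ∨ finrank K L = 1 ∨ finrank K L = 2 := by
  have h := Submodule.finrank_le L
  rw [Module.finrank_fin_fun] at h
  omega

lemma line_mem {K : Type*} [Field K] (L : Submodule K (Fin 2 → K)) (h1 : finrank K L = 1)
    {v w : Fin 2 → K} (hv : v ∈ L) (hw : w ∈ L) (hw0 : w ≠ 0) : v ∈ K ∙ w := by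
  have hle : (K ∙ w) ≤ L := (Submodule.span_singleton_le_iff_mem w L).mpr hw
  have hfr : finrank K (K ∙ w) = finrank K L := by rw [finrank_span_singleton hw0, h1]
  have h2 := Submodule.eq_of_le_of_finrank_eq hle hfr
  rw [h2]; exact hv

/-- Let K be a field and s i ∈ K² (i in a finite index type) nonzero vectors, regarded as a
representation of the quiver with a central vertex carrying the plane and one vertex per i carrying
a line mapping to the plane by 1 ↦ s i. Then the representation is stable for some weight of the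
hypersimplex (0 ≤ θ i ≤ 1, Σ θ i = 2, central weight -1) if and only if the s i fall into at least
three proportionality classes, i.e. three of them are pairwise non-proportional. (The published
statement is over an algebraically closed field and assumes semistability for some interior weight
instead of s i ≠ 0; any field is allowed here. Its further assertions, that the set of semistability
weights is full-dimensional exactly in this case and is a wall otherwise, are not part of this row.) -/
theorem result (K : Type u) [Field K] (ι : Type v)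
    [Fintype ι] (s : ι → (Fin 2 → K)) (hs : ∀ i, s i ≠ 0) :
    (∃ θ : ι → ℚ, (∀ i, 0 ≤ θ i) ∧ (∀ i, θ i ≤ 1) ∧ ∑ i, θ i = 2 ∧ PtQuiv.QStable (-1) θ s) ↔
      ∃ i j k : ι, s i ∉ K ∙ s j ∧ s j ∉ K ∙ s k ∧ s i ∉ K ∙ s k := by
  classical
  have hft : finrank K (⊤ : Submodule K (Fin 2 → K)) = 2 := by
    rw [finrank_top, Module.finrank_fin_fun]
  constructor
  · rintro ⟨θ, h0, h1, hsum, hst⟩
    by_contra hno
    push Not at hno
    obtain ⟨hss, hstab⟩ := hst
    obtain ⟨_, hsemi⟩ := hss
    have hne : Nonempty ι := by
      by_contra hemp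
      rw [not_nonempty_iff] at hemp
      simp at hsum
    obtain ⟨i0⟩ := hne
    have hsub1 : QSubrep s (K ∙ s i0) (Finset.univ.filter (fun l => s l ∈ K ∙ s i0)) :=
      fun l hl => (Finset.mem_filter.mp hl).2
    have hfr1 : finrank K (K ∙ s i0) = 1 := finrank_span_singleton (hs i0)
    have hw1 := hsemi _ _ hsub1
    unfold QWt at hw1
    rw [hfr1] at hw1
    by_cases hall : (Finset.univ.filter (fun l => s l ∈ K ∙ s i0)) = Finset.univ
    · rw [hall, hsum] at hw1; norm_num at hw1
    · obtain ⟨j0, hj0⟩ : ∃ j0, j0 ∉ (Finset.univ.filter (fun l => s l ∈ K ∙ s i0)) := by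
        by_contra hcon
        push Not at hcon
        exact hall (Finset.eq_univ_iff_forall.mpr hcon)
      have hj0' : s j0 ∉ K ∙ s i0 :=
        fun h => hj0 (Finset.mem_filter.mpr ⟨Finset.mem_univ _, h⟩)
      have hsub2 : QSubrep s (K ∙ s j0) (Finset.univ.filter (fun l => s l ∈ K ∙ s j0)) :=
        fun l hl => (Finset.mem_filter.mp hl).2
      have hfr2 : finrank K (K ∙ s j0) = 1 := finrank_span_singleton (hs j0)
      have hw2 := hsemi _ _ hsub2
      unfold QWt at hw2
      rw [hfr2] at hw2
      have hdisj : Disjoint (Finset.univ.filter (fun l => s l ∈ K ∙ s i0))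
          (Finset.univ.filter (fun l => s l ∈ K ∙ s j0)) := by
        rw [Finset.disjoint_left]
        intro l hl1 hl2
        have h1' := (Finset.mem_filter.mp hl1).2
        have h2' := (Finset.mem_filter.mp hl2).2
        obtain ⟨a, ha⟩ := Submodule.mem_span_singleton.mp h1'
        obtain ⟨b, hb⟩ := Submodule.mem_span_singleton.mp h2'
        have hb0 : b ≠ 0 := by
          rintro rfl
          rw [zero_smul] at hb
          exact hs l hb.symm
        apply hj0'
        rw [Submodule.mem_span_singleton]
        refine ⟨b⁻¹ * a, ?_⟩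
        rw [mul_smul, ha, ← hb, smul_smul, inv_mul_cancel₀ hb0, one_smul]
      have hunion : (Finset.univ.filter (fun l => s l ∈ K ∙ s i0)) ∪
          (Finset.univ.filter (fun l => s l ∈ K ∙ s j0)) = Finset.univ := by
        rw [Finset.eq_univ_iff_forall]
        intro l
        by_contra hl
        rw [Finset.mem_union, not_or] at hl
        have hl1 : s l ∉ K ∙ s i0 :=
          fun h => hl.1 (Finset.mem_filter.mpr ⟨Finset.mem_univ _, h⟩)
        have hl2 : s l ∉ K ∙ s j0 :=
          fun h => hl.2 (Finset.mem_filter.mpr ⟨Finset.mem_univ _, h⟩)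
        exact hl1 (hno l j0 i0 hl2 hj0')
      have hsum12 : ∑ l ∈ (Finset.univ.filter (fun l => s l ∈ K ∙ s i0)), θ l +
          ∑ l ∈ (Finset.univ.filter (fun l => s l ∈ K ∙ s j0)), θ l = 2 := by
        rw [← Finset.sum_union hdisj, hunion, hsum]
      have hw1eq : QWt K (-1) θ (K ∙ s i0) (Finset.univ.filter (fun l => s l ∈ K ∙ s i0)) = 0 := by
        unfold QWt
        rw [hfr1]
        push_cast at hw1 hw2 ⊢
        linarith
      rcases hstab _ _ hsub1 hw1eq with ⟨hbot, _⟩ | ⟨htop, _⟩
      · rw [hbot] at hfr1; simp at hfr1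
      · rw [htop, hft] at hfr1; omega
  · rintro ⟨i, j, k, hij, hjk, hik⟩
    have hij' : i ≠ j := by rintro rfl; exact hij (Submodule.mem_span_singleton_self _)
    have hjk' : j ≠ k := by rintro rfl; exact hjk (Submodule.mem_span_singleton_self _)
    have hik' : i ≠ k := by rintro rfl; exact hik (Submodule.mem_span_singleton_self _)
    obtain ⟨n, hn⟩ : ∃ n : ℚ, n = (Fintype.card ι : ℚ) := ⟨_, rfl⟩
    obtain ⟨S3, hS3⟩ : ∃ S3 : Finset ι, S3 = {i, j, k} := ⟨_, rfl⟩
    have hS3card : S3.card = 3 := by
      rw [hS3, Finset.card_insert_of_notMem, Finset.card_insert_of_notMem, Finset.card_singleton]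
      · simpa using hjk'
      · simp [hij', hik']
    have hn3 : (3 : ℚ) ≤ n := by
      have h3 : S3.card ≤ Fintype.card ι := Finset.card_le_univ S3
      rw [hS3card] at h3
      rw [hn]; exact_mod_cast h3
    obtain ⟨δ, hδ⟩ : ∃ δ : ℚ, δ = 1 / (2 * n) := ⟨_, rfl⟩
    have hδpos : 0 < δ := by rw [hδ]; apply div_pos one_pos; linarith
    have hnδ : n * δ = 1 / 2 := by
      rw [hδ]; field_simp
    have hδ6 : δ ≤ 1 / 6 := by nlinarith
    obtain ⟨θ, hθ⟩ : ∃ θ : ι → ℚ, θ = fun l => δ + (if l ∈ S3 then (1 / 2 : ℚ) else 0) := ⟨_, rfl⟩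
    have hθ0 : ∀ l, 0 ≤ θ l := by
      intro l; rw [hθ]; dsimp only; split_ifs <;> linarith
    have hθpos : ∀ l, δ ≤ θ l := by
      intro l; rw [hθ]; dsimp only; split_ifs <;> linarith
    have hθ1 : ∀ l, θ l ≤ 1 := by
      intro l; rw [hθ]; dsimp only; split_ifs <;> linarith
    have hsumI : ∀ I : Finset ι, ∑ l ∈ I, θ l =
        (I.card : ℚ) * δ + ((I ∩ S3).card : ℚ) * (1 / 2) := by
      intro I
      rw [hθ]
      simp only [Finset.sum_add_distrib, Finset.sum_const, Finset.sum_ite_mem, nsmul_eq_mul]
    have hsumθ : ∑ l, θ l = 2 := by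
      rw [hsumI, Finset.univ_inter, hS3card, Finset.card_univ, ← hn]
      push_cast
      linarith
    have key : ∀ (L : Submodule K (Fin 2 → K)) (I : Finset ι), QSubrep s L I →
        (L = ⊥ ∧ I = ∅) ∨ (finrank K L = 1 ∧ ∑ l ∈ I, θ l < 1) ∨
        (L = ⊤ ∧ ∑ l ∈ I, θ l ≤ 2 ∧ (∑ l ∈ I, θ l = 2 → I = Finset.univ)) := by
      intro L I hLI
      rcases finrank_cases L with h | h | h
      · left
        have hbot : L = ⊥ := Submodule.finrank_eq_zero.mp h
        refine ⟨hbot, ?_⟩
        rw [Finset.eq_empty_iff_forall_notMem]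
        intro l hl
        have h2 := hLI l hl
        rw [hbot, Submodule.mem_bot] at h2
        exact hs l h2
      · right; left
        refine ⟨h, ?_⟩
        have hcard1 : (I ∩ S3).card ≤ 1 := by
          rw [Finset.card_le_one]
          intro a ha b hb
          rw [Finset.mem_inter] at ha hb
          have hab : s a ∈ K ∙ s b := line_mem L h (hLI a ha.1) (hLI b hb.1) (hs b)
          have hba : s b ∈ K ∙ s a := line_mem L h (hLI b hb.1) (hLI a ha.1) (hs a)
          have ha3 := ha.2
          have hb3 := hb.2
          rw [hS3] at ha3 hb3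
          simp only [Finset.mem_insert, Finset.mem_singleton] at ha3 hb3
          rcases ha3 with rfl | rfl | rfl <;> rcases hb3 with rfl | rfl | rfl <;>
            first
            | rfl
            | exact absurd hab hij
            | exact absurd hba hij
            | exact absurd hab hjk
            | exact absurd hba hjk
            | exact absurd hab hik
            | exact absurd hba hik
        have hunion := Finset.card_union_add_card_inter I S3
        have hle := Finset.card_le_univ (I ∪ S3)
        have hIcard : (I.card : ℚ) + 2 ≤ n := by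
          have h5 : I.card + 2 ≤ Fintype.card ι := by omega
          rw [hn]; exact_mod_cast h5
        rw [hsumI I]
        have h3 : ((I ∩ S3).card : ℚ) ≤ 1 := by exact_mod_cast hcard1
        have h4 : (I.card : ℚ) * δ ≤ (n - 2) * δ :=
          mul_le_mul_of_nonneg_right (by linarith) hδpos.le
        linarith
      · right; right
        have htop : L = ⊤ := Submodule.eq_top_of_finrank_eq (by rw [h, Module.finrank_fin_fun])
        have hle2 : ∑ l ∈ I, θ l ≤ 2 := by
          rw [← hsumθ]
          exact Finset.sum_le_sum_of_subset_of_nonneg (Finset.subset_univ I) (fun l _ _ => hθ0 l)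
        refine ⟨htop, hle2, ?_⟩
        intro heq
        by_contra hne
        obtain ⟨l, hl⟩ : ∃ l, l ∉ I := by
          by_contra hcon
          push Not at hcon
          exact hne (Finset.eq_univ_iff_forall.mpr hcon)
        have h6 : ∑ x ∈ insert l I, θ x ≤ ∑ x, θ x :=
          Finset.sum_le_sum_of_subset_of_nonneg (Finset.subset_univ _) (fun x _ _ => hθ0 x)
        rw [Finset.sum_insert hl, hsumθ, heq] at h6
        have := hθpos l
        linarith
    refine ⟨θ, hθ0, hθ1, hsumθ, ⟨⟨by rw [hsumθ]; norm_num, ?_⟩, ?_⟩⟩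
    · intro L I hLI
      unfold QWt
      rcases key L I hLI with ⟨hb, he⟩ | ⟨h1, hlt⟩ | ⟨ht, hle, _⟩
      · rw [hb, he, finrank_bot, Finset.sum_empty]; norm_num
      · rw [h1]; push_cast; linarith
      · rw [ht, hft]; push_cast; linarith
    · intro L I hLI hw
      unfold QWt at hw
      rcases key L I hLI with ⟨hb, he⟩ | ⟨h1, hlt⟩ | ⟨ht, hle, heq⟩
      · left; exact ⟨hb, he⟩
      · exfalso; rw [h1] at hw; push_cast at hw; linarith
      · right
        refine ⟨ht, heq ?_⟩
        rw [ht, hft] at hw; push_cast at hw; linarith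

end Groth.Agent.S18561
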