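import Groth.Statements.S18562
import Mathlib
-- import your own Groth.Agent.* helpers here

set_option autoImplicit false
universe u v
open PtQuiv

namespace Groth.Agent.S18562

open Module

lemma finrank_cases {K : Type*} [Field K] (L : Submodule K (Fin 2 → K)) :
    finrank K L = 0 ∨ finrank K L = 1 ∨ finrank K L = 2 := by
  have h := Submodule.finrank_le L
  rw [Module.finrank_fin_fun] at h
  omega

lemma line_mem {K : Type*} [Field K] (L : Submodule K (Fin 2 → K)) (h1 : finrank K L = 1)
    {v w : Fin 2 → K} (hv : v ∈ L) (hw : w ∈ L) (hw0 : w ≠ 0) : v ∈ K ∙ w := by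
  have hle : (K ∙ w) ≤ L := (Submodule.span_singleton_le_iff_mem w L).mpr hw
  have hfr : finrank K (K ∙ w) = finrank K L := by rw [finrank_span_singleton hw0, h1]
  have h2 := Submodule.eq_of_le_of_finrank_eq hle hfr
  rw [h2]; exact hv

lemma sum_split {κ : Type*} [DecidableEq κ] (a b : κ) (hab : a ≠ b) (θ : κ → ℚ) (J : Finset κ) :
    ∑ i ∈ J, θ i = (if a ∈ J then θ a else 0) + (if b ∈ J then θ b else 0) +
      ∑ i ∈ J.subtype (fun i => i ≠ a ∧ i ≠ b), θ i.1 := by
  have h1 : (if a ∈ J then θ a else 0) = ∑ i ∈ J, if i = a then θ i else 0 :=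
    (Finset.sum_ite_eq' J a θ).symm
  have h2 : (if b ∈ J then θ b else 0) = ∑ i ∈ J, if i = b then θ i else 0 :=
    (Finset.sum_ite_eq' J b θ).symm
  have h3 : ∑ i ∈ J.subtype (fun i => i ≠ a ∧ i ≠ b), θ i.1 =
      ∑ i ∈ J, if (i ≠ a ∧ i ≠ b) then θ i else 0 := by
    rw [Finset.sum_subtype_eq_sum_filter, Finset.sum_filter]
  rw [h1, h2, h3, ← Finset.sum_add_distrib, ← Finset.sum_add_distrib]
  apply Finset.sum_congr rfl
  intro i _
  by_cases hia : i = a
  · subst hia
    simp [hab]
  · by_cases hib : i = b
    · subst hib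
      simp [hia]
    · simp [hia, hib]

lemma fr_bot (K : Type*) [Field K] : finrank K (⊥ : Submodule K K) = 0 := finrank_bot K K

lemma fr_top (K : Type*) [Field K] : finrank K (⊤ : Submodule K K) = 1 := by
  rw [finrank_top, Module.finrank_self]

lemma fr_span_le {K : Type*} [Field K] (v : Fin 2 → K) : finrank K (K ∙ v) ≤ 1 := by
  by_cases hv : v = 0
  · rw [hv, Submodule.span_zero_singleton, finrank_bot]; exact Nat.zero_le _
  · rw [finrank_span_singleton hv]

/-- Let K be a field, κ a finite index type with a ≠ b, and s i ∈ K² a representation of the quiver with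
a central vertex carrying the plane and one vertex per i : κ carrying a line mapping to the plane by
1 ↦ s i. Let θ be a weight of the hypersimplex (0 ≤ θ i ≤ 1, Σ θ i = 2, central weight -1) with 1 <
θ a + θ b < 2, and put c = 1 / (2 - θ a - θ b). Then s is θ-semistable if and only if s a, s b are
linearly independent and, writing every other s i = t i 0 • s a + t i 1 • s b, the representation t
of the quiver with two one-dimensional sinks p₀, p₁ and one one-dimensional source per i ≠ a, b
(arrow to p_j given by t i j) is semistable for the weight c (θ a - 1) at p₀, c (θ b - 1) at p₁ and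
c θ i at the sources. (The published statement is about representations over a base scheme, with
(semi)stability tested on geometric fibres, that is over algebraically closed fields; this row
states the fibrewise content over an arbitrary field.) -/
theorem result (K : Type u) [Field K]
    (κ : Type v) [Fintype κ] [DecidableEq κ] (a b : κ) (hab : a ≠ b) (s : κ → (Fin 2 → K))
    (θ : κ → ℚ) (h0 : ∀ i, 0 ≤ θ i) (h1 : ∀ i, θ i ≤ 1) (h2 : ∑ i, θ i = 2)
    (hθ : 1 < θ a + θ b) (hθ' : θ a + θ b < 2) :
    PtQuiv.QSemistable (-1) θ s ↔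
      (LinearIndependent K ![s a, s b] ∧
        ∀ t : {i : κ // i ≠ a ∧ i ≠ b} → (Fin 2 → K),
          (∀ i, s i.1 = t i 0 • s a + t i 1 • s b) →
            PtQuiv.PSemistable ![(2 - θ a - θ b)⁻¹ * (θ a - 1), (2 - θ a - θ b)⁻¹ * (θ b - 1)]
              (fun i : {i : κ // i ≠ a ∧ i ≠ b} => (2 - θ a - θ b)⁻¹ * θ i.1) t) := by
  classical
  obtain ⟨c, hcdef⟩ : ∃ c : ℚ, c = (2 - θ a - θ b)⁻¹ := ⟨_, rfl⟩
  rw [← hcdef]
  have hc : 0 < c := by rw [hcdef]; apply inv_pos.mpr; linarith
  have hcc : c * (2 - θ a - θ b) = 1 := by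
    rw [hcdef]; apply inv_mul_cancel₀; linarith
  have hcX : ∀ X : ℚ, c * X ≤ 0 → X ≤ 0 := by
    intro X hX
    by_contra hcon
    push Not at hcon
    have := mul_pos hc hcon
    linarith
  have htot : ∑ i : {i : κ // i ≠ a ∧ i ≠ b}, θ i.1 = 2 - θ a - θ b := by
    have h3 := sum_split a b hab θ Finset.univ
    rw [Finset.subtype_univ, h2] at h3
    simp only [Finset.mem_univ, if_true] at h3
    linarith
  constructor
  · rintro ⟨_, hQ⟩
    have hli : LinearIndependent K ![s a, s b] := by
      rw [LinearIndependent.pair_iff]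
      intro x y hxy
      by_contra hne
      have hv : ∃ v : Fin 2 → K, s a ∈ K ∙ v ∧ s b ∈ K ∙ v := by
        by_cases hx : x = 0
        · have hy : y ≠ 0 := fun hy => hne ⟨hx, hy⟩
          refine ⟨s a, Submodule.mem_span_singleton_self _, ?_⟩
          rw [hx, zero_smul, zero_add] at hxy
          have h3 : s b = 0 := by
            rcases smul_eq_zero.mp hxy with h | h
            · exact absurd h hy
            · exact h
          rw [h3]; exact Submodule.zero_mem _
        · refine ⟨s b, ?_, Submodule.mem_span_singleton_self _⟩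
          rw [Submodule.mem_span_singleton]
          refine ⟨-(x⁻¹ * y), ?_⟩
          have h3 : s a = x⁻¹ • (x • s a) := by rw [smul_smul, inv_mul_cancel₀ hx, one_smul]
          rw [h3, eq_neg_of_add_eq_zero_left hxy, neg_smul, mul_smul, smul_neg]
      obtain ⟨v, hva, hvb⟩ := hv
      have hsub : QSubrep s (K ∙ v) {a, b} := by
        intro i hi
        rw [Finset.mem_insert, Finset.mem_singleton] at hi
        rcases hi with rfl | rfl
        · exact hva
        · exact hvb
      have hw := hQ _ _ hsub
      unfold QWt at hw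
      rw [Finset.sum_pair hab] at hw
      have hfr : (finrank K (K ∙ v) : ℚ) ≤ 1 := by
        exact_mod_cast fr_span_le v
      linarith
    refine ⟨hli, ?_⟩
    intro t ht
    have hsa0 : s a ≠ 0 := by simpa using hli.ne_zero 0
    have hsb0 : s b ≠ 0 := by simpa using hli.ne_zero 1
    refine ⟨?_, ?_⟩
    · rw [Fin.sum_univ_two, ← Finset.mul_sum, htot]
      simp only [Matrix.cons_val_zero, Matrix.cons_val_one, Matrix.head_cons]
      linear_combination (-1 : ℚ) * hcc + hcc
    · intro U I hUI
      unfold PWt
      rw [Fin.sum_univ_two, ← Finset.mul_sum]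
      simp only [Matrix.cons_val_zero, Matrix.cons_val_one, Matrix.head_cons]
      have hsumI : ∑ i ∈ I.map (Function.Embedding.subtype _), θ i = ∑ i ∈ I, θ i.1 := by
        rw [Finset.sum_map]; rfl
      have haI : a ∉ I.map (Function.Embedding.subtype _) := by
        intro h
        rw [Finset.mem_map] at h
        obtain ⟨i, _, hi⟩ := h
        exact i.2.1 hi
      have hbI : b ∉ I.map (Function.Embedding.subtype _) := by
        intro h
        rw [Finset.mem_map] at h
        obtain ⟨i, _, hi⟩ := h
        exact i.2.2 hi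
      have hIle : ∑ i ∈ I, θ i.1 ≤ 2 - θ a - θ b := by
        rw [← htot]; exact Finset.sum_le_univ_sum_of_nonneg (fun i => h0 i.1)
      rcases Ideal.eq_bot_or_top (U 0) with h0' | h0' <;>
        rcases Ideal.eq_bot_or_top (U 1) with h1' | h1'
      · have hsub : QSubrep s ⊥ (I.map (Function.Embedding.subtype _)) := by
          intro i hi
          obtain ⟨i', hi', rfl⟩ := Finset.mem_map.mp hi
          have e0 := hUI i' hi' 0
          have e1 := hUI i' hi' 1
          rw [h0', Submodule.mem_bot] at e0
          rw [h1', Submodule.mem_bot] at e1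
          show s i'.1 ∈ (⊥ : Submodule K (Fin 2 → K))
          rw [ht i', e0, e1, zero_smul, zero_smul, add_zero]
          exact Submodule.zero_mem _
        have hw := hQ _ _ hsub
        unfold QWt at hw
        rw [finrank_bot, hsumI] at hw
        rw [h0', h1', fr_bot]
        push_cast at hw ⊢
        nlinarith [mul_nonneg hc.le (neg_nonneg.mpr (by linarith : ∑ i ∈ I, θ i.1 ≤ 0))]
      · have hsub : QSubrep s (K ∙ s b) (insert b (I.map (Function.Embedding.subtype _))) := by
          intro i hi
          rw [Finset.mem_insert] at hi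
          rcases hi with rfl | hi
          · exact Submodule.mem_span_singleton_self _
          · obtain ⟨i', hi', rfl⟩ := Finset.mem_map.mp hi
            have e0 := hUI i' hi' 0
            rw [h0', Submodule.mem_bot] at e0
            show s i'.1 ∈ K ∙ s b
            rw [ht i', e0, zero_smul, zero_add]
            exact Submodule.smul_mem _ _ (Submodule.mem_span_singleton_self _)
        have hw := hQ _ _ hsub
        unfold QWt at hw
        rw [finrank_span_singleton hsb0, Finset.sum_insert hbI, hsumI] at hw
        rw [h0', h1', fr_bot, fr_top]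
        push_cast at hw ⊢
        nlinarith [mul_nonneg hc.le (neg_nonneg.mpr (by linarith : θ b - 1 + ∑ i ∈ I, θ i.1 ≤ 0))]
      · have hsub : QSubrep s (K ∙ s a) (insert a (I.map (Function.Embedding.subtype _))) := by
          intro i hi
          rw [Finset.mem_insert] at hi
          rcases hi with rfl | hi
          · exact Submodule.mem_span_singleton_self _
          · obtain ⟨i', hi', rfl⟩ := Finset.mem_map.mp hi
            have e1 := hUI i' hi' 1
            rw [h1', Submodule.mem_bot] at e1
            show s i'.1 ∈ K ∙ s a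
            rw [ht i', e1, zero_smul, add_zero]
            exact Submodule.smul_mem _ _ (Submodule.mem_span_singleton_self _)
        have hw := hQ _ _ hsub
        unfold QWt at hw
        rw [finrank_span_singleton hsa0, Finset.sum_insert haI, hsumI] at hw
        rw [h0', h1', fr_bot, fr_top]
        push_cast at hw ⊢
        nlinarith [mul_nonneg hc.le (neg_nonneg.mpr (by linarith : θ a - 1 + ∑ i ∈ I, θ i.1 ≤ 0))]
      · rw [h0', h1', fr_top]
        push_cast
        nlinarith [mul_nonneg hc.le (neg_nonneg.mpr
          (by linarith : θ a - 1 + (θ b - 1) + ∑ i ∈ I, θ i.1 ≤ 0))]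
  · rintro ⟨hli, hP⟩
    have hpair := LinearIndependent.pair_iff.mp hli
    have hsa0 : s a ≠ 0 := by simpa using hli.ne_zero 0
    have hsb0 : s b ≠ 0 := by simpa using hli.ne_zero 1
    have hspan : Submodule.span K {s a, s b} = ⊤ := by
      have h3 := hli.span_eq_top_of_card_eq_finrank' (by
        rw [Module.finrank_fin_fun, Fintype.card_fin])
      rwa [Matrix.range_cons_cons_empty] at h3
    have hex : ∀ i : κ, ∃ x y : K, s i = x • s a + y • s b := by
      intro i
      have h3 : s i ∈ Submodule.span K {s a, s b} := by rw [hspan]; trivial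
      rw [Submodule.mem_span_pair] at h3
      obtain ⟨x, y, h⟩ := h3
      exact ⟨x, y, h.symm⟩
    choose X Y hXY using hex
    obtain ⟨t, ht⟩ : ∃ t : {i : κ // i ≠ a ∧ i ≠ b} → (Fin 2 → K),
        t = fun i => ![X i.1, Y i.1] := ⟨_, rfl⟩
    have hts : ∀ i, s i.1 = t i 0 • s a + t i 1 • s b := by
      intro i
      rw [ht]
      simp only [Matrix.cons_val_zero, Matrix.cons_val_one, Matrix.head_cons]
      exact hXY i.1
    obtain ⟨_, hPs⟩ := hP t hts
    refine ⟨by rw [h2]; norm_num, ?_⟩
    intro L J hLJ
    unfold QWt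
    have hsplit := sum_split a b hab θ J
    obtain ⟨I₀, hI₀⟩ : ∃ I₀, I₀ = J.subtype (fun i => i ≠ a ∧ i ≠ b) := ⟨_, rfl⟩
    rw [← hI₀] at hsplit
    have hI₀mem : ∀ i ∈ I₀, i.1 ∈ J := by
      intro i hi
      rw [hI₀, Finset.mem_subtype] at hi
      exact hi
    have hI₀le : ∑ i ∈ I₀, θ i.1 ≤ 2 - θ a - θ b := by
      rw [← htot]; exact Finset.sum_le_univ_sum_of_nonneg (fun i => h0 i.1)
    rcases finrank_cases L with h | h | h
    · have hbot : L = ⊥ := Submodule.finrank_eq_zero.mp h
      have haJ : a ∉ J := fun ha => hsa0 (by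
        have h3 := hLJ a ha
        rwa [hbot, Submodule.mem_bot] at h3)
      have hbJ : b ∉ J := fun hb => hsb0 (by
        have h3 := hLJ b hb
        rwa [hbot, Submodule.mem_bot] at h3)
      have hsubP : PSubrep t (fun _ => ⊥) I₀ := by
        intro i hi
        have h3 := hLJ i.1 (hI₀mem i hi)
        rw [hbot, Submodule.mem_bot, hts i] at h3
        obtain ⟨h4, h5⟩ := hpair _ _ h3
        rw [Fin.forall_fin_two]
        refine ⟨?_, ?_⟩
        · show t i 0 ∈ (⊥ : Submodule K K)
          rw [Submodule.mem_bot]; exact h4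
        · show t i 1 ∈ (⊥ : Submodule K K)
          rw [Submodule.mem_bot]; exact h5
      have hw := hPs _ _ hsubP
      unfold PWt at hw
      rw [Fin.sum_univ_two, ← Finset.mul_sum] at hw
      simp only [fr_bot, Nat.cast_zero, mul_zero, zero_add] at hw
      have h6 := hcX _ hw
      rw [h, hsplit, if_neg haJ, if_neg hbJ]
      push_cast
      linarith
    · by_cases haJ : a ∈ J <;> by_cases hbJ : b ∈ J
      · exfalso
        have h3 := line_mem L h (hLJ a haJ) (hLJ b hbJ) hsb0
        obtain ⟨x, hx⟩ := Submodule.mem_span_singleton.mp h3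
        have h4 := hpair 1 (-x) (by rw [one_smul, neg_smul, hx]; exact add_neg_cancel _)
        exact one_ne_zero h4.1
      · obtain ⟨U, hU0, hU1⟩ : ∃ U : Fin 2 → Submodule K K, U 0 = ⊤ ∧ U 1 = ⊥ :=
          ⟨![⊤, ⊥], rfl, rfl⟩
        have hsubP : PSubrep t U I₀ := by
          intro i hi
          rw [Fin.forall_fin_two]
          refine ⟨?_, ?_⟩
          · rw [hU0]
            exact Submodule.mem_top
          · rw [hU1, Submodule.mem_bot]
            have h3 := line_mem L h (hLJ i.1 (hI₀mem i hi)) (hLJ a haJ) hsa0
            obtain ⟨x, hx⟩ := Submodule.mem_span_singleton.mp h3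
            rw [hts i] at hx
            have h4 := hpair (x - t i 0) (-(t i 1)) (by rw [sub_smul, neg_smul, hx]; abel)
            exact neg_eq_zero.mp h4.2
        have hw := hPs _ _ hsubP
        unfold PWt at hw
        rw [Fin.sum_univ_two, ← Finset.mul_sum, hU0, hU1, fr_bot, fr_top] at hw
        simp only [Matrix.cons_val_zero, Matrix.cons_val_one, Matrix.head_cons,
          Nat.cast_zero, Nat.cast_one, mul_zero, mul_one, add_zero] at hw
        have h6 := hcX (θ a - 1 + ∑ i ∈ I₀, θ i.1) (by linarith)
        rw [h, hsplit, if_pos haJ, if_neg hbJ]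
        push_cast
        linarith
      · obtain ⟨U, hU0, hU1⟩ : ∃ U : Fin 2 → Submodule K K, U 0 = ⊥ ∧ U 1 = ⊤ :=
          ⟨![⊥, ⊤], rfl, rfl⟩
        have hsubP : PSubrep t U I₀ := by
          intro i hi
          rw [Fin.forall_fin_two]
          refine ⟨?_, ?_⟩
          · rw [hU0, Submodule.mem_bot]
            have h3 := line_mem L h (hLJ i.1 (hI₀mem i hi)) (hLJ b hbJ) hsb0
            obtain ⟨x, hx⟩ := Submodule.mem_span_singleton.mp h3
            rw [hts i] at hx
            have h4 := hpair (-(t i 0)) (x - t i 1) (by rw [sub_smul, neg_smul, hx]; abel)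
            exact neg_eq_zero.mp h4.1
          · rw [hU1]
            exact Submodule.mem_top
        have hw := hPs _ _ hsubP
        unfold PWt at hw
        rw [Fin.sum_univ_two, ← Finset.mul_sum, hU0, hU1, fr_bot, fr_top] at hw
        simp only [Matrix.cons_val_zero, Matrix.cons_val_one, Matrix.head_cons,
          Nat.cast_zero, Nat.cast_one, mul_zero, mul_one, zero_add] at hw
        have h6 := hcX (θ b - 1 + ∑ i ∈ I₀, θ i.1) (by linarith)
        rw [h, hsplit, if_neg haJ, if_pos hbJ]
        push_cast
        linarith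
      · rw [h, hsplit, if_neg haJ, if_neg hbJ]
        push_cast
        linarith
    · rw [h]
      have h3 : ∑ i ∈ J, θ i ≤ 2 := by
        rw [← h2]; exact Finset.sum_le_univ_sum_of_nonneg (fun i => h0 i)
      push_cast
      linarith

end Groth.Agent.S18562
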