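import Groth.Statements.S18563
import Mathlib
import Groth.Agent.S18562
-- import your own Groth.Agent.* helpers here

set_option autoImplicit false
universe u v
open PtQuiv

namespace Groth.Agent.S18563

open Module
open Groth.Agent.S18562 (finrank_cases line_mem sum_split fr_bot fr_top)

/-- Let K be a field, κ a finite index type with a ≠ b, and s i ∈ K² a representation of the quiver with
a central vertex carrying the plane and one vertex per i : κ carrying a line mapping to the plane by
1 ↦ s i. Let θ be a weight of the hypersimplex (0 ≤ θ i ≤ 1, Σ θ i = 2, central weight -1) with 1 <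
θ a + θ b < 2, and put c = 1 / (2 - θ a - θ b). Then s is θ-stable if and only if s a, s b are
linearly independent and, writing every other s i = t i 0 • s a + t i 1 • s b, the representation t
of the quiver with two one-dimensional sinks p₀, p₁ and one one-dimensional source per i ≠ a, b
(arrow to p_j given by t i j) is stable for the weight c (θ a - 1) at p₀, c (θ b - 1) at p₁ and c θ
i at the sources. (The published statement is about representations over a base scheme, with
(semi)stability tested on geometric fibres, that is over algebraically closed fields; this row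
states the fibrewise content over an arbitrary field.) -/
theorem result (K : Type u) [Field K]
    (κ : Type v) [Fintype κ] [DecidableEq κ] (a b : κ) (hab : a ≠ b) (s : κ → (Fin 2 → K))
    (θ : κ → ℚ) (h0 : ∀ i, 0 ≤ θ i) (h1 : ∀ i, θ i ≤ 1) (h2 : ∑ i, θ i = 2)
    (hθ : 1 < θ a + θ b) (hθ' : θ a + θ b < 2) :
    PtQuiv.QStable (-1) θ s ↔
      (LinearIndependent K ![s a, s b] ∧
        ∀ t : {i : κ // i ≠ a ∧ i ≠ b} → (Fin 2 → K),
          (∀ i, s i.1 = t i 0 • s a + t i 1 • s b) →
            PtQuiv.PStable ![(2 - θ a - θ b)⁻¹ * (θ a - 1), (2 - θ a - θ b)⁻¹ * (θ b - 1)]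
              (fun i : {i : κ // i ≠ a ∧ i ≠ b} => (2 - θ a - θ b)⁻¹ * θ i.1) t) := by
  classical
  have hsemi := Groth.Agent.S18562.result K κ a b hab s θ h0 h1 h2 hθ hθ'
  obtain ⟨c, hcdef⟩ : ∃ c : ℚ, c = (2 - θ a - θ b)⁻¹ := ⟨_, rfl⟩
  rw [← hcdef] at hsemi ⊢
  have hc : 0 < c := by rw [hcdef]; apply inv_pos.mpr; linarith
  have hcX0 : ∀ X : ℚ, c * X = 0 → X = 0 := by
    intro X hX
    rcases mul_eq_zero.mp hX with h | h
    · exact absurd h hc.ne'
    · exact h
  have htot : ∑ i : {i : κ // i ≠ a ∧ i ≠ b}, θ i.1 = 2 - θ a - θ b := by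
    have h3 := sum_split a b hab θ Finset.univ
    rw [Finset.subtype_univ, h2] at h3
    simp only [Finset.mem_univ, if_true] at h3
    linarith
  have hft2 : finrank K (⊤ : Submodule K (Fin 2 → K)) = 2 := by
    rw [finrank_top, Module.finrank_fin_fun]
  have hbt2 : (⊥ : Submodule K (Fin 2 → K)) ≠ ⊤ := by
    intro hbt
    have h3 : finrank K (⊥ : Submodule K (Fin 2 → K)) =
        finrank K (⊤ : Submodule K (Fin 2 → K)) := by rw [hbt]
    rw [finrank_bot, hft2] at h3
    omega
  have hfb1 : (⊥ : Submodule K K) ≠ ⊤ := by
    intro hbt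
    have h3 := fr_bot K
    rw [hbt, fr_top] at h3
    omega
  constructor
  · rintro ⟨hQss, hQst⟩
    obtain ⟨hli, hPss⟩ := hsemi.mp hQss
    refine ⟨hli, ?_⟩
    intro t ht
    refine ⟨hPss t ht, ?_⟩
    have hsa0 : s a ≠ 0 := by simpa using hli.ne_zero 0
    have hsb0 : s b ≠ 0 := by simpa using hli.ne_zero 1
    intro U I hUI hw0
    unfold PWt at hw0
    rw [Fin.sum_univ_two, ← Finset.mul_sum] at hw0
    simp only [Matrix.cons_val_zero, Matrix.cons_val_one, Matrix.head_cons] at hw0
    have hsumI : ∑ i ∈ I.map (Function.Embedding.subtype _), θ i = ∑ i ∈ I, θ i.1 := by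
      rw [Finset.sum_map]; rfl
    have haI : a ∉ I.map (Function.Embedding.subtype _) := by
      intro h
      rw [Finset.mem_map] at h
      obtain ⟨i, _, hi⟩ := h
      exact i.2.1 hi
    have hbI : b ∉ I.map (Function.Embedding.subtype _) := by
      intro h
      rw [Finset.mem_map] at h
      obtain ⟨i, _, hi⟩ := h
      exact i.2.2 hi
    rcases Ideal.eq_bot_or_top (U 0) with h0' | h0' <;>
      rcases Ideal.eq_bot_or_top (U 1) with h1' | h1'
    · left
      have hsub : QSubrep s ⊥ (I.map (Function.Embedding.subtype _)) := by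
        intro i hi
        obtain ⟨i', hi', rfl⟩ := Finset.mem_map.mp hi
        have e0 := hUI i' hi' 0
        have e1 := hUI i' hi' 1
        rw [h0', Submodule.mem_bot] at e0
        rw [h1', Submodule.mem_bot] at e1
        show s i'.1 ∈ (⊥ : Submodule K (Fin 2 → K))
        rw [ht i', e0, e1, zero_smul, zero_smul, add_zero]
        exact Submodule.zero_mem _
      rw [h0', h1', fr_bot] at hw0
      have hS : ∑ i ∈ I, θ i.1 = 0 := hcX0 _ (by push_cast at hw0; linarith)
      have hwQ : QWt K (-1) θ ⊥ (I.map (Function.Embedding.subtype _)) = 0 := by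
        unfold QWt
        rw [finrank_bot, hsumI, hS]
        push_cast
        ring
      rcases hQst _ _ hsub hwQ with ⟨_, hI⟩ | ⟨hbt, _⟩
      · refine ⟨?_, Finset.map_eq_empty.mp hI⟩
        have h3 : ∀ j : Fin 2, U j = ⊥ := by
          rw [Fin.forall_fin_two]; exact ⟨h0', h1'⟩
        funext j
        exact h3 j
      · exact absurd hbt hbt2
    · exfalso
      have hsub : QSubrep s (K ∙ s b) (insert b (I.map (Function.Embedding.subtype _))) := by
        intro i hi
        rw [Finset.mem_insert] at hi
        rcases hi with rfl | hi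
        · exact Submodule.mem_span_singleton_self _
        · obtain ⟨i', hi', rfl⟩ := Finset.mem_map.mp hi
          have e0 := hUI i' hi' 0
          rw [h0', Submodule.mem_bot] at e0
          show s i'.1 ∈ K ∙ s b
          rw [ht i', e0, zero_smul, zero_add]
          exact Submodule.smul_mem _ _ (Submodule.mem_span_singleton_self _)
      rw [h0', h1', fr_bot, fr_top] at hw0
      have hS : θ b - 1 + ∑ i ∈ I, θ i.1 = 0 := hcX0 _ (by push_cast at hw0; linarith)
      have hfr := finrank_span_singleton (K := K) hsb0
      have hwQ : QWt K (-1) θ (K ∙ s b) (insert b (I.map (Function.Embedding.subtype _))) = 0 := by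
        unfold QWt
        rw [hfr, Finset.sum_insert hbI, hsumI]
        push_cast
        linarith
      rcases hQst _ _ hsub hwQ with ⟨hb, _⟩ | ⟨hb, _⟩
      · rw [hb, finrank_bot] at hfr; omega
      · rw [hb, hft2] at hfr; omega
    · exfalso
      have hsub : QSubrep s (K ∙ s a) (insert a (I.map (Function.Embedding.subtype _))) := by
        intro i hi
        rw [Finset.mem_insert] at hi
        rcases hi with rfl | hi
        · exact Submodule.mem_span_singleton_self _
        · obtain ⟨i', hi', rfl⟩ := Finset.mem_map.mp hi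
          have e1 := hUI i' hi' 1
          rw [h1', Submodule.mem_bot] at e1
          show s i'.1 ∈ K ∙ s a
          rw [ht i', e1, zero_smul, add_zero]
          exact Submodule.smul_mem _ _ (Submodule.mem_span_singleton_self _)
      rw [h0', h1', fr_bot, fr_top] at hw0
      have hS : θ a - 1 + ∑ i ∈ I, θ i.1 = 0 := hcX0 _ (by push_cast at hw0; linarith)
      have hfr := finrank_span_singleton (K := K) hsa0
      have hwQ : QWt K (-1) θ (K ∙ s a) (insert a (I.map (Function.Embedding.subtype _))) = 0 := by
        unfold QWt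
        rw [hfr, Finset.sum_insert haI, hsumI]
        push_cast
        linarith
      rcases hQst _ _ hsub hwQ with ⟨hb, _⟩ | ⟨hb, _⟩
      · rw [hb, finrank_bot] at hfr; omega
      · rw [hb, hft2] at hfr; omega
    · right
      have hsub : QSubrep s ⊤ (insert a (insert b (I.map (Function.Embedding.subtype _)))) :=
        fun i _ => Submodule.mem_top
      rw [h0', h1', fr_top] at hw0
      have hS : θ a - 1 + (θ b - 1) + ∑ i ∈ I, θ i.1 = 0 :=
        hcX0 _ (by push_cast at hw0; linarith)
      have hab' : a ∉ insert b (I.map (Function.Embedding.subtype _)) := by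
        rw [Finset.mem_insert]
        rintro (h | h)
        · exact hab h
        · exact haI h
      have hwQ : QWt K (-1) θ ⊤
          (insert a (insert b (I.map (Function.Embedding.subtype _)))) = 0 := by
        unfold QWt
        rw [hft2, Finset.sum_insert hab', Finset.sum_insert hbI, hsumI]
        push_cast
        linarith
      rcases hQst _ _ hsub hwQ with ⟨hb, _⟩ | ⟨_, hI⟩
      · exact absurd hb.symm hbt2
      · refine ⟨?_, ?_⟩
        · have h3 : ∀ j : Fin 2, U j = ⊤ := by
            rw [Fin.forall_fin_two]; exact ⟨h0', h1'⟩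
          funext j
          exact h3 j
        · rw [Finset.eq_univ_iff_forall]
          intro i
          have h3 := Finset.mem_univ i.1
          rw [← hI, Finset.mem_insert, Finset.mem_insert] at h3
          rcases h3 with h | h | h
          · exact absurd h i.2.1
          · exact absurd h i.2.2
          · obtain ⟨i', hi', hii'⟩ := Finset.mem_map.mp h
            have h4 : i' = i := Subtype.ext hii'
            rwa [h4] at hi'
  · rintro ⟨hli, hP⟩
    have hQss : QSemistable (-1) θ s := hsemi.mpr ⟨hli, fun t ht => (hP t ht).1⟩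
    refine ⟨hQss, ?_⟩
    have hpair := LinearIndependent.pair_iff.mp hli
    have hsa0 : s a ≠ 0 := by simpa using hli.ne_zero 0
    have hsb0 : s b ≠ 0 := by simpa using hli.ne_zero 1
    have hspan : Submodule.span K {s a, s b} = ⊤ := by
      have h3 := hli.span_eq_top_of_card_eq_finrank' (by
        rw [Module.finrank_fin_fun, Fintype.card_fin])
      rwa [Matrix.range_cons_cons_empty] at h3
    have hex : ∀ i : κ, ∃ x y : K, s i = x • s a + y • s b := by
      intro i
      have h3 : s i ∈ Submodule.span K {s a, s b} := by rw [hspan]; trivial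
      rw [Submodule.mem_span_pair] at h3
      obtain ⟨x, y, h⟩ := h3
      exact ⟨x, y, h.symm⟩
    choose X Y hXY using hex
    obtain ⟨t, ht⟩ : ∃ t : {i : κ // i ≠ a ∧ i ≠ b} → (Fin 2 → K),
        t = fun i => ![X i.1, Y i.1] := ⟨_, rfl⟩
    have hts : ∀ i, s i.1 = t i 0 • s a + t i 1 • s b := by
      intro i
      rw [ht]
      simp only [Matrix.cons_val_zero, Matrix.cons_val_one, Matrix.head_cons]
      exact hXY i.1
    obtain ⟨_, hPst⟩ := hP t hts
    intro L J hLJ hw0
    unfold QWt at hw0
    have hsplit := sum_split a b hab θ J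
    obtain ⟨I₀, hI₀⟩ : ∃ I₀, I₀ = J.subtype (fun i => i ≠ a ∧ i ≠ b) := ⟨_, rfl⟩
    rw [← hI₀] at hsplit
    have hI₀mem : ∀ i ∈ I₀, i.1 ∈ J := by
      intro i hi
      rw [hI₀, Finset.mem_subtype] at hi
      exact hi
    have hI₀le : ∑ i ∈ I₀, θ i.1 ≤ 2 - θ a - θ b := by
      rw [← htot]; exact Finset.sum_le_univ_sum_of_nonneg (fun i => h0 i.1)
    rcases finrank_cases L with h | h | h
    · left
      have hbot : L = ⊥ := Submodule.finrank_eq_zero.mp h
      have haJ : a ∉ J := fun ha => hsa0 (by
        have h3 := hLJ a ha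
        rwa [hbot, Submodule.mem_bot] at h3)
      have hbJ : b ∉ J := fun hb => hsb0 (by
        have h3 := hLJ b hb
        rwa [hbot, Submodule.mem_bot] at h3)
      refine ⟨hbot, ?_⟩
      obtain ⟨U, hU0, hU1⟩ : ∃ U : Fin 2 → Submodule K K, U 0 = ⊥ ∧ U 1 = ⊥ :=
        ⟨![⊥, ⊥], rfl, rfl⟩
      have hsubP : PSubrep t U I₀ := by
        intro i hi
        have h3 := hLJ i.1 (hI₀mem i hi)
        rw [hbot, Submodule.mem_bot, hts i] at h3
        obtain ⟨h4, h5⟩ := hpair _ _ h3
        rw [Fin.forall_fin_two]
        refine ⟨?_, ?_⟩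
        · rw [hU0, Submodule.mem_bot]; exact h4
        · rw [hU1, Submodule.mem_bot]; exact h5
      rw [h, hsplit, if_neg haJ, if_neg hbJ] at hw0
      have hS : ∑ i ∈ I₀, θ i.1 = 0 := by push_cast at hw0; linarith
      have hwP : PWt K ![c * (θ a - 1), c * (θ b - 1)]
          (fun i : {i : κ // i ≠ a ∧ i ≠ b} => c * θ i.1) U I₀ = 0 := by
        unfold PWt
        rw [Fin.sum_univ_two, ← Finset.mul_sum, hU0, hU1, fr_bot, hS]
        push_cast
        ring
      rcases hPst _ _ hsubP hwP with ⟨_, hI⟩ | ⟨hU, _⟩
      · rw [Finset.eq_empty_iff_forall_notMem]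
        intro i hi
        by_cases hia : i = a
        · rw [hia] at hi; exact haJ hi
        · by_cases hib : i = b
          · rw [hib] at hi; exact hbJ hi
          · have h3 : (⟨i, hia, hib⟩ : {i : κ // i ≠ a ∧ i ≠ b}) ∈ I₀ := by
              rw [hI₀, Finset.mem_subtype]; exact hi
            rw [hI] at h3
            exact absurd h3 (Finset.notMem_empty _)
      · exfalso
        have h3 := congrFun hU 0
        rw [hU0] at h3
        exact hfb1 h3
    · exfalso
      rw [h] at hw0
      by_cases haJ : a ∈ J <;> by_cases hbJ : b ∈ J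
      · have h3 := line_mem L h (hLJ a haJ) (hLJ b hbJ) hsb0
        obtain ⟨x, hx⟩ := Submodule.mem_span_singleton.mp h3
        have h4 := hpair 1 (-x) (by rw [one_smul, neg_smul, hx]; exact add_neg_cancel _)
        exact one_ne_zero h4.1
      · obtain ⟨U, hU0, hU1⟩ : ∃ U : Fin 2 → Submodule K K, U 0 = ⊤ ∧ U 1 = ⊥ :=
          ⟨![⊤, ⊥], rfl, rfl⟩
        have hsubP : PSubrep t U I₀ := by
          intro i hi
          rw [Fin.forall_fin_two]
          refine ⟨?_, ?_⟩
          · rw [hU0]
            exact Submodule.mem_top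
          · rw [hU1, Submodule.mem_bot]
            have h3 := line_mem L h (hLJ i.1 (hI₀mem i hi)) (hLJ a haJ) hsa0
            obtain ⟨x, hx⟩ := Submodule.mem_span_singleton.mp h3
            rw [hts i] at hx
            have h4 := hpair (x - t i 0) (-(t i 1)) (by rw [sub_smul, neg_smul, hx]; abel)
            exact neg_eq_zero.mp h4.2
        rw [hsplit, if_pos haJ, if_neg hbJ] at hw0
        have hS : θ a - 1 + ∑ i ∈ I₀, θ i.1 = 0 := by push_cast at hw0; linarith
        have hwP : PWt K ![c * (θ a - 1), c * (θ b - 1)]
            (fun i : {i : κ // i ≠ a ∧ i ≠ b} => c * θ i.1) U I₀ = 0 := by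
          unfold PWt
          rw [Fin.sum_univ_two, ← Finset.mul_sum, hU0, hU1, fr_bot, fr_top]
          simp only [Matrix.cons_val_zero, Matrix.cons_val_one, Matrix.head_cons]
          push_cast
          linear_combination c * hS
        rcases hPst _ _ hsubP hwP with ⟨hU, _⟩ | ⟨hU, _⟩
        · have h3 := congrFun hU 0
          rw [hU0] at h3
          exact hfb1 h3.symm
        · have h3 := congrFun hU 1
          rw [hU1] at h3
          exact hfb1 h3
      · obtain ⟨U, hU0, hU1⟩ : ∃ U : Fin 2 → Submodule K K, U 0 = ⊥ ∧ U 1 = ⊤ :=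
          ⟨![⊥, ⊤], rfl, rfl⟩
        have hsubP : PSubrep t U I₀ := by
          intro i hi
          rw [Fin.forall_fin_two]
          refine ⟨?_, ?_⟩
          · rw [hU0, Submodule.mem_bot]
            have h3 := line_mem L h (hLJ i.1 (hI₀mem i hi)) (hLJ b hbJ) hsb0
            obtain ⟨x, hx⟩ := Submodule.mem_span_singleton.mp h3
            rw [hts i] at hx
            have h4 := hpair (-(t i 0)) (x - t i 1) (by rw [sub_smul, neg_smul, hx]; abel)
            exact neg_eq_zero.mp h4.1
          · rw [hU1]
            exact Submodule.mem_top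
        rw [hsplit, if_neg haJ, if_pos hbJ] at hw0
        have hS : θ b - 1 + ∑ i ∈ I₀, θ i.1 = 0 := by push_cast at hw0; linarith
        have hwP : PWt K ![c * (θ a - 1), c * (θ b - 1)]
            (fun i : {i : κ // i ≠ a ∧ i ≠ b} => c * θ i.1) U I₀ = 0 := by
          unfold PWt
          rw [Fin.sum_univ_two, ← Finset.mul_sum, hU0, hU1, fr_bot, fr_top]
          simp only [Matrix.cons_val_zero, Matrix.cons_val_one, Matrix.head_cons]
          push_cast
          linear_combination c * hS
        rcases hPst _ _ hsubP hwP with ⟨hU, _⟩ | ⟨hU, _⟩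
        · have h3 := congrFun hU 1
          rw [hU1] at h3
          exact hfb1 h3.symm
        · have h3 := congrFun hU 0
          rw [hU0] at h3
          exact hfb1 h3
      · rw [hsplit, if_neg haJ, if_neg hbJ] at hw0
        push_cast at hw0
        linarith
    · right
      have htop : L = ⊤ := Submodule.eq_top_of_finrank_eq (by rw [h, Module.finrank_fin_fun])
      refine ⟨htop, ?_⟩
      rw [h] at hw0
      have haJ : a ∈ J := by
        by_contra haJ
        rw [hsplit, if_neg haJ] at hw0
        have h3 : (if b ∈ J then θ b else 0) ≤ θ b := by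
          split_ifs
          · exact le_rfl
          · exact h0 b
        push_cast at hw0
        linarith [h1 b, h1 a]
      have hbJ : b ∈ J := by
        by_contra hbJ
        rw [hsplit, if_neg hbJ] at hw0
        have h3 : (if a ∈ J then θ a else 0) ≤ θ a := by
          rw [if_pos haJ]
        push_cast at hw0
        linarith [h1 b, h1 a]
      rw [hsplit, if_pos haJ, if_pos hbJ] at hw0
      have hS : θ a - 1 + (θ b - 1) + ∑ i ∈ I₀, θ i.1 = 0 := by push_cast at hw0; linarith
      obtain ⟨U, hU0, hU1⟩ : ∃ U : Fin 2 → Submodule K K, U 0 = ⊤ ∧ U 1 = ⊤ :=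
        ⟨![⊤, ⊤], rfl, rfl⟩
      have hsubP : PSubrep t U I₀ := by
        intro i hi
        rw [Fin.forall_fin_two]
        refine ⟨?_, ?_⟩
        · rw [hU0]; exact Submodule.mem_top
        · rw [hU1]; exact Submodule.mem_top
      have hwP : PWt K ![c * (θ a - 1), c * (θ b - 1)]
          (fun i : {i : κ // i ≠ a ∧ i ≠ b} => c * θ i.1) U I₀ = 0 := by
        unfold PWt
        rw [Fin.sum_univ_two, ← Finset.mul_sum, hU0, hU1, fr_top]
        simp only [Matrix.cons_val_zero, Matrix.cons_val_one, Matrix.head_cons]
        push_cast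
        linear_combination c * hS
      rcases hPst _ _ hsubP hwP with ⟨hU, _⟩ | ⟨_, hI⟩
      · exfalso
        have h3 := congrFun hU 0
        rw [hU0] at h3
        exact hfb1 h3.symm
      · rw [Finset.eq_univ_iff_forall]
        intro i
        by_cases hia : i = a
        · rw [hia]; exact haJ
        · by_cases hib : i = b
          · rw [hib]; exact hbJ
          · have h3 : (⟨i, hia, hib⟩ : {i : κ // i ≠ a ∧ i ≠ b}) ∈ I₀ := by
              rw [hI]; exact Finset.mem_univ _
            exact hI₀mem _ h3

end Groth.Agent.S18563
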