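import Groth.Statements.S18578
import Groth.Agent.Lib.Helper84.LogD5
import Groth.Agent.Lib.Helper84.RegUFD4
import Groth.Agent.Lib.Helper49.SmoothReg

set_option autoImplicit false
universe u
open LogDiff

namespace Groth.Agent.S18578

open Groth.Agent.Lib.Helper84.LogD

/-- The degree-one case, stated at the local ring of a point. Let k be a field of characteristic zero, B
a smooth k-algebra, R the localization of B at a prime ideal, K the fraction field of R and f_1, …,
f_r prime elements of R. If g is a unit of K whose logarithmic differential g⁻¹dg in Ω_{K/k} is the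
image of a form η ∈ Ω_{R/k} plus an R-linear combination Σ c_i f_i⁻¹df_i, then g⁻¹dg = v⁻¹dv + Σ b_i
f_i⁻¹df_i for a unit v of R and integers b_i. (When the f_i are part of a regular system of
parameters the hypothesis says that g⁻¹dg has at worst logarithmic poles along the divisor f_1⋯f_r =
0 at this point, and the statement is the stalkwise injectivity of 1-forms with logarithmic poles
modulo logarithmic differentials of functions invertible off the divisor into Ω¹_K modulo
logarithmic differentials; it is stated here for arbitrary prime elements f_i.) -/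
theorem result
    {k B R K : Type u} [Field k] [CharZero k] [CommRing B] [Algebra k B] [Algebra.Smooth k B]
    (p : Ideal B) [p.IsPrime] [CommRing R] [Algebra B R] [IsLocalization.AtPrime R p]
    [Algebra k R] [IsScalarTower k B R]
    [Field K] [Algebra R K] [IsFractionRing R K] [Algebra k K] [IsScalarTower k R K]
    {r : ℕ} (f : Fin r → R) (hf : ∀ i, Prime (f i))
    (g : Kˣ) (η : Ω[R⁄k]) (c : Fin r → R)
    (h : (g : K)⁻¹ • KaehlerDifferential.D k K (g : K) =
      KaehlerDifferential.map k k R K η +
        ∑ i, (algebraMap R K (c i) * (algebraMap R K (f i))⁻¹) •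
          KaehlerDifferential.D k K (algebraMap R K (f i))) :
    ∃ (v : Rˣ) (b : Fin r → ℤ),
      (g : K)⁻¹ • KaehlerDifferential.D k K (g : K) =
        (algebraMap R K (v : R))⁻¹ • KaehlerDifferential.D k K (algebraMap R K (v : R)) +
          ∑ i, ((b i : K) * (algebraMap R K (f i))⁻¹) •
            KaehlerDifferential.D k K (algebraMap R K (f i)) := by
  classical
  -- structure of `R`
  have hfsB : Algebra.FormallySmooth k B := inferInstance
  have hfsBR : Algebra.FormallySmooth B R := Algebra.FormallySmooth.of_isLocalization p.primeCompl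
  have hfsR : Algebra.FormallySmooth k R := Algebra.FormallySmooth.comp k B R
  have hregB : IsRegularRing B := Groth.Agent.Lib.Helper49.SmoothReg.isRegularRing_of_smooth k B
  have hregR : IsRegularLocalRing R := IsRegularLocalRing.of_ringEquiv
    (IsLocalization.algEquiv p.primeCompl (Localization.AtPrime p) R).toRingEquiv
  have hdom : IsDomain R := Groth.Agent.S0558.result R
  have hufd : UniqueFactorizationMonoid R :=
    Groth.Agent.Lib.Helper84.RegUFD.uniqueFactorizationMonoid_of_isRegularLocalRing R
  have hinj := IsFractionRing.injective R K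
  -- reduced fraction
  obtain ⟨a, b, hab, hg⟩ := IsFractionRing.exists_reduced_fraction (A := R) (K := K) (g : K)
  have hb0 : (b : R) ≠ 0 := nonZeroDivisors.coe_ne_zero b
  have hbK : algebraMap R K b ≠ 0 := by rw [Ne, map_eq_zero_iff _ hinj]; exact hb0
  rw [IsFractionRing.mk'_eq_div] at hg
  have ha0 : a ≠ 0 := by
    rintro rfl
    rw [map_zero, zero_div] at hg
    exact g.ne_zero hg.symm
  have haK : algebraMap R K a ≠ 0 := by rw [Ne, map_eq_zero_iff _ hinj]; exact ha0
  have h' : dlog k (g : K) = KaehlerDifferential.map k k R K η +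
        ∑ i, (algebraMap R K (c i) * (algebraMap R K (f i))⁻¹) •
          KaehlerDifferential.D k K (algebraMap R K (f i)) := h
  -- prime factors of `a`
  have hA : ∀ q, Prime q → q ∣ a → ∃ i, q ∣ f i := by
    intro q hq hqa
    by_contra hcon
    push Not at hcon
    have hqb : ¬ q ∣ (b : R) := fun hqb => hq.not_isUnit (hab hqa hqb)
    obtain ⟨m, a', ha', haa'⟩ := WfDvdMonoid.max_power_factor ha0 hq.irreducible
    have : (Ideal.span {q}).IsPrime := (Ideal.span_singleton_prime hq.ne_zero).2 hq
    have hgq : (g : K) = (algebraMap R K q) ^ (m : ℤ) * (algebraMap R K a' / algebraMap R K b) := by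
      rw [← hg, haa', map_mul, map_pow, zpow_natCast, mul_div_assoc]
    rw [hgq] at h'
    have hm := val_lemma q hq f hcon (m : ℤ) a' b ha' hqb η c h'
    have hm0 : m = 0 := by exact_mod_cast hm
    rw [hm0, pow_zero, one_mul] at haa'
    exact ha' (haa' ▸ hqa)
  -- prime factors of `b`
  have hB : ∀ q, Prime q → q ∣ (b : R) → ∃ i, q ∣ f i := by
    intro q hq hqb
    by_contra hcon
    push Not at hcon
    have hqa : ¬ q ∣ a := fun hqa => hq.not_isUnit (hab hqa hqb)
    obtain ⟨m, b', hb', hbb'⟩ := WfDvdMonoid.max_power_factor hb0 hq.irreducible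
    have : (Ideal.span {q}).IsPrime := (Ideal.span_singleton_prime hq.ne_zero).2 hq
    have hqK : algebraMap R K q ≠ 0 := by rw [Ne, map_eq_zero_iff _ hinj]; exact hq.ne_zero
    have hgq : (g : K) = (algebraMap R K q) ^ (-(m : ℤ)) * (algebraMap R K a / algebraMap R K b') := by
      rw [← hg, hbb', map_mul, map_pow, zpow_neg, zpow_natCast]
      field_simp
    rw [hgq] at h'
    have hm := val_lemma q hq f hcon (-(m : ℤ)) a b' hqa hb' η c h'
    have hm0 : m = 0 := by
      have : (m : ℤ) = 0 := by linarith
      exact_mod_cast this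
    rw [hm0, pow_zero, one_mul] at hbb'
    exact hb' (hbb' ▸ hqb)
  obtain ⟨va, ea, hva⟩ := exists_unit_mul_prod_pow f hf a ha0 hA
  obtain ⟨vb, eb, hvb⟩ := exists_unit_mul_prod_pow f hf (b : R) hb0 hB
  have hf0 : ∀ i, f i ≠ 0 := fun i => (hf i).ne_zero
  have hda := dlog_unit_mul_prod_pow k (K := K) f hf0 va ea
  have hdb := dlog_unit_mul_prod_pow k (K := K) f hf0 vb eb
  rw [← hva] at hda
  rw [← hvb] at hdb
  have hvaK : algebraMap R K va ≠ 0 := by rw [Ne, map_eq_zero_iff _ hinj]; exact va.ne_zero
  have hvbK : algebraMap R K vb ≠ 0 := by rw [Ne, map_eq_zero_iff _ hinj]; exact vb.ne_zero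
  refine ⟨va * vb⁻¹, fun i => (ea i : ℤ) - (eb i : ℤ), ?_⟩
  have hvv : algebraMap R K ((va * vb⁻¹ : Rˣ) : R) = algebraMap R K va / algebraMap R K vb := by
    rw [Units.val_mul, map_mul, div_eq_mul_inv]
    congr 1
    apply eq_inv_of_mul_eq_one_left
    rw [← map_mul, ← Units.val_mul, inv_mul_cancel, Units.val_one, map_one]
  show dlog k (g : K) = dlog k (algebraMap R K ((va * vb⁻¹ : Rˣ) : R)) + _
  rw [hvv, dlog_div k hvaK hvbK, ← hg, dlog_div k haK hbK, hda, hdb]
  have hsum : ∑ i, (((((ea i : ℤ) - (eb i : ℤ) : ℤ)) : K) * (algebraMap R K (f i))⁻¹) •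
      KaehlerDifferential.D k K (algebraMap R K (f i)) =
      ∑ i, (ea i) • dlog k (algebraMap R K (f i)) - ∑ i, (eb i) • dlog k (algebraMap R K (f i)) := by
    rw [← Finset.sum_sub_distrib]
    apply Finset.sum_congr rfl
    intro i _
    rw [mul_smul, ← dlog_def, Int.cast_smul_eq_zsmul, sub_smul, natCast_zsmul, natCast_zsmul]
  rw [hsum]
  abel

end Groth.Agent.S18578
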