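import Groth.Statements.S18579
import Mathlib.RingTheory.Prime
import Mathlib.Tactic.Ring
import Mathlib.Tactic.LinearCombination
import Mathlib.Tactic.Linarith
import Mathlib.Algebra.BigOperators.Associated

set_option autoImplicit false
universe u
open LogDiff

namespace Groth.Agent.S18579

/-- The exact sequence for units (first Milnor K-groups) when every component of the divisor is removed.
Let k be a field, B a smooth k-algebra, R the localization of B at a prime ideal, K the fraction
field of R and f_1, …, f_r pairwise non-associate prime elements of R. If w is a unit of K such that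
w and w⁻¹ both lie in R[1/(f_1⋯f_r)], i.e. each becomes an element of R after multiplication by a
power of f_1⋯f_r, then there is exactly one pair (v, b) consisting of a unit v of R and integers
b_1, …, b_r with w = v · ∏ f_i^{b_i} in K. (This is the exactness of 0 → Γ(Spec R, O^×) → Γ(Spec R ∖
V(f_1⋯f_r), O^×) → ℤ^r → 0, the last map being the orders along the f_i. The published statement
takes the f_i to be local equations of the components of a normal crossings divisor, over a field of
characteristic zero; this row allows arbitrary pairwise non-associate prime elements and any field.) -/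
theorem result
    {k B R K : Type u} [Field k] [CommRing B] [Algebra k B] [Algebra.Smooth k B]
    (p : Ideal B) [p.IsPrime] [CommRing R] [Algebra B R] [IsLocalization.AtPrime R p]
    [Field K] [Algebra R K] [IsFractionRing R K]
    {r : ℕ} (f : Fin r → R) (hf : ∀ i, Prime (f i)) (hfa : ∀ i j, Associated (f i) (f j) → i = j)
    (w : Kˣ)
    (hw : ∃ (a : R) (n : ℕ), (w : K) * algebraMap R K ((∏ i, f i) ^ n) = algebraMap R K a)
    (hw' : ∃ (a : R) (n : ℕ), (w⁻¹ : Kˣ) * algebraMap R K ((∏ i, f i) ^ n) = algebraMap R K a) :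
    ∃! vb : Rˣ × (Fin r → ℤ),
      (w : K) = algebraMap R K (vb.1 : R) * ∏ i, (algebraMap R K (f i)) ^ (vb.2 i) := by
  classical
  have hinj : Function.Injective (algebraMap R K) := IsFractionRing.injective R K
  have : IsDomain R := Function.Injective.isDomain (algebraMap R K) hinj
  have hfK : ∀ i, algebraMap R K (f i) ≠ 0 := fun i => by
    rw [Ne, map_eq_zero_iff _ hinj]; exact (hf i).ne_zero
  -- divisors of a product of prime powers
  have L : ∀ (s : Finset (Fin r)) (e : Fin r → ℕ) (x y : R), x * y = ∏ i ∈ s, f i ^ e i →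
      ∃ (d : Fin r → ℕ) (b : Rˣ), x = b * ∏ i ∈ s, f i ^ d i := by
    intro s
    induction s using Finset.induction with
    | empty =>
      intro e x y h
      rw [Finset.prod_empty] at h
      exact ⟨fun _ => 0, ⟨x, y, h, by rw [mul_comm]; exact h⟩, by simp⟩
    | insert i s his ih =>
      intro e x y h
      rw [Finset.prod_insert his, mul_comm (f i ^ e i)] at h
      obtain ⟨i', j', b, c, -, hbc, hx, -⟩ := mul_eq_mul_prime_pow (hf i) h
      obtain ⟨d, u, hb⟩ := ih e b c hbc.symm
      refine ⟨Function.update d i i', u, ?_⟩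
      rw [Finset.prod_insert his, Function.update_self, hx, hb]
      have : ∏ j ∈ s, f j ^ Function.update d i i' j = ∏ j ∈ s, f j ^ d j := by
        apply Finset.prod_congr rfl
        intro j hj
        rw [Function.update_of_ne]
        rintro rfl; exact his hj
      rw [this]; ring
  -- uniqueness of exponents
  have U : ∀ (v v' : Rˣ) (c c' : Fin r → ℕ),
      (v : R) * ∏ i, f i ^ c i = v' * ∏ i, f i ^ c' i → ∀ i, ¬ (c' i < c i) := by
    intro v v' c c' h i hlt
    obtain ⟨d, hd⟩ : ∃ d, c i = c' i + (d + 1) := ⟨c i - c' i - 1, by omega⟩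
    rw [← Finset.mul_prod_erase Finset.univ (fun j => f j ^ c j) (Finset.mem_univ i),
      ← Finset.mul_prod_erase Finset.univ (fun j => f j ^ c' j) (Finset.mem_univ i), hd, pow_add] at h
    have h' : f i ^ c' i * ((v : R) * (f i ^ (d + 1) * ∏ j ∈ Finset.univ.erase i, f j ^ c j)) =
        f i ^ c' i * (v' * ∏ j ∈ Finset.univ.erase i, f j ^ c' j) := by
      linear_combination h
    have h'' := mul_left_cancel₀ (pow_ne_zero _ (hf i).ne_zero) h'
    have hdvd : f i ∣ (v' : R) * ∏ j ∈ Finset.univ.erase i, f j ^ c' j := by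
      rw [← h'']
      exact ⟨(v : R) * (f i ^ d * ∏ j ∈ Finset.univ.erase i, f j ^ c j), by ring⟩
    rcases (hf i).dvd_or_dvd hdvd with h1 | h1
    · exact (hf i).not_isUnit (isUnit_of_dvd_unit h1 v'.isUnit)
    · obtain ⟨j, hj, hj'⟩ := ((hf i).dvd_finsetProd_iff _).1 h1
      have h2 := (hf i).dvd_of_dvd_pow hj'
      have h3 := hfa i j ((hf i).associated_of_dvd (hf j) h2)
      exact (Finset.ne_of_mem_erase hj) h3.symm
  obtain ⟨a, n, hn⟩ := hw
  obtain ⟨a', m, hm⟩ := hw'
  have haa : a * a' = ∏ i, f i ^ (n + m) := by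
    apply hinj
    rw [map_mul, ← hn, ← hm, Finset.prod_pow, pow_add, map_mul]
    have hww : (w : K) * ((w⁻¹ : Kˣ) : K) = 1 := by simp
    calc (w : K) * algebraMap R K ((∏ i, f i) ^ n) * (((w⁻¹ : Kˣ) : K) * algebraMap R K ((∏ i, f i) ^ m))
        = ((w : K) * ((w⁻¹ : Kˣ) : K)) * (algebraMap R K ((∏ i, f i) ^ n) * algebraMap R K ((∏ i, f i) ^ m)) := by
          ring
      _ = _ := by rw [hww, one_mul]
  obtain ⟨d, b, hab⟩ := L Finset.univ (fun _ => n + m) a a' haa
  have hex : (w : K) = algebraMap R K (b : R) * ∏ i, algebraMap R K (f i) ^ ((d i : ℤ) - n) := by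
    have hFn : algebraMap R K ((∏ i, f i) ^ n) = ∏ i, algebraMap R K (f i) ^ n := by
      rw [map_pow, map_prod, Finset.prod_pow]
    have hFn0 : (∏ i, algebraMap R K (f i) ^ n) ≠ 0 :=
      Finset.prod_ne_zero_iff.2 (fun i _ => pow_ne_zero _ (hfK i))
    have h1 : ∏ i, algebraMap R K (f i) ^ ((d i : ℤ) - n) =
        (∏ i, algebraMap R K (f i) ^ d i) / ∏ i, algebraMap R K (f i) ^ n := by
      rw [← Finset.prod_div_distrib]
      apply Finset.prod_congr rfl; intro i _
      rw [zpow_sub₀ (hfK i), zpow_natCast, zpow_natCast]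
    rw [h1, ← mul_div_assoc, eq_div_iff hFn0, ← hFn, hn, hab, map_mul, map_prod]
    simp only [map_pow]
  refine ⟨(b, fun i => (d i : ℤ) - n), hex, ?_⟩
  rintro ⟨v', β'⟩ h'
  simp only at h'
  set β : Fin r → ℤ := fun i => (d i : ℤ) - n with hβ
  -- a common shift
  set M : ℕ := ∑ i, ((β i).natAbs + (β' i).natAbs) with hM
  have hMβ : ∀ i, 0 ≤ β i + M := by
    intro i
    have h1 : (β i).natAbs + (β' i).natAbs ≤ M :=
      Finset.single_le_sum (f := fun i => (β i).natAbs + (β' i).natAbs) (fun _ _ => Nat.zero_le _)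
        (Finset.mem_univ i)
    omega
  have hMβ' : ∀ i, 0 ≤ β' i + M := by
    intro i
    have h1 : (β i).natAbs + (β' i).natAbs ≤ M :=
      Finset.single_le_sum (f := fun i => (β i).natAbs + (β' i).natAbs) (fun _ _ => Nat.zero_le _)
        (Finset.mem_univ i)
    omega
  have hshift : ∀ (γ : Fin r → ℤ) (hγ : ∀ i, 0 ≤ γ i + M) (v : Rˣ),
      (algebraMap R K (v : R) * ∏ i, algebraMap R K (f i) ^ γ i) * ∏ i, algebraMap R K (f i) ^ M =
        algebraMap R K ((v : R) * ∏ i, f i ^ (γ i + M).toNat) := by
    intro γ hγ v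
    rw [mul_assoc, ← Finset.prod_mul_distrib, map_mul, map_prod]
    congr 1
    apply Finset.prod_congr rfl; intro i _
    rw [map_pow, ← zpow_natCast (algebraMap R K (f i)) ((γ i + M).toNat), Int.toNat_of_nonneg (hγ i),
      zpow_add₀ (hfK i), zpow_natCast]
  have heq : (b : R) * ∏ i, f i ^ (β i + M).toNat = (v' : R) * ∏ i, f i ^ (β' i + M).toNat := by
    apply hinj
    rw [← hshift β hMβ b, ← hshift β' hMβ' v', ← hex, ← h']
  have hββ' : β' = β := by
    funext i
    have h1 := U b v' _ _ heq i
    have h2 := U v' b _ _ heq.symm i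
    have h3 : (β i + M).toNat = (β' i + M).toNat := by omega
    have h4 := congrArg (fun k : ℕ => (k : ℤ)) h3
    simp only [Int.toNat_of_nonneg (hMβ i), Int.toNat_of_nonneg (hMβ' i)] at h4
    omega
  have hv : v' = b := by
    rw [hββ'] at h'
    have hQ : (∏ i, algebraMap R K (f i) ^ β i) ≠ 0 :=
      Finset.prod_ne_zero_iff.2 (fun i _ => zpow_ne_zero _ (hfK i))
    have h5 : algebraMap R K (v' : R) = algebraMap R K (b : R) :=
      mul_right_cancel₀ hQ (h'.symm.trans hex)
    exact Units.ext (hinj h5)
  rw [hv, hββ']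

end Groth.Agent.S18579
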