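import Groth.Statements.S18580
-- import your own Groth.Agent.* helpers here

set_option autoImplicit false
universe u
open EtBase

namespace Groth.Agent.S18580

open AlgebraicGeometry CategoryTheory in
/-- Let Y be a connected scheme and f : X ⟶ Y a separated morphism that is unramified (locally of finite
type and formally unramified). Then the sections of f correspond bijectively to the connected
components of X mapping isomorphically onto Y: there is a bijection from the set of sections s of f
to the set of open subschemes U of X whose underlying set is a connected component of X and for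
which U ⟶ X ⟶ Y is an isomorphism, sending s to its image. In particular every section is an
isomorphism onto a connected component of X and is determined by its image. (A connected component
mapping isomorphically onto Y is the image of a section, hence open, so restricting to open
components loses nothing. The published statement also assumes Y Noetherian; that hypothesis plays
no role and is omitted.) -/
theorem result {X Y : Scheme.{u}} (f : X ⟶ Y)
    [FormallyUnramified f] [LocallyOfFiniteType f] [IsSeparated f] [ConnectedSpace Y] :
    ∃ e : {s : Y ⟶ X // s ≫ f = 𝟙 Y} ≃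
        {U : X.Opens // (∃ x : X, (U : Set X) = connectedComponent x) ∧ IsIso (U.ι ≫ f)},
      ∀ s : {s : Y ⟶ X // s ≫ f = 𝟙 Y}, ((e s).1 : Set X) = Set.range s.1 := by
  classical
  have hopen : ∀ s : Y ⟶ X, s ≫ f = 𝟙 Y → IsOpenImmersion s := by
    intro s hs
    have hiso : IsIso (s ≫ f) := by rw [hs]; infer_instance
    set gr : Y ⟶ Limits.pullback (s ≫ f) f := Limits.pullback.lift (𝟙 Y) s (by simp) with hgr
    have hsgr : s = gr ≫ Limits.pullback.snd _ _ := by
      rw [hgr, Limits.pullback.lift_snd]
    have h1 : IsOpenImmersion gr :=
      MorphismProperty.of_isPullback (P := @IsOpenImmersion)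
        (Limits.pullback_lift_diagonal_isPullback s f)
        (inferInstance : IsOpenImmersion (Limits.pullback.diagonal f))
    have h2 : IsOpenImmersion (Limits.pullback.snd (s ≫ f) f) := inferInstance
    rw [hsgr]
    infer_instance
  have hclosed : ∀ s : Y ⟶ X, s ≫ f = 𝟙 Y → IsClosedImmersion s := by
    intro s hs
    have : IsClosedImmersion (s ≫ f) := by rw [hs]; infer_instance
    exact IsClosedImmersion.of_comp s f
  obtain ⟨y₀⟩ : Nonempty Y := inferInstance
  have hcomp : ∀ s : Y ⟶ X, s ≫ f = 𝟙 Y → Set.range s = connectedComponent (s y₀) := by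
    intro s hs
    have ho := hopen s hs
    have hc := hclosed s hs
    have hclopen : IsClopen (Set.range s) :=
      ⟨s.isClosedEmbedding.isClosed_range, s.isOpenEmbedding.isOpen_range⟩
    have hpre : _root_.IsPreconnected (Set.range s) := isPreconnected_range s.continuous
    exact Set.Subset.antisymm (hpre.subset_connectedComponent ⟨y₀, rfl⟩)
      (hclopen.connectedComponent_subset ⟨y₀, rfl⟩)
  have hUiso : ∀ (s : Y ⟶ X) (hs : s ≫ f = 𝟙 Y) [IsOpenImmersion s],
      s.opensRange.ι ≫ f = s.isoOpensRange.inv := by
    intro s hs _
    rw [← Scheme.Hom.isoOpensRange_inv_comp, Category.assoc, hs, Category.comp_id]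
  refine ⟨
    { toFun := fun s =>
        haveI := hopen s.1 s.2
        ⟨s.1.opensRange, ⟨s.1 y₀, by
          rw [Scheme.Hom.coe_opensRange]; exact hcomp s.1 s.2⟩, by
          rw [hUiso s.1 s.2]; infer_instance⟩
      invFun := fun U =>
        haveI := U.2.2
        ⟨inv (U.1.ι ≫ f) ≫ U.1.ι, by rw [Category.assoc, IsIso.inv_hom_id]⟩
      left_inv := ?_
      right_inv := ?_ }, ?_⟩
  · intro s
    haveI := hopen s.1 s.2
    apply Subtype.ext
    have h3 := hUiso s.1 s.2
    haveI : IsIso (s.1.opensRange.ι ≫ f) := by rw [h3]; infer_instance
    change inv (s.1.opensRange.ι ≫ f) ≫ s.1.opensRange.ι = s.1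
    have h4 : s.1.opensRange.ι = s.1.isoOpensRange.inv ≫ s.1 :=
      (Scheme.Hom.isoOpensRange_inv_comp s.1).symm
    rw [IsIso.inv_comp_eq, h3]
    exact h4
  · intro U
    haveI := U.2.2
    apply Subtype.ext
    haveI := hopen (inv (U.1.ι ≫ f) ≫ U.1.ι) (by rw [Category.assoc, IsIso.inv_hom_id])
    change (inv (U.1.ι ≫ f) ≫ U.1.ι).opensRange = U.1
    rw [Scheme.Hom.opensRange_comp_of_isIso, Scheme.Opens.opensRange_ι]
  · intro s
    haveI := hopen s.1 s.2
    exact Scheme.Hom.coe_opensRange s.1

end Groth.Agent.S18580
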