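import Groth.Statements.S18581
import Groth.Agent.Lib.Helper49.FibreSk
-- import your own Groth.Agent.* helpers here

set_option autoImplicit false
universe u
open Desc

namespace Groth.Agent.S18581

/-- Let A → B be a local homomorphism of Noetherian local rings which is étale, in the sense that B is
(compatibly with the map from A) the localization of an étale A-algebra E at a prime ideal. Then A
is a Cohen–Macaulay ring exactly when B is one. -/
theorem result (A B : Type u) [CommRing A] [CommRing B]
    [IsLocalRing A] [IsLocalRing B] [IsNoetherianRing A] [IsNoetherianRing B]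
    [Algebra A B] [IsLocalHom (algebraMap A B)]
    (E : Type u) [CommRing E] [Algebra A E] [Algebra.Etale A E] (P : Ideal E) [P.IsPrime]
    [Algebra E B] [IsScalarTower A E B] [IsLocalization.AtPrime B P] :
    LocCoh.IsCohenMacaulayLocalRing A ↔ LocCoh.IsCohenMacaulayLocalRing B := by
  haveI : Algebra.FormallyUnramified E B :=
    Algebra.FormallyUnramified.of_isLocalization P.primeCompl
  haveI : Algebra.FormallyUnramified A B := Algebra.FormallyUnramified.comp A E B
  haveI : Algebra.EssFiniteType E B := Algebra.EssFiniteType.of_isLocalization B P.primeCompl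
  haveI : Algebra.EssFiniteType A B := Algebra.EssFiniteType.comp A E B
  haveI : Module.Flat E B := IsLocalization.flat B P.primeCompl
  haveI : Module.Flat A E := inferInstance
  haveI : Module.Flat A B := Module.Flat.trans A E B
  have hI : IsLocalRing.maximalIdeal B = (IsLocalRing.maximalIdeal A).map (algebraMap A B) :=
    Algebra.FormallyUnramified.map_maximalIdeal.symm
  haveI : IsLocalRing (B ⧸ IsLocalRing.maximalIdeal B) :=
    inferInstanceAs (IsLocalRing (IsLocalRing.ResidueField B))
  have h1 := Groth.Agent.Lib.Helper49.FibreSk.depth_eq_add_depth_fibre A B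
    (IsLocalRing.maximalIdeal B) hI
  have h2 := Groth.Agent.Lib.Helper49.FibreSk.ringKrullDim_eq_add_fibre A B
    (IsLocalRing.maximalIdeal B) hI
  have hr : ringKrullDim (B ⧸ IsLocalRing.maximalIdeal B) = 0 :=
    ringKrullDim_eq_zero_of_field (IsLocalRing.ResidueField B)
  have hd : LocCoh.depth (B ⧸ IsLocalRing.maximalIdeal B) (B ⧸ IsLocalRing.maximalIdeal B) = 0 := by
    have h := Groth.Agent.Lib.Helper29.DepthLib.depth_le_supportDim
      (B ⧸ IsLocalRing.maximalIdeal B) (B ⧸ IsLocalRing.maximalIdeal B)
    rw [Module.supportDim_self_eq_ringKrullDim, hr] at h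
    have h' : LocCoh.depth (B ⧸ IsLocalRing.maximalIdeal B) (B ⧸ IsLocalRing.maximalIdeal B) ≤ 0 := by
      exact_mod_cast h
    exact nonpos_iff_eq_zero.mp h'
  rw [hr, add_zero] at h2
  rw [hd, add_zero] at h1
  constructor
  · intro h
    refine LocCoh.IsCohenMacaulayLocalRing.mk ?_
    have h3 := h.supportDim_eq_depth
    rw [Module.supportDim_self_eq_ringKrullDim] at h3 ⊢
    rw [h2, h1, h3]
  · intro h
    refine LocCoh.IsCohenMacaulayLocalRing.mk ?_
    have h3 := h.supportDim_eq_depth
    rw [Module.supportDim_self_eq_ringKrullDim] at h3 ⊢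
    rw [← h2, ← h1, h3]

end Groth.Agent.S18581
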