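import Groth.Statements.S18587
import Groth.Agent.Lib.Helper60.WittVadic

set_option autoImplicit false
set_option maxHeartbeats 400000
universe u
open CAlg

namespace Groth.Agent.S18587

open Finset Groth.Agent.Lib.Helper60.WittVadic

/-- elementary number theory: solve `E' * P ≡ E mod ℓ` with `E' ∈ [1, ℓ]` -/
theorem nt (P ℓ E : ℕ) (hc : Nat.Coprime P ℓ) (hℓ : 0 < ℓ) (hE1 : 1 ≤ E) (hEℓ : E ≤ ℓ)
    (hP : 1 ≤ P) : ∃ E' k, 1 ≤ E' ∧ E' ≤ ℓ ∧ k ≤ P ∧ E' * P = E + ℓ * k := by
  have h1 : P ^ Nat.totient ℓ ≡ 1 [MOD ℓ] := Nat.ModEq.pow_totient hc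
  have hφ : 0 < Nat.totient ℓ := Nat.totient_pos.mpr hℓ
  set E₀ := E * P ^ (Nat.totient ℓ - 1) with hE₀
  have hE₀1 : 1 ≤ E₀ :=
    Nat.one_le_iff_ne_zero.mpr (Nat.mul_ne_zero (by omega) (pow_ne_zero _ (by omega)))
  set E' := (E₀ - 1) % ℓ + 1 with hE'
  have hE'ℓ : E' ≤ ℓ := by
    have := Nat.mod_lt (E₀ - 1) hℓ
    omega
  have h2 : E' ≡ E₀ [MOD ℓ] := by
    have : (E₀ - 1) % ℓ ≡ E₀ - 1 [MOD ℓ] := Nat.mod_modEq _ _
    have := this.add_right 1
    rwa [Nat.sub_add_cancel hE₀1] at this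
  have h3 : E' * P ≡ E [MOD ℓ] := by
    have h4 : E₀ * P = E * P ^ Nat.totient ℓ := by
      rw [hE₀, mul_assoc, ← pow_succ]
      congr 2
      omega
    calc E' * P ≡ E₀ * P [MOD ℓ] := h2.mul_right P
      _ = E * P ^ Nat.totient ℓ := h4
      _ ≡ E * 1 [MOD ℓ] := h1.mul_left E
      _ = E := mul_one E
  have hE'P : 1 ≤ E' * P := Nat.one_le_iff_ne_zero.mpr (Nat.mul_ne_zero (by omega) (by omega))
  have h5 : E ≤ E' * P := by
    by_contra hlt
    rw [not_le] at hlt
    have h6 : ℓ ∣ E - E' * P := (Nat.modEq_iff_dvd' hlt.le).mp h3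
    have h7 := Nat.le_of_dvd (by omega) h6
    omega
  have h6 : ℓ ∣ E' * P - E := (Nat.modEq_iff_dvd' h5).mp h3.symm
  obtain ⟨k, hk⟩ := h6
  refine ⟨E', k, by omega, hE'ℓ, ?_, by omega⟩
  by_contra hk'
  rw [not_le] at hk'
  have : ℓ * (P + 1) ≤ ℓ * k := Nat.mul_le_mul_left ℓ hk'
  have h8 : E' * P ≤ ℓ * P := Nat.mul_le_mul_right P hE'ℓ
  have : ℓ * (P + 1) = ℓ * P + ℓ := by ring
  omega

section comb

variable {A B : Type*} [CommRing A] [CommRing B] [Algebra A B]

/-- the finite set of monomials `y ^ e`, `1 ≤ e ≤ ℓ` -/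
noncomputable def Mon (ℓ : ℕ) (Y : Finset B) : Finset B :=
  open Classical in (Y ×ˢ range ℓ).image (fun ye => ye.1 ^ (ye.2 + 1))

theorem subset_Mon (ℓ : ℕ) (hℓ : 0 < ℓ) (Y : Finset B) : Y ⊆ Mon ℓ Y := by
  classical
  intro y hy
  rw [Mon, Finset.mem_image]
  exact ⟨(y, 0), Finset.mem_product.mpr ⟨hy, Finset.mem_range.mpr hℓ⟩, by simp⟩

theorem comb (ℓ : ℕ) (hℓ : 0 < ℓ) (Y : Finset B) (a : B → A)
    (ha : ∀ y ∈ Y, algebraMap A B (a y) = y ^ ℓ) (P : ℕ) (hc : Nat.Coprime P ℓ) (hP : 1 ≤ P)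
    (μ : B) (hμ : μ ∈ Mon ℓ Y) :
    ∃ ν ∈ Mon ℓ Y, ∃ cc : A,
      (algebraMap A B (∏ y ∈ Y, a y)) ^ P * μ = algebraMap A B cc * ν ^ P := by
  classical
  rw [Mon, Finset.mem_image] at hμ
  obtain ⟨⟨y, e⟩, hye, rfl⟩ := hμ
  obtain ⟨hy, he⟩ := Finset.mem_product.mp hye
  simp only at hy he ⊢
  rw [Finset.mem_range] at he
  obtain ⟨E', k, hE'1, hE'ℓ, hkP, hEk⟩ := nt P ℓ (e + 1) hc hℓ (by omega) (by omega) hP
  refine ⟨y ^ E', ?_, a y ^ (P - k) * (∏ z ∈ Y.erase y, a z) ^ P, ?_⟩
  · rw [Mon, Finset.mem_image]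
    refine ⟨(y, E' - 1), Finset.mem_product.mpr ⟨hy, Finset.mem_range.mpr (by omega)⟩, ?_⟩
    simp only
    congr 1
    omega
  · have h1 : (y ^ E') ^ P = y ^ (e + 1) * (algebraMap A B (a y)) ^ k := by
      rw [← pow_mul, hEk, pow_add, pow_mul, ← ha y hy]
    have h2 : (algebraMap A B (a y)) ^ P =
        (algebraMap A B (a y)) ^ (P - k) * (algebraMap A B (a y)) ^ k := by
      rw [← pow_add]
      congr 1
      omega
    rw [h1, ← Finset.mul_prod_erase Y a hy, map_mul, mul_pow, h2, map_mul, map_pow, map_pow]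
    ring

end comb


section key

variable {p : ℕ} [hp : Fact p.Prime] {A B : Type*} [CommRing A] [CommRing B] [Algebra A B]
  [CharP B p]

set_option quotPrecheck false
local notation "VB" => (⇑(WittVector.verschiebung : WittVector p B →+ WittVector p B))
local notation "VA" => (⇑(WittVector.verschiebung : WittVector p A →+ WittVector p A))
local notation "FB" => (⇑(WittVector.frobenius : WittVector p B →+* WittVector p B))
local notation "τ" => WittVector.teichmuller p
local notation "Wf" => WittVector.map (algebraMap A B)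

theorem key (n : ℕ) (M : Finset B) (hM : Submodule.span A (M : Set B) = ⊤) (c : A)
    (hstar : ∀ i : ℕ, ∀ μ ∈ M, ∃ ν ∈ M, ∃ cc : A,
      ((algebraMap A B c) ^ p ^ n) ^ p ^ i * μ = algebraMap A B cc * (ν ^ p ^ n) ^ p ^ i)
    (η : WittVector p B) :
    ∃ x : B → WittVector p A, τ ((algebraMap A B c) ^ p ^ n) * η =
      ∑ ν ∈ M, Wf (x ν) * FB^[n] (τ ν) := by
  classical
  have hstar' : ∀ i : ℕ, ∀ μ : B, ∃ ν : B, ∃ cc : A, μ ∈ M → (ν ∈ M ∧
      ((algebraMap A B c) ^ p ^ n) ^ p ^ i * μ = algebraMap A B cc * (ν ^ p ^ n) ^ p ^ i) := by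
    intro i μ
    by_cases hμ : μ ∈ M
    · obtain ⟨ν, hν, cc, h⟩ := hstar i μ hμ
      exact ⟨ν, cc, fun _ => ⟨hν, h⟩⟩
    · exact ⟨0, 0, fun h => absurd h hμ⟩
  choose nu cc hnc using hstar'
  choose al nx hstep using (fun η : WittVector p B => exists_expansion_step (p := p) (A := A) M hM η)
  set e : ℕ → WittVector p B := fun i => nx^[i] η with he
  set S : ℕ → WittVector p B := fun i =>
    ∑ μ ∈ M, τ (algebraMap A B (al (e i) μ)) * τ μ with hS
  have hA : ∀ m, η = ∑ i ∈ range m, VB^[i] (S i) + VB^[m] (e m) := by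
    intro m
    induction m with
    | zero => simp [he]
    | succ m ih =>
      have h1 : e m = S m + WittVector.verschiebung (e (m + 1)) := by
        have := hstep (e m)
        simp only [he, hS, Function.iterate_succ_apply'] at this ⊢
        exact this
      rw [Finset.sum_range_succ, add_assoc, Function.iterate_succ_apply, ← iterate_verschiebung_add,
        ← h1]
      exact ih
  set z : ℕ → B → WittVector p A := fun i ν =>
    ∑ μ ∈ M.filter (fun μ => nu i μ = ν), τ (cc i μ * al (e i) μ) with hz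
  choose x hx using (fun ν : B => exists_vsum (p := p) (fun i => z i ν))
  have hB : ∀ i, τ ((algebraMap A B c) ^ p ^ n) * VB^[i] (S i) =
      ∑ ν ∈ M, Wf (VA^[i] (z i ν)) * FB^[n] (τ ν) := by
    intro i
    rw [teichmuller_mul_iterate_verschiebung]
    have h1 : ∀ ν ∈ M, Wf (VA^[i] (z i ν)) * FB^[n] (τ ν) =
        VB^[i] (Wf (z i ν) * τ ((ν ^ p ^ n) ^ p ^ i)) := by
      intro ν _
      rw [map_iterate_verschiebung, WittVector.iterate_verschiebung_mul_left,
        iterate_frobenius_teichmuller, iterate_frobenius_teichmuller]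
    rw [Finset.sum_congr rfl h1, ← iterate_verschiebung_sum]
    congr 1
    rw [hS]
    simp only
    rw [Finset.mul_sum]
    have h2 : ∀ ν ∈ M, Wf (z i ν) * τ ((ν ^ p ^ n) ^ p ^ i) =
        ∑ μ ∈ M.filter (fun μ => nu i μ = ν), τ (algebraMap A B (cc i μ * al (e i) μ)) *
          τ ((nu i μ ^ p ^ n) ^ p ^ i) := by
      intro ν _
      rw [hz]
      simp only
      rw [map_sum, Finset.sum_mul]
      refine Finset.sum_congr rfl (fun μ hμ => ?_)
      rw [(Finset.mem_filter.mp hμ).2, WittVector.map_teichmuller]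
    rw [Finset.sum_congr rfl h2,
      Finset.sum_fiberwise_of_maps_to (s := M) (t := M) (g := nu i) (fun μ hμ => (hnc i μ hμ).1)]
    refine Finset.sum_congr rfl (fun μ hμ => ?_)
    rw [← map_mul, ← map_mul, ← map_mul, ← mul_assoc, mul_comm _ (algebraMap A B (al (e i) μ)),
      mul_assoc, (hnc i μ hμ).2, map_mul (algebraMap A B)]
    ring_nf
  refine ⟨x, ?_⟩
  rw [← sub_eq_zero]
  apply eq_zero_of_forall_exists
  intro m
  choose w hw using (fun ν : B => hx ν m)
  have e1 : τ ((algebraMap A B c) ^ p ^ n) * η =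
      ∑ i ∈ range m, τ ((algebraMap A B c) ^ p ^ n) * VB^[i] (S i) +
        VB^[m] (τ (((algebraMap A B c) ^ p ^ n) ^ p ^ m) * e m) := by
    conv_lhs => rw [hA m]
    rw [mul_add, Finset.mul_sum, teichmuller_mul_iterate_verschiebung]
  have e2 : ∑ ν ∈ M, Wf (x ν) * FB^[n] (τ ν) =
      ∑ i ∈ range m, ∑ ν ∈ M, Wf (VA^[i] (z i ν)) * FB^[n] (τ ν) +
        VB^[m] (∑ ν ∈ M, Wf (w ν) * FB^[m] (FB^[n] (τ ν))) := by
    rw [Finset.sum_comm, iterate_verschiebung_sum, ← Finset.sum_add_distrib]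
    refine Finset.sum_congr rfl (fun ν _ => ?_)
    rw [hw ν, map_add, map_sum, add_mul, Finset.sum_mul, map_iterate_verschiebung (i := m),
      WittVector.iterate_verschiebung_mul_left]
  refine ⟨τ (((algebraMap A B c) ^ p ^ n) ^ p ^ m) * e m -
    ∑ ν ∈ M, Wf (w ν) * FB^[m] (FB^[n] (τ ν)), ?_⟩
  rw [e1, e2, iterate_verschiebung_sub, Finset.sum_congr rfl (fun i _ => hB i)]
  abel

end key

/-- Affine form with D = 0: let p be a prime, ℓ ≥ 1 an integer not divisible by p and n ≥ 1. Let A → B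
be an injective ring homomorphism of integral domains of characteristic p such that B is spanned as
an A-module by finitely many elements y with y ^ ℓ in the image of A (a weakly ℓ-cyclic extension).
Then for every p-typical Witt vector ζ over B in the image of the n-fold Verschiebung there is a
nonzero a in A such that the product of the Teichmüller representative of (the image of) a with ζ
lies in the ideal of W(B) generated by the images of the n-fold Verschiebungs of Witt vectors over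
A. (This is the case D = 0 of the published statement, written for the coordinate rings; the
published statement allows a twist by a real Weil divisor D and assumes the rings excellent and
normal, hypotheses which the case D = 0 does not use.) -/
theorem result
    (p : ℕ) [Fact p.Prime] (ℓ n : ℕ) (hℓ : 0 < ℓ) (hpℓ : ¬ p ∣ ℓ) (hn : 0 < n)
    (A B : Type u) [CommRing A] [CommRing B] [IsDomain A] [IsDomain B] [Algebra A B]
    [CharP A p] [CharP B p] (hinj : Function.Injective (algebraMap A B))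
    (y : Finset B) (hspan : Submodule.span A (y : Set B) = ⊤)
    (hpow : ∀ b ∈ y, b ^ ℓ ∈ Set.range (algebraMap A B))
    (ζ : WittVector p B)
    (hζ : ∃ η : WittVector p B, (⇑(WittVector.verschiebung : WittVector p B →+ WittVector p B))^[n] η = ζ) :
    ∃ a : A, a ≠ 0 ∧ WittVector.teichmuller p (algebraMap A B a) * ζ ∈
      Ideal.span (Set.range (fun x : WittVector p A =>
        WittVector.map (algebraMap A B) ((⇑(WittVector.verschiebung : WittVector p A →+ WittVector p A))^[n] x))) := by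
  classical
  obtain ⟨η, rfl⟩ := hζ
  set Y' := y.erase 0 with hY'
  have hspan' : Submodule.span A (Y' : Set B) = ⊤ := by
    rw [hY', Finset.coe_erase, Submodule.span_sdiff_singleton_zero, hspan]
  have hex : ∀ b : B, ∃ a : A, b ∈ Y' → algebraMap A B a = b ^ ℓ := by
    intro b
    by_cases hb : b ∈ Y'
    · obtain ⟨a, ha⟩ := hpow b (Finset.mem_of_mem_erase hb)
      exact ⟨a, fun _ => ha⟩
    · exact ⟨0, fun h => absurd h hb⟩
  choose a ha using hex
  set c := ∏ b ∈ Y', a b with hc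
  have hc0 : c ≠ 0 := by
    rw [hc, Finset.prod_ne_zero_iff]
    intro b hb h0
    have h1 := ha b hb
    rw [h0, map_zero] at h1
    exact (Finset.ne_of_mem_erase hb) (pow_eq_zero_iff (by omega) |>.mp h1.symm)
  have hM : Submodule.span A ((Mon ℓ Y' : Finset B) : Set B) = ⊤ := by
    rw [eq_top_iff]
    calc (⊤ : Submodule A B) = Submodule.span A (Y' : Set B) := hspan'.symm
      _ ≤ _ := Submodule.span_mono (by exact_mod_cast subset_Mon ℓ hℓ Y')
  have hcop : Nat.Coprime p ℓ := (Nat.Prime.coprime_iff_not_dvd (Fact.out)).mpr hpℓ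
  have hstar : ∀ i : ℕ, ∀ μ ∈ Mon ℓ Y', ∃ ν ∈ Mon ℓ Y', ∃ cc : A,
      ((algebraMap A B c) ^ p ^ n) ^ p ^ i * μ = algebraMap A B cc * (ν ^ p ^ n) ^ p ^ i := by
    intro i μ hμ
    obtain ⟨ν, hν, cc, h⟩ := comb ℓ hℓ Y' a ha (p ^ n * p ^ i)
      (Nat.Coprime.mul_left (hcop.pow_left n) (hcop.pow_left i))
      (Nat.one_le_iff_ne_zero.mpr (Nat.mul_ne_zero (pow_ne_zero _ (Fact.out : p.Prime).ne_zero)
        (pow_ne_zero _ (Fact.out : p.Prime).ne_zero))) μ hμ
    exact ⟨ν, hν, cc, by rw [← pow_mul, ← pow_mul]; exact h⟩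
  obtain ⟨x, hx⟩ := key (p := p) n (Mon ℓ Y') hM c hstar η
  refine ⟨c, hc0, ?_⟩
  have h2 : WittVector.teichmuller p (algebraMap A B c) *
      (⇑(WittVector.verschiebung : WittVector p B →+ WittVector p B))^[n] η =
      ∑ ν ∈ Mon ℓ Y', WittVector.map (algebraMap A B)
        ((⇑(WittVector.verschiebung : WittVector p A →+ WittVector p A))^[n] (x ν)) *
          WittVector.teichmuller p ν := by
    rw [teichmuller_mul_iterate_verschiebung, hx, iterate_verschiebung_sum]
    refine Finset.sum_congr rfl (fun ν _ => ?_)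
    rw [map_iterate_verschiebung, WittVector.iterate_verschiebung_mul_left]
  rw [h2]
  exact Ideal.sum_mem _ (fun ν _ => Ideal.mul_mem_right _ _ (Ideal.subset_span ⟨x ν, rfl⟩))

end Groth.Agent.S18587
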