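import Groth.Statements.S18596
import Groth.Agent.Lib.Helper10.ProperTame

set_option linter.style.haveILetI false

set_option autoImplicit false
universe u
open EtRam

namespace Groth.Agent.S18596

open AlgebraicGeometry CategoryTheory in
/-- Let k be a perfect field, X a k-scheme proper over k and f : Y ⟶ X finite étale. Curve-tameness of f
asks that the pullback of f to any regular k-curve mapping to X be tamely ramified at every place of
the curve's function field at infinity; proper targets make every finite étale cover curve-tame.
Stated here unfolded at a single place, in the form the argument yields: for every point y of Y with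
image x, and every discrete valuation ring A of the residue field κ(x) through which Spec κ(x) ⟶
Spec k factors, the finite separable extension κ(y) of κ(x) is tamely ramified with respect to A. -/
theorem result
    (k : Type u) [Field k] [PerfectField k] {X Y : Scheme.{u}} (s : X ⟶ Spec (CommRingCat.of k))
    [IsProper s] (f : Y ⟶ X) [IsFinite f] [Etale f] (y : Y)
    (A : ValuationSubring (X.residueField (f.base y))) [IsDiscreteValuationRing A]
    (a : Spec (CommRingCat.of A) ⟶ Spec (CommRingCat.of k))
    (ha : Spec.map (CommRingCat.ofHom A.subtype) ≫ a = X.fromSpecResidueField (f.base y) ≫ s) :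
    EtRam.IsTamelyRamified A ((f.residueFieldMap y).hom.comp A.subtype) := by
  obtain ⟨ℓ, hℓ1, -⟩ := Groth.Agent.Lib.Helper10.ProperTame.exists_lift s (f.base y) A a ha
  obtain ⟨C, instC, algC, het, hfin, φ, hφ, hfrac⟩ :=
    Groth.Agent.Lib.Helper10.ProperTame.exists_algebra f y A ℓ hℓ1
  haveI : Algebra.IsIntegral A C := inferInstance
  have hinj : Function.Injective (φ.comp (algebraMap A C)) := by
    rw [hφ]
    intro a₁ a₂ h12
    apply Subtype.val_injective
    exact (f.residueFieldMap y).hom.injective h12
  have key := Groth.Agent.Lib.Helper10.FinEtDVR.isTamelyRamified_of_integral_etale A C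
    (Y.residueField y) φ hinj hfrac
  rw [hφ] at key
  exact key

end Groth.Agent.S18596
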