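import Groth.Statements.S18597
import Groth.Agent.Lib.Helper10.GalTame
import Groth.Agent.Lib.Helper10.GalCover

set_option linter.style.haveILetI false

set_option autoImplicit false
universe u
open EtRam

namespace Groth.Agent.S18597

open AlgebraicGeometry CategoryTheory in
/-- Let k be a perfect field and X a k-scheme. A finite étale cover of X by a torsor under a finite
group of order prime to the characteristic of k is curve-tame, i.e. tamely ramified at every place
at infinity of every regular k-curve mapping to X. Stated here unfolded at a single place and for a
connected Galois cover Z ⟶ X (the X-automorphisms of Z act transitively on geometric fibres) whose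
automorphism group has order invertible in k: for every point z of Z with image x and every discrete
valuation ring A of the residue field κ(x) through which Spec κ(x) ⟶ Spec k factors (so A contains k
and has the residue characteristic of k), the finite separable extension κ(z) of κ(x) is tamely
ramified with respect to A. Without the factorisation through Spec A the claim fails already for X =
Spec ℚ, Z = Spec ℚ(√2) and A = ℤ localised at 2. (The published statement is for torsors under a
finite abelian group of order prime to the characteristic; a connected component of such a torsor is
a Galois cover of this kind.) -/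
theorem result
    (k : Type u) [Field k] [PerfectField k] {X : Scheme.{u}} (s : X ⟶ Spec (CommRingCat.of k))
    (Z : FEt.Cat X) (hZ : PiSp.IsGaloisCover Z) (hn : (Nat.card (Aut Z) : k) ≠ 0) (z : Z.left)
    (A : ValuationSubring (X.residueField (Z.hom.base z))) [IsDiscreteValuationRing A]
    (a : Spec (CommRingCat.of A) ⟶ Spec (CommRingCat.of k))
    (ha : Spec.map (CommRingCat.ofHom A.subtype) ≫ a = X.fromSpecResidueField (Z.hom.base z) ≫ s) :
    EtRam.IsTamelyRamified A ((Z.hom.residueFieldMap z).hom.comp A.subtype) := by
  letI algKL : Algebra (X.residueField (Z.hom.base z)) (Z.left.residueField z) :=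
    (Z.hom.residueFieldMap z).hom.toAlgebra
  haveI : IsFinite Z.hom := Z.prop.1
  haveI : Etale Z.hom := Z.prop.2
  have hfs := Groth.Agent.Lib.Helper10.GalCover.finite_separable Z.hom z
  haveI hfin : FiniteDimensional (X.residueField (Z.hom.base z)) (Z.left.residueField z) := hfs.1
  haveI hsep : Algebra.IsSeparable (X.residueField (Z.hom.base z)) (Z.left.residueField z) :=
    hfs.2
  obtain ⟨hnormal, hdvd⟩ := Groth.Agent.Lib.Helper10.GalCover.normal_and_finrank_dvd Z z hZ
  haveI : IsGalois (X.residueField (Z.hom.base z)) (Z.left.residueField z) :=
    isGalois_iff.mpr ⟨hsep, hnormal⟩
  -- the residue characteristic is that of `k`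
  let a₀ : k →+* A := (Spec.preimage a).hom
  have hm : ∀ p : ℕ, p.Prime → CharP (IsLocalRing.ResidueField A) p →
      ¬ p ∣ Module.finrank (X.residueField (Z.hom.base z)) (Z.left.residueField z) := by
    intro p hp hc hd
    haveI : CharP k p :=
      (RingHom.charP_iff_charP ((IsLocalRing.residue A).comp a₀) p).mpr hc
    apply hn
    rw [CharP.cast_eq_zero_iff k p]
    exact hd.trans hdvd
  exact Groth.Agent.Lib.Helper10.GalTame.isTamelyRamified_of_isGalois A
    (X.residueField (Z.hom.base z)) (Z.left.residueField z) hm

end Groth.Agent.S18597
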