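import Groth.Statements.S18598
import Mathlib

set_option autoImplicit false
universe u
open SSRed

namespace Groth.Agent.S18598

open Polynomial in
/-- key divisibility: `(1-α)^φ(m) ∣ Φ_m(1)` -/
theorem key (O : Type u) [CommRing O] [IsDomain O] (α : O) (m : ℕ) (hm : 0 < m)
    (hα : IsPrimitiveRoot α m) :
    (1 - α) ^ (Nat.totient m) ∣ eval 1 (cyclotomic m O) := by
  haveI : NeZero m := ⟨hm.ne'⟩
  rw [cyclotomic_eq_prod_X_sub_primitiveRoots hα, eval_prod, ← hα.card_primitiveRoots,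
    ← Finset.prod_const]
  apply Finset.prod_dvd_prod_of_dvd
  intro μ hμ
  rw [mem_primitiveRoots hm] at hμ
  obtain ⟨i, _, rfl⟩ := hα.eq_pow_of_pow_eq_one hμ.pow_eq_one
  simp only [eval_sub, eval_X, eval_C]
  simpa using sub_dvd_pow_sub_pow (1:O) α i

theorem natcast_dvd {O : Type u} [CommRing O] {a b : ℕ} (h : a ∣ b) : (a : O) ∣ (b : O) := by
  obtain ⟨c, rfl⟩ := h
  exact ⟨(c : O), by push_cast; ring⟩

theorem num (ℓ k a : ℕ) (hℓ2 : 2 ≤ ℓ) (ha : 1 ≤ a) (hC : a * (ℓ ^ k * (ℓ - 1)) ≤ 2) :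
    (ℓ ^ a = 2 ∧ (ℓ ^ (k + 1) = 2 ∨ ℓ ^ (k + 1) = 4)) ∨ (ℓ ^ a = 3 ∧ ℓ ^ (k + 1) = 3) ∨
      (ℓ ^ a = 4 ∧ ℓ ^ (k + 1) = 2) := by
  have hφ : 0 < ℓ ^ k * (ℓ - 1) := Nat.mul_pos (Nat.pow_pos (by omega)) (by omega)
  have hk1 : ℓ ^ k * (ℓ - 1) ≤ 2 := by
    calc ℓ ^ k * (ℓ - 1) = 1 * (ℓ ^ k * (ℓ - 1)) := (one_mul _).symm
      _ ≤ a * (ℓ ^ k * (ℓ - 1)) := Nat.mul_le_mul_right _ ha
      _ ≤ 2 := hC
  have hℓ3 : ℓ ≤ 3 := by
    have : 1 ≤ ℓ ^ k := Nat.one_le_pow _ _ (by omega)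
    have : 1 * (ℓ - 1) ≤ ℓ ^ k * (ℓ - 1) := Nat.mul_le_mul_right _ this
    omega
  have hkle : k ≤ 1 := by
    by_contra hk
    have hk : 2 ≤ k := by omega
    have : ℓ ^ 2 ≤ ℓ ^ k := Nat.pow_le_pow_right (by omega) hk
    have h4 : 4 ≤ ℓ ^ 2 := by nlinarith
    have : ℓ ^ k * 1 ≤ ℓ ^ k * (ℓ - 1) := Nat.mul_le_mul_left _ (by omega)
    omega
  have hale : a ≤ 2 := by
    calc a = a * 1 := (mul_one _).symm
      _ ≤ a * (ℓ ^ k * (ℓ - 1)) := Nat.mul_le_mul_left _ hφ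
      _ ≤ 2 := hC
  clear hφ hk1
  interval_cases ℓ <;> interval_cases k <;> interval_cases a <;> revert hC <;> decide

open Polynomial in
theorem main (O : Type u) [CommRing O] [IsDomain O] [CharZero O]
    (n : ℕ) (hn : 2 ≤ n) (hO : ∀ p : ℕ, p.Prime → p ∣ n → ¬ IsUnit (p : O))
    (α : O) (hα : IsOfFinOrder α) (h : (n : O) ∣ (α - 1) ^ 2) :
    orderOf α = 1 ∨ (n = 2 ∧ (orderOf α = 2 ∨ orderOf α = 4)) ∨ (n = 3 ∧ orderOf α = 3) ∨
      (n = 4 ∧ orderOf α = 2) := by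
  set m := orderOf α with hmdef
  have hm : 0 < m := hα.orderOf_pos
  have hprim : IsPrimitiveRoot α m := IsPrimitiveRoot.orderOf α
  have hφ : 0 < Nat.totient m := Nat.totient_pos.mpr hm
  have hdiv : (n : O) ^ (Nat.totient m) ∣ (eval 1 (cyclotomic m O)) ^ 2 := by
    have h1 : (n : O) ^ (Nat.totient m) ∣ ((α - 1) ^ 2) ^ (Nat.totient m) := pow_dvd_pow_of_dvd h _
    have h2 : ((α - 1) ^ 2) ^ (Nat.totient m) = ((1 - α) ^ (Nat.totient m)) ^ 2 := by
      rw [← pow_mul, ← pow_mul, mul_comm, ← neg_sub α 1, neg_pow, Even.neg_one_pow ⟨_, by ring⟩, one_mul]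
    rw [h2] at h1
    exact h1.trans (pow_dvd_pow_of_dvd (key O α m hm hprim) 2)
  -- non-unit consequences
  have hnu : ∀ q : ℕ, q.Prime → q ∣ n → ∀ j : ℕ, 0 < j → ¬ IsUnit ((q : O) ^ j) := by
    intro q hq hqn j hj hu
    exact hO q hq hqn ((isUnit_pow_iff hj.ne').mp hu)
  by_cases hm1 : m = 1
  · exact Or.inl hm1
  right
  by_cases hpp : ∃ p k : ℕ, p.Prime ∧ p ^ k = m
  · obtain ⟨ℓ, r, hℓ, hr⟩ := hpp
    obtain ⟨k, rfl⟩ : ∃ k, r = k + 1 := by
      rcases r with _ | k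
      · exact absurd (by simpa using hr.symm) hm1
      · exact ⟨k, rfl⟩
    haveI : Fact ℓ.Prime := ⟨hℓ⟩
    have hev : eval 1 (cyclotomic m O) = (ℓ : O) := by
      rw [← hr]; exact eval_one_cyclotomic_prime_pow k
    rw [hev] at hdiv
    have hφv : Nat.totient m = ℓ ^ k * (ℓ - 1) := by
      rw [← hr]; exact Nat.totient_prime_pow_succ hℓ k
    -- every prime factor of n is ℓ
    have hA : ∀ q : ℕ, q.Prime → q ∣ n → q = ℓ := by
      intro q hq hqn
      by_contra hne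
      have hcop : Nat.Coprime (q ^ (Nat.totient m)) (ℓ ^ 2) :=
        Nat.Coprime.pow _ _ ((Nat.coprime_primes hq hℓ).mpr hne)
      have hcopZ : IsCoprime ((q : ℤ) ^ (Nat.totient m)) ((ℓ : ℤ) ^ 2) := by
        exact_mod_cast Nat.isCoprime_iff_coprime.mpr hcop
      have hcopO := hcopZ.map (Int.castRingHom O)
      simp only [map_pow, eq_intCast, Int.cast_natCast] at hcopO
      have hd : (q : O) ^ (Nat.totient m) ∣ (ℓ : O) ^ 2 :=
        (pow_dvd_pow_of_dvd (natcast_dvd hqn) _).trans hdiv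
      exact hnu q hq hqn _ hφ (hcopO.isUnit_of_dvd' dvd_rfl hd)
    have hn0 : n ≠ 0 := by omega
    have hB : n = ℓ ^ (n.primeFactorsList.length) :=
      Nat.eq_prime_pow_of_unique_prime_dvd hn0 (fun {d} hd hdn => hA d hd hdn)
    set a := n.primeFactorsList.length with hadef
    have ha : 1 ≤ a := by
      rcases Nat.eq_zero_or_pos a with h0 | h0
      · rw [h0, pow_zero] at hB; omega
      · exact h0
    have hℓn : ℓ ∣ n := by rw [hB]; exact dvd_pow_self ℓ (by omega)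
    have hC : a * Nat.totient m ≤ 2 := by
      by_contra hlt
      have hlt : 3 ≤ a * Nat.totient m := by omega
      have e1 : (n : O) ^ (Nat.totient m) = (ℓ : O) ^ 2 * (ℓ : O) ^ (a * Nat.totient m - 2) := by
        rw [← pow_add, show 2 + (a * Nat.totient m - 2) = a * Nat.totient m by omega, pow_mul]
        congr 1
        conv_lhs => rw [hB]
        push_cast; rfl
      rw [e1] at hdiv
      have hℓ0 : ((ℓ : O) ^ 2) ≠ 0 := pow_ne_zero _ (Nat.cast_ne_zero.mpr hℓ.ne_zero)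
      have : (ℓ : O) ^ (a * Nat.totient m - 2) ∣ 1 := by
        have := hdiv
        rw [show ((ℓ : O) ^ 2) = (ℓ : O) ^ 2 * 1 by ring] at this
        conv at this => lhs; rw [mul_one]
        exact (mul_dvd_mul_iff_left hℓ0).mp this
      exact hnu ℓ hℓ hℓn _ (by omega) (isUnit_of_dvd_one this)
    rw [hφv] at hC
    rw [← hr, hB]
    exact num ℓ k a hℓ.two_le ha hC
  · exfalso
    have hpp' : ∀ {p : ℕ}, p.Prime → ∀ k : ℕ, p ^ k ≠ m := by
      intro p hp k hk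
      exact hpp ⟨p, k, hp, hk⟩
    rw [eval_one_cyclotomic_not_prime_pow hpp', one_pow] at hdiv
    obtain ⟨q, hq, hqn⟩ := Nat.exists_prime_and_dvd (show n ≠ 1 by omega)
    have : (q : O) ^ (Nat.totient m) ∣ 1 := (pow_dvd_pow_of_dvd (natcast_dvd hqn) _).trans hdiv
    exact hnu q hq hqn _ hφ (isUnit_of_dvd_one this)
/-- Let O be a commutative integral domain of characteristic zero, n a positive integer such that no
prime number dividing n is a unit in O, and α an element of O of finite multiplicative order such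
that (α − 1)² is divisible by n in O. Then α = 1 if n ≥ 5, α² = 1 if n = 4, α³ = 1 if n = 3, and α⁴
= 1 if n = 2. -/
theorem result (O : Type u) [CommRing O] [IsDomain O] [CharZero O]
    (n : ℕ) (hn : 0 < n) (hO : ∀ p : ℕ, p.Prime → p ∣ n → ¬ IsUnit (p : O))
    (α : O) (hα : IsOfFinOrder α) (h : (n : O) ∣ (α - 1) ^ 2) :
    (5 ≤ n → α = 1) ∧ (n = 4 → α ^ 2 = 1) ∧ (n = 3 → α ^ 3 = 1) ∧ (n = 2 → α ^ 4 = 1) := by
  by_cases hn1 : n = 1
  · subst hn1
    refine ⟨fun h => by omega, fun h => by omega, fun h => by omega, fun h => by omega⟩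
  have hmain := main O n (by omega) hO α hα h
  have hpow := pow_orderOf_eq_one α
  refine ⟨fun h5 => ?_, fun h4 => ?_, fun h3 => ?_, fun h2 => ?_⟩
  · rcases hmain with h1 | ⟨h', _⟩ | ⟨h', _⟩ | ⟨h', _⟩
    · exact orderOf_eq_one_iff.mp h1
    all_goals omega
  · rcases hmain with h1 | ⟨h', _⟩ | ⟨h', _⟩ | ⟨h', hm⟩
    · rw [orderOf_eq_one_iff.mp h1]; simp
    · omega
    · omega
    · rw [hm] at hpow; exact hpow
  · rcases hmain with h1 | ⟨h', _⟩ | ⟨h', hm⟩ | ⟨h', hm⟩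
    · rw [orderOf_eq_one_iff.mp h1]; simp
    · omega
    · rw [hm] at hpow; exact hpow
    · omega
  · rcases hmain with h1 | ⟨h', hm⟩ | ⟨h', hm⟩ | ⟨h', hm⟩
    · rw [orderOf_eq_one_iff.mp h1]; simp
    · rcases hm with hm | hm
      · rw [hm] at hpow
        calc α ^ 4 = (α ^ 2) ^ 2 := by ring
          _ = 1 := by rw [hpow]; simp
      · rw [hm] at hpow; exact hpow
    · omega
    · omega

end Groth.Agent.S18598
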