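import Groth.Statements.S18599
import Groth.Agent.Lib.Helper55.FunFld.Tors2
open Groth.Agent.Lib.Helper55

set_option autoImplicit false
universe u
open SSRed

namespace Groth.Agent.S18599

/-- Let ℓ be a prime number, M a free ℤ_ℓ-module of finite rank, A an automorphism of M with A^ℓ = 1,
and c the rank of M minus the rank of the submodule of A-invariants. Assume that ℓ = 2 and A − 1 ∈
2·End(M), or that ℓ = 2 and (A − 1)² ∈ 4·End(M), or that ℓ = 3 and (A − 1)² ∈ 3·End(M). Then the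
torsion submodule of M/(A − 1)M is a vector space over ℤ/ℓℤ of dimension c/(ℓ − 1): it is killed by
ℓ and has ℓ^r elements for some r with r(ℓ − 1) = c. -/
theorem result (ℓ : ℕ) [Fact ℓ.Prime]
    (M : Type u) [AddCommGroup M] [Module ℤ_[ℓ] M] [Module.Free ℤ_[ℓ] M] [Module.Finite ℤ_[ℓ] M]
    (A : M ≃ₗ[ℤ_[ℓ]] M) (hA : A ^ ℓ = 1) (f : Module.End ℤ_[ℓ] M) (hf : f = (A : M →ₗ[ℤ_[ℓ]] M) - 1)
    (hcase : (ℓ = 2 ∧ ∃ B : Module.End ℤ_[ℓ] M, f = (2 : ℤ_[ℓ]) • B) ∨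
      (ℓ = 2 ∧ ∃ B : Module.End ℤ_[ℓ] M, f ^ 2 = (4 : ℤ_[ℓ]) • B) ∨
      (ℓ = 3 ∧ ∃ B : Module.End ℤ_[ℓ] M, f ^ 2 = (3 : ℤ_[ℓ]) • B))
    (c : ℕ) (hc : c = Module.finrank ℤ_[ℓ] M - Module.finrank ℤ_[ℓ] (LinearMap.ker f)) :
    (∀ x ∈ Submodule.torsion ℤ_[ℓ] (M ⧸ LinearMap.range f), (ℓ : ℤ_[ℓ]) • x = 0) ∧
      ∃ r : ℕ, r * (ℓ - 1) = c ∧
        Nat.card (Submodule.torsion ℤ_[ℓ] (M ⧸ LinearMap.range f)) = ℓ ^ r := by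
  have hA' : (f + 1) ^ ℓ = 1 := by
    have h1 : f + 1 = ((A : M →ₗ[ℤ_[ℓ]] M) : Module.End ℤ_[ℓ] M) := by rw [hf]; abel
    rw [h1, ← Tors.coe_pow_linearEquiv, hA]
    rfl
  have hpow : ∀ n : ℕ, n = ℓ → (f + 1) ^ n = 1 := by
    rintro n rfl
    exact hA'
  rcases hcase with ⟨h2, hB⟩ | ⟨h2, hB⟩ | ⟨h3, hB⟩
  · have hA2 : (f + 1) ^ 2 = 1 := hpow 2 h2.symm
    obtain ⟨k1, k2⟩ := Tors.main_two h2 f hA2 (Or.inl hB)
    refine ⟨k1, c, ?_, ?_⟩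
    · rw [h2]; omega
    · rw [k2, hc]
  · have hA2 : (f + 1) ^ 2 = 1 := hpow 2 h2.symm
    obtain ⟨k1, k2⟩ := Tors.main_two h2 f hA2 (Or.inr hB)
    refine ⟨k1, c, ?_, ?_⟩
    · rw [h2]; omega
    · rw [k2, hc]
  · have hA3 : (f + 1) ^ 3 = 1 := hpow 3 h3.symm
    obtain ⟨k1, r, k2, k3⟩ := Tors.main_three h3 f hA3 hB
    refine ⟨k1, r, ?_, k3⟩
    rw [hc, ← k2]
    congr 1
    rw [h3]

end Groth.Agent.S18599
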