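import Groth.Statements.S18616
import Mathlib
-- import your own Groth.Agent.* helpers here

set_option autoImplicit false
set_option linter.unusedSectionVars false
universe u
open DeRham

namespace Groth.Agent.S18616

section helpers

open MvPowerSeries exteriorPower

variable {k : Type u} [Field k] {σ : Type u} [Fintype σ] [DecidableEq σ]




/-- Euler operator plus `q`. -/
noncomputable def W (q : ℕ) : MvPowerSeries σ k →ₗ[k] MvPowerSeries σ k :=
  (∑ j : σ, (LinearMap.mulLeft k (X j : MvPowerSeries σ k)) ∘ₗ (pderiv k j).toLinearMap) +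
    (q : k) • LinearMap.id

theorem W_apply (q : ℕ) (f : MvPowerSeries σ k) :
    W q f = ∑ j : σ, X j * pderiv k j f + (q : k) • f := by
  simp [W, LinearMap.sum_apply]

theorem coeff_X_mul_pderiv (j : σ) (f : MvPowerSeries σ k) (m : σ →₀ ℕ) :
    coeff m (X j * pderiv k j f) = (m j : k) * coeff m f := by
  classical
  rw [X_def, coeff_monomial_mul]
  split_ifs with h
  · rw [coeff_pderiv, one_mul]
    have h1 : m - Finsupp.single j 1 + Finsupp.single j 1 = m := tsub_add_cancel_of_le h
    rw [h1, mul_comm]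
    congr 1
    have h2 : 1 ≤ m j := by
      have := h j
      simpa using this
    have h3 : ((m - Finsupp.single j 1 : σ →₀ ℕ) j) = m j - 1 := by simp
    rw [h3]
    have : ((m j - 1 : ℕ) : k) + 1 = ((m j - 1 + 1 : ℕ) : k) := by push_cast; ring
    rw [this, Nat.sub_add_cancel h2]
  · have h2 : m j = 0 := by
      by_contra hne
      apply h
      intro i
      by_cases hi : i = j
      · subst hi; simp; omega
      · simp [Ne.symm hi]
    rw [h2]; simp

theorem coeff_W (q : ℕ) (f : MvPowerSeries σ k) (m : σ →₀ ℕ) :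
    coeff m (W q f) = ((m.degree + q : ℕ) : k) * coeff m f := by
  rw [W_apply, map_add, map_sum]
  simp only [coeff_X_mul_pderiv]
  rw [← Finset.sum_mul, map_smul, smul_eq_mul, ← add_mul]
  congr 1
  rw [Finsupp.degree_eq_sum]
  push_cast
  rfl

variable [CharZero k]

theorem W_injective (q : ℕ) (hq : 1 ≤ q) : Function.Injective (W (k := k) (σ := σ) q) := by
  rw [injective_iff_map_eq_zero]
  intro f hf
  ext m
  have h := congrArg (coeff m) hf
  rw [coeff_W, map_zero] at h
  rcases mul_eq_zero.mp h with h1 | h1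
  · exfalso
    have : m.degree + q = 0 := by exact_mod_cast h1
    omega
  · simpa using h1

theorem W_surjective (q : ℕ) (hq : 1 ≤ q) : Function.Surjective (W (k := k) (σ := σ) q) := by
  intro f
  let g : MvPowerSeries σ k := fun m => (((m.degree + q : ℕ) : k))⁻¹ * coeff m f
  have hg : ∀ m, coeff m g = (((m.degree + q : ℕ) : k))⁻¹ * coeff m f := fun m => rfl
  refine ⟨g, ?_⟩
  ext m
  rw [coeff_W, hg]
  have h0 : ((m.degree + q : ℕ) : k) ≠ 0 := by
    have : m.degree + q ≠ 0 := by omega
    exact_mod_cast this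
  rw [← mul_assoc, mul_inv_cancel₀ h0, one_mul]





/-- the Euler functional `dt_j ↦ t_j`. -/
noncomputable def eul : (σ → MvPowerSeries σ k) →ₗ[MvPowerSeries σ k] MvPowerSeries σ k :=
  ∑ j : σ, (X j : MvPowerSeries σ k) • LinearMap.proj j

theorem eul_apply (v : σ → MvPowerSeries σ k) : eul v = ∑ j : σ, X j * v j := by
  simp [eul, LinearMap.sum_apply]

/-- contraction with the Euler vector field. -/
noncomputable def cont (q : ℕ) :
    ↥(⋀[MvPowerSeries σ k]^(q + 1) (σ → MvPowerSeries σ k)) →ₗ[MvPowerSeries σ k]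
      ↥(⋀[MvPowerSeries σ k]^q (σ → MvPowerSeries σ k)) :=
  alternatingMapLinearEquiv (AlternatingMap.alternatizeUncurryFin
    (LinearMap.smulRight (eul (k := k) (σ := σ)) (ιMulti (MvPowerSeries σ k) q)))

theorem cont_ιMulti (q : ℕ) (v : Fin (q + 1) → σ → MvPowerSeries σ k) :
    cont q (ιMulti (MvPowerSeries σ k) (q + 1) v) =
      ∑ a : Fin (q + 1), (-1 : ℤ) ^ (a : ℕ) •
        (eul (v a) • ιMulti (MvPowerSeries σ k) q (a.removeNth v)) := by
  rw [cont, alternatingMapLinearEquiv_apply_ιMulti, AlternatingMap.alternatizeUncurryFin_apply]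
  rfl

/-- contraction of a wedge with a prepended vector. -/
theorem cont_ιMulti_cons (q : ℕ) (x : σ → MvPowerSeries σ k)
    (w : Fin (q + 1) → σ → MvPowerSeries σ k) :
    cont (q + 1) (ιMulti (MvPowerSeries σ k) (q + 2) (Matrix.vecCons x w)) =
      eul x • ιMulti (MvPowerSeries σ k) (q + 1) w -
      ∑ a : Fin (q + 1), (-1 : ℤ) ^ (a : ℕ) •
        (eul (w a) • ιMulti (MvPowerSeries σ k) (q + 1) (Matrix.vecCons x (a.removeNth w))) := by
  rw [cont_ιMulti, Fin.sum_univ_succ]
  simp only [Fin.val_zero, pow_zero, one_smul, Matrix.cons_val_zero, Fin.removeNth_zero,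
    Fin.val_succ, Matrix.cons_val_succ]
  rw [sub_eq_add_neg, ← Finset.sum_neg_distrib]
  congr 1
  apply Finset.sum_congr rfl
  intro a _
  rw [pow_succ, mul_neg, mul_one, neg_smul]
  congr 3
  have := Fin.cons_comp_succ_succAbove x w a
  exact congrArg _ this





theorem delta_X (δ : Derivation k (MvPowerSeries σ k) (σ → MvPowerSeries σ k))
    (hδ : ∀ (f : MvPowerSeries σ k) (i : σ), δ f i = MvPowerSeries.pderiv k i f) (i : σ) :
    δ (X i) = Pi.single i 1 := by
  funext j
  rw [hδ, pderiv_X]
  simp [Pi.single_apply, eq_comm]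

theorem delta_eq_sum (δ : Derivation k (MvPowerSeries σ k) (σ → MvPowerSeries σ k))
    (hδ : ∀ (f : MvPowerSeries σ k) (i : σ), δ f i = MvPowerSeries.pderiv k i f)
    (f : MvPowerSeries σ k) :
    δ f = ∑ j : σ, pderiv k j f • (Pi.single j 1 : σ → MvPowerSeries σ k) := by
  funext i
  rw [hδ, Finset.sum_apply]
  simp [Pi.single_apply]

theorem ιMulti_cons_sum (q : ℕ) (c : σ → MvPowerSeries σ k)
    (w : Fin q → σ → MvPowerSeries σ k) :
    ιMulti (MvPowerSeries σ k) (q + 1)
        (Matrix.vecCons (∑ j : σ, c j • (Pi.single j 1 : σ → MvPowerSeries σ k)) w) =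
      ∑ j : σ, c j • ιMulti (MvPowerSeries σ k) (q + 1)
        (Matrix.vecCons (Pi.single j 1 : σ → MvPowerSeries σ k) w) := by
  have key : ∀ s : Finset σ, ιMulti (MvPowerSeries σ k) (q + 1)
        (Matrix.vecCons (∑ j ∈ s, c j • (Pi.single j 1 : σ → MvPowerSeries σ k)) w) =
      ∑ j ∈ s, c j • ιMulti (MvPowerSeries σ k) (q + 1)
        (Matrix.vecCons (Pi.single j 1 : σ → MvPowerSeries σ k) w) := by
    intro s
    induction s using Finset.induction_on with
    | empty =>
      simp only [Finset.sum_empty]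
      exact AlternatingMap.map_coord_zero _ (i := 0) (by simp)
    | insert a s ha ih =>
      rw [Finset.sum_insert ha, Finset.sum_insert ha, AlternatingMap.map_vecCons_add,
        AlternatingMap.map_vecCons_smul, ih]
  exact key Finset.univ

theorem d_gen (δ : Derivation k (MvPowerSeries σ k) (σ → MvPowerSeries σ k))
    (hδ : ∀ (f : MvPowerSeries σ k) (i : σ), δ f i = MvPowerSeries.pderiv k i f)
    (d : ∀ p : ℕ, ↥(⋀[MvPowerSeries σ k]^p (σ → MvPowerSeries σ k)) →ₗ[k]
      ↥(⋀[MvPowerSeries σ k]^(p + 1) (σ → MvPowerSeries σ k)))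
    (hd : DeRham.IsDiff δ d) (q : ℕ) (f : MvPowerSeries σ k) (v : Fin q → σ) :
    d q (f • ιMulti (MvPowerSeries σ k) q (fun i => (Pi.single (v i) 1 : σ → MvPowerSeries σ k))) =
      ∑ j : σ, pderiv k j f • ιMulti (MvPowerSeries σ k) (q + 1)
        (Matrix.vecCons (Pi.single j 1 : σ → MvPowerSeries σ k)
          (fun i => (Pi.single (v i) 1 : σ → MvPowerSeries σ k))) := by
  have h := hd.1 q f (fun i => X (v i))
  unfold DeRham.gen at h
  simp only [delta_X δ hδ] at h
  rw [h, delta_eq_sum δ hδ f]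
  exact ιMulti_cons_sum q _ _


theorem eul_single (j : σ) : eul (Pi.single j 1 : σ → MvPowerSeries σ k) = X j := by
  rw [eul_apply]
  simp [Pi.single_apply]

theorem pderiv_mul_X (j i : σ) (f : MvPowerSeries σ k) :
    pderiv k j (f * X i) = f * (if j = i then 1 else 0) + X i * pderiv k j f := by
  rw [Derivation.leibniz, pderiv_X, smul_eq_mul, smul_eq_mul]
  congr 2
  simp [Pi.single_apply, eq_comm]

theorem neg_one_pow_smul_cons_removeNth (p : ℕ) (w : Fin (p + 1) → σ → MvPowerSeries σ k)
    (a : Fin (p + 1)) :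
    (-1 : ℤ) ^ (a : ℕ) • ιMulti (MvPowerSeries σ k) (p + 1)
      (Matrix.vecCons (w a) (a.removeNth w)) = ιMulti (MvPowerSeries σ k) (p + 1) w := by
  have h := AlternatingMap.neg_one_pow_smul_map_insertNth
    (ιMulti (MvPowerSeries σ k) (p + 1) (M := σ → MvPowerSeries σ k)) a (w a) (a.removeNth w)
  rw [Fin.insertNth_self_removeNth] at h
  rw [← h, smul_smul, ← pow_add, Even.neg_one_pow ⟨_, rfl⟩, one_smul]

/-- Cartan's formula on generators. -/
theorem cartan_gen (δ : Derivation k (MvPowerSeries σ k) (σ → MvPowerSeries σ k))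
    (hδ : ∀ (f : MvPowerSeries σ k) (i : σ), δ f i = MvPowerSeries.pderiv k i f)
    (d : ∀ p : ℕ, ↥(⋀[MvPowerSeries σ k]^p (σ → MvPowerSeries σ k)) →ₗ[k]
      ↥(⋀[MvPowerSeries σ k]^(p + 1) (σ → MvPowerSeries σ k)))
    (hd : DeRham.IsDiff δ d) (p : ℕ) (f : MvPowerSeries σ k) (v : Fin (p + 1) → σ) :
    d p (cont p (f • ιMulti (MvPowerSeries σ k) (p + 1)
        (fun i => (Pi.single (v i) 1 : σ → MvPowerSeries σ k)))) +
      cont (p + 1) (d (p + 1) (f • ιMulti (MvPowerSeries σ k) (p + 1)
        (fun i => (Pi.single (v i) 1 : σ → MvPowerSeries σ k)))) =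
      W (p + 1) f • ιMulti (MvPowerSeries σ k) (p + 1)
        (fun i => (Pi.single (v i) 1 : σ → MvPowerSeries σ k)) := by
  set w : Fin (p + 1) → σ → MvPowerSeries σ k := fun i => Pi.single (v i) 1 with hw
  set Ev := ιMulti (MvPowerSeries σ k) (p + 1) w with hEv
  -- the auxiliary wedges
  set T : Fin (p + 1) → σ → ↥(⋀[MvPowerSeries σ k]^(p + 1) (σ → MvPowerSeries σ k)) :=
    fun a j => ιMulti (MvPowerSeries σ k) (p + 1)
      (Matrix.vecCons (Pi.single j 1 : σ → MvPowerSeries σ k) (a.removeNth w)) with hT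
  -- term 1
  have h1 : d p (cont p (f • Ev)) =
      ∑ a : Fin (p + 1), ∑ j : σ, (-1 : ℤ) ^ (a : ℕ) •
        ((f * (if j = v a then 1 else 0) + X (v a) * pderiv k j f) • T a j) := by
    rw [map_smul, hEv, cont_ιMulti, Finset.smul_sum, map_sum]
    apply Finset.sum_congr rfl
    intro a _
    rw [smul_comm, map_zsmul, smul_smul, hw]
    simp only [eul_single]
    have h := d_gen δ hδ d hd p (f * X (v a)) (fun i => v (a.succAbove i))
    have e1 : (a.removeNth fun i => (Pi.single (v i) 1 : σ → MvPowerSeries σ k)) =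
        fun i => (Pi.single (v (a.succAbove i)) 1 : σ → MvPowerSeries σ k) := rfl
    rw [e1, h, Finset.smul_sum]
    apply Finset.sum_congr rfl
    intro j _
    rw [pderiv_mul_X]
    rfl
  -- term 2
  have h2 : cont (p + 1) (d (p + 1) (f • Ev)) =
      ∑ j : σ, (pderiv k j f * X j) • Ev -
        ∑ j : σ, ∑ a : Fin (p + 1), (-1 : ℤ) ^ (a : ℕ) • ((pderiv k j f * X (v a)) • T a j) := by
    rw [hEv, hw, d_gen δ hδ d hd (p + 1) f v, map_sum, ← Finset.sum_sub_distrib]
    apply Finset.sum_congr rfl
    intro j _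
    rw [map_smul, cont_ιMulti_cons, smul_sub, eul_single, smul_smul, Finset.smul_sum]
    congr 1
    apply Finset.sum_congr rfl
    intro a _
    rw [smul_comm, smul_smul, eul_single]
  rw [h1, h2]
  -- split term 1
  have h3 : ∑ a : Fin (p + 1), ∑ j : σ, (-1 : ℤ) ^ (a : ℕ) •
        ((f * (if j = v a then 1 else 0) + X (v a) * pderiv k j f) • T a j) =
      ∑ a : Fin (p + 1), f • Ev +
        ∑ j : σ, ∑ a : Fin (p + 1), (-1 : ℤ) ^ (a : ℕ) • ((pderiv k j f * X (v a)) • T a j) := by
    rw [Finset.sum_comm (s := (Finset.univ : Finset σ)), ← Finset.sum_add_distrib]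
    apply Finset.sum_congr rfl
    intro a _
    simp only [add_smul, smul_add, Finset.sum_add_distrib]
    congr 1
    · -- the diagonal term
      have : ∀ j : σ, (-1 : ℤ) ^ (a : ℕ) • ((f * (if j = v a then 1 else 0)) • T a j) =
          if j = v a then f • ((-1 : ℤ) ^ (a : ℕ) • T a (v a)) else 0 := by
        intro j
        split_ifs with hj
        · subst hj; rw [mul_one, smul_comm]
        · rw [mul_zero, zero_smul, smul_zero]
      simp only [this, Finset.sum_ite_eq', Finset.mem_univ, if_true]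
      rw [hT]
      simp only
      have := neg_one_pow_smul_cons_removeNth p w a
      rw [hw] at this ⊢
      simp only at this
      rw [this]
    · apply Finset.sum_congr rfl
      intro j _
      rw [mul_comm]
  rw [h3]
  have h4 : ∑ a : Fin (p + 1), f • Ev = ((p + 1 : ℕ) : k) • f • Ev := by
    rw [Finset.sum_const, Finset.card_univ, Fintype.card_fin, ← Nat.cast_smul_eq_nsmul k]
  rw [h4, W_apply, add_smul, Finset.sum_smul]
  have h5 : ∑ j : σ, (pderiv k j f * X j) • Ev = ∑ j : σ, (X j * pderiv k j f) • Ev := by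
    apply Finset.sum_congr rfl
    intro j _
    rw [mul_comm]
  rw [h5, smul_assoc]
  abel


section basis
variable [LinearOrder σ]

/-- the `A`-basis `dt_S` of `⋀^q`. -/
noncomputable def bas (q : ℕ) : Module.Basis (Set.powersetCard σ q) (MvPowerSeries σ k)
    ↥(⋀[MvPowerSeries σ k]^q (σ → MvPowerSeries σ k)) :=
  (Pi.basisFun (MvPowerSeries σ k) σ).exteriorPower q

theorem bas_apply (q : ℕ) (S : Set.powersetCard σ q) :
    bas (k := k) q S = ιMulti (MvPowerSeries σ k) q
      (fun i => (Pi.single ((Set.powersetCard.ofFinEmbEquiv.symm S) i) 1 :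
        σ → MvPowerSeries σ k)) := by
  rw [bas, exteriorPower.basis_apply]
  unfold ιMulti_family
  congr 1
  funext i
  simp [Pi.basisFun_apply]

variable (d : ∀ p : ℕ, ↥(⋀[MvPowerSeries σ k]^p (σ → MvPowerSeries σ k)) →ₗ[k]
      ↥(⋀[MvPowerSeries σ k]^(p + 1) (σ → MvPowerSeries σ k)))

/-- the Lie derivative along the Euler field, by Cartan's formula. -/
noncomputable def Lie (p : ℕ) : ↥(⋀[MvPowerSeries σ k]^(p + 1) (σ → MvPowerSeries σ k)) →ₗ[k]
    ↥(⋀[MvPowerSeries σ k]^(p + 1) (σ → MvPowerSeries σ k)) :=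
  d p ∘ₗ (cont p).restrictScalars k + ((cont (p + 1)).restrictScalars k) ∘ₗ d (p + 1)

theorem Lie_apply (p : ℕ) (ω : ↥(⋀[MvPowerSeries σ k]^(p + 1) (σ → MvPowerSeries σ k))) :
    Lie d p ω = d p (cont p ω) + cont (p + 1) (d (p + 1) ω) := rfl

variable (δ : Derivation k (MvPowerSeries σ k) (σ → MvPowerSeries σ k))
    (hδ : ∀ (f : MvPowerSeries σ k) (i : σ), δ f i = MvPowerSeries.pderiv k i f)
    (hd : DeRham.IsDiff δ d)
include hδ hd

theorem Lie_gen (p : ℕ) (f : MvPowerSeries σ k) (S : Set.powersetCard σ (p + 1)) :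
    Lie d p (f • bas (p + 1) S) = W (p + 1) f • bas (p + 1) S := by
  rw [bas_apply, Lie_apply]
  exact cartan_gen δ hδ d hd p f _

theorem Lie_sum (p : ℕ) (c : Set.powersetCard σ (p + 1) → MvPowerSeries σ k) :
    Lie d p (∑ S, c S • bas (p + 1) S) = ∑ S, W (p + 1) (c S) • bas (p + 1) S := by
  rw [map_sum]
  apply Finset.sum_congr rfl
  intro S _
  exact Lie_gen d δ hδ hd p (c S) S

theorem Lie_surjective (p : ℕ) : Function.Surjective (Lie d p) := by
  intro ω
  have hc := fun S => W_surjective (k := k) (σ := σ) (p + 1) (by omega) ((bas (p + 1)).repr ω S)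
  choose g hg using hc
  refine ⟨∑ S, g S • bas (p + 1) S, ?_⟩
  rw [Lie_sum d δ hδ hd]
  simp only [hg]
  exact (bas (p + 1)).sum_repr ω

theorem Lie_injective (p : ℕ) : Function.Injective (Lie d p) := by
  rw [injective_iff_map_eq_zero]
  intro ω hω
  rw [← (bas (p + 1)).sum_repr ω, Lie_sum d δ hδ hd] at hω
  have hli := (bas (k := k) (σ := σ) (p + 1)).linearIndependent
  have h0 : ∀ S, W (p + 1) ((bas (p + 1)).repr ω S) = 0 :=
    Fintype.linearIndependent_iff.mp hli _ hω
  have h1 : ∀ S, (bas (p + 1)).repr ω S = 0 := fun S =>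
    W_injective (p + 1) (by omega) (by rw [h0 S, map_zero])
  rw [← (bas (p + 1)).sum_repr ω]
  simp [h1]

theorem closed_exact (p : ℕ) (ω : ↥(⋀[MvPowerSeries σ k]^(p + 1) (σ → MvPowerSeries σ k)))
    (hω : d (p + 1) ω = 0) : ∃ η, d p η = ω := by
  obtain ⟨η, hη⟩ := Lie_surjective d δ hδ hd p ω
  have hdd : ∀ q x, d (q + 1) (d q x) = 0 := fun q x => LinearMap.congr_fun (hd.2 q) x
  have h1 : d (p + 1) η = 0 := by
    apply Lie_injective d δ hδ hd (p + 1)
    have e1 : Lie d (p + 1) (d (p + 1) η) = d (p + 1) (Lie d p η) := by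
      rw [Lie_apply, Lie_apply, hdd, map_zero, add_zero, map_add, hdd, zero_add]
    rw [e1, hη, hω, map_zero]
  refine ⟨cont p η, ?_⟩
  rw [← hη, Lie_apply, h1, map_zero, add_zero]

end basis


end helpers

open exteriorPower in
/-- The formal Poincaré lemma. The published statement is that for a complete separated linearly
topologized commutative algebra K over a field k of characteristic zero the inclusion of the
separated de Rham complex of K into that of K[[t_1, ..., t_n]] is a quasi-isomorphism; this row is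
the case K = k in positive degrees. Concretely: k is a field of characteristic 0, σ is finite, A =
k[[σ]]; the separated differentials are modelled by the free A-module of functions σ → A (the
coordinate dt_i being the i-th basis vector) with the derivation δ whose components are the formal
partial derivatives, so that δ(A) generates it; d is any family of k-linear maps between consecutive
exterior powers of this module over A satisfying the de Rham rule with d ∘ d = 0. Then for every p ≥
1 the closed p-forms are exact. (Degree zero, that a power series with all partial derivatives zero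
is constant, is omitted.) -/
theorem result (k : Type u) [Field k] [CharZero k]
    (σ : Type u) [Finite σ]
    (δ : Derivation k (MvPowerSeries σ k) (σ → MvPowerSeries σ k))
    (hδ : ∀ (f : MvPowerSeries σ k) (i : σ), δ f i = MvPowerSeries.pderiv k i f)
    (hgen : Submodule.span (MvPowerSeries σ k) (Set.range δ) = ⊤)
    (d : ∀ p : ℕ, ↥(⋀[MvPowerSeries σ k]^p (σ → MvPowerSeries σ k)) →ₗ[k]
      ↥(⋀[MvPowerSeries σ k]^(p + 1) (σ → MvPowerSeries σ k)))
    (hd : DeRham.IsDiff δ d) (p : ℕ) :
    DeRham.cocycles d (p + 1) ≤ DeRham.coboundaries d (p + 1) := by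
  classical
  haveI : Fintype σ := Fintype.ofFinite σ
  letI : LinearOrder σ := LinearOrder.lift' (Fintype.equivFin σ) (Equiv.injective _)
  intro ω hω
  have h1 : d (p + 1) ω = 0 := hω
  obtain ⟨η, hη⟩ := closed_exact d δ hδ hd p ω h1
  exact ⟨η, hη⟩

end Groth.Agent.S18616
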