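import Groth.Statements.S18617
import Mathlib.Tactic
-- import your own Groth.Agent.* helpers here

set_option autoImplicit false
universe u
open LocRes

namespace Groth.Agent.S18617

/-- The published statement is that, for a complete separated linearly topologized commutative algebra K
over a field of characteristic zero, the separated de Rham complex of K tensored with the exterior
algebra on symbols α_1, ..., α_n maps quasi-isomorphically to the separated de Rham complex of the
iterated Laurent series ring K((t_1, ..., t_n)), α_i going to dlog t_i; this row is the case K = k
and n = 1, unpacked: over a field k of characteristic 0, a formal Laurent series f in k((t)) has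
term-by-term derivative zero if and only if it is the constant series on its coefficient of degree
0, and a Laurent series g is the derivative of some Laurent series if and only if its residue (the
coefficient of t⁻¹) vanishes; so H⁰ of the complex k((t)) → k((t)) dt is k and H¹ is the line
spanned by the class of dt/t, on which the residue is 1. -/
theorem result (k : Type u) [Field k] [CharZero k] :
    (∀ f : LaurentSeries k, LocRes.D k f = 0 ↔ f = HahnSeries.C (f.coeff 0)) ∧
      ∀ g : LaurentSeries k, (∃ f : LaurentSeries k, LocRes.D k f = g) ↔ LocRes.res k g = 0 := by
  constructor
  · intro f
    constructor
    · intro h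
      ext n
      rw [HahnSeries.C_apply, HahnSeries.coeff_single]
      by_cases hn : n = 0
      · subst hn; simp
      · rw [if_neg hn]
        have := congrArg (fun g : LaurentSeries k => g.coeff (n - 1)) h
        simp only [LocRes.D_coeff, sub_add_cancel, HahnSeries.coeff_zero] at this
        rw [zsmul_eq_mul] at this
        rcases mul_eq_zero.mp this with h0 | h0
        · exact absurd (by exact_mod_cast h0) hn
        · exact h0
    · intro h
      rw [h, LocRes.D_apply, LocRes.derivative_C]
  · intro g
    constructor
    · rintro ⟨f, rfl⟩
      rw [LocRes.res_apply, LocRes.D_coeff]
      simp
    · intro hg
      rw [LocRes.res_apply] at hg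
      have hb : BddBelow (Function.support
          (fun n : ℤ => if n = 0 then (0 : k) else g.coeff (n - 1) / (n : k))) := by
        apply HahnSeries.forallLTEqZero_supp_BddBelow _ g.order
        intro m hm
        by_cases h0 : m = 0
        · simp [h0]
        · simp only [if_neg h0]
          rw [HahnSeries.coeff_eq_zero_of_lt_order (by omega), zero_div]
      refine ⟨HahnSeries.ofSuppBddBelow _ hb, ?_⟩
      ext n
      rw [LocRes.D_coeff]
      simp only [HahnSeries.ofSuppBddBelow_coeff]
      by_cases hn : n + 1 = 0
      · have : n = -1 := by omega
        subst this
        simp [hg]
      · rw [if_neg hn, add_sub_cancel_right, zsmul_eq_mul]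
        have : ((n + 1 : ℤ) : k) ≠ 0 := by exact_mod_cast hn
        field_simp

end Groth.Agent.S18617
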