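import Groth.Statements.S1863
import Mathlib
import Groth.Agent.Lib.Helper22.DivLocFin
-- import your own Groth.Agent.* helpers here

set_option autoImplicit false
universe u
open CategoryTheory AlgebraicGeometry
open Cyc

namespace Groth.Agent.S1863

section PRE
open IsLocalRing
open Groth.Agent.Lib.Helper22.OrdFlat Groth.Agent.Lib.Helper22.DivLocFin

lemma length_quot_map {R S : Type u} [CommRing R] [CommRing S] (π : R →+* S)
    (hπ : Function.Bijective π) (I : Ideal R) :
    Module.length S (S ⧸ Ideal.map π I) = Module.length R (R ⧸ I) := by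
  algebraize [π]
  have h1 : Module.length R (S ⧸ Ideal.map π I) = Module.length S (S ⧸ Ideal.map π I) :=
    Module.length_eq_of_surjective (S := R) (R := S) (M := S ⧸ Ideal.map π I) hπ.surjective
  rw [← h1]
  let e0 : R ⧸ I ≃+* S ⧸ Ideal.map π I :=
    Ideal.quotientEquiv I (Ideal.map π I) (RingEquiv.ofBijective π hπ) rfl
  let e : (R ⧸ I) ≃ₗ[R] (S ⧸ Ideal.map π I) :=
    { e0.toAddEquiv with
      map_smul' := by
        intro r m
        obtain ⟨a, rfl⟩ := Ideal.Quotient.mk_surjective m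
        show e0 (r • Ideal.Quotient.mk I a) = r • e0 (Ideal.Quotient.mk I a)
        rw [Algebra.smul_def, map_mul, Algebra.smul_def]
        rfl }
  exact e.length_eq.symm

lemma ord_equiv {A B : Type u} [CommRing A] [CommRing B] (e : A ≃+* B) (a : A) :
    Ring.ord B (e a) = Ring.ord A a := by
  unfold Ring.ord
  have := length_quot_map e.toRingHom e.bijective (Ideal.span {a})
  rw [Ideal.map_span, Set.image_singleton] at this
  exact this

section
variable {A B : Type u} [CommRing A] [CommRing B] {K L : Type u} [Field K] [Field L]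
  [Algebra A K] [Algebra B L]

lemma cond_transfer (e : A ≃+* B) (φ : K ≃+* L)
    (hcomm : ∀ a, φ (algebraMap A K a) = algebraMap B L (e a))
    (hA : IsNoetherianRing A ∧ Ring.KrullDimLE 1 A ∧ Nontrivial A ∧ IsFractionRing A K) :
    IsNoetherianRing B ∧ Ring.KrullDimLE 1 B ∧ Nontrivial B ∧ IsFractionRing B L := by
  haveI := hA.1; haveI := hA.2.1; haveI := hA.2.2.1; haveI := hA.2.2.2
  refine ⟨isNoetherianRing_of_ringEquiv A e, ?_, e.injective.nontrivial, ?_⟩
  · rw [Ring.krullDimLE_iff, ← ringKrullDim_eq_of_ringEquiv e, ← Ring.krullDimLE_iff]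
    infer_instance
  · have hB : ∀ b, algebraMap B L b = φ (algebraMap A K (e.symm b)) := by
      intro b; rw [hcomm, RingEquiv.apply_symm_apply]
    haveI : FaithfulSMul B L := by
      rw [faithfulSMul_iff_algebraMap_injective]
      intro b b' h
      rw [hB, hB] at h
      exact e.symm.injective (FaithfulSMul.algebraMap_injective A K (φ.injective h))
    refine IsFractionRing.of_field _ _ (fun z => ?_)
    obtain ⟨a, b, -, hab⟩ := IsFractionRing.div_surjective (A := A) (φ.symm z)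
    refine ⟨e a, e b, ?_⟩
    rw [← hcomm, ← hcomm, ← map_div₀, hab, RingEquiv.apply_symm_apply]

lemma ordFrac_equiv (e : A ≃+* B) (φ : K ≃+* L)
    (hcomm : ∀ a, φ (algebraMap A K a) = algebraMap B L (e a)) (g : K) :
    CycAlg.ordFrac B L (φ g) = CycAlg.ordFrac A K g := by
  by_cases hA : IsNoetherianRing A ∧ Ring.KrullDimLE 1 A ∧ Nontrivial A ∧ IsFractionRing A K
  · have hB := cond_transfer e φ hcomm hA
    haveI := hA.2.2.2
    haveI := hB.2.2.2
    haveI : IsDomain A := (FaithfulSMul.algebraMap_injective A K).isDomain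
    haveI : IsDomain B := (FaithfulSMul.algebraMap_injective B L).isDomain
    obtain ⟨a, b, hb, rfl⟩ := IsFractionRing.div_surjective (A := A) g
    by_cases ha0 : a = 0
    · subst ha0
      simp only [map_zero, zero_div, ordFrac_zero]
    · have ha : a ∈ nonZeroDivisors A := mem_nonZeroDivisors_of_ne_zero ha0
      have hea : e a ∈ nonZeroDivisors B :=
        mem_nonZeroDivisors_of_ne_zero ((map_ne_zero_iff e e.injective).mpr ha0)
      have heb : e b ∈ nonZeroDivisors B :=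
        mem_nonZeroDivisors_of_ne_zero
          ((map_ne_zero_iff e e.injective).mpr (nonZeroDivisors.ne_zero hb))
      rw [map_div₀, hcomm, hcomm, ordFrac_div hB _ _ hea heb, ordFrac_div hA _ _ ha hb,
        ord_equiv, ord_equiv]
  · have hB : ¬ (IsNoetherianRing B ∧ Ring.KrullDimLE 1 B ∧ Nontrivial B ∧
        IsFractionRing B L) := by
      intro hB
      apply hA
      refine cond_transfer e.symm φ.symm ?_ hB
      intro b
      apply φ.injective
      rw [RingEquiv.apply_symm_apply, hcomm, RingEquiv.apply_symm_apply]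
    unfold CycAlg.ordFrac
    rw [dif_neg hA, dif_neg hB]

end

lemma spec_compat {X Y : Scheme.{u}} (f : X ⟶ Y) (x ξ : X) (h : ξ ⤳ x)
    (a : Y.presheaf.stalk (f x)) :
    specMap x ξ h ((f.stalkMap x).hom a) =
      (f.residueFieldMap ξ).hom (specMap (f x) (f ξ) (f.base.hom.map_specializes h) a) := by
  have e1 := Scheme.Hom.stalkSpecializes_stalkMap f ξ x h
  have e2 := Scheme.residue_residueFieldMap f ξ
  have : (f.stalkMap x ≫ X.presheaf.stalkSpecializes h) ≫ X.residue ξ =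
      (Y.presheaf.stalkSpecializes (f.base.hom.map_specializes h) ≫ Y.residue (f ξ)) ≫
        f.residueFieldMap ξ := by
    rw [← e1, Category.assoc, ← e2, Category.assoc]
  exact congrArg (fun φ => φ.hom a) this

lemma ordAt_open {V X : Scheme.{u}} (j : V ⟶ X) [IsOpenImmersion j] (u ξ : V) (h : ξ ⤳ u)
    (f' : X.residueField (j ξ)) :
    ordAt u ξ h ((j.residueFieldMap ξ).hom f') =
      ordAt (j u) (j ξ) (j.base.hom.map_specializes h) f' := by
  have h' : j ξ ⤳ j u := j.base.hom.map_specializes h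
  let e0 : X.presheaf.stalk (j u) ≃+* V.presheaf.stalk u :=
    RingEquiv.ofBijective (j.stalkMap u).hom (ConcreteCategory.bijective_of_isIso _)
  let φ : X.residueField (j ξ) ≃+* V.residueField ξ :=
    RingEquiv.ofBijective (j.residueFieldMap ξ).hom (ConcreteCategory.bijective_of_isIso _)
  have hker : RingHom.ker (specMap u ξ h) =
      Ideal.map (e0 : X.presheaf.stalk (j u) →+* V.presheaf.stalk u)
        (RingHom.ker (specMap (j u) (j ξ) h')) := by
    have hc : RingHom.ker (specMap (j u) (j ξ) h') =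
        Ideal.comap (e0 : X.presheaf.stalk (j u) →+* V.presheaf.stalk u)
          (RingHom.ker (specMap u ξ h)) := by
      ext a
      rw [Ideal.mem_comap, RingHom.mem_ker, RingHom.mem_ker]
      show _ ↔ specMap u ξ h ((j.stalkMap u).hom a) = 0
      rw [spec_compat]
      exact (map_eq_zero_iff _ φ.injective).symm
    rw [hc]
    exact (Ideal.map_comap_of_surjective (e0 : X.presheaf.stalk (j u) →+* V.presheaf.stalk u)
      e0.surjective _).symm
  let e : LocQuot (j u) (j ξ) h' ≃+* LocQuot u ξ h := Ideal.quotientEquiv _ _ e0 hker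
  have hcomm : ∀ a, φ (algebraMap (LocQuot (j u) (j ξ) h') (X.residueField (j ξ)) a) =
      algebraMap (LocQuot u ξ h) (V.residueField ξ) (e a) := by
    intro a
    obtain ⟨a, rfl⟩ := Ideal.Quotient.mk_surjective a
    show (j.residueFieldMap ξ).hom (specMap (j u) (j ξ) h' a) =
      specMap u ξ h ((j.stalkMap u).hom a)
    rw [spec_compat]
  exact ordFrac_equiv e φ hcomm f'

lemma divFun_open {X : Scheme.{u}} (δ : X → ℤ) (U : X.Opens) (u ξ : U.toScheme)
    (f' : X.residueField (U.ι ξ)) :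
    divFun (X := U.toScheme) (fun u : ↥U => δ (U.ι u)) ξ ((U.ι.residueFieldMap ξ).hom f') u =
      divFun δ (U.ι ξ) f' (U.ι u) := by
  have hsp : U.ι ξ ⤳ U.ι u ↔ ξ ⤳ u :=
    U.ι.isOpenEmbedding.isEmbedding.isInducing.specializes_iff
  unfold divFun
  by_cases c : ξ ⤳ u ∧ δ (U.ι u) + 1 = δ (U.ι ξ)
  · rw [dif_pos c, dif_pos ⟨hsp.mpr c.1, c.2⟩]
    exact ordAt_open U.ι u ξ c.1 f'
  · rw [dif_neg c, dif_neg]
    rintro ⟨h1, h2⟩
    exact c ⟨hsp.mp h1, h2⟩

lemma locfin_open {X : Scheme.{u}} [IsLocallyNoetherian X] (U : X.Opens) {ι : Type*}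
    (ξ : ι → ↥U)
    (hlf : ∀ u : ↥U, ∃ W : Set ↥U, IsOpen W ∧ u ∈ W ∧ {i | (closure {ξ i} ∩ W).Nonempty}.Finite)
    (x : X) :
    ∃ V : Set X, IsOpen V ∧ x ∈ V ∧ {i | (closure {U.ι (ξ i)} ∩ V).Nonempty}.Finite := by
  obtain ⟨V, hVo, hxV, hVN⟩ := scheme_locNoeth x
  refine ⟨V, hVo, hxV, ?_⟩
  have hcV : IsCompact (V ∩ Set.range U.ι) :=
    (TopologicalSpace.noetherianSpace_set_iff V).mp hVN _ Set.inter_subset_left
  have hK : IsCompact (U.ι ⁻¹' (V ∩ Set.range U.ι)) :=
    (U.ι.isOpenEmbedding.isEmbedding.isInducing.isCompact_preimage_iff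
      Set.inter_subset_right).mpr hcV
  choose W hWo huW hWfin using hlf
  obtain ⟨t, -, ht⟩ := hK.elim_nhds_subcover W (fun u _ => (hWo u).mem_nhds (huW u))
  have hfin : (⋃ u ∈ t, {i | (closure {ξ i} ∩ W u).Nonempty}).Finite :=
    Set.Finite.biUnion t.finite_toSet fun u _ => hWfin u
  refine hfin.subset ?_
  rintro i ⟨p, hp1, hp2⟩
  have hsp : U.ι (ξ i) ⤳ p := specializes_iff_mem_closure.mpr hp1
  have hiV : U.ι (ξ i) ∈ V := hsp.mem_open hVo hp2
  have hiK : ξ i ∈ U.ι ⁻¹' (V ∩ Set.range U.ι) := ⟨hiV, ⟨ξ i, rfl⟩⟩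
  obtain ⟨u, hut, hu⟩ := Set.mem_iUnion₂.mp (ht hiK)
  exact Set.mem_iUnion₂.mpr ⟨u, hut, ξ i, subset_closure rfl, hu⟩

theorem main (X : Scheme.{u}) (δ : X → ℤ) (hX : Cyc.IsSetup X δ) (U : X.Opens) (k : ℤ)
    (α β : AlgebraicCycle X ℤ) (hα : α ∈ Cyc.Zk X δ k) (hβ : β ∈ Cyc.Zk X δ k)
    (αU βU : AlgebraicCycle (↑U : Scheme.{u}) ℤ) (hαU : ∀ u : ↥U, αU u = α (U.ι u))
    (hβU : ∀ u : ↥U, βU u = β (U.ι u))
    (h : Cyc.RatEquiv (fun u : ↥U => δ (U.ι u)) k αU βU) :
    ∃ γ : AlgebraicCycle X ℤ, γ ∈ Cyc.Zk X δ k ∧ (∀ x : X, x ∈ U → γ x = 0) ∧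
      Cyc.RatEquiv δ k α (β + γ) := by
  haveI := hX.1
  obtain ⟨ι, ξ, f, hdim, hf0, hlf, hsum⟩ := h
  let φ : ∀ i, X.residueField (U.ι (ξ i)) ≃+* (U.toScheme).residueField (ξ i) := fun i =>
    RingEquiv.ofBijective (U.ι.residueFieldMap (ξ i)).hom (ConcreteCategory.bijective_of_isIso _)
  let f' : ∀ i, X.residueField (U.ι (ξ i)) := fun i => (φ i).symm (f i)
  have hf' : ∀ i, (U.ι.residueFieldMap (ξ i)).hom (f' i) = f i :=
    fun i => (φ i).apply_symm_apply (f i)
  have hf'0 : ∀ i, f' i ≠ 0 := by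
    intro i hi
    apply hf0 i
    rw [← hf' i, hi, map_zero]
  have hlf' := locfin_open U ξ hlf
  have hDlf := sum_divFun_locfin δ hX.2.2 (fun i => U.ι (ξ i)) f' hf'0 hlf'
  let Dc : AlgebraicCycle X ℤ :=
    ⟨fun x => ∑ᶠ i, divFun δ (U.ι (ξ i)) (f' i) x, by simp, fun z _ => by
      obtain ⟨V, hVo, hzV, hfin⟩ := hDlf z
      exact ⟨V, hVo.mem_nhds hzV, hfin.subset (by rintro w ⟨hwV, hw⟩; exact ⟨hwV, hw⟩)⟩⟩
  have hDc : ∀ x, Dc x = ∑ᶠ i, divFun δ (U.ι (ξ i)) (f' i) x := fun x => rfl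
  refine ⟨α - β - Dc, ?_, ?_, ?_⟩
  · intro x hx
    rw [Function.locallyFinsuppWithin.coe_sub, Function.locallyFinsuppWithin.coe_sub]
    show α x - β x - Dc x = 0
    rw [hα x hx, hβ x hx, hDc]
    have : ∀ i, divFun δ (U.ι (ξ i)) (f' i) x = 0 := by
      intro i
      by_contra hne
      obtain ⟨-, hd, -⟩ := divFun_ne_zero δ _ _ x hne
      have := hdim i
      simp only at this
      apply hx
      omega
    rw [finsum_eq_zero_of_forall_eq_zero this]
    simp
  · intro x hxU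
    rw [Function.locallyFinsuppWithin.coe_sub, Function.locallyFinsuppWithin.coe_sub]
    show α x - β x - Dc x = 0
    have e : ∀ i, divFun δ (U.ι (ξ i)) (f' i) x =
        divFun (X := U.toScheme) (fun u : ↥U => δ (U.ι u)) (ξ i) (f i) ⟨x, hxU⟩ := by
      intro i
      rw [← hf' i]
      exact (divFun_open δ U ⟨x, hxU⟩ (ξ i) (f' i)).symm
    have h1 := hsum ⟨x, hxU⟩
    rw [Function.locallyFinsuppWithin.coe_sub] at h1
    have h2 : αU ⟨x, hxU⟩ - βU ⟨x, hxU⟩ = ∑ᶠ i, divFun (X := U.toScheme)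
        (fun u : ↥U => δ (U.ι u)) (ξ i) (f i) ⟨x, hxU⟩ := h1
    rw [hDc, finsum_congr e, ← h2, hαU, hβU]
    have : U.ι ⟨x, hxU⟩ = x := rfl
    rw [this]
    ring
  · refine ⟨ι, fun i => U.ι (ξ i), f', hdim, hf'0, hlf', fun x => ?_⟩
    rw [← hDc x]
    show (α - (β + (α - β - Dc))) x = Dc x
    congr 1
    abel

end PRE

/-- Let U ⊆ X be open and α, β k-cycles on X whose restrictions to U are rationally equivalent on U (for
the restricted dimension function). Then there is a k-cycle γ on X vanishing on U with α rationally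
equivalent to β + γ. Here a pair (X, δ) with Cyc.IsSetup plays the role of a scheme locally of
finite type over a fixed base with a dimension function (X locally Noetherian with universally
catenary local rings, δ a dimension function). -/
theorem result (X : Scheme.{u}) (δ : X → ℤ) (hX : Cyc.IsSetup X δ) (U : X.Opens) (k : ℤ) (α β : AlgebraicCycle X ℤ) (hα : α ∈ Cyc.Zk X δ k) (hβ : β ∈ Cyc.Zk X δ k) (αU βU : AlgebraicCycle (↑U : Scheme.{u}) ℤ) (hαU : ∀ u : ↥U, αU u = α (U.ι u)) (hβU : ∀ u : ↥U, βU u = β (U.ι u)) (h : Cyc.RatEquiv (fun u : ↥U => δ (U.ι u)) k αU βU) : ∃ γ : AlgebraicCycle X ℤ, γ ∈ Cyc.Zk X δ k ∧ (∀ x : X, x ∈ U → γ x = 0) ∧ Cyc.RatEquiv δ k α (β + γ) := by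
  exact main X δ hX U k α β hα hβ αU βU hαU hβU h

end Groth.Agent.S1863
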