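import Groth.Statements.S18634
import Groth.Agent.Lib.Helper2.Coind
import Groth.Agent.Lib.Helper12.PolyInjective

set_option autoImplicit false
universe u
open GrLC

namespace Groth.Agent.S18634

open Groth.Agent.Lib.Helper66.GradedInj Groth.Agent.Lib.Helper2.Coind CategoryTheory

section shift

variable (R : Type u) [CommRing R] (E : Type u) [AddCommGroup E] [Module R E]

/-- the shift by `k` on `ℤ →₀ E` -/
noncomputable def shift (k : ℤ) : (ℤ →₀ E) →ₗ[R] (ℤ →₀ E) :=
  Finsupp.lmapDomain E R (fun g => g + k)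

theorem shift_single (k g : ℤ) (e : E) :
    shift R E k (Finsupp.single g e) = Finsupp.single (g + k) e := by
  unfold shift
  rw [Finsupp.lmapDomain_apply, Finsupp.mapDomain_single]

theorem shift_add (j k : ℤ) (l : ℤ →₀ E) :
    shift R E k (shift R E j l) = shift R E (j + k) l := by
  induction l using Finsupp.induction_linear with
  | zero => simp
  | add x y hx hy => rw [map_add, map_add, map_add, hx, hy]
  | single g e => rw [shift_single, shift_single, shift_single, add_assoc]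

theorem shift_zero (l : ℤ →₀ E) : shift R E 0 l = l := by
  induction l using Finsupp.induction_linear with
  | zero => simp
  | add x y hx hy => rw [map_add, hx, hy]
  | single g e => rw [shift_single, add_zero]

end shift

theorem exists_diff {G : Type*} [AddCommGroup G] (v : ℤ → G) :
    ∃ u : ℤ → G, ∀ n, u n - u (n + 1) = v n := by
  refine ⟨fun n => ∑ k ∈ Finset.range (-n).toNat, v (-((k : ℤ) + 1)) -
    ∑ k ∈ Finset.range n.toNat, v k, fun n => ?_⟩
  rcases lt_or_ge n 0 with hn | hn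
  · obtain ⟨m, rfl⟩ : ∃ m : ℕ, n = -((m : ℤ) + 1) := ⟨(-n - 1).toNat, by omega⟩
    have e1 : (-(-((m : ℤ) + 1))).toNat = m + 1 := by omega
    have e2 : (-((m : ℤ) + 1)).toNat = 0 := by omega
    have e3 : (-(-((m : ℤ) + 1) + 1)).toNat = m := by omega
    have e4 : (-((m : ℤ) + 1) + 1).toNat = 0 := by omega
    simp only [e1, e2, e3, e4, Finset.sum_range_succ, Finset.range_zero, Finset.sum_empty,
      sub_zero]
    abel
  · obtain ⟨m, rfl⟩ : ∃ m : ℕ, n = (m : ℤ) := ⟨n.toNat, by omega⟩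
    have e1 : (-(m : ℤ)).toNat = 0 := by omega
    have e2 : ((m : ℤ)).toNat = m := by omega
    have e3 : (-((m : ℤ) + 1)).toNat = 0 := by omega
    have e4 : ((m : ℤ) + 1).toNat = m + 1 := by omega
    simp only [e1, e2, e3, e4, Finset.sum_range_succ, Finset.range_zero, Finset.sum_empty,
      zero_sub]
    abel

section seq

variable {R : Type u} [CommRing R] (𝒜 : ℤ → AddSubgroup R) [GradedRing 𝒜]
variable (E : Type u) [AddCommGroup E] [Module R E]

/-- `c ↦ (n ↦ T^n c)`, additive -/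
noncomputable def alphaAdd : Cofree 𝒜 E →+ Coind 𝒜 (ℤ →₀ E) where
  toFun c := mk 𝒜 (ℤ →₀ E) (fun n => shift R E n (toF 𝒜 E c))
  map_zero' := by
    refine coind_ext 𝒜 _ fun n => ?_
    change shift R E n (toF 𝒜 E 0) = 0
    rw [map_zero, map_zero]
  map_add' c c' := by
    refine coind_ext 𝒜 _ fun n => ?_
    change shift R E n (toF 𝒜 E (c + c')) = shift R E n (toF 𝒜 E c) + shift R E n (toF 𝒜 E c')
    rw [map_add, map_add]

theorem ev_alphaAdd (c : Cofree 𝒜 E) (n : ℤ) :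
    ev 𝒜 (ℤ →₀ E) (alphaAdd 𝒜 E c) n = shift R E n (toF 𝒜 E c) := rfl

theorem alphaAdd_smul (r : R) (c : Cofree 𝒜 E) :
    alphaAdd 𝒜 E (r • c) = r • alphaAdd 𝒜 E c := by
  induction r using DirectSum.Decomposition.inductionOn 𝒜 with
  | zero => simp
  | @homogeneous h a =>
    obtain ⟨a, ha⟩ := a
    induction c using cofree_induction 𝒜 E with
    | h0 => simp
    | hs g e =>
      refine coind_ext 𝒜 _ fun n => ?_
      rw [smul_csingle 𝒜 E ha, ev_smul_homog 𝒜 _ ha, ev_alphaAdd, ev_alphaAdd, toF_csingle,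
        toF_csingle, shift_single, shift_single, Finsupp.smul_single]
      rw [show h + g + n = g + (n + h) by ring]
    | hadd x y hx hy => rw [smul_add, map_add, map_add, hx, hy, smul_add]
  | add a a' ha ha' => rw [add_smul, map_add, ha, ha', add_smul]

/-- `c ↦ (n ↦ T^n c)` -/
noncomputable def alpha : Cofree 𝒜 E →ₗ[R] Coind 𝒜 (ℤ →₀ E) where
  toFun := alphaAdd 𝒜 E
  map_add' := map_add _
  map_smul' := alphaAdd_smul 𝒜 E

/-- `f ↦ (n ↦ T (f n) - f (n + 1))`, additive -/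
noncomputable def betaAdd : Coind 𝒜 (ℤ →₀ E) →+ Coind 𝒜 (ℤ →₀ E) where
  toFun f := mk 𝒜 (ℤ →₀ E)
    (fun n => shift R E 1 (ev 𝒜 (ℤ →₀ E) f n) - ev 𝒜 (ℤ →₀ E) f (n + 1))
  map_zero' := by
    refine coind_ext 𝒜 _ fun n => ?_
    change shift R E 1 (ev 𝒜 (ℤ →₀ E) (0 : Coind 𝒜 (ℤ →₀ E)) n) -
      ev 𝒜 (ℤ →₀ E) (0 : Coind 𝒜 (ℤ →₀ E)) (n + 1) = 0
    rw [ev_zero, ev_zero, map_zero, sub_zero]
  map_add' f f' := by
    refine coind_ext 𝒜 _ fun n => ?_
    change shift R E 1 (ev 𝒜 (ℤ →₀ E) (f + f') n) - ev 𝒜 (ℤ →₀ E) (f + f') (n + 1) =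
      (shift R E 1 (ev 𝒜 (ℤ →₀ E) f n) - ev 𝒜 (ℤ →₀ E) f (n + 1)) +
      (shift R E 1 (ev 𝒜 (ℤ →₀ E) f' n) - ev 𝒜 (ℤ →₀ E) f' (n + 1))
    rw [ev_add, ev_add, map_add]
    abel

theorem ev_betaAdd (f : Coind 𝒜 (ℤ →₀ E)) (n : ℤ) :
    ev 𝒜 (ℤ →₀ E) (betaAdd 𝒜 E f) n =
      shift R E 1 (ev 𝒜 (ℤ →₀ E) f n) - ev 𝒜 (ℤ →₀ E) f (n + 1) := rfl

theorem betaAdd_smul (r : R) (f : Coind 𝒜 (ℤ →₀ E)) :
    betaAdd 𝒜 E (r • f) = r • betaAdd 𝒜 E f := by
  induction r using DirectSum.Decomposition.inductionOn 𝒜 with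
  | zero => simp
  | @homogeneous h a =>
    obtain ⟨a, ha⟩ := a
    refine coind_ext 𝒜 _ fun n => ?_
    rw [ev_smul_homog 𝒜 _ ha, ev_betaAdd, ev_betaAdd, ev_smul_homog 𝒜 _ ha,
      ev_smul_homog 𝒜 _ ha, LinearMap.map_smul, smul_sub]
    rw [show n + 1 + h = n + h + 1 by ring]
  | add a a' ha ha' => rw [add_smul, map_add, ha, ha', add_smul]

/-- `f ↦ (n ↦ T (f n) - f (n + 1))` -/
noncomputable def beta : Coind 𝒜 (ℤ →₀ E) →ₗ[R] Coind 𝒜 (ℤ →₀ E) where
  toFun := betaAdd 𝒜 E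
  map_add' := map_add _
  map_smul' := betaAdd_smul 𝒜 E

theorem beta_alpha (c : Cofree 𝒜 E) : beta 𝒜 E (alpha 𝒜 E c) = 0 := by
  refine coind_ext 𝒜 _ fun n => ?_
  change shift R E 1 (shift R E n (toF 𝒜 E c)) - shift R E (n + 1) (toF 𝒜 E c) = 0
  rw [shift_add, sub_self]

theorem alpha_injective : Function.Injective (alpha 𝒜 E) := by
  intro c c' h
  have h0 := congrArg (fun f => ev 𝒜 (ℤ →₀ E) f 0) h
  change shift R E 0 (toF 𝒜 E c) = shift R E 0 (toF 𝒜 E c') at h0
  rw [shift_zero, shift_zero] at h0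
  exact (toF 𝒜 E).injective h0

theorem exact_alpha_beta (f : Coind 𝒜 (ℤ →₀ E)) (hf : beta 𝒜 E f = 0) :
    ∃ c, alpha 𝒜 E c = f := by
  have h1 : ∀ n, ev 𝒜 (ℤ →₀ E) f (n + 1) = shift R E 1 (ev 𝒜 (ℤ →₀ E) f n) := by
    intro n
    have h0 := congrArg (fun f => ev 𝒜 (ℤ →₀ E) f n) hf
    change shift R E 1 (ev 𝒜 (ℤ →₀ E) f n) - ev 𝒜 (ℤ →₀ E) f (n + 1) = 0 at h0
    exact (sub_eq_zero.mp h0).symm
  have h2 : ∀ n : ℤ, ev 𝒜 (ℤ →₀ E) f n = shift R E n (ev 𝒜 (ℤ →₀ E) f 0) := by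
    intro n
    refine Int.induction_on n ?_ ?_ ?_
    · rw [shift_zero]
    · intro i hi
      rw [h1, hi, shift_add]
    · intro i hi
      have h0 := h1 (-(i : ℤ) - 1)
      rw [sub_add_cancel, hi] at h0
      have h3 := congrArg (shift R E (-1)) h0
      rw [shift_add, shift_add] at h3
      rw [show (1 : ℤ) + -1 = 0 by norm_num, shift_zero] at h3
      rw [← h3, sub_eq_add_neg]
  refine ⟨(toF 𝒜 E).symm (ev 𝒜 (ℤ →₀ E) f 0), ?_⟩
  refine coind_ext 𝒜 _ fun n => ?_
  change shift R E n (toF 𝒜 E ((toF 𝒜 E).symm (ev 𝒜 (ℤ →₀ E) f 0))) = _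
  rw [AddEquiv.apply_symm_apply, h2 n]

theorem beta_surjective : Function.Surjective (beta 𝒜 E) := by
  intro g
  obtain ⟨u, hu⟩ := exists_diff (fun n => shift R E (-(n + 1)) (ev 𝒜 (ℤ →₀ E) g n))
  refine ⟨mk 𝒜 (ℤ →₀ E) (fun n => shift R E n (u n)), ?_⟩
  refine coind_ext 𝒜 _ fun n => ?_
  change shift R E 1 (shift R E n (u n)) - shift R E (n + 1) (u (n + 1)) = ev 𝒜 (ℤ →₀ E) g n
  rw [shift_add, ← map_sub, hu n, shift_add, neg_add_cancel, shift_zero]

/-- The cofree graded module on an injective module has injective dimension `≤ 1`. -/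
theorem hasInjDim_cofree [IsNoetherianRing R] [Module.Injective R E] :
    HasInjectiveDimensionLT (ModuleCat.of R (Cofree 𝒜 E)) 2 := by
  haveI hL : Module.Injective R (ℤ →₀ E) :=
    (Groth.Agent.Lib.Helper12.PolySeq.baer_finsupp ℤ E
      (Module.Baer.of_injective inferInstance)).injective
  haveI hJ : Module.Injective R (Coind 𝒜 (ℤ →₀ E)) := injective_coind 𝒜 (ℤ →₀ E)
  haveI hJ' : Injective (ModuleCat.of R (Coind 𝒜 (ℤ →₀ E))) :=
    Module.injective_object_of_injective_module R (Coind 𝒜 (ℤ →₀ E))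
  have hfg : Function.Exact (alpha 𝒜 E) (beta 𝒜 E) := fun y =>
    ⟨fun h => exact_alpha_beta 𝒜 E y h, fun ⟨c, hc⟩ => hc ▸ beta_alpha 𝒜 E c⟩
  let S : ShortComplex (ModuleCat.{u} R) :=
    ModuleCat.shortComplexOfCompEqZero (alpha 𝒜 E) (beta 𝒜 E) hfg.linearMap_comp_eq_zero
  have hS : S.ShortExact :=
    { exact := ModuleCat.shortComplex_exact _ hfg
      mono_f := (ModuleCat.mono_iff_injective _).mpr (alpha_injective 𝒜 E)
      epi_g := (ModuleCat.epi_iff_surjective _).mpr (beta_surjective 𝒜 E) }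
  have h3 : HasInjectiveDimensionLT S.X₃ 1 :=
    (inferInstance : HasInjectiveDimensionLT (ModuleCat.of R (Coind 𝒜 (ℤ →₀ E))) 1)
  have h2 : HasInjectiveDimensionLT S.X₂ (1 + 1) :=
    (hasInjectiveDimensionLT_of_ge (ModuleCat.of R (Coind 𝒜 (ℤ →₀ E))) 1 (1 + 1) (by norm_num) :
      HasInjectiveDimensionLT (ModuleCat.of R (Coind 𝒜 (ℤ →₀ E))) (1 + 1))
  exact hS.hasInjectiveDimensionLT_X₁ 1 h3 h2

end seq

/-- Let R be a commutative Noetherian ℤ-graded ring and M a graded R-module which is *injective, that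
is, an injective object of the category of graded R-modules with degree-preserving maps. Then the
injective dimension of M as an ordinary R-module is at most 1. (The published item compares the
graded and the ordinary injective dimensions of an arbitrary graded module; the published proof
reduces to and establishes exactly this *injective case, from which the ordinary injective dimension
of any graded module is at most one more than its graded injective dimension.) -/
theorem result (R : Type u) [CommRing R] [IsNoetherianRing R] (𝒜 : ℤ → AddSubgroup R) [GradedRing 𝒜] (M : Type u) [AddCommGroup M] [Module R M] (ℳ : ℤ → AddSubgroup M) [DirectSum.Decomposition ℳ] [SetLike.GradedSMul 𝒜 ℳ] (hM : GrLC.IsStarInj 𝒜 ℳ) : CategoryTheory.HasInjectiveDimensionLT (ModuleCat.of R M) 2 := by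
  obtain ⟨E, _, _, _, j, hj⟩ : ∃ (I : Type u) (_ : AddCommGroup I) (_ : Module R I)
      (_ : Module.Injective R I) (j : M →ₗ[R] I), Function.Injective j := by
    let X : ModuleCat.{u} R := ModuleCat.of R M
    let Y : ModuleCat.{u} R := CategoryTheory.Injective.under X
    have hinj : CategoryTheory.Injective Y := inferInstance
    refine ⟨(Y : Type u), inferInstance, inferInstance, ?_,
      (CategoryTheory.Injective.ι X).hom, ?_⟩
    · exact Module.injective_module_of_injective_object R Y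
    · exact (ModuleCat.mono_iff_injective _).mp inferInstance
  let s : M →ₗ[R] Cofree 𝒜 E := sharp 𝒜 ℳ j
  have hs1 : GrLC.IsGrHom ℳ (piece 𝒜 E) s := sharp_grHom 𝒜 ℳ j
  have hs2 : Function.Injective s := sharp_injective 𝒜 ℳ j hj
  obtain ⟨r, _, hrs⟩ := hM (GrLC.GMod.of 𝒜 M ℳ) (cofreeGMod 𝒜 E) s
    hs1 hs2 LinearMap.id (fun g m hm => hm)
  let r' : Cofree 𝒜 E →ₗ[R] M := r
  have hrs' : r' ∘ₗ s = LinearMap.id := hrs
  haveI := hasInjDim_cofree 𝒜 E
  have ret : Retract (ModuleCat.of R M) (ModuleCat.of R (Cofree 𝒜 E)) :=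
    { i := ModuleCat.ofHom s
      r := ModuleCat.ofHom r'
      retract := by
        rw [← ModuleCat.ofHom_comp, hrs']
        rfl }
  exact ret.hasInjectiveDimensionLT 2

end Groth.Agent.S18634
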