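import Groth.Statements.S18635
import Groth.Agent.Lib.Helper2.GrRecur
import Groth.Agent.Lib.Helper2.StarInjTors

set_option autoImplicit false
universe u
open GrLC

namespace Groth.Agent.S18635

/-- Let R be a commutative Noetherian ℤ-graded ring and M a *injective graded R-module (an injective
object of the category of graded R-modules). Then M fails to be injective as an ordinary R-module —
equivalently, since a *injective graded module has ordinary injective dimension at most 1, its
ordinary injective dimension is exactly 1 — if and only if there is a prime ideal p of R which is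
not graded and whose graded core p* (the largest graded ideal contained in p, itself a prime) is an
associated prime of M. -/
theorem result (R : Type u) [CommRing R] [IsNoetherianRing R] (𝒜 : ℤ → AddSubgroup R) [GradedRing 𝒜] (M : Type u) [AddCommGroup M] [Module R M] (ℳ : ℤ → AddSubgroup M) [DirectSum.Decomposition ℳ] [SetLike.GradedSMul 𝒜 ℳ] (hM : GrLC.IsStarInj 𝒜 ℳ) : ¬ Module.Injective R M ↔ ∃ p : Ideal R, p.IsPrime ∧ ¬ Ideal.IsHomogeneous 𝒜 p ∧ (Ideal.homogeneousCore 𝒜 p).toIdeal ∈ associatedPrimes R M := by
  constructor
  · intro hni
    by_contra H
    apply hni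
    exact Groth.Agent.Lib.Helper2.StarInjTors.injective_of_forall 𝒜 ℳ hM
      (fun p hp hph hmem => H ⟨p, hp, hph, hmem⟩)
  · rintro ⟨p, hp, hph, hmem⟩
    haveI := hp
    exact Groth.Agent.Lib.Helper2.GrRecur.not_injective_of_core_mem 𝒜 ℳ p hph hmem

end Groth.Agent.S18635
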