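import Groth.Statements.S18637
import Groth.Agent.S13220
import Groth.Agent.Lib.Helper66.GradedHomDec
import Groth.Agent.Lib.Helper66.GradedSub
import Groth.Agent.Lib.Helper2.InjHullLoc2
import Groth.Agent.Lib.Helper2.InjHull6

set_option autoImplicit false
universe u
open GrLC

namespace Groth.Agent.S18637

open Groth.Agent.Lib.Helper66.GradedSub Groth.Agent.Lib.Helper66.GradedHomDec in
/-- One-step extension: a linear map from a homogeneous ideal into a *injective module is given by
multiplication with an element. -/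
theorem exists_smul_eq (R : Type u) [CommRing R] [IsNoetherianRing R] (𝒜 : ℤ → AddSubgroup R)
    [GradedRing 𝒜] (m : HomogeneousIdeal 𝒜) (E' : Type u) [AddCommGroup E'] [Module R E']
    (𝓔 : ℤ → AddSubgroup E') [DirectSum.Decomposition 𝓔] [SetLike.GradedSMul 𝒜 𝓔]
    (hI : GrLC.IsStarInj 𝒜 𝓔) (h : m.toIdeal →ₗ[R] E') :
    ∃ y : E', ∀ (r : R) (hr : r ∈ m.toIdeal), h ⟨r, hr⟩ = r • y := by
  haveI : Module.Finite R (subGMod 𝒜 𝒜 m.toIdeal m.isHomogeneous).carrier :=
    (inferInstance : Module.Finite R ↥m.toIdeal)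
  obtain ⟨ψ, hψ⟩ := exists_extension 𝒜 𝓔 (subGMod 𝒜 𝒜 m.toIdeal m.isHomogeneous)
    (GrLC.GMod.of 𝒜 R 𝒜) (m.toIdeal.subtype) (subtype_grHom 𝒜 m.toIdeal)
    (Submodule.injective_subtype _) hI h
  let ψ' : R →ₗ[R] E' := ψ
  refine ⟨ψ' 1, fun r hr => ?_⟩
  have h1 : h ⟨r, hr⟩ = ψ' r := (LinearMap.congr_fun hψ ⟨r, hr⟩).symm
  have h2 : ψ' r = r • ψ' 1 := by
    have h3 : ψ' (r • (1 : R)) = r • ψ' 1 := map_smul ψ' r 1
    rwa [smul_eq_mul, mul_one] at h3
  rw [h1, h2]

/-- Let R be a commutative Noetherian ℤ-graded ring and m a maximal ideal of R which is graded. If e :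
R/m → E is a *injective envelope of R/m in the category of graded R-modules (E graded and
*injective, e degree-preserving and injective, every nonzero graded submodule of E meeting the
image), then e is an injective hull of R/m as an ordinary R-module: E is an injective R-module and e
is an essential injection. -/
theorem result (R : Type u) [CommRing R] [IsNoetherianRing R] (𝒜 : ℤ → AddSubgroup R) [GradedRing 𝒜] (m : HomogeneousIdeal 𝒜) [m.toIdeal.IsMaximal] (E' : Type u) [AddCommGroup E'] [Module R E'] (𝓔 : ℤ → AddSubgroup E') [DirectSum.Decomposition 𝓔] [SetLike.GradedSMul 𝒜 𝓔] (e : (R ⧸ m.toIdeal) →ₗ[R] E') (he : GrLC.IsStarInjHull 𝒜 (GrLC.quotGr 𝒜 m) 𝓔 e) : InjHull.IsInjectiveHull e := by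
  classical
  have hess : InjHull.IsEssentialInj e :=
    Groth.Agent.S13220.essential_of_starEss R 𝒜 m E' 𝓔 e he.toIsStarEss
  have hessElt : Groth.Agent.Lib.Helper2.EssElt e := hess.essElt
  obtain ⟨E'', _, _, f'', hf''⟩ :=
    Groth.Agent.Lib.Helper2.exists_injectiveHull R (R ⧸ m.toIdeal)
  obtain ⟨φ, hφ⟩ := hf''.isInjective.out e hess.injective f''
  have hφe : φ ∘ₗ e = f'' := LinearMap.ext hφ
  have hφinj : Function.Injective φ :=
    Groth.Agent.Lib.Helper2.injective_of_essElt_comp hessElt φ (by rw [hφe]; exact hf''.injective)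
  have htors : LocCoh.IsPowerTorsion m.toIdeal E'' :=
    Groth.Agent.Lib.Helper2.isPowerTorsion_of_isInjectiveHull_quotient m.toIdeal f'' hf''
  have hsoc : ∀ z : E'', (∀ r ∈ m.toIdeal, r • z = 0) → z ∈ LinearMap.range f'' := by
    intro z hz
    by_cases hz0 : z = 0
    · rw [hz0]; exact Submodule.zero_mem _
    obtain ⟨r, hr0, hr⟩ := hf''.toIsEssentialInj.essElt z hz0
    have hrm : r ∉ m.toIdeal := fun h => hr0 (hz r h)
    obtain ⟨s, t, ht, hst⟩ :=
      Ideal.IsMaximal.exists_inv (inferInstance : m.toIdeal.IsMaximal) hrm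
    have hzs : z = s • (r • z) := by
      calc z = (1 : R) • z := (one_smul _ _).symm
        _ = (s * r + t) • z := by rw [hst]
        _ = s • (r • z) := by rw [add_smul, mul_smul, hz t ht, add_zero]
    rw [hzs]
    exact Submodule.smul_mem _ _ hr
  have hsurj : ∀ (k : ℕ) (y : E''), (∀ a ∈ m.toIdeal ^ k, a • y = 0) →
      y ∈ LinearMap.range φ := by
    intro k
    induction k with
    | zero =>
      intro y hy
      have h1 := hy 1 (by rw [pow_zero, Ideal.one_eq_top]; exact Submodule.mem_top)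
      rw [one_smul] at h1
      rw [h1]; exact Submodule.zero_mem _
    | succ k ih =>
      intro y hy
      have hmy : ∀ r ∈ m.toIdeal, r • y ∈ LinearMap.range φ := by
        intro r hr
        apply ih
        intro a ha
        rw [smul_smul]
        exact hy _ (by rw [pow_succ]; exact Ideal.mul_mem_mul ha hr)
      let h0 : m.toIdeal →ₗ[R] LinearMap.range φ :=
        LinearMap.codRestrict (LinearMap.range φ)
          ((LinearMap.toSpanSingleton R E'' y) ∘ₗ m.toIdeal.subtype) (fun r => by
            rw [LinearMap.comp_apply, LinearMap.toSpanSingleton_apply]; exact hmy r.1 r.2)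
      let h : m.toIdeal →ₗ[R] E' := (LinearEquiv.ofInjective φ hφinj).symm.toLinearMap ∘ₗ h0
      obtain ⟨y0, hy0⟩ := exists_smul_eq R 𝒜 m E' 𝓔 he.starInj h
      have hkey : ∀ r ∈ m.toIdeal, φ (r • y0) = r • y := by
        intro r hr
        rw [← hy0 r hr]
        show φ ((LinearEquiv.ofInjective φ hφinj).symm (h0 ⟨r, hr⟩)) = r • y
        have h1 := (LinearEquiv.ofInjective φ hφinj).apply_symm_apply (h0 ⟨r, hr⟩)
        have h2 := congrArg Subtype.val h1
        rw [LinearEquiv.ofInjective_apply] at h2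
        exact h2
      have hz : y - φ y0 ∈ LinearMap.range f'' := by
        apply hsoc
        intro r hr
        rw [smul_sub, ← map_smul, hkey r hr, sub_self]
      obtain ⟨c, hc⟩ := hz
      refine ⟨e c + y0, ?_⟩
      rw [map_add, hφ c, hc, sub_add_cancel]
  have hφsurj : Function.Surjective φ := by
    intro y
    obtain ⟨k, hk⟩ := htors y
    exact hsurj k y hk
  let Φ : E' ≃ₗ[R] E'' := LinearEquiv.ofBijective φ ⟨hφinj, hφsurj⟩
  have h1 := Groth.Agent.Lib.Helper2.isInjectiveHull_equiv_comp Φ.symm f'' hf''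
  have h2 : Φ.symm.toLinearMap ∘ₗ f'' = e := by
    refine LinearMap.ext fun c => ?_
    simp only [LinearMap.comp_apply, LinearEquiv.coe_coe]
    rw [LinearEquiv.symm_apply_eq]
    exact (hφ c).symm
  rwa [h2] at h1

end Groth.Agent.S18637
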