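import Groth.Statements.S18638
import Groth.Agent.S13231
import Groth.Agent.S7701
import Groth.Agent.Lib.Helper2.CanonType
import Groth.Agent.Lib.Helper97.GrHtOne
import Groth.Agent.Lib.Helper2.GrGor
import Groth.Agent.Lib.Helper2.GrCyclic

set_option autoImplicit false
universe u
open GrLC

namespace Groth.Agent.S18638

/-- Let R be a graded ring defined over a field which is Cohen–Macaulay, and K_R its canonical module.
Then R is Gorenstein exactly when K_R is isomorphic to a degree shift R(a) of R for some integer a,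
that is, there is a bijective R-linear map R → K_R homogeneous of some fixed degree. Here 'graded
ring defined over a field' means R = ⊕_{n ≥ 0} R_n is Noetherian with R_0 a field (so R is finitely
generated over R_0), m = R_+ is its unique graded maximal ideal and n = dim R; the canonical module
K_R (the graded dual of H^n_m(R)) is represented by a finitely generated graded module C together
with a homogeneous isomorphism from Hom_R(C, E) onto H^n_m(R), where E is a *injective envelope of
R/m and H^n_m(R) is computed from a *injective resolution of R in the graded category; by graded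
Matlis duality this says exactly that C ≅ K_R as graded modules. -/
theorem result (R : Type u) [CommRing R] [LocCoh.IsCohenMacaulayRing R] (𝒜 : ℤ → AddSubgroup R) [GradedRing 𝒜] (hpos : ∀ n : ℤ, n < 0 → 𝒜 n = ⊥) (h0 : IsField (GrLC.deg0 𝒜)) (m : HomogeneousIdeal 𝒜) (hm : GrLC.IsStarLocal 𝒜 m) (hmsp : m.toIdeal = Ideal.span (⋃ n ∈ Set.Ioi (0 : ℤ), (𝒜 n : Set R))) (n : ℕ) (hn : ringKrullDim R = n) (I : GrLC.StarInjRes 𝒜 𝒜) (E' : Type u) [AddCommGroup E'] [Module R E'] (𝓔 : ℤ → AddSubgroup E') [DirectSum.Decomposition 𝓔] [SetLike.GradedSMul 𝒜 𝓔] (e : (R ⧸ m.toIdeal) →ₗ[R] E') (he : GrLC.IsStarInjHull 𝒜 (GrLC.quotGr 𝒜 m) 𝓔 e) (C : Type u) [AddCommGroup C] [Module R C] (𝒞 : ℤ → AddSubgroup C) [DirectSum.Decomposition 𝒞] [SetLike.GradedSMul 𝒜 𝒞] (hC : GrLC.IsStarCanonical 𝒜 𝒞 𝓔 m n I) : LocCoh.IsGorensteinRing R ↔ ∃ (a : ℤ) (f : R →ₗ[R] C), Function.Bijective f ∧ GrLC.IsGrHomDeg 𝒜 𝒞 f a := by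
  classical
  haveI hmax : m.toIdeal.IsMaximal := Groth.Agent.Lib.Helper97.GrHtOne.isMaximal hpos m hm
  have hht : m.toIdeal.height = n := Groth.Agent.Lib.Helper97.GrHtOne.height_eq hpos m hm n hn
  haveI hCM : LocCoh.IsCohenMacaulayLocalRing (Localization.AtPrime m.toIdeal) :=
    LocCoh.IsCohenMacaulayRing.isCohenMacaulayLocalRing_localization m.toIdeal
  obtain ⟨E₀, _, _, f, hf⟩ := Groth.Agent.Lib.Helper2.exists_injectiveHull
    (Localization.AtPrime m.toIdeal) (IsLocalRing.ResidueField (Localization.AtPrime m.toIdeal))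
  obtain ⟨eK⟩ := Groth.Agent.S13231.result R 𝒜 m hm n hht I E' 𝓔 e he C 𝒞 hC E₀ f hf
  haveI : Module.Finite R C := hC.1
  have hdimA : ringKrullDim (Localization.AtPrime m.toIdeal) = n := by
    rw [IsLocalization.AtPrime.ringKrullDim_eq_height m.toIdeal (Localization.AtPrime m.toIdeal),
      hht]; rfl
  have hiff := Groth.Agent.S7701.result (Localization.AtPrime m.toIdeal) n hdimA E₀ f hf
    (LocalizedModule m.toIdeal.primeCompl C) eK
  constructor
  · intro hG
    have hGm : LocCoh.IsGorensteinLocalRing (Localization.AtPrime m.toIdeal) :=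
      hG.isGorensteinLocalRing_localization m.toIdeal
    obtain ⟨ε⟩ := hiff.1 hGm
    exact Groth.Agent.Lib.Helper2.GrCyclic.exists_bijective_of_localized_equiv m hm ε
  · rintro ⟨a, g, hg, -⟩
    have eg : R ≃ₗ[R] C := LinearEquiv.ofBijective g hg
    have ε : LocalizedModule m.toIdeal.primeCompl C ≃ₗ[Localization.AtPrime m.toIdeal]
        Localization.AtPrime m.toIdeal :=
      (Groth.Agent.Lib.Helper2.StarCanonLoc.locCongr m.toIdeal.primeCompl eg.symm).trans
        (Groth.Agent.Lib.Helper2.StarCanonLoc.locSelfEquiv (R := R) m.toIdeal.primeCompl)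
    have hGm := hiff.2 ⟨ε⟩
    exact Groth.Agent.Lib.Helper2.GrGor.isGorensteinRing_of_localization 𝒜 m hm hGm

end Groth.Agent.S18638
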