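import Groth.Statements.S18640
import Groth.Agent.S13231
import Groth.Agent.Lib.Helper2.CanonType
import Groth.Agent.Lib.Helper97.GrHtOne

set_option autoImplicit false
universe u
open scoped TensorProduct
open GrLC

namespace Groth.Agent.S18640

/-- Let R be a graded ring defined over a field which is Cohen–Macaulay, with graded maximal ideal m, n
= dim R, residue field k = R/m and canonical module K_R. Then (iii) the type of K_R is 1: the Bass
number μ_n(m, K_R), the k-dimension of Ext^n over R_m of k into (K_R)_m, equals 1; and (iv) the type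
of R, namely μ_n(m, R), equals ν(K_R) = dim_k (K_R / m K_R), the minimal number of generators of K_R
(written as the k-dimension of k ⊗_R K_R). Here 'graded ring defined over a field' means R = ⊕_{n ≥
0} R_n is Noetherian with R_0 a field (so R is finitely generated over R_0), m = R_+ is its unique
graded maximal ideal and n = dim R; the canonical module K_R (the graded dual of H^n_m(R)) is
represented by a finitely generated graded module C together with a homogeneous isomorphism from
Hom_R(C, E) onto H^n_m(R), where E is a *injective envelope of R/m and H^n_m(R) is computed from a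
*injective resolution of R in the graded category; by graded Matlis duality this says exactly that C
≅ K_R as graded modules. -/
theorem result (R : Type u) [CommRing R] [LocCoh.IsCohenMacaulayRing R] (𝒜 : ℤ → AddSubgroup R) [GradedRing 𝒜] (hpos : ∀ n : ℤ, n < 0 → 𝒜 n = ⊥) (h0 : IsField (GrLC.deg0 𝒜)) (m : HomogeneousIdeal 𝒜) (hm : GrLC.IsStarLocal 𝒜 m) (hmsp : m.toIdeal = Ideal.span (⋃ n ∈ Set.Ioi (0 : ℤ), (𝒜 n : Set R))) [m.toIdeal.IsMaximal] (n : ℕ) (hn : ringKrullDim R = n) (I : GrLC.StarInjRes 𝒜 𝒜) (E' : Type u) [AddCommGroup E'] [Module R E'] (𝓔 : ℤ → AddSubgroup E') [DirectSum.Decomposition 𝓔] [SetLike.GradedSMul 𝒜 𝓔] (e : (R ⧸ m.toIdeal) →ₗ[R] E') (he : GrLC.IsStarInjHull 𝒜 (GrLC.quotGr 𝒜 m) 𝓔 e) (C : Type u) [AddCommGroup C] [Module R C] (𝒞 : ℤ → AddSubgroup C) [DirectSum.Decomposition 𝒞] [SetLike.GradedSMul 𝒜 𝒞] (hC : GrLC.IsStarCanonical 𝒜 𝒞 𝓔 m n I) : GrLC.bassNum m.toIdeal C n = 1 ∧ GrLC.bassNum m.toIdeal R n = (Module.finrank (R ⧸ m.toIdeal) ((R ⧸ m.toIdeal) ⊗[R] C) : ℕ∞) := by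
  classical
  have hht : m.toIdeal.height = n := Groth.Agent.Lib.Helper97.GrHtOne.height_eq hpos m hm n hn
  haveI hCM : LocCoh.IsCohenMacaulayLocalRing (Localization.AtPrime m.toIdeal) :=
    LocCoh.IsCohenMacaulayRing.isCohenMacaulayLocalRing_localization m.toIdeal
  obtain ⟨E₀, _, _, f, hf⟩ := Groth.Agent.Lib.Helper2.exists_injectiveHull
    (Localization.AtPrime m.toIdeal) (IsLocalRing.ResidueField (Localization.AtPrime m.toIdeal))
  obtain ⟨eK⟩ := Groth.Agent.S13231.result R 𝒜 m hm n hht I E' 𝓔 e he C 𝒞 hC E₀ f hf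
  haveI : Module.Finite R C := hC.1
  have hdimA : ringKrullDim (Localization.AtPrime m.toIdeal) = n := by
    rw [IsLocalization.AtPrime.ringKrullDim_eq_height m.toIdeal (Localization.AtPrime m.toIdeal),
      hht]; rfl
  have hdim : Module.supportDim (Localization.AtPrime m.toIdeal)
      (Localization.AtPrime m.toIdeal) = n := by
    rw [Module.supportDim_self_eq_ringKrullDim, hdimA]
  have hdepth : (n : ℕ∞) ≤ LocCoh.depth (Localization.AtPrime m.toIdeal)
      (Localization.AtPrime m.toIdeal) := by
    have h1 := LocCoh.IsCohenMacaulayLocalRing.supportDim_eq_depth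
      (R := Localization.AtPrime m.toIdeal)
    rw [hdim] at h1
    have h2 : ((n : ℕ∞) : WithBot ℕ∞) = ((LocCoh.depth (Localization.AtPrime m.toIdeal)
        (Localization.AtPrime m.toIdeal) : ℕ∞) : WithBot ℕ∞) := by
      exact_mod_cast h1
    exact le_of_eq (WithBot.coe_injective h2)
  have hvan := Groth.Agent.Lib.Helper2.LD.subsingleton_localCohomology_of_lt_depth
    (R := Localization.AtPrime m.toIdeal) n hdepth
  refine ⟨?_, ?_⟩
  · exact Groth.Agent.Lib.Helper2.CanonType.length_ext_canon f hf n hdimA.le hvan eK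
  · have h1 := (Groth.Agent.Lib.Helper2.CanonType.extCongrRight
      (ModuleCat.of (Localization.AtPrime m.toIdeal)
        (IsLocalRing.ResidueField (Localization.AtPrime m.toIdeal)))
      (Groth.Agent.Lib.Helper2.StarCanonLoc.locSelfEquiv (R := R) m.toIdeal.primeCompl) n).length_eq
    have h2 := Groth.Agent.Lib.Helper2.CanonType.length_ext_self f hf n hdimA.le hvan eK hdepth
    have h3 := Groth.Agent.Lib.Helper2.LocResidue.length_eq_finrank m.toIdeal C
    exact h1.trans (h2.trans h3)

end Groth.Agent.S18640
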