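import Groth.Statements.S18644
import Groth.Agent.Lib.Helper87.APolyG
import Groth.Agent.Lib.Helper77.GLC0

set_option autoImplicit false
universe u
open GrLC

namespace Groth.Agent.S18644

/-- Let R be a graded ring defined over a field k = R_0 which is Cohen–Macaulay and generated over k by
R_1, of dimension r. Then a(R) = −r holds exactly when R is isomorphic to the polynomial ring over k
in r variables. Here 'graded ring defined over a field' means R = ⊕_{n ≥ 0} R_n is Noetherian with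
R_0 a field, and m = R_+ is its unique graded maximal ideal. The a-invariant a(R) is the largest
degree in which the graded local cohomology H^n_m(R) (n = dim R, m = R_+), computed from a
*injective resolution of R in the graded category, is nonzero. (The inequality a(R) ≥ −r of the same
lemma is stated separately.) -/
theorem result (R : Type u) [CommRing R] [LocCoh.IsCohenMacaulayRing R] (𝒜 : ℤ → AddSubgroup R) [GradedRing 𝒜] (hpos : ∀ n : ℤ, n < 0 → 𝒜 n = ⊥) (h0 : IsField (GrLC.deg0 𝒜)) (m : HomogeneousIdeal 𝒜) (hm : GrLC.IsStarLocal 𝒜 m) (hmsp : m.toIdeal = Ideal.span (⋃ n ∈ Set.Ioi (0 : ℤ), (𝒜 n : Set R))) (hstd : Ideal.span (⋃ n ∈ Set.Ioi (0 : ℤ), (𝒜 n : Set R)) = Ideal.span ((𝒜 1 : AddSubgroup R) : Set R)) (r : ℕ) (hr : ringKrullDim R = r) (I : GrLC.StarInjRes 𝒜 𝒜) : GrLC.endDeg (I.Hgr m r) = (((-(r : ℤ) : ℤ) : WithTop ℤ) : WithBot (WithTop ℤ)) ↔ Nonempty (R ≃+* MvPolynomial (Fin r) (GrLC.deg0 𝒜)) := by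
  classical
  letI : Field (GrLC.deg0 𝒜) := h0.toField
  letI : SetLike.GradedMonoid (GrLC.comp 𝒜 𝒜) :=
    { one_mem := SetLike.GradedOne.one_mem (A := 𝒜)
      mul_mem := fun _ _ _ _ ha hb => SetLike.GradedMul.mul_mem (A := 𝒜) ha hb }
  letI : DirectSum.Decomposition (GrLC.comp 𝒜 𝒜) :=
    Groth.Agent.Lib.Helper77.GLC.decompOfIff 𝒜 (GrLC.comp 𝒜 𝒜) (fun _ _ => Iff.rfl)
  letI : GradedAlgebra (GrLC.comp 𝒜 𝒜) := { }
  have hAA : ∀ n x, x ∈ GrLC.comp 𝒜 𝒜 n ↔ x ∈ 𝒜 n := fun _ _ => Iff.rfl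
  have h0' : GrLC.comp 𝒜 𝒜 0 = Submodule.span (GrLC.deg0 𝒜) {(1 : R)} := by
    apply le_antisymm
    · intro y hy
      have hy' : y ∈ 𝒜 0 := hy
      rw [Submodule.mem_span_singleton]
      exact ⟨⟨y, hy'⟩, by rw [Subring.smul_def, smul_eq_mul, mul_one]⟩
    · rw [Submodule.span_le]
      intro y hy
      rw [Set.mem_singleton_iff] at hy
      rw [hy]
      exact SetLike.GradedOne.one_mem (A := 𝒜)
  constructor
  · intro hE
    obtain ⟨e⟩ := Groth.Agent.Lib.Helper87.APolyG.forward R 𝒜 (GrLC.comp 𝒜 𝒜) hAA h0' hpos h0 m hm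
      hmsp hstd r hr I hE
    exact ⟨e.toRingEquiv⟩
  · rintro ⟨e⟩
    haveI : IsRegularRing (MvPolynomial (Fin r) (GrLC.deg0 𝒜)) := inferInstance
    haveI : IsRegularRing R := IsRegularRing.of_ringEquiv e.symm
    exact Groth.Agent.Lib.Helper87.APolyG.backward R 𝒜 (GrLC.comp 𝒜 𝒜) hAA h0' hpos h0 m hm
      hmsp hstd r hr I

end Groth.Agent.S18644
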