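import Groth.Statements.S18651
import Groth.Agent.S13231
import Groth.Agent.S7701
import Groth.Agent.S13225
import Groth.Agent.S18865
import Groth.Agent.Lib.Helper2.CanonType
import Groth.Agent.Lib.Helper97.GrHtOne
import Groth.Agent.Lib.Helper2.GrCyclic
import Groth.Agent.Lib.Helper2.GrDeg
import Groth.Agent.Lib.Helper2.GrConv
import Groth.Agent.Lib.Helper2.WtPoly
import Groth.Agent.Lib.Helper33.GorLCI
import Groth.Agent.Lib.Helper33.GorDescent
import Groth.Agent.Lib.Helper33.GorTransfer

set_option autoImplicit false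
universe u
attribute [local instance] MvPolynomial.weightedGradedAlgebra
open GrLC

namespace Groth.Agent.S18651

/-- Let k be a field and R = k[X_1, …, X_N] the polynomial ring with deg X_i = w_i > 0. Then the
canonical module of R is K_R = X_1 X_2 ⋯ X_N · R ≅ R(−d) with d = w_1 + ⋯ + w_N; stated here as:
there is a bijective R-linear map R → K_R homogeneous of degree d. The canonical module is
represented by a finitely generated graded module C together with a homogeneous isomorphism from
Hom_R(C, E) onto H^N_m(R), where m = R_+, E is a *injective envelope of R/m and H^N_m(R) is computed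
from a *injective resolution of R in the graded category; by graded Matlis duality this says exactly
that C ≅ K_R as graded modules. -/
theorem result (k : Type u) [Field k] (N : ℕ) (w : Fin N → ℤ) (hw : ∀ i, 0 < w i) (m : HomogeneousIdeal (MvPolynomial.weightedHomogeneousSubmodule k w)) (hm : GrLC.IsStarLocal (MvPolynomial.weightedHomogeneousSubmodule k w) m) (hmsp : m.toIdeal = Ideal.span (⋃ n ∈ Set.Ioi (0 : ℤ), (MvPolynomial.weightedHomogeneousSubmodule k w n : Set (MvPolynomial (Fin N) k)))) (I : GrLC.StarInjRes (MvPolynomial.weightedHomogeneousSubmodule k w) (MvPolynomial.weightedHomogeneousSubmodule k w)) (E' : Type u) [AddCommGroup E'] [Module (MvPolynomial (Fin N) k) E'] (𝓔 : ℤ → AddSubgroup E') [DirectSum.Decomposition 𝓔] [SetLike.GradedSMul (MvPolynomial.weightedHomogeneousSubmodule k w) 𝓔] (e : (MvPolynomial (Fin N) k ⧸ m.toIdeal) →ₗ[MvPolynomial (Fin N) k] E') (he : GrLC.IsStarInjHull (MvPolynomial.weightedHomogeneousSubmodule k w) (GrLC.quotGr (MvPolynomial.weightedHomogeneousSubmodule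 k w) m) 𝓔 e) (C : Type u) [AddCommGroup C] [Module (MvPolynomial (Fin N) k) C] (𝒞 : ℤ → AddSubgroup C) [DirectSum.Decomposition 𝒞] [SetLike.GradedSMul (MvPolynomial.weightedHomogeneousSubmodule k w) 𝒞] (hC : GrLC.IsStarCanonical (MvPolynomial.weightedHomogeneousSubmodule k w) 𝒞 𝓔 m N I) : ∃ f : MvPolynomial (Fin N) k →ₗ[MvPolynomial (Fin N) k] C, Function.Bijective f ∧ GrLC.IsGrHomDeg (MvPolynomial.weightedHomogeneousSubmodule k w) 𝒞 f ((Finset.univ : Finset (Fin N)).sum w) := by
  classical
  letI g1 := Groth.Agent.Lib.Helper2.GrConv.gsmulToAdd (MvPolynomial.weightedHomogeneousSubmodule k w) 𝓔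
  letI g2 := Groth.Agent.Lib.Helper2.GrConv.gsmulToAdd (MvPolynomial.weightedHomogeneousSubmodule k w) 𝒞
  have hm₀ := Groth.Agent.Lib.Helper2.GrConv.isStarLocal_toAdd
    (MvPolynomial.weightedHomogeneousSubmodule k w) m hm
  have he₀ := Groth.Agent.Lib.Helper2.GrConv.isStarInjHull_toAdd
    (MvPolynomial.weightedHomogeneousSubmodule k w) 𝓔 m e he
  have hC₀ := Groth.Agent.Lib.Helper2.GrConv.isStarCanonical_toAdd
    (MvPolynomial.weightedHomogeneousSubmodule k w) 𝓔 𝒞 m N I hC
  have hpos := Groth.Agent.Lib.Helper2.WtPoly.hpos k N w hw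
  have hmsp₀ : (Groth.Agent.Lib.Helper2.GrConv.toAddIdeal
      (MvPolynomial.weightedHomogeneousSubmodule k w) m).toIdeal =
      Ideal.span (⋃ n ∈ Set.Ioi (0 : ℤ),
        (Groth.Agent.Lib.Helper2.GrConv.toAdd (MvPolynomial.weightedHomogeneousSubmodule k w) n :
          Set (MvPolynomial (Fin N) k))) := hmsp
  haveI : IsRegularRing (MvPolynomial (Fin N) k) := inferInstance
  haveI : LocCoh.IsCohenMacaulayRing (MvPolynomial (Fin N) k) :=
    Groth.Agent.S18865.isCohenMacaulayRing_of_isRegularRing _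
  have hr : ringKrullDim (MvPolynomial (Fin N) k) = N := by
    rw [MvPolynomial.ringKrullDim_of_isNoetherianRing, ringKrullDim_eq_zero_of_field, zero_add,
      Nat.card_fin]
  haveI hmax : (Groth.Agent.Lib.Helper2.GrConv.toAddIdeal
      (MvPolynomial.weightedHomogeneousSubmodule k w) m).toIdeal.IsMaximal :=
    Groth.Agent.Lib.Helper97.GrHtOne.isMaximal hpos _ hm₀
  have hht : (Groth.Agent.Lib.Helper2.GrConv.toAddIdeal
      (MvPolynomial.weightedHomogeneousSubmodule k w) m).toIdeal.height = N :=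
    Groth.Agent.Lib.Helper97.GrHtOne.height_eq hpos _ hm₀ N hr
  haveI hCM : LocCoh.IsCohenMacaulayLocalRing (Localization.AtPrime
      (Groth.Agent.Lib.Helper2.GrConv.toAddIdeal
        (MvPolynomial.weightedHomogeneousSubmodule k w) m).toIdeal) :=
    LocCoh.IsCohenMacaulayRing.isCohenMacaulayLocalRing_localization _
  obtain ⟨E₀, _, _, f₀, hf₀⟩ := Groth.Agent.Lib.Helper2.exists_injectiveHull
    (Localization.AtPrime (Groth.Agent.Lib.Helper2.GrConv.toAddIdeal
        (MvPolynomial.weightedHomogeneousSubmodule k w) m).toIdeal)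
    (IsLocalRing.ResidueField (Localization.AtPrime (Groth.Agent.Lib.Helper2.GrConv.toAddIdeal
        (MvPolynomial.weightedHomogeneousSubmodule k w) m).toIdeal))
  obtain ⟨eK⟩ := Groth.Agent.S13231.result (MvPolynomial (Fin N) k)
    (Groth.Agent.Lib.Helper2.GrConv.toAdd (MvPolynomial.weightedHomogeneousSubmodule k w))
    (Groth.Agent.Lib.Helper2.GrConv.toAddIdeal (MvPolynomial.weightedHomogeneousSubmodule k w) m)
    hm₀ N hht
    (Groth.Agent.Lib.Helper2.GrConv.resToAdd (MvPolynomial.weightedHomogeneousSubmodule k w) I)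
    E' 𝓔 e he₀ C 𝒞 hC₀ E₀ f₀ hf₀
  haveI : Module.Finite (MvPolynomial (Fin N) k) C := hC.1
  have hdimA : ringKrullDim (Localization.AtPrime (Groth.Agent.Lib.Helper2.GrConv.toAddIdeal
        (MvPolynomial.weightedHomogeneousSubmodule k w) m).toIdeal) = N := by
    rw [IsLocalization.AtPrime.ringKrullDim_eq_height
      (Groth.Agent.Lib.Helper2.GrConv.toAddIdeal
        (MvPolynomial.weightedHomogeneousSubmodule k w) m).toIdeal
      (Localization.AtPrime (Groth.Agent.Lib.Helper2.GrConv.toAddIdeal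
        (MvPolynomial.weightedHomogeneousSubmodule k w) m).toIdeal), hht]; rfl
  have hiff := Groth.Agent.S7701.result (Localization.AtPrime
      (Groth.Agent.Lib.Helper2.GrConv.toAddIdeal
        (MvPolynomial.weightedHomogeneousSubmodule k w) m).toIdeal) N hdimA E₀ f₀ hf₀
    (LocalizedModule (Groth.Agent.Lib.Helper2.GrConv.toAddIdeal
        (MvPolynomial.weightedHomogeneousSubmodule k w) m).toIdeal.primeCompl C) eK
  haveI : LocCoh.IsGorensteinLocalRing k :=
    Groth.Agent.Lib.Helper33.GorTransfer.gorenstein_of_field k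
  haveI : LocCoh.IsGorensteinRing k :=
    Groth.Agent.Lib.Helper33.GorDescent.isGorensteinRing_of_isGorensteinLocalRing k
  have hG : LocCoh.IsGorensteinRing (MvPolynomial (Fin N) k) :=
    Groth.Agent.Lib.Helper33.GorLCI.isGorensteinRing_mvPolynomial k N
  have hGm : LocCoh.IsGorensteinLocalRing (Localization.AtPrime
      (Groth.Agent.Lib.Helper2.GrConv.toAddIdeal
        (MvPolynomial.weightedHomogeneousSubmodule k w) m).toIdeal) :=
    hG.isGorensteinLocalRing_localization _
  obtain ⟨ε⟩ := hiff.1 hGm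
  obtain ⟨a, f, hf, hdeg⟩ := Groth.Agent.Lib.Helper2.GrCyclic.exists_bijective_of_localized_equiv
    (𝒞 := 𝒞)
    (Groth.Agent.Lib.Helper2.GrConv.toAddIdeal (MvPolynomial.weightedHomogeneousSubmodule k w) m)
    hm₀ ε
  obtain ⟨hfin, φ, hφ⟩ := hC₀
  have hint := Groth.Agent.S13225.result (MvPolynomial (Fin N) k)
    (Groth.Agent.Lib.Helper2.GrConv.toAdd (MvPolynomial.weightedHomogeneousSubmodule k w))
    (Groth.Agent.Lib.Helper2.GrConv.toAddIdeal (MvPolynomial.weightedHomogeneousSubmodule k w) m)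
    (MvPolynomial (Fin N) k)
    (Groth.Agent.Lib.Helper2.GrConv.toAdd (MvPolynomial.weightedHomogeneousSubmodule k w))
    (Groth.Agent.Lib.Helper2.GrConv.resToAdd (MvPolynomial.weightedHomogeneousSubmodule k w) I) N
  obtain ⟨hs1, hs2⟩ := Groth.Agent.Lib.Helper2.WtPoly.endDeg_eq k N w hw m hm hmsp I
  have ha := Groth.Agent.Lib.Helper2.GrDeg.shift_eq_neg_end hpos
    (Groth.Agent.Lib.Helper2.GrConv.toAddIdeal (MvPolynomial.weightedHomogeneousSubmodule k w) m)
    hm₀ hmsp₀ N
    (Groth.Agent.Lib.Helper2.GrConv.resToAdd (MvPolynomial.weightedHomogeneousSubmodule k w) I)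
    e he₀ φ hφ hint a f hf hdeg (-(∑ i, w i)) hs1 hs2
  rw [neg_neg] at ha
  refine ⟨f, hf, ?_⟩
  rw [← ha]
  intro g x hx
  exact hdeg g x hx

end Groth.Agent.S18651
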