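import Groth.Statements.S18653
import Mathlib
import Groth.Agent.Lib.Helper64.GradedDimOne

set_option autoImplicit false
universe u
open GrLC

namespace Groth.Agent.S18653

/-- Let R be a graded ring defined over an algebraically closed field k which is an integral domain of
dimension one. Then R is isomorphic to a semigroup ring (the subring of k[T] spanned by the
monomials T^h, h in an additive submonoid H of ℕ); moreover, if R is generated over k by R_1, then R
is a polynomial ring k[T]. Here a graded ring defined over k is a commutative k-algebra of finite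
type graded in nonnegative degrees by k-subspaces with degree-zero part k·1; the isomorphisms
asserted are ring isomorphisms. -/
theorem result (k : Type u) [Field k] [IsAlgClosed k] (R : Type u) [CommRing R] [IsDomain R] [Algebra k R] (𝒜 : ℤ → Submodule k R) [GradedAlgebra 𝒜] (hpos : ∀ n : ℤ, n < 0 → 𝒜 n = ⊥) (h0 : 𝒜 0 = Submodule.span k {(1 : R)}) [Algebra.FiniteType k R] (h1 : ringKrullDim R = 1) : (∃ H : AddSubmonoid ℕ, Nonempty (R ≃+* AddMonoidAlgebra k H)) ∧ (Ideal.span (⋃ n ∈ Set.Ioi (0 : ℤ), (𝒜 n : Set R)) = Ideal.span ((𝒜 1 : Submodule k R) : Set R) → Nonempty (R ≃+* Polynomial k)) := by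
  classical
  have hdim : ringKrullDim R < 2 := by
    rw [h1]; exact_mod_cast (by norm_num : (1 : ℕ∞) < 2)
  have hprop : ∀ n, ∀ x ∈ 𝒜 n, ∀ y ∈ 𝒜 n, y ≠ 0 → ∃ c : k, x = c • y := by
    intro n x hx y hy hy0
    by_cases hn : n = 0
    · subst hn
      rw [h0] at hx hy
      obtain ⟨c1, rfl⟩ := Submodule.mem_span_singleton.mp hx
      obtain ⟨c2, rfl⟩ := Submodule.mem_span_singleton.mp hy
      have hc2 : c2 ≠ 0 := by
        rintro rfl
        simp at hy0
      exact ⟨c1 * c2⁻¹, by rw [smul_smul, inv_mul_cancel_right₀ hc2]⟩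
    · exact Groth.Agent.Lib.Helper64.GradedDimOne.exists_smul_eq 𝒜 hdim hn hx hy hy0
  have hne : ∃ n : ℤ, 0 < n ∧ 𝒜 n ≠ ⊥ := by
    by_contra hcon
    push Not at hcon
    have hsurj : Function.Surjective (algebraMap k R) := by
      intro r
      induction r using DirectSum.Decomposition.inductionOn 𝒜 with
      | zero => exact ⟨0, map_zero _⟩
      | @homogeneous n x =>
        obtain ⟨x, hx⟩ := x
        show ∃ a, algebraMap k R a = x
        rcases lt_trichotomy n 0 with hn | hn | hn
        · rw [hpos n hn] at hx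
          exact ⟨0, by rw [map_zero]; exact ((Submodule.mem_bot k).mp hx).symm⟩
        · subst hn
          rw [h0] at hx
          obtain ⟨c, hc⟩ := Submodule.mem_span_singleton.mp hx
          exact ⟨c, by rw [Algebra.algebraMap_eq_smul_one]; exact hc⟩
        · rw [hcon n hn] at hx
          exact ⟨0, by rw [map_zero]; exact ((Submodule.mem_bot k).mp hx).symm⟩
      | add x y hx hy =>
        obtain ⟨x', rfl⟩ := hx
        obtain ⟨y', rfl⟩ := hy
        exact ⟨x' + y', map_add _ _ _⟩
    have e : k ≃+* R := RingEquiv.ofBijective (algebraMap k R) ⟨(algebraMap k R).injective, hsurj⟩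
    have := ringKrullDim_eq_of_ringEquiv e
    rw [ringKrullDim_eq_zero_of_field, h1] at this
    exact absurd this (by decide)
  obtain ⟨H, ⟨e⟩, hH⟩ :=
    Groth.Agent.Lib.Helper64.GradedDimOne.exists_semigroup_equiv 𝒜 hpos hprop hne
  refine ⟨⟨H, ⟨e.toRingEquiv⟩⟩, ?_⟩
  intro hgen
  have h1ne : 𝒜 1 ≠ ⊥ := by
    intro hbot
    obtain ⟨n, hn0, hn⟩ := hne
    obtain ⟨x, hx, hx0⟩ := (Submodule.ne_bot_iff _).mp hn
    have hmem : x ∈ Ideal.span (⋃ n ∈ Set.Ioi (0 : ℤ), (𝒜 n : Set R)) :=
      Ideal.subset_span (Set.mem_biUnion (Set.mem_Ioi.mpr hn0) hx)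
    rw [hgen, hbot] at hmem
    simp at hmem
    exact hx0 hmem
  have hHtop := hH h1ne
  have e1 : H ≃+ ℕ := (AddEquiv.addSubmonoidCongr hHtop).trans AddSubmonoid.topEquiv
  exact ⟨e.toRingEquiv.trans ((AddMonoidAlgebra.domCongr k k e1).toRingEquiv.trans
    (Polynomial.toFinsuppIso k).symm)⟩

end Groth.Agent.S18653
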