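import Groth.Statements.S18654
import Groth.Agent.Lib.Helper87.StdGrC

set_option autoImplicit false
universe u
open GrLC

namespace Groth.Agent.S18654

/-- Let R be a graded ring defined over a field k = R_0 which is Cohen–Macaulay and generated over k by
R_1, with dim R ≥ 1, and write H(n, R) = dim_k R_n. Then H(n + 1, R) ≥ H(n, R) for every integer n.
Here 'graded ring defined over a field' means R = ⊕_{n ≥ 0} R_n is Noetherian with R_0 a field, and
m = R_+ is its unique graded maximal ideal. -/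
theorem result (R : Type u) [CommRing R] [LocCoh.IsCohenMacaulayRing R] (𝒜 : ℤ → AddSubgroup R) [GradedRing 𝒜] (hpos : ∀ n : ℤ, n < 0 → 𝒜 n = ⊥) (h0 : IsField (GrLC.deg0 𝒜)) (hstd : Ideal.span (⋃ n ∈ Set.Ioi (0 : ℤ), (𝒜 n : Set R)) = Ideal.span ((𝒜 1 : AddSubgroup R) : Set R)) (h1 : 1 ≤ ringKrullDim R) (n : ℤ) : Module.finrank (GrLC.deg0 𝒜) (GrLC.comp 𝒜 𝒜 n) ≤ Module.finrank (GrLC.deg0 𝒜) (GrLC.comp 𝒜 𝒜 (n + 1)) := by
  classical
  have hfg : (Ideal.span ((𝒜 1 : AddSubgroup R) : Set R)).FG := IsNoetherian.noetherian _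
  obtain ⟨s', hs'sub, hs'span⟩ := (Submodule.fg_span_iff_fg_span_finset_subset _).mp hfg
  have hs : ∀ i : Fin s'.card, ((s'.equivFin.symm i : s') : R) ∈ 𝒜 1 :=
    fun i => hs'sub (s'.equivFin.symm i).2
  have hspan : Ideal.span (Set.range fun i : Fin s'.card => ((s'.equivFin.symm i : s') : R)) =
      Groth.Agent.Lib.Helper87.StdGrA.irr 𝒜 := by
    unfold Groth.Agent.Lib.Helper87.StdGrA.irr
    unfold Ideal.span
    rw [hs'span]
    congr 1
    ext x
    constructor
    · rintro ⟨i, rfl⟩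
      exact (s'.equivFin.symm i).2
    · intro hx
      exact ⟨s'.equivFin ⟨x, hx⟩, by simp⟩
  exact Groth.Agent.Lib.Helper87.StdGrC.main hpos h0 hstd _ hs hspan h1 n

end Groth.Agent.S18654
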