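import Groth.Statements.S18666
import Mathlib
import Groth.Agent.S14656
import Groth.Agent.Lib.Helper83.ProjFlat
import Groth.Agent.Lib.Helper33.GorDescent

set_option autoImplicit false
universe u
open GrProj

namespace Groth.Agent.S18666

open AlgebraicGeometry Pointwise in
/-- Let A = ⊕_{n ≥ 0} A_n be a commutative Noetherian graded ring satisfying condition (#) — there is an
integer d_0 such that for every d ≥ d_0 the Veronese subring A^(d) is generated by A_d over A_0,
equivalently A_{(n+1)d} is additively generated by the products A_d A_{nd} for every n ≥ 1 — and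
assume A is a Gorenstein ring. Then X = Proj A is a Gorenstein scheme: all of its local rings are
Gorenstein local rings. (The Cohen–Macaulay case of the same lemma is stated separately.) -/
theorem result (A : Type u) [CommRing A] (𝒜 : ℕ → AddSubgroup A) [GradedRing 𝒜] [LocCoh.IsGorensteinRing A] (hsharp : ∃ d₀ : ℕ, ∀ d : ℕ, d₀ ≤ d → ∀ n : ℕ, 1 ≤ n → 𝒜 ((n + 1) * d) = AddSubgroup.closure ((𝒜 d : Set A) * (𝒜 (n * d) : Set A))) (x : Proj 𝒜) : LocCoh.IsGorensteinLocalRing ((Proj 𝒜).presheaf.stalk x) := by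
  classical
  haveI hN : IsNoetherianRing A := inferInstance
  let y : ProjectiveSpectrum 𝒜 := x
  haveI hy : y.asHomogeneousIdeal.toIdeal.IsPrime := y.isPrime
  let e : (Proj 𝒜).presheaf.stalk x ≃+*
      HomogeneousLocalization.AtPrime 𝒜 y.asHomogeneousIdeal.toIdeal := Proj.stalkIso' 𝒜 y
  haveI : IsNoetherianRing ((Proj 𝒜).presheaf.stalk x) :=
    Groth.Agent.S14656.isNoetherianRing_stalk 𝒜 x
  obtain ⟨f, k, hk, hf, hfp⟩ : ∃ (f : A) (d : ℕ), 0 < d ∧ f ∈ 𝒜 d ∧
      f ∉ y.asHomogeneousIdeal.toIdeal := by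
    by_contra hcon
    push Not at hcon
    apply y.not_irrelevant_le
    change (HomogeneousIdeal.irrelevant 𝒜).toIdeal ≤ y.asHomogeneousIdeal.toIdeal
    rw [HomogeneousIdeal.irrelevant_eq_span, Ideal.span_le]
    intro z hz
    simp only [Set.mem_iUnion, exists_prop] at hz
    obtain ⟨i, hi, hzi⟩ := hz
    exact hcon z i hi hzi
  obtain ⟨d₀, hd₀⟩ := hsharp
  -- every large degree contains a homogeneous element outside `p`
  have hex : ∀ d' : ℕ, d₀ ≤ d' → 1 ≤ d' → ∃ g ∈ 𝒜 d', g ∉ y.asHomogeneousIdeal.toIdeal := by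
    intro d' hd' h1
    by_contra hcon
    push Not at hcon
    have hall : ∀ n : ℕ, 1 ≤ n → ∀ g ∈ 𝒜 (n * d'), g ∈ y.asHomogeneousIdeal.toIdeal := by
      intro n hn
      induction n, hn using Nat.le_induction with
      | base => intro g hg; rw [one_mul] at hg; exact hcon g hg
      | succ n hn ih =>
        intro g hg
        rw [hd₀ d' hd' n hn] at hg
        have hle : AddSubgroup.closure ((𝒜 d' : Set A) * (𝒜 (n * d') : Set A)) ≤
            y.asHomogeneousIdeal.toIdeal.toAddSubgroup := by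
          rw [AddSubgroup.closure_le]
          rintro z ⟨a, ha, b, hb, rfl⟩
          exact Ideal.mul_mem_right _ _ (hcon a ha)
        exact hle hg
    have hfd : f ^ d' ∈ 𝒜 (k * d') := by
      have := SetLike.pow_mem_graded d' hf
      rwa [smul_eq_mul, mul_comm] at this
    exact hfp (hy.mem_of_pow_mem _ (hall k hk _ hfd))
  set dd := max d₀ 1 with hdd
  obtain ⟨f₁, hf₁, h₁⟩ := hex dd (le_max_left _ _) (le_max_right _ _)
  obtain ⟨f₂, hf₂, h₂⟩ := hex (dd + 1) ((le_max_left _ _).trans (Nat.le_succ _)) (Nat.le_add_left _ _)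
  let ι : (Proj 𝒜).presheaf.stalk x →+* Localization.AtPrime y.asHomogeneousIdeal.toIdeal :=
    (algebraMap (HomogeneousLocalization.AtPrime 𝒜 y.asHomogeneousIdeal.toIdeal)
      (Localization.AtPrime y.asHomogeneousIdeal.toIdeal)).comp e.toRingHom
  have hι : Function.Injective ι :=
    (HomogeneousLocalization.val_injective _).comp e.injective
  have H : Groth.Agent.Lib.Helper83.ProjCM.DegZero 𝒜 y.asHomogeneousIdeal.toIdeal ι := by
    refine ⟨hι, ?_, ?_⟩
    · intro r
      obtain ⟨⟨n, b, s, hs⟩, hr⟩ := HomogeneousLocalization.mk_surjective (e r)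
      refine ⟨n, b, s, hs, b.2, s.2, ?_⟩
      change (e r).val = _
      rw [← hr, HomogeneousLocalization.val_mk, Localization.mk_eq_mk']
    · intro n b s hs hb hsn
      refine ⟨e.symm (HomogeneousLocalization.mk ⟨n, ⟨b, hb⟩, ⟨s, hsn⟩, hs⟩), ?_⟩
      change (e (e.symm _)).val = _
      rw [e.apply_symm_apply, HomogeneousLocalization.val_mk, Localization.mk_eq_mk']
  letI alg : Algebra ((Proj 𝒜).presheaf.stalk x)
      (Localization.AtPrime y.asHomogeneousIdeal.toIdeal) := ι.toAlgebra
  haveI : Module.Flat ((Proj 𝒜).presheaf.stalk x)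
      (Localization.AtPrime y.asHomogeneousIdeal.toIdeal) :=
    Groth.Agent.Lib.Helper83.ProjFlat.flat_of_degOne H hf₁ hf₂ h₁ h₂ rfl
  haveI : IsLocalHom (algebraMap ((Proj 𝒜).presheaf.stalk x)
      (Localization.AtPrime y.asHomogeneousIdeal.toIdeal)) := by
    refine ⟨fun a ha => ?_⟩
    by_contra hna
    have hm : a ∈ IsLocalRing.maximalIdeal ((Proj 𝒜).presheaf.stalk x) := hna
    have := Groth.Agent.Lib.Helper83.ProjCM.map_mem_maximalIdeal H hm
    exact this ha
  exact Groth.Agent.Lib.Helper33.GorDescent.gorenstein_of_flat_local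
    ((Proj 𝒜).presheaf.stalk x) (Localization.AtPrime y.asHomogeneousIdeal.toIdeal)
    (LocCoh.IsGorensteinRing.isGorensteinLocalRing_localization y.asHomogeneousIdeal.toIdeal)

end Groth.Agent.S18666
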