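import Groth.Statements.S1867
import Mathlib
import Groth.Agent.Lib.Helper22.QFBetween
-- import your own Groth.Agent.* helpers here

set_option autoImplicit false
universe u
open CategoryTheory AlgebraicGeometry
open Cyc

namespace Groth.Agent.S1867

section PRE
open Groth.Agent.Lib.Helper22.QFBetween

/-- the residue map of a local ring that is a field is bijective. -/
lemma residue_bijective_of_isField (A : Type*) [CommRing A] [IsLocalRing A] (hA : IsField A) :
    Function.Bijective (IsLocalRing.residue A) := by
  refine ⟨?_, IsLocalRing.residue_surjective⟩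
  rw [injective_iff_map_eq_zero]
  intro a ha
  rw [IsLocalRing.residue_eq_zero_iff] at ha
  by_contra h0
  obtain ⟨b, hb⟩ := hA.mul_inv_cancel h0
  exact (IsLocalRing.mem_maximalIdeal a).mp ha (IsUnit.of_mul_eq_one b hb)

lemma finite_of_comp_bijective {A B C : Type*} [CommRing A] [CommRing B] [CommRing C]
    (g : A →+* B) (e : B →+* C) (he : Function.Bijective e) (h : (e.comp g).Finite) :
    g.Finite := by
  let ε : B ≃+* C := RingEquiv.ofBijective e he
  have h1 : (ε.symm.toRingHom.comp (e.comp g)).Finite :=
    RingHom.Finite.comp (RingHom.Finite.of_surjective _ ε.symm.surjective) h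
  have h2 : ε.symm.toRingHom.comp (e.comp g) = g := by
    ext a
    show ε.symm (e (g a)) = g a
    exact ε.symm_apply_apply (g a)
  rwa [h2] at h1

theorem qf_at (X Y : Scheme.{u}) [IsIntegral X] [IsIntegral Y] [IsLocallyNoetherian Y]
    (f : X ⟶ Y) (hgen : f (genericPoint X) = genericPoint Y)
    (hfin : (f.residueFieldMap (genericPoint X)).hom.Finite) (x : X)
    (hdim : ringKrullDim (Y.presheaf.stalk (f x)) = 1) : f.QuasiFiniteAt x := by
  set η := genericPoint X with hη
  have hηx : η ⤳ x := (genericPoint_spec X).specializes trivial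
  have hle : f η ⤳ genericPoint Y := specializes_of_eq hgen
  have hge : genericPoint Y ⤳ f η := specializes_of_eq hgen.symm
  have hyx : genericPoint Y ⤳ f x := (genericPoint_spec Y).specializes trivial
  let e : Y.presheaf.stalk (genericPoint Y) ⟶ Y.presheaf.stalk (f η) :=
    Y.presheaf.stalkSpecializes hle
  let e' : Y.presheaf.stalk (f η) ⟶ Y.presheaf.stalk (genericPoint Y) :=
    Y.presheaf.stalkSpecializes hge
  have hee' : e' ≫ e = 𝟙 _ := by
    show Y.presheaf.stalkSpecializes hge ≫ Y.presheaf.stalkSpecializes hle = 𝟙 _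
    rw [TopCat.Presheaf.stalkSpecializes_comp]
    exact TopCat.Presheaf.stalkSpecializes_refl _ _
  have hesurj : Function.Surjective e.hom := by
    intro y
    refine ⟨e'.hom y, ?_⟩
    exact congrArg (fun k => k.hom y) hee'
  -- the commutative square
  have hsq : Y.presheaf.stalkSpecializes hyx ≫ e ≫ f.stalkMap η =
      f.stalkMap x ≫ X.presheaf.stalkSpecializes hηx := by
    show Y.presheaf.stalkSpecializes hyx ≫ Y.presheaf.stalkSpecializes hle ≫ f.stalkMap η = _
    rw [← Category.assoc, TopCat.Presheaf.stalkSpecializes_comp]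
    exact Scheme.Hom.stalkSpecializes_stalkMap f η x hηx
  -- finiteness of the function field extension
  have hLfield : IsField (X.presheaf.stalk η) := (inferInstance : Field X.functionField).toIsField
  have hsm : (f.stalkMap η).hom.Finite := by
    refine finite_of_comp_bijective _ (X.residue η).hom
      (residue_bijective_of_isField _ hLfield) ?_
    have h1 : (X.residue η).hom.comp (f.stalkMap η).hom =
        (f.residueFieldMap η).hom.comp (Y.residue (f η)).hom := by
      have h2 := Scheme.residue_residueFieldMap f η
      ext a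
      exact (congrArg (fun k => k.hom a) h2).symm
    rw [h1]
    exact RingHom.Finite.comp hfin
      (RingHom.Finite.of_surjective _ IsLocalRing.residue_surjective)
  have hKLfin : ((f.stalkMap η).hom.comp e.hom).Finite :=
    RingHom.Finite.comp hsm (RingHom.Finite.of_surjective _ hesurj)
  letI aRS : Algebra (Y.presheaf.stalk (f x)) (X.presheaf.stalk x) :=
    (f.stalkMap x).hom.toAlgebra
  letI aKL : Algebra Y.functionField X.functionField :=
    ((f.stalkMap η).hom.comp e.hom).toAlgebra
  letI aRL : Algebra (Y.presheaf.stalk (f x)) X.functionField :=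
    ((algebraMap (X.presheaf.stalk x) X.functionField).comp (f.stalkMap x).hom).toAlgebra
  haveI t1 : IsScalarTower (Y.presheaf.stalk (f x)) (X.presheaf.stalk x) X.functionField :=
    IsScalarTower.of_algebraMap_eq' rfl
  haveI t2 : IsScalarTower (Y.presheaf.stalk (f x)) Y.functionField X.functionField := by
    refine IsScalarTower.of_algebraMap_eq' ?_
    ext a
    exact (congrArg (fun k => k.hom a) hsq).symm
  haveI : FiniteDimensional Y.functionField X.functionField := hKLfin
  haveI : Ring.KrullDimLE 1 (Y.presheaf.stalk (f x)) := by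
    rw [Ring.krullDimLE_iff, hdim]; rfl
  have hS : Function.Injective (algebraMap (X.presheaf.stalk x) X.functionField) :=
    IsFractionRing.injective _ _
  exact quasiFinite_of_between (Y.presheaf.stalk (f x)) Y.functionField hS

set_option backward.isDefEq.respectTransparency.types false in
lemma exists_isFinite_of_quasiFiniteAt {X Y : Scheme.{u}} (f : X ⟶ Y)
    [IsProper f] (y : Y) (hx : ∀ x, f x = y → f.QuasiFiniteAt x) :
    ∃ V : Y.Opens, y ∈ V ∧ IsFinite (f ∣_ V) := by
  let V : Y.Opens := ⟨_, (f.isClosedMap _ f.quasiFiniteLocus.isOpen.isClosed_compl).isOpen_compl⟩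
  refine ⟨V, ?_, ?_⟩
  · simpa [V, not_imp_not] using hx
  · suffices LocallyQuasiFinite (f ∣_ V) from .of_isProper_of_locallyQuasiFinite _
    rw [← Scheme.Hom.quasiFiniteLocus_eq_top_iff]
    ext x
    have : f.QuasiFiniteAt ((f ⁻¹ᵁ V).ι x) := by by_contra H; exact x.2 ⟨_, H, by simp⟩
    rw [← Scheme.Hom.quasiFiniteAt_comp_iff_of_isOpenImmersion, ← morphismRestrict_ι,
      Scheme.Hom.quasiFiniteAt_comp_iff] at this
    simpa

theorem main (X Y : Scheme.{u}) [IsIntegral X] [IsIntegral Y] [IsLocallyNoetherian Y] (f : X ⟶ Y) [IsProper f] (hgen : f (genericPoint X) = genericPoint Y) (hfin : (f.residueFieldMap (genericPoint X)).hom.Finite) (ξ : Y) (hξ : ringKrullDim (Y.presheaf.stalk ξ) = 1) : ∃ V : Y.Opens, ξ ∈ V ∧ IsFinite (f ∣_ V) := by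
  refine exists_isFinite_of_quasiFiniteAt f ξ ?_
  rintro x rfl
  exact qf_at X Y f hgen hfin x hξ

end PRE

/-- Let f : X → Y be a proper morphism of integral schemes with Y locally Noetherian, mapping the
generic point to the generic point with finite extension of function fields, and let ξ be a point of
Y whose local ring has dimension 1. Then f is finite over some open neighbourhood of ξ. -/
theorem result (X Y : Scheme.{u}) [IsIntegral X] [IsIntegral Y] [IsLocallyNoetherian Y] (f : X ⟶ Y) [IsProper f] (hgen : f (genericPoint X) = genericPoint Y) (hfin : (f.residueFieldMap (genericPoint X)).hom.Finite) (ξ : Y) (hξ : ringKrullDim (Y.presheaf.stalk ξ) = 1) : ∃ V : Y.Opens, ξ ∈ V ∧ IsFinite (f ∣_ V) := by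
  exact main X Y f hgen hfin ξ hξ

end Groth.Agent.S1867
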