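import Groth.Statements.S18672
-- import your own Groth.Agent.* helpers here

set_option autoImplicit false
universe u
open GrLC

namespace Groth.Agent.S18672

section Aux

variable {R : Type u} [CommRing R] (𝒜 : ℤ → AddSubgroup R) [GradedRing 𝒜]

/-- additive closure of the products of a piece of degree `i` and a piece of degree `j` -/
def prodCl (i j : ℤ) : AddSubgroup R :=
  AddSubgroup.closure {z | ∃ u ∈ 𝒜 i, ∃ v ∈ 𝒜 j, z = u * v}

theorem mul_mem_prodCl {i j : ℤ} {u v : R} (hu : u ∈ 𝒜 i) (hv : v ∈ 𝒜 j) :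
    u * v ∈ prodCl 𝒜 i j :=
  AddSubgroup.subset_closure ⟨u, hu, v, hv, rfl⟩

theorem step_one
    (hstd : Ideal.span (⋃ n ∈ Set.Ioi (0 : ℤ), (𝒜 n : Set R)) =
      Ideal.span ((𝒜 1 : AddSubgroup R) : Set R))
    (n : ℤ) (hn : 0 ≤ n) {x : R} (hx : x ∈ 𝒜 (n + 1)) : x ∈ prodCl 𝒜 1 n := by
  have hx1 : x ∈ Ideal.span ((𝒜 1 : AddSubgroup R) : Set R) := by
    rw [← hstd]
    apply Ideal.subset_span
    simp only [Set.mem_iUnion, Set.mem_Ioi, SetLike.mem_coe]
    exact ⟨n + 1, by omega, hx⟩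
  rw [Ideal.span, Submodule.mem_span_set'] at hx1
  obtain ⟨N, f, g, hfg⟩ := hx1
  have hdec : (DirectSum.decompose 𝒜 x (n + 1) : R) = x := DirectSum.decompose_of_mem_same 𝒜 hx
  rw [← hdec, ← hfg, DirectSum.decompose_sum, DFinsupp.finsetSum_apply,
    AddSubmonoidClass.coe_finsetSum]
  refine sum_mem fun i _ => ?_
  have hg : (g i : R) ∈ 𝒜 1 := (g i).2
  rw [smul_eq_mul, DirectSum.coe_decompose_mul_add_of_right_mem 𝒜 hg, mul_comm]
  exact mul_mem_prodCl 𝒜 hg (SetLike.coe_mem _)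

theorem step_many
    (hstd : Ideal.span (⋃ n ∈ Set.Ioi (0 : ℤ), (𝒜 n : Set R)) =
      Ideal.span ((𝒜 1 : AddSubgroup R) : Set R))
    (m : ℤ) (hm : 0 ≤ m) (k : ℕ) : ∀ {x : R}, x ∈ 𝒜 (m + k) → x ∈ prodCl 𝒜 k m := by
  induction k with
  | zero =>
    intro x hx
    have : x = 1 * x := (one_mul x).symm
    rw [this]
    refine mul_mem_prodCl 𝒜 ?_ ?_
    · simpa using SetLike.GradedOne.one_mem (A := 𝒜)
    · simpa using hx
  | succ k ih =>
    intro x hx
    have hx' : x ∈ 𝒜 ((m + k) + 1) := by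
      have : (m + ((k + 1 : ℕ) : ℤ)) = (m + k) + 1 := by push_cast; ring
      rwa [this] at hx
    have h1 := step_one 𝒜 hstd (m + k) (by positivity) hx'
    refine AddSubgroup.closure_induction (p := fun y _ => y ∈ prodCl 𝒜 ((k + 1 : ℕ) : ℤ) m)
      ?_ (zero_mem _) (fun _ _ _ _ => add_mem) (fun _ _ => neg_mem) h1
    rintro y ⟨u, hu, v, hv, rfl⟩
    have hv' := ih hv
    refine AddSubgroup.closure_induction
      (p := fun w _ => u * w ∈ prodCl 𝒜 ((k + 1 : ℕ) : ℤ) m)
      ?_ (by simp) (fun _ _ _ _ ha hb => by rw [mul_add]; exact add_mem ha hb)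
      (fun _ _ ha => by rw [mul_neg]; exact neg_mem ha) hv'
    rintro w ⟨s, hs, t, ht, rfl⟩
    rw [← mul_assoc]
    refine mul_mem_prodCl 𝒜 ?_ ht
    have := SetLike.GradedMul.mul_mem (A := 𝒜) hu hs
    have e : (1 : ℤ) + (k : ℤ) = ((k + 1 : ℕ) : ℤ) := by push_cast; ring
    rwa [e] at this

end Aux


/-- Let R be a graded ring defined over a field k = R_0 which is Cohen–Macaulay and generated over k by
R_1 (the standing hypotheses of this section; only generation in degree one is used), q ≥ 1, R' =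
R^(q), and a an integer. Then the Veronese submodule [R(a)]^(q) = ⊕_j R_{a+jq} is generated over R'
by its piece R(a)_n = R_{a+n}, where n is the smallest multiple of q with n + a ≥ 0. Here 'graded
ring defined over a field' means R = ⊕_{n ≥ 0} R_n is Noetherian with R_0 a field, and m = R_+ is
its unique graded maximal ideal. The Veronese subring R^(q) = ⊕_j R_{jq}, regraded by (R^(q))_j =
R_{jq}, is presented abstractly as a ℤ-graded ring R' with an injective ring homomorphism φ : R' → R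
carrying R'_j onto R_{jq} for every j. The module [R(a)]^(q) is presented as a graded R'-module M'
with an injective additive map g : M' → R, semilinear over φ, carrying M'_j onto R_{a+jq} for every
j; with n = j₀q, the conclusion is that the R'-span of M'_{j₀} is all of M'. -/
theorem result (R : Type u) [CommRing R] [LocCoh.IsCohenMacaulayRing R] (𝒜 : ℤ → AddSubgroup R) [GradedRing 𝒜] (hpos : ∀ n : ℤ, n < 0 → 𝒜 n = ⊥) (h0 : IsField (GrLC.deg0 𝒜)) (hstd : Ideal.span (⋃ n ∈ Set.Ioi (0 : ℤ), (𝒜 n : Set R)) = Ideal.span ((𝒜 1 : AddSubgroup R) : Set R)) (q : ℕ) (hq : 0 < q) (R' : Type u) [CommRing R'] (𝒜' : ℤ → AddSubgroup R') [GradedRing 𝒜'] (φ : R' →+* R) (hφ : Function.Injective φ) (hdeg : ∀ j : ℤ, (𝒜' j).map (φ : R' →+ R) = 𝒜 (j * q)) (a : ℤ) (M' : Type u) [AddCommGroup M'] [Module R' M'] (ℳ' : ℤ → AddSubgroup M') [DirectSum.Decomposition ℳ'] [SetLike.GradedSMul 𝒜' ℳ'] (g : M' →ₛₗ[φ] R) (hg : Function.Injective g) (hgdeg : ∀ j : ℤ, (ℳ' j).map (g : M'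 →+ R) = 𝒜 (a + j * q)) (j₀ : ℤ) (hj₀ : 0 ≤ a + j₀ * q) (hj₀' : a + (j₀ - 1) * q < 0) : Submodule.span R' ((ℳ' j₀ : AddSubgroup M') : Set M') = ⊤ := by
  classical
  rw [eq_top_iff]
  intro x _
  -- homogeneous elements lie in the span
  have hhom : ∀ (j : ℤ) (y : M'), y ∈ ℳ' j →
      y ∈ Submodule.span R' ((ℳ' j₀ : AddSubgroup M') : Set M') := by
    intro j y hy
    have hgy : g y ∈ 𝒜 (a + j * q) := by
      rw [← hgdeg j]
      exact ⟨y, hy, rfl⟩
    by_cases hj : j < j₀
    · -- the piece is zero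
      have hneg : a + j * q < 0 := by
        have h1 : j ≤ j₀ - 1 := by omega
        have h2 : j * (q : ℤ) ≤ (j₀ - 1) * q :=
          mul_le_mul_of_nonneg_right h1 (by positivity)
        linarith
      rw [hpos _ hneg, AddSubgroup.mem_bot] at hgy
      have : y = 0 := hg (by rw [hgy, map_zero])
      rw [this]
      exact zero_mem _
    · have hj := not_lt.mp hj
      obtain ⟨k, hk⟩ : ∃ k : ℕ, j = j₀ + k := ⟨(j - j₀).toNat, by omega⟩
      have hdegk : a + j * q = (a + j₀ * q) + ((k * q : ℕ) : ℤ) := by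
        rw [hk]; push_cast; ring
      rw [hdegk] at hgy
      have hcl := step_many 𝒜 hstd (a + j₀ * q) hj₀ (k * q) hgy
      -- everything in the closure is the image of an element of the span
      have key : ∀ w ∈ prodCl 𝒜 ((k * q : ℕ) : ℤ) (a + j₀ * q),
          ∃ z ∈ Submodule.span R' ((ℳ' j₀ : AddSubgroup M') : Set M'), g z = w := by
        intro w hw
        refine AddSubgroup.closure_induction
          (p := fun w _ => ∃ z ∈ Submodule.span R' ((ℳ' j₀ : AddSubgroup M') : Set M'), g z = w)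
          ?_ ⟨0, zero_mem _, map_zero _⟩ ?_ ?_ hw
        · rintro w ⟨u, hu, v, hv, rfl⟩
          have hu' : u ∈ (𝒜' k).map (φ : R' →+ R) := by
            rw [hdeg k]
            have : ((k * q : ℕ) : ℤ) = (k : ℤ) * q := by push_cast; ring
            rwa [this] at hu
          obtain ⟨u', hu'mem, rfl⟩ := hu'
          have hv' : v ∈ (ℳ' j₀).map (g : M' →+ R) := by rwa [hgdeg j₀]
          obtain ⟨v', hv'mem, rfl⟩ := hv'
          refine ⟨u' • v', Submodule.smul_mem _ _ (Submodule.subset_span hv'mem), ?_⟩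
          simp
        · rintro _ _ _ _ ⟨z₁, hz₁, rfl⟩ ⟨z₂, hz₂, rfl⟩
          exact ⟨z₁ + z₂, add_mem hz₁ hz₂, map_add _ _ _⟩
        · rintro _ _ ⟨z, hz, rfl⟩
          exact ⟨-z, neg_mem hz, map_neg _ _⟩
      obtain ⟨z, hz, hgz⟩ := key _ hcl
      have : y = z := hg hgz.symm
      rw [this]
      exact hz
  rw [← DirectSum.sum_support_decompose ℳ' x]
  exact sum_mem fun i _ => hhom i _ (SetLike.coe_mem _)

end Groth.Agent.S18672
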