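import Groth.Statements.S1868
import Mathlib
import Groth.Agent.Lib.Helper22.FinFlatDeg
-- import your own Groth.Agent.* helpers here

set_option autoImplicit false
universe u
open CategoryTheory AlgebraicGeometry
open Cyc

namespace Groth.Agent.S1868

section PRE
open Groth.Agent.Lib.Helper22.FinFlatGeo Groth.Agent.Lib.Helper22.FinFlatDeg

lemma residue_algebraic {X Y : Scheme.{u}} (f : X ⟶ Y) [IsFinite f] (x : X) :
    letI := (f.residueFieldMap x).hom.toAlgebra
    Algebra.IsAlgebraic (Y.residueField (f x)) (X.residueField x) := by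
  letI := (f.residueFieldMap x).hom.toAlgebra
  obtain ⟨_, ⟨V, hV, rfl⟩, hzV, -⟩ :=
    Y.isBasis_affineOpens.exists_subset_of_mem_open (Set.mem_univ (f x)) isOpen_univ
  replace hV : IsAffineOpen V := hV
  replace hzV : f x ∈ V := hzV
  have hU : IsAffineOpen (f ⁻¹ᵁ V) := hV.preimage f
  have hxU : x ∈ f ⁻¹ᵁ V := hzV
  letI alg : Algebra Γ(Y, V) Γ(X, f ⁻¹ᵁ V) := (f.app V).hom.toAlgebra
  haveI : Module.Finite Γ(Y, V) Γ(X, f ⁻¹ᵁ V) := f.finite_app V hV
  have hint : ∀ b : Γ(X, f ⁻¹ᵁ V),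
      IsIntegral (Y.residueField (f x)) ((X.evaluation (f ⁻¹ᵁ V) x hxU).hom b) := by
    intro b
    have hb : IsIntegral Γ(Y, V) b := Algebra.IsIntegral.isIntegral b
    refine IsIntegral.map_of_comp_eq (Y.evaluation V (f x) hzV).hom
      (X.evaluation (f ⁻¹ᵁ V) x hxU).hom ?_ hb
    ext a
    exact Scheme.evaluation_naturality_apply f x hzV a
  constructor
  intro l
  obtain ⟨s, rfl⟩ := X.residue_surjective x l
  letI := X.presheaf.algebra_section_stalk ⟨x, hxU⟩
  haveI := hU.isLocalization_stalk ⟨x, hxU⟩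
  obtain ⟨b, t, rfl⟩ :=
    IsLocalization.exists_mk'_eq (hU.primeIdealOf ⟨x, hxU⟩).asIdeal.primeCompl s
  have h1 := IsLocalization.mk'_spec (X.presheaf.stalk x) b t
  have h2 := congrArg (X.residue x).hom h1
  rw [map_mul] at h2
  have hu : IsUnit ((X.residue x).hom (algebraMap Γ(X, f ⁻¹ᵁ V) (X.presheaf.stalk x) (t : _))) :=
    (IsLocalization.map_units (X.presheaf.stalk x) t).map _
  have h3 := (eq_mul_inv_iff_mul_eq₀ hu.ne_zero).mpr h2
  show IsAlgebraic _ ((X.residue x).hom _)
  rw [h3]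
  exact (hint b).isAlgebraic.mul (hint t).isAlgebraic.inv

theorem main (X Y : Scheme.{u}) (δX : X → ℤ) (δY : Y → ℤ) (f : X ⟶ Y) [IsFinite f] [Flat f]
    (d : ℕ) (hd : ∀ y : Y, f.finrank y = d) (hδ : Cyc.DeltaCompat f δX δY) (k : ℤ) :
    Cyc.HasRelDim f 0 ∧ ∀ (α : AlgebraicCycle Y ℤ), α ∈ Cyc.Zk Y δY k →
      ∀ α' : AlgebraicCycle X ℤ, ⇑α' = Cyc.pullFun f δX δY 0 ⇑α →
        AlgebraicCycle.map f δX δY α' = d • α := by
  have hδ0 : ∀ x, δX x = δY (f x) := by
    intro x
    obtain ⟨n, hn, hx⟩ := hδ x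
    haveI := residue_algebraic f x
    letI := (f.residueFieldMap x).hom.toAlgebra
    rw [trdeg_eq_zero] at hn
    have : n = 0 := by exact_mod_cast hn.symm
    rw [hx, this]
    simp
  refine ⟨?_, ?_⟩
  · intro y T hT
    have hirr : IsIrreducible T := hT.1
    obtain ⟨t, ht⟩ := hirr.nonempty
    haveI : DiscreteTopology ↥(f.fiber y) := inferInstance
    haveI : DiscreteTopology ↥T := inferInstance
    apply le_antisymm
    · exact topologicalKrullDim_zero_of_discreteTopology ↥T
    · haveI : Nonempty (TopologicalSpace.IrreducibleCloseds ↥T) :=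
        ⟨⟨closure {⟨t, ht⟩}, isIrreducible_singleton.closure, isClosed_closure⟩⟩
      exact Order.krullDim_nonneg
  · intro α hα α' hα'
    ext z
    show ∑ᶠ x ∈ f ⁻¹' {z}, α' x * ((AlgebraicCycle.mapCoeff f δX δY x : ℕ) : ℤ) = (d • α) z
    have hfin : (f ⁻¹' {z}).Finite := f.finite_preimage_singleton z
    have h1 : ∀ x ∈ f ⁻¹' {z}, α' x * ((AlgebraicCycle.mapCoeff f δX δY x : ℕ) : ℤ) =
        α z * (locNum f x : ℤ) := by
      intro x hx
      have hαx : α (f x) = α z := congrArg α hx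
      rw [hα']
      unfold Cyc.pullFun AlgebraicCycle.mapCoeff locNum
      rw [if_pos (by rw [hδ0 x, add_zero]), if_pos (hδ0 x), hαx]
      push_cast
      ring
    rw [finsum_mem_congr rfl h1, ← mul_finsum_mem, ← Nat.cast_finsum_mem hfin, sum_locNum, hd z]
    simp [mul_comm]

end PRE

/-- Let f : X → Y be finite locally free of constant degree d (finite, flat, rank function constantly
d). Then f has relative dimension 0 and for every k-cycle α on Y, f_*(f^*α) = d·α (for any cycle
f^*α on X with the flat-pullback coefficients). Here a pair (X, δ) with Cyc.IsSetup plays the role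
of a scheme locally of finite type over a fixed base with a dimension function (X locally Noetherian
with universally catenary local rings, δ a dimension function), and Cyc.DeltaCompat records that the
dimension function upstairs is the induced one. -/
theorem result (X Y : Scheme.{u}) (δX : X → ℤ) (δY : Y → ℤ) (hX : Cyc.IsSetup X δX) (hY : Cyc.IsSetup Y δY) (f : X ⟶ Y) [IsFinite f] [Flat f] (d : ℕ) (hd : ∀ y : Y, f.finrank y = d) (hδ : Cyc.DeltaCompat f δX δY) (k : ℤ) : Cyc.HasRelDim f 0 ∧ ∀ (α : AlgebraicCycle Y ℤ), α ∈ Cyc.Zk Y δY k → ∀ α' : AlgebraicCycle X ℤ, ⇑α' = Cyc.pullFun f δX δY 0 ⇑α → AlgebraicCycle.map f δX δY α' = d • α := by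
  exact main X Y δX δY f d hd hδ k

end Groth.Agent.S1868
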