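import Groth.Statements.S1869
import Mathlib
import Groth.Agent.Lib.Helper95.Hexagon

set_option autoImplicit false
universe u v
open CycAlg

namespace Groth.Agent.S1869

/-- Let 0 → (M₁, N₁, φ₁, ψ₁) → (M₂, N₂, φ₂, ψ₂) → (M₃, N₃, φ₃, ψ₃) → 0 be a short exact sequence of
2-periodic complexes over a ring R (so the maps f_i : M₁ → M₂ → M₃ and g_i : N₁ → N₂ → N₃ commute
with the φ's and ψ's and both rows are short exact). If two of the three complexes have cohomology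
modules of finite length then so does the third, and e_R of the middle one is the sum of e_R of the
outer ones. -/
theorem result {R : Type u} [CommRing R] {M₁ N₁ M₂ N₂ M₃ N₃ : Type v} [AddCommGroup M₁] [Module R M₁] [AddCommGroup N₁] [Module R N₁] [AddCommGroup M₂] [Module R M₂] [AddCommGroup N₂] [Module R N₂] [AddCommGroup M₃] [Module R M₃] [AddCommGroup N₃] [Module R N₃] (φ₁ : M₁ →ₗ[R] N₁) (ψ₁ : N₁ →ₗ[R] M₁) (φ₂ : M₂ →ₗ[R] N₂) (ψ₂ : N₂ →ₗ[R] M₂) (φ₃ : M₃ →ₗ[R] N₃) (ψ₃ : N₃ →ₗ[R] M₃) (h₁ : CycAlg.IsPeriodic φ₁ ψ₁) (h₂ : CycAlg.IsPeriodic φ₂ ψ₂) (h₃ : CycAlg.IsPeriodic φ₃ ψ₃) (f₁ : M₁ →ₗ[R] M₂) (g₁ : N₁ →ₗ[R] N₂) (f₂ : M₂ →ₗ[R] M₃) (g₂ : N₂ →ₗ[R] N₃) (cφ₁ : φ₂ ∘ₗ f₁ = g₁ ∘ₗ φ₁) (cψ₁ : ψ₂ ∘ₗ g₁ = f₁ ∘ₗ ψ₁) (cφ₂ : φ₃ ∘ₗ f₂ = g₂ ∘ₗ φ₂) (cψ₂ : ψ₃ ∘ₗ g₂ = f₂ ∘ₗ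 ψ₂) (hf₁ : Function.Injective f₁) (hg₁ : Function.Injective g₁) (hf₂ : Function.Surjective f₂) (hg₂ : Function.Surjective g₂) (hM : LinearMap.range f₁ = LinearMap.ker f₂) (hN : LinearMap.range g₁ = LinearMap.ker g₂) (htwo : (CycAlg.FinCoh R φ₁ ψ₁ ∧ CycAlg.FinCoh R φ₂ ψ₂) ∨ (CycAlg.FinCoh R φ₁ ψ₁ ∧ CycAlg.FinCoh R φ₃ ψ₃) ∨ (CycAlg.FinCoh R φ₂ ψ₂ ∧ CycAlg.FinCoh R φ₃ ψ₃)) : CycAlg.FinCoh R φ₁ ψ₁ ∧ CycAlg.FinCoh R φ₂ ψ₂ ∧ CycAlg.FinCoh R φ₃ ψ₃ ∧ CycAlg.herbrand R φ₂ ψ₂ = CycAlg.herbrand R φ₁ ψ₁ + CycAlg.herbrand R φ₃ ψ₃ := by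
  obtain ⟨δ, e1, e2, e3⟩ := Lib.Helper95.Hexagon.hexagon_half φ₁ ψ₁ φ₂ ψ₂ φ₃ ψ₃ h₁ h₂ h₃
    f₁ g₁ f₂ g₂ cφ₁ cψ₁ cφ₂ cψ₂ hf₁ hg₁ hf₂ hg₂ hM hN
  obtain ⟨δ', e1', e2', e3'⟩ := Lib.Helper95.Hexagon.hexagon_half ψ₁ φ₁ ψ₂ φ₂ ψ₃ φ₃
    ⟨h₁.2, h₁.1⟩ ⟨h₂.2, h₂.1⟩ ⟨h₃.2, h₃.1⟩ g₁ f₁ g₂ f₂ cψ₁ cφ₁ cψ₂ cφ₂ hg₁ hf₁ hg₂ hf₂ hN hM
  have L1 := Lib.Helper95.LengthT.length_eq_range_add_range e3'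
  have L2 := Lib.Helper95.LengthT.length_eq_range_add_range e1
  have L3 := Lib.Helper95.LengthT.length_eq_range_add_range e2
  have L4 := Lib.Helper95.LengthT.length_eq_range_add_range e3
  have L5 := Lib.Helper95.LengthT.length_eq_range_add_range e1'
  have L6 := Lib.Helper95.LengthT.length_eq_range_add_range e2'
  simp only [CycAlg.FinCoh, CycAlg.herbrand] at htwo ⊢
  rw [L1, L2, L3, L4, L5, L6] at htwo ⊢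
  generalize Module.length R (LinearMap.range δ') = rδ' at *
  generalize Module.length R (LinearMap.range δ) = rδ at *
  generalize Module.length R (LinearMap.range
    (Lib.Helper95.Hexagon.Hmap φ₁ ψ₁ φ₂ ψ₂ f₁ g₁ cφ₁ cψ₁)) = ra at *
  generalize Module.length R (LinearMap.range
    (Lib.Helper95.Hexagon.Hmap φ₂ ψ₂ φ₃ ψ₃ f₂ g₂ cφ₂ cψ₂)) = rb at *
  generalize Module.length R (LinearMap.range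
    (Lib.Helper95.Hexagon.Hmap ψ₁ φ₁ ψ₂ φ₂ g₁ f₁ cψ₁ cφ₁)) = rc at *
  generalize Module.length R (LinearMap.range
    (Lib.Helper95.Hexagon.Hmap ψ₂ φ₂ ψ₃ φ₃ g₂ f₂ cψ₂ cφ₂)) = rd at *
  have key : ∀ a b : ℕ∞, a + b < ⊤ ↔ a < ⊤ ∧ b < ⊤ := fun a b => WithTop.add_lt_top
  simp only [key] at htwo ⊢
  have hall : ra < ⊤ ∧ rb < ⊤ ∧ rc < ⊤ ∧ rd < ⊤ ∧ rδ < ⊤ ∧ rδ' < ⊤ := by tauto
  obtain ⟨ha, hb, hc, hd, hδ, hδ'⟩ := hall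
  lift ra to ℕ using ha.ne
  lift rb to ℕ using hb.ne
  lift rc to ℕ using hc.ne
  lift rd to ℕ using hd.ne
  lift rδ to ℕ using hδ.ne
  lift rδ' to ℕ using hδ'.ne
  refine ⟨⟨⟨hδ', ha⟩, ⟨hδ, hc⟩⟩, ⟨⟨ha, hb⟩, ⟨hc, hd⟩⟩, ⟨⟨hb, hδ⟩, ⟨hd, hδ'⟩⟩, ?_⟩
  simp only [← Nat.cast_add, ENat.toNat_natCast]
  push_cast
  ring

end Groth.Agent.S1869
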