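import Groth.Statements.S1870
import Mathlib
import Groth.Agent.S1869

set_option autoImplicit false
universe u v
open CycAlg

namespace Groth.Agent.S1870

/-- length of `perH` plus length of the range equals length of the kernel -/
theorem length_ker_eq {R : Type u} [CommRing R] {M : Type v} [AddCommGroup M] [Module R M]
    (φ ψ : M →ₗ[R] M) (h : φ ∘ₗ ψ = 0) :
    Module.length R (LinearMap.ker φ) =
      Module.length R (LinearMap.range ψ) + Module.length R (CycAlg.perH φ ψ) := by
  have hle : LinearMap.range ψ ≤ LinearMap.ker φ := by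
    rintro _ ⟨y, rfl⟩
    exact LinearMap.congr_fun h y
  have e := Submodule.submoduleOfEquivOfLe hle
  rw [← e.length_eq]
  exact Module.length_eq_add_of_exact
    ((LinearMap.range ψ).submoduleOf (LinearMap.ker φ)).subtype
    ((LinearMap.range ψ).submoduleOf (LinearMap.ker φ)).mkQ
    (Submodule.subtype_injective _) (Submodule.mkQ_surjective _)
    (LinearMap.exact_subtype_mkQ _)

theorem herbrand_zero {R : Type u} [CommRing R] {M : Type v} [AddCommGroup M] [Module R M]
    (φ ψ : M →ₗ[R] M) (h : CycAlg.IsPeriodic φ ψ) (hM : Module.length R M < ⊤) :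
    CycAlg.FinCoh R φ ψ ∧ CycAlg.herbrand R φ ψ = 0 := by
  have k1 := length_ker_eq φ ψ h.1
  have k2 := length_ker_eq ψ φ h.2
  have m1 := Lib.Helper95.LengthT.length_eq_range_add_range
    (LinearMap.exact_subtype_ker_map φ)
  have m2 := Lib.Helper95.LengthT.length_eq_range_add_range
    (LinearMap.exact_subtype_ker_map ψ)
  rw [Submodule.range_subtype] at m1 m2
  rw [k1] at m1
  rw [k2] at m2
  simp only [CycAlg.FinCoh, CycAlg.herbrand]
  generalize Module.length R (CycAlg.perH φ ψ) = x at *
  generalize Module.length R (CycAlg.perH ψ φ) = y at *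
  generalize Module.length R (LinearMap.range φ) = a at *
  generalize Module.length R (LinearMap.range ψ) = b at *
  generalize Module.length R M = m at *
  have key : ∀ a b : ℕ∞, a + b < ⊤ ↔ a < ⊤ ∧ b < ⊤ := fun a b => WithTop.add_lt_top
  have h1 := hM
  rw [m1, key, key] at h1
  have h2 := hM
  rw [m2, key, key] at h2
  obtain ⟨⟨hb, hx⟩, ha⟩ := h1
  obtain ⟨⟨-, hy⟩, -⟩ := h2
  refine ⟨⟨hx, hy⟩, ?_⟩
  lift x to ℕ using hx.ne
  lift y to ℕ using hy.ne
  lift a to ℕ using ha.ne
  lift b to ℕ using hb.ne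
  have e : ((b + x + a : ℕ) : ℕ∞) = ((a + y + b : ℕ) : ℕ∞) := by
    push_cast
    rw [← m1, ← m2]
  have e' : b + x + a = a + y + b := by exact_mod_cast e
  simp only [ENat.toNat_natCast]
  omega

/-- A morphism of (2,1)-periodic complexes, both with finite-length cohomology, whose kernel and
cokernel have finite length does not change the additive Herbrand quotient: e_R(M, φ, ψ) = e_R(M',
φ', ψ'). -/
theorem result {R : Type u} [CommRing R] {M M' : Type v} [AddCommGroup M] [Module R M] [AddCommGroup M'] [Module R M'] (φ ψ : M →ₗ[R] M) (φ' ψ' : M' →ₗ[R] M') (h : CycAlg.IsPeriodic φ ψ) (h' : CycAlg.IsPeriodic φ' ψ') (f : M →ₗ[R] M') (cφ : φ' ∘ₗ f = f ∘ₗ φ) (cψ : ψ' ∘ₗ f = f ∘ₗ ψ) (hfin : CycAlg.FinCoh R φ ψ) (hfin' : CycAlg.FinCoh R φ' ψ') (hker : Module.length R (LinearMap.ker f) < ⊤) (hcoker : Module.length R (M' ⧸ LinearMap.range f) < ⊤) : CycAlg.herbrand R φ ψ = CycAlg.herbrand R φ' ψ' := by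
  have hKφ : ∀ x ∈ LinearMap.ker f, φ x ∈ LinearMap.ker f := fun x hx => by
    rw [LinearMap.mem_ker] at hx ⊢
    have := LinearMap.congr_fun cφ x
    simp only [LinearMap.comp_apply] at this
    rw [← this, hx, map_zero]
  have hKψ : ∀ x ∈ LinearMap.ker f, ψ x ∈ LinearMap.ker f := fun x hx => by
    rw [LinearMap.mem_ker] at hx ⊢
    have := LinearMap.congr_fun cψ x
    simp only [LinearMap.comp_apply] at this
    rw [← this, hx, map_zero]
  have hIφ : ∀ y ∈ LinearMap.range f, φ' y ∈ LinearMap.range f := by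
    rintro _ ⟨x, rfl⟩
    exact ⟨φ x, (LinearMap.congr_fun cφ x).symm⟩
  have hIψ : ∀ y ∈ LinearMap.range f, ψ' y ∈ LinearMap.range f := by
    rintro _ ⟨x, rfl⟩
    exact ⟨ψ x, (LinearMap.congr_fun cψ x).symm⟩
  let φK := φ.restrict hKφ
  let ψK := ψ.restrict hKψ
  let φI := φ'.restrict hIφ
  let ψI := ψ'.restrict hIψ
  let φC := (LinearMap.range f).mapQ (LinearMap.range f) φ' (fun y hy => hIφ y hy)
  let ψC := (LinearMap.range f).mapQ (LinearMap.range f) ψ' (fun y hy => hIψ y hy)
  have hK : CycAlg.IsPeriodic φK ψK := by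
    constructor
    · ext x; exact LinearMap.congr_fun h.1 x.1
    · ext x; exact LinearMap.congr_fun h.2 x.1
  have hI : CycAlg.IsPeriodic φI ψI := by
    constructor
    · ext x; exact LinearMap.congr_fun h'.1 x.1
    · ext x; exact LinearMap.congr_fun h'.2 x.1
  have hC : CycAlg.IsPeriodic φC ψC := by
    constructor
    · apply LinearMap.ext
      intro z
      obtain ⟨m, rfl⟩ := Submodule.Quotient.mk_surjective _ z
      change Submodule.Quotient.mk (φ' (ψ' m)) = 0
      have := LinearMap.congr_fun h'.1 m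
      simp only [LinearMap.comp_apply, LinearMap.zero_apply] at this
      rw [this, Submodule.Quotient.mk_zero]
    · apply LinearMap.ext
      intro z
      obtain ⟨m, rfl⟩ := Submodule.Quotient.mk_surjective _ z
      change Submodule.Quotient.mk (ψ' (φ' m)) = 0
      have := LinearMap.congr_fun h'.2 m
      simp only [LinearMap.comp_apply, LinearMap.zero_apply] at this
      rw [this, Submodule.Quotient.mk_zero]
  have zK := herbrand_zero φK ψK hK hker
  have zC := herbrand_zero φC ψC hC hcoker
  have r1 := Groth.Agent.S1869.result φK ψK φ ψ φI ψI hK h hI (LinearMap.ker f).subtype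
    (LinearMap.ker f).subtype f.rangeRestrict f.rangeRestrict
    (by ext x; rfl) (by ext x; rfl)
    (by ext x; exact LinearMap.congr_fun cφ x) (by ext x; exact LinearMap.congr_fun cψ x)
    (Submodule.subtype_injective _) (Submodule.subtype_injective _)
    f.surjective_rangeRestrict f.surjective_rangeRestrict
    (by rw [Submodule.range_subtype, LinearMap.ker_rangeRestrict])
    (by rw [Submodule.range_subtype, LinearMap.ker_rangeRestrict])
    (Or.inl ⟨zK.1, hfin⟩)
  have r2 := Groth.Agent.S1869.result φI ψI φ' ψ' φC ψC hI h' hC (LinearMap.range f).subtype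
    (LinearMap.range f).subtype (LinearMap.range f).mkQ (LinearMap.range f).mkQ
    (by ext x; rfl) (by ext x; rfl)
    (by ext x; rfl) (by ext x; rfl)
    (Submodule.subtype_injective _) (Submodule.subtype_injective _)
    (Submodule.mkQ_surjective _) (Submodule.mkQ_surjective _)
    (by rw [Submodule.range_subtype, Submodule.ker_mkQ])
    (by rw [Submodule.range_subtype, Submodule.ker_mkQ])
    (Or.inl ⟨r1.2.2.1, hfin'⟩)
  have e1 := r1.2.2.2
  have e2 := r2.2.2.2
  rw [zK.2] at e1
  rw [zC.2] at e2
  rw [e1, e2]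
  ring

end Groth.Agent.S1870
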