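import Groth.Statements.S18700
import Groth.Agent.Lib.Helper29.DepthSES

set_option autoImplicit false
universe u
open QGor

namespace Groth.Agent.S18700

/-- Affine form. Let A be a Noetherian ring, I an ideal, and G the kernel of a linear map u : E⁰ → E¹ of
finite A-modules. If depth_I E⁰ ≥ 1 then depth_I G ≥ 1; if depth_I E⁰ ≥ 2 and depth_I E¹ ≥ 1 then
depth_I G ≥ 2. -/
theorem result (A : Type u) [CommRing A] [IsNoetherianRing A] (I : Ideal A)
    (E0 E1 : Type u) [AddCommGroup E0] [Module A E0] [Module.Finite A E0] [AddCommGroup E1] [Module A E1]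
    [Module.Finite A E1] (u : E0 →ₗ[A] E1) :
    (1 ≤ LocCoh.idealDepth I E0 → 1 ≤ LocCoh.idealDepth I (LinearMap.ker u)) ∧
    (2 ≤ LocCoh.idealDepth I E0 → 1 ≤ LocCoh.idealDepth I E1 → 2 ≤ LocCoh.idealDepth I (LinearMap.ker u)) := by
  have hsub : ∀ (N E : Type u) [AddCommGroup N] [Module A N] [Module.Finite A N] [AddCommGroup E]
      [Module A E] [Module.Finite A E] (j : N →ₗ[A] E), Function.Injective j →
      1 ≤ LocCoh.idealDepth I E → 1 ≤ LocCoh.idealDepth I N := by
    intro N E _ _ _ _ _ _ j hj h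
    have h' : ((1 : ℕ) : ℕ∞) ≤ LocCoh.idealDepth I E := by exact_mod_cast h
    rw [Groth.Agent.Lib.Helper29.DepthSES.natCast_le_idealDepth_iff] at h'
    have h2 : ((1 : ℕ) : ℕ∞) ≤ LocCoh.idealDepth I N := by
      rw [Groth.Agent.Lib.Helper29.DepthSES.natCast_le_idealDepth_iff]
      intro i hi
      have hi0 : i = 0 := by omega
      subst hi0
      exact Groth.Agent.Lib.Helper29.DepthSES.subsingleton_ext_left_zero _ N E j hj (h' 0 hi)
    exact_mod_cast h2
  refine ⟨fun h => hsub _ _ (LinearMap.ker u).subtype (Submodule.injective_subtype _) h,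
    fun h0 h1 => ?_⟩
  have hr : 1 ≤ LocCoh.idealDepth I (LinearMap.range u) :=
    hsub _ _ (LinearMap.range u).subtype (Submodule.injective_subtype _) h1
  have hex : Function.Exact (LinearMap.ker u).subtype u.rangeRestrict := by
    intro x
    constructor
    · intro hx
      have : u x = 0 := congrArg Subtype.val hx
      exact ⟨⟨x, this⟩, rfl⟩
    · rintro ⟨y, rfl⟩
      exact Subtype.ext y.2
  have key := Groth.Agent.Lib.Helper29.DepthSES.min_le_idealDepth_left I (LinearMap.ker u) E0
    (LinearMap.range u) (LinearMap.ker u).subtype u.rangeRestrict (Submodule.injective_subtype _)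
    u.surjective_rangeRestrict hex
  refine le_trans (le_min h0 ?_) key
  calc (2 : ℕ∞) = 1 + 1 := by norm_num
    _ ≤ LocCoh.idealDepth I (LinearMap.range u) + 1 := add_le_add_left hr 1

end Groth.Agent.S18700
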