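import Groth.Statements.S18701
import Groth.Agent.Lib.Helper29.DepthSES
import Groth.Agent.Lib.Helper29.SuppLoc
import Groth.Agent.S18700
import Mathlib.Algebra.Module.LocalizedModule.Exact

set_option autoImplicit false
universe u
open QGor

namespace Groth.Agent.S18701


theorem tri (x : WithBot ℕ∞) : x ≤ 0 ∨ x = 1 ∨ 2 ≤ x := by
  induction x using WithBot.recBotCoe with
  | bot => exact Or.inl bot_le
  | coe x =>
    induction x using ENat.recTopCoe with
    | top => exact Or.inr (Or.inr le_top)
    | coe n =>
      rcases n with _ | _ | n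
      · exact Or.inl le_rfl
      · exact Or.inr (Or.inl rfl)
      · refine Or.inr (Or.inr ?_)
        have : ((2 : ℕ) : ℕ∞) ≤ ((n + 1 + 1 : ℕ) : ℕ∞) := by
          have : (2 : ℕ) ≤ n + 1 + 1 := by omega
          exact_mod_cast this
        exact WithBot.coe_le_coe.2 this

theorem one_le_depth_of_injective {A : Type u} [CommRing A] [IsNoetherianRing A] [IsLocalRing A]
    (N E : Type u) [AddCommGroup N] [Module A N] [Module.Finite A N] [AddCommGroup E]
    [Module A E] [Module.Finite A E] (j : N →ₗ[A] E) (hj : Function.Injective j)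
    (h : 1 ≤ LocCoh.depth A E) : 1 ≤ LocCoh.depth A N := by
  unfold LocCoh.depth at h ⊢
  have h' : ((1 : ℕ) : ℕ∞) ≤ LocCoh.idealDepth (IsLocalRing.maximalIdeal A) E := by exact_mod_cast h
  rw [Groth.Agent.Lib.Helper29.DepthSES.natCast_le_idealDepth_iff] at h'
  have h2 : ((1 : ℕ) : ℕ∞) ≤ LocCoh.idealDepth (IsLocalRing.maximalIdeal A) N := by
    rw [Groth.Agent.Lib.Helper29.DepthSES.natCast_le_idealDepth_iff]
    intro i hi
    have hi0 : i = 0 := by omega
    subst hi0
    exact Groth.Agent.Lib.Helper29.DepthSES.subsingleton_ext_left_zero _ N E j hj (h' 0 hi)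
  exact_mod_cast h2


theorem zero_le_coe (δ : ℕ∞) : (0 : WithBot ℕ∞) ≤ (δ : WithBot ℕ∞) := by
  have : (0 : ℕ∞) ≤ δ := zero_le
  exact_mod_cast this

theorem natCast_le_coe {k : ℕ} {δ : ℕ∞} (h : (k : ℕ∞) ≤ δ) :
    ((k : ℕ) : WithBot ℕ∞) ≤ (δ : WithBot ℕ∞) := by
  have : ((k : ℕ) : WithBot ℕ∞) = (((k : ℕ) : ℕ∞) : WithBot ℕ∞) := rfl
  rw [this]
  exact WithBot.coe_le_coe.2 h

theorem le_of_min_le (k : ℕ) (d : WithBot ℕ∞) (δ : ℕ∞)
    (h : min (k : WithBot ℕ∞) d ≤ (δ : WithBot ℕ∞)) (hd : (k : WithBot ℕ∞) ≤ d) :
    (k : ℕ∞) ≤ δ := by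
  rw [min_eq_left hd] at h
  exact_mod_cast h

theorem supportDim_le_of_support_subset {R : Type u} [CommRing R] (M N : Type u) [AddCommGroup M]
    [Module R M] [AddCommGroup N] [Module R N] (h : Module.support R M ⊆ Module.support R N) :
    Module.supportDim R M ≤ Module.supportDim R N :=
  Order.krullDim_le_of_strictMono (Set.inclusion h) (fun _ _ hab => hab)

/-- Affine form. Let A be a Noetherian ring and G the kernel of a linear map u : E⁰ → E¹ of finite
A-modules. If E⁰ has (S_1) then G has (S_1). If Supp G ⊆ Supp E¹, E¹ has (S_1) and E⁰ has (S_2),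
then G has (S_2). -/
theorem result (A : Type u) [CommRing A] [IsNoetherianRing A]
    (E0 E1 : Type u) [AddCommGroup E0] [Module A E0] [Module.Finite A E0] [AddCommGroup E1] [Module A E1]
    [Module.Finite A E1] (u : E0 →ₗ[A] E1) :
    (LocCoh.HasSk 1 A E0 → LocCoh.HasSk 1 A (LinearMap.ker u)) ∧
    (Module.support A (LinearMap.ker u) ⊆ Module.support A E1 → LocCoh.HasSk 1 A E1 → LocCoh.HasSk 2 A E0 →
      LocCoh.HasSk 2 A (LinearMap.ker u)) := by
  have main : ∀ (p : Ideal A) [p.IsPrime],
      (Module.supportDim (Localization.AtPrime p) (LocalizedModule p.primeCompl (LinearMap.ker u)) ≤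
        Module.supportDim (Localization.AtPrime p) (LocalizedModule p.primeCompl E0)) ∧
      (1 ≤ LocCoh.depth (Localization.AtPrime p) (LocalizedModule p.primeCompl E0) →
        1 ≤ LocCoh.depth (Localization.AtPrime p) (LocalizedModule p.primeCompl (LinearMap.ker u))) ∧
      (2 ≤ LocCoh.depth (Localization.AtPrime p) (LocalizedModule p.primeCompl E0) →
        1 ≤ LocCoh.depth (Localization.AtPrime p) (LocalizedModule p.primeCompl E1) →
        2 ≤ LocCoh.depth (Localization.AtPrime p) (LocalizedModule p.primeCompl (LinearMap.ker u))) := by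
    intro p _
    let S := p.primeCompl
    let ι' := LocalizedModule.map S (LinearMap.ker u).subtype
    let u' := LocalizedModule.map S u
    have hι' : Function.Injective ι' :=
      LocalizedModule.map_injective S _ (Submodule.injective_subtype _)
    have hex : Function.Exact ι' u' :=
      LocalizedModule.map_exact S _ _ (LinearMap.exact_subtype_ker_map u)
    refine ⟨Module.supportDim_le_of_injective ι' hι', one_le_depth_of_injective _ _ ι' hι', ?_⟩
    intro h0 h1
    have key := (Groth.Agent.S18700.result (Localization.AtPrime p)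
      (IsLocalRing.maximalIdeal (Localization.AtPrime p)) _ _ u').2 h0 h1
    have hrange : LinearMap.range ι' = LinearMap.ker u' := (LinearMap.exact_iff.1 hex).symm
    let e : LocalizedModule S (LinearMap.ker u) ≃ₗ[Localization.AtPrime p] LinearMap.ker u' :=
      (LinearEquiv.ofInjective ι' hι').trans (LinearEquiv.ofEq _ _ hrange)
    rw [Groth.Agent.Lib.Helper29.CMLib.depth_congr e]
    exact key
  refine ⟨fun hS p _ => ?_, fun hsupp hS1 hS2 p _ => ?_⟩
  · obtain ⟨hdim, h1, -⟩ := main p
    have hE := hS p
    rcases tri (Module.supportDim (Localization.AtPrime p)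
      (LocalizedModule p.primeCompl (LinearMap.ker u))) with h | h | h
    · exact le_trans (min_le_right _ _) (le_trans h (zero_le_coe _))
    · have hd0 : ((1 : ℕ) : WithBot ℕ∞) ≤ Module.supportDim (Localization.AtPrime p)
          (LocalizedModule p.primeCompl E0) := by
        refine le_trans ?_ hdim
        rw [h]; exact_mod_cast le_rfl
      have := h1 (by exact_mod_cast le_of_min_le 1 _ _ hE hd0)
      exact le_trans (min_le_left _ _) (by exact_mod_cast this)
    · have hd0 : ((1 : ℕ) : WithBot ℕ∞) ≤ Module.supportDim (Localization.AtPrime p)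
          (LocalizedModule p.primeCompl E0) := by
        refine le_trans ?_ (le_trans h hdim)
        exact_mod_cast (by norm_num : (1 : ℕ) ≤ 2)
      have := h1 (by exact_mod_cast le_of_min_le 1 _ _ hE hd0)
      exact le_trans (min_le_left _ _) (by exact_mod_cast this)
  · obtain ⟨hdim, h1, h2⟩ := main p
    have hE0 := hS2 p
    have hE1 := hS1 p
    have hdim1 : Module.supportDim (Localization.AtPrime p)
        (LocalizedModule p.primeCompl (LinearMap.ker u)) ≤
        Module.supportDim (Localization.AtPrime p) (LocalizedModule p.primeCompl E1) := by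
      apply supportDim_le_of_support_subset
      intro Q hQ
      rw [Groth.Agent.Lib.Helper29.SuppLoc.mem_support_iff_comap_mem_support p.primeCompl
        (LocalizedModule.mkLinearMap p.primeCompl _)] at hQ ⊢
      exact hsupp hQ
    rcases tri (Module.supportDim (Localization.AtPrime p)
      (LocalizedModule p.primeCompl (LinearMap.ker u))) with h | h | h
    · exact le_trans (min_le_right _ _) (le_trans h (zero_le_coe _))
    · have hd0 : ((1 : ℕ) : WithBot ℕ∞) ≤ Module.supportDim (Localization.AtPrime p)
          (LocalizedModule p.primeCompl E0) := by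
        refine le_trans ?_ hdim
        rw [h]; exact_mod_cast le_rfl
      have hδ0 : ((1 : ℕ) : ℕ∞) ≤ LocCoh.depth (Localization.AtPrime p)
          (LocalizedModule p.primeCompl E0) := by
        have hmin : min ((1 : ℕ) : WithBot ℕ∞) (Module.supportDim (Localization.AtPrime p)
            (LocalizedModule p.primeCompl E0)) ≤ _ :=
          le_trans (min_le_min (by exact_mod_cast (by norm_num : (1 : ℕ) ≤ 2)) le_rfl) hE0
        exact le_of_min_le 1 _ _ hmin hd0
      have := h1 (by exact_mod_cast hδ0)
      rw [h]
      exact le_trans (min_le_right _ _) (by exact_mod_cast this)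
    · have hd0 : ((2 : ℕ) : WithBot ℕ∞) ≤ Module.supportDim (Localization.AtPrime p)
          (LocalizedModule p.primeCompl E0) := by
        refine le_trans ?_ (le_trans h hdim)
        exact_mod_cast le_rfl
      have hd1 : ((1 : ℕ) : WithBot ℕ∞) ≤ Module.supportDim (Localization.AtPrime p)
          (LocalizedModule p.primeCompl E1) := by
        refine le_trans ?_ (le_trans h hdim1)
        exact_mod_cast (by norm_num : (1 : ℕ) ≤ 2)
      have := h2 (by exact_mod_cast le_of_min_le 2 _ _ hE0 hd0)
        (by exact_mod_cast le_of_min_le 1 _ _ hE1 hd1)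
      exact le_trans (min_le_left _ _) (natCast_le_coe (by exact_mod_cast this))

end Groth.Agent.S18701
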