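import Groth.Statements.S18703
import Groth.Agent.Lib.Helper93.ReflexiveDepth
-- import your own Groth.Agent.* helpers here

set_option autoImplicit false
universe u
open QGor

namespace Groth.Agent.S18703

open Groth.Agent.Lib.Helper93.ReflexiveDepth

/-- Affine form. Let A be a Noetherian ring and I an ideal with depth_I A ≥ 1. Let G be a finite
A-module such that G_p is a reflexive A_p-module for every prime p not containing I (G is reflexive
off V(I)). If depth_I G ≥ 2, then G is reflexive. -/
theorem result (A : Type u) [CommRing A] [IsNoetherianRing A] (I : Ideal A)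
    (hA : 1 ≤ LocCoh.idealDepth I A)
    (G : Type u) [AddCommGroup G] [Module A G] [Module.Finite A G]
    (hU : ∀ p : PrimeSpectrum A, ¬ I ≤ p.asIdeal →
      Module.IsReflexive (Localization.AtPrime p.asIdeal) (LocalizedModule p.asIdeal.primeCompl G))
    (hG : 2 ≤ LocCoh.idealDepth I G) : Module.IsReflexive A G := by
  classical
  have hfp : Module.FinitePresentation A G := Module.finitePresentation_of_finite A G
  have hfp' : Module.FinitePresentation A (Module.Dual A G) :=
    Module.finitePresentation_of_finite A _
  -- an ideal meeting the complement of every prime not containing `I` contains a power of `I`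
  have hpow : ∀ J : Ideal A, (∀ p : PrimeSpectrum A, ¬ I ≤ p.asIdeal → ∃ t ∈ J, t ∉ p.asIdeal) →
      ∃ n : ℕ, I ^ n ≤ J := by
    intro J hJ
    apply Ideal.exists_pow_le_of_le_radical_of_fg _ (IsNoetherian.noetherian I)
    rw [Ideal.radical_eq_sInf]
    refine le_sInf fun p hp => ?_
    by_contra hIp
    have := hp.2
    obtain ⟨t, htJ, htp⟩ := hJ ⟨p, hp.2⟩ hIp
    exact htp (hp.1 htJ)
  have hK : ∀ k : G, Module.Dual.eval A G k = 0 → ∃ n : ℕ, ∀ a ∈ I ^ n, a • k = 0 := by
    intro k hk
    obtain ⟨n, hn⟩ := hpow (LinearMap.ker (LinearMap.toSpanSingleton A G k)) (by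
      intro p hp
      have := hU p hp
      obtain ⟨t, ht, htk⟩ := exists_smul_eq_zero_of_eval_eq_zero G p.asIdeal.primeCompl k hk
      exact ⟨t, by simpa using htk, ht⟩)
    exact ⟨n, fun a ha => by simpa using hn ha⟩
  have hC : ∀ c : Module.Dual A (Module.Dual A G),
      ∃ n : ℕ, ∀ a ∈ I ^ n, a • c ∈ LinearMap.range (Module.Dual.eval A G) := by
    intro c
    obtain ⟨n, hn⟩ := hpow ((LinearMap.range (Module.Dual.eval A G)).comap
        (LinearMap.toSpanSingleton A _ c)) (by
      intro p hp
      have := hU p hp
      obtain ⟨t, ht, htc⟩ := exists_smul_mem_range_eval G p.asIdeal.primeCompl c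
      exact ⟨t, by simpa using htc, ht⟩)
    exact ⟨n, fun a ha => by simpa using hn ha⟩
  by_cases hcase : ∃ a ∈ I, ∀ g : G, a • g = g
  · -- degenerate case: `G` is supported off `V(I)`
    obtain ⟨a, haI, hag⟩ := hcase
    have hpowG : ∀ (n : ℕ) (g : G), a ^ n • g = g := by
      intro n
      induction n with
      | zero => intro g; simp
      | succ n ih => intro g; rw [pow_succ, mul_smul, hag, ih]
    have haD : ∀ (n : ℕ) (c : Module.Dual A (Module.Dual A G)), a ^ n • c = c := by
      intro n c
      refine LinearMap.ext fun l => ?_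
      rw [LinearMap.smul_apply, ← map_smul]
      congr 1
      refine LinearMap.ext fun g => ?_
      rw [LinearMap.smul_apply, ← map_smul, hpowG]
    constructor
    constructor
    · rw [injective_iff_map_eq_zero]
      intro k hk
      obtain ⟨n, hn⟩ := hK k hk
      rw [← hpowG n k]
      exact hn _ (Ideal.pow_mem_pow haI n)
    · intro c
      obtain ⟨n, hn⟩ := hC c
      have := hn _ (Ideal.pow_mem_pow haI n)
      rwa [haD] at this
  · -- main case
    have hIG : I • (⊤ : Submodule A G) ≠ ⊤ := by
      intro h
      obtain ⟨r, hr1, hr2⟩ := Submodule.exists_sub_one_mem_and_smul_eq_zero_of_fg_of_le_smul I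
        (⊤ : Submodule A G) Module.Finite.fg_top (le_of_eq h.symm)
      apply hcase
      refine ⟨1 - r, ?_, fun g => ?_⟩
      · rw [← neg_sub]; exact I.neg_mem hr1
      · rw [sub_smul, one_smul, hr2 g Submodule.mem_top, sub_zero]
    have hIA : I • (⊤ : Submodule A A) ≠ ⊤ := by
      intro h
      apply hcase
      have h1 : (1 : A) ∈ I := by
        have : (1 : A) ∈ I • (⊤ : Submodule A A) := by rw [h]; exact Submodule.mem_top
        simpa using this
      exact ⟨1, h1, fun g => one_smul A g⟩
    obtain ⟨x, hx, y, hy, hxG, hyG⟩ := exists_regular_two I G hG hIG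
    obtain ⟨z, hz, hzA⟩ := exists_regular_one I A hA hIA
    have hzH : IsSMulRegular (Module.Dual A (Module.Dual A G)) z := by
      intro φ ψ h
      refine LinearMap.ext fun l => ?_
      apply hzA
      have := LinearMap.congr_fun h l
      simpa using this
    have hinj : Function.Injective (Module.Dual.eval A G) := by
      rw [injective_iff_map_eq_zero]
      intro k hk
      obtain ⟨n, hn⟩ := hK k hk
      apply (hxG.pow n)
      simp only [smul_zero]
      exact hn _ (Ideal.pow_mem_pow hx n)
    constructor
    refine ⟨hinj, fun c => ?_⟩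
    obtain ⟨n, hn⟩ := hC c
    exact mem_range_of_pow_smul_mem I (Module.Dual.eval A G) hinj x y z hx hy hz hxG hyG hzH n c hn

end Groth.Agent.S18703
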