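import Groth.Statements.S18724
import Mathlib.RingTheory.KrullDimension.Regular
import Mathlib.RingTheory.Regular.Flat
-- import your own Groth.Agent.* helpers here

set_option autoImplicit false
universe u
open QGor

namespace Groth.Agent.S18724

/-- Affine form. Let A be a Noetherian ring, M a finite A-module and I an ideal. Then depth_I M ≤
codim(V(I) ∩ Supp M, Supp M): for every prime p ⊇ I in the support of M, depth_I M ≤ dim Supp(M_p). -/
theorem result (A : Type u) [CommRing A] [IsNoetherianRing A]
    (M : Type u) [AddCommGroup M] [Module A M] [Module.Finite A M] (I : Ideal A)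
    (p : PrimeSpectrum A) (hIp : I ≤ p.asIdeal) (hp : p ∈ Module.support A M) :
    ((LocCoh.idealDepth I M : ℕ∞) : WithBot ℕ∞) ≤
      Module.supportDim (Localization.AtPrime p.asIdeal) (LocalizedModule p.asIdeal.primeCompl M) := by
  classical
  have hnt : Nontrivial (LocalizedModule p.asIdeal.primeCompl M) :=
    (Module.mem_support_iff (p := p)).1 hp
  -- length of a regular sequence in `I` is bounded by the dimension
  have key : ∀ rs : List A, RingTheory.Sequence.IsWeaklyRegular M rs → (∀ r ∈ rs, r ∈ I) →
      ((rs.length : ℕ∞) : WithBot ℕ∞) ≤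
        Module.supportDim (Localization.AtPrime p.asIdeal)
          (LocalizedModule p.asIdeal.primeCompl M) := by
    intro rs hreg hmem
    have hreg' := RingTheory.Sequence.IsWeaklyRegular.isRegular_of_isLocalizedModule_of_mem
      (Localization.AtPrime p.asIdeal) p.asIdeal
      (LocalizedModule.mkLinearMap p.asIdeal.primeCompl M) hreg (fun r hr => hIp (hmem r hr))
    have hdim := Module.supportDim_add_length_eq_supportDim_of_isRegular _ hreg'
    rw [List.length_map] at hdim
    have hQ : Nontrivial (LocalizedModule p.asIdeal.primeCompl M ⧸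
        Ideal.ofList (rs.map (algebraMap A (Localization.AtPrime p.asIdeal))) •
          (⊤ : Submodule (Localization.AtPrime p.asIdeal)
            (LocalizedModule p.asIdeal.primeCompl M))) :=
      Submodule.Quotient.nontrivial_iff.2 hreg'.2.symm
    have hQ' := Module.supportDim_ne_bot_of_nontrivial (R := Localization.AtPrime p.asIdeal)
      (M := LocalizedModule p.asIdeal.primeCompl M ⧸
        Ideal.ofList (rs.map (algebraMap A (Localization.AtPrime p.asIdeal))) •
          (⊤ : Submodule (Localization.AtPrime p.asIdeal)
            (LocalizedModule p.asIdeal.primeCompl M)))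
    obtain ⟨d, hd⟩ := WithBot.ne_bot_iff_exists.1 hQ'
    rw [← hdim, ← hd]
    have : ((rs.length : ℕ∞) : WithBot ℕ∞) = ((rs.length : ℕ) : WithBot ℕ∞) := rfl
    rw [this, ← WithBot.coe_natCast, ← WithBot.coe_add, WithBot.coe_le_coe]
    exact le_add_self
  unfold LocCoh.idealDepth
  split_ifs with htop
  · exfalso
    obtain ⟨r, hr1, hr0⟩ := Submodule.exists_sub_one_mem_and_smul_eq_zero_of_fg_of_le_smul I
      (⊤ : Submodule A M) Module.Finite.fg_top (le_of_eq htop.symm)
    obtain ⟨m, hm⟩ := (Module.mem_support_iff_exists_annihilator (p := p)).1 hp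
    have hrp : r ∈ p.asIdeal := hm (by
      rw [Submodule.mem_annihilator_span_singleton]
      exact hr0 m trivial)
    have h1 : (1 : A) ∈ p.asIdeal := by
      have := p.asIdeal.sub_mem hrp (hIp hr1)
      simpa using this
    exact p.isPrime.ne_top ((Ideal.eq_top_iff_one _).2 h1)
  · have hne := Module.supportDim_ne_bot_of_nontrivial (R := Localization.AtPrime p.asIdeal)
      (M := LocalizedModule p.asIdeal.primeCompl M)
    obtain ⟨d, hd⟩ := WithBot.ne_bot_iff_exists.1 hne
    rw [← hd, WithBot.coe_le_coe]
    refine iSup₂_le (fun rs hrs => ?_)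
    have := key rs hrs.1 hrs.2
    rw [← hd, WithBot.coe_le_coe] at this
    exact this

end Groth.Agent.S18724
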