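import Groth.Statements.S18704
import Groth.Agent.Lib.Helper93.ReflexiveDepth3
import Groth.Agent.S18702
import Groth.Agent.S18703
import Groth.Agent.S18724
-- import your own Groth.Agent.* helpers here

set_option autoImplicit false
universe u
open QGor

namespace Groth.Agent.S18704

open Groth.Agent.Lib.Helper93.ReflexiveDepth

/-- Affine form. Let A be a Noetherian ring with Serre's condition (S_2), I an ideal with ht I ≥ 2
(every prime containing I has height ≥ 2), and G a finite A-module with G_p reflexive for every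
prime p not containing I. Then the following are equivalent: (i) G has (S_2) and dim Supp(G_p) ≥ 2
for every prime p ⊇ I in Supp G; (ii) depth_I G ≥ 2; (iii) G is reflexive. -/
theorem result (A : Type u) [CommRing A] [IsNoetherianRing A]
    (hA : LocCoh.HasSk 2 A A) (I : Ideal A) (hI : 2 ≤ I.height)
    (G : Type u) [AddCommGroup G] [Module A G] [Module.Finite A G]
    (hU : ∀ p : PrimeSpectrum A, ¬ I ≤ p.asIdeal →
      Module.IsReflexive (Localization.AtPrime p.asIdeal) (LocalizedModule p.asIdeal.primeCompl G)) :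
    ((LocCoh.HasSk 2 A G ∧ ∀ p : PrimeSpectrum A, I ≤ p.asIdeal → p ∈ Module.support A G →
        (2 : WithBot ℕ∞) ≤ Module.supportDim (Localization.AtPrime p.asIdeal) (LocalizedModule p.asIdeal.primeCompl G)) ↔
      2 ≤ LocCoh.idealDepth I G) ∧
    (2 ≤ LocCoh.idealDepth I G ↔ Module.IsReflexive A G) := by
  classical
  have e2 : ((2 : ℕ) : WithBot ℕ∞) = ((2 : ℕ∞) : WithBot ℕ∞) := rfl
  -- Step A: `depth_I A ≥ 2`
  have h2A : 2 ≤ LocCoh.idealDepth I A := by
    apply two_le_idealDepth_of_forall_localized I A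
    intro p hp hIp _
    rw [Groth.Agent.Lib.Helper49.Serre.depth_localizedModule_self]
    have h1 := (Groth.Agent.Lib.Helper49.Serre.hasSk_self_iff A 2).mp hA p
    have h2 : (2 : ℕ∞) ≤ p.height := le_trans hI (Ideal.height_mono hIp)
    have h3 : min ((2 : ℕ) : WithBot ℕ∞) (p.height : WithBot ℕ∞) = ((2 : ℕ∞) : WithBot ℕ∞) := by
      rw [e2, min_eq_left]
      exact WithBot.coe_le_coe.mpr h2
    rw [h3] at h1
    exact WithBot.coe_le_coe.mp h1
  have h1A : 1 ≤ LocCoh.idealDepth I A := le_trans (by norm_num) h2A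
  refine ⟨⟨fun hi => ?_, fun hii => ⟨?_, ?_⟩⟩, ⟨fun hii => ?_, fun hiii => ?_⟩⟩
  · -- (i) ⇒ (ii)
    obtain ⟨hS2, hdim⟩ := hi
    apply two_le_idealDepth_of_forall_localized I G
    intro p hp hIp hsupp
    have h1 := hS2 p
    have h2 := hdim ⟨p, hp⟩ hIp hsupp
    have h3 : min ((2 : ℕ) : WithBot ℕ∞) (Module.supportDim (Localization.AtPrime p)
        (LocalizedModule p.primeCompl G)) = ((2 : ℕ∞) : WithBot ℕ∞) := by
      rw [e2, min_eq_left]
      exact h2
    rw [h3] at h1
    exact WithBot.coe_le_coe.mp h1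
  · -- (ii) ⇒ (S_2)
    intro p hp
    by_cases hIp : I ≤ p
    · have h2 := le_depth_localizedModule_of_le_idealDepth I G p hIp 2 (by exact_mod_cast hii)
      refine le_trans (min_le_left _ _) ?_
      rw [e2]
      exact WithBot.coe_le_coe.mpr (by exact_mod_cast h2)
    · have hrefl := hU ⟨p, hp⟩ hIp
      have hAp := (Groth.Agent.Lib.Helper49.Serre.hasSk_self_iff A 2).mp hA p
      refine min_le_of_forall_le 2 _ (p.height : WithBot ℕ∞) _ _ ?_ hAp ?_
      · rw [← IsLocalization.AtPrime.ringKrullDim_eq_height p (Localization.AtPrime p)]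
        exact Module.supportDim_le_ringKrullDim _ _
      · intro j hj2 hj
        exact le_depth_of_isReflexive _ j hj2 hj
  · -- (ii) ⇒ dimension condition
    intro p hIp hp
    have h1 := Groth.Agent.S18724.result A G I p hIp hp
    refine le_trans ?_ h1
    exact WithBot.coe_le_coe.mpr hii
  · -- (ii) ⇒ (iii)
    exact Groth.Agent.S18703.result A I h1A G hU hii
  · -- (iii) ⇒ (ii)
    have := hiii
    exact_mod_cast Groth.Agent.S18702.le_idealDepth_of_isReflexive A I G 2 (Or.inr rfl)
      (by exact_mod_cast h2A)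

end Groth.Agent.S18704
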