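import Groth.Statements.S18707
import Groth.Agent.Lib.Helper14.FibDepth
import Groth.Agent.Lib.Helper29.DepthSES
import Groth.Agent.Lib.Helper29.CMRing

set_option autoImplicit false
universe u
open QGor

namespace Groth.Agent.S18707

namespace S18707P
open TensorProduct IsLocalRing Groth.Agent.Lib.Helper14.FibDepth

variable {A B : Type u} [CommRing A] [CommRing B] [IsNoetherianRing A] [IsNoetherianRing B]
  [Algebra A B]

/-- fibrewise depth bound gives `depth_J`. -/
theorem le_idealDepth_of_fib (J : Ideal B) (E : Type u) [AddCommGroup E] [Module B E] [Module A E]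
    [IsScalarTower A B E] [Module.Finite B E] [Module.Flat A E] (n : ℕ∞)
    (h : ∀ q : PrimeSpectrum B, J ≤ q.asIdeal →
      n ≤ LocCoh.idealDepth (q.asIdeal.map (algebraMap B (EGA4.FibLocRing A B q.asIdeal)))
        (EGA4.FibLocMod A B q.asIdeal E)) :
    n ≤ LocCoh.idealDepth J E := by
  rw [Groth.Agent.Lib.Helper29.CMRing.idealDepth_eq_iInf_depth_localization]
  refine le_iInf₂ fun q hq => ?_
  rw [depth_loc_eq (A := A) E q.asIdeal]
  exact (h q hq).trans le_add_self

theorem main (A B : Type u) [CommRing A] [CommRing B]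
    [IsNoetherianRing A] [IsNoetherianRing B] [Algebra A B] (J : Ideal B)
    (F E0 E1 G : Type u) [AddCommGroup F] [Module B F] [Module.Finite B F]
    [AddCommGroup E0] [Module B E0] [Module A E0] [IsScalarTower A B E0] [Module.Finite B E0] [Module.Flat A E0]
    [AddCommGroup E1] [Module B E1] [Module A E1] [IsScalarTower A B E1] [Module.Finite B E1] [Module.Flat A E1]
    [AddCommGroup G] [Module B G] [Module A G] [IsScalarTower A B G] [Module.Finite B G]
    (f : F →ₗ[B] E0) (u : E0 →ₗ[B] E1) (v : E1 →ₗ[B] G)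
    (hf : Function.Injective f) (hfu : Function.Exact f u) (huv : Function.Exact u v) (hv : Function.Surjective v)
    (hGU : ∀ q : PrimeSpectrum B, ¬ J ≤ q.asIdeal → FlatCA.FlatAt A q.asIdeal G)
    (h0 : ∀ q : PrimeSpectrum B, J ≤ q.asIdeal →
      2 ≤ LocCoh.idealDepth (q.asIdeal.map (algebraMap B (EGA4.FibLocRing A B q.asIdeal))) (EGA4.FibLocMod A B q.asIdeal E0))
    (h1 : ∀ q : PrimeSpectrum B, J ≤ q.asIdeal →
      1 ≤ LocCoh.idealDepth (q.asIdeal.map (algebraMap B (EGA4.FibLocRing A B q.asIdeal))) (EGA4.FibLocMod A B q.asIdeal E1)) :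
    2 ≤ LocCoh.idealDepth J F := by
  have hE0 : 2 ≤ LocCoh.idealDepth J E0 := le_idealDepth_of_fib J E0 2 h0
  have hE1 : 1 ≤ LocCoh.idealDepth J E1 := le_idealDepth_of_fib J E1 1 h1
  have hIm : 1 ≤ LocCoh.idealDepth J (LinearMap.range u) := by
    have := Groth.Agent.Lib.Helper29.DepthSES.min_le_idealDepth_left J (LinearMap.range u) E1
      (E1 ⧸ LinearMap.range u) (LinearMap.range u).subtype (LinearMap.range u).mkQ
      (Submodule.injective_subtype _) (Submodule.mkQ_surjective _)
      (LinearMap.exact_subtype_mkQ _)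
    exact (le_min hE1 le_add_self).trans this
  have := Groth.Agent.Lib.Helper29.DepthSES.min_le_idealDepth_left J F E0 (LinearMap.range u) f
    u.rangeRestrict hf u.surjective_rangeRestrict (by
      intro x
      rw [← hfu x]
      constructor
      · intro h
        have := congrArg Subtype.val h
        simpa using this
      · intro h
        exact Subtype.ext (by simpa using h))
  refine (le_min hE0 ?_).trans this
  have : (2 : ℕ∞) = 1 + 1 := by norm_num
  rw [this]
  exact add_le_add_left hIm 1

end S18707P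


/-- Affine form. Let A → B be a homomorphism of Noetherian rings, J an ideal of B, and 0 → F → E⁰ → E¹ →
G → 0 an exact sequence of finite B-modules such that E⁰ and E¹ are flat over A and G_q is flat over
A for every prime q not containing J. Assume that for every prime q ⊇ J with contraction p to A the
fibre stalk (E⁰)_q / p(E⁰)_q has depth ≥ 2 and (E¹)_q / p(E¹)_q has depth ≥ 1 over the fibre local
ring B_q / pB_q. Then depth_J F ≥ 2 (the restriction map from F to its sections off V(J) is
bijective). -/
theorem result (A B : Type u) [CommRing A] [CommRing B]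
    [IsNoetherianRing A] [IsNoetherianRing B] [Algebra A B] (J : Ideal B)
    (F E0 E1 G : Type u) [AddCommGroup F] [Module B F] [Module.Finite B F]
    [AddCommGroup E0] [Module B E0] [Module A E0] [IsScalarTower A B E0] [Module.Finite B E0] [Module.Flat A E0]
    [AddCommGroup E1] [Module B E1] [Module A E1] [IsScalarTower A B E1] [Module.Finite B E1] [Module.Flat A E1]
    [AddCommGroup G] [Module B G] [Module A G] [IsScalarTower A B G] [Module.Finite B G]
    (f : F →ₗ[B] E0) (u : E0 →ₗ[B] E1) (v : E1 →ₗ[B] G)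
    (hf : Function.Injective f) (hfu : Function.Exact f u) (huv : Function.Exact u v) (hv : Function.Surjective v)
    (hGU : ∀ q : PrimeSpectrum B, ¬ J ≤ q.asIdeal → FlatCA.FlatAt A q.asIdeal G)
    (h0 : ∀ q : PrimeSpectrum B, J ≤ q.asIdeal →
      2 ≤ LocCoh.idealDepth (q.asIdeal.map (algebraMap B (EGA4.FibLocRing A B q.asIdeal))) (EGA4.FibLocMod A B q.asIdeal E0))
    (h1 : ∀ q : PrimeSpectrum B, J ≤ q.asIdeal →
      1 ≤ LocCoh.idealDepth (q.asIdeal.map (algebraMap B (EGA4.FibLocRing A B q.asIdeal))) (EGA4.FibLocMod A B q.asIdeal E1)) :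
    2 ≤ LocCoh.idealDepth J F :=
  S18707P.main A B J F E0 E1 G f u v hf hfu huv hv hGU h0 h1

end Groth.Agent.S18707
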