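import Groth.Statements.S18725
import Groth.Agent.Lib.Helper14.FibTransport
import Groth.Agent.S18708
import Groth.Agent.S0387

set_option autoImplicit false
universe u
open QGor

namespace Groth.Agent.S18725

namespace S18725P
open TensorProduct IsLocalRing Groth.Agent.Lib.Helper14.LocTensor Groth.Agent.Lib.Helper14.FibDepth
open Groth.Agent.Lib.Helper14.FibTransport Groth.Agent.Lib.Helper14.SkAtMod
set_option linter.style.haveILetI false

variable {A B : Type u} [CommRing A] [CommRing B] [IsNoetherianRing A] [IsNoetherianRing B]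
  [Algebra A B]

attribute [local instance low] Localization.AtPrime.algebraOfLiesOver modLoc

section DoubleLoc
variable (G : Type u) [AddCommGroup G] [Module B G] [Module A G] [IsScalarTower A B G]
  (P : Ideal A) [P.IsPrime] (q : Ideal B) [q.IsPrime] [q.LiesOver P]
  (Q' : Ideal (Localization.AtPrime q)) [Q'.IsPrime]

omit [IsNoetherianRing A] [IsNoetherianRing B] in
/-- flatness at `q' = Q' ∩ B` gives flatness of the double localization over `A_P`. -/
theorem flatAt_double_loc
    (h : Module.Flat A (LocalizedModule (Q'.comap (algebraMap B (Localization.AtPrime q))).primeCompl G)) :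
    FlatCA.FlatAt (Localization.AtPrime P) Q' (LocalizedModule q.primeCompl G) := by
  change Module.Flat (Localization.AtPrime P)
    (LocalizedModule Q'.primeCompl (LocalizedModule q.primeCompl G))
  haveI hloc : IsLocalization.AtPrime (Localization.AtPrime Q')
      (Q'.comap (algebraMap B (Localization.AtPrime q))) :=
    IsLocalization.isLocalization_isLocalization_atPrime_isLocalization q.primeCompl _ Q'
  have hb1 : IsBaseChange (Localization.AtPrime q) (LocalizedModule.mkLinearMap q.primeCompl G) :=
    (isLocalizedModule_iff_isBaseChange q.primeCompl _ _).1 inferInstance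
  have hb2 : IsBaseChange (Localization.AtPrime Q')
      (LocalizedModule.mkLinearMap Q'.primeCompl (LocalizedModule q.primeCompl G)) :=
    (isLocalizedModule_iff_isBaseChange Q'.primeCompl _ _).1 inferInstance
  have hb := hb1.comp hb2
  haveI := (isLocalizedModule_iff_isBaseChange
    (Q'.comap (algebraMap B (Localization.AtPrime q))).primeCompl (Localization.AtPrime Q') _).2 hb
  let e := IsLocalizedModule.linearEquiv (Q'.comap (algebraMap B (Localization.AtPrime q))).primeCompl
    (LocalizedModule.mkLinearMap (Q'.comap (algebraMap B (Localization.AtPrime q))).primeCompl G)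
    (((LocalizedModule.mkLinearMap Q'.primeCompl (LocalizedModule q.primeCompl G)).restrictScalars
        B) ∘ₗ (LocalizedModule.mkLinearMap q.primeCompl G))
  have h1 : Module.Flat A (LocalizedModule Q'.primeCompl (LocalizedModule q.primeCompl G)) :=
    Module.Flat.of_linearEquiv (e.restrictScalars A).symm
  exact (Module.flat_iff_of_isLocalization (Localization.AtPrime P) P.primeCompl _).2 h1

end DoubleLoc

section Pkg

variable (J : Ideal B)
    (F E0 E1 G : Type u) [AddCommGroup F] [Module B F] [Module A F] [IsScalarTower A B F] [Module.Finite B F]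
    [AddCommGroup E0] [Module B E0] [Module A E0] [IsScalarTower A B E0] [Module.Finite B E0] [Module.Flat A E0]
    [AddCommGroup E1] [Module B E1] [Module A E1] [IsScalarTower A B E1] [Module.Finite B E1] [Module.Flat A E1]
    [AddCommGroup G] [Module B G] [Module A G] [IsScalarTower A B G] [Module.Finite B G]
    (f : F →ₗ[B] E0) (u : E0 →ₗ[B] E1) (v : E1 →ₗ[B] G)
    (hf : Function.Injective f) (hfu : Function.Exact f u) (huv : Function.Exact u v) (hv : Function.Surjective v)
    (hGU : ∀ q : PrimeSpectrum B, ¬ J ≤ q.asIdeal → FlatCA.FlatAt A q.asIdeal G)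
    (h0 : ∀ q : PrimeSpectrum B, J ≤ q.asIdeal →
      2 ≤ LocCoh.idealDepth (q.asIdeal.map (algebraMap B (EGA4.FibLocRing A B q.asIdeal))) (EGA4.FibLocMod A B q.asIdeal E0))
    (h1 : ∀ q : PrimeSpectrum B, J ≤ q.asIdeal →
      1 ≤ LocCoh.idealDepth (q.asIdeal.map (algebraMap B (EGA4.FibLocRing A B q.asIdeal))) (EGA4.FibLocMod A B q.asIdeal E1))

include hf hfu huv hv hGU h0 h1

/-- the local form (S18708) at a prime `q`. -/
theorem loc_pkg (q : Ideal B) [q.IsPrime] :
    haveI : q.LiesOver (q.comap (algebraMap A B)) := ⟨rfl⟩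
    (2 ≤ LocCoh.idealDepth (J.map (algebraMap B (Localization.AtPrime q)))
        (FibM F (q.comap (algebraMap A B)) q) ↔
      Module.Flat (Localization.AtPrime (q.comap (algebraMap A B)))
        (LocalizedModule q.primeCompl G)) ∧
    (Module.Flat (Localization.AtPrime (q.comap (algebraMap A B))) (LocalizedModule q.primeCompl G) →
      Module.Flat (Localization.AtPrime (q.comap (algebraMap A B)))
        (LocalizedModule q.primeCompl F)) := by
  haveI : q.LiesOver (q.comap (algebraMap A B)) := ⟨rfl⟩
  haveI := isLocalHom_loc (q.comap (algebraMap A B)) q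
  haveI := flat_loc E0 (q.comap (algebraMap A B)) q
  haveI := flat_loc E1 (q.comap (algebraMap A B)) q
  let f' : LocalizedModule q.primeCompl F →ₗ[Localization.AtPrime q] LocalizedModule q.primeCompl E0 :=
    (IsLocalizedModule.map q.primeCompl (LocalizedModule.mkLinearMap q.primeCompl F)
      (LocalizedModule.mkLinearMap q.primeCompl E0) f).extendScalarsOfIsLocalization q.primeCompl _
  let u' : LocalizedModule q.primeCompl E0 →ₗ[Localization.AtPrime q] LocalizedModule q.primeCompl E1 :=
    (IsLocalizedModule.map q.primeCompl (LocalizedModule.mkLinearMap q.primeCompl E0)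
      (LocalizedModule.mkLinearMap q.primeCompl E1) u).extendScalarsOfIsLocalization q.primeCompl _
  let v' : LocalizedModule q.primeCompl E1 →ₗ[Localization.AtPrime q] LocalizedModule q.primeCompl G :=
    (IsLocalizedModule.map q.primeCompl (LocalizedModule.mkLinearMap q.primeCompl E1)
      (LocalizedModule.mkLinearMap q.primeCompl G) v).extendScalarsOfIsLocalization q.primeCompl _
  have hf' : Function.Injective f' := IsLocalizedModule.map_injective q.primeCompl _ _ f hf
  have hfu' : Function.Exact f' u' := IsLocalizedModule.map_exact q.primeCompl _ _ _ f u hfu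
  have huv' : Function.Exact u' v' := IsLocalizedModule.map_exact q.primeCompl _ _ _ u v huv
  have hv' : Function.Surjective v' := IsLocalizedModule.map_surjective q.primeCompl _ _ v hv
  have hGU' : ∀ Q' : PrimeSpectrum (Localization.AtPrime q),
      ¬ J.map (algebraMap B (Localization.AtPrime q)) ≤ Q'.asIdeal →
      FlatCA.FlatAt (Localization.AtPrime (q.comap (algebraMap A B))) Q'.asIdeal
        (LocalizedModule q.primeCompl G) := by
    intro Q' hQ'
    apply flatAt_double_loc G (q.comap (algebraMap A B)) q Q'.asIdeal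
    exact hGU ⟨Q'.asIdeal.comap (algebraMap B (Localization.AtPrime q)), inferInstance⟩
      (fun hle => hQ' (Ideal.map_le_iff_le_comap.2 hle))
  have h0' : 2 ≤ LocCoh.idealDepth (J.map (algebraMap B (Localization.AtPrime q)))
      (EGA4.FibMod (Localization.AtPrime (q.comap (algebraMap A B))) (Localization.AtPrime q)
        (LocalizedModule q.primeCompl E0)) :=
    (le_idealDepth_fibM_iff (A := A) E0 J q 2).2 (fun q' hq' _ hJ _ => h0 ⟨q', hq'⟩ hJ)
  have h1' : 1 ≤ LocCoh.idealDepth (J.map (algebraMap B (Localization.AtPrime q)))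
      (EGA4.FibMod (Localization.AtPrime (q.comap (algebraMap A B))) (Localization.AtPrime q)
        (LocalizedModule q.primeCompl E1)) :=
    (le_idealDepth_fibM_iff (A := A) E1 J q 1).2 (fun q' hq' _ hJ _ => h1 ⟨q', hq'⟩ hJ)
  have key := Groth.Agent.S18708.result (Localization.AtPrime (q.comap (algebraMap A B)))
    (Localization.AtPrime q) (J.map (algebraMap B (Localization.AtPrime q)))
    (LocalizedModule q.primeCompl F) (LocalizedModule q.primeCompl E0)
    (LocalizedModule q.primeCompl E1) (LocalizedModule q.primeCompl G) f' u' v' hf' hfu' huv' hv'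
    hGU' h0' h1'
  exact ⟨key.1, key.2.2⟩

end Pkg


theorem main (A B : Type u) [CommRing A] [CommRing B]
    [IsNoetherianRing A] [IsNoetherianRing B] [Algebra A B] (hft : Algebra.FiniteType A B) (J : Ideal B)
    (F E0 E1 G : Type u) [AddCommGroup F] [Module B F] [Module A F] [IsScalarTower A B F] [Module.Finite B F]
    [AddCommGroup E0] [Module B E0] [Module A E0] [IsScalarTower A B E0] [Module.Finite B E0] [Module.Flat A E0]
    [AddCommGroup E1] [Module B E1] [Module A E1] [IsScalarTower A B E1] [Module.Finite B E1] [Module.Flat A E1]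
    [AddCommGroup G] [Module B G] [Module A G] [IsScalarTower A B G] [Module.Finite B G]
    (f : F →ₗ[B] E0) (u : E0 →ₗ[B] E1) (v : E1 →ₗ[B] G)
    (hf : Function.Injective f) (hfu : Function.Exact f u) (huv : Function.Exact u v) (hv : Function.Surjective v)
    (hGU : ∀ q : PrimeSpectrum B, ¬ J ≤ q.asIdeal → FlatCA.FlatAt A q.asIdeal G)
    (h0 : ∀ q : PrimeSpectrum B, J ≤ q.asIdeal →
      2 ≤ LocCoh.idealDepth (q.asIdeal.map (algebraMap B (EGA4.FibLocRing A B q.asIdeal))) (EGA4.FibLocMod A B q.asIdeal E0))
    (h1 : ∀ q : PrimeSpectrum B, J ≤ q.asIdeal →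
      1 ≤ LocCoh.idealDepth (q.asIdeal.map (algebraMap B (EGA4.FibLocRing A B q.asIdeal))) (EGA4.FibLocMod A B q.asIdeal E1))
    (n : PrimeSpectrum B) :
    FlatCA.FlatAt A n.asIdeal G ↔
      ∃ s : B, s ∉ n.asIdeal ∧ ∀ q : PrimeSpectrum B, s ∉ q.asIdeal →
        FlatCA.FlatAt A q.asIdeal F ∧
        (J ≤ q.asIdeal →
          2 ≤ LocCoh.idealDepth (q.asIdeal.map (algebraMap B (EGA4.FibLocRing A B q.asIdeal))) (EGA4.FibLocMod A B q.asIdeal F)) := by
  haveI : Algebra.FinitePresentation A B := Algebra.FinitePresentation.of_finiteType.1 hft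
  haveI : Module.FinitePresentation B G := Module.finitePresentation_of_finite B G
  constructor
  · intro hn
    have hopen := Groth.Agent.S0387.result (R := A) (S := B) (M := G)
    have hnU : n ∈ {q : PrimeSpectrum B | Module.Flat A (LocalizedModule q.asIdeal.primeCompl G)} := hn
    obtain ⟨_, ⟨s, rfl⟩, hns, hsU⟩ :=
      PrimeSpectrum.isTopologicalBasis_basic_opens.exists_subset_of_mem_open hnU hopen
    refine ⟨s, hns, fun q hq => ?_⟩
    have hqU : Module.Flat A (LocalizedModule q.asIdeal.primeCompl G) := hsU hq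
    haveI : q.asIdeal.LiesOver (q.asIdeal.comap (algebraMap A B)) := ⟨rfl⟩
    obtain ⟨k1, k2⟩ := loc_pkg J F E0 E1 G f u v hf hfu huv hv hGU h0 h1 q.asIdeal
    have hG' : Module.Flat (Localization.AtPrime (q.asIdeal.comap (algebraMap A B)))
        (LocalizedModule q.asIdeal.primeCompl G) :=
      (Module.flat_iff_of_isLocalization (Localization.AtPrime (q.asIdeal.comap (algebraMap A B)))
        (q.asIdeal.comap (algebraMap A B)).primeCompl _).2 hqU
    refine ⟨?_, fun hJ => ?_⟩
    · exact (Module.flat_iff_of_isLocalization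
        (Localization.AtPrime (q.asIdeal.comap (algebraMap A B)))
        (q.asIdeal.comap (algebraMap A B)).primeCompl _).1 (k2 hG')
    · exact (le_idealDepth_fibM_iff (A := A) F J q.asIdeal 2).1 (k1.2 hG') q.asIdeal le_rfl hJ rfl
  · rintro ⟨s, hsn, hs⟩
    haveI : n.asIdeal.LiesOver (n.asIdeal.comap (algebraMap A B)) := ⟨rfl⟩
    obtain ⟨k1, -⟩ := loc_pkg J F E0 E1 G f u v hf hfu huv hv hGU h0 h1 n.asIdeal
    have hd : 2 ≤ LocCoh.idealDepth (J.map (algebraMap B (Localization.AtPrime n.asIdeal)))
        (FibM F (n.asIdeal.comap (algebraMap A B)) n.asIdeal) := by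
      refine (le_idealDepth_fibM_iff (A := A) F J n.asIdeal 2).2 (fun q' hq' hle hJ _ => ?_)
      exact (hs ⟨q', hq'⟩ (fun hsq => hsn (hle hsq))).2 hJ
    exact (Module.flat_iff_of_isLocalization
      (Localization.AtPrime (n.asIdeal.comap (algebraMap A B)))
      (n.asIdeal.comap (algebraMap A B)).primeCompl _).1 (k1.1 hd)

end S18725P


/-- Affine form of the equivalence (c) ⇔ (d). Let A → B be a homomorphism of finite type between
Noetherian rings, J an ideal of B and 0 → F → E⁰ → E¹ → G → 0 an exact sequence of finite B-modules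
such that E⁰, E¹ are flat over A, G_q is flat over A for every prime q not containing J, and for
every prime q ⊇ J with contraction p the fibre stalk E⁰_q/pE⁰_q has depth ≥ 2 and E¹_q/pE¹_q has
depth ≥ 1. Then for a prime n of B the following are equivalent: G is flat over A at n; there is a
basic open neighbourhood D(s) of n such that at every prime q ∈ D(s) the module F is flat over A at
q and, if q ⊇ J, the fibre stalk F_q/pF_q has depth ≥ 2 (the restriction maps of the fibres of F off
V(J) are bijective on D(s)). -/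
theorem result (A B : Type u) [CommRing A] [CommRing B]
    [IsNoetherianRing A] [IsNoetherianRing B] [Algebra A B] (hft : Algebra.FiniteType A B) (J : Ideal B)
    (F E0 E1 G : Type u) [AddCommGroup F] [Module B F] [Module A F] [IsScalarTower A B F] [Module.Finite B F]
    [AddCommGroup E0] [Module B E0] [Module A E0] [IsScalarTower A B E0] [Module.Finite B E0] [Module.Flat A E0]
    [AddCommGroup E1] [Module B E1] [Module A E1] [IsScalarTower A B E1] [Module.Finite B E1] [Module.Flat A E1]
    [AddCommGroup G] [Module B G] [Module A G] [IsScalarTower A B G] [Module.Finite B G]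
    (f : F →ₗ[B] E0) (u : E0 →ₗ[B] E1) (v : E1 →ₗ[B] G)
    (hf : Function.Injective f) (hfu : Function.Exact f u) (huv : Function.Exact u v) (hv : Function.Surjective v)
    (hGU : ∀ q : PrimeSpectrum B, ¬ J ≤ q.asIdeal → FlatCA.FlatAt A q.asIdeal G)
    (h0 : ∀ q : PrimeSpectrum B, J ≤ q.asIdeal →
      2 ≤ LocCoh.idealDepth (q.asIdeal.map (algebraMap B (EGA4.FibLocRing A B q.asIdeal))) (EGA4.FibLocMod A B q.asIdeal E0))
    (h1 : ∀ q : PrimeSpectrum B, J ≤ q.asIdeal →
      1 ≤ LocCoh.idealDepth (q.asIdeal.map (algebraMap B (EGA4.FibLocRing A B q.asIdeal))) (EGA4.FibLocMod A B q.asIdeal E1))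
    (n : PrimeSpectrum B) :
    FlatCA.FlatAt A n.asIdeal G ↔
      ∃ s : B, s ∉ n.asIdeal ∧ ∀ q : PrimeSpectrum B, s ∉ q.asIdeal →
        FlatCA.FlatAt A q.asIdeal F ∧
        (J ≤ q.asIdeal →
          2 ≤ LocCoh.idealDepth (q.asIdeal.map (algebraMap B (EGA4.FibLocRing A B q.asIdeal))) (EGA4.FibLocMod A B q.asIdeal F)) :=
  S18725P.main A B hft J F E0 E1 G f u v hf hfu huv hv hGU h0 h1 n

end Groth.Agent.S18725
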