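import Groth.Statements.S18711
import Groth.Agent.Lib.Helper14.QGorBC
import Groth.Agent.S18725
import Groth.Agent.S18700
import Groth.Agent.S18703
import Groth.Agent.Lib.Helper54.FlatStage6

set_option autoImplicit false
universe u
open QGor

namespace Groth.Agent.S18711

namespace S18711P
open TensorProduct IsLocalRing Groth.Agent.Lib.Helper14.LocTensor Groth.Agent.Lib.Helper14.FibDepth
open Groth.Agent.Lib.Helper14.FibTransport Groth.Agent.Lib.Helper14.QGorBC
set_option linter.style.haveILetI false
set_option linter.unusedSectionVars false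
attribute [local instance low] Localization.AtPrime.algebraOfLiesOver modLoc

section Refl
variable {B : Type u} [CommRing B] [IsNoetherianRing B] (J : Ideal B)

/-- a kernel of a map of finite projectives, free off `V(J)`, is reflexive when `depth_J B ≥ 2`. -/
theorem ker_refl_depth (hB : 2 ≤ LocCoh.idealDepth J B)
    (E0 E1 : Type u) [AddCommGroup E0] [Module B E0] [Module.Finite B E0] [Module.Projective B E0]
    [AddCommGroup E1] [Module B E1] [Module.Finite B E1] [Module.Projective B E1]
    (u : E0 →ₗ[B] E1) :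
    2 ≤ LocCoh.idealDepth J (LinearMap.ker u) := by
  have hB1 : 1 ≤ LocCoh.idealDepth J B := le_trans (by norm_num) hB
  have h0 : 2 ≤ LocCoh.idealDepth J E0 := by
    exact_mod_cast Groth.Agent.S18702.le_idealDepth_of_isReflexive B J E0 2 (Or.inr rfl)
      (by exact_mod_cast hB)
  have h1 : 1 ≤ LocCoh.idealDepth J E1 := by
    exact_mod_cast Groth.Agent.S18702.le_idealDepth_of_isReflexive B J E1 1 (Or.inl rfl)
      (by exact_mod_cast hB1)
  exact (Groth.Agent.S18700.result B J E0 E1 u).2 h0 h1

end Refl


section Main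

theorem depth_B (A B : Type u) [CommRing A] [CommRing B] [IsNoetherianRing A] [IsNoetherianRing B] [Algebra A B]
    [Module.Flat A B] (J : Ideal B)
    (hZ : ∀ q : PrimeSpectrum B, J ≤ q.asIdeal →
      2 ≤ LocCoh.idealDepth (q.asIdeal.map (algebraMap B (EGA4.FibLocRing A B q.asIdeal))) (EGA4.FibLocRing A B q.asIdeal)) :
    2 ≤ LocCoh.idealDepth J B :=
  Groth.Agent.Lib.Helper14.FibDepthRing.le_idealDepth_ring_of_fib (A := A) J 2 hZ

theorem flat_B' (A B : Type u) [CommRing A] [CommRing B] [Algebra A B]
    (A' B' : Type u) [CommRing A'] [CommRing B']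
    [Algebra A A'] [Algebra B B'] [Algebra A' B'] [Algebra A B'] [IsScalarTower A B B'] [IsScalarTower A A' B']
    [Algebra.IsPushout A B A' B'] [Module.Flat A B] : Module.Flat A' B' :=
  Module.Flat.isBaseChange A A' B B'
    (Algebra.IsPushout.symm (inferInstance : Algebra.IsPushout A B A' B')).out

theorem hZ' (A B : Type u) [CommRing A] [CommRing B] [IsNoetherianRing A] [IsNoetherianRing B] [Algebra A B]
    (A' B' : Type u) [CommRing A'] [CommRing B'] [IsNoetherianRing A'] [IsNoetherianRing B']
    [Algebra A A'] [Algebra B B'] [Algebra A' B'] [Algebra A B'] [IsScalarTower A B B'] [IsScalarTower A A' B']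
    [Algebra.IsPushout A B A' B'] [Module.Flat A B] (J : Ideal B)
    (hZ : ∀ q : PrimeSpectrum B, J ≤ q.asIdeal →
      2 ≤ LocCoh.idealDepth (q.asIdeal.map (algebraMap B (EGA4.FibLocRing A B q.asIdeal))) (EGA4.FibLocRing A B q.asIdeal)) :
    ∀ q' : PrimeSpectrum B', J.map (algebraMap B B') ≤ q'.asIdeal →
      2 ≤ LocCoh.idealDepth (q'.asIdeal.map (algebraMap B' (EGA4.FibLocRing A' B' q'.asIdeal)))
        (EGA4.FibLocRing A' B' q'.asIdeal) :=
  Groth.Agent.Lib.Helper14.FibBC.fib_depth_baseChange A A' J 2 hZ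

theorem depth_B' (A B : Type u) [CommRing A] [CommRing B] [IsNoetherianRing A] [IsNoetherianRing B] [Algebra A B]
    (A' B' : Type u) [CommRing A'] [CommRing B'] [IsNoetherianRing A'] [IsNoetherianRing B']
    [Algebra A A'] [Algebra B B'] [Algebra A' B'] [Algebra A B'] [IsScalarTower A B B'] [IsScalarTower A A' B']
    [Algebra.IsPushout A B A' B'] [Module.Flat A B] (J : Ideal B)
    (hZ : ∀ q : PrimeSpectrum B, J ≤ q.asIdeal →
      2 ≤ LocCoh.idealDepth (q.asIdeal.map (algebraMap B (EGA4.FibLocRing A B q.asIdeal))) (EGA4.FibLocRing A B q.asIdeal)) :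
    2 ≤ LocCoh.idealDepth (J.map (algebraMap B B')) B' := by
  haveI := flat_B' A B A' B'
  exact Groth.Agent.Lib.Helper14.FibDepthRing.le_idealDepth_ring_of_fib (A := A')
    (J.map (algebraMap B B')) 2 (hZ' A B A' B' J hZ)

theorem part1 (A B : Type u) [CommRing A] [CommRing B] [IsNoetherianRing A] [IsNoetherianRing B] [Algebra A B]
    [Module.Flat A B] (J : Ideal B)
    (hZ : ∀ q : PrimeSpectrum B, J ≤ q.asIdeal →
      2 ≤ LocCoh.idealDepth (q.asIdeal.map (algebraMap B (EGA4.FibLocRing A B q.asIdeal))) (EGA4.FibLocRing A B q.asIdeal))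
    (F E0 E1 : Type u) [AddCommGroup F] [Module B F] [Module.Finite B F]
    [AddCommGroup E0] [Module B E0] [Module.Finite B E0] [Module.Projective B E0]
    [AddCommGroup E1] [Module B E1] [Module.Finite B E1] [Module.Projective B E1]
    (f : F →ₗ[B] E0) (u : E0 →ₗ[B] E1)
    (hf : Function.Injective f) (hfu : Function.Exact f u)
    (hFU : ∀ q : PrimeSpectrum B, ¬ J ≤ q.asIdeal → Module.Free (Localization.AtPrime q.asIdeal) (LocalizedModule q.asIdeal.primeCompl F)) :
    Module.IsReflexive B F := by
  have hB := depth_B A B J hZ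
  have hB1 : 1 ≤ LocCoh.idealDepth J B := le_trans (by norm_num) hB
  have hK := ker_refl_depth J hB E0 E1 u
  let eF : F ≃ₗ[B] LinearMap.ker u :=
    (LinearEquiv.ofInjective f hf).trans (LinearEquiv.ofEq _ _ (LinearMap.exact_iff.1 hfu).symm)
  have hF : 2 ≤ LocCoh.idealDepth J F := by
    rw [Groth.Agent.Lib.Helper29.CMLib.idealDepth_congr J eF]; exact hK
  refine Groth.Agent.S18703.result B J hB1 F (fun p hp => ?_) hF
  haveI := hFU p hp
  infer_instance


theorem exact_baseChange {B : Type u} [CommRing B] (B' : Type u) [CommRing B'] [Algebra B B']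
    {E0 E1 G : Type u} [AddCommGroup E0] [Module B E0] [AddCommGroup E1] [Module B E1]
    [AddCommGroup G] [Module B G] (u : E0 →ₗ[B] E1) (v : E1 →ₗ[B] G)
    (huv : Function.Exact u v) (hv : Function.Surjective v) :
    Function.Exact (u.baseChange B') (v.baseChange B') ∧ Function.Surjective (v.baseChange B') := by
  have h1 : (⇑(u.baseChange B') : B' ⊗[B] E0 → B' ⊗[B] E1) = ⇑(u.lTensor B') := by
    rw [LinearMap.baseChange_eq_ltensor]
  have h2 : (⇑(v.baseChange B') : B' ⊗[B] E1 → B' ⊗[B] G) = ⇑(v.lTensor B') := by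
    rw [LinearMap.baseChange_eq_ltensor]
  rw [h1, h2]
  exact ⟨lTensor_exact B' huv hv, LinearMap.lTensor_surjective B' hv⟩

theorem loc_reflexive_of_exact4 {B' : Type u} [CommRing B'] (q' : Ideal B') [q'.IsPrime]
    {K M N C : Type u} [AddCommGroup K] [Module B' K] [Module.Finite B' K]
    [AddCommGroup M] [Module B' M] [Module.Projective B' M]
    [AddCommGroup N] [Module B' N] [Module.Projective B' N]
    [AddCommGroup C] [Module B' C]
    (ι : K →ₗ[B'] M) (u : M →ₗ[B'] N) (v : N →ₗ[B'] C)
    (hι : Function.Injective ι) (hιu : Function.Exact ι u)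
    (huv : Function.Exact u v) (hv : Function.Surjective v)
    (hC : Module.Free (Localization.AtPrime q') (LocalizedModule q'.primeCompl C)) :
    Module.IsReflexive (Localization.AtPrime q') (LocalizedModule q'.primeCompl K) := by
  let ιl : LocalizedModule q'.primeCompl K →ₗ[Localization.AtPrime q']
      LocalizedModule q'.primeCompl M :=
    (IsLocalizedModule.map q'.primeCompl (LocalizedModule.mkLinearMap q'.primeCompl _)
      (LocalizedModule.mkLinearMap q'.primeCompl _) ι).extendScalarsOfIsLocalization q'.primeCompl _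
  let ul : LocalizedModule q'.primeCompl M →ₗ[Localization.AtPrime q']
      LocalizedModule q'.primeCompl N :=
    (IsLocalizedModule.map q'.primeCompl (LocalizedModule.mkLinearMap q'.primeCompl _)
      (LocalizedModule.mkLinearMap q'.primeCompl _) u).extendScalarsOfIsLocalization q'.primeCompl _
  let vl : LocalizedModule q'.primeCompl N →ₗ[Localization.AtPrime q']
      LocalizedModule q'.primeCompl C :=
    (IsLocalizedModule.map q'.primeCompl (LocalizedModule.mkLinearMap q'.primeCompl _)
      (LocalizedModule.mkLinearMap q'.primeCompl _) v).extendScalarsOfIsLocalization q'.primeCompl _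
  have hιl : Function.Injective ιl :=
    IsLocalizedModule.map_injective q'.primeCompl _ _ ι hι
  have hιul : Function.Exact ιl ul :=
    IsLocalizedModule.map_exact q'.primeCompl _ _ _ ι u hιu
  have hul : Function.Exact ul vl :=
    IsLocalizedModule.map_exact q'.primeCompl _ _ _ u v huv
  have hvl : Function.Surjective vl :=
    IsLocalizedModule.map_surjective q'.primeCompl _ _ v hv
  haveI := hC
  haveI : Module.Projective (Localization.AtPrime q') (LocalizedModule q'.primeCompl K) :=
    projective_of_exact4 ιl ul vl hιl hιul hul hvl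
  infer_instance

set_option maxHeartbeats 1600000 in
theorem ker_baseChange_loc_reflexive {B : Type u} [CommRing B] (B' : Type u) [CommRing B'] [IsNoetherianRing B']
    [Algebra B B'] (J : Ideal B)
    (E0 E1 G : Type u)
    [AddCommGroup E0] [Module B E0] [Module.Finite B E0] [Module.Projective B E0]
    [AddCommGroup E1] [Module B E1] [Module.Finite B E1] [Module.Projective B E1]
    [AddCommGroup G] [Module B G] [Module.Finite B G]
    (u : E0 →ₗ[B] E1) (v : E1 →ₗ[B] G)
    (huv : Function.Exact u v) (hv : Function.Surjective v)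
    (hGU : ∀ q : PrimeSpectrum B, ¬ J ≤ q.asIdeal → Module.Free (Localization.AtPrime q.asIdeal) (LocalizedModule q.asIdeal.primeCompl G))
    (q' : Ideal B') [q'.IsPrime] (hq' : ¬ J.map (algebraMap B B') ≤ q') :
    Module.IsReflexive (Localization.AtPrime q')
      (LocalizedModule q'.primeCompl (LinearMap.ker (u.baseChange B'))) := by
  obtain ⟨huv', hv'⟩ := exact_baseChange B' u v huv hv
  have hq : ¬ J ≤ q'.comap (algebraMap B B') := fun h => hq' (Ideal.map_le_iff_le_comap.2 h)
  have hfree : Module.Free (Localization.AtPrime q') (LocalizedModule q'.primeCompl (B' ⊗[B] G)) :=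
    free_loc_baseChange (B := B) q' G (hGU ⟨q'.comap (algebraMap B B'), inferInstance⟩ hq)
  exact loc_reflexive_of_exact4 (K := LinearMap.ker (u.baseChange B')) (M := B' ⊗[B] E0)
    (N := B' ⊗[B] E1) (C := B' ⊗[B] G) q' (LinearMap.ker (u.baseChange B')).subtype (u.baseChange B')
    (v.baseChange B') (Submodule.injective_subtype _) (LinearMap.exact_subtype_ker_map _) huv' hv' hfree

theorem part2 (A B : Type u) [CommRing A] [CommRing B] [IsNoetherianRing A] [IsNoetherianRing B] [Algebra A B]
    (A' B' : Type u) [CommRing A'] [CommRing B'] [IsNoetherianRing A'] [IsNoetherianRing B']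
    [Algebra A A'] [Algebra B B'] [Algebra A' B'] [Algebra A B'] [IsScalarTower A B B'] [IsScalarTower A A' B']
    [Algebra.IsPushout A B A' B'] [Module.Flat A B] (J : Ideal B)
    (hZ : ∀ q : PrimeSpectrum B, J ≤ q.asIdeal →
      2 ≤ LocCoh.idealDepth (q.asIdeal.map (algebraMap B (EGA4.FibLocRing A B q.asIdeal))) (EGA4.FibLocRing A B q.asIdeal))
    (E0 E1 G : Type u)
    [AddCommGroup E0] [Module B E0] [Module.Finite B E0] [Module.Projective B E0]
    [AddCommGroup E1] [Module B E1] [Module.Finite B E1] [Module.Projective B E1]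
    [AddCommGroup G] [Module B G] [Module.Finite B G]
    (u : E0 →ₗ[B] E1) (v : E1 →ₗ[B] G)
    (huv : Function.Exact u v) (hv : Function.Surjective v)
    (hGU : ∀ q : PrimeSpectrum B, ¬ J ≤ q.asIdeal → Module.Free (Localization.AtPrime q.asIdeal) (LocalizedModule q.asIdeal.primeCompl G)) :
    Module.IsReflexive B' (LinearMap.ker (u.baseChange B')) ∧
    2 ≤ LocCoh.idealDepth (J.map (algebraMap B B')) (LinearMap.ker (u.baseChange B')) := by
  have hB' := depth_B' A B A' B' J hZ
  have hB1 : 1 ≤ LocCoh.idealDepth (J.map (algebraMap B B')) B' := le_trans (by norm_num) hB'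
  have hK := ker_refl_depth (J.map (algebraMap B B')) hB' (B' ⊗[B] E0) (B' ⊗[B] E1) (u.baseChange B')
  refine ⟨?_, hK⟩
  refine Groth.Agent.S18703.result B' (J.map (algebraMap B B')) hB1 _ (fun p hp => ?_) hK
  exact ker_baseChange_loc_reflexive B' J E0 E1 G u v huv hv hGU p.asIdeal hp


theorem iff_abstract (A' B' : Type u) [CommRing A'] [CommRing B'] [IsNoetherianRing A'] [IsNoetherianRing B']
    [Algebra A' B'] [Module.Flat A' B'] (J' : Ideal B')
    (hZ' : ∀ q' : PrimeSpectrum B', J' ≤ q'.asIdeal →
      2 ≤ LocCoh.idealDepth (q'.asIdeal.map (algebraMap B' (EGA4.FibLocRing A' B' q'.asIdeal)))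
        (EGA4.FibLocRing A' B' q'.asIdeal))
    (K M N C : Type u) [AddCommGroup K] [Module B' K] [Module A' K] [IsScalarTower A' B' K] [Module.Finite B' K]
    [AddCommGroup M] [Module B' M] [Module A' M] [IsScalarTower A' B' M] [Module.Finite B' M] [Module.Projective B' M]
    [AddCommGroup N] [Module B' N] [Module A' N] [IsScalarTower A' B' N] [Module.Finite B' N] [Module.Projective B' N]
    [AddCommGroup C] [Module B' C] [Module A' C] [IsScalarTower A' B' C] [Module.Finite B' C]
    (ι : K →ₗ[B'] M) (u : M →ₗ[B'] N) (v : N →ₗ[B'] C)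
    (hι : Function.Injective ι) (hιu : Function.Exact ι u)
    (huv : Function.Exact u v) (hv : Function.Surjective v)
    (hCU : ∀ q' : PrimeSpectrum B', ¬ J' ≤ q'.asIdeal →
      Module.Free (Localization.AtPrime q'.asIdeal) (LocalizedModule q'.asIdeal.primeCompl C)) :
    (∀ q' : PrimeSpectrum B', FlatCA.FlatAt A' q'.asIdeal K ∧
        2 ≤ LocCoh.idealDepth (J'.map (algebraMap B' (EGA4.FibLocRing A' B' q'.asIdeal)))
          (EGA4.FibLocMod A' B' q'.asIdeal K)) ↔ Module.Flat A' C := by
  haveI : Module.Flat A' M := Module.Flat.trans A' B' M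
  haveI : Module.Flat A' N := Module.Flat.trans A' B' N
  have hGU' : ∀ q' : PrimeSpectrum B', ¬ J' ≤ q'.asIdeal → FlatCA.FlatAt A' q'.asIdeal C := by
    intro q' hq'
    change Module.Flat A' (LocalizedModule q'.asIdeal.primeCompl C)
    haveI := hCU q' hq'
    haveI : Module.Flat A' (Localization.AtPrime q'.asIdeal) := Module.Flat.trans A' B' _
    exact Module.Flat.trans A' (Localization.AtPrime q'.asIdeal) _
  have h0' : ∀ q' : PrimeSpectrum B', J' ≤ q'.asIdeal →
      2 ≤ LocCoh.idealDepth (q'.asIdeal.map (algebraMap B' (EGA4.FibLocRing A' B' q'.asIdeal)))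
        (EGA4.FibLocMod A' B' q'.asIdeal M) := fun q' hq' => by
    exact_mod_cast le_idealDepth_fibLocMod_of_projective A' q'.asIdeal M 2 (Or.inr rfl)
      (by exact_mod_cast hZ' q' hq')
  have h1' : ∀ q' : PrimeSpectrum B', J' ≤ q'.asIdeal →
      1 ≤ LocCoh.idealDepth (q'.asIdeal.map (algebraMap B' (EGA4.FibLocRing A' B' q'.asIdeal)))
        (EGA4.FibLocMod A' B' q'.asIdeal N) := fun q' hq' => by
    have h2 : (1 : ℕ∞) ≤ LocCoh.idealDepth (q'.asIdeal.map (algebraMap B' (EGA4.FibLocRing A' B' q'.asIdeal)))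
        (EGA4.FibLocRing A' B' q'.asIdeal) := le_trans (by norm_num) (hZ' q' hq')
    exact_mod_cast le_idealDepth_fibLocMod_of_projective A' q'.asIdeal N 1 (Or.inl rfl)
      (by exact_mod_cast h2)
  have pkg := fun (q' : Ideal B') (_ : q'.IsPrime) =>
    Groth.Agent.S18725.S18725P.loc_pkg J' K M N C ι u v hι hιu huv hv hGU' h0' h1' q'
  constructor
  · intro h
    apply Groth.Agent.Lib.Helper54.FlatStage6.flat_of_forall_maximal B' C
    intro P hP
    haveI : P.IsPrime := hP.isPrime
    haveI : P.LiesOver (P.comap (algebraMap A' B')) := ⟨rfl⟩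
    have hd := (h ⟨P, inferInstance⟩).2
    rw [← fibM_idealDepth_eq (A := A') K J' P] at hd
    exact (Module.flat_iff_of_isLocalization (Localization.AtPrime (P.comap (algebraMap A' B')))
      (P.comap (algebraMap A' B')).primeCompl _).1 ((pkg P inferInstance).1.1 hd)
  · intro hflat q'
    haveI : q'.asIdeal.LiesOver (q'.asIdeal.comap (algebraMap A' B')) := ⟨rfl⟩
    have hC : Module.Flat A' (LocalizedModule q'.asIdeal.primeCompl C) :=
      Groth.Agent.Lib.Helper54.FlatOpenA.flat_of_isLocalizedModule B' q'.asIdeal.primeCompl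
        (LocalizedModule.mkLinearMap q'.asIdeal.primeCompl C)
    have hC' := (Module.flat_iff_of_isLocalization
      (Localization.AtPrime (q'.asIdeal.comap (algebraMap A' B')))
      (q'.asIdeal.comap (algebraMap A' B')).primeCompl _).2 hC
    refine ⟨?_, ?_⟩
    · exact (Module.flat_iff_of_isLocalization
        (Localization.AtPrime (q'.asIdeal.comap (algebraMap A' B')))
        (q'.asIdeal.comap (algebraMap A' B')).primeCompl _).1 ((pkg q'.asIdeal inferInstance).2 hC')
    · rw [← fibM_idealDepth_eq (A := A') K J' q'.asIdeal]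
      exact (pkg q'.asIdeal inferInstance).1.2 hC'


set_option maxHeartbeats 1600000 in
theorem part3 (A B : Type u) [CommRing A] [CommRing B] [IsNoetherianRing A] [IsNoetherianRing B] [Algebra A B]
    (A' B' : Type u) [CommRing A'] [CommRing B'] [IsNoetherianRing A'] [IsNoetherianRing B']
    [Algebra A A'] [Algebra B B'] [Algebra A' B'] [Algebra A B'] [IsScalarTower A B B'] [IsScalarTower A A' B']
    [Algebra.IsPushout A B A' B'] [Module.Flat A B] (J : Ideal B)
    (hZ : ∀ q : PrimeSpectrum B, J ≤ q.asIdeal →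
      2 ≤ LocCoh.idealDepth (q.asIdeal.map (algebraMap B (EGA4.FibLocRing A B q.asIdeal))) (EGA4.FibLocRing A B q.asIdeal))
    (E0 E1 G : Type u)
    [AddCommGroup E0] [Module B E0] [Module.Finite B E0] [Module.Projective B E0]
    [AddCommGroup E1] [Module B E1] [Module.Finite B E1] [Module.Projective B E1]
    [AddCommGroup G] [Module B G] [Module.Finite B G]
    (u : E0 →ₗ[B] E1) (v : E1 →ₗ[B] G)
    (huv : Function.Exact u v) (hv : Function.Surjective v)
    (hGU : ∀ q : PrimeSpectrum B, ¬ J ≤ q.asIdeal → Module.Free (Localization.AtPrime q.asIdeal) (LocalizedModule q.asIdeal.primeCompl G)) :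
    ((∀ q' : PrimeSpectrum B', FlatCA.FlatAt A' q'.asIdeal (LinearMap.ker (u.baseChange B')) ∧
        2 ≤ LocCoh.idealDepth ((J.map (algebraMap B B')).map (algebraMap B' (EGA4.FibLocRing A' B' q'.asIdeal)))
          (EGA4.FibLocMod A' B' q'.asIdeal (LinearMap.ker (u.baseChange B')))) ↔
      Module.Flat A' (B' ⊗[B] G)) := by
  haveI := flat_B' A B A' B'
  obtain ⟨huv', hv'⟩ := exact_baseChange B' u v huv hv
  exact iff_abstract A' B' (J.map (algebraMap B B')) (hZ' A B A' B' J hZ)
    (LinearMap.ker (u.baseChange B')) (B' ⊗[B] E0) (B' ⊗[B] E1) (B' ⊗[B] G)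
    (LinearMap.ker (u.baseChange B')).subtype (u.baseChange B') (v.baseChange B')
    (Submodule.injective_subtype _) (LinearMap.exact_subtype_ker_map _) huv' hv'
    (fun q' hq' => free_loc_baseChange (B := B) q'.asIdeal G
      (hGU ⟨q'.asIdeal.comap (algebraMap B B'), inferInstance⟩
        (fun h => hq' (Ideal.map_le_iff_le_comap.2 h))))

theorem main (A B : Type u) [CommRing A] [CommRing B] [IsNoetherianRing A] [IsNoetherianRing B] [Algebra A B]
    (A' B' : Type u) [CommRing A'] [CommRing B'] [IsNoetherianRing A'] [IsNoetherianRing B']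
    [Algebra A A'] [Algebra B B'] [Algebra A' B'] [Algebra A B'] [IsScalarTower A B B'] [IsScalarTower A A' B']
    [Algebra.IsPushout A B A' B'] [Module.Flat A B] (J : Ideal B)
    (hZ : ∀ q : PrimeSpectrum B, J ≤ q.asIdeal →
      2 ≤ LocCoh.idealDepth (q.asIdeal.map (algebraMap B (EGA4.FibLocRing A B q.asIdeal))) (EGA4.FibLocRing A B q.asIdeal))
    (F E0 E1 G : Type u) [AddCommGroup F] [Module B F] [Module.Finite B F]
    [AddCommGroup E0] [Module B E0] [Module.Finite B E0] [Module.Projective B E0]
    [AddCommGroup E1] [Module B E1] [Module.Finite B E1] [Module.Projective B E1]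
    [AddCommGroup G] [Module B G] [Module.Finite B G]
    (f : F →ₗ[B] E0) (u : E0 →ₗ[B] E1) (v : E1 →ₗ[B] G)
    (hf : Function.Injective f) (hfu : Function.Exact f u) (huv : Function.Exact u v) (hv : Function.Surjective v)
    (hFU : ∀ q : PrimeSpectrum B, ¬ J ≤ q.asIdeal → Module.Free (Localization.AtPrime q.asIdeal) (LocalizedModule q.asIdeal.primeCompl F))
    (hGU : ∀ q : PrimeSpectrum B, ¬ J ≤ q.asIdeal → Module.Free (Localization.AtPrime q.asIdeal) (LocalizedModule q.asIdeal.primeCompl G)) :
    Module.IsReflexive B F ∧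
    Module.IsReflexive B' (LinearMap.ker (u.baseChange B')) ∧
    2 ≤ LocCoh.idealDepth (J.map (algebraMap B B')) (LinearMap.ker (u.baseChange B')) ∧
    ((∀ q' : PrimeSpectrum B', FlatCA.FlatAt A' q'.asIdeal (LinearMap.ker (u.baseChange B')) ∧
        2 ≤ LocCoh.idealDepth ((J.map (algebraMap B B')).map (algebraMap B' (EGA4.FibLocRing A' B' q'.asIdeal)))
          (EGA4.FibLocMod A' B' q'.asIdeal (LinearMap.ker (u.baseChange B')))) ↔
      Module.Flat A' (B' ⊗[B] G)) := by
  obtain ⟨h2, h3⟩ := part2 A B A' B' J hZ E0 E1 G u v huv hv hGU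
  exact ⟨part1 A B J hZ F E0 E1 f u hf hfu hFU, h2, h3,
    part3 A B A' B' J hZ E0 E1 G u v huv hv hGU⟩

end Main
end S18711P


open TensorProduct in
/-- Affine form. Let A → B be a flat homomorphism of Noetherian rings, J an ideal of B such that for
every prime q ⊇ J with contraction p the fibre local ring B_q/pB_q has depth ≥ 2, A → A′ a
homomorphism of Noetherian rings and B′ = A′ ⊗_A B the (Noetherian) pushout. Let 0 → F → E⁰ → E¹ → G
→ 0 be an exact sequence of finite B-modules with E⁰, E¹ projective and F_q, G_q free for every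
prime q not containing J. Then F is reflexive; the kernel K′ of B′ ⊗_B E⁰ → B′ ⊗_B E¹ is a reflexive
B′-module with depth_{JB′} K′ ≥ 2 (so it is the module of sections of the pull-back of F off
V(JB′)); and K′ is flat over A′ with depth ≥ 2 along JB′ on every fibre stalk K′_{q′}/p′K′_{q′} if
and only if B′ ⊗_B G is flat over A′. (The published statement phrases the last left-hand condition
as the relative S₂ condition of K′ over A′; the two agree when the fibres of Spec B′ → Spec A′
satisfy S₂ off V(JB′), and without that the relative S₂ form fails already for A = A′ a field, J =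
B, F = E⁰ = B not S₂ and E¹ = G = 0, so the fibrewise-depth form, which is what the proof
establishes, is stated.) -/
theorem result (A B : Type u) [CommRing A] [CommRing B] [IsNoetherianRing A] [IsNoetherianRing B] [Algebra A B]
    (A' B' : Type u) [CommRing A'] [CommRing B'] [IsNoetherianRing A'] [IsNoetherianRing B']
    [Algebra A A'] [Algebra B B'] [Algebra A' B'] [Algebra A B'] [IsScalarTower A B B'] [IsScalarTower A A' B']
    [Algebra.IsPushout A B A' B'] [Module.Flat A B] (J : Ideal B)
    (hZ : ∀ q : PrimeSpectrum B, J ≤ q.asIdeal →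
      2 ≤ LocCoh.idealDepth (q.asIdeal.map (algebraMap B (EGA4.FibLocRing A B q.asIdeal))) (EGA4.FibLocRing A B q.asIdeal))
    (F E0 E1 G : Type u) [AddCommGroup F] [Module B F] [Module.Finite B F]
    [AddCommGroup E0] [Module B E0] [Module.Finite B E0] [Module.Projective B E0]
    [AddCommGroup E1] [Module B E1] [Module.Finite B E1] [Module.Projective B E1]
    [AddCommGroup G] [Module B G] [Module.Finite B G]
    (f : F →ₗ[B] E0) (u : E0 →ₗ[B] E1) (v : E1 →ₗ[B] G)
    (hf : Function.Injective f) (hfu : Function.Exact f u) (huv : Function.Exact u v) (hv : Function.Surjective v)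
    (hFU : ∀ q : PrimeSpectrum B, ¬ J ≤ q.asIdeal → Module.Free (Localization.AtPrime q.asIdeal) (LocalizedModule q.asIdeal.primeCompl F))
    (hGU : ∀ q : PrimeSpectrum B, ¬ J ≤ q.asIdeal → Module.Free (Localization.AtPrime q.asIdeal) (LocalizedModule q.asIdeal.primeCompl G)) :
    Module.IsReflexive B F ∧
    Module.IsReflexive B' (LinearMap.ker (u.baseChange B')) ∧
    2 ≤ LocCoh.idealDepth (J.map (algebraMap B B')) (LinearMap.ker (u.baseChange B')) ∧
    ((∀ q' : PrimeSpectrum B', FlatCA.FlatAt A' q'.asIdeal (LinearMap.ker (u.baseChange B')) ∧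
        2 ≤ LocCoh.idealDepth ((J.map (algebraMap B B')).map (algebraMap B' (EGA4.FibLocRing A' B' q'.asIdeal)))
          (EGA4.FibLocMod A' B' q'.asIdeal (LinearMap.ker (u.baseChange B')))) ↔
      Module.Flat A' (B' ⊗[B] G)) :=
  S18711P.main A B A' B' J hZ F E0 E1 G f u v hf hfu huv hv hFU hGU

end Groth.Agent.S18711
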