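import Groth.Statements.S18718
import Groth.Agent.S18711
import Groth.Agent.S18539
import Groth.Agent.Lib.Helper12.FlatExact
import Groth.Agent.S18709
import Groth.Agent.S18707

set_option autoImplicit false
universe u
open QGor

namespace Groth.Agent.S18718

namespace S18718P
open TensorProduct IsLocalRing RingTheory.Sequence
open Groth.Agent.Lib.Helper93.ReflexiveDepth
set_option linter.style.haveILetI false
set_option linter.unusedSectionVars false

section D1
variable {B : Type u} [CommRing B] (J : Ideal B)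

theorem pair_of_weaklyRegular {N : Type*} [AddCommGroup N] [Module B N] {x y : B}
    (h : IsWeaklyRegular N [x, y]) :
    IsSMulRegular N x ∧ ∀ g g' : N, y • g = x • g' → ∃ g'' : N, g = x • g'' := by
  rw [isWeaklyRegular_cons_iff] at h
  obtain ⟨hx, hrs'⟩ := h
  rw [isWeaklyRegular_cons_iff] at hrs'
  obtain ⟨hy, -⟩ := hrs'
  refine ⟨hx, ?_⟩
  intro g g' hgg'
  have h1 : y • (Submodule.Quotient.mk g : QuotSMulTop x N) = 0 := by
    rw [← Submodule.Quotient.mk_smul, hgg', Submodule.Quotient.mk_eq_zero]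
    exact Submodule.smul_mem_pointwise_smul g' x ⊤ Submodule.mem_top
  have h2 : (Submodule.Quotient.mk g : QuotSMulTop x N) = 0 := by
    apply hy
    simpa using h1
  rw [Submodule.Quotient.mk_eq_zero] at h2
  obtain ⟨g'', -, hg''⟩ := (Submodule.mem_smul_pointwise_iff_exists _ _ _).mp h2
  exact ⟨g'', hg''.symm⟩

/-- a regular pair in `J` on `B` when `depth_J B ≥ 2` and `J ≠ ⊤`. -/
theorem exists_pair (hB : 2 ≤ LocCoh.idealDepth J B) (hJ : J ≠ ⊤) :
    ∃ x ∈ J, ∃ y ∈ J, IsWeaklyRegular B [x, y] := by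
  have hIA : J • (⊤ : Submodule B B) ≠ ⊤ := by
    intro hI
    apply hJ
    simpa using hI
  obtain ⟨rs, hrs, hI, hlen⟩ := exists_regular_of_le_idealDepth J B 2 (by exact_mod_cast hB) hIA
  match rs, hrs, hI, hlen with
  | x :: y :: rs', hrs, hI, _ =>
    refine ⟨x, hI x (by simp), y, hI y (by simp), ?_⟩
    rw [isWeaklyRegular_cons_iff] at hrs ⊢
    refine ⟨hrs.1, ?_⟩
    have h2 := hrs.2
    rw [isWeaklyRegular_cons_iff] at h2 ⊢
    exact ⟨h2.1, IsWeaklyRegular.nil _ _⟩

/-- `depth_J Hom(N, B) ≥ 2` when `depth_J B ≥ 2`. -/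
theorem two_le_idealDepth_dual (hB : 2 ≤ LocCoh.idealDepth J B) (N : Type u) [AddCommGroup N]
    [Module B N] : 2 ≤ LocCoh.idealDepth J (Module.Dual B N) := by
  by_cases hJ : J = ⊤
  · unfold LocCoh.idealDepth
    rw [if_pos (by rw [hJ, Submodule.top_smul])]
    exact le_top
  obtain ⟨x, hx, y, hy, hreg⟩ := exists_pair J hB hJ
  have h1 : IsWeaklyRegular (Module.Dual B N) [x, y] := Groth.Agent.S18539.result B N B x y hreg
  have h3 := Groth.Agent.Lib.Helper29.DepthLib.length_le_idealDepth J (Module.Dual B N) h1 (by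
    intro r hr
    simp only [List.mem_cons, List.not_mem_nil, or_false] at hr
    rcases hr with rfl | rfl
    · exact hx
    · exact hy)
  simpa using h3

end D1


section Q
variable {B : Type u} [CommRing B] [IsNoetherianRing B] (J : Ideal B)

/-- a finite module supported in `V(J)` is killed by a power of `J`. -/
theorem exists_pow_le_annihilator (T : Type u) [AddCommGroup T] [Module B T] [Module.Finite B T]
    (hT : ∀ p : PrimeSpectrum B, ¬ J ≤ p.asIdeal → ∀ m : T, ∃ r ∉ p.asIdeal, r • m = 0) :
    ∃ n : ℕ, J ^ n ≤ Module.annihilator B T := by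
  apply Ideal.exists_pow_le_of_le_radical_of_fg _ (IsNoetherian.noetherian J)
  rw [Ideal.radical_eq_sInf]
  refine le_sInf fun p hp => ?_
  by_contra hJp
  haveI := hp.2
  have h1 : (⟨p, hp.2⟩ : PrimeSpectrum B) ∉ Module.support B T :=
    Module.notMem_support_iff'.2 (hT ⟨p, hp.2⟩ hJp)
  exact h1 (Module.mem_support_iff_of_finite.2 hp.1)

variable (F : Type u) [AddCommGroup F] [Module B F] [Module.Finite B F]

/-- quasi-inverses of the evaluation map, up to products of elements of a power of `J`. -/
theorem exists_quasi_inverse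
    (hFU : ∀ q : PrimeSpectrum B, ¬ J ≤ q.asIdeal → Module.Free (Localization.AtPrime q.asIdeal)
      (LocalizedModule q.asIdeal.primeCompl F)) :
    ∃ n : ℕ, ∀ a ∈ J ^ n, ∀ b ∈ J ^ n,
      ∃ ψ : Module.Dual B (Module.Dual B F) →ₗ[B] F,
        (∀ c, Module.Dual.eval B F (ψ c) = (a * b) • c) ∧ ∀ x, ψ (Module.Dual.eval B F x) = (a * b) • x := by
  classical
  have hfp : Module.FinitePresentation B F := Module.finitePresentation_of_finite B F
  have hfp' : Module.FinitePresentation B (Module.Dual B F) :=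
    Module.finitePresentation_of_finite B _
  set ev := Module.Dual.eval B F with hev
  obtain ⟨n1, hn1⟩ := exists_pow_le_annihilator J (LinearMap.ker ev) (by
    intro p hp m
    haveI := hFU p hp
    haveI : Module.IsReflexive (Localization p.asIdeal.primeCompl)
      (LocalizedModule p.asIdeal.primeCompl F) := inferInstance
    obtain ⟨t, ht, htk⟩ := exists_smul_eq_zero_of_eval_eq_zero F p.asIdeal.primeCompl m.1 m.2
    exact ⟨t, ht, Subtype.ext htk⟩)
  obtain ⟨n2, hn2⟩ := exists_pow_le_annihilator J (Module.Dual B (Module.Dual B F) ⧸ LinearMap.range ev) (by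
    intro p hp m
    haveI := hFU p hp
    haveI : Module.IsReflexive (Localization p.asIdeal.primeCompl)
      (LocalizedModule p.asIdeal.primeCompl F) := inferInstance
    obtain ⟨c, rfl⟩ := Submodule.Quotient.mk_surjective _ m
    obtain ⟨t, ht, htc⟩ := exists_smul_mem_range_eval F p.asIdeal.primeCompl c
    refine ⟨t, ht, ?_⟩
    rw [← Submodule.Quotient.mk_smul, Submodule.Quotient.mk_eq_zero]
    exact htc)
  refine ⟨n1 + n2, fun a ha b hb => ?_⟩
  have ha2 : a ∈ Module.annihilator B (Module.Dual B (Module.Dual B F) ⧸ LinearMap.range ev) :=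
    hn2 (Ideal.pow_le_pow_right (Nat.le_add_left n2 n1) ha)
  have hb1 : b ∈ Module.annihilator B (LinearMap.ker ev) :=
    hn1 (Ideal.pow_le_pow_right (Nat.le_add_right n1 n2) hb)
  have hac : ∀ c : Module.Dual B (Module.Dual B F), a • c ∈ LinearMap.range ev := by
    intro c
    have := Module.mem_annihilator.1 ha2 (Submodule.Quotient.mk c)
    rwa [← Submodule.Quotient.mk_smul, Submodule.Quotient.mk_eq_zero] at this
  have hbk : ∀ k : F, ev k = 0 → b • k = 0 := by
    intro k hk
    have := Module.mem_annihilator.1 hb1 (⟨k, hk⟩ : LinearMap.ker ev)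
    exact congrArg Subtype.val this
  let μ : Module.Dual B (Module.Dual B F) →ₗ[B] LinearMap.range ev :=
    (a • LinearMap.id).codRestrict (LinearMap.range ev) (fun c => by simpa using hac c)
  let mb : (F ⧸ LinearMap.ker ev) →ₗ[B] F :=
    (LinearMap.ker ev).liftQ (b • LinearMap.id) (fun k hk => by
      rw [LinearMap.mem_ker, LinearMap.smul_apply, LinearMap.id_apply]
      exact hbk k hk)
  let ψ : Module.Dual B (Module.Dual B F) →ₗ[B] F :=
    mb ∘ₗ ev.quotKerEquivRange.symm.toLinearMap ∘ₗ μ
  have hψ : ∀ c (f : F), ev f = a • c → ψ c = b • f := by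
    intro c f hf
    have h1 : μ c = ⟨ev f, LinearMap.mem_range_self ev f⟩ := by
      apply Subtype.ext
      simp only [μ, LinearMap.codRestrict_apply, LinearMap.smul_apply, LinearMap.id_apply]
      exact hf.symm
    simp only [ψ, LinearMap.comp_apply, LinearEquiv.coe_coe]
    rw [h1, LinearMap.quotKerEquivRange_symm_apply_image ev f (LinearMap.mem_range_self ev f)]
    simp only [mb, Submodule.mkQ_apply, Submodule.liftQ_apply, LinearMap.smul_apply,
      LinearMap.id_apply]
  refine ⟨ψ, fun c => ?_, fun x => ?_⟩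
  · obtain ⟨f, hf⟩ := hac c
    rw [hψ c f hf, map_smul, hf, smul_smul, mul_comm]
  · rw [hψ (ev x) (a • x) (by rw [map_smul]), smul_smul, mul_comm]

end Q


section Bij
variable {B B' : Type u} [CommRing B] [CommRing B'] [Algebra B B']
  {M1 M2 : Type u} [AddCommGroup M1] [Module B M1] [AddCommGroup M2] [Module B M2]

theorem baseChange_comp_apply (φ : M1 →ₗ[B] M2) (ψ : M2 →ₗ[B] M1) (r : B)
    (h : ∀ c, φ (ψ c) = r • c) (z : B' ⊗[B] M2) :
    φ.baseChange B' (ψ.baseChange B' z) = algebraMap B B' r • z := by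
  induction z with
  | zero => simp
  | add x y hx hy => rw [map_add, map_add, hx, hy, smul_add]
  | tmul s m =>
    rw [LinearMap.baseChange_tmul, LinearMap.baseChange_tmul, h, TensorProduct.smul_tmul',
      smul_eq_mul, ← Algebra.smul_def, TensorProduct.smul_tmul]

theorem ddual_comp_apply {N1 N2 : Type u} [AddCommGroup N1] [Module B' N1] [AddCommGroup N2]
    [Module B' N2] (φ : N1 →ₗ[B'] N2) (ψ : N2 →ₗ[B'] N1) (c : B')
    (h : ∀ z, φ (ψ z) = c • z) (η : Module.Dual B' (Module.Dual B' N2)) :
    φ.dualMap.dualMap (ψ.dualMap.dualMap η) = c • η := by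
  refine LinearMap.ext fun ℓ => ?_
  rw [LinearMap.dualMap_apply, LinearMap.dualMap_apply, LinearMap.smul_apply, ← map_smul]
  congr 1
  refine LinearMap.ext fun z => ?_
  rw [LinearMap.dualMap_apply, LinearMap.dualMap_apply, h, map_smul, LinearMap.smul_apply]

theorem bijective_ddual_baseChange (J : Ideal B) (φ : M1 →ₗ[B] M2) (n : ℕ)
    (hq : ∀ a ∈ J ^ n, ∀ b ∈ J ^ n, ∃ ψ : M2 →ₗ[B] M1,
      (∀ c, φ (ψ c) = (a * b) • c) ∧ ∀ x, ψ (φ x) = (a * b) • x)
    (hB' : 2 ≤ LocCoh.idealDepth (J.map (algebraMap B B')) B') :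
    Function.Bijective ((φ.baseChange B').dualMap.dualMap) := by
  set Φ := (φ.baseChange B').dualMap.dualMap with hΦ
  set J' := J.map (algebraMap B B') with hJ'
  -- the two annihilators contain `J'^(n+n)`
  have hle : J' ^ (n + n) ≤ Module.annihilator B' (LinearMap.ker Φ) ⊓
      Module.annihilator B' (Module.Dual B' (Module.Dual B' (B' ⊗[B] M2)) ⧸ LinearMap.range Φ) := by
    rw [pow_add, hJ', ← Ideal.map_pow, ← Ideal.map_mul, Ideal.map_le_iff_le_comap, Ideal.mul_le]
    intro a ha b hb
    obtain ⟨ψ, h1, h2⟩ := hq a ha b hb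
    rw [Ideal.mem_comap]
    have k1 := ddual_comp_apply (φ.baseChange B') (ψ.baseChange B') (algebraMap B B' (a * b))
      (baseChange_comp_apply φ ψ (a * b) h1)
    have k2 := ddual_comp_apply (ψ.baseChange B') (φ.baseChange B') (algebraMap B B' (a * b))
      (baseChange_comp_apply ψ φ (a * b) h2)
    refine ⟨?_, ?_⟩
    · rw [SetLike.mem_coe, Module.mem_annihilator]
      rintro ⟨ξ, hξ⟩
      apply Subtype.ext
      rw [LinearMap.mem_ker] at hξ
      change algebraMap B B' (a * b) • ξ = 0
      rw [← k2 ξ]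
      change (ψ.baseChange B').dualMap.dualMap (Φ ξ) = 0
      rw [hξ, map_zero]
    · rw [SetLike.mem_coe, Module.mem_annihilator]
      intro m
      obtain ⟨η, rfl⟩ := Submodule.Quotient.mk_surjective _ m
      rw [← Submodule.Quotient.mk_smul, Submodule.Quotient.mk_eq_zero, ← k1 η]
      exact ⟨_, rfl⟩
  have hker : ∀ t ∈ J' ^ (n + n), ∀ ξ, Φ ξ = 0 → t • ξ = 0 := by
    intro t ht ξ hξ
    have := Module.mem_annihilator.1 (hle ht).1 (⟨ξ, hξ⟩ : LinearMap.ker Φ)
    exact congrArg Subtype.val this
  have hcoker : ∀ t ∈ J' ^ (n + n), ∀ η, t • η ∈ LinearMap.range Φ := by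
    intro t ht η
    have := Module.mem_annihilator.1 (hle ht).2 (Submodule.Quotient.mk η)
    rwa [← Submodule.Quotient.mk_smul, Submodule.Quotient.mk_eq_zero] at this
  by_cases hJtop : J' = ⊤
  · have h1 : (1 : B') ∈ J' ^ (n + n) := by rw [hJtop, Ideal.top_pow]; trivial
    refine ⟨?_, fun η => ?_⟩
    · rw [injective_iff_map_eq_zero]
      intro ξ hξ
      simpa using hker 1 h1 ξ hξ
    · simpa using hcoker 1 h1 η
  · obtain ⟨x, hx, y, hy, hreg⟩ := exists_pair J' hB' hJtop
    obtain ⟨hxG, hyG⟩ := pair_of_weaklyRegular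
      (Groth.Agent.S18539.result B' (Module.Dual B' (B' ⊗[B] M1)) B' x y hreg)
    obtain ⟨hxH, -⟩ := pair_of_weaklyRegular
      (Groth.Agent.S18539.result B' (Module.Dual B' (B' ⊗[B] M2)) B' x y hreg)
    have hinj : Function.Injective Φ := by
      rw [injective_iff_map_eq_zero]
      intro ξ hξ
      apply (hxG.pow (n + n))
      simp only [smul_zero]
      exact hker _ (Ideal.pow_mem_pow hx _) ξ hξ
    refine ⟨hinj, fun η => ?_⟩
    exact mem_range_of_pow_smul_mem J' Φ hinj x y x hx hy hx hxG hyG hxH (n + n) η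
      (fun t ht => hcoker t ht η)

end Bij


section Nat
variable {A B A' B' : Type u} [CommRing A] [CommRing B] [CommRing A'] [CommRing B']
  [Algebra A B] [Algebra A A'] [Algebra B B'] [Algebra A' B'] [Algebra A B']
  [IsScalarTower A B B'] [IsScalarTower A A' B'] [Algebra.IsPushout A A' B B']
  {M N P : Type u} [AddCommGroup M] [Module B M] [Module A M] [IsScalarTower A B M]
  [AddCommGroup N] [Module B N] [Module A N] [IsScalarTower A B N]
  [AddCommGroup P] [Module B P] [Module A P] [IsScalarTower A B P]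

theorem cancel_nat (g : M →ₗ[B] N) (w : A' ⊗[A] M) :
    g.baseChange B' ((Algebra.IsPushout.cancelBaseChange A A' B B' M).symm w) =
      (Algebra.IsPushout.cancelBaseChange A A' B B' N).symm ((g.restrictScalars A).lTensor A' w) := by
  induction w with
  | zero => simp
  | add x y hx hy => rw [map_add, map_add, hx, hy, map_add, map_add]
  | tmul a' m =>
    rw [Algebra.IsPushout.cancelBaseChange_symm_tmul, LinearMap.baseChange_tmul,
      LinearMap.lTensor_tmul, Algebra.IsPushout.cancelBaseChange_symm_tmul]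
    rfl

theorem baseChange_injective_of_lTensor (g : M →ₗ[B] N)
    (h : Function.Injective ((g.restrictScalars A).lTensor A')) :
    Function.Injective (g.baseChange B') := by
  intro z1 z2 hz
  obtain ⟨w1, rfl⟩ := (Algebra.IsPushout.cancelBaseChange A A' B B' M).symm.surjective z1
  obtain ⟨w2, rfl⟩ := (Algebra.IsPushout.cancelBaseChange A A' B B' M).symm.surjective z2
  rw [cancel_nat, cancel_nat] at hz
  rw [h ((Algebra.IsPushout.cancelBaseChange A A' B B' N).symm.injective hz)]

theorem baseChange_exact_of_lTensor (g : M →ₗ[B] N) (k : N →ₗ[B] P)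
    (h : Function.Exact ((g.restrictScalars A).lTensor A') ((k.restrictScalars A).lTensor A')) :
    Function.Exact (g.baseChange B') (k.baseChange B') := by
  intro z
  obtain ⟨w, rfl⟩ := (Algebra.IsPushout.cancelBaseChange A A' B B' N).symm.surjective z
  rw [cancel_nat, LinearEquiv.map_eq_zero_iff, h w]
  constructor
  · rintro ⟨w0, rfl⟩
    exact ⟨(Algebra.IsPushout.cancelBaseChange A A' B B' M).symm w0, cancel_nat g w0⟩
  · rintro ⟨z0, hz0⟩
    obtain ⟨w0, rfl⟩ := (Algebra.IsPushout.cancelBaseChange A A' B B' M).symm.surjective z0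
    rw [cancel_nat] at hz0
    exact ⟨w0, (Algebra.IsPushout.cancelBaseChange A A' B B' N).symm.injective hz0⟩

end Nat

section FlatSeq
variable {A : Type u} [CommRing A] {F E0 E1 G : Type u} [AddCommGroup F] [Module A F]
  [AddCommGroup E0] [Module A E0] [AddCommGroup E1] [Module A E1] [AddCommGroup G] [Module A G]

/-- `0 → F → E0 → E1 → G → 0` exact with `E1`, `G` flat stays left exact after tensoring. -/
theorem lTensor_left_exact [Module.Flat A E1] [Module.Flat A G]
    (g : F →ₗ[A] E0) (h : E0 →ₗ[A] E1) (π : E1 →ₗ[A] G)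
    (hg : Function.Injective g) (hgh : Function.Exact g h) (hhπ : Function.Exact h π)
    (hπ : Function.Surjective π) (X : Type u) [AddCommGroup X] [Module A X] :
    Function.Injective (g.lTensor X) ∧ Function.Exact (g.lTensor X) (h.lTensor X) := by
  let I := LinearMap.range h
  have hIπ : Function.Exact I.subtype π := by
    intro y
    rw [hhπ y]
    constructor
    · rintro ⟨x, rfl⟩
      exact ⟨⟨h x, ⟨x, rfl⟩⟩, rfl⟩
    · rintro ⟨⟨y', x, rfl⟩, rfl⟩
      exact ⟨x, rfl⟩
  have h1 : Function.Injective (I.subtype.lTensor X) :=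
    LinearMap.lTensor_injective_of_exact_of_flat π hπ I.subtype (Submodule.injective_subtype I) hIπ X
  haveI : Module.Flat A I :=
    Groth.Agent.Lib.Helper12.flat_of_exact_left I.subtype π (Submodule.injective_subtype I) hπ hIπ
  let ĥ : E0 →ₗ[A] I := h.rangeRestrict
  have hĥ : Function.Surjective ĥ := LinearMap.surjective_rangeRestrict h
  have hgĥ : Function.Exact g ĥ := by
    intro x
    rw [← hgh x]
    constructor
    · intro hx
      exact congrArg Subtype.val hx
    · intro hx
      exact Subtype.ext hx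
  have h2 : Function.Injective (g.lTensor X) :=
    LinearMap.lTensor_injective_of_exact_of_flat ĥ hĥ g hg hgĥ X
  have h3 : Function.Exact (g.lTensor X) (ĥ.lTensor X) := lTensor_exact X hgĥ hĥ
  have h4 : h.lTensor X = (I.subtype.lTensor X) ∘ₗ (ĥ.lTensor X) := by
    rw [← LinearMap.lTensor_comp]
    rfl
  refine ⟨h2, fun w => ?_⟩
  rw [← h3 w, h4, LinearMap.comp_apply]
  constructor
  · intro hw
    apply h1
    rw [hw, map_zero]
  · intro hw
    rw [hw, map_zero]

end FlatSeq


section Main
open Groth.Agent.Lib.Helper14.LocTensor Groth.Agent.Lib.Helper14.FibDepth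
open Groth.Agent.Lib.Helper14.FibTransport Groth.Agent.Lib.Helper14.QGorBC
attribute [local instance low] Localization.AtPrime.algebraOfLiesOver modLoc

set_option maxHeartbeats 1600000 in
theorem part3 (A B : Type u) [CommRing A] [CommRing B] [IsNoetherianRing A] [IsNoetherianRing B] [Algebra A B]
    (A' B' : Type u) [CommRing A'] [CommRing B'] [IsNoetherianRing A'] [IsNoetherianRing B']
    [Algebra A A'] [Algebra B B'] [Algebra A' B'] [Algebra A B'] [IsScalarTower A B B'] [IsScalarTower A A' B']
    [Algebra.IsPushout A B A' B'] [Module.Flat A B] (J : Ideal B)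
    (hZ : ∀ q : PrimeSpectrum B, J ≤ q.asIdeal →
      2 ≤ LocCoh.idealDepth (q.asIdeal.map (algebraMap B (EGA4.FibLocRing A B q.asIdeal))) (EGA4.FibLocRing A B q.asIdeal))
    (F : Type u) [AddCommGroup F] [Module B F] [Module A F] [IsScalarTower A B F] [Module.Finite B F]
    (hFU : ∀ q : PrimeSpectrum B, ¬ J ≤ q.asIdeal → Module.Free (Localization.AtPrime q.asIdeal) (LocalizedModule q.asIdeal.primeCompl F))
    (hflat : Module.Flat A F)
    (hfib : ∀ q : PrimeSpectrum B, J ≤ q.asIdeal →
        2 ≤ LocCoh.idealDepth (q.asIdeal.map (algebraMap B (EGA4.FibLocRing A B q.asIdeal))) (EGA4.FibLocMod A B q.asIdeal F)) :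
    Module.IsReflexive B F ∧ Module.IsReflexive B' (B' ⊗[B] F) := by
  have hB := Groth.Agent.S18711.S18711P.depth_B A B J hZ
  have hB1 : 1 ≤ LocCoh.idealDepth J B := le_trans (by norm_num) hB
  have hF : 2 ≤ LocCoh.idealDepth J F :=
    Groth.Agent.S18707.S18707P.le_idealDepth_of_fib J F 2 hfib
  have hrefl : Module.IsReflexive B F := by
    refine Groth.Agent.S18703.result B J hB1 F (fun p hp => ?_) hF
    haveI := hFU p hp
    infer_instance
  refine ⟨hrefl, ?_⟩
  haveI := hrefl
  obtain ⟨n, m, g, h, hg, hgh, hGU⟩ := Groth.Agent.S18709.result B J F hFU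
  -- the cokernel is flat over `A`
  have hGflat : Module.Flat A ((Fin m → B) ⧸ LinearMap.range h) := by
    refine (Groth.Agent.S18711.S18711P.iff_abstract A B J hZ F (Fin n → B) (Fin m → B)
      ((Fin m → B) ⧸ LinearMap.range h) g h (LinearMap.range h).mkQ hg hgh
      (LinearMap.exact_map_mkQ_range h) (Submodule.mkQ_surjective _) hGU).1 (fun q => ⟨?_, ?_⟩)
    · change Module.Flat A (LocalizedModule q.asIdeal.primeCompl F)
      exact Groth.Agent.Lib.Helper54.FlatOpenA.flat_of_isLocalizedModule B q.asIdeal.primeCompl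
        (LocalizedModule.mkLinearMap q.asIdeal.primeCompl F)
    · haveI : q.asIdeal.LiesOver (q.asIdeal.comap (algebraMap A B)) := ⟨rfl⟩
      rw [← fibM_idealDepth_eq (A := A) F J q.asIdeal]
      exact (le_idealDepth_fibM_iff (A := A) F J q.asIdeal 2).2
        (fun q1 hq1 _ hJ _ => hfib ⟨q1, hq1⟩ hJ)
  -- the base-changed kernel is reflexive
  have hK := (Groth.Agent.S18711.S18711P.part2 A B A' B' J hZ (Fin n → B) (Fin m → B)
    ((Fin m → B) ⧸ LinearMap.range h) h (LinearMap.range h).mkQ
    (LinearMap.exact_map_mkQ_range h) (Submodule.mkQ_surjective _) hGU).1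
  -- identify `B' ⊗ F` with the kernel
  haveI : Algebra.IsPushout A A' B B' := Algebra.IsPushout.symm inferInstance
  haveI : Module.Flat A (Fin m → B) := Module.Flat.trans A B _
  haveI := hGflat
  obtain ⟨k1, k2⟩ := lTensor_left_exact (g.restrictScalars A) (h.restrictScalars A)
    ((LinearMap.range h).mkQ.restrictScalars A) hg hgh (LinearMap.exact_map_mkQ_range h)
    (Submodule.mkQ_surjective _) A'
  have hinj : Function.Injective (g.baseChange B') := baseChange_injective_of_lTensor (A := A) (A' := A') g k1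
  have hex : Function.Exact (g.baseChange B') (h.baseChange B') :=
    baseChange_exact_of_lTensor (A := A) (A' := A') g h k2
  let e : (B' ⊗[B] F) ≃ₗ[B'] LinearMap.ker (h.baseChange B') :=
    (LinearEquiv.ofInjective (g.baseChange B') hinj).trans
      (LinearEquiv.ofEq _ _ (LinearMap.exact_iff.1 hex).symm)
  haveI := hK
  exact Module.equiv e.symm


theorem main (A B : Type u) [CommRing A] [CommRing B] [IsNoetherianRing A] [IsNoetherianRing B] [Algebra A B]
    (A' B' : Type u) [CommRing A'] [CommRing B'] [IsNoetherianRing A'] [IsNoetherianRing B']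
    [Algebra A A'] [Algebra B B'] [Algebra A' B'] [Algebra A B'] [IsScalarTower A B B'] [IsScalarTower A A' B']
    [Algebra.IsPushout A B A' B'] [Module.Flat A B] (J : Ideal B)
    (hZ : ∀ q : PrimeSpectrum B, J ≤ q.asIdeal →
      2 ≤ LocCoh.idealDepth (q.asIdeal.map (algebraMap B (EGA4.FibLocRing A B q.asIdeal))) (EGA4.FibLocRing A B q.asIdeal))
    (F : Type u) [AddCommGroup F] [Module B F] [Module A F] [IsScalarTower A B F] [Module.Finite B F]
    (hFU : ∀ q : PrimeSpectrum B, ¬ J ≤ q.asIdeal → Module.Free (Localization.AtPrime q.asIdeal) (LocalizedModule q.asIdeal.primeCompl F)) :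
    2 ≤ LocCoh.idealDepth J (Module.Dual B (Module.Dual B F)) ∧
    Function.Bijective (((Module.Dual.eval B F).baseChange B').dualMap.dualMap) ∧
    (Module.Flat A F →
      (∀ q : PrimeSpectrum B, J ≤ q.asIdeal →
        2 ≤ LocCoh.idealDepth (q.asIdeal.map (algebraMap B (EGA4.FibLocRing A B q.asIdeal))) (EGA4.FibLocMod A B q.asIdeal F)) →
      Module.IsReflexive B F ∧ Module.IsReflexive B' (B' ⊗[B] F)) := by
  refine ⟨?_, ?_, fun hflat hfib => part3 A B A' B' J hZ F hFU hflat hfib⟩
  · exact two_le_idealDepth_dual J (Groth.Agent.S18711.S18711P.depth_B A B J hZ) _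
  · obtain ⟨n, hn⟩ := exists_quasi_inverse J F hFU
    exact bijective_ddual_baseChange J (Module.Dual.eval B F) n hn
      (Groth.Agent.S18711.S18711P.depth_B' A B A' B' J hZ)

end Main

end S18718P


open TensorProduct in
/-- Affine form. Let A → B be a flat homomorphism of Noetherian rings, J an ideal of B such that the
fibre local ring B_q/pB_q has depth ≥ 2 at every prime q ⊇ J (p its contraction), A → A′ a
homomorphism of Noetherian rings with Noetherian pushout B′ = A′ ⊗_A B, and F a finite B-module with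
F_q free for every prime q not containing J. Then depth_J (F^∨∨) ≥ 2 (the double dual is the module
of sections of F off V(J)); the natural map (B′ ⊗_B F)^∨∨ → (B′ ⊗_B F^∨∨)^∨∨ obtained by dualising
twice the base change of F → F^∨∨ is bijective; and if moreover F is flat over A and the fibre
stalks F_q/pF_q have depth ≥ 2 at all primes q ⊇ J, then F and B′ ⊗_B F are reflexive. -/
theorem result (A B : Type u) [CommRing A] [CommRing B] [IsNoetherianRing A] [IsNoetherianRing B] [Algebra A B]
    (A' B' : Type u) [CommRing A'] [CommRing B'] [IsNoetherianRing A'] [IsNoetherianRing B']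
    [Algebra A A'] [Algebra B B'] [Algebra A' B'] [Algebra A B'] [IsScalarTower A B B'] [IsScalarTower A A' B']
    [Algebra.IsPushout A B A' B'] [Module.Flat A B] (J : Ideal B)
    (hZ : ∀ q : PrimeSpectrum B, J ≤ q.asIdeal →
      2 ≤ LocCoh.idealDepth (q.asIdeal.map (algebraMap B (EGA4.FibLocRing A B q.asIdeal))) (EGA4.FibLocRing A B q.asIdeal))
    (F : Type u) [AddCommGroup F] [Module B F] [Module A F] [IsScalarTower A B F] [Module.Finite B F]
    (hFU : ∀ q : PrimeSpectrum B, ¬ J ≤ q.asIdeal → Module.Free (Localization.AtPrime q.asIdeal) (LocalizedModule q.asIdeal.primeCompl F)) :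
    2 ≤ LocCoh.idealDepth J (Module.Dual B (Module.Dual B F)) ∧
    Function.Bijective (((Module.Dual.eval B F).baseChange B').dualMap.dualMap) ∧
    (Module.Flat A F →
      (∀ q : PrimeSpectrum B, J ≤ q.asIdeal →
        2 ≤ LocCoh.idealDepth (q.asIdeal.map (algebraMap B (EGA4.FibLocRing A B q.asIdeal))) (EGA4.FibLocMod A B q.asIdeal F)) →
      Module.IsReflexive B F ∧ Module.IsReflexive B' (B' ⊗[B] F)) :=
  S18718P.main A B A' B' J hZ F hFU

end Groth.Agent.S18718
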