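import Groth.Statements.S6452
import Mathlib
import Groth.Agent.Lib.Helper33.ChiRegular
import Groth.Agent.Lib.Helper33.VarDim
import Groth.Agent.Lib.Helper67.FibLoc
import Groth.Agent.S16235
import Groth.Agent.Lib.Helper62.SmoothStalk

set_option autoImplicit false
universe u
open CategoryTheory AlgebraicGeometry
attribute [local instance] HasDerivedCategory.standard
open IntMult

namespace Groth.Agent.S6452

/-- Suppose the ideal of V in O_{X,ξ} is generated by a regular sequence g₁, …, g_c and the local ring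
O_{W,ξ} is Cohen–Macaulay. Then e(X, V·W, Z) = length_{O_{X,ξ}}(O_{W,ξ}/(g₁, …, g_c)O_{W,ξ}), i.e.
the length of O_{X,ξ}/(I_{W,ξ} + I_{V,ξ}). Here X is a nonsingular variety over an algebraically
closed field K (smooth, separated, quasi-compact, integral), V and W are closed subvarieties given
by quasi-coherent ideal sheaves with integral subschemes, of dimensions r and s with dim X = n,
intersecting properly, and ξ is the generic point of an irreducible component Z of V ∩ W (a point of
V ∩ W maximal under specialization); e(X, V·W, Z) = IntMult.mult is the alternating sum of lengths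
of Tor over O_{X,ξ}, and O_{W,ξ} = O_{X,ξ}/I_{W,ξ}. -/
theorem result (K : Type u) [Field K] [IsAlgClosed K] (X : Scheme.{u}) (f : X ⟶ Spec (CommRingCat.of K)) [Smooth f] [IsSeparated f] [QuasiCompact f] [IsIntegral X] (IV IW : X.IdealSheafData) [IsIntegral IV.subscheme] [IsIntegral IW.subscheme] (n r s : ℕ) (hn : topologicalKrullDim X = n) (hr : topologicalKrullDim IV.support = r) (hs : topologicalKrullDim IW.support = s) (hprop : IntMult.ProperInt (IV.support : Set X) (IW.support : Set X) n r s) (ξ : X) (hξV : ξ ∈ IV.support) (hξW : ξ ∈ IW.support) (hmax : ∀ ξ' : X, ξ' ∈ IV.support → ξ' ∈ IW.support → ξ' ⤳ ξ → ξ' = ξ) (c : ℕ) (g : Fin c → ↑(X.presheaf.stalk ξ)) (hg : IntMult.stalkIdeal IV ξ = Ideal.span (Set.range g)) (hreg : RingTheory.Sequence.IsRegular (↑(X.presheaf.stalk ξ)) (List.ofFn g)) (hW : LocCoh.IsCohenMacaulayLocalRing (↑(X.presheaf.stalk ξ) ⧸ IntMult.stalkIdeal IW ξ)) : (IntMult.mult IV IW ξ : ℤ) = (Module.length (X.presheaf.stalk ξ) (↑(X.presheaf.stalk ξ) ⧸ (IntMult.stalkIdeal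 IW ξ ⊔ IntMult.stalkIdeal IV ξ))).toNat := by
  classical
  have hspV := Groth.Agent.Lib.Helper91.IntegralSub.genericPoint_specializes_of_mem_support IV hξV
  have hspW := Groth.Agent.Lib.Helper91.IntegralSub.genericPoint_specializes_of_mem_support IW hξW
  have hIV : IntMult.stalkIdeal IV ξ = Groth.Agent.Lib.Helper91.GenPrime.primeOf hspV :=
    Groth.Agent.Lib.Helper91.StalkIdeal.stalkIdeal_eq_primeOf IV hξV
  have hJ : IntMult.stalkIdeal IW ξ = Groth.Agent.Lib.Helper91.GenPrime.primeOf hspW :=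
    Groth.Agent.Lib.Helper91.StalkIdeal.stalkIdeal_eq_primeOf IW hξW
  haveI hJp : (IntMult.stalkIdeal IW ξ).IsPrime := by rw [hJ]; infer_instance
  haveI hIVp : (IntMult.stalkIdeal IV ξ).IsPrime := by rw [hIV]; infer_instance
  haveI : LocallyOfFiniteType f := inferInstance
  -- transcendence degrees
  have hnX : Groth.Agent.Lib.Helper21.FieldDim.td f (genericPoint X) = n := by
    have h1 := Groth.Agent.Lib.Helper21.FieldDim.dim_eq_td_genericPoint f
    rw [hn] at h1
    exact_mod_cast h1.symm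
  have hrV : Groth.Agent.Lib.Helper21.FieldDim.td f (IV.subschemeι (genericPoint IV.subscheme)) = r := by
    have h1 := Groth.Agent.Lib.Helper21.FieldDim.dim_eq_td_of_isGenericPoint f
      (Groth.Agent.Lib.Helper33.VarDim.isGenericPoint_support IV)
    have hr' : topologicalKrullDim ↥(IV.support : Set X) = r := hr
    rw [hr'] at h1
    exact_mod_cast h1.symm
  have hsW : Groth.Agent.Lib.Helper21.FieldDim.td f (IW.subschemeι (genericPoint IW.subscheme)) = s := by
    have h1 := Groth.Agent.Lib.Helper21.FieldDim.dim_eq_td_of_isGenericPoint f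
      (Groth.Agent.Lib.Helper33.VarDim.isGenericPoint_support IW)
    have hs' : topologicalKrullDim ↥(IW.support : Set X) = s := hs
    rw [hs'] at h1
    exact_mod_cast h1.symm
  obtain ⟨hn1, hdim⟩ := hprop ⟨ξ, hξV, hξW⟩
  have hz : Groth.Agent.Lib.Helper21.FieldDim.td f ξ ≤ r + s - n := by
    have h1 := Groth.Agent.Lib.Helper21.FieldDim.dim_closure_singleton f ξ
    have hsub : closure ({ξ} : Set X) ⊆ (IV.support : Set X) ∩ IW.support :=
      closure_minimal (Set.singleton_subset_iff.mpr ⟨hξV, hξW⟩)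
        (IV.support.isClosed.inter IW.support.isClosed)
    have h2 : topologicalKrullDim ↥(closure ({ξ} : Set X)) ≤
        topologicalKrullDim ↥((IV.support : Set X) ∩ IW.support) :=
      (Topology.IsEmbedding.inclusion hsub).isInducing.topologicalKrullDim_le
    rw [h1] at h2
    exact_mod_cast h2.trans hdim
  haveI hregA : IsRegularLocalRing (X.presheaf.stalk ξ) :=
    Groth.Agent.Lib.Helper62.SmoothStalk.isRegularLocalRing_stalk f ξ
  -- c + r = n
  have hc : c + r = n := by
    obtain ⟨c', hc'1, hc'2⟩ := Groth.Agent.Lib.Helper33.VarDim.exists_height_primeOf f hspV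
    have hne : Ideal.span (Set.range g) ≠ ⊤ := by rw [← hg]; exact hIVp.ne_top
    have h1 := Groth.Agent.S16235.result (X.presheaf.stalk ξ) c g hreg.toIsWeaklyRegular hne
    rw [← hg, hIV, hc'1] at h1
    have : c' = c := by exact_mod_cast h1
    subst this
    rw [hrV, hnX] at hc'2
    exact hc'2
  -- dim B
  obtain ⟨d, hd1, hd2⟩ := Groth.Agent.Lib.Helper33.VarDim.exists_dim_quot_primeOf f hspW
  rw [← hJ] at hd1
  rw [hsW] at hd2
  have hcd : c ≤ d := by omega
  have hprime : ∀ Q : Ideal (X.presheaf.stalk ξ), Q.IsPrime → IntMult.stalkIdeal IW ξ ≤ Q →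
      IntMult.stalkIdeal IV ξ ≤ Q → Q = IsLocalRing.maximalIdeal _ := by
    intro Q hQ hWQ hVQ
    obtain ⟨ζ, h, rfl⟩ := Groth.Agent.Lib.Helper91.GenPrime.exists_specializes_primeOf_eq ξ Q
    have hζW := Groth.Agent.Lib.Helper33.VarDim.mem_support_of_stalkIdeal_le_primeOf IW h hWQ
    have hζV := Groth.Agent.Lib.Helper33.VarDim.mem_support_of_stalkIdeal_le_primeOf IV h hVQ
    have hζ := hmax ζ hζV hζW h
    subst hζ
    exact Groth.Agent.Lib.Helper33.VarDim.primeOf_refl _ h
  -- regularity on B = A/J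
  have hMreg : RingTheory.Sequence.IsWeaklyRegular
      (X.presheaf.stalk ξ ⧸ IntMult.stalkIdeal IW ξ) (List.ofFn g) := by
    haveI := hW
    have hJm : IntMult.stalkIdeal IW ξ ≤ IsLocalRing.maximalIdeal (X.presheaf.stalk ξ) :=
      IsLocalRing.le_maximalIdeal hJp.ne_top
    have hloc : IsLocalHom (Ideal.Quotient.mk (IntMult.stalkIdeal IW ξ)) :=
      isLocalHom_of_le_jacobson_bot _ (by
        rw [IsLocalRing.jacobson_eq_maximalIdeal ⊥ bot_ne_top]; exact hJm)
    set xs : List (X.presheaf.stalk ξ ⧸ IntMult.stalkIdeal IW ξ) :=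
      (List.ofFn g).map (algebraMap (X.presheaf.stalk ξ) (X.presheaf.stalk ξ ⧸ IntMult.stalkIdeal IW ξ))
      with hxsdef
    have hxs : ∀ x ∈ xs, x ∈ IsLocalRing.maximalIdeal (X.presheaf.stalk ξ ⧸ IntMult.stalkIdeal IW ξ) := by
      intro x hx
      obtain ⟨a, ha, rfl⟩ := List.mem_map.mp hx
      obtain ⟨i, rfl⟩ := List.mem_ofFn.mp ha
      have hgi : g i ∈ IsLocalRing.maximalIdeal (X.presheaf.stalk ξ) :=
        (IsLocalRing.le_maximalIdeal hIVp.ne_top) (hg ▸ Ideal.subset_span ⟨i, rfl⟩)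
      rw [IsLocalRing.mem_maximalIdeal, mem_nonunits_iff] at hgi ⊢
      exact fun hu => hgi (hloc.map_nonunit _ hu)
    obtain ⟨hiff, hle⟩ := Groth.Agent.Lib.Helper67.FibLoc.isRegular_iff_of_isCM
      (X.presheaf.stalk ξ ⧸ IntMult.stalkIdeal IW ξ) xs hxs
    have hlen : xs.length = c := by simp [xs]
    have hdim0 : ringKrullDim ((X.presheaf.stalk ξ ⧸ IntMult.stalkIdeal IW ξ) ⧸ Ideal.ofList xs) ≤ 0 := by
      rw [show (0 : WithBot ℕ∞) = ((0 : ℕ) : WithBot ℕ∞) from rfl, ← Ring.krullDimLE_iff,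
        Ring.krullDimLE_zero_iff]
      intro P hP
      let π : X.presheaf.stalk ξ →+* ((X.presheaf.stalk ξ ⧸ IntMult.stalkIdeal IW ξ) ⧸ Ideal.ofList xs) :=
        (Ideal.Quotient.mk _).comp (Ideal.Quotient.mk (IntMult.stalkIdeal IW ξ))
      have hπ : Function.Surjective π :=
        Ideal.Quotient.mk_surjective.comp Ideal.Quotient.mk_surjective
      have hQ : (P.comap π).IsPrime := hP.comap π
      have hWQ : IntMult.stalkIdeal IW ξ ≤ P.comap π := by
        intro a ha
        rw [Ideal.mem_comap]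
        have : π a = 0 := by
          change Ideal.Quotient.mk _ (Ideal.Quotient.mk (IntMult.stalkIdeal IW ξ) a) = 0
          rw [Ideal.Quotient.eq_zero_iff_mem.mpr ha, map_zero]
        rw [this]; exact P.zero_mem
      have hVQ : IntMult.stalkIdeal IV ξ ≤ P.comap π := by
        rw [hg, Ideal.span_le]
        rintro _ ⟨i, rfl⟩
        rw [SetLike.mem_coe, Ideal.mem_comap]
        have : π (g i) = 0 := by
          change Ideal.Quotient.mk _ (Ideal.Quotient.mk (IntMult.stalkIdeal IW ξ) (g i)) = 0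
          rw [Ideal.Quotient.eq_zero_iff_mem]
          apply Ideal.subset_span
          exact List.mem_map.mpr ⟨g i, List.mem_ofFn.mpr ⟨i, rfl⟩, rfl⟩
        rw [this]; exact P.zero_mem
      have hQm := hprime _ hQ hWQ hVQ
      have hP' : P = (IsLocalRing.maximalIdeal (X.presheaf.stalk ξ)).map π := by
        rw [← hQm, Ideal.map_comap_of_surjective π hπ]
      rcases Ideal.map_eq_top_or_isMaximal_of_surjective π hπ
        (IsLocalRing.maximalIdeal.isMaximal (X.presheaf.stalk ξ)) with h | h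
      · exact absurd (hP'.trans h) hP.ne_top
      · rw [hP']; exact h
    have heq : ringKrullDim ((X.presheaf.stalk ξ ⧸ IntMult.stalkIdeal IW ξ) ⧸ Ideal.ofList xs) +
        (xs.length : ℕ) = ringKrullDim (X.presheaf.stalk ξ ⧸ IntMult.stalkIdeal IW ξ) := by
      apply le_antisymm
      · rw [hlen, hd1]
        calc ringKrullDim ((X.presheaf.stalk ξ ⧸ IntMult.stalkIdeal IW ξ) ⧸ Ideal.ofList xs) +
              ((c : ℕ) : WithBot ℕ∞) ≤ (0 : WithBot ℕ∞) + ((c : ℕ) : WithBot ℕ∞) := by gcongr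
          _ = ((c : ℕ) : WithBot ℕ∞) := zero_add _
          _ ≤ ((d : ℕ) : WithBot ℕ∞) := by exact_mod_cast hcd
      · exact hle
    have hR := (hiff.mpr heq).toIsWeaklyRegular
    exact (RingTheory.Sequence.isWeaklyRegular_map_algebraMap_iff
      (X.presheaf.stalk ξ ⧸ IntMult.stalkIdeal IW ξ)
      (X.presheaf.stalk ξ ⧸ IntMult.stalkIdeal IW ξ) (List.ofFn g)).mp hR
  have hof : Ideal.ofList (List.ofFn g) = Ideal.span (Set.range g) := by
    unfold Ideal.ofList
    congr 1
    ext a
    simp [List.mem_ofFn]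
  have key : ∀ I : Ideal (X.presheaf.stalk ξ), I = Ideal.ofList (List.ofFn g) →
      IntMult.chi (X.presheaf.stalk ξ) (X.presheaf.stalk ξ ⧸ IntMult.stalkIdeal IW ξ)
        (X.presheaf.stalk ξ ⧸ I) =
      (Module.length (X.presheaf.stalk ξ)
        (X.presheaf.stalk ξ ⧸ (IntMult.stalkIdeal IW ξ ⊔ I))).toNat := by
    rintro _ rfl
    exact Groth.Agent.Lib.Helper33.ChiRegular.chi_of_regular_both _ _ hreg.toIsWeaklyRegular hMreg
  exact key _ (hg.trans hof.symm)

end Groth.Agent.S6452
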