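import Groth.Statements.S1872
import Mathlib
import Groth.Agent.S6452
import Groth.Agent.Lib.Helper33.CMTor

set_option autoImplicit false
universe u
open CategoryTheory AlgebraicGeometry
attribute [local instance] HasDerivedCategory.standard
open IntMult

namespace Groth.Agent.S1872

/-- First statement; the cycle-level consequence V·W = [V ∩ W] is not stated: when both local rings
O_{V,ξ} and O_{W,ξ} are Cohen–Macaulay, the intersection multiplicity e(X, V·W, Z) is the length
over O_{X,ξ} of the local ring at ξ of the scheme-theoretic intersection V ∩ W. Here X is a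
nonsingular variety over an algebraically closed field K (smooth, separated, of finite type,
integral), V and W are closed subvarieties given by quasi-coherent ideal sheaves with integral
subschemes, of dimensions r and s with dim X = n, intersecting properly, and ξ is the generic point
of an irreducible component Z of V ∩ W; e(X, V·W, Z) is the alternating sum of lengths of Tor over
O_{X,ξ}. -/
theorem result (K : Type u) [Field K] [IsAlgClosed K] (X : Scheme.{u}) (f : X ⟶ Spec (CommRingCat.of K)) [Smooth f] [IsSeparated f] [QuasiCompact f] [IsIntegral X] (IV IW : X.IdealSheafData) [IsIntegral IV.subscheme] [IsIntegral IW.subscheme] (n r s : ℕ) (hn : topologicalKrullDim X = n) (hr : topologicalKrullDim IV.support = r) (hs : topologicalKrullDim IW.support = s) (hprop : IntMult.ProperInt (IV.support : Set X) (IW.support : Set X) n r s) (ξ : X) (hξV : ξ ∈ IV.support) (hξW : ξ ∈ IW.support) (hmax : ∀ ξ' : X, ξ' ∈ IV.support → ξ' ∈ IW.support → ξ' ⤳ ξ → ξ' = ξ) (hV : LocCoh.IsCohenMacaulayLocalRing (↑(X.presheaf.stalk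 ξ) ⧸ IntMult.stalkIdeal IV ξ)) (hW : LocCoh.IsCohenMacaulayLocalRing (↑(X.presheaf.stalk ξ) ⧸ IntMult.stalkIdeal IW ξ)) : (IntMult.mult IV IW ξ : ℤ) = (Module.length (X.presheaf.stalk ξ) (↑(X.presheaf.stalk ξ) ⧸ (IntMult.stalkIdeal IV ξ ⊔ IntMult.stalkIdeal IW ξ))).toNat := by
  classical
  have hspV := Groth.Agent.Lib.Helper91.IntegralSub.genericPoint_specializes_of_mem_support IV hξV
  have hspW := Groth.Agent.Lib.Helper91.IntegralSub.genericPoint_specializes_of_mem_support IW hξW
  have hIV : IntMult.stalkIdeal IV ξ = Groth.Agent.Lib.Helper91.GenPrime.primeOf hspV :=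
    Groth.Agent.Lib.Helper91.StalkIdeal.stalkIdeal_eq_primeOf IV hξV
  have hJ : IntMult.stalkIdeal IW ξ = Groth.Agent.Lib.Helper91.GenPrime.primeOf hspW :=
    Groth.Agent.Lib.Helper91.StalkIdeal.stalkIdeal_eq_primeOf IW hξW
  haveI hJp : (IntMult.stalkIdeal IW ξ).IsPrime := by rw [hJ]; infer_instance
  haveI hIVp : (IntMult.stalkIdeal IV ξ).IsPrime := by rw [hIV]; infer_instance
  haveI : LocallyOfFiniteType f := inferInstance
  -- transcendence degrees
  have hnX : Groth.Agent.Lib.Helper21.FieldDim.td f (genericPoint X) = n := by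
    have h1 := Groth.Agent.Lib.Helper21.FieldDim.dim_eq_td_genericPoint f
    rw [hn] at h1
    exact_mod_cast h1.symm
  have hrV : Groth.Agent.Lib.Helper21.FieldDim.td f (IV.subschemeι (genericPoint IV.subscheme)) = r := by
    have h1 := Groth.Agent.Lib.Helper21.FieldDim.dim_eq_td_of_isGenericPoint f
      (Groth.Agent.Lib.Helper33.VarDim.isGenericPoint_support IV)
    have hr' : topologicalKrullDim ↥(IV.support : Set X) = r := hr
    rw [hr'] at h1
    exact_mod_cast h1.symm
  have hsW : Groth.Agent.Lib.Helper21.FieldDim.td f (IW.subschemeι (genericPoint IW.subscheme)) = s := by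
    have h1 := Groth.Agent.Lib.Helper21.FieldDim.dim_eq_td_of_isGenericPoint f
      (Groth.Agent.Lib.Helper33.VarDim.isGenericPoint_support IW)
    have hs' : topologicalKrullDim ↥(IW.support : Set X) = s := hs
    rw [hs'] at h1
    exact_mod_cast h1.symm
  obtain ⟨hn1, hdim⟩ := hprop ⟨ξ, hξV, hξW⟩
  have hz : Groth.Agent.Lib.Helper21.FieldDim.td f ξ ≤ r + s - n := by
    have h1 := Groth.Agent.Lib.Helper21.FieldDim.dim_closure_singleton f ξ
    have hsub : closure ({ξ} : Set X) ⊆ (IV.support : Set X) ∩ IW.support :=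
      closure_minimal (Set.singleton_subset_iff.mpr ⟨hξV, hξW⟩)
        (IV.support.isClosed.inter IW.support.isClosed)
    have h2 : topologicalKrullDim ↥(closure ({ξ} : Set X)) ≤
        topologicalKrullDim ↥((IV.support : Set X) ∩ IW.support) :=
      (Topology.IsEmbedding.inclusion hsub).isInducing.topologicalKrullDim_le
    rw [h1] at h2
    exact_mod_cast h2.trans hdim
  haveI hregA : IsRegularLocalRing (X.presheaf.stalk ξ) :=
    Groth.Agent.Lib.Helper62.SmoothStalk.isRegularLocalRing_stalk f ξ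
  -- dimensions
  obtain ⟨a, ha1, ha2⟩ := Groth.Agent.Lib.Helper33.VarDim.exists_dim_quot_primeOf f hspV
  rw [← hIV] at ha1
  rw [hrV] at ha2
  obtain ⟨b, hb1, hb2⟩ := Groth.Agent.Lib.Helper33.VarDim.exists_dim_quot_primeOf f hspW
  rw [← hJ] at hb1
  rw [hsW] at hb2
  obtain ⟨D, hD1, hD2⟩ := Groth.Agent.Lib.Helper33.VarDim.exists_height_primeOf f
    (specializes_refl ξ)
  rw [Groth.Agent.Lib.Helper33.VarDim.primeOf_refl] at hD1
  rw [hnX] at hD2
  have hD : ringKrullDim (X.presheaf.stalk ξ) = ((D : ℕ) : WithBot ℕ∞) := by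
    rw [← IsLocalRing.maximalIdeal_height_eq_ringKrullDim, hD1]
    rfl
  have hab : D ≤ b + a := by omega
  have hprime : ∀ Q : Ideal (X.presheaf.stalk ξ), Q.IsPrime → IntMult.stalkIdeal IW ξ ≤ Q →
      IntMult.stalkIdeal IV ξ ≤ Q → Q = IsLocalRing.maximalIdeal _ := by
    intro Q hQ hWQ hVQ
    obtain ⟨ζ, h, rfl⟩ := Groth.Agent.Lib.Helper91.GenPrime.exists_specializes_primeOf_eq ξ Q
    have hζW := Groth.Agent.Lib.Helper33.VarDim.mem_support_of_stalkIdeal_le_primeOf IW h hWQ
    have hζV := Groth.Agent.Lib.Helper33.VarDim.mem_support_of_stalkIdeal_le_primeOf IV h hVQ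
    have hζ := hmax ζ hζV hζW h
    subst hζ
    exact Groth.Agent.Lib.Helper33.VarDim.primeOf_refl _ h
  have hchi := Groth.Agent.Lib.Helper33.CMTor.chi_of_cm D hD (IntMult.stalkIdeal IW ξ)
    (IntMult.stalkIdeal IV ξ) hW hV b a hb1 ha1 hab hprime
  have hlen : Module.length (X.presheaf.stalk ξ)
      (X.presheaf.stalk ξ ⧸ (IntMult.stalkIdeal IW ξ ⊔ IntMult.stalkIdeal IV ξ)) =
      Module.length (X.presheaf.stalk ξ)
      (X.presheaf.stalk ξ ⧸ (IntMult.stalkIdeal IV ξ ⊔ IntMult.stalkIdeal IW ξ)) :=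
    LinearEquiv.length_eq (Submodule.quotEquivOfEq _ _ (sup_comm _ _))
  rw [← hlen]
  exact hchi

end Groth.Agent.S1872
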