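import Groth.Statements.S18723
import Groth.Agent.S18720
import Groth.Agent.S18703
import Groth.Agent.S18704
import Groth.Agent.S18699
import Groth.Agent.S18718

set_option autoImplicit false
universe u
open CategoryTheory
attribute [local instance] HasDerivedCategory.standard
open QGor

namespace Groth.Agent.S18723

namespace W23
open TensorProduct IsLocalRing
open Groth.Agent.Lib.Helper93.ReflexiveDepth Groth.Agent.Lib.Helper93.Reflexive
set_option linter.style.haveILetI false
set_option linter.unusedSectionVars false

section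
variable {A : Type u} [CommRing A] [IsNoetherianRing A]

/-- `k ≤ depth_J A` from `(S_k)` and `ht J ≥ k` -/
theorem le_idealDepth_self (k : ℕ) (hS : LocCoh.HasSk k A A) (J : Ideal A)
    (hJ : (k : ℕ∞) ≤ J.height) : (k : ℕ∞) ≤ LocCoh.idealDepth J A := by
  refine Groth.Agent.S18699.result k A A J hS (fun p hp _ => ?_)
  haveI := p.2
  rw [Groth.Agent.Lib.Helper49.Serre.supportDim_localizedModule_self]
  have h2 : (k : ℕ∞) ≤ p.asIdeal.height := le_trans hJ (Ideal.height_mono hp)
  exact_mod_cast WithBot.coe_le_coe.mpr h2

/-- freeness after localization, in base-change form -/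
def FreeAt (p : Ideal A) [p.IsPrime] (X : Type u) [AddCommGroup X] [Module A X] : Prop :=
  Module.Free (Localization.AtPrime p) (Localization.AtPrime p ⊗[A] X)

theorem FreeAt.congr (p : Ideal A) [p.IsPrime] {X Y : Type u} [AddCommGroup X] [Module A X]
    [AddCommGroup Y] [Module A Y] (e : X ≃ₗ[A] Y) (h : FreeAt p X) : FreeAt p Y := by
  haveI : Module.Free (Localization.AtPrime p) (Localization.AtPrime p ⊗[A] X) := h
  exact Module.Free.of_equiv (LinearEquiv.baseChange A (Localization.AtPrime p) X Y e)

theorem FreeAt.self (p : Ideal A) [p.IsPrime] : FreeAt p A :=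
  Module.Free.of_equiv (TensorProduct.AlgebraTensorModule.rid A (Localization.AtPrime p)
    (Localization.AtPrime p)).symm

theorem FreeAt.tensor (p : Ideal A) [p.IsPrime] {X Y : Type u} [AddCommGroup X] [Module A X]
    [AddCommGroup Y] [Module A Y] (hX : FreeAt p X) (hY : FreeAt p Y) : FreeAt p (X ⊗[A] Y) := by
  haveI : Module.Free (Localization.AtPrime p) (Localization.AtPrime p ⊗[A] X) := hX
  haveI : Module.Free (Localization.AtPrime p) (Localization.AtPrime p ⊗[A] Y) := hY
  exact Module.Free.of_equiv
    (TensorProduct.AlgebraTensorModule.distribBaseChange A (Localization.AtPrime p) X Y).symm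

theorem freeAt_of_localized (p : Ideal A) [p.IsPrime] (X : Type u) [AddCommGroup X] [Module A X]
    (h : Module.Free (Localization.AtPrime p) (LocalizedModule p.primeCompl X)) : FreeAt p X := by
  haveI := h
  have hb : IsBaseChange (Localization.AtPrime p) (LocalizedModule.mkLinearMap p.primeCompl X) :=
    (isLocalizedModule_iff_isBaseChange p.primeCompl (Localization.AtPrime p) _).1 inferInstance
  exact Module.Free.of_equiv hb.equiv.symm

theorem localized_free_of_freeAt (p : Ideal A) [p.IsPrime] (X : Type u) [AddCommGroup X]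
    [Module A X] (h : FreeAt p X) :
    Module.Free (Localization.AtPrime p) (LocalizedModule p.primeCompl X) := by
  haveI : Module.Free (Localization.AtPrime p) (Localization.AtPrime p ⊗[A] X) := h
  have hb : IsBaseChange (Localization.AtPrime p) (LocalizedModule.mkLinearMap p.primeCompl X) :=
    (isLocalizedModule_iff_isBaseChange p.primeCompl (Localization.AtPrime p) _).1 inferInstance
  exact Module.Free.of_equiv hb.equiv

theorem tensorPower_data (L : Type u) [AddCommGroup L] [Module A L] [Module.Finite A L] :
    ∀ m : ℕ, Module.Finite A (TensorPower A m L) ∧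
      ∀ (p : Ideal A) [p.IsPrime], FreeAt p L → FreeAt p (TensorPower A m L) := by
  intro m
  induction m with
  | zero =>
    refine ⟨Module.Finite.equiv (PiTensorProduct.isEmptyEquiv (R := A) (s := fun _ : Fin 0 => L) (Fin 0)).symm,
      fun p _ _ => FreeAt.congr p (PiTensorProduct.isEmptyEquiv (R := A) (s := fun _ : Fin 0 => L) (Fin 0)).symm
        (FreeAt.self p)⟩
  | succ m ih =>
    obtain ⟨hf, hfree⟩ := ih
    haveI := hf
    let e1 : TensorPower A 1 L ≃ₗ[A] L := PiTensorProduct.subsingletonEquiv (R := A) (s := fun _ : Fin 1 => L) (0 : Fin 1)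
    let e : (TensorPower A m L) ⊗[A] L ≃ₗ[A] TensorPower A (m + 1) L :=
      (TensorProduct.congr (LinearEquiv.refl A _) e1.symm) ≪≫ₗ TensorPower.mulEquiv
    refine ⟨Module.Finite.equiv e, fun p _ hL => FreeAt.congr p e (FreeAt.tensor p (hfree p hL) hL)⟩

end

theorem main18723 (A : Type u) [CommRing A] [IsNoetherianRing A]
    [IsLocalRing A] (ω : Dual.D A) (hω : Dual.IsDualizing A ω) (n : ℕ) (hd : ringKrullDim A = n)
    (J : Ideal A) (hJ : 2 ≤ J.height)
    (hoff : ∀ p : PrimeSpectrum A, ¬ J ≤ p.asIdeal →
      (∀ i : ℤ, i ≠ 0 → p ∉ Module.support A (Dual.HD A ω i)) ∧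
      Module.Free (Localization.AtPrime p.asIdeal) (LocalizedModule p.asIdeal.primeCompl (Dual.HD A ω 0)) ∧
      Module.finrank (Localization.AtPrime p.asIdeal) (LocalizedModule p.asIdeal.primeCompl (Dual.HD A ω 0)) = 1) :
    (LocCoh.HasSk 1 A A →
      (EGA4.IsEquidim A ∧ Dual.IsNormalized A (ω⟦(n : ℤ)⟧)) ∧
      Module.IsReflexive A (Dual.HD A ω 0) ∧ LocCoh.HasSk 2 A (Dual.HD A ω 0)) ∧
    (LocCoh.HasSk 2 A A → ∀ m : ℕ,
      LocCoh.HasSk 2 A (Module.Dual A (Module.Dual A (TensorPower A m (Dual.HD A ω 0)))) ∧
      2 ≤ LocCoh.idealDepth J (Module.Dual A (Module.Dual A (TensorPower A m (Dual.HD A ω 0))))) := by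
  haveI hLfin : Module.Finite A (Dual.HD A ω 0) := hω.finite_cohomology 0
  have hJ1 : 1 ≤ J.height := le_trans (by norm_num) hJ
  obtain ⟨⟨hEq, hN, hS2L⟩, hdepth⟩ :=
    Groth.Agent.S18720.result A ω hω n hd J hJ1 (fun p hp => (hoff p hp).1)
  have hdL := hdepth hJ
  constructor
  · intro hS1
    refine ⟨⟨hEq, hN⟩, ?_, hS2L⟩
    have h1A : 1 ≤ LocCoh.idealDepth J A := by
      exact_mod_cast le_idealDepth_self 1 hS1 J (by exact_mod_cast hJ1)
    refine Groth.Agent.S18703.result A J h1A _ (fun p hp => ?_) hdL
    haveI := (hoff p hp).2.1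
    haveI : Module.Finite (Localization.AtPrime p.asIdeal)
        (LocalizedModule p.asIdeal.primeCompl (Dual.HD A ω 0)) := inferInstance
    exact Module.IsReflexive.of_finite_of_free _ _
  · intro hS2 m
    have h2A : 2 ≤ LocCoh.idealDepth J A := by
      exact_mod_cast le_idealDepth_self 2 hS2 J (by exact_mod_cast hJ)
    obtain ⟨hNfin, hNfree⟩ := tensorPower_data (A := A) (Dual.HD A ω 0) m
    haveI := hNfin
    have hdG : 2 ≤ LocCoh.idealDepth J
        (Module.Dual A (Module.Dual A (TensorPower A m (Dual.HD A ω 0)))) :=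
      Groth.Agent.S18718.S18718P.two_le_idealDepth_dual J h2A
        (Module.Dual A (TensorPower A m (Dual.HD A ω 0)))
    refine ⟨?_, hdG⟩
    haveI : Module.Finite A (Module.Dual A (TensorPower A m (Dual.HD A ω 0))) := inferInstance
    haveI : Module.Finite A (Module.Dual A (Module.Dual A (TensorPower A m (Dual.HD A ω 0)))) :=
      inferInstance
    have hU : ∀ p : PrimeSpectrum A, ¬ J ≤ p.asIdeal →
        Module.IsReflexive (Localization.AtPrime p.asIdeal) (LocalizedModule p.asIdeal.primeCompl
          (Module.Dual A (Module.Dual A (TensorPower A m (Dual.HD A ω 0))))) := by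
      intro p hp
      haveI := p.2
      have hfree : Module.Free (Localization.AtPrime p.asIdeal)
          (LocalizedModule p.asIdeal.primeCompl (TensorPower A m (Dual.HD A ω 0))) :=
        localized_free_of_freeAt p.asIdeal _
          (hNfree p.asIdeal (freeAt_of_localized p.asIdeal _ (hoff p hp).2.1))
      haveI := hfree
      haveI : Module.Finite (Localization.AtPrime p.asIdeal)
          (LocalizedModule p.asIdeal.primeCompl (TensorPower A m (Dual.HD A ω 0))) := inferInstance
      haveI : Module.FinitePresentation A (TensorPower A m (Dual.HD A ω 0)) :=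
        Module.finitePresentation_of_finite A _
      haveI : Module.FinitePresentation A (Module.Dual A (TensorPower A m (Dual.HD A ω 0))) :=
        Module.finitePresentation_of_finite A _
      let e : LocalizedModule p.asIdeal.primeCompl
            (Module.Dual A (Module.Dual A (TensorPower A m (Dual.HD A ω 0))))
          ≃ₗ[Localization.AtPrime p.asIdeal]
          Module.Dual (Localization.AtPrime p.asIdeal) (Module.Dual (Localization.AtPrime p.asIdeal)
            (LocalizedModule p.asIdeal.primeCompl (TensorPower A m (Dual.HD A ω 0)))) :=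
        (IsLocalizedModule.iso p.asIdeal.primeCompl
          (D₂ (TensorPower A m (Dual.HD A ω 0)) p.asIdeal.primeCompl)).extendScalarsOfIsLocalization
            p.asIdeal.primeCompl (Localization.AtPrime p.asIdeal)
      haveI h0 : Module.IsReflexive (Localization.AtPrime p.asIdeal)
          (LocalizedModule p.asIdeal.primeCompl (TensorPower A m (Dual.HD A ω 0))) :=
        Module.IsReflexive.of_finite_of_free _ _
      haveI h1 : Module.IsReflexive (Localization.AtPrime p.asIdeal)
          (Module.Dual (Localization.AtPrime p.asIdeal)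
            (LocalizedModule p.asIdeal.primeCompl (TensorPower A m (Dual.HD A ω 0)))) :=
        Module.Dual.instIsReflecive _ _
      haveI h2 : Module.IsReflexive (Localization.AtPrime p.asIdeal)
          (Module.Dual (Localization.AtPrime p.asIdeal) (Module.Dual (Localization.AtPrime p.asIdeal)
            (LocalizedModule p.asIdeal.primeCompl (TensorPower A m (Dual.HD A ω 0))))) :=
        Module.Dual.instIsReflecive _ _
      exact Module.equiv e.symm
    exact ((Groth.Agent.S18704.result A hS2 J hJ _ hU).1.mpr hdG).1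

end W23


/-- Affine-local form, with (2) for tensor powers m ≥ 0. Let A be a Noetherian local ring of Krull
dimension n with a dualizing complex ω, L = H⁰(ω), and J an ideal with ht J ≥ 2 (the closed set V(J)
has codimension ≥ 2) such that off V(J) the complex ω is the invertible module L in degree 0: for
every prime p not containing J, H^i(ω)_p = 0 for i ≠ 0 and L_p is free of rank 1. (1) If A satisfies
(S₁), then ω is ordinary (A is equidimensional and ω[n] is normalized) and L is reflexive and
satisfies (S₂). (2) If A satisfies (S₂), then for every m ≥ 0 the double dual L^[m] of the m-th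
tensor power of L satisfies (S₂) and depth_J L^[m] ≥ 2 (it is the module of sections of L^⊗m off
V(J)). -/
theorem result (A : Type u) [CommRing A] [IsNoetherianRing A]
    [IsLocalRing A] (ω : Dual.D A) (hω : Dual.IsDualizing A ω) (n : ℕ) (hd : ringKrullDim A = n)
    (J : Ideal A) (hJ : 2 ≤ J.height)
    (hoff : ∀ p : PrimeSpectrum A, ¬ J ≤ p.asIdeal →
      (∀ i : ℤ, i ≠ 0 → p ∉ Module.support A (Dual.HD A ω i)) ∧
      Module.Free (Localization.AtPrime p.asIdeal) (LocalizedModule p.asIdeal.primeCompl (Dual.HD A ω 0)) ∧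
      Module.finrank (Localization.AtPrime p.asIdeal) (LocalizedModule p.asIdeal.primeCompl (Dual.HD A ω 0)) = 1) :
    (LocCoh.HasSk 1 A A →
      (EGA4.IsEquidim A ∧ Dual.IsNormalized A (ω⟦(n : ℤ)⟧)) ∧
      Module.IsReflexive A (Dual.HD A ω 0) ∧ LocCoh.HasSk 2 A (Dual.HD A ω 0)) ∧
    (LocCoh.HasSk 2 A A → ∀ m : ℕ,
      LocCoh.HasSk 2 A (Module.Dual A (Module.Dual A (TensorPower A m (Dual.HD A ω 0)))) ∧
      2 ≤ LocCoh.idealDepth J (Module.Dual A (Module.Dual A (TensorPower A m (Dual.HD A ω 0))))) :=
  W23.main18723 A ω hω n hd J hJ hoff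

end Groth.Agent.S18723
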