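import Groth.Statements.S1873
import Mathlib
import Groth.Agent.S6452
import Groth.Agent.Lib.Helper33.RegSup
import Groth.Agent.Lib.Helper65.CIPres

set_option autoImplicit false
universe u
open CategoryTheory AlgebraicGeometry
attribute [local instance] HasDerivedCategory.standard
open IntMult

namespace Groth.Agent.S1873

/-- If the multiplicity of Z in the closed subscheme V ∩ W is 1, i.e. length_{O_{X,ξ}}(O_{V∩W,ξ}) = 1,
then e(X, V·W, Z) = 1 and the local rings O_{V,ξ}, O_{W,ξ} are regular (V and W are smooth at a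
general point of Z). Here X is a nonsingular variety over an algebraically closed field K (smooth,
separated, of finite type, integral), V and W are closed subvarieties given by quasi-coherent ideal
sheaves with integral subschemes, of dimensions r and s with dim X = n, intersecting properly, and ξ
is the generic point of an irreducible component Z of V ∩ W; e(X, V·W, Z) is the alternating sum of
lengths of Tor over O_{X,ξ}. -/
theorem result (K : Type u) [Field K] [IsAlgClosed K] (X : Scheme.{u}) (f : X ⟶ Spec (CommRingCat.of K)) [Smooth f] [IsSeparated f] [QuasiCompact f] [IsIntegral X] (IV IW : X.IdealSheafData) [IsIntegral IV.subscheme] [IsIntegral IW.subscheme] (n r s : ℕ) (hn : topologicalKrullDim X = n) (hr : topologicalKrullDim IV.support = r) (hs : topologicalKrullDim IW.support = s) (hprop : IntMult.ProperInt (IV.support : Set X) (IW.support : Set X) n r s) (ξ : X) (hξV : ξ ∈ IV.support) (hξW : ξ ∈ IW.support) (hmax : ∀ ξ' : X, ξ' ∈ IV.support → ξ' ∈ IW.support → ξ' ⤳ ξ → ξ' = ξ)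 (h1 : Module.length (X.presheaf.stalk ξ) (↑(X.presheaf.stalk ξ) ⧸ (IntMult.stalkIdeal IV ξ ⊔ IntMult.stalkIdeal IW ξ)) = 1) : IntMult.mult IV IW ξ = 1 ∧ IsRegularLocalRing (↑(X.presheaf.stalk ξ) ⧸ IntMult.stalkIdeal IV ξ) ∧ IsRegularLocalRing (↑(X.presheaf.stalk ξ) ⧸ IntMult.stalkIdeal IW ξ) := by
  classical
  have hspV := Groth.Agent.Lib.Helper91.IntegralSub.genericPoint_specializes_of_mem_support IV hξV
  have hspW := Groth.Agent.Lib.Helper91.IntegralSub.genericPoint_specializes_of_mem_support IW hξW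
  have hIV : IntMult.stalkIdeal IV ξ = Groth.Agent.Lib.Helper91.GenPrime.primeOf hspV :=
    Groth.Agent.Lib.Helper91.StalkIdeal.stalkIdeal_eq_primeOf IV hξV
  have hJ : IntMult.stalkIdeal IW ξ = Groth.Agent.Lib.Helper91.GenPrime.primeOf hspW :=
    Groth.Agent.Lib.Helper91.StalkIdeal.stalkIdeal_eq_primeOf IW hξW
  haveI hJp : (IntMult.stalkIdeal IW ξ).IsPrime := by rw [hJ]; infer_instance
  haveI hIVp : (IntMult.stalkIdeal IV ξ).IsPrime := by rw [hIV]; infer_instance
  haveI : LocallyOfFiniteType f := inferInstance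
  -- transcendence degrees
  have hnX : Groth.Agent.Lib.Helper21.FieldDim.td f (genericPoint X) = n := by
    have h1 := Groth.Agent.Lib.Helper21.FieldDim.dim_eq_td_genericPoint f
    rw [hn] at h1
    exact_mod_cast h1.symm
  have hrV : Groth.Agent.Lib.Helper21.FieldDim.td f (IV.subschemeι (genericPoint IV.subscheme)) = r := by
    have h1 := Groth.Agent.Lib.Helper21.FieldDim.dim_eq_td_of_isGenericPoint f
      (Groth.Agent.Lib.Helper33.VarDim.isGenericPoint_support IV)
    have hr' : topologicalKrullDim ↥(IV.support : Set X) = r := hr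
    rw [hr'] at h1
    exact_mod_cast h1.symm
  have hsW : Groth.Agent.Lib.Helper21.FieldDim.td f (IW.subschemeι (genericPoint IW.subscheme)) = s := by
    have h1 := Groth.Agent.Lib.Helper21.FieldDim.dim_eq_td_of_isGenericPoint f
      (Groth.Agent.Lib.Helper33.VarDim.isGenericPoint_support IW)
    have hs' : topologicalKrullDim ↥(IW.support : Set X) = s := hs
    rw [hs'] at h1
    exact_mod_cast h1.symm
  obtain ⟨hn1, hdim⟩ := hprop ⟨ξ, hξV, hξW⟩
  have hz : Groth.Agent.Lib.Helper21.FieldDim.td f ξ ≤ r + s - n := by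
    have h1 := Groth.Agent.Lib.Helper21.FieldDim.dim_closure_singleton f ξ
    have hsub : closure ({ξ} : Set X) ⊆ (IV.support : Set X) ∩ IW.support :=
      closure_minimal (Set.singleton_subset_iff.mpr ⟨hξV, hξW⟩)
        (IV.support.isClosed.inter IW.support.isClosed)
    have h2 : topologicalKrullDim ↥(closure ({ξ} : Set X)) ≤
        topologicalKrullDim ↥((IV.support : Set X) ∩ IW.support) :=
      (Topology.IsEmbedding.inclusion hsub).isInducing.topologicalKrullDim_le
    rw [h1] at h2
    exact_mod_cast h2.trans hdim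
  haveI hregA : IsRegularLocalRing (X.presheaf.stalk ξ) :=
    Groth.Agent.Lib.Helper62.SmoothStalk.isRegularLocalRing_stalk f ξ
  -- I_V ⊔ I_W = 𝔪
  have hsup : IntMult.stalkIdeal IV ξ ⊔ IntMult.stalkIdeal IW ξ =
      IsLocalRing.maximalIdeal (X.presheaf.stalk ξ) := by
    have hs1 : IsSimpleModule (X.presheaf.stalk ξ)
        (X.presheaf.stalk ξ ⧸ (IntMult.stalkIdeal IV ξ ⊔ IntMult.stalkIdeal IW ξ)) :=
      Module.length_eq_one_iff.mp h1
    have hco : IsCoatom (IntMult.stalkIdeal IV ξ ⊔ IntMult.stalkIdeal IW ξ) :=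
      isSimpleModule_iff_isCoatom.mp hs1
    exact IsLocalRing.eq_maximalIdeal (Ideal.isMaximal_def.mpr hco)
  -- dimensions
  obtain ⟨a, ha1, ha2⟩ := Groth.Agent.Lib.Helper33.VarDim.exists_dim_quot_primeOf f hspV
  rw [← hIV] at ha1
  rw [hrV] at ha2
  obtain ⟨b, hb1, hb2⟩ := Groth.Agent.Lib.Helper33.VarDim.exists_dim_quot_primeOf f hspW
  rw [← hJ] at hb1
  rw [hsW] at hb2
  obtain ⟨D, hD1, hD2⟩ := Groth.Agent.Lib.Helper33.VarDim.exists_height_primeOf f
    (specializes_refl ξ)
  rw [Groth.Agent.Lib.Helper33.VarDim.primeOf_refl] at hD1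
  rw [hnX] at hD2
  have hD : ringKrullDim (X.presheaf.stalk ξ) = ((D : ℕ) : WithBot ℕ∞) := by
    rw [← IsLocalRing.maximalIdeal_height_eq_ringKrullDim, hD1]
    rfl
  have hab : D ≤ a + b := by omega
  have regV : IsRegularLocalRing (X.presheaf.stalk ξ ⧸ IntMult.stalkIdeal IV ξ) :=
    Groth.Agent.Lib.Helper33.RegSup.isRegularLocalRing_quotient _ _ hsup a b D hD ha1 hb1 hab
  have regW : IsRegularLocalRing (X.presheaf.stalk ξ ⧸ IntMult.stalkIdeal IW ξ) :=
    Groth.Agent.Lib.Helper33.RegSup.isRegularLocalRing_quotient _ _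
      ((sup_comm _ _).trans hsup) b a D hD hb1 ha1 (by omega)
  refine ⟨?_, regV, regW⟩
  obtain ⟨rs, hrs, hrsI⟩ :=
    Groth.Agent.Lib.Helper83.RegQuot.exists_isRegular_of_isRegularLocalRing_quotient
      (IntMult.stalkIdeal IV ξ)
  have hW : LocCoh.IsCohenMacaulayLocalRing (X.presheaf.stalk ξ ⧸ IntMult.stalkIdeal IW ξ) :=
    Groth.Agent.Lib.Helper65.CIPres.isCM_of_isRegularLocalRing _
  have hget : List.ofFn rs.get = rs := List.ofFn_get rs
  have hg : IntMult.stalkIdeal IV ξ = Ideal.span (Set.range rs.get) := by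
    rw [← hrsI]
    unfold Ideal.ofList
    congr 1
    ext x
    simp [List.mem_iff_get]
  have hreg : RingTheory.Sequence.IsRegular (X.presheaf.stalk ξ) (List.ofFn rs.get) := by
    rw [hget]; exact hrs
  have h6452 := Groth.Agent.S6452.result K X f IV IW n r s hn hr hs hprop ξ hξV hξW hmax
    rs.length rs.get hg hreg hW
  have hlen : Module.length (X.presheaf.stalk ξ)
      (X.presheaf.stalk ξ ⧸ (IntMult.stalkIdeal IW ξ ⊔ IntMult.stalkIdeal IV ξ)) = 1 := by
    rw [← h1]
    exact LinearEquiv.length_eq (Submodule.quotEquivOfEq _ _ (sup_comm _ _))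
  rw [hlen] at h6452
  simpa using h6452

end Groth.Agent.S1873
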