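import Groth.Statements.S18731
import Mathlib
import Groth.Agent.Lib.Helper20.IdealComap
import Groth.Agent.Lib.BlowUp.Helper18_EffCartier

set_option autoImplicit false
universe u
open CategoryTheory CategoryTheory.Limits AlgebraicGeometry TopologicalSpace
open ModPair

namespace Groth.Agent.S18731

/-- Let I on X and J on Y be quasi-coherent ideal sheaves of effective Cartier divisors and f : X ⟶ Y a
morphism satisfying the modulus condition I ≤ J.comap f (the closed subscheme J ×_Y X of X lies
inside the closed subscheme cut out by I). Then the pull-back of the divisor of J along f is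
defined: J.comap f is the ideal sheaf of an effective Cartier divisor on X. -/
theorem result {X Y : Scheme.{u}} (I : X.IdealSheafData)
    (J : Y.IdealSheafData) (hI : BlowUp.IsEffCartierIdeal I) (hJ : BlowUp.IsEffCartierIdeal J)
    (f : X ⟶ Y) (hf : ModPair.IsAmbient I J f) : BlowUp.IsEffCartierIdeal (J.comap f) := by
  intro x
  obtain ⟨V, hxV, t, ht, hJV⟩ := hJ (f x)
  obtain ⟨W, hxW, hWle, s, hs, hIW⟩ :=
    Groth.Agent.Lib.BlowUp.exists_le_of_isEffCartierIdeal hI x (f ⁻¹ᵁ V.1) hxV
  refine ⟨W, hxW, (f.appLE V.1 W.1 hWle).hom t, ?_, ?_⟩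
  · have h1 : s ∈ (J.comap f).ideal W := hf W (hIW ▸ Ideal.mem_span_singleton_self s)
    rw [Groth.Agent.Lib.Helper20.ideal_comap f J W V hWle, hJV, Ideal.map_span,
      Set.image_singleton, Ideal.mem_span_singleton'] at h1
    obtain ⟨c, hc⟩ := h1
    rw [mem_nonZeroDivisors_iff_right]
    intro a ha
    apply (mem_nonZeroDivisors_iff_right.mp hs)
    rw [← hc]
    calc a * (c * (f.appLE V.1 W.1 hWle).hom t) = c * (a * (f.appLE V.1 W.1 hWle).hom t) := by ring
      _ = 0 := by rw [ha, mul_zero]
  · rw [Groth.Agent.Lib.Helper20.ideal_comap f J W V hWle, hJV, Ideal.map_span,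
      Set.image_singleton]

end Groth.Agent.S18731
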