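import Groth.Statements.S18733
import Groth.Agent.Lib.Helper56.ModPairColon
-- import your own Groth.Agent.* helpers here

set_option autoImplicit false
universe u
open CategoryTheory CategoryTheory.Limits AlgebraicGeometry TopologicalSpace
open ModPair

namespace Groth.Agent.S18733

open Groth.Agent.Lib.Helper56.ModPairColon

section aux

variable {X : Scheme.{u}} (N E : X.IdealSheafData) (hE : BlowUp.IsEffCartierIdeal E)

include hE in
theorem eq_colon_mul (hle : N ≤ E) :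
    N = colonSheaf N E (isFiniteTypeIdeal_of_isEffCartierIdeal hE) * E := by
  have hE' := hE
  choose W hyW e he heq using hE'
  refine Scheme.IdealSheafData.ext_of_iSup_eq_top W ?_ (fun y => ?_)
  · rw [eq_top_iff]
    intro y _
    exact Opens.mem_iSup.mpr ⟨y, hyW y⟩
  · rw [Scheme.IdealSheafData.ideal_mul]
    change _ = (N.ideal (W y)).colon _ * E.ideal (W y)
    rw [heq y]
    refine (colon_span_mul (e y) (N.ideal (W y)) ?_).symm
    rw [← heq y]
    exact hle (W y)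

include hE in
theorem isEffCartierIdeal_colon (hle : N ≤ E) (h₁ : BlowUp.IsEffCartierIdeal N) :
    BlowUp.IsEffCartierIdeal
      (colonSheaf N E (isFiniteTypeIdeal_of_isEffCartierIdeal hE)) := by
  intro x
  obtain ⟨W₀, hxW₀, e₀, he₀, hEW₀⟩ := hE x
  obtain ⟨W, hxW, hWle, a, ha, hNW⟩ :=
    Groth.Agent.Lib.BlowUp.exists_le_of_isEffCartierIdeal h₁ x W₀.1 hxW₀
  have hEW : E.ideal W = Ideal.span {(X.presheaf.map (homOfLE hWle).op).hom e₀} := by
    rw [← E.map_ideal (U := W) (V := W₀) hWle, hEW₀, Ideal.map_span, Set.image_singleton]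
    rfl
  have he := Groth.Agent.Lib.BlowUp.res_mem_nonZeroDivisors W₀.2 hWle e₀ he₀
  have haE : a ∈ E.ideal W := hle W (hNW ▸ Ideal.mem_span_singleton_self a)
  rw [hEW] at haE
  obtain ⟨a', ha'⟩ := Ideal.mem_span_singleton'.mp haE
  refine ⟨W, hxW, a', ?_, ?_⟩
  · rw [← ha'] at ha
    exact (mul_mem_nonZeroDivisors.mp ha).1
  · rw [colonSheaf_ideal, hEW, hNW, ← ha']
    exact colon_span_span _ a' he

end aux

/-- Let D₁, D₂ be effective Cartier divisors on a scheme X, with quasi-coherent ideal sheaves I₁, I₂,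
such that the scheme-theoretic intersection E = D₁ ×_X D₂ (ideal sheaf I₁ ⊔ I₂) is again an
effective Cartier divisor. Then (1) the divisors D₁ − E and D₂ − E are effective and disjoint: there
are ideal sheaves I₁', I₂' of effective Cartier divisors with I₁ = I₁'·(I₁ ⊔ I₂), I₂ = I₂'·(I₁ ⊔ I₂)
and I₁' ⊔ I₂' = ⊤; and (2) the effective Cartier divisor D₁ + D₂ − E, with ideal sheaf I₁'·I₂'·(I₁ ⊔
I₂), is contained in every effective Cartier divisor D of X containing D₁ and D₂: if the ideal sheaf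
of D is ≤ I₁ and ≤ I₂ then it is ≤ I₁'·I₂'·(I₁ ⊔ I₂). -/
theorem result {X : Scheme.{u}} (I₁ I₂ : X.IdealSheafData)
    (h₁ : BlowUp.IsEffCartierIdeal I₁) (h₂ : BlowUp.IsEffCartierIdeal I₂)
    (hE : BlowUp.IsEffCartierIdeal (I₁ ⊔ I₂)) :
    ∃ I₁' I₂' : X.IdealSheafData, BlowUp.IsEffCartierIdeal I₁' ∧ BlowUp.IsEffCartierIdeal I₂' ∧
      I₁ = I₁' * (I₁ ⊔ I₂) ∧ I₂ = I₂' * (I₁ ⊔ I₂) ∧ I₁' ⊔ I₂' = ⊤ ∧
      ∀ D : X.IdealSheafData, BlowUp.IsEffCartierIdeal D → D ≤ I₁ → D ≤ I₂ →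
        D ≤ I₁' * I₂' * (I₁ ⊔ I₂) := by
  have hft := isFiniteTypeIdeal_of_isEffCartierIdeal hE
  refine ⟨colonSheaf I₁ (I₁ ⊔ I₂) hft, colonSheaf I₂ (I₁ ⊔ I₂) hft,
    isEffCartierIdeal_colon I₁ _ hE le_sup_left h₁, isEffCartierIdeal_colon I₂ _ hE le_sup_right h₂,
    eq_colon_mul I₁ _ hE le_sup_left, eq_colon_mul I₂ _ hE le_sup_right, ?_, ?_⟩
  · have hE' := hE
    choose W hyW e he heq using hE'
    refine Scheme.IdealSheafData.ext_of_iSup_eq_top W ?_ (fun y => ?_)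
    · rw [eq_top_iff]
      intro y _
      exact Opens.mem_iSup.mpr ⟨y, hyW y⟩
    · change (I₁.ideal (W y)).colon _ ⊔ (I₂.ideal (W y)).colon _ = ⊤
      rw [heq y]
      exact colon_sup_colon_eq_top (e y) (he y) _ _ (heq y)
  · intro D _ hD₁ hD₂
    have hE' := hE
    choose W hyW e he heq using hE'
    refine Scheme.IdealSheafData.le_of_iSup_eq_top W ?_ (fun y => ?_)
    · rw [eq_top_iff]
      intro y _
      exact Opens.mem_iSup.mpr ⟨y, hyW y⟩
    · rw [Scheme.IdealSheafData.ideal_mul, Scheme.IdealSheafData.ideal_mul]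
      change _ ≤ (I₁.ideal (W y)).colon _ * (I₂.ideal (W y)).colon _ * (I₁ ⊔ I₂).ideal (W y)
      rw [heq y]
      intro d hd
      have hd₁ : d ∈ I₁.ideal (W y) := hD₁ (W y) hd
      have hd₂ : d ∈ I₂.ideal (W y) := hD₂ (W y) hd
      have hdE : d ∈ Ideal.span {e y} := by
        rw [← heq y]
        exact (le_sup_left : I₁ ≤ I₁ ⊔ I₂) (W y) hd₁
      obtain ⟨x, rfl⟩ := Ideal.mem_span_singleton'.mp hdE
      have hx₁ := mem_colon_span_of_mul_mem (e y) x _ hd₁
      have hx₂ := mem_colon_span_of_mul_mem (e y) x _ hd₂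
      have hcop := colon_sup_colon_eq_top (e y) (he y) _ _ (heq y)
      rw [Ideal.mul_eq_inf_of_coprime hcop]
      exact Ideal.mul_mem_mul ⟨hx₁, hx₂⟩ (Ideal.mem_span_singleton_self _)

end Groth.Agent.S18733
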