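import Groth.Statements.S18734
import Mathlib
import Groth.Agent.Lib.Helper21.ValTrdegSch
import Groth.Agent.Lib.Helper21.QFinComp
import Groth.Agent.Lib.Helper21.EtaleTrdeg
-- import your own Groth.Agent.* helpers here

set_option autoImplicit false
universe u
open CategoryTheory CategoryTheory.Limits AlgebraicGeometry TopologicalSpace
open ModPair

namespace Groth.Agent.S18734
open Groth.Agent.Lib.Helper21 Groth.Agent.Lib.Helper21.FieldDim Groth.Agent.Lib.Helper21.ValTrdeg

/-- Let R be a valuation ring with fraction field K and f : Y ⟶ Spec R a morphism of schemes which is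
flat, proper and generically finite (the generic fibre Y ×_{Spec R} Spec K ⟶ Spec K is a finite
morphism). Then f is finite. No finite-presentation hypothesis is assumed. -/
theorem result {R : Type u} [CommRing R]
    [IsDomain R] [ValuationRing R] {Y : Scheme.{u}} (f : Y ⟶ Spec (CommRingCat.of R)) [Flat f] [IsProper f]
    (hgen : IsFinite (pullback.snd f
      (Spec.map (CommRingCat.ofHom (algebraMap R (FractionRing R)))))) :
    IsFinite f := by
  classical
  haveI := hgen
  let g : Spec (CommRingCat.of (FractionRing R)) ⟶ Spec (CommRingCat.of R) :=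
    Spec.map (CommRingCat.ofHom (algebraMap R (FractionRing R)))
  have htd : ∀ y : Y, tdR f y = 0 := by
    intro y
    let η : Spec (CommRingCat.of R) := (⟨⊥, Ideal.isPrime_bot⟩ : PrimeSpectrum R)
    have hη : η ⤳ f y :=
      (PrimeSpectrum.le_iff_specializes (R := R) η (f y)).mp (bot_le (a := (f y).asIdeal))
    obtain ⟨ζ, hζy, hfζ⟩ := (Flat.generalizingMap f) hη
    have h1 : tdR f y ≤ tdR f ζ := tdR_le_of_valuation' (R := CommRingCat.of R) f hζy
    -- a point of `Spec K`
    let pt : Spec (CommRingCat.of (FractionRing R)) := default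
    have hpt : g pt = η := by
      apply PrimeSpectrum.ext
      change Ideal.comap (algebraMap R (FractionRing R)) pt.asIdeal = ⊥
      have hbot : pt.asIdeal = ⊥ := by
        rcases Ideal.eq_bot_or_top pt.asIdeal with h1 | h1
        · exact h1
        · exact absurd h1 pt.isPrime.ne_top
      rw [hbot, ← RingHom.ker_eq_comap_bot]
      exact (RingHom.injective_iff_ker_eq_bot _).mp (IsFractionRing.injective R (FractionRing R))
    obtain ⟨z, hz1, -, hz3⟩ := exists_tdR_snd_eq f g ζ pt (hfζ.trans hpt.symm)
    have h2 : trdegAt (pullback.snd f g) z = 0 :=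
      trdegAt_eq_zero_of_locallyQuasiFinite (pullback.snd f g) z
    have h3 : tdR (pullback.snd f g) z = 0 := tdR_eq_of_trdegAt_eq _ (by rw [h2]; rfl)
    omega
  haveI : LocallyQuasiFinite f := by
    apply locallyQuasiFinite_of_forall_quasiFiniteAt
    apply quasiFiniteAt_of_forall_isAlgebraic
    intro y
    letI := (f.residueFieldMap y).hom.toAlgebra
    have h0 : trdegAt f y = 0 := by
      rw [trdegAt_eq_tdR, htd y]; rfl
    exact (_root_.trdeg_eq_zero_iff).mp h0
  exact IsFinite.of_isProper_of_locallyQuasiFinite f

end Groth.Agent.S18734
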