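import Groth.Statements.S18752
import Groth.Agent.Lib.Helper56.ModPairPullGeo
import Groth.Agent.Lib.Helper56.LocPullback

set_option autoImplicit false
universe u
open CategoryTheory CategoryTheory.Limits AlgebraicGeometry TopologicalSpace
open ModPair

namespace Groth.Agent.S18752

/-- Let f : X ⟶ P and g : T ⟶ P be ambient morphisms of modulus pairs and let (Y, K), with π : Y ⟶ Y₀ ⊆
X ×_P T, be an ambient product of X and T over P: Y₀ is the scheme-theoretic image of the product of
the interiors, π a blowing up of Y₀ in the sum of the pulled-back moduli, and K the ideal sheaf of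
an effective Cartier divisor with K times the exceptional ideal equal to the product of the
pulled-back moduli, the two projections satisfying the modulus condition. Then in the localization
of the category of modulus pairs at the abstract admissible blow-ups, the square with vertex (Y, K),
sides the two projections to T and X, and g, f, is a pullback square. -/
theorem result (P T X : ModPair.Pair.{u}) (f : X ⟶ P) (g : T ⟶ P)
    {Y : Scheme.{u}} (π : Y ⟶ ModPair.mprod f.hom g.hom X.mod T.mod) (K : Y.IdealSheafData)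
    (hY : ModPair.IsAmbProd f.hom g.hom X.mod T.mod π K) (hK : BlowUp.IsEffCartierIdeal K)
    (hX : ModPair.IsAmbient K X.mod (π ≫ ModPair.mprodι f.hom g.hom X.mod T.mod ≫ pullback.fst f.hom g.hom))
    (hT : ModPair.IsAmbient K T.mod (π ≫ ModPair.mprodι f.hom g.hom X.mod T.mod ≫ pullback.snd f.hom g.hom)) :
    IsPullback
      ((ModPair.Pair.admBlowup.{u}).Q.map
        (ModPair.Pair.Hom.mk (P := ModPair.Pair.mk Y K hK) (Q := T)
          (π ≫ ModPair.mprodι f.hom g.hom X.mod T.mod ≫ pullback.snd f.hom g.hom) hT))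
      ((ModPair.Pair.admBlowup.{u}).Q.map
        (ModPair.Pair.Hom.mk (P := ModPair.Pair.mk Y K hK) (Q := X)
          (π ≫ ModPair.mprodι f.hom g.hom X.mod T.mod ≫ pullback.fst f.hom g.hom) hX))
      ((ModPair.Pair.admBlowup.{u}).Q.map g) ((ModPair.Pair.admBlowup.{u}).Q.map f) := by
  haveI := Groth.Agent.Lib.Helper56.ModPairFrac.hasRightCalculusOfFractions.{u}
  refine Groth.Agent.Lib.Helper56.LocPullback.isPullback_map (ModPair.Pair.admBlowup.{u}).Q
    (ModPair.Pair.admBlowup.{u}) f g _ _ ?_ ?_ ?_
  · apply ModPair.Pair.Hom.ext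
    change (π ≫ ModPair.mprodι f.hom g.hom X.mod T.mod ≫ pullback.snd f.hom g.hom) ≫ g.hom =
      (π ≫ ModPair.mprodι f.hom g.hom X.mod T.mod ≫ pullback.fst f.hom g.hom) ≫ f.hom
    simp only [Category.assoc, pullback.condition]
  · intro Z a b hab
    have hab' : b.hom ≫ f.hom = a.hom ≫ g.hom := (congrArg ModPair.Pair.Hom.hom hab).symm
    obtain ⟨Z', β, w, hM', hβ, hw, h1, h2⟩ :=
      Groth.Agent.Lib.Helper56.ModPairPullGeo.exists_lift T.mod X.mod T.isEffCartier
        X.isEffCartier f.hom g.hom π K hY Z.mod Z.isEffCartier a.hom b.hom a.cond b.cond hab'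
    exact ⟨ModPair.Pair.mk Z' (Z.mod.comap β) hM', ModPair.Pair.Hom.mk β le_rfl, hβ,
      ModPair.Pair.Hom.mk w hw, ModPair.Pair.Hom.ext h1, ModPair.Pair.Hom.ext h2⟩
  · intro Z w₁ w₂ h1 h2
    apply ModPair.Pair.Hom.ext
    exact Groth.Agent.Lib.Helper56.ModPairPullGeo.lift_unique T.mod X.mod T.isEffCartier
      X.isEffCartier f.hom g.hom π K hY Z.mod Z.isEffCartier w₁.hom w₂.hom w₁.cond w₂.cond
      (congrArg ModPair.Pair.Hom.hom h1) (congrArg ModPair.Pair.Hom.hom h2)

end Groth.Agent.S18752
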