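import Groth.Statements.S18739
import Groth.Agent.S18752
import Groth.Agent.Lib.Helper56.LocFiniteLimits

set_option autoImplicit false
universe u
open CategoryTheory CategoryTheory.Limits AlgebraicGeometry TopologicalSpace
open ModPair

namespace Groth.Agent.S18739

/-- The localization of the category of modulus pairs and ambient morphisms at the class of abstract
admissible blow-ups has all finite limits. -/
theorem result :
    HasFiniteLimits (ModPair.Pair.admBlowup.{u}).Localization := by
  haveI := Groth.Agent.Lib.Helper56.ModPairFrac.hasRightCalculusOfFractions.{u}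
  -- the terminal object
  let pt : ModPair.Pair.{u} :=
    ⟨⊤_ Scheme.{u}, ⊤, Groth.Agent.Lib.BlowUp.isEffCartierIdeal_top⟩
  have hcond : ∀ Z : ModPair.Pair.{u},
      ModPair.IsAmbient Z.mod (⊤ : (⊤_ Scheme.{u}).IdealSheafData) (terminal.from Z.total) := by
    intro Z
    change Z.mod ≤ _
    rw [Groth.Agent.Lib.BlowUp.comap_eq_top_of_forall_notMem_support ⊤ _ (by
      intro y hy
      rw [Scheme.IdealSheafData.support_top] at hy
      exact hy)]
    exact le_top
  have hpt : IsTerminal pt :=
    IsTerminal.ofUniqueHom (fun Z => (⟨terminal.from Z.total, hcond Z⟩ : Z ⟶ pt))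
      (fun Z m => ModPair.Pair.Hom.ext (terminal.hom_ext _ _))
  haveI : HasTerminal (ModPair.Pair.admBlowup.{u}).Localization :=
    Groth.Agent.Lib.Helper56.LocFiniteLimits.hasTerminal_of_isTerminal
      (ModPair.Pair.admBlowup.{u}).Q (ModPair.Pair.admBlowup.{u}) hpt
  haveI : HasPullbacks (ModPair.Pair.admBlowup.{u}).Localization := by
    refine Groth.Agent.Lib.Helper56.LocFiniteLimits.hasPullbacks_of_map
      (ModPair.Pair.admBlowup.{u}).Q (ModPair.Pair.admBlowup.{u}) (fun X T P f g => ?_)
    obtain ⟨Y, π, K, hY⟩ :=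
      Groth.Agent.Lib.Helper56.ModPairAmbExists.exists_isAmbProd T.mod X.mod f.hom g.hom
    obtain ⟨hK, hX, hT, -⟩ := Groth.Agent.Lib.Helper56.ModPairAmbProd.ambProd_main T.mod X.mod
      T.isEffCartier X.isEffCartier f.hom g.hom π K hY
    exact (Groth.Agent.S18752.result P T X f g π K hY hK hX hT).flip.hasPullback
  exact hasFiniteLimits_of_hasTerminal_and_pullbacks

end Groth.Agent.S18739
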