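import Groth.Statements.S1874
import Mathlib
import Groth.Agent.Lib.Helper33.ChiSymm
import Groth.Agent.Lib.Helper33.VarDim
import Groth.Agent.Lib.Helper87.TorKzD
import Groth.Agent.Lib.Helper87.KzDim
import Groth.Agent.Lib.Helper29.CM
import Groth.Agent.S16235
import Groth.Agent.Lib.Helper62.SmoothStalk

set_option autoImplicit false
universe u
open CategoryTheory AlgebraicGeometry
attribute [local instance] HasDerivedCategory.standard
open IntMult

namespace Groth.Agent.S1874

/-- Suppose the ideal of V in O_{X,ξ} is generated by a regular sequence g₁, …, g_c. Then c! ·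
length(O_{W,ξ}/(g₁, …, g_c)^t O_{W,ξ}) / t^c tends to e(X, V·W, Z) as t → ∞ (so e is c! times the
leading coefficient of that Hilbert polynomial), and e(X, V·W, Z) > 0. Here X is a nonsingular
variety over an algebraically closed field K (smooth, separated, of finite type, integral), V and W
are closed subvarieties given by quasi-coherent ideal sheaves with integral subschemes, of
dimensions r and s with dim X = n, intersecting properly, and ξ is the generic point of an
irreducible component Z of V ∩ W; e(X, V·W, Z) is the alternating sum of lengths of Tor over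
O_{X,ξ}. -/
theorem result (K : Type u) [Field K] [IsAlgClosed K] (X : Scheme.{u}) (f : X ⟶ Spec (CommRingCat.of K)) [Smooth f] [IsSeparated f] [QuasiCompact f] [IsIntegral X] (IV IW : X.IdealSheafData) [IsIntegral IV.subscheme] [IsIntegral IW.subscheme] (n r s : ℕ) (hn : topologicalKrullDim X = n) (hr : topologicalKrullDim IV.support = r) (hs : topologicalKrullDim IW.support = s) (hprop : IntMult.ProperInt (IV.support : Set X) (IW.support : Set X) n r s) (ξ : X) (hξV : ξ ∈ IV.support) (hξW : ξ ∈ IW.support) (hmax : ∀ ξ' : X, ξ' ∈ IV.support → ξ' ∈ IW.support → ξ' ⤳ ξ → ξ' = ξ) (c : ℕ) (g : Fin c → ↑(X.presheaf.stalk ξ)) (hg : IntMult.stalkIdeal IV ξ = Ideal.span (Set.range g)) (hreg : RingTheory.Sequence.IsRegular (↑(X.presheaf.stalk ξ)) (List.ofFn g)) : Filter.Tendsto (fun t : ℕ => (c.factorial : ℝ) * ((Module.length (X.presheaf.stalk ξ) (↑(X.presheaf.stalk ξ) ⧸ (IntMult.stalkIdeal IW ξ ⊔ IntMult.stalkIdeal IV ξ ^ t))).toNat : ℝ) / (t : ℝ) ^ c) Filter.atTop (nhds (IntMult.mult IV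 IW ξ : ℝ)) ∧ 0 < IntMult.mult IV IW ξ := by
  classical
  have hspV := Groth.Agent.Lib.Helper91.IntegralSub.genericPoint_specializes_of_mem_support IV hξV
  have hspW := Groth.Agent.Lib.Helper91.IntegralSub.genericPoint_specializes_of_mem_support IW hξW
  have hIV : IntMult.stalkIdeal IV ξ = Groth.Agent.Lib.Helper91.GenPrime.primeOf hspV :=
    Groth.Agent.Lib.Helper91.StalkIdeal.stalkIdeal_eq_primeOf IV hξV
  have hJ : IntMult.stalkIdeal IW ξ = Groth.Agent.Lib.Helper91.GenPrime.primeOf hspW :=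
    Groth.Agent.Lib.Helper91.StalkIdeal.stalkIdeal_eq_primeOf IW hξW
  haveI hJp : (IntMult.stalkIdeal IW ξ).IsPrime := by rw [hJ]; infer_instance
  haveI hIVp : (IntMult.stalkIdeal IV ξ).IsPrime := by rw [hIV]; infer_instance
  haveI : LocallyOfFiniteType f := inferInstance
  -- transcendence degrees
  have hnX : Groth.Agent.Lib.Helper21.FieldDim.td f (genericPoint X) = n := by
    have h1 := Groth.Agent.Lib.Helper21.FieldDim.dim_eq_td_genericPoint f
    rw [hn] at h1
    exact_mod_cast h1.symm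
  have hrV : Groth.Agent.Lib.Helper21.FieldDim.td f (IV.subschemeι (genericPoint IV.subscheme)) = r := by
    have h1 := Groth.Agent.Lib.Helper21.FieldDim.dim_eq_td_of_isGenericPoint f
      (Groth.Agent.Lib.Helper33.VarDim.isGenericPoint_support IV)
    have hr' : topologicalKrullDim ↥(IV.support : Set X) = r := hr
    rw [hr'] at h1
    exact_mod_cast h1.symm
  have hsW : Groth.Agent.Lib.Helper21.FieldDim.td f (IW.subschemeι (genericPoint IW.subscheme)) = s := by
    have h1 := Groth.Agent.Lib.Helper21.FieldDim.dim_eq_td_of_isGenericPoint f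
      (Groth.Agent.Lib.Helper33.VarDim.isGenericPoint_support IW)
    have hs' : topologicalKrullDim ↥(IW.support : Set X) = s := hs
    rw [hs'] at h1
    exact_mod_cast h1.symm
  obtain ⟨hn1, hdim⟩ := hprop ⟨ξ, hξV, hξW⟩
  have hz : Groth.Agent.Lib.Helper21.FieldDim.td f ξ ≤ r + s - n := by
    have h1 := Groth.Agent.Lib.Helper21.FieldDim.dim_closure_singleton f ξ
    have hsub : closure ({ξ} : Set X) ⊆ (IV.support : Set X) ∩ IW.support :=
      closure_minimal (Set.singleton_subset_iff.mpr ⟨hξV, hξW⟩)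
        (IV.support.isClosed.inter IW.support.isClosed)
    have h2 : topologicalKrullDim ↥(closure ({ξ} : Set X)) ≤
        topologicalKrullDim ↥((IV.support : Set X) ∩ IW.support) :=
      (Topology.IsEmbedding.inclusion hsub).isInducing.topologicalKrullDim_le
    rw [h1] at h2
    exact_mod_cast h2.trans hdim
  haveI hregA : IsRegularLocalRing (X.presheaf.stalk ξ) :=
    Groth.Agent.Lib.Helper62.SmoothStalk.isRegularLocalRing_stalk f ξ
  -- c + r = n
  have hc : c + r = n := by
    obtain ⟨c', hc'1, hc'2⟩ := Groth.Agent.Lib.Helper33.VarDim.exists_height_primeOf f hspV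
    have hne : Ideal.span (Set.range g) ≠ ⊤ := by rw [← hg]; exact hIVp.ne_top
    have h1 := Groth.Agent.S16235.result (X.presheaf.stalk ξ) c g hreg.toIsWeaklyRegular hne
    rw [← hg, hIV, hc'1] at h1
    have : c' = c := by exact_mod_cast h1
    subst this
    rw [hrV, hnX] at hc'2
    exact hc'2
  -- dim B
  obtain ⟨d, hd1, hd2⟩ := Groth.Agent.Lib.Helper33.VarDim.exists_dim_quot_primeOf f hspW
  rw [← hJ] at hd1
  rw [hsW] at hd2
  have hcd : c ≤ d := by omega
  have hprime : ∀ Q : Ideal (X.presheaf.stalk ξ), Q.IsPrime → IntMult.stalkIdeal IW ξ ≤ Q →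
      IntMult.stalkIdeal IV ξ ≤ Q → Q = IsLocalRing.maximalIdeal _ := by
    intro Q hQ hWQ hVQ
    obtain ⟨ζ, h, rfl⟩ := Groth.Agent.Lib.Helper91.GenPrime.exists_specializes_primeOf_eq ξ Q
    have hζW := Groth.Agent.Lib.Helper33.VarDim.mem_support_of_stalkIdeal_le_primeOf IW h hWQ
    have hζV := Groth.Agent.Lib.Helper33.VarDim.mem_support_of_stalkIdeal_le_primeOf IV h hVQ
    have hζ := hmax ζ hζV hζW h
    subst hζ
    exact Groth.Agent.Lib.Helper33.VarDim.primeOf_refl _ h
  have hof : Ideal.ofList (List.ofFn g) = Ideal.span (Set.range g) := by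
    unfold Ideal.ofList
    congr 1
    ext a
    simp [List.mem_ofFn]
  have hgm : ∀ j, g j ∈ IsLocalRing.maximalIdeal (X.presheaf.stalk ξ) := fun j =>
    (IsLocalRing.le_maximalIdeal hIVp.ne_top) (hg ▸ Ideal.subset_span ⟨j, rfl⟩)
  -- support dimension of M/(g)M
  have h0 : Module.supportDim (X.presheaf.stalk ξ)
      ((X.presheaf.stalk ξ ⧸ IntMult.stalkIdeal IW ξ) ⧸
        (Ideal.span (Set.range g) • (⊤ : Submodule (X.presheaf.stalk ξ)
          (X.presheaf.stalk ξ ⧸ IntMult.stalkIdeal IW ξ)))) ≤ 0 := by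
    rw [Module.supportDim_eq_of_equiv
      (Groth.Agent.Lib.Helper33.ChiSymm.quotSMulTopEquiv (IntMult.stalkIdeal IW ξ)
        (Ideal.span (Set.range g))), Module.supportDim_quotient_eq_ringKrullDim]
    apply Groth.Agent.Lib.Helper33.ChiSymm.ringKrullDim_quotient_le_zero
    intro Q hQ hle
    exact hprime Q hQ (le_sup_left.trans hle) (hg ▸ le_sup_right.trans hle)
  have hlim := Groth.Agent.Lib.Helper87.TorKzD.tendsto_chi
    (X.presheaf.stalk ξ ⧸ IntMult.stalkIdeal IW ξ) c g hreg h0
  have hchi : IntMult.mult IV IW ξ = IntMult.chi (X.presheaf.stalk ξ)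
      (X.presheaf.stalk ξ ⧸ Ideal.span (Set.range g))
      (X.presheaf.stalk ξ ⧸ IntMult.stalkIdeal IW ξ) := by
    unfold IntMult.mult
    rw [Groth.Agent.Lib.Helper33.ChiSymm.chi_symm]
    have key : ∀ I : Ideal (X.presheaf.stalk ξ), I = Ideal.span (Set.range g) →
        IntMult.chi (X.presheaf.stalk ξ) (X.presheaf.stalk ξ ⧸ I)
          (X.presheaf.stalk ξ ⧸ IntMult.stalkIdeal IW ξ) =
        IntMult.chi (X.presheaf.stalk ξ) (X.presheaf.stalk ξ ⧸ Ideal.span (Set.range g))
          (X.presheaf.stalk ξ ⧸ IntMult.stalkIdeal IW ξ) := by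
      rintro _ rfl; rfl
    exact key _ hg
  -- dimension of M = A/J equals c
  have hdimM : Module.supportDim (X.presheaf.stalk ξ) (X.presheaf.stalk ξ ⧸ IntMult.stalkIdeal IW ξ) =
      ((c : ℕ) : WithBot ℕ∞) := by
    rw [Module.supportDim_quotient_eq_ringKrullDim, hd1]
    have h1 := Groth.Agent.Lib.Helper29.CMLib.supportDim_le_quotient_add_length
      (X.presheaf.stalk ξ) (List.ofFn g) (X.presheaf.stalk ξ ⧸ IntMult.stalkIdeal IW ξ)
      (by
        intro x hx
        obtain ⟨i, rfl⟩ := List.mem_ofFn.mp hx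
        exact hgm i)
    rw [hof, Module.supportDim_quotient_eq_ringKrullDim, hd1, List.length_ofFn] at h1
    have h2 : ((d : ℕ) : WithBot ℕ∞) ≤ (0 : WithBot ℕ∞) + ((c : ℕ) : WithBot ℕ∞) :=
      h1.trans (by gcongr)
    rw [zero_add] at h2
    have h3 : d ≤ c := by exact_mod_cast h2
    have : d = c := le_antisymm h3 hcd
    rw [this]
  have hfl : IsFiniteLength (X.presheaf.stalk ξ)
      ((X.presheaf.stalk ξ ⧸ IntMult.stalkIdeal IW ξ) ⧸
        (Ideal.span (Set.range g) • (⊤ : Submodule (X.presheaf.stalk ξ)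
          (X.presheaf.stalk ξ ⧸ IntMult.stalkIdeal IW ξ)))) :=
    Groth.Agent.Lib.Helper87.SamuelFn.isFiniteLength_of_supportDim_le_zero _ h0
  constructor
  · rw [hchi]
    refine hlim.congr (fun t => ?_)
    have key : ∀ I : Ideal (X.presheaf.stalk ξ), I = Ideal.span (Set.range g) →
        Module.length (X.presheaf.stalk ξ)
          ((X.presheaf.stalk ξ ⧸ IntMult.stalkIdeal IW ξ) ⧸
            (Ideal.span (Set.range g) ^ t • (⊤ : Submodule (X.presheaf.stalk ξ)
              (X.presheaf.stalk ξ ⧸ IntMult.stalkIdeal IW ξ)))) =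
        Module.length (X.presheaf.stalk ξ)
          (X.presheaf.stalk ξ ⧸ (IntMult.stalkIdeal IW ξ ⊔ I ^ t)) := by
      rintro _ rfl
      exact LinearEquiv.length_eq
        (Groth.Agent.Lib.Helper33.ChiSymm.quotSMulTopEquiv (IntMult.stalkIdeal IW ξ)
          (Ideal.span (Set.range g) ^ t))
    rw [key _ hg]
  · rw [hchi]
    have hFL : Groth.Agent.Lib.Helper87.KzSerre.FL (List.ofFn g)
        (X.presheaf.stalk ξ ⧸ IntMult.stalkIdeal IW ξ) := by
      unfold Groth.Agent.Lib.Helper87.KzSerre.FL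
      rw [hof]
      exact hfl
    rw [Groth.Agent.Lib.Helper87.TorKzD.chi_eq (X.presheaf.stalk ξ ⧸ IntMult.stalkIdeal IW ξ)
      (List.ofFn g) hreg.toIsWeaklyRegular hFL _ hof]
    exact Groth.Agent.Lib.Helper87.KzDim.chiK_pos_of_dim_eq c g hgm _ hfl hdimM

end Groth.Agent.S1874
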