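import Groth.Statements.S18741
-- import your own Groth.Agent.* helpers here

set_option autoImplicit false
universe v₁ v₂ v₃ u₁ u₂ u₃
open CategoryTheory
open ModPair

namespace Groth.Agent.S18741

section aux

variable {C : Type u₁} [Category.{v₁} C] (W : MorphismProperty C) [W.HasRightCalculusOfFractions] (S : C)

instance hasRight : (W.inverseImage (Over.forget S)).HasRightCalculusOfFractions where
  exists_rightFraction X Y φ := by
    obtain ⟨ψ, hψ⟩ := MorphismProperty.HasRightCalculusOfFractions.exists_rightFraction (W := W)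
      (MorphismProperty.LeftFraction.mk φ.f.left φ.s.left φ.hs)
    dsimp at hψ
    have h1 : ψ.f ≫ Y.hom = ψ.s ≫ X.hom := by
      have := Over.w φ.s
      have h2 := Over.w φ.f
      rw [← this, ← Category.assoc, ← hψ, Category.assoc, h2]
    refine ⟨MorphismProperty.RightFraction.mk (X' := Over.mk (ψ.s ≫ X.hom))
      (Over.homMk ψ.s rfl) ψ.hs (Over.homMk ψ.f h1), ?_⟩
    ext
    exact hψ
  ext X Y Y' f₁ f₂ s hs h := by
    obtain ⟨X', t, ht, h'⟩ := MorphismProperty.HasRightCalculusOfFractions.ext (W := W)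
      f₁.left f₂.left s.left hs (by rw [← Over.comp_left, h, Over.comp_left])
    refine ⟨Over.mk (t ≫ X.hom), Over.homMk t rfl, ht, ?_⟩
    ext
    exact h'

variable {D : Type u₂} [Category.{v₂} D] (L : C ⥤ D) [L.IsLocalization W]

include W in
/-- common denominators -/
lemma exists_common {X Y : C} (g₁ g₂ : L.obj X ⟶ L.obj Y) :
    ∃ (X' : C) (s : X' ⟶ X) (_ : W s) (f₁ f₂ : X' ⟶ Y),
      L.map s ≫ g₁ = L.map f₁ ∧ L.map s ≫ g₂ = L.map f₂ := by
  obtain ⟨φ₁, h₁⟩ := Localization.exists_rightFraction L W g₁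
  obtain ⟨ψ, h₂⟩ := Localization.exists_rightFraction L W (L.map φ₁.s ≫ g₂)
  refine ⟨_, ψ.s ≫ φ₁.s, W.comp_mem _ _ ψ.hs φ₁.hs, ψ.s ≫ φ₁.f, ψ.f, ?_, ?_⟩
  · rw [h₁, L.map_comp, Category.assoc, MorphismProperty.RightFraction.map_s_comp_map, L.map_comp]
  · rw [L.map_comp, Category.assoc, h₂, MorphismProperty.RightFraction.map_s_comp_map]

end aux

/-- Let C be a category, W a class of morphisms of C admitting a calculus of right fractions, and S an
object of C; let W_S be the class of morphisms of the slice category over S whose underlying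
morphism lies in W. Then the canonical functor from the localization of the slice category C/S at
W_S to the slice category over S of the localization of C at W is an equivalence: for every
localization functor L : C ⥤ D at W, every localization functor L' : C/S ⥤ E at W_S, and every
functor Φ : E ⥤ D/L(S) through which the functor C/S ⥤ D/L(S) induced by L factors up to
isomorphism, Φ is an equivalence of categories. -/
theorem result {C : Type u₁}
    [Category.{v₁} C] (W : MorphismProperty C) [W.HasRightCalculusOfFractions] (S : C)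
    {D : Type u₂} [Category.{v₂} D] (L : C ⥤ D) [L.IsLocalization W]
    {E : Type u₃} [Category.{v₃} E] (L' : Over S ⥤ E)
    [L'.IsLocalization (W.inverseImage (Over.forget S))]
    (Φ : E ⥤ Over (L.obj S)) (e : L' ⋙ Φ ≅ Over.post L) : Φ.IsEquivalence := by
  have hinv : (W.inverseImage (Over.forget S)).IsInvertedBy L' := Localization.inverts L' _
  have hL : W.IsInvertedBy L := Localization.inverts L W
  -- key: naturality
  have nat : ∀ {X Y : Over S} (f : X ⟶ Y),
      Φ.map (L'.map f) = e.hom.app X ≫ (Over.post L).map f ≫ e.inv.app Y := by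
    intro X Y f
    have := e.hom.naturality f
    simp only [Functor.comp_map] at this
    rw [← Category.assoc, ← this, Category.assoc, Iso.hom_inv_id_app, Category.comp_id]
  -- faithful on objects in the image
  have faith : ∀ {X Y : Over S} (g₁ g₂ : L'.obj X ⟶ L'.obj Y), Φ.map g₁ = Φ.map g₂ → g₁ = g₂ := by
    intro X Y g₁ g₂ h
    obtain ⟨X', s, hs, f₁, f₂, h₁, h₂⟩ := exists_common (W.inverseImage (Over.forget S)) L' g₁ g₂
    have : IsIso (L'.map s) := hinv s hs
    rw [← cancel_epi (L'.map s), h₁, h₂]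
    have h3 : Φ.map (L'.map f₁) = Φ.map (L'.map f₂) := by
      rw [← h₁, ← h₂, Φ.map_comp, Φ.map_comp, h]
    rw [nat, nat] at h3
    have h4 : (Over.post L).map f₁ = (Over.post L).map f₂ := by
      rw [cancel_epi] at h3
      exact (cancel_mono _).1 h3
    have h5 : L.map f₁.left = L.map f₂.left := congrArg CommaMorphism.left h4
    rw [MorphismProperty.map_eq_iff_precomp L W] at h5
    obtain ⟨Z, t, ht, htf⟩ := h5
    rw [MorphismProperty.map_eq_iff_precomp L' (W.inverseImage (Over.forget S))]
    refine ⟨Over.mk (t ≫ X'.hom), Over.homMk t rfl, ht, ?_⟩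
    ext
    exact htf
  have full : ∀ {X Y : Over S} (h : Φ.obj (L'.obj X) ⟶ Φ.obj (L'.obj Y)), ∃ g, Φ.map g = h := by
    intro X Y h
    let h' : (Over.post L).obj X ⟶ (Over.post L).obj Y := e.inv.app X ≫ h ≫ e.hom.app Y
    have hh : h = e.hom.app X ≫ h' ≫ e.inv.app Y := by simp [h']
    let hl : L.obj X.left ⟶ L.obj Y.left := h'.left
    obtain ⟨φ, hφ⟩ := Localization.exists_rightFraction L W hl
    have hw : hl ≫ L.map Y.hom = L.map X.hom := Over.w h'
    have hφ' : L.map φ.s ≫ hl = L.map φ.f := by
      rw [hφ, MorphismProperty.RightFraction.map_s_comp_map]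
    have h6 : L.map (φ.f ≫ Y.hom) = L.map (φ.s ≫ X.hom) := by
      rw [L.map_comp, L.map_comp, ← hw, ← hφ', Category.assoc]
    rw [MorphismProperty.map_eq_iff_precomp L W] at h6
    obtain ⟨Z, t, ht, htf⟩ := h6
    let X'' : Over S := Over.mk (t ≫ φ.s ≫ X.hom)
    let s' : X'' ⟶ X := Over.homMk (t ≫ φ.s) (by simp [X''])
    let f' : X'' ⟶ Y := Over.homMk (t ≫ φ.f) (by simpa [X''] using htf)
    have hs' : (W.inverseImage (Over.forget S)) s' := W.comp_mem _ _ ht φ.hs
    have : IsIso (L'.map s') := hinv s' hs'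
    refine ⟨inv (L'.map s') ≫ L'.map f', ?_⟩
    have : IsIso (Φ.map (L'.map s')) := inferInstance
    rw [Φ.map_comp, Functor.map_inv, IsIso.inv_comp_eq, hh, nat, nat]
    simp only [Category.assoc, Iso.inv_hom_id_app_assoc]
    congr 1
    rw [← Category.assoc]
    congr 1
    ext
    rw [Over.comp_left]
    simp only [Over.post_map, Over.homMk_left, f', s']
    change L.map (t ≫ φ.f) = L.map (t ≫ φ.s) ≫ hl
    rw [L.map_comp, L.map_comp, Category.assoc, hφ']
  have hess : L'.EssSurj := Localization.essSurj L' (W.inverseImage (Over.forget S))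
  have hessD : L.EssSurj := Localization.essSurj L W
  refine { faithful := ⟨?_⟩, full := ⟨?_⟩, essSurj := ⟨?_⟩ }
  · intro A B g₁ g₂ h
    let a := L'.objObjPreimageIso A
    let b := L'.objObjPreimageIso B
    have := faith (a.hom ≫ g₁ ≫ b.inv) (a.hom ≫ g₂ ≫ b.inv) (by simp [h])
    simpa using this
  · intro A B g
    let a := L'.objObjPreimageIso A
    let b := L'.objObjPreimageIso B
    obtain ⟨k, hk⟩ := full (Φ.map a.hom ≫ g ≫ Φ.map b.inv)
    refine ⟨a.inv ≫ k ≫ b.hom, ?_⟩
    rw [Φ.map_comp, Φ.map_comp, hk]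
    simp [← Φ.map_comp, ← Φ.map_comp_assoc]
  · intro A
    let i := L.objObjPreimageIso A.left
    obtain ⟨φ, hφ⟩ := Localization.exists_rightFraction L W
      (X := L.objPreimage A.left) (Y := S) (i.hom ≫ A.hom)
    have : IsIso (L.map φ.s) := hL _ φ.hs
    let j : ((Over.post L).obj (Over.mk φ.f)).left ≅ A.left :=
      Localization.isoOfHom L W φ.s φ.hs ≪≫ i
    have hj : j.hom ≫ A.hom = ((Over.post L).obj (Over.mk φ.f)).hom := by
      change (L.map φ.s ≫ i.hom) ≫ A.hom = L.map φ.f
      rw [Category.assoc, hφ, MorphismProperty.RightFraction.map_s_comp_map]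
    exact ⟨L'.obj (Over.mk φ.f), ⟨e.app _ ≪≫ Over.isoMk j hj⟩⟩

end Groth.Agent.S18741
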