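import Groth.Statements.S18743
import Groth.Agent.Lib.Helper56.ModPairDense

set_option autoImplicit false
universe u
open CategoryTheory CategoryTheory.Limits AlgebraicGeometry TopologicalSpace
open ModPair

namespace Groth.Agent.S18743

/-- Let (S, I_S), (T, I_T), (X, I_X) be schemes equipped with quasi-coherent ideal sheaves of effective
Cartier divisors, p : X ⟶ S a morphism with the modulus condition I_X ≤ I_S.comap p, and f : T ⟶ S a
minimal morphism (I_T = I_S.comap f) which is flat. Then the ambient product of (T, I_T) and (X,
I_X) over (S, I_S) has total space all of X ×_S T with modulus pulled back from X: the open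
pr₁⁻¹(X°) ∩ pr₂⁻¹(T°) (X°, T° the complements of the supports) is scheme-theoretically dominant in X
×_S T, the closed immersion of its scheme-theoretic image is an isomorphism, and I_X.comap pr₁ is
the ideal sheaf of an effective Cartier divisor. -/
theorem result {S T X : Scheme.{u}} (IS : S.IdealSheafData)
    (IT : T.IdealSheafData) (IX : X.IdealSheafData) (hS : BlowUp.IsEffCartierIdeal IS)
    (hT : BlowUp.IsEffCartierIdeal IT) (hX : BlowUp.IsEffCartierIdeal IX)
    (p : X ⟶ S) (hp : ModPair.IsAmbient IX IS p) (f : T ⟶ S) (hf : ModPair.IsMinimal IT IS f) [Flat f] :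
    IsSchemeTheoreticallyDominant (ModPair.prodInterior p f IX IT).ι ∧
      IsIso (ModPair.mprodι p f IX IT) ∧
      BlowUp.IsEffCartierIdeal (IX.comap (pullback.fst p f)) := by
  have h1 := Groth.Agent.Lib.Helper56.ModPairDense.isSchemeTheoreticallyDominant_prodInterior_ι
    IS IT IX p f hX hp hf
  refine ⟨h1, ?_, ?_⟩
  · exact (Scheme.isIso_subschemeι_iff_eq_bot _).mpr h1.ker_eq_bot
  · have hU := Groth.Agent.Lib.Helper56.ModPairDense.prodInterior_eq_fst IS IT IX p f hp hf
    rw [hU] at h1
    exact Groth.Agent.Lib.Helper56.ModPairDense.isEffCartierIdeal_comap_of_dominant IX hX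
      (pullback.fst p f)

end Groth.Agent.S18743
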