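import Groth.Statements.S18744
import Groth.Agent.Lib.Helper56.ModPairLocus

set_option autoImplicit false
universe u
open CategoryTheory CategoryTheory.Limits AlgebraicGeometry TopologicalSpace
open ModPair

namespace Groth.Agent.S18744

theorem injective_presheaf_map_of_eq {X : Scheme.{u}} {V V' : X.Opens} (h : V = V') (e : V ≤ V') :
    Function.Injective (X.presheaf.map (homOfLE e).op) := by
  subst h
  have : (homOfLE e).op = 𝟙 _ := Subsingleton.elim _ _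
  rw [this, X.presheaf.map_id]
  exact fun _ _ h => h

theorem exists_appLE_eq {I : Type u}
    [SmallCategory I] [IsCofiltered I] (D : I ⥤ Scheme.{u}) (c : Cone D) (hc : IsLimit c)
    [∀ (i j : I) (t : i ⟶ j), IsAffineHom (D.map t)] (i : I) (W : (D.obj i).Opens)
    (hW : IsAffineOpen W) (a : Γ(c.pt, c.π.app i ⁻¹ᵁ W)) :
    ∃ (j : Over i) (b : Γ(D.obj j.left, D.map j.hom ⁻¹ᵁ W)),
      (c.π.app j.left).appLE (D.map j.hom ⁻¹ᵁ W) (c.π.app i ⁻¹ᵁ W)
        (by rw [← Scheme.Hom.comp_preimage, c.w]) b = a := by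
  have hDaff : ∀ j : Over i, IsAffine ((opensDiagram D i W).obj j) :=
    fun j => hW.preimage (D.map j.hom)
  obtain ⟨j, b', hb'⟩ := exists_appTop_π_eq_of_isAffine_of_isLimit (opensDiagram D i W)
    (opensCone D c i W) (isLimitOpensCone D c hc i W) ((c.π.app i ⁻¹ᵁ W).topIso.inv a)
  refine ⟨j, (D.map j.hom ⁻¹ᵁ W).topIso.hom b', ?_⟩
  have h1 : ((opensCone D c i W).π.app j).appTop =
      (D.map j.hom ⁻¹ᵁ W).topIso.hom ≫ (c.π.app j.left).appLE (D.map j.hom ⁻¹ᵁ W)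
        (c.π.app i ⁻¹ᵁ W) (by rw [← Scheme.Hom.comp_preimage, c.w]) ≫
        (c.π.app i ⁻¹ᵁ W).topIso.inv := by
    rw [opensCone_π_app]
    exact Scheme.Hom.resLE_app_top _ _
  rw [h1] at hb'
  have h3 : (c.π.app i ⁻¹ᵁ W).topIso.inv ((c.π.app j.left).appLE (D.map j.hom ⁻¹ᵁ W)
      (c.π.app i ⁻¹ᵁ W) (by rw [← Scheme.Hom.comp_preimage, c.w])
      ((D.map j.hom ⁻¹ᵁ W).topIso.hom b')) = (c.π.app i ⁻¹ᵁ W).topIso.inv a := hb'
  have h4 := congrArg (c.π.app i ⁻¹ᵁ W).topIso.hom h3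
  rwa [Iso.inv_hom_id_apply, Iso.inv_hom_id_apply] at h4

theorem appLE_congr_hom {X Y : Scheme.{u}} {f g : X ⟶ Y} (h : f = g) (U : Y.Opens) (V : X.Opens)
    (e : V ≤ f ⁻¹ᵁ U) : f.appLE U V e = g.appLE U V (h ▸ e) := by
  subst h; rfl

/-- Let (X_i, I_i) be a cofiltered system of schemes equipped with quasi-coherent ideal sheaves of
effective Cartier divisors, with affine and minimal transition morphisms (the modulus of X_i is the
pull-back of the modulus of X_j along each transition morphism X_i ⟶ X_j), and let X be its limit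
with projections π_i. Then the pulled-back ideal I_i.comap π_i is the ideal sheaf of an effective
Cartier divisor on X for every i; with this modulus X is a modulus pair mapping minimally to each
(X_i, I_i). (The source allows the conditions on the transition morphisms to hold only beyond some
index; here they are assumed throughout.) -/
theorem result {I : Type u}
    [SmallCategory I] [IsCofiltered I] (D : I ⥤ Scheme.{u}) (c : Cone D) (hc : IsLimit c)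
    [∀ (i j : I) (t : i ⟶ j), IsAffineHom (D.map t)]
    (J : ∀ i, (D.obj i).IdealSheafData) (hJ : ∀ i, BlowUp.IsEffCartierIdeal (J i))
    (hmin : ∀ (i j : I) (t : i ⟶ j), ModPair.IsMinimal (J i) (J j) (D.map t)) (i : I) :
    BlowUp.IsEffCartierIdeal ((J i).comap (c.π.app i)) := by
  have haff : ∀ j, IsAffineHom (c.π.app j) := fun j => isAffineHom_π_app D c hc j
  intro x
  obtain ⟨W, hyW, t, ht, hJW⟩ := hJ i (c.π.app i x)
  have hW'aff : IsAffineOpen (c.π.app i ⁻¹ᵁ W.1) := W.2.preimage (c.π.app i)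
  refine ⟨⟨c.π.app i ⁻¹ᵁ W.1, hW'aff⟩, hyW, (c.π.app i).appLE W.1 _ le_rfl t, ?_, ?_⟩
  swap
  · rw [Groth.Agent.Lib.Helper20.ideal_comap (c.π.app i) (J i) ⟨_, hW'aff⟩ W le_rfl, hJW,
      Ideal.map_span, Set.image_singleton]
  rw [mem_nonZeroDivisors_iff_right]
  intro a ha
  obtain ⟨j, b, rfl⟩ := exists_appLE_eq D c hc i W.1 W.2 a
  have hWjaff : IsAffineOpen (D.map j.hom ⁻¹ᵁ W.1) := W.2.preimage (D.map j.hom)
  have e : c.π.app i ⁻¹ᵁ W.1 ≤ c.π.app j.left ⁻¹ᵁ (D.map j.hom ⁻¹ᵁ W.1) := by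
    rw [← Scheme.Hom.comp_preimage, c.w]
  -- the generator at stage `j`
  have h1 : (c.π.app i).appLE W.1 (c.π.app i ⁻¹ᵁ W.1) le_rfl =
      (D.map j.hom).app W.1 ≫ (c.π.app j.left).appLE (D.map j.hom ⁻¹ᵁ W.1)
        (c.π.app i ⁻¹ᵁ W.1) e := by
    rw [appLE_congr_hom (c.w j.hom).symm W.1 (c.π.app i ⁻¹ᵁ W.1) le_rfl, Scheme.Hom.comp_appLE]
  rw [h1, ConcreteCategory.comp_apply, ← map_mul] at ha
  -- injectivity on the limit
  have h2 : (c.π.app j.left).app (D.map j.hom ⁻¹ᵁ W.1) (b * (D.map j.hom).app W.1 t) = 0 := by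
    have hinj := injective_presheaf_map_of_eq
      (show c.π.app i ⁻¹ᵁ W.1 = c.π.app j.left ⁻¹ᵁ (D.map j.hom ⁻¹ᵁ W.1) by
        rw [← Scheme.Hom.comp_preimage, c.w]) e
    apply hinj
    rw [map_zero]
    exact ha
  obtain ⟨k, f, hk⟩ := exists_app_map_eq_zero_of_isLimit D c hc hWjaff.isCompact _ h2
  rw [map_mul] at hk
  have hWkaff : IsAffineOpen (D.map f ⁻¹ᵁ (D.map j.hom ⁻¹ᵁ W.1)) := hWjaff.preimage (D.map f)
  have hJk : (J k).ideal ⟨_, hWkaff⟩ =
      Ideal.span {((D.map f).app (D.map j.hom ⁻¹ᵁ W.1)).hom (((D.map j.hom).app W.1).hom t)} := by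
    rw [hmin k j.left f, Groth.Agent.Lib.Helper20.ideal_comap (D.map f) (J j.left) ⟨_, hWkaff⟩
      ⟨_, hWjaff⟩ le_rfl, hmin j.left i j.hom,
      Groth.Agent.Lib.Helper20.ideal_comap (D.map j.hom) (J i) ⟨_, hWjaff⟩ W le_rfl, hJW,
      Ideal.map_span, Set.image_singleton, Ideal.map_span, Set.image_singleton,
      Scheme.Hom.appLE_eq_app, Scheme.Hom.appLE_eq_app]
  have hnzd := Groth.Agent.Lib.Helper56.ModPairLocus.mem_nonZeroDivisors_of_ideal_eq_span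
    (J k) (hJ k) ⟨_, hWkaff⟩ _ hJk
  have hb0 : ((D.map f).app (D.map j.hom ⁻¹ᵁ W.1)).hom b = 0 :=
    (mem_nonZeroDivisors_iff_right.mp hnzd) _ hk
  have e' : c.π.app i ⁻¹ᵁ W.1 ≤ c.π.app k ⁻¹ᵁ (D.map f ⁻¹ᵁ (D.map j.hom ⁻¹ᵁ W.1)) := by
    rw [← Scheme.Hom.comp_preimage, c.w, ← Scheme.Hom.comp_preimage, c.w]
  have h3 : (c.π.app j.left).appLE (D.map j.hom ⁻¹ᵁ W.1) (c.π.app i ⁻¹ᵁ W.1) e =
      (D.map f).app (D.map j.hom ⁻¹ᵁ W.1) ≫ (c.π.app k).appLE
        (D.map f ⁻¹ᵁ (D.map j.hom ⁻¹ᵁ W.1)) (c.π.app i ⁻¹ᵁ W.1) e' := by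
    rw [appLE_congr_hom (c.w f).symm (D.map j.hom ⁻¹ᵁ W.1) (c.π.app i ⁻¹ᵁ W.1) e,
      Scheme.Hom.comp_appLE]
  rw [h3, ConcreteCategory.comp_apply]
  show ((c.π.app k).appLE _ _ e').hom (((D.map f).app (D.map j.hom ⁻¹ᵁ W.1)).hom b) = 0
  rw [hb0, map_zero]

end Groth.Agent.S18744
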