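import Groth.Statements.S18747
import Mathlib
import Groth.Prelude.Def_W4c6modpairsegaMP
-- import your own Groth.Agent.* helpers here

set_option autoImplicit false
universe u
open CategoryTheory CategoryTheory.Limits AlgebraicGeometry TopologicalSpace
open ModPair

namespace Groth.Agent.S18747
open Limits


variable {σ : Type u} (X : σ → Scheme.{u}) (I : ∀ i, (X i).IdealSheafData)

noncomputable abbrev Z (i : σ) : Scheme.{u} := (I i).subscheme

noncomputable def cmap : (∐ fun i => (I i).subscheme) ⟶ ∐ X :=
  Limits.Sigma.map (fun i => (I i).subschemeι)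

lemma ι_cmap (i : σ) :
    Sigma.ι (fun i => (I i).subscheme) i ≫ cmap X I = (I i).subschemeι ≫ Sigma.ι X i := by
  simp [cmap]

lemma sigma_exists {Y : σ → Scheme.{u}} (z : ↥(∐ Y)) : ∃ (i : σ) (y : Y i), Sigma.ι Y i y = z := by
  obtain ⟨i, y, hy⟩ := (sigmaOpenCover Y).exists_eq z
  exact ⟨i, y, hy⟩

lemma sigma_idx_eq {Y : σ → Scheme.{u}} {i j : σ} (y : Y i) (y' : Y j)
    (h : Sigma.ι Y i y = Sigma.ι Y j y') : i = j := by
  by_contra hne
  have := disjoint_opensRange_sigmaι Y i j hne
  rw [disjoint_iff] at this
  have hmem : Sigma.ι Y i y ∈ (Sigma.ι Y i).opensRange ⊓ (Sigma.ι Y j).opensRange :=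
    ⟨⟨y, rfl⟩, ⟨y', h.symm⟩⟩
  rw [this] at hmem
  exact hmem

lemma cmap_apply (j : σ) (z' : (I j).subscheme) :
    (cmap X I) (Sigma.ι (fun i => (I i).subscheme) j z') =
      Sigma.ι X j ((I j).subschemeι z') := by
  have := congrArg (fun f => f z') (ι_cmap X I j)
  simpa using this

lemma isPullback_cmap (i : σ) :
    IsPullback (I i).subschemeι (Sigma.ι (fun i => (I i).subscheme) i) (Sigma.ι X i)
      (cmap X I) := by
  refine IsOpenImmersion.isPullback _ _ _ _ (ι_cmap X I i) ?_
  ext z
  constructor
  · intro hz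
    obtain ⟨j, z', rfl⟩ := sigma_exists z
    obtain ⟨x, hx⟩ := hz
    have h1 := cmap_apply X I j z'
    have hx' : Sigma.ι X i x = Sigma.ι X j ((I j).subschemeι z') := hx.trans h1
    obtain rfl := sigma_idx_eq _ _ hx'
    exact ⟨z', rfl⟩
  · rintro ⟨z', rfl⟩
    refine ⟨(I i).subschemeι z', ?_⟩
    exact (cmap_apply X I i z').symm

instance : IsClosedImmersion (cmap X I) := by
  rw [IsZariskiLocalAtTarget.iff_of_openCover (P := @IsClosedImmersion) (sigmaOpenCover X)]
  intro i
  have sq := (isPullback_cmap X I i).flip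
  have h := sq.isoPullback_hom_snd
  have : pullback.snd (cmap X I) (Sigma.ι X i) = sq.isoPullback.inv ≫ (I i).subschemeι :=
    (Iso.eq_inv_comp _).mpr h
  show IsClosedImmersion (pullback.snd (cmap X I) ((sigmaOpenCover X).f i))
  change IsClosedImmersion (pullback.snd (cmap X I) (Sigma.ι X i))
  rw [this]
  infer_instance

noncomputable def K : (∐ X).IdealSheafData := (cmap X I).ker

lemma K_comap (i : σ) : (K X I).comap (Sigma.ι X i) = I i := by
  have sq := isPullback_cmap X I i
  have h := sq.isoPullback_hom_fst
  have h2 : pullback.fst (Sigma.ι X i) (cmap X I) = sq.isoPullback.inv ≫ (I i).subschemeι :=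
    (Iso.eq_inv_comp _).mpr h
  rw [K, ← Scheme.IdealSheafData.ker_fst_of_isClosedImmersion, h2,
    Scheme.Hom.ker_comp_of_isIso, Scheme.IdealSheafData.ker_subschemeι]

lemma le_of_comap_le (L L' : (∐ X).IdealSheafData)
    (h : ∀ i, L.comap (Sigma.ι X i) ≤ L'.comap (Sigma.ι X i)) : L ≤ L' := by
  refine Scheme.IdealSheafData.le_of_iSup_eq_top
    (ι := Σ i, (X i).affineOpens)
    (fun p => ⟨Sigma.ι X p.1 ''ᵁ p.2.1, p.2.2.image_of_isOpenImmersion _⟩) ?_ ?_
  · rw [eq_top_iff]
    intro z _
    obtain ⟨i, x, rfl⟩ := sigma_exists z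
    obtain ⟨_, ⟨V, hV : IsAffineOpen V, rfl⟩, hxV, -⟩ :=
      (X i).isBasis_affineOpens.exists_subset_of_mem_open (Set.mem_univ x) isOpen_univ
    exact TopologicalSpace.Opens.mem_iSup.mpr ⟨⟨i, ⟨V, hV⟩⟩, ⟨x, hxV, rfl⟩⟩
  · rintro ⟨i, V⟩
    have h1 := h i V
    rw [Scheme.IdealSheafData.ideal_comap_of_isOpenImmersion,
      Scheme.IdealSheafData.ideal_comap_of_isOpenImmersion] at h1
    have hsurj : Function.Surjective ((Sigma.ι X i).appIso V.1).inv.hom :=
      ((Sigma.ι X i).appIso V.1).symm.commRingCatIsoToRingEquiv.surjective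
    exact (Ideal.comap_le_comap_iff_of_surjective _ hsurj _ _).mp h1

lemma K_cartier (hI : ∀ i, BlowUp.IsEffCartierIdeal (I i)) :
    BlowUp.IsEffCartierIdeal (K X I) := by
  intro z
  obtain ⟨i, x, rfl⟩ := sigma_exists z
  obtain ⟨V, hxV, f, hf, hfI⟩ := hI i x
  refine ⟨⟨Sigma.ι X i ''ᵁ V.1, V.2.image_of_isOpenImmersion _⟩, ⟨x, hxV, rfl⟩, ?_⟩
  let e := ((Sigma.ι X i).appIso V.1).commRingCatIsoToRingEquiv
  have hK := congrArg (fun J => J.ideal V) (K_comap X I i)
  simp only [Scheme.IdealSheafData.ideal_comap_of_isOpenImmersion] at hK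
  refine ⟨e.symm f, ?_, ?_⟩
  · rw [mem_nonZeroDivisors_iff_right] at hf ⊢
    intro y hy
    have : e y * f = 0 := by
      have := congrArg e hy
      simpa using this
    have := hf _ this
    simpa using this
  · have h2 : (K X I).ideal ⟨Sigma.ι X i ''ᵁ V.1, V.2.image_of_isOpenImmersion _⟩ =
        ((I i).ideal V).comap (e : _ →+* _) := by
      rw [← hK]
      ext y
      simp only [Ideal.mem_comap]
      have : ((Sigma.ι X i).appIso V.1).inv.hom (e y) = y :=
        ((Sigma.ι X i).appIso V.1).commRingCatIsoToRingEquiv.symm_apply_apply y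
      erw [this]
    rw [h2, hfI]
    ext y
    simp only [Ideal.mem_comap, Ideal.mem_span_singleton]
    constructor
    · rintro ⟨c, hc⟩
      refine ⟨e.symm c, ?_⟩
      have := congrArg e.symm hc
      simpa using this
    · rintro ⟨c, hc⟩
      refine ⟨e c, ?_⟩
      rw [hc]
      simp

open ModPair

variable (P : σ → ModPair.Pair.{u})

noncomputable def coprodPair : ModPair.Pair.{u} where
  total := ∐ fun i => (P i).total
  mod := K (fun i => (P i).total) (fun i => (P i).mod)
  isEffCartier := K_cartier _ _ (fun i => (P i).isEffCartier)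

noncomputable def inj (i : σ) : P i ⟶ coprodPair P :=
  ⟨Sigma.ι (fun i => (P i).total) i, by
    show (P i).mod ≤ (K (fun i => (P i).total) (fun i => (P i).mod)).comap
      (Sigma.ι (fun i => (P i).total) i)
    rw [K_comap]⟩

noncomputable def cofan : Cofan P := Cofan.mk (coprodPair P) (inj P)

noncomputable def descHom (t : Cofan P) : coprodPair P ⟶ t.pt :=
  ⟨Sigma.desc (fun i => (t.inj i).hom), by
    have : K (fun i => (P i).total) (fun i => (P i).mod) ≤
        t.pt.mod.comap (Sigma.desc (fun i => (t.inj i).hom) :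
          (∐ fun i => (P i).total) ⟶ t.pt.total) := by
      apply le_of_comap_le
      intro i
      rw [K_comap, ← Scheme.IdealSheafData.comap_comp, Sigma.ι_desc]
      exact (t.inj i).cond
    exact this⟩

noncomputable def isColimitCofan : IsColimit (cofan P) :=
  Cofan.IsColimit.mk (cofan P) (descHom P)
    (fun t j => by
      apply ModPair.Pair.Hom.ext
      exact Sigma.ι_desc _ _)
    (fun t m hm => by
      apply ModPair.Pair.Hom.ext
      apply Sigma.hom_ext
      intro j
      have := congrArg ModPair.Pair.Hom.hom (hm j)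
      exact this.trans (Sigma.ι_desc (fun i => (t.inj i).hom) j).symm)

noncomputable def isColimitMap : IsColimit (ModPair.Pair.forget.mapCocone (cofan P)) where
  desc s := Sigma.desc (fun i => s.ι.app ⟨i⟩)
  fac s j := by
    obtain ⟨i⟩ := j
    exact Sigma.ι_desc _ _
  uniq s m hm := by
    apply Sigma.hom_ext
    intro i
    exact (hm ⟨i⟩).trans (Sigma.ι_desc (fun i => s.ι.app ⟨i⟩) i).symm


/-- The category of modulus pairs and ambient morphisms admits coproducts (indexed by any type in the
universe of the schemes involved), and the total-space functor to schemes preserves them: the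
coproduct of a family (X_i, I_i) is the disjoint union of the X_i with the modulus restricting to
I_i on each summand. (The published statement adds that the total-space functor detects coproducts;
read as reflection of coproducts this fails, since the identity of a scheme X is an ambient morphism
from (X, I) to (X, unit ideal) whose image is trivially a coproduct of the one-member family while
(X, unit ideal) is not the coproduct of (X, I) when I is not the unit ideal; only existence and
preservation are stated.) -/
theorem result (σ : Type u) :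
    HasColimitsOfShape (Discrete σ) ModPair.Pair.{u} ∧
      PreservesColimitsOfShape (Discrete σ) ModPair.Pair.forget.{u} := by
  constructor
  · constructor
    intro F
    haveI : HasColimit (Discrete.functor (F.obj ∘ Discrete.mk)) :=
      ⟨⟨⟨cofan _, isColimitCofan _⟩⟩⟩
    exact hasColimit_of_iso Discrete.natIsoFunctor
  · haveI : ∀ f : σ → ModPair.Pair.{u}, PreservesColimit (Discrete.functor f) ModPair.Pair.forget :=
      fun f => preservesColimit_of_preserves_colimit_cocone (isColimitCofan f) (isColimitMap f)
    exact preservesColimitsOfShape_of_discrete _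

end Groth.Agent.S18747
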