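import Groth.Statements.S7457
import Groth.Agent.Lib.Helper38.GrpdLib

set_option autoImplicit false
universe u
open CategoryTheory CategoryTheory.Limits AlgebraicGeometry
open Grpd

namespace Groth.Agent.S7457

/-- Let (U, R, s, t, c) be a groupoid scheme over S. Let φ : R x_(t,U,t) R -> R x_(s,U,t) R be the
morphism sending a pair (a, b) with the same target to (a, a^{-1} composed with b), that is, the
morphism whose first component is the first projection and whose second component is c applied to (i
composed after the first projection, second projection). Then φ is an isomorphism and composed with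
c it gives the second projection. Moreover the square with sides c, the second projection R
x_(s,U,t) R -> R, s and s is cartesian. (A groupoid scheme carries U, R, s, t, c, e, i over S with
the groupoid axioms on T-points; c is defined on the fibre product of s and t and sends a pair (a,
b) with s(a) = t(b) to a composed with b.) -/
theorem result (S : Scheme.{u}) (G : Grpd.GroupoidScheme S) : (∀ φ : pullback G.t G.t ⟶ pullback G.s G.t, φ ≫ pullback.fst G.s G.t = pullback.fst G.t G.t → φ ≫ pullback.snd G.s G.t = pullback.lift (pullback.fst G.t G.t ≫ G.i) (pullback.snd G.t G.t) ((Category.assoc _ _ _).trans ((congrArg (fun x => pullback.fst G.t G.t ≫ x) G.i_s).trans pullback.condition)) ≫ G.c → IsIso φ ∧ φ ≫ G.c = pullback.snd G.t G.t) ∧ IsPullback G.c (pullback.snd G.s G.t) G.s G.s := by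
  have hc : G.c = Groth.Agent.Lib.Helper38.GrpdLib.mul (pullback.fst G.s G.t) (pullback.snd G.s G.t)
      pullback.condition := by
    have := Groth.Agent.Lib.Helper38.GrpdLib.comp_c (G := G) (𝟙 (pullback G.s G.t))
    rw [Category.id_comp] at this
    rw [this]
    exact Groth.Agent.Lib.Helper38.GrpdLib.mul_congr (Category.id_comp _) (Category.id_comp _) _
  refine ⟨?_, ?_⟩
  · intro φ h1 h2
    have h2' : φ ≫ pullback.snd G.s G.t = Groth.Agent.Lib.Helper38.GrpdLib.mul
        (pullback.fst G.t G.t ≫ G.i) (pullback.snd G.t G.t)
        (by rw [Category.assoc, G.i_s, pullback.condition]) := h2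
    have hφc : φ ≫ G.c = pullback.snd G.t G.t := by
      rw [Groth.Agent.Lib.Helper38.GrpdLib.comp_c,
        Groth.Agent.Lib.Helper38.GrpdLib.mul_congr h1 h2']
      exact Groth.Agent.Lib.Helper38.GrpdLib.mul_i_mul _ _ pullback.condition
    refine ⟨?_, hφc⟩
    let ψ : pullback G.s G.t ⟶ pullback G.t G.t :=
      pullback.lift (pullback.fst G.s G.t) G.c
        (by rw [Groth.Agent.Lib.Helper38.GrpdLib.c_t])
    refine ⟨ψ, ?_, ?_⟩
    · apply pullback.hom_ext
      · rw [Category.assoc, pullback.lift_fst, h1, Category.id_comp]
      · rw [Category.assoc, pullback.lift_snd, hφc, Category.id_comp]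
    · apply pullback.hom_ext
      · rw [Category.assoc, h1, pullback.lift_fst, Category.id_comp]
      · rw [Category.assoc, h2', Groth.Agent.Lib.Helper38.GrpdLib.comp_mul, Category.id_comp]
        have e1 : ψ ≫ pullback.fst G.t G.t ≫ G.i = pullback.fst G.s G.t ≫ G.i := by
          rw [← Category.assoc, pullback.lift_fst]
        have e2 : ψ ≫ pullback.snd G.t G.t = Groth.Agent.Lib.Helper38.GrpdLib.mul
            (pullback.fst G.s G.t) (pullback.snd G.s G.t) pullback.condition := by
          rw [pullback.lift_snd]
          exact hc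
        rw [Groth.Agent.Lib.Helper38.GrpdLib.mul_congr e1 e2]
        exact Groth.Agent.Lib.Helper38.GrpdLib.i_mul_mul _ _ pullback.condition
  · refine ⟨⟨Groth.Agent.Lib.Helper38.GrpdLib.c_s G⟩, ⟨?_⟩⟩
    refine PullbackCone.IsLimit.mk _
      (fun s' => pullback.lift
        (Groth.Agent.Lib.Helper38.GrpdLib.mul s'.fst (s'.snd ≫ G.i)
          (by rw [Category.assoc, G.i_t, s'.condition]))
        s'.snd
        (by rw [Groth.Agent.Lib.Helper38.GrpdLib.mul_s, Category.assoc, G.i_s])) ?_ ?_ ?_
    · intro s'
      rw [Groth.Agent.Lib.Helper38.GrpdLib.comp_c,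
        Groth.Agent.Lib.Helper38.GrpdLib.mul_congr (pullback.lift_fst _ _ _)
          (pullback.lift_snd _ _ _)]
      exact Groth.Agent.Lib.Helper38.GrpdLib.mul_i_mul' _ _ s'.condition
    · intro s'
      rw [pullback.lift_snd]
    · intro s' m hm1 hm2
      apply pullback.hom_ext
      · rw [pullback.lift_fst]
        have hm1' : s'.fst = Groth.Agent.Lib.Helper38.GrpdLib.mul (m ≫ pullback.fst G.s G.t)
            (m ≫ pullback.snd G.s G.t)
            (by rw [Category.assoc, Category.assoc, pullback.condition]) := by
          rw [← hm1]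
          exact Groth.Agent.Lib.Helper38.GrpdLib.comp_c m
        have hm2' : s'.snd ≫ G.i = (m ≫ pullback.snd G.s G.t) ≫ G.i := by rw [hm2]
        rw [Groth.Agent.Lib.Helper38.GrpdLib.mul_congr hm1' hm2']
        exact (Groth.Agent.Lib.Helper38.GrpdLib.mul_mul_i _ _ _).symm
      · rw [pullback.lift_snd]
        exact hm2


end Groth.Agent.S7457
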