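import Groth.Statements.S1877
import Groth.Agent.Lib.Helper76.QuotAlg2
import Groth.Agent.S7457
import Groth.Agent.Lib.Helper38.GrpdLib
import Mathlib

set_option autoImplicit false
universe u
open CategoryTheory CategoryTheory.Limits AlgebraicGeometry
open Grpd

namespace Groth.Agent.S1877

open Groth.Agent.Lib.Helper76

theorem span_mul_mem {A B : Type*} [CommRing A] [CommRing B] [Algebra A B] (s : Set B)
    (hs : ∀ x ∈ s, ∀ y ∈ s, x * y ∈ s) {x y : B} (hx : x ∈ Submodule.span A s)
    (hy : y ∈ Submodule.span A s) : x * y ∈ Submodule.span A s := by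
  have h1 : x * y ∈ Submodule.span A s * Submodule.span A s := Submodule.mul_mem_mul hx hy
  rw [Submodule.span_mul_span] at h1
  refine Submodule.span_mono ?_ h1
  rintro _ ⟨a, ha, b, hb, rfl⟩
  exact hs a ha b hb

/-- Let (U, R, s, t, c) be a groupoid scheme over S with U and R affine, s and t finite locally free,
and j = (t, s) : R → U ×_S U a monomorphism (so an equivalence relation). Then U → M = Spec C is
finite locally free and (t, s) identifies R with U ×_M U. (The source's final clause, that M is the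
fppf quotient sheaf U/R, is not restated.) (A groupoid scheme carries U, R, s, t, c, e, i over S
with the groupoid axioms on T-points; 'finite locally free' is finite, flat and locally of finite
presentation; C ⊂ Γ(U) is the ring of functions a with s♯(a) = t♯(a) and M = Spec C.) -/
theorem result (S : Scheme.{u}) (G : Grpd.GroupoidScheme S) [IsAffine G.U] [IsAffine G.R] [IsFinite G.s] [Flat G.s] [LocallyOfFinitePresentation G.s] [IsFinite G.t] [Flat G.t] [LocallyOfFinitePresentation G.t] [Mono G.j] : (IsFinite G.toQuot ∧ Flat G.toQuot ∧ LocallyOfFinitePresentation G.toQuot) ∧ ∃ φ : G.R ≅ pullback G.toQuot G.toQuot, φ.hom ≫ pullback.fst G.toQuot G.toQuot = G.t ∧ φ.hom ≫ pullback.snd G.toQuot G.toQuot = G.s := by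
  classical
  letI alg : Algebra Γ(G.U, ⊤) Γ(G.R, ⊤) := G.s.appTop.hom.toAlgebra
  have hfinite : RingHom.Finite G.s.appTop.hom := Scheme.Hom.finite_appTop G.s
  have hflat : RingHom.Flat G.s.appTop.hom :=
    (HasRingHomProperty.iff_of_isAffine (P := @Flat)).mp inferInstance
  have hfp : RingHom.FinitePresentation G.s.appTop.hom :=
    (HasRingHomProperty.iff_of_isAffine (P := @LocallyOfFinitePresentation)).mp inferInstance
  haveI : Module.Finite Γ(G.U, ⊤) Γ(G.R, ⊤) := hfinite
  haveI : Module.Flat Γ(G.U, ⊤) Γ(G.R, ⊤) := hflat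
  haveI : Algebra.FinitePresentation Γ(G.U, ⊤) Γ(G.R, ⊤) := hfp
  haveI : Module.FinitePresentation Γ(G.U, ⊤) Γ(G.R, ⊤) :=
    Module.FinitePresentation.of_finite_of_finitePresentation _ _
  haveI : Module.Projective Γ(G.U, ⊤) Γ(G.R, ⊤) := Module.Flat.projective_of_finitePresentation
  have sqA : IsPushout G.t.appTop G.s.appTop (pullback.snd G.s G.t).appTop
      (pullback.fst G.s G.t).appTop :=
    (isPushout_appTop_of_isPullback (IsPullback.of_hasPullback G.s G.t)).flip
  have sqB : IsPushout G.s.appTop G.s.appTop (pullback.snd G.s G.t).appTop G.c.appTop :=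
    (isPushout_appTop_of_isPullback (Groth.Agent.S7457.result S G).2).flip
  have hct : ∀ a, G.c.appTop.hom (G.t.appTop.hom a) =
      (pullback.fst G.s G.t).appTop.hom (G.t.appTop.hom a) := by
    intro a
    have h1 : G.t.appTop ≫ G.c.appTop = G.t.appTop ≫ (pullback.fst G.s G.t).appTop := by
      rw [← Scheme.Hom.comp_appTop, ← Scheme.Hom.comp_appTop,
        Groth.Agent.Lib.Helper38.GrpdLib.c_t]
    exact congrArg (fun g => g.hom a) h1
  have hεσ : ∀ a, G.e.appTop.hom (G.s.appTop.hom a) = a := by
    intro a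
    have h1 : G.s.appTop ≫ G.e.appTop = 𝟙 _ := by
      rw [← Scheme.Hom.comp_appTop, G.e_s]
      rfl
    exact congrArg (fun g => g.hom a) h1
  have hετ : ∀ a, G.e.appTop.hom (G.t.appTop.hom a) = a := by
    intro a
    have h1 : G.t.appTop ≫ G.e.appTop = 𝟙 _ := by
      rw [← Scheme.Hom.comp_appTop, G.e_t]
      rfl
    exact congrArg (fun g => g.hom a) h1
  -- surjectivity of `A ⊗ A → B` from `Mono j`
  have hsurj : Submodule.span Γ(G.U, ⊤) (Set.range G.t.appTop.hom) = ⊤ := by
    obtain ⟨B', hB'⟩ : ∃ B' : Subalgebra Γ(G.U, ⊤) Γ(G.R, ⊤),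
      B' = Algebra.adjoin Γ(G.U, ⊤) (Set.range G.t.appTop.hom) := ⟨_, rfl⟩
    let f : CommRingCat.of B' ⟶ Γ(G.R, ⊤) := CommRingCat.ofHom B'.val.toRingHom
    have hσmem : ∀ a, G.s.appTop.hom a ∈ B' := fun a => B'.algebraMap_mem a
    have hτmem : ∀ a, G.t.appTop.hom a ∈ B' := fun a => by
      rw [hB']; exact Algebra.subset_adjoin ⟨a, rfl⟩
    haveI : Epi f := by
      constructor
      intro D g1 g2 h12
      have hval : ∀ b' : B', g1.hom (b' : Γ(G.R, ⊤)) = g2.hom (b' : Γ(G.R, ⊤)) := fun b' =>
        congrArg (fun k => k.hom b') h12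
      have hs : G.s.appTop ≫ g1 = G.s.appTop ≫ g2 := by
        ext a
        exact hval ⟨_, hσmem a⟩
      have ht : G.t.appTop ≫ g1 = G.t.appTop ≫ g2 := by
        ext a
        exact hval ⟨_, hτmem a⟩
      have hxs : (Spec.map g1 ≫ G.R.isoSpec.inv) ≫ G.s =
          (Spec.map g2 ≫ G.R.isoSpec.inv) ≫ G.s := by
        rw [Category.assoc, Category.assoc, ← Scheme.isoSpec_inv_naturality, ← Category.assoc,
          ← Category.assoc, ← Spec.map_comp, ← Spec.map_comp, hs]
      have hxt : (Spec.map g1 ≫ G.R.isoSpec.inv) ≫ G.t =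
          (Spec.map g2 ≫ G.R.isoSpec.inv) ≫ G.t := by
        rw [Category.assoc, Category.assoc, ← Scheme.isoSpec_inv_naturality, ← Category.assoc,
          ← Category.assoc, ← Spec.map_comp, ← Spec.map_comp, ht]
      have hxj : (Spec.map g1 ≫ G.R.isoSpec.inv) ≫ G.j =
          (Spec.map g2 ≫ G.R.isoSpec.inv) ≫ G.j := by
        apply pullback.hom_ext
        · have e1 : G.j ≫ pullback.fst G.pU G.pU = G.t := pullback.lift_fst _ _ _
          have hxt' := hxt
          simp only [Category.assoc] at hxt' ⊢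
          rw [e1]
          exact hxt'
        · have e1 : G.j ≫ pullback.snd G.pU G.pU = G.s := pullback.lift_snd _ _ _
          have hxs' := hxs
          simp only [Category.assoc] at hxs' ⊢
          rw [e1]
          exact hxs'
      have hx := (cancel_mono G.j).1 hxj
      have hx' := (cancel_mono G.R.isoSpec.inv).1 hx
      exact Spec.map_injective hx'
    have hfin : f.hom.Finite := by
      have h1 : (B'.val.toRingHom.comp (algebraMap Γ(G.U, ⊤) B')).Finite := by
        have h2 : B'.val.toRingHom.comp (algebraMap Γ(G.U, ⊤) B') = G.s.appTop.hom := by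
          ext a; rfl
        rw [h2]
        exact hfinite
      exact RingHom.Finite.of_comp_finite h1
    have hsurjf : Function.Surjective f := RingHom.surjective_of_epi_of_finite f hfin
    have hB'top : ∀ b : Γ(G.R, ⊤), b ∈ B' := by
      intro b
      obtain ⟨b', hb'⟩ := hsurjf b
      rw [← hb']
      exact b'.2
    rw [eq_top_iff]
    rintro b -
    have hb := hB'top b
    rw [hB'] at hb
    induction hb using Algebra.adjoin_induction with
    | mem x hx => exact Submodule.subset_span hx
    | algebraMap r =>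
      have h0 : algebraMap Γ(G.U, ⊤) Γ(G.R, ⊤) r = r • G.t.appTop.hom 1 := by
        rw [map_one, Algebra.algebraMap_eq_smul_one]
      rw [h0]
      exact Submodule.smul_mem _ _ (Submodule.subset_span ⟨1, rfl⟩)
    | add x y _ _ hx hy => exact Submodule.add_mem _ hx hy
    | mul x y _ _ hx hy =>
      exact span_mul_mem _ (by
        rintro _ ⟨a, rfl⟩ _ ⟨a', rfl⟩
        exact ⟨a * a', map_mul _ _ _⟩) hx hy
  let 𝔖 : QuotAlg.Setting Γ(G.U, ⊤) Γ(G.R, ⊤) Γ(pullback G.s G.t, ⊤) :=
    { τ := G.t.appTop.hom
      ε := G.e.appTop.hom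
      p1 := (pullback.snd G.s G.t).appTop.hom
      p0 := (pullback.fst G.s G.t).appTop.hom
      c := G.c.appTop.hom
      hεσ := hεσ
      hετ := hετ
      sqA := sqA
      sqB := sqB
      hct := hct
      hsurj := hsurj }
  obtain ⟨hCfin, hCproj⟩ := QuotAlg.finite_projective 𝔖
  have hpo := QuotAlg.pushout 𝔖
  haveI : Module.Finite G.invariants Γ(G.U, ⊤) := hCfin
  haveI : Module.Projective G.invariants Γ(G.U, ⊤) := hCproj
  haveI : Module.FinitePresentation G.invariants Γ(G.U, ⊤) :=
    Module.finitePresentation_of_projective _ _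
  have hφfin : (CommRingCat.ofHom G.invariants.subtype).hom.Finite :=
    RingHom.finite_algebraMap.mpr inferInstance
  have hφflat : (CommRingCat.ofHom G.invariants.subtype).hom.Flat :=
    RingHom.flat_algebraMap_iff.mpr inferInstance
  have hφfp : (CommRingCat.ofHom G.invariants.subtype).hom.FinitePresentation :=
    RingHom.finitePresentation_algebraMap.mpr inferInstance
  have h1 : IsFinite (Spec.map (CommRingCat.ofHom G.invariants.subtype)) :=
    (IsFinite.SpecMap_iff _).mpr hφfin
  have h2 : Flat (Spec.map (CommRingCat.ofHom G.invariants.subtype)) :=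
    Flat.SpecMap_iff.mpr hφflat
  have h3 : LocallyOfFinitePresentation (Spec.map (CommRingCat.ofHom G.invariants.subtype)) :=
    (LocallyOfFinitePresentation.SpecMap_iff _).mpr hφfp
  haveI : IsIso G.U.toSpecΓ := inferInstance
  haveI : IsIso G.R.toSpecΓ := inferInstance
  have hpb0 : IsPullback (Spec.map G.t.appTop) (Spec.map G.s.appTop)
      (Spec.map (CommRingCat.ofHom G.invariants.subtype))
      (Spec.map (CommRingCat.ofHom G.invariants.subtype)) :=
    isPullback_SpecMap_of_isPushout _ _ _ _ hpo
  have hpb : IsPullback G.t G.s G.toQuot G.toQuot := by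
    refine IsPullback.of_iso hpb0 (asIso G.R.toSpecΓ).symm (asIso G.U.toSpecΓ).symm
      (asIso G.U.toSpecΓ).symm (Iso.refl _) ?_ ?_ ?_ ?_
    · simp only [Iso.symm_hom, asIso_inv]
      rw [IsIso.comp_inv_eq, Category.assoc, IsIso.eq_inv_comp]
      exact (Scheme.toSpecΓ_naturality G.t).symm
    · simp only [Iso.symm_hom, asIso_inv]
      rw [IsIso.comp_inv_eq, Category.assoc, IsIso.eq_inv_comp]
      exact (Scheme.toSpecΓ_naturality G.s).symm
    · simp only [Iso.symm_hom, asIso_inv, Iso.refl_hom, Category.comp_id]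
      rw [IsIso.eq_inv_comp]
      rfl
    · simp only [Iso.symm_hom, asIso_inv, Iso.refl_hom, Category.comp_id]
      rw [IsIso.eq_inv_comp]
      rfl
  refine ⟨⟨?_, ?_, ?_⟩, hpb.isoPullback, hpb.isoPullback_hom_fst, hpb.isoPullback_hom_snd⟩
  · haveI := h1
    show IsFinite (G.U.toSpecΓ ≫ Spec.map (CommRingCat.ofHom G.invariants.subtype))
    infer_instance
  · haveI := h2
    show Flat (G.U.toSpecΓ ≫ Spec.map (CommRingCat.ofHom G.invariants.subtype))
    infer_instance
  · haveI := h3
    show LocallyOfFinitePresentation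
      (G.U.toSpecΓ ≫ Spec.map (CommRingCat.ofHom G.invariants.subtype))
    infer_instance

end Groth.Agent.S1877
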