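import Groth.Statements.S1879
import Groth.Agent.S7457
import Groth.Agent.Lib.Helper38.GrpdLib
import Mathlib.AlgebraicGeometry.Morphisms.Affine
import Mathlib.AlgebraicGeometry.Morphisms.Finite
import Mathlib.AlgebraicGeometry.Morphisms.Flat
import Mathlib.AlgebraicGeometry.Morphisms.FinitePresentation
import Mathlib.AlgebraicGeometry.Morphisms.FlatRank
import Mathlib.RingTheory.Finiteness.ModuleFinitePresentation
import Mathlib.RingTheory.Flat.EquationalCriterion

set_option autoImplicit false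
universe u
open CategoryTheory CategoryTheory.Limits AlgebraicGeometry
open Grpd

namespace Groth.Agent.S1879


theorem pi_decomp {R M : Type*} [CommRing R] [AddCommGroup M] [Module R M] {n : ℕ}
    (F : (Fin n → R) →ₗ[R] M) (w : Fin n → R) : F w = ∑ j, w j • F (Pi.single j 1) := by
  have hw : w = ∑ j, w j • (Pi.single j (1:R) : Fin n → R) := by
    ext x
    simp [Finset.sum_apply, Pi.single_apply]
  conv_lhs => rw [hw]
  simp only [map_sum, map_smul]

/-- The characteristic polynomial of `Λ ∘ m ∘ π` does not depend on the presentation `(π, Λ)`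
(with `π ∘ Λ = id`) by a free module of fixed rank. -/
theorem charpoly_indep {B' M : Type*} [CommRing B'] [AddCommGroup M] [Module B' M] {n : ℕ}
    (π1 π2 : (Fin n → B') →ₗ[B'] M) (Λ1 Λ2 : M →ₗ[B'] (Fin n → B'))
    (h1 : π1 ∘ₗ Λ1 = LinearMap.id) (h2 : π2 ∘ₗ Λ2 = LinearMap.id) (m : M →ₗ[B'] M) :
    (LinearMap.toMatrix' (Λ1 ∘ₗ m ∘ₗ π1)).charpoly =
      (LinearMap.toMatrix' (Λ2 ∘ₗ m ∘ₗ π2)).charpoly := by
  have e1 : Λ1 ∘ₗ m ∘ₗ π1 = (Λ1 ∘ₗ m ∘ₗ π2) ∘ₗ (Λ2 ∘ₗ π1) := by
    refine LinearMap.ext fun v => ?_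
    simp only [LinearMap.comp_apply]
    rw [show π2 (Λ2 (π1 v)) = π1 v from LinearMap.congr_fun h2 (π1 v)]
  have e2 : Λ2 ∘ₗ m ∘ₗ π2 = (Λ2 ∘ₗ π1) ∘ₗ (Λ1 ∘ₗ m ∘ₗ π2) := by
    refine LinearMap.ext fun v => ?_
    simp only [LinearMap.comp_apply]
    rw [show π1 (Λ1 (m (π2 v))) = m (π2 v) from LinearMap.congr_fun h1 (m (π2 v))]
  rw [e1, e2, LinearMap.toMatrix'_comp, LinearMap.toMatrix'_comp, Matrix.charpoly_mul_comm]

/-- Cayley–Hamilton for multiplication by `y` on a finite projective algebra, through a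
presentation by a free module. -/
theorem aeval_charpoly_eq_zero {A B : Type*} [CommRing A] [CommRing B] [Algebra A B] {n : ℕ}
    (π : (Fin n → A) →ₗ[A] B) (l : B →ₗ[A] (Fin n → A)) (hπl : π ∘ₗ l = LinearMap.id) (y : B) :
    Polynomial.aeval y (LinearMap.toMatrix' (l ∘ₗ LinearMap.mulLeft A y ∘ₗ π)).charpoly = 0 := by
  set Ψ : (Fin n → A) →ₗ[A] (Fin n → A) := l ∘ₗ LinearMap.mulLeft A y ∘ₗ π with hΨ
  have hχ : (LinearMap.toMatrix' Ψ).charpoly = Ψ.charpoly := by
    rw [← LinearMap.toMatrix_eq_toMatrix']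
    exact LinearMap.charpoly_toMatrix Ψ (Pi.basisFun A (Fin n))
  rw [hχ]
  have hCH : Polynomial.aeval Ψ Ψ.charpoly = 0 := LinearMap.aeval_self_charpoly Ψ
  have hπl' : ∀ x, π (l x) = x := fun x => LinearMap.congr_fun hπl x
  have key : ∀ (k : ℕ) (x : B), π ((Ψ ^ k) (l x)) = y ^ k * x := by
    intro k
    induction k with
    | zero => intro x; simp [hπl']
    | succ k ih =>
      intro x
      rw [pow_succ, Module.End.mul_apply]
      have hstep : Ψ (l x) = l (y * x) := by
        simp only [hΨ, LinearMap.comp_apply, LinearMap.mulLeft_apply, hπl']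
      rw [hstep, ih, pow_succ, mul_assoc]
  have h0 : π ((Polynomial.aeval Ψ Ψ.charpoly) (l 1)) = 0 := by rw [hCH]; simp
  rw [Polynomial.aeval_eq_sum_range] at h0 ⊢
  rw [LinearMap.sum_apply, map_sum] at h0
  rw [← h0]
  refine Finset.sum_congr rfl fun k _ => ?_
  rw [LinearMap.smul_apply, map_smul, key, mul_one]

/-- Base change of a presentation along a pushout square of commutative rings. -/
theorem bc_presentation {A A' B P : Type u} [CommRing A] [CommRing A'] [CommRing B] [CommRing P]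
    [Algebra A B] [Algebra A' P] (φ : A →+* A') (q : B →+* P)
    (h : IsPushout (CommRingCat.ofHom φ) (CommRingCat.ofHom (algebraMap A B))
      (CommRingCat.ofHom (algebraMap A' P)) (CommRingCat.ofHom q))
    {n : ℕ} (π : (Fin n → A) →ₗ[A] B) (l : B →ₗ[A] (Fin n → A))
    (hπl : π ∘ₗ l = LinearMap.id) :
    ∃ (π' : (Fin n → A') →ₗ[A'] P) (Λ : P →ₗ[A'] (Fin n → A')), π' ∘ₗ Λ = LinearMap.id ∧
      ∀ y : B, LinearMap.toMatrix' (Λ ∘ₗ LinearMap.mulLeft A' (q y) ∘ₗ π') =
        (LinearMap.toMatrix' (l ∘ₗ LinearMap.mulLeft A y ∘ₗ π)).map φ := by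
  letI := φ.toAlgebra
  letI := q.toAlgebra
  letI : Algebra A P := ((algebraMap A' P).comp φ).toAlgebra
  have hw : (algebraMap A' P).comp φ = q.comp (algebraMap A B) := by
    have := h.w
    ext a
    exact congrArg (fun f => f.hom a) this
  haveI : IsScalarTower A A' P := .of_algebraMap_eq' rfl
  haveI : IsScalarTower A B P := .of_algebraMap_eq' hw
  haveI : Algebra.IsPushout A A' B P := CommRingCat.isPushout_iff_isPushout.mp h
  have hbc : IsBaseChange A' (IsScalarTower.toAlgHom A B P).toLinearMap := Algebra.IsPushout.out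
  have hqL : ∀ x : B, (IsScalarTower.toAlgHom A B P).toLinearMap x = q x := fun x => rfl
  let g : B →ₗ[A] (Fin n → A') := ((Algebra.linearMap A A').compLeft (Fin n)) ∘ₗ l
  have hg : ∀ x i, g x i = φ (l x i) := fun x i => rfl
  let Λ : P →ₗ[A'] (Fin n → A') := hbc.lift g
  have hΛ : ∀ x : B, Λ (q x) = g x := fun x => hbc.lift_eq g x
  let π' : (Fin n → A') →ₗ[A'] P :=
    Fintype.linearCombination A' (fun j => q (π (Pi.single j 1)))
  have hπ' : ∀ v, π' v = ∑ j, v j • q (π (Pi.single j 1)) :=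
    fun v => Fintype.linearCombination_apply A' _ v
  have hπ'single : ∀ j, π' (Pi.single j 1) = q (π (Pi.single j 1)) := by
    intro j
    rw [hπ', Finset.sum_eq_single j]
    · simp
    · intro j' _ hne; simp [Pi.single_apply, hne]
    · intro hj; exact absurd (Finset.mem_univ j) hj
  have hid : ∀ x : B, π' (g x) = q x := by
    intro x
    rw [hπ']
    have hx : x = ∑ j, (l x j) • π (Pi.single j 1) := by
      rw [← pi_decomp π (l x)]
      exact (LinearMap.congr_fun hπl x).symm
    conv_rhs => rw [hx]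
    rw [map_sum]
    refine Finset.sum_congr rfl fun j _ => ?_
    rw [hg, Algebra.smul_def, Algebra.smul_def, map_mul]
    congr 1
    exact RingHom.congr_fun hw (l x j)
  refine ⟨π', Λ, ?_, ?_⟩
  · apply hbc.algHom_ext
    intro x
    rw [hqL, LinearMap.comp_apply, hΛ, hid, LinearMap.id_apply]
  · intro y
    ext i j
    rw [LinearMap.toMatrix'_apply, Matrix.map_apply, LinearMap.toMatrix'_apply]
    simp only [LinearMap.comp_apply, LinearMap.mulLeft_apply]
    rw [hπ'single, ← map_mul, hΛ, hg]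

theorem charpoly_map_eq {A B P : Type u} [CommRing A] [CommRing B] [CommRing P] [Algebra A B]
    (τ : A →+* B) (p1 p0 c : B →+* P)
    (sqA : IsPushout (CommRingCat.ofHom τ) (CommRingCat.ofHom (algebraMap A B))
      (CommRingCat.ofHom p1) (CommRingCat.ofHom p0))
    (sqB : IsPushout (CommRingCat.ofHom (algebraMap A B)) (CommRingCat.ofHom (algebraMap A B))
      (CommRingCat.ofHom p1) (CommRingCat.ofHom c))
    {n : ℕ} (π : (Fin n → A) →ₗ[A] B) (l : B →ₗ[A] (Fin n → A))
    (hπl : π ∘ₗ l = LinearMap.id) (y : B) (hy : c y = p0 y) :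
    ((LinearMap.toMatrix' (l ∘ₗ LinearMap.mulLeft A y ∘ₗ π)).map τ).charpoly =
      ((LinearMap.toMatrix' (l ∘ₗ LinearMap.mulLeft A y ∘ₗ π)).map (algebraMap A B)).charpoly := by
  letI : Algebra B P := p1.toAlgebra
  obtain ⟨π1, Λ1, h1, hM1⟩ := bc_presentation (A' := B) τ p0 sqA π l hπl
  obtain ⟨π2, Λ2, h2, hM2⟩ := bc_presentation (A' := B) (algebraMap A B) c sqB π l hπl
  have hkey := charpoly_indep π1 π2 Λ1 Λ2 h1 h2 (LinearMap.mulLeft B (p0 y))
  rw [hM1 y] at hkey
  rw [hkey, ← hy, hM2 y]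

theorem alg_main {A B P : Type u} [CommRing A] [CommRing B] [CommRing P] [Algebra A B]
    [Module.Finite A B] [Module.Projective A B]
    (τ : A →+* B) (ε : B →+* A) (hεσ : ∀ a, ε (algebraMap A B a) = a) (hετ : ∀ a, ε (τ a) = a)
    (p1 p0 c : B →+* P)
    (sqA : IsPushout (CommRingCat.ofHom τ) (CommRingCat.ofHom (algebraMap A B))
      (CommRingCat.ofHom p1) (CommRingCat.ofHom p0))
    (sqB : IsPushout (CommRingCat.ofHom (algebraMap A B)) (CommRingCat.ofHom (algebraMap A B))
      (CommRingCat.ofHom p1) (CommRingCat.ofHom c))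
    (hct : ∀ a, c (τ a) = p0 (τ a)) (f : A) :
    IsIntegral (RingHom.eqLocus (algebraMap A B) τ) f := by
  obtain ⟨n, π, l, -, -, hπl⟩ := Module.Finite.exists_comp_eq_id_of_projective A B
  set Φ := LinearMap.toMatrix' (l ∘ₗ LinearMap.mulLeft A (τ f) ∘ₗ π) with hΦ
  have hroot : Polynomial.aeval (τ f) Φ.charpoly = 0 := aeval_charpoly_eq_zero π l hπl (τ f)
  have hinv : Φ.charpoly.map τ = Φ.charpoly.map (algebraMap A B) := by
    rw [← Matrix.charpoly_map, ← Matrix.charpoly_map]
    exact charpoly_map_eq τ p1 p0 c sqA sqB π l hπl (τ f) (hct f)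
  have hcoeff : ∀ k, Φ.charpoly.coeff k ∈ RingHom.eqLocus (algebraMap A B) τ := by
    intro k
    have h1 := congrArg (fun p => p.coeff k) hinv
    simp only [Polynomial.coeff_map] at h1
    exact h1.symm
  have hsub : (↑Φ.charpoly.coeffs : Set A) ⊆ (RingHom.eqLocus (algebraMap A B) τ : Set A) := by
    intro a ha
    obtain ⟨k, -, rfl⟩ := Polynomial.mem_coeffs_iff.1 (Finset.mem_coe.1 ha)
    exact hcoeff k
  have hev : Polynomial.eval f Φ.charpoly = 0 := by
    have h1 := congrArg ε hroot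
    rw [Polynomial.aeval_def, Polynomial.hom_eval₂, map_zero] at h1
    have h2 : ε.comp (algebraMap A B) = RingHom.id A := RingHom.ext hεσ
    rw [h2, hετ, Polynomial.eval₂_id] at h1
    exact h1
  refine ⟨Φ.charpoly.toSubring _ hsub,
    (Polynomial.monic_toSubring _ _ _).2 (Matrix.charpoly_monic Φ), ?_⟩
  rw [Polynomial.eval₂_eq_eval_map]
  have hmap : (Φ.charpoly.toSubring _ hsub).map
      (algebraMap (RingHom.eqLocus (algebraMap A B) τ) A) = Φ.charpoly :=
    Polynomial.map_toSubring _ _ _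
  rw [hmap]
  exact hev

/-- Let (U, R, s, t, c) be a groupoid scheme with U, R affine and s, t finite locally free. Then Γ(U) is
integral over the subring C of R-invariant functions. (A groupoid scheme carries U, R, s, t, c, e, i
over S with the groupoid axioms on T-points; 'finite locally free' is finite, flat and locally of
finite presentation; C ⊂ Γ(U) is the ring of functions a with s♯(a) = t♯(a) and M = Spec C.) -/
theorem result (S : Scheme.{u}) (G : Grpd.GroupoidScheme S) [IsAffine G.U] [IsAffine G.R] [IsFinite G.s] [Flat G.s] [LocallyOfFinitePresentation G.s] [IsFinite G.t] [Flat G.t] [LocallyOfFinitePresentation G.t] : Algebra.IsIntegral G.invariants Γ(G.U, ⊤) := by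
  constructor
  intro f
  letI alg : Algebra Γ(G.U, ⊤) Γ(G.R, ⊤) := G.s.appTop.hom.toAlgebra
  have hfinite : RingHom.Finite G.s.appTop.hom := Scheme.Hom.finite_appTop G.s
  have hflat : RingHom.Flat G.s.appTop.hom :=
    (HasRingHomProperty.iff_of_isAffine (P := @Flat)).mp inferInstance
  have hfp : RingHom.FinitePresentation G.s.appTop.hom :=
    (HasRingHomProperty.iff_of_isAffine (P := @LocallyOfFinitePresentation)).mp inferInstance
  haveI : Module.Finite Γ(G.U, ⊤) Γ(G.R, ⊤) := hfinite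
  haveI : Module.Flat Γ(G.U, ⊤) Γ(G.R, ⊤) := hflat
  haveI : Algebra.FinitePresentation Γ(G.U, ⊤) Γ(G.R, ⊤) := hfp
  haveI : Module.FinitePresentation Γ(G.U, ⊤) Γ(G.R, ⊤) :=
    Module.FinitePresentation.of_finite_of_finitePresentation _ _
  haveI : Module.Projective Γ(G.U, ⊤) Γ(G.R, ⊤) := Module.Flat.projective_of_finitePresentation
  have sqA : IsPushout G.t.appTop G.s.appTop (pullback.snd G.s G.t).appTop
      (pullback.fst G.s G.t).appTop :=
    (isPushout_appTop_of_isPullback (IsPullback.of_hasPullback G.s G.t)).flip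
  have sqB : IsPushout G.s.appTop G.s.appTop (pullback.snd G.s G.t).appTop G.c.appTop :=
    (isPushout_appTop_of_isPullback (Groth.Agent.S7457.result S G).2).flip
  have hct : ∀ a, G.c.appTop.hom (G.t.appTop.hom a) =
      (pullback.fst G.s G.t).appTop.hom (G.t.appTop.hom a) := by
    intro a
    have h1 : G.t.appTop ≫ G.c.appTop = G.t.appTop ≫ (pullback.fst G.s G.t).appTop := by
      rw [← Scheme.Hom.comp_appTop, ← Scheme.Hom.comp_appTop,
        Groth.Agent.Lib.Helper38.GrpdLib.c_t]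
    exact congrArg (fun g => g.hom a) h1
  have hεσ : ∀ a, G.e.appTop.hom (G.s.appTop.hom a) = a := by
    intro a
    have h1 : G.s.appTop ≫ G.e.appTop = 𝟙 _ := by
      rw [← Scheme.Hom.comp_appTop, G.e_s]
      rfl
    exact congrArg (fun g => g.hom a) h1
  have hετ : ∀ a, G.e.appTop.hom (G.t.appTop.hom a) = a := by
    intro a
    have h1 : G.t.appTop ≫ G.e.appTop = 𝟙 _ := by
      rw [← Scheme.Hom.comp_appTop, G.e_t]
      rfl
    exact congrArg (fun g => g.hom a) h1
  exact alg_main (A := Γ(G.U, ⊤)) (B := Γ(G.R, ⊤)) (P := Γ(pullback G.s G.t, ⊤))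
    G.t.appTop.hom G.e.appTop.hom hεσ hετ (pullback.snd G.s G.t).appTop.hom
    (pullback.fst G.s G.t).appTop.hom G.c.appTop.hom sqA sqB hct f

end Groth.Agent.S1879
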