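import Groth.Statements.S1878
import Groth.Agent.S1879
import Groth.Agent.S7457
import Groth.Agent.Lib.Helper38.GrpdLib
import Groth.Agent.Lib.Helper76.QuotPts
import Mathlib

set_option autoImplicit false
universe u
open CategoryTheory CategoryTheory.Limits AlgebraicGeometry
open Grpd
open Groth.Agent.Lib.Helper76

namespace Groth.Agent.S1878

/-- The prime ideal of a point of an affine scheme. -/
def idl {R : CommRingCat.{u}} (x : ↥(Spec R)) : Ideal R := PrimeSpectrum.asIdeal x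

theorem idl_map {R₁ R₂ : CommRingCat.{u}} (f : R₁ ⟶ R₂) (x : ↥(Spec R₂)) :
    idl ((Spec.map f) x) = (idl x).comap f.hom := rfl

theorem idl_ext {R : CommRingCat.{u}} {x y : ↥(Spec R)} (h : idl x = idl y) : x = y :=
  PrimeSpectrum.ext h

theorem idl_prime {R : CommRingCat.{u}} (x : ↥(Spec R)) : (idl x).IsPrime :=
  PrimeSpectrum.isPrime x

theorem idl_mk {R : CommRingCat.{u}} (I : Ideal R) (hI : I.IsPrime) :
    ∃ x : ↥(Spec R), idl x = I := ⟨(⟨I, hI⟩ : PrimeSpectrum R), rfl⟩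

/-- Let (U, R, s, t, c) be a groupoid scheme over S with U, R affine and s, t finite locally free, and M
= Spec C. (1) U → M is surjective and two points of U have the same image iff some point of R has
them as target and source. (2) For every algebraically closed field k, M(k) = U(k)/R(k): every
k-point of M lifts to U, and two k-points of U agree in M iff they are the target and source of a
k-point of R. (A groupoid scheme carries U, R, s, t, c, e, i over S with the groupoid axioms on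
T-points; 'finite locally free' is finite, flat and locally of finite presentation; C ⊂ Γ(U) is the
ring of functions a with s♯(a) = t♯(a) and M = Spec C.) -/
theorem result (S : Scheme.{u}) (G : Grpd.GroupoidScheme S) [IsAffine G.U] [IsAffine G.R] [IsFinite G.s] [Flat G.s] [LocallyOfFinitePresentation G.s] [IsFinite G.t] [Flat G.t] [LocallyOfFinitePresentation G.t] : (Function.Surjective G.toQuot ∧ ∀ u₀ u₁ : G.U, G.toQuot u₀ = G.toQuot u₁ ↔ ∃ r : G.R, G.t r = u₀ ∧ G.s r = u₁) ∧ ∀ (k : Type u) [Field k] [IsAlgClosed k], (∀ m : Spec (CommRingCat.of k) ⟶ Spec (CommRingCat.of G.invariants), ∃ x : Spec (CommRingCat.of k) ⟶ G.U, x ≫ G.toQuot = m) ∧ ∀ x₀ x₁ : Spec (CommRingCat.of k) ⟶ G.U, x₀ ≫ G.toQuot = x₁ ≫ G.toQuot ↔ ∃ r : Spec (CommRingCat.of k) ⟶ G.R, r ≫ G.t = x₀ ∧ r ≫ G.s = x₁ := by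
  classical
  letI alg : Algebra Γ(G.U, ⊤) Γ(G.R, ⊤) := G.s.appTop.hom.toAlgebra
  have hfinite : RingHom.Finite G.s.appTop.hom := Scheme.Hom.finite_appTop G.s
  have hflat : RingHom.Flat G.s.appTop.hom :=
    (HasRingHomProperty.iff_of_isAffine (P := @Flat)).mp inferInstance
  have hfp : RingHom.FinitePresentation G.s.appTop.hom :=
    (HasRingHomProperty.iff_of_isAffine (P := @LocallyOfFinitePresentation)).mp inferInstance
  haveI : Module.Finite Γ(G.U, ⊤) Γ(G.R, ⊤) := hfinite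
  haveI : Module.Flat Γ(G.U, ⊤) Γ(G.R, ⊤) := hflat
  haveI : Algebra.FinitePresentation Γ(G.U, ⊤) Γ(G.R, ⊤) := hfp
  haveI : Module.FinitePresentation Γ(G.U, ⊤) Γ(G.R, ⊤) :=
    Module.FinitePresentation.of_finite_of_finitePresentation _ _
  haveI : Module.Projective Γ(G.U, ⊤) Γ(G.R, ⊤) := Module.Flat.projective_of_finitePresentation
  have sqA : IsPushout G.t.appTop G.s.appTop (pullback.snd G.s G.t).appTop
      (pullback.fst G.s G.t).appTop :=
    (isPushout_appTop_of_isPullback (IsPullback.of_hasPullback G.s G.t)).flip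
  have sqB : IsPushout G.s.appTop G.s.appTop (pullback.snd G.s G.t).appTop G.c.appTop :=
    (isPushout_appTop_of_isPullback (Groth.Agent.S7457.result S G).2).flip
  have hct : ∀ a, G.c.appTop.hom (G.t.appTop.hom a) =
      (pullback.fst G.s G.t).appTop.hom (G.t.appTop.hom a) := by
    intro a
    have h1 : G.t.appTop ≫ G.c.appTop = G.t.appTop ≫ (pullback.fst G.s G.t).appTop := by
      rw [← Scheme.Hom.comp_appTop, ← Scheme.Hom.comp_appTop,
        Groth.Agent.Lib.Helper38.GrpdLib.c_t]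
    exact congrArg (fun g => g.hom a) h1
  have hεσ : ∀ a, G.e.appTop.hom (G.s.appTop.hom a) = a := by
    intro a
    have h1 : G.s.appTop ≫ G.e.appTop = 𝟙 _ := by
      rw [← Scheme.Hom.comp_appTop, G.e_s]
      rfl
    exact congrArg (fun g => g.hom a) h1
  have hετ : ∀ a, G.e.appTop.hom (G.t.appTop.hom a) = a := by
    intro a
    have h1 : G.t.appTop ≫ G.e.appTop = 𝟙 _ := by
      rw [← Scheme.Hom.comp_appTop, G.e_t]
      rfl
    exact congrArg (fun g => g.hom a) h1
  let 𝔖 : QuotPts.PS Γ(G.U, ⊤) Γ(G.R, ⊤) Γ(pullback G.s G.t, ⊤) :=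
    { τ := G.t.appTop.hom
      ε := G.e.appTop.hom
      p1 := (pullback.snd G.s G.t).appTop.hom
      p0 := (pullback.fst G.s G.t).appTop.hom
      c := G.c.appTop.hom
      hεσ := hεσ
      hετ := hετ
      sqA := sqA
      sqB := sqB
      hct := hct }
  have hint : Algebra.IsIntegral G.invariants Γ(G.U, ⊤) := Groth.Agent.S1879.result S G
  haveI : Algebra.IsIntegral G.invariants Γ(G.U, ⊤) := hint
  haveI : Algebra.IsIntegral (RingHom.eqLocus (algebraMap Γ(G.U, ⊤) Γ(G.R, ⊤)) 𝔖.τ)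
      Γ(G.U, ⊤) := hint
  obtain ⟨ι, hι⟩ : ∃ ι : CommRingCat.of G.invariants ⟶ Γ(G.U, ⊤),
    ι = CommRingCat.ofHom G.invariants.subtype := ⟨_, rfl⟩
  have hQ : G.toQuot = G.U.toSpecΓ ≫ Spec.map ι := by rw [hι]; rfl
  have hιs : ι ≫ G.s.appTop = ι ≫ G.t.appTop := by
    rw [hι]
    ext c
    exact c.2
  have hts : G.t ≫ G.toQuot = G.s ≫ G.toQuot := by
    rw [hQ, ← Category.assoc, ← Category.assoc, Scheme.toSpecΓ_naturality,
      Scheme.toSpecΓ_naturality, Category.assoc, Category.assoc, ← Spec.map_comp,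
      ← Spec.map_comp, hιs]
  have hinvU : G.U.isoSpec.inv ≫ G.U.toSpecΓ = 𝟙 _ := G.U.isoSpec.inv_hom_id
  have hinvR : G.R.isoSpec.inv ≫ G.R.toSpecΓ = 𝟙 _ := G.R.isoSpec.inv_hom_id
  have hhomU : G.U.toSpecΓ ≫ G.U.isoSpec.inv = 𝟙 _ := G.U.isoSpec.hom_inv_id
  have hinjU : Function.Injective G.U.toSpecΓ := by
    intro a b hab
    have h1 := congrArg G.U.isoSpec.inv hab
    rw [← Scheme.Hom.comp_apply, ← Scheme.Hom.comp_apply, hhomU] at h1
    exact h1
  refine ⟨⟨?_, ?_⟩, ?_⟩
  · -- (1a)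
    intro m
    have hsurj : Function.Surjective (PrimeSpectrum.comap G.invariants.subtype) :=
      RingHom.IsIntegral.comap_surjective (f := G.invariants.subtype)
        (algebraMap_isIntegral_iff.2 hint) Subtype.val_injective
    obtain ⟨Pm, hPm⟩ := hsurj ⟨idl m, idl_prime m⟩
    obtain ⟨x, hx⟩ := idl_mk (R := Γ(G.U, ⊤)) Pm.asIdeal Pm.isPrime
    refine ⟨G.U.isoSpec.inv x, ?_⟩
    rw [hQ, ← Scheme.Hom.comp_apply, ← Category.assoc, hinvU, Category.id_comp]
    apply idl_ext
    rw [idl_map, hx, hι]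
    exact congrArg PrimeSpectrum.asIdeal hPm
  · -- (1b)
    intro u₀ u₁
    constructor
    · intro h
      obtain ⟨P₀, hP₀⟩ : ∃ P₀ : ↥(Spec Γ(G.U, ⊤)), P₀ = G.U.toSpecΓ u₀ := ⟨_, rfl⟩
      obtain ⟨P₁, hP₁⟩ : ∃ P₁ : ↥(Spec Γ(G.U, ⊤)), P₁ = G.U.toSpecΓ u₁ := ⟨_, rfl⟩
      have hP : (idl P₀).comap G.invariants.subtype = (idl P₁).comap G.invariants.subtype := by
        have h' : (Spec.map ι) P₀ = (Spec.map ι) P₁ := by
          rw [hP₀, hP₁, ← Scheme.Hom.comp_apply, ← Scheme.Hom.comp_apply, ← hQ]; exact h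
        have h2 := congrArg idl h'
        rw [idl_map, idl_map, hι] at h2
        exact h2
      haveI := idl_prime P₀
      haveI := idl_prime P₁
      obtain ⟨𝔯, h𝔯, h𝔯0, h𝔯1⟩ := QuotPts.pts 𝔖 (idl P₀) (idl P₁) hP
      obtain ⟨Pr, hPr⟩ := idl_mk (R := Γ(G.R, ⊤)) 𝔯 h𝔯
      have hr : G.R.toSpecΓ (G.R.isoSpec.inv Pr) = Pr := by
        rw [← Scheme.Hom.comp_apply, hinvR]
        rfl
      refine ⟨G.R.isoSpec.inv Pr, ?_, ?_⟩
      · apply hinjU
        rw [← Scheme.Hom.comp_apply, Scheme.toSpecΓ_naturality, Scheme.Hom.comp_apply, hr, ← hP₀]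
        apply idl_ext
        rw [idl_map, hPr]
        exact h𝔯0
      · apply hinjU
        rw [← Scheme.Hom.comp_apply, Scheme.toSpecΓ_naturality, Scheme.Hom.comp_apply, hr, ← hP₁]
        apply idl_ext
        rw [idl_map, hPr]
        exact h𝔯1
    · rintro ⟨r, rfl, rfl⟩
      rw [← Scheme.Hom.comp_apply, ← Scheme.Hom.comp_apply, hts]
  · -- (2)
    intro k _ _
    constructor
    · intro m
      obtain ⟨g, hg⟩ : ∃ g : CommRingCat.of G.invariants ⟶ CommRingCat.of k, Spec.map g = m :=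
        ⟨Spec.preimage m, Spec.map_preimage m⟩
      obtain ⟨φ₁, hφ₁⟩ := QuotPts.lift_geom (C := G.invariants) (A := Γ(G.U, ⊤))
        Subtype.val_injective g.hom
      refine ⟨Spec.map (CommRingCat.ofHom φ₁) ≫ G.U.isoSpec.inv, ?_⟩
      rw [hQ, Category.assoc, ← Category.assoc G.U.isoSpec.inv, hinvU, Category.id_comp,
        ← Spec.map_comp, ← hg]
      congr 1
      rw [hι]
      ext c
      exact RingHom.congr_fun hφ₁ c
    · intro x₀ x₁
      constructor
      · intro h
        obtain ⟨f₀, hf₀⟩ : ∃ f₀ : Γ(G.U, ⊤) ⟶ CommRingCat.of k,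
          Spec.map f₀ = x₀ ≫ G.U.toSpecΓ := ⟨Spec.preimage _, Spec.map_preimage _⟩
        obtain ⟨f₁, hf₁⟩ : ∃ f₁ : Γ(G.U, ⊤) ⟶ CommRingCat.of k,
          Spec.map f₁ = x₁ ≫ G.U.toSpecΓ := ⟨Spec.preimage _, Spec.map_preimage _⟩
        have hC : ι ≫ f₀ = ι ≫ f₁ := by
          apply Spec.map_injective
          rw [Spec.map_comp, Spec.map_comp, hf₀, hf₁, Category.assoc, Category.assoc, ← hQ]
          exact h
        obtain ⟨ψ, hψ0, hψ1⟩ := QuotPts.lift_point 𝔖 f₀.hom f₁.hom (by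
          intro a ha
          have h1 := congrArg (fun g => g.hom ⟨a, ha⟩) hC
          rw [hι] at h1
          exact h1)
        refine ⟨Spec.map (CommRingCat.ofHom ψ) ≫ G.R.isoSpec.inv, ?_, ?_⟩
        · have h1 : G.t.appTop ≫ CommRingCat.ofHom ψ = f₀ := by
            ext a
            exact RingHom.congr_fun hψ0 a
          rw [Category.assoc, ← Scheme.isoSpec_inv_naturality, ← Category.assoc, ← Spec.map_comp,
            h1, hf₀, Category.assoc, hhomU, Category.comp_id]
        · have h1 : G.s.appTop ≫ CommRingCat.ofHom ψ = f₁ := by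
            ext a
            exact RingHom.congr_fun hψ1 a
          rw [Category.assoc, ← Scheme.isoSpec_inv_naturality, ← Category.assoc, ← Spec.map_comp,
            h1, hf₁, Category.assoc, hhomU, Category.comp_id]
      · rintro ⟨r, rfl, rfl⟩
        rw [Category.assoc, Category.assoc, hts]

end Groth.Agent.S1878
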