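import Groth.Statements.S18789
import Mathlib

set_option autoImplicit false
universe u v w x
open TorusGr

namespace Groth.Agent.S18789

section helpers

open DirectSum

variable {k : Type u} [Field k] {M : Type v} [AddCommGroup M] [DecidableEq M]
    {A : Type w} [CommRing A] [Algebra k A] (𝒜 : M → Submodule k A) [GradedAlgebra 𝒜]
    {P : Type x} [AddCommGroup P] [Module A P] [Module k P] [IsScalarTower k A P]
    (ℳ : M → Submodule k P) [Decomposition ℳ] [SetLike.GradedSMul 𝒜 ℳ]

theorem decomp_smul {x : P} {w : M} (hx : x ∈ ℳ w) (a : A) (e : M) :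
    (decompose ℳ (a • x) e : P) = (decompose 𝒜 a (e - w) : A) • x := by
  induction a using DirectSum.Decomposition.inductionOn 𝒜 with
  | zero => simp
  | @homogeneous d a =>
    have hmem : (a : A) • x ∈ ℳ (d + w) := SetLike.GradedSMul.smul_mem a.2 hx
    by_cases h : d + w = e
    · subst h
      rw [decompose_of_mem_same ℳ hmem, add_sub_cancel_right, decompose_of_mem_same 𝒜 a.2]
    · rw [decompose_of_mem_ne ℳ hmem h,
        decompose_of_mem_ne 𝒜 a.2 (by intro h'; apply h; rw [h']; abel), zero_smul]
  | add a b ha hb =>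
    rw [add_smul, decompose_add, decompose_add, DirectSum.add_apply, DirectSum.add_apply, Submodule.coe_add,
      Submodule.coe_add, ha, hb, add_smul]

theorem decomp_sum_smul {n : ℕ} (wt : Fin n → M) (f : Fin n → P) (hf : ∀ i, f i ∈ ℳ (wt i))
    (c : Fin n → A) (e : M) :
    (decompose ℳ (∑ i, c i • f i) e : P) = ∑ i, (decompose 𝒜 (c i) (e - wt i) : A) • f i := by
  rw [decompose_sum, DFinsupp.finsetSum_apply, AddSubmonoidClass.coe_finsetSum]
  exact Finset.sum_congr rfl fun i _ => decomp_smul 𝒜 ℳ (hf i) _ _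

/-- an element outside an ideal has a homogeneous component outside it -/
theorem exists_component_notMem (m : Ideal A) (a : A) (ha : a ∉ m) :
    ∃ d, (decompose 𝒜 a d : A) ∉ m := by
  classical
  by_contra hcon
  push Not at hcon
  apply ha
  rw [← DirectSum.sum_support_decompose 𝒜 a]
  exact Ideal.sum_mem _ fun d _ => hcon d

end helpers

open DirectSum in
/-- Let `A` be a commutative algebra over a field `k`, graded by an additive commutative group `M` (for
`M` the character group of a split torus `T` this is a `T`-action on `Spec A`, and an `M`-graded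
`A`-module is a `T`-equivariant quasi-coherent sheaf), let `P` be a finitely generated projective
`A`-module with a compatible `M`-grading (a locally free `T`-sheaf of finite rank), and let `m` be a
homogeneous maximal ideal with residue field `k` (a `T`-fixed rational point). If homogeneous
elements `f i` of `P` reduce to a basis of `P/mP`, then there is a homogeneous `s ∉ m` such that
after inverting `s` the `f i` generate `P` and every relation among them is killed by a power of
`s`: on the invariant open `D(s)` the module is free on the homogeneous sections `f i`, with the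
weights of the fibre `P/mP`. (The published statement has `M ≅ ℤ^r`, a split torus; here `M` is any
additive commutative group, i.e. any diagonalizable group.) -/
theorem result
    {k : Type u} [Field k] {M : Type v} [AddCommGroup M] [DecidableEq M]
    {A : Type w} [CommRing A] [Algebra k A] (𝒜 : M → Submodule k A) [GradedAlgebra 𝒜]
    {P : Type x} [AddCommGroup P] [Module A P] [Module k P] [IsScalarTower k A P]
    (ℳ : M → Submodule k P) [Decomposition ℳ] [SetLike.GradedSMul 𝒜 ℳ]
    [Module.Finite A P] [Module.Projective A P]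
    (m : Ideal A) [m.IsMaximal] (hm : m.IsHomogeneous 𝒜)
    (hrat : Function.Surjective (algebraMap k (A ⧸ m)))
    {n : ℕ} (wt : Fin n → M) (f : Fin n → P) (hf : ∀ i, f i ∈ ℳ (wt i))
    (hli : LinearIndependent (A ⧸ m)
      (fun i => (Submodule.Quotient.mk (f i) : P ⧸ (m • (⊤ : Submodule A P)))))
    (hsp : Submodule.span A (Set.range f) ⊔ m • (⊤ : Submodule A P) = ⊤) :
    ∃ s : A, SetLike.IsHomogeneousElem 𝒜 s ∧ s ∉ m ∧
      (∀ p : P, ∃ (N : ℕ) (c : Fin n → A), s ^ N • p = ∑ i, c i • f i) ∧
      (∀ c : Fin n → A, ∑ i, c i • f i = 0 → ∃ N : ℕ, ∀ i, s ^ N * c i = 0) := by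
  classical
  set F : Submodule A P := Submodule.span A (Set.range f) with hFdef
  -- Step 1: Nakayama
  obtain ⟨a, ham, haF⟩ : ∃ a : A, a - 1 ∈ m ∧ ∀ p : P, a • p ∈ F := by
    have hfg : (⊤ : Submodule A P).FG := Module.Finite.fg_top
    obtain ⟨r, hr1, hr2⟩ := Submodule.exists_sub_one_mem_and_smul_le_of_fg_of_le_sup
      (I := m) (N := F) (N' := ⊤) (P := ⊤) hfg le_rfl (by rw [hsp])
    refine ⟨r, hr1, fun p => hr2 ?_⟩
    exact Submodule.smul_mem_pointwise_smul p r ⊤ trivial
  have hm1 : (1 : A) ∉ m := fun h => (Ideal.IsPrime.ne_top (Ideal.IsMaximal.isPrime ‹_›))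
    ((Ideal.eq_top_iff_one m).mpr h)
  have ha_not : a ∉ m := by
    intro h
    apply hm1
    have := m.sub_mem h ham
    simpa using this
  obtain ⟨d₁, hd₁⟩ := exists_component_notMem 𝒜 m a ha_not
  set s₁ : A := (decompose 𝒜 a d₁ : A) with hs₁def
  have hs₁hom : SetLike.IsHomogeneousElem 𝒜 s₁ := ⟨d₁, (decompose 𝒜 a d₁).2⟩
  -- Step 2: s₁ • P ⊆ F
  have hs₁F : ∀ p : P, s₁ • p ∈ F := by
    intro p
    rw [← DirectSum.sum_support_decompose ℳ p, Finset.smul_sum]
    refine Submodule.sum_mem _ fun w _ => ?_
    have hpw : (decompose ℳ p w : P) ∈ ℳ w := (decompose ℳ p w).2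
    obtain ⟨c, hc⟩ := (Submodule.mem_span_range_iff_exists_fun A).mp (haF (decompose ℳ p w : P))
    have h2 := congrArg (fun y => (decompose ℳ y (d₁ + w) : P)) hc
    simp only at h2
    rw [decomp_smul 𝒜 ℳ hpw, add_sub_cancel_right, decomp_sum_smul 𝒜 ℳ wt f hf] at h2
    rw [← h2]
    exact Submodule.sum_mem _ fun i _ => Submodule.smul_mem _ _ (Submodule.subset_span ⟨i, rfl⟩)
  -- Step 3: projectivity and the determinant trick
  obtain ⟨σ, hσ⟩ := Module.projective_def'.mp (inferInstance : Module.Projective A P)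
  choose b hb using fun q : P => (Submodule.mem_span_range_iff_exists_fun A).mp (hs₁F q)
  let φ : (Fin n → A) →ₗ[A] P := Fintype.linearCombination A f
  let ψ : P →ₗ[A] (Fin n → A) := (Finsupp.linearCombination A b) ∘ₗ σ
  have hφψ : ∀ p, φ (ψ p) = s₁ • p := by
    intro p
    have h1 : φ ∘ₗ Finsupp.linearCombination A b = s₁ • Finsupp.linearCombination A id := by
      apply Finsupp.lhom_ext
      intro q r
      simp only [LinearMap.comp_apply, Finsupp.linearCombination_single, LinearMap.smul_apply,
        id_eq, map_smul]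
      rw [show φ (b q) = ∑ i, b q i • f i from rfl, hb q, smul_comm]
    have h2 := LinearMap.congr_fun h1 (σ p)
    have h3 := LinearMap.congr_fun hσ p
    simp only [LinearMap.comp_apply, LinearMap.smul_apply, LinearMap.id_apply] at h2 h3
    change φ (Finsupp.linearCombination A b (σ p)) = _
    rw [h2, h3]
  let T : Matrix (Fin n) (Fin n) A := LinearMap.toMatrix' (ψ ∘ₗ φ)
  have hTker : ∀ c : Fin n → A, ∑ i, c i • f i = 0 → ∀ i, T.det * c i = 0 := by
    intro c hc i
    have h1 : T.mulVec c = 0 := by
      rw [LinearMap.toMatrix'_mulVec, LinearMap.comp_apply]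
      rw [show φ c = ∑ i, c i • f i from rfl, hc, map_zero]
    have h2 : (T.adjugate * T).mulVec c = 0 := by
      rw [← Matrix.mulVec_mulVec, h1, Matrix.mulVec_zero]
    rw [Matrix.adjugate_mul, Matrix.smul_mulVec, Matrix.one_mulVec] at h2
    exact congrFun h2 i
  -- entries of T mod m
  have hTmod : ∀ i j, T i j - (if i = j then s₁ else 0) ∈ m := by
    intro i j
    have h1 : ∑ l, T l j • f l = s₁ • f j := by
      have hcol : (ψ ∘ₗ φ) (Pi.single j 1) = fun l => T l j := by
        funext l
        change _ = LinearMap.toMatrix' (ψ ∘ₗ φ) l j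
        rw [LinearMap.toMatrix'_apply]
      have h : φ ((ψ ∘ₗ φ) (Pi.single j 1)) = s₁ • φ (Pi.single j 1) := hφψ _
      rw [hcol] at h
      rw [Fintype.linearCombination_apply_single, one_smul] at h
      exact h
    have h2 : ∑ l, (T l j - (if l = j then s₁ else 0)) • f l = 0 := by
      simp only [sub_smul, Finset.sum_sub_distrib, ite_smul, zero_smul, Finset.sum_ite_eq',
        Finset.mem_univ, if_true]
      rw [h1, sub_self]
    have h3 := congrArg (Submodule.mkQ (m • (⊤ : Submodule A P))) h2
    rw [map_sum, map_zero] at h3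
    have h4 : ∑ l, (Ideal.Quotient.mk m (T l j - (if l = j then s₁ else 0))) •
        (Submodule.Quotient.mk (f l) : P ⧸ (m • (⊤ : Submodule A P))) = 0 := by
      rw [← h3]
      refine Finset.sum_congr rfl fun l _ => ?_
      rfl
    have h5 := Fintype.linearIndependent_iff.mp hli _ h4 i
    exact Ideal.Quotient.eq_zero_iff_mem.mp h5
  have hdet : T.det ∉ m := by
    intro h
    have h1 : Ideal.Quotient.mk m T.det = 0 := Ideal.Quotient.eq_zero_iff_mem.mpr h
    rw [RingHom.map_det] at h1
    have h2 : (Ideal.Quotient.mk m).mapMatrix T =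
        (Ideal.Quotient.mk m s₁) • (1 : Matrix (Fin n) (Fin n) (A ⧸ m)) := by
      ext i j
      have := hTmod i j
      rw [← Ideal.Quotient.eq_zero_iff_mem, map_sub, sub_eq_zero] at this
      simp only [RingHom.mapMatrix_apply, Matrix.map_apply, Matrix.smul_apply, Matrix.one_apply,
        smul_eq_mul, mul_ite, mul_one, mul_zero]
      rw [this]
      split_ifs <;> simp
    rw [h2, Matrix.det_smul, Matrix.det_one, mul_one] at h1
    have h3 : Ideal.Quotient.mk m s₁ = 0 := by
      by_cases hn : Fintype.card (Fin n) = 0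
      · rw [hn, pow_zero] at h1
        exact absurd (Ideal.Quotient.eq_zero_iff_mem.mp (by rw [map_one]; exact h1)) hm1
      · exact (pow_eq_zero_iff hn).mp h1
    exact hd₁ (Ideal.Quotient.eq_zero_iff_mem.mp h3)
  obtain ⟨d₂, hd₂⟩ := exists_component_notMem 𝒜 m T.det hdet
  set s₂ : A := (decompose 𝒜 T.det d₂ : A) with hs₂def
  have hs₂hom : SetLike.IsHomogeneousElem 𝒜 s₂ := ⟨d₂, (decompose 𝒜 T.det d₂).2⟩
  -- s₂ kills relations
  have hs₂ker : ∀ c : Fin n → A, ∑ i, c i • f i = 0 → ∀ i, s₂ * c i = 0 := by
    intro c hc i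
    -- homogeneous pieces of c are relations
    have hpiece : ∀ e : M, ∑ l, (decompose 𝒜 (c l) (e - wt l) : A) • f l = 0 := by
      intro e
      rw [← decomp_sum_smul 𝒜 ℳ wt f hf, hc, decompose_zero, DirectSum.zero_apply,
        ZeroMemClass.coe_zero]
    have hkill : ∀ e' : M, s₂ * (decompose 𝒜 (c i) e' : A) = 0 := by
      intro e'
      have h1 := hTker _ (hpiece (e' + wt i)) i
      rw [add_sub_cancel_right] at h1
      have h2 := DirectSum.coe_decompose_mul_add_of_right_mem 𝒜 (a := T.det) (i := d₂)
        (decompose 𝒜 (c i) e').2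
      rw [h1, decompose_zero, DirectSum.zero_apply, ZeroMemClass.coe_zero] at h2
      exact h2.symm
    rw [← DirectSum.sum_support_decompose 𝒜 (c i), Finset.mul_sum]
    exact Finset.sum_eq_zero fun e' _ => hkill e'
  refine ⟨s₁ * s₂, ?_, ?_, ?_, ?_⟩
  · obtain ⟨i, hi⟩ := hs₁hom
    obtain ⟨j, hj⟩ := hs₂hom
    exact ⟨i + j, SetLike.GradedMul.mul_mem hi hj⟩
  · intro h
    rcases (Ideal.IsMaximal.isPrime ‹m.IsMaximal›).mem_or_mem h with h | h
    · exact hd₁ h
    · exact hd₂ h
  · intro p
    obtain ⟨c, hc⟩ := (Submodule.mem_span_range_iff_exists_fun A).mp (hs₁F p)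
    refine ⟨1, fun i => s₂ * c i, ?_⟩
    rw [pow_one, mul_comm, mul_smul, ← hc, Finset.smul_sum]
    exact Finset.sum_congr rfl fun i _ => by rw [mul_smul]
  · intro c hc
    refine ⟨1, fun i => ?_⟩
    rw [pow_one, mul_assoc, hs₂ker c hc i, mul_zero]

end Groth.Agent.S18789
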