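import Groth.Statements.S18790
-- import your own Groth.Agent.* helpers here

set_option autoImplicit false
universe u v w
open TorusGr

namespace Groth.Agent.S18790

/-- Let `A` be a commutative algebra over a field `k`, graded by an additive commutative group `M` (for
`M` the character group of a split torus `T`, a `T`-action on `Spec A`), let `J` be the ideal
generated by the homogeneous elements of non-zero degree (its zero locus is the fixed-point
subscheme) and let `m ⊇ J` be a maximal ideal with residue field `k` (a fixed rational point) at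
which the fixed-point subscheme is the reduced point: `J` and `m` agree after localizing at `m`.
Then the cotangent space `m/m²` has no part of weight zero: every degree-zero element of `m` lies in
`m²`. (The published statement has `M ≅ ℤ^r`, a split torus, and phrases the conclusion as the
non-vanishing of the weights of a semi-invariant basis of `m/m²`; here `M` is any additive
commutative group, i.e. any diagonalizable group.) -/
theorem result
    {k : Type u} [Field k] {M : Type v} [AddCommGroup M] [DecidableEq M]
    {A : Type w} [CommRing A] [Algebra k A] (𝒜 : M → Submodule k A) [GradedAlgebra 𝒜]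
    (m : Ideal A) [m.IsMaximal] (hrat : Function.Surjective (algebraMap k (A ⧸ m)))
    (hfix : ∀ i : M, i ≠ 0 → ∀ a ∈ 𝒜 i, a ∈ m)
    (hred : ∀ a ∈ m, ∃ s ∉ m, s * a ∈ Ideal.span {b : A | ∃ i : M, i ≠ 0 ∧ b ∈ 𝒜 i})
    {f : A} (hf0 : f ∈ 𝒜 0) (hfm : f ∈ m) : f ∈ m ^ 2 := by
  classical
  obtain ⟨s, hs, hsf⟩ := hred f hfm
  -- components of nonzero degree lie in m
  have hcomp : ∀ (a : A) (i : M), i ≠ 0 → (DirectSum.decompose 𝒜 a i : A) ∈ m :=
    fun a i hi => hfix i hi _ (SetLike.coe_mem _)
  -- Step 1
  have hJ : ∀ x ∈ Ideal.span {b : A | ∃ i : M, i ≠ 0 ∧ b ∈ 𝒜 i},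
      ∀ a : A, (DirectSum.decompose 𝒜 (a * x) 0 : A) ∈ m ^ 2 := by
    intro x hx
    induction hx using Submodule.span_induction with
    | mem b hb =>
      obtain ⟨i, hi, hb⟩ := hb
      intro a
      have h1 := DirectSum.coe_decompose_mul_add_of_right_mem 𝒜 (i := -i) (a := a) hb
      rw [neg_add_cancel] at h1
      rw [h1, pow_two]
      exact Ideal.mul_mem_mul (hcomp a (-i) (neg_ne_zero.2 hi)) (hfix i hi b hb)
    | zero => intro a; simp
    | add x y _ _ hx hy =>
      intro a
      rw [mul_add, DirectSum.decompose_add, DirectSum.add_apply, AddMemClass.coe_add]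
      exact add_mem (hx a) (hy a)
    | smul c x _ hx =>
      intro a
      rw [smul_eq_mul, ← mul_assoc]
      exact hx (a * c)
  -- Step 2
  have h2 : (DirectSum.decompose 𝒜 s 0 : A) * f ∈ m ^ 2 := by
    have := hJ (s * f) hsf 1
    rwa [one_mul, DirectSum.coe_decompose_mul_of_right_mem_zero 𝒜 hf0] at this
  -- Step 3
  have h3 : (DirectSum.decompose 𝒜 s 0 : A) ∉ m := by
    intro h0
    apply hs
    rw [← DirectSum.sum_support_decompose 𝒜 s]
    refine Submodule.sum_mem _ (fun i _ => ?_)
    by_cases hi : i = 0
    · subst hi; exact h0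
    · exact hcomp s i hi
  -- Step 4
  obtain ⟨y, i, hi, hyi⟩ := Ideal.IsMaximal.exists_inv (inferInstance : m.IsMaximal) h3
  have h4 : f = y * ((DirectSum.decompose 𝒜 s 0 : A) * f) + i * f := by
    rw [← mul_assoc, ← add_mul, hyi, one_mul]
  rw [h4]
  refine add_mem (Ideal.mul_mem_left _ _ h2) ?_
  rw [pow_two]
  exact Ideal.mul_mem_mul hi hfm

end Groth.Agent.S18790
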