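import Groth.Statements.S18791
import Mathlib.RingTheory.Nakayama
import Mathlib.RingTheory.Localization.AtPrime.Basic
import Mathlib.RingTheory.Jacobson.Ideal
-- import your own Groth.Agent.* helpers here

set_option autoImplicit false
universe u v w x
open TorusGr

namespace Groth.Agent.S18791

/-- Let `φ : B → A` be a degree-preserving homomorphism of commutative algebras over a field `k` graded
by an additive commutative group `M` (for `M` the character group of a split torus, an equivariant
morphism `Spec A → Spec B`), and let `m` be a maximal ideal of `A` containing all homogeneous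
elements of non-zero degree (a fixed point). Then the ideal of those `b` whose image is zero in the
local ring `A_m` is homogeneous: the homogeneous (weight) components of such a `b` again die in
`A_m`. Since `A_m` embeds in its completion when `A` is Noetherian, these are the elements of `B`
that die in the completed local ring. (The published lemma asserts moreover that, for `B = k[Y_1, …,
Y_d]` mapping the `Y_i` to semi-invariant lifts of a basis of `m/m²`, the kernel of the induced
surjection of completions `k[[Y]] → Â_m` is generated by semi-invariant polynomials; generation of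
that kernel by polynomials can fail, so only the statement about polynomial elements of the kernel
is recorded here. The published statement has `M ≅ ℤ^r` (a split torus) and `B` the polynomial ring
on the lifts; here `M` is any additive commutative group and `B` any `M`-graded `k`-algebra.) -/
theorem result
    {k : Type u} [Field k] {M : Type v} [AddCommGroup M] [DecidableEq M]
    {A : Type w} [CommRing A] [Algebra k A] (𝒜 : M → Submodule k A) [GradedAlgebra 𝒜]
    {B : Type x} [CommRing B] [Algebra k B] (ℬ : M → Submodule k B) [GradedAlgebra ℬ]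
    (φ : B →ₐ[k] A) (hφ : ∀ i : M, ∀ b ∈ ℬ i, φ b ∈ 𝒜 i)
    (m : Ideal A) [m.IsMaximal] (hfix : ∀ i : M, i ≠ 0 → ∀ a ∈ 𝒜 i, a ∈ m) :
    (RingHom.ker ((algebraMap A (Localization.AtPrime m)).comp (φ : B →+* A))).IsHomogeneous ℬ := by
  classical
  intro j b hb
  rw [RingHom.mem_ker, RingHom.comp_apply] at hb ⊢
  change algebraMap A (Localization.AtPrime m) (φ b) = 0 at hb
  change algebraMap A (Localization.AtPrime m) (φ (DirectSum.decompose ℬ b j : B)) = 0
  obtain ⟨⟨s, hs⟩, hsb⟩ := (IsLocalization.map_eq_zero_iff m.primeCompl (Localization.AtPrime m) (φ b)).1 hb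
  change s * φ b = 0 at hsb
  have hs' : s ∉ m := hs
  -- components of nonzero degree lie in m
  have hcomp : ∀ (a : A) (i : M), i ≠ 0 → (DirectSum.decompose 𝒜 a i : A) ∈ m :=
    fun a i hi => hfix i hi _ (SetLike.coe_mem _)
  have hs0 : (DirectSum.decompose 𝒜 s 0 : A) ∉ m := by
    intro h0
    apply hs'
    rw [← DirectSum.sum_support_decompose 𝒜 s]
    refine Submodule.sum_mem _ (fun i _ => ?_)
    by_cases hi : i = 0
    · subst hi; exact h0
    · exact hcomp s i hi
  set supp := (DirectSum.decompose ℬ b).support with hsupp
  set ι := algebraMap A (Localization.AtPrime m) with hι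
  let y : M → A := fun i => φ (DirectSum.decompose ℬ b i : B)
  have hy : ∀ i, y i ∈ 𝒜 i := fun i => hφ i _ (SetLike.coe_mem _)
  have hφb : φ b = ∑ i ∈ supp, y i := by
    conv_lhs => rw [← DirectSum.sum_support_decompose ℬ b]
    rw [map_sum]
  -- the equations
  have heq : ∀ j', ∑ i ∈ supp, ι (DirectSum.decompose 𝒜 s (j' - i) : A) * ι (y i) = 0 := by
    intro j'
    have h1 : (DirectSum.decompose 𝒜 (s * φ b) j' : A) = 0 := by rw [hsb]; simp
    rw [hφb, Finset.mul_sum, DirectSum.decompose_sum, DFinsupp.finsetSum_apply,
      AddSubmonoidClass.coe_finsetSum] at h1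
    have h2 : ∀ i ∈ supp, (DirectSum.decompose 𝒜 (s * y i) j' : A) =
        (DirectSum.decompose 𝒜 s (j' - i) : A) * y i := by
      intro i _
      have := DirectSum.coe_decompose_mul_add_of_right_mem 𝒜 (i := j' - i) (a := s) (hy i)
      rwa [sub_add_cancel] at this
    rw [Finset.sum_congr rfl h2] at h1
    have h3 := congrArg ι h1
    rw [map_sum, map_zero] at h3
    simpa [map_mul] using h3
  -- Nakayama
  let x : M → Localization.AtPrime m := fun i => ι (y i)
  let N : Submodule (Localization.AtPrime m) (Localization.AtPrime m) :=
    Submodule.span _ (x '' (supp : Set M))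
  have hNfg : N.FG := Submodule.fg_span ((Finset.finite_toSet supp).image x)
  have hxN : ∀ i ∈ supp, x i ∈ N := fun i hi => Submodule.subset_span ⟨i, hi, rfl⟩
  have hunit : IsUnit (ι (DirectSum.decompose 𝒜 s 0 : A)) :=
    IsLocalization.map_units (Localization.AtPrime m) (⟨_, hs0⟩ : m.primeCompl)
  have hle : N ≤ IsLocalRing.maximalIdeal (Localization.AtPrime m) • N := by
    rw [Submodule.span_le]
    rintro _ ⟨j', hj', rfl⟩
    have h1 := heq j'
    rw [← Finset.add_sum_erase supp _ hj', sub_self] at h1
    have h2 : ι (DirectSum.decompose 𝒜 s 0 : A) * x j' =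
        -∑ i ∈ supp.erase j', ι (DirectSum.decompose 𝒜 s (j' - i) : A) * ι (y i) :=
      eq_neg_of_add_eq_zero_left h1
    have h3 : ι (DirectSum.decompose 𝒜 s 0 : A) * x j' ∈
        IsLocalRing.maximalIdeal (Localization.AtPrime m) • N := by
      rw [h2]
      refine Submodule.neg_mem _ (Submodule.sum_mem _ (fun i hi => ?_))
      have hi' := Finset.mem_erase.1 hi
      rw [← smul_eq_mul]
      refine Submodule.smul_mem_smul ?_ (hxN i hi'.2)
      rw [IsLocalization.AtPrime.to_map_mem_maximal_iff (Localization.AtPrime m) m]
      exact hcomp s (j' - i) (sub_ne_zero.2 (Ne.symm hi'.1))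
    obtain ⟨u, hu⟩ := hunit
    have h4 : x j' = (↑u⁻¹ : Localization.AtPrime m) • (ι (DirectSum.decompose 𝒜 s 0 : A) * x j') := by
      rw [smul_eq_mul, ← mul_assoc, ← hu, Units.inv_mul, one_mul]
    rw [SetLike.mem_coe, h4]
    exact Submodule.smul_mem _ _ h3
  have hN0 : N = ⊥ := Submodule.eq_bot_of_le_smul_of_le_jacobson_bot _ N hNfg hle
    (IsLocalRing.jacobson_eq_maximalIdeal _ bot_ne_top).ge
  by_cases hj : j ∈ supp
  · have := hxN j hj
    rw [hN0, Submodule.mem_bot] at this
    exact this
  · have h0 : DirectSum.decompose ℬ b j = 0 := by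
      rw [hsupp] at hj
      simpa using hj
    rw [h0]; simp

end Groth.Agent.S18791
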