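import Groth.Statements.S18793
import Mathlib.Tactic
import Mathlib.RingTheory.Flat.EquationalCriterion
import Mathlib.RingTheory.Nakayama
import Mathlib.RingTheory.Artinian.Ring
import Mathlib.RingTheory.HopkinsLevitzki
import Mathlib.RingTheory.Ideal.Operations
-- import your own Groth.Agent.* helpers here

set_option autoImplicit false
universe u v w w'
open DefMod

namespace Groth.Agent.S18793

section U
variable {R : Type*} [CommRing R] [IsLocalRing R] {F : Type*} [AddCommGroup F] [Module R F]
  [Module.Flat R F]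

/-- flatness: if `t • y ∈ J F` and `t` is "independent mod J" then `y ∈ m F`. -/
theorem lemmaU (J : Ideal R) (t : R)
    (ht : ∀ s : R, t * s ∈ J → s ∈ IsLocalRing.maximalIdeal R) (y : F)
    (hy : t • y ∈ J • (⊤ : Submodule R F)) :
    y ∈ IsLocalRing.maximalIdeal R • (⊤ : Submodule R F) := by
  classical
  have hspan : (⊤ : Submodule R F) = Submodule.span R (Set.range (id : F → F)) := by
    simp
  rw [hspan, Submodule.mem_ideal_smul_span_iff_exists_sum] at hy
  obtain ⟨a, ha, hsum⟩ := hy
  -- the relation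
  let f : Option a.support → R := fun o => Option.elim o t (fun l => - a l.1)
  let x : Option a.support → F := fun o => Option.elim o y (fun l => l.1)
  have hrel : ∑ o, f o • x o = 0 := by
    rw [Fintype.sum_option]
    simp only [f, x, Option.elim_none, Option.elim_some, neg_smul, Finset.sum_neg_distrib]
    rw [← hsum, Finsupp.sum, ← Finset.sum_attach a.support]
    simp
  obtain ⟨k, A, w, hxA, hfA⟩ := Module.Flat.isTrivialRelation_of_sum_smul_eq_zero hrel
  have hy' : y = ∑ j, A none j • w j := hxA none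
  rw [hy']
  refine Submodule.sum_mem _ (fun j _ => Submodule.smul_mem_smul (ht _ ?_) trivial)
  have := hfA j
  rw [Fintype.sum_option] at this
  simp only [f, Option.elim_none, Option.elim_some, neg_mul, Finset.sum_neg_distrib] at this
  have h2 : t * A none j = ∑ l : a.support, a l.1 * A (some l) j := by
    linear_combination this
  rw [h2]
  exact Ideal.sum_mem _ (fun l _ => Ideal.mul_mem_right _ _ (ha l.1))

end U

section Claim

variable {K : Type u} [Field K]
    {D : Type v} [Ring D] [Algebra K D]
    {E : Type w} [AddCommGroup E] [Module K E] [Module D E] [IsScalarTower K D E]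
    (hE : ∀ ψ : E →ₗ[D] E, ∃ c : K, ∀ y : E, ψ y = c • y)
    (R : ArtFun.Art K K)
    {F : Type w'} [AddCommGroup F] [Module K F] [Module R F] [Module D F]
    [IsScalarTower K R F] [IsScalarTower K D F] [SMulCommClass R D F] [Module.Flat R F]
    (θ : F →ₗ[D] E) (hθ : ∀ (r : R) (x : F), θ (r • x) = R.res r • θ x)
    (hsurj : Function.Surjective θ)
    (hker : ∀ x : F, θ x = 0 ↔ x ∈ IsLocalRing.maximalIdeal R • (⊤ : Submodule R F))

omit [IsScalarTower K R F] [IsScalarTower K D F] [Module.Flat R F] [Module K F] in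
theorem Dstable (J : Ideal R) (d : D) (z : F) (hz : z ∈ J • (⊤ : Submodule R F)) :
    d • z ∈ J • (⊤ : Submodule R F) := by
  refine Submodule.smul_induction_on hz (fun a ha x _ => ?_) (fun x y hx hy => ?_)
  · rw [← smul_comm a d x]
    exact Submodule.smul_mem_smul ha trivial
  · rw [smul_add]
    exact Submodule.add_mem _ hx hy

include hE hθ hsurj hker in
theorem claim (I : Ideal R) :
    ∀ ψ : F →ₗ[R] F, (∀ (d : D) (x : F), ψ (d • x) = d • ψ x) →
      (∀ x, ψ x ∈ I • (⊤ : Submodule R F)) → ∃ r ∈ I, ∀ x, ψ x = r • x := by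
  induction I using (wellFounded_lt (α := Ideal R)).induction with
  | _ I ih =>
  intro ψ hψD hψI
  set 𝔪 := IsLocalRing.maximalIdeal R with h𝔪
  by_cases hI : I = ⊥
  · subst hI
    refine ⟨0, Ideal.zero_mem _, fun x => ?_⟩
    have := hψI x
    rw [Submodule.bot_smul, Submodule.mem_bot] at this
    rw [this, zero_smul]
  -- 𝔪 I < I
  have hmI : 𝔪 * I < I := by
    refine lt_of_le_of_ne Ideal.mul_le_right ?_
    intro heq
    apply hI
    have hfg : (I : Submodule R R).FG := IsNoetherian.noetherian I
    refine Submodule.eq_bot_of_le_smul_of_le_jacobson_bot 𝔪 I hfg ?_ ?_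
    · rw [Ideal.smul_eq_mul, heq]
    · rw [IsLocalRing.jacobson_eq_maximalIdeal ⊥ bot_ne_top]
  -- maximal J
  obtain ⟨J, ⟨hJ1, hJ2⟩, hJmax⟩ := (wellFounded_gt (α := Ideal R)).has_min
    {J : Ideal R | 𝔪 * I ≤ J ∧ J < I} ⟨𝔪 * I, le_rfl, hmI⟩
  obtain ⟨t, htI, htJ⟩ := SetLike.exists_of_lt hJ2
  have hJt : J ⊔ Ideal.span {t} = I := by
    have hle : J ⊔ Ideal.span {t} ≤ I :=
      sup_le hJ2.le ((Ideal.span_singleton_le_iff_mem I).2 htI)
    have hlt : J < J ⊔ Ideal.span {t} := by
      refine lt_of_le_of_ne le_sup_left ?_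
      intro heq
      apply htJ
      rw [heq]
      exact (le_sup_right : Ideal.span {t} ≤ _) (Ideal.mem_span_singleton_self t)
    by_contra hne
    exact hJmax _ ⟨hJ1.trans le_sup_left, lt_of_le_of_ne hle hne⟩ hlt
  have hind : ∀ s : R, t * s ∈ J → s ∈ 𝔪 := by
    intro s hs
    by_contra hsm
    have hu : IsUnit s := IsLocalRing.notMem_maximalIdeal.1 hsm
    obtain ⟨u, rfl⟩ := hu
    apply htJ
    have := J.mul_mem_right (↑u⁻¹ : R) hs
    rwa [mul_assoc, Units.mul_inv, mul_one] at this
  have htm : ∀ a ∈ 𝔪, t * a ∈ J := fun a ha =>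
    hJ1 (by rw [mul_comm t a]; exact Ideal.mul_mem_mul ha htI)
  -- decomposition
  have hdec : ∀ x, ∃ y : F, ψ x - t • y ∈ J • (⊤ : Submodule R F) := by
    intro x
    have hx := hψI x
    rw [← hJt, Submodule.sup_smul, Submodule.mem_sup] at hx
    obtain ⟨z, hz, w, hw, hzw⟩ := hx
    rw [Submodule.ideal_span_singleton_smul, Submodule.mem_smul_pointwise_iff_exists] at hw
    obtain ⟨y, -, rfl⟩ := hw
    exact ⟨y, by rw [← hzw, add_sub_cancel_right]; exact hz⟩
  choose y hy using hdec
  have hU : ∀ u : F, t • u ∈ J • (⊤ : Submodule R F) → θ u = 0 := fun u hu =>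
    (hker u).2 (lemmaU J t hind u hu)
  -- ψ₀
  have hadd : ∀ x x', θ (y (x + x')) = θ (y x) + θ (y x') := by
    intro x x'
    have : t • (y (x + x') - y x - y x') ∈ J • (⊤ : Submodule R F) := by
      have e : t • (y (x + x') - y x - y x') =
          -(ψ (x + x') - t • y (x + x')) + (ψ x - t • y x) + (ψ x' - t • y x') := by
        rw [map_add, smul_sub, smul_sub]; abel
      rw [e]
      exact Submodule.add_mem _ (Submodule.add_mem _ (Submodule.neg_mem _ (hy _)) (hy _)) (hy _)
    have := hU _ this
    rw [map_sub, map_sub] at this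
    rw [sub_sub, sub_eq_zero] at this
    exact this
  have hsmul : ∀ (d : D) x, θ (y (d • x)) = d • θ (y x) := by
    intro d x
    have : t • (y (d • x) - d • y x) ∈ J • (⊤ : Submodule R F) := by
      have e : t • (y (d • x) - d • y x) =
          -(ψ (d • x) - t • y (d • x)) + d • (ψ x - t • y x) := by
        rw [hψD, smul_sub, smul_sub, ← smul_comm t d]; abel
      rw [e]
      exact Submodule.add_mem _ (Submodule.neg_mem _ (hy _)) (Dstable R J d _ (hy _))
    have := hU _ this
    rw [map_sub, map_smul, sub_eq_zero] at this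
    exact this
  have hψm : ∀ x, x ∈ 𝔪 • (⊤ : Submodule R F) → ψ x ∈ J • (⊤ : Submodule R F) := by
    intro x hx
    refine Submodule.smul_induction_on hx (fun a ha x' _ => ?_) (fun x₁ x₂ h₁ h₂ => ?_)
    · rw [map_smul]
      have h1 : a • ψ x' ∈ 𝔪 • (I • (⊤ : Submodule R F)) :=
        Submodule.smul_mem_smul ha (hψI x')
      rw [← Submodule.mul_smul] at h1
      exact Submodule.smul_mono_left hJ1 h1
    · rw [map_add]
      exact Submodule.add_mem _ h₁ h₂
  have hkill : ∀ x, θ x = 0 → θ (y x) = 0 := by
    intro x hx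
    apply hU
    have h1 := hψm x ((hker x).1 hx)
    have e : t • y x = ψ x - (ψ x - t • y x) := by abel
    rw [e]
    exact Submodule.sub_mem _ h1 (hy x)
  let ψ₀ : F →ₗ[D] E :=
    { toFun := fun x => θ (y x)
      map_add' := hadd
      map_smul' := hsmul }
  have hle : LinearMap.ker θ ≤ LinearMap.ker ψ₀ := fun x hx => hkill x hx
  let ψbar : E →ₗ[D] E :=
    ((LinearMap.ker θ).liftQ ψ₀ hle) ∘ₗ (θ.quotKerEquivOfSurjective hsurj).symm.toLinearMap
  have hψbar : ∀ x, ψbar (θ x) = θ (y x) := by
    intro x
    have : (θ.quotKerEquivOfSurjective hsurj).symm (θ x) = Submodule.Quotient.mk x := by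
      rw [LinearEquiv.symm_apply_eq]
      rfl
    simp only [ψbar, LinearMap.coe_comp, LinearEquiv.coe_coe, Function.comp_apply, this]
    rfl
  obtain ⟨c, hc⟩ := hE ψbar
  set ct : R := algebraMap K R c with hct
  have hres : R.res ct = c := by
    rw [hct, AlgHom.commutes]; rfl
  have hyc : ∀ x, y x - ct • x ∈ 𝔪 • (⊤ : Submodule R F) := by
    intro x
    rw [← hker, map_sub, hθ, hres, ← hψbar, hc, sub_self]
  -- ψ'
  let ψ' : F →ₗ[R] F := ψ - (t * ct) • LinearMap.id
  have hψ'D : ∀ (d : D) (x : F), ψ' (d • x) = d • ψ' x := by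
    intro d x
    simp only [ψ', LinearMap.sub_apply, LinearMap.smul_apply, LinearMap.id_coe, id_eq, hψD,
      smul_sub]
    rw [smul_comm (t * ct) d x]
  have hψ'J : ∀ x, ψ' x ∈ J • (⊤ : Submodule R F) := by
    intro x
    have e : ψ' x = (ψ x - t • y x) + t • (y x - ct • x) := by
      simp only [ψ', LinearMap.sub_apply, LinearMap.smul_apply, LinearMap.id_coe, id_eq,
        smul_sub, mul_smul]
      abel
    rw [e]
    refine Submodule.add_mem _ (hy x) ?_
    have h1 := hyc x
    refine Submodule.smul_induction_on h1 (fun a ha x' _ => ?_) (fun x₁ x₂ h₁ h₂ => ?_)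
    · rw [← mul_smul]
      exact Submodule.smul_mem_smul (htm a ha) trivial
    · rw [smul_add]
      exact Submodule.add_mem _ h₁ h₂
  obtain ⟨r', hr'J, hr'⟩ := ih J hJ2 ψ' hψ'D hψ'J
  refine ⟨r' + t * ct, I.add_mem (hJ2.le hr'J) (I.mul_mem_right _ htI), fun x => ?_⟩
  have := hr' x
  simp only [ψ', LinearMap.sub_apply, LinearMap.smul_apply, LinearMap.id_coe, id_eq] at this
  rw [add_smul, ← this]
  abel

end Claim

/-- Let E be a nonzero left module over an associative algebra D over a field K of characteristic zero,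
whose D-linear endomorphisms are exactly the scalars of K. Let R be an Artinian local K-algebra with
residue field K, and let F carry commuting R- and D-module structures (a left module over R ⊗_K D)
with F flat over R, together with a D-linear map θ : F → E that is semilinear over the augmentation
R → K, surjective, and whose kernel is m_R F (so θ induces an isomorphism K ⊗_R F ≅ E; that is, (F,
θ) is a deformation of E over R). Then every endomorphism of F that is both R-linear and D-linear is
multiplication by a unique element of R. (The published statement adds that the automorphisms of (F,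
θ) are then exactly the elements 1 + m_R of R; that consequence is stated separately.) -/
theorem result
    {K : Type u} [Field K] [CharZero K]
    {D : Type v} [Ring D] [Algebra K D]
    {E : Type w} [AddCommGroup E] [Module K E] [Module D E] [IsScalarTower K D E] [Nontrivial E]
    (hE : ∀ ψ : E →ₗ[D] E, ∃ c : K, ∀ y : E, ψ y = c • y)
    (R : ArtFun.Art K K)
    {F : Type w'} [AddCommGroup F] [Module K F] [Module R F] [Module D F]
    [IsScalarTower K R F] [IsScalarTower K D F] [SMulCommClass R D F] [Module.Flat R F]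
    (θ : F →ₗ[D] E) (hθ : ∀ (r : R) (x : F), θ (r • x) = R.res r • θ x)
    (hsurj : Function.Surjective θ)
    (hker : ∀ x : F, θ x = 0 ↔ x ∈ IsLocalRing.maximalIdeal R • (⊤ : Submodule R F))
    (φ : F →ₗ[R] F) (hφ : ∀ (d : D) (x : F), φ (d • x) = d • φ x) :
    ∃! r : R, ∀ x : F, φ x = r • x := by
  obtain ⟨r, -, hr⟩ := claim hE R θ hθ hsurj hker ⊤ φ hφ (fun x => by
    rw [Submodule.top_smul]; trivial)
  refine ⟨r, hr, fun r' hr' => ?_⟩
  by_contra hne
  have hs : r' - r ≠ 0 := sub_ne_zero.2 hne
  have hzero : ∀ x : F, (r' - r) • x = 0 := fun x => by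
    rw [sub_smul, ← hr, ← hr', sub_self]
  have hall : ∀ x : F, θ x = 0 := by
    intro x
    rw [hker]
    refine lemmaU (⊥ : Ideal R) (r' - r) (fun s hs' => ?_) x (by rw [hzero]; exact Submodule.zero_mem _)
    by_contra hsm
    have hu : IsUnit s := IsLocalRing.notMem_maximalIdeal.1 hsm
    apply hs
    have h0 : (r' - r) * s = 0 := by simpa using hs'
    exact (hu.mul_left_eq_zero).1 h0
  obtain ⟨e, he⟩ := exists_ne (0 : E)
  obtain ⟨x, rfl⟩ := hsurj e
  exact he (hall x)

end Groth.Agent.S18793
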