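import Groth.Statements.S18795
import Mathlib

set_option autoImplicit false
universe u v w
open scoped TensorProduct
open DefMod

namespace Groth.Agent.S18795

/-- Let E be a left module over an associative algebra D over a field K of characteristic zero. Assume
that the D-linear endomorphisms of E form a finite-dimensional K-vector space, that E has a finite
presentation over D, and that E is absolutely irreducible: its base change K̄ ⊗_K E to an algebraic
closure K̄ of K is nonzero and its only K̄-subspaces stable under every element of D are 0 and the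
whole space. Then End_D(E) = K: every D-linear endomorphism of E is multiplication by a scalar from
K. -/
theorem result
    {K : Type u} [Field K] [CharZero K]
    {D : Type v} [Ring D] [Algebra K D]
    {E : Type w} [AddCommGroup E] [Module K E] [Module D E] [IsScalarTower K D E]
    [Module.Finite K (E →ₗ[D] E)] [Module.FinitePresentation D E]
    (habs : (Nontrivial (AlgebraicClosure K ⊗[K] E) ∧ ∀ N : Submodule (AlgebraicClosure K) (AlgebraicClosure K ⊗[K] E), (∀ (d : D) (x : AlgebraicClosure K ⊗[K] E), x ∈ N → (DistribSMul.toLinearMap K E d).baseChange (AlgebraicClosure K) x ∈ N) → N = ⊥ ∨ N = ⊤))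
    (φ : E →ₗ[D] E) : ∃ c : K, ∀ x : E, φ x = c • x := by
  classical
  obtain ⟨hnt, hirr⟩ := habs
  -- a lemma on products of endomorphisms
  have hlist : ∀ (V : Type (max u w)) [AddCommGroup V] [Module (AlgebraicClosure K) V] [Nontrivial V]
      (l : List (Module.End (AlgebraicClosure K) V)), l.prod = 0 →
      ∃ f ∈ l, ¬ Function.Injective f := by
    intro V _ _ _ l
    induction l with
    | nil =>
      intro h
      exfalso
      rw [List.prod_nil] at h
      obtain ⟨v, hv⟩ := exists_ne (0 : V)
      apply hv
      have := LinearMap.congr_fun h v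
      simpa using this
    | cons f l ih =>
      intro h
      rw [List.prod_cons] at h
      by_cases hl : l.prod = 0
      · obtain ⟨g, hg, hgi⟩ := ih hl
        exact ⟨g, List.mem_cons_of_mem _ hg, hgi⟩
      · refine ⟨f, List.mem_cons_self, ?_⟩
        intro hinj
        apply hl
        ext v
        apply hinj
        have := LinearMap.congr_fun h v
        show f (l.prod v) = f ((0 : Module.End (AlgebraicClosure K) V) v)
        rw [LinearMap.zero_apply, map_zero]
        exact this
  have hE : Nontrivial E := by
    by_contra h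
    rw [not_nontrivial_iff_subsingleton] at h
    have hz : ∀ a : AlgebraicClosure K ⊗[K] E, a = 0 := by
      intro a
      induction a using TensorProduct.induction_on with
      | zero => rfl
      | tmul c x => rw [Subsingleton.elim x 0, TensorProduct.tmul_zero]
      | add x y hx hy => rw [hx, hy, add_zero]
    have : Subsingleton (AlgebraicClosure K ⊗[K] E) := ⟨fun a b => by rw [hz a, hz b]⟩
    exact not_subsingleton _ this
  obtain ⟨e, he⟩ := exists_ne (0 : E)
  -- `φ` is integral over `K`
  have hint : IsIntegral K (φ : Module.End D E) :=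
    (Algebra.IsIntegral.of_finite K (Module.End D E)).isIntegral φ
  obtain ⟨p, hpm, hp⟩ := hint
  have hp' : Polynomial.aeval (φ : Module.End D E) p = 0 := hp
  -- restriction of scalars as an algebra map
  let rs : Module.End D E →ₐ[K] Module.End K E :=
    { toFun := fun f => f.restrictScalars K
      map_one' := rfl
      map_mul' := fun _ _ => rfl
      map_zero' := rfl
      map_add' := fun _ _ => rfl
      commutes' := fun c => by
        ext x
        simp [Module.algebraMap_end_apply] }
  have hpK : Polynomial.aeval (rs φ) p = 0 := by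
    rw [Polynomial.aeval_algHom_apply, hp', map_zero]
  obtain ⟨T, hTdef⟩ : ∃ T : Module.End (AlgebraicClosure K) (AlgebraicClosure K ⊗[K] E),
      T = Module.End.baseChangeHom K (AlgebraicClosure K) E (rs φ) := ⟨_, rfl⟩
  have hTtmul : ∀ (c : AlgebraicClosure K) (x : E), T (c ⊗ₜ[K] x) = c ⊗ₜ[K] φ x := by
    intro c x
    rw [hTdef]
    rfl
  have hT : Polynomial.aeval T (p.map (algebraMap K (AlgebraicClosure K))) = 0 := by
    rw [Polynomial.aeval_map_algebraMap, hTdef, Polynomial.aeval_algHom_apply, hpK, map_zero]
  obtain ⟨q, hq⟩ : ∃ q, q = p.map (algebraMap K (AlgebraicClosure K)) := ⟨_, rfl⟩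
  have hqm : q.Monic := by rw [hq]; exact hpm.map _
  have hqs : q.Splits := IsAlgClosed.splits q
  have hqprod : q = (q.roots.toList.map (fun a => Polynomial.X - Polynomial.C a)).prod := by
    conv_lhs => rw [hqs.eq_prod_roots, hqm.leadingCoeff, Polynomial.C_1, one_mul]
    conv_lhs => rw [← Multiset.coe_toList q.roots]
    rw [Multiset.map_coe, Multiset.prod_coe]
  rw [← hq, hqprod, map_list_prod, List.map_map] at hT
  obtain ⟨f, hf, hfi⟩ := hlist _ _ hT
  rw [List.mem_map] at hf
  obtain ⟨lam, -, rfl⟩ := hf
  have hfeq : ((Polynomial.aeval T) ∘ fun a => Polynomial.X - Polynomial.C a) lam =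
      T - algebraMap (AlgebraicClosure K) _ lam := by
    simp
  rw [hfeq] at hfi
  -- the eigenspace is everything
  obtain ⟨N, hN⟩ : ∃ N : Submodule (AlgebraicClosure K) (AlgebraicClosure K ⊗[K] E),
      N = LinearMap.ker (T - algebraMap (AlgebraicClosure K)
        (Module.End (AlgebraicClosure K) (AlgebraicClosure K ⊗[K] E)) lam) := ⟨_, rfl⟩
  have hmemN : ∀ y, y ∈ N ↔ T y = lam • y := by
    intro y
    rw [hN, LinearMap.mem_ker, LinearMap.sub_apply, Module.algebraMap_end_apply, sub_eq_zero]
  have hNbot : N ≠ ⊥ := by
    intro h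
    apply hfi
    rw [← LinearMap.ker_eq_bot, ← hN, h]
  have hcomm : ∀ (d : D) (y : AlgebraicClosure K ⊗[K] E),
      T ((DistribSMul.toLinearMap K E d).baseChange (AlgebraicClosure K) y) =
        (DistribSMul.toLinearMap K E d).baseChange (AlgebraicClosure K) (T y) := by
    intro d y
    induction y using TensorProduct.induction_on with
    | zero => simp
    | tmul c x =>
      rw [LinearMap.baseChange_tmul, hTtmul, hTtmul, LinearMap.baseChange_tmul]
      congr 1
      exact map_smul φ d x
    | add x y hx hy => rw [map_add, map_add, hx, hy, map_add, map_add]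
  have hstab : ∀ (d : D) (x : AlgebraicClosure K ⊗[K] E), x ∈ N →
      (DistribSMul.toLinearMap K E d).baseChange (AlgebraicClosure K) x ∈ N := by
    intro d x hx
    rw [hmemN] at hx ⊢
    rw [hcomm, hx, map_smul]
  have hNtop : N = ⊤ := (hirr N hstab).resolve_left hNbot
  have hTlam : ∀ y, T y = lam • y := fun y => (hmemN y).mp (hNtop ▸ Submodule.mem_top)
  -- `lam` comes from `K`
  obtain ⟨g, hg⟩ := (LinearMap.toSpanSingleton K E e).exists_leftInverse_of_injective
    (LinearMap.ker_toSpanSingleton K he)
  have hge : g e = 1 := by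
    have := LinearMap.congr_fun hg 1
    simpa using this
  let ψ : AlgebraicClosure K ⊗[K] E →ₗ[AlgebraicClosure K] AlgebraicClosure K :=
    (TensorProduct.AlgebraTensorModule.rid K (AlgebraicClosure K) (AlgebraicClosure K)).toLinearMap ∘ₗ
      (g.baseChange (AlgebraicClosure K))
  have hψ : ∀ (c : AlgebraicClosure K) (x : E), ψ (c ⊗ₜ[K] x) = g x • c := by
    intro c x
    show (TensorProduct.AlgebraTensorModule.rid K (AlgebraicClosure K) (AlgebraicClosure K))
      (g.baseChange (AlgebraicClosure K) (c ⊗ₜ[K] x)) = _
    rw [LinearMap.baseChange_tmul, TensorProduct.AlgebraTensorModule.rid_tmul]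
  have hlam : lam = algebraMap K (AlgebraicClosure K) (g (φ e)) := by
    have h1 := congrArg ψ (hTlam ((1 : AlgebraicClosure K) ⊗ₜ[K] e))
    rw [hTtmul, map_smul, hψ, hψ, hge, one_smul, smul_eq_mul, mul_one] at h1
    rw [← h1, Algebra.algebraMap_eq_smul_one]
  refine ⟨g (φ e), fun x => ?_⟩
  apply Module.FaithfullyFlat.tensorProduct_mk_injective (A := K) (B := AlgebraicClosure K) E
  show (1 : AlgebraicClosure K) ⊗ₜ[K] φ x = (1 : AlgebraicClosure K) ⊗ₜ[K] (g (φ e) • x)
  rw [← hTtmul, hTlam, hlam, TensorProduct.tmul_smul, algebraMap_smul]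

end Groth.Agent.S18795
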