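import Groth.Statements.S18796
import Mathlib.Tactic
import Mathlib.LinearAlgebra.TensorProduct.Basis
import Mathlib.LinearAlgebra.FreeModule.Basic
import Mathlib.Algebra.Module.FinitePresentation
-- import your own Groth.Agent.* helpers here

set_option autoImplicit false
universe u v w w' u'
open scoped TensorProduct
open DefMod

namespace Groth.Agent.S18796

open scoped TensorProduct

section coord
variable {K : Type*} [Field K] {P : Type*} [AddCommGroup P] [Module K P]
  {ι : Type*} (b : Module.Basis ι K P) (V : Type*) [AddCommGroup V] [Module K V]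

/-- the `i`-th coordinate of an element of `P ⊗ V` with respect to a basis of `P`. -/
noncomputable def coord (i : ι) : P ⊗[K] V →ₗ[K] V :=
  (TensorProduct.lid K V).toLinearMap ∘ₗ (b.coord i).rTensor V

@[simp] theorem coord_tmul (i : ι) (p : P) (v : V) : coord b V i (p ⊗ₜ v) = b.repr p i • v := by
  simp [coord]

theorem eq_zero_of_coord (z : P ⊗[K] V) (h : ∀ i, coord b V i z = 0) : z = 0 := by
  classical
  apply (TensorProduct.equivFinsuppOfBasisLeft b).injective
  ext i
  rw [TensorProduct.equivFinsuppOfBasisLeft_apply]
  simpa [coord] using h i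

theorem eq_of_coord (z z' : P ⊗[K] V) (h : ∀ i, coord b V i z = coord b V i z') : z = z' := by
  rw [← sub_eq_zero]
  apply eq_zero_of_coord b V
  intro i
  rw [map_sub, h i, sub_self]

theorem coord_support_finite (z : P ⊗[K] V) : {i | coord b V i z ≠ 0}.Finite := by
  classical
  refine ((TensorProduct.equivFinsuppOfBasisLeft b z).support.finite_toSet).subset ?_
  intro i hi
  simp only [Finset.mem_coe, Finsupp.mem_support_iff]
  rw [TensorProduct.equivFinsuppOfBasisLeft_apply]
  simpa [coord] using hi

end coord

/-- Let K be a field of characteristic zero, D an associative K-algebra, E a left D-module that is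
finitely presented over D, F a left D-module and P a commutative K-algebra. The canonical P-linear
map Φ : P ⊗_K Hom_D(E, F) → Hom_P(P ⊗_K E, P ⊗_K F), determined by p ⊗ f ↦ p · (1_P ⊗ f), is
injective, and its image consists exactly of the P-linear maps that commute with the action of every
element of D; in other words Φ identifies P ⊗_K Hom_D(E, F) with the module of homomorphisms P ⊗_K E
→ P ⊗_K F over P ⊗_K D. The map Φ is pinned here by its values on pure tensors. -/
theorem result
    {K : Type u} [Field K] [CharZero K]
    {D : Type v} [Ring D] [Algebra K D]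
    {E : Type w} [AddCommGroup E] [Module K E] [Module D E] [IsScalarTower K D E]
    [Module.FinitePresentation D E]
    {F : Type w'} [AddCommGroup F] [Module K F] [Module D F] [IsScalarTower K D F]
    (P : Type u') [CommRing P] [Algebra K P]
    (Φ : P ⊗[K] (E →ₗ[D] F) →ₗ[P] (P ⊗[K] E →ₗ[P] P ⊗[K] F))
    (hΦ : ∀ (p : P) (f : E →ₗ[D] F), Φ (p ⊗ₜ[K] f) = p • (f.restrictScalars K).baseChange P) :
    Function.Injective Φ ∧
      ∀ g : P ⊗[K] E →ₗ[P] P ⊗[K] F,
        g ∈ LinearMap.range Φ ↔
          ∀ d : D, g ∘ₗ (DistribSMul.toLinearMap K E d).baseChange P =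
            (DistribSMul.toLinearMap K F d).baseChange P ∘ₗ g := by
  classical
  let b := Module.Free.chooseBasis K P
  -- key identity
  have hkey : ∀ (x : P ⊗[K] (E →ₗ[D] F)) (j) (e : E),
      coord b F j (Φ x ((1 : P) ⊗ₜ[K] e)) = (coord b (E →ₗ[D] F) j x) e := by
    intro x j e
    induction x using TensorProduct.induction_on with
    | zero => simp
    | tmul p f =>
      rw [hΦ, LinearMap.smul_apply, LinearMap.baseChange_tmul, TensorProduct.smul_tmul',
        smul_eq_mul, mul_one, coord_tmul, coord_tmul]
      rfl
    | add x y hx hy =>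
      simp only [map_add, LinearMap.add_apply, hx, hy]
  have hcoordD : ∀ (d : D) (i) (z : P ⊗[K] F),
      coord b F i ((DistribSMul.toLinearMap K F d).baseChange P z) = d • coord b F i z := by
    intro d i z
    induction z using TensorProduct.induction_on with
    | zero => simp
    | tmul p f =>
      rw [LinearMap.baseChange_tmul, coord_tmul, coord_tmul]
      change b.repr p i • d • f = d • b.repr p i • f
      rw [smul_comm]
    | add x y hx hy =>
      simp only [map_add, hx, hy, smul_add]
  have hext : ∀ g g' : P ⊗[K] E →ₗ[P] P ⊗[K] F,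
      (∀ e : E, g ((1 : P) ⊗ₜ[K] e) = g' ((1 : P) ⊗ₜ[K] e)) → g = g' := by
    intro g g' h
    apply LinearMap.ext
    intro z
    induction z using TensorProduct.induction_on with
    | zero => simp
    | tmul p e =>
      have : p ⊗ₜ[K] e = p • ((1 : P) ⊗ₜ[K] e) := by
        rw [TensorProduct.smul_tmul', smul_eq_mul, mul_one]
      rw [this, map_smul, map_smul, h]
    | add x y hx hy => simp only [map_add, hx, hy]
  refine ⟨?_, fun g => ⟨?_, ?_⟩⟩
  · -- injectivity
    rw [injective_iff_map_eq_zero]
    intro x hx
    apply eq_zero_of_coord b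
    intro j
    apply LinearMap.ext
    intro e
    rw [← hkey, hx]
    simp
  · -- range ⊆ commuting
    rintro ⟨x, rfl⟩ d
    induction x using TensorProduct.induction_on with
    | zero => simp
    | tmul p f =>
      rw [hΦ]
      apply LinearMap.ext
      intro z
      induction z using TensorProduct.induction_on with
      | zero => simp
      | tmul q e =>
        simp only [LinearMap.coe_comp, Function.comp_apply, LinearMap.baseChange_tmul,
          LinearMap.smul_apply, map_smul]
        congr 2
        exact f.map_smul d e
      | add x y hx hy => simp only [map_add, hx, hy]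
    | add x y hx hy =>
      rw [map_add, LinearMap.add_comp, LinearMap.comp_add, hx, hy]
  · -- commuting ⊆ range
    intro hg
    -- components
    let G : Module.Free.ChooseBasisIndex K P → (E →ₗ[D] F) := fun i =>
      { toFun := fun e => coord b F i (g ((1 : P) ⊗ₜ[K] e))
        map_add' := fun e e' => by rw [TensorProduct.tmul_add, map_add, map_add]
        map_smul' := fun d e => by
          have h1 : g ((1 : P) ⊗ₜ[K] (d • e)) =
              (DistribSMul.toLinearMap K F d).baseChange P (g ((1 : P) ⊗ₜ[K] e)) := by
            have := LinearMap.congr_fun (hg d) ((1 : P) ⊗ₜ[K] e)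
            simpa using this
          rw [h1, hcoordD]
          rfl }
    have hG : ∀ i e, G i e = coord b F i (g ((1 : P) ⊗ₜ[K] e)) := fun i e => rfl
    obtain ⟨S, hS⟩ := (Module.Finite.fg_top : (⊤ : Submodule D E).FG)
    have hfin : ∀ e ∈ S, {i | coord b F i (g ((1 : P) ⊗ₜ[K] e)) ≠ 0}.Finite :=
      fun e _ => coord_support_finite b F _
    let I₀ : Finset (Module.Free.ChooseBasisIndex K P) :=
      S.biUnion (fun e => (coord_support_finite b F (g ((1 : P) ⊗ₜ[K] e))).toFinset)
    have hGz : ∀ i, i ∉ I₀ → G i = 0 := by
      intro i hi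
      apply LinearMap.ext_on hS
      intro e he
      rw [hG, LinearMap.zero_apply]
      by_contra hne
      apply hi
      simp only [I₀, Finset.mem_biUnion, Set.Finite.mem_toFinset, Set.mem_ofPred_eq]
      exact ⟨e, he, hne⟩
    refine ⟨∑ i ∈ I₀, b i ⊗ₜ[K] G i, ?_⟩
    apply hext
    intro e
    apply eq_of_coord b
    intro j
    rw [hkey, map_sum, LinearMap.sum_apply, ← hG]
    simp only [coord_tmul, Module.Basis.repr_self, LinearMap.smul_apply]
    by_cases hj : j ∈ I₀
    · rw [Finset.sum_eq_single j]
      · simp
      · intro i _ hij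
        simp [hij]
      · intro h; exact absurd hj h
    · rw [hGz j hj, LinearMap.zero_apply]
      apply Finset.sum_eq_zero
      intro i hi
      have : i ≠ j := fun h => hj (h ▸ hi)
      simp [this]

end Groth.Agent.S18796
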