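import Groth.Statements.S1880
import Groth.Agent.S7457
import Groth.Agent.Lib.Helper38.GrpdLib
import Groth.Agent.Lib.Helper38.NormBC
import Mathlib.AlgebraicGeometry.Morphisms.Affine

set_option autoImplicit false
universe u
open CategoryTheory CategoryTheory.Limits AlgebraicGeometry
open Grpd

namespace Groth.Agent.S1880

/-- Let (U, R, s, t, c) be a groupoid scheme with U, R affine and s, t finite locally free. For f ∈
Γ(U), the norm along s♯ of t♯(f) is an R-invariant function. (Mathlib's norm is the determinant when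
Γ(R) is free over Γ(U) via s♯ and 1 otherwise; the content is the free case, e.g. after localizing
U.) (A groupoid scheme carries U, R, s, t, c, e, i over S with the groupoid axioms on T-points;
'finite locally free' is finite, flat and locally of finite presentation; C ⊂ Γ(U) is the ring of
functions a with s♯(a) = t♯(a) and M = Spec C.) -/
theorem result (S : Scheme.{u}) (G : Grpd.GroupoidScheme S) [IsAffine G.U] [IsAffine G.R] [IsFinite G.s] [Flat G.s] [LocallyOfFinitePresentation G.s] [IsFinite G.t] [Flat G.t] [LocallyOfFinitePresentation G.t] (f : Γ(G.U, ⊤)) : G.normST f ∈ G.invariants := by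

  change G.s.appTop.hom (G.normST f) = G.t.appTop.hom (G.normST f)
  letI alg : Algebra Γ(G.U, ⊤) Γ(G.R, ⊤) := G.s.appTop.hom.toAlgebra
  have hN : G.normST f = Algebra.norm Γ(G.U, ⊤) (G.t.appTop.hom f) := rfl
  by_cases hb : ∃ s : Finset Γ(G.R, ⊤), Nonempty (Module.Basis s Γ(G.U, ⊤) Γ(G.R, ⊤))
  · obtain ⟨s, ⟨bs⟩⟩ := hb
    have hfree : Module.Free Γ(G.U, ⊤) Γ(G.R, ⊤) := Module.Free.of_basis bs
    have hfin : Module.Finite Γ(G.U, ⊤) Γ(G.R, ⊤) := Module.Finite.of_basis bs
    have sqA : IsPushout G.t.appTop G.s.appTop (pullback.snd G.s G.t).appTop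
        (pullback.fst G.s G.t).appTop :=
      (isPushout_appTop_of_isPullback (IsPullback.of_hasPullback G.s G.t)).flip
    have sqB : IsPushout G.s.appTop G.s.appTop (pullback.snd G.s G.t).appTop G.c.appTop :=
      (isPushout_appTop_of_isPullback (Groth.Agent.S7457.result S G).2).flip
    have eA := Groth.Agent.Lib.Helper38.NormBC.norm_of_isPushout G.s.appTop.hom G.t.appTop.hom
      (pullback.fst G.s G.t).appTop.hom (pullback.snd G.s G.t).appTop.hom sqA hfree hfin
      (G.t.appTop.hom f)
    have eB := Groth.Agent.Lib.Helper38.NormBC.norm_of_isPushout G.s.appTop.hom G.s.appTop.hom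
      G.c.appTop.hom (pullback.snd G.s G.t).appTop.hom sqB hfree hfin
      (G.t.appTop.hom f)
    have hct : G.c.appTop.hom (G.t.appTop.hom f) =
        (pullback.fst G.s G.t).appTop.hom (G.t.appTop.hom f) := by
      have h1 : G.t.appTop ≫ G.c.appTop = G.t.appTop ≫ (pullback.fst G.s G.t).appTop := by
        rw [← Scheme.Hom.comp_appTop, ← Scheme.Hom.comp_appTop,
          Groth.Agent.Lib.Helper38.GrpdLib.c_t]
      exact congrArg (fun g => g.hom f) h1
    rw [hN]
    rw [← eA, ← eB, hct]
  · rw [hN, Algebra.norm_eq_one_of_not_exists_basis _ hb, map_one, map_one]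


end Groth.Agent.S1880
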