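import Groth.Statements.S18802
import Mathlib.LinearAlgebra.Basis.VectorSpace
import Mathlib.Algebra.Algebra.Tower
import Mathlib.Algebra.Module.Projective
-- import your own Groth.Agent.* helpers here

set_option autoImplicit false
universe u v w w' w''
open DefMod

namespace Groth.Agent.S18802

open W4c6defoisocp1

theorem aux
    {K : Type u} [Field K]
    {D : Type v} [Ring D] [Algebra K D]
    {E : Type w} [AddCommGroup E] [Module K E] [Module D E] [IsScalarTower K D E]
    {F : Type w'} [AddCommGroup F] [Module K F] [Module D F] [IsScalarTower K D F]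
    {Q : Type w''} [AddCommGroup Q] [Module D Q] [Module K Q] [IsScalarTower K D Q]
    (i : F →ₗ[D] Q) (p : Q →ₗ[D] E) (hi : Function.Injective i) (hp : Function.Surjective p)
    (hex : Function.Exact i p) :
    ∃ (s : D →ₗ[K] E →ₗ[K] F) (hs : IsHomDerivation s) (Φ : Q ≃ₗ[D] TwistExt s hs),
      (∀ f : F, Φ (i f) = TwistExt.inl f) ∧ ∀ q : Q, TwistExt.snd (Φ q) = p q := by
  obtain ⟨σ, hσ⟩ := (p.restrictScalars K).exists_rightInverse_of_surjective
    (LinearMap.range_eq_top.2 hp)
  have hpσ : ∀ e, p (σ e) = e := fun e => LinearMap.congr_fun hσ e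
  obtain ⟨r₀, hr₀⟩ := (i.restrictScalars K).exists_leftInverse_of_injective
    (LinearMap.ker_eq_bot.2 hi)
  have hr₀i : ∀ f, r₀ (i f) = f := fun f => LinearMap.congr_fun hr₀ f
  let r : Q →ₗ[K] F := r₀ ∘ₗ (LinearMap.id - σ ∘ₗ p.restrictScalars K)
  have hr : ∀ q, i (r q) = q - σ (p q) := by
    intro q
    have h0 : p (q - σ (p q)) = 0 := by rw [map_sub, hpσ, sub_self]
    obtain ⟨f, hf⟩ := (hex _).1 h0
    show i (r₀ (q - σ (p q))) = q - σ (p q)
    rw [← hf, hr₀i]
  have hri : ∀ f, r (i f) = f := by
    intro f
    apply hi
    rw [hr, hex.apply_apply_eq_zero, map_zero, sub_zero]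
  let s : D →ₗ[K] E →ₗ[K] F := LinearMap.mk₂ K (fun a e => r (a • σ e))
    (fun a b e => by rw [add_smul, map_add])
    (fun c a e => by rw [smul_assoc, r.map_smul])
    (fun a e e' => by rw [map_add, smul_add, map_add])
    (fun c a e => by rw [σ.map_smul, smul_comm a c (σ e), r.map_smul])
  have hsa : ∀ a e, i (s a e) = a • σ e - σ (a • e) := by
    intro a e
    show i (r (a • σ e)) = _
    rw [hr, map_smul, hpσ]
  have hs : IsHomDerivation s := by
    intro a b e
    apply hi
    rw [map_add, map_smul, hsa, hsa, hsa, mul_smul, mul_smul, smul_sub]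
    abel
  have hrsmul : ∀ (a : D) (q : Q), r (a • q) = a • r q + s a (p q) := by
    intro a q
    apply hi
    rw [hr, map_add, hsa, map_smul i a (r q), hr, map_smul p a q, smul_sub]
    abel
  let Φ : Q ≃ₗ[D] TwistExt s hs :=
    { toFun := fun q => TwistExt.mk (r q, p q)
      map_add' := fun q q' => TwistExt.ext (by simp) (by simp)
      map_smul' := fun a q => TwistExt.ext (by simp [hrsmul]) (by simp)
      invFun := fun x => i (TwistExt.val x).1 + σ (TwistExt.val x).2
      left_inv := fun q => by
        simp only [TwistExt.val_mk]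
        rw [hr, sub_add_cancel]
      right_inv := fun x => by
        apply TwistExt.ext
        · simp only [TwistExt.val_mk]
          rw [map_add, hri]
          have : r (σ (TwistExt.val x).2) = 0 := by
            apply hi
            rw [hr, hpσ, sub_self, map_zero]
          rw [this, add_zero]
        · simp only [TwistExt.val_mk]
          rw [map_add, hex.apply_apply_eq_zero, hpσ, zero_add] }
  refine ⟨s, hs, Φ, ?_, ?_⟩
  · intro f
    apply TwistExt.ext
    · show r (i f) = f
      exact hri f
    · show p (i f) = 0
      exact hex.apply_apply_eq_zero f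
  · intro q
    rfl


/-- Let K be a field of characteristic zero, D an associative K-algebra and E, F left D-modules. A
K-linear map s : D → Hom_K(E, F) with s(ab)(e) = a s(b)(e) + s(a)(b e) (a derivation into the
bimodule Hom_K(E, F), i.e. a Hochschild 1-cocycle) defines the twisted sum F ⊕_s E = F × E with a ·
(f, e) = (a f + s(a) e, a e), an extension of E by F. Every extension of left D-modules 0 → F → Q →
E → 0 arises this way: there are such an s and a D-linear isomorphism Q ≅ F ⊕_s E carrying the given
map F → Q to the inclusion f ↦ (f, 0) and compatible with the two projections onto E. (Together with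
the splitting criterion this identifies derivations modulo principal derivations with Ext¹_D(E, F);
the compatibility of that identification with addition and scalars is not restated.) -/
theorem result
    {K : Type u} [Field K] [CharZero K]
    {D : Type v} [Ring D] [Algebra K D]
    {E : Type w} [AddCommGroup E] [Module K E] [Module D E] [IsScalarTower K D E]
    {F : Type w'} [AddCommGroup F] [Module K F] [Module D F] [IsScalarTower K D F]
    {Q : Type w''} [AddCommGroup Q] [Module D Q]
    (i : F →ₗ[D] Q) (p : Q →ₗ[D] E) (hi : Function.Injective i) (hp : Function.Surjective p)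
    (hex : Function.Exact i p) :
    ∃ (s : D →ₗ[K] E →ₗ[K] F) (hs : W4c6defoisocp1.IsHomDerivation s) (Φ : Q ≃ₗ[D] W4c6defoisocp1.TwistExt s hs),
      (∀ f : F, Φ (i f) = W4c6defoisocp1.TwistExt.inl f) ∧ ∀ q : Q, W4c6defoisocp1.TwistExt.snd (Φ q) = p q := by
  let _ : Module K Q := Module.compHom Q (algebraMap K D)
  have : IsScalarTower K D Q := IsScalarTower.of_compHom K D Q
  exact aux i p hi hp hex

end Groth.Agent.S18802
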