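import Groth.Statements.S18803
import Mathlib.LinearAlgebra.Basis.VectorSpace
import Mathlib.Algebra.Algebra.Tower
import Mathlib.Algebra.Module.Projective
-- import your own Groth.Agent.* helpers here

set_option autoImplicit false
universe u v w w'
open DefMod

namespace Groth.Agent.S18803

open W4c6defoisocp1


/-- Let K be a field of characteristic zero, D an associative K-algebra, E and F left D-modules, and s :
D → Hom_K(E, F) a K-linear map with s(ab)(e) = a s(b)(e) + s(a)(b e). The twisted sum F ⊕_s E (that
is F × E with a · (f, e) = (a f + s(a) e, a e)) is a trivial extension of E by F — there is a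
D-linear isomorphism F ⊕_s E ≅ F × E with the direct-sum module structure, carrying the inclusion f
↦ (f, 0) to itself and compatible with the second projections — if and only if s is principal:
s(a)(e) = a σ(e) − σ(a e) for some K-linear σ : E → F (a Hochschild 1-coboundary). -/
theorem result
    {K : Type u} [Field K] [CharZero K]
    {D : Type v} [Ring D] [Algebra K D]
    {E : Type w} [AddCommGroup E] [Module K E] [Module D E] [IsScalarTower K D E]
    {F : Type w'} [AddCommGroup F] [Module K F] [Module D F] [IsScalarTower K D F]
    (s : D →ₗ[K] E →ₗ[K] F) (hs : W4c6defoisocp1.IsHomDerivation s) :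
    (∃ Ψ : W4c6defoisocp1.TwistExt s hs ≃ₗ[D] F × E,
        (∀ f : F, Ψ (W4c6defoisocp1.TwistExt.inl f) = (f, 0)) ∧ ∀ x : W4c6defoisocp1.TwistExt s hs, (Ψ x).2 = W4c6defoisocp1.TwistExt.snd x) ↔
      W4c6defoisocp1.IsPrincipal s := by
  constructor
  · rintro ⟨Ψ, h1, h2⟩
    have hΨ : ∀ (f : F) (e : E), Ψ (TwistExt.mk (f, e)) =
        (f + (Ψ (TwistExt.mk (0, e))).1, e) := by
      intro f e
      have h0 : (TwistExt.mk (f, e) : TwistExt s hs) = TwistExt.inl f + TwistExt.mk (0, e) := by
        apply TwistExt.ext <;> simp
      rw [h0, map_add, h1]
      apply Prod.ext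
      · simp
      · have := h2 (TwistExt.mk (0, e))
        simp only [TwistExt.snd_apply, TwistExt.val_mk] at this
        simp [this]
    have key : ∀ (a : D) (e : E), s a e =
        a • (Ψ (TwistExt.mk (0, e))).1 - (Ψ (TwistExt.mk (0, a • e))).1 := by
      intro a e
      have h3 : a • (TwistExt.mk (0, e) : TwistExt s hs) = TwistExt.mk (s a e, a • e) := by
        apply TwistExt.ext <;> simp
      have h4 := congrArg Prod.fst (Ψ.map_smul a (TwistExt.mk (0, e)))
      rw [h3, hΨ] at h4
      simp only [Prod.smul_fst] at h4
      rw [← h4]
      abel
    have hadd : ∀ e e' : E, (Ψ (TwistExt.mk (0, e + e'))).1 =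
        (Ψ (TwistExt.mk (0, e))).1 + (Ψ (TwistExt.mk (0, e'))).1 := by
      intro e e'
      have h0 : (TwistExt.mk (0, e + e') : TwistExt s hs) =
          TwistExt.mk (0, e) + TwistExt.mk (0, e') := by
        apply TwistExt.ext <;> simp
      rw [h0, map_add, Prod.fst_add]
    have hsmul : ∀ (c : K) (e : E), (Ψ (TwistExt.mk (0, c • e))).1 =
        c • (Ψ (TwistExt.mk (0, e))).1 := by
      intro c e
      have h5 := key (algebraMap K D c) e
      rw [Algebra.algebraMap_eq_smul_one, map_smul, TwistExt.map_one_eq_zero hs, smul_zero,
        LinearMap.zero_apply, smul_assoc, one_smul, smul_assoc, one_smul] at h5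
      exact (sub_eq_zero.1 h5.symm).symm
    exact ⟨{ toFun := fun e => (Ψ (TwistExt.mk (0, e))).1
             map_add' := hadd
             map_smul' := hsmul }, key⟩
  · rintro ⟨σ, hσ⟩
    refine ⟨{ toFun := fun x => ((TwistExt.val x).1 + σ (TwistExt.val x).2, (TwistExt.val x).2)
              map_add' := fun x y => by
                apply Prod.ext
                · simp only [TwistExt.val_add, Prod.fst_add, Prod.snd_add, map_add]
                  abel
                · simp
              map_smul' := fun a x => by
                apply Prod.ext
                · simp only [TwistExt.val_smul, RingHom.id_apply, Prod.smul_fst, hσ, smul_add]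
                  abel
                · simp
              invFun := fun y => TwistExt.mk (y.1 - σ y.2, y.2)
              left_inv := fun x => by
                apply TwistExt.ext <;> simp
              right_inv := fun y => by
                apply Prod.ext <;> simp }, ?_, ?_⟩
    · intro f
      apply Prod.ext <;> simp
    · intro x
      rfl

end Groth.Agent.S18803
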