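import Groth.Statements.S18806
import Groth.Agent.Lib.Helper56.ComodMap
-- import your own Groth.Agent.* helpers here

set_option autoImplicit false
universe u v v' w w' x
open TensorProduct
open HopfRep

namespace Groth.Agent.S18806

open Groth.Agent.Lib.Helper56


/-- Let k be a field, i : C → D an injective morphism of k-coalgebras and V a right D-comodule with
coaction ρ : V → V ⊗ D. If ρ(v) lies in the image of V ⊗ C → V ⊗ D (induced by i) for every v, then
V comes from a C-comodule: there is a C-comodule structure on V whose coaction, followed by V ⊗ C →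
V ⊗ D, is ρ. (The source states this for left comodules over the coordinate bialgebras of an affine
monoid scheme over k and of its group of units, assumed open and schematically dense, and uses that
assumption only through the injectivity of the restriction map of coordinate rings; the row is the
right-comodule mirror image for any injective coalgebra map. The converse direction is immediate.) -/
theorem result (k : Type u) [Field k]
    (C : Type v) [AddCommGroup C] [Module k C] [Coalgebra k C]
    (D : Type v') [AddCommGroup D] [Module k D] [Coalgebra k D]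
    (i : C →ₗc[k] D) (hi : Function.Injective i)
    (V : Type w) [AddCommGroup V] [Module k V] [HopfRep.Comod k D V]
    (h : ∀ v : V, HopfRep.Comod.coact (k := k) (A := D) v ∈ LinearMap.range ((i : C →ₗ[k] D).lTensor V)) :
    ∃ c : HopfRep.Comod k C V,
      (i : C →ₗ[k] D).lTensor V ∘ₗ c.coact = HopfRep.Comod.coact (k := k) (A := D) := by
  have hinj : Function.Injective ((i : C →ₗ[k] D).lTensor V) :=
    Module.Flat.lTensor_preserves_injective_linearMap _ hi
  have hinj2 : Function.Injective
      ((TensorProduct.map (i : C →ₗ[k] D) (i : C →ₗ[k] D)).lTensor V) :=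
    Module.Flat.lTensor_preserves_injective_linearMap _
      (TensorProduct.map_injective_of_flat_flat _ _ hi hi)
  let e := LinearEquiv.ofInjective ((i : C →ₗ[k] D).lTensor V) hinj
  let ρD : V →ₗ[k] V ⊗[k] D := HopfRep.Comod.coact (k := k) (A := D) (V := V)
  let ρC : V →ₗ[k] V ⊗[k] C :=
    e.symm.toLinearMap ∘ₗ ρD.codRestrict (LinearMap.range ((i : C →ₗ[k] D).lTensor V)) h
  have hρ' : ∀ v, (i : C →ₗ[k] D).lTensor V (ρC v) = ρD v := by
    intro v
    have := LinearEquiv.apply_symm_apply e
      (ρD.codRestrict (LinearMap.range ((i : C →ₗ[k] D).lTensor V)) h v)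
    have h2 := congrArg Subtype.val this
    simpa [e, ρC] using h2
  have hρ : (i : C →ₗ[k] D).lTensor V ∘ₗ ρC = ρD := LinearMap.ext hρ'
  have e1 : ∀ z : V ⊗[k] C, (CoalgebraStruct.comul (R := k) (A := D)).lTensor V
      ((i : C →ₗ[k] D).lTensor V z) =
      (TensorProduct.map (i : C →ₗ[k] D) (i : C →ₗ[k] D)).lTensor V
        ((CoalgebraStruct.comul (R := k) (A := C)).lTensor V z) := by
    intro z
    rw [← LinearMap.lTensor_comp_apply, ← LinearMap.lTensor_comp_apply,
      CoalgHomClass.map_comp_comul]
  have e2 : ∀ z : V ⊗[k] C, (CoalgebraStruct.counit (R := k) (A := D)).lTensor V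
      ((i : C →ₗ[k] D).lTensor V z) =
        (CoalgebraStruct.counit (R := k) (A := C)).lTensor V z := by
    intro z
    rw [← LinearMap.lTensor_comp_apply, CoalgHomClass.counit_comp]
  refine ⟨⟨ρC, ?_, ?_⟩, hρ⟩
  · apply LinearMap.ext
    intro v
    apply hinj2
    simp only [LinearMap.comp_apply, LinearEquiv.coe_coe]
    rw [← assoc_rTensor_lTensor (i : C →ₗ[k] D) ρC (ρC v), hρ, hρ' v]
    have hc := LinearMap.congr_fun (HopfRep.Comod.coassoc (k := k) (A := D) (V := V)) v
    simp only [LinearMap.comp_apply, LinearEquiv.coe_coe] at hc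
    rw [hc, ← e1, hρ' v]
  · apply LinearMap.ext
    intro v
    have hc := LinearMap.congr_fun (HopfRep.Comod.counit_comp (k := k) (A := D) (V := V)) v
    simp only [LinearMap.comp_apply] at hc ⊢
    rw [← hc, ← e2, hρ' v]

end Groth.Agent.S18806
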