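import Groth.Statements.S18808
import Groth.Agent.Lib.Helper75.ComodModule
-- import your own Groth.Agent.* helpers here

set_option autoImplicit false
universe u v v' w w' x
open TensorProduct
open HopfRep

namespace Groth.Agent.S18808

open Groth.Agent.Lib.Helper75

theorem mem_range_lTensor_iff_ann {k : Type u} [Field k]
    {C : Type v} [AddCommGroup C] [Module k C]
    {D : Type v'} [AddCommGroup D] [Module k D]
    (i : C →ₗ[k] D) {W : Type w} [AddCommGroup W] [Module k W] (x : W ⊗[k] D) :
    x ∈ LinearMap.range (i.lTensor W) ↔
      ∀ ψ : D →ₗ[k] k, ψ ∘ₗ i = 0 → contractR W ψ x = 0 := by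
  constructor
  · rintro ⟨y, rfl⟩ ψ hψ
    rw [contractR_lTensor, hψ]
    simp [contractR]
  · intro h
    have hex : Function.Exact i (LinearMap.range i).mkQ := LinearMap.exact_map_mkQ_range i
    have hex' := lTensor_exact W hex (Submodule.mkQ_surjective _)
    refine (hex' x).1 ?_
    apply eq_zero_of_contractR_eq_zero
    intro f
    rw [contractR_lTensor]
    apply h
    apply LinearMap.ext
    intro c
    have hc : (LinearMap.range i).mkQ (i c) = 0 := (hex (i c)).2 ⟨c, rfl⟩
    simp only [LinearMap.comp_apply, LinearMap.zero_apply]
    rw [hc, map_zero]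


/-- Let k be a field, i : C → D an injective morphism of k-coalgebras and V a right D-comodule with
coaction ρ. Call a D-subcomodule K of V admissible when the induced coaction of V/K, namely ρ
followed by the projection V ⊗ D → (V/K) ⊗ D, takes all its values in the image of (V/K) ⊗ C → (V/K)
⊗ D (so that V/K comes from a C-comodule). Then there is a least admissible D-subcomodule of V: V
has a largest quotient D-comodule coming from C, through which every D-comodule map from V to a
comodule coming from C factors. (The source states this for left comodules over the coordinate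
bialgebras of an affine monoid scheme and its open schematically dense group of units, as the
existence of a universal map from a representation of the unit group to a representation of the
monoid; it uses that assumption only through the injectivity of the restriction map.) -/
theorem result (k : Type u) [Field k]
    (C : Type v) [AddCommGroup C] [Module k C] [Coalgebra k C]
    (D : Type v') [AddCommGroup D] [Module k D] [Coalgebra k D]
    (i : C →ₗc[k] D) (hi : Function.Injective i)
    (V : Type w) [AddCommGroup V] [Module k V] [HopfRep.Comod k D V] :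
    ∃ K : Submodule k V, HopfRep.IsSubcomod (k := k) (A := D) K ∧
      (∀ v : V, K.mkQ.rTensor D (HopfRep.Comod.coact (k := k) (A := D) v) ∈
        LinearMap.range ((i : C →ₗ[k] D).lTensor (V ⧸ K))) ∧
      ∀ K' : Submodule k V, HopfRep.IsSubcomod (k := k) (A := D) K' →
        (∀ v : V, K'.mkQ.rTensor D (HopfRep.Comod.coact (k := k) (A := D) v) ∈
          LinearMap.range ((i : C →ₗ[k] D).lTensor (V ⧸ K'))) → K ≤ K' := by
  have hchar : ∀ K : Submodule k V,
      (∀ v : V, K.mkQ.rTensor D (HopfRep.Comod.coact (k := k) (A := D) v) ∈
        LinearMap.range ((i : C →ₗ[k] D).lTensor (V ⧸ K))) ↔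
      ∀ ψ : D →ₗ[k] k, ψ ∘ₗ (i : C →ₗ[k] D) = 0 → ∀ v : V, act (A := D) ψ v ∈ K := by
    intro K
    constructor
    · intro h ψ hψ v
      have := (mem_range_lTensor_iff_ann (i : C →ₗ[k] D) _).1 (h v) ψ hψ
      rw [contractR_rTensor] at this
      rw [act_apply]
      exact (Submodule.Quotient.mk_eq_zero K).1 this
    · intro h v
      rw [mem_range_lTensor_iff_ann]
      intro ψ hψ
      rw [contractR_rTensor]
      exact (Submodule.Quotient.mk_eq_zero K).2 (h ψ hψ v)
  refine ⟨sInf {K : Submodule k V | HopfRep.IsSubcomod (k := k) (A := D) K ∧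
      ∀ ψ : D →ₗ[k] k, ψ ∘ₗ (i : C →ₗ[k] D) = 0 → ∀ v : V, act (A := D) ψ v ∈ K}, ?_, ?_, ?_⟩
  · rw [isSubcomod_iff]
    intro f w hw
    rw [Submodule.mem_sInf] at hw ⊢
    intro K hK
    exact (isSubcomod_iff K).1 hK.1 f w (hw K hK)
  · rw [hchar]
    intro ψ hψ v
    rw [Submodule.mem_sInf]
    intro K hK
    exact hK.2 ψ hψ v
  · intro K' hK' h'
    exact sInf_le ⟨hK', (hchar K').1 h'⟩

end Groth.Agent.S18808
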