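import Groth.Statements.S18809
import Groth.Agent.Lib.Helper56.ComodMap
-- import your own Groth.Agent.* helpers here

set_option autoImplicit false
universe u v v' w w' x
open TensorProduct
open HopfRep

namespace Groth.Agent.S18809

open Groth.Agent.Lib.Helper56


/-- Let k be a field and i : C → D an injective morphism of k-coalgebras. If every right D-comodule is
semisimple (every subcomodule has a complementary subcomodule), then every right C-comodule is
semisimple. (The source states this for the coordinate bialgebras of an affine monoid scheme over k
and of its open schematically dense group of units, through the injectivity of the restriction map,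
with semisimple meaning that every representation is a sum of irreducible subrepresentations;
D-comodules are quantified in the universe of the given C-comodule.) -/
theorem result (k : Type u) [Field k]
    (C : Type v) [AddCommGroup C] [Module k C] [Coalgebra k C]
    (D : Type v') [AddCommGroup D] [Module k D] [Coalgebra k D]
    (i : C →ₗc[k] D) (hi : Function.Injective i)
    (hD : ∀ (W : Type w) [AddCommGroup W] [Module k W] [HopfRep.Comod k D W], HopfRep.IsSemisimpleComod k D W)
    (V : Type w) [AddCommGroup V] [Module k V] [HopfRep.Comod k C V] :
    HopfRep.IsSemisimpleComod k C V := by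
  intro W hW
  have hWD : @HopfRep.IsSubcomod k D _ _ _ _ V _ _ (comodPush i ‹HopfRep.Comod k C V›) W := by
    intro w hw
    obtain ⟨z, hz⟩ := hW w hw
    refine ⟨(i : C →ₗ[k] D).lTensor W z, ?_⟩
    show _ = (i : C →ₗ[k] D).lTensor V (HopfRep.Comod.coact (k := k) (A := C) w)
    rw [← hz]
    have h1 : ∀ y : (W : Type _) ⊗[k] C, W.subtype.rTensor D ((i : C →ₗ[k] D).lTensor W y) =
        (i : C →ₗ[k] D).lTensor V (W.subtype.rTensor C y) := by
      intro y
      induction y with
      | zero => simp
      | tmul x b => simp
      | add y z hy hz => simp only [map_add, hy, hz]
    exact h1 z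
  obtain ⟨W', hW', hc⟩ := @hD V _ _ (comodPush i ‹HopfRep.Comod k C V›) W hWD
  exact ⟨W', isSubcomod_of_comodPush i hi _ W' hW', hc⟩

end Groth.Agent.S18809
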