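import Groth.Statements.S18810
import Groth.Agent.Lib.Helper75.ComodModule
-- import your own Groth.Agent.* helpers here

set_option autoImplicit false
universe u v v' w w' x
open TensorProduct
open HopfRep

namespace Groth.Agent.S18810

open Groth.Agent.Lib.Helper75

attribute [local instance] comodModule


/-- Let k be a field, C a k-coalgebra, V a right C-comodule and (S_j) a family of simple C-comodules
which are pairwise non-isomorphic (for j ≠ j' no k-linear isomorphism S_j ≃ S_j' commutes with the
coactions). For each j let V[j] be the isotypic component of type S_j: the sum of the images of all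
comodule maps S_j → V (equivalently of all simple subcomodules of V isomorphic to S_j, a nonzero
such map being injective). Then the family j ↦ V[j] is independent, so that the socle of V is the
direct sum of its isotypic components. (The source states this for representations of an affine
monoid scheme over k, i.e. left comodules over its coordinate bialgebra; the row is the
right-comodule form over any coalgebra.) -/
theorem result (k : Type u) [Field k]
    (C : Type v) [AddCommGroup C] [Module k C] [Coalgebra k C]
    (V : Type w) [AddCommGroup V] [Module k V] [HopfRep.Comod k C V]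
    {ι : Type x} (S : ι → Type w') [∀ j, AddCommGroup (S j)] [∀ j, Module k (S j)]
    [∀ j, HopfRep.Comod k C (S j)] (hS : ∀ j, HopfRep.IsSimpleComod k C (S j))
    (hne : ∀ j j', j ≠ j' → ∀ e : S j ≃ₗ[k] S j', ¬ Hoch.IsComodHom C (e : S j →ₗ[k] S j')) :
    iSupIndep (fun j => ⨆ f : {f : S j →ₗ[k] V // Hoch.IsComodHom C f}, LinearMap.range f.1) := by
  classical
  have hsimple : ∀ j, IsSimpleModule (DualAlg k C) (S j) := fun j => isSimpleComod_iff.1 (hS j)
  have hT : ∀ j, (⨆ f : {f : S j →ₗ[k] V // Hoch.IsComodHom C f}, LinearMap.range f.1) =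
      (⨆ g : S j →ₗ[DualAlg k C] V, LinearMap.range g).restrictScalars k := by
    intro j
    rw [Submodule.restrictScalars_iSup]
    apply le_antisymm
    · apply iSup_le
      rintro ⟨f, hf⟩
      refine le_trans ?_ (le_iSup _ (toDualLinearMap (K := k) (A := C) f hf))
      rintro _ ⟨x, rfl⟩
      exact ⟨x, rfl⟩
    · apply iSup_le
      intro g
      refine le_trans ?_ (le_iSup _ ⟨g.restrictScalars k, isComodHom_restrictScalars g⟩)
      rintro _ ⟨x, rfl⟩
      exact ⟨x, rfl⟩
  have hTU : ∀ j, (⨆ g : S j →ₗ[DualAlg k C] V, LinearMap.range g) ≤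
      isotypicComponent (DualAlg k C) V (S j) := by
    intro j
    apply iSup_le
    intro g
    by_cases hg : g = 0
    · subst hg
      simp
    · have hinj : Function.Injective g := LinearMap.injective_of_ne_zero hg
      exact le_sSup ⟨(LinearEquiv.ofInjective g hinj).symm⟩
  have hex : ∀ j, isotypicComponent (DualAlg k C) V (S j) ≠ ⊥ →
      ∃ m : Submodule (DualAlg k C) V, Nonempty (m ≃ₗ[DualAlg k C] S j) := by
    intro j hj
    by_contra hcon
    rw [not_exists] at hcon
    apply hj
    unfold isotypicComponent
    have : {m : Submodule (DualAlg k C) V | Nonempty (m ≃ₗ[DualAlg k C] S j)} = ∅ := by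
      ext m
      simp only [Set.mem_ofPred_eq, Set.mem_empty_iff_false, iff_false]
      exact hcon m
    rw [this, sSup_empty]
  have hU : iSupIndep (fun j => isotypicComponent (DualAlg k C) V (S j)) := by
    rw [← iSupIndep_ne_bot]
    have hmem : ∀ j : {j // isotypicComponent (DualAlg k C) V (S j) ≠ ⊥},
        isotypicComponent (DualAlg k C) V (S j.1) ∈ isotypicComponents (DualAlg k C) V := by
      rintro ⟨j, hj⟩
      obtain ⟨m, ⟨e⟩⟩ := hex j hj
      exact ⟨m, IsSimpleModule.congr e, (e.isotypicComponent_eq).symm⟩
    have hinj : Function.Injective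
        (fun j : {j // isotypicComponent (DualAlg k C) V (S j) ≠ ⊥} =>
          (⟨isotypicComponent (DualAlg k C) V (S j.1), hmem j⟩ :
            isotypicComponents (DualAlg k C) V)) := by
      rintro ⟨j, hj⟩ ⟨j', hj'⟩ hjj
      have hjj' : isotypicComponent (DualAlg k C) V (S j) =
          isotypicComponent (DualAlg k C) V (S j') := congrArg Subtype.val hjj
      by_contra hne'
      have hne'' : j ≠ j' := fun h => hne' (Subtype.ext h)
      obtain ⟨m, ⟨e⟩⟩ := hex j hj
      have : IsSimpleModule (DualAlg k C) m := IsSimpleModule.congr e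
      have hm : m ≤ isotypicComponent (DualAlg k C) V (S j') := by
        rw [← hjj']
        exact le_sSup ⟨e⟩
      obtain ⟨e'⟩ := isIsotypicOfType_submodule_iff.1
        (IsIsotypicOfType.isotypicComponent (DualAlg k C) V (S j')) m hm
      exact hne j j' hne'' ((e.symm.trans e').restrictScalars k)
        (isComodHom_restrictScalars (e.symm.trans e').toLinearMap)
    exact ((sSupIndep_iff _).1 (sSupIndep_isotypicComponents (DualAlg k C) V)).comp hinj
  have hT' : iSupIndep (fun j => ⨆ g : S j →ₗ[DualAlg k C] V, LinearMap.range g) :=
    hU.mono hTU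
  intro j
  rw [Submodule.disjoint_def]
  intro x hx hx'
  have h1 := hT' j
  rw [Submodule.disjoint_def] at h1
  beta_reduce at hx hx' h1 ⊢
  apply h1 x
  · rw [hT j] at hx
    exact hx
  · have : (⨆ j', ⨆ (_ : j' ≠ j), ⨆ f : {f : S j' →ₗ[k] V // Hoch.IsComodHom C f},
        LinearMap.range f.1) =
        (⨆ j', ⨆ (_ : j' ≠ j), ⨆ g : S j' →ₗ[DualAlg k C] V, LinearMap.range g).restrictScalars k := by
      rw [Submodule.restrictScalars_iSup]
      congr 1
      funext j'
      rw [Submodule.restrictScalars_iSup]
      congr 1
      funext _
      exact hT j'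
    rw [this] at hx'
    exact hx'

end Groth.Agent.S18810
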