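import Groth.Statements.S18812
import Groth.Agent.Lib.Helper75.HopfMaschke

set_option autoImplicit false
universe u v w
open TensorProduct
open HopfRep

namespace Groth.Agent.S18812

open Groth.Agent.Lib.Helper75

/-- Let k be a field and A a commutative Hopf algebra over k, the coordinate ring of an affine group
scheme G. Suppose the inclusion of constants k → A splits as a map of G-representations: there is a
k-linear map α : A → k which is a comodule map from the regular comodule A to the trivial comodule k
and satisfies α(1) = 1. Then every A-comodule, of any dimension, is semisimple: every subcomodule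
has a complementary subcomodule. (The source works with left comodules; this is the right-comodule
form. The converse implication is the easy one and is not part of this row.) -/
theorem result (k : Type u) [Field k] (A : Type v) [CommRing A] [HopfAlgebra k A]
    (α : A →ₗ[k] k) (hα : @Hoch.IsComodHom k _ A _ _ _ A _ _ _ k _ _ (HopfRep.Comod.trivial k A k) α)
    (h1 : α 1 = 1)
    (V : Type w) [AddCommGroup V] [Module k V] [HopfRep.Comod k A V] :
    HopfRep.IsSemisimpleComod k A V := by
  apply isSemisimpleComod_of_integral α ?_ h1
  intro a
  have h := LinearMap.congr_fun hα a
  rw [LinearMap.comp_apply, LinearMap.comp_apply] at h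
  have h2 : (TensorProduct.lid k A) (α.rTensor A (CoalgebraStruct.comul (R := k) a)) = hitL α a := rfl
  rw [← h2]
  have h3 : HopfRep.Comod.coact (k := k) (A := A) (V := A) a = CoalgebraStruct.comul (R := k) a := rfl
  rw [← h3, ← h]
  show (TensorProduct.lid k A) ((α a) ⊗ₜ[k] (1 : A)) = α a • 1
  simp

end Groth.Agent.S18812
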