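import Groth.Statements.S18814
import Groth.Agent.Lib.Helper75.ComodModule
-- import your own Groth.Agent.* helpers here

set_option autoImplicit false
universe u v v' w w'
open TensorProduct
open HopfRep

namespace Groth.Agent.S18814

open Groth.Agent.Lib.Helper75

theorem isComodHom_act_of_comm (k : Type u) [Field k]
    (C : Type v) [CommRing C] [Bialgebra k C] (D : Type v') [CommRing D] [Bialgebra k D]
    (V : Type w) [AddCommGroup V] [Module k V] [HopfRep.Comod k C V] [HopfRep.Comod k D V]
    (hcomm : (TensorProduct.assoc k V C D).toLinearMap ∘ₗ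
        (HopfRep.Comod.coact (k := k) (A := C) (V := V)).rTensor D ∘ₗ HopfRep.Comod.coact (k := k) (A := D) =
      (TensorProduct.comm k D C).toLinearMap.lTensor V ∘ₗ (TensorProduct.assoc k V D C).toLinearMap ∘ₗ
        (HopfRep.Comod.coact (k := k) (A := D) (V := V)).rTensor C ∘ₗ HopfRep.Comod.coact (k := k) (A := C))
    (φ : C →ₗ[k] k) :
    Hoch.IsComodHom D (act (A := C) φ : V →ₗ[k] V) := by
  unfold Hoch.IsComodHom
  apply LinearMap.ext
  intro v
  have ha : (contractR V φ).rTensor D =
      (contractL D φ).lTensor V ∘ₗ (TensorProduct.assoc k V C D).toLinearMap := by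
    apply TensorProduct.ext_threefold
    intro x c d
    simp [TensorProduct.smul_tmul]
  have hb : contractR (V ⊗[k] D) φ =
      (contractL D φ).lTensor V ∘ₗ (TensorProduct.comm k D C).toLinearMap.lTensor V ∘ₗ
        (TensorProduct.assoc k V D C).toLinearMap := by
    apply TensorProduct.ext_threefold
    intro x d c
    simp [TensorProduct.tmul_smul]
  have h := LinearMap.congr_fun hcomm v
  simp only [LinearMap.comp_apply] at h ⊢
  rw [act_apply, ← contractR_rTensor φ (HopfRep.Comod.coact (k := k) (A := D) (V := V))
    (coactMap k C V v), hb]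
  simp only [LinearMap.comp_apply]
  rw [← h]
  have h2 : (act (A := C) φ : V →ₗ[k] V) = contractR V φ ∘ₗ coactMap k C V := rfl
  rw [h2, LinearMap.rTensor_comp, LinearMap.comp_apply, ha, LinearMap.comp_apply]


/-- Let k be a field, C and D commutative bialgebras over k (coordinate rings of affine monoid schemes M
and N) and V a k-vector space carrying a right C-comodule structure with coaction ρ_C : V → V ⊗ C
and a right D-comodule structure with coaction ρ_D : V → V ⊗ D which commute: (ρ_C ⊗ id_D) ∘ ρ_D and
(ρ_D ⊗ id_C) ∘ ρ_C agree in V ⊗ C ⊗ D after reassociating and swapping the last two factors (the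
actions of M and N on V commute). Assume V is semisimple as a D-comodule. Then for every simple
D-comodule S the isotypic component of V of type S, the sum of the images of all D-comodule maps S →
V, is a C-subcomodule of V. (The source works with left comodules; this is the right-comodule form.) -/
theorem result (k : Type u) [Field k]
    (C : Type v) [CommRing C] [Bialgebra k C] (D : Type v') [CommRing D] [Bialgebra k D]
    (V : Type w) [AddCommGroup V] [Module k V] [HopfRep.Comod k C V] [HopfRep.Comod k D V]
    (hcomm : (TensorProduct.assoc k V C D).toLinearMap ∘ₗ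
        (HopfRep.Comod.coact (k := k) (A := C) (V := V)).rTensor D ∘ₗ HopfRep.Comod.coact (k := k) (A := D) =
      (TensorProduct.comm k D C).toLinearMap.lTensor V ∘ₗ (TensorProduct.assoc k V D C).toLinearMap ∘ₗ
        (HopfRep.Comod.coact (k := k) (A := D) (V := V)).rTensor C ∘ₗ HopfRep.Comod.coact (k := k) (A := C))
    (hV : HopfRep.IsSemisimpleComod k D V)
    (S : Type w') [AddCommGroup S] [Module k S] [HopfRep.Comod k D S] (hS : HopfRep.IsSimpleComod k D S) :
    HopfRep.IsSubcomod (k := k) (A := C)
      (⨆ f : {f : S →ₗ[k] V // Hoch.IsComodHom D f}, LinearMap.range f.1) := by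
  rw [isSubcomod_iff]
  intro φ w hw
  have hφ := isComodHom_act_of_comm k C D V hcomm φ
  refine Submodule.iSup_induction _ (motive := fun x => act (A := C) φ x ∈
      (⨆ f : {f : S →ₗ[k] V // Hoch.IsComodHom D f}, LinearMap.range f.1)) hw ?_ ?_ ?_
  · rintro ⟨f, hf⟩ x ⟨s, rfl⟩
    have hcomp : Hoch.IsComodHom D ((act (A := C) φ : V →ₗ[k] V) ∘ₗ f) := by
      unfold Hoch.IsComodHom at hf hφ ⊢
      rw [← LinearMap.comp_assoc, hφ, LinearMap.comp_assoc, hf, LinearMap.rTensor_comp,
        LinearMap.comp_assoc]
    exact Submodule.mem_iSup_of_mem ⟨(act (A := C) φ : V →ₗ[k] V) ∘ₗ f, hcomp⟩ ⟨s, rfl⟩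
  · rw [map_zero]
    exact Submodule.zero_mem _
  · intro x y hx hy
    rw [map_add]
    exact Submodule.add_mem _ hx hy

end Groth.Agent.S18814
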