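import Groth.Statements.S18818
import Groth.Agent.Lib.Helper75.ComodModule
-- import your own Groth.Agent.* helpers here

set_option autoImplicit false
universe u v w
open TensorProduct
open HopfRep

namespace Groth.Agent.S18818

open Groth.Agent.Lib.Helper75

attribute [local instance] comodModule


/-- Let k be a field, C a k-coalgebra and V a right C-comodule which is semisimple in the sense that
every subcomodule has a complementary subcomodule (equivalently every injective comodule map into V
splits). Then V is completely reducible: V is the sum of its simple subcomodules, the nonzero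
subcomodules W whose only subcomodules are 0 and W. (The source states this for representations of
an affine monoid scheme over k, i.e. left comodules over its coordinate bialgebra; the converse
implication and the stability of the class under subobjects and quotients are not part of this row.) -/
theorem result (k : Type u) [Field k]
    (C : Type v) [AddCommGroup C] [Module k C] [Coalgebra k C]
    (V : Type w) [AddCommGroup V] [Module k V] [HopfRep.Comod k C V] (hV : HopfRep.IsSemisimpleComod k C V) :
    (⨆ W : {W : Submodule k V // HopfRep.IsSubcomod (k := k) (A := C) W ∧ W ≠ ⊥ ∧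
        ∀ W' : Submodule k V, HopfRep.IsSubcomod (k := k) (A := C) W' → W' ≤ W → W' = ⊥ ∨ W' = W},
      (W.1 : Submodule k V)) = ⊤ := by
  haveI : IsSemisimpleModule (DualAlg k C) V := isSemisimpleComod_iff.1 hV
  rw [eq_top_iff]
  intro v _
  have hv : v ∈ sSup {m : Submodule (DualAlg k C) V | IsSimpleModule (DualAlg k C) m} := by
    rw [IsSemisimpleModule.sSup_simples_eq_top]; trivial
  rw [sSup_eq_iSup'] at hv
  refine Submodule.iSup_induction _ (motive := fun x => x ∈ ⨆ W : {W : Submodule k V //
      HopfRep.IsSubcomod (k := k) (A := C) W ∧ W ≠ ⊥ ∧
        ∀ W' : Submodule k V, HopfRep.IsSubcomod (k := k) (A := C) W' → W' ≤ W → W' = ⊥ ∨ W' = W},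
      (W.1 : Submodule k V)) hv ?_ (Submodule.zero_mem _) (fun x y hx hy => Submodule.add_mem _ hx hy)
  rintro ⟨m, hm⟩ x hx
  have hm' : IsSimpleModule (DualAlg k C) m := hm
  have hmem : (m.restrictScalars k) ∈ {W : Submodule k V |
      HopfRep.IsSubcomod (k := k) (A := C) W ∧ W ≠ ⊥ ∧
        ∀ W' : Submodule k V, HopfRep.IsSubcomod (k := k) (A := C) W' → W' ≤ W → W' = ⊥ ∨ W' = W} := by
    refine ⟨isSubcomod_restrictScalars m, ?_, ?_⟩
    · intro h0
      have : m = ⊥ := by
        apply Submodule.restrictScalars_injective k
        rw [h0, Submodule.restrictScalars_bot]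
      have hnt := IsSimpleModule.nontrivial (DualAlg k C) m
      rw [this] at hnt
      exact not_subsingleton _ (inferInstance : Subsingleton (⊥ : Submodule (DualAlg k C) V))
    · intro W' hW' hle
      have hatom := isSimpleModule_iff_isAtom.1 hm'
      have hle' : toDualSubmodule W' hW' ≤ m := fun y hy => hle hy
      rcases hatom.le_iff.1 hle' with h | h
      · left
        rw [← toDualSubmodule_restrictScalars W' hW', h, Submodule.restrictScalars_bot]
      · right
        rw [← toDualSubmodule_restrictScalars W' hW', h]
  exact Submodule.mem_iSup_of_mem ⟨m.restrictScalars k, hmem⟩ hx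

end Groth.Agent.S18818
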