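import Groth.Statements.S18819
import Groth.Agent.Lib.Helper75.ComodModule
-- import your own Groth.Agent.* helpers here

set_option autoImplicit false
universe u v w w'
open TensorProduct
open HopfRep

namespace Groth.Agent.S18819

open Groth.Agent.Lib.Helper75

attribute [local instance] comodModule


/-- Let k be a field, C a k-coalgebra and V a right C-comodule which is the sum of finitely many simple
subcomodules, given as the images of comodule maps g_i : K_i → V (i < n) from simple comodules K_i.
If S is a simple comodule and f : S → V a nonzero comodule map (so that its image is a simple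
subcomodule of V), then S is isomorphic as a comodule to some K_i: there is a k-linear isomorphism S
≃ K_i commuting with the coactions. (The source states this for representations of an affine monoid
scheme over k with the subrepresentations given as subspaces; here the simple subcomodules are
presented as images of maps from simple comodules.) -/
theorem result (k : Type u) [Field k]
    (C : Type v) [AddCommGroup C] [Module k C] [Coalgebra k C]
    (V : Type w) [AddCommGroup V] [Module k V] [HopfRep.Comod k C V]
    {n : ℕ} (K : Fin n → Type w') [∀ i, AddCommGroup (K i)] [∀ i, Module k (K i)] [∀ i, HopfRep.Comod k C (K i)]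
    (hK : ∀ i, HopfRep.IsSimpleComod k C (K i)) (g : ∀ i, K i →ₗ[k] V) (hg : ∀ i, Hoch.IsComodHom C (g i))
    (hsum : (⨆ i, LinearMap.range (g i)) = ⊤)
    (S : Type w') [AddCommGroup S] [Module k S] [HopfRep.Comod k C S] (hS : HopfRep.IsSimpleComod k C S)
    (f : S →ₗ[k] V) (hf : Hoch.IsComodHom C f) (hf0 : f ≠ 0) :
    ∃ (i : Fin n) (e : S ≃ₗ[k] K i), Hoch.IsComodHom C (e : S →ₗ[k] K i) := by
  haveI : IsSimpleModule (DualAlg k C) S := isSimpleComod_iff.1 hS
  haveI hKs : ∀ i, IsSimpleModule (DualAlg k C) (K i) := fun i => isSimpleComod_iff.1 (hK i)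
  let fR : S →ₗ[DualAlg k C] V := toDualLinearMap (K := k) (A := C) f hf
  let gR : ∀ i, K i →ₗ[DualAlg k C] V := fun i => toDualLinearMap (K := k) (A := C) (g i) (hg i)
  have hfinj : Function.Injective fR := by
    rcases LinearMap.injective_or_eq_zero fR with h | h
    · exact h
    · exfalso
      apply hf0
      ext x
      exact LinearMap.congr_fun h x
  let N : Submodule (DualAlg k C) V := LinearMap.range fR
  let eN : S ≃ₗ[DualAlg k C] N := LinearEquiv.ofInjective fR hfinj
  haveI : IsSimpleModule (DualAlg k C) N := IsSimpleModule.congr eN.symm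
  let s : Set (Submodule (DualAlg k C) V) :=
    {m | ∃ i, Function.Injective (gR i) ∧ m = LinearMap.range (gR i)}
  haveI hs : ∀ m : s, IsSimpleModule (DualAlg k C) m := by
    rintro ⟨m, i, hi, rfl⟩
    exact IsSimpleModule.congr (LinearEquiv.ofInjective (gR i) hi).symm
  have hsup : sSup s = ⊤ := by
    apply Submodule.restrictScalars_injective k
    rw [Submodule.restrictScalars_top, eq_top_iff, ← hsum, iSup_le_iff]
    intro i
    rcases LinearMap.injective_or_eq_zero (gR i) with h | h
    · have hmem : LinearMap.range (gR i) ∈ s := ⟨i, h, rfl⟩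
      intro x hx
      obtain ⟨y, rfl⟩ := hx
      exact (le_sSup hmem : LinearMap.range (gR i) ≤ sSup s) ⟨y, rfl⟩
    · intro x hx
      obtain ⟨y, rfl⟩ := hx
      have : g i y = 0 := LinearMap.congr_fun h y
      rw [this]
      exact Submodule.zero_mem _
  obtain ⟨m, ⟨i, hi, rfl⟩, ⟨e⟩⟩ := Submodule.linearEquiv_of_sSup_eq_top N s hsup
  let E : S ≃ₗ[DualAlg k C] K i := (eN.trans e).trans (LinearEquiv.ofInjective (gR i) hi).symm
  refine ⟨i, E.restrictScalars k, ?_⟩
  exact isComodHom_restrictScalars (E : S →ₗ[DualAlg k C] K i)

end Groth.Agent.S18819
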