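import Groth.Statements.S1882
import Mathlib
import Groth.Agent.S0350

set_option autoImplicit false
set_option linter.style.haveILetI false
universe u
open CategoryTheory CategoryTheory.Limits AlgebraicGeometry
open Grpd

namespace Groth.Agent.S1882
open CategoryTheory CategoryTheory.Limits AlgebraicGeometry TopologicalSpace
open Groth.Agent.S0350

section GU
variable {k : Type u} [Field k] [IsAlgClosed k] {X : Scheme.{u}}
  (s t : X ⟶ Spec (CommRingCat.of k))
  (m : pullback s t ⟶ X) (e : Spec (CommRingCat.of k) ⟶ X)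
  (hes : e ≫ s = 𝟙 _) (het : e ≫ t = 𝟙 _)
  (hunitR : pullback.lift (𝟙 X) (s ≫ e) (by simp [het]) ≫ m = 𝟙 X)
  (hunitL : pullback.lift (t ≫ e) (𝟙 X) (by simp [hes]) ≫ m = 𝟙 X)

include hunitR hunitL in
/-- unit point of a "two-sided" monoid-like scheme over an algebraically closed field lies on a
unique irreducible component. -/
theorem uniqueComp_unit₂ : UniqueComp (e (IsLocalRing.closedPoint k)) := by
  intro Z hZ Z' hZ' heZ heZ'
  have hZcl := isClosed_of_mem_irreducibleComponents Z hZ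
  have hZ'cl := isClosed_of_mem_irreducibleComponents Z' hZ'
  obtain ⟨Zs, i, hi, _⟩ := exists_subscheme Z hZcl hZ.1
  obtain ⟨Zs', i', hi', _⟩ := exists_subscheme Z' hZ'cl hZ'.1
  have : GeometricallyIrreducible (i ≫ s) := geomIrr_of_isAlgClosed _
  have hirr : IrreducibleSpace ↥(pullback (i ≫ s) (i' ≫ t)) := inferInstance
  let j := pullback.map (i ≫ s) (i' ≫ t) s t i i' (𝟙 _) (by simp) (by simp)
  have hj : Set.range j = pullback.fst s t ⁻¹' Z ∩ pullback.snd s t ⁻¹' Z' := by
    rw [Scheme.Pullback.range_map, hi, hi']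
  have hT : IsIrreducible (m '' Set.range j) := by
    rw [← Set.image_univ, ← Set.image_comp]
    exact (IrreducibleSpace.isIrreducible_univ _).image _
      ((Scheme.Hom.continuous m).comp (Scheme.Hom.continuous j)).continuousOn
  have heS : ∀ p, e p = e (IsLocalRing.closedPoint k) := fun p => by
    rw [Subsingleton.elim p (IsLocalRing.closedPoint k)]
  have h1 : Z ⊆ m '' Set.range j := by
    intro z hz
    refine ⟨pullback.lift (𝟙 X) (s ≫ e) (by simp [het]) z, ?_, ?_⟩
    · rw [hj]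
      refine ⟨?_, ?_⟩
      · show pullback.fst s t (pullback.lift (𝟙 X) (s ≫ e) _ z) ∈ Z
        rw [← Scheme.Hom.comp_apply, pullback.lift_fst]; exact hz
      · show pullback.snd s t (pullback.lift (𝟙 X) (s ≫ e) _ z) ∈ Z'
        rw [← Scheme.Hom.comp_apply, pullback.lift_snd, Scheme.Hom.comp_apply, heS]; exact heZ'
    · rw [← Scheme.Hom.comp_apply, hunitR]; rfl
  have h2 : Z' ⊆ m '' Set.range j := by
    intro z hz
    refine ⟨pullback.lift (t ≫ e) (𝟙 X) (by simp [hes]) z, ?_, ?_⟩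
    · rw [hj]
      refine ⟨?_, ?_⟩
      · show pullback.fst s t (pullback.lift (t ≫ e) (𝟙 X) _ z) ∈ Z
        rw [← Scheme.Hom.comp_apply, pullback.lift_fst, Scheme.Hom.comp_apply, heS]; exact heZ
      · show pullback.snd s t (pullback.lift (t ≫ e) (𝟙 X) _ z) ∈ Z'
        rw [← Scheme.Hom.comp_apply, pullback.lift_snd]; exact hz
    · rw [← Scheme.Hom.comp_apply, hunitL]; rfl
  exact Set.Subset.antisymm (h1.trans (hZ'.2 hT h2)) (h2.trans (hZ.2 hT h1))

end GU

section grpd

variable {S : Scheme.{u}} (G : GroupoidScheme S)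

/-- composition of `T`-points -/
noncomputable def cmp {T : Scheme.{u}} (α β : T ⟶ G.R) (h : α ≫ G.s = β ≫ G.t) : T ⟶ G.R :=
  pullback.lift α β h ≫ G.c

theorem cmp_congr {T : Scheme.{u}} {α α' β β' : T ⟶ G.R} (hα : α = α') (hβ : β = β')
    (h : α ≫ G.s = β ≫ G.t) :
    cmp G α β h = cmp G α' β' (by rw [← hα, ← hβ]; exact h) := by
  subst hα hβ; rfl

theorem precomp_cmp {T' T : Scheme.{u}} (q : T' ⟶ T) (α β : T ⟶ G.R) (h : α ≫ G.s = β ≫ G.t) :
    q ≫ cmp G α β h = cmp G (q ≫ α) (q ≫ β) (by rw [Category.assoc, Category.assoc, h]) := by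
  unfold cmp
  rw [← Category.assoc]
  congr 1
  apply pullback.hom_ext
  · rw [Category.assoc, pullback.lift_fst, pullback.lift_fst]
  · rw [Category.assoc, pullback.lift_snd, pullback.lift_snd]

theorem cmp_s {T : Scheme.{u}} (α β : T ⟶ G.R) (h : α ≫ G.s = β ≫ G.t) :
    cmp G α β h ≫ G.s = β ≫ G.s := G.comp_s α β h

theorem cmp_t {T : Scheme.{u}} (α β : T ⟶ G.R) (h : α ≫ G.s = β ≫ G.t) :
    cmp G α β h ≫ G.t = α ≫ G.t := G.comp_t α β h

theorem cmp_assoc {T : Scheme.{u}} (α β γ : T ⟶ G.R) (h₁ : α ≫ G.s = β ≫ G.t)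
    (h₂ : β ≫ G.s = γ ≫ G.t) :
    cmp G (cmp G α β h₁) γ ((cmp_s G α β h₁).trans h₂) =
      cmp G α (cmp G β γ h₂) (h₁.trans (cmp_t G β γ h₂).symm) := G.assoc α β γ h₁ h₂

theorem cmp_e {T : Scheme.{u}} (α : T ⟶ G.R) :
    cmp G α (α ≫ G.s ≫ G.e)
      (by rw [Category.assoc, Category.assoc, G.e_t, Category.comp_id]) = α := G.comp_e α

theorem e_cmp {T : Scheme.{u}} (α : T ⟶ G.R) :
    cmp G (α ≫ G.t ≫ G.e) α
      (by rw [Category.assoc, Category.assoc, G.e_s, Category.comp_id]) = α := G.e_comp α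

theorem cmp_i {T : Scheme.{u}} (α : T ⟶ G.R) :
    cmp G α (α ≫ G.i) (by rw [Category.assoc, G.i_t]) = α ≫ G.t ≫ G.e := G.comp_i α

theorem i_cmp {T : Scheme.{u}} (α : T ⟶ G.R) :
    cmp G (α ≫ G.i) α (by rw [Category.assoc, G.i_s]) = α ≫ G.s ≫ G.e := G.i_comp α

end grpd

section transl

variable {S : Scheme.{u}} (G : GroupoidScheme S) {K : Type u} [Field K]
  (ρ : Spec (CommRingCat.of K) ⟶ G.R)

/-- right translation by `ρ`, from the source-fibre at `t ρ` to the source-fibre at `s ρ`. -/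
noncomputable def Tfwd : pullback G.s (ρ ≫ G.t) ⟶ pullback G.s (ρ ≫ G.s) :=
  pullback.lift
    (cmp G (pullback.fst G.s (ρ ≫ G.t)) (pullback.snd G.s (ρ ≫ G.t) ≫ ρ)
      (by rw [pullback.condition, Category.assoc]))
    (pullback.snd G.s (ρ ≫ G.t))
    (by rw [cmp_s, Category.assoc])

/-- right translation by the inverse of `ρ`. -/
noncomputable def Tbwd : pullback G.s (ρ ≫ G.s) ⟶ pullback G.s (ρ ≫ G.t) :=
  pullback.lift
    (cmp G (pullback.fst G.s (ρ ≫ G.s)) ((pullback.snd G.s (ρ ≫ G.s) ≫ ρ) ≫ G.i)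
      (by rw [pullback.condition]; simp only [Category.assoc, G.i_t]))
    (pullback.snd G.s (ρ ≫ G.s))
    (by rw [cmp_s]; simp only [Category.assoc, G.i_s])

theorem Tfwd_fst : Tfwd G ρ ≫ pullback.fst G.s (ρ ≫ G.s) =
    cmp G (pullback.fst G.s (ρ ≫ G.t)) (pullback.snd G.s (ρ ≫ G.t) ≫ ρ)
      (by rw [pullback.condition, Category.assoc]) := pullback.lift_fst _ _ _

theorem Tfwd_snd : Tfwd G ρ ≫ pullback.snd G.s (ρ ≫ G.s) = pullback.snd G.s (ρ ≫ G.t) :=
  pullback.lift_snd _ _ _

theorem Tbwd_fst : Tbwd G ρ ≫ pullback.fst G.s (ρ ≫ G.t) =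
    cmp G (pullback.fst G.s (ρ ≫ G.s)) ((pullback.snd G.s (ρ ≫ G.s) ≫ ρ) ≫ G.i)
      (by rw [pullback.condition]; simp only [Category.assoc, G.i_t]) := pullback.lift_fst _ _ _

theorem Tbwd_snd : Tbwd G ρ ≫ pullback.snd G.s (ρ ≫ G.t) = pullback.snd G.s (ρ ≫ G.s) :=
  pullback.lift_snd _ _ _

theorem Tfwd_bwd : Tfwd G ρ ≫ Tbwd G ρ = 𝟙 _ := by
  apply pullback.hom_ext
  · rw [Category.assoc, Category.id_comp, Tbwd_fst, precomp_cmp]
    have hα := Tfwd_fst G ρ
    have hβ : Tfwd G ρ ≫ (pullback.snd G.s (ρ ≫ G.s) ≫ ρ) ≫ G.i =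
        (pullback.snd G.s (ρ ≫ G.t) ≫ ρ) ≫ G.i := by
      rw [← Category.assoc, ← Category.assoc, Tfwd_snd]
    refine (cmp_congr G hα hβ _).trans ?_
    refine (cmp_assoc G _ _ _ _ (by simp only [Category.assoc, G.i_t])).trans ?_
    have hinner : cmp G (pullback.snd G.s (ρ ≫ G.t) ≫ ρ)
        ((pullback.snd G.s (ρ ≫ G.t) ≫ ρ) ≫ G.i) (by simp only [Category.assoc, G.i_t]) =
        pullback.fst G.s (ρ ≫ G.t) ≫ G.s ≫ G.e := by
      rw [cmp_i, ← Category.assoc (pullback.fst G.s (ρ ≫ G.t)), pullback.condition]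
      simp only [Category.assoc]
    refine (cmp_congr G rfl hinner _).trans ?_
    exact cmp_e G _
  · rw [Category.assoc, Category.id_comp, Tbwd_snd, Tfwd_snd]

theorem Tbwd_fwd : Tbwd G ρ ≫ Tfwd G ρ = 𝟙 _ := by
  apply pullback.hom_ext
  · rw [Category.assoc, Category.id_comp, Tfwd_fst, precomp_cmp]
    have hα := Tbwd_fst G ρ
    have hβ : Tbwd G ρ ≫ pullback.snd G.s (ρ ≫ G.t) ≫ ρ =
        pullback.snd G.s (ρ ≫ G.s) ≫ ρ := by
      rw [← Category.assoc, Tbwd_snd]
    refine (cmp_congr G hα hβ _).trans ?_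
    refine (cmp_assoc G _ _ _ _ (by simp only [Category.assoc, G.i_s])).trans ?_
    have hinner : cmp G ((pullback.snd G.s (ρ ≫ G.s) ≫ ρ) ≫ G.i)
        (pullback.snd G.s (ρ ≫ G.s) ≫ ρ) (by simp only [Category.assoc, G.i_s]) =
        pullback.fst G.s (ρ ≫ G.s) ≫ G.s ≫ G.e := by
      rw [i_cmp, ← Category.assoc (pullback.fst G.s (ρ ≫ G.s)), pullback.condition]
      simp only [Category.assoc]
    refine (cmp_congr G rfl hinner _).trans ?_
    exact cmp_e G _
  · rw [Category.assoc, Category.id_comp, Tfwd_snd, Tbwd_snd]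

/-- the translation isomorphism -/
noncomputable def Tiso : pullback G.s (ρ ≫ G.t) ≅ pullback G.s (ρ ≫ G.s) where
  hom := Tfwd G ρ
  inv := Tbwd G ρ
  hom_inv_id := Tfwd_bwd G ρ
  inv_hom_id := Tbwd_fwd G ρ

/-- the unit point of the source fibre at `b`. -/
noncomputable def eX (b : Spec (CommRingCat.of K) ⟶ G.U) : Spec (CommRingCat.of K) ⟶ pullback G.s b :=
  pullback.lift (b ≫ G.e) (𝟙 _) (by rw [Category.assoc, G.e_s, Category.comp_id, Category.id_comp])

/-- the point `ρ` of the source fibre at `s ρ`. -/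
noncomputable def ρX : Spec (CommRingCat.of K) ⟶ pullback G.s (ρ ≫ G.s) :=
  pullback.lift ρ (𝟙 _) (by rw [Category.id_comp])

theorem eX_Tfwd : eX G (ρ ≫ G.t) ≫ Tfwd G ρ = ρX G ρ := by
  apply pullback.hom_ext
  · rw [Category.assoc, Tfwd_fst, precomp_cmp]
    have hα : eX G (ρ ≫ G.t) ≫ pullback.fst G.s (ρ ≫ G.t) = ρ ≫ G.t ≫ G.e := by
      unfold eX; rw [pullback.lift_fst, Category.assoc]
    have hβ : eX G (ρ ≫ G.t) ≫ pullback.snd G.s (ρ ≫ G.t) ≫ ρ = ρ := by
      unfold eX; rw [pullback.lift_snd_assoc, Category.id_comp]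
    refine (cmp_congr G hα hβ _).trans ?_
    rw [e_cmp]
    unfold ρX; rw [pullback.lift_fst]
  · rw [Category.assoc, Tfwd_snd]
    unfold eX ρX
    rw [pullback.lift_snd, pullback.lift_snd]

end transl

section twosided

variable {S : Scheme.{u}} (G : GroupoidScheme S) {K : Type u} [Field K]
  (b : Spec (CommRingCat.of K) ⟶ G.U)

/-- the two-sided fibre `{β : s β = b, t β = b}` (with two possibly different `K`-structures). -/
noncomputable abbrev W : Scheme.{u} := pullback (pullback.fst G.s b ≫ G.t) b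

noncomputable def pW : W G b ⟶ pullback G.s b := pullback.fst (pullback.fst G.s b ≫ G.t) b
noncomputable def tW : W G b ⟶ Spec (CommRingCat.of K) :=
  pullback.snd (pullback.fst G.s b ≫ G.t) b
noncomputable def sW : W G b ⟶ Spec (CommRingCat.of K) := pW G b ≫ pullback.snd G.s b
noncomputable def βW : W G b ⟶ G.R := pW G b ≫ pullback.fst G.s b

theorem βW_s : βW G b ≫ G.s = sW G b ≫ b := by
  unfold βW sW
  rw [Category.assoc, pullback.condition, Category.assoc]

theorem βW_t : βW G b ≫ G.t = tW G b ≫ b := by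
  unfold βW tW pW
  rw [Category.assoc]; exact pullback.condition

/-- lifting into `W`. -/
noncomputable def liftW {T : Scheme.{u}} (x : T ⟶ G.R) (σ τ : T ⟶ Spec (CommRingCat.of K))
    (hs : x ≫ G.s = σ ≫ b) (ht : x ≫ G.t = τ ≫ b) : T ⟶ W G b :=
  pullback.lift (pullback.lift x σ hs) τ (by rw [pullback.lift_fst_assoc, ht])

theorem liftW_β {T : Scheme.{u}} (x : T ⟶ G.R) (σ τ : T ⟶ Spec (CommRingCat.of K))
    (hs : x ≫ G.s = σ ≫ b) (ht : x ≫ G.t = τ ≫ b) : liftW G b x σ τ hs ht ≫ βW G b = x := by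
  unfold liftW βW pW
  rw [pullback.lift_fst_assoc, pullback.lift_fst]

theorem liftW_s {T : Scheme.{u}} (x : T ⟶ G.R) (σ τ : T ⟶ Spec (CommRingCat.of K))
    (hs : x ≫ G.s = σ ≫ b) (ht : x ≫ G.t = τ ≫ b) : liftW G b x σ τ hs ht ≫ sW G b = σ := by
  unfold liftW sW pW
  rw [pullback.lift_fst_assoc, pullback.lift_snd]

theorem liftW_t {T : Scheme.{u}} (x : T ⟶ G.R) (σ τ : T ⟶ Spec (CommRingCat.of K))
    (hs : x ≫ G.s = σ ≫ b) (ht : x ≫ G.t = τ ≫ b) : liftW G b x σ τ hs ht ≫ tW G b = τ := by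
  unfold liftW tW
  rw [pullback.lift_snd]

/-- hom-ext for `W`. -/
theorem W_ext {T : Scheme.{u}} (x y : T ⟶ W G b) (h1 : x ≫ βW G b = y ≫ βW G b)
    (h2 : x ≫ sW G b = y ≫ sW G b) (h3 : x ≫ tW G b = y ≫ tW G b) : x = y := by
  unfold βW sW pW at *
  unfold tW at h3
  apply pullback.hom_ext
  · apply pullback.hom_ext
    · simpa only [Category.assoc] using h1
    · simpa only [Category.assoc] using h2
  · exact h3

/-- composition on `W`. -/
noncomputable def mW : pullback (sW G b) (tW G b) ⟶ W G b :=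
  liftW G b
    (cmp G (pullback.fst (sW G b) (tW G b) ≫ βW G b) (pullback.snd (sW G b) (tW G b) ≫ βW G b)
      (by rw [Category.assoc, Category.assoc, βW_s, βW_t, pullback.condition_assoc]))
    (pullback.snd (sW G b) (tW G b) ≫ sW G b)
    (pullback.fst (sW G b) (tW G b) ≫ tW G b)
    (by rw [cmp_s, Category.assoc, Category.assoc, βW_s])
    (by rw [cmp_t, Category.assoc, Category.assoc, βW_t])

theorem mW_t : mW G b ≫ tW G b = pullback.fst (sW G b) (tW G b) ≫ tW G b := liftW_t _ _ _ _ _ _ _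

theorem mW_s : mW G b ≫ sW G b = pullback.snd (sW G b) (tW G b) ≫ sW G b := liftW_s _ _ _ _ _ _ _

theorem mW_β : mW G b ≫ βW G b =
    cmp G (pullback.fst (sW G b) (tW G b) ≫ βW G b) (pullback.snd (sW G b) (tW G b) ≫ βW G b)
        (by rw [Category.assoc, Category.assoc, βW_s, βW_t, pullback.condition_assoc]) :=
  liftW_β _ _ _ _ _ _ _

/-- the unit of `W`. -/
noncomputable def eW : Spec (CommRingCat.of K) ⟶ W G b :=
  liftW G b (b ≫ G.e) (𝟙 _) (𝟙 _)
    (by rw [Category.assoc, G.e_s, Category.comp_id, Category.id_comp])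
    (by rw [Category.assoc, G.e_t, Category.comp_id, Category.id_comp])

theorem eW_t : eW G b ≫ tW G b = 𝟙 _ := liftW_t _ _ _ _ _ _ _

theorem eW_s : eW G b ≫ sW G b = 𝟙 _ := liftW_s _ _ _ _ _ _ _

theorem eW_β : eW G b ≫ βW G b = b ≫ G.e := liftW_β _ _ _ _ _ _ _

theorem eW_pW : eW G b ≫ pW G b = eX G b := by
  apply pullback.hom_ext
  · have := eW_β G b
    unfold βW at this
    rw [Category.assoc, this]
    unfold eX; rw [pullback.lift_fst]
  · have := eW_s G b
    unfold sW at this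
    rw [Category.assoc, this]
    unfold eX; rw [pullback.lift_snd]

theorem unitR : pullback.lift (𝟙 (W G b)) (sW G b ≫ eW G b) (by simp [eW_t]) ≫ mW G b =
    𝟙 (W G b) := by
  apply W_ext
  · refine Eq.trans ?_ (Category.id_comp _).symm
    rw [Category.assoc, mW_β, precomp_cmp]
    have hα : pullback.lift (𝟙 (W G b)) (sW G b ≫ eW G b) (by simp [eW_t]) ≫
        pullback.fst (sW G b) (tW G b) ≫ βW G b = βW G b := by
      rw [pullback.lift_fst_assoc, Category.id_comp]
    have hβ : pullback.lift (𝟙 (W G b)) (sW G b ≫ eW G b) (by simp [eW_t]) ≫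
        pullback.snd (sW G b) (tW G b) ≫ βW G b = βW G b ≫ G.s ≫ G.e := by
      rw [pullback.lift_snd_assoc, Category.assoc, eW_β, ← Category.assoc (βW G b), βW_s,
        Category.assoc]
    refine (cmp_congr G hα hβ _).trans ?_
    exact cmp_e G _
  · rw [Category.assoc, mW_s, pullback.lift_snd_assoc, Category.assoc, eW_s, Category.comp_id,
      Category.id_comp]
  · rw [Category.assoc, mW_t, pullback.lift_fst_assoc, Category.id_comp]

theorem unitL : pullback.lift (tW G b ≫ eW G b) (𝟙 (W G b)) (by simp [eW_s]) ≫ mW G b =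
    𝟙 (W G b) := by
  apply W_ext
  · refine Eq.trans ?_ (Category.id_comp _).symm
    rw [Category.assoc, mW_β, precomp_cmp]
    have hα : pullback.lift (tW G b ≫ eW G b) (𝟙 (W G b)) (by simp [eW_s]) ≫
        pullback.fst (sW G b) (tW G b) ≫ βW G b = βW G b ≫ G.t ≫ G.e := by
      rw [pullback.lift_fst_assoc, Category.assoc, eW_β, ← Category.assoc (βW G b), βW_t,
        Category.assoc]
    have hβ : pullback.lift (tW G b ≫ eW G b) (𝟙 (W G b)) (by simp [eW_s]) ≫
        pullback.snd (sW G b) (tW G b) ≫ βW G b = βW G b := by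
      rw [pullback.lift_snd_assoc, Category.id_comp]
    refine (cmp_congr G hα hβ _).trans ?_
    exact e_cmp G _
  · rw [Category.assoc, mW_s, pullback.lift_snd_assoc, Category.id_comp]
  · rw [Category.assoc, mW_t, pullback.lift_fst_assoc, Category.assoc, eW_t, Category.comp_id,
      Category.id_comp]

end twosided

section final

variable {S : Scheme.{u}} (G : GroupoidScheme S) {k : Type u} [Field k]
  (eU : G.U ≅ Spec (CommRingCat.of k))

include eU in
theorem uniqueComp_R (r : G.R) : UniqueComp r := by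
  have hUne : Nonempty G.U := ⟨eU.inv (IsLocalRing.closedPoint k)⟩
  have hUint : IsIntegral G.U := isIntegral_of_isOpenImmersion eU.hom
  have hUsub : Subsingleton G.U := (Scheme.homeoOfIso eU).toEquiv.subsingleton
  let K := AlgebraicClosure (G.R.residueField r)
  let ρ : Spec (CommRingCat.of K) ⟶ G.R :=
    Spec.map (CommRingCat.ofHom (algebraMap (G.R.residueField r) K)) ≫
      G.R.fromSpecResidueField r
  -- step 1: the unit of the two-sided fibre
  have h0 : UniqueComp ((eW G (ρ ≫ G.t)) (IsLocalRing.closedPoint K)) :=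
    uniqueComp_unit₂ (sW G _) (tW G _) (mW G _) (eW G _) (eW_s G _) (eW_t G _) (unitR G _)
      (unitL G _)
  -- step 2: descend to the source fibre
  have hpW : Flat (pW G (ρ ≫ G.t)) := by unfold pW; infer_instance
  have h1 := UniqueComp.of_generalizingMap (π := pW G (ρ ≫ G.t)) (Scheme.Hom.continuous _)
    (Flat.generalizingMap _) h0
  have h1' : pW G (ρ ≫ G.t) (eW G (ρ ≫ G.t) (IsLocalRing.closedPoint K)) =
      eX G (ρ ≫ G.t) (IsLocalRing.closedPoint K) := by
    rw [← Scheme.Hom.comp_apply, eW_pW]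
  rw [h1'] at h1
  -- step 3: translate
  have h2 := UniqueComp.of_generalizingMap (π := (Tiso G ρ).hom) (Scheme.Hom.continuous _)
    (Scheme.homeoOfIso (Tiso G ρ)).isOpenEmbedding.generalizingMap h1
  have h2' : (Tiso G ρ).hom (eX G (ρ ≫ G.t) (IsLocalRing.closedPoint K)) =
      ρX G ρ (IsLocalRing.closedPoint K) := by
    rw [← Scheme.Hom.comp_apply]
    exact congr(($(eX_Tfwd G ρ)) (IsLocalRing.closedPoint K))
  rw [h2'] at h2
  -- step 4: descend to R
  have h3 := UniqueComp.of_generalizingMap (π := pullback.fst G.s (ρ ≫ G.s))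
    (Scheme.Hom.continuous _) (Flat.generalizingMap _) h2
  have h3' : pullback.fst G.s (ρ ≫ G.s) (ρX G ρ (IsLocalRing.closedPoint K)) = r := by
    unfold ρX
    rw [← Scheme.Hom.comp_apply, pullback.lift_fst]
    show G.R.fromSpecResidueField r _ = r
    exact Scheme.fromSpecResidueField_apply _ _
  rwa [h3'] at h3

theorem main (S : Scheme.{u}) (G : GroupoidScheme S) (k : Type u) [Field k]
    (eU : G.U ≅ Spec (CommRingCat.of k)) :
    (∀ r : G.R, (minimalPrimes (G.R.presheaf.stalk r)).Subsingleton) ∧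
    ∃! Z : Set G.R, Z ∈ irreducibleComponents (G.R : Type u) ∧
      G.e (eU.inv (IsLocalRing.closedPoint k)) ∈ Z := by
  refine ⟨fun x => minimalPrimes_subsingleton_of_uniqueComp x (uniqueComp_R G eU x), ?_⟩
  refine ⟨irreducibleComponent (G.e (eU.inv (IsLocalRing.closedPoint k))),
    ⟨irreducibleComponent_mem_irreducibleComponents _, mem_irreducibleComponent⟩, ?_⟩
  rintro Z ⟨hZ, heZ⟩
  exact uniqueComp_R G eU _ Z hZ _ (irreducibleComponent_mem_irreducibleComponents _) heZ
    mem_irreducibleComponent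

end final


/-- Let (U, R, s, t, c) be a groupoid scheme over S with U isomorphic to the spectrum of a field k. Then
every local ring of R has exactly one minimal prime ideal, and exactly one irreducible component of
R passes through the identity point e. (The published statement has a third part, geometric
irreducibility of that component over k, which is not stated here.) (A groupoid scheme carries U, R,
s, t, c, e, i over S with the groupoid axioms on T-points.) -/
theorem result (S : Scheme.{u}) (G : Grpd.GroupoidScheme S) (k : Type u) [Field k] (eU : G.U ≅ Spec (CommRingCat.of k)) : (∀ r : G.R, (minimalPrimes (G.R.presheaf.stalk r)).Subsingleton) ∧ ∃! Z : Set G.R, Z ∈ irreducibleComponents (G.R : Type u) ∧ G.e (eU.inv (IsLocalRing.closedPoint k)) ∈ Z := by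
  exact main S G k eU

end Groth.Agent.S1882
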