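import Groth.Statements.S18821
-- import your own Groth.Agent.* helpers here

set_option autoImplicit false
universe u
open CategoryTheory MonoidalCategory CartesianMonoidalCategory MonObj AlgebraicGeometry
open AlgGrp

namespace Groth.Agent.S18821

/-- Let k be a commutative ring and M a monoid k-scheme (a monoid object in k-schemes). Then the group
k-functor of units T ↦ M(T)^× is representable by a k-scheme: there are a k-scheme G and a
monomorphism i : G → M such that, for every k-scheme T, a T-valued point of M factors through i if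
and only if it is invertible in the monoid M(T). If moreover M is affine then G is affine. -/
theorem result (k : Type u) [CommRing k]
    (M : Over (Spec (CommRingCat.of k))) [MonObj M] :
    ∃ (G : Over (Spec (CommRingCat.of k))) (i : G ⟶ M), Mono i ∧
      (∀ (T : Over (Spec (CommRingCat.of k))) (m : T ⟶ M), (∃ g : T ⟶ G, g ≫ i = m) ↔ IsUnit m) ∧
      (IsAffine M.left → IsAffine G.left) := by
  obtain ⟨f, hf⟩ : ∃ f : M ⊗ M ⟶ M ⊗ M, f = lift μ (lift (snd M M) (fst M M) ≫ μ) := ⟨_, rfl⟩
  obtain ⟨e, he⟩ : ∃ e : 𝟙_ (Over (Spec (CommRingCat.of k))) ⟶ M ⊗ M, e = lift η η := ⟨_, rfl⟩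
  have key : ∀ (T : Over (Spec (CommRingCat.of k))) (m n : T ⟶ M),
      lift m n ≫ f = toUnit T ≫ e ↔ (m * n = 1 ∧ n * m = 1) := by
    intro T m n
    rw [hf, he, comp_lift, comp_lift]
    constructor
    · intro h
      have h1 := congrArg (· ≫ fst M M) h
      have h2 := congrArg (· ≫ snd M M) h
      simp only [lift_fst, lift_snd] at h1 h2
      refine ⟨?_, ?_⟩
      · rw [Hom.mul_def, Hom.one_def]
        exact h1
      · rw [Hom.mul_def, Hom.one_def, ← h2, ← Category.assoc, comp_lift, lift_snd, lift_fst]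
    · rintro ⟨h1, h2⟩
      rw [Hom.mul_def, Hom.one_def] at h1 h2
      apply CartesianMonoidalCategory.hom_ext
      · simp only [lift_fst]
        exact h1
      · simp only [lift_snd]
        rw [← Category.assoc, comp_lift, lift_snd, lift_fst]
        exact h2
  obtain ⟨G, p1, p2, sq⟩ : ∃ (G : Over (Spec (CommRingCat.of k))) (p1 : G ⟶ M ⊗ M)
      (p2 : G ⟶ 𝟙_ (Over (Spec (CommRingCat.of k)))), IsPullback p1 p2 f e :=
    ⟨_, _, _, IsPullback.of_hasPullback f e⟩
  have hG : ∀ (T : Over (Spec (CommRingCat.of k))) (g : T ⟶ G),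
      (g ≫ p1 ≫ fst M M) * (g ≫ p1 ≫ snd M M) = 1 ∧
        (g ≫ p1 ≫ snd M M) * (g ≫ p1 ≫ fst M M) = 1 := by
    intro T g
    apply (key T _ _).1
    have e1 : lift (g ≫ p1 ≫ fst M M) (g ≫ p1 ≫ snd M M) = g ≫ p1 := by
      apply CartesianMonoidalCategory.hom_ext
      · simp
      · simp
    rw [e1, Category.assoc, sq.w, ← Category.assoc]
    congr 1
    exact toUnit_unique _ _
  refine ⟨G, p1 ≫ fst M M, ⟨fun {T} g1 g2 h => ?_⟩, ?_, ?_⟩
  · apply sq.hom_ext
    · apply CartesianMonoidalCategory.hom_ext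
      · simpa using h
      · have h' : g1 ≫ p1 ≫ fst M M = g2 ≫ p1 ≫ fst M M := h
        have h3 : (g1 ≫ p1 ≫ fst M M) * (g2 ≫ p1 ≫ snd M M) = 1 := by
          rw [h']
          exact (hG T g2).1
        have h4 := left_inv_eq_right_inv (hG T g1).2 h3
        simpa using h4
    · exact toUnit_unique _ _
  · intro T m
    constructor
    · rintro ⟨g, rfl⟩
      exact ⟨⟨g ≫ p1 ≫ fst M M, g ≫ p1 ≫ snd M M, (hG T g).1, (hG T g).2⟩, rfl⟩
    · rintro ⟨u, rfl⟩
      have h := (key T ↑u ↑u⁻¹).2 ⟨u.mul_inv, u.inv_mul⟩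
      refine ⟨sq.lift (lift ↑u ↑u⁻¹) (toUnit T) h, ?_⟩
      rw [← Category.assoc, sq.lift_fst, lift_fst]
  · intro hM
    have sq' : IsPullback p1.left p2.left f.left e.left := sq.map (Over.forget _)
    haveI : IsAffine (M ⊗ M).left :=
      show IsAffine (Limits.pullback M.hom M.hom) from inferInstance
    haveI : IsAffine (𝟙_ (Over (Spec (CommRingCat.of k)))).left :=
      show IsAffine (Spec (CommRingCat.of k)) from inferInstance
    exact IsAffine.of_isIso sq'.isoPullback.hom

end Groth.Agent.S18821
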