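import Groth.Statements.S18824
-- import your own Groth.Agent.* helpers here
import Groth.Agent.Lib.Helper40.ActShear
import Groth.Agent.Lib.Helper40.PullbackPts
import Groth.Agent.Lib.Helper40.FpqcCovOver

set_option autoImplicit false
universe u
open CategoryTheory MonoidalCategory CartesianMonoidalCategory MonObj AlgebraicGeometry
open AlgGrp

namespace Groth.Agent.S18824

/-- Let k be a field, G a locally algebraic group over k (a group k-scheme locally of finite type)
acting on a k-scheme X through a : G ×_k X → X, and U an open subset of X. Let G·U ⊆ X be the image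
under a of G ×_k U (the preimage of U under the projection). Then G·U is open in X, contains U, is
G-stable in the sense that a maps G ×_k (G·U) into G·U, and is the smallest such set: every G-stable
open subset of X containing U contains G·U. -/
theorem result (k : Type u) [Field k]
    (G X : Over (Spec (CommRingCat.of k))) [GrpObj G] [LocallyOfFiniteType G.hom] (a : AlgGrp.Action G X)
    (U : Set ↥X.left) (hU : IsOpen U) :
    IsOpen (a.act.left.base '' ((CartesianMonoidalCategory.snd G X).left.base ⁻¹' U)) ∧
      U ⊆ a.act.left.base '' ((CartesianMonoidalCategory.snd G X).left.base ⁻¹' U) ∧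
      a.act.left.base '' ((CartesianMonoidalCategory.snd G X).left.base ⁻¹'
          (a.act.left.base '' ((CartesianMonoidalCategory.snd G X).left.base ⁻¹' U))) ⊆
        a.act.left.base '' ((CartesianMonoidalCategory.snd G X).left.base ⁻¹' U) ∧
      ∀ W : Set ↥X.left, IsOpen W → U ⊆ W →
        a.act.left.base '' ((CartesianMonoidalCategory.snd G X).left.base ⁻¹' W) ⊆ W →
          a.act.left.base '' ((CartesianMonoidalCategory.snd G X).left.base ⁻¹' U) ⊆ W := by
  have hGopen : UniversallyOpen G.hom := inferInstance
  have hact : UniversallyOpen a.act.left :=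
    Groth.Agent.Lib.Helper40.ActPts.property_act_left @UniversallyOpen a hGopen
  have hopen : IsOpenMap a.act.left.base := a.act.left.isOpenMap
  refine ⟨hopen _ (hU.preimage (CartesianMonoidalCategory.snd G X).left.continuous), ?_, ?_, ?_⟩
  · intro x hx
    let e : X ⟶ G ⊗ X := CartesianMonoidalCategory.lift (CartesianMonoidalCategory.toUnit X ≫ η[G]) (𝟙 X)
    have he1 : e ≫ a.act = 𝟙 X := by
      have := Groth.Agent.Lib.Helper40.ActPts.one_smul a (𝟙 X)
      rwa [Groth.Agent.Lib.Helper40.ActPts.smul_def, CategoryTheory.Hom.one_def] at this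
    have he2 : e ≫ CartesianMonoidalCategory.snd G X = 𝟙 X := CartesianMonoidalCategory.lift_snd _ _
    refine ⟨e.left.base x, ?_, ?_⟩
    · change ((e.left ≫ (CartesianMonoidalCategory.snd G X).left).base x) ∈ U
      rw [← Over.comp_left, he2]
      exact hx
    · change ((e.left ≫ a.act.left).base x) = x
      rw [← Over.comp_left, he1]
      rfl
  · rintro _ ⟨w, ⟨w', hw'U, hw'⟩, rfl⟩
    have sq := Groth.Agent.Lib.Helper40.FpqcCov.isPullback_whiskerLeft G a.act
    obtain ⟨z, hz1, hz2⟩ :=
      Groth.Agent.Lib.Helper40.PullbackPts.exists_preimage_of_isPullback_over sq w w' hw'.symm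
    let m : G ⊗ (G ⊗ X) ⟶ G ⊗ X := (α_ G G X).inv ≫ (μ[G] ▷ X)
    have hm1 : m ≫ a.act = (G ◁ a.act) ≫ a.act := by
      rw [Category.assoc, a.mul_act, Iso.inv_hom_id_assoc]
    have hm2 : m ≫ CartesianMonoidalCategory.snd G X =
        CartesianMonoidalCategory.snd G (G ⊗ X) ≫ CartesianMonoidalCategory.snd G X := by
      simp [m]
    refine ⟨m.left.base z, ?_, ?_⟩
    · change ((m.left ≫ (CartesianMonoidalCategory.snd G X).left).base z) ∈ U
      rw [← Over.comp_left, hm2, Over.comp_left, Scheme.Hom.comp_base, TopCat.comp_app, hz2]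
      exact hw'U
    · change ((m.left ≫ a.act.left).base z) = _
      rw [← Over.comp_left, hm1, Over.comp_left, Scheme.Hom.comp_base, TopCat.comp_app, hz1]
  · intro W _ hUW hW
    refine subset_trans (Set.image_mono (Set.preimage_mono hUW)) hW

end Groth.Agent.S18824
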