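import Groth.Statements.S18826
import Groth.Agent.Lib.Helper38.MaxOpen
import Groth.Agent.Lib.Helper95.ActionBasic

set_option autoImplicit false
universe u
open CategoryTheory MonoidalCategory CartesianMonoidalCategory MonObj AlgebraicGeometry
open AlgGrp

namespace Groth.Agent.S18826

theorem isPullback_snd_whiskerLeft {C : Type*} [Category C] [CartesianMonoidalCategory C] (Z : C)
    {X Y : C} (f : X ⟶ Y) : IsPullback (snd Z X) (Z ◁ f) f (snd Z Y) := by
  refine ⟨⟨(whiskerLeft_snd Z f).symm⟩, ⟨Limits.PullbackCone.IsLimit.mk _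
    (fun s => lift (s.snd ≫ fst Z Y) s.fst) (fun s => ?_) (fun s => ?_) (fun s m h1 h2 => ?_)⟩⟩
  · exact lift_snd _ _
  · apply CartesianMonoidalCategory.hom_ext
    · rw [Category.assoc, whiskerLeft_fst, lift_fst]
    · rw [Category.assoc, whiskerLeft_snd, lift_snd_assoc, s.condition]
  · apply CartesianMonoidalCategory.hom_ext
    · rw [lift_fst, ← h2, Category.assoc, whiskerLeft_fst]
    · rw [lift_snd]; exact h1

open Groth.Agent.Lib.Helper95 Groth.Agent.Lib.Helper38.MaxOpen in
theorem isPullback_act {S : Scheme.{u}} {G X Y : Over S} [GrpObj G]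
    (aX : AlgGrp.Action G X) (aY : AlgGrp.Action G Y) (f : X ⟶ Y)
    (hf : (G ◁ f) ≫ aY.act = aX.act ≫ f) : IsPullback aX.act (G ◁ f) f aY.act := by
  have hX : (shear aX).inv ≫ aX.act = snd G X := by
    rw [Iso.inv_comp_eq, shear_hom_snd]
  have hY : (shear aY).inv ≫ aY.act = snd G Y := by
    rw [Iso.inv_comp_eq, shear_hom_snd]
  have hcomm : (shear aX).hom ≫ (G ◁ f) = (G ◁ f) ≫ (shear aY).hom := by
    apply CartesianMonoidalCategory.hom_ext
    · simp [shear]
    · rw [Category.assoc, whiskerLeft_snd, ← Category.assoc, shear_hom_snd, Category.assoc,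
        shear_hom_snd, hf]
  refine IsPullback.of_iso (isPullback_snd_whiskerLeft G f) (shear aX).symm (Iso.refl X)
    (shear aY).symm (Iso.refl Y) ?_ ?_ ?_ ?_
  · simp [hX]
  · simp only [Iso.symm_hom]
    rw [Iso.comp_inv_eq, Category.assoc, ← hcomm, Iso.inv_hom_id_assoc]
  · simp
  · simp [hY]

/-- Let k be a field, G a locally algebraic group over k (a group k-scheme locally of finite type)
acting on k-schemes X and Y, and f : X → Y a G-equivariant k-morphism. Let P be a property of
morphisms of schemes which is local on the target for the Zariski topology, stable under base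
change, and descends along flat surjective universally open morphisms (the published hypothesis is
descent along fpqc morphisms; the printed argument descends only along the restriction G ×_k U → G·U
of the action, which is flat, surjective and universally open). Then there is a largest open subset
V of Y such that the restriction f⁻¹(V) → V of f has P, and this V is G-stable: the action G ×_k Y →
Y maps G ×_k V into V. -/
theorem result (k : Type u) [Field k]
    (G X Y : Over (Spec (CommRingCat.of k))) [GrpObj G] [LocallyOfFiniteType G.hom]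
    (aX : AlgGrp.Action G X) (aY : AlgGrp.Action G Y) (f : X ⟶ Y) (hf : (G ◁ f) ≫ aY.act = aX.act ≫ f)
    (P : MorphismProperty Scheme.{u}) [IsZariskiLocalAtTarget P] [P.IsStableUnderBaseChange]
    [P.DescendsAlong (@Flat ⊓ @Surjective ⊓ @UniversallyOpen)] :
    ∃ V : Y.left.Opens, P (f.left ∣_ V) ∧ (∀ V' : Y.left.Opens, P (f.left ∣_ V') → V' ≤ V) ∧
      (CartesianMonoidalCategory.snd G Y).left ⁻¹ᵁ V ≤ aY.act.left ⁻¹ᵁ V := by
  have : Subsingleton (Spec (CommRingCat.of k)) := inferInstanceAs (Subsingleton (PrimeSpectrum k))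
  have hGflat : Flat G.hom := inferInstance
  have hGopen : UniversallyOpen G.hom := inferInstance
  have hflat : Flat aY.act.left :=
    Groth.Agent.Lib.Helper95.act_left_of_isStableUnderBaseChange @Flat aY hGflat
  have hopen : UniversallyOpen aY.act.left :=
    Groth.Agent.Lib.Helper95.act_left_of_isStableUnderBaseChange @UniversallyOpen aY hGopen
  have sqA : IsPullback (snd G X).left (G ◁ f).left f.left (snd G Y).left :=
    (isPullback_snd_whiskerLeft G f).map (Over.forget _)
  have sqB : IsPullback aX.act.left (G ◁ f).left f.left aY.act.left :=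
    (isPullback_act aX aY f hf).map (Over.forget _)
  obtain ⟨V, hV, hmax⟩ := Groth.Agent.Lib.Helper38.MaxOpen.exists_maxOpen P f.left
  refine ⟨V, hV, hmax, ?_⟩
  intro z hz
  have h1 : P ((G ◁ f).left ∣_ (snd G Y).left ⁻¹ᵁ V) :=
    Groth.Agent.Lib.Helper38.MaxOpen.morphismRestrict_preimage P sqA V hV
  have sq' := Groth.Agent.Lib.Helper38.MaxOpen.isPullback_morphismRestrict_comp sqB
    ((snd G Y).left ⁻¹ᵁ V)
  have hp : IsOpenMap (((snd G Y).left ⁻¹ᵁ V).ι ≫ aY.act.left).base :=
    (((snd G Y).left ⁻¹ᵁ V).ι ≫ aY.act.left).isOpenMap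
  let V'' : Y.left.Opens := ⟨Set.range (((snd G Y).left ⁻¹ᵁ V).ι ≫ aY.act.left).base,
    hp.isOpen_range⟩
  have h2 : P (f.left ∣_ V'') :=
    Groth.Agent.Lib.Helper38.MaxOpen.morphismRestrict_of_range_eq P sq' h1 V'' rfl
  exact hmax V'' h2 ⟨⟨z, hz⟩, rfl⟩

end Groth.Agent.S18826
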