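import Groth.Statements.S18827
-- import your own Groth.Agent.* helpers here

set_option autoImplicit false
universe u v w
open TensorProduct
open HopfRep

namespace Groth.Agent.S18827

section Aux

variable {k : Type u} [Field k] {A : Type v} [AddCommGroup A] [Module k A]

/-- `S` is stable under the candidate coaction `ρ` -/
def SubOf {V : Type*} [AddCommGroup V] [Module k V] (ρ : V →ₗ[k] V ⊗[k] A) (S : Submodule k V) : Prop :=
  ∀ s ∈ S, ρ s ∈ LinearMap.range (S.subtype.rTensor A)

/-- images of stable submodules under intertwining maps are stable -/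
theorem subOf_map {V₁ V₂ : Type*} [AddCommGroup V₁] [Module k V₁] [AddCommGroup V₂] [Module k V₂]
    (ρ₁ : V₁ →ₗ[k] V₁ ⊗[k] A) (ρ₂ : V₂ →ₗ[k] V₂ ⊗[k] A) (f : V₁ →ₗ[k] V₂)
    (hf : ∀ v, f.rTensor A (ρ₁ v) = ρ₂ (f v)) (S : Submodule k V₁) (hS : SubOf ρ₁ S) :
    SubOf ρ₂ (S.map f) := by
  rintro t ⟨s, hs, rfl⟩
  obtain ⟨x, hx⟩ := hS s hs
  let f' : S →ₗ[k] (S.map f) := f.restrict (fun y hy => Submodule.mem_map_of_mem hy)
  have hcomp : (S.map f).subtype ∘ₗ f' = f ∘ₗ S.subtype := by
    ext y; rfl
  refine ⟨f'.rTensor A x, ?_⟩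
  rw [← LinearMap.comp_apply, ← LinearMap.rTensor_comp, hcomp, LinearMap.rTensor_comp,
    LinearMap.comp_apply, hx, hf]

/-- kernels of surjective maps killing the coaction are stable -/
theorem subOf_ker {V₁ V₂ : Type*} [AddCommGroup V₁] [Module k V₁] [AddCommGroup V₂] [Module k V₂]
    (ρ₁ : V₁ →ₗ[k] V₁ ⊗[k] A) (g : V₁ →ₗ[k] V₂) (hg : Function.Surjective g)
    (h : ∀ v ∈ LinearMap.ker g, g.rTensor A (ρ₁ v) = 0) : SubOf ρ₁ (LinearMap.ker g) := by
  intro v hv
  have hex := rTensor_exact A (LinearMap.exact_subtype_ker_map g) hg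
  exact (hex (ρ₁ v)).1 (h v hv)

/-- elements in the range of `S.subtype ⊗ id` are killed by `S.mkQ ⊗ id` -/
theorem rTensor_mkQ_of_mem_range {V : Type*} [AddCommGroup V] [Module k V] (S : Submodule k V)
    (x : V ⊗[k] A) (hx : x ∈ LinearMap.range (S.subtype.rTensor A)) : S.mkQ.rTensor A x = 0 := by
  obtain ⟨y, rfl⟩ := hx
  rw [← LinearMap.comp_apply, ← LinearMap.rTensor_comp]
  have : S.mkQ ∘ₗ S.subtype = 0 := by ext y; simp
  rw [this, LinearMap.rTensor_zero, LinearMap.zero_apply]

end Aux


/-- Let k be a field, C a k-coalgebra, V a right C-comodule which is semisimple (every subcomodule has a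
complementary subcomodule, which over a field is the same as being the sum of its simple
subcomodules) and W a subcomodule of V. Then the subcomodule W with its induced structure and the
quotient comodule V/W are again semisimple. (The source states this for representations of an affine
monoid scheme over k.) -/
theorem result (k : Type u) [Field k]
    (C : Type v) [AddCommGroup C] [Module k C] [Coalgebra k C]
    (V : Type w) [AddCommGroup V] [Module k V] [c : HopfRep.Comod k C V] (hV : HopfRep.IsSemisimpleComod k C V)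
    (W : Submodule k V) (hW : HopfRep.IsSubcomod (k := k) (A := C) W) :
    @HopfRep.IsSemisimpleComod k C _ _ _ _ ↥W _ _ (ComodSub.Comod.restr c W hW) ∧
      @HopfRep.IsSemisimpleComod k C _ _ _ _ (V ⧸ W) _ _ (ComodSub.Comod.quot c W hW) := by
  constructor
  · -- the subcomodule
    intro U hU
    have hU' : SubOf (ComodSub.restrCoact c W hW) U := hU
    -- push forward to V
    have h1 : SubOf c.coact (U.map W.subtype) :=
      subOf_map (ComodSub.restrCoact c W hW) c.coact W.subtype
        (fun w => ComodSub.rTensor_subtype_restrCoact c W hW w) U hU'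
    obtain ⟨U', hU'sub, hcompl⟩ := hV (U.map W.subtype) h1
    let g : W →ₗ[k] V ⧸ U' := U'.mkQ ∘ₗ W.subtype
    have hgsurj : Function.Surjective g := by
      intro y
      obtain ⟨v, rfl⟩ := U'.mkQ_surjective y
      have hv : v ∈ U.map W.subtype ⊔ U' := by rw [hcompl.sup_eq_top]; trivial
      obtain ⟨a, ha, b, hb, rfl⟩ := Submodule.mem_sup.1 hv
      obtain ⟨u, -, rfl⟩ := ha
      refine ⟨u, ?_⟩
      simp only [g, LinearMap.comp_apply, Submodule.subtype_apply, map_add]
      have hb0 : U'.mkQ b = 0 := (Submodule.Quotient.mk_eq_zero U').2 hb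
      rw [hb0, add_zero]
    have hker : ∀ w : W, w ∈ LinearMap.ker g ↔ (w : V) ∈ U' := by
      intro w
      simp [g]
    have h2 : SubOf (ComodSub.restrCoact c W hW) (LinearMap.ker g) := by
      apply subOf_ker _ g hgsurj
      intro w hw
      have hw' : (w : V) ∈ U' := (hker w).1 hw
      simp only [g]
      rw [LinearMap.rTensor_comp, LinearMap.comp_apply,
        ComodSub.rTensor_subtype_restrCoact c W hW w]
      exact rTensor_mkQ_of_mem_range U' _ (hU'sub _ hw')
    refine ⟨LinearMap.ker g, h2, ?_⟩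
    constructor
    · rw [Submodule.disjoint_def]
      intro w hwU hwk
      have h3 : (w : V) ∈ U.map W.subtype ⊓ U' :=
        ⟨⟨w, hwU, rfl⟩, (hker w).1 hwk⟩
      rw [hcompl.inf_eq_bot] at h3
      exact Subtype.ext ((Submodule.mem_bot k).1 h3)
    · rw [codisjoint_iff, eq_top_iff]
      intro w _
      have hv : (w : V) ∈ U.map W.subtype ⊔ U' := by rw [hcompl.sup_eq_top]; trivial
      obtain ⟨a, ha, b, hb, hab⟩ := Submodule.mem_sup.1 hv
      obtain ⟨u, hu, rfl⟩ := ha
      refine Submodule.mem_sup.2 ⟨u, hu, w - u, ?_, by abel⟩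
      rw [hker]
      have : ((w - u : W) : V) = b := by
        rw [Submodule.coe_sub, ← hab]; simp
      rw [this]
      exact hb
  · -- the quotient
    intro U hU
    have hU' : SubOf (ComodSub.Comod.quot c W hW).coact U := hU
    let g : V →ₗ[k] (V ⧸ W) ⧸ U := U.mkQ ∘ₗ W.mkQ
    have hgsurj : Function.Surjective g := (U.mkQ_surjective).comp W.mkQ_surjective
    have hker : ∀ v : V, v ∈ LinearMap.ker g ↔ W.mkQ v ∈ U := by
      intro v
      simp [g]
    have h1 : SubOf c.coact (LinearMap.ker g) := by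
      apply subOf_ker _ g hgsurj
      intro v hv
      have hv' : W.mkQ v ∈ U := (hker v).1 hv
      simp only [g]
      rw [LinearMap.rTensor_comp, LinearMap.comp_apply]
      have : W.mkQ.rTensor C (c.coact v) = (ComodSub.Comod.quot c W hW).coact (W.mkQ v) := rfl
      rw [this]
      exact rTensor_mkQ_of_mem_range U _ (hU' _ hv')
    obtain ⟨U', hU'sub, hcompl⟩ := hV (LinearMap.ker g) h1
    have h2 : SubOf (ComodSub.Comod.quot c W hW).coact (U'.map W.mkQ) :=
      subOf_map c.coact (ComodSub.Comod.quot c W hW).coact W.mkQ (fun v => rfl) U' hU'sub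
    refine ⟨U'.map W.mkQ, h2, ?_⟩
    constructor
    · rw [Submodule.disjoint_def]
      rintro x hxU ⟨v, hv, rfl⟩
      have h3 : v ∈ LinearMap.ker g ⊓ U' := ⟨(hker v).2 hxU, hv⟩
      rw [hcompl.inf_eq_bot] at h3
      rw [(Submodule.mem_bot k).1 h3, map_zero]
    · rw [codisjoint_iff, eq_top_iff]
      intro x _
      obtain ⟨v, rfl⟩ := W.mkQ_surjective x
      have hv : v ∈ LinearMap.ker g ⊔ U' := by rw [hcompl.sup_eq_top]; trivial
      obtain ⟨a, ha, b, hb, rfl⟩ := Submodule.mem_sup.1 hv
      rw [map_add]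
      exact Submodule.add_mem_sup ((hker a).1 ha) ⟨b, hb, rfl⟩

end Groth.Agent.S18827
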