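import Groth.Statements.S18832
import Groth.Agent.Lib.Helper87.JetReg
import Groth.Agent.Lib.Helper62.SmoothReg6

set_option autoImplicit false
universe u
open Polynomial
open DefT

namespace Groth.Agent.S18832

/-- Let k be an algebraically closed field of characteristic zero, A a finitely generated k-algebra and
m a maximal ideal of A. Then A_m is a regular local ring (the pointed scheme (Spec A, m) is smooth
at m) if and only if, for every l ≥ 1, every k-algebra homomorphism φ : A → k[X]/(X^l) mapping m
into the nilpotent elements extends to a k-algebra homomorphism ψ : A → k[X]/(X^(l+1)) reducing to φ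
modulo X^l. Only jets along Spec k[X]/(X^l) are tested, not all local Artinian algebras. -/
theorem result (k : Type u) [Field k] [IsAlgClosed k] [CharZero k]
    (A : Type u) [CommRing A] [Algebra k A] [Algebra.FiniteType k A]
    (m : Ideal A) [m.IsMaximal] :
    IsRegularLocalRing (Localization.AtPrime m) ↔
      ∀ (l : ℕ), 1 ≤ l →
        ∀ (φ : A →ₐ[k] (k[X] ⧸ Ideal.span {(X : k[X]) ^ l})),
          (∀ a ∈ m, IsNilpotent (φ a)) →
          ∃ ψ : A →ₐ[k] (k[X] ⧸ Ideal.span {(X : k[X]) ^ (l + 1)}),
            (Ideal.Quotient.factorₐ k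
                (Ideal.span_singleton_le_span_singleton.mpr (pow_dvd_pow (X : k[X]) (Nat.le_succ l)))).comp ψ = φ := by
  set_option linter.style.haveILetI false in
  constructor
  · intro hreg l hl φ hφ
    haveI := hreg
    obtain ⟨c, hc⟩ := Groth.Agent.Lib.Helper87.JetReg.exists_c k A m
    haveI : Algebra.EssFiniteType k (Localization.AtPrime m) :=
      Algebra.EssFiniteType.comp k A (Localization.AtPrime m)
    have hfs : Algebra.FormallySmooth k (Localization.AtPrime m) :=
      Groth.Agent.Lib.Helper62.SmoothReg.formallySmooth_of_isRegularLocalRing k _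
    have hu : ∀ y : m.primeCompl, IsUnit (φ y) := fun y =>
      Groth.Agent.Lib.Helper87.JetLift.isUnit_of_notMem m c hc φ hφ y.2
    let φ' : Localization.AtPrime m →ₐ[k] (k[X] ⧸ Ideal.span {(X : k[X]) ^ l}) :=
      IsLocalization.liftAlgHom (M := m.primeCompl) (f := φ) hu
    have hφ' : ∀ s : A, φ' (algebraMap A (Localization.AtPrime m) s) = φ s := fun s =>
      IsLocalization.lift_eq hu s
    let g := Ideal.Quotient.factorₐ k
      (Ideal.span_singleton_le_span_singleton.mpr (pow_dvd_pow (X : k[X]) (Nat.le_succ l)))
    have hg : Function.Surjective g := by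
      intro z
      obtain ⟨p, rfl⟩ := Ideal.Quotient.mk_surjective z
      exact ⟨Ideal.Quotient.mk _ p, rfl⟩
    have hnil : IsNilpotent (RingHom.ker (g : (k[X] ⧸ Ideal.span {(X : k[X]) ^ l.succ}) →+*
        (k[X] ⧸ Ideal.span {(X : k[X]) ^ l}))) := by
      set K := RingHom.ker (g : (k[X] ⧸ Ideal.span {(X : k[X]) ^ l.succ}) →+*
        (k[X] ⧸ Ideal.span {(X : k[X]) ^ l})) with hK
      have hK2 : K ^ 2 = ⊥ := by
        rw [eq_bot_iff, pow_two, Ideal.mul_le]
        intro a ha b hb
        obtain ⟨p, rfl⟩ := Ideal.Quotient.mk_surjective a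
        obtain ⟨q, rfl⟩ := Ideal.Quotient.mk_surjective b
        rw [hK, RingHom.mem_ker] at ha hb
        have hp : (X : k[X]) ^ l ∣ p := by
          rw [← Ideal.mem_span_singleton, ← Ideal.Quotient.eq_zero_iff_mem]
          exact ha
        have hq : (X : k[X]) ^ l ∣ q := by
          rw [← Ideal.mem_span_singleton, ← Ideal.Quotient.eq_zero_iff_mem]
          exact hb
        rw [Ideal.mem_bot, ← map_mul, Ideal.Quotient.eq_zero_iff_mem, Ideal.mem_span_singleton]
        refine (pow_dvd_pow X (show l + 1 ≤ l + l by omega)).trans ?_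
        rw [pow_add]
        exact mul_dvd_mul hp hq
      exact ⟨2, hK2⟩
    let ψ' := Algebra.FormallySmooth.liftOfSurjective φ' g hg hnil
    refine ⟨ψ'.comp (IsScalarTower.toAlgHom k A (Localization.AtPrime m)), ?_⟩
    ext s
    have h1 := Algebra.FormallySmooth.liftOfSurjective_apply φ' g hg hnil
      (algebraMap A (Localization.AtPrime m) s)
    rw [hφ'] at h1
    exact h1
  · intro H
    exact Groth.Agent.Lib.Helper87.JetReg.isRegularLocalRing_of_lifts k A m H

end Groth.Agent.S18832
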