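import Groth.Statements.S18864
import Mathlib.RingTheory.Flat.Basic
import Mathlib.LinearAlgebra.Basis.VectorSpace
-- import your own Groth.Agent.* helpers here

set_option autoImplicit false
universe u v w
open HopfRep

namespace Groth.Agent.S18864

/-- Let k be a field and G = lim G_i a pro-algebraic group scheme over k, so that G = Spec A with A the
direct limit of the Hopf algebras A_i of the affine group schemes G_i of finite type; assume
moreover that the maps A_i → A are injective, so that A is the directed union of the A_i, here given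
as injective bialgebra maps A_i → A with directed, jointly covering images. Then every homomorphism
from G to an affine group scheme H = Spec B of finite type over k factors through some projection G
→ G_i: every bialgebra map f : B → A with B finitely generated as a k-algebra is the composite of
A_i → A with a bialgebra map B → A_i for some i. (The published statement allows arbitrary
transition maps in the system; this row assumes each A_i → A injective, the case the printed
argument treats. The source also states the pro-finite variant with H finite, which is the case of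
finite-dimensional A_i and B; finite generation of the A_i is not used.) -/
theorem result (k : Type u) [Field k]
    (A : Type v) [CommRing A] [HopfAlgebra k A] {ι : Type v} (Aι : ι → Type v)
    [∀ i, CommRing (Aι i)] [∀ i, HopfAlgebra k (Aι i)] (emb : ∀ i, Aι i →ₐc[k] A)
    (hinj : ∀ i, Function.Injective (emb i))
    (hdir : ∀ i j, ∃ l, Set.range (emb i) ⊆ Set.range (emb l) ∧ Set.range (emb j) ⊆ Set.range (emb l))
    (hcov : ∀ a : A, ∃ i, a ∈ Set.range (emb i))
    (B : Type w) [CommRing B] [HopfAlgebra k B] [Algebra.FiniteType k B] (f : B →ₐc[k] A) :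
    ∃ (i : ι) (g : B →ₐc[k] Aι i), (emb i).comp g = f := by
  classical
  obtain ⟨s, hs⟩ := (Algebra.FiniteType.out : (⊤ : Subalgebra k B).FG)
  have key : ∀ t : Finset B, ∃ l, ∀ b ∈ t, f b ∈ Set.range (emb l) := by
    intro t
    induction t using Finset.induction_on with
    | empty =>
      obtain ⟨i, _⟩ := hcov 0
      exact ⟨i, by simp⟩
    | insert a t ha ih =>
      obtain ⟨l₁, h₁⟩ := ih
      obtain ⟨l₂, h₂⟩ := hcov (f a)
      obtain ⟨l, hl₁, hl₂⟩ := hdir l₁ l₂
      refine ⟨l, ?_⟩
      intro b hb
      rcases Finset.mem_insert.mp hb with rfl | hb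
      · exact hl₂ h₂
      · exact hl₁ (h₁ b hb)
  obtain ⟨l, hl⟩ := key s
  let e : Aι l →ₐ[k] A := (emb l : Aι l →ₐ[k] A)
  let fa : B →ₐ[k] A := (f : B →ₐ[k] A)
  have hrange : ∀ b, fa b ∈ e.range := by
    intro b
    have hb : b ∈ Algebra.adjoin k (s : Set B) := by rw [hs]; trivial
    have : Subalgebra.map fa (Algebra.adjoin k (s : Set B)) ≤ e.range := by
      rw [AlgHom.map_adjoin]
      refine Algebra.adjoin_le ?_
      rintro _ ⟨b, hb, rfl⟩
      obtain ⟨x, hx⟩ := hl b hb
      exact ⟨x, hx⟩
    exact this ⟨b, hb, rfl⟩
  let g₀ : B →ₐ[k] Aι l :=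
    ((AlgEquiv.ofInjective e (hinj l)).symm : e.range →ₐ[k] Aι l).comp (fa.codRestrict e.range hrange)
  have hg₀ : ∀ b, e (g₀ b) = fa b := by
    intro b
    have := (AlgEquiv.ofInjective e (hinj l)).apply_symm_apply (fa.codRestrict e.range hrange b)
    have h2 := congrArg Subtype.val this
    exact h2
  clear_value g₀
  have h1 : (Bialgebra.counitAlgHom k (Aι l)).comp g₀ = Bialgebra.counitAlgHom k B := by
    ext b
    have he : (Bialgebra.counitAlgHom k A).comp e = Bialgebra.counitAlgHom k (Aι l) :=
      BialgHom.counitAlgHom_comp (emb l)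
    have hf : (Bialgebra.counitAlgHom k A).comp fa = Bialgebra.counitAlgHom k B :=
      BialgHom.counitAlgHom_comp f
    rw [← he, ← hf]
    simp only [AlgHom.comp_apply]
    rw [hg₀]
  have h2 : (Algebra.TensorProduct.map g₀ g₀).comp (Bialgebra.comulAlgHom k B) =
      (Bialgebra.comulAlgHom k (Aι l)).comp g₀ := by
    have hinj2 : Function.Injective (Algebra.TensorProduct.map e e) := by
      have := TensorProduct.map_injective_of_flat_flat e.toLinearMap e.toLinearMap (hinj l) (hinj l)
      intro x y hxy
      apply this
      exact hxy
    have he : (Algebra.TensorProduct.map e e).comp (Bialgebra.comulAlgHom k (Aι l)) =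
        (Bialgebra.comulAlgHom k A).comp e := BialgHom.map_comp_comulAlgHom (emb l)
    have hf : (Algebra.TensorProduct.map fa fa).comp (Bialgebra.comulAlgHom k B) =
        (Bialgebra.comulAlgHom k A).comp fa := BialgHom.map_comp_comulAlgHom f
    have heg : e.comp g₀ = fa := AlgHom.ext hg₀
    ext b
    apply hinj2
    have lhs : (Algebra.TensorProduct.map e e) (((Algebra.TensorProduct.map g₀ g₀).comp
        (Bialgebra.comulAlgHom k B)) b) = ((Algebra.TensorProduct.map fa fa).comp
        (Bialgebra.comulAlgHom k B)) b := by
      rw [← heg, Algebra.TensorProduct.map_comp]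
      rfl
    rw [lhs, hf]
    have rhs : (Algebra.TensorProduct.map e e) (((Bialgebra.comulAlgHom k (Aι l)).comp g₀) b) =
        ((Algebra.TensorProduct.map e e).comp (Bialgebra.comulAlgHom k (Aι l))) (g₀ b) := rfl
    rw [rhs, he]
    simp only [AlgHom.comp_apply]
    rw [hg₀]
  refine ⟨l, BialgHom.ofAlgHom g₀ h1 h2, ?_⟩
  ext b
  exact hg₀ b

end Groth.Agent.S18864
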