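import Groth.Statements.S18871
import Mathlib
import Groth.Agent.Lib.Helper33.Unmixed
import Groth.Agent.Lib.Helper33.HomogPrimes
import Groth.Agent.Lib.Helper29.CMRing
import Groth.Agent.S18865

set_option autoImplicit false
universe u
open Liaison

namespace Groth.Agent.S18871

open Groth.Agent.Lib.Helper33.Unmixed Groth.Agent.Lib.Helper33.HomogPrimes

/-- Equidimensionality: if `𝔠` is homogeneous with `R/𝔠` Cohen–Macaulay and `ht 𝔠 = c`, every
minimal prime of `𝔠` has height `c`. -/
theorem height_eq_of_mem_minimalPrimes (K : Type u) [Field K] (n c : ℕ)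
    (𝔠 : Ideal (MvPolynomial (Fin (n + 1)) K))
    (h𝔠 : 𝔠.IsHomogeneous (GrSyz.stdGr K (Fin (n + 1))))
    [LocCoh.IsCohenMacaulayRing (MvPolynomial (Fin (n + 1)) K ⧸ 𝔠)] (h𝔠c : 𝔠.height = c) :
    ∀ q ∈ 𝔠.minimalPrimes, q.height = c := by
  classical
  set R := MvPolynomial (Fin (n + 1)) K with hR
  have hRCM : LocCoh.IsCohenMacaulayRing R :=
    Groth.Agent.S18865.isCohenMacaulayRing_of_isRegularRing R
  set m : Ideal R := RingHom.ker (MvPolynomial.constantCoeff : R →+* K) with hm
  have hmmax : m.IsMaximal :=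
    RingHom.ker_isMaximal_of_surjective _
      (fun a => ⟨MvPolynomial.C a, MvPolynomial.constantCoeff_C _ a⟩)
  have hmprime : m.IsPrime := hmmax.isPrime
  have hform : ∀ q ∈ 𝔠.minimalPrimes,
      m.height = q.height + (m.map (Ideal.Quotient.mk 𝔠)).height := by
    intro q hq
    have hqhom := isHomogeneous_of_mem_minimalPrimes _ h𝔠 hq
    have hqm : q ≤ m := le_ker_constantCoeff K _ hqhom hq.1.1.ne_top
    exact height_eq_add_of_mem_minimalPrimes R 𝔠 m q hq hqm
  have hmfin : m.height ≠ ⊤ := Ideal.height_ne_top hmprime.ne_top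
  have htfin : (m.map (Ideal.Quotient.mk 𝔠)).height ≠ ⊤ := by
    intro h
    by_cases hne : (𝔠.minimalPrimes).Nonempty
    · obtain ⟨q, hq⟩ := hne
      have := hform q hq
      rw [h, add_top] at this
      exact hmfin this
    · rw [Set.not_nonempty_iff_eq_empty, Ideal.minimalPrimes_eq_empty_iff] at hne
      have hc : (c : ℕ∞) = ⊤ := by rw [← h𝔠c, hne, Ideal.height_top]
      exact ENat.natCast_ne_top c hc
  intro q hq
  have hqprime : q.IsPrime := hq.1.1
  have hall : ∀ q' ∈ 𝔠.minimalPrimes, q'.height = q.height := by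
    intro q' hq'
    have h1 := hform q hq
    have h2 := hform q' hq'
    rw [h1] at h2
    exact ((ENat.add_left_injective_of_ne_top htfin) h2).symm
  apply le_antisymm
  · have h𝔠inf : 𝔠.height = ⨅ J ∈ 𝔠.minimalPrimes, J.height :=
      Ideal.height_eq_inf_minimalPrimes 𝔠
    rw [← h𝔠c, h𝔠inf]
    exact le_iInf₂ fun q' hq' => (hall q' hq').ge
  · rw [← h𝔠c]
    exact Ideal.height_mono hq.1.2

/-- membership in `J ⊔ (f)` via the quotient by `J`. -/
theorem mem_sup_span_iff {R : Type u} [CommRing R] (J : Ideal R) (f y : R) :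
    y ∈ J ⊔ Ideal.span {f} ↔
      Ideal.Quotient.mk J y ∈ Ideal.span {Ideal.Quotient.mk J f} := by
  have : Ideal.span {Ideal.Quotient.mk J f} = (Ideal.span {f}).map (Ideal.Quotient.mk J) := by
    rw [Ideal.map_span, Set.image_singleton]
  rw [this, ← Ideal.mem_comap, Ideal.comap_map_of_surjective _ Ideal.Quotient.mk_surjective,
    ← RingHom.ker_eq_comap_bot, Ideal.mk_ker, sup_comm]

/-- Associated primes of `R/(J + fR)` have height `h + 1` when `R`, `R/J` are CM, all minimal
primes of `J` have height `h`, and `f` is regular mod `J`. -/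
theorem height_of_mem_ass_sup {R : Type u} [CommRing R] [LocCoh.IsCohenMacaulayRing R] (h : ℕ)
    (J : Ideal R) [LocCoh.IsCohenMacaulayRing (R ⧸ J)]
    (hmin : ∀ q ∈ J.minimalPrimes, q.height = h)
    (f : R) (hJf : J.colon {f} = J) (p : Ideal R)
    (hp : p ∈ associatedPrimes R (R ⧸ (J ⊔ Ideal.span {f}))) : p.height = h + 1 := by
  classical
  obtain ⟨hprime, xbar, hx⟩ := isAssociatedPrime_iff.1 hp
  obtain ⟨x, rfl⟩ := Ideal.Quotient.mk_surjective xbar
  have hmemp : ∀ r : R, r ∈ p ↔ r * x ∈ J ⊔ Ideal.span {f} := by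
    intro r
    rw [hx, Submodule.mem_colon_singleton, Submodule.mem_bot, ← Ideal.Quotient.eq_zero_iff_mem,
      map_mul]
    exact Iff.rfl
  have hJp : J ≤ p := by
    intro j hj
    rw [hmemp]
    exact Ideal.mem_sup_left (Ideal.mul_mem_right _ _ hj)
  have hfp : f ∈ p := by
    rw [hmemp]
    exact Ideal.mem_sup_right (Ideal.mul_mem_right _ _ (Ideal.mem_span_singleton_self f))
  set fb : R ⧸ J := Ideal.Quotient.mk J f with hfb
  set q : Ideal (R ⧸ J) := p.map (Ideal.Quotient.mk J) with hq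
  have hqprime : q.IsPrime :=
    Ideal.map_isPrime_of_surjective Ideal.Quotient.mk_surjective (by rwa [Ideal.mk_ker])
  have hqcomap : q.comap (Ideal.Quotient.mk J) = p := by
    rw [hq, Ideal.comap_map_of_surjective _ Ideal.Quotient.mk_surjective,
      ← RingHom.ker_eq_comap_bot, Ideal.mk_ker, sup_eq_left.mpr hJp]
  -- `fb` is regular on `B`
  have hfreg : IsSMulRegular (R ⧸ J) fb := by
    rw [isSMulRegular_iff_right_eq_zero_of_smul]
    intro y hy
    obtain ⟨y, rfl⟩ := Ideal.Quotient.mk_surjective y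
    rw [hfb, smul_eq_mul, ← map_mul, Ideal.Quotient.eq_zero_iff_mem] at hy
    rw [Ideal.Quotient.eq_zero_iff_mem, ← hJf, Submodule.mem_colon_singleton, smul_eq_mul,
      mul_comm]
    exact hy
  have hreg : RingTheory.Sequence.IsWeaklyRegular (R ⧸ J) [fb] :=
    (RingTheory.Sequence.isWeaklyRegular_singleton_iff _ fb).2 hfreg
  have hmem : ∀ r ∈ [fb], r ∈ q := by
    intro r hr
    rw [List.mem_singleton] at hr
    rw [hr, hq]
    exact Ideal.mem_map_of_mem _ hfp
  have hN : (Ideal.ofList [fb] • (⊤ : Submodule (R ⧸ J) (R ⧸ J))) = Ideal.span {fb} := by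
    rw [Ideal.ofList_singleton, smul_eq_mul, Ideal.mul_top]
  have hqass : q ∈ associatedPrimes (R ⧸ J)
      ((R ⧸ J) ⧸ (Ideal.ofList [fb] • (⊤ : Submodule (R ⧸ J) (R ⧸ J)))) := by
    rw [AssociatedPrimes.mem_iff, isAssociatedPrime_iff]
    refine ⟨hqprime, Submodule.Quotient.mk (Ideal.Quotient.mk J x), ?_⟩
    ext b
    obtain ⟨r, rfl⟩ := Ideal.Quotient.mk_surjective b
    rw [Submodule.mem_colon_singleton, Submodule.mem_bot, ← Submodule.Quotient.mk_smul,
      Submodule.Quotient.mk_eq_zero, hN, smul_eq_mul, ← map_mul, ← mem_sup_span_iff, ← hmemp,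
      ← hqcomap, Ideal.mem_comap]
  have hht1 : q.height = 1 := by
    have := Groth.Agent.Lib.Helper29.CMRing.height_eq_length_of_mem_ass (R ⧸ J)
      (LocCoh.IsCohenMacaulayRing.isCohenMacaulayLocalRing_localization q) hreg hmem hqass
    simpa using this
  obtain ⟨q₀, hq₀, hq₀p⟩ := Ideal.exists_minimalPrimes_le hJp
  have h1 := height_eq_add_of_mem_minimalPrimes R J p q₀ hq₀ hq₀p
  rw [h1, hmin q₀ hq₀, ← hq, hht1]

/-- The basic double link exact sequence `0 → R/I → R/(J + fI) → R/(J + fR) → 0` on the level of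
associated primes. -/
theorem ass_doubleLink {R : Type u} [CommRing R] (J I : Ideal R) (f : R) (hJI : J ≤ I)
    (hJf : J.colon {f} = J) :
    associatedPrimes R (R ⧸ I) ⊆ associatedPrimes R (R ⧸ (J ⊔ Ideal.span {f} * I)) ∧
    associatedPrimes R (R ⧸ (J ⊔ Ideal.span {f} * I)) ⊆
      associatedPrimes R (R ⧸ I) ∪ associatedPrimes R (R ⧸ (J ⊔ Ideal.span {f})) := by
  classical
  set It : Ideal R := J ⊔ Ideal.span {f} * I with hIt
  -- the multiplication-by-`f` map `R/I → R/Ĩ`
  have hle1 : I ≤ Submodule.comap (LinearMap.mulLeft R f) It := by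
    intro x hx
    rw [Submodule.mem_comap, LinearMap.mulLeft_apply]
    exact Ideal.mem_sup_right (Ideal.mul_mem_mul (Ideal.mem_span_singleton_self f) hx)
  set φ : (R ⧸ I) →ₗ[R] (R ⧸ It) := Submodule.mapQ I It (LinearMap.mulLeft R f) hle1 with hφ
  have hle2 : It ≤ Submodule.comap (LinearMap.id : R →ₗ[R] R) (J ⊔ Ideal.span {f}) := by
    rw [Submodule.comap_id]
    refine sup_le le_sup_left ?_
    exact (Ideal.mul_le_left (I := Ideal.span {f}) (J := I)).trans le_sup_right
  set ψ : (R ⧸ It) →ₗ[R] (R ⧸ (J ⊔ Ideal.span {f})) :=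
    Submodule.mapQ It (J ⊔ Ideal.span {f}) LinearMap.id hle2 with hψ
  have hφinj : Function.Injective φ := by
    rw [← LinearMap.ker_eq_bot, LinearMap.ker_eq_bot']
    intro y hy
    obtain ⟨r, rfl⟩ := Submodule.Quotient.mk_surjective _ y
    rw [hφ, Submodule.mapQ_apply, LinearMap.mulLeft_apply, Submodule.Quotient.mk_eq_zero, hIt] at hy
    rw [Submodule.Quotient.mk_eq_zero]
    obtain ⟨j, hj, z, hz, hjz⟩ := Submodule.mem_sup.1 hy
    obtain ⟨i, hi, rfl⟩ := (Ideal.mem_span_singleton_mul).1 hz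
    have h1 : f * (r - i) ∈ J := by
      have : f * (r - i) = j := by rw [mul_sub, ← hjz]; ring
      rw [this]; exact hj
    have h2 : r - i ∈ J := by
      rw [← hJf, Submodule.mem_colon_singleton, smul_eq_mul, mul_comm]
      exact h1
    have : r = (r - i) + i := by ring
    rw [this]
    exact I.add_mem (hJI h2) hi
  have hexact : Function.Exact φ ψ := by
    intro y
    constructor
    · intro hy
      obtain ⟨r, rfl⟩ := Submodule.Quotient.mk_surjective _ y
      rw [hψ, Submodule.mapQ_apply, LinearMap.id_apply, Submodule.Quotient.mk_eq_zero] at hy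
      obtain ⟨j, hj, z, hz, hjz⟩ := Submodule.mem_sup.1 hy
      obtain ⟨t, rfl⟩ := Ideal.mem_span_singleton'.1 hz
      refine ⟨Submodule.Quotient.mk t, ?_⟩
      rw [hφ, Submodule.mapQ_apply, LinearMap.mulLeft_apply, ← sub_eq_zero,
        ← Submodule.Quotient.mk_sub, Submodule.Quotient.mk_eq_zero]
      have : f * t - r = -j := by rw [← hjz]; ring
      rw [this]
      exact It.neg_mem (Ideal.mem_sup_left hj)
    · rintro ⟨z, rfl⟩
      obtain ⟨t, rfl⟩ := Submodule.Quotient.mk_surjective _ z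
      rw [hφ, hψ, Submodule.mapQ_apply, Submodule.mapQ_apply, LinearMap.mulLeft_apply,
        LinearMap.id_apply, Submodule.Quotient.mk_eq_zero]
      exact Ideal.mem_sup_right (Ideal.mul_mem_right _ _ (Ideal.mem_span_singleton_self f))
  exact ⟨associatedPrimes.subset_of_injective hφinj,
    associatedPrimes.subset_union_of_exact hφinj hexact⟩

/-- Let K be a field, R = K[x_0, …, x_n] graded by degree, and J ⊆ I ⊂ R homogeneous ideals with J ≠ 0,
height I = height J + 1 = h + 1 and R/J Cohen–Macaulay; let f ∈ R be homogeneous of degree d with J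
: f = J, and put Ĩ = J + fI (the basic double link). Then I is unmixed, meaning that every
associated prime of R/I has height h + 1, if and only if Ĩ is unmixed in the same sense. -/
theorem result (K : Type u) [Field K] (n h : ℕ)
    (J I : Ideal (MvPolynomial (Fin (n + 1)) K))
    (hJ : J.IsHomogeneous (GrSyz.stdGr K (Fin (n + 1)))) (hI : I.IsHomogeneous (GrSyz.stdGr K (Fin (n + 1))))
    (hJ0 : J ≠ ⊥) (hJI : J ≤ I) (hJh : J.height = h) (hIh : I.height = h + 1)
    [LocCoh.IsCohenMacaulayRing (MvPolynomial (Fin (n + 1)) K ⧸ J)]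
    (f : MvPolynomial (Fin (n + 1)) K) (d : ℕ) (hf : f ∈ GrSyz.stdGr K (Fin (n + 1)) (d : ℤ)) (hJf : J.colon {f} = J) :
    (∀ p ∈ associatedPrimes (MvPolynomial (Fin (n + 1)) K) (MvPolynomial (Fin (n + 1)) K ⧸ I), p.height = h + 1) ↔
      ∀ p ∈ associatedPrimes (MvPolynomial (Fin (n + 1)) K) (MvPolynomial (Fin (n + 1)) K ⧸ (J ⊔ Ideal.span {f} * I)), p.height = h + 1 := by
  classical
  have hRCM : LocCoh.IsCohenMacaulayRing (MvPolynomial (Fin (n + 1)) K) :=
    Groth.Agent.S18865.isCohenMacaulayRing_of_isRegularRing _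
  obtain ⟨hsub1, hsub2⟩ := ass_doubleLink J I f hJI hJf
  constructor
  · intro hI' p hp
    rcases hsub2 hp with h1 | h2
    · exact hI' p h1
    · exact height_of_mem_ass_sup h J (height_eq_of_mem_minimalPrimes K n h J hJ hJh) f hJf p h2
  · intro hIt' p hp
    exact hIt' p (hsub1 hp)

end Groth.Agent.S18871
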