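import Groth.Statements.S18867
import Mathlib
import Groth.Agent.Lib.Helper33.SelfInjective
import Groth.Agent.S18871

set_option autoImplicit false
universe u
open Liaison

namespace Groth.Agent.S18867

open Groth.Agent.Lib.Helper33.SelfInjective

/-- Double colon: if `R/𝔠` is Gorenstein, `𝔠 ≤ I`, and every associated prime of `R/I` is a minimal
prime of `𝔠`, then `𝔠 : (𝔠 : I) = I`. -/
theorem colon_colon_eq {R : Type u} [CommRing R] [IsNoetherianRing R] (𝔠 I : Ideal R)
    [LocCoh.IsGorensteinRing (R ⧸ 𝔠)] (h𝔠I : 𝔠 ≤ I)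
    (hass : ∀ p ∈ associatedPrimes R (R ⧸ I), p ∈ 𝔠.minimalPrimes) :
    𝔠.colon ((𝔠.colon (I : Set R) : Ideal R) : Set R) = I := by
  classical
  apply le_antisymm
  · intro x hx
    by_contra hxI
    have hx0 : (Ideal.Quotient.mk I x) ≠ 0 := by
      rwa [Ne, Ideal.Quotient.eq_zero_iff_mem]
    obtain ⟨P, hP, hle⟩ := exists_le_isAssociatedPrime_of_isNoetherianRing R
      (Ideal.Quotient.mk I x) hx0
    have hPmin := hass P hP
    have hPprime : P.IsPrime := hP.isPrime
    have h𝔠P : 𝔠 ≤ P := hPmin.1.2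
    have hkill : ∀ s : R, s * x ∈ I → s ∈ P := by
      intro s hs
      apply hle
      rw [Submodule.mem_colon_singleton, Submodule.mem_bot]
      change Ideal.Quotient.mk I (s * x) = 0
      rwa [Ideal.Quotient.eq_zero_iff_mem]
    set Q : Ideal (R ⧸ 𝔠) := P.map (Ideal.Quotient.mk 𝔠) with hQ
    have hQprime : Q.IsPrime :=
      Ideal.map_isPrime_of_surjective Ideal.Quotient.mk_surjective (by rwa [Ideal.mk_ker])
    have hQcomap : Q.comap (Ideal.Quotient.mk 𝔠) = P := by
      rw [hQ, Ideal.comap_map_of_surjective _ Ideal.Quotient.mk_surjective,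
        ← RingHom.ker_eq_comap_bot, Ideal.mk_ker, sup_eq_left.mpr h𝔠P]
    have hQmin : Q ∈ minimalPrimes (R ⧸ 𝔠) := by
      rw [Ideal.minimalPrimes_eq_comap] at hPmin
      obtain ⟨Q', hQ', hQ'P⟩ := hPmin
      have : Q' = Q := by
        rw [hQ, ← hQ'P, Ideal.map_comap_of_surjective _ Ideal.Quotient.mk_surjective]
      rwa [← this]
    have hQht : Q.height = 0 := Ideal.height_eq_zero_iff.mpr hQmin
    have hmemQ : ∀ r : R, Ideal.Quotient.mk 𝔠 r ∈ Q ↔ r ∈ P := by
      intro r
      rw [← hQcomap, Ideal.mem_comap]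
    set A := Localization.AtPrime Q with hA
    have hGor : LocCoh.IsGorensteinLocalRing A :=
      LocCoh.IsGorensteinRing.isGorensteinLocalRing_localization Q
    have hdim : ringKrullDim A = 0 := by
      rw [IsLocalization.AtPrime.ringKrullDim_eq_height Q A, hQht]
      rfl
    obtain ⟨hinj, u, hu, hum⟩ := injective_self_and_socle A hdim
    set ρ : R →+* A := (algebraMap (R ⧸ 𝔠) A).comp (Ideal.Quotient.mk 𝔠) with hρ
    have hρunit : ∀ r : R, r ∉ P → IsUnit (ρ r) := by
      intro r hr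
      have : Ideal.Quotient.mk 𝔠 r ∈ Q.primeCompl := fun h => hr ((hmemQ r).1 h)
      exact IsLocalization.map_units A ⟨_, this⟩
    have hρzero : ∀ r : R, r ∈ 𝔠 → ρ r = 0 := by
      intro r hr
      rw [hρ, RingHom.comp_apply, Ideal.Quotient.eq_zero_iff_mem.mpr hr, map_zero]
    set 𝔞 : Ideal A := I.map ρ with h𝔞
    by_cases hz : ρ x ∈ 𝔞
    · rw [h𝔞, hρ, ← Ideal.map_map,
        IsLocalization.mem_map_algebraMap_iff Q.primeCompl A] at hz
      obtain ⟨⟨⟨i', hi'⟩, s⟩, h⟩ := hz
      simp only at h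
      rw [RingHom.comp_apply, ← map_mul, IsLocalization.eq_iff_exists Q.primeCompl A] at h
      obtain ⟨t, ht⟩ := h
      obtain ⟨s', hs'⟩ := Ideal.Quotient.mk_surjective ((t : R ⧸ 𝔠) * (s : R ⧸ 𝔠))
      have hs'P : s' ∉ P := by
        intro h
        have := (hmemQ s').2 h
        rw [hs'] at this
        exact (t * s).2 this
      apply hs'P
      apply hkill
      have h1 : Ideal.Quotient.mk 𝔠 (s' * x) ∈ I.map (Ideal.Quotient.mk 𝔠) := by
        rw [map_mul, hs']
        have : (t : R ⧸ 𝔠) * (s : R ⧸ 𝔠) * Ideal.Quotient.mk 𝔠 x = (t : R ⧸ 𝔠) * i' := by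
          rw [← ht]; ring
        rw [this]
        exact Ideal.mul_mem_left _ _ hi'
      rw [← Ideal.mem_comap, Ideal.comap_map_of_surjective _ Ideal.Quotient.mk_surjective,
        ← RingHom.ker_eq_comap_bot, Ideal.mk_ker, sup_eq_left.mpr h𝔠I] at h1
      exact h1
    · obtain ⟨w, hw1, hw2⟩ := exists_mul_ne_zero_of_notMem A u hu hum 𝔞 (ρ x) hz
      obtain ⟨b, s, rfl⟩ := IsLocalization.exists_mk'_eq Q.primeCompl w
      obtain ⟨y, rfl⟩ := Ideal.Quotient.mk_surjective b
      have hsunit : IsUnit (algebraMap (R ⧸ 𝔠) A (s : R ⧸ 𝔠)) := IsLocalization.map_units A s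
      have hspec : IsLocalization.mk' A (Ideal.Quotient.mk 𝔠 y) s *
          algebraMap (R ⧸ 𝔠) A (s : R ⧸ 𝔠) = ρ y := IsLocalization.mk'_spec _ _ _
      have hw1' : ∀ a ∈ 𝔞, a * ρ y = 0 := by
        intro a ha
        rw [← hspec, ← mul_assoc, hw1 a ha, zero_mul]
      have hw2' : ρ x * ρ y ≠ 0 := by
        rw [← hspec, ← mul_assoc]
        intro h
        exact hw2 ((hsunit.mul_left_eq_zero).1 h)
      obtain ⟨gens, hgens⟩ : ∃ gens : Finset R, Ideal.span (gens : Set R) = I :=
        (isNoetherianRing_iff_ideal_fg R).mp inferInstance I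
      have hex : ∀ i ∈ gens, ∃ t : Q.primeCompl,
          (t : R ⧸ 𝔠) * Ideal.Quotient.mk 𝔠 (i * y) = 0 := by
        intro i hi
        have hiI : i ∈ I := by rw [← hgens]; exact Ideal.subset_span hi
        have h0 : ρ i * ρ y = 0 := hw1' _ (Ideal.mem_map_of_mem ρ hiI)
        rw [← map_mul, hρ, RingHom.comp_apply,
          IsLocalization.map_eq_zero_iff Q.primeCompl A] at h0
        exact h0
      choose! t ht using hex
      set T : R ⧸ 𝔠 := ∏ i ∈ gens, (t i : R ⧸ 𝔠) with hT
      have hTmem : T ∈ Q.primeCompl := Submonoid.prod_mem _ (fun i _ => (t i).2)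
      have hTi : ∀ i ∈ gens, T * Ideal.Quotient.mk 𝔠 (i * y) = 0 := by
        intro i hi
        obtain ⟨c, hc⟩ := Finset.dvd_prod_of_mem (fun i => (t i : R ⧸ 𝔠)) hi
        rw [hT, hc, mul_comm ((t i : R ⧸ 𝔠)) c, mul_assoc, ht i hi, mul_zero]
      obtain ⟨T', hT'⟩ := Ideal.Quotient.mk_surjective T
      have hT'P : T' ∉ P := by
        intro h
        have := (hmemQ T').2 h
        rw [hT'] at this
        exact hTmem this
      have hcolon : T' * y ∈ 𝔠.colon (I : Set R) := by
        have hsub : I ≤ 𝔠.colon {T' * y} := by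
          rw [← hgens, Ideal.span_le]
          intro i hi
          rw [SetLike.mem_coe, Submodule.mem_colon_singleton, smul_eq_mul,
            ← Ideal.Quotient.eq_zero_iff_mem]
          have := hTi i hi
          rw [← hT', ← map_mul] at this
          rw [← this]
          congr 1
          ring
        rw [Submodule.mem_colon]
        intro i hi
        have := hsub hi
        rw [Submodule.mem_colon_singleton, smul_eq_mul] at this
        rw [smul_eq_mul, mul_comm]
        exact this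
      rw [Submodule.mem_colon] at hx
      have h1 := hx (T' * y) hcolon
      rw [smul_eq_mul] at h1
      have h2 : ρ x * ρ y * ρ T' = 0 := by
        rw [← map_mul, ← map_mul]
        apply hρzero
        have : x * y * T' = x * (T' * y) := by ring
        rw [this]
        exact h1
      exact hw2' (((hρunit T' hT'P).mul_left_eq_zero).1 h2)
  · intro x hx
    rw [Submodule.mem_colon]
    intro y hy
    rw [SetLike.mem_coe, Submodule.mem_colon] at hy
    have := hy x hx
    rw [smul_eq_mul] at this ⊢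
    rwa [mul_comm]

/-- Let K be a field, R = K[x_0, …, x_n] graded by degree, c ≥ 2, 𝔠 ⊂ R a homogeneous ideal of height c
such that R/𝔠 is a Gorenstein ring, and I ⊂ R a homogeneous ideal of height c which is unmixed
(every associated prime of R/I has height c) and properly contains 𝔠. Then 𝔠 : (𝔠 : I) = I, so that
I and 𝔠 : I are directly linked by 𝔠. -/
theorem result (K : Type u) [Field K] (n c : ℕ) (hc : 2 ≤ c)
    (𝔠 I : Ideal (MvPolynomial (Fin (n + 1)) K))
    (h𝔠 : 𝔠.IsHomogeneous (GrSyz.stdGr K (Fin (n + 1)))) (hI : I.IsHomogeneous (GrSyz.stdGr K (Fin (n + 1))))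
    [LocCoh.IsGorensteinRing (MvPolynomial (Fin (n + 1)) K ⧸ 𝔠)] (h𝔠c : 𝔠.height = c) (hIc : I.height = c)
    (hIu : ∀ p ∈ associatedPrimes (MvPolynomial (Fin (n + 1)) K) (MvPolynomial (Fin (n + 1)) K ⧸ I), p.height = c) (hlt : 𝔠 < I) :
    𝔠.colon ((𝔠.colon (I : Set (MvPolynomial (Fin (n + 1)) K)) : Ideal (MvPolynomial (Fin (n + 1)) K)) : Set (MvPolynomial (Fin (n + 1)) K)) = I := by
  classical
  have hRCM : LocCoh.IsCohenMacaulayRing (MvPolynomial (Fin (n + 1)) K) :=
    Groth.Agent.S18865.isCohenMacaulayRing_of_isRegularRing _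
  have hBCM : LocCoh.IsCohenMacaulayRing (MvPolynomial (Fin (n + 1)) K ⧸ 𝔠) :=
    Groth.Agent.S18865.isCohenMacaulayRing_of_isGorensteinRing _
  apply colon_colon_eq 𝔠 I hlt.le
  intro p hp
  have hpprime : p.IsPrime := hp.isPrime
  have hIp : I ≤ p := by
    have := hp.annihilator_le
    rwa [Submodule.annihilator_top, Ideal.annihilator_quotient] at this
  have h𝔠p : 𝔠 ≤ p := hlt.le.trans hIp
  obtain ⟨q₀, hq₀, hq₀p⟩ := Ideal.exists_minimalPrimes_le h𝔠p
  have hq₀prime : q₀.IsPrime := hq₀.1.1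
  have hq₀ht := Groth.Agent.S18871.height_eq_of_mem_minimalPrimes K n c 𝔠 h𝔠 h𝔠c q₀ hq₀
  have hpht := hIu p hp
  have heq : q₀ = p := by
    have : q₀.FiniteHeight := ⟨Or.inr (by rw [hq₀ht]; exact ENat.natCast_ne_top c)⟩
    exact Ideal.eq_of_le_of_height_le (I := q₀) (J := p) hq₀p (by rw [hpht, hq₀ht])
  rwa [← heq]

end Groth.Agent.S18867
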