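import Groth.Statements.S18868
import Groth.Agent.Lib.Helper29.Linkage4
import Groth.Agent.S18865
import Groth.Agent.S18867

set_option autoImplicit false
universe u
open Liaison

namespace Groth.Agent.S18868

/-- Let K be a field, R = K[x_0, …, x_n] graded by degree, c ≥ 2, 𝔠 ⊂ R a homogeneous complete
intersection of codimension c, that is a homogeneous ideal of height c generated by c elements g_1,
…, g_c, and I ⊂ R a homogeneous ideal of height c with R/I Cohen–Macaulay which properly contains 𝔠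
and has the form I = 𝔠 + fR for some f (so I is an almost complete intersection). Then the linked
ideal J = 𝔠 : I has height c and R/J is a Gorenstein ring. (A Gorenstein ideal of the notes, one
whose quotient is Cohen–Macaulay with last graded Betti number 1, is rendered as: the quotient ring
is Gorenstein.) -/
theorem result (K : Type u) [Field K] (n c : ℕ) (hc : 2 ≤ c)
    (g : Fin c → MvPolynomial (Fin (n + 1)) K) (f : MvPolynomial (Fin (n + 1)) K) (𝔠 I : Ideal (MvPolynomial (Fin (n + 1)) K)) (h𝔠g : Ideal.span (Set.range g) = 𝔠)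
    (h𝔠 : 𝔠.IsHomogeneous (GrSyz.stdGr K (Fin (n + 1)))) (hI : I.IsHomogeneous (GrSyz.stdGr K (Fin (n + 1))))
    (h𝔠c : 𝔠.height = c) (hIc : I.height = c) [LocCoh.IsCohenMacaulayRing (MvPolynomial (Fin (n + 1)) K ⧸ I)]
    (hlt : 𝔠 < I) (hIf : I = 𝔠 ⊔ Ideal.span {f}) :
    (𝔠.colon (I : Set (MvPolynomial (Fin (n + 1)) K))).height = c ∧
      LocCoh.IsGorensteinRing (MvPolynomial (Fin (n + 1)) K ⧸ 𝔠.colon (I : Set (MvPolynomial (Fin (n + 1)) K))) := by
  classical
  have hRgor : LocCoh.IsGorensteinRing (MvPolynomial (Fin (n + 1)) K) :=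
    Groth.Agent.Lib.Helper29.Linkage.isGorensteinRing_of_isRegularRing _
  have hgor : LocCoh.IsGorensteinRing (MvPolynomial (Fin (n + 1)) K ⧸ 𝔠) :=
    Groth.Agent.Lib.Helper29.Linkage.isGorensteinRing_quotient_span_range _ c g 𝔠 h𝔠g
      (by rw [h𝔠c])
  have hnle : ¬ I ≤ 𝔠 := not_le_of_gt hlt
  refine ⟨(Groth.Agent.S18865.result K n c hc 𝔠 I h𝔠 hI h𝔠c hnle).1, ?_⟩
  have hIu := Groth.Agent.Lib.Helper29.Linkage.height_eq_of_mem_associatedPrimes_of_isCM K n c I hI hIc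
  have hcc := Groth.Agent.S18867.result K n c hc 𝔠 I h𝔠 hI h𝔠c hIc hIu hlt
  have h𝔠I : 𝔠 ≤ I := hlt.le
  have h𝔠J : 𝔠 ≤ 𝔠.colon (I : Set (MvPolynomial (Fin (n + 1)) K)) :=
    Groth.Agent.Lib.Helper29.Linkage.le_colon_self 𝔠 I
  have hImap : I.map (Ideal.Quotient.mk 𝔠) = Ideal.span {Ideal.Quotient.mk 𝔠 f} := by
    rw [hIf, Ideal.map_sup, Ideal.map_quotient_self, bot_sup_eq, Ideal.map_span,
      Set.image_singleton]
  have hJ' := Groth.Agent.Lib.Helper29.Linkage.annihilator_map_mk_eq 𝔠 I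
    (𝔠.colon (I : Set (MvPolynomial (Fin (n + 1)) K))) rfl h𝔠J
  have hI' := Groth.Agent.Lib.Helper29.Linkage.annihilator_map_mk_eq 𝔠
    (𝔠.colon (I : Set (MvPolynomial (Fin (n + 1)) K))) I hcc h𝔠I
  rw [hImap] at hJ' hI'
  have hcm : LocCoh.IsCohenMacaulayRing
      ((MvPolynomial (Fin (n + 1)) K ⧸ 𝔠) ⧸ Ideal.span {Ideal.Quotient.mk 𝔠 f}) :=
    Groth.Agent.Lib.Helper28.CMRingAux.isCohenMacaulayRing_of_ringEquiv
      ((Ideal.quotEquivOfEq hImap.symm).trans (DoubleQuot.quotQuotEquivQuotOfLE h𝔠I)) inferInstance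
  have := Groth.Agent.Lib.Helper29.Linkage.isGorensteinRing_quotient_annihilator_span
    (MvPolynomial (Fin (n + 1)) K ⧸ 𝔠) (Ideal.Quotient.mk 𝔠 f) _ hJ' hI'
  exact Groth.Agent.Lib.Helper33.GorRing.isGorensteinRing_of_ringEquiv
    (DoubleQuot.quotQuotEquivQuotOfLE h𝔠J)

end Groth.Agent.S18868
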