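import Groth.Statements.S18869
import Groth.Agent.Lib.Helper29.Linkage7

set_option autoImplicit false
universe u
open Liaison

namespace Groth.Agent.S18869

/-- Let K be a field, R = K[x_0, …, x_n] graded by degree, and I₁, I₂ ⊂ R homogeneous ideals of the same
height c such that R/I₁ and R/I₂ are Cohen–Macaulay rings (they define arithmetically Cohen–Macaulay
subschemes of codimension c) and I₁, I₂ have no minimal prime in common (no common component). If
R/(I₁ ∩ I₂) is a Gorenstein ring (the union is arithmetically Gorenstein), then I₁ + I₂ has height c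
+ 1 and R/(I₁ + I₂) is a Gorenstein ring (the intersection is arithmetically Gorenstein of
codimension c + 1). (Arithmetically Gorenstein, in the notes arithmetically Cohen–Macaulay with last
graded Betti number 1, is rendered as: the quotient ring is Gorenstein.) -/
theorem result (K : Type u) [Field K] (n c : ℕ)
    (I₁ I₂ : Ideal (MvPolynomial (Fin (n + 1)) K))
    (hI₁ : I₁.IsHomogeneous (GrSyz.stdGr K (Fin (n + 1)))) (hI₂ : I₂.IsHomogeneous (GrSyz.stdGr K (Fin (n + 1))))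
    [LocCoh.IsCohenMacaulayRing (MvPolynomial (Fin (n + 1)) K ⧸ I₁)] [LocCoh.IsCohenMacaulayRing (MvPolynomial (Fin (n + 1)) K ⧸ I₂)]
    (h₁ : I₁.height = c) (h₂ : I₂.height = c) (hdisj : Disjoint I₁.minimalPrimes I₂.minimalPrimes)
    [LocCoh.IsGorensteinRing (MvPolynomial (Fin (n + 1)) K ⧸ (I₁ ⊓ I₂))] :
    (I₁ ⊔ I₂).height = c + 1 ∧ LocCoh.IsGorensteinRing (MvPolynomial (Fin (n + 1)) K ⧸ (I₁ ⊔ I₂)) := by
  classical
  have hRcm : LocCoh.IsCohenMacaulayRing (MvPolynomial (Fin (n + 1)) K) :=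
    Groth.Agent.Lib.Helper29.Linkage.isCohenMacaulayRing_of_isRegularRing' _
  have hminass : ∀ (I : Ideal (MvPolynomial (Fin (n + 1)) K)),
      I.minimalPrimes ⊆
        associatedPrimes (MvPolynomial (Fin (n + 1)) K) (MvPolynomial (Fin (n + 1)) K ⧸ I) := by
    intro I
    have h := Module.associatedPrimes.minimalPrimes_annihilator_subset_associatedPrimes
      (R := MvPolynomial (Fin (n + 1)) K) (M := MvPolynomial (Fin (n + 1)) K ⧸ I)
    rwa [Ideal.annihilator_quotient] at h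
  have hmin₁ : ∀ 𝔮 ∈ I₁.minimalPrimes, 𝔮.height = c := fun 𝔮 h𝔮 =>
    Groth.Agent.Lib.Helper29.Linkage.height_eq_of_mem_associatedPrimes_of_isCM K n c I₁ hI₁ h₁ 𝔮
      (hminass I₁ h𝔮)
  have hmin₂ : ∀ 𝔮 ∈ I₂.minimalPrimes, 𝔮.height = c := fun 𝔮 h𝔮 =>
    Groth.Agent.Lib.Helper29.Linkage.height_eq_of_mem_associatedPrimes_of_isCM K n c I₂ hI₂ h₂ 𝔮
      (hminass I₂ h𝔮)
  have hne₁ : I₁ ≠ ⊤ := by
    intro htop
    rw [htop, Ideal.height_top] at h₁
    exact ENat.natCast_ne_top c h₁.symm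
  have hne₂ : I₂ ≠ ⊤ := by
    intro htop
    rw [htop, Ideal.height_top] at h₂
    exact ENat.natCast_ne_top c h₂.symm
  have hle : I₁ ⊔ I₂ ≤ RingHom.ker
      (MvPolynomial.constantCoeff : MvPolynomial (Fin (n + 1)) K →+* K) :=
    sup_le (Groth.Agent.Lib.Helper33.HomogPrimes.le_ker_constantCoeff K _ hI₁ hne₁)
      (Groth.Agent.Lib.Helper33.HomogPrimes.le_ker_constantCoeff K _ hI₂ hne₂)
  have hne : I₁ ⊔ I₂ ≠ ⊤ := by
    intro htop
    have h1 : (1 : MvPolynomial (Fin (n + 1)) K) ∈ I₁ ⊔ I₂ := htop ▸ Submodule.mem_top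
    have h2 := hle h1
    rw [RingHom.mem_ker, map_one] at h2
    exact one_ne_zero h2
  refine ⟨?_, ?_⟩
  · apply le_antisymm
    · obtain ⟨P, hP⟩ := Ideal.nonempty_minimalPrimes hne
      have hPprime : P.IsPrime := hP.1.1
      have key := (Groth.Agent.Lib.Helper29.Linkage.gorenstein_localization_quotient_sup
        I₁ I₂ c hmin₁ hmin₂ hdisj P hP.1.2).2
      have h1 : P.height ≤
          ((I₁ ⊔ I₂).map (algebraMap _ (Localization.AtPrime P))).height :=
        Groth.Agent.Lib.Helper29.CodepthOpen.le_height_map_of_forall _ (I₁ ⊔ I₂) P P.height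
          (fun 𝔮 h𝔮 h𝔮P => by
            have : P ≤ 𝔮 := hP.2 ⟨h𝔮.1.1, h𝔮.1.2⟩ h𝔮P
            rw [le_antisymm this h𝔮P])
      rw [key] at h1
      refine (Ideal.height_mono hP.1.2).trans (h1.trans ?_)
      push_cast
      exact le_rfl
    · rw [Ideal.height_eq_inf_minimalPrimes]
      refine le_iInf₂ fun 𝔮 h𝔮 => ?_
      have : 𝔮.IsPrime := h𝔮.1.1
      have h1 := Groth.Agent.Lib.Helper29.Linkage.add_one_le_height_of_disjoint I₁ I₂ c
        hmin₁ hmin₂ hdisj 𝔮 h𝔮.1.2
      push_cast at h1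
      exact h1
  · refine { isGorensteinLocalRing_localization := fun q _ => ?_ }
    have hP : I₁ ⊔ I₂ ≤ q.comap (Ideal.Quotient.mk (I₁ ⊔ I₂)) := by
      intro j hj
      rw [Ideal.mem_comap, Ideal.Quotient.eq_zero_iff_mem.2 hj]
      exact Submodule.zero_mem _
    have key := (Groth.Agent.Lib.Helper29.Linkage.gorenstein_localization_quotient_sup
      I₁ I₂ c hmin₁ hmin₂ hdisj (q.comap (Ideal.Quotient.mk (I₁ ⊔ I₂))) hP).1
    exact Groth.Agent.Lib.Helper33.GorTransfer.gorenstein_of_ringEquiv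
      (Groth.Agent.Lib.Helper49.CMQuot.localizationQuotientEquiv (I₁ ⊔ I₂) q).symm key

end Groth.Agent.S18869
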