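import Groth.Statements.S18870
import Mathlib.RingTheory.Ideal.Height
import Mathlib.RingTheory.Ideal.MinimalPrime.Colon
import Mathlib.RingTheory.Polynomial.Basic

set_option autoImplicit false
universe u
open Liaison

namespace Groth.Agent.S18870

lemma height_bdl {R : Type*} [CommRing R] [IsNoetherianRing R] (J I : Ideal R) (h : ℕ)
    (hJI : J ≤ I) (hJh : J.height = h) (hIh : I.height = h + 1) (f : R)
    (hJf : J.colon {f} = J) : (J ⊔ Ideal.span {f} * I).height = h + 1 := by
  apply le_antisymm
  · rw [← hIh]
    exact Ideal.height_mono (sup_le hJI Ideal.mul_le_right)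
  · rw [Ideal.height_eq_inf_minimalPrimes]
    refine le_iInf₂ fun P hP => ?_
    have hPprime : P.IsPrime := hP.1.1
    have hKP : J ⊔ Ideal.span {f} * I ≤ P := hP.1.2
    have hJP : J ≤ P := le_sup_left.trans hKP
    have hfI : Ideal.span {f} * I ≤ P := le_sup_right.trans hKP
    rcases (Ideal.IsPrime.mul_le hPprime).1 hfI with hf | hI
    · obtain ⟨Q, hQ, hQP⟩ := Ideal.exists_minimalPrimes_le hJP
      have hQprime : Q.IsPrime := hQ.1.1
      have hfQ : f ∉ Q := by
        intro hfQ
        have hQ' : Q ∈ ((J : Submodule R R).colon {(1 : R)}).minimalPrimes := by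
          have : (J : Submodule R R).colon {(1 : R)} = J := by
            ext r
            simp [Submodule.mem_colon_singleton]
          rw [this]
          exact hQ
        obtain ⟨y, hy⟩ := Submodule.exists_eq_colon_of_mem_minimalPrimes hQ'
        have h1 : f • y ∈ J := by
          rw [hy] at hfQ
          exact Submodule.mem_colon_singleton.mp hfQ
        have h2 : y ∈ J.colon {f} := by
          rw [Submodule.mem_colon_singleton]
          simpa [mul_comm] using h1
        rw [hJf] at h2
        have h3 : (1 : R) ∈ Q := by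
          rw [hy, Submodule.mem_colon_singleton]
          simpa using h2
        exact hQprime.ne_top ((Ideal.eq_top_iff_one Q).mpr h3)
      have hlt : Q < P :=
        lt_of_le_of_ne hQP (fun e => hfQ (e ▸ (hf (Ideal.mem_span_singleton_self f))))
      calc ((h : ℕ∞) + 1) = J.height + 1 := by rw [hJh]
        _ ≤ Q.height + 1 := add_le_add_left (Ideal.height_mono hQ.1.2) 1
        _ ≤ P.height := Ideal.height_add_one_le_of_lt_of_isPrime hlt
    · rw [← hIh]
      exact Ideal.height_mono hI

/-- Let K be a field, R = K[x_0, …, x_n] graded by degree, and J ⊆ I ⊂ R homogeneous ideals with J ≠ 0,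
height I = height J + 1 = h + 1 and R/J Cohen–Macaulay; let f ∈ R be homogeneous of degree d with J
: f = J, and put Ĩ = J + fI (the basic double link). Then Ĩ has the same height h + 1 as I. -/
theorem result (K : Type u) [Field K] (n h : ℕ)
    (J I : Ideal (MvPolynomial (Fin (n + 1)) K))
    (hJ : J.IsHomogeneous (GrSyz.stdGr K (Fin (n + 1)))) (hI : I.IsHomogeneous (GrSyz.stdGr K (Fin (n + 1))))
    (hJ0 : J ≠ ⊥) (hJI : J ≤ I) (hJh : J.height = h) (hIh : I.height = h + 1)
    [LocCoh.IsCohenMacaulayRing (MvPolynomial (Fin (n + 1)) K ⧸ J)]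
    (f : MvPolynomial (Fin (n + 1)) K) (d : ℕ) (hf : f ∈ GrSyz.stdGr K (Fin (n + 1)) (d : ℤ)) (hJf : J.colon {f} = J) :
    (J ⊔ Ideal.span {f} * I).height = h + 1 := by
  exact height_bdl J I h hJI hJh hIh f hJf

end Groth.Agent.S18870
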