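import Groth.Statements.S18872
import Groth.Agent.Lib.Helper41.LC
import Groth.Agent.S0318
import Groth.Agent.S18865
import Groth.Agent.Lib.Helper29.CMRing
import Groth.Agent.Lib.Helper33.Unmixed
import Groth.Agent.Lib.Helper33.HomogPrimes
import Groth.Agent.Lib.Helper77.GrTor
import Groth.Agent.Lib.Helper87.CIReg

set_option autoImplicit false
universe u
open Liaison

namespace Groth.Agent.S18872

open CategoryTheory Groth.Agent.Lib.Helper41.LC

section delta

variable {R : Type u} [CommRing R]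

/-- the connecting map is an isomorphism when the middle terms vanish -/
theorem nonempty_equiv_of_subsingleton (a : Ideal R) {S : ShortComplex (ModuleCat.{u} R)}
    (hS : S.ShortExact) (i : ℕ)
    (h0 : Subsingleton ((localCohomology a i).obj S.X₂))
    (h1 : Subsingleton ((localCohomology a (i + 1)).obj S.X₂)) :
    Nonempty ((localCohomology a i).obj S.X₃ ≃ₗ[R] (localCohomology a (i + 1)).obj S.X₁) := by
  refine ⟨LinearEquiv.ofBijective (δ a hS i (i + 1) rfl) ⟨?_, ?_⟩⟩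
  · rw [injective_iff_map_eq_zero]
    intro x hx
    obtain ⟨x₂, hx₂⟩ := exact₃ a hS i (i + 1) rfl x hx
    rw [← hx₂, Subsingleton.elim x₂ 0, map_zero]
  · intro x₁
    exact exact₁ a hS i (i + 1) rfl x₁ (Subsingleton.elim _ _)

theorem nonempty_equiv_of_exact (a : Ideal R) {M' M M'' : Type u} [AddCommGroup M'] [Module R M']
    [AddCommGroup M] [Module R M] [AddCommGroup M''] [Module R M'']
    (f : M' →ₗ[R] M) (g : M →ₗ[R] M'') (hf : Function.Injective f) (hg : Function.Surjective g)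
    (hfg : Function.Exact f g) (i : ℕ)
    (h0 : Subsingleton (LocCoh.H a i M)) (h1 : Subsingleton (LocCoh.H a (i + 1) M)) :
    Nonempty (LocCoh.H a i M'' ≃ₗ[R] LocCoh.H a (i + 1) M') := by
  have hS : (ModuleCat.shortComplexOfCompEqZero f g hfg.linearMap_comp_eq_zero).ShortExact :=
    { exact := ModuleCat.shortComplex_exact _ hfg
      mono_f := (ModuleCat.mono_iff_injective _).mpr hf
      epi_g := (ModuleCat.epi_iff_surjective _).mpr hg }
  exact nonempty_equiv_of_subsingleton a hS i h0 h1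

end delta

section ses

variable {R : Type u} [CommRing R] (J I : Ideal R) (hJI : J ≤ I) (f : R)

/-- `R/J → R/I` -/
noncomputable def piQ : (R ⧸ J) →ₗ[R] (R ⧸ I) :=
  Submodule.mapQ J I LinearMap.id (fun _ hx => hJI hx)

theorem piQ_mk (r : R) : piQ J I hJI (Ideal.Quotient.mk J r) = Ideal.Quotient.mk I r := rfl

theorem piQ_surjective : Function.Surjective (piQ J I hJI) := by
  intro y
  obtain ⟨r, rfl⟩ := Ideal.Quotient.mk_surjective y
  exact ⟨Ideal.Quotient.mk J r, rfl⟩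

theorem mem_ker_piQ (r : R) :
    Ideal.Quotient.mk J r ∈ LinearMap.ker (piQ J I hJI) ↔ r ∈ I := by
  rw [LinearMap.mem_ker, piQ_mk, Ideal.Quotient.eq_zero_iff_mem]

/-- multiplication by `f` on `ker (R/J → R/I)` -/
noncomputable def mulF : LinearMap.ker (piQ J I hJI) →ₗ[R] (R ⧸ J) :=
  (LinearMap.lsmul R (R ⧸ J) f) ∘ₗ (LinearMap.ker (piQ J I hJI)).subtype

theorem mulF_apply (k : LinearMap.ker (piQ J I hJI)) :
    mulF J I hJI f k = f • (k : R ⧸ J) := rfl

theorem smul_mk (r : R) : f • (Ideal.Quotient.mk J r : R ⧸ J) = Ideal.Quotient.mk J (f * r) := rfl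

theorem mulF_injective (hJf : J.colon {f} = J) : Function.Injective (mulF J I hJI f) := by
  rw [injective_iff_map_eq_zero]
  rintro ⟨k, hk⟩ h0
  obtain ⟨r, rfl⟩ := Ideal.Quotient.mk_surjective k
  rw [mulF_apply] at h0
  have h1 : Ideal.Quotient.mk J (f * r) = 0 := by
    rw [← smul_mk]; exact h0
  rw [Ideal.Quotient.eq_zero_iff_mem] at h1
  have h2 : r ∈ J.colon {f} := by
    rw [Submodule.mem_colon_singleton, smul_eq_mul, mul_comm]
    exact h1
  rw [hJf] at h2
  apply Subtype.ext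
  exact Ideal.Quotient.eq_zero_iff_mem.mpr h2

theorem exact_mulF :
    Function.Exact (mulF J I hJI f) (piQ J (J ⊔ Ideal.span {f} * I) le_sup_left) := by
  intro y
  constructor
  · intro hy
    obtain ⟨r, rfl⟩ := Ideal.Quotient.mk_surjective y
    rw [piQ_mk, Ideal.Quotient.eq_zero_iff_mem] at hy
    obtain ⟨j, hj, z, hz, rfl⟩ := Submodule.mem_sup.mp hy
    obtain ⟨a, ha, rfl⟩ := Ideal.mem_span_singleton_mul.mp hz
    refine ⟨⟨Ideal.Quotient.mk J a, (mem_ker_piQ J I hJI a).mpr ha⟩, ?_⟩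
    rw [mulF_apply]
    show f • (Ideal.Quotient.mk J a : R ⧸ J) = Ideal.Quotient.mk J (j + f * a)
    rw [smul_mk, map_add, Ideal.Quotient.eq_zero_iff_mem.mpr hj, zero_add]
  · rintro ⟨⟨k, hk⟩, rfl⟩
    obtain ⟨a, rfl⟩ := Ideal.Quotient.mk_surjective k
    have ha : a ∈ I := (mem_ker_piQ J I hJI a).mp hk
    rw [mulF_apply]
    show piQ J (J ⊔ Ideal.span {f} * I) le_sup_left (f • (Ideal.Quotient.mk J a : R ⧸ J)) = 0
    rw [smul_mk, piQ_mk, Ideal.Quotient.eq_zero_iff_mem]
    exact Submodule.mem_sup_right (Ideal.mul_mem_mul (Ideal.mem_span_singleton_self f) ha)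

end ses

section lift

theorem exists_lift_list {A B : Type*} [CommRing A] [CommRing B] (φ : A →+* B)
    (hφ : Function.Surjective φ) (a : Ideal A) (l : List B) (hl : ∀ b ∈ l, b ∈ a.map φ) :
    ∃ l' : List A, l'.map φ = l ∧ ∀ x ∈ l', x ∈ a := by
  induction l with
  | nil => exact ⟨[], rfl, fun x hx => (List.not_mem_nil hx).elim⟩
  | cons b t ih =>
    obtain ⟨t', ht', ht'm⟩ := ih (fun b' hb' => hl b' (List.mem_cons_of_mem _ hb'))
    obtain ⟨x, hx, hxb⟩ := (Ideal.mem_map_iff_of_surjective φ hφ).mp (hl b List.mem_cons_self)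
    refine ⟨x :: t', by rw [List.map_cons, hxb, ht'], ?_⟩
    intro y hy
    rcases List.mem_cons.mp hy with rfl | hy
    · exact hx
    · exact ht'm y hy

end lift

section vanish

open MvPolynomial

theorem vanish (K : Type u) [Field K] (n h : ℕ) (J : Ideal (MvPolynomial (Fin (n + 1)) K))
    (hJ : J.IsHomogeneous (GrSyz.stdGr K (Fin (n + 1)))) (hJh : J.height = h)
    [LocCoh.IsCohenMacaulayRing (MvPolynomial (Fin (n + 1)) K ⧸ J)] (i : ℕ) (hi : i + h < n + 1) :
    Subsingleton (LocCoh.H (GrSyz.irrel (GrSyz.stdGr K (Fin (n + 1)))).toIdeal i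
      (MvPolynomial (Fin (n + 1)) K ⧸ J)) := by
  set m := (GrSyz.irrel (GrSyz.stdGr K (Fin (n + 1)))).toIdeal with hm
  have hm_eq : m = RingHom.ker (MvPolynomial.constantCoeff : MvPolynomial (Fin (n + 1)) K →+* K) :=
    Groth.Agent.Lib.Helper77.GrTor.irrel_eq_ker_constantCoeff K (Fin (n + 1))
  haveI hmax : m.IsMaximal := Groth.Agent.Lib.Helper77.GrTor.irrel_isMaximal K (Fin (n + 1))
  haveI : m.IsPrime := hmax.isPrime
  have hmh : m.height = ((n + 1 : ℕ) : ℕ∞) := by
    rw [hm_eq]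
    exact Groth.Agent.Lib.Helper87.CIReg.height_irr n
  haveI : IsRegularRing (MvPolynomial (Fin (n + 1)) K) := inferInstance
  haveI hRCM : LocCoh.IsCohenMacaulayRing (MvPolynomial (Fin (n + 1)) K) :=
    Groth.Agent.S18865.isCohenMacaulayRing_of_isRegularRing _
  obtain ⟨p, hpp, hJp, hph⟩ := Ideal.exists_isPrime_height_eq hJh
  haveI := hpp
  have hpmin : p ∈ J.minimalPrimes :=
    Ideal.mem_minimalPrimes_of_height_le hJp (by rw [hph, hJh])
  have hphom := Groth.Agent.Lib.Helper33.HomogPrimes.isHomogeneous_of_mem_minimalPrimes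
    (GrSyz.stdGr K (Fin (n + 1))) hJ hpmin
  have hpm : p ≤ m := by
    rw [hm_eq]
    exact Groth.Agent.Lib.Helper33.HomogPrimes.le_ker_constantCoeff K (Fin (n + 1)) hphom hpp.ne_top
  have hJm : J ≤ m := hJp.trans hpm
  have hadd := Groth.Agent.Lib.Helper33.Unmixed.height_eq_add_of_mem_minimalPrimes
    (MvPolynomial (Fin (n + 1)) K) J m p hpmin hpm
  rw [hmh, hph] at hadd
  set mS := m.map (Ideal.Quotient.mk J) with hmS
  have hmStop : mS ≠ ⊤ := by
    intro htop
    have h1 : mS.comap (Ideal.Quotient.mk J) = ⊤ := by rw [htop, Ideal.comap_top]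
    rw [hmS, Ideal.comap_map_of_surjective _ Ideal.Quotient.mk_surjective,
      ← RingHom.ker_eq_comap_bot, Ideal.mk_ker, sup_eq_left.mpr hJm] at h1
    exact hmax.ne_top h1
  have hdepth : LocCoh.idealDepth mS (MvPolynomial (Fin (n + 1)) K ⧸ J) = mS.height :=
    (Groth.Agent.Lib.Helper29.CMRing.isCohenMacaulayRing_iff_idealDepth_eq_height
      (MvPolynomial (Fin (n + 1)) K ⧸ J)).mp inferInstance mS hmStop
  have hlt : (i : ℕ∞) < LocCoh.idealDepth mS (MvPolynomial (Fin (n + 1)) K ⧸ J) := by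
    rw [hdepth]
    by_contra hle
    have hle' : mS.height ≤ (i : ℕ∞) := not_lt.mp hle
    have h2 : ((n + 1 : ℕ) : ℕ∞) ≤ (h : ℕ∞) + (i : ℕ∞) := by
      rw [hadd]
      exact add_le_add le_rfl hle'
    have h3 : n + 1 ≤ h + i := by exact_mod_cast h2
    omega
  have hmS' : mS • (⊤ : Submodule (MvPolynomial (Fin (n + 1)) K ⧸ J)
      (MvPolynomial (Fin (n + 1)) K ⧸ J)) ≠ ⊤ := by
    rw [smul_eq_mul, Ideal.mul_top]
    exact hmStop
  unfold LocCoh.idealDepth at hlt
  rw [if_neg hmS'] at hlt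
  obtain ⟨rs', hrs'⟩ := lt_iSup_iff.1 hlt
  obtain ⟨⟨hreg, hmem⟩, hlt'⟩ := lt_iSup_iff.1 hrs'
  obtain ⟨rs, hrs, hrsm⟩ := exists_lift_list (Ideal.Quotient.mk J) Ideal.Quotient.mk_surjective m
    rs' hmem
  have hreg' : RingTheory.Sequence.IsWeaklyRegular (MvPolynomial (Fin (n + 1)) K ⧸ J) rs := by
    rw [← RingTheory.Sequence.isWeaklyRegular_map_algebraMap_iff
      (MvPolynomial (Fin (n + 1)) K ⧸ J) (MvPolynomial (Fin (n + 1)) K ⧸ J) rs]
    have h4 : rs.map (algebraMap (MvPolynomial (Fin (n + 1)) K)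
        (MvPolynomial (Fin (n + 1)) K ⧸ J)) = rs' := hrs
    rw [h4]
    exact hreg
  refine Groth.Agent.S0318.vanish_below m (MvPolynomial (Fin (n + 1)) K ⧸ J) rs hreg' hrsm i ?_
  have h5 : rs.length = rs'.length := by rw [← hrs, List.length_map]
  rw [h5]
  exact_mod_cast hlt'

end vanish

/-- Let K be a field, R = K[x_0, …, x_n] graded by degree, and J ⊆ I ⊂ R homogeneous ideals with J ≠ 0,
height I = height J + 1 = h + 1 and R/J Cohen–Macaulay; let f ∈ R be homogeneous of degree d with J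
: f = J, and put Ĩ = J + fI (the basic double link). Then for every i < n − h = dim R/I the local
cohomology modules of R/Ĩ and of R/I with support in the irrelevant ideal 𝔪 = (x_0, …, x_n) are
isomorphic in degree i. (The graded statement is H^i_𝔪(R/Ĩ) ≅ H^i_𝔪(R/I)(−d); here only the
existence of an R-linear isomorphism of the underlying modules is asserted, the grading and the
shift by d being dropped.) -/
theorem result (K : Type u) [Field K] (n h : ℕ)
    (J I : Ideal (MvPolynomial (Fin (n + 1)) K))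
    (hJ : J.IsHomogeneous (GrSyz.stdGr K (Fin (n + 1)))) (hI : I.IsHomogeneous (GrSyz.stdGr K (Fin (n + 1))))
    (hJ0 : J ≠ ⊥) (hJI : J ≤ I) (hJh : J.height = h) (hIh : I.height = h + 1)
    [LocCoh.IsCohenMacaulayRing (MvPolynomial (Fin (n + 1)) K ⧸ J)]
    (f : MvPolynomial (Fin (n + 1)) K) (d : ℕ) (hf : f ∈ GrSyz.stdGr K (Fin (n + 1)) (d : ℤ)) (hJf : J.colon {f} = J) (i : ℕ) (hi : i + h < n) :
    Nonempty (LocCoh.H (GrSyz.irrel (GrSyz.stdGr K (Fin (n + 1)))).toIdeal i (MvPolynomial (Fin (n + 1)) K ⧸ (J ⊔ Ideal.span {f} * I)) ≃ₗ[MvPolynomial (Fin (n + 1)) K]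
      LocCoh.H (GrSyz.irrel (GrSyz.stdGr K (Fin (n + 1)))).toIdeal i (MvPolynomial (Fin (n + 1)) K ⧸ I)) := by
  have hv0 := vanish K n h J hJ hJh i (by omega)
  have hv1 := vanish K n h J hJ hJh (i + 1) (by omega)
  obtain ⟨e₁⟩ := nonempty_equiv_of_exact (GrSyz.irrel (GrSyz.stdGr K (Fin (n + 1)))).toIdeal
    (LinearMap.ker (piQ J I hJI)).subtype (piQ J I hJI) (Submodule.injective_subtype _)
    (piQ_surjective J I hJI) (LinearMap.exact_subtype_ker_map _) i hv0 hv1
  obtain ⟨e₂⟩ := nonempty_equiv_of_exact (GrSyz.irrel (GrSyz.stdGr K (Fin (n + 1)))).toIdeal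
    (mulF J I hJI f) (piQ J (J ⊔ Ideal.span {f} * I) le_sup_left) (mulF_injective J I hJI f hJf)
    (piQ_surjective J _ le_sup_left) (exact_mulF J I hJI f) i hv0 hv1
  exact ⟨e₂.trans e₁.symm⟩

end Groth.Agent.S18872
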