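import Groth.Statements.S18879
import Groth.Agent.Lib.Helper73.MaxPtFibreDim
-- import your own Groth.Agent.* helpers here

set_option autoImplicit false
universe u
open CategoryTheory AlgebraicGeometry
open Resolve

namespace Groth.Agent.S18879
open Groth.Agent.Lib.Helper73.SchemeDim Groth.Agent.Lib.Helper73.DimFormula Groth.Agent.Lib.Helper73.RelHt

/-- Let f : Y ⟶ X be a morphism locally of finite type between Noetherian separated schemes which is
birational: it maps the maximal points of Y bijectively onto the maximal points of X, and over every
maximal point of X its fibre is one point with the same residue field. Then for every point y of Y,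
the Krull dimension of the local ring of Y at y is at most the Krull dimension of the local ring of
X at f y (the codimension of a point does not increase along f). -/
theorem result {X Y : Scheme.{u}} (f : Y ⟶ X)
    [IsNoetherian X] [X.IsSeparated] [IsNoetherian Y] [Y.IsSeparated] [LocallyOfFiniteType f]
    (hf : RadPt.IsBirational f) (y : Y) :
    ringKrullDim (Y.presheaf.stalk y) ≤ ringKrullDim (X.presheaf.stalk (f.base y)) := by
  rw [AlgebraicGeometry.ringKrullDim_stalk_eq_coheight]
  have key : Order.coheight y ≤ Order.coheight (f.base y) := by
    apply Order.coheight_le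
    intro c hc
    obtain ⟨η, hηmax, hηc⟩ := exists_maximal_specializes c.last
    have hηgen : η ∈ genericPoints Y := closure_singleton_mem_irreducibleComponents_of_maximal η hηmax
    have h1 : (c.length : ℕ∞) ≤ relHt c.head η := length_le_relHt_of_le (anti Y) c hηc
    rw [hc] at h1
    have hηy : η ⤳ y := by
      have : c.last ⤳ c.head := (c.head_le_last : c.head ≤ c.last)
      rw [hc] at this
      exact hηc.trans this
    obtain ⟨ny, hny⟩ := exists_trdeg_residueField_eq_nat' f y
    have hfη : f.base η ∈ genericPoints X := hf.1.mapsTo hηgen
    have hbij := (hf.2 (f.base η) hfη).2 η rfl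
    have hnη : @Algebra.trdeg (X.residueField (f.base η)) (Y.residueField η) _ _
        (f.residueFieldMap η).hom.toAlgebra = (0 : ℕ) := by
      letI := (f.residueFieldMap η).hom.toAlgebra
      haveI : Algebra.IsAlgebraic (X.residueField (f.base η)) (Y.residueField η) := by
        refine ⟨fun z => ?_⟩
        obtain ⟨w, rfl⟩ := hbij.2 z
        exact isAlgebraic_algebraMap w
      rw [_root_.trdeg_eq_zero]
      rfl
    have h2 := (relHt_add_trdeg_aux f hηy 0 ny hnη hny).1
    have h3 : relHt y η ≤ relHt (f.base y) (f.base η) := by
      have : relHt y η ≤ relHt y η + ny := le_self_add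
      refine this.trans (h2.trans ?_)
      simp
    have h4 : relHt (f.base y) (f.base η) ≤ Order.coheight (f.base y) := by
      refine relHt_le fun c' h1' _ => ?_
      rw [← h1']
      exact Order.length_le_coheight_head
    exact h1.trans (h3.trans h4)
  rw [AlgebraicGeometry.ringKrullDim_stalk_eq_coheight]
  exact_mod_cast key

end Groth.Agent.S18879
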