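import Groth.Statements.S1888
import Groth.Agent.Lib.Helper38.GrpdLib
import Groth.Agent.Lib.Helper38.FieldPt

set_option autoImplicit false
universe u
open CategoryTheory CategoryTheory.Limits AlgebraicGeometry
open Grpd

namespace Groth.Agent.S1888

/-- Let (U, R, s, t, c) be a groupoid scheme over S with U the spectrum of a field k, and r a point of R
such that both s and t induce isomorphisms from k to κ(r). Then there is an automorphism of the
scheme R carrying the identity point e to r. (The source's automorphism is x ↦ c(r, x); only the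
existence of an automorphism moving e to r is stated here.) (A groupoid scheme carries U, R, s, t,
c, e, i over S with the groupoid axioms on T-points; 'finite locally free' is finite, flat and
locally of finite presentation; C ⊂ Γ(U) is the ring of functions a with s♯(a) = t♯(a) and M = Spec
C.) -/
theorem result (S : Scheme.{u}) (G : Grpd.GroupoidScheme S) (k : Type u) [Field k] (eU : G.U ≅ Spec (CommRingCat.of k)) (r : G.R) (hs : IsIso (G.s.residueFieldMap r)) (ht : IsIso (G.t.residueFieldMap r)) : ∃ φ : G.R ≅ G.R, φ.hom (G.e (eU.inv (IsLocalRing.closedPoint k))) = r := by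

  have hσ : IsIso (G.R.fromSpecResidueField r ≫ G.s) := by
    rw [← Scheme.Hom.SpecMap_residueFieldMap_fromSpecResidueField]
    have := Groth.Agent.Lib.Helper38.FieldPt.isIso_fromSpecResidueField k eU (G.s r)
    infer_instance
  have hτ : IsIso (G.R.fromSpecResidueField r ≫ G.t) := by
    rw [← Scheme.Hom.SpecMap_residueFieldMap_fromSpecResidueField]
    have := Groth.Agent.Lib.Helper38.FieldPt.isIso_fromSpecResidueField k eU (G.t r)
    infer_instance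
  set ρ := G.R.fromSpecResidueField r with hρ
  set σ := ρ ≫ G.s with hσ_def
  set τ := ρ ≫ G.t with hτ_def
  let ρ' : G.U ⟶ G.R := inv σ ≫ ρ
  have ρ'_s : ρ' ≫ G.s = 𝟙 _ := by
    change (inv σ ≫ ρ) ≫ G.s = 𝟙 _
    rw [Category.assoc, ← hσ_def, IsIso.inv_hom_id]
  let θ : G.U ⟶ G.U := inv σ ≫ τ
  let θ' : G.U ⟶ G.U := inv τ ≫ σ
  have ρ'_t : ρ' ≫ G.t = θ := by
    change (inv σ ≫ ρ) ≫ G.t = inv σ ≫ τ
    rw [Category.assoc]
  have θθ' : θ ≫ θ' = 𝟙 _ := by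
    change (inv σ ≫ τ) ≫ inv τ ≫ σ = 𝟙 _
    rw [Category.assoc, IsIso.hom_inv_id_assoc, IsIso.inv_hom_id]
  have θ'θ : θ' ≫ θ = 𝟙 _ := by
    change (inv τ ≫ σ) ≫ inv σ ≫ τ = 𝟙 _
    rw [Category.assoc, IsIso.hom_inv_id_assoc, IsIso.inv_hom_id]
  -- the translation and its inverse
  have c1 : (G.t ≫ ρ') ≫ G.s = 𝟙 G.R ≫ G.t := by
    rw [Category.assoc, ρ'_s, Category.comp_id, Category.id_comp]
  have c2 : ((G.t ≫ θ' ≫ ρ') ≫ G.i) ≫ G.s = 𝟙 G.R ≫ G.t := by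
    rw [Category.assoc, G.i_s, Category.assoc, Category.assoc, ρ'_t, θ'θ, Category.comp_id,
      Category.id_comp]
  let φ : G.R ⟶ G.R := Groth.Agent.Lib.Helper38.GrpdLib.mul (G.t ≫ ρ') (𝟙 G.R) c1
  let φ' : G.R ⟶ G.R := Groth.Agent.Lib.Helper38.GrpdLib.mul ((G.t ≫ θ' ≫ ρ') ≫ G.i) (𝟙 G.R) c2
  have φ_t : φ ≫ G.t = G.t ≫ θ := by
    rw [Groth.Agent.Lib.Helper38.GrpdLib.mul_t, Category.assoc, ρ'_t]
  have φ'_t : φ' ≫ G.t = G.t ≫ θ' := by
    rw [Groth.Agent.Lib.Helper38.GrpdLib.mul_t, Category.assoc, G.i_t, Category.assoc,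
      Category.assoc, ρ'_s, Category.comp_id]
  have h1 : φ ≫ φ' = 𝟙 _ := by
    change φ ≫ Groth.Agent.Lib.Helper38.GrpdLib.mul ((G.t ≫ θ' ≫ ρ') ≫ G.i) (𝟙 G.R) c2 = 𝟙 _
    rw [Groth.Agent.Lib.Helper38.GrpdLib.comp_mul]
    have e1 : φ ≫ (G.t ≫ θ' ≫ ρ') ≫ G.i = (G.t ≫ ρ') ≫ G.i := by
      rw [← Category.assoc, ← Category.assoc φ, φ_t, Category.assoc G.t, ← Category.assoc θ,
        θθ', Category.id_comp]
    have e2 : φ ≫ 𝟙 G.R = Groth.Agent.Lib.Helper38.GrpdLib.mul (G.t ≫ ρ') (𝟙 G.R) c1 :=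
      Category.comp_id _
    rw [Groth.Agent.Lib.Helper38.GrpdLib.mul_congr e1 e2]
    exact Groth.Agent.Lib.Helper38.GrpdLib.i_mul_mul _ _ _
  have h2 : φ' ≫ φ = 𝟙 _ := by
    change φ' ≫ Groth.Agent.Lib.Helper38.GrpdLib.mul (G.t ≫ ρ') (𝟙 G.R) c1 = 𝟙 _
    rw [Groth.Agent.Lib.Helper38.GrpdLib.comp_mul]
    have e1 : φ' ≫ G.t ≫ ρ' = G.t ≫ θ' ≫ ρ' := by
      rw [← Category.assoc, φ'_t, Category.assoc]
    have e2 : φ' ≫ 𝟙 G.R = Groth.Agent.Lib.Helper38.GrpdLib.mul ((G.t ≫ θ' ≫ ρ') ≫ G.i)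
        (𝟙 G.R) c2 := Category.comp_id _
    rw [Groth.Agent.Lib.Helper38.GrpdLib.mul_congr e1 e2]
    exact Groth.Agent.Lib.Helper38.GrpdLib.mul_i_mul _ _
      (by rw [Category.assoc, Category.assoc, ρ'_t, θ'θ, Category.comp_id, Category.id_comp])
  have h3 : G.e ≫ φ = ρ' := by
    change G.e ≫ Groth.Agent.Lib.Helper38.GrpdLib.mul (G.t ≫ ρ') (𝟙 G.R) c1 = ρ'
    rw [Groth.Agent.Lib.Helper38.GrpdLib.comp_mul]
    have e1 : G.e ≫ G.t ≫ ρ' = ρ' := by rw [← Category.assoc, G.e_t, Category.id_comp]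
    have e2 : G.e ≫ 𝟙 G.R = G.e := Category.comp_id _
    rw [Groth.Agent.Lib.Helper38.GrpdLib.mul_congr e1 e2]
    exact Groth.Agent.Lib.Helper38.GrpdLib.mul_e ρ' G.e
      (by rw [← Category.assoc, ρ'_s, Category.id_comp])
  refine ⟨⟨φ, φ', h1, h2⟩, ?_⟩
  change φ (G.e _) = r
  rw [← Scheme.Hom.comp_apply, h3]
  change (inv σ ≫ ρ) _ = r
  rw [Scheme.Hom.comp_apply, hρ, Scheme.fromSpecResidueField_apply]


end Groth.Agent.S1888
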