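import Groth.Statements.S18884
import Mathlib

set_option autoImplicit false
universe v u w
open CategoryTheory CategoryTheory.Limits
open Desc

namespace Groth.Agent.S18884

theorem exists_lift_of_surj {A B E : Type*} [AddCommGroup A] [AddCommGroup B] [AddCommGroup E]
    (f : A →+ B) (hf : Function.Surjective f) (g : A →+ E) (hg : f.ker ≤ g.ker) :
    ∃ h : B →+ E, ∀ a, h (f a) = g a :=
  ⟨f.liftOfRightInverseAux (Function.surjInv hf) (Function.rightInverse_surjInv hf) g hg,
    fun a => AddMonoidHom.liftOfRightInverseAux_comp_apply f (Function.surjInv hf)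
      (Function.rightInverse_surjInv hf) g hg a⟩

/-- the cosheaf condition -/
def IsCosh {C : Type u} [Category.{v} C] [HasPullbacks C] (W : MorphismProperty C)
    (F : C ⥤ AddCommGrpCat.{w}) : Prop :=
  ∀ ⦃Y X : C⦄ (π : Y ⟶ X), W π → Function.Surjective (F.map π).hom ∧
    (F.map π).hom.ker = ((F.map (pullback.fst π π)).hom - (F.map (pullback.snd π π)).hom).range

section ext

variable {C : Type u} [Category.{v} C] [HasPullbacks C] (W : MorphismProperty C)
  [W.IsStableUnderBaseChange] [W.IsStableUnderComposition]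
  (D : ObjectProperty C) (hD : ∀ X : C, ∃ (Y : C) (π : Y ⟶ X), W π ∧ D Y)
  (F G : C ⥤ AddCommGrpCat.{w}) (hF : IsCosh W F)
  (γ : D.ι ⋙ F ⟶ D.ι ⋙ G)

theorem map_comp_apply (H : C ⥤ AddCommGrpCat.{w}) {X Y Z : C} (f : X ⟶ Y) (g : Y ⟶ Z)
    (x : H.obj X) : (H.map (f ≫ g)).hom x = (H.map g).hom ((H.map f).hom x) := by
  rw [H.map_comp]; rfl

include γ in
theorem gamma_nat {Y Y' : C} (hY : D Y) (hY' : D Y') (h : Y ⟶ Y') (y : F.obj Y) :
    (γ.app ⟨Y', hY'⟩).hom ((F.map h).hom y) = (G.map h).hom ((γ.app ⟨Y, hY⟩).hom y) := by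
  have := γ.naturality (ObjectProperty.homMk h : (⟨Y, hY⟩ : D.FullSubcategory) ⟶ ⟨Y', hY'⟩)
  exact congrArg (fun φ => φ.hom y) this

include hD hF in
/-- Step 1: well-definedness -/
theorem ker_le {Y X : C} (π : Y ⟶ X) (hπ : W π) (hY : D Y) (y : F.obj Y)
    (hy : (F.map π).hom y = 0) : (G.map π).hom ((γ.app ⟨Y, hY⟩).hom y) = 0 := by
  have hker : y ∈ (F.map π).hom.ker := hy
  rw [(hF π hπ).2] at hker
  obtain ⟨z, hz⟩ := hker
  obtain ⟨Z, ρ, hρ, hZ⟩ := hD (pullback π π)
  obtain ⟨w, rfl⟩ := (hF ρ hρ).1 z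
  have hy' : y = (F.map (ρ ≫ pullback.fst π π)).hom w - (F.map (ρ ≫ pullback.snd π π)).hom w := by
    rw [← hz, map_comp_apply, map_comp_apply]; rfl
  rw [hy', map_sub, map_sub, gamma_nat D F G γ hZ hY, gamma_nat D F G γ hZ hY,
    ← map_comp_apply, ← map_comp_apply, Category.assoc, Category.assoc, pullback.condition,
    sub_self]

include hD hF in
theorem exists_ext : ∃ α : F ⟶ G, Functor.whiskerLeft D.ι α = γ := by
  have hD' := hD
  choose Yc πc hWc hDc using hD
  have hα : ∀ X : C, ∃ h : F.obj X →+ G.obj X, ∀ y : F.obj (Yc X),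
      h ((F.map (πc X)).hom y) = (G.map (πc X)).hom ((γ.app ⟨Yc X, hDc X⟩).hom y) := by
    intro X
    refine exists_lift_of_surj (F.map (πc X)).hom (hF _ (hWc X)).1
      (((G.map (πc X)).hom).comp (γ.app ⟨Yc X, hDc X⟩).hom) ?_
    intro y hy
    exact ker_le W D hD' F G hF γ (πc X) (hWc X) (hDc X) y hy
  choose a ha using hα
  have compat : ∀ {X Y' : C} (hY' : D Y') (f : Y' ⟶ X) (y' : F.obj Y'),
      a X ((F.map f).hom y') = (G.map f).hom ((γ.app ⟨Y', hY'⟩).hom y') := by
    intro X Y' hY' f y'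
    have hfst : W (pullback.fst f (πc X)) := MorphismProperty.pullback_fst f (πc X) (hWc X)
    have hcov : W (πc (pullback f (πc X)) ≫ pullback.fst f (πc X)) :=
      W.comp_mem _ _ (hWc _) hfst
    obtain ⟨w, rfl⟩ := (hF _ hcov).1 y'
    have e1 : (F.map f).hom ((F.map (πc (pullback f (πc X)) ≫ pullback.fst f (πc X))).hom w) =
        (F.map (πc X)).hom ((F.map (πc (pullback f (πc X)) ≫ pullback.snd f (πc X))).hom w) := by
      rw [← map_comp_apply, ← map_comp_apply, Category.assoc, Category.assoc, pullback.condition]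
    rw [e1, ha, gamma_nat D F G γ (hDc _) (hDc X), gamma_nat D F G γ (hDc _) hY',
      ← map_comp_apply, ← map_comp_apply, Category.assoc, Category.assoc, pullback.condition]
  refine ⟨{ app := fun X => AddCommGrpCat.ofHom (a X), naturality := ?_ }, ?_⟩
  · intro X' X h
    ext x
    obtain ⟨y, rfl⟩ := (hF _ (hWc X')).1 x
    change a X ((F.map h).hom ((F.map (πc X')).hom y)) =
      (G.map h).hom (a X' ((F.map (πc X')).hom y))
    rw [ha, ← map_comp_apply, compat (hDc X'), map_comp_apply]
  · ext ⟨X, hX⟩ x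
    change a X x = (γ.app ⟨X, hX⟩).hom x
    have := compat hX (𝟙 X) x
    simpa using this

end ext

/-- Let C be a category with pullbacks equipped with a class W of morphisms, the covers, stable under
base change and under composition. An abelian cosheaf is a functor F : C ⥤ Ab such that for every
cover π : Y ⟶ X the map F(π) is surjective and its kernel is the image of F(p₁) − F(p₂), where p₁,
p₂ : Y ×_X Y ⟶ Y are the two projections. If D is a full subcategory of C such that every object of
C is the target of a cover whose source lies in D, then the restriction functor from the full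
subcategory of abelian cosheaves in C ⥤ Ab to D ⥤ Ab is full and faithful. -/
theorem result {C : Type u} [Category.{v} C]
    [HasPullbacks C] (W : MorphismProperty C) [W.IsStableUnderBaseChange] [W.IsStableUnderComposition]
    (D : ObjectProperty C) (hD : ∀ X : C, ∃ (Y : C) (π : Y ⟶ X), W π ∧ D Y) :
    (ObjectProperty.ι (fun F : C ⥤ AddCommGrpCat.{w} =>
        ∀ ⦃Y X : C⦄ (π : Y ⟶ X), W π → Function.Surjective (F.map π).hom ∧
          (F.map π).hom.ker = ((F.map (pullback.fst π π)).hom - (F.map (pullback.snd π π)).hom).range) ⋙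
      (Functor.whiskeringLeft D.FullSubcategory C AddCommGrpCat.{w}).obj D.ι).Full ∧
    (ObjectProperty.ι (fun F : C ⥤ AddCommGrpCat.{w} =>
        ∀ ⦃Y X : C⦄ (π : Y ⟶ X), W π → Function.Surjective (F.map π).hom ∧
          (F.map π).hom.ker = ((F.map (pullback.fst π π)).hom - (F.map (pullback.snd π π)).hom).range) ⋙
      (Functor.whiskeringLeft D.FullSubcategory C AddCommGrpCat.{w}).obj D.ι).Faithful := by
  constructor
  · refine ⟨fun {X Y} γ => ?_⟩
    obtain ⟨α, hα⟩ := exists_ext W D hD X.obj Y.obj X.property γ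
    exact ⟨ObjectProperty.homMk α, hα⟩
  · refine ⟨fun {X Y} α β h => ?_⟩
    apply ObjectProperty.hom_ext
    ext Z z
    obtain ⟨Y', π, hπ, hY'⟩ := hD Z
    obtain ⟨y, rfl⟩ := (X.property π hπ).1 z
    have h1 := congrArg (fun φ => φ.hom y) (α.hom.naturality π)
    have h2 := congrArg (fun φ => φ.hom y) (β.hom.naturality π)
    have h3 : α.hom.app Y' = β.hom.app Y' :=
      congrArg (fun φ => φ.app (⟨Y', hY'⟩ : D.FullSubcategory)) h
    change (α.hom.app Z).hom ((X.obj.map π).hom y) = (β.hom.app Z).hom ((X.obj.map π).hom y)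
    change (α.hom.app Z).hom ((X.obj.map π).hom y) = (Y.obj.map π).hom ((α.hom.app Y').hom y) at h1
    change (β.hom.app Z).hom ((X.obj.map π).hom y) = (Y.obj.map π).hom ((β.hom.app Y').hom y) at h2
    rw [h1, h2, h3]

end Groth.Agent.S18884
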