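import Groth.Statements.S18887
import Mathlib.RingTheory.Trace.Defs
import Mathlib.LinearAlgebra.Dimension.Free
import Mathlib.LinearAlgebra.Basis.Fin
import Mathlib.Tactic.Ring
import Mathlib.Tactic.Abel
import Mathlib.Tactic.NthRewrite
import Mathlib.Tactic.Module

set_option autoImplicit false
universe u v
open DblCov

namespace Groth.Agent.S18887

/-- Let A be a commutative ring in which 2 is invertible and B a commutative A-algebra which is free of
rank 2 as an A-module and whose trace form tr : B → A has kernel free of rank 1 over A. Then σ(b) =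
tr(b) − b defines an A-algebra endomorphism σ of B with σ ≠ id and σ ∘ σ = id, and the elements
fixed by σ are exactly the image of A in B. -/
theorem result {A : Type u} {B : Type v} [CommRing A] [CommRing B]
    [Algebra A B] (h2 : IsUnit (2 : A)) [Module.Free A B] [Module.Finite A B]
    (hrk : Module.finrank A B = 2)
    [Module.Free A (LinearMap.ker (Algebra.trace A B))]
    (hker : Module.finrank A (LinearMap.ker (Algebra.trace A B)) = 1) :
    ∃ σ : B →ₐ[A] B, (∀ b : B, σ b = algebraMap A B (Algebra.trace A B b) - b) ∧
      σ ≠ AlgHom.id A B ∧ σ.comp σ = AlgHom.id A B ∧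
      ∀ b : B, σ b = b ↔ b ∈ Set.range (algebraMap A B) := by
  classical
  have hAnt : Nontrivial A := by
    by_contra hcon
    rw [not_nontrivial_iff_subsingleton] at hcon
    have := Module.finrank_subsingleton (R := A) (M := B)
    omega
  obtain ⟨i2, hi2⟩ := h2.exists_right_inv
  have htr1 : Algebra.trace A B 1 = 2 := by
    have := Algebra.trace_algebraMap (R := A) (S := B) (1 : A)
    rw [map_one, hrk] at this
    rw [this]; simp
  have hfin : Module.Finite A (LinearMap.ker (Algebra.trace A B)) :=
    Module.finite_of_finrank_pos (by omega)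
  let bw : Module.Basis (Fin 1) A (LinearMap.ker (Algebra.trace A B)) :=
    Module.finBasisOfFinrankEq A _ hker
  set w : B := (bw 0 : B) with hw
  have htrw : Algebra.trace A B w = 0 := (bw 0).2
  have hkerw : ∀ k : B, Algebra.trace A B k = 0 → ∃ y : A, k = y • w := by
    intro k hk
    refine ⟨bw.repr ⟨k, hk⟩ 0, ?_⟩
    have := bw.sum_repr ⟨k, hk⟩
    rw [Fin.sum_univ_one] at this
    have h2' := congrArg Subtype.val this
    simpa [hw] using h2'.symm
  have hwtf : ∀ y : A, y • w = 0 → y = 0 := by
    intro y hy
    have h1 : y • bw 0 = 0 := by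
      apply Subtype.ext
      simpa [hw] using hy
    have := congrArg (fun v => bw.repr v 0) h1
    simpa using this
  -- decomposition
  have hdec : ∀ b : B, ∃ x y : A, b = x • (1 : B) + y • w := by
    intro b
    have hk : Algebra.trace A B (b - (i2 * Algebra.trace A B b) • (1 : B)) = 0 := by
      rw [map_sub, map_smul, htr1, smul_eq_mul]
      have : i2 * Algebra.trace A B b * 2 = (2 * i2) * Algebra.trace A B b := by ring
      rw [this, hi2, one_mul, sub_self]
    obtain ⟨y, hy⟩ := hkerw _ hk
    exact ⟨i2 * Algebra.trace A B b, y, by rw [← hy]; abel⟩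
  have htrdec : ∀ x y : A, Algebra.trace A B (x • (1 : B) + y • w) = 2 * x := by
    intro x y
    rw [map_add, map_smul, map_smul, htr1, htrw, smul_eq_mul, smul_zero, add_zero, mul_comm]
  have h2inj : ∀ a : A, 2 * a = 0 → a = 0 := by
    intro a ha
    have : i2 * (2 * a) = a := by rw [← mul_assoc, mul_comm i2 2, hi2, one_mul]
    rw [← this, ha, mul_zero]
  -- basis (1, w)
  have hli : LinearIndependent A ![(1 : B), w] := by
    rw [LinearIndependent.pair_iff]
    intro s t hst
    have h1 := congrArg (Algebra.trace A B) hst
    rw [htrdec, map_zero] at h1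
    have hs : s = 0 := h2inj s h1
    rw [hs, zero_smul, zero_add] at hst
    exact ⟨hs, hwtf t hst⟩
  have hsp : ⊤ ≤ Submodule.span A (Set.range ![(1 : B), w]) := by
    intro b _
    obtain ⟨x, y, hxy⟩ := hdec b
    have : Set.range ![(1 : B), w] = {1, w} := by
      ext z; simp only [Matrix.range_cons, Matrix.range_empty, Set.union_empty,
        Set.union_singleton, Set.mem_insert_iff, Set.mem_singleton_iff]
      exact or_comm
    rw [this, Submodule.mem_span_pair]
    exact ⟨x, y, hxy.symm⟩
  let bas : Module.Basis (Fin 2) A B := Module.Basis.mk hli hsp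
  have hbas0 : bas 0 = 1 := by simp [bas]
  have hbas1 : bas 1 = w := by simp [bas]
  -- w * w ∈ A
  obtain ⟨α, β, hαβ⟩ := hdec (w * w)
  have hβ : β = 0 := by
    have h1 := Algebra.trace_eq_matrix_trace bas w
    rw [htrw, Matrix.trace, Fin.sum_univ_two] at h1
    simp only [Matrix.diag_apply, Algebra.leftMulMatrix_eq_repr_mul, hbas0, hbas1, mul_one] at h1
    have r1 : bas.repr w 0 = 0 := by
      have : w = bas 1 := hbas1.symm
      rw [this, bas.repr_self]; simp
    have r2 : bas.repr (w * w) 1 = β := by
      have : w * w = α • bas 0 + β • bas 1 := by rw [hbas0, hbas1]; exact hαβ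
      rw [this, map_add, map_smul, map_smul, bas.repr_self, bas.repr_self]
      simp
    rw [r1, r2, zero_add] at h1
    exact h1.symm
  rw [hβ, zero_smul, add_zero] at hαβ
  -- σ
  have hσdec : ∀ x y : A, algebraMap A B (Algebra.trace A B (x • (1 : B) + y • w)) -
      (x • (1 : B) + y • w) = x • (1 : B) - y • w := by
    intro x y
    rw [htrdec, Algebra.algebraMap_eq_smul_one, two_mul, add_smul]
    abel
  let σl : B →ₗ[A] B := (Algebra.linearMap A B) ∘ₗ (Algebra.trace A B) - LinearMap.id
  have hσl : ∀ b, σl b = algebraMap A B (Algebra.trace A B b) - b := fun b => rfl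
  have hmul : ∀ b c : B, σl (b * c) = σl b * σl c := by
    intro b c
    obtain ⟨x, y, rfl⟩ := hdec b
    obtain ⟨x', y', rfl⟩ := hdec c
    have e : (x • (1 : B) + y • w) * (x' • (1 : B) + y' • w) =
        (x * x' + y * y' * α) • (1 : B) + (x * y' + x' * y) • w := by
      have : (x • (1 : B) + y • w) * (x' • (1 : B) + y' • w) =
          (x * x') • (1 : B) + (y * y') • (w * w) + (x * y' + x' * y) • w := by
        simp only [add_mul, mul_add, smul_mul_smul_comm, mul_one, one_mul]
        module
      rw [this, hαβ]
      module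
    rw [e, hσl, hσl, hσl, hσdec, hσdec, hσdec]
    have : (x • (1 : B) - y • w) * (x' • (1 : B) - y' • w) =
        (x * x') • (1 : B) + (y * y') • (w * w) - (x * y' + x' * y) • w := by
      simp only [sub_mul, mul_sub, smul_mul_smul_comm, mul_one, one_mul]
      module
    rw [this, hαβ]
    module
  have hone : σl 1 = 1 := by
    rw [hσl, htr1, map_ofNat]
    ring
  let σ : B →ₐ[A] B := AlgHom.ofLinearMap σl hone hmul
  have hσ : ∀ b, σ b = algebraMap A B (Algebra.trace A B b) - b := fun b => rfl
  refine ⟨σ, hσ, ?_, ?_, ?_⟩
  · intro hid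
    have h1 := congrArg (fun f : B →ₐ[A] B => f w) hid
    simp only [AlgHom.id_apply] at h1
    rw [hσ, htrw, map_zero, zero_sub] at h1
    have h3 : (2 : A) • w = 0 := by
      rw [two_smul]
      nth_rewrite 1 [← h1]
      simp
    have := hwtf 2 h3
    have h4 : (1 : A) = 0 := by rw [← hi2, this, zero_mul]
    exact one_ne_zero h4
  · ext b
    simp only [AlgHom.comp_apply, AlgHom.id_apply]
    obtain ⟨x, y, rfl⟩ := hdec b
    rw [hσ (x • (1 : B) + y • w), hσdec, hσ]
    have : x • (1 : B) - y • w = x • (1 : B) + (-y) • w := by rw [neg_smul]; abel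
    rw [this, hσdec, neg_smul]
    abel
  · intro b
    obtain ⟨x, y, rfl⟩ := hdec b
    rw [hσ, hσdec]
    constructor
    · intro h
      have h3 : (2 * y) • w = 0 := by
        have : x • (1 : B) - y • w - (x • (1 : B) + y • w) = 0 := by rw [h, sub_self]
        have h5 : (2 * y) • w = -(x • (1 : B) - y • w - (x • (1 : B) + y • w)) := by
          rw [two_mul, add_smul]; abel
        rw [h5, this, neg_zero]
      have := h2inj y (hwtf _ h3)
      refine ⟨x, ?_⟩
      rw [this, zero_smul, add_zero, Algebra.algebraMap_eq_smul_one]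
    · rintro ⟨a, ha⟩
      have h1 := congrArg (Algebra.trace A B) ha
      rw [htrdec, Algebra.algebraMap_eq_smul_one, map_smul, htr1, smul_eq_mul, mul_comm] at h1
      have hax : a = x := by
        have := h2inj (a - x) (by rw [mul_sub, h1, sub_self])
        exact sub_eq_zero.mp this
      rw [hax, Algebra.algebraMap_eq_smul_one] at ha
      have hy : y • w = 0 := by
        have := ha
        rw [eq_comm, add_eq_left] at this
        exact this
      rw [hy, sub_zero, add_zero]

end Groth.Agent.S18887
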