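import Groth.Statements.S18888
import Mathlib.FieldTheory.Minpoly.IsIntegrallyClosed
import Mathlib.RingTheory.Localization.NumDen
import Mathlib.LinearAlgebra.FiniteDimensional.Lemmas
import Mathlib.RingTheory.Polynomial.UniqueFactorization
import Mathlib.Tactic.LinearCombination
import Mathlib.RingTheory.Polynomial.RationalRoot

set_option autoImplicit false
universe u v w
open CAlg

namespace Groth.Agent.S18888

/-- Let A be a unique factorisation domain in which 2 is invertible, with fraction field K, and let L ⊇
K be a quadratic extension field (of degree 2 over K) containing an element y ∉ K whose square is a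
squarefree element d of A. Then the integral closure of A in L equals the A-subalgebra A[y]
generated by y. -/
theorem result {A : Type u} {K : Type v} {L : Type w}
    [CommRing A] [IsDomain A] [UniqueFactorizationMonoid A] [Field K] [Algebra A K] [IsFractionRing A K]
    [Field L] [Algebra K L] [Algebra A L] [IsScalarTower A K L]
    (h2 : IsUnit (2 : A)) (hL : Module.finrank K L = 2)
    (d : A) (hd : Squarefree d) (y : L) (hy : y * y = algebraMap A L d)
    (hyK : y ∉ Set.range (algebraMap K L)) :
    integralClosure A L = Algebra.adjoin A {y} := by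
  classical
  have hfd : FiniteDimensional K L := Module.finite_of_finrank_pos (by omega)
  have hAKL : ∀ a : A, algebraMap A L a = algebraMap K L (algebraMap A K a) :=
    fun a => IsScalarTower.algebraMap_apply A K L a
  have hinjKL : Function.Injective (algebraMap K L) := (algebraMap K L).injective
  obtain ⟨i2, hi2⟩ := h2.exists_right_inv
  have hyint : IsIntegral A y := by
    refine ⟨Polynomial.X ^ 2 - Polynomial.C d, Polynomial.monic_X_pow_sub_C d (by norm_num), ?_⟩
    simp [pow_two, hy]
  -- linear independence of 1, y over K
  have hli : LinearIndependent K ![(1 : L), y] := by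
    rw [LinearIndependent.pair_iff]
    intro s t hst
    by_cases ht : t = 0
    · subst ht
      rw [zero_smul, add_zero, Algebra.smul_def, mul_one] at hst
      exact ⟨hinjKL (by rw [hst, map_zero]), rfl⟩
    · exfalso
      apply hyK
      refine ⟨-(t⁻¹ * s), ?_⟩
      have h1 : t • y = -(s • (1 : L)) := eq_neg_of_add_eq_zero_right hst
      have h2' : y = t⁻¹ • (t • y) := by rw [smul_smul, inv_mul_cancel₀ ht, one_smul]
      rw [h2', h1, smul_neg, smul_smul, map_neg, Algebra.smul_def, mul_one]
  have hspan : Submodule.span K (Set.range ![(1 : L), y]) = ⊤ :=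
    hli.span_eq_top_of_card_eq_finrank' (by simp [hL])
  have hdec : ∀ z : L, ∃ a b : K, z = algebraMap K L a + algebraMap K L b * y := by
    intro z
    have hz : z ∈ Submodule.span K (Set.range ![(1 : L), y]) := by rw [hspan]; trivial
    have hr : Set.range ![(1 : L), y] = {1, y} := by
      ext w; simp only [Matrix.range_cons, Matrix.range_empty, Set.union_empty,
        Set.union_singleton, Set.mem_insert_iff, Set.mem_singleton_iff]
      exact or_comm
    rw [hr, Submodule.mem_span_pair] at hz
    obtain ⟨a, b, hab⟩ := hz
    exact ⟨a, b, by rw [← hab, Algebra.smul_def, Algebra.smul_def, mul_one]⟩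
  have hind : ∀ s t : K, algebraMap K L s + algebraMap K L t * y = 0 → s = 0 ∧ t = 0 := by
    intro s t hst
    have := LinearIndependent.pair_iff.mp hli s t
      (by rw [Algebra.smul_def, Algebra.smul_def, mul_one]; exact hst)
    exact this
  have hicl : IsIntegrallyClosed A := inferInstance
  apply le_antisymm
  · -- integral elements lie in A[y]
    intro z hz
    have hzint : IsIntegral A z := hz
    obtain ⟨a, b, rfl⟩ := hdec z
    have hymem : y ∈ Algebra.adjoin A {y} := Algebra.subset_adjoin (Set.mem_singleton y)
    -- it suffices that a and b come from A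
    suffices hab : (∃ a₀ : A, algebraMap A K a₀ = a) ∧ ∃ b₀ : A, algebraMap A K b₀ = b by
      obtain ⟨⟨a₀, rfl⟩, b₀, rfl⟩ := hab
      rw [← hAKL, ← hAKL]
      exact Subalgebra.add_mem _ (Subalgebra.algebraMap_mem _ a₀)
        (Subalgebra.mul_mem _ (Subalgebra.algebraMap_mem _ b₀) hymem)
    by_cases hb : b = 0
    · subst hb
      rw [map_zero, zero_mul, add_zero] at hzint
      refine ⟨?_, 0, map_zero _⟩
      have : IsIntegral A a := (isIntegral_algebraMap_iff hinjKL).mp hzint
      exact IsIntegrallyClosed.isIntegral_iff.mp this
    · set z := algebraMap K L a + algebraMap K L b * y with hzdef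
      -- the quadratic polynomial of z
      set c₁ : K := -(2 * a) with hc₁
      set c₀ : K := a ^ 2 - b ^ 2 * algebraMap A K d with hc₀
      let Q : Polynomial K := Polynomial.X ^ 2 + (Polynomial.C c₁ * Polynomial.X + Polynomial.C c₀)
      have hlin : (Polynomial.C c₁ * Polynomial.X + Polynomial.C c₀ : Polynomial K).degree < 2 :=
        lt_of_le_of_lt (Polynomial.degree_linear_le) (by norm_num)
      have hQmonic : Q.Monic := Polynomial.monic_X_pow_add hlin
      have hQdeg : Q.natDegree = 2 := by
        have h1 : (Polynomial.C c₁ * Polynomial.X + Polynomial.C c₀ : Polynomial K).degree <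
            (Polynomial.X ^ 2 : Polynomial K).degree := by
          rw [Polynomial.degree_X_pow]; exact hlin
        rw [Polynomial.natDegree_add_eq_left_of_degree_lt h1, Polynomial.natDegree_X_pow]
      have hQz : Polynomial.aeval z Q = 0 := by
        simp only [Q, map_add, map_mul, map_pow, Polynomial.aeval_X, Polynomial.aeval_C]
        rw [hc₁, hc₀, hzdef]
        have hy2 : y ^ 2 = algebraMap A L d := by rw [pow_two, hy]
        simp only [map_neg, map_sub, map_mul, map_pow, map_ofNat, ← hAKL]
        linear_combination ((algebraMap K L) b) ^ 2 * hy2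
      have hzK : IsIntegral K z := hzint.tower_top
      have hznot : z ∉ (algebraMap K L).range := by
        rintro ⟨c, hc⟩
        have h0 : algebraMap K L (a - c) + algebraMap K L b * y = 0 := by
          rw [map_sub, hc, hzdef]; ring
        exact hb (hind _ _ h0).2
      have hdeg2 : 2 ≤ (minpoly K z).natDegree := by
        have h1 := minpoly.natDegree_pos hzK
        have h2' : (minpoly K z).natDegree ≠ 1 := fun h => hznot (minpoly.natDegree_eq_one_iff.mp h)
        omega
      have hdvd : minpoly K z ∣ Q := minpoly.dvd K z hQz
      have hQeq : Q = minpoly K z :=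
        Polynomial.eq_of_monic_of_dvd_of_natDegree_le (minpoly.monic hzK) hQmonic hdvd
          (by rw [hQdeg]; exact hdeg2)
      have hmin : minpoly K z = (minpoly A z).map (algebraMap A K) :=
        minpoly.isIntegrallyClosed_eq_field_fractions' K hzint
      have hc1 : Q.coeff 1 = c₁ := by
        simp [Q, Polynomial.coeff_X, Polynomial.coeff_C, Polynomial.coeff_X_pow]
      have hc0 : Q.coeff 0 = c₀ := by
        simp [Q, Polynomial.coeff_X, Polynomial.coeff_C, Polynomial.coeff_X_pow]
      rw [hQeq, hmin, Polynomial.coeff_map] at hc1 hc0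
      -- a ∈ A
      have ha : ∃ a₀ : A, algebraMap A K a₀ = a := by
        refine ⟨-(i2 * (minpoly A z).coeff 1), ?_⟩
        have h2K : algebraMap A K 2 * algebraMap A K i2 = 1 := by
          rw [← map_mul, hi2, map_one]
        rw [map_neg, map_mul, hc1, hc₁]
        rw [map_ofNat] at h2K
        linear_combination a * h2K
      obtain ⟨a₀, ha₀⟩ := ha
      -- b^2 d ∈ A
      have hbd : ∃ e : A, algebraMap A K e = b ^ 2 * algebraMap A K d := by
        refine ⟨a₀ ^ 2 - (minpoly A z).coeff 0, ?_⟩
        rw [map_sub, map_pow, ha₀, hc0, hc₀]; ring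
      obtain ⟨e, he⟩ := hbd
      refine ⟨⟨a₀, ha₀⟩, ?_⟩
      -- reduced fraction
      obtain ⟨p, q, hpq, hb'⟩ := IsFractionRing.exists_reduced_fraction (A := A) (K := K) b
      have hq0 : (q : A) ≠ 0 := nonZeroDivisors.coe_ne_zero q
      have hqK : algebraMap A K (q : A) ≠ 0 := by
        intro h0
        exact hq0 ((IsFractionRing.injective A K) (by rw [h0, map_zero]))
      have hbq : b * algebraMap A K (q : A) = algebraMap A K p := by
        rw [← hb', IsLocalization.mk'_spec]
      have hdiv : (q : A) ^ 2 ∣ p ^ 2 * d := by
        refine ⟨e, ?_⟩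
        apply IsFractionRing.injective A K
        rw [map_mul, map_mul, map_pow, map_pow, he, ← hbq]; ring
      have hrel : IsRelPrime ((q : A) ^ 2) (p ^ 2) := (hpq.symm).pow
      have hdiv2 : (q : A) ^ 2 ∣ d := hrel.dvd_of_dvd_mul_left hdiv
      have hqunit : IsUnit (q : A) := hd (q : A) (by rw [← pow_two]; exact hdiv2)
      obtain ⟨u, hu⟩ := hqunit
      refine ⟨p * (↑u⁻¹ : A), ?_⟩
      rw [map_mul, ← hbq, ← hu, mul_assoc, ← map_mul, Units.mul_inv, map_one, mul_one]
  · -- A[y] is integral
    apply Algebra.adjoin_le
    intro x hx
    rw [Set.mem_singleton_iff] at hx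
    subst hx
    exact hyint

end Groth.Agent.S18888
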