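import Groth.Statements.S18889
import Mathlib

set_option autoImplicit false
universe u v w
open CAlg

namespace Groth.Agent.S18889

/-- Let R be a commutative ring, A a commutative R-algebra of finite presentation, and G a finite group
acting on A by R-algebra automorphisms such that the order of G is invertible in R. Then the ring of
invariants A^G is an R-algebra of finite presentation. (The source takes G to be a group of
automorphisms of A; here G acts through a possibly non-faithful action, which changes nothing since
the invariants and the invertibility of the order only depend on the image of G.) -/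
theorem result {R : Type u} {A : Type v} [CommRing R] [CommRing A]
    [Algebra R A] [Algebra.FinitePresentation R A]
    {G : Type w} [Group G] [Finite G] [MulSemiringAction G A] [SMulCommClass G R A]
    (hG : IsUnit ((Nat.card G : ℕ) : R)) :
    Algebra.FinitePresentation R (FixedPoints.subalgebra R A G) := by
  classical
  cases nonempty_fintype G
  obtain ⟨s, hs⟩ := (Algebra.FiniteType.out : (⊤ : Subalgebra R A).FG)
  -- index type for the coefficients of the characteristic polynomials
  let d : s → ℕ := fun a => (MulSemiringAction.charpoly G (a : A)).natDegree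
  let ι := Σ a : s, Fin (d a + 1)
  let c : ι → FixedPoints.subalgebra R A G := fun p =>
    ⟨(MulSemiringAction.charpoly G (p.1 : A)).coeff p.2,
      fun g => MulSemiringAction.smul_coeff_charpoly _ _ g⟩
  let ψ : MvPolynomial ι R →ₐ[R] FixedPoints.subalgebra R A G := MvPolynomial.aeval c
  let ψA : MvPolynomial ι R →ₐ[R] A := (FixedPoints.subalgebra R A G).val.comp ψ
  let algF : Algebra (MvPolynomial ι R) (FixedPoints.subalgebra R A G) := ψ.toRingHom.toAlgebra
  let algA : Algebra (MvPolynomial ι R) A := ψA.toRingHom.toAlgebra
  have towF : IsScalarTower R (MvPolynomial ι R) (FixedPoints.subalgebra R A G) :=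
    IsScalarTower.of_algebraMap_eq' ψ.comp_algebraMap.symm
  have towA : IsScalarTower R (MvPolynomial ι R) A :=
    IsScalarTower.of_algebraMap_eq' ψA.comp_algebraMap.symm
  have halgA : ∀ x : MvPolynomial ι R, algebraMap (MvPolynomial ι R) A x = (ψ x : A) := fun x => rfl
  have halgF : ∀ x : MvPolynomial ι R,
      algebraMap (MvPolynomial ι R) (FixedPoints.subalgebra R A G) x = ψ x := fun x => rfl
  have towFA : IsScalarTower (MvPolynomial ι R) (FixedPoints.subalgebra R A G) A :=
    IsScalarTower.of_algebraMap_eq' rfl
  -- integrality of the generators
  have hint : ∀ a : s, IsIntegral (MvPolynomial ι R) (a : A) := by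
    intro a
    have hl : MulSemiringAction.charpoly G (a : A) ∈
        Polynomial.lifts (algebraMap (MvPolynomial ι R) A) := by
      rw [Polynomial.lifts_iff_coeff_lifts]
      intro j
      by_cases hj : j < d a + 1
      · refine ⟨MvPolynomial.X ⟨a, ⟨j, hj⟩⟩, ?_⟩
        rw [halgA]
        change ((MvPolynomial.aeval c (MvPolynomial.X ⟨a, ⟨j, hj⟩⟩) :
          FixedPoints.subalgebra R A G) : A) = _
        rw [MvPolynomial.aeval_X]
      · refine ⟨0, ?_⟩
        rw [map_zero]
        symm
        apply Polynomial.coeff_eq_zero_of_natDegree_lt
        change d a < j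
        omega
    obtain ⟨q, hq1, -, hq2⟩ := Polynomial.lifts_and_natDegree_eq_and_monic hl
      (MulSemiringAction.monic_charpoly G (a : A))
    exact ⟨q, hq2, by rw [← Polynomial.eval_map, hq1, MulSemiringAction.eval_charpoly]⟩
  have hInt : Algebra.IsIntegral (MvPolynomial ι R) A := by
    constructor
    have hle : Algebra.adjoin R (s : Set A) ≤
        (integralClosure (MvPolynomial ι R) A).restrictScalars R := by
      apply Algebra.adjoin_le
      intro a ha
      exact hint ⟨a, ha⟩
    intro x
    have : x ∈ Algebra.adjoin R (s : Set A) := by rw [hs]; trivial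
    exact hle this
  have hFT : Algebra.FiniteType (MvPolynomial ι R) A :=
    Algebra.FiniteType.of_restrictScalars_finiteType R (MvPolynomial ι R) A
  have hFin : Module.Finite (MvPolynomial ι R) A := Algebra.IsIntegral.finite
  have hFP : Algebra.FinitePresentation (MvPolynomial ι R) A :=
    Algebra.FinitePresentation.of_restrict_scalars_finitePresentation R (MvPolynomial ι R) A
  have hMFP : Module.FinitePresentation (MvPolynomial ι R) A :=
    Module.FinitePresentation.of_finite_of_finitePresentation (MvPolynomial ι R) A
  -- the averaging operator
  obtain ⟨u, hu⟩ := hG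
  rw [Nat.card_eq_fintype_card] at hu
  have hcomm : SMulCommClass G (MvPolynomial ι R) A := by
    constructor
    intro g x a
    rw [Algebra.smul_def, smul_mul', Algebra.smul_def, halgA, (ψ x).2 g]
  let avg : A →ₗ[MvPolynomial ι R] A :=
    (algebraMap R (MvPolynomial ι R) ((u⁻¹ : Rˣ) : R)) •
      ∑ g : G, (MulSemiringAction.toAlgHom (MvPolynomial ι R) A g).toLinearMap
  have havg_apply : ∀ a : A, avg a = ((u⁻¹ : Rˣ) : R) • ∑ g : G, g • a := by
    intro a
    simp only [avg, LinearMap.smul_apply, LinearMap.sum_apply, AlgHom.toLinearMap_apply,
      MulSemiringAction.toAlgHom_apply, algebraMap_smul]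
  have havg_mem : ∀ a : A, avg a ∈ FixedPoints.subalgebra R A G := by
    intro a h
    rw [havg_apply, smul_comm, Finset.smul_sum]
    congr 1
    simp only [smul_smul]
    exact Fintype.sum_bijective (fun g => h * g) (Group.mulLeft_bijective h) _ _ (fun _ => rfl)
  have havg_fix : ∀ a : A, a ∈ FixedPoints.subalgebra R A G → avg a = a := by
    intro a ha
    rw [havg_apply]
    have : ∀ g : G, g • a = a := ha
    simp only [this, Finset.sum_const, Finset.card_univ]
    rw [← Nat.cast_smul_eq_nsmul R, smul_smul, ← hu, Units.inv_mul, one_smul]
  let π : A →ₗ[MvPolynomial ι R] FixedPoints.subalgebra R A G :=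
    { toFun := fun a => ⟨avg a, havg_mem a⟩
      map_add' := fun a b => Subtype.ext (by simp only [map_add]; rfl)
      map_smul' := fun x a => Subtype.ext (by
        simp only [map_smul, RingHom.id_apply]
        rw [Algebra.smul_def, Algebra.smul_def, halgA, halgF]
        rfl) }
  have hπ_surj : Function.Surjective π := by
    intro x
    exact ⟨x, Subtype.ext (havg_fix x x.2)⟩
  have hker : (LinearMap.ker π).FG := by
    have : LinearMap.ker π = LinearMap.range (LinearMap.id - avg) := by
      ext a
      rw [LinearMap.mem_ker, LinearMap.mem_range]
      constructor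
      · intro h
        have h' : avg a = 0 := congrArg Subtype.val h
        exact ⟨a, by rw [LinearMap.sub_apply, LinearMap.id_apply, h', sub_zero]⟩
      · rintro ⟨b, rfl⟩
        apply Subtype.ext
        change avg (b - avg b) = 0
        rw [map_sub, havg_fix (avg b) (havg_mem b), sub_self]
    rw [this]
    exact Submodule.fg_range _
  have : Module.FinitePresentation (MvPolynomial ι R) (FixedPoints.subalgebra R A G) :=
    Module.finitePresentation_of_surjective π hπ_surj hker
  have : Algebra.FinitePresentation (MvPolynomial ι R) (FixedPoints.subalgebra R A G) :=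
    Algebra.FinitePresentation.of_finitePresentation _ _
  exact Algebra.FinitePresentation.trans R (MvPolynomial ι R) (FixedPoints.subalgebra R A G)

end Groth.Agent.S18889
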