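import Groth.Statements.S1889
import Groth.Agent.Lib.Helper38.GrpdLib
import Mathlib.AlgebraicGeometry.Morphisms.UniversallyOpen

set_option autoImplicit false
universe u
open CategoryTheory CategoryTheory.Limits AlgebraicGeometry
open Grpd

namespace Groth.Agent.S1889

/-- Let (U, R, s, t, c) be a groupoid scheme over S with U the spectrum of a field, W ⊆ R open and a : Z
→ R a morphism. Then the image of Z ×_{s∘a, U, t} W → R ×_{s,U,t} R → R (composition) is open. (A
groupoid scheme carries U, R, s, t, c, e, i over S with the groupoid axioms on T-points; 'finite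
locally free' is finite, flat and locally of finite presentation; C ⊂ Γ(U) is the ring of functions
a with s♯(a) = t♯(a) and M = Spec C.) -/
theorem result (S : Scheme.{u}) (G : Grpd.GroupoidScheme S) (k : Type u) [Field k] (eU : G.U ≅ Spec (CommRingCat.of k)) (W : G.R.Opens) (Z : Scheme.{u}) (a : Z ⟶ G.R) : IsOpen (Set.range ⇑(pullback.lift (pullback.fst (a ≫ G.s) (W.ι ≫ G.t) ≫ a) (pullback.snd (a ≫ G.s) (W.ι ≫ G.t) ≫ W.ι) ((Category.assoc _ _ _).trans (pullback.condition.trans (Category.assoc _ _ _).symm)) ≫ G.c)) := by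

  -- the base is a point, so every morphism to it is universally open
  have : Subsingleton (Spec (CommRingCat.of k)) := inferInstanceAs (Subsingleton (PrimeSpectrum k))
  have h1 : UniversallyOpen ((a ≫ G.t) ≫ eU.hom) := inferInstance
  have h2 : UniversallyOpen (a ≫ G.t) :=
    (MorphismProperty.cancel_right_of_respectsIso @UniversallyOpen (a ≫ G.t) eU.hom).mp h1
  have h3 : UniversallyOpen (pullback.snd (a ≫ G.t) G.t) :=
    MorphismProperty.pullback_snd (P := @UniversallyOpen) _ _ h2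
  -- the open immersion `Z ×_U W → Z ×_U R`
  let ιW : pullback (a ≫ G.s) (W.ι ≫ G.t) ⟶ pullback (a ≫ G.s) G.t :=
    pullback.map (a ≫ G.s) (W.ι ≫ G.t) (a ≫ G.s) G.t (𝟙 Z) W.ι (𝟙 G.U)
      (by rw [Category.comp_id, Category.id_comp]) (by rw [Category.comp_id])
  have hιW : IsOpenImmersion ιW := inferInstance
  -- the translation `(z, r) ↦ (z, a(z) r)`
  let Φ : pullback (a ≫ G.s) G.t ⟶ pullback (a ≫ G.t) G.t :=
    pullback.lift (pullback.fst (a ≫ G.s) G.t)
      (Groth.Agent.Lib.Helper38.GrpdLib.mul (pullback.fst (a ≫ G.s) G.t ≫ a)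
        (pullback.snd (a ≫ G.s) G.t) (by rw [Category.assoc]; exact pullback.condition))
      (by rw [Groth.Agent.Lib.Helper38.GrpdLib.mul_t, Category.assoc])
  let Ψ : pullback (a ≫ G.t) G.t ⟶ pullback (a ≫ G.s) G.t :=
    pullback.lift (pullback.fst (a ≫ G.t) G.t)
      (Groth.Agent.Lib.Helper38.GrpdLib.mul (pullback.fst (a ≫ G.t) G.t ≫ a ≫ G.i)
        (pullback.snd (a ≫ G.t) G.t)
        (by rw [Category.assoc, Category.assoc, G.i_s]; exact pullback.condition))
      (by rw [Groth.Agent.Lib.Helper38.GrpdLib.mul_t, Category.assoc, Category.assoc, G.i_t])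
  have hΦΨ : Φ ≫ Ψ = 𝟙 _ := by
    apply pullback.hom_ext
    · rw [Category.assoc, pullback.lift_fst, pullback.lift_fst, Category.id_comp]
    · rw [Category.assoc, pullback.lift_snd, Groth.Agent.Lib.Helper38.GrpdLib.comp_mul,
        Category.id_comp]
      have e1 : Φ ≫ pullback.fst (a ≫ G.t) G.t ≫ a ≫ G.i =
          (pullback.fst (a ≫ G.s) G.t ≫ a) ≫ G.i := by
        rw [← Category.assoc, pullback.lift_fst, Category.assoc]
      have e2 : Φ ≫ pullback.snd (a ≫ G.t) G.t =
          Groth.Agent.Lib.Helper38.GrpdLib.mul (pullback.fst (a ≫ G.s) G.t ≫ a)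
            (pullback.snd (a ≫ G.s) G.t) (by rw [Category.assoc]; exact pullback.condition) :=
        pullback.lift_snd _ _ _
      rw [Groth.Agent.Lib.Helper38.GrpdLib.mul_congr e1 e2]
      exact Groth.Agent.Lib.Helper38.GrpdLib.i_mul_mul _ _ _
  have hΨΦ : Ψ ≫ Φ = 𝟙 _ := by
    apply pullback.hom_ext
    · rw [Category.assoc, pullback.lift_fst, pullback.lift_fst, Category.id_comp]
    · rw [Category.assoc, pullback.lift_snd, Groth.Agent.Lib.Helper38.GrpdLib.comp_mul,
        Category.id_comp]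
      have e1 : Ψ ≫ pullback.fst (a ≫ G.s) G.t ≫ a = pullback.fst (a ≫ G.t) G.t ≫ a := by
        rw [← Category.assoc, pullback.lift_fst]
      have e2 : Ψ ≫ pullback.snd (a ≫ G.s) G.t =
          Groth.Agent.Lib.Helper38.GrpdLib.mul ((pullback.fst (a ≫ G.t) G.t ≫ a) ≫ G.i)
            (pullback.snd (a ≫ G.t) G.t)
            (by rw [Category.assoc, Category.assoc, G.i_s]; exact pullback.condition) := by
        rw [pullback.lift_snd]
        exact Groth.Agent.Lib.Helper38.GrpdLib.mul_congr (Category.assoc _ _ _).symm rfl _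
      rw [Groth.Agent.Lib.Helper38.GrpdLib.mul_congr e1 e2]
      exact Groth.Agent.Lib.Helper38.GrpdLib.mul_i_mul _ _
        (by rw [Category.assoc]; exact pullback.condition)
  have hΦiso : IsIso Φ := ⟨Ψ, hΦΨ, hΨΦ⟩
  -- factor the map
  have hfac : pullback.lift (pullback.fst (a ≫ G.s) (W.ι ≫ G.t) ≫ a)
      (pullback.snd (a ≫ G.s) (W.ι ≫ G.t) ≫ W.ι)
      ((Category.assoc _ _ _).trans (pullback.condition.trans (Category.assoc _ _ _).symm)) ≫ G.c =
      ιW ≫ Φ ≫ pullback.snd (a ≫ G.t) G.t := by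
    rw [pullback.lift_snd, Groth.Agent.Lib.Helper38.GrpdLib.comp_mul]
    have e1 : ιW ≫ pullback.fst (a ≫ G.s) G.t ≫ a = pullback.fst (a ≫ G.s) (W.ι ≫ G.t) ≫ a := by
      rw [← Category.assoc, pullback.lift_fst, Category.comp_id]
    have e2 : ιW ≫ pullback.snd (a ≫ G.s) G.t = pullback.snd (a ≫ G.s) (W.ι ≫ G.t) ≫ W.ι :=
      pullback.lift_snd _ _ _
    rw [Groth.Agent.Lib.Helper38.GrpdLib.mul_congr e1 e2]
    rfl
  rw [hfac]
  have hopen : IsOpenMap ⇑(ιW ≫ Φ ≫ pullback.snd (a ≫ G.t) G.t) := by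
    rw [Scheme.Hom.comp_base, Scheme.Hom.comp_base]
    simp only [TopCat.hom_comp, ContinuousMap.coe_comp]
    exact ((pullback.snd (a ≫ G.t) G.t).isOpenMap.comp
      (Φ.homeomorph.isOpenMap)).comp ιW.isOpenEmbedding.isOpenMap
  exact hopen.isOpen_range


end Groth.Agent.S1889
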