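import Groth.Statements.S18890
import Groth.Agent.Lib.Helper95.AvgInvariants

set_option autoImplicit false
universe u v w w'
open CAlg

namespace Groth.Agent.S18890

/-- Let R be a commutative ring, G a finite group whose order is invertible in R, M an R-module with an
R-linear action ρ of G and N an arbitrary R-module. Then the natural map M^G ⊗_R N → M ⊗_R N induced
by the inclusion of the invariants is injective, and its image is the submodule of invariants of M
⊗_R N under the action ρ ⊗ 1 (G acting on the first factor). (The source lets G be a group of
R-automorphisms of M; a possibly non-faithful linear action changes nothing.) -/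
theorem result {R : Type u} [CommRing R]
    {G : Type v} [Group G] [Finite G] (hG : IsUnit ((Nat.card G : ℕ) : R))
    {M : Type w} {N : Type w'} [AddCommGroup M] [Module R M] [AddCommGroup N] [Module R N]
    (ρ : Representation R G M) :
    Function.Injective (LinearMap.rTensor N ρ.invariants.subtype) ∧
      LinearMap.range (LinearMap.rTensor N ρ.invariants.subtype) =
        (ρ.tprod (Representation.trivial R G N)).invariants := by
  classical
  cases nonempty_fintype G
  obtain ⟨u, hu⟩ := hG
  rw [Nat.card_eq_fintype_card] at hu
  set c : R := ((u⁻¹ : Rˣ) : R) with hc
  have hcu : c * (Fintype.card G : R) = 1 := by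
    rw [← hu, hc]; simp
  have hπi := Groth.Agent.Lib.Helper95.avgProj_comp_subtype ρ c hcu
  constructor
  · apply Function.LeftInverse.injective
      (g := LinearMap.rTensor N (Groth.Agent.Lib.Helper95.avgProj ρ c))
    intro x
    rw [← LinearMap.comp_apply, ← LinearMap.rTensor_comp, hπi, LinearMap.rTensor_id,
      LinearMap.id_apply]
  · ext x
    constructor
    · rintro ⟨y, rfl⟩ g
      induction y using TensorProduct.induction_on with
      | zero => simp
      | tmul m n =>
        simp only [LinearMap.rTensor_tmul, Submodule.subtype_apply, Representation.tprod_apply,
          TensorProduct.map_tmul]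
        rw [m.2 g]
        rfl
      | add a b ha hb => rw [map_add, map_add, ha, hb]
    · intro hx
      have hfix : ∀ g : G, LinearMap.rTensor N (ρ g) x = x := by
        intro g
        have := hx g
        rw [Representation.tprod_apply] at this
        exact this
      have havg : LinearMap.rTensor N (Groth.Agent.Lib.Helper95.avgMap ρ c) x = x := by
        have e : LinearMap.rTensor N (Groth.Agent.Lib.Helper95.avgMap ρ c) =
            c • ∑ g : G, LinearMap.rTensor N (ρ g) := by
          rw [Groth.Agent.Lib.Helper95.avgMap, LinearMap.rTensor_smul,
            ← LinearMap.coe_rTensorHom, map_sum]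
        rw [e, LinearMap.smul_apply, LinearMap.sum_apply]
        simp only [hfix, Finset.sum_const, Finset.card_univ]
        rw [← Nat.cast_smul_eq_nsmul R, smul_smul, hcu, one_smul]
      refine ⟨LinearMap.rTensor N (Groth.Agent.Lib.Helper95.avgProj ρ c) x, ?_⟩
      rw [← LinearMap.comp_apply, ← LinearMap.rTensor_comp,
        Groth.Agent.Lib.Helper95.subtype_comp_avgProj, havg]

end Groth.Agent.S18890
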