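import Groth.Statements.S18891
import Mathlib
-- import your own Groth.Agent.* helpers here

set_option autoImplicit false
universe u
open CategoryTheory CategoryTheory.Limits AlgebraicGeometry
open Mor

namespace Groth.Agent.S18891

/-- Let f : X → Y be a morphism of schemes which is proper and formally unramified, and such that for
every algebraically closed field Ω the map X(Ω) → Y(Ω), g ↦ g ≫ f, is injective. Then f is a closed
immersion. -/
theorem result {X Y : Scheme.{u}} (f : X ⟶ Y)
    [IsProper f] [FormallyUnramified f]
    (hinj : ∀ (Ω : Type u) [Field Ω] [IsAlgClosed Ω],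
      Function.Injective (fun g : Spec (CommRingCat.of Ω) ⟶ X => g ≫ f)) :
    IsClosedImmersion f := by
  rw [IsClosedImmersion.iff_isProper_and_mono]
  refine ⟨inferInstance, ?_⟩
  have hsurj : Surjective (pullback.diagonal f) := by
    refine ⟨fun z => ?_⟩
    let K := (pullback f f).residueField z
    let Ω := AlgebraicClosure K
    let φ : Spec (CommRingCat.of Ω) ⟶ pullback f f :=
      Spec.map (CommRingCat.ofHom (algebraMap K Ω)) ≫ (pullback f f).fromSpecResidueField z
    have h1 : φ ≫ pullback.fst f f = φ ≫ pullback.snd f f := by
      apply hinj Ω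
      simp only [Category.assoc, pullback.condition]
    have h2 : φ = (φ ≫ pullback.fst f f) ≫ pullback.diagonal f := by
      apply pullback.hom_ext
      · simp
      · simp [h1]
    obtain ⟨pt⟩ : Nonempty (Spec (CommRingCat.of Ω)) := inferInstance
    refine ⟨(φ ≫ pullback.fst f f) pt, ?_⟩
    rw [← Scheme.Hom.comp_apply, ← h2]
    simp only [φ, Scheme.Hom.comp_apply]
    exact Scheme.fromSpecResidueField_apply _ _
  have hopen : IsOpenImmersion (pullback.diagonal f) := inferInstance
  have hiso : IsIso (pullback.diagonal f) := by
    apply isIso_of_isOpenImmersion_of_opensRange_eq_top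
    apply TopologicalSpace.Opens.ext
    simp only [Scheme.Hom.coe_opensRange, TopologicalSpace.Opens.coe_top]
    exact Set.range_eq_univ.mpr hsurj.surj
  exact (pullback.isIso_diagonal_iff f).mp hiso

end Groth.Agent.S18891
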