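import Groth.Statements.S1890
import Groth.Agent.Lib.Helper38.QAffBasic
import Mathlib.AlgebraicGeometry.IdealSheaf.Subscheme
import Mathlib.AlgebraicGeometry.Morphisms.Separated
open TopologicalSpace

set_option autoImplicit false
universe u
open CategoryTheory CategoryTheory.Limits AlgebraicGeometry
open Grpd

namespace Groth.Agent.S1890

/-- Take a quasi-compact immersion j : V → Spec A and an element f ∈ A such that j⁻¹(D(f)) is affine and
j(V) ∩ V(f) is closed in Spec A. Then V is affine. -/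
theorem result (A : Type u) [CommRing A] (V : Scheme.{u}) (j : V ⟶ Spec (CommRingCat.of A)) [IsImmersion j] [QuasiCompact j] (f : A) (haff : IsAffineOpen (j ⁻¹ᵁ PrimeSpectrum.basicOpen f)) (hcl : IsClosed (Set.range ⇑j ∩ PrimeSpectrum.zeroLocus {f})) : IsAffine V := by
  have hc : CompactSpace V := QuasiCompact.compactSpace_of_compactSpace j
  have hqa : V.IsQuasiAffine := Scheme.IsQuasiAffine.of_isImmersion j
  obtain ⟨f', hf'⟩ : ∃ r : Γ(V, ⊤),
    r = j.appTop ((Scheme.ΓSpecIso (CommRingCat.of A)).inv f) := ⟨_, rfl⟩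
  have hpre : j ⁻¹ᵁ PrimeSpectrum.basicOpen f = V.basicOpen f' := by
    rw [hf', ← Scheme.preimage_basicOpen_top, basicOpen_eq_of_affine]
  rw [hpre] at haff
  -- the projection to `Spec A`
  obtain ⟨π, hπdef⟩ : ∃ q : Spec Γ(V, ⊤) ⟶ Spec (CommRingCat.of A),
    q = Spec.map ((Scheme.ΓSpecIso (CommRingCat.of A)).inv ≫ j.appTop) := ⟨_, rfl⟩
  have hπ : V.toSpecΓ ≫ π = j := by
    rw [hπdef, Spec.map_comp, ← Scheme.toSpecΓ_naturality_assoc, toSpecΓ_SpecMap_ΓSpecIso_inv,
      Category.comp_id]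
  -- the closed complement of `V_{f'}`
  let C : Closeds V := ⟨(V.basicOpen f' : Set V)ᶜ, (V.basicOpen f').2.isClosed_compl⟩
  let I := Scheme.IdealSheafData.vanishingIdeal C
  have hrangeι : Set.range I.subschemeι = (V.basicOpen f' : Set V)ᶜ := by
    rw [Scheme.IdealSheafData.range_subschemeι]
    simp [I, C]
  have hcl1 : IsClosedImmersion (I.subschemeι ≫ j) := by
    apply IsClosedImmersion.of_isPreimmersion
    rw [Scheme.Hom.comp_base, TopCat.coe_comp, Set.range_comp, hrangeι]
    convert hcl using 1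
    have key : ∀ y : PrimeSpectrum A,
        y ∈ PrimeSpectrum.basicOpen f ↔ y ∉ PrimeSpectrum.zeroLocus {f} := fun y => by
      rw [PrimeSpectrum.mem_basicOpen, PrimeSpectrum.mem_zeroLocus, Set.singleton_subset_iff]
      rfl
    have key2 : ∀ v : V, v ∈ V.basicOpen f' ↔ j v ∉ PrimeSpectrum.zeroLocus {f} := fun v => by
      rw [← hpre]; exact key (j v)
    ext y
    constructor
    · rintro ⟨v, hv, rfl⟩
      refine ⟨⟨v, rfl⟩, ?_⟩
      by_contra hcon
      exact hv ((key2 v).mpr hcon)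
    · rintro ⟨⟨v, rfl⟩, hv⟩
      refine ⟨v, ?_, rfl⟩
      intro hmem
      exact (key2 v).mp hmem hv
  have hcl2 : IsClosedImmersion ((I.subschemeι ≫ V.toSpecΓ) ≫ π) := by
    rw [Category.assoc, hπ]; exact hcl1
  have hcl3 : IsClosedImmersion (I.subschemeι ≫ V.toSpecΓ) := IsClosedImmersion.of_comp _ π
  have hZ' : IsClosed (V.toSpecΓ '' (V.basicOpen f' : Set V)ᶜ) := by
    have := (I.subschemeι ≫ V.toSpecΓ).isClosedEmbedding.isClosed_range
    rwa [Scheme.Hom.comp_base, TopCat.coe_comp, Set.range_comp, hrangeι] at this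
  -- surjectivity of `toSpecΓ`
  have hsurj : Function.Surjective V.toSpecΓ := by
    intro t
    by_contra ht
    have ht' : t ∉ Set.range V.toSpecΓ := ht
    have htZ : t ∈ (V.toSpecΓ '' (V.basicOpen f' : Set V)ᶜ)ᶜ := by
      intro hmem
      exact ht' (Set.image_subset_range _ _ hmem)
    obtain ⟨_, ⟨_, ⟨g, rfl⟩, rfl⟩, htg, hgZ⟩ :=
      PrimeSpectrum.isBasis_basic_opens.exists_subset_of_mem_open
      htZ hZ'.isOpen_compl
    have hle : V.basicOpen g ≤ V.basicOpen f' := by
      intro v hv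
      by_contra hcon
      have h1 : v ∈ V.toSpecΓ ⁻¹ᵁ PrimeSpectrum.basicOpen g := by
        rw [Scheme.toSpecΓ_preimage_basicOpen]; exact hv
      exact hgZ h1 ⟨v, hcon, rfl⟩
    have haffg : IsAffineOpen (V.basicOpen g) := by
      have h1 := haff.basicOpen (V.presheaf.map (homOfLE le_top).op g)
      rw [Scheme.basicOpen_res] at h1
      rwa [inf_eq_right.mpr hle] at h1
    exact ht' (Groth.Agent.Lib.Helper38.QAffBasic.basicOpen_subset_range_toSpecΓ V g haffg htg)
  have hepi : Epi V.toSpecΓ.base := (TopCat.epi_iff_surjective _).mpr hsurj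
  have hiso : IsIso V.toSpecΓ := IsOpenImmersion.isIso _
  exact ⟨hiso⟩


end Groth.Agent.S1890
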