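import Groth.Statements.S18900
import Groth.Agent.Lib.Helper79.DblCovGlue
import Groth.Agent.Lib.Helper79.QuotAffineCrit

set_option autoImplicit false
universe u
open CategoryTheory CategoryTheory.Limits AlgebraicGeometry
open DblCov

namespace Groth.Agent.S18900

/-- Let f : X → Y be a double cover, i.e. a finite, flat, locally finitely presented morphism of rank 2
at every point, and assume 2 is invertible in O_Y(Y). Then X carries a Y-automorphism σ with σ ∘ σ =
id such that f is the quotient of X by the group generated by σ: f is affine and σ-invariant, and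
over every open subset of Y the sections of O_Y are exactly the σ-invariant sections of O_X. (The
source adds that σ has order exactly 2, which holds as soon as X is non-empty.) -/
theorem result {X Y : Scheme.{u}} (f : X ⟶ Y)
    [IsFinite f] [Flat f] [LocallyOfFinitePresentation f] (hrk : ∀ y : Y, f.finrank y = 2)
    (h2 : IsUnit (2 : Γ(Y, ⊤))) :
    ∃ σ : Aut X, σ.hom ≫ f = f ∧ σ * σ = 1 ∧ SGA1.IsQuot (Subgroup.zpowers σ).subtype f := by
  classical
  have : IsAffineHom f := inferInstance
  obtain ⟨σ, hσ⟩ := Groth.Agent.Lib.Helper79.DblCovGlue.exists_sigma f hrk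
  have hσf : σ ≫ f = f :=
    Groth.Agent.Lib.Helper79.DblCovGlue.hom_ext_good f hrk _ _ (fun U hU => by
      rw [← Category.assoc, hσ U hU, Category.assoc,
        Groth.Agent.Lib.Helper79.DblCovGlue.sigmaU_ι_f])
  have hσσ : σ ≫ σ = 𝟙 X :=
    Groth.Agent.Lib.Helper79.DblCovGlue.hom_ext_good f hrk _ _ (fun U hU => by
      rw [← Category.assoc, hσ U hU, Category.assoc, hσ U hU, ← Category.assoc,
        Groth.Agent.Lib.Helper79.DblCovGlue.sigmaU_sigmaU, Category.id_comp, Category.comp_id])
  let s : Aut X := ⟨σ, σ, hσσ, hσσ⟩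
  have hss : s * s = 1 := by
    apply Iso.ext
    exact hσσ
  refine ⟨s, hσf, hss, ?_⟩
  have : Finite (Subgroup.zpowers s) := by
    have h1 : IsOfFinOrder s := isOfFinOrder_iff_pow_eq_one.mpr ⟨2, by norm_num, by
      rw [pow_two]; exact hss⟩
    exact (finite_zpowers.mpr h1).to_subtype
  -- invariance
  let H : Subgroup (Aut X) :=
    { carrier := {g | g.hom ≫ f = f}
      one_mem' := Category.id_comp f
      mul_mem' := fun {a b} ha hb => by
        show (b.hom ≫ a.hom) ≫ f = f
        rw [Category.assoc, ha, hb]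
      inv_mem' := fun {a} ha => by
        have ha' : Iso.hom (show X ≅ X from a) ≫ f = f := ha
        show Iso.inv (show X ≅ X from a) ≫ f = f
        exact (congrArg (fun k => Iso.inv (show X ≅ X from a) ≫ k) ha').symm.trans
          ((Category.assoc _ _ _).symm.trans
            ((congrArg (fun k => k ≫ f) (Iso.inv_hom_id (show X ≅ X from a))).trans
              (Category.id_comp f))) }
  have hH : Subgroup.zpowers s ≤ H := Subgroup.zpowers_le.mpr hσf
  have hinv : ∀ g : Subgroup.zpowers s, ((Subgroup.zpowers s).subtype g).hom ≫ f = f :=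
    fun g => hH g.2
  refine Groth.Agent.Lib.Helper79.QuotAffineCrit.isQuot_of_affine_cover _ f hinv
    (fun k : {U : Y.Opens // Groth.Agent.Lib.Helper79.DblCovLoc.Good f U} => k.1) ?_
    (fun k => k.2.1) (fun k => k.2.preimage f)
    (fun k => Groth.Agent.Lib.Helper79.DblCovAlg.injective_of_hasBasis2 _ k.2.2) ?_
  · rw [eq_top_iff]
    intro y _
    obtain ⟨U, hU, hyU, -⟩ := Groth.Agent.Lib.Helper79.DblCovLoc.exists_good f hrk y ⊤ trivial
    exact TopologicalSpace.Opens.mem_iSup.2 ⟨⟨U, hU⟩, hyU⟩
  · intro k b hb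
    have h2' : IsUnit (2 : Γ(Y, k.1)) := by
      have := h2.map (Y.presheaf.map (homOfLE (le_top : k.1 ≤ ⊤)).op).hom
      rwa [map_ofNat] at this
    have h3 := hb ⟨s, Subgroup.mem_zpowers s⟩
    have h4 := Groth.Agent.Lib.Helper79.DblCovGlue.appLE_eq_tau f k.2 σ (hσ k.1 k.2)
      (SGA1.preimage_le_of_inv (Subgroup.zpowers s).subtype f hinv ⟨s, Subgroup.mem_zpowers s⟩ k.1)
    have h5 : Groth.Agent.Lib.Helper79.DblCovAlg.tauHom (f.app k.1).hom k.2.2 b = b := by
      have h6 := congrArg (fun m => m.hom b) h4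
      exact h6.symm.trans h3
    exact Groth.Agent.Lib.Helper79.DblCovAlg.mem_range_of_tauHom_eq _ k.2.2 h2' b h5

end Groth.Agent.S18900
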