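import Groth.Statements.S18905
import Mathlib

set_option autoImplicit false
universe u
open CategoryTheory CategoryTheory.Limits AlgebraicGeometry
open Mor

namespace Groth.Agent.S18905

theorem subsingleton_of_forall_maximal {R M : Type*} [CommRing R] [AddCommGroup M] [Module R M]
    [Module.Finite R M]
    (h : ∀ m : Ideal R, m.IsMaximal → m • (⊤ : Submodule R M) = ⊤) : Subsingleton M := by
  by_contra hM
  rw [not_subsingleton_iff_nontrivial] at hM
  have hann : Module.annihilator R M ≠ ⊤ := by
    intro htop
    have h1 : (1 : R) ∈ Module.annihilator R M := by rw [htop]; trivial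
    rw [Module.mem_annihilator] at h1
    obtain ⟨x, hx⟩ := exists_ne (0 : M)
    exact hx (by simpa using h1 x)
  obtain ⟨m, hm, hle⟩ := Ideal.exists_le_maximal _ hann
  obtain ⟨r, hr1, hr2⟩ := Submodule.exists_sub_one_mem_and_smul_eq_zero_of_fg_of_le_smul m
    (⊤ : Submodule R M) Module.Finite.fg_top (h m hm).ge
  have hr : r ∈ Module.annihilator R M := by
    rw [Module.mem_annihilator]
    intro x
    exact hr2 x trivial
  have h1 : (1 : R) ∈ m := by
    have := m.sub_mem (hle hr) hr1
    simpa using this
  exact hm.ne_top ((Ideal.eq_top_iff_one m).mpr h1)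

theorem unram_of_dual {k R : Type u} [Field k] [IsAlgClosed k] [CommRing R] [Algebra k R]
    [Algebra.FiniteType k R]
    (H : ∀ g₁ g₂ : R →ₐ[k] DualNumber k, (∀ r, (g₁ r).fst = (g₂ r).fst) → g₁ = g₂) :
    Algebra.FormallyUnramified k R := by
  constructor
  apply subsingleton_of_forall_maximal (R := R)
  intro m hm
  by_contra hne
  -- the character
  let _ifield : Field (R ⧸ m) := Ideal.Quotient.field m
  have _ifin : Module.Finite k (R ⧸ m) := finite_of_finite_type_of_isJacobsonRing k (R ⧸ m)
  have hbij : Function.Bijective (algebraMap k (R ⧸ m)) :=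
    IsAlgClosed.algebraMap_bijective_of_isIntegral
  let e : k ≃ₐ[k] (R ⧸ m) := AlgEquiv.ofBijective (Algebra.ofId k (R ⧸ m)) hbij
  let χ : R →ₐ[k] k := (e.symm : (R ⧸ m) →ₐ[k] k).comp (Ideal.Quotient.mkₐ k m)
  have hχ : ∀ r : R, r - algebraMap k R (χ r) ∈ m := by
    intro r
    rw [← Ideal.Quotient.eq_zero_iff_mem, map_sub, sub_eq_zero]
    have : e (χ r) = Ideal.Quotient.mk m r := by
      change e (e.symm (Ideal.Quotient.mk m r)) = _
      exact e.apply_symm_apply _
    rw [← this]
    rfl
  -- the quotient
  let Q := Ω[R⁄k] ⧸ (m • (⊤ : Submodule R Ω[R⁄k]))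
  have hQ : Nontrivial Q := by
    rw [Submodule.Quotient.nontrivial_iff]
    exact hne
  obtain ⟨x, hx⟩ := exists_ne (0 : Q)
  obtain ⟨ℓ, hℓ⟩ : ∃ ℓ : Q →ₗ[k] k, ℓ x ≠ 0 := by
    by_contra hcon
    push Not at hcon
    exact hx ((Module.forall_dual_apply_eq_zero_iff k x).mp hcon)
  have hsm : ∀ (a : R) (y : Q), a • y = (χ a) • y := by
    intro a y
    obtain ⟨ω, rfl⟩ := Submodule.mkQ_surjective _ y
    have h1 : (a - algebraMap k R (χ a)) • ω ∈ m • (⊤ : Submodule R Ω[R⁄k]) :=
      Submodule.smul_mem_smul (hχ a) trivial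
    have h2 := (Submodule.Quotient.mk_eq_zero _).mpr h1
    rw [sub_smul, Submodule.Quotient.mk_sub, sub_eq_zero] at h2
    rw [Submodule.mkQ_apply, ← Submodule.Quotient.mk_smul, h2, algebraMap_smul,
      Submodule.Quotient.mk_smul]
  let mk : Ω[R⁄k] →ₗ[R] Q := Submodule.mkQ _
  let D : R →ₗ[k] k := ℓ.comp ((mk.restrictScalars k).comp (KaehlerDifferential.D k R).toLinearMap)
  have hD : ∀ a b : R, D (a * b) = χ a * D b + χ b * D a := by
    intro a b
    change ℓ (mk (KaehlerDifferential.D k R (a * b))) = _
    rw [Derivation.leibniz, map_add, map_smul, map_smul, hsm, hsm, map_add, map_smul, map_smul]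
    rfl
  have hD1 : D 1 = 0 := by
    change ℓ (mk (KaehlerDifferential.D k R 1)) = 0
    rw [Derivation.map_one_eq_zero, map_zero, map_zero]
  let φ₁ : R →ₗ[k] DualNumber k :=
    (Algebra.linearMap k (DualNumber k)).comp χ.toLinearMap + (TrivSqZeroExt.inrHom k k).comp D
  let g₁ : R →ₐ[k] DualNumber k := AlgHom.ofLinearMap φ₁
    (by
      apply TrivSqZeroExt.ext
      · simp [φ₁, TrivSqZeroExt.algebraMap_eq_inl]
      · simp [φ₁, hD1, TrivSqZeroExt.algebraMap_eq_inl])
    (by
      intro a b
      apply TrivSqZeroExt.ext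
      · simp [φ₁, TrivSqZeroExt.algebraMap_eq_inl]
      · simp [φ₁, hD, TrivSqZeroExt.algebraMap_eq_inl]
        ring)
  let g₂ : R →ₐ[k] DualNumber k := (Algebra.ofId k (DualNumber k)).comp χ
  have h12 := H g₁ g₂ (by
    intro r
    simp [g₁, g₂, φ₁, Algebra.ofId_apply, TrivSqZeroExt.algebraMap_eq_inl])
  have hD0 : ∀ r, D r = 0 := by
    intro r
    have := congrArg TrivSqZeroExt.snd (AlgHom.congr_fun h12 r)
    simpa [g₁, g₂, φ₁, Algebra.ofId_apply, TrivSqZeroExt.algebraMap_eq_inl] using this
  have hzero : ∀ ω : Ω[R⁄k], ℓ (mk ω) = 0 := by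
    intro ω
    have hω : ω ∈ Submodule.span R (Set.range (KaehlerDifferential.D k R)) := by
      rw [KaehlerDifferential.span_range_derivation]; trivial
    induction hω using Submodule.span_induction with
    | mem y hy =>
      obtain ⟨r, rfl⟩ := hy
      exact hD0 r
    | zero => simp
    | add y z _ _ hy hz => rw [map_add, map_add, hy, hz, add_zero]
    | smul a y _ hy => rw [map_smul, hsm, map_smul, hy, smul_zero]
  obtain ⟨ω, rfl⟩ := Submodule.mkQ_surjective _ x
  exact hℓ (hzero ω)


/-- Let k be an algebraically closed field and X a scheme locally of finite type over k. Then X → Spec k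
is formally unramified if and only if the map Hom_k(Spec k[ε], X) → Hom_k(Spec k, X) given by
restricting along the closed immersion of Spec k into Spec k[ε] (k[ε] the ring of dual numbers, ε ↦
0), is bijective; since that map is always surjective, the condition is stated as injectivity: two
k-morphisms from Spec k[ε] to X which agree on Spec k are equal. -/
theorem result (k : Type u) [Field k] [IsAlgClosed k]
    {X : Scheme.{u}} (p : X ⟶ Spec (CommRingCat.of k)) [LocallyOfFiniteType p] :
    FormallyUnramified p ↔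
      ∀ v₁ v₂ : Spec (CommRingCat.of (DualNumber k)) ⟶ X,
        v₁ ≫ p = Spec.map (CommRingCat.ofHom (algebraMap k (DualNumber k))) →
        v₂ ≫ p = Spec.map (CommRingCat.ofHom (algebraMap k (DualNumber k))) →
        Spec.map (CommRingCat.ofHom (TrivSqZeroExt.fstHom k k k).toRingHom) ≫ v₁ =
          Spec.map (CommRingCat.ofHom (TrivSqZeroExt.fstHom k k k).toRingHom) ≫ v₂ →
        v₁ = v₂ := by
  constructor
  · intro hfu v₁ v₂ h₁ h₂ h₁₂
    have hsurj : Function.Surjective (CommRingCat.ofHom (TrivSqZeroExt.fstHom k k k).toRingHom) := by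
      intro a
      exact ⟨TrivSqZeroExt.inl a, rfl⟩
    have hcl : IsClosedImmersion
        (Spec.map (CommRingCat.ofHom (TrivSqZeroExt.fstHom k k k).toRingHom)) :=
      IsClosedImmersion.spec_of_surjective _ hsurj
    refine FormallyUnramified.hom_ext
      (Spec.map (CommRingCat.ofHom (TrivSqZeroExt.fstHom k k k).toRingHom)) ?_ p h₁₂
      (h₁.trans h₂.symm)
    refine ⟨2, ?_⟩
    apply Scheme.IdealSheafData.ext_of_isAffine
    rw [Scheme.IdealSheafData.ideal_pow, Pi.pow_apply, Scheme.Hom.ker_apply]
    change _ = (⊥ : Ideal _)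
    rw [eq_bot_iff, pow_two, Ideal.mul_le]
    intro x hx y hy
    rw [Ideal.mem_bot]
    rw [RingHom.mem_ker] at hx hy
    -- transport to the dual numbers
    let e := Scheme.ΓSpecIso (CommRingCat.of (DualNumber k))
    have key : ∀ z : Γ(Spec (CommRingCat.of (DualNumber k)), ⊤),
        ((Spec.map (CommRingCat.ofHom (TrivSqZeroExt.fstHom k k k).toRingHom)).app ⊤).hom z = 0 →
        TrivSqZeroExt.fst (e.hom.hom z) = 0 := by
      intro z hz
      have hnat := Scheme.ΓSpecIso_naturality
        (CommRingCat.ofHom (TrivSqZeroExt.fstHom k k k).toRingHom)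
      have h1 := congrArg (fun f => f.hom z) hnat
      simp only [CommRingCat.hom_comp, RingHom.comp_apply] at h1
      have hz' : ((Spec.map (CommRingCat.ofHom (TrivSqZeroExt.fstHom k k k).toRingHom)).appTop).hom z
          = 0 := hz
      rw [hz', map_zero] at h1
      exact h1.symm
    have hx' := key x hx
    have hy' := key y hy
    have hinj : Function.Injective e.hom.hom := by
      have := (ConcreteCategory.bijective_of_isIso e.hom).1
      exact this
    apply hinj
    rw [map_mul, map_zero]
    apply TrivSqZeroExt.ext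
    · simp [hx']
    · simp [hx', hy']
  · intro H
    rw [HasRingHomProperty.iff_of_source_openCover (P := @FormallyUnramified) X.affineCover]
    intro i
    have hft : LocallyOfFiniteType p := inferInstance
    rw [HasRingHomProperty.iff_of_source_openCover (P := @LocallyOfFiniteType) X.affineCover] at hft
    have hfti := hft i
    set Z := X.affineCover.X i with hZ
    set q : Z ⟶ Spec (CommRingCat.of k) := X.affineCover.f i ≫ p with hq
    let ψ : CommRingCat.of k ⟶ Γ(Z, ⊤) := (Scheme.ΓSpecIso (CommRingCat.of k)).inv ≫ q.appTop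
    have hQ1 : RingHom.FormallyUnramified q.appTop.hom ↔ RingHom.FormallyUnramified ψ.hom := by
      have := RingHom.FormallyUnramified.respectsIso.cancel_left_isIso
        (Scheme.ΓSpecIso (CommRingCat.of k)).inv q.appTop
      exact this.symm
    have hQ2 : RingHom.FiniteType q.appTop.hom ↔ RingHom.FiniteType ψ.hom := by
      have := RingHom.finiteType_respectsIso.cancel_left_isIso
        (Scheme.ΓSpecIso (CommRingCat.of k)).inv q.appTop
      exact this.symm
    rw [hQ1]
    have hψft := hQ2.mp hfti
    have hqψ : Z.isoSpec.inv ≫ q = Spec.map ψ := by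
      rw [← Scheme.isoSpec_inv_naturality, Scheme.isoSpec_Spec_inv, ← Spec.map_comp]
    letI : Algebra k Γ(Z, ⊤) := ψ.hom.toAlgebra
    have : Algebra.FiniteType k Γ(Z, ⊤) := hψft
    change Algebra.FormallyUnramified k Γ(Z, ⊤)
    apply unram_of_dual
    intro g₁ g₂ hg
    have hcomp : ∀ g : Γ(Z, ⊤) →ₐ[k] DualNumber k,
        (Spec.map (CommRingCat.ofHom g.toRingHom) ≫ Z.isoSpec.inv ≫ X.affineCover.f i) ≫ p =
          Spec.map (CommRingCat.ofHom (algebraMap k (DualNumber k))) := by
      intro g
      rw [Category.assoc, Category.assoc, ← hq, hqψ, ← Spec.map_comp]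
      congr 1
      apply CommRingCat.hom_ext
      apply RingHom.ext
      intro a
      exact g.commutes a
    have hfst : Spec.map (CommRingCat.ofHom (TrivSqZeroExt.fstHom k k k).toRingHom) ≫
        Spec.map (CommRingCat.ofHom g₁.toRingHom) =
        Spec.map (CommRingCat.ofHom (TrivSqZeroExt.fstHom k k k).toRingHom) ≫
        Spec.map (CommRingCat.ofHom g₂.toRingHom) := by
      rw [← Spec.map_comp, ← Spec.map_comp]
      congr 1
      apply CommRingCat.hom_ext
      apply RingHom.ext
      intro r
      exact hg r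
    have h12 := H _ _ (hcomp g₁) (hcomp g₂) (by
      simpa only [Category.assoc] using
        congrArg (· ≫ (Z.isoSpec.inv ≫ X.affineCover.f i)) hfst)
    have hmono : Mono (Z.isoSpec.inv ≫ X.affineCover.f i) := inferInstance
    rw [cancel_mono] at h12
    have h3 := Spec.map_injective h12
    apply AlgHom.ext
    intro r
    exact congrArg (fun f => f.hom r) h3

end Groth.Agent.S18905
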