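import Groth.Statements.S18908
import Mathlib
-- import your own Groth.Agent.* helpers here

set_option autoImplicit false
universe u v w
open scoped TensorProduct
open CAlg

namespace Groth.Agent.S18908

/-- Let K ⊇ k be a finite field extension of degree n and Ω ⊇ k an algebraically closed extension. Then
K is separable over k if and only if Ω ⊗_k K is isomorphic, as an Ω-algebra, to the product of n
copies of Ω. (The source says 'for every (some) algebraically closed extension Ω'; the equivalence
is stated for each fixed Ω, which gives both readings.) -/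
theorem result (k : Type u) (K : Type v) (Ω : Type w)
    [Field k] [Field K] [Algebra k K] [FiniteDimensional k K]
    [Field Ω] [Algebra k Ω] [IsAlgClosed Ω] :
    Algebra.IsSeparable k K ↔ Nonempty ((Ω ⊗[k] K) ≃ₐ[Ω] (Fin (Module.finrank k K) → Ω)) := by
  classical
  have : Finite (K →ₐ[k] Ω) := inferInstance
  constructor
  · intro hsep
    have hcard : Nat.card (K →ₐ[k] Ω) = Module.finrank k K := by
      rw [← Field.finSepDegree_eq_of_isAlgClosed k K Ω]
      exact (Field.finSepDegree_eq_finrank_iff k K).mpr hsep
    obtain ⟨σ⟩ : Nonempty (Fin (Module.finrank k K) ≃ (K →ₐ[k] Ω)) := by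
      haveI := Fintype.ofFinite (K →ₐ[k] Ω)
      exact ⟨(Fintype.equivFinOfCardEq (by rw [← Nat.card_eq_fintype_card, hcard])).symm⟩
    let ρ : Fin (Module.finrank k K) → (Ω ⊗[k] K →ₐ[Ω] Ω) := fun i =>
      Algebra.TensorProduct.productLeftAlgHom (AlgHom.id Ω Ω) (σ i)
    let Φ : Ω ⊗[k] K →ₐ[Ω] (Fin (Module.finrank k K) → Ω) := AlgHom.pi ρ
    have hΦ : ∀ (x : K) i, Φ (1 ⊗ₜ x) i = σ i x := by
      intro x i
      simp [Φ, ρ]
    have hsurj : Function.Surjective Φ := by
      rw [← AlgHom.coe_toLinearMap, ← LinearMap.range_eq_top]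
      by_contra hne
      obtain ⟨f, hf0, hf⟩ := Submodule.exists_le_ker_of_lt_top _ (lt_top_iff_ne_top.mpr hne)
      apply hf0
      have hli := linearIndependent_toLinearMap k K Ω
      rw [linearIndependent_iff'] at hli
      have hzero : ∑ i ∈ (Finset.univ : Finset (Fin (Module.finrank k K))).map σ.toEmbedding,
          (f (Pi.single (σ.symm i) 1)) • (AlgHom.toLinearMap i : K →ₗ[k] Ω) = 0 := by
        rw [Finset.sum_map]
        ext x
        simp only [Equiv.coe_toEmbedding, Equiv.symm_apply_apply, LinearMap.coe_sum, Finset.sum_apply, LinearMap.smul_apply,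
          AlgHom.toLinearMap_apply, LinearMap.zero_apply]
        have hx : f (Φ.toLinearMap (1 ⊗ₜ x)) = 0 := hf (LinearMap.mem_range_self _ _)
        have hdec : Φ.toLinearMap ((1 : Ω) ⊗ₜ[k] x) = ∑ i, (σ i x) • (Pi.single i (1 : Ω) : Fin (Module.finrank k K) → Ω) := by
          ext j
          simp only [AlgHom.toLinearMap_apply, hΦ, Finset.sum_apply, Pi.smul_apply, Pi.single_apply, smul_eq_mul, mul_ite, mul_one, mul_zero]
          simp
        rw [hdec, map_sum] at hx
        simp only [map_smul, smul_eq_mul] at hx
        rw [← hx]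
        refine Finset.sum_congr rfl fun i _ => ?_
        ring
      have hall := hli _ _ hzero
      apply LinearMap.ext
      intro v
      have hv : v = ∑ i, v i • (Pi.single i (1 : Ω) : Fin (Module.finrank k K) → Ω) := by
        ext j
        simp [Finset.sum_apply, Pi.single_apply]
      rw [hv, map_sum]
      simp only [map_smul, LinearMap.zero_apply]
      refine Finset.sum_eq_zero fun i _ => ?_
      have := hall (σ i) (by simp)
      simp only [Equiv.symm_apply_apply] at this
      rw [this, smul_zero]
    have hfr : Module.finrank Ω (Ω ⊗[k] K) = Module.finrank Ω (Fin (Module.finrank k K) → Ω) := by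
      rw [Module.finrank_baseChange]; simp
    have hinj : Function.Injective Φ := by
      have := (LinearMap.injective_iff_surjective_of_finrank_eq_finrank hfr (f := Φ.toLinearMap)).mpr hsurj
      exact this
    exact ⟨AlgEquiv.ofBijective Φ ⟨hinj, hsurj⟩⟩
  · rintro ⟨e⟩
    let ρ : Fin (Module.finrank k K) → (Ω ⊗[k] K →ₐ[Ω] Ω) := fun i =>
      (Pi.evalAlgHom Ω (fun _ => Ω) i).comp e.toAlgHom
    let σ : Fin (Module.finrank k K) → (K →ₐ[k] Ω) := fun i =>
      ((ρ i).restrictScalars k).comp Algebra.TensorProduct.includeRight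
    have hσ : Function.Injective σ := by
      intro i j hij
      have h1 : ρ i = ρ j := by
        apply Algebra.TensorProduct.ext'
        intro a x
        have hx : σ i x = σ j x := by rw [hij]
        have ha : (a ⊗ₜ[k] x : Ω ⊗[k] K) = a • ((1 : Ω) ⊗ₜ[k] x) := by
          rw [TensorProduct.smul_tmul', smul_eq_mul, mul_one]
        rw [ha, map_smul, map_smul]
        congr 1
      have h2 : ρ i (e.symm (Pi.single i 1)) = ρ j (e.symm (Pi.single i 1)) := by rw [h1]
      simp only [ρ, AlgHom.comp_apply, Pi.evalAlgHom_apply] at h2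
      by_contra hne
      simp [hne] at h2
    have h1 : Module.finrank k K ≤ Nat.card (K →ₐ[k] Ω) := by
      have := Nat.card_le_card_of_injective σ hσ
      simpa using this
    rw [← Field.finSepDegree_eq_of_isAlgClosed k K Ω] at h1
    exact (Field.finSepDegree_eq_finrank_iff k K).mp (le_antisymm (Field.finSepDegree_le_finrank k K) h1)

end Groth.Agent.S18908
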