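import Groth.Statements.S1891
import Groth.Agent.S1889
import Groth.Agent.Lib.Helper38.GrpdHom

set_option autoImplicit false
universe u
open CategoryTheory CategoryTheory.Limits AlgebraicGeometry
open Grpd

namespace Groth.Agent.S1891

/-- Let (U, R₁, s₁, t₁, c₁) and (U, R₂, s₂, t₂, c₂) be groupoid schemes over S on the same U = Spec k, k
a field, and a : R₁ → R₂ a morphism of groupoid schemes over the identity of U (here: over an
isomorphism on objects). If a(R₁) is open in R₂ then it is closed. (A groupoid scheme carries U, R,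
s, t, c, e, i over S with the groupoid axioms on T-points; 'finite locally free' is finite, flat and
locally of finite presentation; C ⊂ Γ(U) is the ring of functions a with s♯(a) = t♯(a) and M = Spec
C.) -/
theorem result (S : Scheme.{u}) (G₁ G₂ : Grpd.GroupoidScheme S) (k : Type u) [Field k] (eU : G₂.U ≅ Spec (CommRingCat.of k)) (a : Grpd.GroupoidScheme.Hom G₁ G₂) [IsIso a.fU] (hopen : IsOpen (Set.range ⇑a.fR)) : IsClosed (Set.range ⇑a.fR) := by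

  rw [← isOpen_compl_iff, isOpen_iff_forall_mem_open]
  intro r hr
  let W : G₂.R.Opens := ⟨Set.range ⇑a.fR, hopen⟩
  have hW : ∀ x, x ∈ W ↔ x ∈ Set.range ⇑a.fR := fun x => Iff.rfl
  set ρ := G₂.R.fromSpecResidueField r with hρ
  have hρr : ∀ z, ρ z = r := fun z => Scheme.fromSpecResidueField_apply _ _
  -- the open set `r · W`
  let m := pullback.lift (pullback.fst (ρ ≫ G₂.s) (W.ι ≫ G₂.t) ≫ ρ)
    (pullback.snd (ρ ≫ G₂.s) (W.ι ≫ G₂.t) ≫ W.ι)
    ((Category.assoc _ _ _).trans (pullback.condition.trans (Category.assoc _ _ _).symm)) ≫ G₂.c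
  have hm : m = Groth.Agent.Lib.Helper38.GrpdLib.mul
      (pullback.fst (ρ ≫ G₂.s) (W.ι ≫ G₂.t) ≫ ρ)
      (pullback.snd (ρ ≫ G₂.s) (W.ι ≫ G₂.t) ≫ W.ι)
      ((Category.assoc _ _ _).trans (pullback.condition.trans (Category.assoc _ _ _).symm)) := rfl
  have hVopen : IsOpen (Set.range ⇑m) := Groth.Agent.S1889.result S G₂ k eU W _ ρ
  refine ⟨Set.range ⇑m, ?_, hVopen, ?_⟩
  · -- `r · W` is disjoint from `W`
    rintro x ⟨ξ, hξ⟩ ⟨y, hy⟩
    apply hr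
    obtain ⟨t₁, ht₁ξ, ht₁y⟩ := Scheme.Pullback.exists_preimage_pullback (f := m) (g := a.fR) ξ y
      (hξ.trans hy.symm)
    have hcond₁ : pullback.fst m a.fR ≫ Groth.Agent.Lib.Helper38.GrpdLib.mul
        (pullback.fst (ρ ≫ G₂.s) (W.ι ≫ G₂.t) ≫ ρ)
        (pullback.snd (ρ ≫ G₂.s) (W.ι ≫ G₂.t) ≫ W.ι)
        ((Category.assoc _ _ _).trans (pullback.condition.trans (Category.assoc _ _ _).symm)) =
        pullback.snd m a.fR ≫ a.fR := pullback.condition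
    let wT : pullback m a.fR ⟶ G₂.R :=
      pullback.fst m a.fR ≫ pullback.snd (ρ ≫ G₂.s) (W.ι ≫ G₂.t) ≫ W.ι
    have hw₁ : wT t₁ ∈ Set.range ⇑a.fR := by
      change (pullback.fst m a.fR ≫ pullback.snd (ρ ≫ G₂.s) (W.ι ≫ G₂.t) ≫ W.ι) t₁ ∈ _
      rw [← Category.assoc, Scheme.Hom.comp_apply]
      exact (hW _).mp ((pullback.fst m a.fR ≫ pullback.snd (ρ ≫ G₂.s) (W.ι ≫ G₂.t)) t₁).2
    obtain ⟨y'₀, hy'₀⟩ := hw₁
    obtain ⟨t₂, ht₂, -⟩ := Scheme.Pullback.exists_preimage_pullback (f := wT) (g := a.fR) t₁ y'₀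
      hy'₀.symm
    have hcond₂ : pullback.fst wT a.fR ≫ wT = pullback.snd wT a.fR ≫ a.fR := pullback.condition
    let ρ₂ : pullback wT a.fR ⟶ G₂.R :=
      pullback.fst wT a.fR ≫ pullback.fst m a.fR ≫ pullback.fst (ρ ≫ G₂.s) (W.ι ≫ G₂.t) ≫ ρ
    have hρ₂s : ρ₂ ≫ G₂.s = (pullback.snd wT a.fR ≫ a.fR) ≫ G₂.t := by
      rw [← hcond₂]
      change (pullback.fst wT a.fR ≫ pullback.fst m a.fR ≫
        pullback.fst (ρ ≫ G₂.s) (W.ι ≫ G₂.t) ≫ ρ) ≫ G₂.s =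
        (pullback.fst wT a.fR ≫ pullback.fst m a.fR ≫
          pullback.snd (ρ ≫ G₂.s) (W.ι ≫ G₂.t) ≫ W.ι) ≫ G₂.t
      simp only [Category.assoc]
      congr 2
      exact pullback.condition
    -- `ρ₂ · a(y') = a(y₂)`
    have key : Groth.Agent.Lib.Helper38.GrpdLib.mul ρ₂ (pullback.snd wT a.fR ≫ a.fR) hρ₂s =
        (pullback.fst wT a.fR ≫ pullback.snd m a.fR) ≫ a.fR := by
      rw [Category.assoc, ← hcond₁, Groth.Agent.Lib.Helper38.GrpdLib.comp_mul,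
        Groth.Agent.Lib.Helper38.GrpdLib.comp_mul]
      exact Groth.Agent.Lib.Helper38.GrpdLib.mul_congr rfl hcond₂.symm _
    obtain ⟨z, hz⟩ := Groth.Agent.Lib.Helper38.GrpdHom.exists_eq_comp_of_mul_eq a ρ₂ _ _ hρ₂s key
    refine ⟨z t₂, ?_⟩
    rw [← Scheme.Hom.comp_apply, ← hz]
    change (pullback.fst wT a.fR ≫ pullback.fst m a.fR ≫
      pullback.fst (ρ ≫ G₂.s) (W.ι ≫ G₂.t) ≫ ρ) t₂ = r
    simp only [Scheme.Hom.comp_apply]
    exact hρr _
  · -- `r ∈ r · W`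
    have hrange : Set.range ⇑(ρ ≫ G₂.s ≫ G₂.e) ⊆ Set.range ⇑W.ι := by
      rintro _ ⟨z, rfl⟩
      rw [Scheme.Opens.range_ι]
      change _ ∈ Set.range ⇑a.fR
      obtain ⟨u₁, hu₁⟩ := (a.fU.homeomorph).surjective ((ρ ≫ G₂.s) z)
      have hu₁' : a.fU u₁ = (ρ ≫ G₂.s) z := hu₁
      refine ⟨G₁.e u₁, ?_⟩
      rw [← Scheme.Hom.comp_apply, Groth.Agent.Lib.Helper38.GrpdHom.comm_e a,
        Scheme.Hom.comp_apply, hu₁', ← Scheme.Hom.comp_apply, Category.assoc]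
    let w₀ := IsOpenImmersion.lift W.ι (ρ ≫ G₂.s ≫ G₂.e) hrange
    have hw₀ : w₀ ≫ W.ι = ρ ≫ G₂.s ≫ G₂.e := IsOpenImmersion.lift_fac _ _ _
    let δ : Spec (G₂.R.residueField r) ⟶ pullback (ρ ≫ G₂.s) (W.ι ≫ G₂.t) :=
      pullback.lift (𝟙 _) w₀ (by
        rw [Category.id_comp, ← Category.assoc, hw₀, Category.assoc, Category.assoc, G₂.e_t,
          Category.comp_id])
    have hδm : δ ≫ m = ρ := by
      rw [hm, Groth.Agent.Lib.Helper38.GrpdLib.comp_mul]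
      have e1 : δ ≫ pullback.fst (ρ ≫ G₂.s) (W.ι ≫ G₂.t) ≫ ρ = ρ := by
        rw [← Category.assoc, pullback.lift_fst, Category.id_comp]
      have e2 : δ ≫ pullback.snd (ρ ≫ G₂.s) (W.ι ≫ G₂.t) ≫ W.ι = ρ ≫ G₂.s ≫ G₂.e := by
        rw [← Category.assoc, pullback.lift_snd, hw₀]
      rw [Groth.Agent.Lib.Helper38.GrpdLib.mul_congr e1 e2]
      exact Groth.Agent.Lib.Helper38.GrpdLib.mul_e ρ _ rfl
    refine ⟨δ (IsLocalRing.closedPoint (G₂.R.residueField r)), ?_⟩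
    rw [← Scheme.Hom.comp_apply, hδm]
    exact hρr _


end Groth.Agent.S1891
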