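import Groth.Statements.S18912
import Mathlib
-- import your own Groth.Agent.* helpers here

set_option autoImplicit false
universe u
open CategoryTheory CategoryTheory.Limits AlgebraicGeometry
open TFNodal

namespace Groth.Agent.S18912

theorem root_lemma {k K : Type*} [Field k] [IsAlgClosed k] [CommRing K] [IsDomain K] (φ : k →+* K)
    (d : ℕ) (hd : 1 ≤ d) (u : K) (hu : u ^ d = 1) : ∃ ξ : k, ξ ^ d = 1 ∧ φ ξ = u := by
  classical
  set p : Polynomial k := Polynomial.X ^ d - 1 with hp
  have hmonic : p.Monic := Polynomial.monic_X_pow_sub_C 1 (by omega)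
  have hsplit := (IsAlgClosed.splits p).eq_prod_roots_of_monic hmonic
  have h1 : Polynomial.eval₂ φ u p = 0 := by
    simp [hp, hu]
  rw [hsplit, Polynomial.eval₂_multiset_prod, Multiset.prod_eq_zero_iff] at h1
  simp only [Multiset.map_map, Function.comp_apply, Multiset.mem_map] at h1
  obtain ⟨ξ, hξ, h0⟩ := h1
  rw [Polynomial.eval₂_sub, Polynomial.eval₂_X, Polynomial.eval₂_C, sub_eq_zero] at h0
  refine ⟨ξ, ?_, h0.symm⟩
  have := (Polynomial.mem_roots hmonic.ne_zero).mp hξ
  simpa [hp, sub_eq_zero] using this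

theorem alg_lemma {k K ι : Type*} [Field k] [IsAlgClosed k] [CommRing K] (hK : IsField K) (φ : k →+* K)
    (d : ℕ) (hd : 1 ≤ d) (t t' : ι → K) (H1 : ∀ i, t i ^ d = t' i ^ d)
    (H2 : ∀ i j, t i * t j ^ (d - 1) = t' i * t' j ^ (d - 1)) :
    ∃ ξ : k, ξ ^ d = 1 ∧ ∀ i, t' i = φ ξ * t i := by
  classical
  have : IsDomain K := hK.isDomain
  by_cases hall : ∀ i, t i = 0
  · refine ⟨1, one_pow _, fun i => ?_⟩
    have := H1 i
    rw [hall i, zero_pow (by omega)] at this
    rw [hall i, mul_zero]
    exact pow_eq_zero_iff (by omega) |>.mp this.symm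
  · push Not at hall
    obtain ⟨i₀, hi₀⟩ := hall
    obtain ⟨v, hv⟩ := hK.mul_inv_cancel hi₀
    set u := t' i₀ * v with hu
    have hu1 : u * t i₀ = t' i₀ := by rw [hu, mul_assoc, mul_comm v, hv, mul_one]
    have hud : u ^ d = 1 := by
      have h := H1 i₀
      have : (u ^ d - 1) * t i₀ ^ d = 0 := by
        rw [sub_mul, ← mul_pow, hu1, one_mul, h, sub_self]
      rcases mul_eq_zero.mp this with h | h
      · exact sub_eq_zero.mp h
      · exact absurd (pow_eq_zero_iff (by omega) |>.mp h) hi₀
    obtain ⟨ξ, hξ, hφ⟩ := root_lemma φ d hd u hud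
    refine ⟨ξ, hξ, fun i => ?_⟩
    rw [hφ]
    have h2 := H2 i i₀
    rw [← hu1, mul_pow] at h2
    have hne : t i₀ ^ (d - 1) ≠ 0 := pow_ne_zero _ hi₀
    have h3 : (t i - t' i * u ^ (d - 1)) * t i₀ ^ (d - 1) = 0 := by
      rw [sub_mul, h2]; ring
    have h4 : t i = t' i * u ^ (d - 1) := by
      rcases mul_eq_zero.mp h3 with h | h
      · exact sub_eq_zero.mp h
      · exact absurd h hne
    have hdd : u ^ (d - 1) * u = 1 := by
      rw [← pow_succ, Nat.sub_add_cancel hd, hud]
    rw [h4]
    calc t' i = t' i * (u ^ (d - 1) * u) := by rw [hdd, mul_one]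
      _ = u * (t' i * u ^ (d - 1)) := by ring


/-- Let k be an algebraically closed field of characteristic zero, X a reduced scheme locally of finite
type over k, F an O_X-module, d ≥ 1 an integer and τ, τ' : F → O_X two O_X-linear maps whose d-th
symmetric powers agree, in the sense that for every open U and all sections a_1, …, a_d of F over U
the products τ(a_1)⋯τ(a_d) and τ'(a_1)⋯τ'(a_d) coincide in Γ(U, O_X). Then for every point η of X
whose local ring is a field (a generic point of an irreducible component) there is a d-th root of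
unity ξ in k such that, for every section a of F over an open containing η, the germ of τ'(a) at η
is ξ times the germ of τ(a). The published statement is for a coherent module on a projective nodal
curve and concludes that τ' = ξ τ with one root of unity ξ on each connected component; that form
fails for the union of two lines meeting at a node, F the ideal of the node, τ the inclusion and τ'
equal to τ on one line and to −τ on the other (d = 2), so the conclusion is stated here at each
generic point, i.e. per irreducible component, which is what the stalkwise argument yields. -/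
theorem result
    (k : Type u) [Field k] [IsAlgClosed k] [CharZero k]
    (X : Scheme.{u}) [X.Over (Spec (CommRingCat.of k))]
    [LocallyOfFiniteType (X ↘ Spec (CommRingCat.of k))] [AlgebraicGeometry.IsReduced X]
    (F : X.Modules) (τ τ' : F ⟶ Coh.structureModule X) (d : ℕ) (hd : 1 ≤ d)
    (hS : ∀ (U : X.Opens) (a : Fin d → Γ(F, U)),
      (∏ i, (τ.app U (a i) : Γ(X, U)) : Γ(X, U)) = (∏ i, (τ'.app U (a i) : Γ(X, U)) : Γ(X, U)))
    (η : X) (hη : IsField (X.presheaf.stalk η)) :
    ∃ ξ : k, ξ ^ d = 1 ∧ ∀ (U : X.Opens) (hU : η ∈ U) (a : Γ(F, U)),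
      (X.presheaf.germ U η hU (τ'.app U a : Γ(X, U)) : X.presheaf.stalk η) =
        Curv2.stalkMap k X η ξ * X.presheaf.germ U η hU (τ.app U a : Γ(X, U)) := by
  classical
  -- typed versions of the section maps
  let f : ∀ U : X.Opens, Γ(F, U) → Γ(X, U) := fun U a => (τ.app U a : Γ(X, U))
  let f' : ∀ U : X.Opens, Γ(F, U) → Γ(X, U) := fun U a => (τ'.app U a : Γ(X, U))
  have hS' : ∀ (U : X.Opens) (a : Fin d → Γ(F, U)), ∏ i, f U (a i) = ∏ i, f' U (a i) :=
    fun U a => hS U a
  -- index type: sections near η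
  let ι := Σ U : {U : X.Opens // η ∈ U}, Γ(F, U.1)
  let t : ι → X.presheaf.stalk η := fun i => X.presheaf.germ i.1.1 η i.1.2 (f i.1.1 i.2)
  let t' : ι → X.presheaf.stalk η := fun i => X.presheaf.germ i.1.1 η i.1.2 (f' i.1.1 i.2)
  -- restriction compatibility
  have hres : ∀ (σ : F ⟶ Coh.structureModule X) (U W : X.Opens) (hW : η ∈ W) (hWU : W ≤ U) (a : Γ(F, U)),
      X.presheaf.germ W η hW (σ.app W (F.presheaf.map (homOfLE hWU).op a) : Γ(X, W)) =
        X.presheaf.germ U η (hWU hW) (σ.app U a : Γ(X, U)) := by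
    intro σ U W hW hWU a
    have hnat := ConcreteCategory.congr_hom (σ.mapPresheaf.naturality (homOfLE hWU).op) a
    simp only [Scheme.Modules.mapPresheaf_app, ConcreteCategory.comp_apply] at hnat
    rw [hnat]
    exact TopCat.Presheaf.germ_res_apply X.presheaf (homOfLE hWU) η hW _
  have H1 : ∀ i, t i ^ d = t' i ^ d := by
    rintro ⟨⟨U, hU⟩, a⟩
    have h := congrArg (X.presheaf.germ U η hU) (hS' U (fun _ => a))
    rw [Finset.prod_const, Finset.prod_const, Finset.card_univ, Fintype.card_fin, map_pow, map_pow] at h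
    exact h
  have H2 : ∀ i j, t i * t j ^ (d - 1) = t' i * t' j ^ (d - 1) := by
    rintro ⟨⟨U, hU⟩, a⟩ ⟨⟨V, hV⟩, b⟩
    obtain ⟨d', rfl⟩ : ∃ d', d = d' + 1 := ⟨d - 1, by omega⟩
    have hW : η ∈ U ⊓ V := ⟨hU, hV⟩
    have h := congrArg (X.presheaf.germ (U ⊓ V) η hW)
      (hS' (U ⊓ V) (Fin.cons (F.presheaf.map (homOfLE (inf_le_left : U ⊓ V ≤ U)).op a)
        (fun _ => F.presheaf.map (homOfLE (inf_le_right : U ⊓ V ≤ V)).op b)))
    rw [Fin.prod_univ_succ, Fin.prod_univ_succ] at h
    simp only [Fin.cons_zero, Fin.cons_succ, Finset.prod_const, Finset.card_univ,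
      Fintype.card_fin, map_mul, map_pow] at h
    have e1 := hres τ U (U ⊓ V) hW inf_le_left a
    have e2 := hres τ V (U ⊓ V) hW inf_le_right b
    have e3 := hres τ' U (U ⊓ V) hW inf_le_left a
    have e4 := hres τ' V (U ⊓ V) hW inf_le_right b
    show X.presheaf.germ U η hU (f U a) * (X.presheaf.germ V η hV (f V b)) ^ (d' + 1 - 1) =
      X.presheaf.germ U η hU (f' U a) * (X.presheaf.germ V η hV (f' V b)) ^ (d' + 1 - 1)
    rw [Nat.add_sub_cancel]
    change X.presheaf.germ U η hU (τ.app U a : Γ(X, U)) * (X.presheaf.germ V η hV (τ.app V b : Γ(X, V))) ^ d' =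
      X.presheaf.germ U η hU (τ'.app U a : Γ(X, U)) * (X.presheaf.germ V η hV (τ'.app V b : Γ(X, V))) ^ d'
    rw [← e1, ← e2, ← e3, ← e4]
    exact h
  obtain ⟨ξ, hξ, hall⟩ := alg_lemma hη (Curv2.stalkMap k X η) d hd t t' H1 H2
  exact ⟨ξ, hξ, fun U hU a => hall ⟨⟨U, hU⟩, a⟩⟩
end Groth.Agent.S18912
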