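import Groth.Statements.S18914
import Groth.Agent.Lib.QCoh.Helper18_AssOpen
import Groth.Agent.Lib.QCoh.Helper18_DenseGeneric
import Groth.Agent.Lib.QCoh.Helper18_ClosedPt
import Groth.Agent.Lib.Helper29.ReducedReg
import Groth.Prelude.Def_ZClos

set_option autoImplicit false
universe u
open CategoryTheory CategoryTheory.Limits AlgebraicGeometry
open TFNodal

namespace Groth.Agent.S18914

/-- Let k be an algebraically closed field of characteristic zero, X a reduced proper curve over k (a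
proper k-scheme of dimension one), and E, F₁, F₂ coherent O_X-modules that are torsion free (every
stalk is a torsion free module over the local ring: no nonzero element is killed by a
non-zero-divisor). Let q₁ : E → F₁ and q₂ : E → F₂ be epimorphisms, U a dense open subset of X and φ
: F₁|_U ≅ F₂|_U an isomorphism of the restricted quotients, q₁|_U ≫ φ = q₂|_U. Then there is an
isomorphism of quotients ψ : F₁ ≅ F₂, q₁ ≫ ψ = q₂, whose restriction to U is φ. -/
theorem result
    (k : Type u) [Field k] [IsAlgClosed k] [CharZero k]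
    (X : Scheme.{u}) [X.Over (Spec (CommRingCat.of k))] [IsProper (X ↘ Spec (CommRingCat.of k))]
    [AlgebraicGeometry.IsReduced X] (hdim : topologicalKrullDim X = 1)
    (E F₁ F₂ : X.Modules) (hE : Coh.IsCoh E) (hF₁ : Coh.IsCoh F₁) (hF₂ : Coh.IsCoh F₂)
    (htE : TorSh.IsTorsionFree E) (ht₁ : TorSh.IsTorsionFree F₁) (ht₂ : TorSh.IsTorsionFree F₂)
    (q₁ : E ⟶ F₁) (q₂ : E ⟶ F₂) [Epi q₁] [Epi q₂]
    (U : X.Opens) (hU : Dense (U : Set X))
    (φ : F₁.restrict U.ι ≅ F₂.restrict U.ι)
    (hφ : (Scheme.Modules.restrictFunctor U.ι).map q₁ ≫ φ.hom = (Scheme.Modules.restrictFunctor U.ι).map q₂) :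
    ∃ ψ : F₁ ≅ F₂, q₁ ≫ ψ.hom = q₂ ∧ (Scheme.Modules.restrictFunctor U.ι).map ψ.hom = φ.hom := by
  open Groth.Agent.Lib.QCoh in
  have hLN : IsLocallyNoetherian X :=
    LocallyOfFiniteType.isLocallyNoetherian (X ↘ Spec (CommRingCat.of k))
  -- weakly associated points of a torsion free module lie in `U`
  have key : ∀ F : X.Modules, TorSh.IsTorsionFree F →
      ∀ y : X, Curv2.IsWeakAssPoint F y → y ∈ U := by
    rintro F htF y ⟨m', hm'⟩
    have hN : IsNoetherianRing (X.presheaf.stalk y) := inferInstance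
    apply mem_of_dense_of_generic U hU y
    apply ClosedPt.eq_of_specializes_of_maximalIdeal_eq_bot y
    by_contra hne
    obtain ⟨t, ht, hreg⟩ :=
      Groth.Agent.Lib.Helper29.ReducedReg.exists_regular_of_isReduced (X.presheaf.stalk y) hne
    have hm'0 : m' ≠ 0 := by
      rintro rfl
      have h1 : (1 : X.presheaf.stalk y) ∈ IsLocalRing.maximalIdeal (X.presheaf.stalk y) := by
        rw [← hm']
        apply Ideal.le_radical
        simp
      exact (IsLocalRing.maximalIdeal.isMaximal _).ne_top ((Ideal.eq_top_iff_one _).2 h1)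
    rw [← hm'] at ht
    obtain ⟨n, hn⟩ := ht
    have hn' : t ^ n • m' = 0 := by simpa [LinearMap.mem_ker] using hn
    have hregn : IsRegular (t ^ n) :=
      (isLeftRegular_iff_isRegular.1 (isLeftRegular_iff.2 hreg)).pow n
    have := (htF y).isSMulRegular hregn
    exact hm'0 (this (by change t ^ n • m' = t ^ n • 0; rw [hn', smul_zero]))
  have vanish : ∀ (F : X.Modules), F.IsQuasicoherent → TorSh.IsTorsionFree F →
      ∀ (V : X.Opens) (s : Γ(F, V)),
      F.presheaf.map (homOfLE (U.ι.image_preimage_le V)).op s = 0 → s = 0 := by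
    intro F _ hF V s hs
    have gen : ∀ (O : X.Opens) (_ : O = V ⊓ U) (i : O ⟶ V), F.presheaf.map i.op s = 0 → s = 0 := by
      rintro O rfl i hi
      have : i = homOfLE inf_le_left := Subsingleton.elim _ _
      rw [this] at hi
      exact section_eq_zero_of_res_inf_eq_zero_of_weakAss F U (key F hF) V s hi
    exact gen _ ((ZClos.ι_image_preimage U V).trans (inf_comm _ _)) _ hs
  have nat : ∀ {M N : X.Modules} (φ : M ⟶ N) {A B : X.Opens} (i : A ⟶ B) (x : Γ(M, B)),
      φ.app A (M.presheaf.map i.op x) = N.presheaf.map i.op (φ.app B x) := by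
    intro M N φ A B i x
    have h : M.presheaf.map i.op ≫ φ.app A = φ.app B ≫ N.presheaf.map i.op := by
      simpa using φ.mapPresheaf.naturality i.op
    exact congr($h x)
  have hker : ∀ (F F' : X.Modules) (q : E ⟶ F) (q' : E ⟶ F')
      (φ' : F.restrict U.ι ⟶ F'.restrict U.ι)
      (_ : (Scheme.Modules.restrictFunctor U.ι).map q ≫ φ' =
        (Scheme.Modules.restrictFunctor U.ι).map q')
      (_ : F'.IsQuasicoherent) (_ : TorSh.IsTorsionFree F'), kernel.ι q ≫ q' = 0 := by
    intro F F' q q' φ' h hq' ht'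
    apply Scheme.Modules.hom_ext
    intro V
    ext s
    set t := (kernel.ι q).app V s with ht
    have htq : q.app V t = 0 := by
      have h2 := congrArg (fun ψ => ψ.app V) (kernel.condition q)
      simp only [Scheme.Modules.Hom.comp_app] at h2
      have h4 := congrArg (fun g => g s) (congrArg (fun g => (ConcreteCategory.hom g : _ → _)) h2)
      simp only [ConcreteCategory.comp_apply] at h4
      refine h4.trans ?_
      rfl
    change q'.app V t = 0
    apply vanish F' hq' ht' V
    rw [← nat]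
    set t' := E.presheaf.map (homOfLE (U.ι.image_preimage_le V)).op t with ht'
    have htq' : q.app _ t' = 0 := by rw [ht', nat, htq, map_zero]
    have h3 := congrArg (fun ψ => ψ.app (U.ι ⁻¹ᵁ V)) h
    simp only [Scheme.Modules.Hom.comp_app] at h3
    have h5 := congrArg (fun g => g t') (congrArg (fun g => (ConcreteCategory.hom g : _ → _)) h3)
    have h6 : (Scheme.Modules.Hom.app q' (U.ι ''ᵁ U.ι ⁻¹ᵁ V)) t' =
        (φ'.app (U.ι ⁻¹ᵁ V)) ((q.app (U.ι ''ᵁ U.ι ⁻¹ᵁ V)) t') := h5.symm
    rw [h6, htq']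
    exact map_zero (ConcreteCategory.hom (Scheme.Modules.Hom.app φ' (U.ι ⁻¹ᵁ V)))
  have hq₁ : F₁.IsQuasicoherent := hF₁.1
  have hq₂ : F₂.IsQuasicoherent := hF₂.1
  have h12 : kernel.ι q₁ ≫ q₂ = 0 := hker F₁ F₂ q₁ q₂ φ.hom hφ hq₂ ht₂
  have h21 : kernel.ι q₂ ≫ q₁ = 0 := by
    refine hker F₂ F₁ q₂ q₁ φ.inv ?_ hq₁ ht₁
    rw [← hφ, Category.assoc, Iso.hom_inv_id, Category.comp_id]
  let ψ : F₁ ⟶ F₂ := Abelian.epiDesc q₁ q₂ h12
  let ψ' : F₂ ⟶ F₁ := Abelian.epiDesc q₂ q₁ h21
  have e1 : q₁ ≫ ψ = q₂ := Abelian.comp_epiDesc q₁ q₂ h12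
  have e2 : q₂ ≫ ψ' = q₁ := Abelian.comp_epiDesc q₂ q₁ h21
  refine ⟨⟨ψ, ψ', ?_, ?_⟩, e1, ?_⟩
  · rw [← cancel_epi q₁, ← Category.assoc, e1, e2, Category.comp_id]
  · rw [← cancel_epi q₂, ← Category.assoc, e2, e1, Category.comp_id]
  · have : Epi ((Scheme.Modules.restrictFunctor U.ι).map q₁) := inferInstance
    rw [← cancel_epi ((Scheme.Modules.restrictFunctor U.ι).map q₁), hφ, ← Functor.map_comp, e1]

end Groth.Agent.S18914
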