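import Groth.Statements.S18915
import Groth.Agent.Lib.QCoh.Helper18_HartogsUnit
import Groth.Agent.Lib.QCoh.Helper18_DepthAlongFlat
import Groth.Agent.Lib.QCoh.Helper18_ClosedPt
import Groth.Agent.Lib.QCoh.Helper74_FittComap
import Groth.Agent.Lib.Helper67.FibreStalk
import Groth.Agent.Lib.Helper49.FibreSk
import Groth.Agent.Lib.Helper49.Serre4
import Groth.Agent.Lib.Helper62.SmoothStalk
import Groth.Agent.S0558

set_option autoImplicit false
universe u
open CategoryTheory CategoryTheory.Limits AlgebraicGeometry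
open TFNodal

namespace Groth.Agent.S18915

/-- Let k be an algebraically closed field of characteristic zero, X a reduced proper curve over k (a
proper k-scheme of dimension one) without isolated points (no closed point is open, i.e. X is
one-dimensional at every point), C a smooth irreducible k-scheme of dimension one and c a closed
point of C. Put Z = X ×_k C with projections p_X and p_C, let Y be a nonempty finite set of closed
points of Z lying over c, and let j : U → Z be the inclusion of the open complement of Y. Then for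
every coherent torsion free O_X-module F (every stalk a torsion free module over the local ring),
the unit map p_X^* F → j_* j^* (p_X^* F) is an isomorphism. -/
theorem result
    (k : Type u) [Field k] [IsAlgClosed k] [CharZero k]
    (X : Scheme.{u}) [X.Over (Spec (CommRingCat.of k))] [IsProper (X ↘ Spec (CommRingCat.of k))]
    [AlgebraicGeometry.IsReduced X] (hdim : topologicalKrullDim X = 1)
    (hpure : ∀ x : X, IsClosed ({x} : Set X) → ¬ IsOpen ({x} : Set X))
    (C : Scheme.{u}) [C.Over (Spec (CommRingCat.of k))] [Smooth (C ↘ Spec (CommRingCat.of k))]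
    [IrreducibleSpace C] (hdimC : topologicalKrullDim C = 1)
    (c : C) (hc : IsClosed ({c} : Set C))
    (Y : Set ↑(pullback (X ↘ Spec (CommRingCat.of k)) (C ↘ Spec (CommRingCat.of k))))
    (hYfin : Y.Finite) (hYne : Y.Nonempty) (hYcl : ∀ z ∈ Y, IsClosed ({z} : Set _))
    (hYc : ∀ z ∈ Y, (pullback.snd (X ↘ Spec (CommRingCat.of k)) (C ↘ Spec (CommRingCat.of k))).base z = c)
    (U : (pullback (X ↘ Spec (CommRingCat.of k)) (C ↘ Spec (CommRingCat.of k))).Opens)
    (hU : (U : Set _) = Yᶜ)
    (F : X.Modules) (hF : Coh.IsCoh F) (htF : TorSh.IsTorsionFree F) :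
    IsIso ((Scheme.Modules.restrictAdjunction U.ι).unit.app
      ((Scheme.Modules.pullback (pullback.fst (X ↘ Spec (CommRingCat.of k)) (C ↘ Spec (CommRingCat.of k)))).obj F)) := by
  open Groth.Agent.Lib.QCoh in
  -- basic instances
  have hLNX : IsLocallyNoetherian X :=
    LocallyOfFiniteType.isLocallyNoetherian (X ↘ Spec (CommRingCat.of k))
  have hcpt : CompactSpace X :=
    QuasiCompact.compactSpace_of_compactSpace (X ↘ Spec (CommRingCat.of k))
  have hN : IsNoetherian X := ⟨⟩
  have hJX : JacobsonSpace X := LocallyOfFiniteType.jacobsonSpace (X ↘ Spec (CommRingCat.of k))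
  have hLNZ : IsLocallyNoetherian (pullback (X ↘ Spec (CommRingCat.of k)) (C ↘ Spec (CommRingCat.of k))) :=
    LocallyOfFiniteType.isLocallyNoetherian
      (pullback.fst (X ↘ Spec (CommRingCat.of k)) (C ↘ Spec (CommRingCat.of k)))
  have hqF : F.IsQuasicoherent := hF.1
  have hfF : F.IsFiniteType := hF.2
  have hfG := FittSheaf74.isFiniteType_pullback
    (pullback.fst (X ↘ Spec (CommRingCat.of k)) (C ↘ Spec (CommRingCat.of k))) F
  apply Hartogs.isIso_unit_of_depth _ U
  intro z hz
  have hzY : z ∈ Y := by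
    by_contra h
    apply hz
    change z ∈ (U : Set _)
    rw [hU]
    exact h
  have hzcl := hYcl z hzY
  have hzc := hYc z hzY
  -- the image point in X is closed and not open
  have hxcl : IsClosed ({(pullback.fst (X ↘ Spec (CommRingCat.of k)) (C ↘ Spec (CommRingCat.of k))) z} : Set X) :=
    (pullback.fst (X ↘ Spec (CommRingCat.of k))
      (C ↘ Spec (CommRingCat.of k))).closePoints_subset_preimage_closedPoints hzcl
  have hxno := hpure _ hxcl
  rw [DepthAlong.depth_stalk_pullback
    (pullback.fst (X ↘ Spec (CommRingCat.of k)) (C ↘ Spec (CommRingCat.of k))) F z]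
  have hA : (1 : ℕ∞) ≤ LocCoh.depth (X.presheaf.stalk
      ((pullback.fst (X ↘ Spec (CommRingCat.of k)) (C ↘ Spec (CommRingCat.of k))) z))
      (F.presheaf.stalk ((pullback.fst (X ↘ Spec (CommRingCat.of k)) (C ↘ Spec (CommRingCat.of k))) z)) := by
    have hm := ClosedPt.maximalIdeal_ne_bot_of_not_isOpen _ hxcl hxno
    obtain ⟨t, htm, htreg⟩ := Groth.Agent.Lib.Helper29.ReducedReg.exists_regular_of_isReduced _ hm
    have htf := htF ((pullback.fst (X ↘ Spec (CommRingCat.of k)) (C ↘ Spec (CommRingCat.of k))) z)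
    apply ClosedPt.one_le_depth_of_isSMulRegular _ _ t htm
    exact htf.isSMulRegular (isLeftRegular_iff_isRegular.mp htreg)
  refine le_trans ?_ (add_le_add hA ?_ (c := 1))
  · norm_num
  -- the fibre term
  let _ : Algebra (X.presheaf.stalk ((pullback.fst (X ↘ Spec (CommRingCat.of k)) (C ↘ Spec (CommRingCat.of k))) z))
      ((pullback (X ↘ Spec (CommRingCat.of k)) (C ↘ Spec (CommRingCat.of k))).presheaf.stalk z) :=
    ((pullback.fst (X ↘ Spec (CommRingCat.of k)) (C ↘ Spec (CommRingCat.of k))).stalkMap z).hom.toAlgebra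
  obtain ⟨e⟩ := Groth.Agent.Lib.Helper67.FibreStalk.nonempty_ringEquiv
    (pullback.fst (X ↘ Spec (CommRingCat.of k)) (C ↘ Spec (CommRingCat.of k))) z
  have hNfib : IsNoetherianRing (CInt.fiberStalk
      (pullback.fst (X ↘ Spec (CommRingCat.of k)) (C ↘ Spec (CommRingCat.of k))) z) :=
    isNoetherianRing_of_ringEquiv _ e
  have hsm : (IsLocalRing.maximalIdeal (X.presheaf.stalk
      ((pullback.fst (X ↘ Spec (CommRingCat.of k)) (C ↘ Spec (CommRingCat.of k))) z))).map
      (algebraMap _ ((pullback (X ↘ Spec (CommRingCat.of k)) (C ↘ Spec (CommRingCat.of k))).presheaf.stalk z)) •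
      (⊤ : Submodule _ ((pullback (X ↘ Spec (CommRingCat.of k)) (C ↘ Spec (CommRingCat.of k))).presheaf.stalk z)) =
      Groth.Agent.Lib.Helper67.FibreStalk.fibreIdeal
        (pullback.fst (X ↘ Spec (CommRingCat.of k)) (C ↘ Spec (CommRingCat.of k))) z := by
    rw [smul_eq_mul, Ideal.mul_top]
    rfl
  rw [Groth.Agent.Lib.Helper29.CMLib.depth_congr (Submodule.quotEquivOfEq _ _ hsm)]
  have hloc : IsLocalHom (algebraMap
      ((pullback (X ↘ Spec (CommRingCat.of k)) (C ↘ Spec (CommRingCat.of k))).presheaf.stalk z)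
      (((pullback (X ↘ Spec (CommRingCat.of k)) (C ↘ Spec (CommRingCat.of k))).presheaf.stalk z) ⧸
        Groth.Agent.Lib.Helper67.FibreStalk.fibreIdeal
          (pullback.fst (X ↘ Spec (CommRingCat.of k)) (C ↘ Spec (CommRingCat.of k))) z)) :=
    Groth.Agent.Lib.Helper49.CMQuot.isLocalHom_quotient_mk _ _
      (Groth.Agent.Lib.Helper67.FibreStalk.fibreIdeal_ne_top _ z)
  rw [Groth.Agent.Lib.Helper29.DepthFinite.depth_eq_of_isLocalHom
    ((pullback (X ↘ Spec (CommRingCat.of k)) (C ↘ Spec (CommRingCat.of k))).presheaf.stalk z)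
    (((pullback (X ↘ Spec (CommRingCat.of k)) (C ↘ Spec (CommRingCat.of k))).presheaf.stalk z) ⧸
        Groth.Agent.Lib.Helper67.FibreStalk.fibreIdeal
          (pullback.fst (X ↘ Spec (CommRingCat.of k)) (C ↘ Spec (CommRingCat.of k))) z)
    (((pullback (X ↘ Spec (CommRingCat.of k)) (C ↘ Spec (CommRingCat.of k))).presheaf.stalk z) ⧸
        Groth.Agent.Lib.Helper67.FibreStalk.fibreIdeal
          (pullback.fst (X ↘ Spec (CommRingCat.of k)) (C ↘ Spec (CommRingCat.of k))) z),
    Groth.Agent.Lib.Helper49.Serre.depth_eq_of_ringEquiv e]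
  -- the flat morphism from the fibre to `C`
  have hsub : Subsingleton (Spec (CommRingCat.of k)) :=
    inferInstanceAs (Subsingleton (PrimeSpectrum k))
  have hsq1 : IsPullback
      ((pullback.fst (X ↘ Spec (CommRingCat.of k)) (C ↘ Spec (CommRingCat.of k))).fiberι
        ((pullback.fst (X ↘ Spec (CommRingCat.of k)) (C ↘ Spec (CommRingCat.of k))) z))
      ((pullback.fst (X ↘ Spec (CommRingCat.of k)) (C ↘ Spec (CommRingCat.of k))).fiberToSpecResidueField
        ((pullback.fst (X ↘ Spec (CommRingCat.of k)) (C ↘ Spec (CommRingCat.of k))) z))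
      (pullback.fst (X ↘ Spec (CommRingCat.of k)) (C ↘ Spec (CommRingCat.of k)))
      (X.fromSpecResidueField
        ((pullback.fst (X ↘ Spec (CommRingCat.of k)) (C ↘ Spec (CommRingCat.of k))) z)) :=
    IsPullback.of_hasPullback _ _
  have hsq2 : IsPullback
      (pullback.snd (X ↘ Spec (CommRingCat.of k)) (C ↘ Spec (CommRingCat.of k)))
      (pullback.fst (X ↘ Spec (CommRingCat.of k)) (C ↘ Spec (CommRingCat.of k)))
      (C ↘ Spec (CommRingCat.of k)) (X ↘ Spec (CommRingCat.of k)) :=
    (IsPullback.of_hasPullback _ _).flip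
  have hsq := (hsq1.paste_horiz hsq2).flip
  have hflat : Flat ((pullback.fst (X ↘ Spec (CommRingCat.of k)) (C ↘ Spec (CommRingCat.of k))).fiberι
        ((pullback.fst (X ↘ Spec (CommRingCat.of k)) (C ↘ Spec (CommRingCat.of k))) z) ≫
      pullback.snd (X ↘ Spec (CommRingCat.of k)) (C ↘ Spec (CommRingCat.of k))) :=
    MorphismProperty.of_isPullback hsq inferInstance
  generalize hψ : ((pullback.fst (X ↘ Spec (CommRingCat.of k)) (C ↘ Spec (CommRingCat.of k))).fiberι
        ((pullback.fst (X ↘ Spec (CommRingCat.of k)) (C ↘ Spec (CommRingCat.of k))) z) ≫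
      pullback.snd (X ↘ Spec (CommRingCat.of k)) (C ↘ Spec (CommRingCat.of k))) = ψ at hflat
  have hψw : ψ ((pullback.fst (X ↘ Spec (CommRingCat.of k)) (C ↘ Spec (CommRingCat.of k))).asFiber z) = c := by
    rw [← hψ, Scheme.Hom.comp_apply, Scheme.Hom.fiberι_asFiber]
    exact hzc
  have hcl : IsClosed ({ψ ((pullback.fst (X ↘ Spec (CommRingCat.of k))
      (C ↘ Spec (CommRingCat.of k))).asFiber z)} : Set C) := by
    rw [hψw]; exact hc
  have hmC := ClosedPt.maximalIdeal_ne_bot_of_irreducible (X := C) _ hcl (by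
    rw [hdimC]
    exact not_le.2 (by exact_mod_cast zero_lt_one))
  have hregC : IsRegularLocalRing (C.presheaf.stalk (ψ ((pullback.fst (X ↘ Spec (CommRingCat.of k))
      (C ↘ Spec (CommRingCat.of k))).asFiber z))) :=
    Groth.Agent.Lib.Helper62.SmoothStalk.isRegularLocalRing_stalk (C ↘ Spec (CommRingCat.of k)) _
  have hdom : IsDomain (C.presheaf.stalk (ψ ((pullback.fst (X ↘ Spec (CommRingCat.of k))
      (C ↘ Spec (CommRingCat.of k))).asFiber z))) := Groth.Agent.S0558.result _
  obtain ⟨τ, hτm, hτ0⟩ := Submodule.exists_mem_ne_zero_of_ne_bot hmC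
  have hφflat := Flat.stalkMap ψ ((pullback.fst (X ↘ Spec (CommRingCat.of k))
      (C ↘ Spec (CommRingCat.of k))).asFiber z)
  apply ClosedPt.one_le_depth_of_isSMulRegular _ _
    ((ψ.stalkMap ((pullback.fst (X ↘ Spec (CommRingCat.of k))
      (C ↘ Spec (CommRingCat.of k))).asFiber z)).hom τ)
  · exact map_nonunit _ τ hτm
  · let _ := (ψ.stalkMap ((pullback.fst (X ↘ Spec (CommRingCat.of k))
      (C ↘ Spec (CommRingCat.of k))).asFiber z)).hom.toAlgebra
    have hfl : Module.Flat (C.presheaf.stalk (ψ ((pullback.fst (X ↘ Spec (CommRingCat.of k))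
      (C ↘ Spec (CommRingCat.of k))).asFiber z)))
      (CInt.fiberStalk (pullback.fst (X ↘ Spec (CommRingCat.of k)) (C ↘ Spec (CommRingCat.of k))) z) := hφflat
    have hτreg : IsSMulRegular (C.presheaf.stalk (ψ ((pullback.fst (X ↘ Spec (CommRingCat.of k))
      (C ↘ Spec (CommRingCat.of k))).asFiber z))) τ := by
      intro a b hab
      exact mul_left_cancel₀ hτ0 hab
    exact hτreg.of_flat (S := (CInt.fiberStalk (pullback.fst (X ↘ Spec (CommRingCat.of k)) (C ↘ Spec (CommRingCat.of k))) z))

end Groth.Agent.S18915
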