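import Groth.Statements.S18916
import Groth.Agent.Lib.QCoh.Helper74_RefHullRefl
import Groth.Agent.Lib.QCoh.Helper18_Ass
import Groth.Agent.Lib.Helper29.ReducedReg

set_option autoImplicit false
universe u
open CategoryTheory CategoryTheory.Limits AlgebraicGeometry
open TFNodal

namespace Groth.Agent.S18916

/-- in a quasi-sober Noetherian space, a closed point without proper generizations is open -/
theorem isOpen_singleton_of_forall_specializes {α : Type*} [TopologicalSpace α] [TopologicalSpace.NoetherianSpace α]
    [QuasiSober α] (x : α) (hx : IsClosed ({x} : Set α)) (hgen : ∀ y : α, y ⤳ x → y = x) :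
    IsOpen ({x} : Set α) := by
  have hfin : (irreducibleComponents α \ {{x}}).Finite :=
    (TopologicalSpace.NoetherianSpace.finite_irreducibleComponents (α := α)).subset Set.sdiff_subset
  have hcl : IsClosed (⋃₀ (irreducibleComponents α \ {{x}})) := by
    rw [Set.sUnion_eq_biUnion]
    exact hfin.isClosed_biUnion fun T hT => isClosed_of_mem_irreducibleComponents T hT.1
  have heq : (⋃₀ (irreducibleComponents α \ {{x}}))ᶜ = {x} := by
    ext y
    simp only [Set.mem_compl_iff, Set.mem_sUnion, Set.mem_sdiff, Set.mem_singleton_iff, not_exists,
      not_and]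
    constructor
    · intro h
      by_contra hne
      have h1 := h (irreducibleComponent y)
        ⟨irreducibleComponent_mem_irreducibleComponents y, fun heq => hne (by
          have : y ∈ irreducibleComponent y := mem_irreducibleComponent
          rw [heq] at this
          exact this)⟩
      exact h1 mem_irreducibleComponent
    · rintro rfl T ⟨hT, hTne⟩ hyT
      apply hTne
      have hTirr : IsIrreducible T := hT.1
      have hTcl : IsClosed T := isClosed_of_mem_irreducibleComponents T hT
      have hg := hTirr.isGenericPoint_genericPoint hTcl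
      have h1 : hTirr.genericPoint ⤳ y := hg.specializes hyT
      have h2 := hgen _ h1
      rw [← hg.def, h2]
      exact hx.closure_eq
  rw [← heq]
  exact hcl.isOpen_compl


/-- Let k be an algebraically closed field of characteristic zero, X a reduced proper curve over k (a
proper k-scheme of dimension one) without isolated points (no closed point is open, i.e. X is
one-dimensional at every point) and F a coherent O_X-module. Then the dual 𝓗om(F, O_X) is torsion
free: no closed point of X is an associated point of it. -/
theorem result
    (k : Type u) [Field k] [IsAlgClosed k] [CharZero k]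
    (X : Scheme.{u}) [X.Over (Spec (CommRingCat.of k))] [IsProper (X ↘ Spec (CommRingCat.of k))]
    [AlgebraicGeometry.IsReduced X] (hdim : topologicalKrullDim X = 1)
    (hpure : ∀ x : X, IsClosed ({x} : Set X) → ¬ IsOpen ({x} : Set X))
    (F : X.Modules) (hF : Coh.IsCoh F) (x : X) (hx : IsClosed ({x} : Set X)) :
    ¬ Curv2.IsAssPoint (RefHull.dual F) x := by
  open Groth.Agent.Lib.QCoh in
  intro hass
  have hlft : LocallyOfFiniteType (X ↘ Spec (CommRingCat.of k)) := inferInstance
  have hLN : IsLocallyNoetherian X := LocallyOfFiniteType.isLocallyNoetherian (X ↘ Spec (CommRingCat.of k))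
  have hcpt : CompactSpace X := by
    have : QuasiCompact (X ↘ Spec (CommRingCat.of k)) := inferInstance
    exact QuasiCompact.compactSpace_of_compactSpace (X ↘ Spec (CommRingCat.of k))
  have hN : IsNoetherian X := ⟨⟩
  have hNS : TopologicalSpace.NoetherianSpace X := inferInstance
  -- the maximal ideal is nonzero
  have hm : IsLocalRing.maximalIdeal (X.presheaf.stalk x) ≠ ⊥ := by
    intro hbot
    apply hpure x hx
    apply isOpen_singleton_of_forall_specializes x hx
    intro y hy
    have hy' : y ∈ Set.range (X.fromSpecStalk x) := by
      rw [Scheme.range_fromSpecStalk]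
      exact hy
    obtain ⟨q, rfl⟩ := hy'
    have hq : q = IsLocalRing.closedPoint (X.presheaf.stalk x) := by
      apply PrimeSpectrum.ext
      have h1 : q.asIdeal ≤ IsLocalRing.maximalIdeal (X.presheaf.stalk x) :=
        IsLocalRing.le_maximalIdeal q.2.ne_top
      rw [hbot] at h1
      change q.asIdeal = IsLocalRing.maximalIdeal (X.presheaf.stalk x)
      rw [hbot]
      exact le_bot_iff.1 h1
    rw [hq]
    exact Scheme.fromSpecStalk_closedPoint
  obtain ⟨t, htm, htreg⟩ := Groth.Agent.Lib.Helper29.ReducedReg.exists_regular_of_isReduced
    (X.presheaf.stalk x) hm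
  have hqF : F.IsQuasicoherent := hF.1
  have hfF : F.IsFiniteType := hF.2
  have hinj := RefHull74.evalStalk_injective F (Coh.structureModule X) x
  obtain ⟨φ, hφ⟩ := (isAssPoint_iff_isWeakAssPoint (RefHull.dual F) x).1 hass
  have htrad : t ∈ Ideal.radical (LinearMap.ker (LinearMap.toSpanSingleton (X.presheaf.stalk x)
      ((RefHull.dual F).presheaf.stalk x) φ)) := by
    rw [hφ]; exact htm
  obtain ⟨n, hn⟩ := htrad
  have hn' : t ^ n • φ = 0 := by
    simpa [LinearMap.mem_ker, LinearMap.toSpanSingleton_apply] using hn
  have hφ0 : φ = 0 := by
    apply hinj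
    rw [map_zero]
    apply LinearMap.ext
    intro v
    have h1 : RefHull.evalStalk F (Coh.structureModule X) x (t ^ n • φ) v = 0 := by
      rw [hn', map_zero]; rfl
    rw [map_smul, LinearMap.smul_apply] at h1
    have h2 := congrArg (RefHull74.oxEquiv x) h1
    rw [map_smul, map_zero, smul_eq_mul] at h2
    have h3 : RefHull74.oxEquiv x (RefHull.evalStalk F (Coh.structureModule X) x φ v) = 0 := by
      apply (htreg.pow n)
      simpa using h2
    have := congrArg (RefHull74.oxEquiv x).symm h3
    simpa using this
  rw [hφ0] at hφ
  have htop : LinearMap.ker (LinearMap.toSpanSingleton (X.presheaf.stalk x)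
      ((RefHull.dual F).presheaf.stalk x) 0) = ⊤ := by
    ext r
    simp [LinearMap.mem_ker, LinearMap.toSpanSingleton_apply]
  rw [htop, Ideal.radical_top] at hφ
  exact (IsLocalRing.maximalIdeal.isMaximal (X.presheaf.stalk x)).ne_top hφ.symm

end Groth.Agent.S18916
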