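import Groth.Statements.S1892
import Groth.Agent.S1889
import Groth.Agent.Lib.Helper38.GrpdHom
import Groth.Agent.Lib.Helper38.GrpdClosure

set_option autoImplicit false
universe u
open CategoryTheory CategoryTheory.Limits AlgebraicGeometry
open Grpd

namespace Groth.Agent.S1892

/-- Let (U₁, R₁, s, t, c) and (U₂, R₂, s, t, c) be groupoid schemes over S with U₂ isomorphic to Spec k
for a field k, and a : R₁ → R₂ a morphism of groupoid schemes which is an isomorphism on objects. If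
a(R₁) is locally closed in R₂ then it is closed. (A groupoid scheme carries U, R, s, t, c, e, i over
S satisfying the groupoid axioms on T-points.) -/
theorem result (S : Scheme.{u}) (G₁ G₂ : Grpd.GroupoidScheme S) (k : Type u) [Field k] (eU : G₂.U ≅ Spec (CommRingCat.of k)) (a : Grpd.GroupoidScheme.Hom G₁ G₂) [IsIso a.fU] (hlc : IsLocallyClosed (Set.range ⇑a.fR)) : IsClosed (Set.range ⇑a.fR) := by

  apply isClosed_of_closure_subset
  intro r hr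
  have hO : IsOpen (coborder (Set.range ⇑a.fR)) := hlc.isOpen_coborder
  have hWO : closure (Set.range ⇑a.fR) ∩ coborder (Set.range ⇑a.fR) = Set.range ⇑a.fR :=
    closure_inter_coborder
  let O : G₂.R.Opens := ⟨coborder (Set.range ⇑a.fR), hO⟩
  let Oi : G₂.R.Opens := G₂.i ⁻¹ᵁ O
  have hOi : ∀ x : Oi, G₂.i (Oi.ι x) ∈ coborder (Set.range ⇑a.fR) := fun x => x.2
  set ρ := G₂.R.fromSpecResidueField r with hρ
  have hρr : ∀ z, ρ z = r := fun z => Scheme.fromSpecResidueField_apply _ _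
  let m := pullback.lift (pullback.fst (ρ ≫ G₂.s) (Oi.ι ≫ G₂.t) ≫ ρ)
    (pullback.snd (ρ ≫ G₂.s) (Oi.ι ≫ G₂.t) ≫ Oi.ι)
    ((Category.assoc _ _ _).trans (pullback.condition.trans (Category.assoc _ _ _).symm)) ≫ G₂.c
  have hm : m = Groth.Agent.Lib.Helper38.GrpdLib.mul
      (pullback.fst (ρ ≫ G₂.s) (Oi.ι ≫ G₂.t) ≫ ρ)
      (pullback.snd (ρ ≫ G₂.s) (Oi.ι ≫ G₂.t) ≫ Oi.ι)
      ((Category.assoc _ _ _).trans (pullback.condition.trans (Category.assoc _ _ _).symm)) := rfl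
  have hM : IsOpen (Set.range ⇑m) := Groth.Agent.S1889.result S G₂ k eU Oi _ ρ
  -- `r ∈ r · O⁻¹`
  have hrM : r ∈ Set.range ⇑m := by
    have hrange : Set.range ⇑(ρ ≫ G₂.s ≫ G₂.e) ⊆ Set.range ⇑Oi.ι := by
      rintro _ ⟨z, rfl⟩
      rw [Scheme.Opens.range_ι]
      change G₂.i ((ρ ≫ G₂.s ≫ G₂.e) z) ∈ coborder (Set.range ⇑a.fR)
      apply subset_coborder
      obtain ⟨u₁, hu₁⟩ := (a.fU.homeomorph).surjective ((ρ ≫ G₂.s) z)
      have hu₁' : a.fU u₁ = (ρ ≫ G₂.s) z := hu₁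
      refine ⟨G₁.i (G₁.e u₁), ?_⟩
      rw [← Scheme.Hom.comp_apply, Groth.Agent.Lib.Helper38.GrpdClosure.comm_i a,
        Scheme.Hom.comp_apply, ← Scheme.Hom.comp_apply G₁.e,
        Groth.Agent.Lib.Helper38.GrpdHom.comm_e a,
        Scheme.Hom.comp_apply, hu₁', ← Scheme.Hom.comp_apply _ G₂.e, Category.assoc]
    let w₀ := IsOpenImmersion.lift Oi.ι (ρ ≫ G₂.s ≫ G₂.e) hrange
    have hw₀ : w₀ ≫ Oi.ι = ρ ≫ G₂.s ≫ G₂.e := IsOpenImmersion.lift_fac _ _ _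
    let δ : Spec (G₂.R.residueField r) ⟶ pullback (ρ ≫ G₂.s) (Oi.ι ≫ G₂.t) :=
      pullback.lift (𝟙 _) w₀ (by
        rw [Category.id_comp, ← Category.assoc, hw₀, Category.assoc, Category.assoc, G₂.e_t,
          Category.comp_id])
    have hδm : δ ≫ m = ρ := by
      rw [hm, Groth.Agent.Lib.Helper38.GrpdLib.comp_mul]
      have e1 : δ ≫ pullback.fst (ρ ≫ G₂.s) (Oi.ι ≫ G₂.t) ≫ ρ = ρ := by
        rw [← Category.assoc, pullback.lift_fst, Category.id_comp]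
      have e2 : δ ≫ pullback.snd (ρ ≫ G₂.s) (Oi.ι ≫ G₂.t) ≫ Oi.ι = ρ ≫ G₂.s ≫ G₂.e := by
        rw [← Category.assoc, pullback.lift_snd, hw₀]
      rw [Groth.Agent.Lib.Helper38.GrpdLib.mul_congr e1 e2]
      exact Groth.Agent.Lib.Helper38.GrpdLib.mul_e ρ _ rfl
    refine ⟨δ (IsLocalRing.closedPoint (G₂.R.residueField r)), ?_⟩
    rw [← Scheme.Hom.comp_apply, hδm]
    exact hρr _
  obtain ⟨p, ⟨η, hη⟩, ⟨y', hy'⟩⟩ := mem_closure_iff.mp hr _ hM hrM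
  obtain ⟨t₁, ht₁η, ht₁y⟩ := Scheme.Pullback.exists_preimage_pullback (f := m) (g := a.fR) η y'
    (hη.trans hy'.symm)
  have hcond : pullback.fst m a.fR ≫ Groth.Agent.Lib.Helper38.GrpdLib.mul
      (pullback.fst (ρ ≫ G₂.s) (Oi.ι ≫ G₂.t) ≫ ρ)
      (pullback.snd (ρ ≫ G₂.s) (Oi.ι ≫ G₂.t) ≫ Oi.ι)
      ((Category.assoc _ _ _).trans (pullback.condition.trans (Category.assoc _ _ _).symm)) =
      pullback.snd m a.fR ≫ a.fR := pullback.condition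
  obtain ⟨r₁, hr₁def⟩ : ∃ q : pullback m a.fR ⟶ G₂.R,
      q = pullback.fst m a.fR ≫ pullback.fst (ρ ≫ G₂.s) (Oi.ι ≫ G₂.t) ≫ ρ := ⟨_, rfl⟩
  obtain ⟨o, hodef⟩ : ∃ q : pullback m a.fR ⟶ G₂.R,
      q = pullback.fst m a.fR ≫ pullback.snd (ρ ≫ G₂.s) (Oi.ι ≫ G₂.t) ≫ Oi.ι := ⟨_, rfl⟩
  have hro : r₁ ≫ G₂.s = o ≫ G₂.t := by
    rw [hr₁def, hodef]
    simp only [Category.assoc]
    congr 1
    exact pullback.condition
  have hmul : Groth.Agent.Lib.Helper38.GrpdLib.mul r₁ o hro = pullback.snd m a.fR ≫ a.fR := by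
    rw [← hcond, Groth.Agent.Lib.Helper38.GrpdLib.comp_mul]
    exact Groth.Agent.Lib.Helper38.GrpdLib.mul_congr hr₁def hodef _
  -- `r₁ = a(y) · o⁻¹`
  have hc₂ : (pullback.snd m a.fR ≫ a.fR) ≫ G₂.s = (o ≫ G₂.i) ≫ G₂.t := by
    rw [← hmul, Groth.Agent.Lib.Helper38.GrpdLib.mul_s, Category.assoc, G₂.i_t]
  have hr₁ : r₁ = Groth.Agent.Lib.Helper38.GrpdLib.mul (pullback.snd m a.fR ≫ a.fR) (o ≫ G₂.i)
      hc₂ := by
    rw [← Groth.Agent.Lib.Helper38.GrpdLib.mul_congr hmul rfl]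
    exact (Groth.Agent.Lib.Helper38.GrpdLib.mul_mul_i r₁ o hro).symm
  -- `o⁻¹ = a(y⁻¹) · r₁`
  have hc₃ : ((pullback.snd m a.fR ≫ G₁.i) ≫ a.fR) ≫ G₂.s = r₁ ≫ G₂.t := by
    rw [Category.assoc, Category.assoc, a.comm_s, ← Category.assoc, ← Category.assoc,
      Category.assoc _ G₁.i, G₁.i_s, Category.assoc, ← a.comm_t, ← Category.assoc, ← hmul,
      Groth.Agent.Lib.Helper38.GrpdLib.mul_t]
  have hoi : o ≫ G₂.i = Groth.Agent.Lib.Helper38.GrpdLib.mul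
      ((pullback.snd m a.fR ≫ G₁.i) ≫ a.fR) r₁ hc₃ := by
    have e1 : (pullback.snd m a.fR ≫ G₁.i) ≫ a.fR = (pullback.snd m a.fR ≫ a.fR) ≫ G₂.i := by
      rw [Category.assoc, Groth.Agent.Lib.Helper38.GrpdClosure.comm_i a, Category.assoc]
    rw [Groth.Agent.Lib.Helper38.GrpdLib.mul_congr e1 hr₁]
    exact (Groth.Agent.Lib.Helper38.GrpdLib.i_mul_mul _ _ hc₂).symm
  -- `o⁻¹(t₁)` lies in the closure of the image and in `O`, hence in the image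
  have hr₁t₁ : r₁ t₁ = r := by
    rw [hr₁def]
    simp only [Scheme.Hom.comp_apply]
    exact hρr _
  have hcl : (o ≫ G₂.i) t₁ ∈ closure (Set.range ⇑a.fR) := by
    rw [hoi]
    exact Groth.Agent.Lib.Helper38.GrpdClosure.mul_mem_closure a k eU t₁ _ r₁ hc₃
      (by rw [hr₁t₁]; exact hr)
  have hcob : (o ≫ G₂.i) t₁ ∈ coborder (Set.range ⇑a.fR) := by
    rw [hodef]
    simp only [Scheme.Hom.comp_apply]
    exact hOi _
  have hW : (o ≫ G₂.i) t₁ ∈ Set.range ⇑a.fR := by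
    rw [← hWO]
    exact ⟨hcl, hcob⟩
  obtain ⟨y₃, hy₃⟩ := hW
  obtain ⟨t₂, ht₂, -⟩ := Scheme.Pullback.exists_preimage_pullback (f := o ≫ G₂.i) (g := a.fR)
    t₁ y₃ hy₃.symm
  have hcond₂ : pullback.fst (o ≫ G₂.i) a.fR ≫ o ≫ G₂.i = pullback.snd (o ≫ G₂.i) a.fR ≫ a.fR :=
    pullback.condition
  have hc₄ : (pullback.fst (o ≫ G₂.i) a.fR ≫ pullback.snd m a.fR) ≫ G₁.s =
      pullback.snd (o ≫ G₂.i) a.fR ≫ G₁.t := by
    rw [← cancel_mono a.fU]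
    calc ((pullback.fst (o ≫ G₂.i) a.fR ≫ pullback.snd m a.fR) ≫ G₁.s) ≫ a.fU
        = pullback.fst (o ≫ G₂.i) a.fR ≫ ((pullback.snd m a.fR ≫ a.fR) ≫ G₂.s) := by
          simp only [Category.assoc, a.comm_s]
      _ = pullback.fst (o ≫ G₂.i) a.fR ≫ ((o ≫ G₂.i) ≫ G₂.t) := by rw [hc₂]
      _ = (pullback.snd (o ≫ G₂.i) a.fR ≫ a.fR) ≫ G₂.t := by
          rw [← hcond₂]; simp only [Category.assoc]
      _ = (pullback.snd (o ≫ G₂.i) a.fR ≫ G₁.t) ≫ a.fU := by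
          simp only [Category.assoc, a.comm_t]
  have hfin : pullback.fst (o ≫ G₂.i) a.fR ≫ r₁ =
      Groth.Agent.Lib.Helper38.GrpdLib.mul (pullback.fst (o ≫ G₂.i) a.fR ≫ pullback.snd m a.fR)
        (pullback.snd (o ≫ G₂.i) a.fR) hc₄ ≫ a.fR := by
    rw [Groth.Agent.Lib.Helper38.GrpdHom.comm_mul a _ _ hc₄]
    conv_lhs => rw [hr₁]
    rw [Groth.Agent.Lib.Helper38.GrpdLib.comp_mul]
    exact Groth.Agent.Lib.Helper38.GrpdLib.mul_congr (Category.assoc _ _ _).symm hcond₂ _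
  refine ⟨(Groth.Agent.Lib.Helper38.GrpdLib.mul
    (pullback.fst (o ≫ G₂.i) a.fR ≫ pullback.snd m a.fR)
    (pullback.snd (o ≫ G₂.i) a.fR) hc₄) t₂, ?_⟩
  rw [← Scheme.Hom.comp_apply, ← hfin, Scheme.Hom.comp_apply, ht₂, hr₁t₁]


end Groth.Agent.S1892
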