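import Groth.Statements.S18920
-- import your own Groth.Agent.* helpers here

set_option autoImplicit false
universe u
open CAlg

namespace Groth.Agent.S18920

/-- Let M be a commutative monoid, s ≥ 1, and ξ_1, …, ξ_s elements of M with ξ_i ^ (s!/i) = 1 for 1 ≤ i
≤ s (an (s!/i)-th root of unity for each i). Suppose that for every finitely supported function d on
{1, …, s} with Σ_i i · d_i = s! the product ∏_i ξ_i ^ d_i equals 1. Then ξ_1 ^ j = ξ_j for every 1 ≤
j ≤ s. (The source works with roots of unity in the complex numbers.) -/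
theorem result
    {M : Type u} [CommMonoid M] (s : ℕ) (hs : 1 ≤ s) (ξ : ℕ → M)
    (hξ : ∀ i : ℕ, 1 ≤ i → i ≤ s → ξ i ^ (s.factorial / i) = 1)
    (hprod : ∀ d : ℕ →₀ ℕ, (∀ i ∈ d.support, 1 ≤ i ∧ i ≤ s) →
      (d.sum fun i n => i * n) = s.factorial → (d.prod fun i n => ξ i ^ n) = 1)
    (j : ℕ) (hj : 1 ≤ j) (hjs : j ≤ s) :
    ξ 1 ^ j = ξ j := by
  rcases Nat.eq_or_lt_of_le hj with h1 | h2
  · rw [← h1, pow_one]
  · have hjf : j ≤ s.factorial := le_trans hjs (Nat.self_le_factorial s)
    have hne : (1 : ℕ) ≠ j := by omega
    -- the weight function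
    have key := hprod (Finsupp.single 1 (s.factorial - j) + Finsupp.single j 1) ?_ ?_
    · rw [Finsupp.prod_add_index' (by intro a; simp) (by intro a b c; rw [pow_add]),
        Finsupp.prod_single_index (by simp), Finsupp.prod_single_index (by simp), pow_one] at key
      have h1' : ξ 1 ^ (s.factorial - j) * ξ 1 ^ j = 1 := by
        rw [← pow_add, Nat.sub_add_cancel hjf]
        have := hξ 1 le_rfl hs
        simpa using this
      calc ξ 1 ^ j = ξ 1 ^ j * (ξ 1 ^ (s.factorial - j) * ξ j) := by rw [key, mul_one]
        _ = (ξ 1 ^ (s.factorial - j) * ξ 1 ^ j) * ξ j := by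
            rw [mul_comm (ξ 1 ^ j), mul_assoc, mul_comm (ξ j), ← mul_assoc]
        _ = ξ j := by rw [h1', one_mul]
    · intro i hi
      have := Finsupp.support_add hi
      rw [Finset.mem_union] at this
      rcases this with h | h
      · have := Finsupp.support_single_subset h
        simp only [Finset.mem_singleton] at this
        subst this; exact ⟨le_rfl, hs⟩
      · have := Finsupp.support_single_subset h
        simp only [Finset.mem_singleton] at this
        subst this; exact ⟨hj, hjs⟩
    · rw [Finsupp.sum_add_index' (by intro a; simp) (by intro a b c; rw [mul_add]),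
        Finsupp.sum_single_index (by simp), Finsupp.sum_single_index (by simp)]
      omega

end Groth.Agent.S18920
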