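import Groth.Statements.S18922
import Groth.Agent.Lib.QCoh.Helper18_Ass
import Groth.Agent.Lib.Helper29.ReducedReg

set_option autoImplicit false
universe u
open CategoryTheory CategoryTheory.Limits AlgebraicGeometry
open TFNodal

namespace Groth.Agent.S18922

/-- Let k be an algebraically closed field of characteristic zero, X a reduced proper curve over k (a
proper k-scheme of dimension one) and F a coherent torsion free O_X-module (every stalk a torsion
free module over the local ring). Let x be a point of X and U an open subset containing x such that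
every irreducible component of U passes through x, that is, every point of U whose local ring is a
field specializes to x. Then the map from the sections of F over U to the stalk F_x is injective.
(The source states this for x a node of a connected nodal curve and U inside the union of the
irreducible components through x, meeting no other node.) -/
theorem result
    (k : Type u) [Field k] [IsAlgClosed k] [CharZero k]
    (X : Scheme.{u}) [X.Over (Spec (CommRingCat.of k))] [IsProper (X ↘ Spec (CommRingCat.of k))]
    [AlgebraicGeometry.IsReduced X] (hdim : topologicalKrullDim X = 1)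
    (F : X.Modules) (hF : Coh.IsCoh F) (htF : TorSh.IsTorsionFree F)
    (x : X) (U : X.Opens) (hxU : x ∈ U)
    (hU : ∀ y : X, y ∈ U → IsField (X.presheaf.stalk y) → x ∈ closure ({y} : Set X)) :
    Function.Injective (F.presheaf.germ U x hxU) := by
  open Groth.Agent.Lib.QCoh in
  have hLN : IsLocallyNoetherian X :=
    LocallyOfFiniteType.isLocallyNoetherian (X ↘ Spec (CommRingCat.of k))
  have hFq : F.IsQuasicoherent := hF.1
  -- weakly associated points of a torsion free module have field local rings
  have key : ∀ y : X, Curv2.IsWeakAssPoint F y → IsField (X.presheaf.stalk y) := by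
    rintro y ⟨m', hm'⟩
    have hN : IsNoetherianRing (X.presheaf.stalk y) := inferInstance
    rw [IsLocalRing.isField_iff_maximalIdeal_eq]
    by_contra hne
    obtain ⟨t, ht, hreg⟩ :=
      Groth.Agent.Lib.Helper29.ReducedReg.exists_regular_of_isReduced (X.presheaf.stalk y) hne
    have hm'0 : m' ≠ 0 := by
      rintro rfl
      have h1 : (1 : X.presheaf.stalk y) ∈ IsLocalRing.maximalIdeal (X.presheaf.stalk y) := by
        rw [← hm']
        apply Ideal.le_radical
        simp
      exact (IsLocalRing.maximalIdeal.isMaximal _).ne_top ((Ideal.eq_top_iff_one _).2 h1)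
    rw [← hm'] at ht
    obtain ⟨n, hn⟩ := ht
    have hn' : t ^ n • m' = 0 := by simpa [LinearMap.mem_ker] using hn
    have hregn : IsRegular (t ^ n) :=
      (isLeftRegular_iff_isRegular.1 (isLeftRegular_iff.2 hreg)).pow n
    have := (htF y).isSMulRegular hregn
    exact hm'0 (this (by change t ^ n • m' = t ^ n • 0; rw [hn', smul_zero]))
  rw [injective_iff_map_eq_zero]
  intro s hs
  obtain ⟨N, hxN, hNU, hsN⟩ : ∃ (N : X.Opens) (_ : x ∈ N) (hNU : N ≤ U),
      F.presheaf.map (homOfLE hNU).op s = 0 := by
    have h0 : F.presheaf.germ U x hxU s = F.presheaf.germ U x hxU 0 := by rw [hs, map_zero]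
    obtain ⟨N, hxN, i1, i2, h⟩ := TopCat.Presheaf.germ_eq F.presheaf x hxU hxU s 0 h0
    refine ⟨N, hxN, i1.le, ?_⟩
    have : i1 = homOfLE i1.le := Subsingleton.elim _ _
    rw [← this]
    refine h.trans ?_
    exact map_zero _
  apply section_eq_zero_of_germ_eq_zero
  intro z hz
  by_contra hne
  obtain ⟨V, hV0, hzV, hVU⟩ := TopologicalSpace.Opens.isBasis_iff_nbhd.1 (X.isBasis_affineOpens) hz
  have hV : IsAffineOpen V := hV0
  set m : Γ(F, V) := F.presheaf.map (homOfLE hVU).op s with hm
  have hm0 : m ≠ 0 := by
    intro h0
    apply hne
    rw [← TopCat.Presheaf.germ_res_apply F.presheaf (homOfLE hVU) z hzV s]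
    change F.presheaf.germ V z hzV m = 0
    rw [h0, map_zero]
  obtain ⟨y, hyV, hyass, hgerm⟩ := exists_isWeakAssPoint_of_section_ne_zero F hV m hm0
  have hspec : y ⤳ x := specializes_iff_mem_closure.2 (hU y (hVU hyV) (key y hyass))
  have hyN : y ∈ N := hspec.mem_open N.isOpen hxN
  apply hgerm
  have e1 : F.presheaf.germ V y hyV m = F.presheaf.germ U y (hVU hyV) s :=
    TopCat.Presheaf.germ_res_apply F.presheaf (homOfLE hVU) y hyV s
  have e2 : F.presheaf.germ N y hyN (F.presheaf.map (homOfLE hNU).op s) =
      F.presheaf.germ U y (hVU hyV) s :=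
    TopCat.Presheaf.germ_res_apply F.presheaf (homOfLE hNU) y hyN s
  rw [e1, ← e2, hsN, map_zero]

end Groth.Agent.S18922
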