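import Groth.Statements.S18927
import Mathlib
-- import your own Groth.Agent.* helpers here

set_option autoImplicit false
universe u v
open W4c6secantcecovers

namespace Groth.Agent.S18927

section helpers
open TensorProduct W4c6secantcecovers

variable {R : Type u} [CommRing R] {r : ℕ}

lemma leibniz (d : Module.Dual R (Fin r → R)) (L : List (Fin r → R))
    (x : ExteriorAlgebra R (Fin r → R)) :
    CliffordAlgebra.contractLeft (Q := (0 : QuadraticForm R (Fin r → R))) d
        ((L.map (ExteriorAlgebra.ι R)).prod * x)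
      = CliffordAlgebra.contractLeft (Q := (0 : QuadraticForm R (Fin r → R))) d
          ((L.map (ExteriorAlgebra.ι R)).prod) * x
        + (-1 : R) ^ L.length • ((L.map (ExteriorAlgebra.ι R)).prod *
          CliffordAlgebra.contractLeft (Q := (0 : QuadraticForm R (Fin r → R))) d x) := by
  induction L with
  | nil => simp [CliffordAlgebra.contractLeft_one]
  | cons a L ih =>
    simp only [List.map_cons, List.prod_cons, List.length_cons]
    rw [mul_assoc, CliffordAlgebra.contractLeft_ι_mul, CliffordAlgebra.contractLeft_ι_mul, ih,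
      pow_succ]
    simp only [mul_add, sub_mul, smul_mul_assoc, mul_smul_comm, mul_assoc, mul_neg, mul_one,
      neg_smul]
    abel

lemma ιMulti_vanish (n : ℕ) (hn : r < n) (v : Fin n → (Fin r → R)) :
    ExteriorAlgebra.ιMulti R n v = 0 := by
  have h0 : (ExteriorAlgebra.ιMulti R n :
      (Fin r → R) [⋀^Fin n]→ₗ[R] ExteriorAlgebra R (Fin r → R)) = 0 := by
    apply Module.Basis.ext_alternating (Pi.basisFun R (Fin r))
    intro w hw
    exfalso
    have := Fintype.card_le_of_injective w hw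
    simp only [Fintype.card_fin] at this
    omega
  rw [h0]; rfl

lemma prod_vanish (L : List (Fin r → R)) (hL : r < L.length) :
    (L.map (ExteriorAlgebra.ι R)).prod = 0 := by
  have h1 := ιMulti_vanish L.length hL (fun i => L.get i)
  rw [ExteriorAlgebra.ιMulti_apply] at h1
  have h2 : (List.ofFn fun i => ExteriorAlgebra.ι R (L.get i)) = L.map (ExteriorAlgebra.ι R) := by
    apply List.ext_getElem (by simp)
    intro i h1 h2
    simp
  rwa [h2] at h1

lemma key (d : Module.Dual R (Fin r → R)) (k : ℕ) (hk : k < r) (e : Fin (k + 1) → (Fin r → R))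
    (f : Fin (r - k) → (Fin r → R)) :
    CliffordAlgebra.contractLeft (Q := (0 : QuadraticForm R (Fin r → R))) d
        (ExteriorAlgebra.ιMulti R (k + 1) e) * ExteriorAlgebra.ιMulti R (r - k) f
      = (-1 : R) ^ k • (ExteriorAlgebra.ιMulti R (k + 1) e *
          CliffordAlgebra.contractLeft (Q := (0 : QuadraticForm R (Fin r → R))) d
            (ExteriorAlgebra.ιMulti R (r - k) f)) := by
  have he : ExteriorAlgebra.ιMulti R (k + 1) e
      = ((List.ofFn e).map (ExteriorAlgebra.ι R)).prod := by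
    rw [ExteriorAlgebra.ιMulti_apply, List.map_ofFn]; rfl
  have hf : ExteriorAlgebra.ιMulti R (r - k) f
      = ((List.ofFn f).map (ExteriorAlgebra.ι R)).prod := by
    rw [ExteriorAlgebra.ιMulti_apply, List.map_ofFn]; rfl
  have hL := leibniz d (List.ofFn e) (ExteriorAlgebra.ιMulti R (r - k) f)
  have hv : ((List.ofFn e).map (ExteriorAlgebra.ι R)).prod * ExteriorAlgebra.ιMulti R (r - k) f
      = 0 := by
    rw [hf, ← List.prod_append, ← List.map_append]
    apply prod_vanish
    simp only [List.length_append, List.length_ofFn]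
    omega
  rw [hv, map_zero, List.length_ofFn, ← he, pow_succ, mul_neg, mul_one, neg_smul] at hL
  have h3 := hL.symm
  rwa [← sub_eq_add_neg, sub_eq_zero] at h3

variable {N : Type v} [AddCommGroup N] [Module R N]

lemma pair_tmul (β : N →ₗ[R] N →ₗ[R] R) (k : ℕ) (b1 b2 : SSB R r) (n m : N) :
    ssPair R r N β k (b1 ⊗ₜ[R] n) (b2 ⊗ₜ[R] m)
      = ((-1 : R) ^ (k.choose 2)) • (β n m • (b1 * b2)) := by
  simp only [ssPair, ssPairAux, LinearMap.smul_apply, TensorProduct.curry_apply,
    LinearMap.comp_apply, LinearEquiv.coe_coe, TensorProduct.tensorTensorTensorComm_tmul,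
    TensorProduct.map_tmul, LinearMap.mul'_apply, TensorProduct.lift.tmul, TensorProduct.rid_tmul]

lemma delta_tmul (φ : Fin r → (N →ₗ[R] N)) (ω : SSLam R r) (s : MvPolynomial (Fin r) R) (n : N) :
    ssDelta R r N φ ((ω ⊗ₜ[R] s) ⊗ₜ[R] n)
      = ∑ j : Fin r, (((ssContr R r j ω) ⊗ₜ[R] (MvPolynomial.X j * s)) ⊗ₜ[R] n
          + (-1 : R) • (((ssContr R r j ω) ⊗ₜ[R] s) ⊗ₜ[R] (φ j n))) := by
  simp only [ssDelta, LinearMap.sum_apply, LinearMap.add_apply, LinearMap.smul_apply, ssDKoszul,
    ssDAct, TensorProduct.map_tmul, LinearMap.mulLeft_apply, LinearMap.id_apply]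

end helpers


open TensorProduct in
/-- Let R be a commutative ring, E = R^r the free module with its coordinate basis, S = R[X_1, …, X_r]
(the symmetric algebra of E), and N an R-module carrying R-linear operators φ_j (the action of the
j-th basis vector of E) and an R-bilinear form β with β(φ_j n, m) = β(n, φ_j m) for every j. On (ΛE
⊗ S) ⊗ N — all terms Λ^k(S ⊗ E) ⊗ N of the Scheja–Storch complex at once — let δ be the differential
sending (e_1 ∧ ⋯ ∧ e_k) ⊗ s ⊗ n to Σ_i (-1)^(i-1) (e_1 ∧ ⋯ ê_i ⋯ ∧ e_k) ⊗ x(e_i) s ⊗ n + Σ_i (-1)^i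
(e_1 ∧ ⋯ ê_i ⋯ ∧ e_k) ⊗ s ⊗ e_i · n, and pair a term u = ω ⊗ s ⊗ n of degree k with v = η ⊗ t ⊗ m by
⟨u, v⟩_k = (-1)^(k choose 2) β(n, m) · (ω ∧ η) ⊗ s t. Then the differential is adjoint to itself for
this pairing in complementary degrees: for u = (e_0 ∧ ⋯ ∧ e_k) ⊗ s ⊗ n of degree k + 1 ≤ r and v =
(f_1 ∧ ⋯ ∧ f_(r-k)) ⊗ t ⊗ m of degree r - k, ⟨δ u, v⟩_k = ⟨u, δ v⟩_(k+1). (The source takes E
finitely generated projective and N a module over the ambient algebra with a pairing satisfying ⟨f,
g h⟩ = ⟨g f, h⟩; the proof runs on a basis, which is the form stated here, with the action of E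
recorded by the operators φ_j.) -/
theorem result
    (R : Type u) [CommRing R] (r : ℕ) (N : Type v) [AddCommGroup N] [Module R N]
    (φ : Fin r → (N →ₗ[R] N)) (β : N →ₗ[R] N →ₗ[R] R)
    (hβ : ∀ (j : Fin r) (n m : N), β (φ j n) m = β n (φ j m))
    (k : ℕ) (hk : k < r)
    (e : Fin (k + 1) → (Fin r → R)) (f : Fin (r - k) → (Fin r → R))
    (s t : MvPolynomial (Fin r) R) (n m : N) :
    W4c6secantcecovers.ssPair R r N β k
        (W4c6secantcecovers.ssDelta R r N φ ((ExteriorAlgebra.ιMulti R (k + 1) e ⊗ₜ[R] s) ⊗ₜ[R] n))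
        ((ExteriorAlgebra.ιMulti R (r - k) f ⊗ₜ[R] t) ⊗ₜ[R] m) =
      W4c6secantcecovers.ssPair R r N β (k + 1)
        ((ExteriorAlgebra.ιMulti R (k + 1) e ⊗ₜ[R] s) ⊗ₜ[R] n)
        (W4c6secantcecovers.ssDelta R r N φ ((ExteriorAlgebra.ιMulti R (r - k) f ⊗ₜ[R] t) ⊗ₜ[R] m)) := by
  rw [delta_tmul, delta_tmul, map_sum, LinearMap.sum_apply, map_sum]
  refine Finset.sum_congr rfl (fun j _ => ?_)
  have hkey : W4c6secantcecovers.ssContr R r j (ExteriorAlgebra.ιMulti R (k + 1) e) *
        ExteriorAlgebra.ιMulti R (r - k) f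
      = (-1 : R) ^ k • (ExteriorAlgebra.ιMulti R (k + 1) e *
          W4c6secantcecovers.ssContr R r j (ExteriorAlgebra.ιMulti R (r - k) f)) :=
    key (LinearMap.proj (R := R) (φ := fun _ : Fin r => R) j) k hk e f
  have hch : (k + 1).choose 2 = k.choose 2 + k := by
    have h1 : (k + 1).choose (1 + 1) = k.choose 1 + k.choose (1 + 1) := Nat.choose_succ_succ' k 1
    rw [Nat.choose_one_right] at h1
    have h2 : (1 + 1 : ℕ) = 2 := rfl
    rw [h2] at h1
    omega
  have hc : (-1 : R) ^ ((k + 1).choose 2) = (-1) ^ (k.choose 2) * (-1) ^ k := by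
    rw [hch, pow_add]
  have hX : (MvPolynomial.X j * s * t : MvPolynomial (Fin r) R) = s * (MvPolynomial.X j * t) := by
    ring
  simp only [map_add, map_smul, LinearMap.add_apply, LinearMap.smul_apply, pair_tmul,
    Algebra.TensorProduct.tmul_mul_tmul]
  rw [hkey, hβ, hc, ← TensorProduct.smul_tmul', ← TensorProduct.smul_tmul', hX]
  module

end Groth.Agent.S18927
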