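import Groth.Statements.S18928
import Mathlib.Tactic.LinearCombination
import Mathlib.Tactic.Ring
-- import your own Groth.Agent.* helpers here

set_option autoImplicit false
universe u
open DPow

namespace Groth.Agent.S18928

/-- Let B be a commutative ring, I an ideal of B with a divided power structure, p a prime, r a natural
number, b an element of B and δ an element of I. Then (b + δ)^(p^r) − b^(p^r) lies in the ideal p^r
I. (The source states this for a divided power thickening over the Witt vectors of length n and 0 ≤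
r ≤ n; neither restriction is used.) -/
theorem result {B : Type u} [CommRing B] {I : Ideal B}
    (hI : DividedPowers I) (p : ℕ) [Fact p.Prime] (r : ℕ) (b δ : B) (hδ : δ ∈ I) :
    (b + δ) ^ (p ^ r) - b ^ (p ^ r) ∈ Ideal.span {((p : B) ^ r)} * I := by
  set N := p ^ r with hN
  have hNpos : 0 < N := pow_pos (Fact.out : p.Prime).pos r
  have hsum : (b + δ) ^ N - b ^ N =
      ∑ m ∈ Finset.range N, δ ^ (m + 1) * b ^ (N - (m + 1)) * (N.choose (m + 1) : B) := by
    rw [add_comm b δ, add_pow, Finset.sum_range_succ']
    simp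
  rw [hsum]
  refine Submodule.sum_mem _ fun m hm => ?_
  have hm' : m < N := Finset.mem_range.mp hm
  have hfac : ((m + 1).factorial : B) * (N.choose (m + 1) : B) =
      (p : B) ^ r * ((N - 1).descFactorial m : B) := by
    rw [← Nat.cast_mul, ← Nat.descFactorial_eq_factorial_mul_choose]
    obtain ⟨N', hN'⟩ : ∃ N', N = N' + 1 := ⟨N - 1, by omega⟩
    rw [hN', Nat.succ_descFactorial_succ, Nat.add_sub_cancel, Nat.cast_mul, ← hN', hN,
      Nat.cast_pow]
  have hterm : δ ^ (m + 1) * b ^ (N - (m + 1)) * (N.choose (m + 1) : B) =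
      (p : B) ^ r * (((N - 1).descFactorial m : B) * b ^ (N - (m + 1)) * hI.dpow (m + 1) δ) := by
    rw [← hI.factorial_mul_dpow_eq_pow hδ]
    linear_combination (hI.dpow (m + 1) δ * b ^ (N - (m + 1))) * hfac
  rw [hterm]
  exact Ideal.mul_mem_mul (Ideal.mem_span_singleton_self _)
    (I.mul_mem_left _ (hI.dpow_mem (Nat.succ_ne_zero m) hδ))

end Groth.Agent.S18928
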