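import Groth.Statements.S18929
import Groth.Agent.S18928
import Mathlib.RingTheory.Ideal.Maps
import Mathlib.RingTheory.WittVector.Basic
-- import your own Groth.Agent.* helpers here

set_option autoImplicit false
universe u
open DPow

namespace Groth.Agent.S18929

/-- Let p be a prime, n a natural number, B a commutative ring in which p^n = 0, and I an ideal of B
equipped with divided powers. There is a ring homomorphism θ from the truncated Witt vectors
W_n(B/I) to B such that, for every Witt vector x over B, θ applied to the truncation of the image of
x in W_n(B/I) equals Σ_{i<n} p^i x_i^(p^(n−i)); in particular this sum depends only on the residues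
of x_0, …, x_{n−1} modulo I. (The source works with a divided power thickening of an algebra over a
perfect field and also checks linearity over the Witt vectors of that field; only the ring
homomorphism is asserted here. θ is unique, the truncation-of-reduction map being surjective.) -/
theorem result (p : ℕ) [Fact p.Prime] (n : ℕ)
    {B : Type u} [CommRing B] (hp : (p : B) ^ n = 0) {I : Ideal B} (hI : DividedPowers I) :
    ∃ θ : TruncatedWittVector p n (B ⧸ I) →+* B, ∀ x : WittVector p B, θ (WittVector.truncate n (WittVector.map (Ideal.Quotient.mk I) x)) =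
        ∑ i : Fin n, (p : B) ^ (i : ℕ) * (x.coeff i) ^ (p ^ (n - i)) := by
  classical
  let π : WittVector p B →+* TruncatedWittVector p n (B ⧸ I) :=
    (WittVector.truncate n).comp (WittVector.map (Ideal.Quotient.mk I))
  have hπ : Function.Surjective π :=
    (WittVector.truncate_surjective (p := p) n (B ⧸ I)).comp
      (WittVector.map_surjective _ Ideal.Quotient.mk_surjective)
  let w : WittVector p B →+* B := WittVector.ghostComponent n
  have hw : ∀ x : WittVector p B,
      w x = ∑ i : Fin n, (p : B) ^ (i : ℕ) * (x.coeff i) ^ (p ^ (n - i)) := by
    intro x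
    show WittVector.ghostComponent n x = _
    rw [WittVector.ghostComponent_apply, wittPolynomial_eq_sum_C_mul_X_pow, map_sum,
      Finset.sum_range_succ, ← Finset.sum_range (fun i => (p : B) ^ i * x.coeff i ^ p ^ (n - i))]
    have hlast : (MvPolynomial.aeval x.coeff)
        (MvPolynomial.C ((p : ℤ) ^ n) * MvPolynomial.X n ^ p ^ (n - n) : MvPolynomial ℕ ℤ) = 0 := by
      simp [hp]
    rw [hlast, add_zero]
    refine Finset.sum_congr rfl fun i _ => ?_
    simp
  have hker : RingHom.ker π ≤ RingHom.ker w := by
    intro x hx
    rw [RingHom.mem_ker] at hx ⊢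
    have hxI : ∀ i : Fin n, x.coeff i ∈ I := by
      intro i
      have h1 := congrArg (TruncatedWittVector.coeff i) hx
      rw [TruncatedWittVector.coeff_zero] at h1
      have h2 : TruncatedWittVector.coeff i (π x) = Ideal.Quotient.mk I (x.coeff i) := by
        show TruncatedWittVector.coeff i
          (WittVector.truncate n (WittVector.map (Ideal.Quotient.mk I) x)) = _
        rw [WittVector.coeff_truncate, WittVector.map_coeff]
      rw [h2] at h1
      exact Ideal.Quotient.eq_zero_iff_mem.mp h1
    rw [hw]
    refine Finset.sum_eq_zero fun i _ => ?_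
    have h3 := Groth.Agent.S18928.result hI p (n - i) 0 (x.coeff i) (hxI i)
    rw [zero_add, zero_pow (pow_ne_zero _ (Fact.out : p.Prime).ne_zero), sub_zero,
      Ideal.mem_span_singleton_mul] at h3
    obtain ⟨z, _, hz⟩ := h3
    rw [← hz, ← mul_assoc, ← pow_add]
    have : (i : ℕ) + (n - i) = n := by have := i.isLt; omega
    rw [this, hp, zero_mul]
  refine ⟨RingHom.liftOfSurjective π hπ ⟨w, hker⟩, fun x => ?_⟩
  have := RingHom.liftOfSurjective_comp_apply π hπ ⟨w, hker⟩ x
  rw [← hw x]
  exact this

end Groth.Agent.S18929
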