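import Groth.Statements.S1893
import Groth.Agent.Lib.Helper38.GrpdLib
import Mathlib.AlgebraicGeometry.Morphisms.UniversallyOpen

set_option autoImplicit false
universe u
open CategoryTheory CategoryTheory.Limits AlgebraicGeometry
open Grpd

namespace Groth.Agent.S1893

/-- Let (U, R, s, t, c) be a groupoid scheme over S with s, t quasi-compact and flat and U
quasi-separated, and W ⊆ U a quasi-compact open. Then the saturation t(s⁻¹(W)) can be written as an
intersection of quasi-compact opens of U, indexed by a nonempty set. (A groupoid scheme carries U,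
R, s, t, c, e, i over S with the groupoid axioms on T-points; 'finite locally free' is finite, flat
and locally of finite presentation; C ⊂ Γ(U) is the ring of functions a with s♯(a) = t♯(a) and M =
Spec C.) -/
theorem result (S : Scheme.{u}) (G : Grpd.GroupoidScheme S) [QuasiCompact G.s] [Flat G.s] [QuasiCompact G.t] [Flat G.t] [QuasiSeparatedSpace G.U] (W : G.U.Opens) (hW : IsCompact (W : Set G.U)) : ∃ (ι : Type u) (_ : Nonempty ι) (V : ι → G.U.Opens), (∀ i, IsCompact (V i : Set G.U)) ∧ ⇑G.t '' (⇑G.s ⁻¹' (W : Set G.U)) = ⋂ i, (V i : Set G.U) := by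

  have hEc : IsCompact (⇑G.t '' (⇑G.s ⁻¹' (W : Set G.U))) :=
    (QuasiCompact.isCompact_preimage (f := G.s) _ W.2 hW).image G.t.continuous
  -- the saturation is stable under generalization
  have hgen : ∀ x y : G.U, x ⤳ y → y ∈ ⇑G.t '' (⇑G.s ⁻¹' (W : Set G.U)) →
      x ∈ ⇑G.t '' (⇑G.s ⁻¹' (W : Set G.U)) := by
    rintro x _ hxy ⟨r, hr, rfl⟩
    obtain ⟨r', hr'r, hr'⟩ := (Flat.generalizingMap G.t) hxy
    exact ⟨r', (hr'r.map G.s.continuous).mem_open W.2 hr, hr'⟩
  -- quasi-compact open neighbourhoods inside any open neighbourhood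
  have key : ∀ N : Set G.U, IsOpen N → ⇑G.t '' (⇑G.s ⁻¹' (W : Set G.U)) ⊆ N →
      ∃ V : G.U.Opens, IsCompact (V : Set G.U) ∧ ⇑G.t '' (⇑G.s ⁻¹' (W : Set G.U)) ⊆ V ∧
        (V : Set G.U) ⊆ N := by
    intro N hN hEN
    have : ∀ x ∈ ⇑G.t '' (⇑G.s ⁻¹' (W : Set G.U)), ∃ V : G.U.Opens, IsCompact (V : Set G.U) ∧
        x ∈ V ∧ (V : Set G.U) ⊆ N := fun x hx => by
      obtain ⟨_, ⟨V, hV, rfl⟩, hxV, hVN⟩ :=
        G.U.isBasis_affineOpens.exists_subset_of_mem_open (hEN hx) hN
      exact ⟨V, IsAffineOpen.isCompact hV, hxV, hVN⟩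
    choose! V hVc hxV hVN using this
    obtain ⟨t, htE, ht⟩ := hEc.elim_nhds_subcover (fun x => (V x : Set G.U))
      (fun x hx => (V x).2.mem_nhds (hxV x hx))
    refine ⟨⨆ x ∈ t, V x, ?_, ?_, ?_⟩
    · simp only [TopologicalSpace.Opens.coe_iSup]
      exact t.isCompact_biUnion fun x hx => hVc x (htE x hx)
    · simpa only [TopologicalSpace.Opens.coe_iSup] using ht
    · simp only [TopologicalSpace.Opens.coe_iSup]
      exact Set.iUnion₂_subset fun x hx => hVN x (htE x hx)
  refine ⟨{V : G.U.Opens // IsCompact (V : Set G.U) ∧ ⇑G.t '' (⇑G.s ⁻¹' (W : Set G.U)) ⊆ V}, ?_,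
    fun V => V.1, fun V => V.2.1, ?_⟩
  · obtain ⟨V, hV, hEV, -⟩ := key Set.univ isOpen_univ (Set.subset_univ _)
    exact ⟨⟨V, hV, hEV⟩⟩
  · apply Set.Subset.antisymm
    · exact Set.subset_iInter fun V => V.2.2
    · intro x hx
      by_contra hxE
      have hEN : ⇑G.t '' (⇑G.s ⁻¹' (W : Set G.U)) ⊆ (closure ({x} : Set G.U))ᶜ := by
        intro y hy hyx
        exact hxE (hgen x y (specializes_iff_mem_closure.mpr hyx) hy)
      obtain ⟨V, hV, hEV, hVN⟩ := key _ isClosed_closure.isOpen_compl hEN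
      have hxV : x ∈ (V : Set G.U) := Set.mem_iInter.mp hx ⟨V, hV, hEV⟩
      exact hVN hxV (subset_closure rfl)


end Groth.Agent.S1893
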