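import Groth.Statements.S18931
import Groth.Agent.Lib.Helper57.WittTheta
import Mathlib.RingTheory.WittVector.Identities
import Mathlib.RingTheory.WittVector.Domain
import Mathlib.Algebra.CharP.Quotient
-- import your own Groth.Agent.* helpers here

set_option autoImplicit false
universe u
open DPow

namespace Groth.Agent.S18931

/-- In `W_n(R)` for `R` of characteristic `p` with surjective Frobenius, a truncated Witt vector
with vanishing zeroth component is a multiple of `p`. -/
theorem mem_span_p_of_coeff_zero (p : ℕ) [Fact p.Prime] (n : ℕ) (hn : 0 < n)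
    {R : Type u} [CommRing R] [CharP R p]
    (hF : Function.Surjective (fun y : R => y ^ p))
    (b : TruncatedWittVector p n R) (hb : TruncatedWittVector.coeff ⟨0, hn⟩ b = 0) :
    b ∈ Ideal.span {(p : TruncatedWittVector p n R)} := by
  classical
  have hb0 : b.out.coeff 0 = 0 := by
    have := TruncatedWittVector.coeff_out b ⟨0, hn⟩
    simpa [hb] using this
  have hV : b.out = WittVector.verschiebung (b.out.shift 1) := by
    have := WittVector.eq_iterate_verschiebung (x := b.out) (n := 1)
      (fun i hi => by
        have : i = 0 := by omega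
        rw [this]; exact hb0)
    simpa using this
  choose r hr using hF
  let c : WittVector p R := WittVector.mk p (fun i => r ((b.out.shift 1).coeff i))
  have hFc : WittVector.frobenius c = b.out.shift 1 := by
    ext i
    rw [WittVector.coeff_frobenius_charP]
    show (r ((b.out.shift 1).coeff i)) ^ p = _
    exact hr _
  have hbp : b.out = c * (p : WittVector p R) := by
    rw [hV, ← hFc, WittVector.verschiebung_frobenius]
  have hb' : b = WittVector.truncate n c * (p : TruncatedWittVector p n R) := by
    have h1 : WittVector.truncate n b.out = b := TruncatedWittVector.truncateFun_out b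
    rw [← h1, hbp, map_mul, map_natCast]
  rw [hb']
  exact Ideal.mul_mem_left _ _ (Ideal.mem_span_singleton_self _)

/-- Let p be a prime, n ≥ 1, B a commutative ring with p^n = 0 and A = B/pB, and assume that the p-th
power map of A is surjective. Let θ : W_n(A) → B be the ring homomorphism which sends the reduction
of a Witt vector (x_0, …, x_{n−1}) over B to Σ_{i<n} p^i x_i^(p^(n−i)). Then every a in W_n(A) with
a_0^(p^n) = 0 lies in ker θ + (p); together with the reverse inclusion, ker θ + (p) is exactly the
set of such a. (In the source B is the ring of global sections of a scheme over the Witt vectors of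
length n of a perfect field. The printed argument subtracts a single correction term, which suffices
for n ≤ 2; in general one corrects the components one at a time.) -/
theorem result (p : ℕ) [Fact p.Prime]
    (n : ℕ) (hn : 0 < n) {B : Type u} [CommRing B] (hp : (p : B) ^ n = 0)
    (hF : Function.Surjective (fun y : B ⧸ (Ideal.span {(p : B)}) => y ^ p))
    (θ : TruncatedWittVector p n (B ⧸ (Ideal.span {(p : B)})) →+* B)
    (hθ : ∀ x : WittVector p B, θ (WittVector.truncate n (WittVector.map (Ideal.Quotient.mk (Ideal.span {(p : B)})) x)) =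
        ∑ i : Fin n, (p : B) ^ (i : ℕ) * (x.coeff i) ^ (p ^ (n - i)))
    (a : TruncatedWittVector p n (B ⧸ (Ideal.span {(p : B)}))) (ha : (TruncatedWittVector.coeff ⟨0, hn⟩ a) ^ (p ^ n) = 0) :
    a ∈ RingHom.ker θ ⊔ Ideal.span {(p : TruncatedWittVector p n (B ⧸ (Ideal.span {(p : B)})))} := by
  classical
  by_cases hB : Nontrivial B
  swap
  · -- trivial ring
    have hsub : Subsingleton B := not_nontrivial_iff_subsingleton.mp hB
    have : Subsingleton (B ⧸ (Ideal.span {(p : B)})) :=
      (Ideal.Quotient.mk_surjective (I := Ideal.span {(p : B)})).subsingleton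
    have ha0 : a = 0 := by
      apply TruncatedWittVector.ext
      intro i
      exact Subsingleton.elim _ _
    rw [ha0]
    exact Submodule.zero_mem _
  have hpnonunit : (p : B) ∈ nonunits B := by
    intro hu
    have : IsUnit ((p : B) ^ n) := hu.pow n
    rw [hp] at this
    exact not_isUnit_zero this
  have hchar : CharP (B ⧸ (Ideal.span {(p : B)})) p := CharP.quotient B p hpnonunit
  obtain ⟨n', rfl⟩ : ∃ n', n = n' + 1 := ⟨n - 1, by omega⟩
  -- lift the zeroth component
  obtain ⟨x₀, hx₀⟩ := Ideal.Quotient.mk_surjective (TruncatedWittVector.coeff ⟨0, hn⟩ a)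
  have hx₀p : x₀ ^ p ^ (n' + 1) ∈ Ideal.span {(p : B)} := by
    rw [← Ideal.Quotient.eq_zero_iff_mem, map_pow, hx₀, ha]
  obtain ⟨y₀, hy₀⟩ := Ideal.mem_span_singleton'.mp hx₀p
  obtain ⟨u, hu⟩ := Groth.Agent.Lib.Helper57.exists_sum_sub_mem_span_p_pow p hF n' n' (-y₀)
  obtain ⟨z, hz⟩ := Ideal.mem_span_singleton'.mp hu
  let x : ℕ → B := fun i => Nat.casesOn i x₀ u
  have hsum : ∑ i : Fin (n' + 1), (p : B) ^ (i : ℕ) * (x i) ^ (p ^ (n' + 1 - i)) = 0 := by
    rw [Fin.sum_univ_succ]
    simp only [Fin.val_zero, pow_zero, one_mul, Nat.sub_zero, Fin.val_succ]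
    have h1 : ∑ i : Fin n', (p : B) ^ ((i : ℕ) + 1) * x ((i : ℕ) + 1) ^ p ^ (n' + 1 - ((i : ℕ) + 1)) =
        (p : B) * ∑ i ∈ Finset.range n', (p : B) ^ i * (u i) ^ (p ^ (n' - i)) := by
      rw [Finset.mul_sum, Finset.sum_range (fun i => (p : B) * ((p : B) ^ i * (u i) ^ (p ^ (n' - i))))]
      refine Finset.sum_congr rfl fun i _ => ?_
      have : n' + 1 - ((i : ℕ) + 1) = n' - i := by omega
      rw [this, pow_succ]
      show (p : B) ^ (i : ℕ) * (p : B) * (u i) ^ _ = _
      ring
    rw [h1]
    show x₀ ^ p ^ (n' + 1) + _ = 0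
    have h2 : (p : B) * (p : B) ^ n' = 0 := by rw [← pow_succ']; exact hp
    linear_combination (p : B) * hz - hy₀ - z * h2
  let j : TruncatedWittVector p (n' + 1) (B ⧸ (Ideal.span {(p : B)})) :=
    WittVector.truncate (n' + 1) (WittVector.map (Ideal.Quotient.mk (Ideal.span {(p : B)}))
      (WittVector.mk p x))
  have hj : j ∈ RingHom.ker θ := by
    rw [RingHom.mem_ker]
    show θ (WittVector.truncate (n' + 1) (WittVector.map _ (WittVector.mk p x))) = 0
    rw [hθ]
    exact hsum
  have hj0 : TruncatedWittVector.coeff ⟨0, hn⟩ j = TruncatedWittVector.coeff ⟨0, hn⟩ a := by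
    show TruncatedWittVector.coeff ⟨0, hn⟩ (WittVector.truncate (n' + 1)
      (WittVector.map (Ideal.Quotient.mk (Ideal.span {(p : B)})) (WittVector.mk p x))) = _
    rw [WittVector.coeff_truncate, WittVector.map_coeff, ← hx₀]
    rfl
  have hdiff : a - j ∈ Ideal.span {(p : TruncatedWittVector p (n' + 1) (B ⧸ (Ideal.span {(p : B)})))} := by
    apply mem_span_p_of_coeff_zero p (n' + 1) hn hF
    -- zeroth coefficient is additive
    obtain ⟨at', hat⟩ := WittVector.truncate_surjective (p := p) (n' + 1) (B ⧸ (Ideal.span {(p : B)})) a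
    obtain ⟨jt, hjt⟩ := WittVector.truncate_surjective (p := p) (n' + 1) (B ⧸ (Ideal.span {(p : B)})) j
    have e1 : TruncatedWittVector.coeff ⟨0, hn⟩ (a - j) =
        WittVector.constantCoeff (p := p) (at' - jt) := by
      rw [← hat, ← hjt, ← map_sub, WittVector.coeff_truncate]
      rfl
    have e2 : TruncatedWittVector.coeff ⟨0, hn⟩ a = WittVector.constantCoeff (p := p) at' := by
      rw [← hat, WittVector.coeff_truncate]; rfl
    have e3 : TruncatedWittVector.coeff ⟨0, hn⟩ j = WittVector.constantCoeff (p := p) jt := by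
      rw [← hjt, WittVector.coeff_truncate]; rfl
    rw [e1, map_sub, ← e2, ← e3, hj0, sub_self]
  have : a = j + (a - j) := by ring
  rw [this]
  exact Submodule.add_mem_sup hj hdiff

end Groth.Agent.S18931
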