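import Groth.Statements.S18933
import Groth.Agent.Lib.Helper62.ExpandFree

set_option autoImplicit false
set_option linter.style.haveILetI false
universe u
open Synt

namespace Groth.Agent.S18933

/-- Let p be a prime, A a Noetherian commutative ring and m a natural number, and let φ be the A-algebra
endomorphism of the polynomial ring A[T_1, …, T_m] with φ(T_i) = T_i^p. Then φ is syntomic and
faithfully flat (so Spec φ is a covering for the syntomic topology). -/
theorem result (p : ℕ) [Fact p.Prime]
    (A : Type u) [CommRing A] [IsNoetherianRing A] (m : ℕ)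
    (φ : MvPolynomial (Fin m) A →ₐ[A] MvPolynomial (Fin m) A)
    (hφ : ∀ i : Fin m, φ (MvPolynomial.X i) = MvPolynomial.X i ^ p) :
    @Synt.IsSyntomic (MvPolynomial (Fin m) A) _ (MvPolynomial (Fin m) A) _ φ.toRingHom.toAlgebra ∧
      φ.toRingHom.FaithfullyFlat := by
  have hp : 0 < p := (Fact.out : p.Prime).pos
  have hφ' : φ = MvPolynomial.expand p := by
    apply MvPolynomial.algHom_ext
    intro i
    rw [hφ, MvPolynomial.expand_X]
  subst hφ'
  haveI : Module.Free (MvPolynomial (Fin m) A) (Groth.Agent.Lib.Helper62.ExpandFree.Tgt A (Fin m) p) :=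
    Groth.Agent.Lib.Helper62.ExpandFree.free A (Fin m) p hp
  haveI : Module.Finite (MvPolynomial (Fin m) A) (Groth.Agent.Lib.Helper62.ExpandFree.Tgt A (Fin m) p) :=
    Groth.Agent.Lib.Helper62.ExpandFree.finite A (Fin m) p hp
  have h1 : Synt.IsSyntomic (MvPolynomial (Fin m) A)
      (Groth.Agent.Lib.Helper62.ExpandFree.Tgt A (Fin m) p) :=
    Groth.Agent.Lib.Helper62.GCIField.isSyntomic_of_finite_of_hasPres_zero _ _
      (Groth.Agent.Lib.Helper62.ExpandFree.hasPres A (Fin m) p)
  have h2 : Module.FaithfullyFlat (MvPolynomial (Fin m) A)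
      (Groth.Agent.Lib.Helper62.ExpandFree.Tgt A (Fin m) p) := by
    by_cases hA : Subsingleton A
    · haveI := hA
      refine ⟨fun I hI => ?_⟩
      exact absurd (Subsingleton.elim I ⊤) hI.ne_top
    · rw [not_subsingleton_iff_nontrivial] at hA
      haveI := hA
      haveI := Groth.Agent.Lib.Helper62.ExpandFree.nontrivial A (Fin m) p
      infer_instance
  exact ⟨h1, h2⟩

end Groth.Agent.S18933
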