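import Groth.Statements.S18934
import Groth.Agent.Lib.Helper62.GCIField5
import Mathlib.RingTheory.KrullDimension.Zero
import Mathlib.RingTheory.Artinian.Ring

set_option autoImplicit false
set_option linter.style.haveILetI false
universe u
open Synt

namespace Groth.Agent.S18934

open Polynomial TensorProduct Groth.Agent.Lib.Helper62.GCIField in
/-- adjoining a root of a monic polynomial of positive degree is syntomic and faithfully flat. -/
theorem isSyntomic_adjoinRoot_of_monic (A : Type u) [CommRing A] (f : A[X]) (hf : f.Monic)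
    (hdeg : Nontrivial A → f.natDegree ≠ 0) :
    Synt.IsSyntomic A (AdjoinRoot f) ∧ Module.FaithfullyFlat A (AdjoinRoot f) := by
  haveI : Module.Free A (AdjoinRoot f) := hf.free_adjoinRoot
  haveI : Module.Finite A (AdjoinRoot f) := hf.finite_adjoinRoot
  have hpres : HasPres A (AdjoinRoot f) 0 := hasPres_adjoinRoot A f
  haveI : Algebra.FinitePresentation A (AdjoinRoot f) := hpres.finitePresentation
  refine ⟨⟨inferInstance, inferInstance, fun p => ?_⟩, ?_⟩
  · haveI : Nontrivial A := p.nontrivial
    have hT : HasPres p.asIdeal.ResidueField (p.asIdeal.ResidueField ⊗[A] AdjoinRoot f) 0 := by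
      obtain ⟨ι, σ, hι, hσ, P, hP⟩ := hpres
      exact ⟨ι, σ, hι, hσ, P.baseChange p.asIdeal.ResidueField, hP⟩
    haveI : Algebra.FinitePresentation p.asIdeal.ResidueField
        (p.asIdeal.ResidueField ⊗[A] AdjoinRoot f) := hT.finitePresentation
    have hrk : Module.finrank p.asIdeal.ResidueField
        (p.asIdeal.ResidueField ⊗[A] AdjoinRoot f) = f.natDegree := by
      rw [Module.finrank_baseChange, (AdjoinRoot.powerBasis' hf).finrank,
        AdjoinRoot.powerBasis'_dim]
    haveI : Nontrivial (p.asIdeal.ResidueField ⊗[A] AdjoinRoot f) :=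
      Module.nontrivial_of_finrank_pos (R := p.asIdeal.ResidueField)
        (by rw [hrk]; exact Nat.pos_of_ne_zero (hdeg inferInstance))
    haveI : IsArtinianRing (p.asIdeal.ResidueField ⊗[A] AdjoinRoot f) :=
      IsArtinianRing.of_finite p.asIdeal.ResidueField _
    have hdim : ringKrullDim (p.asIdeal.ResidueField ⊗[A] AdjoinRoot f) = ((0 : ℕ) : WithBot ℕ∞) := by
      rw [Nat.cast_zero]
      exact ringKrullDimZero_iff_ringKrullDim_eq_zero.mp inferInstance
    have hgci : Synt.IsGlobalCI p.asIdeal.ResidueField
        (p.asIdeal.ResidueField ⊗[A] AdjoinRoot f) := hT.isGlobalCI hdim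
    refine ⟨inferInstance, fun q => ⟨1, ?_, isGlobalCI_away hgci 1⟩⟩
    intro h1
    exact q.2.ne_top ((Ideal.eq_top_iff_one _).mpr h1)
  · by_cases hA : Subsingleton A
    · haveI := hA
      refine ⟨fun m hm => ?_⟩
      exact absurd (Subsingleton.elim m ⊤) hm.ne_top
    · rw [not_subsingleton_iff_nontrivial] at hA
      haveI := hA
      haveI : Nontrivial (AdjoinRoot f) :=
        Module.nontrivial_of_finrank_pos (R := A)
          (by rw [(AdjoinRoot.powerBasis' hf).finrank, AdjoinRoot.powerBasis'_dim]
              exact Nat.pos_of_ne_zero (hdeg inferInstance))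
      infer_instance

open Polynomial in
/-- Let p be a prime, A a commutative ring and a an element of A. Then the A-algebra A[T]/(T^p − a) is
syntomic and faithfully flat over A. This is the step of the source's proof showing that adjoining a
p-th root of any element is a covering for the syntomic topology. -/
theorem result (p : ℕ) [Fact p.Prime]
    (A : Type u) [CommRing A] (a : A) :
    Synt.IsSyntomic A (AdjoinRoot (X ^ p - C a)) ∧ Module.FaithfullyFlat A (AdjoinRoot (X ^ p - C a)) := by
  have hp : p ≠ 0 := (Fact.out : p.Prime).ne_zero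
  apply isSyntomic_adjoinRoot_of_monic A _ (monic_X_pow_sub_C a hp)
  intro hA
  rw [natDegree_X_pow_sub_C]
  exact hp

end Groth.Agent.S18934
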