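import Groth.Statements.S18936
-- import your own Groth.Agent.* helpers here

set_option autoImplicit false
universe u
open CAlg

namespace Groth.Agent.S18936

/-- Let A be a Noetherian commutative ring, q a prime ideal of A and f an element of A whose image in
the localization A_q is a non-zero-divisor. Then there is an element b of A not in q such that the
image of f in A[1/b] is a non-zero-divisor. -/
theorem result {A : Type u} [CommRing A] [IsNoetherianRing A]
    (q : Ideal A) [q.IsPrime] (f : A)
    (hf : algebraMap A (Localization.AtPrime q) f ∈ nonZeroDivisors (Localization.AtPrime q)) :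
    ∃ b : A, b ∉ q ∧ algebraMap A (Localization.Away b) f ∈ nonZeroDivisors (Localization.Away b) := by
  classical
  -- the kernel of multiplication by `f`
  let K : Ideal A := LinearMap.ker (LinearMap.mulLeft A f)
  have hKmem : ∀ x, x ∈ K ↔ f * x = 0 := fun x => Iff.rfl
  have hKfg : K.FG := IsNoetherian.noetherian K
  have hkill : ∀ x ∈ K, ∃ s : A, s ∉ q ∧ s * x = 0 := by
    intro x hx
    have h1 : algebraMap A (Localization.AtPrime q) f * algebraMap A (Localization.AtPrime q) x = 0 := by
      rw [← map_mul, (hKmem x).mp hx, map_zero]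
    have h2 : algebraMap A (Localization.AtPrime q) x = 0 :=
      (mem_nonZeroDivisors_iff_left.mp hf) _ h1
    obtain ⟨⟨s, hs⟩, hsx⟩ := (IsLocalization.map_eq_zero_iff q.primeCompl _ x).mp h2
    exact ⟨s, hs, hsx⟩
  obtain ⟨b, hbq, hb⟩ : ∃ b : A, b ∉ q ∧ ∀ x ∈ K, b * x = 0 := by
    obtain ⟨S, hS⟩ := hKfg
    choose! s hs using hkill
    refine ⟨∏ x ∈ S, s x, ?_, ?_⟩
    · intro hmem
      obtain ⟨x, hxS, hx⟩ := (Ideal.IsPrime.prod_mem_iff).mp hmem
      exact (hs x (hS ▸ Ideal.subset_span hxS)).1 hx
    · intro x hx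
      rw [← hS] at hx
      refine Submodule.span_induction ?_ ?_ ?_ ?_ hx
      · intro y hy
        have hyK : y ∈ K := hS ▸ Ideal.subset_span hy
        rw [← Finset.mul_prod_erase S s hy, mul_comm (s y), mul_assoc, (hs y hyK).2, mul_zero]
      · simp
      · intro y z _ _ hy hz
        rw [mul_add, hy, hz, add_zero]
      · intro a y _ hy
        rw [smul_eq_mul, mul_left_comm, hy, mul_zero]
  refine ⟨b, hbq, ?_⟩
  rw [mem_nonZeroDivisors_iff_left]
  intro z hz
  obtain ⟨a, ⟨_, n, rfl⟩, rfl⟩ := IsLocalization.exists_mk'_eq (Submonoid.powers b) z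
  rw [← IsLocalization.mk'_one (M := Submonoid.powers b) (Localization.Away b) f,
    ← IsLocalization.mk'_mul, IsLocalization.mk'_eq_zero_iff] at hz
  obtain ⟨⟨_, m, rfl⟩, hm⟩ := hz
  rw [IsLocalization.mk'_eq_zero_iff]
  have hmem : b ^ m * a ∈ K := by
    rw [hKmem]
    have : b ^ m * (f * a) = 0 := hm
    rw [← this]; ring
  refine ⟨⟨b ^ (m + 1), m + 1, rfl⟩, ?_⟩
  show b ^ (m + 1) * a = 0
  rw [pow_succ', mul_assoc]
  exact hb _ hmem

end Groth.Agent.S18936
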