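import Groth.Statements.S18938
import Groth.Agent.Lib.Helper8.SyntLCI
import Groth.Agent.Lib.Helper9.RegAway
import Groth.Agent.Lib.Helper9.RegPoly
-- import your own Groth.Agent.* helpers here

set_option autoImplicit false
universe u
open Synt

namespace Groth.Agent.S18938

/-- Let A be a Noetherian commutative ring and B a syntomic A-algebra. Then Spec B is covered by basic
opens D(g) with B[1/g] isomorphic, as an A-algebra, to A[T_1, …, T_n]/(P_1, …, P_d) for a regular
sequence P_1, …, P_d (successive non-zero-divisors with nonzero last quotient) in the polynomial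
ring A[T_1, …, T_n]. (The source states this for a syntomic scheme over Spec A, syntomic meaning
flat, locally of finite presentation and locally a Koszul-regular immersion into a smooth scheme;
here syntomic is the ring-map notion with local complete intersection fibres, which agrees with it.) -/
theorem result
    (A : Type u) [CommRing A] [IsNoetherianRing A] (B : Type u) [CommRing B] [Algebra A B]
    (h : Synt.IsSyntomic A B) (q : PrimeSpectrum B) :
    ∃ g : B, g ∉ q.asIdeal ∧
      ∃ (n d : ℕ) (P : Fin d → MvPolynomial (Fin n) A),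
        RingTheory.Sequence.IsRegular (MvPolynomial (Fin n) A) (List.ofFn P) ∧
        Nonempty (Localization.Away g ≃ₐ[A] (MvPolynomial (Fin n) A ⧸ Ideal.ofList (List.ofFn P))) := by
  obtain ⟨hflat, hft, m, φ, hφ, hK⟩ := (Groth.Agent.Lib.Helper8.SyntLCI.isSyntomic_iff A B).mp h
  haveI : (q.asIdeal.comap φ.toRingHom).IsPrime := Ideal.comap_isPrime _ _
  have hIQ : RingHom.ker φ.toRingHom ≤ q.asIdeal.comap φ.toRingHom := by
    intro x hx
    rw [Ideal.mem_comap, RingHom.mem_ker.mp hx]
    exact zero_mem _
  obtain ⟨G, hGQ, l, hl, hIl⟩ := Groth.Agent.Lib.Helper9.RegAway.exists_regular_away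
    (MvPolynomial (Fin m) A) (RingHom.ker φ.toRingHom) hK (q.asIdeal.comap φ.toRingHom) hIQ
  obtain ⟨d, P, hP, ⟨ε⟩⟩ :=
    Groth.Agent.Lib.Helper9.RegPoly.step3 A m (RingHom.ker φ.toRingHom) G l hl hIl
  let e0 : (MvPolynomial (Fin m) A ⧸ RingHom.ker φ.toRingHom) ≃ₐ[A] B :=
    Ideal.quotientKerAlgEquivOfSurjective hφ
  have he0 : e0 (Ideal.Quotient.mk (RingHom.ker φ.toRingHom) G) = φ G := rfl
  let e1 : Localization.Away (Ideal.Quotient.mk (RingHom.ker φ.toRingHom) G) ≃ₐ[A]
      Localization.Away (φ G) :=
    IsLocalization.algEquivOfAlgEquiv _ _ e0 (by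
      rw [Submonoid.map_powers, he0])
  exact ⟨φ G, hGQ, m + 1, d, P, hP, ⟨e1.symm.trans ε⟩⟩

end Groth.Agent.S18938
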