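import Groth.Statements.S1894
import Groth.Agent.Lib.Helper38.GrpdLib
import Groth.Agent.Lib.Helper38.QCClosure

set_option autoImplicit false
universe u
open CategoryTheory CategoryTheory.Limits AlgebraicGeometry
open Grpd

namespace Groth.Agent.S1894

/-- Let (U, R, s, t, c) be a groupoid scheme over S with s, t quasi-compact and flat and U
quasi-separated, and W ⊆ U a quasi-compact open. Then there are an R-invariant open V (s⁻¹V = t⁻¹V)
and a quasi-compact open W' with W ⊆ V ⊆ W'. (A groupoid scheme carries U, R, s, t, c, e, i over S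
with the groupoid axioms on T-points; 'finite locally free' is finite, flat and locally of finite
presentation; C ⊂ Γ(U) is the ring of functions a with s♯(a) = t♯(a) and M = Spec C.) -/
theorem result (S : Scheme.{u}) (G : Grpd.GroupoidScheme S) [QuasiCompact G.s] [Flat G.s] [QuasiCompact G.t] [Flat G.t] [QuasiSeparatedSpace G.U] (W : G.U.Opens) (hW : IsCompact (W : Set G.U)) : ∃ V W' : G.U.Opens, G.s ⁻¹ᵁ V = G.t ⁻¹ᵁ V ∧ IsCompact (W' : Set G.U) ∧ W ≤ V ∧ V ≤ W' := by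

  have sat_inv : ∀ (A : Set G.U) (r : G.R), G.s r ∈ ⇑G.t '' (⇑G.s ⁻¹' A) →
      G.t r ∈ ⇑G.t '' (⇑G.s ⁻¹' A) := by
    rintro A r ⟨r', hr', hr'r⟩
    obtain ⟨r'', hs, ht⟩ := Groth.Agent.Lib.Helper38.GrpdLib.exists_comp_point G r r' hr'r.symm
    exact ⟨r'', by rw [Set.mem_preimage, hs]; exact hr', ht⟩
  have le_sat : ∀ A : Set G.U, A ⊆ ⇑G.t '' (⇑G.s ⁻¹' A) := fun A x hx =>
    ⟨G.e x, by rw [Set.mem_preimage, Groth.Agent.Lib.Helper38.GrpdLib.s_e_apply]; exact hx,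
      Groth.Agent.Lib.Helper38.GrpdLib.t_e_apply G x⟩
  have hEc : IsCompact (⇑G.t '' (⇑G.s ⁻¹' (W : Set G.U))) :=
    (QuasiCompact.isCompact_preimage (f := G.s) _ W.2 hW).image G.t.continuous
  -- a quasi-compact open containing the saturation of `W`
  obtain ⟨W', hW'c, hEW'⟩ : ∃ W' : G.U.Opens, IsCompact (W' : Set G.U) ∧
      ⇑G.t '' (⇑G.s ⁻¹' (W : Set G.U)) ⊆ W' := by
    obtain ⟨t, -, ht⟩ := hEc.elim_nhds_subcover
      (fun x => ((G.U.affineCover.f (G.U.affineCover.idx x)).opensRange : Set G.U))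
      (fun x _ => (G.U.affineCover.f (G.U.affineCover.idx x)).opensRange.2.mem_nhds (G.U.affineCover.covers x))
    refine ⟨⨆ x ∈ t, (G.U.affineCover.f (G.U.affineCover.idx x)).opensRange, ?_, ?_⟩
    · simp only [TopologicalSpace.Opens.coe_iSup]
      exact t.isCompact_biUnion fun x _ => (isAffineOpen_opensRange _).isCompact
    · simpa only [TopologicalSpace.Opens.coe_iSup] using ht
  have hZ : IsClosed ((W' : Set G.U)ᶜ) := W'.2.isClosed_compl
  -- the saturation `T` of the complement is disjoint from `W`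
  have hTW : ∀ x ∈ ⇑G.t '' (⇑G.s ⁻¹' ((W' : Set G.U)ᶜ)), x ∉ (W : Set G.U) := by
    rintro _ ⟨r, hr, rfl⟩ hx
    -- `t r ∈ W ⊆ E`, so `s r ∈ E ⊆ W'`
    have h1 : G.s (G.i r) ∈ ⇑G.t '' (⇑G.s ⁻¹' (W : Set G.U)) := by
      rw [Groth.Agent.Lib.Helper38.GrpdLib.s_i_apply]
      exact le_sat _ hx
    have h2 := sat_inv _ _ h1
    rw [Groth.Agent.Lib.Helper38.GrpdLib.t_i_apply] at h2
    exact hr (hEW' h2)
  have hinv : ∀ r : G.R, G.s r ∈ closure (⇑G.t '' (⇑G.s ⁻¹' ((W' : Set G.U)ᶜ))) →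
      G.t r ∈ closure (⇑G.t '' (⇑G.s ⁻¹' ((W' : Set G.U)ᶜ))) := by
    intro r hr
    obtain ⟨c, hc, hcs⟩ :=
      Groth.Agent.Lib.Helper38.QCClosure.exists_specializes_of_mem_closure_image G.t
        (⇑G.s ⁻¹' ((W' : Set G.U)ᶜ)) (hZ.preimage G.s.continuous) (G.s r) hr
    obtain ⟨r', hr'r, hr'⟩ := (Flat.generalizingMap G.s) hcs
    have h3 : G.t r' ∈ ⇑G.t '' (⇑G.s ⁻¹' ((W' : Set G.U)ᶜ)) :=
      sat_inv _ r' (hr' ▸ ⟨c, hc, rfl⟩)
    exact (hr'r.map G.t.continuous).mem_closed isClosed_closure (subset_closure h3)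
  have hinv' : ∀ r : G.R, G.t r ∈ closure (⇑G.t '' (⇑G.s ⁻¹' ((W' : Set G.U)ᶜ))) →
      G.s r ∈ closure (⇑G.t '' (⇑G.s ⁻¹' ((W' : Set G.U)ᶜ))) := by
    intro r hr
    have := hinv (G.i r) (by rw [Groth.Agent.Lib.Helper38.GrpdLib.s_i_apply]; exact hr)
    rwa [Groth.Agent.Lib.Helper38.GrpdLib.t_i_apply] at this
  refine ⟨⟨(closure (⇑G.t '' (⇑G.s ⁻¹' ((W' : Set G.U)ᶜ))))ᶜ, isClosed_closure.isOpen_compl⟩, W',
    ?_, hW'c, ?_, ?_⟩
  · ext r
    change G.s r ∉ closure _ ↔ G.t r ∉ closure _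
    exact not_congr ⟨hinv r, hinv' r⟩
  · intro x hx
    change x ∉ closure _
    intro hcl
    obtain ⟨y, hyW, hyT⟩ := mem_closure_iff.mp hcl _ W.2 hx
    exact hTW y hyT hyW
  · intro x hx
    by_contra hxW'
    exact hx (subset_closure (le_sat _ hxW'))


end Groth.Agent.S1894
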