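import Groth.Statements.S18942
import Mathlib

set_option autoImplicit false
set_option maxHeartbeats 400000
universe u
open DPow

namespace Groth.Agent.S18942

/-- Let p be a prime, k a perfect field of characteristic p, n a natural number and x an element of
W_n(k), written here as the truncation of a Witt vector x over k. For any Witt vectors y_0, …,
y_{n−1} over k lifting the components of x under the map y ↦ (y_0)^(p^n) (that is, (y_i)_0^(p^n) =
x_i), one has x = Σ_{i<n} p^i y_i^(p^(n−i)) in W_n(k). -/
theorem result (p : ℕ) [Fact p.Prime]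
    (k : Type u) [Field k] [CharP k p] [PerfectRing k p] (n : ℕ) (x : WittVector p k)
    (y : Fin n → WittVector p k) (hy : ∀ i : Fin n, ((y i).coeff 0) ^ (p ^ n) = x.coeff i) :
    WittVector.truncate n x =
      WittVector.truncate n (∑ i : Fin n, (p : WittVector p k) ^ (i : ℕ) * (y i) ^ (p ^ (n - i))) := by
  classical
  rcases Nat.eq_zero_or_pos n with rfl | hn
  · ext i
    exact i.elim0
  obtain ⟨m, rfl⟩ : ∃ m, n = m + 1 := ⟨n - 1, by omega⟩
  rw [← sub_eq_zero, ← map_sub, ← RingHom.mem_ker, WittVector.mem_ker_truncate,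
    ← WittVector.mem_span_p_pow_iff_le_coeff_eq_zero, Ideal.mem_span_singleton]
  obtain ⟨c, hc⟩ := WittVector.dvd_sub_sum_teichmuller_iterateFrobeniusEquiv_coeff x m
  -- rewrite the Teichmüller sum over `Fin (m+1)`
  have hsum : ∑ i ∈ Finset.Iic m, (WittVector.teichmuller p
        (((_root_.frobeniusEquiv k p).symm ^ i) (x.coeff i)) * (p : WittVector p k) ^ i) =
      ∑ i : Fin (m + 1), (WittVector.teichmuller p
        (((_root_.frobeniusEquiv k p).symm ^ (i : ℕ)) (x.coeff i)) * (p : WittVector p k) ^ (i : ℕ)) := by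
    rw [Fin.sum_univ_eq_sum_range (fun i => WittVector.teichmuller p
        (((_root_.frobeniusEquiv k p).symm ^ i) (x.coeff i)) * (p : WittVector p k) ^ i) (m + 1)]
    refine Finset.sum_congr ?_ (fun _ _ => rfl)
    ext i
    simp
  rw [hsum] at hc
  have hterm : ∀ i : Fin (m + 1), (p : WittVector p k) ^ (m + 1) ∣
      (WittVector.teichmuller p (((_root_.frobeniusEquiv k p).symm ^ (i : ℕ)) (x.coeff i)) *
        (p : WittVector p k) ^ (i : ℕ)) -
      (p : WittVector p k) ^ (i : ℕ) * (y i) ^ (p ^ (m + 1 - i)) := by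
    intro i
    have hi : (i : ℕ) ≤ m := Nat.lt_succ_iff.mp i.2
    -- y i ≡ τ (y i)_0 mod p
    have h1 : (p : WittVector p k) ∣ y i - WittVector.teichmuller p ((y i).coeff 0) := by
      rw [← Ideal.mem_span_singleton, WittVector.mem_span_p_iff_coeff_zero_eq_zero]
      have : WittVector.constantCoeff (y i - WittVector.teichmuller p ((y i).coeff 0)) = 0 := by
        rw [map_sub]
        show (y i).coeff 0 - (WittVector.teichmuller p ((y i).coeff 0)).coeff 0 = 0
        rw [WittVector.teichmuller_coeff_zero, sub_self]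
      exact this
    have h2 := dvd_sub_pow_of_dvd_sub h1 (m + 1 - i)
    -- identify the Teichmüller power
    have h5 : (WittVector.teichmuller p ((y i).coeff 0)) ^ p ^ (m + 1 - (i : ℕ)) =
        WittVector.teichmuller p (((_root_.frobeniusEquiv k p).symm ^ (i : ℕ)) (x.coeff i)) := by
      rw [← map_pow]
      congr 1
      have hinj : Function.Injective ((_root_.frobeniusEquiv k p) ^ (i : ℕ)) :=
        ((_root_.frobeniusEquiv k p) ^ (i : ℕ)).injective
      apply hinj
      have e1 : ((_root_.frobeniusEquiv k p) ^ (i : ℕ))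
          (((_root_.frobeniusEquiv k p).symm ^ (i : ℕ)) (x.coeff i)) = x.coeff i := by
        have : ((_root_.frobeniusEquiv k p).symm ^ (i : ℕ)) =
            ((_root_.frobeniusEquiv k p) ^ (i : ℕ))⁻¹ := by
          rw [← inv_pow]; rfl
        rw [this]
        exact RingEquiv.apply_symm_apply _ _
      rw [e1, ← hy i]
      have e2 : ∀ (j : ℕ) (a : k), ((_root_.frobeniusEquiv k p) ^ j) a = a ^ p ^ j := by
        intro j
        induction j with
        | zero => intro a; simp
        | succ j ih =>
          intro a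
          rw [pow_succ', RingAut.mul_apply, ih, frobeniusEquiv_apply, frobenius_def, ← pow_mul,
            ← pow_succ]
      rw [e2, ← pow_mul, ← pow_add]
      congr 2
      omega
    rw [h5] at h2
    obtain ⟨d, hd⟩ := h2
    refine ⟨-(p : WittVector p k) * d, ?_⟩
    have h6 : (p : WittVector p k) ^ (m + 1) =
        (p : WittVector p k) ^ (i : ℕ) * (p : WittVector p k) ^ (m + 1 - (i : ℕ)) := by
      rw [← pow_add]
      congr 1
      omega
    rw [h6]
    rw [pow_succ] at hd
    linear_combination (-(p : WittVector p k) ^ (i : ℕ)) * hd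
  have hfin : (p : WittVector p k) ^ (m + 1) ∣
      ∑ i : Fin (m + 1), ((WittVector.teichmuller p
        (((_root_.frobeniusEquiv k p).symm ^ (i : ℕ)) (x.coeff i)) * (p : WittVector p k) ^ (i : ℕ)) -
      (p : WittVector p k) ^ (i : ℕ) * (y i) ^ (p ^ (m + 1 - i))) :=
    Finset.dvd_sum (fun i _ => hterm i)
  rw [Finset.sum_sub_distrib] at hfin
  obtain ⟨d, hd⟩ := hfin
  exact ⟨c + d, by linear_combination hc + hd⟩

end Groth.Agent.S18942
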