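import Groth.Statements.S18943
import Mathlib

set_option autoImplicit false
open scoped ContDiff
open CInfGerm

namespace Groth.Agent.S18943

open scoped ContDiff
open MeasureTheory Set Filter Topology

/-- `G n h x = ∫₀¹ tⁿ h(t x) dt` -/
noncomputable def G (n : ℕ) (h : ℝ → ℝ) (x : ℝ) : ℝ := ∫ t in (0:ℝ)..1, t ^ n * h (t * x)

lemma hasDerivAt_G (n : ℕ) (h : ℝ → ℝ) (hh : ContDiff ℝ ∞ h) (x₀ : ℝ) :
    HasDerivAt (G n h) (G (n + 1) (deriv h) x₀) x₀ := by
  have hc : Continuous h := hh.continuous
  have hd : Continuous (deriv h) := hh.continuous_deriv (by simp)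
  have hdiff : Differentiable ℝ h := hh.differentiable (by simp)
  obtain ⟨M, hM⟩ : ∃ M, ∀ y ∈ Icc (-(|x₀| + 1)) (|x₀| + 1), ‖deriv h y‖ ≤ M :=
    isCompact_Icc.exists_bound_of_continuousOn hd.continuousOn
  have key := intervalIntegral.hasDerivAt_integral_of_dominated_loc_of_deriv_le (μ := volume)
    (F := fun x t => t ^ n * h (t * x)) (F' := fun x t => t ^ (n + 1) * deriv h (t * x))
    (x₀ := x₀) (a := 0) (b := 1) (bound := fun _ => M) (s := Metric.ball x₀ 1)
    (Metric.ball_mem_nhds x₀ one_pos) ?_ ?_ ?_ ?_ ?_ ?_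
  · exact key.2
  · exact Eventually.of_forall (fun x => Continuous.aestronglyMeasurable (by fun_prop))
  · exact Continuous.intervalIntegrable (by fun_prop) _ _
  · exact Continuous.aestronglyMeasurable (by fun_prop)
  · refine Eventually.of_forall (fun t ht x hx => ?_)
    rw [uIoc_of_le zero_le_one] at ht
    have hx' : |x - x₀| < 1 := by simpa [Real.dist_eq] using hx
    have hxabs : |x| ≤ |x₀| + 1 := by
      have := abs_sub_abs_le_abs_sub x x₀
      linarith
    have htx : t * x ∈ Icc (-(|x₀| + 1)) (|x₀| + 1) := by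
      rw [Set.mem_Icc, ← abs_le, abs_mul, abs_of_pos ht.1]
      calc t * |x| ≤ 1 * |x| := mul_le_mul_of_nonneg_right ht.2 (abs_nonneg _)
        _ = |x| := one_mul _
        _ ≤ _ := hxabs
    calc ‖t ^ (n + 1) * deriv h (t * x)‖ = |t| ^ (n + 1) * ‖deriv h (t * x)‖ := by
          rw [norm_mul, norm_pow]; rfl
      _ ≤ 1 * M := by
          apply mul_le_mul _ (hM _ htx) (norm_nonneg _) zero_le_one
          apply pow_le_one₀ (abs_nonneg _)
          rw [abs_of_pos ht.1]; exact ht.2
      _ = M := one_mul M
  · exact intervalIntegrable_const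
  · refine Eventually.of_forall (fun t ht x hx => ?_)
    have h1 : HasDerivAt (fun x => t * x) t x := by
      simpa using (hasDerivAt_id x).const_mul t
    have h2 : HasDerivAt (fun x => h (t * x)) (deriv h (t * x) * t) x :=
      (hdiff (t * x)).hasDerivAt.comp x h1
    have h3 := h2.const_mul (t ^ n)
    exact h3.congr_deriv (by ring)

lemma contDiff_G : ∀ (m : ℕ) (n : ℕ) (h : ℝ → ℝ), ContDiff ℝ ∞ h → ContDiff ℝ m (G n h)
  | 0, n, h, hh => by
    rw [Nat.cast_zero, contDiff_zero]
    exact continuous_iff_continuousAt.2 (fun x => (hasDerivAt_G n h hh x).continuousAt)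
  | m + 1, n, h, hh => by
    rw [Nat.cast_add, Nat.cast_one, contDiff_succ_iff_deriv]
    refine ⟨fun x => (hasDerivAt_G n h hh x).differentiableAt, ?_, ?_⟩
    · intro h; exact absurd h (by simp)
    · have : deriv (G n h) = G (n + 1) (deriv h) :=
        funext fun x => (hasDerivAt_G n h hh x).deriv
      rw [this]
      exact contDiff_G m (n + 1) (deriv h) ((contDiff_infty_iff_deriv.1 hh).2)

/-- Let f be an infinitely differentiable real-valued function on the real line with f(0) = 0. Then f(x)
= x·g(x) for an infinitely differentiable function g. (The source phrases this for germs at 0: the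
maximal ideal of the local ring of germs of smooth functions at the origin is generated by the
coordinate t; the global form stated here is what its argument, smooth extension of f(x)/x across 0,
gives.) -/
theorem result (f : ℝ → ℝ) (hf : ContDiff ℝ ∞ f) (h0 : f 0 = 0) :
    ∃ g : ℝ → ℝ, ContDiff ℝ ∞ g ∧ ∀ x : ℝ, f x = x * g x := by
  have hd : ContDiff ℝ ∞ (deriv f) := (contDiff_infty_iff_deriv.1 hf).2
  refine ⟨G 0 (deriv f), ?_, ?_⟩
  · rw [contDiff_infty]
    intro m
    exact contDiff_G m 0 (deriv f) hd
  · intro x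
    have hdiff : Differentiable ℝ f := hf.differentiable (by simp)
    have hcont : Continuous (deriv f) := hd.continuous
    have h1 : ∫ y in (0:ℝ)..x, deriv f y = f x - f 0 :=
      intervalIntegral.integral_deriv_eq_sub (fun y _ => hdiff y)
        (hcont.intervalIntegrable _ _)
    have h2 : x * ∫ t in (0:ℝ)..1, deriv f (t * x) = ∫ y in (0:ℝ) * x..1 * x, deriv f y :=
      intervalIntegral.mul_integral_comp_mul_right x
    have h3 : G 0 (deriv f) x = ∫ t in (0:ℝ)..1, deriv f (t * x) := by
      unfold G
      simp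
    rw [h3, h2, zero_mul, one_mul, h1, h0, sub_zero]

end Groth.Agent.S18943
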