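import Groth.Statements.S18944
import Mathlib
import Groth.Agent.Lib.Helper91.ImmStalk

set_option autoImplicit false
universe u
open CategoryTheory AlgebraicGeometry
open RegImm

namespace Groth.Agent.S18944

/-- Let i : Z → X be a regular immersion of schemes (kind: successive non-zero-divisors). Then for every
point z of Z the kernel of the induced map of local rings O_{X, i(z)} → O_{Z, z} is generated by a
regular sequence of O_{X, i(z)}. (No Noetherian hypothesis; over a locally Noetherian X the converse
also holds.) -/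
theorem result {Z X : Scheme.{u}} (i : Z ⟶ X)
    (h : RegImm.IsRegularImmersion RegImm.Kind.regular i) (z : Z) :
    ∃ rs : List (X.presheaf.stalk (i z)),
      RingTheory.Sequence.IsRegular (X.presheaf.stalk (i z)) rs ∧
        RingHom.ker (i.stalkMap z).hom = Ideal.ofList rs := by
  obtain ⟨U, hzU, hcl, rs, hreg, hI⟩ := h.2 z
  haveI := hcl
  have hreg' : RingTheory.Sequence.IsRegular Γ(X, U.1) rs := hreg
  letI alg : Algebra Γ(X, U.1) (X.presheaf.stalk (i z)) :=
    TopCat.Presheaf.algebra_section_stalk X.presheaf ⟨i z, hzU⟩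
  haveI loc : IsLocalization.AtPrime (X.presheaf.stalk (i z))
      (U.2.primeIdealOf ⟨i z, hzU⟩).asIdeal := U.2.isLocalization_stalk ⟨_, hzU⟩
  have hker := Groth.Agent.Lib.Helper91.ImmStalk.ker_stalkMap_of_restrict i U z hzU
  have hker' : RingHom.ker (i.stalkMap z).hom =
      (RingHom.ker (i.app U.1).hom).map (algebraMap Γ(X, U.1) (X.presheaf.stalk (i z))) := hker
  have mem : ∀ r ∈ rs, r ∈ (U.2.primeIdealOf ⟨i z, hzU⟩).asIdeal := by
    intro r hr
    by_contra hrp
    have hunit : IsUnit (algebraMap Γ(X, U.1) (X.presheaf.stalk (i z)) r) :=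
      IsLocalization.map_units (M := (U.2.primeIdealOf ⟨i z, hzU⟩).asIdeal.primeCompl) _ ⟨r, hrp⟩
    have hrI : r ∈ RingHom.ker (i.app U.1).hom := by
      rw [hI]
      exact Ideal.subset_span (by simpa using hr)
    have h0 : algebraMap Γ(X, U.1) (X.presheaf.stalk (i z)) r ∈ RingHom.ker (i.stalkMap z).hom := by
      rw [hker']
      exact Ideal.mem_map_of_mem _ hrI
    rw [RingHom.mem_ker] at h0
    have h1 := hunit.map (i.stalkMap z).hom
    rw [h0] at h1
    exact not_isUnit_zero h1
  refine ⟨rs.map (algebraMap Γ(X, U.1) (X.presheaf.stalk (i z))),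
    hreg'.1.isRegular_of_isLocalization_of_mem (X.presheaf.stalk (i z))
      (U.2.primeIdealOf ⟨i z, hzU⟩).asIdeal mem, ?_⟩
  rw [hker', hI, Ideal.map_ofList]

end Groth.Agent.S18944
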