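import Groth.Statements.S18945
import Groth.Agent.Lib.Helper62.GCIField7
import Groth.Agent.S18934

set_option autoImplicit false
set_option linter.style.haveILetI false
universe u
open CategoryTheory AlgebraicGeometry
open Synt

namespace Groth.Agent.S18945

/-- the ring map induced on `U` and the whole of `Spec B` by `Spec B ⟶ Spec Γ(X, U) ⟶ X`. -/
theorem appLE_eq {X : Scheme.{u}} {U : X.Opens} (hU : IsAffineOpen U) (B : CommRingCat.{u})
    (φ : Γ(X, U) ⟶ B) (e : (⊤ : (Spec B).Opens) ≤ (Spec.map φ ≫ hU.fromSpec) ⁻¹ᵁ U) :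
    (Spec.map φ ≫ hU.fromSpec).appLE U ⊤ e = φ ≫ (Scheme.ΓSpecIso B).inv := by
  apply Spec.map_injective
  rw [← cancel_mono hU.fromSpec, IsAffineOpen.SpecMap_appLE_fromSpec _ hU (isAffineOpen_top _) e,
    IsAffineOpen.fromSpec_top, Scheme.isoSpec_Spec_inv, Spec.map_comp, Category.assoc]

theorem top_le_preimage {X : Scheme.{u}} {U : X.Opens} (hU : IsAffineOpen U) (B : CommRingCat.{u})
    (φ : Γ(X, U) ⟶ B) : (⊤ : (Spec B).Opens) ≤ (Spec.map φ ≫ hU.fromSpec) ⁻¹ᵁ U := by
  intro y _
  change (Spec.map φ ≫ hU.fromSpec) y ∈ U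
  rw [Scheme.Hom.comp_apply]
  have := hU.range_fromSpec
  rw [← SetLike.mem_coe, ← this]
  exact ⟨_, rfl⟩

/-- Let p be a prime, X a scheme and a a global section of the structure sheaf of X. There is a covering
of X for the syntomic topology, that is a jointly surjective family of syntomic morphisms X_i → X,
such that the restriction of a to each X_i is a p-th power. (The source states the surjectivity of
the p-th power map of the structure sheaf on the small syntomic site of a syntomic scheme over a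
perfect field of characteristic p; the covering it uses elsewhere, adjoining a p-th root T^p = a
over affine pieces, gives the statement for every scheme, which is the form given here.) -/
theorem result (p : ℕ) [Fact p.Prime] (X : Scheme.{u}) (a : Γ(X, ⊤)) :
    ∃ 𝒰 : Scheme.Cover.{u} (Scheme.precoverage @Synt.IsSyntomicMor) X,
      ∀ i : 𝒰.I₀, ∃ b : Γ(𝒰.X i, ⊤), b ^ p = (𝒰.f i).appTop a := by
  classical
  have hp : p ≠ 0 := (Fact.out : p.Prime).ne_zero
  let aU : (U : X.affineOpens) → Γ(X, U.1) := fun U => X.presheaf.map (homOfLE le_top).op a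
  let B : X.affineOpens → CommRingCat.{u} := fun U =>
    CommRingCat.of (AdjoinRoot (Polynomial.X ^ p - Polynomial.C (aU U) : Polynomial Γ(X, U.1)))
  let φ : (U : X.affineOpens) → (Γ(X, U.1) ⟶ B U) := fun U =>
    CommRingCat.ofHom (algebraMap Γ(X, U.1)
      (AdjoinRoot (Polynomial.X ^ p - Polynomial.C (aU U) : Polynomial Γ(X, U.1))))
  let f : (U : X.affineOpens) → (Spec (B U) ⟶ X) := fun U => Spec.map (φ U) ≫ U.2.fromSpec
  have hsyn : ∀ U : X.affineOpens, Synt.IsSyntomic Γ(X, U.1)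
      (AdjoinRoot (Polynomial.X ^ p - Polynomial.C (aU U) : Polynomial Γ(X, U.1))) ∧
      Module.FaithfullyFlat Γ(X, U.1)
      (AdjoinRoot (Polynomial.X ^ p - Polynomial.C (aU U) : Polynomial Γ(X, U.1))) :=
    fun U => Groth.Agent.S18934.result p Γ(X, U.1) (aU U)
  refine ⟨Scheme.Cover.mkOfCovers X.affineOpens (fun U => Spec (B U)) f ?_ ?_, ?_⟩
  · intro x
    obtain ⟨_, ⟨U, hU, rfl⟩, hxU, -⟩ := X.isBasis_affineOpens.exists_subset_of_mem_open
      (Set.mem_univ x) isOpen_univ
    have hx : x ∈ Set.range hU.fromSpec := by rw [hU.range_fromSpec]; exact hxU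
    obtain ⟨y0, hy0⟩ := hx
    haveI := (hsyn ⟨U, hU⟩).2
    obtain ⟨y, hy⟩ := PrimeSpectrum.comap_surjective_of_faithfullyFlat
      (A := Γ(X, U)) (B := AdjoinRoot (Polynomial.X ^ p - Polynomial.C (aU ⟨U, hU⟩) :
        Polynomial Γ(X, U))) y0
    refine ⟨⟨U, hU⟩, y, ?_⟩
    change (Spec.map (φ ⟨U, hU⟩) ≫ hU.fromSpec) y = x
    rw [Scheme.Hom.comp_apply, ← hy0]
    congr 1
  · intro U y
    refine ⟨⟨⊤, isAffineOpen_top _⟩, U, top_le_preimage U.2 (B U) (φ U), trivial, ?_⟩
    letI := ((f U).appLE U.1 ⊤ (top_le_preimage U.2 (B U) (φ U))).hom.toAlgebra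
    let e : AdjoinRoot (Polynomial.X ^ p - Polynomial.C (aU U) : Polynomial Γ(X, U.1)) ≃ₐ[Γ(X, U.1)]
        Γ(Spec (B U), ⊤) :=
      AlgEquiv.ofRingEquiv (f := (Scheme.ΓSpecIso (B U)).symm.commRingCatIsoToRingEquiv) (by
        intro r
        have h1 := appLE_eq U.2 (B U) (φ U) (top_le_preimage U.2 (B U) (φ U))
        have h2 := congrArg (fun g => g.hom r) h1
        exact h2.symm)
    exact Groth.Agent.Lib.Helper62.GCIField.isSyntomic_of_algEquiv e (hsyn U).1
  · intro U
    refine ⟨(Scheme.ΓSpecIso (B U)).inv.hom (AdjoinRoot.root _), ?_⟩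
    have h3 : (f U).appTop = X.presheaf.map (homOfLE le_top).op ≫
        (f U).appLE U.1 ⊤ (top_le_preimage U.2 (B U) (φ U)) := by
      rw [Scheme.Hom.map_appLE]
      simp [Scheme.Hom.appLE]
    have h4 : (f U).appTop.hom a = (Scheme.ΓSpecIso (B U)).inv.hom (algebraMap Γ(X, U.1)
        (AdjoinRoot (Polynomial.X ^ p - Polynomial.C (aU U) : Polynomial Γ(X, U.1))) (aU U)) := by
      have h5 := appLE_eq U.2 (B U) (φ U) (top_le_preimage U.2 (B U) (φ U))
      have h6 : (f U).appTop = X.presheaf.map (homOfLE le_top).op ≫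
          (φ U ≫ (Scheme.ΓSpecIso (B U)).inv) := h3.trans (congrArg _ h5)
      exact congrArg (fun g => g.hom a) h6
    have hroot := AdjoinRoot.eval₂_root
      (Polynomial.X ^ p - Polynomial.C (aU U) : Polynomial Γ(X, U.1))
    rw [Polynomial.eval₂_sub, Polynomial.eval₂_pow, Polynomial.eval₂_X, Polynomial.eval₂_C,
      sub_eq_zero] at hroot
    refine Eq.trans ?_ h4.symm
    exact ((map_pow (Scheme.ΓSpecIso (B U)).inv.hom (AdjoinRoot.root _) p).symm).trans
      (congrArg (Scheme.ΓSpecIso (B U)).inv.hom hroot)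

end Groth.Agent.S18945
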