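import Groth.Statements.S18946
-- import your own Groth.Agent.* helpers here

set_option autoImplicit false
universe u
open scoped BigOperators
open InvQ

namespace Groth.Agent.S18946

open MvPolynomial in
theorem aeval_scale_monomial {k : Type u} [Field k] {n : ℕ} (σ : Fin (n + 1) → k)
    (m : Fin (n + 1) →₀ ℕ) (c : k) :
    aeval (fun i => C (σ i) * X i) (monomial m c) =
      (monomial m (c * ∏ i, σ i ^ m i) : MvPolynomial (Fin (n + 1)) k) := by
  rw [aeval_monomial, monomial_eq, Finsupp.prod_fintype _ _ (fun i => pow_zero _),
    Finsupp.prod_fintype _ _ (fun i => pow_zero _)]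
  simp only [mul_pow, Finset.prod_mul_distrib, algebraMap_eq, map_mul, map_prod, map_pow]
  ring

open MvPolynomial in
theorem coeff_aeval_scale {k : Type u} [Field k] {n : ℕ} (σ : Fin (n + 1) → k)
    (f : MvPolynomial (Fin (n + 1)) k) (m : Fin (n + 1) →₀ ℕ) :
    coeff m (aeval (fun i => C (σ i) * X i) f) = coeff m f * ∏ i, σ i ^ m i := by
  classical
  conv_lhs => rw [f.as_sum]
  rw [map_sum, coeff_sum]
  simp only [aeval_scale_monomial, coeff_monomial]
  rw [Finset.sum_ite_eq']
  split_ifs with h
  · rfl
  · rw [notMem_support_iff.mp h, zero_mul]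

/-- Let k be an algebraically closed field of characteristic zero and n a natural number, and let the
torus of (n+1)-tuples of units of k with product 1 act on the polynomial ring k[t_0, ..., t_n] by
rescaling each variable t_i by the i-th unit. A polynomial is fixed by every such rescaling if and
only if it lies in the k-subalgebra generated by the product t_0 t_1 ... t_n. (This is the
computation of the ring of functions on affine (n+1)-space invariant under the maximal diagonal
torus of the special linear group, identified with the polynomial ring in the single coordinate t =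
t_0 ... t_n of the line it maps to by the product map; invariance is tested on k-valued points of
the torus, which over an infinite field is the same as invariance under the group scheme.) -/
theorem result
    (k : Type u) [Field k] [IsAlgClosed k] [CharZero k] (n : ℕ)
    (f : MvPolynomial (Fin (n + 1)) k) :
    (∀ σ : Fin (n + 1) → kˣ, ∏ i, (σ i : k) = 1 →
        MvPolynomial.aeval (fun i => MvPolynomial.C (σ i : k) * MvPolynomial.X i) f = f) ↔
      f ∈ Algebra.adjoin k ({∏ i : Fin (n + 1), MvPolynomial.X i} : Set (MvPolynomial (Fin (n + 1)) k)) := by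
  classical
  constructor
  · intro h
    -- every monomial in the support has all exponents equal
    have hexp : ∀ m ∈ f.support, ∀ i : Fin (n + 1), m i = m 0 := by
      intro m hm i
      by_cases hi : i = 0
      · rw [hi]
      have h2 : (2 : k) ≠ 0 := two_ne_zero
      let σ : Fin (n + 1) → kˣ := fun j =>
        if j = i then Units.mk0 2 h2 else if j = 0 then (Units.mk0 2 h2)⁻¹ else 1
      have hσi : σ i = Units.mk0 2 h2 := by simp [σ]
      have hσ0 : σ 0 = (Units.mk0 2 h2)⁻¹ := by
        change (if (0 : Fin (n + 1)) = i then Units.mk0 2 h2 else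
          if (0 : Fin (n + 1)) = 0 then (Units.mk0 2 h2)⁻¹ else 1) = _
        rw [if_neg (Ne.symm hi), if_pos rfl]
      have hσother : ∀ j, j ≠ i ∧ j ≠ 0 → σ j = 1 := by
        rintro j ⟨hj1, hj2⟩
        change (if j = i then Units.mk0 2 h2 else
          if j = 0 then (Units.mk0 2 h2)⁻¹ else 1) = _
        rw [if_neg hj1, if_neg hj2]
      have hprod : ∏ j, (σ j : k) = 1 := by
        rw [Fintype.prod_eq_mul i 0 hi (fun j hj => by rw [hσother j hj]; rfl), hσi, hσ0]
        simp
      have hinv := h σ hprod
      have hc := congrArg (MvPolynomial.coeff m) hinv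
      rw [coeff_aeval_scale (fun j => (σ j : k)) f m] at hc
      have hcm : MvPolynomial.coeff m f ≠ 0 := MvPolynomial.mem_support_iff.mp hm
      have h1 : ∏ j, (σ j : k) ^ m j = 1 := by
        have : MvPolynomial.coeff m f * ∏ j, (σ j : k) ^ m j = MvPolynomial.coeff m f * 1 := by
          rw [hc, mul_one]
        exact mul_left_cancel₀ hcm this
      rw [Fintype.prod_eq_mul i 0 hi (fun j hj => by rw [hσother j hj]; simp), hσi, hσ0] at h1
      simp only [Units.val_mk0, Units.val_inv_eq_inv_val, inv_pow] at h1
      have h3 : (2 : k) ^ m i = 2 ^ m 0 := by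
        have h4 : (2 : k) ^ m 0 ≠ 0 := pow_ne_zero _ h2
        field_simp at h1
        exact h1
      have h5 : ((2 ^ m i : ℕ) : k) = ((2 ^ m 0 : ℕ) : k) := by
        push_cast
        exact h3
      exact Nat.pow_right_injective (le_refl 2) (Nat.cast_injective h5)
    suffices key : ∑ v ∈ f.support, MvPolynomial.monomial v (MvPolynomial.coeff v f) ∈
        Algebra.adjoin k ({∏ i : Fin (n + 1), MvPolynomial.X i} : Set (MvPolynomial (Fin (n + 1)) k)) by
      rwa [MvPolynomial.support_sum_monomial_coeff] at key
    refine Subalgebra.sum_mem _ fun m hm => ?_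
    have hm' : (m.prod fun i e => (MvPolynomial.X i : MvPolynomial (Fin (n + 1)) k) ^ e) =
        (∏ i : Fin (n + 1), MvPolynomial.X i) ^ m 0 := by
      rw [Finsupp.prod_fintype _ _ (fun i => pow_zero _), ← Finset.prod_pow]
      exact Finset.prod_congr rfl fun i _ => by rw [hexp m hm i]
    rw [MvPolynomial.monomial_eq, hm', ← MvPolynomial.algebraMap_eq]
    exact Subalgebra.mul_mem _ (Subalgebra.algebraMap_mem _ _)
      (Subalgebra.pow_mem _ (Algebra.subset_adjoin (Set.mem_singleton _)) _)
  · intro hf σ hσ
    have hle : Algebra.adjoin k ({∏ i : Fin (n + 1), MvPolynomial.X i} : Set (MvPolynomial (Fin (n + 1)) k))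
        ≤ AlgHom.equalizer (MvPolynomial.aeval (fun i => MvPolynomial.C (σ i : k) * MvPolynomial.X i))
          (AlgHom.id k (MvPolynomial (Fin (n + 1)) k)) := by
      rw [Algebra.adjoin_le_iff]
      rintro _ rfl
      change MvPolynomial.aeval (fun i => MvPolynomial.C (σ i : k) * MvPolynomial.X i)
        (∏ i : Fin (n + 1), MvPolynomial.X i) = ∏ i : Fin (n + 1), MvPolynomial.X i
      rw [map_prod]
      simp only [MvPolynomial.aeval_X, Finset.prod_mul_distrib, ← map_prod, hσ, map_one, one_mul]
    exact hle hf

end Groth.Agent.S18946
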