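import Groth.Statements.S18948
import Mathlib.Tactic.Group
-- import your own Groth.Agent.* helpers here

set_option autoImplicit false
universe u v
open CExt

namespace Groth.Agent.S18948

theorem horb {H : Type*} [Group H] (a b : H) : b ∈ MulAction.orbit (ConjAct H) a ↔
    ∃ c : H, c * a * c⁻¹ = b := by
  rw [ConjAct.mem_orbit_conjAct, isConj_comm, isConj_iff]

/-- Let f : E → G be a surjective homomorphism of groups whose kernel is central in E, and let x ∈ E.
Then f maps the conjugacy class of x bijectively onto the conjugacy class of f(x) if and only if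
every element of G commuting with f(x) is the image of some element of E commuting with x. (In the
source E → G is the central extension, with kernel the roots of unity, attached to a Brauer class of
the classifying stack of a finite tame étale group scheme, and a conjugacy class of E mapping
bijectively onto a given class of G is a marking; the equivalence is stated here for an arbitrary
central extension of abstract groups.) -/
theorem result {E : Type u} {G : Type v} [Group E] [Group G]
    (f : E →* G) (hf : Function.Surjective f) (hker : f.ker ≤ Subgroup.center E) (x : E) :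
    Set.BijOn f (MulAction.orbit (ConjAct E) x) (MulAction.orbit (ConjAct G) (f x)) ↔
      ∀ g : G, g * f x = f x * g → ∃ e : E, f e = g ∧ e * x = x * e := by
  have hmaps : Set.MapsTo f (MulAction.orbit (ConjAct E) x) (MulAction.orbit (ConjAct G) (f x)) := by
    intro y hy
    obtain ⟨c, rfl⟩ := (horb x y).mp hy
    exact (horb _ _).mpr ⟨f c, by simp⟩
  have hsurj : Set.SurjOn f (MulAction.orbit (ConjAct E) x) (MulAction.orbit (ConjAct G) (f x)) := by
    intro y hy
    obtain ⟨c, rfl⟩ := (horb _ y).mp hy
    obtain ⟨e, rfl⟩ := hf c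
    exact ⟨e * x * e⁻¹, (horb _ _).mpr ⟨e, rfl⟩, by simp⟩
  constructor
  · intro hbij g hg
    obtain ⟨e, rfl⟩ := hf g
    refine ⟨e, rfl, ?_⟩
    have h1 : e * x * e⁻¹ ∈ MulAction.orbit (ConjAct E) x := (horb _ _).mpr ⟨e, rfl⟩
    have h2 : x ∈ MulAction.orbit (ConjAct E) x := MulAction.mem_orbit_self x
    have h3 : f (e * x * e⁻¹) = f x := by
      rw [map_mul, map_mul, map_inv, hg, mul_inv_cancel_right]
    have := hbij.injOn h1 h2 h3
    calc e * x = e * x * e⁻¹ * e := by group
      _ = x * e := by rw [this]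
  · intro hlift
    refine ⟨hmaps, ?_, hsurj⟩
    intro y hy y' hy' hyy'
    obtain ⟨e, rfl⟩ := (horb _ _).mp hy
    obtain ⟨e', rfl⟩ := (horb _ _).mp hy'
    have hcomm : f (e'⁻¹ * e) * f x = f x * f (e'⁻¹ * e) := by
      simp only [map_mul, map_inv] at hyy' ⊢
      have h4 : (f e')⁻¹ * (f e * f x * (f e)⁻¹) * f e = (f e')⁻¹ * (f e' * f x * (f e')⁻¹) * f e := by
        rw [hyy']
      calc (f e')⁻¹ * f e * f x = (f e')⁻¹ * (f e * f x * (f e)⁻¹) * f e := by group
        _ = (f e')⁻¹ * (f e' * f x * (f e')⁻¹) * f e := h4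
        _ = f x * ((f e')⁻¹ * f e) := by group
    obtain ⟨c, hc, hcx⟩ := hlift _ hcomm
    have hk : c⁻¹ * (e'⁻¹ * e) ∈ f.ker := by
      rw [MonoidHom.mem_ker, map_mul, map_inv, hc, inv_mul_cancel]
    have hcen := Subgroup.mem_center_iff.mp (hker hk) x
    -- d x = x d where d = e'⁻¹ e
    have hd : (e'⁻¹ * e) * x = x * (e'⁻¹ * e) := by
      calc (e'⁻¹ * e) * x = c * ((c⁻¹ * (e'⁻¹ * e)) * x) := by group
        _ = c * (x * (c⁻¹ * (e'⁻¹ * e))) := by rw [hcen]
        _ = (c * x) * (c⁻¹ * (e'⁻¹ * e)) := by group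
        _ = (x * c) * (c⁻¹ * (e'⁻¹ * e)) := by rw [hcx]
        _ = x * (e'⁻¹ * e) := by group
    calc e * x * e⁻¹ = e' * ((e'⁻¹ * e) * x) * e⁻¹ := by group
      _ = e' * (x * (e'⁻¹ * e)) * e⁻¹ := by rw [hd]
      _ = e' * x * e'⁻¹ := by group

end Groth.Agent.S18948
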