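import Groth.Statements.S18949
import Mathlib.Tactic.Group
-- import your own Groth.Agent.* helpers here

set_option autoImplicit false
universe u v
open CExt

namespace Groth.Agent.S18949

/-- Automorphisms over the base: let f : E → G be a surjective homomorphism of groups with central
kernel A. For every homomorphism χ : G → A the map e ↦ χ(f(e)) · e is an endomorphism of E over G
which is the identity on A; and every endomorphism α of E with f ∘ α = f and α equal to the identity
on A is of this form for exactly one χ. (In the source this identifies the automorphisms of a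
central extension fixing its kernel with Hom(G, A), for extensions of profinite étale group schemes
over a field; stated here for abstract groups.) -/
theorem result {E : Type u} {G : Type v} [Group E] [Group G]
    (f : E →* G) (hf : Function.Surjective f) (hker : f.ker ≤ Subgroup.center E) :
    (∀ χ : G →* f.ker, ∃ α : E →* E, f.comp α = f ∧ (∀ a ∈ f.ker, α a = a) ∧
        ∀ e : E, α e = (χ (f e) : E) * e) ∧
      ∀ α : E →* E, f.comp α = f → (∀ a ∈ f.ker, α a = a) →
        ∃! χ : G →* f.ker, ∀ e : E, α e = (χ (f e) : E) * e := by
  have hcomm : ∀ (a : f.ker) (e : E), (a : E) * e = e * (a : E) := fun a e =>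
    ((Subgroup.mem_center_iff.mp (hker a.2)) e).symm
  constructor
  · intro χ
    refine ⟨{ toFun := fun e => (χ (f e) : E) * e
              map_one' := by simp
              map_mul' := fun e e' => by
                simp only [map_mul, Subgroup.coe_mul]
                rw [mul_assoc, mul_assoc, ← mul_assoc _ e e', hcomm (χ (f e')) e, mul_assoc] },
      ?_, ?_, fun e => rfl⟩
    · ext e
      simp only [MonoidHom.comp_apply, MonoidHom.coe_mk, OneHom.coe_mk, map_mul]
      have : f (χ (f e) : E) = 1 := (χ (f e)).2
      rw [this, one_mul]
    · intro a ha
      simp only [MonoidHom.coe_mk, OneHom.coe_mk]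
      rw [MonoidHom.mem_ker] at ha
      rw [ha, map_one, Subgroup.coe_one, one_mul]
  · intro α hα hαA
    have hmem : ∀ e : E, α e * e⁻¹ ∈ f.ker := fun e => by
      rw [MonoidHom.mem_ker, map_mul, map_inv]
      have : f (α e) = f e := DFunLike.congr_fun hα e
      rw [this, mul_inv_cancel]
    let ψ : E →* f.ker :=
      { toFun := fun e => ⟨α e * e⁻¹, hmem e⟩
        map_one' := by
          apply Subtype.ext
          simp
        map_mul' := fun e e' => by
          apply Subtype.ext
          simp only [map_mul, mul_inv_rev, Subgroup.coe_mul]
          have h1 := hcomm ⟨α e' * e'⁻¹, hmem e'⟩ e⁻¹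
          simp only at h1
          rw [mul_assoc (α e), ← mul_assoc (α e'), h1]
          group }
    have hψker : f.ker ≤ ψ.ker := by
      intro a ha
      rw [MonoidHom.mem_ker]
      apply Subtype.ext
      change α a * a⁻¹ = 1
      rw [hαA a ha, mul_inv_cancel]
    refine ⟨f.liftOfSurjective hf ⟨ψ, hψker⟩, ?_, ?_⟩
    · intro e
      change α e = ((f.liftOfSurjective hf ⟨ψ, hψker⟩) (f e) : E) * e
      rw [MonoidHom.liftOfRightInverse_comp_apply]
      change α e = α e * e⁻¹ * e
      group
    · intro χ hχ
      ext g
      obtain ⟨e, rfl⟩ := hf g
      rw [MonoidHom.liftOfRightInverse_comp_apply]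
      change (χ (f e) : E) = α e * e⁻¹
      rw [hχ e]
      group

end Groth.Agent.S18949
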