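import Groth.Statements.S18951
-- import your own Groth.Agent.* helpers here

set_option autoImplicit false
universe u
open OrbPic

namespace Groth.Agent.S18951

theorem char_eq_of_eqOn {G : Type u} [Group G] (C : Set G) (hC : Subgroup.closure C = ⊤)
    (χ χ' : Additive G →+ W4c6brauerbgmalle.QmodZ)
    (h : ∀ g ∈ C, χ (Additive.ofMul g) = χ' (Additive.ofMul g)) : χ = χ' := by
  let H : Subgroup G :=
    { carrier := {g | χ (Additive.ofMul g) = χ' (Additive.ofMul g)}
      one_mem' := by
        change χ (Additive.ofMul 1) = χ' (Additive.ofMul 1)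
        rw [ofMul_one, map_zero, map_zero]
      mul_mem' := by
        intro a b ha hb
        change χ (Additive.ofMul (a * b)) = χ' (Additive.ofMul (a * b))
        rw [ofMul_mul, map_add, map_add, ha, hb]
      inv_mem' := by
        intro a ha
        change χ (Additive.ofMul a⁻¹) = χ' (Additive.ofMul a⁻¹)
        rw [ofMul_inv, map_neg, map_neg, ha] }
  have hle : Subgroup.closure C ≤ H := (Subgroup.closure_le H).mpr h
  rw [hC] at hle
  ext g
  exact hle (Subgroup.mem_top (Additive.toMul g))

/-- Let G be a group and C ⊆ G a subset that generates G. Then the projection (χ, w) ↦ w from the group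
of geometric partial orbifold line bundles with respect to C to functions G → ℚ is injective, its
image contains every conjugation-invariant integer-valued function vanishing at 1 and outside C, and
the group is torsion-free. (The source works with the geometric points of a tame finite étale group
scheme, characters with values in roots of unity and weights on conjugacy classes of the Tate twist;
here these are identified with a group, homomorphisms to ℚ/ℤ and class functions as the source does
after choosing roots of unity. The case C = G ∖ {1} is the statement for full orbifold line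
bundles.) -/
theorem result (G : Type u) [Group G] (C : Set G)
    (hC : Subgroup.closure C = ⊤) :
    Set.InjOn (fun p : (Additive G →+ W4c6brauerbgmalle.QmodZ) × (G → ℚ) => p.2) (W4c6brauerbgmalle.picOrb G C) ∧
      (∀ w ∈ W4c6brauerbgmalle.intWeights G C, ((0 : Additive G →+ W4c6brauerbgmalle.QmodZ), w) ∈ W4c6brauerbgmalle.picOrb G C) ∧
      ∀ (n : ℕ) (p : (Additive G →+ W4c6brauerbgmalle.QmodZ) × (G → ℚ)), p ∈ W4c6brauerbgmalle.picOrb G C → n ≠ 0 →
        n • p = 0 → p = 0 := by
  refine ⟨?_, ?_, ?_⟩
  · rintro ⟨χ, w⟩ hp ⟨χ', w'⟩ hp' hw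
    simp only at hw
    subst hw
    have : χ = χ' := char_eq_of_eqOn C hC χ χ' fun g hg => by
      rw [← hp.2.2.2 g hg, ← hp'.2.2.2 g hg]
    rw [this]
  · rintro w ⟨h1, h2, h3, h4⟩
    refine ⟨h1, h2, h3, fun g _ => ?_⟩
    obtain ⟨n, hn⟩ := h4 g
    simp only [AddMonoidHom.zero_apply]
    rw [hn]
    change ((n : ℚ) : W4c6brauerbgmalle.QmodZ) = 0
    rw [QuotientAddGroup.eq_zero_iff]
    exact ⟨n, by simp⟩
  · rintro n ⟨χ, w⟩ hp hn hnp
    have hw : w = 0 := by
      have h2 : n • w = 0 := congrArg Prod.snd hnp
      ext g
      have h3 : (n • w) g = 0 := by rw [h2]; rfl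
      simp only [Pi.smul_apply, nsmul_eq_mul, mul_eq_zero, Nat.cast_eq_zero] at h3
      rcases h3 with h3 | h3
      · exact absurd h3 hn
      · exact h3
    subst hw
    have hχ : χ = 0 := char_eq_of_eqOn C hC χ 0 fun g hg => by
      rw [← hp.2.2.2 g hg]
      simp
    subst hχ
    rfl

end Groth.Agent.S18951
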