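import Groth.Statements.S18952
import Mathlib.Tactic.Abel
-- import your own Groth.Agent.* helpers here

set_option autoImplicit false
universe u
open OrbPic

namespace Groth.Agent.S18952

/-- Let G be a group and C ⊆ G a subset stable under conjugation. Then (χ, w) ↦ χ maps the group of
geometric partial orbifold line bundles with respect to C onto all characters G → ℚ/ℤ, and a pair in
its kernel (χ trivial) has w a conjugation-invariant integer-valued function vanishing at 1 and
outside C: with the inclusion of such functions this is the exact sequence 0 → Hom(C/conj, ℤ) → Pic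
→ Hom(G, ℚ/ℤ) → 0 over a separably closed field. (As in the source after a choice of roots of unity,
the group G stands for the geometric points of a tame finite étale group scheme, characters are
homomorphisms to ℚ/ℤ and weights are class functions on G.) -/
theorem result (G : Type u) [Group G] (C : Set G)
    (hC : ∀ g h : G, g ∈ C → h * g * h⁻¹ ∈ C) :
    (∀ χ : Additive G →+ W4c6brauerbgmalle.QmodZ, ∃ w : G → ℚ, (χ, w) ∈ W4c6brauerbgmalle.picOrb G C) ∧
      (∀ p : (Additive G →+ W4c6brauerbgmalle.QmodZ) × (G → ℚ), p ∈ W4c6brauerbgmalle.picOrb G C → p.1 = 0 →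
        p.2 ∈ W4c6brauerbgmalle.intWeights G C) := by
  classical
  refine ⟨?_, ?_⟩
  · intro χ
    have hconj : ∀ g h : G, χ (Additive.ofMul (h * g * h⁻¹)) = χ (Additive.ofMul g) := by
      intro g h
      rw [ofMul_mul, ofMul_mul, ofMul_inv, map_add, map_add, map_neg]
      abel
    refine ⟨fun g => if g ∈ C ∧ g ≠ 1 then (Quotient.out (χ (Additive.ofMul g)) : ℚ) else 0,
      ?_, ?_, ?_, ?_⟩
    · simp
    · intro g hg
      simp [hg]
    · intro g h
      have h1 : (h * g * h⁻¹ ∈ C ∧ h * g * h⁻¹ ≠ 1) ↔ (g ∈ C ∧ g ≠ 1) := by
        constructor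
        · rintro ⟨hc, hne⟩
          refine ⟨?_, ?_⟩
          · have := hC (h * g * h⁻¹) h⁻¹ hc
            simpa [mul_assoc] using this
          · rintro rfl
            simp at hne
        · rintro ⟨hc, hne⟩
          refine ⟨hC g h hc, ?_⟩
          intro h2
          apply hne
          have : g = h⁻¹ * (h * g * h⁻¹) * h := by simp [mul_assoc]
          rw [this, h2]
          simp
      simp only [h1, hconj]
    · intro g hg
      by_cases h1 : g = 1
      · subst h1
        simp
      · simp only [hg, h1, ne_eq, not_false_eq_true, and_self, if_true]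
        exact Quotient.out_eq (χ (Additive.ofMul g))
  · rintro ⟨χ, w⟩ ⟨h1, h2, h3, h4⟩ hχ
    simp only at hχ
    subst hχ
    refine ⟨h1, h2, h3, fun g => ?_⟩
    by_cases hg : g ∈ C
    · have := h4 g hg
      simp only [AddMonoidHom.zero_apply] at this
      change ((w g : ℚ) : W4c6brauerbgmalle.QmodZ) = 0 at this
      rw [QuotientAddGroup.eq_zero_iff] at this
      obtain ⟨n, hn⟩ := this
      refine ⟨n, ?_⟩
      change w g = n
      rw [← hn]
      simp
    · refine ⟨0, ?_⟩
      have := h2 g hg
      simpa using this

end Groth.Agent.S18952
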