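import Groth.Statements.S18953
-- import your own Groth.Agent.* helpers here

set_option autoImplicit false
universe u v
open OrbPic

namespace Groth.Agent.S18953

/-- Let G₁ and G₂ be groups with subsets C₁ ⊆ G₁ and C₂ ⊆ G₂, and let C ⊆ G₁ × G₂ be the union of C₁ ×
{1} and {1} × C₂. Restricting the character and the weight along the two inclusions G₁ → G₁ × G₂ and
G₂ → G₁ × G₂ is a bijection from the geometric partial orbifold line bundles of G₁ × G₂ with respect
to C onto pairs of geometric partial orbifold line bundles of G₁ with respect to C₁ and of G₂ with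
respect to C₂. (As in the source after a choice of roots of unity, each group stands for the
geometric points of a tame finite étale group scheme, characters are homomorphisms to ℚ/ℤ and
weights are class functions; the source states the Galois-equivariant version, which follows by
taking invariants.) -/
theorem result (G₁ : Type u) (G₂ : Type v) [Group G₁] [Group G₂] (C₁ : Set G₁) (C₂ : Set G₂) :
    Set.BijOn
      (fun p : (Additive (G₁ × G₂) →+ W4c6brauerbgmalle.QmodZ) × (G₁ × G₂ → ℚ) =>
        ((p.1.comp (MonoidHom.toAdditive (MonoidHom.inl G₁ G₂)), fun g => p.2 (g, 1)),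
          (p.1.comp (MonoidHom.toAdditive (MonoidHom.inr G₁ G₂)), fun g => p.2 (1, g))))
      (W4c6brauerbgmalle.picOrb (G₁ × G₂) ((fun g => (g, (1 : G₂))) '' C₁ ∪ (fun g => ((1 : G₁), g)) '' C₂))
      ((W4c6brauerbgmalle.picOrb G₁ C₁ : Set _) ×ˢ (W4c6brauerbgmalle.picOrb G₂ C₂ : Set _)) := by
  classical
  refine ⟨?_, ?_, ?_⟩
  · -- MapsTo
    rintro ⟨χ, w⟩ ⟨h1, h2, h3, h4⟩
    refine ⟨⟨h1, ?_, ?_, ?_⟩, ⟨h1, ?_, ?_, ?_⟩⟩
    · intro g hg
      by_cases hg1 : g = 1
      · subst hg1; exact h1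
      · apply h2
        rintro (⟨c, hc, hce⟩ | ⟨c, _, hce⟩)
        · simp only [Prod.mk.injEq, and_true] at hce
          exact hg (hce ▸ hc)
        · simp only [Prod.mk.injEq] at hce
          exact hg1 hce.1.symm
    · intro g h
      have := h3 (g, 1) (h, 1)
      simpa using this
    · intro g hg
      exact h4 (g, 1) (Or.inl ⟨g, hg, rfl⟩)
    · intro g hg
      by_cases hg1 : g = 1
      · subst hg1; exact h1
      · apply h2
        rintro (⟨c, _, hce⟩ | ⟨c, hc, hce⟩)
        · simp only [Prod.mk.injEq] at hce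
          exact hg1 hce.2.symm
        · simp only [Prod.mk.injEq, true_and] at hce
          exact hg (hce ▸ hc)
    · intro g h
      have := h3 (1, g) (1, h)
      simpa using this
    · intro g hg
      exact h4 (1, g) (Or.inr ⟨g, hg, rfl⟩)
  · -- InjOn
    rintro ⟨χ, w⟩ ⟨h1, h2, h3, h4⟩ ⟨χ', w'⟩ ⟨h1', h2', h3', h4'⟩ heq
    simp only [Prod.mk.injEq] at heq
    obtain ⟨⟨hχ1, hw1⟩, ⟨hχ2, hw2⟩⟩ := heq
    simp only at h1 h2 h3 h4 h1' h2' h3' h4'
    have hχ : χ = χ' := by
      refine AddMonoidHom.ext fun g => ?_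
      obtain ⟨g₁, g₂⟩ := g
      have e : (Additive.ofMul ((g₁, g₂) : G₁ × G₂)) =
          Additive.ofMul ((g₁, 1) : G₁ × G₂) + Additive.ofMul ((1, g₂) : G₁ × G₂) := by
        rw [← ofMul_mul]; simp
      change χ (Additive.ofMul ((g₁, g₂) : G₁ × G₂)) = χ' (Additive.ofMul ((g₁, g₂) : G₁ × G₂))
      rw [e, map_add, map_add]
      have e1 := DFunLike.congr_fun hχ1 (Additive.ofMul g₁)
      have e2 := DFunLike.congr_fun hχ2 (Additive.ofMul g₂)
      change χ (Additive.ofMul ((g₁, 1) : G₁ × G₂)) = χ' (Additive.ofMul ((g₁, 1) : G₁ × G₂)) at e1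
      change χ (Additive.ofMul ((1, g₂) : G₁ × G₂)) = χ' (Additive.ofMul ((1, g₂) : G₁ × G₂)) at e2
      rw [e1, e2]
    have hw : w = w' := by
      funext g
      by_cases hg : g ∈ ((fun g => (g, (1 : G₂))) '' C₁ ∪ (fun g => ((1 : G₁), g)) '' C₂)
      · rcases hg with ⟨c, _, rfl⟩ | ⟨c, _, rfl⟩
        · exact congrFun hw1 c
        · exact congrFun hw2 c
      · rw [h2 g hg, h2' g hg]
    rw [hχ, hw]
  · -- SurjOn
    rintro ⟨⟨χ₁, w₁⟩, ⟨χ₂, w₂⟩⟩ ⟨⟨a1, a2, a3, a4⟩, ⟨b1, b2, b3, b4⟩⟩
    simp only at a1 a2 a3 a4 b1 b2 b3 b4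
    refine ⟨(χ₁.comp (MonoidHom.toAdditive (MonoidHom.fst G₁ G₂)) +
        χ₂.comp (MonoidHom.toAdditive (MonoidHom.snd G₁ G₂)),
      fun g => if g.2 = 1 then w₁ g.1 else if g.1 = 1 then w₂ g.2 else 0), ⟨?_, ?_, ?_, ?_⟩, ?_⟩
    · simp [a1]
    · rintro ⟨g₁, g₂⟩ hg
      simp only
      split_ifs with hg2 hg1
      · subst hg2
        apply a2
        intro hc
        exact hg (Or.inl ⟨g₁, hc, rfl⟩)
      · subst hg1
        apply b2
        intro hc
        exact hg (Or.inr ⟨g₂, hc, rfl⟩)
      · rfl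
    · rintro ⟨g₁, g₂⟩ ⟨k₁, k₂⟩
      simp only [Prod.mk_mul_mk, Prod.inv_mk]
      have e2 : k₂ * g₂ * k₂⁻¹ = 1 ↔ g₂ = 1 := by
        constructor
        · intro h
          have : g₂ = k₂⁻¹ * (k₂ * g₂ * k₂⁻¹) * k₂ := by simp [mul_assoc]
          rw [this, h]; simp
        · rintro rfl; simp
      have e1 : k₁ * g₁ * k₁⁻¹ = 1 ↔ g₁ = 1 := by
        constructor
        · intro h
          have : g₁ = k₁⁻¹ * (k₁ * g₁ * k₁⁻¹) * k₁ := by simp [mul_assoc]
          rw [this, h]; simp
        · rintro rfl; simp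
      simp only [e1, e2, a3, b3]
    · rintro _ (⟨c, hc, rfl⟩ | ⟨c, hc, rfl⟩)
      · simp only [if_true]
        rw [a4 c hc]
        simp only [AddMonoidHom.add_apply, AddMonoidHom.coe_comp, Function.comp_apply]
        change χ₁ (Additive.ofMul c) = χ₁ (Additive.ofMul c) + χ₂ (Additive.ofMul 1)
        rw [ofMul_one, map_zero, add_zero]
      · simp only [if_true]
        by_cases hc1 : c = 1
        · subst hc1
          simp only [if_true, a1, map_zero]
          simp only [AddMonoidHom.add_apply, AddMonoidHom.coe_comp, Function.comp_apply]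
          change (0 : W4c6brauerbgmalle.QmodZ) = χ₁ (Additive.ofMul 1) + χ₂ (Additive.ofMul 1)
          rw [ofMul_one, ofMul_one, map_zero, map_zero, add_zero]
        · simp only [hc1, if_false]
          rw [b4 c hc]
          simp only [AddMonoidHom.add_apply, AddMonoidHom.coe_comp, Function.comp_apply]
          change χ₂ (Additive.ofMul c) = χ₁ (Additive.ofMul 1) + χ₂ (Additive.ofMul c)
          rw [ofMul_one, map_zero, zero_add]
    · simp only [Prod.mk.injEq]
      refine ⟨⟨?_, ?_⟩, ⟨?_, ?_⟩⟩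
      · refine AddMonoidHom.ext fun g => ?_
        change χ₁ (Additive.ofMul (Additive.toMul g)) + χ₂ (Additive.ofMul 1) = χ₁ g
        rw [ofMul_one, map_zero, add_zero]
        rfl
      · funext g
        simp
      · refine AddMonoidHom.ext fun g => ?_
        change χ₁ (Additive.ofMul 1) + χ₂ (Additive.ofMul (Additive.toMul g)) = χ₂ g
        rw [ofMul_one, map_zero, zero_add]
        rfl
      · funext g
        by_cases hg : g = 1
        · subst hg
          simp [a1, b1]
        · simp [hg]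

end Groth.Agent.S18953
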