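import Groth.Statements.S18954
import Mathlib.Tactic.FieldSimp
import Mathlib.Tactic.Ring
-- import your own Groth.Agent.* helpers here

set_option autoImplicit false
universe u v w
open Classical
open BGCount

namespace Groth.Agent.S18954

/-- Let a finite group G act on a finite set X, let W be a finite set of orbits and f a function on
orbits with values in a field of characteristic zero. Then Σ_{O ∈ W} f(O)/|Stab(x_O)|, with x_O any
point of O, equals |G|⁻¹ · Σ f(orbit(x)) over the points x of X whose orbit lies in W. (In the
source X is the set of 1-cocycles of the absolute Galois group of a field in a finite étale group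
scheme G, acted on by the geometric points of G, the orbits are the isomorphism classes of G-torsors
and the stabilisers their automorphism groups; stated here for an arbitrary action of a finite group
on a finite set, the representative x_O being chosen by Quotient.out.) -/
theorem result {G : Type u} {X : Type v} (𝕜 : Type w)
    [Group G] [Fintype G] [MulAction G X] [Fintype X] [Field 𝕜] [CharZero 𝕜]
    (W : Finset (MulAction.orbitRel.Quotient G X)) (f : MulAction.orbitRel.Quotient G X → 𝕜) :
    (∑ O ∈ W, f O / (Nat.card (MulAction.stabilizer G O.out) : 𝕜)) =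
      (Fintype.card G : 𝕜)⁻¹ *
        ∑ x ∈ Finset.univ.filter (fun x : X => (Quotient.mk (MulAction.orbitRel G X) x) ∈ W),
          f (Quotient.mk (MulAction.orbitRel G X) x) := by
  have hG : (Fintype.card G : 𝕜) ≠ 0 := Nat.cast_ne_zero.mpr Fintype.card_ne_zero
  rw [← Finset.sum_fiberwise_of_maps_to
    (s := Finset.univ.filter (fun x : X => (Quotient.mk (MulAction.orbitRel G X) x) ∈ W))
    (t := W) (g := fun x => Quotient.mk (MulAction.orbitRel G X) x)
    (fun x hx => (Finset.mem_filter.mp hx).2), Finset.mul_sum]
  refine Finset.sum_congr rfl fun O hO => ?_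
  have hmem : ∀ x : X, Quotient.mk (MulAction.orbitRel G X) x = O ↔ x ∈ MulAction.orbit G O.out := by
    intro x
    conv_lhs => rw [← Quotient.out_eq O]
    rw [Quotient.eq]
    exact MulAction.orbitRel_apply
  have hfilter : (Finset.univ.filter (fun x : X => (Quotient.mk (MulAction.orbitRel G X) x) ∈ W)).filter
      (fun x => Quotient.mk (MulAction.orbitRel G X) x = O) =
      Finset.univ.filter (fun x : X => x ∈ MulAction.orbit G O.out) := by
    ext x
    simp only [Finset.mem_filter, Finset.mem_univ, true_and]
    constructor
    · rintro ⟨_, h⟩
      exact (hmem x).mp h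
    · intro h
      have := (hmem x).mpr h
      exact ⟨this ▸ hO, this⟩
  rw [hfilter]
  have hsum : ∑ x ∈ Finset.univ.filter (fun x : X => x ∈ MulAction.orbit G O.out),
      f (Quotient.mk (MulAction.orbitRel G X) x) =
      (Nat.card (MulAction.orbit G O.out) : 𝕜) * f O := by
    rw [Finset.sum_congr rfl (g := fun _ => f O)
      (fun x hx => by rw [(hmem x).mpr (Finset.mem_filter.mp hx).2])]
    rw [Finset.sum_const, nsmul_eq_mul, Nat.card_eq_fintype_card, Fintype.card_subtype]
  rw [hsum]
  have hcard : (Nat.card (MulAction.orbit G O.out) : 𝕜) * (Nat.card (MulAction.stabilizer G O.out) : 𝕜)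
      = (Fintype.card G : 𝕜) := by
    rw [← Nat.cast_mul, Nat.card_eq_fintype_card, Nat.card_eq_fintype_card,
      MulAction.card_orbit_mul_card_stabilizer_eq_card_group]
  have hstab : (Nat.card (MulAction.stabilizer G O.out) : 𝕜) ≠ 0 := by
    intro h0
    rw [h0, mul_zero] at hcard
    exact hG hcard.symm
  have horb : (Nat.card (MulAction.orbit G O.out) : 𝕜) ≠ 0 := by
    intro h0
    rw [h0, zero_mul] at hcard
    exact hG hcard.symm
  rw [← hcard]
  field_simp

end Groth.Agent.S18954
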