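import Groth.Statements.S18956
-- import your own Groth.Agent.* helpers here
import Groth.Agent.Lib.Helper40.DenseFactor

set_option autoImplicit false
universe u
open CategoryTheory MonoidalCategory CartesianMonoidalCategory MonObj AlgebraicGeometry Opposite
open Magnet

namespace Groth.Agent.S18956

/-- Let k be a field, M an affine monoid k-scheme, G an affine group k-scheme and i : G → M a
homomorphism of monoids which is a quasi-compact open immersion with scheme-theoretically dense
image. Let X be a k-scheme with an action aX of G, and j : Z → X a closed immersion which is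
G-equivariant for an action aZ of G on Z (a closed G-stable subscheme). For a G-scheme W write D_W
for the functor on k-schemes whose value at Y is the set of k-morphisms M ×_k Y → W that are
G-equivariant for G acting on M ×_k Y by left multiplication through i on the first factor. Then the
square of presheaves formed by D_Z → D_X (composition with j), the restrictions D_Z → Z and D_X → X
to the unit section of M, and j is cartesian. (The published statement takes G to be the group of
units of M, open and schematically dense; here it is assumed only that i is a homomorphism of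
monoids and a quasi-compact, scheme-theoretically dominant open immersion.) -/
theorem result (k : Type u) [Field k]
    (M G X Z : Over (Spec (CommRingCat.of k))) [MonObj M] [GrpObj G] [IsAffine M.left] [IsAffine G.left]
    (i : G ⟶ M) [IsMonHom i] [IsOpenImmersion i.left] [QuasiCompact i.left]
    [IsSchemeTheoreticallyDominant i.left]
    (aX : AlgGrp.Action G X) (aZ : AlgGrp.Action G Z) (j : Z ⟶ X) [IsClosedImmersion j.left]
    (hj : Magnet.MonAct.IsEquivariant (Magnet.MonAct.ofAction aZ) (Magnet.MonAct.ofAction aX) j) :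
    IsPullback
      (Magnet.MonAct.eqvHom.postcomp ((Magnet.MonAct.regular M).restrict i) j hj)
      (Magnet.MonAct.eqvHom.evalAt ((Magnet.MonAct.regular M).restrict i) (Magnet.MonAct.ofAction aZ) η[M])
      (Magnet.MonAct.eqvHom.evalAt ((Magnet.MonAct.regular M).restrict i) (Magnet.MonAct.ofAction aX) η[M])
      (yoneda.map j) := by
  haveI hjmono : Mono j := Groth.Agent.Lib.Helper40.DenseFactor.mono_of_isClosedImmersion_left j
  have hj' : aZ.act ≫ j = (G ◁ j) ≫ aX.act := hj
  apply IsPullback.of_forall_isPullback_app
  intro T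
  rw [CategoryTheory.Limits.Types.isPullback_iff]
  refine ⟨?_, ?_, ?_⟩
  · refine ConcreteCategory.hom_ext _ _ fun φ => ?_
    change lift (toUnit (unop T) ≫ η[M]) (𝟙 (unop T)) ≫ (φ.1 ≫ j) =
      (lift (toUnit (unop T) ≫ η[M]) (𝟙 (unop T)) ≫ φ.1) ≫ j
    rw [Category.assoc]
  · rintro φ₁ φ₂ ⟨h1, -⟩
    apply Subtype.ext
    have h1' : φ₁.1 ≫ j = φ₂.1 ≫ j := congrArg Subtype.val h1
    exact (cancel_mono j).mp h1'
  · intro φ z hz
    have hz' : lift (toUnit (unop T) ≫ η[M]) (𝟙 (unop T)) ≫ φ.1 = z ≫ j := hz
    have hφ := φ.2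
    have hφpt := (Magnet.MonAct.mem_eqvHom_iff φ.1).mp hφ
    obtain ⟨ψ, hψdef⟩ : ∃ ψ : G ⊗ unop T ⟶ Z,
        ψ = lift (fst G (unop T)) (snd G (unop T) ≫ z) ≫ aZ.act := ⟨_, rfl⟩
    have h : (i ▷ unop T) ≫ φ.1 = ψ ≫ j := by
      apply Magnet.hom_ext_lift₂
      intro T' g t
      have e1 : lift (lift g (1 : T' ⟶ M) ≫ ((Magnet.MonAct.regular M).restrict i).act) t =
          lift (g ≫ i) t := by
        rw [Magnet.MonAct.lift_restrict_act, Magnet.MonAct.lift_regular_act, _root_.mul_one]
      have e2 : lift (1 : T' ⟶ M) t ≫ φ.1 = t ≫ z ≫ j := by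
        rw [← hz', ← Category.assoc, comp_lift, Category.comp_id, ← Category.assoc, Hom.one_def]
        congr 3
        exact toUnit_unique _ _
      have e3 := hφpt T' g 1 t
      rw [e1, e2] at e3
      have r1 : lift g t ≫ lift (fst G (unop T)) (snd G (unop T) ≫ z) = lift g (t ≫ z) := by
        rw [comp_lift, lift_fst, lift_snd_assoc]
      calc lift g t ≫ (i ▷ unop T) ≫ φ.1 = lift (g ≫ i) t ≫ φ.1 := by
            rw [← Category.assoc, lift_whiskerRight]
        _ = lift g (t ≫ z ≫ j) ≫ aX.act := e3
        _ = lift g (t ≫ z) ≫ (G ◁ j) ≫ aX.act := by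
            simp only [lift_whiskerLeft_assoc, Category.assoc]
        _ = lift g (t ≫ z) ≫ aZ.act ≫ j := by rw [hj']
        _ = lift g t ≫ ψ ≫ j := by
            rw [hψdef]
            simp only [Category.assoc]
            rw [← Category.assoc (lift g t), r1]
    haveI := Groth.Agent.Lib.Helper40.DenseFactor.dominant_whiskerRight i (unop T)
    obtain ⟨χ, hχ⟩ := Groth.Agent.Lib.Helper40.DenseFactor.exists_factor_over
      (i ▷ unop T) j φ.1 ψ h
    have hχeq : Magnet.MonAct.IsEquivariant
        (((Magnet.MonAct.regular M).restrict i).prod (Magnet.MonAct.trivial G (unop T)))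
        (Magnet.MonAct.ofAction aZ) χ := by
      change _ ≫ χ = (G ◁ χ) ≫ aZ.act
      rw [← cancel_mono j, Category.assoc, hχ, Category.assoc, hj', ← Category.assoc (G ◁ χ),
        ← MonoidalCategory.whiskerLeft_comp, hχ]
      exact hφ
    refine ⟨⟨χ, hχeq⟩, Subtype.ext hχ, ?_⟩
    change lift (toUnit (unop T) ≫ η[M]) (𝟙 (unop T)) ≫ χ = z
    rw [← cancel_mono j, Category.assoc, hχ, hz']

end Groth.Agent.S18956
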