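import Groth.Statements.S18958
-- import your own Groth.Agent.* helpers here
import Groth.Agent.Lib.Helper40.DenseFactor
import Groth.Agent.Lib.Helper40.PullbackPts
import Groth.Agent.Lib.Helper40.FpqcCovOver

set_option autoImplicit false
universe u
open CategoryTheory MonoidalCategory CartesianMonoidalCategory MonObj AlgebraicGeometry Opposite
open Magnet

namespace Groth.Agent.S18958

/-- Let k be a field, G a group k-scheme and M a monoid k-scheme with a homomorphism of monoids i : G →
M and a zero o : Spec k → M (m·o = o = o·m for every point m of M). Assume that for every k-scheme T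
whose underlying scheme is the spectrum of a field K, every open subset of M ×_k T which is stable
under G acting by left multiplication through i on the first factor and which contains the zero
section T → M ×_k T is the whole of M ×_k T. Let X be a k-scheme with an action aX of G and j : U →
X an open immersion, G-equivariant for an action aU of G on U (an open G-stable subscheme). For a
G-scheme W write D_W for the functor on k-schemes whose value at Y is the set of k-morphisms M ×_k Y
→ W that are G-equivariant for G acting on M ×_k Y by left multiplication through i on the first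
factor. Then the square of presheaves formed by D_U → D_X (composition with j), the restrictions D_U
→ U and D_X → X to the zero section of M, and j is cartesian. (In the source M is a Kempf monoid
with G its group of units, and the restriction to the zero section is viewed as the retraction of
D_X onto the fixed points X^G; the displayed property of the open G-stable subsets of M over field
extensions is what the argument uses about M, and the square over X^G is cartesian exactly when the
one over X is, U^G being X^G ×_X U.) -/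
theorem result (k : Type u) [Field k]
    (M G X U : Over (Spec (CommRingCat.of k))) [MonObj M] [GrpObj G] (i : G ⟶ M) [IsMonHom i]
    (o : 𝟙_ (Over (Spec (CommRingCat.of k))) ⟶ M)
    (ho : ∀ (T : Over (Spec (CommRingCat.of k))) (m : T ⟶ M), m * (toUnit T ≫ o) = toUnit T ≫ o ∧ (toUnit T ≫ o) * m = toUnit T ≫ o)
    (hM : ∀ (T : Over (Spec (CommRingCat.of k))) (K : Type u) [Field K] (eT : T.left ≅ Spec (CommRingCat.of K))
      (W : (M ⊗ T).left.Opens),
      (CartesianMonoidalCategory.snd G (M ⊗ T)).left ⁻¹ᵁ W ≤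
          ((((Magnet.MonAct.regular M).restrict i).prod (Magnet.MonAct.trivial G T)).act).left ⁻¹ᵁ W →
      (CartesianMonoidalCategory.lift (toUnit T ≫ o) (𝟙 T)).left ⁻¹ᵁ W = ⊤ → W = ⊤)
    (aX : AlgGrp.Action G X) (aU : AlgGrp.Action G U) (j : U ⟶ X) [IsOpenImmersion j.left]
    (hj : Magnet.MonAct.IsEquivariant (Magnet.MonAct.ofAction aU) (Magnet.MonAct.ofAction aX) j) :
    IsPullback
      (Magnet.MonAct.eqvHom.postcomp ((Magnet.MonAct.regular M).restrict i) j hj)
      (Magnet.MonAct.eqvHom.evalAt ((Magnet.MonAct.regular M).restrict i) (Magnet.MonAct.ofAction aU) o)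
      (Magnet.MonAct.eqvHom.evalAt ((Magnet.MonAct.regular M).restrict i) (Magnet.MonAct.ofAction aX) o)
      (yoneda.map j) := by
  haveI hjmono : Mono j := by
    haveI : Mono ((Over.forget _).map j) := inferInstanceAs (Mono j.left)
    exact (Over.forget _).mono_of_mono_map this
  have hj' : aU.act ≫ j = (G ◁ j) ≫ aX.act := hj
  have L0 : ∀ y : (G ⊗ X).left, (snd G X).left y ∈ Set.range j.left →
      aX.act.left y ∈ Set.range j.left := by
    rintro y ⟨u, hu⟩
    obtain ⟨y'', h1, -⟩ := Groth.Agent.Lib.Helper40.PullbackPts.exists_preimage_of_isPullback_over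
      (Groth.Agent.Lib.Helper40.FpqcCov.isPullback_whiskerLeft G j) y u hu.symm
    refine ⟨aU.act.left y'', ?_⟩
    have e : (aU.act ≫ j).left = ((G ◁ j) ≫ aX.act).left := congrArg CommaMorphism.left hj'
    calc j.left (aU.act.left y'') = (aU.act ≫ j).left y'' := (Scheme.Hom.comp_apply _ _ _).symm
      _ = ((G ◁ j) ≫ aX.act).left y'' := by rw [e]
      _ = aX.act.left ((G ◁ j).left y'') := Scheme.Hom.comp_apply _ _ _
      _ = aX.act.left y := by rw [h1]
  have key : ∀ (T : Over (Spec (CommRingCat.of k))) (φ : M ⊗ T ⟶ X)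
      (hφ : Magnet.MonAct.IsEquivariant
        (((Magnet.MonAct.regular M).restrict i).prod (Magnet.MonAct.trivial G T))
        (Magnet.MonAct.ofAction aX) φ)
      (z : T ⟶ U) (hz : lift (toUnit T ≫ o) (𝟙 T) ≫ φ = z ≫ j),
      ((snd G (M ⊗ T)).left ⁻¹ᵁ (φ.left ⁻¹ᵁ j.left.opensRange) ≤
        ((((Magnet.MonAct.regular M).restrict i).prod (Magnet.MonAct.trivial G T)).act).left ⁻¹ᵁ
          (φ.left ⁻¹ᵁ j.left.opensRange)) ∧
      (lift (toUnit T ≫ o) (𝟙 T)).left ⁻¹ᵁ (φ.left ⁻¹ᵁ j.left.opensRange) = ⊤ := by
    intro T φ hφ z hz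
    have hφ' : (((Magnet.MonAct.regular M).restrict i).prod (Magnet.MonAct.trivial G T)).act ≫ φ =
        (G ◁ φ) ≫ aX.act := hφ
    constructor
    · intro y hy
      have hy' : (snd G X).left ((G ◁ φ).left y) ∈ Set.range j.left := by
        have e : ((G ◁ φ) ≫ snd G X).left = (snd G (M ⊗ T) ≫ φ).left :=
          congrArg CommaMorphism.left (whiskerLeft_snd G φ)
        have e' : (snd G X).left ((G ◁ φ).left y) = φ.left ((snd G (M ⊗ T)).left y) :=
          calc (snd G X).left ((G ◁ φ).left y) = ((G ◁ φ) ≫ snd G X).left y :=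
                (Scheme.Hom.comp_apply _ _ _).symm
            _ = (snd G (M ⊗ T) ≫ φ).left y := by rw [e]
            _ = φ.left ((snd G (M ⊗ T)).left y) := Scheme.Hom.comp_apply _ _ _
        rw [e']
        exact hy
      have h2 := L0 _ hy'
      have e2 : ((((Magnet.MonAct.regular M).restrict i).prod (Magnet.MonAct.trivial G T)).act ≫ φ).left =
          ((G ◁ φ) ≫ aX.act).left := congrArg CommaMorphism.left hφ'
      have e3 : φ.left (((((Magnet.MonAct.regular M).restrict i).prod
          (Magnet.MonAct.trivial G T)).act).left y) = aX.act.left ((G ◁ φ).left y) :=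
        calc φ.left (((((Magnet.MonAct.regular M).restrict i).prod
              (Magnet.MonAct.trivial G T)).act).left y)
            = ((((Magnet.MonAct.regular M).restrict i).prod
                (Magnet.MonAct.trivial G T)).act ≫ φ).left y := (Scheme.Hom.comp_apply _ _ _).symm
          _ = ((G ◁ φ) ≫ aX.act).left y := by rw [e2]
          _ = aX.act.left ((G ◁ φ).left y) := Scheme.Hom.comp_apply _ _ _
      change φ.left (((((Magnet.MonAct.regular M).restrict i).prod
          (Magnet.MonAct.trivial G T)).act).left y) ∈ Set.range j.left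
      rw [e3]
      exact h2
    · rw [eq_top_iff]
      intro x _
      change φ.left ((lift (toUnit T ≫ o) (𝟙 T)).left x) ∈ Set.range j.left
      refine ⟨z.left x, ?_⟩
      have e : (lift (toUnit T ≫ o) (𝟙 T) ≫ φ).left = (z ≫ j).left := congrArg CommaMorphism.left hz
      calc j.left (z.left x) = (z ≫ j).left x := (Scheme.Hom.comp_apply _ _ _).symm
        _ = (lift (toUnit T ≫ o) (𝟙 T) ≫ φ).left x := by rw [e]
        _ = φ.left ((lift (toUnit T ≫ o) (𝟙 T)).left x) := Scheme.Hom.comp_apply _ _ _
  apply IsPullback.of_forall_isPullback_app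
  intro T
  rw [CategoryTheory.Limits.Types.isPullback_iff]
  refine ⟨?_, ?_, ?_⟩
  · refine ConcreteCategory.hom_ext _ _ fun φ => ?_
    change lift (toUnit (unop T) ≫ o) (𝟙 (unop T)) ≫ (φ.1 ≫ j) =
      (lift (toUnit (unop T) ≫ o) (𝟙 (unop T)) ≫ φ.1) ≫ j
    rw [Category.assoc]
  · rintro φ₁ φ₂ ⟨h1, -⟩
    apply Subtype.ext
    have h1' : φ₁.1 ≫ j = φ₂.1 ≫ j := congrArg Subtype.val h1
    exact (cancel_mono j).mp h1'
  · intro φ z hz
    have hz' : lift (toUnit (unop T) ≫ o) (𝟙 (unop T)) ≫ φ.1 = z ≫ j := hz
    have hφ := φ.2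
    have hrange : Set.range φ.1.left ⊆ Set.range j.left := by
      rintro _ ⟨w, rfl⟩
      obtain ⟨t, ht⟩ : ∃ t, t = (snd M (unop T)).left w := ⟨_, rfl⟩
      obtain ⟨T', hT'⟩ : ∃ T' : Over (Spec (CommRingCat.of k)),
          T' = Over.mk ((unop T).left.fromSpecResidueField t ≫ (unop T).hom) := ⟨_, rfl⟩
      subst hT'
      obtain ⟨τ, hτ⟩ : ∃ τ : Over.mk ((unop T).left.fromSpecResidueField t ≫ (unop T).hom) ⟶ unop T,
          τ.left = (unop T).left.fromSpecResidueField t :=
        ⟨Over.homMk ((unop T).left.fromSpecResidueField t) rfl, rfl⟩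
      have sq := Groth.Agent.Lib.Helper40.FpqcCov.isPullback_whiskerLeft M τ
      have s : Spec ((unop T).left.residueField t) := default
      have hs : (snd M (unop T)).left w = τ.left s := by
        rw [← ht, hτ]
        exact (Scheme.fromSpecResidueField_apply t s).symm
      obtain ⟨p, hp1, -⟩ :=
        Groth.Agent.Lib.Helper40.PullbackPts.exists_preimage_of_isPullback_over sq w s hs
      have hzero : lift (toUnit _ ≫ o) (𝟙 _) ≫ (M ◁ τ) ≫ φ.1 = (τ ≫ z) ≫ j := by
        rw [← Category.assoc, lift_whiskerLeft, Category.id_comp, Category.assoc, ← hz',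
          ← Category.assoc τ, comp_lift, Category.comp_id, ← Category.assoc τ,
          toUnit_unique (τ ≫ toUnit (unop T)) (toUnit _)]
      have hk := key _ ((M ◁ τ) ≫ φ.1)
        ((Magnet.MonAct.eqvHom ((Magnet.MonAct.regular M).restrict i)
          (Magnet.MonAct.ofAction aX)).map τ.op φ).2 (τ ≫ z) hzero
      have hW := hM _ ((unop T).left.residueField t) (Iso.refl _)
        ((((M ◁ τ) ≫ φ.1).left) ⁻¹ᵁ j.left.opensRange) hk.1 hk.2
      have hp : p ∈ (((M ◁ τ) ≫ φ.1).left) ⁻¹ᵁ j.left.opensRange := by
        rw [hW]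
        trivial
      obtain ⟨u, hu⟩ := hp
      refine ⟨u, ?_⟩
      rw [hu]
      calc ((M ◁ τ) ≫ φ.1).left p = φ.1.left ((M ◁ τ).left p) := Scheme.Hom.comp_apply _ _ _
        _ = φ.1.left w := by rw [hp1]
    obtain ⟨χ₀, hχ₀⟩ : ∃ χ₀ : (M ⊗ unop T).left ⟶ U.left, χ₀ ≫ j.left = φ.1.left :=
      ⟨IsOpenImmersion.lift j.left φ.1.left hrange, IsOpenImmersion.lift_fac _ _ _⟩
    obtain ⟨χ, hχ⟩ : ∃ χ : M ⊗ unop T ⟶ U, χ ≫ j = φ.1 := by
      refine ⟨Over.homMk χ₀ ?_, ?_⟩
      · rw [← Over.w j, ← Category.assoc, hχ₀, Over.w φ.1]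
      · ext
        exact hχ₀
    have hχeq : Magnet.MonAct.IsEquivariant
        (((Magnet.MonAct.regular M).restrict i).prod (Magnet.MonAct.trivial G (unop T)))
        (Magnet.MonAct.ofAction aU) χ := by
      change _ ≫ χ = (G ◁ χ) ≫ aU.act
      rw [← cancel_mono j, Category.assoc, hχ, Category.assoc, hj', ← Category.assoc (G ◁ χ),
        ← MonoidalCategory.whiskerLeft_comp, hχ]
      exact hφ
    refine ⟨⟨χ, hχeq⟩, Subtype.ext hχ, ?_⟩
    change lift (toUnit (unop T) ≫ o) (𝟙 (unop T)) ≫ χ = z
    rw [← cancel_mono j, Category.assoc, hχ, hz']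

end Groth.Agent.S18958
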