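import Groth.Statements.S1896
import Groth.Agent.Lib.Helper20.StalkFinLen
import Groth.Agent.Lib.QCoh.Helper18_StalkLinear
-- import your own Groth.Agent.* helpers here

set_option autoImplicit false
universe u
open CategoryTheory AlgebraicGeometry
open Cyc

namespace Groth.Agent.S1896

/-- For a short exact sequence 0 → F → G → H → 0 of coherent O_X-modules (X locally Noetherian with
dimension function δ) whose supports have δ-dimension at most k, one has [G]_k = [F]_k + [H]_k
coefficientwise. Here (X, δ) satisfies Cyc.IsSetup (X locally Noetherian with universally catenary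
local rings, δ a dimension function). -/
theorem result (X : Scheme.{u}) (δ : X → ℤ) (hX : Cyc.IsSetup X δ) (k : ℤ) (T : ShortComplex X.Modules) (hT : T.ShortExact) (h₁ : Coh.IsCoh T.X₁) (h₂ : Coh.IsCoh T.X₂) (h₃ : Coh.IsCoh T.X₃) (hdim : ∀ x : X, Nontrivial (T.X₂.presheaf.stalk x) → δ x ≤ k) : Cyc.sheafFun δ k T.X₂ = Cyc.sheafFun δ k T.X₁ + Cyc.sheafFun δ k T.X₃ := by
  obtain ⟨hLN, -, hdimfun⟩ := hX
  haveI : IsLocallyNoetherian X := hLN
  haveI : T.X₂.IsQuasicoherent := h₂.1
  haveI : T.X₂.IsFiniteType := h₂.2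
  funext x
  simp only [Cyc.sheafFun, Pi.add_apply]
  by_cases hk : δ x = k
  · simp only [hk, if_true]
    -- exactness on stalks
    obtain ⟨hinj, hsurj, hex⟩ := Groth.Agent.Lib.QCoh.stalk_exact_of_shortExact T hT x
    have hzero : ∀ m, Groth.Agent.Lib.QCoh.stalkMap T.g x (Groth.Agent.Lib.QCoh.stalkMap T.f x m) = 0 := by
      intro m
      have h1 : Groth.Agent.Lib.QCoh.stalkMap T.f x ≫ Groth.Agent.Lib.QCoh.stalkMap T.g x = 0 := by
        change (Groth.Agent.Lib.QCoh.stalkFunctor X x).map T.f ≫
          (Groth.Agent.Lib.QCoh.stalkFunctor X x).map T.g = 0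
        rw [← Functor.map_comp, T.zero, Functor.map_zero]
      exact congr($h1 m)
    have hexact : Function.Exact (Groth.Agent.Lib.QCoh.stalkMapₗ T.f x)
        (Groth.Agent.Lib.QCoh.stalkMapₗ T.g x) := by
      intro m
      constructor
      · intro hm
        obtain ⟨m₁, hm₁⟩ := hex m hm
        exact ⟨m₁, hm₁⟩
      · rintro ⟨m₁, rfl⟩
        exact hzero m₁
    have hlen := Module.length_eq_add_of_exact (Groth.Agent.Lib.QCoh.stalkMapₗ T.f x)
      (Groth.Agent.Lib.QCoh.stalkMapₗ T.g x) hinj hsurj hexact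
    -- finiteness
    have hfin : Module.length (X.presheaf.stalk x) (T.X₂.presheaf.stalk x) ≠ ⊤ := by
      rw [Module.length_ne_top_iff]
      apply Groth.Agent.Lib.Helper20.StalkFinLen.isFiniteLength_stalk_of_maximal
      intro x' hx' hspec
      by_contra hne
      have h1 := (hdimfun x' x hspec hne).1
      have h2 := hdim x' hx'
      omega
    rw [hlen] at hfin
    have hf1 : Module.length (X.presheaf.stalk x) (T.X₁.presheaf.stalk x) ≠ ⊤ := fun h => by
      rw [h, top_add] at hfin; exact hfin rfl
    have hf3 : Module.length (X.presheaf.stalk x) (T.X₃.presheaf.stalk x) ≠ ⊤ := fun h => by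
      rw [h, add_top] at hfin; exact hfin rfl
    rw [hlen, ENat.toNat_add hf1 hf3]
    push_cast
    rfl
  · simp only [hk, if_false, add_zero]

end Groth.Agent.S1896
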