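import Groth.Statements.S18961
import Groth.Agent.Lib.Helper95.GradedSmoothC
import Groth.Agent.Lib.Helper95.GradedSmoothE
import Groth.Agent.Lib.Helper95.GradedSmoothF

set_option autoImplicit false
universe u
open BBDec

namespace Groth.Agent.S18961

/-- Let k be a field, A a finitely generated k-algebra and B a finitely generated A-algebra graded by
the natural numbers as an A-algebra, with degree-zero part equal to the image of A and A → B
injective; let B₊ be the irrelevant ideal. So Spec B → Spec A is the retraction of an affine scheme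
with an action of the multiplicative monoid of the affine line onto its fixed-point scheme, with
zero section cut out by B₊; this is the affine-local graded form, for that monoid, of the published
statement, which covers any Kempf monoid M with unit group G and a k-scheme X locally of finite
type, and concludes that the retraction X⁺ → X^G is an affine-space bundle near a fixed point at
whose section value it is smooth. Assume that A → B is smooth at every prime ideal containing B₊ and
that B₊/B₊² is a free A-module of finite rank. Then B is isomorphic, as an A-algebra, to the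
polynomial ring over A in (rank of B₊/B₊²) variables. (The published statement also makes the
isomorphism equivariant for a suitable linear action when G is linearly reductive; only the
existence of an A-algebra isomorphism is stated here. Freeness of the conormal module holds after
shrinking the base, which is how the published proof reaches this situation.) -/
theorem result (k : Type u) [Field k]
    (A B : Type u) [CommRing A] [CommRing B] [Algebra k A] [Algebra k B] [Algebra A B] [IsScalarTower k A B]
    [Algebra.FiniteType k A] [Algebra.FiniteType A B] (𝒜 : ℕ → Submodule A B) [GradedAlgebra 𝒜]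
    (h0 : ∀ b : B, b ∈ 𝒜 0 ↔ b ∈ Set.range (algebraMap A B)) (hinj : Function.Injective (algebraMap A B))
    (hsm : ∀ (P : Ideal B) [P.IsPrime], (HomogeneousIdeal.irrelevant 𝒜).toIdeal ≤ P → Algebra.IsSmoothAt A P)
    [Module.Free A (HomogeneousIdeal.irrelevant 𝒜).toIdeal.Cotangent]
    [Module.Finite A (HomogeneousIdeal.irrelevant 𝒜).toIdeal.Cotangent] :
    Nonempty (B ≃ₐ[A]
      MvPolynomial (Fin (Module.finrank A (HomogeneousIdeal.irrelevant 𝒜).toIdeal.Cotangent)) A) := by
  classical
  rcases subsingleton_or_nontrivial A with hsub | hnt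
  · have hB : Subsingleton B := by
      refine subsingleton_of_zero_eq_one ?_
      rw [← map_zero (algebraMap A B), ← map_one (algebraMap A B)]
      exact congrArg _ (Subsingleton.elim _ _)
    have hS : Subsingleton (MvPolynomial (Fin (Module.finrank A
        (HomogeneousIdeal.irrelevant 𝒜).toIdeal.Cotangent)) A) := by
      refine subsingleton_of_zero_eq_one ?_
      rw [← map_zero (algebraMap A _), ← map_one (algebraMap A _)]
      exact congrArg _ (Subsingleton.elim _ _)
    exact ⟨{ toFun := fun _ => 0
             invFun := fun _ => 0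
             left_inv := fun _ => Subsingleton.elim _ _
             right_inv := fun _ => Subsingleton.elim _ _
             map_mul' := fun _ _ => Subsingleton.elim _ _
             map_add' := fun _ _ => Subsingleton.elim _ _
             commutes' := fun _ => Subsingleton.elim _ _ }⟩
  have hNoeth : IsNoetherianRing A := Algebra.FiniteType.isNoetherianRing k A
  set n := Module.finrank A (HomogeneousIdeal.irrelevant 𝒜).toIdeal.Cotangent with hn
  let e : Module.Basis (Fin n) A (HomogeneousIdeal.irrelevant 𝒜).toIdeal.Cotangent :=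
    Module.finBasis A _
  obtain ⟨t, π, hQt, hprt, htI⟩ := Groth.Agent.Lib.Helper95.GradedSmooth.exists_graded_section 𝒜
  let x : Fin n → B := fun i => t (e i)
  let φ : MvPolynomial (Fin n) A →ₐ[A] B := MvPolynomial.aeval x
  have hφX : ∀ i, φ (MvPolynomial.X i) = x i := fun i => MvPolynomial.aeval_X x i
  set I₀ : Ideal (MvPolynomial (Fin n) A) :=
    Ideal.span (Set.range (MvPolynomial.X : Fin n → MvPolynomial (Fin n) A)) with hI₀
  -- surjectivity
  have hrange : φ.range = ⊤ := by
    apply Groth.Agent.Lib.Helper95.GradedSmooth.subalgebra_eq_top_of_graded_section 𝒜 (fun b hb => (h0 b).mp hb) t π hQt hprt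
    intro m
    have : t m = ∑ i, (e.repr m i) • x i := by
      conv_lhs => rw [← e.sum_repr m]
      rw [map_sum]
      simp only [map_smul, x]
    rw [this]
    apply Subalgebra.sum_mem
    intro i _
    apply Subalgebra.smul_mem
    exact ⟨MvPolynomial.X i, hφX i⟩
  have hsurj : Function.Surjective φ := AlgHom.range_eq_top φ |>.mp hrange
  -- φ maps I₀ into the irrelevant ideal
  have hφI₀ : ∀ h ∈ I₀, φ h ∈ Groth.Agent.Lib.Helper95.GradedSmooth.irr 𝒜 := by
    have : I₀ ≤ (Groth.Agent.Lib.Helper95.GradedSmooth.irr 𝒜).comap φ := by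
      rw [hI₀, Ideal.span_le]
      rintro _ ⟨i, rfl⟩
      change φ (MvPolynomial.X i) ∈ Groth.Agent.Lib.Helper95.GradedSmooth.irr 𝒜
      rw [hφX]
      exact htI _
    exact fun h hh => this hh
  have hφI₀sq : ∀ h ∈ I₀ ^ 2, φ h ∈ Groth.Agent.Lib.Helper95.GradedSmooth.irr 𝒜 ^ 2 := by
    have : I₀ ^ 2 ≤ (Groth.Agent.Lib.Helper95.GradedSmooth.irr 𝒜 ^ 2).comap φ := by
      refine le_trans ?_ (Ideal.le_comap_pow (φ : MvPolynomial (Fin n) A →+* B) 2)
      exact Ideal.pow_right_mono (fun h hh => hφI₀ h hh) 2
    exact fun h hh => this hh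
  have hlin : ∀ a : Fin n → A, (∑ i, MvPolynomial.C (a i) * MvPolynomial.X i : MvPolynomial (Fin n) A) ∈ I₀ :=
    fun a => Ideal.sum_mem _ fun i _ => Ideal.mul_mem_left _ _ (Ideal.subset_span ⟨i, rfl⟩)
  have halg0 : ∀ a : A, algebraMap A B a ∈ 𝒜 0 := fun a => (h0 _).mpr ⟨a, rfl⟩
  -- constant term analysis
  have hconst : ∀ (a₀ : A) (h₁ : MvPolynomial (Fin n) A), h₁ ∈ I₀ →
      φ (MvPolynomial.C a₀ + h₁) ∈ Groth.Agent.Lib.Helper95.GradedSmooth.irr 𝒜 → a₀ = 0 := by
    intro a₀ h₁ hh₁ hmem
    have h1 := (Groth.Agent.Lib.Helper95.GradedSmooth.mem_irr_iff 𝒜 _).mp hmem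
    rw [map_add, map_add, (Groth.Agent.Lib.Helper95.GradedSmooth.mem_irr_iff 𝒜 _).mp (hφI₀ h₁ hh₁), add_zero,
      MvPolynomial.algHom_C, Groth.Agent.Lib.Helper95.GradedSmooth.proj_of_mem 𝒜 (halg0 a₀)] at h1
    exact hinj (by rw [h1, map_zero])
  -- kernel is contained in I₀²
  have hK : RingHom.ker φ ≤ I₀ ^ 2 := by
    intro f hf
    obtain ⟨a₀, a, r, hr, hfe⟩ := Groth.Agent.Lib.Helper95.GradedSmooth.exists_decomp f
    have hf0 : φ f = 0 := hf
    have hrI₀ : r ∈ I₀ := Ideal.pow_le_self two_ne_zero hr
    have ha₀ : a₀ = 0 := by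
      apply hconst a₀ (∑ i, MvPolynomial.C (a i) * MvPolynomial.X i + r)
        (Ideal.add_mem _ (hlin a) hrI₀)
      rw [← add_assoc, ← hfe, hf0]
      exact Ideal.zero_mem _
    subst ha₀
    rw [map_zero, zero_add] at hfe
    have hsum : φ (∑ i, MvPolynomial.C (a i) * MvPolynomial.X i) = ∑ i, a i • x i := by
      rw [map_sum]
      apply Finset.sum_congr rfl
      intro i _
      rw [map_mul, MvPolynomial.algHom_C, hφX, Algebra.smul_def]
    have h2 : ∑ i, a i • x i = - φ r := by
      rw [← hsum, eq_neg_iff_add_eq_zero, ← map_add, ← hfe, hf0]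
    have h3 : Groth.Agent.Lib.Helper95.GradedSmooth.Qmap 𝒜 (∑ i, a i • x i) = 0 := by
      rw [h2, map_neg, neg_eq_zero, Groth.Agent.Lib.Helper95.GradedSmooth.Qmap_eq_zero_iff,
        (Groth.Agent.Lib.Helper95.GradedSmooth.mem_irr_iff 𝒜 _).mp (hφI₀ r hrI₀), sub_zero]
      exact hφI₀sq r hr
    have h4 : ∑ i, a i • e i = 0 := by
      rw [← h3, map_sum]
      apply Finset.sum_congr rfl
      intro i _
      rw [map_smul, hQt]
    have ha : ∀ i, a i = 0 := by
      have := Fintype.linearIndependent_iff.mp e.linearIndependent a h4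
      exact this
    rw [hfe]
    simp only [ha, map_zero, zero_mul, Finset.sum_const_zero, zero_add]
    exact hr
  -- smoothness along the zero section
  have hsm' : ∀ (Q : Ideal B) [Q.IsPrime], I₀ ≤ Q.comap φ →
      Algebra.FormallySmooth A (Localization.AtPrime Q) := by
    intro Q _ hQ
    apply hsm Q
    intro b hb
    obtain ⟨h, rfl⟩ := hsurj b
    obtain ⟨a₀, a, r, hr, hfe⟩ := Groth.Agent.Lib.Helper95.GradedSmooth.exists_decomp h
    have hrI₀ : r ∈ I₀ := Ideal.pow_le_self two_ne_zero hr
    have hh₁ : (∑ i, MvPolynomial.C (a i) * MvPolynomial.X i + r) ∈ I₀ :=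
      Ideal.add_mem _ (hlin a) hrI₀
    have ha₀ : a₀ = 0 := by
      apply hconst a₀ _ hh₁
      rw [← add_assoc, ← hfe]
      exact hb
    subst ha₀
    rw [map_zero, zero_add] at hfe
    rw [hfe]
    exact hQ hh₁
  have hinjφ : Function.Injective φ := Groth.Agent.Lib.Helper95.GradedSmooth.injective_of_smooth_along_zero φ hsurj hK hsm'
  exact ⟨(AlgEquiv.ofBijective φ ⟨hinjφ, hsurj⟩).symm⟩

end Groth.Agent.S18961
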