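import Groth.Statements.S18962
import Mathlib
import Groth.Agent.Lib.Helper95.EtaleAlongSection
import Groth.Agent.Lib.Helper95.LocalSplitNakayama
-- import your own Groth.Agent.* helpers here

set_option autoImplicit false
universe u
open BBDec

namespace Groth.Agent.S18962

/-- Let A be a commutative ring (the base V = Spec A) and B₁, B₂ commutative A-algebras (V-schemes X₁,
X₂) with A-algebra maps σ₁ : B₁ → A and σ₂ : B₂ → A (sections s₁, s₂ of the structure maps, closed
immersions with ideals b₁ = ker σ₁, b₂ = ker σ₂), and let B₂ → B₁ be an A-algebra map (a V-morphism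
f : X₁ → X₂) with σ₁ ∘ (B₂ → B₁) = σ₂ (f s₁ = s₂). Assume B₁ is finitely presented over A and smooth
over A at every prime containing b₁ (r₁ smooth along s₁(V)), B₂ is of finite type over A, and the
induced map b₂/b₂² → b₁/b₁² of conormal modules is bijective. Then B₂ → B₁ is étale at every prime
of B₁ containing b₁ (f étale along s₁(V)). (The published statement puts no finiteness condition on
B₂ over A, and in that generality the conclusion fails: over a field k, the square-zero extension of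
k[x] by k[x, 1/x] mapping onto k[y] by x ↦ y, with the zero sections, satisfies every other
hypothesis and is not étale at the origin. Here B₂ is assumed of finite type over A.) -/
theorem result (A B₁ B₂ : Type u)
    [CommRing A] [CommRing B₁] [CommRing B₂] [Algebra A B₁] [Algebra A B₂] [Algebra B₂ B₁]
    [IsScalarTower A B₂ B₁] [Algebra.FinitePresentation A B₁] [Algebra.FiniteType A B₂]
    (σ₁ : B₁ →ₐ[A] A) (σ₂ : B₂ →ₐ[A] A) (hσ : σ₁.comp (IsScalarTower.toAlgHom A B₂ B₁) = σ₂)
    (hle : RingHom.ker σ₂ ≤ (RingHom.ker σ₁).comap (IsScalarTower.toAlgHom A B₂ B₁))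
    (hcot : Function.Bijective
      (Ideal.mapCotangent (RingHom.ker σ₂) (RingHom.ker σ₁) (IsScalarTower.toAlgHom A B₂ B₁) hle))
    (hsm : ∀ (P : Ideal B₁) [P.IsPrime], RingHom.ker σ₁ ≤ P → Algebra.IsSmoothAt A P)
    (P : Ideal B₁) [P.IsPrime] (hP : RingHom.ker σ₁ ≤ P) : Algebra.IsEtaleAt B₂ P := by
  have hft : Algebra.FiniteType B₂ B₁ := Algebra.FiniteType.of_restrictScalars_finiteType A B₂ B₁
  have hftA : Algebra.FiniteType A B₁ := inferInstance
  -- Part 1: relative differentials are killed by some `r₀ ∉ P`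
  obtain ⟨r₀, hr₀1, hr₀⟩ := Submodule.exists_sub_one_mem_and_smul_eq_zero_of_fg_of_le_smul
    (RingHom.ker σ₁) (⊤ : Submodule B₁ Ω[B₁⁄B₂]) Module.Finite.fg_top
    (fun ω _ => Groth.Agent.Helper95.EtaleAlongSection.kaehler_mem_smul_top σ₁ σ₂ hle hcot.2 ω)
  have hr₀P : r₀ ∉ P := by
    intro h
    have h1 : r₀ - 1 ∈ P := hP hr₀1
    have : (1 : B₁) ∈ P := by
      have := sub_mem h h1
      rwa [sub_sub_cancel] at this
    exact (Ideal.IsPrime.ne_top ‹_›) ((Ideal.eq_top_iff_one _).mpr this)
  -- smoothness of `B₁` over `A` at `P`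
  have hsmP : (⟨P, ‹_›⟩ : PrimeSpectrum B₁) ∈ Algebra.smoothLocus A B₁ := hsm P hP
  rw [Algebra.smoothLocus_eq_compl_support_inter] at hsmP
  obtain ⟨hH1, hfree⟩ := hsmP
  rw [Module.mem_freeLocus] at hfree
  rw [Set.mem_compl_iff, Module.notMem_support_iff'] at hH1
  change (⟨P, ‹_›⟩ : PrimeSpectrum B₁) ∈ Algebra.etaleLocus B₂ B₁
  rw [Algebra.etaleLocus_eq_compl_support]
  refine ⟨?_, ?_⟩
  · rw [Set.mem_compl_iff, Module.notMem_support_iff']
    intro m
    exact ⟨r₀, hr₀P, hr₀ m Submodule.mem_top⟩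
  · rw [Set.mem_compl_iff, Module.notMem_support_iff']
    intro h
    have hker : KaehlerDifferential.mapBaseChange A B₂ B₁ (Algebra.H1Cotangent.δ A B₂ B₁ h) = 0 :=
      (Algebra.H1Cotangent.exact_δ_mapBaseChange A B₂ B₁ _).mpr ⟨h, rfl⟩
    have hsurj : ∀ ω : Ω[B₁⁄A], r₀ • ω ∈
        LinearMap.range (KaehlerDifferential.mapBaseChange A B₂ B₁) := by
      intro ω
      rw [KaehlerDifferential.range_mapBaseChange, LinearMap.mem_ker, map_smul]
      exact hr₀ _ Submodule.mem_top
    have hproj : Module.Projective (Localization.AtPrime P)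
        (LocalizedModule P.primeCompl Ω[B₁⁄A]) := by
      have := hfree
      exact Module.Projective.of_free
    obtain ⟨r, hrP, hr⟩ :=
      Groth.Agent.Helper95.LocalSplitNakayama.exists_smul_eq_zero_of_mem_ker P (RingHom.ker σ₁) hP
        (KaehlerDifferential.mapBaseChange A B₂ B₁)
        (Groth.Agent.Helper95.EtaleAlongSection.mem_smul_top_of_mapBaseChange_mem σ₁ σ₂ hle hcot.1)
        r₀ hr₀P hsurj _ hker
    rw [← map_smul] at hr
    obtain ⟨h', hh'⟩ := (Algebra.H1Cotangent.exact_map_δ A B₂ B₁ _).mp hr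
    obtain ⟨r', hr'P, hr'⟩ := hH1 h'
    refine ⟨r' * r, ?_, ?_⟩
    · exact fun hmem => (Ideal.IsPrime.mem_or_mem ‹_› hmem).elim hr'P hrP
    · rw [mul_smul, ← hh', ← map_smul, hr', map_zero]

end Groth.Agent.S18962
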