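import Groth.Statements.S18974
import Mathlib
-- import your own Groth.Agent.* helpers here

set_option autoImplicit false
universe u
open CAlg

namespace Groth.Agent.S18974
open Finset Nat Polynomial

namespace Slice
open scoped Classical
variable {A : Type*} [CommRing A] [Algebra ℚ A] (D : Derivation ℚ A A)

theorem leibniz_iter (n : ℕ) (x y : A) :
    D^[n] (x * y) = ∑ ij ∈ antidiagonal n, n.choose ij.1 • (D^[ij.1] x * D^[ij.2] y) := by
  induction n with
  | zero => simp
  | succ n ih =>
    rw [sum_antidiagonal_choose_succ_nsmul (M := A) (fun i j => D^[i] x * D^[j] y) n]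
    simp only [Function.iterate_succ_apply', ih, map_sum, map_nsmul, Derivation.leibniz, smul_eq_mul, smul_add,
      sum_add_distrib]
    congr 1
    refine sum_congr rfl fun ⟨i, j⟩ hij ↦ ?_
    rw [n.choose_symm_of_eq_add (mem_antidiagonal.1 hij).symm, mul_comm]

/-- divided power operators -/
noncomputable def d (n : ℕ) (x : A) : A := ((n.factorial : ℚ)⁻¹) • D^[n] x

theorem d_zero (x : A) : d D 0 x = x := by simp [d]


theorem iter_zero (n : ℕ) : D^[n] (0 : A) = 0 := by
  induction n with
  | zero => rfl
  | succ n ih => rw [Function.iterate_succ_apply', ih, map_zero]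

theorem iter_add (n : ℕ) (x y : A) : D^[n] (x + y) = D^[n] x + D^[n] y := by
  induction n with
  | zero => rfl
  | succ n ih => rw [Function.iterate_succ_apply', Function.iterate_succ_apply', Function.iterate_succ_apply', ih, map_add]

theorem d_add (n : ℕ) (x y : A) : d D n (x + y) = d D n x + d D n y := by
  simp only [d, iter_add, smul_add]

theorem d_mul (n : ℕ) (x y : A) :
    d D n (x * y) = ∑ ij ∈ antidiagonal n, d D ij.1 x * d D ij.2 y := by
  unfold d
  rw [leibniz_iter, smul_sum]
  refine sum_congr rfl fun ⟨i, j⟩ hij ↦ ?_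
  have hn : n = i + j := (mem_antidiagonal.1 hij).symm
  subst hn
  simp only
  rw [smul_mul_smul_comm, ← Nat.cast_smul_eq_nsmul ℚ, smul_smul]
  congr 1
  have h := Nat.add_choose_mul_factorial_mul_factorial i j
  rw [← Nat.choose_symm_add] at h
  have h' : (((i + j).choose i : ℕ) : ℚ) * (i.factorial : ℚ) * (j.factorial : ℚ) = ((i + j).factorial : ℚ) := by
    exact_mod_cast h
  have hi : (i.factorial : ℚ) ≠ 0 := by exact_mod_cast i.factorial_ne_zero
  have hj : (j.factorial : ℚ) ≠ 0 := by exact_mod_cast j.factorial_ne_zero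
  have hij' : ((i + j).factorial : ℚ) ≠ 0 := by exact_mod_cast (i + j).factorial_ne_zero
  field_simp
  linarith [h']


theorem iter_eq_zero_of_le {x : A} {N n : ℕ} (h : D^[N] x = 0) (hn : N ≤ n) : D^[n] x = 0 := by
  obtain ⟨k, rfl⟩ := Nat.exists_eq_add_of_le hn
  rw [add_comm, Function.iterate_add_apply, h, iter_zero]

theorem d_eq_zero_of_le {x : A} {N n : ℕ} (h : D^[N] x = 0) (hn : N ≤ n) : d D n x = 0 := by
  unfold d; rw [iter_eq_zero_of_le D h hn, smul_zero]

theorem d_one (n : ℕ) : d D n (1 : A) = if n = 0 then 1 else 0 := by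
  rcases n with _ | n
  · simp [d]
  · have : D^[n + 1] (1 : A) = 0 := by
      rw [Function.iterate_succ_apply, Derivation.map_one_eq_zero, iter_zero]
    simp [d, this]

variable (hnil : ∀ x : A, ∃ n : ℕ, D^[n] x = 0)

noncomputable def Efun (x : A) : A[X] := ∑ n ∈ range (Nat.find (hnil x)), monomial n (d D n x)

theorem coeff_Efun (x : A) (n : ℕ) : (Efun D hnil x).coeff n = d D n x := by
  unfold Efun
  rw [finsetSum_coeff]
  simp only [coeff_monomial]
  rw [Finset.sum_ite_eq' (range (Nat.find (hnil x))) n (fun b => d D b x)]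
  split_ifs with h
  · rfl
  · have hle : Nat.find (hnil x) ≤ n := by simpa using h
    exact (d_eq_zero_of_le D (Nat.find_spec (hnil x)) hle).symm

theorem Efun_eq_sum (x : A) (N : ℕ) (h : D^[N] x = 0) :
    Efun D hnil x = ∑ n ∈ range N, monomial n (d D n x) := by
  ext n
  rw [coeff_Efun, finsetSum_coeff]
  simp only [coeff_monomial]
  rw [Finset.sum_ite_eq' (range N) n (fun b => d D b x)]
  split_ifs with h'
  · rfl
  · have hle : N ≤ n := by simpa using h'
    exact d_eq_zero_of_le D h hle

noncomputable def E : A →+* A[X] where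
  toFun := Efun D hnil
  map_one' := by
    ext n
    rw [coeff_Efun, d_one, coeff_one]
  map_mul' x y := by
    ext n
    rw [coeff_Efun, d_mul, coeff_mul]
    refine sum_congr rfl fun ij _ => ?_
    rw [coeff_Efun, coeff_Efun]
  map_zero' := by
    ext n
    rw [coeff_Efun]
    simp [d]
  map_add' x y := by
    ext n
    rw [coeff_Efun, coeff_add, coeff_Efun, coeff_Efun, d_add]

theorem coeff_E (x : A) (n : ℕ) : (E D hnil x).coeff n = d D n x := coeff_Efun D hnil x n


variable (a : A) (ha : D a = 1)

include ha in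
theorem E_a : E D hnil a = C a + X := by
  ext n
  rw [coeff_E, coeff_add, coeff_C, coeff_X]
  rcases n with _ | _ | n
  · simp [d]
  · simp [d, ha]
  · have : D^[n + 1 + 1] a = 0 := by
      rw [Function.iterate_succ_apply, ha, Function.iterate_succ_apply, Derivation.map_one_eq_zero, iter_zero]
    simp [d, this]

theorem E_D (x : A) : E D hnil (D x) = derivative (E D hnil x) := by
  ext n
  rw [coeff_E, coeff_derivative, coeff_E]
  unfold d
  rw [← Function.iterate_succ_apply, smul_mul_assoc]
  have h1 : (D^[n + 1] x) * ((n : A) + 1) = ((n : ℚ) + 1) • D^[n + 1] x := by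
    rw [Algebra.smul_def, mul_comm]; simp
  rw [h1, smul_smul]
  congr 1
  rw [Nat.factorial_succ]
  push_cast
  have hn : ((n : ℚ) + 1) ≠ 0 := by positivity
  have hf : (n.factorial : ℚ) ≠ 0 := by exact_mod_cast n.factorial_ne_zero
  field_simp

/-- the Dixmier map -/
noncomputable def pi : A →+* A := (evalRingHom (-a)).comp (E D hnil)

include ha in
theorem pi_a : pi D hnil a a = 0 := by
  simp [pi, E_a D hnil a ha]

/-- chain rule for evaluating a polynomial with non-constant coefficients -/
theorem D_eval (c : A) (P : A[X]) :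
    D (P.eval c) = (P.sum fun n b => D b * c ^ n) + (derivative P).eval c * D c := by
  induction P using Polynomial.induction_on' with
  | add p q hp hq =>
    rw [eval_add, map_add, hp, hq, derivative_add, eval_add, add_mul]
    rw [sum_add_index p q _ (by simp) (by intro n b1 b2; simp [add_mul])]
    ring
  | monomial n b =>
    rw [eval_monomial, derivative_monomial, eval_monomial, sum_monomial_index _ _ (by simp)]
    rw [Derivation.leibniz, Derivation.leibniz_pow]
    simp only [smul_eq_mul, nsmul_eq_mul]
    ring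


theorem D_d (n : ℕ) (x : A) : D (d D n x) = d D n (D x) := by
  unfold d
  rw [D.map_smul, ← Function.iterate_succ_apply' D n x, Function.iterate_succ_apply]

include ha in
theorem D_pi (x : A) : D (pi D hnil a x) = 0 := by
  have h := D_eval D (-a) (E D hnil x)
  have hpi : pi D hnil a x = (E D hnil x).eval (-a) := rfl
  rw [hpi, h, ← E_D]
  set N := max ((E D hnil x).natDegree) ((E D hnil (D x)).natDegree) + 1 with hN
  rw [sum_over_range' (E D hnil x) (fun n => by simp) N (by omega)]
  rw [eval_eq_sum_range' (n := N) (by omega)]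
  rw [map_neg, ha, mul_neg, mul_one, ← sub_eq_add_neg, ← Finset.sum_sub_distrib]
  refine Finset.sum_eq_zero fun n _ => ?_
  rw [coeff_E, coeff_E, D_d, sub_self]

theorem pi_sub_mem (x : A) : pi D hnil a x - x ∈ Ideal.span ({a} : Set A) := by
  have h := sub_dvd_eval_sub (-a) 0 (E D hnil x)
  rw [← coeff_zero_eq_eval_zero, coeff_E, d_zero, sub_zero] at h
  have hpi : pi D hnil a x = (E D hnil x).eval (-a) := rfl
  rw [hpi, Ideal.mem_span_singleton]
  exact (neg_dvd.mp h)

include ha in
theorem pi_eq_zero_of_mem {z : A} (hz : z ∈ Ideal.span ({a} : Set A)) : pi D hnil a z = 0 := by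
  obtain ⟨w, rfl⟩ := Ideal.mem_span_singleton'.mp hz
  rw [map_mul, pi_a D hnil a ha, mul_zero]

theorem E_of_D_eq_zero {u : A} (hu : D u = 0) : E D hnil u = C u := by
  ext n
  rw [coeff_E, coeff_C]
  rcases n with _ | n
  · simp [d]
  · have : D^[n + 1] u = 0 := by rw [Function.iterate_succ_apply, hu, iter_zero]
    simp [d, this]

theorem pi_of_D_eq_zero {u : A} (hu : D u = 0) : pi D hnil a u = u := by
  have hpi : pi D hnil a u = (E D hnil u).eval (-a) := rfl
  rw [hpi, E_of_D_eq_zero D hnil hu, eval_C]

include hnil ha in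
theorem eq_zero_of_mem_of_D {u : A} (hu : u ∈ Ideal.span ({a} : Set A)) (hD : D u = 0) : u = 0 := by
  rw [← pi_of_D_eq_zero D hnil a hD, pi_eq_zero_of_mem D hnil a ha hu]

/-- the induced map on the quotient -/
noncomputable def pibar : (A ⧸ Ideal.span ({a} : Set A)) →+* A :=
  Ideal.Quotient.lift _ (pi D hnil a) (fun _ hz => pi_eq_zero_of_mem D hnil a ha hz)

theorem pibar_mk (x : A) : pibar D hnil a ha (Ideal.Quotient.mk _ x) = pi D hnil a x := rfl

noncomputable def psi : (A ⧸ Ideal.span ({a} : Set A))[X] →+* A := eval₂RingHom (pibar D hnil a ha) a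

noncomputable def chi : A →+* (A ⧸ Ideal.span ({a} : Set A))[X] :=
  (mapRingHom (Ideal.Quotient.mk _)).comp (E D hnil)

theorem chi_D (x : A) : chi D hnil a (D x) = derivative (chi D hnil a x) := by
  simp only [chi, RingHom.comp_apply, coe_mapRingHom, E_D, derivative_map]

theorem D_psi (p : (A ⧸ Ideal.span ({a} : Set A))[X]) :
    D (psi D hnil a ha p) = psi D hnil a ha (derivative p) := by
  induction p using Polynomial.induction_on' with
  | add p q hp hq => rw [map_add, map_add, hp, hq, derivative_add, map_add]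
  | monomial n b =>
    obtain ⟨b, rfl⟩ := Ideal.Quotient.mk_surjective b
    simp only [psi, coe_eval₂RingHom, eval₂_monomial, derivative_monomial, pibar_mk, map_mul, map_natCast]
    rw [Derivation.leibniz, Derivation.leibniz_pow, D_pi D hnil a ha, ha]
    simp only [smul_eq_mul, nsmul_eq_mul, mul_zero, mul_one, add_zero]
    ring

theorem chi_psi : (chi D hnil a).comp (psi D hnil a ha) = RingHom.id _ := by
  apply Polynomial.ringHom_ext
  · intro b
    obtain ⟨b, rfl⟩ := Ideal.Quotient.mk_surjective b
    simp only [RingHom.comp_apply, psi, coe_eval₂RingHom, eval₂_C, pibar_mk, chi, coe_mapRingHom, RingHom.id_apply]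
    rw [E_of_D_eq_zero D hnil (D_pi D hnil a ha b), map_C]
    congr 1
    rw [Ideal.Quotient.eq]
    exact pi_sub_mem D hnil a b
  · simp only [RingHom.comp_apply, psi, coe_eval₂RingHom, eval₂_X, chi, coe_mapRingHom, RingHom.id_apply]
    rw [E_a D hnil a ha, Polynomial.map_add, map_C, map_X]
    have : Ideal.Quotient.mk (Ideal.span ({a} : Set A)) a = 0 :=
      Ideal.Quotient.eq_zero_iff_mem.mpr (Ideal.subset_span rfl)
    rw [this, C_0, zero_add]

theorem psi_chi_sub_mem (x : A) : psi D hnil a ha (chi D hnil a x) - x ∈ Ideal.span ({a} : Set A) := by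
  have h1 : psi D hnil a ha (chi D hnil a x) = ((chi D hnil a x).map (pibar D hnil a ha)).eval a := by
    simp [psi, eval₂_eq_eval_map]
  have h := sub_dvd_eval_sub a 0 ((chi D hnil a x).map (pibar D hnil a ha))
  rw [← coeff_zero_eq_eval_zero, coeff_map, sub_zero] at h
  have h2 : (chi D hnil a x).coeff 0 = Ideal.Quotient.mk _ x := by
    simp only [chi, RingHom.comp_apply, coe_mapRingHom, coeff_map, coeff_E, d_zero]
  rw [h2, pibar_mk, ← h1] at h
  have h3 := pi_sub_mem D hnil a x
  have : psi D hnil a ha (chi D hnil a x) - x =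
      (psi D hnil a ha (chi D hnil a x) - pi D hnil a x) + (pi D hnil a x - x) := by ring
  rw [this]
  exact Ideal.add_mem _ (Ideal.mem_span_singleton.mpr h) h3

theorem psi_chi_aux (n : ℕ) : ∀ x : A, D^[n] x = 0 → psi D hnil a ha (chi D hnil a x) = x := by
  induction n with
  | zero => intro x hx; simp only [Function.iterate_zero, id_eq] at hx; subst hx; simp
  | succ n ih =>
    intro x hx
    rw [Function.iterate_succ_apply] at hx
    have h1 := ih (D x) hx
    have hu : D (psi D hnil a ha (chi D hnil a x) - x) = 0 := by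
      rw [map_sub, D_psi, ← chi_D, h1, sub_self]
    exact sub_eq_zero.mp (eq_zero_of_mem_of_D D hnil a ha (psi_chi_sub_mem D hnil a ha x) hu)

theorem psi_chi : (psi D hnil a ha).comp (chi D hnil a) = RingHom.id _ := by
  ext x
  obtain ⟨n, hn⟩ := hnil x
  exact psi_chi_aux D hnil a ha n x hn

end Slice


/-- Let A be a commutative algebra over the rationals, D a locally nilpotent derivation of A and a an
element with D a = 1; write A' for the quotient of A by the ideal generated by a. Then there is a
ring isomorphism from A onto the polynomial ring A'[Y] which sends every x to the (finite) sum over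
n of (1/n!) (class of D^n x) Y^n; its inverse sends Y to a and the constant polynomial on the class
of x to the sum over n of ((-1)^n/n!) (D^n x) a^n, and under it D corresponds to the derivative
d/dY. (The source says only that A is a ring, in a setting over a field of characteristic zero; the
rational coefficients 1/n! require an algebra over the rationals, which is the hypothesis taken
here. Both sums are written over any range beyond which the iterates of D vanish at x.) -/
theorem result
    (A : Type u) [CommRing A] [Algebra ℚ A] (D : Derivation ℚ A A)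
    (hnil : ∀ x : A, ∃ n : ℕ, ((D : A →ₗ[ℚ] A) ^ n) x = 0) (a : A) (ha : D a = 1) :
    ∃ χ : A ≃+* Polynomial (A ⧸ Ideal.span ({a} : Set A)),
      (∀ (x : A) (N : ℕ), ((D : A →ₗ[ℚ] A) ^ N) x = 0 →
        χ x = ∑ n ∈ Finset.range N,
          ((n.factorial : ℚ)⁻¹ • Polynomial.C (Ideal.Quotient.mk (Ideal.span ({a} : Set A)) (((D : A →ₗ[ℚ] A) ^ n) x))) *
            Polynomial.X ^ n) ∧
      χ.symm Polynomial.X = a ∧
      (∀ (x : A) (N : ℕ), ((D : A →ₗ[ℚ] A) ^ N) x = 0 →
        χ.symm (Polynomial.C (Ideal.Quotient.mk (Ideal.span ({a} : Set A)) x)) =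
          ∑ n ∈ Finset.range N, (((-1 : ℚ) ^ n * (n.factorial : ℚ)⁻¹) • ((((D : A →ₗ[ℚ] A) ^ n) x) * a ^ n))) ∧
      ∀ p : Polynomial (A ⧸ Ideal.span ({a} : Set A)), χ (D (χ.symm p)) = Polynomial.derivative p := by
  classical
  have key : ∀ (n : ℕ) (x : A), ((D : A →ₗ[ℚ] A) ^ n) x = D^[n] x := fun n x => by
    rw [Module.End.pow_apply]; rfl
  have hnil' : ∀ x : A, ∃ n : ℕ, D^[n] x = 0 := fun x => by
    obtain ⟨n, hn⟩ := hnil x
    exact ⟨n, by rw [← key]; exact hn⟩
  let χ : A ≃+* Polynomial (A ⧸ Ideal.span ({a} : Set A)) :=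
    RingEquiv.ofRingHom (Slice.chi D hnil' a) (Slice.psi D hnil' a ha)
      (Slice.chi_psi D hnil' a ha) (Slice.psi_chi D hnil' a ha)
  have hmk : ∀ (q : ℚ) (y : A), Ideal.Quotient.mk (Ideal.span ({a} : Set A)) (q • y) =
      q • Ideal.Quotient.mk (Ideal.span ({a} : Set A)) y := fun q y => by
    rw [Algebra.smul_def, Algebra.smul_def, map_mul, Ideal.Quotient.mk_algebraMap]
  refine ⟨χ, ?_, ?_, ?_, ?_⟩
  · intro x N hN
    rw [key] at hN
    change Slice.chi D hnil' a x = _
    simp only [Slice.chi, RingHom.comp_apply, Polynomial.coe_mapRingHom]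
    have hE : Slice.E D hnil' x = Slice.Efun D hnil' x := rfl
    rw [hE, Slice.Efun_eq_sum D hnil' x N hN, Polynomial.map_sum]
    refine Finset.sum_congr rfl fun n _ => ?_
    rw [Polynomial.map_monomial, Slice.d, hmk, key, ← Polynomial.C_mul_X_pow_eq_monomial, Polynomial.smul_C]
  · change Slice.psi D hnil' a ha Polynomial.X = a
    simp [Slice.psi]
  · intro x N hN
    rw [key] at hN
    change Slice.psi D hnil' a ha (Polynomial.C (Ideal.Quotient.mk _ x)) = _
    simp only [Slice.psi, Polynomial.coe_eval₂RingHom, Polynomial.eval₂_C, Slice.pibar_mk]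
    have hpi : Slice.pi D hnil' a x = (Slice.Efun D hnil' x).eval (-a) := rfl
    rw [hpi, Slice.Efun_eq_sum D hnil' x N hN, Polynomial.eval_finsetSum]
    refine Finset.sum_congr rfl fun n _ => ?_
    rw [Polynomial.eval_monomial, Slice.d, key, neg_pow, mul_smul, smul_mul_assoc]
    rw [← mul_assoc, mul_comm _ ((-1 : A) ^ n), mul_assoc]
    have : ((-1 : ℚ) ^ n) • ((D : A → A)^[n] x * a ^ n) = (-1 : A) ^ n * ((D : A → A)^[n] x * a ^ n) := by
      rw [Algebra.smul_def]; simp
    rw [smul_comm ((-1 : ℚ) ^ n), this]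
  · intro p
    have h := Slice.chi_D D hnil' a (χ.symm p)
    have h2 : Slice.chi D hnil' a (χ.symm p) = p := χ.apply_symm_apply p
    rw [h2] at h
    exact h

end Groth.Agent.S18974
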