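import Groth.Statements.S18977
-- import your own Groth.Agent.* helpers here
import Groth.Agent.Lib.Helper40.TorsorExact2
import Groth.Agent.Lib.Helper40.LocTrivCov
import Groth.Agent.Lib.Helper40.GrpKer
import Groth.Agent.Lib.Helper40.ActPts

set_option autoImplicit false
universe u
open CategoryTheory MonoidalCategory CartesianMonoidalCategory MonObj AlgebraicGeometry
open GIT

namespace Groth.Agent.S18977

/-- Composition of torsors. Over an algebraically closed field k of characteristic zero, let G be an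
affine group scheme of finite type over k, N a closed normal subgroup scheme which is the kernel of
a homomorphism q : G → Q, and H a closed subgroup scheme of G which q maps isomorphically onto Q (so
G is the inner semidirect product N H). Let G act on a k-scheme X and let φ₁ : X → Y be a torsor
over Y under the restricted action of N (the square formed by the N-action, the second projection
and φ₁ twice is cartesian, and φ₁ acquires sections on the members of some fpqc covering family of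
Y); let Q act on Y so that φ₁ is equivariant along q, and let φ₂ : Y → Z be a Q-torsor over Z in the
same sense. Then φ₂ ∘ φ₁ is a G-torsor over Z: the square formed by the G-action, the second
projection and φ₂ ∘ φ₁ twice is cartesian, and φ₂ ∘ φ₁ acquires sections fpqc-locally on Z. (The
induced action of the factor group on Y is taken as a datum together with the equivariance of φ₁;
the source's second assertion, that the composite of trivial torsors is trivial, amounts to
composing sections and is not restated.) -/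
theorem result
    (k : Type u) [Field k] [IsAlgClosed k] [CharZero k]
    (G N Q H X Y Z : Over (Spec (CommRingCat.of k))) [GrpObj G] [GrpObj N] [GrpObj Q] [GrpObj H]
    [IsAffine G.left] [LocallyOfFiniteType G.hom]
    (iN : N ⟶ G) [IsMonHom iN] [IsClosedImmersion iN.left] (hnorm : AlgGrp.IsNormalHom iN)
    (q : G ⟶ Q) [IsMonHom q] (hker : AlgGrp.IsKernel iN q)
    (iH : H ⟶ G) [IsMonHom iH] [IsClosedImmersion iH.left] [IsIso (iH ≫ q)]
    (a : AlgGrp.Action G X) (φ₁ : X ⟶ Y)
    (h₁ : IsPullback (a.restrict iN).act (snd N X) φ₁ φ₁)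
    (h₁loc : NonAbH1.IsLocallyTrivialFor Scheme.fpqcPrecoverage (Over.mk φ₁.left : Over Y.left))
    (aY : AlgGrp.Action Q Y) (hequiv : (q ⊗ₘ φ₁) ≫ aY.act = a.act ≫ φ₁)
    (φ₂ : Y ⟶ Z) (h₂ : IsPullback aY.act (snd Q Y) φ₂ φ₂)
    (h₂loc : NonAbH1.IsLocallyTrivialFor Scheme.fpqcPrecoverage (Over.mk φ₂.left : Over Z.left)) :
    IsPullback a.act (snd G X) (φ₁ ≫ φ₂) (φ₁ ≫ φ₂) ∧
      NonAbH1.IsLocallyTrivialFor Scheme.fpqcPrecoverage (Over.mk (φ₁ ≫ φ₂).left : Over Z.left) := by
  have hE : ∀ {T : Over (Spec (CommRingCat.of k))} (g : T ⟶ G) (x : T ⟶ X),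
      Groth.Agent.Lib.Helper40.ActPts.smul a g x ≫ φ₁ =
        Groth.Agent.Lib.Helper40.ActPts.smul aY (g ≫ q) (x ≫ φ₁) := by
    intro T g x
    rw [Groth.Agent.Lib.Helper40.ActPts.smul_def, Groth.Agent.Lib.Helper40.ActPts.smul_def,
      Category.assoc, ← hequiv, ← Category.assoc, lift_map]
  have hN : ∀ {T : Over (Spec (CommRingCat.of k))} (n : T ⟶ N) (x : T ⟶ X),
      Groth.Agent.Lib.Helper40.ActPts.smul (a.restrict iN) n x =
        Groth.Agent.Lib.Helper40.ActPts.smul a (n ≫ iN) x :=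
    fun n x => AlgGrp.Action.lift_restrict_act iN a n x
  have free : ∀ {K W V : Over (Spec (CommRingCat.of k))} [GrpObj K] (b : AlgGrp.Action K W)
      (ψ : W ⟶ V) (_ : IsPullback b.act (snd K W) ψ ψ) {T : Over (Spec (CommRingCat.of k))}
      (c c' : T ⟶ K) (y : T ⟶ W),
      Groth.Agent.Lib.Helper40.ActPts.smul b c y = Groth.Agent.Lib.Helper40.ActPts.smul b c' y →
        c = c' := by
    intro K W V _ b ψ hsq T c c' y h
    have h1 : lift c y = lift c' y := by
      apply hsq.hom_ext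
      · exact h
      · rw [lift_snd, lift_snd]
    have h2 := congrArg (· ≫ fst K W) h1
    simpa using h2
  have trans : ∀ {K W V : Over (Spec (CommRingCat.of k))} [GrpObj K] (b : AlgGrp.Action K W)
      (ψ : W ⟶ V) (_ : IsPullback b.act (snd K W) ψ ψ) {T : Over (Spec (CommRingCat.of k))}
      (y1 y2 : T ⟶ W), y1 ≫ ψ = y2 ≫ ψ →
        ∃ c : T ⟶ K, Groth.Agent.Lib.Helper40.ActPts.smul b c y2 = y1 := by
    intro K W V _ b ψ hsq T y1 y2 h
    refine ⟨hsq.lift y1 y2 h ≫ fst K W, ?_⟩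
    have e : lift (hsq.lift y1 y2 h ≫ fst K W) y2 = hsq.lift y1 y2 h := by
      apply CartesianMonoidalCategory.hom_ext
      · rw [lift_fst]
      · rw [lift_snd, hsq.lift_snd]
    rw [Groth.Agent.Lib.Helper40.ActPts.smul_def, e, hsq.lift_fst]
  have cancel : ∀ {T : Over (Spec (CommRingCat.of k))} (g : T ⟶ G) (y y' : T ⟶ X),
      Groth.Agent.Lib.Helper40.ActPts.smul a g y = Groth.Agent.Lib.Helper40.ActPts.smul a g y' →
        y = y' := by
    intro T g y y' h
    have h' := congrArg (Groth.Agent.Lib.Helper40.ActPts.smul a g⁻¹) h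
    rw [← Groth.Agent.Lib.Helper40.ActPts.mul_smul a g⁻¹ g y,
      ← Groth.Agent.Lib.Helper40.ActPts.mul_smul a g⁻¹ g y', _root_.inv_mul_cancel,
      Groth.Agent.Lib.Helper40.ActPts.one_smul, Groth.Agent.Lib.Helper40.ActPts.one_smul] at h'
    exact h'
  have w : a.act ≫ (φ₁ ≫ φ₂) = snd G X ≫ (φ₁ ≫ φ₂) := by
    rw [← Category.assoc, ← hequiv, Category.assoc, h₂.w, ← Category.assoc, tensorHom_snd,
      Category.assoc]
  constructor
  · apply Groth.Agent.Lib.Helper40.TorsorExact.isPullback_of_existsUnique w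
    intro W x1 x2 h12
    obtain ⟨q0, hq0⟩ := trans aY φ₂ h₂ (x1 ≫ φ₁) (x2 ≫ φ₁) (by simpa using h12)
    obtain ⟨g0, hg0⟩ : ∃ g0 : W ⟶ G, g0 ≫ q = q0 := ⟨q0 ≫ inv (iH ≫ q) ≫ iH, by simp⟩
    have h2' : Groth.Agent.Lib.Helper40.ActPts.smul a g0 x2 ≫ φ₁ = x1 ≫ φ₁ := by
      rw [hE, hg0, hq0]
    obtain ⟨n, hn⟩ := trans (a.restrict iN) φ₁ h₁ x1
      (Groth.Agent.Lib.Helper40.ActPts.smul a g0 x2) h2'.symm
    have hn' : Groth.Agent.Lib.Helper40.ActPts.smul a (n ≫ iN)
        (Groth.Agent.Lib.Helper40.ActPts.smul a g0 x2) = x1 := by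
      rw [← hN]
      exact hn
    have hgx : Groth.Agent.Lib.Helper40.ActPts.smul a ((n ≫ iN) * g0) x2 = x1 := by
      rw [Groth.Agent.Lib.Helper40.ActPts.mul_smul, hn']
    refine ⟨lift ((n ≫ iN) * g0) x2, ⟨hgx, lift_snd _ _⟩, ?_⟩
    rintro k' ⟨hk1, hk2⟩
    have ek : k' = lift (k' ≫ fst G X) x2 := by
      apply CartesianMonoidalCategory.hom_ext
      · rw [lift_fst]
      · rw [lift_snd, hk2]
    have hg' : Groth.Agent.Lib.Helper40.ActPts.smul a (k' ≫ fst G X) x2 = x1 := by
      rw [Groth.Agent.Lib.Helper40.ActPts.smul_def, ← ek, hk1]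
    have hq' : ((n ≫ iN) * g0) ≫ q = (k' ≫ fst G X) ≫ q := by
      apply free aY φ₂ h₂ _ _ (x2 ≫ φ₁)
      rw [← hE, ← hE, hg', hgx]
    obtain ⟨c, hc⟩ := Groth.Agent.Lib.Helper40.GrpKer.exists_eq_mul_of_comp_eq hker _ _ hq'
    have h5 : Groth.Agent.Lib.Helper40.ActPts.smul a ((n ≫ iN) * g0)
        (Groth.Agent.Lib.Helper40.ActPts.smul a (c ≫ iN) x2) =
        Groth.Agent.Lib.Helper40.ActPts.smul a ((n ≫ iN) * g0) x2 := by
      rw [← Groth.Agent.Lib.Helper40.ActPts.mul_smul, ← hc, hg', hgx]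
    have h6 := cancel _ _ _ h5
    have hc1 : c = 1 := by
      apply free (a.restrict iN) φ₁ h₁ c 1 x2
      rw [hN, h6, Groth.Agent.Lib.Helper40.ActPts.one_smul]
    rw [ek, hc, hc1, MonObj.one_comp, _root_.mul_one]
  · have c1 : Groth.Agent.Lib.Helper40.FpqcCov.IsCov φ₁.left :=
      Groth.Agent.Lib.Helper40.FpqcCov.isCov_of_isLocallyTrivialFor_fpqc (Over.mk φ₁.left) h₁loc
    have c2 : Groth.Agent.Lib.Helper40.FpqcCov.IsCov φ₂.left :=
      Groth.Agent.Lib.Helper40.FpqcCov.isCov_of_isLocallyTrivialFor_fpqc (Over.mk φ₂.left) h₂loc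
    have c12 : Groth.Agent.Lib.Helper40.FpqcCov.IsCov (φ₁ ≫ φ₂).left :=
      Groth.Agent.Lib.Helper40.FpqcCov.isCov_left_comp c1 c2
    exact Groth.Agent.Lib.Helper40.TorsorExact.isLocallyTrivialFor_fpqc_of_isCov
      (Over.mk (φ₁ ≫ φ₂).left) c12

end Groth.Agent.S18977
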