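import Groth.Statements.S18981
import Mathlib
import Groth.Agent.Lib.Helper95.ActionBasic

set_option autoImplicit false
universe u
open CategoryTheory MonoidalCategory CartesianMonoidalCategory MonObj AlgebraicGeometry Topology
open NRQuot

section S18981helpers
set_option linter.style.haveILetI false
open Limits Groth.Agent.Lib.Helper95

namespace Groth.Agent.S18981

/-- a closed nonempty subset of a locally finite type scheme over an algebraically closed field
contains (the image of) a rational point -/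
theorem exists_kpoint_mem {k : Type u} [Field k] [IsAlgClosed k] {Z : Scheme.{u}}
    (q : Z ⟶ Spec (CommRingCat.of k)) [LocallyOfFiniteType q] (W : Set Z) (hW : IsClosed W)
    (hne : W.Nonempty) :
    ∃ p : Spec (CommRingCat.of k) ⟶ Z, p ≫ q = 𝟙 _ ∧ ∀ a, p.base a ∈ W := by
  haveI : JacobsonSpace ↥Z := LocallyOfFiniteType.jacobsonSpace q
  obtain ⟨x, hxW, hx0⟩ := nonempty_inter_closedPoints hne hW.isLocallyClosed
  have hx : IsClosed ({x} : Set Z) := hx0
  refine ⟨pointOfClosedPoint q x hx, pointOfClosedPoint_comp q x hx, fun a => ?_⟩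
  rw [pointOfClosedPoint_apply]
  exact hxW

variable {S : Scheme.{u}} {G X : Over S} [GrpObj G]

theorem orbitMap_eq (a : AlgGrp.Action G X) (o : 𝟙_ (Over S) ⟶ X) :
    a.orbitMap o = psmul a (𝟙 G) (toUnit G ≫ o) := rfl

theorem comp_orbitMap (a : AlgGrp.Action G X) (o : 𝟙_ (Over S) ⟶ X) {T : Over S} (g : T ⟶ G) :
    g ≫ a.orbitMap o = psmul a g (toUnit T ≫ o) := by
  rw [orbitMap_eq, comp_psmul, Category.comp_id, ← Category.assoc]
  congr 2
  exact toUnit_unique _ _

/-- orbits are invariant sets -/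
theorem isInvariantSet_orbit (a : AlgGrp.Action G X) (o : 𝟙_ (Over S) ⟶ X) :
    NRQuot.IsInvariantSet a (Set.range (a.orbitMap o).left.base) := by
  rintro p ⟨g', hg'⟩
  obtain ⟨r, hr1, hr2⟩ := Scheme.Pullback.exists_preimage_pullback
    (f := (snd G X).left) (g := (a.orbitMap o).left) p g' hg'.symm
  let π₁ := pullback.fst (snd G X).left (a.orbitMap o).left
  let π₂ := pullback.snd (snd G X).left (a.orbitMap o).left
  have hcond : π₁ ≫ (snd G X).left = π₂ ≫ (a.orbitMap o).left := pullback.condition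
  let R' : Over S := Over.mk (π₂ ≫ G.hom)
  let r1 : R' ⟶ G ⊗ X := Over.homMk π₁ (by
    change π₁ ≫ (G ⊗ X).hom = π₂ ≫ G.hom
    rw [← Over.w (snd G X), ← Category.assoc, hcond, Category.assoc, Over.w])
  let r2 : R' ⟶ G := Over.homMk π₂ rfl
  have hc : r1 ≫ snd G X = r2 ≫ a.orbitMap o := by
    ext
    change π₁ ≫ (snd G X).left = π₂ ≫ (a.orbitMap o).left
    exact hcond
  have key : r1 ≫ a.act = ((r1 ≫ fst G X) * r2) ≫ a.orbitMap o := by
    rw [comp_orbitMap, mul_psmul, ← comp_orbitMap, ← hc]
    rw [psmul, lift_comp_fst_snd]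
  refine ⟨(((r1 ≫ fst G X) * r2)).left.base r, ?_⟩
  have := congrArg (fun ψ => ψ.left.base r) key
  simp only [Over.comp_left, Scheme.Hom.comp_base, TopCat.comp_app] at this
  rw [← this]
  change a.act.left.base (π₁.base r) = _
  rw [hr1]

/-- the base point lies in its orbit -/
theorem unit_orbitMap (a : AlgGrp.Action G X) (o : 𝟙_ (Over S) ⟶ X) :
    η[G] ≫ a.orbitMap o = o := by
  rw [comp_orbitMap]
  have h1 : (η[G] : 𝟙_ (Over S) ⟶ G) = 1 := by
    rw [Hom.one_def]
    have : toUnit (𝟙_ (Over S)) = 𝟙 _ := toUnit_unique _ _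
    rw [this, Category.id_comp]
  have h2 : toUnit (𝟙_ (Over S)) ≫ o = o := by
    have : toUnit (𝟙_ (Over S)) = 𝟙 _ := toUnit_unique _ _
    rw [this, Category.id_comp]
  rw [h1, h2, one_psmul]


theorem main
    (k : Type u) [Field k] [IsAlgClosed k]
    (G X Y : Over (Spec (CommRingCat.of k))) [GrpObj G] [LocallyOfFiniteType G.hom]
    [LocallyOfFiniteType X.hom]
    (a : AlgGrp.Action G X) (φ : X ⟶ Y) (h : NRQuot.IsGoodQuot a φ)
    (hcl : ∀ x : 𝟙_ (Over (Spec (CommRingCat.of k))) ⟶ X,
      IsClosed (Set.range (a.orbitMap x).left.base))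
    (x₁ x₂ : 𝟙_ (Over (Spec (CommRingCat.of k))) ⟶ X) (hφ : x₁ ≫ φ = x₂ ≫ φ) :
    ∃ g : 𝟙_ (Over (Spec (CommRingCat.of k))) ⟶ G, lift g x₁ ≫ a.act = x₂ := by
  let pt : ↥(𝟙_ (Over (Spec (CommRingCat.of k)))).left := IsLocalRing.closedPoint k
  let O : ULift.{u} Bool → Set ↥X.left := fun b =>
    if b.down then Set.range (a.orbitMap x₁).left.base else Set.range (a.orbitMap x₂).left.base
  have hOcl : ∀ b, IsClosed (O b) := by
    rintro ⟨b⟩
    cases b
    · exact hcl x₂
    · exact hcl x₁
  have hOinv : ∀ b, NRQuot.IsInvariantSet a (O b) := by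
    rintro ⟨b⟩
    cases b
    · exact isInvariantSet_orbit a x₂
    · exact isInvariantSet_orbit a x₁
  have hmem : ∀ (x : 𝟙_ (Over (Spec (CommRingCat.of k))) ⟶ X),
      x.left.base pt ∈ Set.range (a.orbitMap x).left.base := by
    intro x
    refine ⟨η[G].left.base pt, ?_⟩
    have := congrArg (fun ψ => ψ.left.base pt) (unit_orbitMap a x)
    simpa using this
  have hinter := h.inter (ULift.{u} Bool) O hOcl hOinv
  have hy : (x₁ ≫ φ).left.base pt ∈ ⋂ b, φ.left.base '' (O b) := by
    rw [Set.mem_iInter]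
    rintro ⟨b⟩
    cases b
    · refine ⟨x₂.left.base pt, hmem x₂, ?_⟩
      rw [hφ]
      simp
    · refine ⟨x₁.left.base pt, hmem x₁, ?_⟩
      simp
  rw [← hinter] at hy
  obtain ⟨z₀, hz₀, -⟩ := hy
  rw [Set.mem_iInter] at hz₀
  have hz₁ : z₀ ∈ Set.range (a.orbitMap x₁).left.base := hz₀ ⟨true⟩
  have hz₂ : z₀ ∈ Set.range (a.orbitMap x₂).left.base := hz₀ ⟨false⟩
  obtain ⟨p, hp, hpW⟩ := exists_kpoint_mem X.hom
    (Set.range (a.orbitMap x₁).left.base ∩ Set.range (a.orbitMap x₂).left.base)
    ((hcl x₁).inter (hcl x₂)) ⟨z₀, hz₁, hz₂⟩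
  let zz : 𝟙_ (Over (Spec (CommRingCat.of k))) ⟶ X := Over.homMk p (by simpa using hp)
  -- existence of group elements
  have hex : ∀ (x : 𝟙_ (Over (Spec (CommRingCat.of k))) ⟶ X),
      p.base pt ∈ Set.range (a.orbitMap x).left.base →
      ∃ g : 𝟙_ (Over (Spec (CommRingCat.of k))) ⟶ G, psmul a g x = zz := by
    intro x ⟨g', hg'⟩
    obtain ⟨r, -, -⟩ := Scheme.Pullback.exists_preimage_pullback
      (f := (a.orbitMap x).left) (g := p) g' pt hg'
    haveI : LocallyOfFiniteType ((a.orbitMap x).left ≫ X.hom) := by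
      rw [Over.w]; infer_instance
    haveI : LocallyOfFiniteType (a.orbitMap x).left :=
      locallyOfFiniteType_of_comp (a.orbitMap x).left X.hom
    obtain ⟨pF, hpF, -⟩ := exists_kpoint_mem (pullback.snd (a.orbitMap x).left p) Set.univ
      isClosed_univ ⟨r, trivial⟩
    have hcond : pullback.fst (a.orbitMap x).left p ≫ (a.orbitMap x).left =
        pullback.snd (a.orbitMap x).left p ≫ p := pullback.condition
    have hgp : (pF ≫ pullback.fst (a.orbitMap x).left p) ≫ (a.orbitMap x).left = p := by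
      rw [Category.assoc, hcond, ← Category.assoc, hpF, Category.id_comp]
    let g : 𝟙_ (Over (Spec (CommRingCat.of k))) ⟶ G :=
      Over.homMk (pF ≫ pullback.fst (a.orbitMap x).left p) (by
        change (pF ≫ pullback.fst (a.orbitMap x).left p) ≫ G.hom = 𝟙 _
        rw [← Over.w (a.orbitMap x), ← Category.assoc, hgp]
        exact hp)
    refine ⟨g, ?_⟩
    have h1 : g ≫ a.orbitMap x = zz := by
      ext
      exact hgp
    rw [comp_orbitMap] at h1
    have h2 : toUnit (𝟙_ (Over (Spec (CommRingCat.of k)))) ≫ x = x := by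
      have : toUnit (𝟙_ (Over (Spec (CommRingCat.of k)))) = 𝟙 _ := toUnit_unique _ _
      rw [this, Category.id_comp]
    rwa [h2] at h1
  obtain ⟨g₁, hg₁⟩ := hex x₁ (hpW pt).1
  obtain ⟨g₂, hg₂⟩ := hex x₂ (hpW pt).2
  refine ⟨g₂⁻¹ * g₁, ?_⟩
  change psmul a (g₂⁻¹ * g₁) x₁ = x₂
  rw [mul_psmul, hg₁, ← hg₂, ← mul_psmul, inv_mul_cancel, one_psmul]

end Groth.Agent.S18981

end S18981helpers

namespace Groth.Agent.S18981

/-- Over an algebraically closed field k of characteristic zero, let G be an affine group scheme of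
finite type over k acting on a k-scheme X locally of finite type, and let φ : X → Y be a good
quotient (affine and invariant, functions on every open of Y are exactly the invariant functions on
its preimage, invariant closed subsets have closed images, images commute with intersections of
families of invariant closed subsets). If the orbit of every k-point of X is closed in X, then φ is
a geometric quotient; this row states the one clause that a good quotient lacks: fibres are orbits,
read on k-points — two k-points of X with the same image in Y are translates of each other by a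
k-point of G. (Surjectivity and submersiveness of a good quotient are the content of the companion
statement on good quotients; X locally of finite type is what the argument on closed points uses.) -/
theorem result
    (k : Type u) [Field k] [IsAlgClosed k] [CharZero k]
    (G X Y : Over (Spec (CommRingCat.of k))) [GrpObj G] [IsAffine G.left] [LocallyOfFiniteType G.hom]
    [LocallyOfFiniteType X.hom]
    (a : AlgGrp.Action G X) (φ : X ⟶ Y) (h : NRQuot.IsGoodQuot a φ)
    (hcl : ∀ x : 𝟙_ (Over (Spec (CommRingCat.of k))) ⟶ X, IsClosed (Set.range (a.orbitMap x).left.base))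
    (x₁ x₂ : 𝟙_ (Over (Spec (CommRingCat.of k))) ⟶ X) (hφ : x₁ ≫ φ = x₂ ≫ φ) :
    ∃ g : 𝟙_ (Over (Spec (CommRingCat.of k))) ⟶ G, lift g x₁ ≫ a.act = x₂ := by

  exact Groth.Agent.S18981.main k G X Y a φ h hcl x₁ x₂ hφ

end Groth.Agent.S18981
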