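import Groth.Statements.S18983
import Mathlib

set_option autoImplicit false
universe u v w
open CAlg

namespace Groth.Agent.S18983

section helpers

open DirectSum

variable {k : Type u} [Field k] {Λ : Type v} [AddCommGroup Λ] [DecidableEq Λ]
  {V : Type w} [AddCommGroup V] [Module k V]
  (𝒱 : Λ → Submodule k V) [Decomposition 𝒱] (A : Module.End k V) (χ : Λ)

def IsHom (v : V) : Prop := ∃ μ, v ∈ 𝒱 μ

theorem decomp_A (hhom : ∀ (μ : Λ) (v : V), v ∈ 𝒱 μ → A v ∈ 𝒱 (μ + χ)) (v : V) (μ : Λ) :
    (decompose 𝒱 (A v) (μ + χ) : V) = A (decompose 𝒱 v μ : V) := by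
  induction v using DirectSum.Decomposition.inductionOn 𝒱 with
  | zero => simp
  | @homogeneous ν x =>
    have hx := hhom ν x x.2
    by_cases h : ν = μ
    · subst h
      rw [decompose_of_mem_same 𝒱 hx, decompose_of_mem_same 𝒱 x.2]
    · rw [decompose_of_mem_ne 𝒱 hx (by intro h'; exact h (add_right_cancel h')),
        decompose_of_mem_ne 𝒱 x.2 h, map_zero]
  | add x y hx hy =>
    simp only [map_add, decompose_add, DirectSum.add_apply, Submodule.coe_add, hx, hy]

theorem isHom_pow (hhom : ∀ (μ : Λ) (v : V), v ∈ 𝒱 μ → A v ∈ 𝒱 (μ + χ)) (m : ℕ) (v : V)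
    (hv : IsHom 𝒱 v) : IsHom 𝒱 ((A ^ m) v) := by
  induction m with
  | zero => simpa using hv
  | succ m ih =>
    obtain ⟨μ, hμ⟩ := ih
    rw [pow_succ', Module.End.mul_apply]
    exact ⟨_, hhom μ _ hμ⟩

theorem pow_stable (W : Submodule k V) (hst : ∀ w ∈ W, A w ∈ W) (m : ℕ) (w : V) (hw : w ∈ W) :
    (A ^ m) w ∈ W := by
  induction m with
  | zero => simpa using hw
  | succ m ih =>
    rw [pow_succ', Module.End.mul_apply]
    exact hst _ ih

theorem chains [FiniteDimensional k V]
    (hhom : ∀ (μ : Λ) (v : V), v ∈ 𝒱 μ → A v ∈ 𝒱 (μ + χ)) (hA : IsNilpotent A) :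
    ∀ (d : ℕ) (W : Submodule k V), Module.finrank k W = d →
      (∀ w ∈ W, ∀ μ, (decompose 𝒱 w μ : V) ∈ W) → (∀ w ∈ W, A w ∈ W) →
      ∃ (ι : Type w) (_ : Fintype ι) (n : ι → ℕ) (t : ι → V),
        (∀ i, IsHom 𝒱 (t i)) ∧ (∀ i, (A ^ (n i + 1)) (t i) = 0) ∧ (∑ i, (n i + 1) = d) ∧
        Submodule.span k (Set.range fun p : (Σ i, Fin (n i + 1)) => (A ^ (p.2 : ℕ)) (t p.1)) = W := by
  intro d
  induction d using Nat.strong_induction_on with
  | _ d ih =>
  intro W hd hgr hst
  classical
  by_cases hd0 : d = 0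
  · subst hd0
    have hW : W = ⊥ := Submodule.finrank_eq_zero.mp hd
    refine ⟨PEmpty, inferInstance, PEmpty.elim, PEmpty.elim, fun i => i.elim, fun i => i.elim,
      by simp, ?_⟩
    rw [hW, Submodule.span_eq_bot]
    rintro _ ⟨⟨i, _⟩, _⟩
    exact i.elim
  set W' : Submodule k V := W.map A with hW'
  have hW'le : W' ≤ W := by
    rintro _ ⟨w, hw, rfl⟩
    exact hst w hw
  have hW'gr : ∀ w ∈ W', ∀ μ, (decompose 𝒱 w μ : V) ∈ W' := by
    rintro _ ⟨w, hw, rfl⟩ μ
    have := decomp_A 𝒱 A χ hhom w (μ - χ)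
    rw [sub_add_cancel] at this
    rw [this]
    exact ⟨_, hgr w hw _, rfl⟩
  have hW'st : ∀ w ∈ W', A w ∈ W' := fun w hw => ⟨w, hW'le hw, rfl⟩
  let f : W →ₗ[k] V := A.domRestrict W
  have hrange : LinearMap.range f = W' := LinearMap.range_domRestrict W A
  let K : Submodule k V := (LinearMap.ker f).map W.subtype
  have hKmem : ∀ v, v ∈ K ↔ v ∈ W ∧ A v = 0 := by
    intro v
    constructor
    · rintro ⟨w, hw, rfl⟩
      exact ⟨w.2, hw⟩
    · rintro ⟨hv, hAv⟩
      exact ⟨⟨v, hv⟩, hAv, rfl⟩
  have hKfin : Module.finrank k K = Module.finrank k (LinearMap.ker f) :=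
    (Submodule.equivMapOfInjective W.subtype W.injective_subtype
      (LinearMap.ker f)).finrank_eq.symm
  have hrn : Module.finrank k W' + Module.finrank k K = d := by
    rw [hKfin, ← hrange, ← hd]
    exact LinearMap.finrank_range_add_finrank_ker f
  have hKpos : 0 < Module.finrank k K := by
    by_contra hcon
    have hK0 : K = ⊥ := Submodule.finrank_eq_zero.mp (by omega)
    have hinj : ∀ m : ℕ, ∀ w ∈ W, (A ^ m) w = 0 → w = 0 := by
      intro m
      induction m with
      | zero =>
        intro w _ h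
        simpa using h
      | succ m ihm =>
        intro w hw h
        rw [pow_succ', Module.End.mul_apply] at h
        have h1 : (A ^ m) w ∈ W := pow_stable A W hst m w hw
        have h2 : (A ^ m) w ∈ K := (hKmem _).mpr ⟨h1, h⟩
        rw [hK0, Submodule.mem_bot] at h2
        exact ihm w hw h2
    obtain ⟨N, hN⟩ := hA
    have hWbot : W = ⊥ := by
      rw [Submodule.eq_bot_iff]
      intro w hw
      exact hinj N w hw (by rw [hN]; rfl)
    rw [hWbot] at hd
    simp at hd
    exact hd0 hd.symm
  obtain ⟨ι', _, n', t', hhom', hnil', hsum', hspan'⟩ :=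
    ih (Module.finrank k W') (by omega) W' rfl hW'gr hW'st
  let F' : (Σ i, Fin (n' i + 1)) → V := fun p => (A ^ (p.2 : ℕ)) (t' p.1)
  have hcard' : Fintype.card (Σ i, Fin (n' i + 1)) = Module.finrank k W' := by
    rw [Fintype.card_sigma]
    simpa using hsum'
  have hli' : LinearIndependent k F' := by
    rw [linearIndependent_iff_card_eq_finrank_span, hcard']
    change _ = Module.finrank k (Submodule.span k (Set.range F'))
    rw [hspan']
  have ht'mem : ∀ i, t' i ∈ W' := by
    intro i
    rw [← hspan']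
    apply Submodule.subset_span
    exact ⟨⟨i, 0⟩, by simp⟩
  have hlift : ∀ i, ∃ s, s ∈ W ∧ IsHom 𝒱 s ∧ A s = t' i := by
    intro i
    obtain ⟨μ, hμ⟩ := hhom' i
    obtain ⟨w, hw, hwt⟩ := ht'mem i
    refine ⟨(decompose 𝒱 w (μ - χ) : V), hgr w hw _, ⟨_, (decompose 𝒱 w (μ - χ)).2⟩, ?_⟩
    have := decomp_A 𝒱 A χ hhom w (μ - χ)
    rw [sub_add_cancel, hwt, decompose_of_mem_same 𝒱 hμ] at this
    exact this.symm
  choose s hsW hsHom hAs using hlift
  let β : ι' → V := fun i => (A ^ (n' i)) (t' i)
  have hβli : LinearIndependent k β := by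
    have hβF : β = F' ∘ (fun i => (⟨i, Fin.last _⟩ : Σ i, Fin (n' i + 1))) := by
      funext i
      simp [F', β]
    rw [hβF]
    exact hli'.comp _ (fun i j h => by simpa using congrArg Sigma.fst h)
  have hβK : ∀ i, β i ∈ K := by
    intro i
    rw [hKmem]
    refine ⟨hW'le (pow_stable A W' hW'st _ _ (ht'mem i)), ?_⟩
    rw [← Module.End.mul_apply, ← pow_succ']
    exact hnil' i
  let S : Set V := {v | v ∈ K ∧ IsHom 𝒱 v}
  have hβS : Set.range β ⊆ S := by
    rintro _ ⟨i, rfl⟩
    exact ⟨hβK i, isHom_pow 𝒱 A χ hhom _ _ (hhom' i)⟩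
  have hKS : (K : Set V) ⊆ Submodule.span k S := by
    intro v hv
    rw [← DirectSum.sum_support_decompose 𝒱 v]
    refine Submodule.sum_mem _ fun μ _ =>
      Submodule.subset_span ⟨?_, ⟨μ, (decompose 𝒱 v μ).2⟩⟩
    have hv' := (hKmem v).mp hv
    rw [hKmem]
    refine ⟨hgr v hv'.1 μ, ?_⟩
    rw [← decomp_A 𝒱 A χ hhom v μ, hv'.2, decompose_zero, DirectSum.zero_apply,
      ZeroMemClass.coe_zero]
  obtain ⟨B, hBS, hβB, hSB, hBli⟩ :=
    exists_linearIndepOn_id_extension hβli.linearIndepOn_id hβS
  have hBK : Submodule.span k B = K := by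
    apply le_antisymm
    · rw [Submodule.span_le]
      exact fun b hb => (hBS hb).1
    · intro v hv
      exact Submodule.span_le.mpr hSB (hKS hv)
  have hBfin : Finite B := by
    have : LinearIndependent k (fun x : B => (x : V)) := hBli
    exact this.finite
  have _instB : Fintype B := Fintype.ofFinite B
  have hBcard : Fintype.card B = Module.finrank k K := by
    rw [← hBK, finrank_span_set_eq_card hBli, Set.toFinset_card]
  have _instJ : Fintype ↥(B \ Set.range β) := Fintype.ofFinite _
  have _instR : Fintype ↥(Set.range β) := Fintype.ofFinite _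
  have hJcard : Fintype.card ι' + Fintype.card ↥(B \ Set.range β) = Module.finrank k K := by
    rw [← hBcard]
    have e1 : ι' ≃ Set.range β := Equiv.ofInjective β hβli.injective
    have e2 := Equiv.Set.sumDiffSubset hβB
    rw [← Fintype.card_congr e2, Fintype.card_sum, ← Fintype.card_congr e1]
  refine ⟨ι' ⊕ ↥(B \ Set.range β), inferInstance, Sum.elim (fun i => n' i + 1) (fun _ => 0),
    Sum.elim s (fun j => j.1), ?_, ?_, ?_, ?_⟩
  · rintro (i | j)
    · exact hsHom i
    · exact (hBS j.2.1).2
  · rintro (i | j)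
    · change (A ^ (n' i + 1 + 1)) (s i) = 0
      rw [pow_succ, Module.End.mul_apply, hAs]
      exact hnil' i
    · change (A ^ (0 + 1)) j.1 = 0
      rw [zero_add, pow_one]
      exact ((hKmem _).mp (hBS j.2.1).1).2
  · rw [Fintype.sum_sum_type]
    have hsum'' := hsum'
    simp only [Sum.elim_inl, Sum.elim_inr, Finset.sum_add_distrib, Finset.sum_const,
      Finset.card_univ, smul_eq_mul, mul_one, zero_add] at hsum'' ⊢
    omega
  · apply le_antisymm
    · rw [Submodule.span_le]
      rintro _ ⟨⟨i, l⟩, rfl⟩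
      apply pow_stable A W hst
      rcases i with i | j
      · exact hsW i
      · exact ((hKmem _).mp (hBS j.2.1).1).1
    · intro v hv
      have hAv : A v ∈ Submodule.span k (Set.range F') := by
        rw [hspan']
        exact ⟨v, hv, rfl⟩
      obtain ⟨c, hc⟩ := (Submodule.mem_span_range_iff_exists_fun k).mp hAv
      let u : V := ∑ p : (Σ i, Fin (n' i + 1)), c p • (A ^ (p.2 : ℕ)) (s p.1)
      have hAu : A u = A v := by
        rw [← hc, map_sum]
        refine Finset.sum_congr rfl fun p _ => ?_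
        rw [map_smul, ← Module.End.mul_apply, ← pow_succ', pow_succ, Module.End.mul_apply, hAs]
      have hu : u ∈ Submodule.span k (Set.range fun p : (Σ i : ι' ⊕ ↥(B \ Set.range β),
          Fin (Sum.elim (fun i => n' i + 1) (fun _ => 0) i + 1)) =>
          (A ^ (p.2 : ℕ)) (Sum.elim s (fun j => j.1) p.1)) := by
        refine Submodule.sum_mem _ fun p _ => Submodule.smul_mem _ _ (Submodule.subset_span ?_)
        exact ⟨⟨Sum.inl p.1, ⟨p.2, by
          change (p.2 : ℕ) < n' p.1 + 1 + 1
          have := p.2.2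
          omega⟩⟩, rfl⟩
      have huW : u ∈ W := by
        refine Submodule.sum_mem _ fun p _ => Submodule.smul_mem _ _ ?_
        exact pow_stable A W hst _ _ (hsW p.1)
      have hvu : v - u ∈ K :=
        (hKmem _).mpr ⟨W.sub_mem hv huW, by rw [map_sub, hAu, sub_self]⟩
      have hK_le : K ≤ Submodule.span k (Set.range fun p : (Σ i : ι' ⊕ ↥(B \ Set.range β),
          Fin (Sum.elim (fun i => n' i + 1) (fun _ => 0) i + 1)) =>
          (A ^ (p.2 : ℕ)) (Sum.elim s (fun j => j.1) p.1)) := by
        rw [← hBK, Submodule.span_le]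
        intro b hb
        by_cases hbβ : b ∈ Set.range β
        · obtain ⟨i, rfl⟩ := hbβ
          apply Submodule.subset_span
          refine ⟨⟨Sum.inl i, ⟨n' i + 1, by
            change n' i + 1 < n' i + 1 + 1
            omega⟩⟩, ?_⟩
          change (A ^ (n' i + 1)) (s i) = (A ^ (n' i)) (t' i)
          rw [pow_succ, Module.End.mul_apply, hAs]
        · apply Submodule.subset_span
          refine ⟨⟨Sum.inr ⟨b, hb, hbβ⟩, ⟨0, by
            change 0 < 0 + 1
            omega⟩⟩, ?_⟩
          change (A ^ 0) b = b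
          simp
      have := Submodule.add_mem _ (hK_le hvu) hu
      rwa [sub_add_cancel] at this

end helpers

/-- Let k be a field, Λ an additive commutative group, V a finite-dimensional k-vector space which is
the internal direct sum of subspaces V_μ indexed by Λ (a representation of a torus with character
group Λ), and A a nilpotent endomorphism of V mapping each V_μ into V_{μ+χ} for a fixed χ (the
infinitesimal generator of an action of the additive group on which the torus acts through the
character χ). Then V has a basis consisting of homogeneous vectors e_{i,l}, 0 ≤ l ≤ n_i, with A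
e_{i,0} = 0 and A e_{i,l+1} = e_{i,l}: a weight basis bringing A into Jordan normal form. (The
source states this, over an algebraically closed field of characteristic zero, as a decomposition of
every representation of the semidirect product of the additive group with a torus into twists of
symmetric powers of the standard two-dimensional representation by characters; the first line of its
proof reduces that to the present statement, which is what is proved, and which holds over any
field.) -/
theorem result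
    (k : Type u) [Field k] (Λ : Type v) [AddCommGroup Λ] [DecidableEq Λ]
    (V : Type w) [AddCommGroup V] [Module k V] [FiniteDimensional k V]
    (𝒱 : Λ → Submodule k V) (h𝒱 : DirectSum.IsInternal 𝒱)
    (A : Module.End k V) (hA : IsNilpotent A) (χ : Λ)
    (hhom : ∀ (μ : Λ) (v : V), v ∈ 𝒱 μ → A v ∈ 𝒱 (μ + χ)) :
    ∃ (ι : Type w) (_ : Finite ι) (n : ι → ℕ) (b : Module.Basis (Σ i : ι, Fin (n i + 1)) k V),
      (∀ (i : ι) (l : Fin (n i + 1)), ∃ μ : Λ, b ⟨i, l⟩ ∈ 𝒱 μ) ∧
      (∀ i : ι, A (b ⟨i, 0⟩) = 0) ∧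
      ∀ (i : ι) (l : Fin (n i)), A (b ⟨i, l.succ⟩) = b ⟨i, l.castSucc⟩ := by
  classical
  letI := h𝒱.chooseDecomposition
  obtain ⟨ι, _, n, t, hth, hnil, hsum, hspan⟩ :=
    chains 𝒱 A χ hhom hA (Module.finrank k (⊤ : Submodule k V)) ⊤ rfl
      (fun _ _ _ => Submodule.mem_top) (fun _ _ => Submodule.mem_top)
  let F : (Σ i, Fin (n i + 1)) → V := fun p => (A ^ (p.2 : ℕ)) (t p.1)
  have hcard : Fintype.card (Σ i, Fin (n i + 1)) = Module.finrank k V := by
    rw [Fintype.card_sigma, ← finrank_top k V]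
    simpa using hsum
  let b₀ : Module.Basis (Σ i, Fin (n i + 1)) k V :=
    basisOfTopLeSpanOfCardEqFinrank F (le_of_eq hspan.symm) hcard
  have hb₀ : ∀ p, b₀ p = F p := fun p => by
    rw [coe_basisOfTopLeSpanOfCardEqFinrank]
  let e : (Σ i, Fin (n i + 1)) ≃ (Σ i, Fin (n i + 1)) :=
    Equiv.sigmaCongrRight fun i => Fin.revPerm
  have hb : ∀ (i : ι) (l : Fin (n i + 1)), (b₀.reindex e) ⟨i, l⟩ = (A ^ (n i - (l : ℕ))) (t i) := by
    intro i l
    rw [Module.Basis.reindex_apply, hb₀]
    have : e.symm ⟨i, l⟩ = ⟨i, Fin.rev l⟩ := rfl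
    rw [this]
    change (A ^ ((Fin.rev l : Fin (n i + 1)) : ℕ)) (t i) = _
    rw [Fin.val_rev]
    congr 2
    omega
  refine ⟨ι, inferInstance, n, b₀.reindex e, ?_, ?_, ?_⟩
  · intro i l
    rw [hb]
    exact isHom_pow 𝒱 A χ hhom _ _ (hth i)
  · intro i
    rw [hb, ← Module.End.mul_apply, ← pow_succ']
    simpa using hnil i
  · intro i l
    rw [hb, hb, ← Module.End.mul_apply, ← pow_succ']
    congr 2
    simp only [Fin.val_succ, Fin.val_castSucc]
    have := l.2
    omega

end Groth.Agent.S18983
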