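import Groth.Statements.S18994
import Mathlib
-- import your own Groth.Agent.* helpers here

set_option autoImplicit false
universe u
open TernForm

namespace Groth.Agent.S18994

open MvPolynomial in
theorem deg3 (e : Fin 3 →₀ ℕ) : e.degree = e 0 + e 1 + e 2 := by
  rw [Finsupp.degree_eq_sum, Fin.sum_univ_three]

theorem eq_single_of_deg (j : Fin 3) (e : Fin 3 →₀ ℕ) (hdeg : e.degree = 2) (hj : 2 ≤ e j) :
    e = Finsupp.single j 2 := by
  rw [deg3] at hdeg
  ext i
  fin_cases j <;> fin_cases i <;> simp at hj ⊢ <;> omega

open MvPolynomial in
/-- key lemma: if `q * g` has no monomial with `j`-exponent `≥ 2` then `g = 0`. -/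
theorem key {R : Type u} [CommRing R] (j : Fin 3) (q : MvPolynomial (Fin 3) R)
    (hq : q.IsHomogeneous 2) (hqj : IsUnit (q.coeff (Finsupp.single j 2)))
    (g : MvPolynomial (Fin 3) R) (h : ∀ μ ∈ (q * g).support, μ j < 2) : g = 0 := by
  classical
  by_contra hg
  have hne : g.support.Nonempty := by
    rw [Finset.nonempty_iff_ne_empty, Ne, MvPolynomial.support_eq_empty]; exact hg
  obtain ⟨m₀, hm₀, hmax⟩ := Finset.exists_max_image g.support (fun m => m j) hne
  set μ := Finsupp.single j 2 + m₀ with hμ
  have hcoeff : (q * g).coeff μ = q.coeff (Finsupp.single j 2) * g.coeff m₀ := by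
    rw [coeff_mul]
    apply Finset.sum_eq_single (Finsupp.single j 2, m₀)
    · rintro ⟨e, m'⟩ hx hne'
      rw [Finset.HasAntidiagonal.mem_antidiagonal] at hx
      simp only at hx ⊢
      by_contra hprod
      have he : q.coeff e ≠ 0 := fun h0 => hprod (by rw [h0, zero_mul])
      have hm' : g.coeff m' ≠ 0 := fun h0 => hprod (by rw [h0, mul_zero])
      have hdeg : e.degree = 2 := by
        have := hq he
        rw [Finsupp.degree_eq_weight_one]
        exact this
      have hle : m' j ≤ m₀ j := hmax m' (MvPolynomial.mem_support_iff.mpr hm')
      have hsum : e j + m' j = 2 + m₀ j := by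
        have := congrArg (fun f => f j) hx
        simpa [hμ] using this
      have hej : 2 ≤ e j := by omega
      have hes := eq_single_of_deg j e hdeg hej
      subst hes
      have : m' = m₀ := by
        rw [hμ] at hx
        exact add_left_cancel hx
      subst this
      exact hne' rfl
    · intro hnot
      exfalso
      apply hnot
      rw [Finset.HasAntidiagonal.mem_antidiagonal]
  have hne0 : (q * g).coeff μ ≠ 0 := by
    rw [hcoeff]
    intro h0
    have := hqj.mul_left_cancel (b := g.coeff m₀) (c := 0) (by rw [h0, mul_zero])
    exact (MvPolynomial.mem_support_iff.mp hm₀) this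
  have := h μ (MvPolynomial.mem_support_iff.mpr hne0)
  simp [hμ] at this
  omega

/-- Let R be a commutative ring, j ∈ {0, 1, 2}, q a homogeneous polynomial of degree 2 in R[X_0, X_1,
X_2] whose coefficient of X_j^2 is a unit, and n a natural number. Then the family consisting of the
monomials of degree n not divisible by X_j^2 (exponent of X_j at most 1) together with the products
q · m, m running over the monomials of degree n − 2 (indexed by exponents m with |m| + 2 = n), is
linearly independent over R and spans exactly the homogeneous polynomials of degree n; in particular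
it is a basis of that module and the two parts are disjoint. (The published lemma is stated over a
field with the coefficient nonzero, the special case of a field R here; the version over a ring with
the coefficient invertible is what its change-of-basis argument gives — ordering monomials by
decreasing exponent of X_j makes the matrix triangular with diagonal entries 1 and that coefficient
— and is the form used to trivialise the bundle of degree-n forms modulo multiples of q over the
locus where the coefficient is invertible. The published lemma also allows an arbitrary monomial of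
degree 2 in place of X_j^2; for the mixed monomial X_1X_2, the form q = X_1^2 + X_1X_2 + X_2^2 and n
= 3 give the linear relation q·X_1 − q·X_2 = X_1^3 − X_2^3 among members of the family, so the claim
fails there and is stated here for the square of a variable.) -/
theorem result
    (R : Type u) [CommRing R] (j : Fin 3) (q : MvPolynomial (Fin 3) R)
    (hq : q.IsHomogeneous 2) (hqj : IsUnit (q.coeff (Finsupp.single j 2))) (n : ℕ) :
    LinearIndependent R (Sum.elim (fun m : {m : Fin 3 →₀ ℕ // m.degree = n ∧ m j < 2} => MvPolynomial.monomial m.1 (1 : R)) (fun m : {m : Fin 3 →₀ ℕ // m.degree + 2 = n} => q * MvPolynomial.monomial m.1 (1 : R))) ∧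
      Submodule.span R (Set.range (Sum.elim (fun m : {m : Fin 3 →₀ ℕ // m.degree = n ∧ m j < 2} => MvPolynomial.monomial m.1 (1 : R)) (fun m : {m : Fin 3 →₀ ℕ // m.degree + 2 = n} => q * MvPolynomial.monomial m.1 (1 : R)))) = MvPolynomial.homogeneousSubmodule (Fin 3) R n := by
  classical
  constructor
  · rw [linearIndependent_sum]
    refine ⟨?_, ?_, ?_⟩
    · have := (MvPolynomial.basisMonomials (Fin 3) R).linearIndependent.comp
        (fun m : {m : Fin 3 →₀ ℕ // m.degree = n ∧ m j < 2} => m.1) Subtype.val_injective
      have h : (Sum.elim (fun m : {m : Fin 3 →₀ ℕ // m.degree = n ∧ m j < 2} => MvPolynomial.monomial m.1 (1 : R)) (fun m : {m : Fin 3 →₀ ℕ // m.degree + 2 = n} => q * MvPolynomial.monomial m.1 (1 : R)) ∘ Sum.inl) =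
          ⇑(MvPolynomial.basisMonomials (Fin 3) R) ∘ (fun m : {m : Fin 3 →₀ ℕ // m.degree = n ∧ m j < 2} => m.1) := by
        ext m : 1
        simp [MvPolynomial.coe_basisMonomials]
      rw [h]
      exact this
    · have hli := (MvPolynomial.basisMonomials (Fin 3) R).linearIndependent.comp
        (fun m : {m : Fin 3 →₀ ℕ // m.degree + 2 = n} => m.1) Subtype.val_injective
      have hker : LinearMap.ker (LinearMap.mulLeft R q) = ⊥ := by
        rw [LinearMap.ker_eq_bot']
        intro g hg
        apply key j q hq hqj g
        intro μ hμ
        rw [LinearMap.mulLeft_apply] at hg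
        rw [hg] at hμ
        simp at hμ
      have := hli.map' (LinearMap.mulLeft R q) hker
      have h : (Sum.elim (fun m : {m : Fin 3 →₀ ℕ // m.degree = n ∧ m j < 2} => MvPolynomial.monomial m.1 (1 : R)) (fun m : {m : Fin 3 →₀ ℕ // m.degree + 2 = n} => q * MvPolynomial.monomial m.1 (1 : R)) ∘ Sum.inr) =
          ⇑(LinearMap.mulLeft R q) ∘ ⇑(MvPolynomial.basisMonomials (Fin 3) R) ∘ (fun m : {m : Fin 3 →₀ ℕ // m.degree + 2 = n} => m.1) := by
        ext m : 1
        simp [MvPolynomial.coe_basisMonomials]
      rw [h]
      exact this
    · rw [Submodule.disjoint_def]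
      intro x hx1 hx2
      have h1 : Submodule.span R (Set.range (Sum.elim (fun m : {m : Fin 3 →₀ ℕ // m.degree = n ∧ m j < 2} => MvPolynomial.monomial m.1 (1 : R)) (fun m : {m : Fin 3 →₀ ℕ // m.degree + 2 = n} => q * MvPolynomial.monomial m.1 (1 : R)) ∘ Sum.inl)) ≤
          MvPolynomial.restrictSupport R {μ : Fin 3 →₀ ℕ | μ j < 2} := by
        rw [Submodule.span_le]
        rintro _ ⟨m, rfl⟩
        simp only [Function.comp_apply, Sum.elim_inl, SetLike.mem_coe]
        rw [MvPolynomial.mem_restrictSupport_iff]
        intro μ hμ
        have := MvPolynomial.support_monomial_subset hμ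
        rw [Finset.mem_singleton] at this
        subst this
        exact m.2.2
      have h2 : Submodule.span R (Set.range (Sum.elim (fun m : {m : Fin 3 →₀ ℕ // m.degree = n ∧ m j < 2} => MvPolynomial.monomial m.1 (1 : R)) (fun m : {m : Fin 3 →₀ ℕ // m.degree + 2 = n} => q * MvPolynomial.monomial m.1 (1 : R)) ∘ Sum.inr)) ≤
          LinearMap.range (LinearMap.mulLeft R q) := by
        rw [Submodule.span_le]
        rintro _ ⟨m, rfl⟩
        exact ⟨MvPolynomial.monomial m.1 1, rfl⟩
      obtain ⟨g, rfl⟩ := h2 hx2
      have hg : g = 0 := by
        apply key j q hq hqj g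
        intro μ hμ
        have := ((MvPolynomial.mem_restrictSupport_iff R).mp (h1 hx1)) hμ
        exact this
      rw [hg, map_zero]
  · apply le_antisymm
    · rw [Submodule.span_le]
      rintro _ ⟨(m | ⟨m, hm⟩), rfl⟩
      · exact MvPolynomial.isHomogeneous_monomial _ m.2.1
      · have := hq.mul (MvPolynomial.isHomogeneous_monomial (1 : R) (rfl : m.degree = m.degree))
        simp only [Sum.elim_inr, SetLike.mem_coe, MvPolynomial.mem_homogeneousSubmodule]
        have hn : 2 + m.degree = n := by omega
        subst hn
        exact this
    · set S := Submodule.span R (Set.range (Sum.elim (fun m : {m : Fin 3 →₀ ℕ // m.degree = n ∧ m j < 2} => MvPolynomial.monomial m.1 (1 : R)) (fun m : {m : Fin 3 →₀ ℕ // m.degree + 2 = n} => q * MvPolynomial.monomial m.1 (1 : R)))) with hS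
      have hmono : ∀ (k : ℕ) (m : Fin 3 →₀ ℕ), m j = k → m.degree = n → MvPolynomial.monomial m (1 : R) ∈ S := by
        intro k
        induction k using Nat.strong_induction_on with
        | _ k ih =>
          intro m hmk hdeg
          by_cases hlt : m j < 2
          · exact Submodule.subset_span ⟨Sum.inl ⟨m, hdeg, hlt⟩, rfl⟩
          · have hge : 2 ≤ m j := not_lt.mp hlt
            set m' := m - Finsupp.single j 2 with hm'
            have hm : Finsupp.single j 2 + m' = m := by
              ext i
              by_cases hi : i = j
              · subst hi; simp [hm']; omega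
              · simp [hm', Ne.symm hi]
            have hdeg' : m'.degree + 2 = n := by
              rw [← hdeg, ← hm, map_add, Finsupp.degree_single]; omega
            have hqm : q * MvPolynomial.monomial m' (1 : R) ∈ S :=
              Submodule.subset_span ⟨Sum.inr ⟨m', hdeg'⟩, rfl⟩
            obtain ⟨c, hc⟩ := hqj
            set r := q - MvPolynomial.monomial (Finsupp.single j 2) (c : R) with hr
            have hrS : r * MvPolynomial.monomial m' (1 : R) ∈ S := by
              rw [← MvPolynomial.support_sum_monomial_coeff r, Finset.sum_mul]
              refine Submodule.sum_mem _ fun e he => ?_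
              rw [MvPolynomial.monomial_mul, mul_one]
              have hcoe : MvPolynomial.coeff e r ≠ 0 := MvPolynomial.mem_support_iff.mp he
              have hne : e ≠ Finsupp.single j 2 := by
                rintro rfl
                apply hcoe
                rw [hr, MvPolynomial.coeff_sub, MvPolynomial.coeff_monomial, if_pos rfl, hc, sub_self]
              have hcq : MvPolynomial.coeff e q ≠ 0 := by
                intro h0
                apply hcoe
                rw [hr, MvPolynomial.coeff_sub, MvPolynomial.coeff_monomial, if_neg (Ne.symm hne), h0, sub_zero]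
              have hedeg : e.degree = 2 := by
                rw [Finsupp.degree_eq_weight_one]; exact hq hcq
              have hej : e j < 2 := by
                by_contra hcon
                exact hne (eq_single_of_deg j e hedeg (not_lt.mp hcon))
              have hlt' : (e + m') j < k := by
                rw [← hmk, ← hm]
                simp only [Finsupp.coe_add, Pi.add_apply, Finsupp.single_eq_same]
                omega
              have hdeg'' : (e + m').degree = n := by
                rw [map_add, hedeg]; omega
              have := ih _ hlt' (e + m') rfl hdeg''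
              have h2 : MvPolynomial.monomial (e + m') (MvPolynomial.coeff e r) =
                  (MvPolynomial.coeff e r) • MvPolynomial.monomial (e + m') (1 : R) := by
                rw [MvPolynomial.smul_monomial, smul_eq_mul, mul_one]
              rw [h2]
              exact Submodule.smul_mem _ _ this
            have hsplit : (c : R) • MvPolynomial.monomial m (1 : R) =
                q * MvPolynomial.monomial m' (1 : R) - r * MvPolynomial.monomial m' (1 : R) := by
              rw [← sub_mul, hr, sub_sub_cancel, MvPolynomial.monomial_mul, mul_one, hm,
                MvPolynomial.smul_monomial, smul_eq_mul, mul_one]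
            have hcm : (c : R) • MvPolynomial.monomial m (1 : R) ∈ S := by
              rw [hsplit]; exact Submodule.sub_mem _ hqm hrS
            have := Submodule.smul_mem S ((c⁻¹ : Rˣ) : R) hcm
            rwa [smul_smul, Units.inv_mul, one_smul] at this
      intro p hp
      rw [MvPolynomial.mem_homogeneousSubmodule] at hp
      rw [← MvPolynomial.support_sum_monomial_coeff p]
      refine Submodule.sum_mem _ fun m hm => ?_
      have hdeg : m.degree = n := by
        rw [Finsupp.degree_eq_weight_one]; exact hp (MvPolynomial.mem_support_iff.mp hm)
      have h2 : MvPolynomial.monomial m (MvPolynomial.coeff m p) =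
          (MvPolynomial.coeff m p) • MvPolynomial.monomial m (1 : R) := by
        rw [MvPolynomial.smul_monomial, smul_eq_mul, mul_one]
      rw [h2]
      exact Submodule.smul_mem _ _ (hmono _ m rfl hdeg)

end Groth.Agent.S18994
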