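import Groth.Statements.S19004
import Mathlib
-- import your own Groth.Agent.* helpers here

set_option autoImplicit false
open GIT

namespace Groth.Agent.S19004

open MvPolynomial Matrix Finset in
theorem prod_X_pow (n : ℕ) (a : Fin n → ℕ) :
    (∏ i, (X i : MvPolynomial (Fin n) ℤ) ^ a i) = monomial (Finsupp.equivFunOnFinite.symm a) 1 := by
  rw [MvPolynomial.monomial_eq, C_1, one_mul, Finsupp.prod_pow]
  rfl

open MvPolynomial Matrix Finset in
theorem prod_split (n : ℕ) :
    (∏ i : Fin n, ∏ j ∈ Finset.univ.erase i, (X i - X j : MvPolynomial (Fin n) ℤ)) =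
      (projVandermonde 1 (X : Fin n → MvPolynomial (Fin n) ℤ)).det *
        (vandermonde (X : Fin n → MvPolynomial (Fin n) ℤ)).det := by
  rw [det_projVandermonde, det_vandermonde]
  simp only [Pi.one_apply, one_mul]
  have hsplit : ∀ i : Fin n, Finset.univ.erase i = Finset.Ioi i ∪ Finset.Iio i := by
    intro i
    ext j
    simp only [mem_erase, mem_univ, and_true, mem_union, mem_Ioi, mem_Iio]
    constructor
    · intro h; rcases lt_or_gt_of_ne h with h | h
      · right; exact h
      · left; exact h
    · rintro (h | h)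
      · exact ne_of_gt h
      · exact ne_of_lt h
  have hdisj : ∀ i : Fin n, Disjoint (Finset.Ioi i) (Finset.Iio i) := by
    intro i
    rw [Finset.disjoint_left]
    intro j h1 h2
    simp only [mem_Ioi, mem_Iio] at h1 h2
    exact absurd h1 (not_lt.mpr h2.le)
  simp_rw [hsplit, Finset.prod_union (hdisj _)]
  rw [Finset.prod_mul_distrib]
  congr 1
  rw [Finset.prod_comm' (s := Finset.univ) (t := fun i => Finset.Iio i) (t' := Finset.univ)
    (s' := fun j => Finset.Ioi j)]
  intro i j
  simp

/-- For the group PGL(n) acting on the space of n × n matrices the T-quotient is (P^{n−1})^n with Chow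
ring ℚ[t_1,…,t_n]/(t_1^n,…,t_n^n), the class c_top(g/t) is the product of all roots t_i − t_j (i ≠
j), and the computation in the proof shows that this product equals n!·t_1^{n−1}⋯t_n^{n−1} in that
ring. Stated here as the equivalent coefficient identity in ℤ[t_1,…,t_n]: the coefficient of
t_1^{n−1}⋯t_n^{n−1} in the product over ordered pairs i ≠ j of (t_i − t_j) is n!. -/
theorem result (n : ℕ) :
    MvPolynomial.coeff (Finsupp.equivFunOnFinite.symm (fun _ : Fin n => n - 1))
      (∏ i : Fin n, ∏ j ∈ Finset.univ.erase i, (MvPolynomial.X i - MvPolynomial.X j : MvPolynomial (Fin n) ℤ)) = (n.factorial : ℤ) := by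
  classical
  rw [prod_split]
  have hV : (Matrix.vandermonde (MvPolynomial.X : Fin n → MvPolynomial (Fin n) ℤ)).det =
      ∑ τ : Equiv.Perm (Fin n), MvPolynomial.C ((Equiv.Perm.sign τ : ℤˣ) : ℤ) *
        MvPolynomial.monomial (Finsupp.equivFunOnFinite.symm fun i => ((τ i : Fin n) : ℕ)) 1 := by
    rw [← Matrix.det_transpose, Matrix.det_apply']
    refine Finset.sum_congr rfl fun τ _ => ?_
    simp only [Matrix.transpose_apply, Matrix.vandermonde_apply]
    rw [prod_X_pow]
    congr 1
  have hV' : (Matrix.projVandermonde 1 (MvPolynomial.X : Fin n → MvPolynomial (Fin n) ℤ)).det =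
      ∑ σ : Equiv.Perm (Fin n), MvPolynomial.C ((Equiv.Perm.sign σ : ℤˣ) : ℤ) *
        MvPolynomial.monomial (Finsupp.equivFunOnFinite.symm fun i => (((σ i : Fin n).rev : Fin n) : ℕ)) 1 := by
    rw [← Matrix.det_transpose, Matrix.det_apply']
    refine Finset.sum_congr rfl fun σ _ => ?_
    simp only [Matrix.transpose_apply, Matrix.projVandermonde_apply, Pi.one_apply, one_pow, one_mul]
    rw [prod_X_pow]
    congr 1
  rw [hV, hV', Finset.sum_mul_sum, MvPolynomial.coeff_sum]
  have hinner : ∀ σ : Equiv.Perm (Fin n),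
      MvPolynomial.coeff (Finsupp.equivFunOnFinite.symm (fun _ : Fin n => n - 1))
        (∑ τ : Equiv.Perm (Fin n),
          (MvPolynomial.C ((Equiv.Perm.sign σ : ℤˣ) : ℤ) *
            MvPolynomial.monomial (Finsupp.equivFunOnFinite.symm fun i => (((σ i : Fin n).rev : Fin n) : ℕ)) 1) *
          (MvPolynomial.C ((Equiv.Perm.sign τ : ℤˣ) : ℤ) *
            MvPolynomial.monomial (Finsupp.equivFunOnFinite.symm fun i => ((τ i : Fin n) : ℕ)) 1)) = 1 := by
    intro σ
    rw [MvPolynomial.coeff_sum]
    rw [Finset.sum_eq_single σ]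
    · have : (MvPolynomial.C ((Equiv.Perm.sign σ : ℤˣ) : ℤ) *
            MvPolynomial.monomial (Finsupp.equivFunOnFinite.symm fun i => (((σ i : Fin n).rev : Fin n) : ℕ)) (1 : ℤ)) *
          (MvPolynomial.C ((Equiv.Perm.sign σ : ℤˣ) : ℤ) *
            MvPolynomial.monomial (Finsupp.equivFunOnFinite.symm fun i => ((σ i : Fin n) : ℕ)) 1) =
          MvPolynomial.monomial (Finsupp.equivFunOnFinite.symm (fun _ : Fin n => n - 1)) (1 : ℤ) := by
        rw [MvPolynomial.C_mul_monomial, MvPolynomial.C_mul_monomial, MvPolynomial.monomial_mul]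
        have hexp : (Finsupp.equivFunOnFinite.symm fun i => (((σ i : Fin n).rev : Fin n) : ℕ)) +
            (Finsupp.equivFunOnFinite.symm fun i => ((σ i : Fin n) : ℕ)) =
            Finsupp.equivFunOnFinite.symm (fun _ : Fin n => n - 1) := by
          ext i
          simp only [Finsupp.coe_add, Pi.add_apply, Finsupp.equivFunOnFinite_symm_apply_apply, Fin.val_rev]
          have := (σ i).isLt
          omega
        have hcoef : ((Equiv.Perm.sign σ : ℤˣ) : ℤ) * 1 * (((Equiv.Perm.sign σ : ℤˣ) : ℤ) * 1) = 1 := by
          simp only [mul_one]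
          rw [← Units.val_mul, ← sq, Int.units_sq]
          rfl
        rw [hexp, hcoef]
      rw [this, MvPolynomial.coeff_monomial, if_pos rfl]
    · intro τ _ hne
      rw [MvPolynomial.C_mul_monomial, MvPolynomial.C_mul_monomial, MvPolynomial.monomial_mul,
        MvPolynomial.coeff_monomial, if_neg]
      intro heq
      apply hne
      ext i
      have := congrArg (fun f => f i) heq
      simp only [Finsupp.coe_add, Pi.add_apply, Finsupp.equivFunOnFinite_symm_apply_apply, Fin.val_rev] at this
      have h1 := (σ i).isLt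
      have h2 := (τ i).isLt
      omega
    · intro h; exact absurd (Finset.mem_univ σ) h
  rw [Finset.sum_congr rfl (fun σ _ => hinner σ)]
  simp [Fintype.card_perm]

end Groth.Agent.S19004
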