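import Groth.Statements.S19005
-- import your own Groth.Agent.* helpers here

set_option autoImplicit false
open scoped TensorProduct
open K2Cent

namespace Groth.Agent.S19005

/-- For abelian groups X and M and ε in M with 2ε = 0 (in the source X is the character group of a split
torus and ε is the class of −1 among the units), the map x ↦ (x ⊗ x, −(x ⊗ ε)) into (X ⊗ X) × (X ⊗
M) is quadratic over ℤ, i.e. it underlies an integer quadratic map with exactly these values. -/
theorem result (X M : Type*) [AddCommGroup X]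
    [AddCommGroup M] (ε : M) (hε : 2 • ε = 0) :
    ∃ R : QuadraticMap ℤ X (TensorProduct ℤ X X × TensorProduct ℤ X M),
      ∀ x : X, R x = (x ⊗ₜ[ℤ] x, -(x ⊗ₜ[ℤ] ε)) := by
  have key : ∀ a : ℤ, (a * a) • ε = a • ε := by
    intro a
    obtain ⟨k, hk⟩ := Int.even_mul_pred_self a
    have h1 : a * a = a + (k + k) := by rw [← hk]; ring
    have h2 : (k + k) • ε = 0 := by
      have : (k + k) • ε = k • ((2 : ℕ) • ε) := by
        rw [two_nsmul, smul_add, add_smul]
      rw [this, hε, smul_zero]
    rw [h1, add_smul, h2, add_zero]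
  refine ⟨{ toFun := fun x => (x ⊗ₜ[ℤ] x, -(x ⊗ₜ[ℤ] ε))
            toFun_smul := ?_
            exists_companion' := ?_ }, fun x => rfl⟩
  · intro a x
    ext
    · simp only [Prod.smul_fst]
      rw [TensorProduct.smul_tmul_smul]
    · simp only [Prod.smul_snd, smul_neg, neg_inj]
      rw [TensorProduct.smul_tmul, ← key a, TensorProduct.tmul_smul]
  · let B : X →ₗ[ℤ] X →ₗ[ℤ] (TensorProduct ℤ X X × TensorProduct ℤ X M) :=
      ((TensorProduct.mk ℤ X X) + (TensorProduct.mk ℤ X X).flip).compr₂
        (LinearMap.inl ℤ (TensorProduct ℤ X X) (TensorProduct ℤ X M))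
    have hB : ∀ x y, B x y = (x ⊗ₜ[ℤ] y + y ⊗ₜ[ℤ] x, 0) := fun x y => rfl
    refine ⟨B, ?_⟩
    intro x y
    rw [hB]
    ext
    · simp only [Prod.fst_add, TensorProduct.add_tmul, TensorProduct.tmul_add]
      abel
    · simp only [Prod.snd_add, TensorProduct.add_tmul, neg_add_rev, add_zero]
      abel

end Groth.Agent.S19005
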