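import Groth.Statements.S19007
import Groth.Agent.Lib.Helper95.RootQuad
import Mathlib.LinearAlgebra.RootSystem.Base

set_option autoImplicit false
universe u v w x
open RootD

namespace Groth.Agent.S19007

/-- Let P be a finite reduced crystallographic root pairing over an integral domain of characteristic
zero, b a base of P (a system of simple roots) and Q a quadratic form on the coweight module with
polar form B. Then Q is invariant under all root reflections (equivalently under the Weyl group) on
the span of the coroots if and only if for all pairs of distinct simple roots α_i ≠ α_j one has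
B(α_i^∨, α_j^∨) = ⟨α_j, α_i^∨⟩ Q(α_j^∨). (In the source the form is integer-valued on the lattice
spanned by the coroots and the condition says that the bilinear form lies in the kernel of the last
map of a three-term complex built from the Bruhat cells of codimension at most two; here the form
takes values in the base ring.) -/
theorem result {ι : Type u} {R : Type v} {M : Type w} {N : Type x} [CommRing R] [IsDomain R] [CharZero R]
    [AddCommGroup M] [Module R M] [AddCommGroup N] [Module R N] (P : RootPairing ι R M N)
    [Finite ι] [P.IsCrystallographic] [P.IsReduced] (b : P.Base) (Q : QuadraticMap R N R) :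
    (∀ i : ι, ∀ y ∈ Submodule.span R (Set.range P.coroot), Q (P.coreflection i y) = Q y) ↔
      ∀ i ∈ b.support, ∀ j ∈ b.support, i ≠ j →
        QuadraticMap.polar Q (P.coroot i) (P.coroot j) = P.pairing j i * Q (P.coroot j) := by
  have hcoro : ∀ i : ι, P.coroot i ∈ Submodule.span R (Set.range P.coroot) :=
    fun i => Submodule.subset_span ⟨i, rfl⟩
  have hstab : ∀ (i : ι) (y : N), y ∈ Submodule.span R (Set.range P.coroot) →
      P.coreflection i y ∈ Submodule.span R (Set.range P.coroot) := by
    intro i y hy
    exact P.corootSpan_mem_invtSubmodule_coreflection i hy
  constructor
  · intro hinv i _ j _ _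
    have h := Groth.Agent.Lib.Helper95.polar_coroot_of_invariant P Q j (P.coroot i)
      (hinv j _ (hcoro i)) (hinv j _ (Submodule.add_mem _ (hcoro i) (hcoro j)))
    rw [h, P.root'_coroot_eq_pairing]
  · intro hpol
    -- Step 1: polar identity on the span for simple j
    have step1' : ∀ j ∈ b.support, ∀ y ∈ Submodule.span R (P.coroot '' b.support),
        QuadraticMap.polar Q y (P.coroot j) = P.root' j y * Q (P.coroot j) := by
      intro j hj y hy'
      induction hy' using Submodule.span_induction with
      | mem x hx =>
        obtain ⟨i, hi, rfl⟩ := hx
        by_cases hij : i = j
        · subst hij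
          rw [QuadraticMap.polar_self, P.root'_coroot_eq_pairing, P.pairing_same]
          simp
        · rw [hpol i hi j hj hij, P.root'_coroot_eq_pairing]
      | zero => simp
      | add x y _ _ hx hy =>
        rw [QuadraticMap.polar_add_left, map_add, add_mul, hx, hy]
      | smul a x _ hx =>
        rw [QuadraticMap.polar_smul_left, map_smul, smul_eq_mul, smul_eq_mul, mul_assoc, hx]
    have step1 : ∀ j ∈ b.support, ∀ y ∈ Submodule.span R (Set.range P.coroot),
        QuadraticMap.polar Q y (P.coroot j) = P.root' j y * Q (P.coroot j) := by
      intro j hj y hy
      apply step1' j hj y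
      rw [b.span_coroot_support]; exact hy
    intro i
    refine b.induction_reflect i (p := fun i => ∀ y ∈ Submodule.span R (Set.range P.coroot),
      Q (P.coreflection i y) = Q y) ?_ ?_ ?_
    · intro i hi y hy
      have : P.coreflection (P.reflectionPerm i i) = P.coreflection i := by
        have h := P.flip.reflection_reflectionPerm (i := i) (j := i)
        have h2 : P.flip.reflection i * P.flip.reflection i = 1 := by
          ext y; simp
        rw [h2, one_mul] at h
        exact h
      rw [this]; exact hi y hy
    · intro j hj y hy
      exact Groth.Agent.Lib.Helper95.invariant_of_polar_coroot P Q j y (step1 j hj y hy)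
    · intro i j hi hj y hy
      have hj' : ∀ y ∈ Submodule.span R (Set.range P.coroot), Q (P.coreflection j y) = Q y :=
        fun y hy => Groth.Agent.Lib.Helper95.invariant_of_polar_coroot P Q j y (step1 j hj y hy)
      have : P.coreflection (P.reflectionPerm j i) y
          = P.coreflection j (P.coreflection i (P.coreflection j y)) := by
        have h := P.flip.reflection_reflectionPerm (i := i) (j := j)
        exact LinearEquiv.congr_fun h y
      rw [this, hj' _ (hstab i _ (hstab j _ hy)), hi _ (hstab j _ hy), hj' _ hy]

end Groth.Agent.S19007
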