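import Groth.Statements.S19009
import Groth.Agent.Lib.Helper95.RootQuad
import Mathlib.LinearAlgebra.Projection

set_option autoImplicit false
universe u v w x
open RootD

namespace Groth.Agent.S19009

/-- Let P be a root pairing over an integral domain R of characteristic zero (roots α acting on the
coweight module N through reflections y ↦ y − ⟨α, y⟩ α^∨), D ⊆ N a submodule containing every coroot
and such that every element of D has a positive integer multiple in the span of the coroots (the
derived part), and Y₀ a complement of D in N. Let Q_d be a quadratic form on N whose restriction to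
D is invariant under all root reflections. Then there is a quadratic form on N, invariant under all
root reflections and agreeing with Q_d on D, if and only if there is an R-bilinear form Φ on N with
Φ(y₀, α^∨) = ⟨α, y₀⟩ Q_d(α^∨) for all y₀ in Y₀ and all roots α. (In the source R = ℤ, N = Y₀ ⊕ Y_der
is the cocharacter lattice of a split reductive group, and the condition is phrased as integrality
on Y₀ × Y_der of the pairing y₀, y ↦ B(q(y₀), y) deduced from the polar form B of Q_d; that pairing
is characterised by the displayed values on coroots, only the values of Φ on Y₀ × D matter, and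
forms take values in R here.) -/
theorem result {ι : Type u} {R : Type v} {M : Type w} {N : Type x} [CommRing R] [IsDomain R] [CharZero R]
    [AddCommGroup M] [Module R M] [AddCommGroup N] [Module R N] (P : RootPairing ι R M N)
    (D Y₀ : Submodule R N) (hD : ∀ i : ι, P.coroot i ∈ D)
    (hDsat : ∀ y ∈ D, ∃ n : ℕ, 0 < n ∧ n • y ∈ Submodule.span R (Set.range P.coroot))
    (hc : IsCompl Y₀ D)
    (Qd : QuadraticMap R N R) (hQd : ∀ i : ι, ∀ y ∈ D, Qd (P.coreflection i y) = Qd y) :
    (∃ Q : QuadraticMap R N R, (∀ (i : ι) (y : N), Q (P.coreflection i y) = Q y) ∧ ∀ y ∈ D, Q y = Qd y) ↔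
      ∃ Φ : N →ₗ[R] N →ₗ[R] R, ∀ y₀ ∈ Y₀, ∀ i : ι,
        Φ y₀ (P.coroot i) = P.root' i y₀ * Qd (P.coroot i) := by
  constructor
  · rintro ⟨Q, hQinv, hQD⟩
    refine ⟨Q.polarBilin, ?_⟩
    intro y₀ _ i
    change QuadraticMap.polar Q y₀ (P.coroot i) = _
    rw [Groth.Agent.Lib.Helper95.polar_coroot_of_invariant P Q i y₀ (hQinv i y₀) (hQinv i _),
      hQD _ (hD i)]
  · rintro ⟨Φ, hΦ⟩
    let p0 : N →ₗ[R] N := Y₀.subtype ∘ₗ Y₀.projectionOnto D hc
    let pD : N →ₗ[R] N := D.subtype ∘ₗ D.projectionOnto Y₀ hc.symm
    have hp0Y : ∀ y, p0 y ∈ Y₀ := fun y => (Y₀.projectionOnto D hc y).2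
    have hpDD : ∀ y, pD y ∈ D := fun y => (D.projectionOnto Y₀ hc.symm y).2
    have hp0D : ∀ d ∈ D, p0 d = 0 := by
      intro d hd
      have : Y₀.projectionOnto D hc d = 0 := (Submodule.projectionOnto_apply_eq_zero_iff hc).mpr hd
      simp [p0, this]
    have hpDd : ∀ d ∈ D, pD d = d := by
      intro d hd
      have : D.projectionOnto Y₀ hc.symm d = ⟨d, hd⟩ :=
        Submodule.projectionOnto_apply_of_mem_left hc.symm hd
      simp [pD, this]
    let B : LinearMap.BilinMap R N R := Φ.compl₁₂ p0 pD
    have hB : ∀ x y, B x y = Φ (p0 x) (pD y) := fun x y => rfl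
    refine ⟨Qd.comp pD + B.toQuadraticMap, ?_, ?_⟩
    · intro i y
      have hs0 : p0 (P.coreflection i y) = p0 y := by
        rw [P.coreflection_apply, map_sub, map_smul, hp0D _ (hD i), smul_zero, sub_zero]
      have hsD : pD (P.coreflection i y) = pD y - P.root' i y • P.coroot i := by
        rw [P.coreflection_apply, map_sub, map_smul, hpDd _ (hD i)]
      have hdec : p0 y + pD y = y := by
        have h1 := Submodule.projection_add_projection_eq_self hc y
        exact h1
      set y₀ := p0 y with hy₀
      set d := pD y with hd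
      have hdD : d ∈ D := hpDD y
      have hy₀Y : y₀ ∈ Y₀ := hp0Y y
      have hc' : P.root' i y = P.root' i y₀ + P.root' i d := by
        rw [← map_add, hdec]
      have hpol : QuadraticMap.polar Qd d (P.coroot i) = P.root' i d * Qd (P.coroot i) :=
        Groth.Agent.Lib.Helper95.polar_coroot_of_invariant P Qd i d (hQd i d hdD)
          (hQd i _ (D.add_mem hdD (hD i)))
      have hexp : Qd (d - P.root' i y • P.coroot i) =
          Qd d + P.root' i y * P.root' i y * Qd (P.coroot i)
            - P.root' i y * QuadraticMap.polar Qd d (P.coroot i) := by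
        rw [sub_eq_add_neg, ← neg_smul, QuadraticMap.map_add (⇑Qd), QuadraticMap.map_smul,
          QuadraticMap.polar_smul_right]
        simp only [smul_eq_mul]
        ring
      simp only [QuadraticMap.add_apply, QuadraticMap.comp_apply,
        LinearMap.BilinMap.toQuadraticMap_apply, hB, hs0, hsD]
      rw [hexp, hpol, map_sub, map_smul, hΦ y₀ hy₀Y i, hc']
      simp only [smul_eq_mul]
      ring
    · intro d hd
      simp only [QuadraticMap.add_apply, QuadraticMap.comp_apply,
        LinearMap.BilinMap.toQuadraticMap_apply, hB, hp0D d hd, hpDd d hd, map_zero,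
        LinearMap.zero_apply, add_zero]

end Groth.Agent.S19009
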