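import Groth.Statements.S19010
import Groth.Agent.Lib.Helper95.RootQuad
import Mathlib.LinearAlgebra.Projection

set_option autoImplicit false
universe u v w x
open RootD

namespace Groth.Agent.S19010

/-- Let P be a root pairing over an integral domain R of characteristic zero (roots α acting on the
coweight module N through reflections y ↦ y − ⟨α, y⟩ α^∨), D ⊆ N a submodule containing every coroot
and such that every element of D has a positive integer multiple in the span of the coroots (the
derived part), and Y₀ a complement of D in N. Let Q' be a quadratic form on N invariant under all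
root reflections. Then restriction to Y₀ is a bijection from the set of quadratic forms on N that
are invariant under all root reflections and agree with Q' on D onto the set of all quadratic forms
on Y₀. (In the source R = ℤ and N = Y₀ ⊕ Y_der is the cocharacter lattice of a split reductive
group; forms take values in R here.) -/
theorem result {ι : Type u} {R : Type v} {M : Type w} {N : Type x} [CommRing R] [IsDomain R] [CharZero R]
    [AddCommGroup M] [Module R M] [AddCommGroup N] [Module R N] (P : RootPairing ι R M N)
    (D Y₀ : Submodule R N) (hD : ∀ i : ι, P.coroot i ∈ D)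
    (hDsat : ∀ y ∈ D, ∃ n : ℕ, 0 < n ∧ n • y ∈ Submodule.span R (Set.range P.coroot))
    (hc : IsCompl Y₀ D)
    (Q' : QuadraticMap R N R) (hQ' : ∀ (i : ι) (y : N), Q' (P.coreflection i y) = Q' y) :
    Set.BijOn (fun Q : QuadraticMap R N R => Q.comp Y₀.subtype)
      {Q | (∀ (i : ι) (y : N), Q (P.coreflection i y) = Q y) ∧ ∀ y ∈ D, Q y = Q' y} Set.univ := by
  refine ⟨fun _ _ => Set.mem_univ _, ?_, ?_⟩
  · -- injectivity
    rintro Q₁ ⟨h₁inv, h₁D⟩ Q₂ ⟨h₂inv, h₂D⟩ h12
    have hY : ∀ y ∈ Y₀, Q₁ y = Q₂ y := by
      intro y hy
      have := congrArg (fun Q : QuadraticMap R Y₀ R => Q ⟨y, hy⟩) h12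
      simpa using this
    set E : QuadraticMap R N R := Q₁ - Q₂ with hE
    have hEinv : ∀ (i : ι) (y : N), E (P.coreflection i y) = E y := by
      intro i y
      simp only [hE, QuadraticMap.sub_apply, h₁inv, h₂inv]
    have hED : ∀ y ∈ D, E y = 0 := by
      intro y hy
      simp only [hE, QuadraticMap.sub_apply, h₁D y hy, h₂D y hy, sub_self]
    have hEY : ∀ y ∈ Y₀, E y = 0 := by
      intro y hy
      simp only [hE, QuadraticMap.sub_apply, hY y hy, sub_self]
    have hpol : ∀ (y₀ : N) (d : N), d ∈ D → QuadraticMap.polar E y₀ d = 0 := by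
      intro y₀ d hd
      have hspan : ∀ z ∈ Submodule.span R (Set.range P.coroot), E.polarBilin y₀ z = 0 := by
        intro z hz
        induction hz using Submodule.span_induction with
        | mem z hz =>
          obtain ⟨i, rfl⟩ := hz
          have := Groth.Agent.Lib.Helper95.polar_coroot_of_invariant P E i y₀ (hEinv i y₀) (hEinv i _)
          change QuadraticMap.polar E y₀ (P.coroot i) = 0
          rw [this, hED _ (hD i), mul_zero]
        | zero => simp
        | add a b _ _ ha hb => rw [map_add, ha, hb, add_zero]
        | smul r a _ ha => rw [map_smul, ha, smul_zero]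
      obtain ⟨n, hn, hnd⟩ := hDsat d hd
      have h1 := hspan _ hnd
      rw [map_nsmul] at h1
      change n • QuadraticMap.polar E y₀ d = 0 at h1
      rw [nsmul_eq_mul] at h1
      rcases mul_eq_zero.mp h1 with h | h
      · exact absurd (Nat.cast_eq_zero.mp h) hn.ne'
      · exact h
    have hE0 : E = 0 := by
      ext y
      have hy : y ∈ Y₀ ⊔ D := by rw [hc.sup_eq_top]; trivial
      obtain ⟨y₀, hy₀, d, hd, rfl⟩ := Submodule.mem_sup.mp hy
      rw [QuadraticMap.map_add (⇑E), hEY y₀ hy₀, hED d hd, hpol y₀ d hd]
      simp
    have : Q₁ - Q₂ = 0 := hE0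
    exact sub_eq_zero.mp this
  · -- surjectivity
    intro q₀ _
    let π₀ : N →ₗ[R] Y₀ := Y₀.projectionOnto D hc
    have hπD : ∀ d ∈ D, π₀ d = 0 := fun d hd =>
      (Submodule.projectionOnto_apply_eq_zero_iff hc).mpr hd
    have hπY : ∀ y : Y₀, π₀ (y : N) = y := fun y => Submodule.projectionOnto_apply_left hc y
    have hπs : ∀ (i : ι) (y : N), π₀ (P.coreflection i y) = π₀ y := by
      intro i y
      rw [P.coreflection_apply, map_sub, map_smul, hπD _ (hD i), smul_zero, sub_zero]
    refine ⟨Q' - Q'.comp (Y₀.subtype ∘ₗ π₀) + q₀.comp π₀, ⟨?_, ?_⟩, ?_⟩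
    · intro i y
      simp only [QuadraticMap.add_apply, QuadraticMap.sub_apply, QuadraticMap.comp_apply,
        LinearMap.comp_apply, hπs, hQ']
    · intro d hd
      simp only [QuadraticMap.add_apply, QuadraticMap.sub_apply, QuadraticMap.comp_apply,
        LinearMap.comp_apply, hπD d hd, map_zero, QuadraticMap.map_zero, sub_zero, add_zero]
    · ext y
      simp only [QuadraticMap.add_apply, QuadraticMap.sub_apply, QuadraticMap.comp_apply,
        LinearMap.comp_apply, Submodule.subtype_apply, hπY, sub_self, zero_add]

end Groth.Agent.S19010
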