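import Groth.Statements.S19011
import Groth.Agent.Lib.Helper27.IntForm

set_option autoImplicit false
universe u v w x
open RootD

namespace Groth.Agent.S19011

/-- For a finite reduced crystallographic root pairing over an integral domain of characteristic zero,
the additive group generated by the coroots admits the presentation with one generator [β] for each
root β and the relations [s_α(β)] = [β] − ⟨α, β^∨⟩ [α] for all roots α, β, where ⟨α, β^∨⟩ is the
Cartan integer. Concretely: the kernel of the ℤ-linear map from the free abelian group on the index
type of the roots to the coweight module sending the generator of index β to the coroot β^∨ is the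
subgroup generated by the elements [s_α(β)] − [β] + ⟨α, β^∨⟩ [α]. (The source states this for the
cocharacter lattice of a split semi-simple simply connected group, which is the group generated by
the coroots.) -/
theorem result {ι : Type u} {R : Type v} {M : Type w} {N : Type x} [CommRing R] [IsDomain R] [CharZero R]
    [AddCommGroup M] [Module R M] [AddCommGroup N] [Module R N] (P : RootPairing ι R M N)
    [Finite ι] [P.IsCrystallographic] [P.IsReduced] :
    LinearMap.ker (Finsupp.linearCombination ℤ (fun i : ι => (P.coroot i : N))) =
      Submodule.span ℤ (Set.range fun p : ι × ι =>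
        Finsupp.single (P.reflectionPerm p.1 p.2) (1 : ℤ) - Finsupp.single p.2 1 +
          P.pairingIn ℤ p.1 p.2 • Finsupp.single p.1 1) := by
  classical
  obtain ⟨Δ, hli, hind⟩ := Groth.Agent.Lib.Helper27.IntForm.exists_simple_coroots P
  set rel : ι × ι → (ι →₀ ℤ) := fun p : ι × ι =>
    Finsupp.single (P.reflectionPerm p.1 p.2) (1 : ℤ) - Finsupp.single p.2 1 +
      P.pairingIn ℤ p.1 p.2 • Finsupp.single p.1 1 with hrel
  set K : Submodule ℤ (ι →₀ ℤ) := Submodule.span ℤ (Set.range rel) with hK
  set φ := Finsupp.linearCombination ℤ (fun i : ι => (P.coroot i : N)) with hφ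
  have hrelmem : ∀ p, rel p ∈ K := fun p => Submodule.subset_span ⟨p, rfl⟩
  -- relations lie in the kernel
  have hKle : K ≤ LinearMap.ker φ := by
    rw [hK, Submodule.span_le]
    rintro _ ⟨⟨i, j⟩, rfl⟩
    rw [SetLike.mem_coe, LinearMap.mem_ker]
    simp only [hrel, hφ, map_add, map_sub, map_smul, Finsupp.linearCombination_single, one_smul]
    rw [P.coroot_reflectionPerm, RootPairing.coreflection_apply]
    have : (P.pairingIn ℤ i j : ℤ) • P.coroot i = (P.root' i) (P.coroot j) • P.coroot i := by
      rw [← Int.cast_smul_eq_zsmul R]
      have h2 := P.algebraMap_pairingIn ℤ i j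
      rw [eq_intCast] at h2
      rw [h2]
      rfl
    rw [this]; abel
  set T : Submodule ℤ (ι →₀ ℤ) := Finsupp.supported ℤ ℤ Δ ⊔ K with hT
  have hsingle : ∀ i : ι, Finsupp.single i (1 : ℤ) ∈ T := by
    intro i
    refine hind (fun i => Finsupp.single i (1 : ℤ) ∈ T) ?_ ?_ i
    · intro i hi
      apply Submodule.mem_sup_left
      rw [Finsupp.mem_supported]
      intro x hx
      have := Finsupp.support_single_subset hx
      rw [Finset.mem_singleton] at this
      rw [this]; exact hi
    · intro j i hj hi
      have h1 : Finsupp.single (P.reflectionPerm j i) (1 : ℤ) =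
          rel (j, i) + Finsupp.single i 1 - P.pairingIn ℤ j i • Finsupp.single j 1 := by
        simp only [hrel]; abel
      rw [h1]
      refine T.sub_mem (T.add_mem (Submodule.mem_sup_right (hrelmem _)) hi) ?_
      refine T.smul_mem _ (Submodule.mem_sup_left ?_)
      rw [Finsupp.mem_supported]
      intro x hx
      have := Finsupp.support_single_subset hx
      rw [Finset.mem_singleton] at this
      rw [this]; exact hj
  have hTtop : T = ⊤ := by
    rw [eq_top_iff]
    intro x _
    induction x using Finsupp.induction_linear with
    | zero => exact T.zero_mem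
    | add x y hx hy => exact T.add_mem (hx trivial) (hy trivial)
    | single i a =>
      have : Finsupp.single i a = a • Finsupp.single i (1 : ℤ) := by simp
      rw [this]
      exact T.smul_mem _ (hsingle i)
  apply le_antisymm _ hKle
  intro x hx
  have hxT : x ∈ T := hTtop ▸ trivial
  obtain ⟨s, hs, k, hk, rfl⟩ := Submodule.mem_sup.mp hxT
  have hsker : φ s = 0 := by
    have h1 := LinearMap.mem_ker.mp hx
    rw [map_add, LinearMap.mem_ker.mp (hKle hk), add_zero] at h1
    exact h1
  have hs0 : s = 0 := linearIndepOn_iff.mp hli s hs hsker
  rw [hs0, zero_add]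
  exact hk

end Groth.Agent.S19011
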