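import Groth.Statements.S19012
import Groth.Agent.Lib.Helper95.RootQuad
import Mathlib.LinearAlgebra.RootSystem.Irreducible

set_option autoImplicit false
universe u v w x
open RootD

namespace Groth.Agent.S19012

/-- Let P be a finite reduced crystallographic root pairing over a field of characteristic zero which is
irreducible, and b a base. A quadratic form on the coweight module that is invariant under all root
reflections and vanishes on some simple coroot is zero; in other words an invariant form is
determined by its value on a single simple coroot. (The source proves, component by component of the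
Dynkin diagram, that an invariant integer-valued form on the coroot lattice with prescribed value on
the first simple coroot of each component is unique; here the system is irreducible, the coroots
span the coweight module, and forms take values in the base field.) -/
theorem result {ι : Type u} {K : Type v} {M : Type w} {N : Type x} [Field K] [CharZero K]
    [AddCommGroup M] [Module K M] [AddCommGroup N] [Module K N] (P : RootPairing ι K M N)
    [Finite ι] [P.IsCrystallographic] [P.IsReduced] [P.IsIrreducible] (b : P.Base)
    (Q : QuadraticMap K N K) (hQ : ∀ (i : ι) (y : N), Q (P.coreflection i y) = Q y)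
    (i₀ : ι) (hi₀ : i₀ ∈ b.support) (h0 : Q (P.coroot i₀) = 0) : Q = 0 := by
  -- polar identity
  have hpol : ∀ (j : ι) (y : N),
      QuadraticMap.polar Q y (P.coroot j) = P.root' j y * Q (P.coroot j) := fun j y =>
    Groth.Agent.Lib.Helper95.polar_coroot_of_invariant P Q j y (hQ j y) (hQ j _)
  -- polar form is invariant
  have hpolinv : ∀ (i : ι) (y z : N),
      QuadraticMap.polar Q (P.coreflection i y) (P.coreflection i z) = QuadraticMap.polar Q y z := by
    intro i y z
    unfold QuadraticMap.polar
    rw [← map_add, hQ, hQ, hQ]
  -- the kernel of Q
  let q : Submodule K N :=
    { carrier := {y | Q y = 0 ∧ ∀ z, QuadraticMap.polar Q y z = 0}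
      add_mem' := by
        rintro x y ⟨hx, hx'⟩ ⟨hy, hy'⟩
        refine ⟨?_, fun z => ?_⟩
        · have := QuadraticMap.polar Q x y
          have h := hx' y
          unfold QuadraticMap.polar at h
          rw [hx, hy] at h
          simpa using h
        · rw [QuadraticMap.polar_add_left, hx', hy', add_zero]
      zero_mem' := by
        refine ⟨by simp, fun z => by simp⟩
      smul_mem' := by
        rintro a x ⟨hx, hx'⟩
        refine ⟨?_, fun z => ?_⟩
        · rw [QuadraticMap.map_smul, hx, smul_zero]
        · rw [QuadraticMap.polar_smul_left, hx', smul_zero] }
  have hq_inv : ∀ i, q ∈ Module.End.invtSubmodule (P.coreflection i) := by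
    intro i
    rw [Module.End.mem_invtSubmodule]
    rintro y ⟨hy, hy'⟩
    refine ⟨?_, fun z => ?_⟩
    · change Q (P.coreflection i y) = 0
      rw [hQ, hy]
    · change QuadraticMap.polar Q (P.coreflection i y) z = 0
      have : z = P.coreflection i (P.coreflection i z) := by simp
      rw [this, hpolinv, hy']
  have hq_ne : q ≠ ⊥ := by
    intro h
    have hmem : P.coroot i₀ ∈ q := by
      refine ⟨h0, fun z => ?_⟩
      rw [QuadraticMap.polar_comm, hpol, h0, mul_zero]
    rw [h, Submodule.mem_bot] at hmem
    exact P.ne_zero' i₀ hmem
  have htop := RootPairing.IsIrreducible.eq_top_of_invtSubmodule_coreflection (P := P) q hq_inv hq_ne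
  ext y
  have : y ∈ q := by rw [htop]; trivial
  exact this.1

end Groth.Agent.S19012
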