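import Groth.Statements.S19013
import Groth.Agent.Lib.Helper15.MilKGen

set_option autoImplicit false
universe u v
open MilnorK

namespace Groth.Agent.S19013

/-- Let A ⊆ B be discrete valuation rings, the inclusion being a local homomorphism, with fraction
fields E ⊆ F compatibly, with the induced homomorphism of residue fields κ(A) → κ(B), and with
ramification index e, the natural number such that the maximal ideal of A generates the e-th power
of the maximal ideal of B. Let ∂_A : K_{n+1}(E) → K_n(κ(A)) and ∂_B : K_{n+1}(F) → K_n(κ(B)) be the
residue maps (tame symbols) on Milnor K-groups. Then for every x in K_{n+1}(E) one has ∂_B(x_F) = e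
· (∂_A x)_{κ(B)}, where the subscripts denote the change-of-fields maps along E → F and κ(A) → κ(B).
(The published statement concerns discrete valuations of geometric type on fields finitely generated
over a base field; it is stated here for an arbitrary pair of discrete valuation rings, which is all
the printed computation uses.) -/
theorem result
    (A B : Type u) [CommRing A] [IsDomain A] [IsDiscreteValuationRing A]
    [CommRing B] [IsDomain B] [IsDiscreteValuationRing B] [Algebra A B] [IsLocalHom (algebraMap A B)]
    (E F : Type v) [Field E] [Field F] [Algebra A E] [IsFractionRing A E] [Algebra B F] [IsFractionRing B F]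
    [Algebra E F] [Algebra A F] [IsScalarTower A E F] [IsScalarTower A B F]
    (e : ℕ) (he : Ideal.map (algebraMap A B) (IsLocalRing.maximalIdeal A) = IsLocalRing.maximalIdeal B ^ e)
    (n : ℕ) (dA : MilK.K E (n + 1) →+ MilK.K (IsLocalRing.ResidueField A) n) (hdA : MilK.IsTameSymbol A E n dA)
    (dB : MilK.K F (n + 1) →+ MilK.K (IsLocalRing.ResidueField B) n) (hdB : MilK.IsTameSymbol B F n dB)
    (x : MilK.K E (n + 1)) :
    dB (MilK.map (algebraMap E F) (n + 1) x) =
      e • MilK.map (IsLocalRing.ResidueField.map (algebraMap A B)) n (dA x) := by
  open Groth.Agent.Lib.Helper15.MilKLib MilK in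
  obtain ⟨ϖA, hϖA⟩ := IsDiscreteValuationRing.exists_irreducible A
  obtain ⟨ϖB, hϖB⟩ := IsDiscreteValuationRing.exists_irreducible B
  -- the uniformizer of `A` in `B`
  obtain ⟨w, hw⟩ : ∃ w : Bˣ, ϖB ^ e * (w : B) = algebraMap A B ϖA := by
    have h1 : Ideal.span {algebraMap A B ϖA} = Ideal.span {ϖB ^ e} := by
      rw [← Ideal.span_singleton_pow, ← hϖB.maximalIdeal_eq, ← he, hϖA.maximalIdeal_eq,
        Ideal.map_span, Set.image_singleton]
    have h2 : Associated (ϖB ^ e) (algebraMap A B ϖA) :=
      (Ideal.span_singleton_eq_span_singleton.mp h1).symm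
    exact h2
  have hcomp : ∀ a : A, algebraMap E F (algebraMap A E a) = algebraMap B F (algebraMap A B a) := by
    intro a
    rw [← IsScalarTower.algebraMap_apply A E F, ← IsScalarTower.algebraMap_apply A B F]
  have hunit : ∀ u : Aˣ, Units.map (algebraMap E F : E →* F) (unitToFrac A E u) =
      unitToFrac B F (Units.map (algebraMap A B : A →* B) u) := by
    intro u
    ext
    simp [unitToFrac, hcomp]
  have hunif : Units.map (algebraMap E F : E →* F) (unitFrac A E ϖA hϖA.ne_zero) =
      unitFrac B F ϖB hϖB.ne_zero ^ e * unitToFrac B F w := by
    ext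
    simp only [Units.coe_map, MonoidHom.coe_coe, coe_unitFrac, Units.val_mul, Units.val_pow_eq_pow_val,
      coe_unitToFrac']
    rw [hcomp, ← hw, map_mul, map_pow]
  have hres : ∀ u : Aˣ, Units.map (IsLocalRing.ResidueField.map (algebraMap A B) :
      IsLocalRing.ResidueField A →* IsLocalRing.ResidueField B) (unitResidue A u) =
      unitResidue B (Units.map (algebraMap A B : A →* B) u) := by
    intro u
    ext
    simp [unitResidue, IsLocalRing.ResidueField.map_residue]
  have key : dB.comp (MilK.map (algebraMap E F) (n + 1)) =
      e • ((MilK.map (IsLocalRing.ResidueField.map (algebraMap A B)) n).comp dA) := by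
    apply hom_ext_gen A E ϖA hϖA n
    · intro u
      simp only [AddMonoidHom.comp_apply, AddMonoidHom.smul_apply, map_symbol]
      rw [hdA ϖA hϖA u, map_symbol]
      have e1 : (fun i => Units.map (algebraMap E F : E →* F)
          ((Fin.cons (unitFrac A E ϖA hϖA.ne_zero) fun i => unitToFrac A E (u i) :
            Fin (n + 1) → Eˣ) i)) =
          Fin.cons (unitFrac B F ϖB hϖB.ne_zero ^ e * unitToFrac B F w)
            (fun i => unitToFrac B F (Units.map (algebraMap A B : A →* B) (u i))) := by
        ext i
        refine Fin.cases ?_ (fun k => ?_) i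
        · simp only [Fin.cons_zero]; rw [hunif]
        · simp only [Fin.cons_succ]; rw [hunit]
      rw [e1, ← consK_symbol, consK_mul, consK_pow, AddMonoidHom.add_apply, AddMonoidHom.smul_apply,
        map_add, map_nsmul, consK_symbol, consK_symbol,
        hdB ϖB hϖB (fun i => Units.map (algebraMap A B : A →* B) (u i))]
      have h0 := tame_units_eq_zero B F n dB hdB
        (Fin.cons w (fun i => Units.map (algebraMap A B : A →* B) (u i)))
      have e2 : (fun i => unitToFrac B F ((Fin.cons w
          (fun i => Units.map (algebraMap A B : A →* B) (u i)) : Fin (n + 1) → Bˣ) i)) =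
          Fin.cons (unitToFrac B F w)
            (fun i => unitToFrac B F (Units.map (algebraMap A B : A →* B) (u i))) := by
        ext i
        refine Fin.cases ?_ (fun k => ?_) i <;> simp
      rw [e2] at h0
      rw [h0, add_zero]
      congr 2
    · intro u
      simp only [AddMonoidHom.comp_apply, AddMonoidHom.smul_apply, map_symbol]
      rw [tame_units_eq_zero A E n dA hdA u, map_zero, smul_zero]
      have h0 := tame_units_eq_zero B F n dB hdB
        (fun i => Units.map (algebraMap A B : A →* B) (u i))
      rw [← h0]
      congr 2
      ext i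
      rw [hunit]
  have := DFunLike.congr_fun key x
  simpa using this

end Groth.Agent.S19013
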