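import Groth.Statements.S19015
import Groth.Agent.Lib.Helper95.MilnorK

set_option autoImplicit false
universe u v
open MilnorK

namespace Groth.Agent.S19015

/-- Let B be a discrete valuation ring with fraction field F, residue field κ and uniformizer π, and let
E be a field with a ring homomorphism into B, hence into F and into κ. Let ∂ : K_{n+1}(F) → K_n(κ)
be the residue map (tame symbol) on Milnor K-groups and s^π(ρ) = ∂({−π} · ρ) the specialization map
attached to π. Then s^π(x_F) = x_κ for every x in K_n(E): the product {−π} · x_F in K_{1+n}(F),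
regarded in K_{n+1}(F), has residue the image of x in K_n(κ). (The published statement concerns
discrete valuations of geometric type on fields finitely generated over a base field; it is stated
here for an arbitrary discrete valuation ring, which is all the printed computation uses.) -/
theorem result
    (B : Type u) [CommRing B] [IsDomain B] [IsDiscreteValuationRing B]
    (E F : Type v) [Field E] [Field F] [Algebra B F] [IsFractionRing B F]
    [Algebra E B] [Algebra E F] [IsScalarTower E B F]
    (n : ℕ) (d : MilK.K F (n + 1) →+ MilK.K (IsLocalRing.ResidueField B) n) (hd : MilK.IsTameSymbol B F n d)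
    (ϖ : B) (hϖ : Irreducible ϖ) (x : MilK.K E n) :
    d (MilK.cast F (Nat.add_comm 1 n)
        (MilK.mul F 1 n (MilK.symbol ![-MilK.unitFrac B F ϖ hϖ.ne_zero]) (MilK.map (algebraMap E F) n x))) =
      MilK.map ((IsLocalRing.residue B).comp (algebraMap E B)) n x := by
  have key : d.comp ((MilK.cast F (Nat.add_comm 1 n)).toAddMonoidHom.comp
      ((MilK.mul F 1 n (MilK.symbol ![-MilK.unitFrac B F ϖ hϖ.ne_zero])).comp
        (MilK.map (algebraMap E F) n))) =
      MilK.map ((IsLocalRing.residue B).comp (algebraMap E B)) n := by
    apply Groth.Agent.Lib.Helper95.milK_hom_ext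
    intro y
    simp only [AddMonoidHom.comp_apply, AddEquiv.coe_toAddMonoidHom, AddEquiv.toAddMonoidHom_eq_coe,
      AddMonoidHom.coe_coe]
    rw [MilK.map_symbol, MilK.mul_symbol_symbol, MilK.cast_symbol, MilK.map_symbol]
    let u : Fin n → Bˣ := fun i => Units.map (algebraMap E B : E →* B) (y i)
    have e : (Fin.append ![-MilK.unitFrac B F ϖ hϖ.ne_zero]
          fun i => Units.map ((algebraMap E F : E →+* F) : E →* F) (y i)) ∘
        Fin.cast (Nat.add_comm 1 n).symm =
        (Fin.cons (MilK.unitToFrac B F (-1) * MilK.unitFrac B F ϖ hϖ.ne_zero)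
          fun i => MilK.unitToFrac B F (u i) : Fin (n + 1) → Fˣ) := by
      rw [Fin.append_left_eq_cons]
      ext i
      refine Fin.cases ?_ (fun j => ?_) i
      · simp [MilK.unitToFrac]
      · simp [u, MilK.unitToFrac, IsScalarTower.algebraMap_apply E B F]
    rw [e, Groth.Agent.Lib.Helper95.symbol_cons_mul, map_add,
      Groth.Agent.Lib.Helper95.tame_units B F d hd (-1) u, zero_add, hd ϖ hϖ u]
    congr 1
  have := congrArg (fun f : MilK.K E n →+ _ => f x) key
  simpa using this

end Groth.Agent.S19015
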