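import Groth.Statements.S19016
import Groth.Agent.Lib.Helper15.MilKGen

set_option autoImplicit false
universe u v
open MilnorK

namespace Groth.Agent.S19016

/-- Let B be a discrete valuation ring with fraction field F and residue field κ, let u be a unit of B
with residue class ū, and let ∂ denote the residue maps (tame symbols) K_{n+1}(F) → K_n(κ) and
K_{n+2}(F) → K_{n+1}(κ) on Milnor K-groups. Then ∂({u} · ρ) = −{ū} · ∂(ρ) for every ρ in K_{n+1}(F),
the products {u} · ρ in K_{1+(n+1)}(F) and {ū} · ∂ρ in K_{1+n}(κ) being regarded in K_{n+2}(F) and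
K_{n+1}(κ). (The published statement concerns discrete valuations of geometric type on fields
finitely generated over a base field; it is stated here for an arbitrary discrete valuation ring,
which is all the printed computation uses.) -/
theorem result
    (B : Type u) [CommRing B] [IsDomain B] [IsDiscreteValuationRing B]
    (F : Type v) [Field F] [Algebra B F] [IsFractionRing B F] (n : ℕ)
    (d : MilK.K F (n + 1) →+ MilK.K (IsLocalRing.ResidueField B) n) (hd : MilK.IsTameSymbol B F n d)
    (d' : MilK.K F (n + 1 + 1) →+ MilK.K (IsLocalRing.ResidueField B) (n + 1))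
    (hd' : MilK.IsTameSymbol B F (n + 1) d')
    (u : Bˣ) (ρ : MilK.K F (n + 1)) :
    d' (MilK.cast F (Nat.add_comm 1 (n + 1)) (MilK.mul F 1 (n + 1) (MilK.symbol ![MilK.unitToFrac B F u]) ρ)) =
      -(MilK.cast (IsLocalRing.ResidueField B) (Nat.add_comm 1 n)
          (MilK.mul (IsLocalRing.ResidueField B) 1 n (MilK.symbol ![MilK.unitResidue B u]) (d ρ))) := by
  open Groth.Agent.Lib.Helper15.MilKLib MilK in
  rw [cast_mul_singleton, cast_mul_singleton]
  obtain ⟨ϖ, hϖ⟩ := IsDiscreteValuationRing.exists_irreducible B
  have key : d'.comp (consK (unitToFrac B F u)) = -((consK (unitResidue B u)).comp d) := by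
    apply hom_ext_gen B F ϖ hϖ n
    · intro w
      simp only [AddMonoidHom.comp_apply, AddMonoidHom.neg_apply, consK_symbol]
      rw [hd ϖ hϖ w, consK_symbol]
      -- swap the first two entries
      set z : Fin (n + 1 + 1) → Fˣ :=
        Fin.cons (unitToFrac B F u) (Fin.cons (unitFrac B F ϖ hϖ.ne_zero)
          fun i => unitToFrac B F (w i)) with hz
      have h01 : (0 : Fin (n + 1 + 1)) ≠ 1 := by
        intro h; exact absurd (congrArg Fin.val h) (by simp)
      have hs := symbol_swap z 0 1 h01
      have e : z ∘ Equiv.swap 0 1 = Fin.cons (unitFrac B F ϖ hϖ.ne_zero)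
          (fun i => unitToFrac B F ((Fin.cons u w : Fin (n + 1) → Bˣ) i)) := by
        ext i
        refine Fin.cases ?_ (fun k => ?_) i
        · simp [hz]
        · refine Fin.cases ?_ (fun j => ?_) k
          · have : (Fin.succ (0 : Fin (n + 1)) : Fin (n + 1 + 1)) = 1 := rfl
            simp [hz, this]
          · have h1 : (j.succ.succ : Fin (n + 1 + 1)) ≠ 0 := Fin.succ_ne_zero _
            have h2 : (j.succ.succ : Fin (n + 1 + 1)) ≠ 1 := by
              intro h; exact absurd (congrArg Fin.val h) (by simp)
            simp [hz, Equiv.swap_apply_of_ne_of_ne h1 h2]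
      have hz' : symbol z = - symbol (z ∘ Equiv.swap 0 1) := by rw [hs, neg_neg]
      rw [hz', map_neg, e, hd' ϖ hϖ (Fin.cons u w)]
      congr 2
      ext i
      refine Fin.cases ?_ (fun k => ?_) i <;> simp
    · intro w
      simp only [AddMonoidHom.comp_apply, AddMonoidHom.neg_apply, consK_symbol]
      rw [tame_units_eq_zero B F n d hd w, map_zero, neg_zero]
      have := tame_units_eq_zero B F (n + 1) d' hd' (Fin.cons u w)
      rw [← this]
      congr 2
      ext i
      refine Fin.cases ?_ (fun k => ?_) i <;> simp
  have := DFunLike.congr_fun key ρ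
  simpa using this

end Groth.Agent.S19016
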