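import Groth.Statements.S19018
import Mathlib
-- import your own Groth.Agent.* helpers here

set_option autoImplicit false
universe u
open TensorProduct
open SymTen
open scoped Pointwise

namespace Groth.Agent.S19018

/-- Suppose k is a field in which 2 ≠ 0 and R is a commutative k-algebra. Write I for the ideal of the
diagonal, i.e. the kernel of multiplication R ⊗_k R → R, and write S for the subalgebra of R ⊗_k R
consisting of elements invariant under interchanging the two tensor factors. Then, viewed as ideals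
of S, the swap-invariant elements of I^4 form precisely the square of the ideal of swap-invariant
elements of I^2. (The source is stated over the complex numbers; the proof needs only that 2 is
invertible.) -/
theorem result
    (k R : Type u) [Field k] [NeZero (2 : k)] [CommRing R] [Algebra k R] :
    Ideal.comap
        (AlgHom.equalizer ((Algebra.TensorProduct.comm k R R : R ⊗[k] R ≃ₐ[k] R ⊗[k] R) : R ⊗[k] R →ₐ[k] R ⊗[k] R)
          (AlgHom.id k (R ⊗[k] R))).val
        (KaehlerDifferential.ideal k R ^ 4) =
      (Ideal.comap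
        (AlgHom.equalizer ((Algebra.TensorProduct.comm k R R : R ⊗[k] R ≃ₐ[k] R ⊗[k] R) : R ⊗[k] R →ₐ[k] R ⊗[k] R)
          (AlgHom.id k (R ⊗[k] R))).val
        (KaehlerDifferential.ideal k R ^ 2)) ^ 2 := by
  classical
  set T := R ⊗[k] R with hT
  set τ : T ≃ₐ[k] T := Algebra.TensorProduct.comm k R R with hτ
  set Sub : Subalgebra k T := AlgHom.equalizer (τ : T →ₐ[k] T) (AlgHom.id k T) with hSub
  set I : Ideal T := KaehlerDifferential.ideal k R with hI
  have hττ : ∀ t : T, τ (τ t) = t := by
    intro t
    induction t using TensorProduct.induction_on with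
    | zero => simp
    | tmul a b => rw [hτ, Algebra.TensorProduct.comm_tmul, Algebra.TensorProduct.comm_tmul]
    | add x y hx hy => rw [map_add, map_add, hx, hy]
  -- generators
  set G : Set T := Set.range fun s : R => (1 : R) ⊗ₜ[k] s - s ⊗ₜ[k] (1 : R) with hG
  have hIG : I = Ideal.span G := (KaehlerDifferential.span_range_eq_ideal (R := k) (S := R)).symm
  have hτG : ∀ g ∈ G, τ g = -g := by
    rintro _ ⟨s, rfl⟩
    rw [hτ, map_sub, Algebra.TensorProduct.comm_tmul, Algebra.TensorProduct.comm_tmul, neg_sub]
  have hI2 : I ^ 2 = Ideal.span (G * G) := by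
    rw [pow_two, hIG, Ideal.span_mul_span']
  have hI4 : I ^ 4 = Ideal.span ((G * G) * (G * G)) := by
    rw [show 4 = 2 + 2 from rfl, pow_add, hI2, Ideal.span_mul_span']
  have hGGinv : ∀ g ∈ G * G, τ g = g := by
    rintro _ ⟨a, ha, b, hb, rfl⟩
    rw [map_mul, hτG a ha, hτG b hb, neg_mul_neg]
  have hGGmem : ∀ g ∈ G * G, g ∈ I ^ 2 := by
    intro g hg
    rw [hI2]; exact Ideal.subset_span hg
  set J : Ideal Sub := Ideal.comap Sub.val (I ^ 2) with hJ
  -- symmetrization
  have h2 : (2 : k) ≠ 0 := NeZero.ne 2
  let P : T → T := fun t => (2 : k)⁻¹ • (t + τ t)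
  have hPmem : ∀ t, P t ∈ Sub := by
    intro t
    have e : τ (P t) = P t := by
      simp only [P, map_smul, map_add, hττ]
      rw [add_comm]
    exact (AlgHom.mem_equalizer _ _ _).mpr e
  have hinvSub : ∀ a : T, τ a = a → a ∈ Sub := by
    intro a ha
    exact (AlgHom.mem_equalizer (τ : T →ₐ[k] T) (AlgHom.id k T) a).mpr ha
  have hPinv : ∀ t, τ t = t → P t = t := by
    intro t ht
    simp only [P, ht]
    rw [← two_smul k t, smul_smul, inv_mul_cancel₀ h2, one_smul]
  have hPmul : ∀ t g, τ g = g → P (t * g) = P t * g := by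
    intro t g hg
    simp only [P, map_mul, hg]
    rw [← add_mul, smul_mul_assoc]
  apply le_antisymm
  · -- the hard inclusion
    intro x hx
    rw [Ideal.mem_comap] at hx
    have key : ∀ y ∈ I ^ 4, ∀ t : T, ∃ z ∈ J ^ 2, Sub.val z = P (t * y) := by
      intro y hy
      rw [hI4] at hy
      induction hy using Submodule.span_induction with
      | mem g hg =>
        intro t
        obtain ⟨a, ha, b, hb, rfl⟩ := hg
        refine ⟨⟨P t, hPmem t⟩ * (⟨a, hinvSub a (hGGinv a ha)⟩ * ⟨b, hinvSub b (hGGinv b hb)⟩), ?_, ?_⟩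
        · apply Ideal.mul_mem_left
          rw [pow_two]
          apply Ideal.mul_mem_mul
          · rw [hJ, Ideal.mem_comap]; exact hGGmem a ha
          · rw [hJ, Ideal.mem_comap]; exact hGGmem b hb
        · simp only [map_mul, Subalgebra.coe_val]
          rw [hPmul t (a * b) (by rw [map_mul, hGGinv a ha, hGGinv b hb])]
      | zero =>
        intro t
        exact ⟨0, Ideal.zero_mem _, by simp [P]⟩
      | add y₁ y₂ _ _ h₁ h₂ =>
        intro t
        obtain ⟨z₁, hz₁, e₁⟩ := h₁ t
        obtain ⟨z₂, hz₂, e₂⟩ := h₂ t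
        refine ⟨z₁ + z₂, Ideal.add_mem _ hz₁ hz₂, ?_⟩
        rw [map_add, e₁, e₂]
        simp only [P, mul_add, map_add, smul_add]
        abel
      | smul t' y _ h =>
        intro t
        obtain ⟨z, hz, e⟩ := h (t * t')
        refine ⟨z, hz, ?_⟩
        rw [e, smul_eq_mul, mul_assoc]
    obtain ⟨z, hz, e⟩ := key _ hx 1
    rw [one_mul] at e
    have hxinv : τ (Sub.val x) = Sub.val x := (AlgHom.mem_equalizer (τ : T →ₐ[k] T) (AlgHom.id k T) _).mp x.2
    rw [hPinv _ hxinv] at e
    have : z = x := Subtype.ext e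
    rw [← this]; exact hz
  · -- easy inclusion
    rw [pow_two, Ideal.mul_le]
    intro a ha b hb
    rw [hJ, Ideal.mem_comap] at ha hb
    rw [Ideal.mem_comap, map_mul, show 4 = 2 + 2 from rfl, pow_add]
    exact Ideal.mul_mem_mul ha hb

end Groth.Agent.S19018
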