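import Groth.Statements.S19019
-- import your own Groth.Agent.* helpers here
import Groth.Agent.Lib.Helper72.ToeplitzQuad
open Groth.Agent.Lib.Helper72.ToeplitzQuad

set_option autoImplicit false
open scoped ComplexOrder
open Toeplitz

namespace Groth.Agent.S19019

/-- Let A be an m × m complex Hermitian Toeplitz matrix, with entries A i j = t (j - i) constant along
diagonals, and let f(y) = Σ_{-m < k < m} t k · exp(i k y) be the trigonometric polynomial attached
to it. If f has positive real part at every real y outside a countable set, then A is positive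
definite (hence nondegenerate). (The source also states the mirror case: f negative off a countable
set gives A negative definite, which is this statement for -A.) -/
theorem result
    (m : ℕ) (t : ℤ → ℂ) (A : Matrix (Fin m) (Fin m) ℂ)
    (hA : ∀ i j : Fin m, A i j = t ((j : ℤ) - (i : ℤ))) (hH : A.IsHermitian)
    (hpos : Set.Countable {y : ℝ | ¬ 0 < (∑ k ∈ Finset.Ioo (-(m : ℤ)) (m : ℤ),
        t k * Complex.exp (Complex.I * (k : ℂ) * (y : ℂ))).re}) :
    A.PosDef := by
  classical
  refine Matrix.PosDef.of_dotProduct_mulVec_pos hH (fun x hx => ?_)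
  rw [Complex.pos_iff]
  refine ⟨?_, (hH.im_star_dotProduct_mulVec_self x).symm⟩
  -- the number of nodes
  set N : ℕ := 2 * m + 1 with hNdef
  have hN0 : N ≠ 0 := by omega
  have hN : 2 * m ≤ N := by omega
  have hNpos : (0 : ℝ) < (N : ℝ) := by positivity
  -- choose θ avoiding the bad set at all nodes
  obtain ⟨θ, hθ⟩ : ∃ θ : ℝ, ∀ l : Fin N, 0 < (∑ k ∈ Finset.Ioo (-(m : ℤ)) (m : ℤ),
        t k * Complex.exp (Complex.I * (k : ℂ) * ((pt N θ (l : ℕ) : ℝ) : ℂ))).re := by
    have hc : (⋃ l : Fin N, (fun θ : ℝ => pt N θ (l : ℕ)) ⁻¹'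
        {y : ℝ | ¬ 0 < (∑ k ∈ Finset.Ioo (-(m : ℤ)) (m : ℤ),
          t k * Complex.exp (Complex.I * (k : ℂ) * (y : ℂ))).re}).Countable := by
      refine Set.countable_iUnion (fun l => ?_)
      refine Set.Countable.preimage_of_injOn hpos ?_
      intro a _ b _ hab
      simpa [pt] using hab
    obtain ⟨θ, hθ⟩ := (hc.dense_compl ℝ).nonempty
    refine ⟨θ, fun l => ?_⟩
    by_contra hcon
    exact hθ (Set.mem_iUnion.mpr ⟨l, hcon⟩)
  -- the test polynomial at the nodes
  set P : Fin N → ℂ := fun l => ∑ j : Fin m, x j * E θ N (-((j : ℕ) : ℤ)) (l : ℕ) with hP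
  have hconjP : ∀ l : Fin N, (∑ i : Fin m, (starRingEnd ℂ) (x i) * E θ N ((i : ℕ) : ℤ) (l : ℕ)) *
      (∑ j : Fin m, x j * E θ N (-((j : ℕ) : ℤ)) (l : ℕ)) = ((Complex.normSq (P l) : ℝ) : ℂ) := by
    intro l
    rw [Complex.normSq_eq_conj_mul_self, hP]
    congr 1
    rw [map_sum]
    refine Finset.sum_congr rfl (fun i _ => ?_)
    rw [map_mul, conj_E, neg_neg]
  -- quadrature for the symbol
  have hq := quadrature m N hN hN0 θ t x
  rw [Finset.sum_congr rfl (fun l _ => by rw [hconjP l])] at hq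
  -- quadrature for the constant symbol 1
  have hq1 := quadrature m N hN hN0 θ (fun k => if k = 0 then 1 else 0) x
  rw [Finset.sum_congr rfl (fun l _ => by rw [hconjP l])] at hq1
  have hm : 0 < m := by
    rcases Nat.eq_zero_or_pos m with h | h
    · subst h
      exact absurd (Subsingleton.elim x 0) hx
    · exact h
  have h1 : ∀ l : Fin N, (∑ k ∈ Finset.Ioo (-(m : ℤ)) (m : ℤ),
      (if k = 0 then (1 : ℂ) else 0) * E θ N k (l : ℕ)) = 1 := by
    intro l
    rw [Finset.sum_eq_single 0]
    · rw [if_pos rfl, one_mul, E_zero]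
    · intro b _ hb
      rw [if_neg hb, zero_mul]
    · intro h0
      exfalso
      apply h0
      rw [Finset.mem_Ioo]
      constructor <;> omega
  rw [Finset.sum_congr rfl (fun l _ => by rw [h1 l, one_mul])] at hq1
  have h2 : ∑ i : Fin m, ∑ j : Fin m, (starRingEnd ℂ) (x i) *
      (if ((j : ℕ) : ℤ) - ((i : ℕ) : ℤ) = 0 then (1 : ℂ) else 0) * x j =
      ((∑ i : Fin m, Complex.normSq (x i) : ℝ) : ℂ) := by
    rw [Complex.ofReal_sum]
    refine Finset.sum_congr rfl (fun i _ => ?_)
    rw [Finset.sum_eq_single i]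
    · rw [sub_self, if_pos rfl, mul_one, Complex.normSq_eq_conj_mul_self]
    · intro j _ hj
      rw [if_neg, mul_zero, zero_mul]
      intro h
      apply hj
      apply Fin.ext
      omega
    · intro h
      exact absurd (Finset.mem_univ i) h
  rw [h2] at hq1
  -- some node has `P ≠ 0`
  have hsumpos : 0 < ∑ i : Fin m, Complex.normSq (x i) := by
    obtain ⟨i₀, hi₀⟩ : ∃ i, x i ≠ 0 := by
      by_contra hcon
      push Not at hcon
      exact hx (funext hcon)
    exact Finset.sum_pos' (fun i _ => Complex.normSq_nonneg _)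
      ⟨i₀, Finset.mem_univ _, Complex.normSq_pos.mpr hi₀⟩
  have hq1' : ∑ l : Fin N, Complex.normSq (P l) = (N : ℝ) * ∑ i : Fin m, Complex.normSq (x i) := by
    have := congrArg Complex.re hq1
    rw [← Complex.ofReal_sum, Complex.ofReal_re] at this
    rw [this, ← Complex.ofReal_natCast, ← Complex.ofReal_mul, Complex.ofReal_re]
  obtain ⟨l₀, hl₀⟩ : ∃ l : Fin N, 0 < Complex.normSq (P l) := by
    by_contra hcon
    push Not at hcon
    have h0 : ∑ l : Fin N, Complex.normSq (P l) = 0 :=
      Finset.sum_eq_zero (fun l _ => le_antisymm (hcon l) (Complex.normSq_nonneg _))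
    rw [h0] at hq1'
    have : 0 < (N : ℝ) * ∑ i : Fin m, Complex.normSq (x i) := mul_pos hNpos hsumpos
    linarith
  -- the quadratic form
  have hS : star x ⬝ᵥ A.mulVec x = ∑ i : Fin m, ∑ j : Fin m,
      (starRingEnd ℂ) (x i) * t (((j : ℕ) : ℤ) - ((i : ℕ) : ℤ)) * x j := by
    simp only [dotProduct, Matrix.mulVec, Pi.star_apply, Finset.mul_sum]
    refine Finset.sum_congr rfl (fun i _ => Finset.sum_congr rfl (fun j _ => ?_))
    rw [hA i j]
    simp only [starRingEnd_apply]
    ring
  rw [hS]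
  have hre := congrArg Complex.re hq
  rw [Complex.re_sum] at hre
  have hterm : ∀ l : Fin N, ((∑ k ∈ Finset.Ioo (-(m : ℤ)) (m : ℤ), t k * E θ N k (l : ℕ)) *
      ((Complex.normSq (P l) : ℝ) : ℂ)).re =
      (∑ k ∈ Finset.Ioo (-(m : ℤ)) (m : ℤ),
        t k * Complex.exp (Complex.I * (k : ℂ) * ((pt N θ (l : ℕ) : ℝ) : ℂ))).re *
        Complex.normSq (P l) := by
    intro l
    rw [Complex.re_mul_ofReal]
    congr 2
    refine Finset.sum_congr rfl (fun k _ => ?_)
    rw [exp_pt]
  rw [Finset.sum_congr rfl (fun l _ => hterm l)] at hre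
  have hposSum : 0 < ∑ l : Fin N, (∑ k ∈ Finset.Ioo (-(m : ℤ)) (m : ℤ),
        t k * Complex.exp (Complex.I * (k : ℂ) * ((pt N θ (l : ℕ) : ℝ) : ℂ))).re *
        Complex.normSq (P l) :=
    Finset.sum_pos' (fun l _ => mul_nonneg (hθ l).le (Complex.normSq_nonneg _))
      ⟨l₀, Finset.mem_univ _, mul_pos (hθ l₀) hl₀⟩
  rw [hre, ← Complex.ofReal_natCast, Complex.re_ofReal_mul] at hposSum
  exact (mul_pos_iff_of_pos_left hNpos).mp hposSum

end Groth.Agent.S19019
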