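import Groth.Statements.S19020
import Mathlib.Data.Nat.Choose.Vandermonde
import Mathlib.Algebra.BigOperators.Fin
import Mathlib.Data.Real.Basic
import Mathlib.Algebra.Order.Star.Real

set_option autoImplicit false
open Toeplitz

namespace Groth.Agent.S19020


open Finset in
/-- Vandermonde in the shifted form used below. -/
lemma vand (n δ : ℕ) :
    ∑ l ∈ Finset.range (n + 1), n.choose (δ + l) * n.choose l = (2 * n).choose (n + δ) := by
  rw [two_mul, Nat.add_choose_eq, Finset.Nat.sum_antidiagonal_eq_sum_range_succ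
    (fun a b => n.choose a * n.choose b), Nat.succ_eq_add_one,
    show n + δ + 1 = δ + (n + 1) by ring,
    Finset.sum_range_add (fun k => n.choose k * n.choose (n + δ - k)) δ (n + 1)]
  have h0 : ∑ x ∈ Finset.range δ, n.choose x * n.choose (n + δ - x) = 0 := by
    apply Finset.sum_eq_zero
    intro x hx
    have hx' : x < δ := Finset.mem_range.mp hx
    rw [Nat.choose_eq_zero_of_lt (by omega : n < n + δ - x), mul_zero]
  rw [h0, zero_add]
  apply Finset.sum_congr rfl
  intro l hl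
  have hl' : l ≤ n := Nat.lt_succ_iff.mp (Finset.mem_range.mp hl)
  rw [show n + δ - (δ + l) = n - l by omega, Nat.choose_symm hl']

/-- signed binomial coefficient -/
noncomputable def cc (n : ℕ) (l : ℕ) : ℝ := (-1 : ℝ) ^ l * (n.choose l : ℝ)

/-- the matrix of multiplication by `(1 - z)^n` on polynomials of degree `< m` -/
noncomputable def TT (n m : ℕ) : Matrix (Fin (m + n)) (Fin m) ℝ :=
  Matrix.of fun k j => if (j : ℕ) ≤ (k : ℕ) then cc n ((k : ℕ) - (j : ℕ)) else 0

lemma TT_inj (n m : ℕ) : Function.Injective (TT n m).mulVec := by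
  intro x y hxy
  have h0 : (TT n m).mulVec (x - y) = 0 := by rw [Matrix.mulVec_sub, hxy, sub_self]
  suffices hz : x - y = 0 from sub_eq_zero.mp hz
  set z := x - y with hz
  by_contra hne
  have hex : ∃ j : Fin m, z j ≠ 0 := by
    by_contra hcon
    push Not at hcon
    exact hne (funext hcon)
  classical
  -- minimal index with nonzero entry
  let S : Finset (Fin m) := Finset.univ.filter fun j => z j ≠ 0
  have hS : S.Nonempty := by
    obtain ⟨j, hj⟩ := hex
    exact ⟨j, by simp [S, hj]⟩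
  set j₀ := S.min' hS with hj₀
  have hj₀mem : z j₀ ≠ 0 := by
    have := Finset.min'_mem S hS
    simpa [S] using this
  have hmin : ∀ j : Fin m, j < j₀ → z j = 0 := by
    intro j hj
    by_contra hzj
    have : j ∈ S := by simp [S, hzj]
    exact absurd (Finset.min'_le S j this) (not_le.mpr hj)
  have hk := congrFun h0 (Fin.castAdd n j₀)
  rw [Matrix.mulVec, dotProduct, Pi.zero_apply] at hk
  rw [Finset.sum_eq_single j₀] at hk
  · simp [TT, cc] at hk
    exact hj₀mem hk
  · intro j _ hjne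
    rcases lt_or_gt_of_ne hjne with hlt | hgt
    · rw [hmin j hlt, mul_zero]
    · have : ¬ ((j : ℕ) ≤ ((Fin.castAdd n j₀ : Fin (m + n)) : ℕ)) := by
        simp only [Fin.val_castAdd, not_le]
        exact hgt
      have h0' : (TT n m) (Fin.castAdd n j₀) j = 0 := by
        simp only [TT, Matrix.of_apply]
        rw [if_neg this]
      rw [h0', zero_mul]
  · intro h
    exact absurd (Finset.mem_univ j₀) h

lemma TT_entry (n m : ℕ) (i j : Fin m) (hij : (i : ℕ) ≤ (j : ℕ)) :
    ∑ k : Fin (m + n), (TT n m) k i * (TT n m) k j =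
      (-1 : ℝ) ^ ((i : ℕ) + (j : ℕ)) * ((2 * n).choose (n + ((j : ℕ) - (i : ℕ))) : ℝ) := by
  obtain ⟨δ, hδ⟩ := Nat.exists_eq_add_of_le hij
  have hjm : (j : ℕ) < m := j.isLt
  have e1 : ∑ k : Fin (m + n), (TT n m) k i * (TT n m) k j =
      ∑ k ∈ Finset.range (m + n),
        (if (i : ℕ) ≤ k then cc n (k - (i : ℕ)) else 0) *
        (if (j : ℕ) ≤ k then cc n (k - (j : ℕ)) else 0) := by
    rw [← Fin.sum_univ_eq_sum_range (fun k =>
        (if (i : ℕ) ≤ k then cc n (k - (i : ℕ)) else 0) *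
        (if (j : ℕ) ≤ k then cc n (k - (j : ℕ)) else 0)) (m + n)]
    rfl
  rw [e1, show m + n = (j : ℕ) + ((n + 1) + (m - (j : ℕ) - 1)) by omega, Finset.sum_range_add,
    Finset.sum_range_add]
  have z1 : ∑ x ∈ Finset.range (j : ℕ),
      (if (i : ℕ) ≤ x then cc n (x - (i : ℕ)) else 0) *
        (if (j : ℕ) ≤ x then cc n (x - (j : ℕ)) else 0) = 0 := by
    apply Finset.sum_eq_zero
    intro x hx
    have : ¬ ((j : ℕ) ≤ x) := not_le.mpr (Finset.mem_range.mp hx)
    rw [if_neg this, mul_zero]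
  have z2 : ∑ x ∈ Finset.range (m - (j : ℕ) - 1),
      (if (i : ℕ) ≤ (j : ℕ) + (n + 1 + x) then cc n ((j : ℕ) + (n + 1 + x) - (i : ℕ)) else 0) *
        (if (j : ℕ) ≤ (j : ℕ) + (n + 1 + x) then cc n ((j : ℕ) + (n + 1 + x) - (j : ℕ)) else 0) = 0 := by
    apply Finset.sum_eq_zero
    intro x _
    rw [if_pos (by omega : (j : ℕ) ≤ (j : ℕ) + (n + 1 + x))]
    have : cc n ((j : ℕ) + (n + 1 + x) - (j : ℕ)) = 0 := by
      rw [cc, Nat.choose_eq_zero_of_lt (by omega : n < (j : ℕ) + (n + 1 + x) - (j : ℕ))]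
      simp
    rw [this, mul_zero]
  rw [z1, z2, zero_add, add_zero]
  have e2 : ∀ l ∈ Finset.range (n + 1),
      (if (i : ℕ) ≤ (j : ℕ) + l then cc n ((j : ℕ) + l - (i : ℕ)) else 0) *
        (if (j : ℕ) ≤ (j : ℕ) + l then cc n ((j : ℕ) + l - (j : ℕ)) else 0) =
      (-1 : ℝ) ^ δ * ((n.choose (δ + l) * n.choose l : ℕ) : ℝ) := by
    intro l _
    rw [if_pos (by omega : (i : ℕ) ≤ (j : ℕ) + l), if_pos (by omega : (j : ℕ) ≤ (j : ℕ) + l),
      show (j : ℕ) + l - (i : ℕ) = δ + l by omega, show (j : ℕ) + l - (j : ℕ) = l by omega]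
    simp only [cc, Nat.cast_mul]
    have : ((-1 : ℝ) ^ (δ + l)) * (-1 : ℝ) ^ l = (-1 : ℝ) ^ δ := by
      rw [pow_add, mul_assoc, ← pow_add, ← two_mul, pow_mul]
      simp
    calc (-1 : ℝ) ^ (δ + l) * (n.choose (δ + l) : ℝ) * ((-1 : ℝ) ^ l * (n.choose l : ℝ))
        = ((-1 : ℝ) ^ (δ + l) * (-1 : ℝ) ^ l) * ((n.choose (δ + l) : ℝ) * (n.choose l : ℝ)) := by ring
      _ = _ := by rw [this]
  rw [Finset.sum_congr rfl e2, ← Finset.mul_sum, ← Nat.cast_sum, vand,
    show (j : ℕ) - (i : ℕ) = δ by omega]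
  congr 1
  rw [hδ, show (i : ℕ) + ((i : ℕ) + δ) = 2 * (i : ℕ) + δ by ring, pow_add, pow_mul]
  simp

/-- For natural numbers n and m, the m × m real Toeplitz matrix with (i, j) entry (-1)^(i+j) · C(2n, n +
|i - j|), i.e. with t_k = (-1)^k C(2n, n + k) on the k-th diagonal for |k| ≤ n and zero beyond, is
positive definite; in particular it is nondegenerate, which is the printed assertion (positive
definiteness is what the printed proof establishes; m = 0 is the empty matrix). -/
theorem result (n m : ℕ) :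
    (Matrix.of fun i j : Fin m =>
        (-1 : ℝ) ^ ((i : ℕ) + (j : ℕ)) * (Nat.choose (2 * n) (n + Nat.dist i j) : ℝ)).PosDef := by
  have key : (Matrix.of fun i j : Fin m =>
        (-1 : ℝ) ^ ((i : ℕ) + (j : ℕ)) * (Nat.choose (2 * n) (n + Nat.dist i j) : ℝ)) =
      (TT n m).conjTranspose * (TT n m) := by
    ext i j
    rw [Matrix.mul_apply]
    simp only [Matrix.conjTranspose_apply, star_trivial, Matrix.of_apply]
    rcases le_total (i : ℕ) (j : ℕ) with hij | hji
    · rw [TT_entry n m i j hij, Nat.dist_eq_sub_of_le hij]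
    · have := TT_entry n m j i hji
      rw [Nat.dist_comm, Nat.dist_eq_sub_of_le hji, add_comm (i : ℕ) (j : ℕ), ← this]
      apply Finset.sum_congr rfl
      intro k _
      rw [mul_comm]
  rw [key]
  exact Matrix.PosDef.conjTranspose_mul_self _ (TT_inj n m)

end Groth.Agent.S19020
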