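import Groth.Statements.S19021
import Groth.Agent.S19020
import Mathlib.LinearAlgebra.Matrix.ToLinearEquiv

set_option autoImplicit false
open Toeplitz

namespace Groth.Agent.S19021


/-- the integer matrix of the statement -/
def AZ (n m : ℕ) : Matrix (Fin m) (Fin m) ℤ :=
  Matrix.of fun i j : Fin m =>
        (-1 : ℤ) ^ ((i : ℕ) + (j : ℕ)) *
          (if (j : ℕ) ≤ (i : ℕ) then (Nat.choose (2 * n + 1) (n + 1 + ((i : ℕ) - (j : ℕ))) : ℤ)
            else (Nat.choose (2 * n + 1) (n + ((j : ℕ) - (i : ℕ))) : ℤ))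

/-- its real version -/
noncomputable def AR (n m : ℕ) : Matrix (Fin m) (Fin m) ℝ := (AZ n m).map (Int.castRingHom ℝ)

lemma choose_mid (n : ℕ) : (2 * n + 1).choose n = (2 * n + 1).choose (n + 1) := by
  have := Nat.choose_symm (n := 2 * n + 1) (k := n) (by omega)
  rw [← this]
  congr 1
  omega

lemma AR_add_transpose (n m : ℕ) :
    AR n m + (AR n m).transpose = Matrix.of fun i j : Fin m =>
        (-1 : ℝ) ^ ((i : ℕ) + (j : ℕ)) * (Nat.choose (2 * (n + 1)) ((n + 1) + Nat.dist i j) : ℝ) := by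
  ext i j
  simp only [AR, AZ, Matrix.add_apply, Matrix.transpose_apply, Matrix.map_apply, Matrix.of_apply,
    Int.coe_castRingHom]
  rcases lt_trichotomy (i : ℕ) (j : ℕ) with h | h | h
  · rw [if_neg (by omega), if_pos (by omega), Nat.dist_eq_sub_of_le h.le,
      add_comm (j : ℕ) (i : ℕ)]
    obtain ⟨k, hk⟩ := Nat.exists_eq_add_of_lt h
    have e1 : (j : ℕ) - (i : ℕ) = k + 1 := by omega
    rw [e1]
    have pas : (2 * (n + 1)).choose (n + 1 + (k + 1)) =
        (2 * n + 1).choose (n + (k + 1)) + (2 * n + 1).choose (n + 1 + (k + 1)) := by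
      rw [show 2 * (n + 1) = (2 * n + 1) + 1 by ring, show n + 1 + (k + 1) = (n + (k + 1)) + 1 by ring,
        Nat.choose_succ_succ]
    rw [pas]
    push_cast
    ring
  · rw [if_pos (by omega), if_pos (by omega), h, Nat.dist_self]
    simp only [Nat.sub_self, add_zero]
    have pas : (2 * (n + 1)).choose (n + 1) =
        (2 * n + 1).choose (n + 1) + (2 * n + 1).choose (n + 1) := by
      rw [show 2 * (n + 1) = (2 * n + 1) + 1 by ring, Nat.choose_succ_succ, choose_mid]
    rw [pas]
    push_cast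
    ring
  · rw [if_pos (by omega), if_neg (by omega), Nat.dist_comm, Nat.dist_eq_sub_of_le h.le,
      add_comm (j : ℕ) (i : ℕ)]
    obtain ⟨k, hk⟩ := Nat.exists_eq_add_of_lt h
    have e1 : (i : ℕ) - (j : ℕ) = k + 1 := by omega
    rw [e1]
    have pas : (2 * (n + 1)).choose (n + 1 + (k + 1)) =
        (2 * n + 1).choose (n + (k + 1)) + (2 * n + 1).choose (n + 1 + (k + 1)) := by
      rw [show 2 * (n + 1) = (2 * n + 1) + 1 by ring, show n + 1 + (k + 1) = (n + (k + 1)) + 1 by ring,
        Nat.choose_succ_succ]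
    rw [pas]
    push_cast
    ring

lemma AR_det_ne_zero (n m : ℕ) : (AR n m).det ≠ 0 := by
  intro hdet
  obtain ⟨v, hv, hAv⟩ := Matrix.exists_mulVec_eq_zero_iff.mpr hdet
  have hpd : (AR n m + (AR n m).transpose).PosDef := by
    rw [AR_add_transpose]
    exact Groth.Agent.S19020.result (n + 1) m
  have hpos := hpd.dotProduct_mulVec_pos hv
  rw [star_trivial, Matrix.add_mulVec, dotProduct_add, hAv, dotProduct_zero, zero_add,
    Matrix.mulVec_transpose, dotProduct_comm, ← Matrix.dotProduct_mulVec, hAv, dotProduct_zero] at hpos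
  exact lt_irrefl _ hpos

/-- For natural numbers n and m, the m × m integer Toeplitz matrix with (i, j) entry (-1)^(i+j) ·
C(2n+1, n+1+i-j) (the binomial coefficient being 0 outside the range 0 ≤ n+1+i-j ≤ 2n+1;
equivalently s_k = (-1)^k C(2n+1, n+k+1) on the diagonal i - j = k for -n-1 ≤ k ≤ n and zero beyond)
is nondegenerate: its determinant is nonzero (m = 0 is the empty matrix, of determinant 1). -/
theorem result (n m : ℕ) :
    (Matrix.of fun i j : Fin m =>
        (-1 : ℤ) ^ ((i : ℕ) + (j : ℕ)) *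
          (if (j : ℕ) ≤ (i : ℕ) then (Nat.choose (2 * n + 1) (n + 1 + ((i : ℕ) - (j : ℕ))) : ℤ)
            else (Nat.choose (2 * n + 1) (n + ((j : ℕ) - (i : ℕ))) : ℤ))).det ≠ 0 := by
  intro h
  apply AR_det_ne_zero n m
  have : (AR n m).det = (Int.castRingHom ℝ) (AZ n m).det := by
    rw [AR, RingHom.map_det]
    rfl
  rw [this]
  change (Int.castRingHom ℝ) (Matrix.det _) = 0
  rw [AZ, h, map_zero]

end Groth.Agent.S19021
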