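import Groth.Statements.S19025
import Mathlib.Algebra.Polynomial.Coeff
import Mathlib.Data.Nat.Choose.Sum
import Mathlib.Algebra.Polynomial.Eval.Defs
import Mathlib.Tactic.Ring

set_option autoImplicit false
universe u
open HigherRestr

namespace Groth.Agent.S19025


open Polynomial in
/-- the `S`-linear functional `X^j ↦ y j` -/
noncomputable def Phi {S : Type*} [CommRing S] (y : ℕ → S) : Polynomial S →ₗ[S] S :=
  Polynomial.lsum (fun j => LinearMap.mulRight S (y j))

open Polynomial in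
lemma Phi_C_mul_X_pow {S : Type*} [CommRing S] (y : ℕ → S) (a : S) (j : ℕ) :
    Phi y (C a * X ^ j) = a * y j := by
  rw [C_mul_X_pow_eq_monomial, Phi, Polynomial.lsum_apply, Polynomial.sum_monomial_index]
  · rfl
  · simp

open Polynomial in
lemma Phi_C_mul {S : Type*} [CommRing S] (y : ℕ → S) (a : S) (P : Polynomial S) :
    Phi y (C a * P) = a * Phi y P := by
  rw [← smul_eq_C_mul, map_smul, smul_eq_mul]

open Polynomial in
lemma Phi_fwdDiff {S : Type*} [CommRing S] (y : ℕ → S) (m : ℕ) :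
    ∀ i : ℕ, Phi y (X ^ i * (X - 1) ^ m) = (fwdDiff (1 : ℕ))^[m] y i := by
  induction m with
  | zero =>
    intro i
    have := Phi_C_mul_X_pow y 1 i
    simpa using this
  | succ m ih =>
    intro i
    have e : (X : Polynomial S) ^ i * (X - 1) ^ (m + 1) =
        X ^ (i + 1) * (X - 1) ^ m - X ^ i * (X - 1) ^ m := by ring
    rw [e, map_sub, ih, ih, Function.iterate_succ_apply']
    rfl

open Polynomial in
lemma Phi_twist {S : Type*} [CommRing S] (y : ℕ → S) (g₀ g₁ : S) (N : ℕ) :
    Phi y ((C g₁ * X + C (-g₀)) ^ N) =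
      (fwdDiff (1 : ℕ))^[N] (fun j : ℕ => g₀ ^ (N - j) * g₁ ^ j * y j) 0 := by
  have h1 := Phi_fwdDiff (fun j : ℕ => g₀ ^ (N - j) * g₁ ^ j * y j) N 0
  rw [pow_zero, one_mul] at h1
  rw [← h1, show (X - 1 : Polynomial S) = X + C (-1) by simp [sub_eq_add_neg],
    (Commute.all _ _).add_pow, (Commute.all _ _).add_pow, map_sum, map_sum]
  apply Finset.sum_congr rfl
  intro m _
  have e1 : (C g₁ * X) ^ m * (C (-g₀)) ^ (N - m) * ((N.choose m : ℕ) : Polynomial S) =
      C (g₁ ^ m * (-g₀) ^ (N - m) * (N.choose m : S)) * X ^ m := by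
    rw [← map_natCast (C : S →+* Polynomial S), mul_pow, ← C_pow, ← C_pow, C_mul, C_mul]
    ring
  have e2 : (X : Polynomial S) ^ m * (C (-1)) ^ (N - m) * ((N.choose m : ℕ) : Polynomial S) =
      C ((-1) ^ (N - m) * (N.choose m : S)) * X ^ m := by
    rw [← map_natCast (C : S →+* Polynomial S), ← C_pow, C_mul]
    ring
  rw [e1, e2, Phi_C_mul_X_pow, Phi_C_mul_X_pow, neg_pow g₀]
  ring

/-- In abstract form, the estimate its proof establishes. Let S be a commutative ring, I an ideal of S,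
g₀ and g₁ elements with g₁ - g₀ ∈ I, N a natural number and y a sequence in S such that, for 1 ≤ i ≤
N, the (N-i)-fold unit-step forward difference of y taken at i lies in I^(N-i). Then g₀^N times the
N-fold forward difference of y at 0, minus the N-fold forward difference at 0 of the twisted
sequence j ↦ g₀^(N-j) g₁^j y_j, lies in I^N. (In the source S is the ring of functions on an affine
chart of X^n, I the ideal of a pairwise diagonal, g₀ and g₁ the two pullbacks of a transition unit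
of L, and y_j the components x_λ along the compositions a₀^(N-j) a₁^j μ; the estimate is what makes
the higher order restrictions D^l_L well defined on ker D^(l-1)_L independently of the
trivialisation.) -/
theorem result
    (S : Type u) [CommRing S] (I : Ideal S) (g₀ g₁ : S) (hg : g₁ - g₀ ∈ I)
    (N : ℕ) (y : ℕ → S)
    (hy : ∀ i : ℕ, 1 ≤ i → i ≤ N → (fwdDiff (1 : ℕ))^[N - i] y i ∈ I ^ (N - i)) :
    g₀ ^ N * (fwdDiff (1 : ℕ))^[N] y 0 -
        (fwdDiff (1 : ℕ))^[N] (fun j : ℕ => g₀ ^ (N - j) * g₁ ^ j * y j) 0 ∈ I ^ N := by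
  open Polynomial in
  have hpoly : (C g₁ * X + C (-g₀) : Polynomial S) = C g₀ * (X - 1) + C (g₁ - g₀) * X := by
    simp only [C_sub, C_neg]
    ring
  rw [← Phi_twist, hpoly, (Commute.all _ _).add_pow, map_sum, Finset.sum_range_succ]
  have hlast : Phi y ((Polynomial.C g₀ * (Polynomial.X - 1)) ^ N *
      (Polynomial.C (g₁ - g₀) * Polynomial.X) ^ (N - N) * ((N.choose N : ℕ) : Polynomial S)) =
      g₀ ^ N * (fwdDiff (1 : ℕ))^[N] y 0 := by
    rw [Nat.sub_self, pow_zero, mul_one, Nat.choose_self, Nat.cast_one, mul_one, mul_pow,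
      ← Polynomial.C_pow, Phi_C_mul]
    have := Phi_fwdDiff y N 0
    rw [pow_zero, one_mul] at this
    rw [this]
  rw [hlast]
  have : g₀ ^ N * (fwdDiff (1 : ℕ))^[N] y 0 -
      (∑ x ∈ Finset.range N, Phi y ((Polynomial.C g₀ * (Polynomial.X - 1)) ^ x *
        (Polynomial.C (g₁ - g₀) * Polynomial.X) ^ (N - x) * ((N.choose x : ℕ) : Polynomial S)) +
        g₀ ^ N * (fwdDiff (1 : ℕ))^[N] y 0) =
      - ∑ x ∈ Finset.range N, Phi y ((Polynomial.C g₀ * (Polynomial.X - 1)) ^ x *
        (Polynomial.C (g₁ - g₀) * Polynomial.X) ^ (N - x) * ((N.choose x : ℕ) : Polynomial S)) := by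
    ring
  rw [this]
  refine (I ^ N).neg_mem ?_
  refine (I ^ N).sum_mem ?_
  intro m hm
  have hmN : m < N := Finset.mem_range.mp hm
  have e : (Polynomial.C g₀ * (Polynomial.X - 1)) ^ m *
        (Polynomial.C (g₁ - g₀) * Polynomial.X) ^ (N - m) * ((N.choose m : ℕ) : Polynomial S) =
      Polynomial.C (g₀ ^ m * (N.choose m : S) * (g₁ - g₀) ^ (N - m)) *
        (Polynomial.X ^ (N - m) * (Polynomial.X - 1) ^ m) := by
    rw [← map_natCast (Polynomial.C : S →+* Polynomial S), mul_pow, mul_pow, ← Polynomial.C_pow,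
      ← Polynomial.C_pow, Polynomial.C_mul, Polynomial.C_mul]
    ring
  rw [e, Phi_C_mul, Phi_fwdDiff]
  have h1 : (g₁ - g₀) ^ (N - m) ∈ I ^ (N - m) := Ideal.pow_mem_pow hg _
  have h2 := hy (N - m) (by omega) (by omega)
  rw [show N - (N - m) = m by omega] at h2
  have h3 : (g₁ - g₀) ^ (N - m) * (fwdDiff (1 : ℕ))^[m] y (N - m) ∈ I ^ N := by
    have := Ideal.mul_mem_mul h1 h2
    rwa [← pow_add, show N - m + m = N by omega] at this
  have : g₀ ^ m * (N.choose m : S) * (g₁ - g₀) ^ (N - m) * (fwdDiff (1 : ℕ))^[m] y (N - m) =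
      (g₀ ^ m * (N.choose m : S)) * ((g₁ - g₀) ^ (N - m) * (fwdDiff (1 : ℕ))^[m] y (N - m)) := by
    ring
  rw [this]
  exact Ideal.mul_mem_left _ _ h3

end Groth.Agent.S19025
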