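import Groth.Statements.S19033
import Mathlib
-- import your own Groth.Agent.* helpers here

set_option autoImplicit false
universe u
open LabGraph

namespace Groth.Agent.S19033

section PRE

variable {V E : Type u} [Fintype V] [Fintype E] [DecidableEq V] [DecidableEq E]
  (ends : E → V × V) (w : V → ℕ)

/-- indicator of `e` being cut by `Z` -/
def cutInd (Z : Finset V) (e : E) : ℕ :=
  if ((ends e).1 ∈ Z ∧ (ends e).2 ∉ Z) ∨ ((ends e).1 ∉ Z ∧ (ends e).2 ∈ Z) then 1 else 0

theorem cut_eq_sum (Z : Finset V) : cut ends Z = ∑ e, cutInd ends Z e := by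
  unfold cut cutInd
  rw [Finset.card_filter]

theorem cutInd_le_one (Z : Finset V) (e : E) : cutInd ends Z e ≤ 1 := by
  unfold cutInd; split_ifs <;> simp

theorem cut_compl (Z : Finset V) : cut ends Zᶜ = cut ends Z := by
  unfold cut
  congr 1
  ext e
  simp only [Finset.mem_filter, Finset.mem_univ, true_and, Finset.mem_compl, not_not]
  tauto

theorem sum_endCount : ∑ v, (endCount ends Finset.univ v : ℤ) = 2 * (Fintype.card E : ℤ) := by
  unfold endCount
  push_cast
  rw [Finset.sum_comm]
  simp only [Finset.sum_add_distrib, Finset.sum_ite_eq, Finset.mem_univ, if_true]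
  simp
  ring

theorem canDeg_univ : canDeg ends w Finset.univ = 2 * genus ends w - 2 := by
  unfold canDeg genus
  rw [Finset.sum_add_distrib, Finset.sum_sub_distrib, sum_endCount, ← Finset.mul_sum]
  simp
  ring

theorem endCount_exc {v : V} (hv : IsExceptional ends w v) : endCount ends Finset.univ v = 2 := by
  obtain ⟨-, hloop, hcut⟩ := hv
  rw [← hcut, cut_eq_sum]
  unfold endCount cutInd
  refine Finset.sum_congr rfl fun e _ => ?_
  have hl := hloop e
  by_cases h1 : (ends e).1 = v <;> by_cases h2 : (ends e).2 = v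
  · exact absurd (Prod.ext h1 h2) hl
  · simp [h1, h2]
  · simp [h1, h2]
  · simp [h1, h2]

theorem canDeg_insert_exc {v : V} (hv : IsExceptional ends w v) (Y : Finset V) (hvY : v ∉ Y) :
    canDeg ends w (insert v Y) = canDeg ends w Y := by
  unfold canDeg
  rw [Finset.sum_insert hvY, endCount_exc ends w hv, hv.1]
  simp

theorem canDeg_erase_exc {v : V} (hv : IsExceptional ends w v) (Y : Finset V) (hvY : v ∈ Y) :
    canDeg ends w (Y.erase v) = canDeg ends w Y := by
  have h := canDeg_insert_exc ends w hv (Y.erase v) (Finset.notMem_erase v Y)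
  rw [Finset.insert_erase hvY] at h
  exact h.symm

/-- edges at v -/
def edgesAt (v : V) : Finset E := Finset.univ.filter (fun e => (ends e).1 = v ∨ (ends e).2 = v)

theorem card_edgesAt_exc {v : V} (hv : IsExceptional ends w v) : (edgesAt ends v).card = 2 := by
  obtain ⟨-, hloop, hcut⟩ := hv
  rw [← hcut]
  unfold edgesAt cut
  congr 1
  ext e
  have hl := hloop e
  simp only [Finset.mem_filter, Finset.mem_univ, true_and, Finset.mem_singleton]
  constructor
  · rintro (h1 | h2)
    · left; refine ⟨h1, fun h2 => hl (Prod.ext h1 h2)⟩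
    · right; refine ⟨fun h1 => hl (Prod.ext h1 h2), h2⟩
  · rintro (⟨h1, -⟩ | ⟨-, h2⟩)
    · exact Or.inl h1
    · exact Or.inr h2

theorem cut_insert_le {v : V} (hv : IsExceptional ends w v) (Y : Finset V) (hvY : v ∉ Y) (e₀ : E)
    (he₀ : ((ends e₀).1 = v ∧ (ends e₀).2 ∈ Y) ∨ ((ends e₀).2 = v ∧ (ends e₀).1 ∈ Y)) :
    cut ends (insert v Y) ≤ cut ends Y := by
  have hsplit : ∀ Z : Finset V, cut ends Z = ∑ e ∈ edgesAt ends v, cutInd ends Z e
      + ∑ e ∈ Finset.univ.filter (fun e => ¬ ((ends e).1 = v ∨ (ends e).2 = v)), cutInd ends Z e := by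
    intro Z
    rw [cut_eq_sum]
    exact (Finset.sum_filter_add_sum_filter_not Finset.univ
      (fun e => (ends e).1 = v ∨ (ends e).2 = v) (cutInd ends Z)).symm
  have hout : ∑ e ∈ Finset.univ.filter (fun e => ¬ ((ends e).1 = v ∨ (ends e).2 = v)),
      cutInd ends (insert v Y) e
      = ∑ e ∈ Finset.univ.filter (fun e => ¬ ((ends e).1 = v ∨ (ends e).2 = v)), cutInd ends Y e := by
    refine Finset.sum_congr rfl fun e he => ?_
    simp only [Finset.mem_filter, Finset.mem_univ, true_and, not_or] at he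
    unfold cutInd
    simp only [Finset.mem_insert, he.1, he.2, false_or]
  have hin : ∀ e ∈ edgesAt ends v, cutInd ends (insert v Y) e + cutInd ends Y e = 1 := by
    intro e he
    simp only [edgesAt, Finset.mem_filter, Finset.mem_univ, true_and] at he
    have hl := hv.2.1 e
    unfold cutInd
    rcases he with h1 | h2
    · have h2 : (ends e).2 ≠ v := fun h2 => hl (Prod.ext h1 h2)
      by_cases hY : (ends e).2 ∈ Y <;> simp [h1, h2, hY, hvY]
    · have h1 : (ends e).1 ≠ v := fun h1 => hl (Prod.ext h1 h2)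
      by_cases hY : (ends e).1 ∈ Y <;> simp [h1, h2, hY, hvY]
  have hsum2 : ∑ e ∈ edgesAt ends v, cutInd ends (insert v Y) e
      + ∑ e ∈ edgesAt ends v, cutInd ends Y e = 2 := by
    rw [← Finset.sum_add_distrib, Finset.sum_congr rfl hin]
    simp [card_edgesAt_exc ends w hv]
  have he₀mem : e₀ ∈ edgesAt ends v := by
    simp only [edgesAt, Finset.mem_filter, Finset.mem_univ, true_and]
    rcases he₀ with ⟨h, -⟩ | ⟨h, -⟩
    · exact Or.inl h
    · exact Or.inr h
  have hge : 1 ≤ ∑ e ∈ edgesAt ends v, cutInd ends Y e := by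
    have h1 : cutInd ends Y e₀ = 1 := by
      unfold cutInd
      rcases he₀ with ⟨h1, h2⟩ | ⟨h2, h1⟩
      · simp [h1, h2, hvY]
      · simp [h1, h2, hvY]
    calc 1 = cutInd ends Y e₀ := h1.symm
      _ ≤ _ := Finset.single_le_sum (f := cutInd ends Y) (fun _ _ => Nat.zero_le _) he₀mem
  rw [hsplit (insert v Y), hsplit Y, hout]
  omega

theorem cut_erase_le {v : V} (hv : IsExceptional ends w v) (Y : Finset V) (hvY : v ∈ Y) (e₀ : E)
    (he₀ : ((ends e₀).1 = v ∧ (ends e₀).2 ∉ Y) ∨ ((ends e₀).2 = v ∧ (ends e₀).1 ∉ Y)) :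
    cut ends (Y.erase v) ≤ cut ends Y := by
  have h := cut_insert_le ends w hv Yᶜ (by simpa using hvY) e₀ (by simpa using he₀)
  rw [cut_compl] at h
  have h2 : insert v Yᶜ = (Y.erase v)ᶜ := by
    ext x
    simp only [Finset.mem_insert, Finset.mem_compl, Finset.mem_erase, not_and, not_not]
    constructor
    · rintro (rfl | h)
      · intro h; exact absurd rfl h
      · intro _ hx; exact absurd hx h
    · intro h
      by_cases hx : x = v
      · exact Or.inl hx
      · exact Or.inr (h hx)
  rw [h2, cut_compl] at h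
  exact h


/-- the sum of a twist over a vertex set -/
theorem sum_twist (Y : Finset V) (φ : V → ℤ) :
    ∑ v ∈ Y, twist ends φ v = ∑ e : E,
      ((if (ends e).1 ∈ Y then φ (ends e).2 - φ (ends e).1 else 0) +
        (if (ends e).2 ∈ Y then φ (ends e).1 - φ (ends e).2 else 0)) := by
  unfold twist
  rw [Finset.sum_comm]
  refine Finset.sum_congr rfl fun e _ => ?_
  rw [Finset.sum_add_distrib, Finset.sum_ite_eq, Finset.sum_ite_eq]

theorem sum_twist_ind_self (Y : Finset V) :
    ∑ v ∈ Y, twist ends (fun u => if u ∈ Y then (1 : ℤ) else 0) v = -(cut ends Y : ℤ) := by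
  rw [sum_twist, cut_eq_sum]
  push_cast
  rw [← Finset.sum_neg_distrib]
  refine Finset.sum_congr rfl fun e _ => ?_
  unfold cutInd
  by_cases h1 : (ends e).1 ∈ Y <;> by_cases h2 : (ends e).2 ∈ Y <;> simp [h1, h2]

theorem sum_twist_ind_sub (Y Z : Finset V) (hZY : Z ⊆ Y)
    (hsep : ∀ e : E, ¬ (((ends e).1 ∈ Z ∧ (ends e).2 ∉ Y) ∨ ((ends e).2 ∈ Z ∧ (ends e).1 ∉ Y))) :
    ∑ v ∈ Y, twist ends (fun u => if u ∈ Z then (1 : ℤ) else 0) v = 0 := by
  rw [sum_twist]
  refine Finset.sum_eq_zero fun e _ => ?_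
  have hs := hsep e
  by_cases h1 : (ends e).1 ∈ Y <;> by_cases h2 : (ends e).2 ∈ Y
  · simp [h1, h2]
  · have h2Z : (ends e).2 ∉ Z := fun h => h2 (hZY h)
    have h1Z : (ends e).1 ∉ Z := fun h => hs (Or.inl ⟨h, h2⟩)
    simp [h1, h2, h1Z, h2Z]
  · have h1Z : (ends e).1 ∉ Z := fun h => h1 (hZY h)
    have h2Z : (ends e).2 ∉ Z := fun h => hs (Or.inr ⟨h, h1⟩)
    simp [h1, h2, h1Z, h2Z]
  · simp [h1, h2]

theorem twist_const (c : ℤ) (v : V) : twist ends (fun _ => c) v = 0 := by
  unfold twist
  simp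

theorem exists_cut_edge (hconn : Connected ends) (Y : Finset V) (hne : Y.Nonempty)
    (huniv : Y ≠ Finset.univ) :
    ∃ e : E, ((ends e).1 ∈ Y ∧ (ends e).2 ∉ Y) ∨ ((ends e).1 ∉ Y ∧ (ends e).2 ∈ Y) := by
  obtain ⟨a, ha⟩ := hne
  obtain ⟨b, hb⟩ : ∃ b, b ∉ Y := by
    by_contra h
    push Not at h
    exact huniv (Finset.eq_univ_iff_forall.2 h)
  have hpath := hconn.2 a b
  have key : ∀ x y : V, Relation.ReflTransGen (Adj ends) x y → x ∈ Y → y ∉ Y →
      ∃ e : E, ((ends e).1 ∈ Y ∧ (ends e).2 ∉ Y) ∨ ((ends e).1 ∉ Y ∧ (ends e).2 ∈ Y) := by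
    intro x y hxy
    induction hxy using Relation.ReflTransGen.head_induction_on with
    | refl => intro hx hy; exact absurd hx hy
    | head hadj hrest ih =>
      rename_i x' z
      intro hx hy
      by_cases hz : z ∈ Y
      · exact ih hz hy
      · obtain ⟨e, he | he⟩ := hadj
        · exact ⟨e, Or.inl (by rw [he]; exact ⟨hx, hz⟩)⟩
        · exact ⟨e, Or.inr (by rw [he]; exact ⟨hz, hx⟩)⟩
  exact key a b hpath ha hb


theorem top_trivial (hX : IsQuasistableGraph ends w) (hg : 2 ≤ genus ends w) (d d' : V → ℤ)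
    (hD : ∑ v, d v = ∑ v, d' v)
    (hBI : SatisfiesBI ends w d) (hBI' : SatisfiesBI ends w d')
    (hone : ∀ v : V, IsExceptional ends w v → d v = 1)
    (hone' : ∀ v : V, IsExceptional ends w v → d' v = 1)
    (hstrict : ∀ Y : Finset V, Y.Nonempty → Y ≠ Finset.univ →
      2 * (canDeg ends w Finset.univ * (∑ v ∈ Y, d v) - (∑ v, d v) * canDeg ends w Y)
          = (cut ends Y : ℤ) * canDeg ends w Finset.univ →
      ∀ e : E, (((ends e).1 ∈ Y ∧ (ends e).2 ∉ Y) ∨ ((ends e).1 ∉ Y ∧ (ends e).2 ∈ Y)) →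
        (IsExceptional ends w (ends e).1 ∨ IsExceptional ends w (ends e).2))
    (Y : Finset V)
    (hextY : 2 * (canDeg ends w Finset.univ * (∑ v ∈ Y, d v) - (∑ v, d v) * canDeg ends w Y)
          = (cut ends Y : ℤ) * canDeg ends w Finset.univ)
    (hd'Y : ∑ v ∈ Y, d' v = ∑ v ∈ Y, d v - (cut ends Y : ℤ)) :
    Y = ∅ ∨ Y = Finset.univ := by
  by_contra hcon
  push Not at hcon
  obtain ⟨hne, huniv⟩ := hcon
  have hne' : Y.Nonempty := hne
  have hK : 0 < canDeg ends w Finset.univ := by rw [canDeg_univ]; linarith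
  obtain ⟨e, he⟩ := exists_cut_edge ends hX.1.1 Y hne' huniv
  have hexc := hstrict Y hne' huniv hextY e he
  have caseA : ∀ v, IsExceptional ends w v → v ∉ Y →
      (∃ e₀, ((ends e₀).1 = v ∧ (ends e₀).2 ∈ Y) ∨ ((ends e₀).2 = v ∧ (ends e₀).1 ∈ Y)) → False := by
    rintro v hv hvY ⟨e₀, he₀⟩
    have hcutle := cut_insert_le ends w hv Y hvY e₀ he₀
    have hcan := canDeg_insert_exc ends w hv Y hvY
    have hbi := hBI (insert v Y)
    rw [Finset.sum_insert hvY, hone v hv, hcan] at hbi
    have habs := le_abs_self (canDeg ends w Finset.univ * (1 + ∑ v ∈ Y, d v)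
      - (∑ v, d v) * canDeg ends w Y)
    have hcut' : (cut ends (insert v Y) : ℤ) * canDeg ends w Finset.univ
        ≤ (cut ends Y : ℤ) * canDeg ends w Finset.univ :=
      mul_le_mul_of_nonneg_right (by exact_mod_cast hcutle) hK.le
    have e1 : canDeg ends w Finset.univ * (1 + ∑ v ∈ Y, d v) - (∑ v, d v) * canDeg ends w Y
        = canDeg ends w Finset.univ
          + (canDeg ends w Finset.univ * (∑ v ∈ Y, d v) - (∑ v, d v) * canDeg ends w Y) := by ring
    rw [e1] at habs hbi
    linarith
  have caseB : ∀ v, IsExceptional ends w v → v ∈ Y →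
      (∃ e₀, ((ends e₀).1 = v ∧ (ends e₀).2 ∉ Y) ∨ ((ends e₀).2 = v ∧ (ends e₀).1 ∉ Y)) → False := by
    rintro v hv hvY ⟨e₀, he₀⟩
    have hcutle := cut_erase_le ends w hv Y hvY e₀ he₀
    have hcan := canDeg_erase_exc ends w hv Y hvY
    have hbi := hBI' (Y.erase v)
    have hs : ∑ u ∈ Y.erase v, d' u = ∑ u ∈ Y, d' u - d' v := by
      rw [← Finset.add_sum_erase Y d' hvY]; ring
    rw [hs, hone' v hv, hd'Y, hcan, ← hD] at hbi
    have habs := neg_le_abs (canDeg ends w Finset.univ * (∑ v ∈ Y, d v - (cut ends Y : ℤ) - 1)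
      - (∑ v, d v) * canDeg ends w Y)
    have hcut' : (cut ends (Y.erase v) : ℤ) * canDeg ends w Finset.univ
        ≤ (cut ends Y : ℤ) * canDeg ends w Finset.univ :=
      mul_le_mul_of_nonneg_right (by exact_mod_cast hcutle) hK.le
    have e1 : canDeg ends w Finset.univ * (∑ v ∈ Y, d v - (cut ends Y : ℤ) - 1)
        - (∑ v, d v) * canDeg ends w Y
        = (canDeg ends w Finset.univ * (∑ v ∈ Y, d v) - (∑ v, d v) * canDeg ends w Y)
          - (cut ends Y : ℤ) * canDeg ends w Finset.univ - canDeg ends w Finset.univ := by ring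
    rw [e1] at habs hbi
    linarith
  rcases he with ⟨h1, h2⟩ | ⟨h1, h2⟩
  · rcases hexc with hv | hv
    · exact caseB _ hv h1 ⟨e, Or.inl ⟨rfl, h2⟩⟩
    · exact caseA _ hv h2 ⟨e, Or.inr ⟨rfl, h1⟩⟩
  · rcases hexc with hv | hv
    · exact caseA _ hv h1 ⟨e, Or.inl ⟨rfl, h2⟩⟩
    · exact caseB _ hv h2 ⟨e, Or.inr ⟨rfl, h1⟩⟩

theorem main (hX : IsQuasistableGraph ends w) (hg : 2 ≤ genus ends w) (d d' : V → ℤ)
    (hD : ∑ v, d v = ∑ v, d' v)
    (hBI : SatisfiesBI ends w d) (hBI' : SatisfiesBI ends w d')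
    (hone : ∀ v : V, IsExceptional ends w v → d v = 1)
    (hone' : ∀ v : V, IsExceptional ends w v → d' v = 1)
    (hstrict : ∀ Y : Finset V, Y.Nonempty → Y ≠ Finset.univ →
      2 * (canDeg ends w Finset.univ * (∑ v ∈ Y, d v) - (∑ v, d v) * canDeg ends w Y)
          = (cut ends Y : ℤ) * canDeg ends w Finset.univ →
      ∀ e : E, (((ends e).1 ∈ Y ∧ (ends e).2 ∉ Y) ∨ ((ends e).1 ∉ Y ∧ (ends e).2 ∈ Y)) →
        (IsExceptional ends w (ends e).1 ∨ IsExceptional ends w (ends e).2))
    (m : ℕ) : ∀ (Z : Fin m → Finset V) (_ : ∀ i j : Fin m, i ≤ j → Z i ⊆ Z j)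
    (_ : ∀ i : Fin m, 2 * (canDeg ends w Finset.univ * (∑ v ∈ Z i, d v)
          - (∑ v, d v) * canDeg ends w (Z i))
          = (cut ends (Z i) : ℤ) * canDeg ends w Finset.univ)
    (_ : ∀ i j : Fin m, j < i → ∀ e : E,
      ¬ (((ends e).1 ∈ Z j ∧ (ends e).2 ∉ Z i) ∨ ((ends e).2 ∈ Z j ∧ (ends e).1 ∉ Z i)))
    (_ : ∀ v : V, d' v = d v
      + ∑ i : Fin m, twist ends (fun u => if u ∈ Z i then (1 : ℤ) else 0) v),
    d = d' := by
  induction m with
  | zero =>
    intro Z _ _ _ hsum
    funext v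
    rw [hsum v]; simp
  | succ m ih =>
    intro Z hmono hext hsep hsum
    have hd'Y : ∑ v ∈ Z (Fin.last m), d' v
        = ∑ v ∈ Z (Fin.last m), d v - (cut ends (Z (Fin.last m)) : ℤ) := by
      rw [Finset.sum_congr rfl fun v _ => hsum v, Finset.sum_add_distrib, Finset.sum_comm,
        Fin.sum_univ_castSucc, sum_twist_ind_self]
      have h0 : ∑ i : Fin m, ∑ v ∈ Z (Fin.last m),
          twist ends (fun u => if u ∈ Z i.castSucc then (1 : ℤ) else 0) v = 0 :=
        Finset.sum_eq_zero fun i _ => sum_twist_ind_sub ends (Z (Fin.last m)) (Z i.castSucc)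
          (hmono _ _ (Fin.le_last _)) (hsep (Fin.last m) i.castSucc (Fin.castSucc_lt_last i))
      rw [h0]; ring
    have htriv := top_trivial ends w hX hg d d' hD hBI hBI' hone hone' hstrict
      (Z (Fin.last m)) (hext (Fin.last m)) hd'Y
    have hzero : ∀ v, twist ends (fun u => if u ∈ Z (Fin.last m) then (1 : ℤ) else 0) v = 0 := by
      intro v
      rcases htriv with h | h
      · rw [h]
        simpa using twist_const ends 0 v
      · rw [h]
        simpa using twist_const ends 1 v
    apply ih (fun i => Z i.castSucc) (fun i j hij => hmono _ _ (by simpa using hij))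
      (fun i => hext _) (fun i j hji e => hsep _ _ (by simpa using hji) e)
    intro v
    rw [hsum v, Fin.sum_univ_castSucc, hzero v, add_zero]

end PRE

open LabGraph in
/-- Let X be a quasi-wp-stable curve of genus g ≥ 2 over an algebraically closed field, encoded by a
weighted multigraph: vertices are the irreducible components C_v, with the weight w v and the loops
at v chosen so that w v plus the number of loops at v is the arithmetic genus of C_v; two distinct
components are joined by one edge for each node and by two edges for each tacnode at which they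
meet. For a set Y of vertices (a subcurve) canDeg Y is then deg_Y ω_X = 2 g_Y − 2 + k_Y and cut Y is
k_Y, the length of the intersection of Y with its complementary subcurve; a vertex is exceptional
(weight zero, loopless, exactly two edges to other vertices) exactly when C_v is an exceptional
component; the twist of the indicator function of Y is the multidegree Σ_{C ⊆ Y} C of the degree
class group construction; and the graph is a connected quasistable graph. Let d, d' be properly
balanced multidegrees of the same total degree D (each satisfies the Basic Inequality 2·|K·d_Y −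
D·canDeg Y| ≤ cut Y·K for every Y, where K = 2g − 2 = canDeg of the whole graph, and takes the value
1 on every exceptional vertex), with d strictly balanced: for every nonempty proper Y with d_Y equal
to the upper extreme, i.e. 2(K·d_Y − D·canDeg Y) = K·cut Y, every edge with exactly one endpoint in
Y has an exceptional endpoint. Suppose d' = d + Σ_i twist(1_{Z_i}) for nested vertex sets Z_1 ⊆ ⋯ ⊆
Z_m, each with d at its upper extreme, such that for j < i no edge joins a vertex of Z_j to a vertex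
outside Z_i. Then d = d'. (The source assumes only that d − d' lies in the lattice generated by the
multidegrees of the components and takes the existence of such a nested family from an earlier paper
it cites without proof; this row carries that description as its hypothesis.) -/
theorem result {V E : Type u} [Fintype V] [Fintype E]
    [DecidableEq V] [DecidableEq E] (ends : E → V × V) (w : V → ℕ) (hX : IsQuasistableGraph ends w)
    (hg : 2 ≤ genus ends w) (d d' : V → ℤ) (hD : ∑ v, d v = ∑ v, d' v)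
    (hBI : SatisfiesBI ends w d) (hBI' : SatisfiesBI ends w d')
    (hone : ∀ v : V, IsExceptional ends w v → d v = 1) (hone' : ∀ v : V, IsExceptional ends w v → d' v = 1)
    (hstrict : ∀ Y : Finset V, Y.Nonempty → Y ≠ Finset.univ →
      2 * (canDeg ends w Finset.univ * (∑ v ∈ Y, d v) - (∑ v, d v) * canDeg ends w Y)
          = (cut ends Y : ℤ) * canDeg ends w Finset.univ →
      ∀ e : E, (((ends e).1 ∈ Y ∧ (ends e).2 ∉ Y) ∨ ((ends e).1 ∉ Y ∧ (ends e).2 ∈ Y)) →
        (IsExceptional ends w (ends e).1 ∨ IsExceptional ends w (ends e).2))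
    (m : ℕ) (Z : Fin m → Finset V) (hmono : ∀ i j : Fin m, i ≤ j → Z i ⊆ Z j)
    (hext : ∀ i : Fin m, 2 * (canDeg ends w Finset.univ * (∑ v ∈ Z i, d v) - (∑ v, d v) * canDeg ends w (Z i))
          = (cut ends (Z i) : ℤ) * canDeg ends w Finset.univ)
    (hsep : ∀ i j : Fin m, j < i → ∀ e : E,
      ¬ (((ends e).1 ∈ Z j ∧ (ends e).2 ∉ Z i) ∨ ((ends e).2 ∈ Z j ∧ (ends e).1 ∉ Z i)))
    (hsum : ∀ v : V, d' v = d v + ∑ i : Fin m, twist ends (fun u => if u ∈ Z i then (1 : ℤ) else 0) v) :
    d = d' := by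
  exact main ends w hX hg d d' hD hBI hBI' hone hone' hstrict m Z hmono hext hsep hsum

end Groth.Agent.S19033
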