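import Groth.Statements.S19034
import Mathlib
import Groth.Agent.S19033
-- import your own Groth.Agent.* helpers here

set_option autoImplicit false
universe u
open LabGraph

namespace Groth.Agent.S19034

section PRE

open Groth.Agent.S19033

variable {V E : Type u} [Fintype V] [Fintype E] [DecidableEq V] [DecidableEq E]
  (ends : E → V × V) (w : V → ℕ)

/-- the other endpoint(s) of `e` seen from `v` lie in `W` -/
def otherIn (W : Finset V) (v : V) (e : E) : Prop :=
  ((ends e).1 = v → (ends e).2 ∈ W) ∧ ((ends e).2 = v → (ends e).1 ∈ W)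

instance (W : Finset V) (v : V) (e : E) : Decidable (otherIn ends W v e) := by
  unfold otherIn; infer_instance

theorem vertex_sum {v : V} (hv : IsExceptional ends w v) (W Z : Finset V)
    (hZ : ∀ e : E, ((ends e).1 = v → ((ends e).2 ∈ Z ↔ (ends e).2 ∈ W)) ∧
      ((ends e).2 = v → ((ends e).1 ∈ Z ↔ (ends e).1 ∈ W))) :
    ∑ e ∈ edgesAt ends v, cutInd ends Z e =
      if v ∈ Z then ((edgesAt ends v).filter (fun e => ¬ otherIn ends W v e)).card
      else ((edgesAt ends v).filter (fun e => otherIn ends W v e)).card := by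
  have hloop := hv.2.1
  split_ifs with hvZ
  · rw [Finset.card_filter]
    refine Finset.sum_congr rfl fun e he => ?_
    simp only [edgesAt, Finset.mem_filter, Finset.mem_univ, true_and] at he
    have hl := hloop e
    unfold cutInd otherIn
    rcases he with h1 | h2
    · have h2 : (ends e).2 ≠ v := fun h2 => hl (Prod.ext h1 h2)
      have hz := (hZ e).1 h1
      by_cases hW : (ends e).2 ∈ W
      · have : (ends e).2 ∈ Z := hz.2 hW
        simp [h1, h2, hW, this, hvZ]
      · have : (ends e).2 ∉ Z := fun h => hW (hz.1 h)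
        simp [h1, h2, hW, this, hvZ]
    · have h1 : (ends e).1 ≠ v := fun h1 => hl (Prod.ext h1 h2)
      have hz := (hZ e).2 h2
      by_cases hW : (ends e).1 ∈ W
      · have : (ends e).1 ∈ Z := hz.2 hW
        simp [h1, h2, hW, this, hvZ]
      · have : (ends e).1 ∉ Z := fun h => hW (hz.1 h)
        simp [h1, h2, hW, this, hvZ]
  · rw [Finset.card_filter]
    refine Finset.sum_congr rfl fun e he => ?_
    simp only [edgesAt, Finset.mem_filter, Finset.mem_univ, true_and] at he
    have hl := hloop e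
    unfold cutInd otherIn
    rcases he with h1 | h2
    · have h2 : (ends e).2 ≠ v := fun h2 => hl (Prod.ext h1 h2)
      have hz := (hZ e).1 h1
      by_cases hW : (ends e).2 ∈ W
      · have : (ends e).2 ∈ Z := hz.2 hW
        simp [h1, h2, hW, this, hvZ]
      · have : (ends e).2 ∉ Z := fun h => hW (hz.1 h)
        simp [h1, h2, hW, this, hvZ]
    · have h1 : (ends e).1 ≠ v := fun h1 => hl (Prod.ext h1 h2)
      have hz := (hZ e).2 h2
      by_cases hW : (ends e).1 ∈ W
      · have : (ends e).1 ∈ Z := hz.2 hW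
        simp [h1, h2, hW, this, hvZ]
      · have : (ends e).1 ∉ Z := fun h => hW (hz.1 h)
        simp [h1, h2, hW, this, hvZ]


theorem cut_le_of_agree (S W Z₁ Z₂ : Finset V) (hS : ∀ v ∈ S, IsExceptional ends w v)
    (hnoSS : ∀ e : E, ¬ ((ends e).1 ∈ S ∧ (ends e).2 ∈ S))
    (hZ₁ : ∀ u, u ∉ S → (u ∈ Z₁ ↔ u ∈ W)) (hZ₂ : ∀ u, u ∉ S → (u ∈ Z₂ ↔ u ∈ W))
    (hmin : ∀ v ∈ S, (v ∈ Z₁ ↔ ∀ e : E, otherIn ends W v e)) :
    cut ends Z₁ ≤ cut ends Z₂ := by
  classical
  have hsplit : ∀ Z : Finset V, cut ends Z =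
      ∑ e ∈ Finset.univ.filter (fun e => (ends e).1 ∉ S ∧ (ends e).2 ∉ S), cutInd ends Z e
      + ∑ v ∈ S, ∑ e ∈ edgesAt ends v, cutInd ends Z e := by
    intro Z
    rw [cut_eq_sum, ← Finset.sum_filter_add_sum_filter_not Finset.univ
      (fun e => (ends e).1 ∉ S ∧ (ends e).2 ∉ S)]
    congr 1
    rw [← Finset.sum_biUnion]
    · refine Finset.sum_congr ?_ fun _ _ => rfl
      ext e
      simp only [Finset.mem_filter, Finset.mem_univ, true_and, Finset.mem_biUnion, edgesAt]
      constructor
      · intro h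
        by_cases h1 : (ends e).1 ∈ S
        · exact ⟨_, h1, Or.inl rfl⟩
        · by_cases h2 : (ends e).2 ∈ S
          · exact ⟨_, h2, Or.inr rfl⟩
          · exact absurd ⟨h1, h2⟩ h
      · rintro ⟨v, hv, h | h⟩
        · rw [h]; exact fun hh => hh.1 hv
        · rw [h]; exact fun hh => hh.2 hv
    · intro v hv v' hv' hne
      rw [Function.onFun, Finset.disjoint_left]
      intro e he he'
      simp only [edgesAt, Finset.mem_filter, Finset.mem_univ, true_and] at he he'
      have hvS : v ∈ S := hv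
      have hv'S : v' ∈ S := hv'
      rcases he with h | h <;> rcases he' with h' | h'
      · exact hne (h.symm.trans h')
      · exact hnoSS e ⟨h ▸ hvS, h' ▸ hv'S⟩
      · exact hnoSS e ⟨h' ▸ hv'S, h ▸ hvS⟩
      · exact hne (h.symm.trans h')
  rw [hsplit Z₁, hsplit Z₂]
  have h0 : ∑ e ∈ Finset.univ.filter (fun e => (ends e).1 ∉ S ∧ (ends e).2 ∉ S), cutInd ends Z₁ e
      = ∑ e ∈ Finset.univ.filter (fun e => (ends e).1 ∉ S ∧ (ends e).2 ∉ S), cutInd ends Z₂ e := by
    refine Finset.sum_congr rfl fun e he => ?_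
    simp only [Finset.mem_filter, Finset.mem_univ, true_and] at he
    unfold cutInd
    simp only [hZ₁ _ he.1, hZ₁ _ he.2, hZ₂ _ he.1, hZ₂ _ he.2]
  rw [h0]
  refine Nat.add_le_add_left (Finset.sum_le_sum fun v hv => ?_) _
  have hvexc := hS v hv
  have hother : ∀ (Z : Finset V), (∀ u, u ∉ S → (u ∈ Z ↔ u ∈ W)) →
      ∀ e : E, ((ends e).1 = v → ((ends e).2 ∈ Z ↔ (ends e).2 ∈ W)) ∧
      ((ends e).2 = v → ((ends e).1 ∈ Z ↔ (ends e).1 ∈ W)) := by
    intro Z hZ e
    constructor
    · intro h1
      exact hZ _ (fun h2 => hnoSS e ⟨h1 ▸ hv, h2⟩)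
    · intro h2
      exact hZ _ (fun h1 => hnoSS e ⟨h1, h2 ▸ hv⟩)
  rw [vertex_sum ends w hvexc W Z₁ (hother Z₁ hZ₁), vertex_sum ends w hvexc W Z₂ (hother Z₂ hZ₂)]
  have hab : ((edgesAt ends v).filter (fun e => otherIn ends W v e)).card
      + ((edgesAt ends v).filter (fun e => ¬ otherIn ends W v e)).card = 2 := by
    rw [Finset.card_filter_add_card_filter_not, card_edgesAt_exc ends w hvexc]
  by_cases hb : ((edgesAt ends v).filter (fun e => ¬ otherIn ends W v e)).card = 0
  · have hvZ₁ : v ∈ Z₁ := by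
      rw [hmin v hv]
      intro e
      by_contra hne
      have hmem : e ∈ (edgesAt ends v).filter (fun e => ¬ otherIn ends W v e) := by
        rw [Finset.mem_filter]
        refine ⟨?_, hne⟩
        simp only [edgesAt, Finset.mem_filter, Finset.mem_univ, true_and]
        unfold otherIn at hne
        by_contra hcon
        push Not at hcon
        exact hne ⟨fun h => absurd h hcon.1, fun h => absurd h hcon.2⟩
      rw [Finset.card_eq_zero] at hb
      rw [hb] at hmem
      simp at hmem
    rw [if_pos hvZ₁, hb]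
    exact Nat.zero_le _
  · have hvZ₁ : v ∉ Z₁ := by
      rw [hmin v hv]
      intro hall
      apply hb
      rw [Finset.card_eq_zero, Finset.filter_eq_empty_iff]
      intro e _
      exact not_not.2 (hall e)
    rw [if_neg hvZ₁]
    split_ifs <;> omega


theorem main (hZ : IsQuasistableGraph ends w)
    (hg : 2 ≤ genus ends w) (S : Finset V) (hS : ∀ v ∈ S, IsExceptional ends w v)
    (dt : V → ℤ) (hzero : ∀ v ∈ S, dt v = 0)
    (hBI : ∀ W : Finset V, Disjoint W S →
      2 * |canDeg ends w Finset.univ * (∑ v ∈ W, dt v) - (∑ v, dt v) * canDeg ends w (Finset.univ.filter (fun v : V => v ∈ W ∨ (v ∈ S ∧ ∀ e : E, ((ends e).1 = v → (ends e).2 ∈ W) ∧ ((ends e).2 = v → (ends e).1 ∈ W))))|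
        ≤ (cut ends (Finset.univ.filter (fun v : V => v ∈ W ∨ (v ∈ S ∧ ∀ e : E, ((ends e).1 = v → (ends e).2 ∈ W) ∧ ((ends e).2 = v → (ends e).1 ∈ W)))) : ℤ) * canDeg ends w Finset.univ) :
    SatisfiesBI ends w dt := by
  classical
  intro Y
  obtain ⟨W, hW⟩ : ∃ W, W = Y.filter (fun v => v ∉ S) := ⟨_, rfl⟩
  have hdisj : Disjoint W S := by
    rw [Finset.disjoint_left]; intro v hv; rw [hW] at hv; exact (Finset.mem_filter.1 hv).2
  obtain ⟨What, hWhat⟩ : ∃ What, What = Finset.univ.filter (fun v : V => v ∈ W ∨ (v ∈ S ∧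
      ∀ e : E, ((ends e).1 = v → (ends e).2 ∈ W) ∧ ((ends e).2 = v → (ends e).1 ∈ W))) := ⟨_, rfl⟩
  have hbi := hBI W hdisj
  rw [← hWhat] at hbi
  have hsumY : ∑ v ∈ Y, dt v = ∑ v ∈ W, dt v := by
    rw [hW, ← Finset.sum_filter_add_sum_filter_not Y (fun v => v ∉ S)]
    have : ∑ v ∈ Y.filter (fun v => ¬ v ∉ S), dt v = 0 :=
      Finset.sum_eq_zero (fun v hv => hzero v (by simpa using (Finset.mem_filter.1 hv).2))
    rw [this, add_zero]
  have hcanS : ∀ v ∈ S, (2 * (w v : ℤ) - 2 + (endCount ends Finset.univ v : ℤ)) = 0 := by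
    intro v hv
    have := hS v hv
    rw [endCount_exc ends w this, this.1]; simp
  have hcan : ∀ Z : Finset V, (∀ u, u ∉ S → (u ∈ Z ↔ u ∈ W)) →
      canDeg ends w Z = canDeg ends w W := by
    intro Z hZ'
    unfold canDeg
    rw [← Finset.sum_filter_add_sum_filter_not Z (fun v => v ∉ S)]
    have h0 : ∑ v ∈ Z.filter (fun v => ¬ v ∉ S),
        (2 * (w v : ℤ) - 2 + (endCount ends Finset.univ v : ℤ)) = 0 :=
      Finset.sum_eq_zero (fun v hv => hcanS v (by simpa using (Finset.mem_filter.1 hv).2))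
    rw [h0, add_zero]
    refine Finset.sum_congr ?_ (fun _ _ => rfl)
    ext u
    simp only [Finset.mem_filter]
    constructor
    · rintro ⟨h1, h2⟩; exact (hZ' u h2).1 h1
    · intro h
      have h2 : u ∉ S := Finset.disjoint_left.1 hdisj h
      exact ⟨(hZ' u h2).2 h, h2⟩
  have hZY : ∀ u, u ∉ S → (u ∈ Y ↔ u ∈ W) := by intro u hu; simp [hW, hu]
  have hZW : ∀ u, u ∉ S → (u ∈ What ↔ u ∈ W) := by intro u hu; simp [hWhat, hu]
  have hnoSS : ∀ e : E, ¬ ((ends e).1 ∈ S ∧ (ends e).2 ∈ S) := by
    rintro e ⟨h1, h2⟩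
    by_cases hne : (ends e).1 = (ends e).2
    · exact (hS _ h1).2.1 e (Prod.ext rfl hne.symm)
    · exact hZ.2 e hne ⟨hS _ h1, hS _ h2⟩
  have hmin : ∀ v ∈ S, (v ∈ What ↔ ∀ e : E, otherIn ends W v e) := by
    intro v hv
    simp only [hWhat, Finset.mem_filter, Finset.mem_univ, true_and, otherIn]
    constructor
    · rintro (h | ⟨_, h⟩)
      · exact absurd hv (Finset.disjoint_left.1 hdisj h)
      · exact h
    · intro h; exact Or.inr ⟨hv, h⟩
  have hcut := cut_le_of_agree ends w S W What Y hS hnoSS hZW hZY hmin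
  have hK : 0 ≤ canDeg ends w Finset.univ := by rw [canDeg_univ]; linarith
  rw [hsumY, hcan Y hZY, ← hcan What hZW]
  calc _ ≤ (cut ends What : ℤ) * canDeg ends w Finset.univ := hbi
    _ ≤ _ := mul_le_mul_of_nonneg_right (by exact_mod_cast hcut) hK

end PRE

open LabGraph in
/-- Let σ : Z → X be the contraction of some exceptional components of a quasi-wp-stable curve Z of
genus g ≥ 2 onto a quasi-wp-stable curve X, and d a properly balanced multidegree on X; then the
pull-back d̃ of d to Z (d̃_W = d_{σ(W)} when σ(W) is a curve, d̃ = 0 on contracted components) is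
balanced. Encode Z by its weighted multigraph (vertices = irreducible components, weight plus number
of loops = arithmetic genus of the component, one edge per node and two per tacnode joining distinct
components; canDeg Y = deg_Y ω_Z, cut Y = k_Y, K = canDeg of all vertices = 2g − 2; exceptional
vertex = exceptional component), and let S be the set of contracted components, each an exceptional
vertex. The components of X are the vertices outside S; for a set W of them, the subcurve σ(W) of X
has deg ω_X equal to canDeg Ŵ and k equal to cut Ŵ, where Ŵ is W together with the vertices of S all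
of whose edges end in W, and the exceptional components of X are the exceptional vertices outside S.
So the hypotheses below say that d̃ vanishes on S and that d = d̃|_{V∖S} is properly balanced on X
(Basic Inequality 2·|K·d_W − D·canDeg Ŵ| ≤ cut Ŵ·K for every W disjoint from S, D the total degree,
and value 1 on exceptional vertices outside S); the conclusion is the Basic Inequality for d̃ on Z,
for every set of vertices. -/
theorem result {V E : Type u} [Fintype V] [Fintype E]
    [DecidableEq V] [DecidableEq E] (ends : E → V × V) (w : V → ℕ) (hZ : IsQuasistableGraph ends w)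
    (hg : 2 ≤ genus ends w) (S : Finset V) (hS : ∀ v ∈ S, IsExceptional ends w v)
    (dt : V → ℤ) (hzero : ∀ v ∈ S, dt v = 0)
    (hBI : ∀ W : Finset V, Disjoint W S →
      2 * |canDeg ends w Finset.univ * (∑ v ∈ W, dt v) - (∑ v, dt v) * canDeg ends w (Finset.univ.filter (fun v : V => v ∈ W ∨ (v ∈ S ∧ ∀ e : E, ((ends e).1 = v → (ends e).2 ∈ W) ∧ ((ends e).2 = v → (ends e).1 ∈ W))))|
        ≤ (cut ends (Finset.univ.filter (fun v : V => v ∈ W ∨ (v ∈ S ∧ ∀ e : E, ((ends e).1 = v → (ends e).2 ∈ W) ∧ ((ends e).2 = v → (ends e).1 ∈ W)))) : ℤ) * canDeg ends w Finset.univ)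
    (hone : ∀ v : V, v ∉ S → IsExceptional ends w v → dt v = 1) :
    SatisfiesBI ends w dt := by
  exact main ends w hZ hg S hS dt hzero hBI

end Groth.Agent.S19034
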