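import Groth.Statements.S19035
-- import your own Groth.Agent.* helpers here

set_option autoImplicit false
universe u v w x
open CAlg

namespace Groth.Agent.S19035

/-- Let p be a prime and k a perfect field of characteristic p. Let (A_i) be a directed system of
finitely generated commutative k-algebras, indexed by a nonempty directed preorder, with compatible
k-algebra transition maps, and let B be a finitely generated k-algebra with compatible k-algebra
maps A_i → B which present B as the direct limit of the system (every element of B is the image of
an element of some A_i, and two elements of some A_i with the same image in B have the same image in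
some A_j). Then the p-typical Witt vectors commute with this direct limit: every Witt vector over B
is the image of a Witt vector over some A_i, and two Witt vectors over some A_i with the same image
over B already have the same image over some A_j. (Both finiteness hypotheses matter: for an
arbitrary filtered direct limit of commutative rings either assertion can fail.) -/
theorem result
    (p : ℕ) [Fact p.Prime] (k : Type u) [Field k] [CharP k p] [PerfectRing k p]
    {ι : Type v} [Preorder ι] [IsDirected ι (· ≤ ·)] [Nonempty ι]
    (A : ι → Type w) [∀ i, CommRing (A i)] [∀ i, Algebra k (A i)]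
    [∀ i, Algebra.FiniteType k (A i)]
    (f : ∀ i j, i ≤ j → (A i →ₐ[k] A j))
    (hf : ∀ i j l (hij : i ≤ j) (hjl : j ≤ l) (x : A i),
      f j l hjl (f i j hij x) = f i l (hij.trans hjl) x)
    (B : Type x) [CommRing B] [Algebra k B] [Algebra.FiniteType k B]
    (g : ∀ i, A i →ₐ[k] B)
    (hfg : ∀ i j (hij : i ≤ j) (x : A i), g j (f i j hij x) = g i x)
    (hsurj : ∀ b : B, ∃ i, ∃ x : A i, g i x = b)
    (hinj : ∀ i (x y : A i), g i x = g i y → ∃ j, ∃ hij : i ≤ j, f i j hij x = f i j hij y) :
    (∀ w : WittVector p B, ∃ i, ∃ v : WittVector p (A i),
        WittVector.map (g i).toRingHom v = w) ∧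
    (∀ i (v v' : WittVector p (A i)),
        WittVector.map (g i).toRingHom v = WittVector.map (g i).toRingHom v' →
        ∃ j, ∃ hij : i ≤ j,
          WittVector.map (f i j hij).toRingHom v = WittVector.map (f i j hij).toRingHom v') := by
  classical
  constructor
  · -- surjectivity
    have hmono : ∀ i j (_ : i ≤ j) (b : B), b ∈ Set.range (g i) → b ∈ Set.range (g j) := by
      rintro i j hij b ⟨x, rfl⟩
      exact ⟨f i j hij x, hfg i j hij x⟩
    obtain ⟨s, hs⟩ := (Algebra.FiniteType.out : (⊤ : Subalgebra k B).FG)
    have key : ∀ t : Finset B, ∃ i, ∀ b ∈ t, b ∈ Set.range (g i) := by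
      intro t
      induction t using Finset.induction_on with
      | empty => exact ⟨Classical.arbitrary ι, by simp⟩
      | insert a t ha ih =>
        obtain ⟨i₁, h₁⟩ := ih
        obtain ⟨i₂, x, hx⟩ := hsurj a
        obtain ⟨j, h1j, h2j⟩ := exists_ge_ge i₁ i₂
        refine ⟨j, ?_⟩
        intro b hb
        rcases Finset.mem_insert.mp hb with rfl | hb
        · exact hmono i₂ j h2j _ ⟨x, hx⟩
        · exact hmono i₁ j h1j _ (h₁ b hb)
    obtain ⟨i₀, hi₀⟩ := key s
    have hsurj₀ : Function.Surjective (g i₀) := by
      have hle : Algebra.adjoin k (s : Set B) ≤ (g i₀).range := by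
        refine Algebra.adjoin_le ?_
        intro b hb
        exact hi₀ b hb
      rw [hs] at hle
      intro b
      exact hle (Algebra.mem_top : b ∈ (⊤ : Subalgebra k B))
    intro w
    refine ⟨i₀, WittVector.mk p (fun n => (hsurj₀ (w.coeff n)).choose), ?_⟩
    ext n
    rw [WittVector.map_coeff, WittVector.coeff_mk]
    exact (hsurj₀ (w.coeff n)).choose_spec
  · -- injectivity
    intro i v v' hvv'
    have hcoeff : ∀ n, g i (v.coeff n) = g i (v'.coeff n) := by
      intro n
      have := congrArg (fun u => WittVector.coeff u n) hvv'
      simpa [WittVector.map_coeff] using this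
    have : IsNoetherianRing (A i) := Algebra.FiniteType.isNoetherianRing k (A i)
    let K : Ideal (A i) := RingHom.ker (g i).toRingHom
    obtain ⟨t, ht⟩ := (IsNoetherian.noetherian K : K.FG)
    change Ideal.span (t : Set (A i)) = K at ht
    have key : ∀ t' : Finset (A i), (∀ c ∈ t', c ∈ K) →
        ∃ j, ∃ hij : i ≤ j, ∀ c ∈ t', f i j hij c = 0 := by
      intro t'
      induction t' using Finset.induction_on with
      | empty => intro _; exact ⟨i, le_refl i, by simp⟩
      | insert a t' ha ih =>
        intro hK
        obtain ⟨j₁, h1, hj₁⟩ := ih (fun c hc => hK c (Finset.mem_insert_of_mem hc))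
        have haK : g i a = g i 0 := by
          have : a ∈ K := hK a (Finset.mem_insert_self a t')
          rw [map_zero]
          exact this
        obtain ⟨j₂, h2, hj₂⟩ := hinj i a 0 haK
        rw [map_zero] at hj₂
        obtain ⟨j, h1j, h2j⟩ := exists_ge_ge j₁ j₂
        refine ⟨j, h1.trans h1j, ?_⟩
        intro c hc
        rcases Finset.mem_insert.mp hc with rfl | hc
        · rw [← hf i j₂ j h2 h2j, hj₂, map_zero]
        · rw [← hf i j₁ j h1 h1j, hj₁ c hc, map_zero]
    obtain ⟨j, hij, hj⟩ := key t (fun c hc => by
      have : c ∈ Ideal.span (t : Set (A i)) := Ideal.subset_span hc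
      rw [ht] at this
      exact this)
    have hK : K ≤ RingHom.ker (f i j hij).toRingHom := by
      rw [← ht, Ideal.span_le]
      intro c hc
      exact hj c hc
    refine ⟨j, hij, ?_⟩
    ext n
    rw [WittVector.map_coeff, WittVector.map_coeff]
    have hmem : v.coeff n - v'.coeff n ∈ K := by
      change (g i) (v.coeff n - v'.coeff n) = 0
      rw [map_sub, hcoeff n, sub_self]
    have := hK hmem
    change (f i j hij) (v.coeff n - v'.coeff n) = 0 at this
    rw [map_sub, sub_eq_zero] at this
    exact this

end Groth.Agent.S19035
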