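import Groth.Statements.S19037
-- import your own Groth.Agent.* helpers here

set_option autoImplicit false
universe u v
open scoped Polynomial LaurentPolynomial
open Instab

namespace Groth.Agent.S19037

/-- Affine form over a ring R. Let A be a commutative ℤ-graded R-algebra and t an element of degree −1
(so A is a graded algebra over R[t] with t in degree −1), and let ψ : A[1/t] → R[T, T⁻¹] be an
R-algebra map sending t to T which is graded, in the sense that each homogeneous element of degree n
of A goes to an element of R times T^(−n). Then ψ is obtained by inverting t from an R-algebra map χ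
: A → R[T] (compared through the inclusion of R[T] in R[T, T⁻¹]) if and only if ψ kills t·a for
every homogeneous a of degree 1; such a χ is unique. (The source states this for quasi-coherent
graded algebras over an arbitrary base scheme; the statement is local on the base and is given here
over an affine base.) -/
theorem result
    {R : Type u} {A : Type v} [CommRing R] [CommRing A] [Algebra R A]
    (𝒜 : ℤ → Submodule R A) [GradedAlgebra 𝒜] (t : A) (ht : t ∈ 𝒜 (-1))
    (ψ : Localization.Away t →ₐ[R] R[T;T⁻¹])
    (hψt : ψ (algebraMap A (Localization.Away t) t) = LaurentPolynomial.T 1)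
    (hψ : ∀ (n : ℤ) (a : A), a ∈ 𝒜 n →
      ∃ r : R, ψ (algebraMap A (Localization.Away t) a) = LaurentPolynomial.C r * LaurentPolynomial.T (-n)) :
    (∃! χ : A →ₐ[R] R[X], ∀ a : A,
        ψ (algebraMap A (Localization.Away t) a) = Polynomial.toLaurentAlg (χ a)) ↔
      ∀ a ∈ 𝒜 1, ψ (algebraMap A (Localization.Away t) (t * a)) = 0 := by
  classical
  constructor
  · rintro ⟨χ, hχ, -⟩ a ha
    obtain ⟨r, hr⟩ := hψ 1 a ha
    have h1 := hχ a
    rw [hr] at h1
    have hcoef : (LaurentPolynomial.C r * LaurentPolynomial.T (-1) : R[T;T⁻¹]).coeff (-1) = r := by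
      rw [← LaurentPolynomial.single_eq_C_mul_T, AddMonoidAlgebra.coeff_single,
        Finsupp.single_eq_same]
    have hcoef2 : (Polynomial.toLaurentAlg (χ a) : R[T;T⁻¹]).coeff (-1) = 0 := by
      rw [Polynomial.toLaurentAlg_apply, ← Finsupp.notMem_support_iff,
        LaurentPolynomial.support_coeff_toLaurent]
      simp
    have hr0 : r = 0 := by rw [← hcoef, h1, hcoef2]
    rw [map_mul, map_mul, hr, hr0]
    simp
  · intro H
    let S : Subalgebra R R[T;T⁻¹] := (Polynomial.toLaurentAlg (R := R)).range
    let φ : A →ₐ[R] R[T;T⁻¹] := ψ.comp (IsScalarTower.toAlgHom R A (Localization.Away t))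
    have hφ : ∀ a, φ a = ψ (algebraMap A (Localization.Away t) a) := fun a => rfl
    have hTunit : ∀ (n : ℤ) (x : R[T;T⁻¹]), LaurentPolynomial.T n * x = 0 → x = 0 := by
      intro n x hx
      have := congrArg (fun y => LaurentPolynomial.T (-n) * y) hx
      simp only [← mul_assoc, ← LaurentPolynomial.T_add, mul_zero] at this
      simpa using this
    have K : ∀ a : A, φ a ∈ S := by
      intro a
      induction a using DirectSum.Decomposition.inductionOn 𝒜 with
      | zero => rw [map_zero]; exact S.zero_mem
      | add a b ha hb => rw [map_add]; exact S.add_mem ha hb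
      | homogeneous a =>
        rename_i n
        obtain ⟨a, ha⟩ := a
        obtain ⟨r, hr⟩ := hψ n a ha
        change φ a ∈ S
        rw [hφ, hr]
        rcases le_or_gt n 0 with hn | hn
        · obtain ⟨k, hk⟩ := Int.exists_eq_neg_ofNat hn
          refine ⟨Polynomial.C r * Polynomial.X ^ k, ?_⟩
          change Polynomial.toLaurent (Polynomial.C r * Polynomial.X ^ k) = _
          rw [Polynomial.toLaurent_C_mul_X_pow, hk, neg_neg]
        · obtain ⟨k, hk⟩ : ∃ k : ℕ, n = (k : ℤ) + 1 := ⟨(n - 1).toNat, by omega⟩
          -- t^k * a ∈ 𝒜 1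
          have htk : t ^ k ∈ 𝒜 (k • (-1 : ℤ)) := SetLike.pow_mem_graded k ht
          have hta : t ^ k * a ∈ 𝒜 1 := by
            have := SetLike.mul_mem_graded htk ha
            convert this using 2
            rw [hk]; simp
          have h0 := H _ hta
          rw [← mul_assoc, ← pow_succ', map_mul, map_mul, map_pow, map_pow, hψt, hr,
            LaurentPolynomial.T_pow] at h0
          have h1 := hTunit _ _ h0
          rw [h1]
          exact S.zero_mem
    let e : Polynomial R ≃ₐ[R] S :=
      AlgEquiv.ofInjective (Polynomial.toLaurentAlg (R := R)) Polynomial.toLaurent_injective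
    let χ : A →ₐ[R] Polynomial R := (e.symm : S →ₐ[R] Polynomial R).comp (φ.codRestrict S K)
    have hχ : ∀ a, Polynomial.toLaurentAlg (χ a) = φ a := by
      intro a
      have := e.apply_symm_apply (φ.codRestrict S K a)
      exact congrArg Subtype.val this
    refine ⟨χ, fun a => (hχ a).symm, ?_⟩
    intro χ' hχ'
    ext1 a
    apply Polynomial.toLaurent_injective
    have h1 := hχ' a
    have h2 := hχ a
    rw [Polynomial.toLaurentAlg_apply] at h1 h2
    rw [← h1, h2, hφ]

end Groth.Agent.S19037
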