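import Groth.Statements.S19040
import Mathlib
import Groth.Agent.Lib.Helper20.PnSmooth
import Groth.Agent.Lib.Helper35.FiberStalk
import Groth.Agent.Lib.Helper53.FinProdInd
-- import your own Groth.Agent.* helpers here

set_option autoImplicit false
universe u
open CategoryTheory CategoryTheory.Limits AlgebraicGeometry
open Cyc

namespace Groth.Agent.S19040

section PRE
open CategoryTheory CategoryTheory.Limits AlgebraicGeometry
open Groth.Agent.Lib.Proj TensorProduct

/-- points of `Spec R` have coheight at most `dim R`. -/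
lemma coheight_spec_le (R : CommRingCat.{u}) (x : Spec R) (n : ℕ) (h : ringKrullDim R ≤ n) :
    Order.coheight x ≤ n := by
  rw [← idealHeight_eq_coheight]
  have h1 := Ideal.height_le_ringKrullDim_of_isPrime (I := x.asIdeal)
  exact_mod_cast h1.trans h

lemma coheight_iso {Y Y' : Scheme.{u}} (e : Y ≅ Y') (y : Y) :
    Order.coheight (e.hom y) = Order.coheight y :=
  coheight_eq_of_isOpenImmersion e.hom

/-- the ring `ℤ'[t] ⊗ K` has dimension one. -/
lemma dim_tensor (σ : Type) [Finite σ] (R₀ K : Type u) [CommRing R₀] [Field K] [Algebra R₀ K] :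
    ringKrullDim (MvPolynomial σ R₀ ⊗[R₀] K) = Nat.card σ := by
  have e1 : (MvPolynomial σ R₀ ⊗[R₀] K) ≃+* (K ⊗[R₀] MvPolynomial σ R₀) :=
    (Algebra.TensorProduct.comm R₀ (MvPolynomial σ R₀) K).toRingEquiv
  have e2 : (K ⊗[R₀] MvPolynomial σ R₀) ≃+* MvPolynomial σ K :=
    (MvPolynomial.algebraTensorAlgEquiv R₀ K).toRingEquiv
  rw [ringKrullDim_eq_of_ringEquiv (e1.trans e2), MvPolynomial.ringKrullDim_of_isNoetherianRing,
    ringKrullDim_eq_zero_of_field]
  simp

/-- points of a base change of an affine line to a field have coheight at most one. -/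
lemma coheight_le_of_isPullback_affine (σ : Type) [Finite σ] (R₀ : Type u) (K : Type u)
    [CommRing R₀] [Field K]
    {V : Scheme.{u}} (a : V ⟶ Spec (CommRingCat.of (MvPolynomial σ R₀)))
    (b : V ⟶ Spec (CommRingCat.of K))
    (t : Spec (CommRingCat.of K) ⟶ Spec (CommRingCat.of R₀))
    (h : IsPullback a b (Spec.map (CommRingCat.ofHom (MvPolynomial.C : R₀ →+* MvPolynomial σ R₀))) t)
    (v : V) : Order.coheight v ≤ Nat.card σ := by
  obtain ⟨φ, rfl⟩ := Spec.map_surjective t
  letI : Algebra R₀ K := φ.hom.toAlgebra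
  have hφ : φ = CommRingCat.ofHom (algebraMap R₀ K) := rfl
  have hC : (CommRingCat.ofHom (MvPolynomial.C : R₀ →+* MvPolynomial σ R₀)) =
      CommRingCat.ofHom (algebraMap R₀ (MvPolynomial σ R₀)) := rfl
  rw [hφ, hC] at h
  let e : V ≅ Spec (CommRingCat.of (MvPolynomial σ R₀ ⊗[R₀] K)) :=
    h.isoPullback ≪≫ pullbackSpecIso R₀ (MvPolynomial σ R₀) K
  rw [← coheight_iso e v]
  apply coheight_spec_le
  rw [show ringKrullDim (CommRingCat.of (MvPolynomial σ R₀ ⊗[R₀] K)) =
    ringKrullDim (MvPolynomial σ R₀ ⊗[R₀] K) from rfl, dim_tensor]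

/-- the class of base changes of `P^1_ℤ → Spec ℤ`. -/
def IsP1Bundle {Y Z : Scheme.{u}} (g : Y ⟶ Z) : Prop :=
  ∃ fst : Y ⟶ CohB1.ProjSpace 1 (ULift.{u} ℤ),
    IsPullback fst g (CohB1.ProjSpace.toSpec 1 (ULift.{u} ℤ)) (specULiftZIsTerminal.from Z)

lemma isP1Bundle_toBase (X : Scheme.{u}) : IsP1Bundle (CohB1.ProjSpaceOver.toBase 1 X) :=
  ⟨pullback.fst _ _, IsPullback.of_hasPullback _ _⟩

lemma IsP1Bundle.of_isPullback {Y Z Y' Z' : Scheme.{u}} {g : Y ⟶ Z} {g' : Y' ⟶ Z'} {a : Y' ⟶ Y}
    {b : Z' ⟶ Z} (sq : IsPullback a g' g b) (hg : IsP1Bundle g) : IsP1Bundle g' := by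
  obtain ⟨fst, hp⟩ := hg
  refine ⟨a ≫ fst, ?_⟩
  have := sq.paste_horiz hp
  rwa [specULiftZIsTerminal.hom_ext (b ≫ specULiftZIsTerminal.from Z)
    (specULiftZIsTerminal.from Z')] at this

lemma IsP1Bundle.locallyOfFiniteType {Y Z : Scheme.{u}} {g : Y ⟶ Z} (hg : IsP1Bundle g) :
    LocallyOfFiniteType g := by
  obtain ⟨fst, hp⟩ := hg
  haveI : IsProper (CohB1.ProjSpace.toSpec 1 (ULift.{u} ℤ)) :=
    Groth.Agent.S9705.isProper_toSpec 1 _
  exact MorphismProperty.of_isPullback (P := @LocallyOfFiniteType) hp inferInstance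

lemma card_chart_index (i : Fin (1 + 1)) : Nat.card {j : Fin (1 + 1) // j ≠ i} = 1 := by
  rw [Nat.card_eq_fintype_card]
  fin_cases i <;> decide

lemma coheight_le_one_of_isP1Bundle_field (K : Type u) [Field K] {Y : Scheme.{u}}
    (g : Y ⟶ Spec (CommRingCat.of K)) (hg : IsP1Bundle g) (y : Y) : Order.coheight y ≤ 1 := by
  obtain ⟨fst, hp⟩ := hg
  obtain ⟨i, hi⟩ := exists_mem_range_chart 1 (ULift.{u} ℤ) (fst y)
  have hy : y ∈ Set.range (pullback.fst fst (chart 1 (ULift.{u} ℤ) i)) := by
    rw [Scheme.Pullback.range_fst]; exact hi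
  obtain ⟨v, rfl⟩ := hy
  rw [coheight_eq_of_isOpenImmersion]
  have sq1 : IsPullback (pullback.snd fst (chart 1 (ULift.{u} ℤ) i))
      (pullback.fst fst (chart 1 (ULift.{u} ℤ) i)) (chart 1 (ULift.{u} ℤ) i) fst :=
    (IsPullback.of_hasPullback fst (chart 1 (ULift.{u} ℤ) i)).flip
  have sq2 := sq1.paste_vert hp
  rw [chart_toSpec] at sq2
  have := coheight_le_of_isPullback_affine {j : Fin (1 + 1) // j ≠ i} (ULift.{u} ℤ) K _ _ _ sq2 v
  rw [card_chart_index] at this
  exact_mod_cast this

lemma coheight_fiber_le_add_one {Y Z : Scheme.{u}} [IsLocallyNoetherian Z] (g : Y ⟶ Z)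
    (hg : IsP1Bundle g) (z : Z) (t : g.fiber z) :
    Order.coheight ((g.fiberι z).base t) ≤ Order.coheight (g.base ((g.fiberι z).base t)) + 1 := by
  haveI : LocallyOfFiniteType g := hg.locallyOfFiniteType
  haveI : IsLocallyNoetherian Y := LocallyOfFiniteType.isLocallyNoetherian g
  have hfib : IsP1Bundle (g.fiberToSpecResidueField z) :=
    IsP1Bundle.of_isPullback (IsPullback.of_hasPullback g (Z.fromSpecResidueField z)) hg
  have h1 : Order.coheight t ≤ 1 :=
    coheight_le_one_of_isP1Bundle_field (Z.residueField z) (g.fiberToSpecResidueField z) hfib t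
  -- stalks
  let y : Y := (g.fiberι z).base t
  let φ : Z.presheaf.stalk (g.base y) →+* Y.presheaf.stalk y := (g.stalkMap y).hom
  let ψ : Y.presheaf.stalk y →+* (g.fiber z).presheaf.stalk t := ((g.fiberι z).stalkMap t).hom
  have hker : RingHom.ker ψ = (IsLocalRing.maximalIdeal _).map φ :=
    Groth.Agent.Lib.Helper35.FiberStalk.ker_stalkMap_fiberι g z t
  have hsurj : Function.Surjective ψ :=
    Groth.Agent.Lib.Helper35.FiberStalk.stalkMap_fiberι_surjective g z t
  letI : Algebra (Z.presheaf.stalk (g.base y)) (Y.presheaf.stalk y) := φ.toAlgebra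
  haveI hloc : IsLocalHom φ := inferInstanceAs (IsLocalHom (g.stalkMap y).hom)
  have hcomap : (IsLocalRing.maximalIdeal (Y.presheaf.stalk y)).comap φ =
      IsLocalRing.maximalIdeal (Z.presheaf.stalk (g.base y)) :=
    ((IsLocalRing.local_hom_TFAE φ).out 0 4).mp hloc
  haveI : (IsLocalRing.maximalIdeal (Y.presheaf.stalk y)).LiesOver
      (IsLocalRing.maximalIdeal (Z.presheaf.stalk (g.base y))) := ⟨hcomap.symm⟩
  have key := Ideal.height_le_height_add_of_liesOver
    (IsLocalRing.maximalIdeal (Z.presheaf.stalk (g.base y)))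
    (IsLocalRing.maximalIdeal (Y.presheaf.stalk y))
  have hI : (IsLocalRing.maximalIdeal (Z.presheaf.stalk (g.base y))).map
      (algebraMap _ (Y.presheaf.stalk y)) = RingHom.ker ψ := hker.symm
  have h3 : ((IsLocalRing.maximalIdeal (Y.presheaf.stalk y)).map
      (Ideal.Quotient.mk ((IsLocalRing.maximalIdeal (Z.presheaf.stalk (g.base y))).map
        (algebraMap _ (Y.presheaf.stalk y))))).height ≤ 1 := by
    rw [hI]
    have hle : RingHom.ker ψ ≤ IsLocalRing.maximalIdeal (Y.presheaf.stalk y) := by
      rw [hker, Ideal.map_le_iff_le_comap, hcomap]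
    have hne : (IsLocalRing.maximalIdeal (Y.presheaf.stalk y)).map
        (Ideal.Quotient.mk (RingHom.ker ψ)) ≠ ⊤ := by
      intro htop
      have := congrArg (Ideal.comap (Ideal.Quotient.mk (RingHom.ker ψ))) htop
      rw [Ideal.comap_map_of_surjective _ Ideal.Quotient.mk_surjective, Ideal.comap_top,
        ← RingHom.ker_eq_comap_bot, Ideal.mk_ker, sup_eq_left.mpr hle] at this
      exact (IsLocalRing.maximalIdeal.isMaximal _).ne_top this
    have h4 := Ideal.height_le_ringKrullDim_of_ne_top hne
    have e := RingHom.quotientKerEquivOfSurjective hsurj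
    rw [ringKrullDim_eq_of_ringEquiv e, ringKrullDim_stalk_eq_coheight] at h4
    have h5 : (((IsLocalRing.maximalIdeal (Y.presheaf.stalk y)).map
        (Ideal.Quotient.mk (RingHom.ker ψ))).height : WithBot ℕ∞) ≤ ((1 : ℕ∞) : WithBot ℕ∞) :=
      h4.trans (by exact_mod_cast h1)
    exact_mod_cast h5
  have hC : (IsLocalRing.maximalIdeal (Y.presheaf.stalk y)).height = Order.coheight y := by
    have := IsLocalRing.maximalIdeal_height_eq_ringKrullDim (R := Y.presheaf.stalk y)
    rw [ringKrullDim_stalk_eq_coheight] at this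
    exact_mod_cast this
  have hA : (IsLocalRing.maximalIdeal (Z.presheaf.stalk (g.base y))).height =
      Order.coheight (g.base y) := by
    have := IsLocalRing.maximalIdeal_height_eq_ringKrullDim (R := Z.presheaf.stalk (g.base y))
    rw [ringKrullDim_stalk_eq_coheight] at this
    exact_mod_cast this
  rw [hC, hA] at key
  exact key.trans (add_le_add le_rfl h3)

lemma coheight_le_add_one {Y Z : Scheme.{u}} [IsLocallyNoetherian Z] (g : Y ⟶ Z)
    (hg : IsP1Bundle g) (y : Y) : Order.coheight y ≤ Order.coheight (g.base y) + 1 := by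
  let t : g.fiber (g.base y) := (g.fiberHomeo (g.base y)).symm ⟨y, rfl⟩
  have ht : (g.fiberι (g.base y)).base t = y :=
    Scheme.Hom.fiberι_fiberHomeo_symm g (g.base y) ⟨y, rfl⟩
  have := coheight_fiber_le_add_one g hg (g.base y) t
  rwa [ht] at this

/-- universal bound `dim O_{Y,y} ≤ dim O_{Z,z} + d` for all locally Noetherian base changes. -/
def DimBound (X : Scheme.{u}) (d : ℕ) (Y : Over X) : Prop :=
  ∀ (Z Y' : Scheme.{u}) [IsLocallyNoetherian Z] (b : Z ⟶ X) (a : Y' ⟶ Y.left) (g' : Y' ⟶ Z),
    IsPullback a g' Y.hom b →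
      LocallyOfFiniteType g' ∧ ∀ y' : Y', Order.coheight y' ≤ Order.coheight (g'.base y') + d

lemma dimBound_toBase (X : Scheme.{u}) :
    DimBound X 1 (Over.mk (CohB1.ProjSpaceOver.toBase 1 X)) := by
  intro Z Y' _ b a g' sq
  have hg' : IsP1Bundle g' := IsP1Bundle.of_isPullback sq (isP1Bundle_toBase X)
  exact ⟨hg'.locallyOfFiniteType, fun y' => by exact_mod_cast coheight_le_add_one g' hg' y'⟩

lemma DimBound.of_iso {X : Scheme.{u}} {d : ℕ} {Y Y₂ : Over X} (e : Y ≅ Y₂) (h : DimBound X d Y) :
    DimBound X d Y₂ := by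
  intro Z Y' _ b a g' sq
  have sq' : IsPullback (a ≫ e.inv.left) g' Y.hom b := by
    refine IsPullback.of_iso sq (Iso.refl _) ((Over.forget X).mapIso e.symm) (Iso.refl _) (Iso.refl _)
      ?_ ?_ ?_ ?_
    · simp
    · simp
    · simp
    · simp
  exact h Z Y' b _ g' sq'

lemma DimBound.binary {X : Scheme.{u}} {d₁ d₂ : ℕ} {Y Z : Over X} {P : Scheme.{u}}
    (fst : P ⟶ Y.left) (snd : P ⟶ Z.left) (sqI : IsPullback fst snd Y.hom Z.hom)
    (hY : DimBound X d₁ Y) (hZ : DimBound X d₂ Z) :
    DimBound X (d₁ + d₂) (Over.mk (fst ≫ Y.hom)) := by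
  intro W T _ β α γ sqII
  change IsPullback α γ (fst ≫ Y.hom) β at sqII
  -- the base change of Z
  have sqIII : IsPullback (pullback.fst Z.hom β) (pullback.snd Z.hom β) Z.hom β :=
    IsPullback.of_hasPullback _ _
  obtain ⟨hft2, hb2⟩ := hZ W _ β _ _ sqIII
  haveI := hft2
  haveI : IsLocallyNoetherian (pullback Z.hom β) :=
    LocallyOfFiniteType.isLocallyNoetherian (pullback.snd Z.hom β)
  have hcomm : (α ≫ snd) ≫ Z.hom = γ ≫ β := by
    rw [Category.assoc, ← sqI.w, sqII.w]
  let δ : T ⟶ pullback Z.hom β := pullback.lift (α ≫ snd) γ hcomm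
  have hδ1 : δ ≫ pullback.fst Z.hom β = α ≫ snd := pullback.lift_fst _ _ _
  have hδ2 : δ ≫ pullback.snd Z.hom β = γ := pullback.lift_snd _ _ _
  -- left square
  have sqA : IsPullback δ α (pullback.fst Z.hom β) snd := by
    refine IsPullback.of_right ?_ hδ1 sqIII.flip
    rw [hδ2, ← sqI.w]
    exact sqII.flip
  have sqIV : IsPullback (α ≫ fst) δ Y.hom (pullback.fst Z.hom β ≫ Z.hom) :=
    (sqA.paste_vert sqI.flip).flip
  obtain ⟨hft1, hb1⟩ := hY (pullback Z.hom β) T (pullback.fst Z.hom β ≫ Z.hom) _ _ sqIV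
  haveI := hft1
  refine ⟨?_, fun t => ?_⟩
  · rw [← hδ2]; infer_instance
  · have h1 := hb1 t
    have h2 := hb2 (δ.base t)
    have h3 : (pullback.snd Z.hom β).base (δ.base t) = γ.base t := by
      rw [← Scheme.Hom.comp_apply, hδ2]
    rw [h3] at h2
    calc Order.coheight t ≤ Order.coheight (δ.base t) + d₁ := h1
      _ ≤ (Order.coheight (γ.base t) + d₂) + d₁ := add_le_add h2 le_rfl
      _ = Order.coheight (γ.base t) + ((d₁ + d₂ : ℕ) : ℕ∞) := by
        push_cast; rw [add_assoc, add_comm (d₂ : ℕ∞)]

theorem prop_of_isLimit_fan' {D : Type*} [Category D] [HasFiniteProducts D] (Q : ℕ → D → Prop)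
    (hiso : ∀ {d : ℕ} {A B : D}, (A ≅ B) → Q d A → Q d B)
    (hbin : ∀ {a b : ℕ} {A B : D} (c : BinaryFan A B), IsLimit c → Q a A → Q b B → Q (a + b) c.pt) :
    ∀ (n : ℕ) (f : Fin (n + 1) → D), (∀ k, Q 1 (f k)) → ∀ (c : Fan f), IsLimit c →
      Q (n + 1) c.pt := by
  intro n
  induction n with
  | zero =>
    intro f hf c hc
    have : Unique (Fin (0 + 1)) := inferInstanceAs (Unique (Fin 1))
    have e := hc.conePointUniqueUpToIso (limitConeOfUnique f).isLimit
    exact hiso e.symm (hf _)
  | succ n ih =>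
    intro f hf c hc
    let c₁ : Fan (fun i : Fin (n + 1) => f i.succ) := limit.cone _
    have h₁ : IsLimit c₁ := limit.isLimit _
    have q₁ : Q (n + 1) c₁.pt := ih (fun i => f i.succ) (fun i => hf _) c₁ h₁
    let c₂ : BinaryFan (f 0) c₁.pt := limit.cone (pair (f 0) c₁.pt)
    have h₂ : IsLimit c₂ := limit.isLimit _
    have q₂ : Q (1 + (n + 1)) c₂.pt := hbin c₂ h₂ (hf 0) q₁
    have h₃ : IsLimit (extendFan c₁ c₂) := extendFanIsLimit f h₁ h₂
    have e : c.pt ≅ (extendFan c₁ c₂).pt := hc.conePointUniqueUpToIso h₃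
    have q₃ : Q (n + 1 + 1) c₂.pt := by
      have h : 1 + (n + 1) = n + 1 + 1 := by omega
      rw [h] at q₂
      exact q₂
    exact hiso e.symm q₃

theorem prop_widePullback_base' {C : Type*} [Category C] [HasFiniteWidePullbacks C] {B : C}
    (Q : ℕ → Over B → Prop)
    (hiso : ∀ {d : ℕ} {Y Z : Over B}, (Y ≅ Z) → Q d Y → Q d Z)
    (hbin : ∀ {a b : ℕ} {Y Z : Over B} {P : C} (fst : P ⟶ Y.left) (snd : P ⟶ Z.left),
      IsPullback fst snd Y.hom Z.hom → Q a Y → Q b Z → Q (a + b) (Over.mk (fst ≫ Y.hom)))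
    (n : ℕ) (objs : Fin (n + 1) → C) (arrows : ∀ k, objs k ⟶ B)
    (h : ∀ k, Q 1 (Over.mk (arrows k))) :
    Q (n + 1) (Over.mk (WidePullback.base arrows)) := by
  have : HasFiniteProducts (Over B) :=
    Over.ConstructProducts.over_finiteProducts_of_finiteWidePullbacks
  let F : Discrete (Fin (n + 1)) ⥤ Over B := Discrete.functor (fun k => Over.mk (arrows k))
  let c₀ : Cone (Over.ConstructProducts.widePullbackDiagramOfDiagramOver B F) :=
    limit.cone (WidePullbackShape.wideCospan B objs arrows)
  have hc₀ : IsLimit c₀ := limit.isLimit _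
  let e := Over.ConstructProducts.conesEquiv B F
  have hc₁ : IsLimit (e.functor.obj c₀) := (IsLimit.ofConeEquiv e).symm hc₀
  have hbin' : ∀ {a b : ℕ} {A A' : Over B} (c : BinaryFan A A'), IsLimit c → Q a A → Q b A' →
      Q (a + b) c.pt := by
    intro a b A A' c hc hA hA'
    have sq := Over.isPullback_of_binaryFan_isLimit c hc
    have := hbin _ _ sq hA hA'
    have e : Over.mk (c.fst.left ≫ A.hom) ≅ c.pt := Over.isoMk (Iso.refl _)
      (by simpa using (Over.w c.fst).symm)
    exact hiso e this
  exact prop_of_isLimit_fan' Q hiso hbin' n (fun k => Over.mk (arrows k)) h (e.functor.obj c₀) hc₁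

lemma dimBound_base (X : Scheme.{u}) (m : ℕ) :
    DimBound X (m + 1) (Over.mk (WidePullback.base
      (fun _ : Fin (m + 1) => CohB1.ProjSpaceOver.toBase 1 X))) :=
  prop_widePullback_base' (fun d Y => DimBound X d Y) (fun e h => h.of_iso e)
    (fun fst snd sq hY hZ => DimBound.binary fst snd sq hY hZ) m
    (fun _ => CohB1.ProjSpaceOver 1 X) (fun _ => CohB1.ProjSpaceOver.toBase 1 X)
    (fun _ => dimBound_toBase X)

lemma isProper_base (X : Scheme.{u}) (m : ℕ) :
    IsProper (WidePullback.base (fun _ : Fin (m + 1) => CohB1.ProjSpaceOver.toBase 1 X)) := by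
  refine Groth.Agent.Helper53.FinProdInd.prop_widePullback_base (fun Y : Over X => IsProper Y.hom)
    ?_ ?_ m (fun _ => CohB1.ProjSpaceOver 1 X) (fun _ => CohB1.ProjSpaceOver.toBase 1 X)
    (fun _ => Groth.Agent.Lib.Helper20.PnSmooth.isProper_toBase 1 X)
  · intro Y Z e hY
    haveI : IsProper Y.hom := hY
    have : Z.hom = e.inv.left ≫ Y.hom := by simp
    show IsProper Z.hom
    rw [this]; infer_instance
  · intro Y Z P fst snd sq hY hZ
    haveI : IsProper Y.hom := hY
    haveI : IsProper Z.hom := hZ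
    haveI : IsProper fst := MorphismProperty.of_isPullback (P := @IsProper) sq.flip hZ
    show IsProper (fst ≫ Y.hom)
    infer_instance

lemma coheight_base_le (X : Scheme.{u}) [IsLocallyNoetherian X] (m : ℕ)
    (y : (widePullback X (fun _ : Fin (m + 1) => CohB1.ProjSpaceOver 1 X)
      (fun _ => CohB1.ProjSpaceOver.toBase 1 X) : Scheme.{u})) :
    Order.coheight y ≤ Order.coheight
      ((WidePullback.base (fun _ : Fin (m + 1) => CohB1.ProjSpaceOver.toBase 1 X)).base y)
        + ((m + 1 : ℕ) : ℕ∞) :=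
  ((dimBound_base X m) X _ (𝟙 X) (𝟙 _) _ (IsPullback.id_horiz _)).2 y


lemma height_max_eq_coheight {W : Scheme.{u}} (w : W) :
    (IsLocalRing.maximalIdeal (W.presheaf.stalk w)).height = Order.coheight w := by
  have := IsLocalRing.maximalIdeal_height_eq_ringKrullDim (R := W.presheaf.stalk w)
  rw [ringKrullDim_stalk_eq_coheight] at this
  exact_mod_cast this

lemma coheight_ge_of_flat {W X : Scheme.{u}} [IsLocallyNoetherian W] [IsLocallyNoetherian X]
    (f : W ⟶ X) [Flat f] (w : W) :
    Order.coheight (f.base w) ≤ Order.coheight w := by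
  let φ : X.presheaf.stalk (f.base w) →+* W.presheaf.stalk w := (f.stalkMap w).hom
  letI : Algebra (X.presheaf.stalk (f.base w)) (W.presheaf.stalk w) := φ.toAlgebra
  haveI : Module.Flat (X.presheaf.stalk (f.base w)) (W.presheaf.stalk w) := Flat.stalkMap f w
  haveI hloc : IsLocalHom φ := inferInstanceAs (IsLocalHom (f.stalkMap w).hom)
  have hcomap : (IsLocalRing.maximalIdeal (W.presheaf.stalk w)).comap φ =
      IsLocalRing.maximalIdeal (X.presheaf.stalk (f.base w)) :=
    ((IsLocalRing.local_hom_TFAE φ).out 0 4).mp hloc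
  haveI : (IsLocalRing.maximalIdeal (W.presheaf.stalk w)).LiesOver
      (IsLocalRing.maximalIdeal (X.presheaf.stalk (f.base w))) := ⟨hcomap.symm⟩
  have key := Ideal.height_eq_height_add_of_liesOver_of_hasGoingDown
    (IsLocalRing.maximalIdeal (X.presheaf.stalk (f.base w)))
    (IsLocalRing.maximalIdeal (W.presheaf.stalk w))
  rw [height_max_eq_coheight, height_max_eq_coheight] at key
  rw [key]
  exact le_self_add

lemma strictMono_of_isEmbedding {W P : Scheme.{u}} (i : W ⟶ P) (hi : Topology.IsEmbedding i.base) :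
    StrictMono (i.base : W → P) := by
  intro a b hab
  rw [lt_iff_le_not_ge] at hab ⊢
  simp only [Scheme.le_iff_specializes] at hab ⊢
  rw [hi.isInducing.specializes_iff, hi.isInducing.specializes_iff]
  exact hab

lemma coheight_le_of_codim {X W : Scheme.{u}} [IsLocallyNoetherian X] (m : ℕ) [IrreducibleSpace W]
    (i : W ⟶ widePullback X (fun _ : Fin (m + 1) => CohB1.ProjSpaceOver 1 X)
      (fun _ => CohB1.ProjSpaceOver.toBase 1 X)) [IsClosedImmersion i]
    (hcodim : Order.coheight (i.base (genericPoint W)) = ((m + 1 : ℕ) : ℕ∞)) (w' : W) :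
    Order.coheight w' ≤ Order.coheight
      ((i ≫ WidePullback.base (fun _ : Fin (m + 1) => CohB1.ProjSpaceOver.toBase 1 X)).base w') := by
  apply Order.coheight_le
  intro p hp
  have hmono := strictMono_of_isEmbedding i i.isEmbedding
  let q : LTSeries _ := p.map i.base hmono
  have hlast : q.last ≤ i.base (genericPoint W) := by
    rw [LTSeries.last_map, Scheme.le_iff_specializes]
    exact (genericPoint_specializes p.last).map i.continuous
  have hn : ((m + 1 : ℕ) : ℕ∞) ≤ Order.coheight q.last := by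
    rw [← hcodim]; exact Order.coheight_anti hlast
  obtain ⟨r, hr1, hr2⟩ := Order.exists_series_of_le_coheight q.last hn
  let s := q.smash r hr1.symm
  have h1 : (s.length : ℕ∞) ≤ Order.coheight s.head := Order.length_le_coheight_head
  have h2 : s.length = p.length + (m + 1) := by
    show q.length + r.length = _
    rw [hr2]; rfl
  have h3 : s.head = i.base w' := by
    rw [RelSeries.head_smash, LTSeries.head_map, hp]
  rw [h2, h3] at h1
  have hub := coheight_base_le X m (i.base w')
  have h4 : ((p.length : ℕ∞) + ((m + 1 : ℕ) : ℕ∞)) ≤ Order.coheight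
      ((i ≫ WidePullback.base (fun _ : Fin (m + 1) => CohB1.ProjSpaceOver.toBase 1 X)).base w')
        + ((m + 1 : ℕ) : ℕ∞) := by
    refine le_trans ?_ hub
    exact_mod_cast h1
  exact (ENat.add_le_add_iff_right (ENat.coe_ne_top _)).mp h4

/-- no nontrivial specializations inside the fibres. -/
lemma eq_of_specializes_of_fiber {X W : Scheme.{u}} [IsLocallyNoetherian X] [IsLocallyNoetherian W]
    (f : W ⟶ X) [Flat f]
    (hle : ∀ w' : W, Order.coheight w' ≤ Order.coheight (f.base w'))
    {w w' : W} (hsp : w ⤳ w') (hf : f.base w = f.base w') : w = w' := by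
  by_contra hne
  have hlt : w' < w := by
    rw [lt_iff_le_not_ge]
    simp only [Scheme.le_iff_specializes]
    refine ⟨hsp, fun h => hne ?_⟩
    exact (hsp.antisymm h).eq
  have h1 := Order.coheight_add_one_le hlt
  have h2 := coheight_ge_of_flat f w
  have h3 := hle w'
  rw [hf] at h2
  have hfin : Order.coheight (f.base w') < ⊤ := by
    rw [← height_max_eq_coheight]
    exact Ideal.height_lt_top (IsLocalRing.maximalIdeal.isMaximal _).ne_top
  have h4 : Order.coheight (f.base w') + 1 ≤ Order.coheight (f.base w') :=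
    (add_le_add h2 le_rfl).trans (h1.trans h3)
  exact absurd h4 (not_le.mpr (ENat.lt_add_one_iff hfin.ne |>.mpr le_rfl))

lemma finite_fiber {X W : Scheme.{u}} (f : W ⟶ X) [LocallyOfFiniteType f] [QuasiCompact f]
    (hstar : ∀ {w w' : W}, w ⤳ w' → f.base w = f.base w' → w = w') (x : X) :
    (f.base ⁻¹' {x}).Finite := by
  haveI : LocallyOfFiniteType (f.fiberToSpecResidueField x) :=
    MorphismProperty.pullback_snd (P := @LocallyOfFiniteType) _ _ inferInstance
  haveI : QuasiCompact (f.fiberToSpecResidueField x) :=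
    MorphismProperty.pullback_snd (P := @QuasiCompact) _ _ inferInstance
  haveI : IsLocallyNoetherian (f.fiber x) :=
    LocallyOfFiniteType.isLocallyNoetherian (f.fiberToSpecResidueField x)
  haveI : CompactSpace (f.fiber x) :=
    QuasiCompact.compactSpace_of_compactSpace (f.fiberToSpecResidueField x)
  haveI : IsNoetherian (f.fiber x) := {}
  have hfin : (irreducibleComponents (f.fiber x)).Finite :=
    TopologicalSpace.NoetherianSpace.finite_irreducibleComponents
  let F : f.fiber x → irreducibleComponents (f.fiber x) :=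
    fun t => ⟨irreducibleComponent t, irreducibleComponent_mem_irreducibleComponents t⟩
  have key : ∀ (t γ : f.fiber x), γ ⤳ t → γ = t := by
    intro t γ h
    apply (f.fiberι x).isEmbedding.injective
    apply hstar (h.map (f.fiberι x).continuous)
    rw [Groth.Agent.Lib.Helper35.FiberStalk.fiberι_base_eq,
      Groth.Agent.Lib.Helper35.FiberStalk.fiberι_base_eq]
  have hinj : Function.Injective F := by
    intro t t' h
    have hC : IsIrreducible (irreducibleComponent t) := isIrreducible_irreducibleComponent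
    obtain ⟨γ, hγ⟩ := QuasiSober.sober hC isClosed_irreducibleComponent
    have h1 : γ ⤳ t := by
      rw [specializes_iff_mem_closure, hγ.def]; exact mem_irreducibleComponent
    have h2 : γ ⤳ t' := by
      rw [specializes_iff_mem_closure, hγ.def]
      have : irreducibleComponent t = irreducibleComponent t' := congrArg Subtype.val h
      rw [this]; exact mem_irreducibleComponent
    rw [← key t γ h1, key t' γ h2]
  haveI : Finite (irreducibleComponents (f.fiber x)) := hfin.to_subtype
  haveI : Finite (f.fiber x) := Finite.of_injective F hinj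
  rw [← Scheme.Hom.range_fiberι]
  exact Set.finite_range _

lemma surjective_of_proper_dominant {W X : Scheme.{u}} (f : W ⟶ X) [IsProper f] [IsDominant f] :
    Surjective f := by
  rw [surjective_iff, ← Set.range_eq_univ]
  have h1 : IsClosed (Set.range f.base) := f.isClosedMap.isClosed_range
  rw [← h1.closure_eq]
  exact f.denseRange.closure_range

lemma isIso_base_zero (X : Scheme.{u}) :
    IsIso (WidePullback.base (fun _ : Fin 0 => CohB1.ProjSpaceOver.toBase 1 X)) := by
  refine ⟨WidePullback.lift (𝟙 X) (fun j => j.elim0) (fun j => j.elim0), ?_, ?_⟩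
  · apply WidePullback.hom_ext
    · intro j; exact j.elim0
    · rw [Category.assoc, WidePullback.lift_base, Category.comp_id, Category.id_comp]
  · rw [WidePullback.lift_base]

theorem main
    (X : Scheme.{u}) [IsIntegral X] [IsNoetherian X] (n : ℕ)
    (W : Scheme.{u}) [IsIntegral W]
    (i : W ⟶ widePullback X (fun _ : Fin n => CohB1.ProjSpaceOver 1 X)
      (fun _ => CohB1.ProjSpaceOver.toBase 1 X))
    [IsClosedImmersion i]
    (hcodim : ringKrullDim
      ((widePullback X (fun _ : Fin n => CohB1.ProjSpaceOver 1 X)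
        (fun _ => CohB1.ProjSpaceOver.toBase 1 X)).presheaf.stalk (i.base (genericPoint W))) = n)
    (f : W ⟶ X)
    (hf : i ≫ WidePullback.base (fun _ : Fin n => CohB1.ProjSpaceOver.toBase 1 X) = f)
    [IsDominant f] [Flat f] :
    IsFinite f ∧ Surjective f := by
  subst hf
  cases n with
  | zero =>
    haveI := isIso_base_zero X
    haveI : IsClosedImmersion
        (i ≫ WidePullback.base (fun _ : Fin 0 => CohB1.ProjSpaceOver.toBase 1 X)) :=
      inferInstance
    exact ⟨inferInstance, surjective_of_proper_dominant _⟩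
  | succ m =>
    haveI := isProper_base X m
    haveI : IsProper
        (i ≫ WidePullback.base (fun _ : Fin (m + 1) => CohB1.ProjSpaceOver.toBase 1 X)) :=
      inferInstance
    refine ⟨?_, surjective_of_proper_dominant _⟩
    haveI : IsLocallyNoetherian W := LocallyOfFiniteType.isLocallyNoetherian
      (i ≫ WidePullback.base (fun _ : Fin (m + 1) => CohB1.ProjSpaceOver.toBase 1 X))
    have hcod : Order.coheight (i.base (genericPoint W)) = ((m + 1 : ℕ) : ℕ∞) := by
      rw [ringKrullDim_stalk_eq_coheight] at hcodim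
      exact_mod_cast hcodim
    have hle := coheight_le_of_codim m i hcod
    haveI : LocallyQuasiFinite
        (i ≫ WidePullback.base (fun _ : Fin (m + 1) => CohB1.ProjSpaceOver.toBase 1 X)) :=
      LocallyQuasiFinite.of_finite_preimage_singleton _
        (finite_fiber _ (fun h1 h2 => eq_of_specializes_of_fiber _ hle h1 h2))
    exact IsFinite.of_isProper_of_locallyQuasiFinite _

end PRE

/-- Let X be an integral Noetherian scheme and n a natural number, let P be the n-fold fibre product
over X of copies of the projective line over X, with structure map to X, and let W be an integral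
closed subscheme of P of codimension n, in the sense that the local ring of P at the generic point
of W has Krull dimension n. If the induced morphism f : W → X is dominant and flat, then f is finite
and surjective, so finite and faithfully flat. (The source works with a Noetherian separated scheme
X of finite dimension over a field k, takes W to be the closure in X ×_k (P^1_k)^n of an integral
closed subscheme Z of codimension n of X × (P^1 minus the point 1)^n, and assumes the closure
dominant and flat over X; such a closure is an integral closed subscheme of codimension n of the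
n-fold product of projective lines over X, which is the form stated here, and the field k plays no
role.) -/
theorem result
    (X : Scheme.{u}) [IsIntegral X] [IsNoetherian X] (n : ℕ)
    (W : Scheme.{u}) [IsIntegral W]
    (i : W ⟶ widePullback X (fun _ : Fin n => CohB1.ProjSpaceOver 1 X)
      (fun _ => CohB1.ProjSpaceOver.toBase 1 X))
    [IsClosedImmersion i]
    (hcodim : ringKrullDim
      ((widePullback X (fun _ : Fin n => CohB1.ProjSpaceOver 1 X)
        (fun _ => CohB1.ProjSpaceOver.toBase 1 X)).presheaf.stalk (i.base (genericPoint W))) = n)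
    (f : W ⟶ X)
    (hf : i ≫ WidePullback.base (fun _ : Fin n => CohB1.ProjSpaceOver.toBase 1 X) = f)
    [IsDominant f] [Flat f] :
    IsFinite f ∧ Surjective f := by
  exact main X n W i hcodim f hf

end Groth.Agent.S19040
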