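import Groth.Statements.S19043
import Groth.Agent.Lib.Helper96.GcMod
import Mathlib.LinearAlgebra.StdBasis
import Mathlib.LinearAlgebra.Quotient.Basic

set_option autoImplicit false
universe u
open Dieu

namespace Groth.Agent.S19043

open W4c6eohyperellchar2 Groth.Agent.Lib.Helper96

/-- The index type of the statement. -/
abbrev Idx (c : ℕ) : Type := {j : ℕ // c < 2 * j ∧ j ≤ c}

/-- coordinates along the `X_j` with `c < 2j ≤ 2c`. -/
def coordMap (c : ℕ) (k : Type u) [Field k] : GcMod c k →ₗ[k] (Idx c → k) :=
  LinearMap.pi (fun j : Idx c =>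
    (LinearMap.proj (⟨j.1 - 1, by have := j.2; omega⟩ : Fin c)) ∘ₗ (LinearMap.fst k (Fin c → k) (Fin c → k)))

theorem coordMap_apply (c : ℕ) (k : Type u) [Field k] (v : GcMod c k) (j : Idx c) :
    coordMap c k v j = v.1 ⟨j.1 - 1, by have := j.2; omega⟩ := rfl

theorem span_le_ker (c : ℕ) (k : Type u) [Field k] [CharP k 2] [PerfectRing k 2] :
    Submodule.span k (Set.range (F c k) ∪ Set.range (V c k)) ≤ LinearMap.ker (coordMap c k) := by
  rw [Submodule.span_le]
  rintro v (⟨w, rfl⟩ | ⟨w, rfl⟩)
  · rw [SetLike.mem_coe, LinearMap.mem_ker]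
    funext j
    rw [coordMap_apply]
    have hj := j.2
    show coefX w (2 * (j.1 - 1 + 1)) ^ 2 = 0
    unfold coefX
    rw [dif_neg (by omega), zero_pow two_ne_zero]
  · rw [SetLike.mem_coe, LinearMap.mem_ker]
    funext j
    rfl

theorem coordMap_X (c : ℕ) (k : Type u) [Field k] (j : Idx c) :
    coordMap c k (X c k j.1) = Pi.single j 1 := by
  funext i
  rw [coordMap_apply, X_fst]
  have hi := i.2
  have hj := j.2
  by_cases h : i = j
  · subst h
    rw [Pi.single_eq_same, if_pos]
    show i.1 - 1 + 1 = i.1
    omega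
  · rw [Pi.single_eq_of_ne h, if_neg]
    intro h2
    apply h
    apply Subtype.ext
    have : i.1 - 1 + 1 = j.1 := h2
    omega

/-- Let `k` be a perfect field of characteristic `2` and `c` a natural number, and let `M` be the
explicit `2c`-dimensional `k`-space on `X_1, …, X_c, Y_1, …, Y_c` with its operators `F` and `V` (`F
Y_j = 0`; `F X_j = X_{j/2}` for `j` even and `Y_{c-(j-1)/2}` for `j` odd; `V Y_j = Y_{2j}` when `2j
≤ c`, else `0`; `V X_j = Y_{2c-2j+1}` when `2j > c`, else `0`). The classes of the `X_j` with `c <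
2j ≤ 2c` in the quotient of `M` by the `k`-span of `F(M) ∪ V(M)` are linearly independent and span
that quotient. (Stated over any perfect field of characteristic `2`; the source works over an
algebraically closed one.) -/
theorem result (c : ℕ) (k : Type u) [Field k] [CharP k 2] [PerfectRing k 2] :
    LinearIndependent k (fun j : {j : ℕ // c < 2 * j ∧ j ≤ c} =>
        Submodule.mkQ (Submodule.span k (Set.range (W4c6eohyperellchar2.F c k) ∪ Set.range (W4c6eohyperellchar2.V c k))) (W4c6eohyperellchar2.X c k j.1)) ∧
      Submodule.span k (Set.range (fun j : {j : ℕ // c < 2 * j ∧ j ≤ c} =>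
        Submodule.mkQ (Submodule.span k (Set.range (W4c6eohyperellchar2.F c k) ∪ Set.range (W4c6eohyperellchar2.V c k))) (W4c6eohyperellchar2.X c k j.1))) = ⊤ := by
  constructor
  · refine LinearIndependent.of_comp
      ((Submodule.span k (Set.range (F c k) ∪ Set.range (V c k))).liftQ (coordMap c k) (span_le_ker c k)) ?_
    have : (((Submodule.span k (Set.range (F c k) ∪ Set.range (V c k))).liftQ (coordMap c k) (span_le_ker c k)) ∘
        (fun j : {j : ℕ // c < 2 * j ∧ j ≤ c} =>
          Submodule.mkQ (Submodule.span k (Set.range (F c k) ∪ Set.range (V c k))) (X c k j.1))) =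
        fun j : Idx c => Pi.single j (1 : k) := by
      funext j
      simp only [Function.comp_apply, Submodule.mkQ_apply, Submodule.liftQ_apply]
      exact coordMap_X c k j
    rw [this]
    exact Pi.linearIndependent_single_one (Idx c) k
  · rw [Set.range_comp' (Submodule.mkQ (Submodule.span k (Set.range (F c k) ∪ Set.range (V c k))))
      (fun j : {j : ℕ // c < 2 * j ∧ j ≤ c} => X c k j.1), ← Submodule.map_span,
      Submodule.map_mkQ_eq_top]
    apply eq_top_of_basis_mem
    · intro j h1 hjc
      by_cases h2 : c < 2 * j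
      · exact Submodule.mem_sup_right (Submodule.subset_span ⟨⟨j, h2, hjc⟩, rfl⟩)
      · refine Submodule.mem_sup_left (Submodule.subset_span (Or.inl ⟨X c k (2 * j), ?_⟩))
        exact F_X_even j (by omega)
    · intro m h1 hmc
      refine Submodule.mem_sup_left (Submodule.subset_span (Or.inr ?_))
      rcases Nat.even_or_odd' m with ⟨t, rfl | rfl⟩
      · exact ⟨Y c k t, V_Y t hmc⟩
      · refine ⟨X c k (c - t), ?_⟩
        rw [V_X (c - t) (by omega) (by omega)]
        congr 1
        omega

end Groth.Agent.S19043
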