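import Groth.Statements.S19048
import Groth.Agent.Lib.Helper96.GcMod
import Mathlib.LinearAlgebra.StdBasis
import Mathlib.LinearAlgebra.Dimension.Constructions
import Mathlib.LinearAlgebra.Dimension.Finrank

set_option autoImplicit false
universe u
open Dieu

namespace Groth.Agent.S19048

open W4c6eohyperellchar2 Groth.Agent.Lib.Helper96

section
variable {c : ℕ} {k : Type u} [Field k]

/-- coordinate description of `Nfil`. -/
theorem mem_Nfil_iff (i : ℕ) (v : GcMod c k) :
    v ∈ Nfil c k i ↔ (∀ idx : Fin c, min i c < idx.val + 1 → v.2 idx = 0) ∧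
      (∀ idx : Fin c, idx.val + 1 ≤ 2 * c - i → v.1 idx = 0) := by
  constructor
  · intro hv
    let T : Submodule k (GcMod c k) :=
      { carrier := {v | (∀ idx : Fin c, min i c < idx.val + 1 → v.2 idx = 0) ∧
          (∀ idx : Fin c, idx.val + 1 ≤ 2 * c - i → v.1 idx = 0)}
        add_mem' := by
          rintro x y ⟨hx2, hx1⟩ ⟨hy2, hy1⟩
          refine ⟨fun idx h => ?_, fun idx h => ?_⟩
          · show x.2 idx + y.2 idx = 0
            rw [hx2 idx h, hy2 idx h, add_zero]
          · show x.1 idx + y.1 idx = 0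
            rw [hx1 idx h, hy1 idx h, add_zero]
        zero_mem' := ⟨fun _ _ => rfl, fun _ _ => rfl⟩
        smul_mem' := by
          rintro r x ⟨hx2, hx1⟩
          refine ⟨fun idx h => ?_, fun idx h => ?_⟩
          · show r * x.2 idx = 0
            rw [hx2 idx h, mul_zero]
          · show r * x.1 idx = 0
            rw [hx1 idx h, mul_zero] }
    have hle : Nfil c k i ≤ T := by
      unfold Nfil
      rw [Submodule.span_le]
      rintro w (⟨n, hn, rfl⟩ | ⟨n, hn, rfl⟩)
      · refine ⟨fun idx h => ?_, fun idx h => rfl⟩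
        show (if idx.val + 1 = n then (1 : k) else 0) = 0
        rw [if_neg]
        have := hn.2
        omega
      · refine ⟨fun idx h => rfl, fun idx h => ?_⟩
        show (if idx.val + 1 = n then (1 : k) else 0) = 0
        rw [if_neg]
        have := hn.1
        omega
    exact hle hv
  · rintro ⟨h2, h1⟩
    rw [decomp v]
    refine Submodule.sum_mem _ fun idx _ => Submodule.add_mem _ ?_ ?_
    · by_cases h : idx.val + 1 ≤ 2 * c - i
      · rw [h1 idx h, zero_smul]
        exact Submodule.zero_mem _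
      · have hi := idx.isLt
        exact Submodule.smul_mem _ _
          (Submodule.subset_span (Or.inr ⟨idx.val + 1, ⟨by omega, by omega⟩, rfl⟩))
    · by_cases h : min i c < idx.val + 1
      · rw [h2 idx h, zero_smul]
        exact Submodule.zero_mem _
      · have hi := idx.isLt
        exact Submodule.smul_mem _ _
          (Submodule.subset_span (Or.inl ⟨idx.val + 1, ⟨by omega, by omega⟩, rfl⟩))

theorem Nfil_mono {i i' : ℕ} (h : i ≤ i') : Nfil c k i ≤ Nfil c k i' := by
  intro v hv
  rw [mem_Nfil_iff] at hv ⊢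
  exact ⟨fun idx h' => hv.1 idx (by omega), fun idx h' => hv.2 idx (by omega)⟩

/-- the ordered basis `λ_1, …, λ_c, σ_c, …, σ_1`. -/
def eN (c : ℕ) (k : Type u) [Field k] (t : ℕ) : GcMod c k :=
  if t < c then Y c k (t + 1) else X c k (2 * c - t)

/-- coordinates along the first `i` vectors of the ordered basis. -/
def psi (c : ℕ) (k : Type u) [Field k] (i : ℕ) (hi : i ≤ 2 * c) : GcMod c k →ₗ[k] (Fin i → k) :=
  LinearMap.pi (fun t : Fin i =>
    if h : t.val < c then (LinearMap.proj (⟨t.val, h⟩ : Fin c)) ∘ₗ (LinearMap.snd k (Fin c → k) (Fin c → k))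
    else (LinearMap.proj (⟨2 * c - t.val - 1, by have := t.isLt; omega⟩ : Fin c)) ∘ₗ
      (LinearMap.fst k (Fin c → k) (Fin c → k)))

theorem psi_eN (i : ℕ) (hi : i ≤ 2 * c) (t : Fin i) : psi c k i hi (eN c k t.val) = Pi.single t 1 := by
  funext t'
  have ht := t.isLt
  have ht' := t'.isLt
  unfold psi eN
  rw [LinearMap.pi_apply]
  by_cases h' : t'.val < c
  · rw [dif_pos h']
    by_cases h : t.val < c
    · rw [if_pos h]
      show (if t'.val + 1 = t.val + 1 then (1 : k) else 0) = _
      by_cases e : t' = t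
      · subst e
        rw [if_pos rfl, Pi.single_eq_same]
      · rw [Pi.single_eq_of_ne e, if_neg]
        intro h2
        exact e (Fin.ext (by omega))
    · rw [if_neg h]
      have e : t' ≠ t := fun e => h (e ▸ h')
      rw [Pi.single_eq_of_ne e]
      rfl
  · rw [dif_neg h']
    by_cases h : t.val < c
    · rw [if_pos h]
      have e : t' ≠ t := fun e => h' (e ▸ h)
      rw [Pi.single_eq_of_ne e]
      rfl
    · rw [if_neg h]
      show (if 2 * c - t'.val - 1 + 1 = 2 * c - t.val then (1 : k) else 0) = _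
      by_cases e : t' = t
      · subst e
        rw [if_pos (by omega), Pi.single_eq_same]
      · rw [Pi.single_eq_of_ne e, if_neg]
        intro h2
        exact e (Fin.ext (by omega))

theorem finrank_Nfil (i : ℕ) (hi : i ≤ 2 * c) : Module.finrank k (Nfil c k i) = i := by
  have hLI : LinearIndependent k (fun t : Fin i => eN c k t.val) := by
    refine LinearIndependent.of_comp (psi c k i hi) ?_
    have : (psi c k i hi) ∘ (fun t : Fin i => eN c k t.val) = fun t : Fin i => Pi.single t (1 : k) := by
      funext t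
      exact psi_eN i hi t
    rw [this]
    exact Pi.linearIndependent_single_one (Fin i) k
  have hset : ((fun n => Y c k n) '' Set.Icc 1 (min i c) ∪ (fun n => X c k n) '' Set.Ioc (2 * c - i) c) =
      Set.range (fun t : Fin i => eN c k t.val) := by
    ext w
    constructor
    · rintro (⟨n, hn, rfl⟩ | ⟨n, hn, rfl⟩)
      · have h1 := hn.1
        have h2 := hn.2
        refine ⟨⟨n - 1, by omega⟩, ?_⟩
        show eN c k (n - 1) = Y c k n
        unfold eN
        rw [if_pos (by omega)]
        congr 1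
        omega
      · have h1 := hn.1
        have h2 := hn.2
        refine ⟨⟨2 * c - n, by omega⟩, ?_⟩
        show eN c k (2 * c - n) = X c k n
        unfold eN
        rw [if_neg (by omega)]
        congr 1
        omega
    · rintro ⟨t, rfl⟩
      have ht := t.isLt
      show eN c k t.val ∈ _
      unfold eN
      by_cases h : t.val < c
      · rw [if_pos h]
        exact Or.inl ⟨t.val + 1, ⟨by omega, by omega⟩, rfl⟩
      · rw [if_neg h]
        exact Or.inr ⟨2 * c - t.val, ⟨by omega, by omega⟩, rfl⟩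
  unfold Nfil
  rw [hset, finrank_span_eq_card hLI, Fintype.card_fin]

end

section
variable {c : ℕ} {k : Type u} [Field k] [CharP k 2] [PerfectRing k 2]

omit [CharP k 2] [PerfectRing k 2] in
theorem coefY_add (v w : GcMod c k) (n : ℕ) : coefY (v + w) n = coefY v n + coefY w n := by
  unfold coefY
  split_ifs
  · rfl
  · rw [add_zero]

omit [CharP k 2] [PerfectRing k 2] in
theorem coefX_succ (v : GcMod c k) (idx : Fin c) : coefX v (idx.val + 1) = v.1 idx := by
  unfold coefX
  have hi := idx.isLt
  rw [dif_pos ⟨by omega, by omega⟩]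
  rfl

omit [CharP k 2] [PerfectRing k 2] in
theorem coefY_succ (v : GcMod c k) (idx : Fin c) : coefY v (idx.val + 1) = v.2 idx := by
  unfold coefY
  have hi := idx.isLt
  rw [dif_pos ⟨by omega, by omega⟩]
  rfl

theorem NV_snd (a : ℕ → k) (v : GcMod c k) (idx : Fin c) :
    (NV c k a v).2 idx = (frobeniusEquiv k 2).symm (coefY v (2 * (idx.val + 1))) +
      Finset.univ.sum (fun j : Fin c =>
        if (j.val + 1) % 2 = 1 ∧ (idx.val + 1) + j.val / 2 ≤ c then
          (frobeniusEquiv k 2).symm (v.1 j * a ((idx.val + 1) + j.val / 2)) else 0) := rfl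

theorem NV_add (a : ℕ → k) (v w : GcMod c k) : NV c k a (v + w) = NV c k a v + NV c k a w := by
  refine Prod.ext ?_ (funext fun idx => ?_)
  · show (0 : Fin c → k) = 0 + 0
    rw [add_zero]
  · show (NV c k a (v + w)).2 idx = (NV c k a v).2 idx + (NV c k a w).2 idx
    rw [NV_snd, NV_snd, NV_snd, coefY_add, map_add, add_add_add_comm, ← Finset.sum_add_distrib]
    congr 1
    refine Finset.sum_congr rfl fun j _ => ?_
    split_ifs
    · show (frobeniusEquiv k 2).symm ((v.1 j + w.1 j) * _) = _
      rw [add_mul, map_add]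
    · rw [add_zero]

theorem NV_mem (a : ℕ → k) (i : ℕ) (v : GcMod c k) (hv : v ∈ Nfil c k i) :
    NV c k a v ∈ Nfil c k (i / 2) := by
  rw [mem_Nfil_iff] at hv ⊢
  refine ⟨fun idx h => ?_, fun idx h => rfl⟩
  have hi := idx.isLt
  rw [NV_snd]
  have h1 : coefY v (2 * (idx.val + 1)) = 0 := by
    unfold coefY
    split_ifs with h2
    · exact hv.1 _ (by show min i c < 2 * (idx.val + 1) - 1 + 1; omega)
    · rfl
  rw [h1, map_zero, zero_add]
  refine Finset.sum_eq_zero fun j _ => ?_
  split_ifs with h2
  · rw [hv.2 j (by omega), zero_mul, map_zero]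
  · rfl

/-- an element of `Nfil (2s)` whose image under `NV` has prescribed `λ_s`-coordinate. -/
theorem exists_NV_coord (a : ℕ → k) (ha : a c ≠ 0) (s : ℕ) (hs1 : 1 ≤ s) (hsc : s ≤ c) (b : k) :
    ∃ u ∈ Nfil c k (2 * s), (NV c k a u).2 ⟨s - 1, by omega⟩ = b := by
  by_cases h : 2 * s ≤ c
  · refine ⟨(b ^ 2) • Y c k (2 * s), ?_, ?_⟩
    · exact Submodule.smul_mem _ _ (Submodule.subset_span (Or.inl ⟨2 * s, ⟨by omega, by omega⟩, rfl⟩))
    · rw [NV_snd]
      have h1 : coefY ((b ^ 2) • Y c k (2 * s)) (2 * (s - 1 + 1)) = b ^ 2 := by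
        unfold coefY
        rw [dif_pos ⟨by omega, by omega⟩]
        show b ^ 2 * (if 2 * (s - 1 + 1) - 1 + 1 = 2 * s then (1 : k) else 0) = b ^ 2
        rw [if_pos (by omega), mul_one]
      show (frobeniusEquiv k 2).symm (coefY ((b ^ 2) • Y c k (2 * s)) (2 * (s - 1 + 1))) + _ = b
      rw [h1, frobeniusEquiv_symm_pow, Finset.sum_eq_zero, add_zero]
      intro j _
      split_ifs
      · show (frobeniusEquiv k 2).symm ((b ^ 2 * 0) * _) = 0
        rw [mul_zero, zero_mul, map_zero]
      · rfl
  · have hj : 2 * c - 2 * s < c := by omega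
    refine ⟨(b ^ 2 / a c) • X c k (2 * c - 2 * s + 1), ?_, ?_⟩
    · exact Submodule.smul_mem _ _
        (Submodule.subset_span (Or.inr ⟨2 * c - 2 * s + 1, ⟨by omega, by omega⟩, rfl⟩))
    · rw [NV_snd]
      have h1 : coefY ((b ^ 2 / a c) • X c k (2 * c - 2 * s + 1)) (2 * (s - 1 + 1)) = 0 := by
        unfold coefY
        split_ifs
        · show (b ^ 2 / a c) * 0 = 0
          rw [mul_zero]
        · rfl
      show (frobeniusEquiv k 2).symm (coefY ((b ^ 2 / a c) • X c k (2 * c - 2 * s + 1)) (2 * (s - 1 + 1))) + _ = b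
      rw [h1, map_zero, zero_add, Finset.sum_eq_single (⟨2 * c - 2 * s, hj⟩ : Fin c)]
      · rw [if_pos ⟨by show (2 * c - 2 * s + 1) % 2 = 1; omega,
          by show s - 1 + 1 + (2 * c - 2 * s) / 2 ≤ c; omega⟩]
        show (frobeniusEquiv k 2).symm (((b ^ 2 / a c) * (if 2 * c - 2 * s + 1 = 2 * c - 2 * s + 1 then (1 : k) else 0)) *
          a (s - 1 + 1 + (2 * c - 2 * s) / 2)) = b
        have h3 : s - 1 + 1 + (2 * c - 2 * s) / 2 = c := by omega
        rw [if_pos rfl, mul_one, h3, div_mul_cancel₀ _ ha, frobeniusEquiv_symm_pow]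
      · intro j _ hjne
        split_ifs
        · show (frobeniusEquiv k 2).symm (((b ^ 2 / a c) * (if j.val + 1 = 2 * c - 2 * s + 1 then (1 : k) else 0)) * _) = 0
          rw [if_neg, mul_zero, zero_mul, map_zero]
          intro h4
          exact hjne (Fin.ext (by show j.val = 2 * c - 2 * s; omega))
        · rfl
      · intro h4
        exact absurd (Finset.mem_univ _) h4

theorem NV_surj (a : ℕ → k) (ha : a c ≠ 0) (i : ℕ) (hi : i ≤ 2 * c) :
    ∀ w ∈ Nfil c k (i / 2), ∃ v ∈ Nfil c k i, NV c k a v = w := by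
  induction i with
  | zero =>
    intro w hw
    refine ⟨0, Submodule.zero_mem _, ?_⟩
    have h0 := NV_mem a 0 (0 : GcMod c k) (Submodule.zero_mem _)
    rw [mem_Nfil_iff] at hw h0
    refine Prod.ext (funext fun idx => ?_) (funext fun idx => ?_)
    · rw [h0.2 idx (by have := idx.isLt; omega), hw.2 idx (by have := idx.isLt; omega)]
    · rw [h0.1 idx (by omega), hw.1 idx (by omega)]
  | succ i ih =>
    intro w hw
    rcases Nat.even_or_odd' (i + 1) with ⟨s, hs | hs⟩
    · -- i + 1 = 2 s
      have hs1 : 1 ≤ s := by omega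
      have hsc : s ≤ c := by omega
      have hdiv : (i + 1) / 2 = s := by omega
      rw [hdiv] at hw
      obtain ⟨u, hu, hub⟩ := exists_NV_coord a ha s hs1 hsc (w.2 ⟨s - 1, by omega⟩)
      have hNVu : NV c k a u ∈ Nfil c k s := by
        have := NV_mem a (2 * s) u hu
        rwa [Nat.mul_div_cancel_left _ (by norm_num : 0 < 2)] at this
      have hw' : w - NV c k a u ∈ Nfil c k (i / 2) := by
        have hmem : w - NV c k a u ∈ Nfil c k s := Submodule.sub_mem _ hw hNVu
        rw [mem_Nfil_iff] at hmem ⊢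
        refine ⟨fun idx h => ?_, fun idx h => hmem.2 idx (by have := idx.isLt; omega)⟩
        by_cases h5 : idx.val + 1 = s
        · have h6 : idx = ⟨s - 1, by omega⟩ := Fin.ext (by show idx.val = s - 1; omega)
          show w.2 idx - (NV c k a u).2 idx = 0
          rw [h6, hub, sub_self]
        · exact hmem.1 idx (by omega)
      obtain ⟨v', hv', hNV'⟩ := ih (by omega) _ hw'
      refine ⟨v' + u, Submodule.add_mem _ (Nfil_mono (by omega) hv') (by rwa [hs]), ?_⟩
      rw [NV_add, hNV', sub_add_cancel]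
    · -- i + 1 = 2 s + 1
      have hdiv : (i + 1) / 2 = i / 2 := by omega
      rw [hdiv] at hw
      obtain ⟨v', hv', hNV'⟩ := ih (by omega) _ hw
      exact ⟨v', Nfil_mono (by omega) hv', hNV'⟩

end

section
variable {c : ℕ} {k : Type u} [Field k]

theorem NF_fst (a : ℕ → k) (v : GcMod c k) (idx : Fin c) :
    (NF c k a v).1 idx = if (idx.val + 1) % 2 = 0 then coefX v ((idx.val + 1) / 2) ^ 2 else 0 := rfl

theorem NF_snd (a : ℕ → k) (v : GcMod c k) (idx : Fin c) :
    (NF c k a v).2 idx = if (idx.val + 1) % 2 = 1 then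
      Finset.univ.sum (fun j : Fin c =>
        if c < 2 * (j.val + 1) ∧ (j.val + 1) + idx.val / 2 ≤ c then
          v.1 j ^ 2 * a ((j.val + 1) + idx.val / 2) else 0)
    else 0 := rfl

theorem NF_mem_iff (a : ℕ → k) (ha : a c ≠ 0) (i : ℕ) (v : GcMod c k) :
    NF c k a v ∈ Nfil c k i ↔ v ∈ Nfil c k (c + (i + 1) / 2) := by
  rw [mem_Nfil_iff, mem_Nfil_iff]
  constructor
  · rintro ⟨ha2, hb1⟩
    refine ⟨fun idx h => absurd h (by have := idx.isLt; omega), ?_⟩
    -- strong induction on the index
    have key : ∀ n, ∀ idx : Fin c, idx.val = n → idx.val + 1 ≤ 2 * c - (c + (i + 1) / 2) → v.1 idx = 0 := by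
      intro n
      induction n using Nat.strong_induction_on with
      | _ n ih =>
        intro idx hn hle
        have hi := idx.isLt
        by_cases h2 : 2 * (idx.val + 1) ≤ c
        · have h3 := hb1 ⟨2 * (idx.val + 1) - 1, by omega⟩
            (by show 2 * (idx.val + 1) - 1 + 1 ≤ 2 * c - i; omega)
          rw [NF_fst, if_pos (by show (2 * (idx.val + 1) - 1 + 1) % 2 = 0; omega)] at h3
          have h4 : ((⟨2 * (idx.val + 1) - 1, by omega⟩ : Fin c).val + 1) / 2 = idx.val + 1 := by
            show (2 * (idx.val + 1) - 1 + 1) / 2 = idx.val + 1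
            omega
          rw [h4, coefX_succ] at h3
          exact pow_eq_zero_iff (two_ne_zero) |>.mp h3
        · have hp : 2 * (c - (idx.val + 1)) < c := by omega
          have h3 := ha2 ⟨2 * (c - (idx.val + 1)), hp⟩
            (by show min i c < 2 * (c - (idx.val + 1)) + 1; omega)
          rw [NF_snd, if_pos (by show (2 * (c - (idx.val + 1)) + 1) % 2 = 1; omega)] at h3
          rw [Finset.sum_eq_single idx] at h3
          · rw [if_pos ⟨by omega, by show idx.val + 1 + 2 * (c - (idx.val + 1)) / 2 ≤ c; omega⟩] at h3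
            have h5 : idx.val + 1 + (⟨2 * (c - (idx.val + 1)), hp⟩ : Fin c).val / 2 = c := by
              show idx.val + 1 + 2 * (c - (idx.val + 1)) / 2 = c
              omega
            rw [h5] at h3
            rcases mul_eq_zero.mp h3 with h6 | h6
            · exact pow_eq_zero_iff (two_ne_zero) |>.mp h6
            · exact absurd h6 ha
          · intro j _ hjne
            split_ifs with h7
            · have h8 : j.val + 1 + 2 * (c - (idx.val + 1)) / 2 ≤ c := h7.2
              have h9 : j.val < idx.val := by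
                have : j.val ≠ idx.val := fun e => hjne (Fin.ext e)
                omega
              rw [ih j.val (by omega) j rfl (by omega), zero_pow two_ne_zero, zero_mul]
            · rfl
          · intro h4
            exact absurd (Finset.mem_univ _) h4
    exact fun idx h => key idx.val idx rfl h
  · rintro ⟨-, hv⟩
    refine ⟨fun idx h => ?_, fun idx h => ?_⟩
    · have hi := idx.isLt
      rw [NF_snd]
      split_ifs with h1
      · refine Finset.sum_eq_zero fun j _ => ?_
        split_ifs with h2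
        · rw [hv j (by omega), zero_pow two_ne_zero, zero_mul]
        · rfl
      · rfl
    · have hi := idx.isLt
      rw [NF_fst]
      split_ifs with h1
      · have h2 : coefX v ((idx.val + 1) / 2) = 0 := by
          unfold coefX
          split_ifs with h3
          · exact hv _ (by show (idx.val + 1) / 2 - 1 + 1 ≤ 2 * c - (c + (i + 1) / 2); omega)
          · rfl
        rw [h2, zero_pow two_ne_zero]
      · rfl

end

/-- Let `k` be a perfect field of characteristic `2`, `c` a natural number and `a_1, …, a_c ∈ k` with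
`a_c ≠ 0`. On the `2c`-dimensional `k`-space with basis `λ_1, …, λ_c, σ_1, …, σ_c` let `F` be
Frobenius-semilinear with `F λ_j = 0`, `F σ_j = σ_{2j}` for `2j ≤ c`, `F σ_j = Σ_{i=j}^{c} a_i
λ_{2i-2j+1}` for `2j > c`, and `V` inverse-Frobenius-semilinear with `V λ_j = λ_{j/2}` (`j` even),
`0` (`j` odd), `V σ_j = 0` (`j` even), `V σ_j = Σ_{i=(j+1)/2}^{c} a_i^{1/2} λ_{i-(j-1)/2}` (`j` odd)
— the shape of `F` and `V` on the block of the first de Rham cohomology of `y² − y = f(x)` belonging
to a branch point with invariant `d = 2c + 1`, `a_i` the coefficients of the odd polynomial `f_α`.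
Put `N_i = ⟨λ_1, …, λ_i⟩` for `i ≤ c` and `N_i = ⟨λ_1, …, λ_c, σ_{2c-i+1}, …, σ_c⟩` for `c ≤ i ≤
2c`. Then for `0 ≤ i ≤ 2c`: `dim N_i = i`, `V(N_i) = N_{⌊i/2⌋}` and `F⁻¹(N_i) = N_{c+⌈i/2⌉}`; so
`(N_i)` is a final filtration with `dim V(N_i) = ⌊i/2⌋`. (The published statement adjoins the `σ_j`
starting from `σ_1`; then `V(N_{c+1})` contains `V σ_1`, whose `λ_c`-coefficient is a square root of
`a_c ≠ 0`, so it is not `N_{⌊(c+1)/2⌋}` once `c ≥ 2`; adjoining them from `σ_c` downward, as here,
makes both identities hold.) -/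
theorem result (c : ℕ) (k : Type u) [Field k] [CharP k 2] [PerfectRing k 2]
    (a : ℕ → k) (ha : a c ≠ 0) (i : ℕ) (hi : i ≤ 2 * c) :
    Module.finrank k (W4c6eohyperellchar2.Nfil c k i) = i ∧
      W4c6eohyperellchar2.NV c k a '' (W4c6eohyperellchar2.Nfil c k i : Set (W4c6eohyperellchar2.GcMod c k)) = (W4c6eohyperellchar2.Nfil c k (i / 2) : Set (W4c6eohyperellchar2.GcMod c k)) ∧
      W4c6eohyperellchar2.NF c k a ⁻¹' (W4c6eohyperellchar2.Nfil c k i : Set (W4c6eohyperellchar2.GcMod c k)) = (W4c6eohyperellchar2.Nfil c k (c + (i + 1) / 2) : Set (W4c6eohyperellchar2.GcMod c k)) := by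
  refine ⟨finrank_Nfil i hi, ?_, ?_⟩
  · ext w
    constructor
    · rintro ⟨v, hv, rfl⟩
      exact NV_mem a i v hv
    · intro hw
      obtain ⟨v, hv, hNV⟩ := NV_surj a ha i hi w hw
      exact ⟨v, hv, hNV⟩
  · ext v
    exact NF_mem_iff a ha i v

end Groth.Agent.S19048
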