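import Groth.Statements.S1905
import Mathlib
import Groth.Agent.S1857
import Groth.Agent.S6462
import Groth.Agent.Lib.Helper22.OrdFlat
-- import your own Groth.Agent.* helpers here

set_option autoImplicit false
universe u
open CategoryTheory AlgebraicGeometry
open Cyc

namespace Groth.Agent.S1905

section PRE
open IsLocalRing
open Groth.Agent.S6479 (MaxFib max_comp dim_iff exists_max_gen)
open Groth.Agent.Lib.Helper22.OrdFlat

/-- the algebra map `LocQuot → κ(ξ)` is injective. -/
lemma locQuot_inj {X : Scheme.{u}} (x ξ : X) (h : ξ ⤳ x) :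
    Function.Injective (algebraMap (Cyc.LocQuot x ξ h) (X.residueField ξ)) := by
  show Function.Injective (Ideal.Quotient.lift (RingHom.ker (specMap x ξ h)) (specMap x ξ h) _)
  exact RingHom.lift_injective_of_ker_le_ideal _ _ le_rfl

lemma locQuot_algebraMap_mk {X : Scheme.{u}} (x ξ : X) (h : ξ ⤳ x) (a : X.presheaf.stalk x) :
    algebraMap (Cyc.LocQuot x ξ h) (X.residueField ξ) (Ideal.Quotient.mk _ a) = specMap x ξ h a :=
  rfl

/-- for an integral scheme and the generic point, `κ(η)` is the fraction field of `LocQuot`. -/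
lemma locQuot_isFractionRing {X : Scheme.{u}} [IsIntegral X] (x ξ : X) (hξ : ξ = genericPoint X)
    (h : ξ ⤳ x) : IsFractionRing (Cyc.LocQuot x ξ h) (X.residueField ξ) := by
  subst hξ
  haveI : FaithfulSMul (Cyc.LocQuot x (genericPoint X) h) (X.residueField (genericPoint X)) :=
    (faithfulSMul_iff_algebraMap_injective _ _).mpr (locQuot_inj x _ h)
  refine IsFractionRing.of_field _ _ (fun z => ?_)
  obtain ⟨w, rfl⟩ := X.residue_surjective (genericPoint X) z
  obtain ⟨a, b, -, hab⟩ := IsFractionRing.div_surjective (A := X.presheaf.stalk x)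
    (K := X.functionField) w
  refine ⟨Ideal.Quotient.mk _ a, Ideal.Quotient.mk _ b, ?_⟩
  rw [locQuot_algebraMap_mk, locQuot_algebraMap_mk]
  have e : ∀ c : X.presheaf.stalk x, specMap x (genericPoint X) h c =
      (X.residue (genericPoint X)).hom (algebraMap (X.presheaf.stalk x) X.functionField c) := by
    intro c; rfl
  rw [e, e, ← map_div₀ (X.residue (genericPoint X)).hom, hab]

lemma spec_compat {X Y : Scheme.{u}} (f : X ⟶ Y) (x ξ : X) (h : ξ ⤳ x)
    (a : Y.presheaf.stalk (f x)) :
    specMap x ξ h ((f.stalkMap x).hom a) =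
      (f.residueFieldMap ξ).hom (specMap (f x) (f ξ) (f.base.hom.map_specializes h) a) := by
  have e1 := Scheme.Hom.stalkSpecializes_stalkMap f ξ x h
  have e2 := Scheme.residue_residueFieldMap f ξ
  have : (f.stalkMap x ≫ X.presheaf.stalkSpecializes h) ≫ X.residue ξ =
      (Y.presheaf.stalkSpecializes (f.base.hom.map_specializes h) ≫ Y.residue (f ξ)) ≫
        f.residueFieldMap ξ := by
    rw [← e1, Category.assoc, ← e2, Category.assoc]
  exact congrArg (fun φ => φ.hom a) this

lemma specMap_inj {X : Scheme.{u}} [IsIntegral X] (x ξ : X) (hξ : ξ = genericPoint X)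
    (h : ξ ⤳ x) : Function.Injective (specMap x ξ h) := by
  subst hξ
  have e : ∀ c : X.presheaf.stalk x, specMap x (genericPoint X) h c =
      (X.residue (genericPoint X)).hom (algebraMap (X.presheaf.stalk x) X.functionField c) := by
    intro c; rfl
  intro a b hab
  rw [e, e] at hab
  have h1 : Function.Injective (X.residue (genericPoint X)).hom :=
    RingHom.injective (R := X.functionField) _
  exact IsFractionRing.injective _ _ (h1 hab)

lemma length_quot_map {R S : Type u} [CommRing R] [CommRing S] (π : R →+* S)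
    (hπ : Function.Bijective π) (I : Ideal R) :
    Module.length S (S ⧸ Ideal.map π I) = Module.length R (R ⧸ I) := by
  algebraize [π]
  have h1 : Module.length R (S ⧸ Ideal.map π I) = Module.length S (S ⧸ Ideal.map π I) :=
    Module.length_eq_of_surjective (S := R) (R := S) (M := S ⧸ Ideal.map π I) hπ.surjective
  rw [← h1]
  let e0 : R ⧸ I ≃+* S ⧸ Ideal.map π I :=
    Ideal.quotientEquiv I (Ideal.map π I) (RingEquiv.ofBijective π hπ) rfl
  let e : (R ⧸ I) ≃ₗ[R] (S ⧸ Ideal.map π I) :=
    { e0.toAddEquiv with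
      map_smul' := by
        intro r m
        obtain ⟨a, rfl⟩ := Ideal.Quotient.mk_surjective m
        show e0 (r • Ideal.Quotient.mk I a) = r • e0 (Ideal.Quotient.mk I a)
        rw [Algebra.smul_def, map_mul, Algebra.smul_def]
        rfl }
  exact e.length_eq.symm

theorem ordAt_pull {X Y : Scheme.{u}} [IsIntegral X] [IsIntegral Y] [IsLocallyNoetherian X]
    [IsLocallyNoetherian Y] (f : X ⟶ Y) [Flat f] (x ξ : X) (hξ : ξ = genericPoint X)
    (hfξ : f ξ = genericPoint Y) (h : ξ ⤳ x)
    (dA : ringKrullDim (LocQuot (f x) (f ξ) (f.base.hom.map_specializes h)) ≤ 1)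
    (dB : ringKrullDim (LocQuot x ξ h) ≤ 1) (g : Y.residueField (f ξ)) :
    ordAt x ξ h ((f.residueFieldMap ξ).hom g) =
      ordAt (f x) (f ξ) (f.base.hom.map_specializes h) g *
        ((Module.length (X.presheaf.stalk x) (X.presheaf.stalk x ⧸
          Ideal.map (f.stalkMap x).hom (maximalIdeal (Y.presheaf.stalk (f x))))).toNat : ℤ) := by
  have h' : f ξ ⤳ f x := f.base.hom.map_specializes h
  have ip : Function.Injective (specMap (f x) (f ξ) h') := specMap_inj (f x) (f ξ) hfξ h'
  have iq : Function.Injective (specMap x ξ h) := specMap_inj x ξ hξ h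
  have hp : RingHom.ker (specMap (f x) (f ξ) h') = ⊥ := (RingHom.injective_iff_ker_eq_bot _).mp ip
  have hq : RingHom.ker (specMap x ξ h) = ⊥ := (RingHom.injective_iff_ker_eq_bot _).mp iq
  have bA : Function.Bijective (Ideal.Quotient.mk (RingHom.ker (specMap (f x) (f ξ) h'))) := by
    refine ⟨?_, Ideal.Quotient.mk_surjective⟩
    rw [RingHom.injective_iff_ker_eq_bot, Ideal.mk_ker, hp]
  have bB : Function.Bijective (Ideal.Quotient.mk (RingHom.ker (specMap x ξ h))) := by
    refine ⟨?_, Ideal.Quotient.mk_surjective⟩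
    rw [RingHom.injective_iff_ker_eq_bot, Ideal.mk_ker, hq]
  let eA : Y.presheaf.stalk (f x) ≃+* LocQuot (f x) (f ξ) h' := RingEquiv.ofBijective _ bA
  let eB : X.presheaf.stalk x ≃+* LocQuot x ξ h := RingEquiv.ofBijective _ bB
  haveI : IsLocalRing (LocQuot (f x) (f ξ) h') := eA.isLocalRing
  haveI : IsLocalRing (LocQuot x ξ h) := eB.isLocalRing
  let ψ : LocQuot (f x) (f ξ) h' →+* LocQuot x ξ h :=
    (eB.toRingHom.comp (f.stalkMap x).hom).comp eA.symm.toRingHom
  have hψmk : ∀ a, ψ (Ideal.Quotient.mk _ a) = Ideal.Quotient.mk _ ((f.stalkMap x).hom a) := by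
    intro a
    show eB ((f.stalkMap x).hom (eA.symm (eA a))) = _
    rw [RingEquiv.symm_apply_apply]
    rfl
  haveI lB : IsLocalHom eB.toRingHom := ⟨fun a ha => IsLocalHom.map_nonunit (f := eB) a ha⟩
  haveI lA : IsLocalHom eA.toRingHom := ⟨fun a ha => IsLocalHom.map_nonunit (f := eA) a ha⟩
  haveI lA' : IsLocalHom eA.symm.toRingHom :=
    ⟨fun a ha => IsLocalHom.map_nonunit (f := eA.symm) a ha⟩
  haveI : IsLocalHom ψ := by
    haveI : IsLocalHom (eB.toRingHom.comp (f.stalkMap x).hom) := RingHom.isLocalHom_comp _ _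
    exact RingHom.isLocalHom_comp _ _
  have hψflat : ψ.Flat := by
    refine RingHom.Flat.comp (RingHom.Flat.of_bijective eA.symm.bijective) ?_
    refine RingHom.Flat.comp ?_ (RingHom.Flat.of_bijective eB.bijective)
    exact Flat.stalkMap f x
  have hcomm : ∀ a, (f.residueFieldMap ξ).hom (algebraMap (LocQuot (f x) (f ξ) h')
      (Y.residueField (f ξ)) a) = algebraMap (LocQuot x ξ h) (X.residueField ξ) (ψ a) := by
    intro a
    obtain ⟨a, rfl⟩ := Ideal.Quotient.mk_surjective a
    rw [hψmk, locQuot_algebraMap_mk, locQuot_algebraMap_mk, spec_compat]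
  haveI : IsNoetherianRing (Y.presheaf.stalk (f x)) := inferInstance
  haveI : IsNoetherianRing (X.presheaf.stalk x) := inferInstance
  have hA : IsNoetherianRing (LocQuot (f x) (f ξ) h') ∧ Ring.KrullDimLE 1 (LocQuot (f x) (f ξ) h') ∧
      Nontrivial (LocQuot (f x) (f ξ) h') ∧
      IsFractionRing (LocQuot (f x) (f ξ) h') (Y.residueField (f ξ)) :=
    ⟨inferInstance, (Ring.krullDimLE_iff).mpr dA, inferInstance,
      locQuot_isFractionRing (f x) (f ξ) hfξ h'⟩
  have hB : IsNoetherianRing (LocQuot x ξ h) ∧ Ring.KrullDimLE 1 (LocQuot x ξ h) ∧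
      Nontrivial (LocQuot x ξ h) ∧ IsFractionRing (LocQuot x ξ h) (X.residueField ξ) :=
    ⟨inferInstance, (Ring.krullDimLE_iff).mpr dB, inferInstance,
      locQuot_isFractionRing x ξ hξ h⟩
  have key := ordFrac_flat ψ hψflat (f.residueFieldMap ξ).hom hcomm hA hB g
  have hlen : Module.length (LocQuot x ξ h) (LocQuot x ξ h ⧸
      Ideal.map ψ (maximalIdeal (LocQuot (f x) (f ξ) h'))) =
      Module.length (X.presheaf.stalk x) (X.presheaf.stalk x ⧸
          Ideal.map (f.stalkMap x).hom (maximalIdeal (Y.presheaf.stalk (f x)))) := by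
    have h1 := length_quot_map eB.toRingHom eB.bijective
      (Ideal.map (f.stalkMap x).hom (maximalIdeal (Y.presheaf.stalk (f x))))
    rw [← h1]
    have h2 : Ideal.map eA.symm.toRingHom (maximalIdeal (LocQuot (f x) (f ξ) h')) =
        maximalIdeal (Y.presheaf.stalk (f x)) := by
      have := ((local_hom_TFAE eA.toRingHom).out 0 4).mp lA
      rw [← this]
      exact Ideal.map_symm eA
    have h3 : Ideal.map ψ (maximalIdeal (LocQuot (f x) (f ξ) h')) =
        Ideal.map eB.toRingHom (Ideal.map (f.stalkMap x).hom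
          (maximalIdeal (Y.presheaf.stalk (f x)))) := by
      rw [← h2, Ideal.map_map, Ideal.map_map]
    rw [h3]
  unfold ordAt
  rw [key, hlen]

lemma ord_unit {A : Type u} [CommRing A] (a : A) (ha : IsUnit a) : Ring.ord A a = 0 := by
  unfold Ring.ord
  rw [Module.length_eq_zero_iff, Ideal.Quotient.subsingleton_iff, Ideal.span_singleton_eq_top]
  exact ha

lemma ordFrac_dim_zero {A : Type u} [CommRing A] {K : Type u} [Field K] [Algebra A K]
    (hA : IsNoetherianRing A ∧ Ring.KrullDimLE 1 A ∧ Nontrivial A ∧ IsFractionRing A K)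
    (h0 : Ring.KrullDimLE 0 A) (g : K) : CycAlg.ordFrac A K g = 0 := by
  haveI := hA.2.2.2
  haveI : IsDomain A := (FaithfulSMul.algebraMap_injective A K).isDomain
  have hf : IsField A := Ring.KrullDimLE.isField_of_isDomain
  obtain ⟨a, b, hb, rfl⟩ := IsFractionRing.div_surjective (A := A) g
  by_cases ha0 : a = 0
  · subst ha0
    simp only [map_zero, zero_div, ordFrac_zero]
  · have ha : a ∈ nonZeroDivisors A := mem_nonZeroDivisors_of_ne_zero ha0
    have ua : IsUnit a := by
      obtain ⟨c, hc⟩ := hf.mul_inv_cancel ha0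
      exact IsUnit.of_mul_eq_one c hc
    have ub : IsUnit b := by
      obtain ⟨c, hc⟩ := hf.mul_inv_cancel (nonZeroDivisors.ne_zero hb)
      exact IsUnit.of_mul_eq_one c hc
    rw [ordFrac_div hA _ _ ha hb, ord_unit a ua, ord_unit b ub]
    simp

lemma ordAt_dim_zero {Y : Scheme.{u}} [IsIntegral Y] [IsLocallyNoetherian Y] (y ξ : Y)
    (hξ : ξ = genericPoint Y) (h : ξ ⤳ y) (d0 : ringKrullDim (LocQuot y ξ h) ≤ 0)
    (g : Y.residueField ξ) : ordAt y ξ h g = 0 := by
  haveI : Nontrivial (LocQuot y ξ h) :=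
    Ideal.Quotient.nontrivial_iff.mpr (RingHom.ker_ne_top _)
  haveI : IsNoetherianRing (Y.presheaf.stalk y) := inferInstance
  have hA : IsNoetherianRing (LocQuot y ξ h) ∧ Ring.KrullDimLE 1 (LocQuot y ξ h) ∧
      Nontrivial (LocQuot y ξ h) ∧ IsFractionRing (LocQuot y ξ h) (Y.residueField ξ) :=
    ⟨inferInstance, (Ring.krullDimLE_iff).mpr (d0.trans zero_le_one), inferInstance,
      locQuot_isFractionRing y ξ hξ h⟩
  exact ordFrac_dim_zero hA ((Ring.krullDimLE_iff).mpr d0) g

lemma generic_max {X : Scheme.{u}} [IsIntegral X] (y : X) (hy : y ⤳ genericPoint X) :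
    y = genericPoint X :=
  (hy.antisymm ((genericPoint_spec X).specializes (Set.mem_univ _))).eq

lemma map_generic {X Y : Scheme.{u}} [IsIntegral X] [IsIntegral Y] (f : X ⟶ Y) [Flat f] :
    f (genericPoint X) = genericPoint Y := by
  have h : genericPoint Y ⤳ f (genericPoint X) :=
    (genericPoint_spec Y).specializes (Set.mem_univ _)
  obtain ⟨z, hz1, hz2⟩ := (Flat.generalizingMap f) h
  rw [← hz2, generic_max z hz1]

theorem main (X Y : Scheme.{u}) [IsIntegral X] [IsIntegral Y] (δX : X → ℤ) (δY : Y → ℤ)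
    (hX : Cyc.IsSetup X δX) (hY : Cyc.IsSetup Y δY) (f : X ⟶ Y) [Flat f] [LocallyOfFiniteType f]
    (r : ℕ) (hr : Cyc.HasRelDim f r) (hδ : Cyc.DeltaCompat f δX δY)
    (g : Y.residueField (f (genericPoint X))) :
    Cyc.pullFun f δX δY r (Cyc.divFun δY (f (genericPoint X)) g) =
      Cyc.divFun δX (genericPoint X) (f.residueFieldMap (genericPoint X) g) := by
  haveI := hX.1
  haveI := hY.1
  have hηmax : MaxFib f (genericPoint X) := fun y _ hy => generic_max y hy
  have hfη : f (genericPoint X) = genericPoint Y := map_generic f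
  have hcf : ∀ x : X, MaxFib f x → δX x = δY (f x) + r := by
    intro x hx
    obtain ⟨n, hn, hδ'⟩ := hδ x
    have := Groth.Agent.S1857.td_eq_of_max f r hr x hx n hn
    rw [hδ', this]
  have hiff := dim_iff f δY δX hX.2.2 r hcf
  funext x
  have hx : genericPoint X ⤳ x := (genericPoint_spec X).specializes (Set.mem_univ _)
  have hfx : f (genericPoint X) ⤳ f x := f.base.hom.map_specializes hx
  have dA := Groth.Agent.S6462.dim_locQuot δY hY.2.2 (f (genericPoint X)) (f x) hfx
  have dB := Groth.Agent.S6462.dim_locQuot δX hX.2.2 (genericPoint X) x hx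
  have hη := hcf _ hηmax
  unfold Cyc.pullFun Cyc.divFun
  by_cases c1 : δX x = δY (f x) + r
  · rw [if_pos c1]
    by_cases c2 : δY (f x) + 1 = δY (f (genericPoint X))
    · rw [dif_pos ⟨hfx, c2⟩, dif_pos ⟨hx, by rw [c1, hη]; omega⟩]
      have e1 : (δY (f (genericPoint X)) - δY (f x)).toNat = 1 := by omega
      have e2 : (δX (genericPoint X) - δX x).toNat = 1 := by omega
      rw [e1] at dA
      rw [e2] at dB
      exact (ordAt_pull f x (genericPoint X) rfl hfη hx dA.le dB.le g).symm
    · rw [dif_neg (fun h => c2 h.2), zero_mul, dif_neg]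
      rintro ⟨-, h⟩
      apply c2
      rw [c1, hη] at h
      omega
  · rw [if_neg c1]
    by_cases c3 : δX x + 1 = δX (genericPoint X)
    · rw [dif_pos ⟨hx, c3⟩]
      obtain ⟨y', hy1, hy2, hy3⟩ := exists_max_gen f x
      have hne : y' ≠ x := by
        rintro rfl
        exact c1 (hcf _ hy3)
      have h1 := (hX.2.2 y' x hy1 hne).1
      have hy'η : y' = genericPoint X := by
        by_contra hne'
        have := (hX.2.2 (genericPoint X) y'
          ((genericPoint_spec X).specializes (Set.mem_univ _)) (Ne.symm hne')).1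
        omega
      subst hy'η
      have e1 : (δY (f (genericPoint X)) - δY (f x)).toNat = 0 := by rw [hy2]; simp
      have e2 : (δX (genericPoint X) - δX x).toNat = 1 := by omega
      rw [e1] at dA
      rw [e2] at dB
      have dA1 : ringKrullDim (LocQuot (f x) (f (genericPoint X)) hfx) ≤ 1 := by
        rw [dA]; exact_mod_cast zero_le_one
      rw [ordAt_pull f x (genericPoint X) rfl hfη hx dA1 dB.le g,
        ordAt_dim_zero (f x) (f (genericPoint X)) hfη hfx dA.le g, zero_mul]
    · rw [dif_neg (fun h => c3 h.2)]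

end PRE

/-- Let f : X → Y be a flat morphism, locally of finite type, of relative dimension r between integral
schemes, and g a nonzero rational function on Y, taken in the residue field at f(η_X) (the generic
point of Y). Then f^*(div_Y g) = div_X(g ∘ f) coefficientwise, where g ∘ f is the image of g in
κ(η_X). A pair (X, δ) with Cyc.IsSetup plays the role of a scheme locally of finite type over a
fixed base with a dimension function (X locally Noetherian with universally catenary local rings, δ
a dimension function), and Cyc.DeltaCompat records that the dimension function upstairs is the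
induced one. -/
theorem result (X Y : Scheme.{u}) [IsIntegral X] [IsIntegral Y] (δX : X → ℤ) (δY : Y → ℤ) (hX : Cyc.IsSetup X δX) (hY : Cyc.IsSetup Y δY) (f : X ⟶ Y) [Flat f] [LocallyOfFiniteType f] (r : ℕ) (hr : Cyc.HasRelDim f r) (hδ : Cyc.DeltaCompat f δX δY) (g : Y.residueField (f (genericPoint X))) (hg : g ≠ 0) : Cyc.pullFun f δX δY r (Cyc.divFun δY (f (genericPoint X)) g) = Cyc.divFun δX (genericPoint X) (f.residueFieldMap (genericPoint X) g) := by
  exact main X Y δX δY hX hY f r hr hδ g

end Groth.Agent.S1905
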