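import Groth.Statements.S1907
import Mathlib
import Groth.Agent.S1857
import Groth.Agent.Lib.Helper22.FlatDiv
-- import your own Groth.Agent.* helpers here

set_option autoImplicit false
universe u
open CategoryTheory AlgebraicGeometry
open Cyc

namespace Groth.Agent.S1907

section PRE
open IsLocalRing
open Groth.Agent.S6479 (MaxFib)
open Groth.Agent.Lib.Helper22.FlatDiv

lemma generic_max {X : Scheme.{u}} [IsIntegral X] (y : X) (hy : y ⤳ genericPoint X) :
    y = genericPoint X :=
  (hy.antisymm ((genericPoint_spec X).specializes (Set.mem_univ _))).eq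

lemma max_iff {X Y : Scheme.{u}} [IsIntegral Y] (f : X ⟶ Y) (ξ : X)
    (hξ : f ξ = genericPoint Y) : (∀ x' : X, x' ⤳ ξ → x' = ξ) ↔ MaxFib f ξ := by
  constructor
  · intro h y _ hy
    exact h y hy
  · intro h z hz
    apply h z _ hz
    have := f.base.hom.map_specializes hz
    rw [hξ] at this ⊢
    exact generic_max _ this

lemma maxIdeal_bot {Y : Scheme.{u}} [IsIntegral Y] (y : Y) (hy : y = genericPoint Y) :
    maximalIdeal (Y.presheaf.stalk y) = ⊥ := by
  subst hy
  exact IsLocalRing.maximalIdeal_eq_bot (R := Y.functionField)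

lemma fibLen_generic {X Y : Scheme.{u}} [IsIntegral Y] (f : X ⟶ Y) (ξ : X)
    (hξ : f ξ = genericPoint Y) :
    fibLen f ξ = Module.length (X.presheaf.stalk ξ) (X.presheaf.stalk ξ) := by
  unfold fibLen
  rw [maxIdeal_bot (f ξ) hξ, Ideal.map_bot]
  exact (Submodule.quotEquivOfEqBot (⊥ : Ideal (X.presheaf.stalk ξ)) rfl).length_eq

theorem main (X Y : Scheme.{u}) [IsIntegral Y] (δX : X → ℤ) (δY : Y → ℤ)
    (hX : Cyc.IsSetup X δX) (hY : Cyc.IsSetup Y δY) (f : X ⟶ Y) [Flat f] [LocallyOfFiniteType f]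
    (r : ℕ) (hr : Cyc.HasRelDim f r) (hδ : Cyc.DeltaCompat f δX δY)
    (g : Y.residueField (genericPoint Y)) (x : X) :
    Cyc.pullFun f δX δY r (Cyc.divFun δY (genericPoint Y) g) x =
      ∑ᶠ ξ : {ξ : X // (∀ x' : X, x' ⤳ ξ → x' = ξ) ∧ f ξ = genericPoint Y},
        ((Module.length (X.presheaf.stalk ξ.1) (X.presheaf.stalk ξ.1)).toNat : ℤ) *
          Cyc.divFun δX ξ.1
            (f.residueFieldMap ξ.1 ((Y.residueFieldCongr ξ.2.2.symm).hom g)) x := by
  haveI := hX.1
  haveI := hY.1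
  have hcf : ∀ x : X, MaxFib f x → δX x = δY (f x) + r := by
    intro x hx
    obtain ⟨n, hn, hδ'⟩ := hδ x
    have := Groth.Agent.S1857.td_eq_of_max f r hr x hx n hn
    rw [hδ', this]
  rw [pull_div_point f δY δX hY.2.2 hX.2.2 r hcf (genericPoint Y) g x]
  symm
  refine finsum_eq_of_bijective
    (fun ξ : {ξ : X // (∀ x' : X, x' ⤳ ξ → x' = ξ) ∧ f ξ = genericPoint Y} =>
      (⟨ξ.1, (max_iff f ξ.1 ξ.2.2).mp ξ.2.1, ξ.2.2⟩ :
        {ξ' : X // MaxFib f ξ' ∧ f ξ' = genericPoint Y})) ?_ ?_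
  · constructor
    · intro a b h
      exact Subtype.ext (congrArg (fun z => z.1) h)
    · intro b
      exact ⟨⟨b.1, (max_iff f b.1 b.2.2).mpr b.2.1, b.2.2⟩, rfl⟩
  · intro ξ
    rw [fibLen_generic f ξ.1 ξ.2.2]

end PRE

/-- Let Y be integral with δY(η_Y) = k, f : X → Y flat, locally of finite type, of relative dimension r,
and g a nonzero rational function on Y. Then f^*(div_Y g) = Σ_j n_j · div_{X_j}(g|_{X_j}) as (k + r
− 1)-cycles on X, the sum over the irreducible components X_j of X (generic points ξ_j, which map to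
η_Y) with n_j the length of O_{X,ξ_j}, and g|_{X_j} the image of g in κ(ξ_j). A pair (X, δ) with
Cyc.IsSetup plays the role of a scheme locally of finite type over a fixed base with a dimension
function (X locally Noetherian with universally catenary local rings, δ a dimension function), and
Cyc.DeltaCompat records that the dimension function upstairs is the induced one. -/
theorem result (X Y : Scheme.{u}) [IsIntegral Y] (δX : X → ℤ) (δY : Y → ℤ) (hX : Cyc.IsSetup X δX) (hY : Cyc.IsSetup Y δY) (f : X ⟶ Y) [Flat f] [LocallyOfFiniteType f] (r : ℕ) (hr : Cyc.HasRelDim f r) (hδ : Cyc.DeltaCompat f δX δY) (k : ℤ) (hk : δY (genericPoint Y) = k) (g : Y.residueField (genericPoint Y)) (hg : g ≠ 0) (x : X) : Cyc.pullFun f δX δY r (Cyc.divFun δY (genericPoint Y) g) x = ∑ᶠ ξ : {ξ : X // (∀ x' : X, x' ⤳ ξ → x' = ξ) ∧ f ξ = genericPoint Y}, ((Module.length (X.presheaf.stalk ξ.1) (X.presheaf.stalk ξ.1)).toNat : ℤ) * Cyc.divFun δX ξ.1 (f.residueFieldMap ξ.1 ((Y.residueFieldCongr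 ξ.2.2.symm).hom g)) x := by
  exact main X Y δX δY hX hY f r hr hδ g x

end Groth.Agent.S1907
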