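import Groth.Statements.S19092
import Mathlib.RingTheory.Localization.Basic
import Mathlib.Algebra.CharP.Frobenius

set_option autoImplicit false
universe u
open FrobAlg

namespace Groth.Agent.S19092

/-- Let p be a prime and A a commutative ring of characteristic p whose absolute Frobenius a ↦ a^p is a
finite ring homomorphism. Then the same holds for every quotient and every localization of A: for
every ideal I of A such that A ⧸ I has characteristic p (every proper ideal) the absolute Frobenius
of A ⧸ I is finite, and for every submonoid S of A and every localization B of A at S of
characteristic p (every nonzero localization) the absolute Frobenius of B is finite. -/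
theorem result (p : ℕ) [Fact p.Prime]
    (A : Type u) [CommRing A] [CharP A p] (hF : (frobenius A p).Finite) :
    (∀ (I : Ideal A) [CharP (A ⧸ I) p], (frobenius (A ⧸ I) p).Finite) ∧
      ∀ (S : Submonoid A) (B : Type u) [CommRing B] [Algebra A B] [IsLocalization S B] [CharP B p],
        (frobenius B p).Finite := by
  constructor
  · intro I _
    have hcomp : ((frobenius (A ⧸ I) p).comp (Ideal.Quotient.mk I)).Finite := by
      have h1 : (frobenius (A ⧸ I) p).comp (Ideal.Quotient.mk I) =
          (Ideal.Quotient.mk I).comp (frobenius A p) := by
        ext a
        exact ((Ideal.Quotient.mk I).map_frobenius p a).symm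
      rw [h1]
      exact (RingHom.Finite.of_surjective _ Ideal.Quotient.mk_surjective).comp hF
    exact RingHom.Finite.of_comp_finite hcomp
  · intro S B _ _ _ _
    have hp : p ≠ 0 := (Fact.out : p.Prime).ne_zero
    have hloc : IsLocalization (S.map (frobenius A p)) B := by
      refine (IsLocalization.iff_of_le_of_exists_dvd (M := S.map (frobenius A p)) S ?_ ?_).mpr
        inferInstance
      · rintro _ ⟨s, hs, rfl⟩
        exact S.pow_mem hs p
      · intro n hn
        exact ⟨n ^ p, ⟨n, hn, rfl⟩, dvd_pow_self n hp⟩
    have hfin := RingHom.finite_localizationPreserves (frobenius A p) S B B hF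
    have heq : (IsLocalization.map B (frobenius A p) (Submonoid.le_comap_map S) : B →+* B) =
        frobenius B p := by
      apply IsLocalization.ringHom_ext S
      rw [IsLocalization.map_comp]
      ext a
      exact (algebraMap A B).map_frobenius p a
    rw [heq] at hfin
    exact hfin

end Groth.Agent.S19092
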