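import Groth.Statements.S19093
import Groth.Agent.Lib.Helper96.FFinite
import Mathlib.Algebra.CharP.Algebra

set_option autoImplicit false
universe u
open FrobAlg

namespace Groth.Agent.S19093

/-- Let p be a prime, k a finite field of characteristic p, A a commutative k[[t]]-algebra of finite
type over the power series ring k[[t]], and P a prime ideal of A. Then the absolute Frobenius a ↦
a^p of the local ring A_P is a finite ring homomorphism. In particular every local ring of a scheme
of finite type over k[[t]] has finite absolute Frobenius. (The instance hypothesis that A_P has
characteristic p always holds, A_P being a nonzero algebra over k.) The published statement is for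
the local rings of a projective strictly semistable scheme over k[[t]] and adds that such a scheme
is regular with F-finite local rings; its proof uses only that the scheme is of finite type over
k[[t]], which is the form stated here. -/
theorem result (p : ℕ) [Fact p.Prime]
    (k : Type u) [Field k] [Finite k] [CharP k p]
    (A : Type u) [CommRing A] [Algebra (PowerSeries k) A] [Algebra.FiniteType (PowerSeries k) A]
    (P : Ideal A) [P.IsPrime] [CharP (Localization.AtPrime P) p] :
    (frobenius (Localization.AtPrime P) p).Finite := by
  open Groth.Agent.Lib.Helper96 in
  have hpr : p.Prime := Fact.out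
  have : ExpChar k p := ExpChar.prime hpr
  have : CharP (PowerSeries k) p :=
    charP_of_injective_algebraMap (R := k) (A := PowerSeries k) PowerSeries.C_injective p
  have : ExpChar (Localization.AtPrime P) p := ExpChar.prime hpr
  have h1 : Groth.Agent.Lib.Helper96.FFin p (PowerSeries k) := Groth.Agent.Lib.Helper96.FFin.powerSeries
  obtain ⟨n, f, hf⟩ := Algebra.FiniteType.iff_quotient_mvPolynomial''.mp
    (inferInstance : Algebra.FiniteType (PowerSeries k) A)
  have h2 : Groth.Agent.Lib.Helper96.FFin p (MvPolynomial (Fin n) (PowerSeries k)) :=
    Groth.Agent.Lib.Helper96.FFin.mvPolynomial h1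
  have h3 : Groth.Agent.Lib.Helper96.FFin p A :=
    Groth.Agent.Lib.Helper96.FFin.of_surjective f.toRingHom hf h2
  have h4 : Groth.Agent.Lib.Helper96.FFin p (Localization.AtPrime P) :=
    Groth.Agent.Lib.Helper96.FFin.of_isLocalization hpr.ne_zero P.primeCompl h3
  exact Groth.Agent.Lib.Helper96.FFin.finite_frobenius h4

end Groth.Agent.S19093
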