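import Groth.Statements.S19094
import Mathlib
import Groth.Agent.Lib.Helper96.FrobBasis

set_option autoImplicit false
universe u
open FrobAlg

namespace Groth.Agent.S19094

/-- Let p be a prime, k a finite field of characteristic p and K a finitely generated field extension of
the Laurent series field k((t)) of finite transcendence degree d. Then [K : K^p] = p^(d+1), where
K^p ⊆ K is the subfield of p-th powers (the image of the Frobenius). The case of interest is the
residue field of a generic point of a projective strictly semistable scheme of relative dimension d
over k[[t]], which is such an extension. -/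
theorem result (p : ℕ) [Fact p.Prime]
    (k : Type u) [Field k] [Finite k] [CharP k p]
    (K : Type u) [Field K] [Algebra (LaurentSeries k) K] [CharP K p]
    (hfg : (⊤ : IntermediateField (LaurentSeries k) K).FG)
    (d : ℕ) (hd : Algebra.trdeg (LaurentSeries k) K = d) :
    Module.finrank (↥(frobenius K p).fieldRange) K = p ^ (d + 1) := by
  classical
  have hp : p.Prime := Fact.out
  haveI : CharP (LaurentSeries k) p :=
    RingHom.charP (algebraMap (LaurentSeries k) K) (algebraMap (LaurentSeries k) K).injective p
  haveI : ExpChar k p := ExpChar.prime hp
  haveI : PerfectRing k p := PerfectRing.ofFiniteOfIsReduced p k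
  have hb0 := Groth.Agent.Lib.Helper96.isFrobBasis_powerSeries (k := k) p hp.pos
  have hb := hb0.fractionRing hp.ne_zero (K := LaurentSeries k)
  haveI : Algebra.EssFiniteType (LaurentSeries k) K := IntermediateField.fg_top_iff.mp hfg
  obtain ⟨ι, x, hx⟩ := exists_isTranscendenceBasis' (LaurentSeries k) K
  have hcard : Cardinal.mk ι = d := by rw [hx.cardinalMk_eq_trdeg, hd]
  obtain ⟨e⟩ := Cardinal.mk_eq_nat_iff.mp hcard
  have hx' : IsTranscendenceBasis (LaurentSeries k) (x ∘ e.symm) := hx.comp_equiv e.symm
  rw [Groth.Agent.Lib.Helper96.finrank_frobenius_fieldRange_of_fg p hb hx', Fintype.card_fin,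
    pow_succ, mul_comm]

end Groth.Agent.S19094
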