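import Groth.Statements.S19098
-- import your own Groth.Agent.* helpers here
import Groth.Agent.Lib.Helper40.TorsorExact

set_option autoImplicit false
universe u
open CategoryTheory MonoidalCategory CartesianMonoidalCategory MonObj AlgebraicGeometry
open ChGrp

namespace Groth.Agent.S19098

/-- Let S be a scheme, G an S-group scheme acting on an S-scheme X through a, and h an S-point of G. Let
i : Z → G be a homomorphism and ψ : Ψ → G a monomorphism with a G-action on Ψ under which ψ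
intertwines with conjugation, and o an S-point of Ψ over h, such that (Ψ, o) is the homogeneous
space G/Z for the fppf topology through the orbit map g ↦ g h g⁻¹ (so Z is the centralizer of h and
Ψ its conjugacy class). Let incl : X^h → X be a monomorphism whose points are the points of X fixed
by h, with the Z-action restricted from a; let σ : S_Ψ → G ×_S X be a monomorphism whose points are
the pairs (g, x) with g a point of Ψ and g x = x (the part of the global stabilizer over Ψ), with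
the G-action by conjugation on the first entry and by a on the second; and let Φ : G ×_S X^h → S_Ψ
be the morphism (g, x) ↦ (g h g⁻¹, g x). Then Φ makes S_Ψ, with its G-action, the balanced product G
×^Z X^h for the fppf topology: Φ is G-equivariant, it is a Z-torsor for the action z (g, x) = (g
z⁻¹, z x), and it has sections fppf-locally on S_Ψ. (The source works with algebraic spaces of
finite type over the complex numbers and a semisimple conjugacy class Ψ, where the identification of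
Ψ with G/Z comes from the theory of algebraic groups; here that identification is the hypothesis
hhom, the base is arbitrary and X is a scheme.) -/
theorem result
    {S : Scheme.{u}} {G X Z Ψ Xh SΨ : Over S} [GrpObj G] [GrpObj Z]
    (a : AlgGrp.Action G X) (h : 𝟙_ (Over S) ⟶ G)
    (i : Z ⟶ G) [IsMonHom i]
    (ψ : Ψ ⟶ G) [Mono ψ] (aΨ : AlgGrp.Action G Ψ)
    (hψ : aΨ.act ≫ ψ = fst G Ψ * (snd G Ψ ≫ ψ) * (fst G Ψ)⁻¹)
    (o : 𝟙_ (Over S) ⟶ Ψ) (ho : o ≫ ψ = h)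
    (hhom : ChGrp.IsHomog Scheme.fppfPrecoverage i aΨ o)
    (incl : Xh ⟶ X) [Mono incl]
    (hXh : ∀ (T : Over S) (x : T ⟶ X), (∃ y : T ⟶ Xh, y ≫ incl = x) ↔ lift (toUnit T ≫ h) x ≫ a.act = x)
    (aXh : AlgGrp.Action Z Xh) (hincl : AlgGrp.Action.IsEquivariant aXh (a.restrict i) incl)
    (σ : SΨ ⟶ G ⊗ X) [Mono σ]
    (hSΨ : ∀ (T : Over S) (g : T ⟶ G) (x : T ⟶ X),
      (∃ q : T ⟶ SΨ, q ≫ σ = lift g x) ↔ ((∃ y : T ⟶ Ψ, y ≫ ψ = g) ∧ lift g x ≫ a.act = x))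
    (aS : AlgGrp.Action G SΨ)
    (hσ : aS.act ≫ σ = lift (fst G SΨ * (snd G SΨ ≫ σ ≫ fst G X) * (fst G SΨ)⁻¹)
      (lift (fst G SΨ) (snd G SΨ ≫ σ ≫ snd G X) ≫ a.act))
    (Φ : G ⊗ Xh ⟶ SΨ)
    (hΦ : Φ ≫ σ = lift (fst G Xh * (toUnit (G ⊗ Xh) ≫ h) * (fst G Xh)⁻¹)
      (lift (fst G Xh) (snd G Xh ≫ incl) ≫ a.act)) :
    ChGrp.IsBalProd Scheme.fppfPrecoverage i aXh aS Φ := by
  have P1 : ∀ {T : Over S} (g : T ⟶ G) (y : T ⟶ Ψ),
      lift g y ≫ aΨ.act ≫ ψ = g * (y ≫ ψ) * g⁻¹ := by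
    intro T g y
    simp only [hψ, comp_mul, GrpObj.comp_inv, lift_fst, lift_snd_assoc]
  have P2 : ∀ {T : Over S} (g : T ⟶ G) (q : T ⟶ SΨ),
      lift g q ≫ aS.act ≫ σ =
        lift (g * (q ≫ σ ≫ fst G X) * g⁻¹) (lift g (q ≫ σ ≫ snd G X) ≫ a.act) := by
    intro T g q
    simp only [hσ, comp_lift, comp_lift_assoc, comp_mul, GrpObj.comp_inv, lift_fst,
      lift_snd_assoc]
  have P3 : ∀ {T : Over S} (g : T ⟶ G) (y : T ⟶ Xh),
      lift g y ≫ Φ ≫ σ =
        lift (g * (toUnit T ≫ h) * g⁻¹) (lift g (y ≫ incl) ≫ a.act) := by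
    intro T g y
    simp only [hΦ, comp_lift, comp_lift_assoc, comp_mul, GrpObj.comp_inv, lift_fst,
      lift_snd_assoc, comp_toUnit_assoc]
  have P4 : ∀ {T : Over S} (z : T ⟶ Z) (y : T ⟶ Xh),
      (lift z y ≫ aXh.act) ≫ incl = lift (z ≫ i) (y ≫ incl) ≫ a.act := by
    intro T z y
    have e : aXh.act ≫ incl = (Z ◁ incl) ≫ (a.restrict i).act := hincl
    rw [Category.assoc, e, lift_whiskerLeft_assoc, AlgGrp.Action.lift_restrict_act]
  have C1 : ∀ {T : Over S} (g : T ⟶ G),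
      (g ≫ aΨ.orbitMap o) ≫ ψ = g * (toUnit T ≫ h) * g⁻¹ := by
    intro T g
    rw [AlgGrp.Action.comp_orbitMap, Category.assoc, P1, Category.assoc, ho]
  have hpb : IsPullback (fst G Z) ((G ◁ i) ≫ μ[G]) (aΨ.orbitMap o) (aΨ.orbitMap o) := hhom.2.1
  have C2 : ∀ {T : Over S} (g : T ⟶ G) (z : T ⟶ Z),
      (g * (z ≫ i)) * (toUnit T ≫ h) * (g * (z ≫ i))⁻¹ = g * (toUnit T ≫ h) * g⁻¹ := by
    intro T g z
    have e : g ≫ aΨ.orbitMap o = (g * (z ≫ i)) ≫ aΨ.orbitMap o := by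
      calc g ≫ aΨ.orbitMap o = lift g z ≫ fst G Z ≫ aΨ.orbitMap o := by rw [lift_fst_assoc]
        _ = lift g z ≫ ((G ◁ i) ≫ μ[G]) ≫ aΨ.orbitMap o := by rw [hpb.w]
        _ = (lift g (z ≫ i) ≫ μ[G]) ≫ aΨ.orbitMap o := by
          rw [Category.assoc, lift_whiskerLeft_assoc, Category.assoc]
        _ = (g * (z ≫ i)) ≫ aΨ.orbitMap o := by rw [← Hom.mul_def]
    rw [← C1 (g * (z ≫ i)), ← C1 g, e]
  -- Part 1: equivariance
  have part1 : AlgGrp.Action.IsEquivariant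
      ((NonAbH1.trivialAction G).prod (AlgGrp.Action.trivial G Xh)) aS Φ := by
    unfold AlgGrp.Action.IsEquivariant
    rw [← cancel_mono σ]
    apply AlgGrp.Action.hom_ext_lift₂
    intro T g p
    obtain ⟨g', hg'⟩ : ∃ g' : T ⟶ G, g' = p ≫ fst G Xh := ⟨_, rfl⟩
    obtain ⟨y, hy⟩ : ∃ y : T ⟶ Xh, y = p ≫ snd G Xh := ⟨_, rfl⟩
    have hp : p = lift g' y := by rw [hg', hy, lift_comp_fst_snd]
    rw [hp]
    have hL : lift g (lift g' y) ≫
        ((NonAbH1.trivialAction G).prod (AlgGrp.Action.trivial G Xh)).act = lift (g * g') y := by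
      rw [AlgGrp.Action.lift_prod_act, AlgGrp.Action.lift_trivial_act]
      congr 1
    have lhs : lift g (lift g' y) ≫
        (((NonAbH1.trivialAction G).prod (AlgGrp.Action.trivial G Xh)).act ≫ Φ) ≫ σ =
        lift ((g * g') * (toUnit T ≫ h) * (g * g')⁻¹)
          (lift (g * g') (y ≫ incl) ≫ a.act) := by
      rw [Category.assoc, ← Category.assoc, hL, P3]
    have q1 : (lift g' y ≫ Φ) ≫ σ ≫ fst G X = g' * (toUnit T ≫ h) * g'⁻¹ := by
      calc (lift g' y ≫ Φ) ≫ σ ≫ fst G X = (lift g' y ≫ Φ ≫ σ) ≫ fst G X := by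
            simp only [Category.assoc]
        _ = _ := by rw [P3, lift_fst]
    have q2 : (lift g' y ≫ Φ) ≫ σ ≫ snd G X = lift g' (y ≫ incl) ≫ a.act := by
      calc (lift g' y ≫ Φ) ≫ σ ≫ snd G X = (lift g' y ≫ Φ ≫ σ) ≫ snd G X := by
            simp only [Category.assoc]
        _ = _ := by rw [P3, lift_snd]
    have rhs : lift g (lift g' y) ≫ ((G ◁ Φ) ≫ aS.act) ≫ σ =
        lift (g * (g' * (toUnit T ≫ h) * g'⁻¹) * g⁻¹)
          (lift g (lift g' (y ≫ incl) ≫ a.act) ≫ a.act) := by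
      rw [Category.assoc, lift_whiskerLeft_assoc, P2, q1, q2]
    rw [lhs, rhs, AlgGrp.Action.lift_mul_act]
    congr 1
    group
  -- Part 2: the cartesian square
  have tw : ∀ {T : Over S} (z : T ⟶ Z) (g : T ⟶ G) (y : T ⟶ Xh),
      lift z (lift g y) ≫ (twist i aXh).act = lift (g * (z ≫ i)⁻¹) (lift z y ≫ aXh.act) :=
    fun z g y => lift_twist_act i aXh z g y
  have part2 : IsPullback (twist i aXh).act (snd Z (G ⊗ Xh)) Φ Φ := by
    have w : (twist i aXh).act ≫ Φ = snd Z (G ⊗ Xh) ≫ Φ := by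
      rw [← cancel_mono σ]
      apply AlgGrp.Action.hom_ext_lift₂
      intro T z p
      obtain ⟨g, hg⟩ : ∃ g : T ⟶ G, g = p ≫ fst G Xh := ⟨_, rfl⟩
      obtain ⟨y, hy⟩ : ∃ y : T ⟶ Xh, y = p ≫ snd G Xh := ⟨_, rfl⟩
      have hp : p = lift g y := by rw [hg, hy, lift_comp_fst_snd]
      rw [hp]
      have e1 : g * (z ≫ i)⁻¹ * (z ≫ i) = g := _root_.inv_mul_cancel_right _ _
      have c := C2 (g * (z ≫ i)⁻¹) z
      rw [e1] at c
      have e2 : lift (g * (z ≫ i)⁻¹) (lift (z ≫ i) (y ≫ incl) ≫ a.act) ≫ a.act =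
          lift g (y ≫ incl) ≫ a.act := by
        rw [← AlgGrp.Action.lift_mul_act, e1]
      have l1 : lift z (lift g y) ≫ ((twist i aXh).act ≫ Φ) ≫ σ =
          lift (g * (toUnit T ≫ h) * g⁻¹) (lift g (y ≫ incl) ≫ a.act) := by
        rw [Category.assoc, ← Category.assoc, tw, P3, P4, ← c, e2]
      have l2 : lift z (lift g y) ≫ (snd Z (G ⊗ Xh) ≫ Φ) ≫ σ =
          lift (g * (toUnit T ≫ h) * g⁻¹) (lift g (y ≫ incl) ≫ a.act) := by
        rw [Category.assoc, lift_snd_assoc, P3]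
      exact l1.trans l2.symm
    refine Groth.Agent.Lib.Helper40.TorsorExact.isPullback_of_existsUnique w ?_
    intro W p1 p2 hp
    obtain ⟨g1, hg1⟩ : ∃ g1 : W ⟶ G, g1 = p1 ≫ fst G Xh := ⟨_, rfl⟩
    obtain ⟨y1, hy1⟩ : ∃ y1 : W ⟶ Xh, y1 = p1 ≫ snd G Xh := ⟨_, rfl⟩
    obtain ⟨g2, hg2⟩ : ∃ g2 : W ⟶ G, g2 = p2 ≫ fst G Xh := ⟨_, rfl⟩
    obtain ⟨y2, hy2⟩ : ∃ y2 : W ⟶ Xh, y2 = p2 ≫ snd G Xh := ⟨_, rfl⟩
    have hp1 : p1 = lift g1 y1 := by rw [hg1, hy1, lift_comp_fst_snd]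
    have hp2 : p2 = lift g2 y2 := by rw [hg2, hy2, lift_comp_fst_snd]
    have hσ12 : lift (g1 * (toUnit W ≫ h) * g1⁻¹) (lift g1 (y1 ≫ incl) ≫ a.act) =
        lift (g2 * (toUnit W ≫ h) * g2⁻¹) (lift g2 (y2 ≫ incl) ≫ a.act) := by
      rw [← P3, ← P3, ← hp1, ← hp2, ← Category.assoc, hp, Category.assoc]
    have hc1 : g1 * (toUnit W ≫ h) * g1⁻¹ = g2 * (toUnit W ≫ h) * g2⁻¹ := by
      have := congrArg (fun k => k ≫ fst G X) hσ12
      simpa only [lift_fst] using this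
    have hc2 : lift g1 (y1 ≫ incl) ≫ a.act = lift g2 (y2 ≫ incl) ≫ a.act := by
      have := congrArg (fun k => k ≫ snd G X) hσ12
      simpa only [lift_snd] using this
    have horb : g1 ≫ aΨ.orbitMap o = g2 ≫ aΨ.orbitMap o := by
      rw [← cancel_mono ψ, C1, C1, hc1]
    obtain ⟨k, hk1, hk2⟩ : ∃ k : W ⟶ G ⊗ Z, k ≫ fst G Z = g1 ∧ k ≫ (G ◁ i) ≫ μ[G] = g2 :=
      ⟨hpb.lift g1 g2 horb, hpb.lift_fst _ _ _, hpb.lift_snd _ _ _⟩
    obtain ⟨z, hz⟩ : ∃ z : W ⟶ Z, z = k ≫ snd G Z := ⟨_, rfl⟩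
    have hk : k = lift g1 z := by rw [← hk1, hz, lift_comp_fst_snd]
    have hmul : g1 * (z ≫ i) = g2 := by
      rw [← hk2, hk, lift_whiskerLeft_assoc, ← Hom.mul_def]
    have hg1' : g2 * (z ≫ i)⁻¹ = g1 := by rw [← hmul, _root_.mul_inv_cancel_right]
    have hy : lift z y2 ≫ aXh.act = y1 := by
      rw [← cancel_mono incl, P4]
      have e : lift g1 (lift (z ≫ i) (y2 ≫ incl) ≫ a.act) ≫ a.act =
          lift g1 (y1 ≫ incl) ≫ a.act := by
        rw [← AlgGrp.Action.lift_mul_act, hmul, hc2]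
      have := congrArg (fun x => lift g1⁻¹ x ≫ a.act) e
      simp only [← AlgGrp.Action.lift_mul_act, _root_.inv_mul_cancel, _root_.inv_mul_cancel_left,
        AlgGrp.Action.lift_one_act] at this
      exact this
    refine ⟨lift z p2, ⟨?_, lift_snd _ _⟩, ?_⟩
    · rw [hp2, tw, hg1', hy, ← hp1]
    · rintro k' ⟨hk'1, hk'2⟩
      obtain ⟨z', hz'⟩ : ∃ z' : W ⟶ Z, z' = k' ≫ fst Z (G ⊗ Xh) := ⟨_, rfl⟩
      have hk' : k' = lift z' p2 := by rw [hz', ← hk'2, lift_comp_fst_snd]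
      have e3 : g2 * (z' ≫ i)⁻¹ = g1 := by
        have e : (k' ≫ (twist i aXh).act) ≫ fst G Xh = p1 ≫ fst G Xh := by rw [hk'1]
        rw [hk', hp2, tw, lift_fst, ← hg1] at e
        exact e
      have e4 : g1 * (z' ≫ i) = g2 := by rw [← e3, _root_.inv_mul_cancel_right]
      have e5 : lift g1 z' = k := by
        apply hpb.hom_ext
        · rw [lift_fst, hk1]
        · rw [lift_whiskerLeft_assoc, ← Hom.mul_def, e4, hk2]
      have e6 : z' = z := by rw [hz, ← e5, lift_snd]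
      rw [hk', e6]
  -- Part 3: local sections
  obtain ⟨⟨yΨ, hyΨ⟩, hfix⟩ := (hSΨ SΨ (σ ≫ fst G X) (σ ≫ snd G X)).1
    ⟨𝟙 _, by rw [Category.id_comp, ← comp_lift, lift_fst_snd, Category.comp_id]⟩
  have sect : ∀ (T : Over S) (v : T ⟶ SΨ) (γ₁ : T ⟶ G),
      γ₁ ≫ aΨ.orbitMap o = v ≫ yΨ → ∃ s : T ⟶ G ⊗ Xh, s ≫ Φ = v := by
    intro T v γ₁ hγ
    obtain ⟨gV, hgV⟩ : ∃ gV : T ⟶ G, gV = v ≫ σ ≫ fst G X := ⟨_, rfl⟩
    obtain ⟨xV, hxV⟩ : ∃ xV : T ⟶ X, xV = v ≫ σ ≫ snd G X := ⟨_, rfl⟩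
    have hconj : γ₁ * (toUnit T ≫ h) * γ₁⁻¹ = gV := by
      rw [← C1, hγ, Category.assoc, hyΨ, hgV]
    have hfixV : lift gV xV ≫ a.act = xV := by
      have := congrArg (fun k => v ≫ k) hfix
      simp only [comp_lift_assoc] at this
      rw [hgV, hxV]
      exact this
    obtain ⟨x', hx'⟩ : ∃ x' : T ⟶ X, x' = lift γ₁⁻¹ xV ≫ a.act := ⟨_, rfl⟩
    have hx'fix : lift (toUnit T ≫ h) x' ≫ a.act = x' := by
      have e : (toUnit T ≫ h) * γ₁⁻¹ = γ₁⁻¹ * gV := by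
        rw [← hconj]
        group
      rw [hx', ← AlgGrp.Action.lift_mul_act, e, AlgGrp.Action.lift_mul_act, hfixV]
    obtain ⟨y', hy'⟩ := (hXh T x').2 hx'fix
    refine ⟨lift γ₁ y', ?_⟩
    rw [← cancel_mono σ, Category.assoc, P3, hy', hconj]
    have e : lift γ₁ x' ≫ a.act = xV := by
      rw [hx', ← AlgGrp.Action.lift_mul_act, _root_.mul_inv_cancel, AlgGrp.Action.lift_one_act]
    rw [e, hgV, hxV]
    apply CartesianMonoidalCategory.hom_ext <;> simp only [lift_fst, lift_snd, Category.assoc]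
  have part3 : NonAbH1.IsLocallyTrivialFor Scheme.fppfPrecoverage
      (Over.mk Φ.left : Over SΨ.left) := by
    obtain ⟨R, hR, hsec⟩ := hhom.2.2
    refine ⟨R.pullbackArrows yΨ.left, Precoverage.pullbackArrows_mem yΨ.left hR, ?_⟩
    rintro V' f' ⟨V0, f, hf⟩
    obtain ⟨s, hs⟩ := hsec f hf
    have hs' : s ≫ (aΨ.orbitMap o).left = f := hs
    have e1 : s ≫ G.hom = f ≫ Ψ.hom := by
      have := Over.w (aΨ.orbitMap o)
      rw [← this, ← Category.assoc, hs']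
    have hG : (Limits.pullback.fst f yΨ.left ≫ s) ≫ G.hom =
        Limits.pullback.snd f yΨ.left ≫ SΨ.hom := by
      rw [Category.assoc, e1, ← Category.assoc, Limits.pullback.condition, Category.assoc,
        Over.w yΨ]
    obtain ⟨s', hs'2⟩ := sect (Over.mk (Limits.pullback.snd f yΨ.left ≫ SΨ.hom))
      (Over.homMk (Limits.pullback.snd f yΨ.left) rfl)
      (Over.homMk (Limits.pullback.fst f yΨ.left ≫ s) hG) (by
        apply Over.OverMorphism.ext
        show (Limits.pullback.fst f yΨ.left ≫ s) ≫ (aΨ.orbitMap o).left =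
          Limits.pullback.snd f yΨ.left ≫ yΨ.left
        rw [Category.assoc, hs', Limits.pullback.condition])
    refine ⟨s'.left, ?_⟩
    have := congrArg (fun k => k.left) hs'2
    exact this
  exact ⟨part1, part2, part3⟩

end Groth.Agent.S19098
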