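import Groth.Statements.S19099
-- import your own Groth.Agent.* helpers here
import Groth.Agent.Lib.Helper40.TorsorExact
import Groth.Agent.Lib.Helper40.LocTrivCov
import Groth.Agent.Lib.Helper40.FpqcCovOver

set_option autoImplicit false
universe u
open CategoryTheory MonoidalCategory CartesianMonoidalCategory MonObj AlgebraicGeometry
open ChGrp

namespace Groth.Agent.S19099

/-- Let S be a scheme, i : G → Q a monomorphic homomorphism of S-group schemes (a closed subgroup), h an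
S-point of G whose image in Q is central, and X an S-scheme with a G-action a. Let incl : X^h → X be
a monomorphism whose points are the points of X fixed by h, with a G-action making incl equivariant
(X^h is G-stable since h is central in G). Let Y with its Q-action and j : Q ×_S X → Y be the
balanced product Q ×^G X for the fppf topology, Y' with j' : Q ×_S X^h → Y' the balanced product Q
×^G X^h, and m : Y' → Y the morphism under which j' followed by m is Q × incl followed by j. Then m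
is a monomorphism, a point of Y factors through m exactly when it is fixed by h acting on Y through
the Q-action, and m is a closed immersion if incl is one: Q ×^G X^h is the fixed locus of h in Q ×^G
X. (The source states this for a smooth algebraic space X of finite type over the complex numbers,
as an equality of closed subspaces, and argues on closed points; the form here is the one its
computation gives for the fppf quotients over any base, with X a scheme.) -/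
theorem result
    {S : Scheme.{u}} {Q G X Xh Y Y' : Over S} [GrpObj Q] [GrpObj G]
    (i : G ⟶ Q) [IsMonHom i] [Mono i]
    (h : 𝟙_ (Over S) ⟶ G)
    (hcent : ∀ (T : Over S) (q : T ⟶ Q), q * (toUnit T ≫ h ≫ i) = (toUnit T ≫ h ≫ i) * q)
    (a : AlgGrp.Action G X)
    (incl : Xh ⟶ X) [Mono incl]
    (hXh : ∀ (T : Over S) (x : T ⟶ X), (∃ y : T ⟶ Xh, y ≫ incl = x) ↔ lift (toUnit T ≫ h) x ≫ a.act = x)
    (aXh : AlgGrp.Action G Xh) (hincl : AlgGrp.Action.IsEquivariant aXh a incl)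
    (aY : AlgGrp.Action Q Y) (j : Q ⊗ X ⟶ Y) (hY : ChGrp.IsBalProd Scheme.fppfPrecoverage i a aY j)
    (aY' : AlgGrp.Action Q Y') (j' : Q ⊗ Xh ⟶ Y') (hY' : ChGrp.IsBalProd Scheme.fppfPrecoverage i aXh aY' j')
    (m : Y' ⟶ Y) (hm : j' ≫ m = (Q ◁ incl) ≫ j) :
    Mono m ∧
      (∀ (T : Over S) (y : T ⟶ Y), (∃ y' : T ⟶ Y', y' ≫ m = y) ↔ lift (toUnit T ≫ h ≫ i) y ≫ aY.act = y) ∧
      (IsClosedImmersion incl.left → IsClosedImmersion m.left) := by
  have covj : Groth.Agent.Lib.Helper40.FpqcCov.IsCov j.left :=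
    Groth.Agent.Lib.Helper40.FpqcCov.isCov_of_isLocallyTrivialFor_fppf (Over.mk j.left) hY.2.2
  have covj' : Groth.Agent.Lib.Helper40.FpqcCov.IsCov j'.left :=
    Groth.Agent.Lib.Helper40.FpqcCov.isCov_of_isLocallyTrivialFor_fppf (Over.mk j'.left) hY'.2.2
  have Lft : ∀ {A B : Over S} (κ : A ⟶ B), Groth.Agent.Lib.Helper40.FpqcCov.IsCov κ.left →
      ∀ {T : Over S} (y : T ⟶ B), ∃ (T' : Over S) (c : T' ⟶ T) (x : T' ⟶ A),
        Groth.Agent.Lib.Helper40.FpqcCov.IsCov c.left ∧ x ≫ κ = c ≫ y := by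
    intro A B κ hκ T y
    refine ⟨Limits.pullback y κ, Limits.pullback.fst y κ, Limits.pullback.snd y κ, ?_,
      Limits.pullback.condition.symm⟩
    exact Groth.Agent.Lib.Helper40.FpqcCov.isCov_left_of_isPullback hκ
      (IsPullback.of_hasPullback y κ)
  -- point forms
  have I : ∀ {T : Over S} (g : T ⟶ G) (q : T ⟶ Q) (x : T ⟶ X),
      lift (q * (g ≫ i)⁻¹) (lift g x ≫ a.act) ≫ j = lift q x ≫ j := by
    intro T g q x
    calc lift (q * (g ≫ i)⁻¹) (lift g x ≫ a.act) ≫ j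
        = (lift g (lift q x) ≫ (twist i a).act) ≫ j := by rw [lift_twist_act]
      _ = lift g (lift q x) ≫ snd G (Q ⊗ X) ≫ j := by rw [Category.assoc, hY.2.1.w]
      _ = lift q x ≫ j := by rw [lift_snd_assoc]
  have I' : ∀ {T : Over S} (g : T ⟶ G) (q : T ⟶ Q) (x : T ⟶ Xh),
      lift (q * (g ≫ i)⁻¹) (lift g x ≫ aXh.act) ≫ j' = lift q x ≫ j' := by
    intro T g q x
    calc lift (q * (g ≫ i)⁻¹) (lift g x ≫ aXh.act) ≫ j'
        = (lift g (lift q x) ≫ (twist i aXh).act) ≫ j' := by rw [lift_twist_act]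
      _ = lift g (lift q x) ≫ snd G (Q ⊗ Xh) ≫ j' := by rw [Category.assoc, hY'.2.1.w]
      _ = lift q x ≫ j' := by rw [lift_snd_assoc]
  have E : ∀ {T : Over S} (g q : T ⟶ Q) (x : T ⟶ X),
      lift g (lift q x ≫ j) ≫ aY.act = lift (g * q) x ≫ j := by
    intro T g q x
    have hE : ((NonAbH1.trivialAction Q).prod (AlgGrp.Action.trivial Q X)).act ≫ j =
        (Q ◁ j) ≫ aY.act := hY.1
    have hL : lift g (lift q x) ≫
        ((NonAbH1.trivialAction Q).prod (AlgGrp.Action.trivial Q X)).act = lift (g * q) x := by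
      rw [AlgGrp.Action.lift_prod_act, AlgGrp.Action.lift_trivial_act]
      congr 1
    calc lift g (lift q x ≫ j) ≫ aY.act = lift g (lift q x) ≫ (Q ◁ j) ≫ aY.act := by
          rw [lift_whiskerLeft_assoc]
      _ = lift g (lift q x) ≫
          ((NonAbH1.trivialAction Q).prod (AlgGrp.Action.trivial Q X)).act ≫ j := by rw [← hE]
      _ = lift (g * q) x ≫ j := by rw [← Category.assoc, hL]
  have P4 : ∀ {T : Over S} (g : T ⟶ G) (x : T ⟶ Xh),
      (lift g x ≫ aXh.act) ≫ incl = lift g (x ≫ incl) ≫ a.act := by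
    intro T g x
    have e : aXh.act ≫ incl = (G ◁ incl) ≫ a.act := hincl
    rw [Category.assoc, e, lift_whiskerLeft_assoc]
  have hm' : ∀ {T : Over S} (p : T ⟶ Q ⊗ Xh), (p ≫ j') ≫ m = (p ≫ (Q ◁ incl)) ≫ j := by
    intro T p
    rw [Category.assoc, hm, Category.assoc]
  -- (A)
  have A : ∀ (T : Over S) (p1 p2 : T ⟶ Q ⊗ Xh), (p1 ≫ j') ≫ m = (p2 ≫ j') ≫ m →
      p1 ≫ j' = p2 ≫ j' := by
    intro T p1 p2 h12
    obtain ⟨q1, hq1⟩ : ∃ q1 : T ⟶ Q, q1 = p1 ≫ fst Q Xh := ⟨_, rfl⟩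
    obtain ⟨x1, hx1⟩ : ∃ x1 : T ⟶ Xh, x1 = p1 ≫ snd Q Xh := ⟨_, rfl⟩
    obtain ⟨q2, hq2⟩ : ∃ q2 : T ⟶ Q, q2 = p2 ≫ fst Q Xh := ⟨_, rfl⟩
    obtain ⟨x2, hx2⟩ : ∃ x2 : T ⟶ Xh, x2 = p2 ≫ snd Q Xh := ⟨_, rfl⟩
    have hp1 : p1 = lift q1 x1 := by rw [hq1, hx1, lift_comp_fst_snd]
    have hp2 : p2 = lift q2 x2 := by rw [hq2, hx2, lift_comp_fst_snd]
    have h12' : lift q1 (x1 ≫ incl) ≫ j = lift q2 (x2 ≫ incl) ≫ j := by
      rw [← lift_whiskerLeft, ← lift_whiskerLeft, ← hp1, ← hp2, ← hm', ← hm', h12]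
    obtain ⟨k, hk1, hk2⟩ : ∃ k : T ⟶ G ⊗ (Q ⊗ X),
        k ≫ (twist i a).act = lift q1 (x1 ≫ incl) ∧
          k ≫ snd G (Q ⊗ X) = lift q2 (x2 ≫ incl) :=
      ⟨hY.2.1.lift _ _ h12', hY.2.1.lift_fst _ _ _, hY.2.1.lift_snd _ _ _⟩
    obtain ⟨g, hg⟩ : ∃ g : T ⟶ G, g = k ≫ fst G (Q ⊗ X) := ⟨_, rfl⟩
    have hk : k = lift g (lift q2 (x2 ≫ incl)) := by rw [hg, ← hk2, lift_comp_fst_snd]
    rw [hk, lift_twist_act] at hk1
    have hq : q2 * (g ≫ i)⁻¹ = q1 := by
      have := congrArg (fun t => t ≫ fst Q X) hk1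
      simpa only [lift_fst] using this
    have hx : lift g (x2 ≫ incl) ≫ a.act = x1 ≫ incl := by
      have := congrArg (fun t => t ≫ snd Q X) hk1
      simpa only [lift_snd] using this
    have hx' : lift g x2 ≫ aXh.act = x1 := by rw [← cancel_mono incl, P4, hx]
    calc p1 ≫ j' = lift q1 x1 ≫ j' := by rw [hp1]
      _ = lift (q2 * (g ≫ i)⁻¹) (lift g x2 ≫ aXh.act) ≫ j' := by rw [hq, hx']
      _ = lift q2 x2 ≫ j' := I' g q2 x2
      _ = p2 ≫ j' := by rw [hp2]
  have monom : Mono m := by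
    refine ⟨fun {T} y1 y2 h12 => ?_⟩
    obtain ⟨T1, c1, p1, hc1, e1⟩ := Lft j' covj' y1
    obtain ⟨T2, c2, p2, hc2, e2⟩ := Lft j' covj' (c1 ≫ y2)
    haveI := Groth.Agent.Lib.Helper40.FpqcCov.epi_of_isCov_left hc1
    haveI := Groth.Agent.Lib.Helper40.FpqcCov.epi_of_isCov_left hc2
    rw [← cancel_epi c1, ← cancel_epi c2]
    have key := A T2 (c2 ≫ p1) p2 (by
      rw [Category.assoc c2 p1 j', e1, e2]
      simp only [Category.assoc, h12])
    calc c2 ≫ c1 ≫ y1 = c2 ≫ p1 ≫ j' := by rw [e1]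
      _ = (c2 ≫ p1) ≫ j' := (Category.assoc _ _ _).symm
      _ = p2 ≫ j' := key
      _ = c2 ≫ c1 ≫ y2 := e2
  -- (B)
  have B : ∀ (T : Over S) (q : T ⟶ Q) (x : T ⟶ Xh),
      lift (toUnit T ≫ h ≫ i) (lift q (x ≫ incl) ≫ j) ≫ aY.act = lift q (x ≫ incl) ≫ j := by
    intro T q x
    rw [E]
    have cent : (toUnit T ≫ h ≫ i) * q = q * (toUnit T ≫ h ≫ i) := (hcent T q).symm
    have fixed : lift (toUnit T ≫ h) (x ≫ incl) ≫ a.act = x ≫ incl :=
      (hXh T (x ≫ incl)).1 ⟨x, rfl⟩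
    have key := I (toUnit T ≫ h) (q * (toUnit T ≫ h ≫ i)) (x ≫ incl)
    have e : (toUnit T ≫ h) ≫ i = toUnit T ≫ h ≫ i := Category.assoc _ _ _
    rw [fixed, e, _root_.mul_inv_cancel_right] at key
    rw [cent, ← key]
  -- (F)
  have F : ∀ (T : Over S) (q : T ⟶ Q) (x : T ⟶ X),
      lift (toUnit T ≫ h ≫ i) (lift q x ≫ j) ≫ aY.act = lift q x ≫ j →
        ∃ x' : T ⟶ Xh, x' ≫ incl = x := by
    intro T q x hfix
    rw [E] at hfix
    obtain ⟨k, hk1, hk2⟩ : ∃ k : T ⟶ G ⊗ (Q ⊗ X),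
        k ≫ (twist i a).act = lift ((toUnit T ≫ h ≫ i) * q) x ∧
          k ≫ snd G (Q ⊗ X) = lift q x :=
      ⟨hY.2.1.lift _ _ hfix, hY.2.1.lift_fst _ _ _, hY.2.1.lift_snd _ _ _⟩
    obtain ⟨g, hg⟩ : ∃ g : T ⟶ G, g = k ≫ fst G (Q ⊗ X) := ⟨_, rfl⟩
    have hk : k = lift g (lift q x) := by rw [hg, ← hk2, lift_comp_fst_snd]
    rw [hk, lift_twist_act] at hk1
    have hq : q * (g ≫ i)⁻¹ = (toUnit T ≫ h ≫ i) * q := by
      have := congrArg (fun t => t ≫ fst Q X) hk1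
      simpa only [lift_fst] using this
    have hx : lift g x ≫ a.act = x := by
      have := congrArg (fun t => t ≫ snd Q X) hk1
      simpa only [lift_snd] using this
    have h1 : (g ≫ i)⁻¹ = toUnit T ≫ h ≫ i := by
      have : q * (g ≫ i)⁻¹ = q * (toUnit T ≫ h ≫ i) := by
        rw [hq]
        exact (hcent T q).symm
      exact _root_.mul_left_cancel this
    have h2 : (g * (toUnit T ≫ h)) ≫ i = (1 : T ⟶ G) ≫ i := by
      rw [MonObj.mul_comp g (toUnit T ≫ h) i, MonObj.one_comp i, Category.assoc, ← h1,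
        _root_.mul_inv_cancel]
    have h3 : g * (toUnit T ≫ h) = 1 := (cancel_mono i).1 h2
    have h4 : toUnit T ≫ h = g⁻¹ := eq_inv_of_mul_eq_one_right h3
    have h5 : lift g⁻¹ (lift g x ≫ a.act) ≫ a.act = x := by
      rw [← AlgGrp.Action.lift_mul_act, _root_.inv_mul_cancel, AlgGrp.Action.lift_one_act]
    rw [hx] at h5
    exact (hXh T x).2 (by rw [h4]; exact h5)
  -- (b)
  have partb : ∀ (T : Over S) (y : T ⟶ Y),
      (∃ y' : T ⟶ Y', y' ≫ m = y) ↔ lift (toUnit T ≫ h ≫ i) y ≫ aY.act = y := by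
    intro T y
    constructor
    · rintro ⟨y', hy'⟩
      obtain ⟨T1, c, p, hc, e⟩ := Lft j' covj' y'
      haveI := Groth.Agent.Lib.Helper40.FpqcCov.epi_of_isCov_left hc
      obtain ⟨q, hq⟩ : ∃ q : T1 ⟶ Q, q = p ≫ fst Q Xh := ⟨_, rfl⟩
      obtain ⟨x, hx⟩ : ∃ x : T1 ⟶ Xh, x = p ≫ snd Q Xh := ⟨_, rfl⟩
      have hp : p = lift q x := by rw [hq, hx, lift_comp_fst_snd]
      have ecy : c ≫ y = lift q (x ≫ incl) ≫ j := by
        rw [← hy', ← Category.assoc, ← e, hm', hp, lift_whiskerLeft]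
      rw [← cancel_epi c, comp_lift_assoc, comp_toUnit_assoc, ecy]
      exact B T1 q x
    · intro hfix
      obtain ⟨T1, c, p, hc, e⟩ := Lft j covj y
      haveI := Groth.Agent.Lib.Helper40.FpqcCov.epi_of_isCov_left hc
      obtain ⟨q, hq⟩ : ∃ q : T1 ⟶ Q, q = p ≫ fst Q X := ⟨_, rfl⟩
      obtain ⟨x, hx⟩ : ∃ x : T1 ⟶ X, x = p ≫ snd Q X := ⟨_, rfl⟩
      have hp : p = lift q x := by rw [hq, hx, lift_comp_fst_snd]
      have hfix1 : lift (toUnit T1 ≫ h ≫ i) (lift q x ≫ j) ≫ aY.act = lift q x ≫ j := by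
        rw [← hp, e]
        have := congrArg (fun k => c ≫ k) hfix
        simpa only [comp_lift_assoc, comp_toUnit_assoc] using this
      obtain ⟨x', hx'⟩ := F T1 q x hfix1
      obtain ⟨θ, hθ⟩ : ∃ θ : T1 ⟶ Y', θ = lift q x' ≫ j' := ⟨_, rfl⟩
      have hθm : θ ≫ m = c ≫ y := by
        rw [hθ, hm', lift_whiskerLeft, hx', ← hp, e]
      obtain ⟨y', hy'⟩ := Groth.Agent.Lib.Helper40.FpqcCov.exists_desc_over hc θ
        (fun R a' b' hab => by
          rw [← cancel_mono m, Category.assoc, Category.assoc, hθm, ← Category.assoc, hab,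
            Category.assoc])
      refine ⟨y', ?_⟩
      rw [← cancel_epi c, ← Category.assoc, hy', hθm]
  refine ⟨monom, partb, ?_⟩
  intro hcl
  have sq : IsPullback (Q ◁ incl) j' j m := by
    refine Groth.Agent.Lib.Helper40.TorsorExact.isPullback_of_existsUnique hm.symm ?_
    intro W a' b' hab
    obtain ⟨q, hq⟩ : ∃ q : W ⟶ Q, q = a' ≫ fst Q X := ⟨_, rfl⟩
    obtain ⟨x, hx⟩ : ∃ x : W ⟶ X, x = a' ≫ snd Q X := ⟨_, rfl⟩
    have ha : a' = lift q x := by rw [hq, hx, lift_comp_fst_snd]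
    have hfixa : lift (toUnit W ≫ h ≫ i) (lift q x ≫ j) ≫ aY.act = lift q x ≫ j := by
      rw [← ha, hab]
      exact (partb W (b' ≫ m)).1 ⟨b', rfl⟩
    obtain ⟨x', hx'⟩ := F W q x hfixa
    refine ⟨lift q x', ⟨?_, ?_⟩, ?_⟩
    · rw [lift_whiskerLeft, hx', ha]
    · rw [← cancel_mono m, hm', lift_whiskerLeft, hx', ← ha, hab]
    · rintro k' ⟨hk1, hk2⟩
      apply CartesianMonoidalCategory.hom_ext
      · have e1 : (k' ≫ (Q ◁ incl)) ≫ fst Q X = a' ≫ fst Q X := by rw [hk1]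
        rw [Category.assoc, whiskerLeft_fst, ha, lift_fst] at e1
        rw [lift_fst]
        exact e1
      · have e1 : (k' ≫ (Q ◁ incl)) ≫ snd Q X = a' ≫ snd Q X := by rw [hk1]
        rw [Category.assoc, whiskerLeft_snd, ha, lift_snd, ← hx', ← Category.assoc] at e1
        rw [lift_snd]
        exact (cancel_mono incl).1 e1
  have sqL : IsPullback (Q ◁ incl).left j'.left j.left m.left := sq.map (Over.forget S)
  have hcl' : IsClosedImmersion (Q ◁ incl).left := by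
    have sq2 : IsPullback (snd Q Xh).left (Q ◁ incl).left incl.left (snd Q X).left :=
      ((Groth.Agent.Lib.Helper40.FpqcCov.isPullback_whiskerLeft Q incl).map (Over.forget S)).flip
    exact MorphismProperty.of_isPullback (P := @IsClosedImmersion) sq2 hcl
  exact covj.isClosedImmersion_of_isPullback sqL hcl'

end Groth.Agent.S19099
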