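import Groth.Statements.S19102
import Groth.Agent.Lib.Helper75.ClassFnA
import Groth.Agent.Lib.Helper75.ClassFnD
import Groth.Agent.Lib.Helper23.Reynolds

set_option autoImplicit false
open CategoryTheory MonoidalCategory CartesianMonoidalCategory MonObj AlgebraicGeometry
open scoped TensorProduct
open HopfRep

namespace Groth.Agent.S19102

/-- Let A be a finitely generated commutative Hopf algebra over the complex numbers all of whose
finite-dimensional comodules are semisimple (a linearly reductive complex linear algebraic group G =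
Spec A, connected or not; over the complex numbers these are the groups whose identity component has
a torus as radical, the reductive groups of the source). For a comodule structure on the coordinate
space ℂ^d with coaction e_i ↦ Σ_j e_j ⊗ a_ji, its character is the element Σ_i a_ii of A. Then (1)
an element f of A is a class function, meaning f(x g x⁻¹) = f(g) for all points x, g of G with
values in any ℂ-scheme, if and only if f is a ℂ-linear combination of characters; and (2) the
characters of finitely many simple comodule structures on coordinate spaces, pairwise non-isomorphic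
(no linear isomorphism intertwines the coactions), are linearly independent over ℂ. In other words
the character map from the complexified representation ring of G to the ring of class functions on G
is bijective. (The source's further assertion that R(G) is a finitely generated algebra for every G
is not restated.) -/
theorem result
    (A : Type) [CommRing A] [HopfAlgebra ℂ A] [Algebra.FiniteType ℂ A]
    (hred : HopfRep.IsLinearlyReductive ℂ A) :
    (∀ f : A,
      (∀ (T : Over (Spec (CommRingCat.of ℂ))) (x g : T ⟶ CoactBr.sp ℂ A),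
          (x * g * x⁻¹).left.appTop ((Scheme.ΓSpecIso (CommRingCat.of A)).inv f) =
            g.left.appTop ((Scheme.ΓSpecIso (CommRingCat.of A)).inv f)) ↔
        f ∈ Submodule.span ℂ (Set.range fun p : (Σ d : ℕ, HopfRep.Comod ℂ A (Fin d → ℂ)) =>
          ∑ i : Fin p.1, TensorProduct.lid ℂ A (LinearMap.rTensor A (LinearMap.proj i)
            (@HopfRep.Comod.coact ℂ A _ _ _ _ (Fin p.1 → ℂ) _ _ p.2 (Pi.single i 1))))) ∧
    (∀ (n : ℕ) (d : Fin n → ℕ) (c : (i : Fin n) → HopfRep.Comod ℂ A (Fin (d i) → ℂ)),
      (∀ i, @HopfRep.IsSimpleComod ℂ A _ _ _ _ (Fin (d i) → ℂ) _ _ (c i)) →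
      (∀ i j, i ≠ j → ∀ P : (Fin (d i) → ℂ) ≃ₗ[ℂ] (Fin (d j) → ℂ),
          LinearMap.rTensor A P.toLinearMap ∘ₗ @HopfRep.Comod.coact ℂ A _ _ _ _ (Fin (d i) → ℂ) _ _ (c i) ≠
            (@HopfRep.Comod.coact ℂ A _ _ _ _ (Fin (d j) → ℂ) _ _ (c j)) ∘ₗ P.toLinearMap) →
      LinearIndependent ℂ (fun i : Fin n => ∑ t : Fin (d i), TensorProduct.lid ℂ A (LinearMap.rTensor A (LinearMap.proj t)
            (@HopfRep.Comod.coact ℂ A _ _ _ _ (Fin (d i) → ℂ) _ _ (c i) (Pi.single t 1))))) := by
  have hss : @IsSemisimpleModule (Groth.Agent.Lib.Helper75.DualAlg ℂ A) _ A _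
      (Groth.Agent.Lib.Helper75.comodModule ℂ A A) :=
    Groth.Agent.Lib.Helper23.Reynolds.isSemisimpleModule_of_isLinearlyReductive hred A
  refine ⟨fun f => ?_, fun n d c hsimple hne => ?_⟩
  · have h1 := Groth.Agent.Lib.Helper75.ClassFn.forall_ev_conj_iff (R := ℂ) (A := A) f
    refine Iff.trans (Iff.trans ⟨fun h T x g => h T x g, fun h T x g => h T x g⟩ h1) ?_
    constructor
    · intro hcomm
      exact Groth.Agent.Lib.Helper75.ClassFn.mem_chrSpan_of_comm hss f hcomm
    · intro hf
      have hle : Submodule.span ℂ (Set.range fun p : (Σ d : ℕ, HopfRep.Comod ℂ A (Fin d → ℂ)) =>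
          Groth.Agent.Lib.Helper75.ClassFn.chr p.1 p.2) ≤
          LinearMap.eqLocus (CoalgebraStruct.comul (R := ℂ) (A := A))
            ((TensorProduct.comm ℂ A A).toLinearMap ∘ₗ CoalgebraStruct.comul (R := ℂ) (A := A)) := by
        rw [Submodule.span_le]
        rintro _ ⟨p, rfl⟩
        rw [SetLike.mem_coe, LinearMap.mem_eqLocus, LinearMap.comp_apply]
        dsimp only
        rw [Groth.Agent.Lib.Helper75.ClassFn.chr_eq_chrB]
        letI := p.2
        exact (Groth.Agent.Lib.Helper75.ClassFn.comm_comul_chrB (A := A) (Pi.basisFun ℂ (Fin p.1))).symm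
      exact hle hf
  · exact Groth.Agent.Lib.Helper75.ClassFn.linearIndependent_chr hss n d c hsimple hne

end Groth.Agent.S19102
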