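import Groth.Statements.S19106
-- import your own Groth.Agent.* helpers here

set_option autoImplicit false
open HilbD

namespace Groth.Agent.S19106

/-- Let μ be a non-empty Young diagram, V the number of its cells, E the number of unordered pairs of
cells sharing a side (a cell together with the cell immediately below it, or immediately to its
right, both in μ) and Q the number of 2 × 2 blocks of cells of μ (cells c such that the cell
diagonally below-right of c is in μ, the other two corners being in μ automatically). Then V − E + Q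
− 1 = 0, stated as V + Q = E + 1 in the naturals. (The empty diagram, for which the count reads 0 −
0 + 0 − 1, is excluded.) -/
theorem result (μ : YoungDiagram) (hμ : μ ≠ ⊥) :
    μ.cells.card + (μ.cells.filter (fun c => (c.1 + 1, c.2 + 1) ∈ μ)).card =
      (μ.cells.filter (fun c => (c.1 + 1, c.2) ∈ μ)).card + (μ.cells.filter (fun c => (c.1, c.2 + 1) ∈ μ)).card + 1 := by
  classical
  -- the corner cell belongs to μ
  have h00 : ((0, 0) : ℕ × ℕ) ∈ μ := by
    have hne : μ.cells.Nonempty := by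
      rw [Finset.nonempty_iff_ne_empty]
      intro h
      apply hμ
      have : μ.cells = (⊥ : YoungDiagram).cells := by rw [h, YoungDiagram.cells_bot]
      exact YoungDiagram.ext this
    obtain ⟨c, hc⟩ := hne
    exact μ.up_left_mem (Nat.zero_le c.1) (Nat.zero_le c.2) ((YoungDiagram.mem_cells _).mp hc)
  -- three shift bijections
  have hA : (μ.cells.filter (fun c => (c.1 + 1, c.2) ∈ μ)).card =
      (μ.cells.filter (fun c => c.1 ≠ 0)).card := by
    refine Finset.card_bij (fun c _ => (c.1 + 1, c.2)) ?_ ?_ ?_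
    · intro c hc
      rw [Finset.mem_filter] at hc ⊢
      exact ⟨(YoungDiagram.mem_cells _).mpr hc.2, Nat.succ_ne_zero _⟩
    · intro c _ d _ h
      have h1 : c.1 + 1 = d.1 + 1 := (Prod.mk.inj h).1
      have h2 : c.2 = d.2 := (Prod.mk.inj h).2
      exact Prod.ext (by omega) h2
    · intro d hd
      rw [Finset.mem_filter] at hd
      obtain ⟨hd1, hd2⟩ := hd
      have hd1' : d ∈ μ := (YoungDiagram.mem_cells _).mp hd1
      refine ⟨(d.1 - 1, d.2), ?_, ?_⟩
      · rw [Finset.mem_filter]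
        refine ⟨(YoungDiagram.mem_cells _).mpr (μ.up_left_mem (Nat.sub_le _ _) (le_refl _) hd1'), ?_⟩
        have : (d.1 - 1 + 1, d.2) = d := Prod.ext (by show d.1 - 1 + 1 = d.1; omega) rfl
        show (d.1 - 1 + 1, d.2) ∈ μ
        rw [this]
        exact hd1'
      · exact Prod.ext (by show d.1 - 1 + 1 = d.1; omega) rfl
  have hB : (μ.cells.filter (fun c => (c.1, c.2 + 1) ∈ μ)).card =
      (μ.cells.filter (fun c => c.2 ≠ 0)).card := by
    refine Finset.card_bij (fun c _ => (c.1, c.2 + 1)) ?_ ?_ ?_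
    · intro c hc
      rw [Finset.mem_filter] at hc ⊢
      exact ⟨(YoungDiagram.mem_cells _).mpr hc.2, Nat.succ_ne_zero _⟩
    · intro c _ d _ h
      have h1 : c.1 = d.1 := (Prod.mk.inj h).1
      have h2 : c.2 + 1 = d.2 + 1 := (Prod.mk.inj h).2
      exact Prod.ext h1 (by omega)
    · intro d hd
      rw [Finset.mem_filter] at hd
      obtain ⟨hd1, hd2⟩ := hd
      have hd1' : d ∈ μ := (YoungDiagram.mem_cells _).mp hd1
      refine ⟨(d.1, d.2 - 1), ?_, ?_⟩
      · rw [Finset.mem_filter]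
        refine ⟨(YoungDiagram.mem_cells _).mpr (μ.up_left_mem (le_refl _) (Nat.sub_le _ _) hd1'), ?_⟩
        have : (d.1, d.2 - 1 + 1) = d := Prod.ext rfl (by show d.2 - 1 + 1 = d.2; omega)
        show (d.1, d.2 - 1 + 1) ∈ μ
        rw [this]
        exact hd1'
      · exact Prod.ext rfl (by show d.2 - 1 + 1 = d.2; omega)
  have hD : (μ.cells.filter (fun c => (c.1 + 1, c.2 + 1) ∈ μ)).card =
      (μ.cells.filter (fun c => c.1 ≠ 0 ∧ c.2 ≠ 0)).card := by
    refine Finset.card_bij (fun c _ => (c.1 + 1, c.2 + 1)) ?_ ?_ ?_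
    · intro c hc
      rw [Finset.mem_filter] at hc ⊢
      exact ⟨(YoungDiagram.mem_cells _).mpr hc.2, Nat.succ_ne_zero _, Nat.succ_ne_zero _⟩
    · intro c _ d _ h
      have h1 : c.1 + 1 = d.1 + 1 := (Prod.mk.inj h).1
      have h2 : c.2 + 1 = d.2 + 1 := (Prod.mk.inj h).2
      exact Prod.ext (by omega) (by omega)
    · intro d hd
      rw [Finset.mem_filter] at hd
      obtain ⟨hd1, hd2, hd3⟩ := hd
      have hd1' : d ∈ μ := (YoungDiagram.mem_cells _).mp hd1
      refine ⟨(d.1 - 1, d.2 - 1), ?_, ?_⟩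
      · rw [Finset.mem_filter]
        refine ⟨(YoungDiagram.mem_cells _).mpr (μ.up_left_mem (Nat.sub_le _ _) (Nat.sub_le _ _) hd1'), ?_⟩
        have : (d.1 - 1 + 1, d.2 - 1 + 1) = d :=
          Prod.ext (by show d.1 - 1 + 1 = d.1; omega) (by show d.2 - 1 + 1 = d.2; omega)
        show (d.1 - 1 + 1, d.2 - 1 + 1) ∈ μ
        rw [this]
        exact hd1'
      · exact Prod.ext (by show d.1 - 1 + 1 = d.1; omega) (by show d.2 - 1 + 1 = d.2; omega)
  rw [hA, hB, hD]
  -- counting by complements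
  have e1 := Finset.card_filter_add_card_filter_not (s := μ.cells) (fun c : ℕ × ℕ => c.1 ≠ 0)
  have e2 := Finset.card_filter_add_card_filter_not (s := μ.cells) (fun c : ℕ × ℕ => c.2 ≠ 0)
  have e3 := Finset.card_filter_add_card_filter_not (s := μ.cells)
    (fun c : ℕ × ℕ => c.1 ≠ 0 ∧ c.2 ≠ 0)
  -- the cells in row 0 or column 0
  have e4 : (μ.cells.filter (fun c : ℕ × ℕ => ¬ (c.1 ≠ 0 ∧ c.2 ≠ 0))).card + 1 =
      (μ.cells.filter (fun c : ℕ × ℕ => ¬ c.1 ≠ 0)).card +
        (μ.cells.filter (fun c : ℕ × ℕ => ¬ c.2 ≠ 0)).card := by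
    have hunion : μ.cells.filter (fun c : ℕ × ℕ => ¬ (c.1 ≠ 0 ∧ c.2 ≠ 0)) =
        μ.cells.filter (fun c : ℕ × ℕ => ¬ c.1 ≠ 0) ∪ μ.cells.filter (fun c : ℕ × ℕ => ¬ c.2 ≠ 0) := by
      ext c
      simp only [Finset.mem_filter, Finset.mem_union]
      tauto
    have hinter : μ.cells.filter (fun c : ℕ × ℕ => ¬ c.1 ≠ 0) ∩
        μ.cells.filter (fun c : ℕ × ℕ => ¬ c.2 ≠ 0) = {((0, 0) : ℕ × ℕ)} := by
      ext c
      simp only [Finset.mem_filter, Finset.mem_inter, Finset.mem_singleton, not_not]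
      constructor
      · rintro ⟨⟨_, h1⟩, _, h2⟩
        exact Prod.ext h1 h2
      · rintro rfl
        exact ⟨⟨(YoungDiagram.mem_cells _).mpr h00, rfl⟩, (YoungDiagram.mem_cells _).mpr h00, rfl⟩
    have := Finset.card_union_add_card_inter (μ.cells.filter (fun c : ℕ × ℕ => ¬ c.1 ≠ 0))
      (μ.cells.filter (fun c : ℕ × ℕ => ¬ c.2 ≠ 0))
    rw [hinter, Finset.card_singleton, ← hunion] at this
    exact this
  omega

end Groth.Agent.S19106
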