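import Groth.Statements.S19130
import Groth.Agent.S0626
import Groth.Agent.S0627
import Groth.Agent.Lib.Helper4.SepClosedCoh
import Groth.Agent.Lib.Helper4.ConstLC

set_option autoImplicit false
universe u
open CategoryTheory CategoryTheory.Limits AlgebraicGeometry Opposite
open EtCoh

namespace Groth.Agent.S19130

/-- Let p be a prime and Y an integral scheme which is normal (every local ring is integrally closed in
its fraction field) and whose function field is algebraically closed. Then the étale cohomology of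
the constant sheaf Z/p on Y is Z/p in degree 0 and vanishes in positive degrees: H^0(Y_et, Z/p) has
exactly p elements and H^i(Y_et, Z/p) = 0 for i > 0. Moreover, for every nonempty open subscheme j :
U → Y, the unit morphism from the constant sheaf Z/p on Y_et to j_* of its restriction to U is an
isomorphism. -/
theorem result
    (p : ℕ) [Fact p.Prime] (Y : Scheme.{u}) [IsIntegral Y]
    (hnorm : ∀ y : Y, IsIntegrallyClosed (Y.presheaf.stalk y)) [IsAlgClosed Y.functionField] :
    Nat.card (EtCoh.H Y (EtCoh.const Y (ZMod p)) 0) = p ∧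
      (∀ i : ℕ, 0 < i → Subsingleton (EtCoh.H Y (EtCoh.const Y (ZMod p)) i)) ∧
      ∀ U : Y.Opens, (U : Set Y).Nonempty →
        IsIso ((EtCoh.pullPushAdj U.ι).unit.app (EtCoh.const Y (ZMod p))) := by
  refine ⟨?_, ?_, fun U hU => Groth.Agent.S0627.result Y hnorm U hU (ZMod p)⟩
  · -- degree zero: global sections of the constant sheaf on a connected scheme
    open Groth.Agent.Lib.Helper4.ConstLC in
    let F := EtCoh.const Y (ZMod p)
    let e1 : EtCoh.H Y F 0 ≃ (F.obj.obj (op (EtCoh.top Y)) : Type (u + 1)) :=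
      (Sheaf.H.equiv₀ F (EtCore.topIsTerminal Y)).toEquiv
    let e4 : (F.obj.obj (op (EtCoh.top Y)) : Type (u + 1)) ≃
        LocallyConstant Y (D.{u} (ZMod p)) :=
      ((EtCore.gsec Y).mapIso (constIso Y (ZMod p))).addCommGroupIsoToAddEquiv.toEquiv
    let y0 : Y := genericPoint Y
    let e5 : LocallyConstant Y (D.{u} (ZMod p)) ≃ D.{u} (ZMod p) :=
      ⟨fun f => f y0, LocallyConstant.const _, fun f => (f.eq_const y0).symm, fun t => rfl⟩
    let e6 : D.{u} (ZMod p) ≃ ZMod p := Equiv.ulift
    rw [Nat.card_congr (e1.trans (e4.trans (e5.trans e6)))]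
    exact Nat.card_zmod p
  · intro i hi
    let g : Spec Y.functionField ⟶ Y := Y.fromSpecStalk (genericPoint Y)
    have hunit : IsIso ((EtCoh.pullPushAdj g).unit.app (EtCoh.const Y (ZMod p))) :=
      Groth.Agent.S0626.result Y hnorm (ZMod p)
    let N : EtCoh.Ab (Spec Y.functionField) := (EtCoh.pull g).obj (EtCoh.const Y (ZMod p))
    let e : EtCoh.const Y (ZMod p) ≅ (EtCoh.push g).obj N :=
      asIso ((EtCoh.pullPushAdj g).unit.app (EtCoh.const Y (ZMod p)))
    have hs : Subsingleton (EtCoh.H Y ((EtCoh.push g).obj N) i) :=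
      Groth.Agent.Lib.Helper4.SepClosedCoh.subsingleton_H_push Y.functionField g N i hi
    refine ⟨fun x y => ?_⟩
    have hx : ∀ z : EtCoh.H Y (EtCoh.const Y (ZMod p)) i, z = 0 := by
      intro z
      have h1 : z = (z.comp (Abelian.Ext.mk₀ e.hom) (add_zero i)).comp (Abelian.Ext.mk₀ e.inv)
          (add_zero i) := by
        rw [Abelian.Ext.comp_assoc_of_third_deg_zero, Abelian.Ext.mk₀_comp_mk₀, e.hom_inv_id,
          Abelian.Ext.comp_mk₀_id]
      rw [h1, Subsingleton.elim (z.comp (Abelian.Ext.mk₀ e.hom) (add_zero i)) 0,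
        Abelian.Ext.zero_comp]
    rw [hx x, hx y]

end Groth.Agent.S19130
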