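import Groth.Statements.S19132
import Groth.Agent.Lib.Helper12.BassDevissage

set_option autoImplicit false
universe u
open CategoryTheory
attribute [local instance] HasDerivedCategory.standard
open Dual

namespace Groth.Agent.S19132

/-- In the case of a local ring whose dualizing complex is normalized, let A be a Noetherian local ring
with residue field k and ω a normalized dualizing complex over A (Hom(k, ω[i]) = 0 in D(A) for i ≠
0), and let N be an object of D(A) which is bounded with finitely generated cohomology modules and
concentrated in nonnegative degrees (H^i(N) = 0 for i < 0). Then RHom_A(N, ω) is concentrated in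
nonpositive degrees: the group of morphisms N → ω[i] in D(A) vanishes for every i > 0. (For the
local ring at a point x of a scheme of finite type over the base, whose dualizing complex is
normalized only up to the shift by the integer d(x), the corresponding bound is degree −d(x); that
case is this statement applied to the shifted complex.) -/
theorem result
    (A : Type u) [CommRing A] [IsLocalRing A] [IsNoetherianRing A]
    (ω : Dual.D A) (hω : Dual.IsDualizing A ω) (hn : Dual.IsNormalized A ω)
    (N : Dual.D A) (hfin : ∀ i : ℤ, Module.Finite A (Dual.HD A N i))
    (b : ℤ) (hb : ∀ i : ℤ, b < i → Subsingleton (Dual.HD A N i))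
    (hge : ∀ i : ℤ, i < 0 → Subsingleton (Dual.HD A N i))
    (i : ℤ) (hi : 0 < i) :
    Subsingleton (N ⟶ ω⟦i⟧) := by
  obtain ⟨a, c, hac⟩ := hω.finite_injective_dimension
  have hz := Groth.Agent.Lib.Helper12.DualizingBC.isZero_HF_of_finite_injective_dimension ω a c hac
  have hvan : ∀ (M : ModuleCat.{u} A), Module.Finite A M → ∀ k : ℤ, 0 < k →
      Subsingleton (Dual.inD A M ⟶ ω⟦k⟧) := by
    intro M hM k hk
    exact Groth.Agent.Lib.Helper12.Bass.vanishAbove_of_maximal (K := ω) (b := 0) a
      (fun j hj => hz j (Or.inl hj)) hω.finite_cohomology
      (fun m hm => by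
        have hm' : m = IsLocalRing.maximalIdeal A := IsLocalRing.eq_maximalIdeal hm
        subst hm'
        intro k hk
        exact hn k (by omega)) M k hk
  obtain ⟨n, hn'⟩ : ∃ n : ℕ, b < 0 + (n : ℤ) := ⟨(b + 1).toNat, by omega⟩
  exact Groth.Agent.Lib.Helper12.Bass.subsingleton_hom_of_vanishAbove ω 0 hvan 0 i (by omega) n b
    hn' N hfin (fun j hj => by
      rcases hj with hj | hj
      · have := hge j hj
        exact ModuleCat.isZero_of_subsingleton _
      · have := hb j hj
        exact ModuleCat.isZero_of_subsingleton _)

end Groth.Agent.S19132
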