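import Groth.Statements.S19135
-- import your own Groth.Agent.* helpers here
import Mathlib
import Groth.Agent.Lib.Helper36.LD.Bounded
import Groth.Agent.S1713
import Groth.Agent.S0299

set_option autoImplicit false
universe u
open CategoryTheory
attribute [local instance] HasDerivedCategory.standard
open Dual

namespace Groth.Agent.S19135

open Groth.Agent.Lib.Helper36.LD Groth.Agent.Lib.Helper36.Matlis in
/-- local duality on vanishing: `H^i(RΓ_𝔪 M) = 0` iff `Hom(M, ω⟦-i⟧) = 0` -/
theorem key (A : Type u) [CommRing A] [IsLocalRing A] [IsNoetherianRing A]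
    (ω : Dual.D A) (hω : Dual.IsDualizing A ω) (hn : Dual.IsNormalized A ω)
    [DRing.HasRgammaI (IsLocalRing.maximalIdeal A)] (M : Dual.D A)
    (hfin : ∀ i : ℤ, Module.Finite A (Dual.HD A M i))
    (hbd : ∃ a b : ℤ, ∀ i : ℤ, (i < a ∨ b < i) → Subsingleton (Dual.HD A M i)) (i : ℤ) :
    Subsingleton (Dual.HD A ((DRing.RgammaI (IsLocalRing.maximalIdeal A)).obj M) i) ↔
      Subsingleton (M ⟶ ω⟦-i⟧) := by
  obtain ⟨E, _, _, f, hf⟩ := Groth.Agent.S0299.result A (IsLocalRing.ResidueField A)
  obtain ⟨j, hcompat, hinj, hsurj⟩ := exists_compatible (isMatlis_homD ω hω hn) f hf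
  obtain ⟨a, b, hab⟩ := hbd
  have hG := goodAll_of_bounded ω hω hn f hf j hcompat hinj hsurj M a b hab hfin i
  obtain ⟨e1⟩ := nonempty_HD_equiv_T M i
  let e2 : T (M⟦i⟧) ≃ₗ[A] ((M⟦i⟧ ⟶ ω) →ₗ[A] E) := LinearEquiv.ofBijective _ hG
  let e3 : (M⟦i⟧ ⟶ ω) ≃ₗ[A] (M ⟶ ω⟦-i⟧) := shiftHomEquiv M ω i
  have h1 : Subsingleton (Dual.HD A ((DRing.RgammaI (IsLocalRing.maximalIdeal A)).obj M) i) ↔
      Subsingleton ((M⟦i⟧ ⟶ ω) →ₗ[A] E) :=
    (e1.trans e2).toEquiv.subsingleton_congr
  have h2 : Subsingleton ((M⟦i⟧ ⟶ ω) →ₗ[A] E) ↔ Subsingleton (M⟦i⟧ ⟶ ω) := by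
    constructor
    · intro h
      have h3 := Groth.Agent.S1713.annihilator_dual E f hf (M⟦i⟧ ⟶ ω)
      rw [Module.annihilator_eq_top_iff.mpr h] at h3
      exact Module.annihilator_eq_top_iff.mp h3.symm
    · intro h
      exact ⟨fun g g' => LinearMap.ext fun x => by rw [Subsingleton.elim x 0, map_zero, map_zero]⟩
  exact h1.trans (h2.trans e3.toEquiv.subsingleton_congr)

/-- In the case of the spectrum of the base local ring and its closed point, let A be a Noetherian local
ring with maximal ideal m and ω a normalized dualizing complex over A (Hom(k, ω[i]) = 0 in D(A) for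
i ≠ 0), assume the total right derived functor RΓ_m of the m-power-torsion functor exists on D(A),
and let M be an object of D(A) which is bounded with finitely generated cohomology modules. Then
RHom(M, ω) is concentrated in degrees ≥ 0 (Hom(M, ω[i]) = 0 for all i < 0) if and only if RΓ_m M is
concentrated in degrees ≤ 0 (H^i(RΓ_m M) = 0 for all i > 0); and RHom(M, ω) is concentrated in
degrees ≤ 0 if and only if RΓ_m M is concentrated in degrees ≥ 0. In particular M is perverse
coherent (RHom(M, ω) concentrated in degree 0) exactly when its local cohomology at m is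
concentrated in degree 0. (The published statement of the two halves, read in cohomological
indexing, has the inequalities on the local cohomology side exchanged: over a field k with ω = k,
the complex k[1] has RHom(k[1], ω) = k[−1] concentrated in degrees ≥ 0 while its local cohomology
k[1] is concentrated in degree −1, not in degrees ≥ 0. This statement gives the form that local
duality yields, which is the one compatible with the description of the perverse t-structure by
support conditions.) -/
theorem result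
    (A : Type u) [CommRing A] [IsLocalRing A] [IsNoetherianRing A]
    (ω : Dual.D A) (hω : Dual.IsDualizing A ω) (hn : Dual.IsNormalized A ω)
    [DRing.HasRgammaI (IsLocalRing.maximalIdeal A)] (M : Dual.D A)
    (hfin : ∀ i : ℤ, Module.Finite A (Dual.HD A M i))
    (hbd : ∃ a b : ℤ, ∀ i : ℤ, (i < a ∨ b < i) → Subsingleton (Dual.HD A M i)) :
    ((∀ i : ℤ, i < 0 → Subsingleton (M ⟶ ω⟦i⟧)) ↔
      (∀ i : ℤ, 0 < i → Subsingleton (Dual.HD A ((DRing.RgammaI (IsLocalRing.maximalIdeal A)).obj M) i))) ∧
    ((∀ i : ℤ, 0 < i → Subsingleton (M ⟶ ω⟦i⟧)) ↔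
      (∀ i : ℤ, i < 0 → Subsingleton (Dual.HD A ((DRing.RgammaI (IsLocalRing.maximalIdeal A)).obj M) i))) := by
  have hk := key A ω hω hn M hfin hbd
  refine ⟨⟨fun h i hi => ?_, fun h i hi => ?_⟩, ⟨fun h i hi => ?_, fun h i hi => ?_⟩⟩
  · exact (hk i).mpr (h (-i) (by omega))
  · have := (hk (-i)).mp (h (-i) (by omega))
    rwa [neg_neg] at this
  · exact (hk i).mpr (h (-i) (by omega))
  · have := (hk (-i)).mp (h (-i) (by omega))
    rwa [neg_neg] at this

end Groth.Agent.S19135
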