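import Groth.Statements.S19140
import Groth.Agent.S5276
import Mathlib

set_option autoImplicit false
open CategoryTheory MonoidalCategory CartesianMonoidalCategory MonObj GrpObj AlgebraicGeometry
universe u
open SGA3x

namespace Groth.Agent.S19140

open Groth.Agent.Lib.Helper43 Groth.Agent.Lib.Helper60.WittTorus Groth.Agent.Lib.Helper60.DiagChar
open Groth.Agent.S5279 Groth.Agent.S5290 Groth.Agent.S5274 Groth.Agent.S5276
open Groth.Agent.Lib.Helper40.FpqcCov CategoryTheory.Limits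

/-- fpqc-locally (Zariski-locally on the cover) diagonalisable, no finiteness on the character
groups -/
def LocTriv {S : Scheme.{u}} (G : Over S) [GrpObj G] : Prop :=
  ∃ (S' : Scheme.{u}) (f : S' ⟶ S), Flat f ∧ Surjective f ∧
    (∀ V : S.Opens, IsAffineOpen V → ∃ W : S'.Opens, IsCompact (W : Set S') ∧ f.base '' (W : Set S') = (V : Set S)) ∧
    ∀ s' : S', ∃ U : S'.Opens, s' ∈ U ∧ ∃ (M : Type) (_ : AddCommGroup M),
      Nonempty (Grp.mk (Red.bc (U.ι ≫ f) G) ≅ Grp.mk (Red.DS (U : Scheme.{u}) M))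

theorem exists_localDich' (P : MorphismProperty Scheme.{u}) [P.RespectsIso] (hdich : DSDich P)
    {S : Scheme.{u}} (G H : Over S) [GrpObj G] [GrpObj H]
    (hG : LocTriv G) (hH : SGA3x.IsMultTypeFT H) (u : G ⟶ H) [IsMonHom u] :
    ∃ (S'' : Scheme.{u}) (f'' : S'' ⟶ S), IsQCov f'' ∧ LocalDich P u f'' := by
  obtain ⟨SG, fG, hflatG, hsurjG, hqcG, hlocG⟩ := hG
  obtain ⟨SH, fH, hflatH, hsurjH, hqcH, hlocH⟩ := hH
  have hqG : IsQCov fG := ⟨hsurjG, hflatG, hqcG⟩
  have hqH : IsQCov fH := ⟨hsurjH, hflatH, hqcH⟩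
  let p₁ := pullback.fst fG fH
  let p₂ := pullback.snd fG fH
  refine ⟨pullback fG fH, p₁ ≫ fG, (hqH.pullback_fst fG).comp hqG, ?_⟩
  intro s''
  obtain ⟨UG, hsG, M, instM, ⟨eG⟩⟩ := hlocG (p₁ s'')
  obtain ⟨UH, hsH, N, instN, hNfg, ⟨eH⟩⟩ := hlocH (p₂ s'')
  have hsV : s'' ∈ p₁ ⁻¹ᵁ UG ⊓ p₂ ⁻¹ᵁ UH := ⟨hsG, hsH⟩
  obtain ⟨_, ⟨W₀, hW : IsAffineOpen W₀, rfl⟩, hsW, hWV⟩ :=
    (pullback fG fH).isBasis_affineOpens.exists_subset_of_mem_open hsV (p₁ ⁻¹ᵁ UG ⊓ p₂ ⁻¹ᵁ UH).2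
  let W : (pullback fG fH).Opens := W₀
  have hWV' : W ≤ p₁ ⁻¹ᵁ UG ⊓ p₂ ⁻¹ᵁ UH := hWV
  let fT : Spec (CommRingCat.of Γ(pullback fG fH, W)) ⟶ S := hW.fromSpec ≫ p₁ ≫ fG
  have hrG : Set.range (hW.fromSpec ≫ p₁).base ⊆ Set.range UG.ι.base := by
    rintro _ ⟨x, rfl⟩
    rw [Scheme.Opens.range_ι]
    have hx : hW.fromSpec x ∈ W := by
      have := hW.range_fromSpec
      rw [← SetLike.mem_coe, ← this]
      exact ⟨x, rfl⟩
    exact (hWV' hx).1
  have hrH : Set.range (hW.fromSpec ≫ p₂).base ⊆ Set.range UH.ι.base := by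
    rintro _ ⟨x, rfl⟩
    rw [Scheme.Opens.range_ι]
    have hx : hW.fromSpec x ∈ W := by
      have := hW.range_fromSpec
      rw [← SetLike.mem_coe, ← this]
      exact ⟨x, rfl⟩
    exact (hWV' hx).2
  let gG := IsOpenImmersion.lift UG.ι (hW.fromSpec ≫ p₁) hrG
  let gH := IsOpenImmersion.lift UH.ι (hW.fromSpec ≫ p₂) hrH
  have hgG : gG ≫ UG.ι = hW.fromSpec ≫ p₁ := IsOpenImmersion.lift_fac _ _ _
  have hgH : gH ≫ UH.ι = hW.fromSpec ≫ p₂ := IsOpenImmersion.lift_fac _ _ _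
  have hfG : gG ≫ UG.ι ≫ fG = fT := by
    rw [← Category.assoc, hgG, Category.assoc]
  have hfH : gH ≫ UH.ι ≫ fH = fT := by
    rw [← Category.assoc, hgH, Category.assoc]
    show hW.fromSpec ≫ pullback.snd fG fH ≫ fH = hW.fromSpec ≫ pullback.fst fG fH ≫ fG
    rw [pullback.condition]
  let _ : AddCommGroup M := instM
  let _ : AddCommGroup N := instN
  obtain ⟨eG'⟩ := grpIso_bc (UG.ι ≫ fG) G M eG gG fT hfG
  obtain ⟨eH'⟩ := grpIso_bc (UH.ι ≫ fH) H N eH gH fT hfH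
  let θG : Grp.mk (Red.DS (Spec (CommRingCat.of Γ(pullback fG fH, W))) M) ⟶
      Grp.mk (Red.DS (Spec (CommRingCat.of Γ(pullback fG fH, W))) N) :=
    eG'.inv ≫ (Over.pullback fT).mapGrp.map (Grp.homMk u : Grp.mk G ⟶ Grp.mk H) ≫ eH'.hom
  let θ : Red.DS (Spec (CommRingCat.of Γ(pullback fG fH, W))) M ⟶
      Red.DS (Spec (CommRingCat.of Γ(pullback fG fH, W))) N := θG.hom.hom
  let eGo : Red.bc fT G ≅ Red.DS (Spec (CommRingCat.of Γ(pullback fG fH, W))) M :=
    (Grp.forget _).mapIso eG'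
  let eHo : Red.bc fT H ≅ Red.DS (Spec (CommRingCat.of Γ(pullback fG fH, W))) N :=
    (Grp.forget _).mapIso eH'
  have hθ : θ = eGo.inv ≫ (Over.pullback fT).map u ≫ eHo.hom := rfl
  let pt := hW.primeIdealOf ⟨s'', hsW⟩
  have hpt : hW.fromSpec pt = s'' := hW.fromSpec_primeIdealOf ⟨s'', hsW⟩
  obtain ⟨f, hf, hd⟩ := hdich Γ(pullback fG fH, W) M N θ hNfg pt.asIdeal
  refine ⟨Spec (CommRingCat.of (Localization.Away f)), j₀ f ≫ hW.fromSpec, inferInstance, ?_, ?_⟩
  · have hmem : pt ∈ (j₀ f).opensRange := by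
      rw [Scheme.Hom.opensRange_localizationAway (R := CommRingCat.of Γ(pullback fG fH, W)) f]
      exact hf
    obtain ⟨y, hy⟩ := hmem
    refine ⟨y, ?_⟩
    rw [Scheme.Hom.comp_apply, hy, hpt]
  · have key : ∀ (Z : Scheme.{u}) (k : Z ⟶ Spec (CommRingCat.of (Localization.Away f))),
        At P u (k ≫ (j₀ f ≫ hW.fromSpec) ≫ p₁ ≫ fG) ↔
          P ((Over.pullback (k ≫ j₀ f)).map θ).left := by
      intro Z k
      have hkk : k ≫ (j₀ f ≫ hW.fromSpec) ≫ p₁ ≫ fG = (k ≫ j₀ f) ≫ fT := by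
        simp only [fT, Category.assoc]
      rw [hkk]
      exact at_iff_theta P u fT eGo eHo θ hθ (k ≫ j₀ f)
    rcases hd with hd | hd
    · left
      intro Z k
      exact (key Z k).mpr (hd Z k)
    · right
      intro Z k hZ h
      exact hd Z k hZ ((key Z k).mp h)

theorem main_generic' (P : MorphismProperty Scheme.{u}) [IsZariskiLocalAtTarget P]
    [P.IsStableUnderBaseChange] [P.DescendsAlong (@Surjective ⊓ @Flat ⊓ @QuasiCompact)]
    (hdich : DSDich P)
    {S : Scheme.{u}} (G H : Over S) [GrpObj G] [GrpObj H]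
    (hG : LocTriv G) (hH : SGA3x.IsMultTypeFT H) (u : G ⟶ H) [IsMonHom u] :
    ∃ U : S.Opens, IsClosed (U : Set S) ∧
      (∀ s : S, s ∈ U ↔ P ((Over.pullback (S.fromSpecResidueField s)).map u).left) ∧
      P ((Over.pullback U.ι).map u).left := by
  obtain ⟨S'', f'', hq, hK⟩ := exists_localDich' P hdich G H hG hH u
  exact main_of_localDich P u f'' hq hK

theorem main_aux {S : Scheme.{u}} (H Q : Over S) [GrpObj H] [GrpObj Q]
    (hH : TwC.Locally S TwC.Topology.fpqc (fun S' g => ∃ (M : Type) (_ : AddCommGroup M), Nonempty (Grp.mk (Red.bc g H) ≅ Grp.mk (Red.DS S' M))))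
    (hQ : SGA3x.IsMultTypeFT Q) (f : H ⟶ Q) [IsMonHom f] :
    ∃ U : S.Opens, IsClosed (U : Set S) ∧
      (∀ s : S, s ∈ U ↔ (Flat ((Over.pullback (S.fromSpecResidueField s)).map f).left ∧ Surjective ((Over.pullback (S.fromSpecResidueField s)).map f).left)) ∧
      (Flat ((Over.pullback U.ι).map f).left ∧ Surjective ((Over.pullback U.ι).map f).left) := by
  have h1 := pff_stable.{u}
  have h2 := pff_descends.{u}
  have hd : DSDich PFF.{u} := by
    intro B _ M N _ _ θ _ hN 𝔭 _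
    exact dich_ff θ hN 𝔭
  have hH' : LocTriv H := hH
  exact main_generic' PFF.{u} hd H Q hH' hQ f

/-- Let f : H ⟶ Q be a homomorphism of S-group schemes, with H of multiplicative type (of arbitrary
type: fpqc-locally on S, Zariski-locally isomorphic as a group to some diagonalisable group D(M))
and Q of multiplicative type and of finite type. Then the set U of points s ∈ S such that the fibre
homomorphism f_s : H_s ⟶ Q_s is faithfully flat (flat and surjective) is open and closed in S, and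
the homomorphism H|_U ⟶ Q|_U induced above U is faithfully flat. (No finite-type hypothesis on H.) -/
theorem result {S : Scheme.{u}} (H Q : Over S) [GrpObj H] [GrpObj Q]
    (hH : TwC.Locally S TwC.Topology.fpqc (fun S' g => ∃ (M : Type) (_ : AddCommGroup M), Nonempty (Grp.mk (Red.bc g H) ≅ Grp.mk (Red.DS S' M))))
    (hQ : SGA3x.IsMultTypeFT Q) (f : H ⟶ Q) [IsMonHom f] :
    ∃ U : S.Opens, IsClosed (U : Set S) ∧
      (∀ s : S, s ∈ U ↔ (Flat ((Over.pullback (S.fromSpecResidueField s)).map f).left ∧ Surjective ((Over.pullback (S.fromSpecResidueField s)).map f).left)) ∧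
      (Flat ((Over.pullback U.ι).map f).left ∧ Surjective ((Over.pullback U.ι).map f).left) := by
  exact main_aux H Q hH hQ f

end Groth.Agent.S19140
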