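import Groth.Statements.S19148
import Groth.Agent.Lib.Helper17.FiltTensor

set_option autoImplicit false
open scoped TensorProduct
universe u v
open FiltMod

namespace Groth.Agent.S19148


open PiTensorProduct Groth.Agent.Lib.Helper17.FiltT in
theorem le_of_range_le {R : Type u} [CommRing R] {M : Type v} [AddCommGroup M] [Module R M]
    [Module.Finite R M] [Module.Projective R M] (F₁ F₂ : Submodule R M)
    (h₁ : ∃ C : Submodule R M, IsCompl F₁ C) (h₂ : ∃ C : Submodule R M, IsCompl F₂ C) (k : ℕ) (hk : 1 ≤ k)
    (h : LinearMap.range (PiTensorProduct.map (R := R) (fun _ : Fin k => F₁.subtype)) ≤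
      LinearMap.range (PiTensorProduct.map (R := R) (fun _ : Fin k => F₂.subtype))) : F₁ ≤ F₂ := by
  classical
  obtain ⟨C₁, hC₁⟩ := h₁
  obtain ⟨C₂, hC₂⟩ := h₂
  intro x hx
  -- `q` is the projection onto `C₂` along `F₂`
  set q : M →ₗ[R] M := C₂.projection F₂ hC₂.symm with hq
  rw [← Submodule.projection_apply_eq_zero_iff hC₂.symm]
  apply eq_zero_of_forall_dual (R := R)
  intro ψ
  apply eq_zero_of_forall_prime
  intro p hp
  have := hp
  set i₀ : Fin k := ⟨0, hk⟩ with hi₀
  obtain ⟨s, hs, hsF⟩ | ⟨e, he, φ, hφ⟩ := exists_smul_eq_zero_or_exists_dual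
    (F₁.projection C₁ hC₁) F₁ (Submodule.projection_apply_mem hC₁)
    (fun x hx => Submodule.projection_apply_of_mem_left hC₁ hx) p
  · refine ⟨s, hs, ?_⟩
    rw [← smul_eq_mul, ← map_smul, ← map_smul, hsF x hx, map_zero, map_zero]
  set xs : Fin k → M := fun i => if i = i₀ then x else e with hxs
  have hmem : tprod R xs ∈
      LinearMap.range (PiTensorProduct.map (R := R) (fun _ : Fin k => F₁.subtype)) := by
    refine ⟨tprod R (fun i => (⟨xs i, ?_⟩ : F₁)), ?_⟩
    · simp only [hxs]
      split_ifs
      · exact hx
      · exact he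
    · simp [PiTensorProduct.map_tprod]
  have hmem2 := h hmem
  have hker : LinearMap.range (PiTensorProduct.map (R := R) (fun _ : Fin k => F₂.subtype)) ≤
      LinearMap.ker (PiTensorProduct.map (R := R)
        (fun i : Fin k => if i = i₀ then q else LinearMap.id)) := by
    rw [LinearMap.range_le_ker_iff, ← PiTensorProduct.map_comp]
    apply map_eq_zero_of_eq_zero _ i₀
    ext ⟨z, hz⟩
    simp only [if_true, LinearMap.comp_apply, Submodule.subtype_apply, LinearMap.zero_apply, hq]
    exact Submodule.projection_apply_of_mem_right hC₂.symm hz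
  have h0 := LinearMap.mem_ker.mp (hker hmem2)
  rw [PiTensorProduct.map_tprod] at h0
  have h1 := congrArg (prodFun (fun i : Fin k => if i = i₀ then ψ else φ)) h0
  rw [prodFun_tprod, map_zero, ← Finset.mul_prod_erase _ _ (Finset.mem_univ i₀)] at h1
  simp only [hxs, if_true] at h1
  refine ⟨_, ?_, by rw [mul_comm]; exact h1⟩
  rw [Ideal.IsPrime.prod_mem_iff]
  rintro ⟨i, hi, hmemp⟩
  have hne : i ≠ i₀ := (Finset.mem_erase.mp hi).1
  simp only [if_neg hne, LinearMap.id_apply] at hmemp
  exact hφ hmemp

/-- In affine form, let R be a commutative ring, M a finitely generated projective R-module (a finite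
locally free sheaf on Spec R), F₁ and F₂ direct summands of M and k ≥ 1. Then the images of F₁^{⊗k}
and F₂^{⊗k} in the k-th tensor power M^{⊗k} are equal if and only if F₁ = F₂. (The source states
this for local direct factors of a finite locally free sheaf on a scheme; equality of subsheaves
being local, this is the affine case with global direct summands, to which it reduces.) -/
theorem result {R : Type u} [CommRing R] {M : Type v} [AddCommGroup M] [Module R M]
    [Module.Finite R M] [Module.Projective R M] (F₁ F₂ : Submodule R M)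
    (h₁ : ∃ C : Submodule R M, IsCompl F₁ C) (h₂ : ∃ C : Submodule R M, IsCompl F₂ C) (k : ℕ) (hk : 1 ≤ k) :
    LinearMap.range (PiTensorProduct.map (R := R) (fun _ : Fin k => F₁.subtype)) =
      LinearMap.range (PiTensorProduct.map (R := R) (fun _ : Fin k => F₂.subtype)) ↔ F₁ = F₂ := by
  constructor
  · intro h
    exact le_antisymm (le_of_range_le F₁ F₂ h₁ h₂ k hk h.le) (le_of_range_le F₂ F₁ h₂ h₁ k hk h.ge)
  · rintro rfl
    rfl

end Groth.Agent.S19148
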