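import Groth.Statements.S19149
import Groth.Agent.Lib.Helper62.SmoothReg1
import Mathlib.RingTheory.Smooth.Kaehler
import Mathlib.RingTheory.Smooth.Local
import Mathlib.RingTheory.Smooth.Locus
import Mathlib.RingTheory.Etale.Kaehler
import Mathlib.RingTheory.RingHom.Surjective

set_option autoImplicit false
set_option linter.style.haveILetI false
set_option linter.unusedSectionVars false
universe u
open GrpSch

namespace Groth.Agent.S19149

open TensorProduct Function KaehlerDifferential
open Groth.Agent.Lib.Helper62.CotTCI Groth.Agent.Lib.Helper62.SmoothReg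

noncomputable section G

variable (R A : Type u) [CommRing R] [CommRing A] [Algebra R A] [Algebra A R] [IsScalarTower R A R]

lemma algebraMap_retract (r : R) : algebraMap A R (algebraMap R A r) = r := by
  rw [← IsScalarTower.algebraMap_apply R A R]
  rfl

lemma surjective_algebraMap_retract : Surjective (algebraMap A R) :=
  fun r => ⟨algebraMap R A r, algebraMap_retract R A r⟩

lemma sub_mem_ker (a : A) : a - algebraMap R A (algebraMap A R a) ∈ RingHom.ker (algebraMap A R) := by
  rw [RingHom.mem_ker, map_sub, algebraMap_retract, sub_self]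

/-- the conormal map of a section has a retraction. -/
lemma exists_retraction_kerCotangentToTensor :
    ∃ ρ : R ⊗[A] Ω[A⁄R] →ₗ[A] (RingHom.ker (algebraMap A R)).Cotangent,
      ρ ∘ₗ kerCotangentToTensor R A R = LinearMap.id := by
  have hs := surjective_algebraMap_retract R A
  let g : R →ₐ[R] A ⧸ (RingHom.ker (algebraMap A R) ^ 2) := Algebra.ofId R _
  have hg : (IsScalarTower.toAlgHom R A R).kerSquareLift.comp g = AlgHom.id R R := by
    apply AlgHom.ext
    intro x
    exact ((IsScalarTower.toAlgHom R A R).kerSquareLift.comp g).commutes x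
  obtain ⟨l, hl⟩ := (retractionKerCotangentToTensorEquivSection (R := R) hs).symm ⟨g, hg⟩
  exact ⟨l, hl⟩

instance isScalarTower_cotangent :
    IsScalarTower A R (RingHom.ker (algebraMap A R)).Cotangent := by
  refine ⟨fun a r m => ?_⟩
  rw [← algebraMap_smul A (a • r) m, ← algebraMap_smul A r m, smul_smul, ← sub_eq_zero, ← sub_smul]
  apply Ideal.Cotangent.smul_eq_zero_of_mem
  rw [RingHom.mem_ker, map_sub, map_mul, algebraMap_retract, algebraMap_retract, Algebra.smul_def,
    mul_comm, sub_self]

variable (J : Ideal A) (hJI : J ≤ RingHom.ker (algebraMap A R))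

/-- `R ⊗ J → I/I²`. -/
def thetaP : R ⊗[A] J →ₗ[R] (RingHom.ker (algebraMap A R)).Cotangent :=
  LinearMap.liftBaseChange R ((RingHom.ker (algebraMap A R)).toCotangent ∘ₗ Submodule.inclusion hJI)

lemma thetaP_one_tmul (x : J) :
    thetaP R A J hJI ((1 : R) ⊗ₜ[A] x) =
      (RingHom.ker (algebraMap A R)).toCotangent (Submodule.inclusion hJI x) := by
  simp [thetaP]

/-- `I/I² → I/(J + I²)`. -/
def qmap : (RingHom.ker (algebraMap A R)).Cotangent →ₗ[R]
    (↥(RingHom.ker (algebraMap A R)) ⧸
      Submodule.comap (RingHom.ker (algebraMap A R)).subtype (J ⊔ RingHom.ker (algebraMap A R) ^ 2)) :=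
  (Submodule.liftQ ((RingHom.ker (algebraMap A R)) • ⊤ : Submodule A (RingHom.ker (algebraMap A R)))
    (Submodule.mkQ (Submodule.comap (RingHom.ker (algebraMap A R)).subtype
      (J ⊔ RingHom.ker (algebraMap A R) ^ 2)))
    (by
      intro x hx
      rw [Submodule.mem_smul_top_iff] at hx
      rw [LinearMap.mem_ker, Submodule.mkQ_apply, Submodule.Quotient.mk_eq_zero,
        Submodule.mem_comap, Submodule.subtype_apply]
      refine Ideal.mem_sup_right ?_
      rw [pow_two]
      exact hx)).restrictScalars R

lemma qmap_toCotangent (x : RingHom.ker (algebraMap A R)) :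
    qmap R A J ((RingHom.ker (algebraMap A R)).toCotangent x) =
      Submodule.Quotient.mk x := rfl

lemma qmap_surjective : Surjective (qmap R A J) := by
  intro y
  obtain ⟨x, rfl⟩ := Submodule.Quotient.mk_surjective _ y
  exact ⟨(RingHom.ker (algebraMap A R)).toCotangent x, rfl⟩

lemma exact_thetaP_qmap : Function.Exact (thetaP R A J hJI) (qmap R A J) := by
  have hs := surjective_algebraMap_retract R A
  intro y
  constructor
  · intro hy
    obtain ⟨x, rfl⟩ := (RingHom.ker (algebraMap A R)).toCotangent_surjective y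
    rw [qmap_toCotangent, Submodule.Quotient.mk_eq_zero, Submodule.mem_comap,
      Submodule.subtype_apply] at hy
    obtain ⟨a, ha, b, hb, hab⟩ := Submodule.mem_sup.mp hy
    refine ⟨(1 : R) ⊗ₜ[A] (⟨a, ha⟩ : J), ?_⟩
    rw [thetaP_one_tmul, Ideal.toCotangent_eq]
    change a - (x : A) ∈ _
    rw [← hab]
    simpa using Ideal.neg_mem_iff _ |>.mpr hb
  · rintro ⟨z, rfl⟩
    obtain ⟨x, rfl⟩ := exists_one_tmul' hs z
    rw [thetaP_one_tmul, qmap_toCotangent, Submodule.Quotient.mk_eq_zero, Submodule.mem_comap]
    exact Ideal.mem_sup_left x.2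

include hJI in
lemma thetaP_injective
    (h2 : J ⊓ RingHom.ker (algebraMap A R) ^ 2 = RingHom.ker (algebraMap A R) * J) :
    Injective (thetaP R A J hJI) := by
  have hs := surjective_algebraMap_retract R A
  rw [injective_iff_map_eq_zero]
  intro z hz
  obtain ⟨x, rfl⟩ := exists_one_tmul' hs z
  rw [thetaP_one_tmul, Ideal.toCotangent_eq_zero] at hz
  have hx : (x : A) ∈ J ⊓ RingHom.ker (algebraMap A R) ^ 2 := ⟨x.2, hz⟩
  rw [h2] at hx
  apply one_tmul_eq_zero_of_mem
  rw [Submodule.mem_smul_top_iff]
  exact hx

variable (K : Type u) [Field K] [Algebra A K] [Algebra R K] [IsScalarTower A R K]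

include hJI in
theorem one_tmul_eq_zero_of_one_tmul_D_eq_zero
    (h2 : J ⊓ RingHom.ker (algebraMap A R) ^ 2 = RingHom.ker (algebraMap A R) * J)
    (h3 : Module.Projective R (↥(RingHom.ker (algebraMap A R)) ⧸
      Submodule.comap (RingHom.ker (algebraMap A R)).subtype
        (J ⊔ RingHom.ker (algebraMap A R) ^ 2)))
    (j : J) (h : (1 : K) ⊗ₜ[A] D R A (j : A) = 0) : (1 : K) ⊗ₜ[A] j = 0 := by
  obtain ⟨ρ, hρ⟩ := exists_retraction_kerCotangentToTensor R A
  obtain ⟨l', hl'⟩ := ((exact_thetaP_qmap R A J hJI).split_tfae'.out 0 1 rfl rfl).mp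
    ⟨thetaP_injective R A J hJI h2,
      Module.projective_lifting_property _ _ (qmap_surjective R A J)⟩ |>.2
  have h1 : (1 : K) ⊗ₜ[R] ((1 : R) ⊗ₜ[A] D R A (j : A)) = 0 := by
    have := congrArg (AlgebraTensorModule.cancelBaseChange A R K K Ω[A⁄R]).symm h
    rwa [AlgebraTensorModule.cancelBaseChange_symm_tmul, map_zero] at this
  let θ : R ⊗[A] J →ₗ[R] R ⊗[A] Ω[A⁄R] :=
    ((kerCotangentToTensor R A R).restrictScalars R) ∘ₗ thetaP R A J hJI
  let l : R ⊗[A] Ω[A⁄R] →ₗ[R] R ⊗[A] J := l' ∘ₗ (ρ.restrictScalars R)
  have hlθ : ∀ z, l (θ z) = z := by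
    intro z
    change l' (ρ (kerCotangentToTensor R A R (thetaP R A J hJI z))) = z
    have e1 : ρ (kerCotangentToTensor R A R (thetaP R A J hJI z)) = thetaP R A J hJI z :=
      DFunLike.congr_fun hρ _
    rw [e1]
    exact DFunLike.congr_fun hl' z
  have hθ : θ ((1 : R) ⊗ₜ[A] j) = (1 : R) ⊗ₜ[A] D R A (j : A) := by
    simp only [θ, LinearMap.comp_apply, LinearMap.restrictScalars_apply]
    rw [thetaP_one_tmul, kerCotangentToTensor_toCotangent]
    rfl
  have h4 : (1 : K) ⊗ₜ[R] ((1 : R) ⊗ₜ[A] j) = 0 := by
    have h5 := congrArg (LinearMap.lTensor K l) h1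
    rw [← hθ, LinearMap.lTensor_tmul, hlθ, map_zero] at h5
    exact h5
  have h6 := congrArg (AlgebraTensorModule.cancelBaseChange A R K K J) h4
  rwa [AlgebraTensorModule.cancelBaseChange_tmul, one_smul, map_zero] at h6

end G

noncomputable section L

/-- elementwise form of the Jacobian criterion for local algebras. -/
theorem formallySmooth_of_forall_one_tmul (R A' B' : Type u) [CommRing R] [CommRing A'] [CommRing B']
    [Algebra R A'] [Algebra R B'] [Algebra A' B'] [IsScalarTower R A' B'] [IsLocalRing B']
    [Algebra.FormallySmooth R A'] [Module.Free A' Ω[A'⁄R]] [Module.Finite A' Ω[A'⁄R]]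
    (h₁ : Surjective (algebraMap A' B')) (h₂ : (RingHom.ker (algebraMap A' B')).FG)
    (H : ∀ j : RingHom.ker (algebraMap A' B'),
      (1 : IsLocalRing.ResidueField B') ⊗ₜ[A'] D R A' (j : A') = 0 →
        (1 : IsLocalRing.ResidueField B') ⊗ₜ[A'] j = 0) :
    Algebra.FormallySmooth R B' := by
  rw [Algebra.FormallySmooth.iff_injective_cotangentComplexBaseChange_residueField (R := R) A' h₁ h₂,
    injective_iff_map_eq_zero]
  intro z hz
  have hsK : Surjective (algebraMap A' (IsLocalRing.ResidueField B')) := by
    rw [IsScalarTower.algebraMap_eq A' B' _]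
    exact IsLocalRing.residue_surjective.comp h₁
  obtain ⟨j, rfl⟩ := exists_one_tmul' hsK z
  rw [cotangentComplexBaseChange_tmul, one_smul, kerToTensor_apply] at hz
  exact H j hz

end L

/-- In affine form, let R be a commutative ring, A a smooth R-algebra with an augmentation ε : A → R
(the unit section of G = Spec A over S = Spec R), I = ker ε its augmentation ideal, and J ⊆ I an
ideal (defining a closed subscheme H of G through the unit section) such that (1) J is finitely
generated, (2) J ∩ I² = I·J in A, and (3) I/(J + I²) is a finitely generated projective R-module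
(finite locally free on S). Then H = Spec (A/J) is smooth over S at every point of the unit section:
for every prime P of A/J containing the image of I, the localization (A/J)_P is formally smooth over
R. (The source states this for G an affine smooth group scheme over a scheme S and H a closed
subgroup, concluding that the neutral component H° is a smooth open subgroup scheme; that conclusion
is smoothness of H along the unit section, which is the statement here in affine form; the group
structure is not used.) -/
theorem result (R A : Type u) [CommRing R] [CommRing A] [Algebra R A]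
    [Algebra.Smooth R A] (ε : A →ₐ[R] R) (J : Ideal A) (hJI : J ≤ RingHom.ker ε)
    (h1 : J.FG)
    (h2 : J ⊓ RingHom.ker ε ^ 2 = RingHom.ker ε * J)
    (h3 : Module.Finite R (↥(RingHom.ker ε) ⧸ Submodule.comap (RingHom.ker ε).subtype (J ⊔ RingHom.ker ε ^ 2)) ∧
      Module.Projective R (↥(RingHom.ker ε) ⧸ Submodule.comap (RingHom.ker ε).subtype (J ⊔ RingHom.ker ε ^ 2)))
    (P : Ideal (A ⧸ J)) [P.IsPrime] (hP : (RingHom.ker ε).map (Ideal.Quotient.mk J) ≤ P) :
    Algebra.IsSmoothAt R P := by
  letI : Algebra A R := ε.toRingHom.toAlgebra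
  haveI : IsScalarTower R A R := IsScalarTower.of_algebraMap_eq fun r => (ε.commutes r).symm
  have hJI' : J ≤ RingHom.ker (algebraMap A R) := hJI
  have h2' : J ⊓ RingHom.ker (algebraMap A R) ^ 2 = RingHom.ker (algebraMap A R) * J := h2
  have h3' : Module.Projective R (↥(RingHom.ker (algebraMap A R)) ⧸
      Submodule.comap (RingHom.ker (algebraMap A R)).subtype
        (J ⊔ RingHom.ker (algebraMap A R) ^ 2)) := h3.2
  have hP' : ∀ a ∈ RingHom.ker (algebraMap A R), Ideal.Quotient.mk J a ∈ P :=
    fun a ha => hP (Ideal.mem_map_of_mem _ ha)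
  clear h2 h3 hP hJI
  -- the rings
  let P' : Ideal A := P.comap (Ideal.Quotient.mk J)
  haveI : P'.IsPrime := Ideal.comap_isPrime _ _
  let φ : Localization.AtPrime P' →+* Localization.AtPrime P :=
    Localization.localRingHom P' P (Ideal.Quotient.mk J) rfl
  have hφ : Surjective φ :=
    RingHom.surjective_localRingHom_of_surjective (Ideal.Quotient.mk J)
      Ideal.Quotient.mk_surjective P
  have hφmap : ∀ a : A, φ (algebraMap A (Localization.AtPrime P') a) =
      algebraMap (A ⧸ J) (Localization.AtPrime P) (Ideal.Quotient.mk J a) :=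
    fun a => Localization.localRingHom_to_map P' P (Ideal.Quotient.mk J) rfl a
  letI : Algebra (Localization.AtPrime P') (Localization.AtPrime P) := φ.toAlgebra
  haveI : IsScalarTower A (Localization.AtPrime P') (Localization.AtPrime P) := by
    refine IsScalarTower.of_algebraMap_eq fun a => ?_
    rw [IsScalarTower.algebraMap_apply A (A ⧸ J) (Localization.AtPrime P)]
    exact (hφmap a).symm
  haveI : IsScalarTower R (Localization.AtPrime P') (Localization.AtPrime P) := by
    refine IsScalarTower.of_algebraMap_eq fun r => ?_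
    rw [IsScalarTower.algebraMap_apply R A (Localization.AtPrime P'),
      IsScalarTower.algebraMap_apply R (A ⧸ J) (Localization.AtPrime P),
      IsScalarTower.algebraMap_apply R A (A ⧸ J)]
    exact (hφmap _).symm
  haveI : IsScalarTower A (Localization.AtPrime P) (IsLocalRing.ResidueField (Localization.AtPrime P)) :=
    IsScalarTower.of_algebraMap_eq fun _ => rfl
  haveI : IsScalarTower R (Localization.AtPrime P) (IsLocalRing.ResidueField (Localization.AtPrime P)) :=
    IsScalarTower.of_algebraMap_eq fun _ => rfl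
  haveI : IsScalarTower A (Localization.AtPrime P') (IsLocalRing.ResidueField (Localization.AtPrime P)) :=
    IsScalarTower.to₁₂₄ A (Localization.AtPrime P') (Localization.AtPrime P) _
  -- kernel, elementwise
  have hker : ∀ j ∈ RingHom.ker (algebraMap (Localization.AtPrime P') (Localization.AtPrime P)),
      ∃ j₀ ∈ J, ∃ w ∈ P'.primeCompl,
        algebraMap A (Localization.AtPrime P') w * j = algebraMap A (Localization.AtPrime P') j₀ := by
    intro j hj
    obtain ⟨⟨a, w⟩, h⟩ := IsLocalization.surj P'.primeCompl j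
    have h0 : φ (algebraMap A (Localization.AtPrime P') a) = 0 := by
      rw [← h, map_mul]
      have : φ j = 0 := hj
      rw [this, zero_mul]
    rw [hφmap, IsLocalization.map_eq_zero_iff P.primeCompl] at h0
    obtain ⟨⟨v, hv⟩, hva⟩ := h0
    obtain ⟨v₀, rfl⟩ := Ideal.Quotient.mk_surjective v
    refine ⟨v₀ * a, ?_, v₀ * w, ?_, ?_⟩
    · rw [← Ideal.Quotient.eq_zero_iff_mem, map_mul]
      exact hva
    · exact P'.primeCompl.mul_mem hv w.2
    · rw [map_mul, map_mul, mul_assoc, mul_comm _ j, h]
  have hkerle : J.map (algebraMap A (Localization.AtPrime P')) ≤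
      RingHom.ker (algebraMap (Localization.AtPrime P') (Localization.AtPrime P)) := by
    rw [Ideal.map_le_iff_le_comap]
    intro x hx
    change φ (algebraMap A (Localization.AtPrime P') x) = 0
    rw [hφmap, Ideal.Quotient.eq_zero_iff_mem.mpr hx, map_zero]
  have hkereq : RingHom.ker (algebraMap (Localization.AtPrime P') (Localization.AtPrime P)) =
      J.map (algebraMap A (Localization.AtPrime P')) := by
    refine le_antisymm ?_ hkerle
    intro j hj
    obtain ⟨j₀, hj₀, w, hw, hjw⟩ := hker j hj
    have hu : IsUnit (algebraMap A (Localization.AtPrime P') w) :=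
      IsLocalization.map_units _ (⟨w, hw⟩ : P'.primeCompl)
    have : j = ↑hu.unit⁻¹ * algebraMap A (Localization.AtPrime P') j₀ := by
      rw [← hjw, ← mul_assoc, IsUnit.val_inv_mul, one_mul]
    rw [this]
    exact Ideal.mul_mem_left _ _ (Ideal.mem_map_of_mem _ hj₀)
  -- instances for the Jacobian criterion
  haveI : Algebra.EssFiniteType R (Localization.AtPrime P') :=
    Algebra.EssFiniteType.comp R A (Localization.AtPrime P')
  haveI : Module.Free (Localization.AtPrime P') Ω[Localization.AtPrime P'⁄R] :=
    Module.free_of_flat_of_isLocalRing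
  apply formallySmooth_of_forall_one_tmul R (Localization.AtPrime P') (Localization.AtPrime P) hφ
    (hkereq ▸ h1.map _)
  intro j hj
  set K := IsLocalRing.ResidueField (Localization.AtPrime P)
  obtain ⟨j₀, hj₀, w, hw, hjw⟩ := hker j.1 j.2
  -- `A → R → K` is a tower
  haveI : IsScalarTower A R K := by
    refine IsScalarTower.of_algebraMap_eq fun a => ?_
    rw [IsScalarTower.algebraMap_apply R (Localization.AtPrime P) K,
      IsScalarTower.algebraMap_apply R (A ⧸ J) (Localization.AtPrime P),
      IsScalarTower.algebraMap_apply R A (A ⧸ J),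
      IsScalarTower.algebraMap_apply A (Localization.AtPrime P) K,
      IsScalarTower.algebraMap_apply A (A ⧸ J) (Localization.AtPrime P),
      ← sub_eq_zero, ← map_sub, ← map_sub, ← map_sub]
    change IsLocalRing.residue _ _ = 0
    rw [IsLocalRing.residue_eq_zero_iff, IsLocalization.AtPrime.to_map_mem_maximal_iff _ P]
    exact hP' _ (sub_mem_ker R A a)
  -- step (ii)
  have hjK : algebraMap (Localization.AtPrime P') K (j : Localization.AtPrime P') = 0 := by
    rw [IsScalarTower.algebraMap_apply (Localization.AtPrime P') (Localization.AtPrime P) K]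
    have : algebraMap (Localization.AtPrime P') (Localization.AtPrime P) j = 0 := j.2
    rw [this, map_zero]
  have hD : (1 : K) ⊗ₜ[Localization.AtPrime P']
      D R (Localization.AtPrime P') (algebraMap A (Localization.AtPrime P') j₀) = 0 := by
    rw [← hjw, Derivation.leibniz, TensorProduct.tmul_add, TensorProduct.tmul_smul, hj, smul_zero,
      zero_add, ← TensorProduct.smul_tmul, Algebra.smul_def, hjK, zero_mul, TensorProduct.zero_tmul]
  -- step (iii)
  have hD' : (1 : K) ⊗ₜ[A] D R A j₀ = 0 := by
    have e1 := congrArg (LinearMap.lTensor K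
      (tensorKaehlerEquivOfFormallyEtale R A (Localization.AtPrime P')).symm.toLinearMap) hD
    rw [LinearMap.lTensor_tmul, LinearEquiv.coe_coe,
      tensorKaehlerEquivOfFormallyEtale_symm_D_algebraMap, map_zero] at e1
    have e2 := congrArg
      (AlgebraTensorModule.cancelBaseChange A (Localization.AtPrime P') K K Ω[A⁄R]) e1
    rwa [AlgebraTensorModule.cancelBaseChange_tmul, one_smul, map_zero] at e2
  -- step (iv)
  have hJ0 : (1 : K) ⊗ₜ[A] (⟨j₀, hj₀⟩ : J) = 0 :=
    one_tmul_eq_zero_of_one_tmul_D_eq_zero R A J hJI' K h2' h3' ⟨j₀, hj₀⟩ hD'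
  -- step (v)
  let g₀ : J →ₗ[A] RingHom.ker (algebraMap (Localization.AtPrime P') (Localization.AtPrime P)) :=
    { toFun := fun x => ⟨algebraMap A (Localization.AtPrime P') x,
        hkerle (Ideal.mem_map_of_mem _ x.2)⟩
      map_add' := fun x y => Subtype.ext (map_add _ _ _)
      map_smul' := fun a x => Subtype.ext (by
        change algebraMap A (Localization.AtPrime P') (a * x) = a • algebraMap A _ (x : A)
        rw [map_mul, Algebra.smul_def]) }
  have h7 := congrArg (TensorProduct.mapOfCompatibleSMul (Localization.AtPrime P') A A K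
    (RingHom.ker (algebraMap (Localization.AtPrime P') (Localization.AtPrime P))))
    (congrArg (LinearMap.lTensor K g₀) hJ0)
  rw [LinearMap.lTensor_tmul, map_zero, map_zero] at h7
  change (1 : K) ⊗ₜ[Localization.AtPrime P'] (g₀ ⟨j₀, hj₀⟩) = 0 at h7
  -- step (vi)
  have hg₀ : g₀ ⟨j₀, hj₀⟩ = algebraMap A (Localization.AtPrime P') w • j := by
    apply Subtype.ext
    change algebraMap A (Localization.AtPrime P') j₀ = _ * (j : Localization.AtPrime P')
    exact hjw.symm
  rw [hg₀, TensorProduct.tmul_smul] at h7
  have hu : IsUnit (algebraMap A (Localization.AtPrime P') w) :=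
    IsLocalization.map_units _ (⟨w, hw⟩ : P'.primeCompl)
  have h8 := congrArg (fun z => (↑hu.unit⁻¹ : Localization.AtPrime P') • z) h7
  simp only [smul_smul, IsUnit.val_inv_mul, one_smul, smul_zero] at h8
  exact h8

end Groth.Agent.S19149
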