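import Groth.Statements.S19158
import Mathlib

set_option autoImplicit false
universe u v w
open FiltMod

namespace Groth.Agent.S19158

open DirectSum

section retract

variable {Γ : Type*} [LinearOrder Γ] {R : Type*} [CommRing R]
  {M : Type*} [AddCommGroup M] [Module R M] {M' : Type*} [AddCommGroup M'] [Module R M']

/-- the projection onto the `γ`-th graded piece, as an endomorphism of `M`. -/
noncomputable def proj (G : Γ → Submodule R M) [Decomposition G] (γ : Γ) : M →ₗ[R] M :=
  (G γ).subtype ∘ₗ (DirectSum.component R Γ (fun i => G i) γ) ∘ₗ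
    (decomposeLinearEquiv G).toLinearMap

lemma proj_apply (G : Γ → Submodule R M) [Decomposition G] (γ : Γ) (y : M) :
    proj G γ y = (decompose G y γ : M) := rfl

lemma proj_mem (G : Γ → Submodule R M) [Decomposition G] (γ : Γ) (y : M) :
    proj G γ y ∈ G γ := by
  rw [proj_apply]; exact (decompose G y γ).2

lemma proj_of_mem_same (G : Γ → Submodule R M) [Decomposition G] {γ : Γ} {y : M} (hy : y ∈ G γ) :
    proj G γ y = y := by
  rw [proj_apply]; exact decompose_of_mem_same G hy

lemma proj_of_mem_ne (G : Γ → Submodule R M) [Decomposition G] {γ η : Γ} {y : M} (hy : y ∈ G η)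
    (h : η ≠ γ) : proj G γ y = 0 := by
  rw [proj_apply]; exact decompose_of_mem_ne G hy h

lemma proj_of_mem_iSup (G : Γ → Submodule R M) [Decomposition G] {γ : Γ} (S : Set Γ) (hγ : γ ∉ S)
    {y : M} (hy : y ∈ ⨆ η ∈ S, G η) : proj G γ y = 0 := by
  have : (⨆ η ∈ S, G η) ≤ LinearMap.ker (proj G γ) := by
    refine iSup₂_le fun η hη z hz => ?_
    rw [LinearMap.mem_ker]
    exact proj_of_mem_ne G hz (fun h => hγ (h ▸ hη))
  exact LinearMap.mem_ker.mp (this hy)

lemma exists_finset_proj_eq_zero (G : Γ → Submodule R M) [Decomposition G] [Module.Finite R M] :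
    ∃ T : Finset Γ, ∀ γ ∉ T, proj G γ = 0 := by
  classical
  obtain ⟨S, hS⟩ := (Module.finite_def (R := R) (M := M)).mp inferInstance
  refine ⟨S.biUnion fun m => (decompose G m).support, fun γ hγ => ?_⟩
  apply LinearMap.ext_on hS
  intro m hm
  rw [LinearMap.zero_apply, proj_apply]
  have : γ ∉ (decompose G m).support := fun h => hγ (Finset.mem_biUnion.mpr ⟨m, hm, h⟩)
  rw [DFinsupp.mem_support_iff, not_not] at this
  rw [this]; rfl

lemma sum_proj (G : Γ → Submodule R M) [Decomposition G] (T : Finset Γ)
    (hT : ∀ γ ∉ T, proj G γ = 0) (y : M) : ∑ γ ∈ T, proj G γ y = y := by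
  classical
  conv_rhs => rw [← sum_support_decompose G y]
  symm
  apply Finset.sum_subset
  · intro γ hγ
    by_contra h
    rw [DFinsupp.mem_support_iff] at hγ
    apply hγ
    have := congrArg (fun f => f y) (hT γ h)
    simp only [LinearMap.zero_apply, proj_apply] at this
    exact Subtype.ext this
  · intro γ _ hγ
    rw [DFinsupp.mem_support_iff, not_not] at hγ
    rw [hγ]; rfl


theorem retract_split (ι : M' →ₗ[R] M) (π : M →ₗ[R] M') (hπι : ∀ x, π (ι x) = x)
    (F : Γ → Submodule R M) (F' : Γ → Submodule R M') (hF' : Antitone F')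
    (h1 : ∀ γ, (F γ).map π ≤ F' γ) (h2 : ∀ γ, (F' γ).map ι ≤ F γ)
    [Module.Finite R M]
    (G : Γ → Submodule R M) (hG : DirectSum.IsInternal G)
    (hFG : ∀ γ, F γ = ⨆ η ∈ Set.Ici γ, G η) :
    ∃ G' : Γ → Submodule R M', DirectSum.IsInternal G' ∧ ∀ γ, F' γ = ⨆ η ∈ Set.Ici γ, G' η := by
  classical
  letI : Decomposition G := hG.chooseDecomposition
  obtain ⟨T, hT⟩ := exists_finset_proj_eq_zero G
  -- basic facts
  have hGF : ∀ γ, G γ ≤ F γ := fun γ => by
    rw [hFG]; exact le_iSup₂_of_le γ (Set.mem_Ici.mpr le_rfl) le_rfl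
  have hιF : ∀ {γ x}, x ∈ F' γ → ι x ∈ F γ := fun hx => h2 _ (Submodule.mem_map_of_mem hx)
  have hπF : ∀ {γ y}, y ∈ F γ → π y ∈ F' γ := fun hy => h1 _ (Submodule.mem_map_of_mem hy)
  set σ : Γ → M' →ₗ[R] M' := fun γ => π ∘ₗ proj G γ ∘ₗ ι with hσ
  have hσ_apply : ∀ γ x, σ γ x = π (proj G γ (ι x)) := fun γ x => rfl
  -- `σ γ` kills `F' η` for `η > γ`
  have hkill : ∀ {γ η : Γ}, γ < η → ∀ {z}, z ∈ F' η → σ γ z = 0 := by
    intro γ η hlt z hz
    have : ι z ∈ ⨆ ζ ∈ Set.Ici η, G ζ := by rw [← hFG]; exact hιF hz
    rw [hσ_apply, proj_of_mem_iSup G (Set.Ici η) (by simp [hlt]) this, map_zero]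
  -- pieces land in the right filtration step
  have hpiece : ∀ η x, π (proj G η (ι x)) ∈ F' η := fun η x =>
    hπF (hGF η (proj_mem G η _))
  -- decomposition of an element of `F' γ`
  have hdecomp : ∀ {γ x}, x ∈ F' γ →
      x = σ γ x + ∑ η ∈ T.filter (fun η => γ < η), π (proj G η (ι x)) := by
    intro γ x hx
    have hy : ι x ∈ ⨆ ζ ∈ Set.Ici γ, G ζ := by rw [← hFG]; exact hιF hx
    have hsum := sum_proj G T hT (ι x)
    rw [← Finset.sum_filter_add_sum_filter_not T (fun η => γ < η)] at hsum
    have h2nd : ∑ η ∈ T.filter (fun η => ¬ γ < η), proj G η (ι x) = proj G γ (ι x) := by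
      by_cases hγT : γ ∈ T
      · rw [Finset.sum_eq_single_of_mem γ (by simp [hγT])]
        intro η hη hne
        rw [Finset.mem_filter, not_lt] at hη
        exact proj_of_mem_iSup G (Set.Ici γ) (by simpa using lt_of_le_of_ne hη.2 hne) hy
      · rw [hT γ hγT, LinearMap.zero_apply]
        apply Finset.sum_eq_zero
        intro η hη
        rw [Finset.mem_filter, not_lt] at hη
        have hne : η ≠ γ := fun h => hγT (h ▸ hη.1)
        exact proj_of_mem_iSup G (Set.Ici γ) (by simpa using lt_of_le_of_ne hη.2 hne) hy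
    rw [h2nd] at hsum
    have := congrArg π hsum
    rw [map_add, map_sum, hπι] at this
    rw [hσ_apply, add_comm]
    exact this.symm
  set G' : Γ → Submodule R M' := fun γ => (F' γ).map (σ γ) with hG'
  have hG'F : ∀ γ, G' γ ≤ F' γ := by
    rintro γ _ ⟨x, hx, rfl⟩
    exact hpiece γ x
  -- idempotency
  have hidem : ∀ {γ g}, g ∈ G' γ → σ γ g = g := by
    rintro γ _ ⟨x, hx, rfl⟩
    have hd := hdecomp hx
    have : σ γ (∑ η ∈ T.filter (fun η => γ < η), π (proj G η (ι x))) = 0 := by
      rw [map_sum]
      apply Finset.sum_eq_zero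
      intro η hη
      exact hkill (Finset.mem_filter.mp hη).2 (hpiece η x)
    have h3 := congrArg (σ γ) hd
    rw [map_add, this, add_zero] at h3
    exact h3.symm
  -- `F' γ ≤ ⨆ η ≥ γ, G' η`
  have hle : ∀ (n : ℕ) (γ : Γ), (T.filter (fun η => γ < η)).card = n →
      F' γ ≤ ⨆ η ∈ Set.Ici γ, G' η := by
    intro n
    induction n using Nat.strong_induction_on with
    | _ n ih =>
      intro γ hn x hx
      rw [hdecomp hx]
      refine Submodule.add_mem _ ?_ (Submodule.sum_mem _ ?_)
      · exact Submodule.mem_iSup_of_mem γ (Submodule.mem_iSup_of_mem (Set.mem_Ici.mpr le_rfl)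
          (Submodule.mem_map_of_mem hx))
      · intro η hη
        rw [Finset.mem_filter] at hη
        have hcard : (T.filter (fun ζ => η < ζ)).card < n := by
          rw [← hn]
          apply Finset.card_lt_card
          rw [Finset.ssubset_iff_of_subset]
          · exact ⟨η, Finset.mem_filter.mpr hη, by simp⟩
          · intro ζ hζ
            rw [Finset.mem_filter] at hζ ⊢
            exact ⟨hζ.1, hη.2.trans hζ.2⟩
        have := ih _ hcard η rfl (hpiece η x)
        refine (iSup₂_le fun ζ hζ => ?_ : (⨆ ζ ∈ Set.Ici η, G' ζ) ≤ ⨆ ζ ∈ Set.Ici γ, G' ζ) this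
        exact le_iSup₂_of_le ζ (Set.mem_Ici.mpr (hη.2.le.trans hζ)) le_rfl
  refine ⟨G', ?_, ?_⟩
  · apply isInternal_submodule_of_iSupIndep_of_iSup_eq_top
    · rw [iSupIndep_iff_finsetSum_eq_zero_imp_eq_zero]
      intro s v hv hsum
      by_contra hcon
      push Not at hcon
      obtain ⟨i, hi, hvi⟩ := hcon
      have hne : (s.filter (fun j => v j ≠ 0)).Nonempty := ⟨i, Finset.mem_filter.mpr ⟨hi, hvi⟩⟩
      set γ₀ := (s.filter (fun j => v j ≠ 0)).min' hne with hγ₀
      have hγ₀mem := Finset.min'_mem _ hne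
      rw [← hγ₀, Finset.mem_filter] at hγ₀mem
      have h3 := congrArg (σ γ₀) hsum
      rw [map_sum, map_zero, Finset.sum_eq_single_of_mem γ₀ hγ₀mem.1, hidem (hv γ₀ hγ₀mem.1)] at h3
      · exact hγ₀mem.2 h3
      · intro j hj hjne
        by_cases hvj : v j = 0
        · rw [hvj, map_zero]
        · have hle' : γ₀ ≤ j := Finset.min'_le _ j (Finset.mem_filter.mpr ⟨hj, hvj⟩)
          exact hkill (lt_of_le_of_ne hle' (Ne.symm hjne)) (hG'F j (hv j hj))
    · rw [eq_top_iff]
      intro x _
      have hsum := sum_proj G T hT (ι x)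
      have := congrArg π hsum
      rw [map_sum, hπι] at this
      rw [← this]
      refine Submodule.sum_mem _ fun η _ => ?_
      have h4 := hle _ η rfl (hpiece η x)
      exact (iSup₂_le fun ζ _ => le_iSup G' ζ : (⨆ ζ ∈ Set.Ici η, G' ζ) ≤ iSup G') h4
  · intro γ
    apply le_antisymm (hle _ γ rfl)
    refine iSup₂_le fun η hη => (hG'F η).trans (hF' hη)

end retract


/-- In affine form, let Γ be a non-trivial totally ordered commutative group, R a commutative ring and
(M_a) a finite family of finitely generated projective R-modules, each carrying a non-increasing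
Γ-indexed family of submodules F_a; give M = Π_a M_a the family F^γ = Π_a F_a^γ. Then F is split by
a Γ-grading of M (an internal direct sum decomposition M = ⊕_γ G_γ with F^γ = Σ_{η ≥ γ} G_η for all
γ) if and only if each F_a is split by a Γ-grading of M_a. (The published statement is for finite
locally free sheaves on a scheme, where a filtration counts as split when it is split by a grading
locally on the scheme; this row is the affine case, in which that is the same as being split by one
global grading.) -/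
theorem result
    {Γ : Type w} [AddCommGroup Γ] [LinearOrder Γ] [IsOrderedAddMonoid Γ] [Nontrivial Γ]
    {R : Type u} [CommRing R] {A : Type v} [Fintype A] (M : A → Type v) [∀ a, AddCommGroup (M a)] [∀ a, Module R (M a)]
    [∀ a, Module.Finite R (M a)] [∀ a, Module.Projective R (M a)]
    (F : ∀ a, Γ → Submodule R (M a)) (hF : ∀ a, Antitone (F a)) :
    (∃ G : Γ → Submodule R (∀ a, M a), DirectSum.IsInternal G ∧
        ∀ γ, Submodule.pi Set.univ (fun a => F a γ) = ⨆ η ∈ Set.Ici γ, G η) ↔
    ∀ a, ∃ G : Γ → Submodule R (M a), DirectSum.IsInternal G ∧ ∀ γ, F a γ = ⨆ η ∈ Set.Ici γ, G η := by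
  classical
  constructor
  · rintro ⟨G, hG, hFG⟩ a
    refine retract_split (LinearMap.single R M a) (LinearMap.proj a) (fun x => by simp)
      (fun γ => Submodule.pi Set.univ (fun a => F a γ)) (F a) (hF a) ?_ ?_ G hG hFG
    · rintro γ _ ⟨y, hy, rfl⟩
      exact hy a (Set.mem_univ a)
    · rintro γ _ ⟨x, hx, rfl⟩
      intro b _
      by_cases hb : b = a
      · subst hb; simpa using hx
      · simp [hb]
  · intro h
    choose Ga hGa hFa using h
    have hsingle : ∀ (x : ∀ a, M a), x = ∑ a, LinearMap.single R M a (x a) := by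
      intro x
      ext b
      simp [Finset.sum_apply]
    have hmapsingle : ∀ a γ, (Ga a γ).map (LinearMap.single R M a) ≤
        Submodule.pi Set.univ (fun a => Ga a γ) := by
      rintro a γ _ ⟨x, hx, rfl⟩ b _
      by_cases hb : b = a
      · subst hb; simpa using hx
      · simp [hb]
    refine ⟨fun γ => Submodule.pi Set.univ (fun a => Ga a γ), ?_, ?_⟩
    · apply isInternal_submodule_of_iSupIndep_of_iSup_eq_top
      · rw [iSupIndep_def]
        intro γ
        rw [Submodule.disjoint_def]
        intro x hx1 hx2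
        ext a
        have hind := (hGa a).submodule_iSupIndep
        rw [iSupIndep_def] at hind
        have hd := hind γ
        rw [Submodule.disjoint_def] at hd
        refine hd (x a) (hx1 a (Set.mem_univ a)) ?_
        have hle : (⨆ η, ⨆ (_ : η ≠ γ), Submodule.pi Set.univ (fun a => Ga a η)) ≤
            (⨆ η, ⨆ (_ : η ≠ γ), Ga a η).comap (LinearMap.proj a) := by
          refine iSup₂_le fun η hη y hy => ?_
          rw [Submodule.mem_comap]
          exact Submodule.mem_iSup_of_mem η (Submodule.mem_iSup_of_mem hη (hy a (Set.mem_univ a)))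
        exact hle hx2
      · rw [eq_top_iff]
        intro x _
        rw [hsingle x]
        refine Submodule.sum_mem _ fun a _ => ?_
        have hxa : x a ∈ iSup (Ga a) := by rw [(hGa a).submodule_iSup_eq_top]; trivial
        have hle : iSup (Ga a) ≤ (iSup fun γ => Submodule.pi Set.univ (fun a => Ga a γ)).comap
            (LinearMap.single R M a) := by
          refine iSup_le fun γ y hy => ?_
          rw [Submodule.mem_comap]
          exact Submodule.mem_iSup_of_mem γ (hmapsingle a γ (Submodule.mem_map_of_mem hy))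
        exact hle hxa
    · intro γ
      apply le_antisymm
      · intro x hx
        rw [hsingle x]
        refine Submodule.sum_mem _ fun a _ => ?_
        have hxa : x a ∈ ⨆ η ∈ Set.Ici γ, Ga a η := by rw [← hFa]; exact hx a (Set.mem_univ a)
        have hle : (⨆ η ∈ Set.Ici γ, Ga a η) ≤
            (⨆ η ∈ Set.Ici γ, Submodule.pi Set.univ (fun a => Ga a η)).comap
              (LinearMap.single R M a) := by
          refine iSup₂_le fun η hη y hy => ?_
          rw [Submodule.mem_comap]
          exact Submodule.mem_iSup_of_mem η (Submodule.mem_iSup_of_mem hη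
            (hmapsingle a η (Submodule.mem_map_of_mem hy)))
        exact hle hxa
      · refine iSup₂_le fun η hη x hx a _ => ?_
        change x a ∈ F a γ
        rw [hFa]
        exact Submodule.mem_iSup_of_mem η (Submodule.mem_iSup_of_mem hη (hx a (Set.mem_univ a)))

end Groth.Agent.S19158
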