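import Groth.Statements.S1916
import Groth.Agent.Lib.Helper20.IrrCompLocFin
import Groth.Agent.Lib.Helper20.StalkFinLen
-- import your own Groth.Agent.* helpers here

set_option autoImplicit false
universe u
open CategoryTheory AlgebraicGeometry
open Cyc

namespace Groth.Agent.S1916

/-- Let F be a coherent O_X-module on a locally Noetherian scheme X. The irreducible components of Supp
F form a locally finite family of subsets of X, and at every point ξ of Supp F admitting no proper
generalization inside Supp F the stalk F_ξ has finite length over O_{X,ξ}. -/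
theorem result (X : Scheme.{u}) [IsLocallyNoetherian X] (F : X.Modules) (hF : Coh.IsCoh F) : LocallyFinite (fun Z : irreducibleComponents {x : X | Nontrivial (F.presheaf.stalk x)} => ((↑) '' (Z : Set {x : X | Nontrivial (F.presheaf.stalk x)}) : Set X)) ∧ ∀ ξ : X, Nontrivial (F.presheaf.stalk ξ) → (∀ x : X, Nontrivial (F.presheaf.stalk x) → x ⤳ ξ → x = ξ) → Module.length (X.presheaf.stalk ξ) (F.presheaf.stalk ξ) < ⊤ := by
  obtain ⟨hq, hft⟩ := hF
  haveI : F.IsQuasicoherent := hq
  haveI : F.IsFiniteType := hft
  refine ⟨?_, ?_⟩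
  · apply Groth.Agent.Lib.Helper20.IrrCompLocFin.locallyFinite_irreducibleComponents_subset
    intro x
    obtain ⟨U, hU0, hxU, -⟩ := TopologicalSpace.Opens.isBasis_iff_nbhd.1 (X.isBasis_affineOpens)
      (show x ∈ (⊤ : X.Opens) from trivial)
    have hU : IsAffineOpen U := hU0
    haveI : IsNoetherianRing Γ(X, U) := IsLocallyNoetherian.component_noetherian ⟨U, hU⟩
    exact ⟨U, U.isOpen, hxU, noetherianSpace_of_isAffineOpen U hU⟩
  · intro ξ _ hmax
    have := Groth.Agent.Lib.Helper20.StalkFinLen.isFiniteLength_stalk_of_maximal F ξ hmax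
    rw [lt_top_iff_ne_top, Module.length_ne_top_iff]
    exact this

end Groth.Agent.S1916
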