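import Groth.Statements.S19160
import Mathlib.Algebra.TrivSqZeroExt.Basic

set_option autoImplicit false
open scoped TensorProduct
universe u
open PureMod

namespace Groth.Agent.S19160

/-- (2) ⇒ (3): in affine form, let R be a commutative ring and i : A → B an R-linear map such that for
every commutative R-algebra R' the base change R' ⊗ A → R' ⊗ B is injective (the pull-back of i to
every affine scheme over Spec R is a monomorphism). Then F ⊗ A → F ⊗ B is injective for every
R-module F, i.e. i is universally injective (pure). (Modules and algebras are taken in the universe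
of R.) -/
theorem result (R : Type u) [CommRing R]
    (A B : Type u) [AddCommGroup A] [Module R A] [AddCommGroup B] [Module R B] (i : A →ₗ[R] B)
    (h : ∀ (R' : Type u) [CommRing R'] [Algebra R R'], Function.Injective (i.baseChange R'))
    (F : Type u) [AddCommGroup F] [Module R F] :
    Function.Injective (i.lTensor F) := by
  letI : Module Rᵐᵒᵖ F := Module.compHom _ ((RingHom.id R).fromOpposite mul_comm)
  haveI : IsCentralScalar R F := ⟨fun r m => rfl⟩
  have hR' := h (TrivSqZeroExt R F)
  rw [LinearMap.baseChange_eq_ltensor] at hR'
  -- the split injection F → R ⊕ F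
  let j : F →ₗ[R] TrivSqZeroExt R F := TrivSqZeroExt.inrHom R F
  let s : TrivSqZeroExt R F →ₗ[R] F := TrivSqZeroExt.sndHom R F
  have hsj : s ∘ₗ j = LinearMap.id := by
    ext x; simp [j, s]
  have hjA : Function.Injective (j.rTensor A) := by
    have : (s.rTensor A) ∘ₗ (j.rTensor A) = LinearMap.id := by
      rw [← LinearMap.rTensor_comp, hsj, LinearMap.rTensor_id]
    exact Function.LeftInverse.injective (g := s.rTensor A) (fun x => by
      have := LinearMap.congr_fun this x
      simpa using this)
  have hcomm : (j.rTensor B) ∘ₗ (i.lTensor F) = (i.lTensor (TrivSqZeroExt R F)) ∘ₗ (j.rTensor A) := by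
    apply TensorProduct.ext'
    intro x a
    simp
  have hinj : Function.Injective ((i.lTensor (TrivSqZeroExt R F)) ∘ₗ (j.rTensor A)) := by
    rw [LinearMap.coe_comp]
    exact hR'.comp hjA
  rw [← hcomm, LinearMap.coe_comp] at hinj
  exact Function.Injective.of_comp hinj

end Groth.Agent.S19160
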