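import Groth.Statements.S19176
import Mathlib

set_option autoImplicit false
universe u
open PlaneCurve

namespace Groth.Agent.S19176

open MvPolynomial in
/-- `k[x,y]/(x^a, y^b)` has dimension `a * b`. -/
theorem finrank_quot_monomial (k : Type u) [Field k] (a b : ℕ) :
    Module.finrank k (MvPolynomial (Fin 2) k ⧸ Ideal.span
      ({X 0 ^ a, X 1 ^ b} : Set (MvPolynomial (Fin 2) k))) = a * b := by
  classical
  set I : Ideal (MvPolynomial (Fin 2) k) := Ideal.span ({X 0 ^ a, X 1 ^ b}) with hI
  let mon : Fin a × Fin b → (Fin 2 →₀ ℕ) := fun ij =>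
    Finsupp.single 0 (ij.1 : ℕ) + Finsupp.single 1 (ij.2 : ℕ)
  let L : MvPolynomial (Fin 2) k →ₗ[k] (Fin a × Fin b → k) :=
    LinearMap.pi fun ij => MvPolynomial.lcoeff k (mon ij)
  have hmon0 : ∀ ij, mon ij 0 = ij.1 := fun ij => by simp [mon]
  have hmon1 : ∀ ij, mon ij 1 = ij.2 := fun ij => by simp [mon]
  have hmon_inj : Function.Injective mon := by
    intro x y h
    have h0 := DFunLike.congr_fun h 0
    have h1 := DFunLike.congr_fun h 1
    rw [hmon0, hmon0] at h0
    rw [hmon1, hmon1] at h1
    exact Prod.ext (Fin.ext h0) (Fin.ext h1)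
  have hIeq : I = Ideal.span ((fun s => monomial s (1 : k)) ''
      ({Finsupp.single 0 a, Finsupp.single 1 b} : Set (Fin 2 →₀ ℕ))) := by
    rw [hI, Set.image_pair]
    simp [X_pow_eq_monomial]
  have hmem : ∀ f : MvPolynomial (Fin 2) k, f ∈ I ↔ ∀ m ∈ f.support, a ≤ m 0 ∨ b ≤ m 1 := by
    intro f
    rw [hIeq, mem_ideal_span_monomial_image]
    refine forall₂_congr fun m _ => ?_
    constructor
    · rintro ⟨s, hs, hle⟩
      rcases hs with rfl | rfl
      · left; simpa using hle 0
      · right; simpa using hle 1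
    · rintro (h | h)
      · refine ⟨Finsupp.single 0 a, Or.inl rfl, ?_⟩
        intro i
        fin_cases i <;> simp [h]
      · refine ⟨Finsupp.single 1 b, Or.inr rfl, ?_⟩
        intro i
        fin_cases i <;> simp [h]
  have hker : LinearMap.ker L = I.restrictScalars k := by
    ext f
    rw [LinearMap.mem_ker, Submodule.restrictScalars_mem, hmem]
    constructor
    · intro h m hm
      by_contra hcon
      push_neg at hcon
      have := congrFun h (⟨m 0, hcon.1⟩, ⟨m 1, hcon.2⟩)
      simp only [L, LinearMap.pi_apply, Pi.zero_apply, lcoeff_apply] at this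
      have hm' : mon (⟨m 0, hcon.1⟩, ⟨m 1, hcon.2⟩) = m := by
        ext i
        fin_cases i
        · exact hmon0 _
        · exact hmon1 _
      rw [hm'] at this
      exact (mem_support_iff.mp hm) this
    · intro h
      funext ij
      simp only [L, LinearMap.pi_apply, Pi.zero_apply, lcoeff_apply]
      by_contra hne
      have := h (mon ij) (mem_support_iff.mpr hne)
      rw [hmon0, hmon1] at this
      rcases this with h | h
      · exact absurd ij.1.2 (not_lt.mpr h)
      · exact absurd ij.2.2 (not_lt.mpr h)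
  have hsurj : Function.Surjective L := by
    intro v
    refine ⟨∑ ij, monomial (mon ij) (v ij), ?_⟩
    funext ij
    simp only [L, LinearMap.pi_apply, lcoeff_apply, coeff_sum, coeff_monomial]
    rw [Finset.sum_eq_single ij]
    · simp
    · intro x _ hx
      rw [if_neg]
      exact fun h => hx (hmon_inj h)
    · intro h; exact absurd (Finset.mem_univ _) h
  have e1 : (MvPolynomial (Fin 2) k ⧸ I) ≃ₗ[k] (Fin a × Fin b → k) :=
    (Submodule.Quotient.restrictScalarsEquiv k I).symm.trans
      ((Submodule.quotEquivOfEq _ _ hker.symm).trans (L.quotKerEquivOfSurjective hsurj))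
  rw [e1.finrank_eq]
  simp

open MvPolynomial in
/-- Let k be a field of characteristic p (p = 0 allowed) and F = y² − x³ in k[x, y] (x the variable of
index 0, y of index 1). The singular subscheme of the plane curve F = 0, cut out by F and its two
partial derivatives, is finite over k of degree 4 when p = 2, of degree 3 when p = 3, and of degree
2 otherwise: the k-dimension of k[x, y]/(F, ∂F/∂x, ∂F/∂y) is that number. (The source phrases this
through the complete local ring of a cusp; the row is the computation for the standard cusp y² =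
x³.) -/
theorem result (k : Type u) [Field k] (p : ℕ) [CharP k p] :
    Module.finrank k (MvPolynomial (Fin 2) k ⧸ Ideal.span
      ({X 1 ^ 2 - X 0 ^ 3, pderiv 0 (X 1 ^ 2 - X 0 ^ 3), pderiv 1 (X 1 ^ 2 - X 0 ^ 3)} :
        Set (MvPolynomial (Fin 2) k))) = (if p = 2 then 4 else if p = 3 then 3 else 2) := by
  classical
  have h0 : pderiv 0 (X 1 ^ 2 - X 0 ^ 3 : MvPolynomial (Fin 2) k) = -(C 3 * X 0 ^ 2) := by
    have h10 : (1 : Fin 2) ≠ 0 := by decide
    simp [Derivation.leibniz_pow, pderiv_X_of_ne h10]
    exact (map_ofNat C 3).symm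
  have h1 : pderiv 1 (X 1 ^ 2 - X 0 ^ 3 : MvPolynomial (Fin 2) k) = C 2 * X 1 := by
    have h01 : (0 : Fin 2) ≠ 1 := by decide
    simp [Derivation.leibniz_pow, pderiv_X_of_ne h01]
    exact (map_ofNat C 2).symm
  rw [h0, h1]
  have hp1 : p ≠ 1 := CharP.char_ne_one k p
  have hcast : ∀ n : ℕ, ((n : k) = 0 ↔ p ∣ n) := CharP.cast_eq_zero_iff k p
  have hCinv : ∀ c : k, c ≠ 0 → (C c⁻¹ * C c : MvPolynomial (Fin 2) k) = 1 := by
    intro c hc
    rw [← C_mul, inv_mul_cancel₀ hc, C_1]
  by_cases hp2 : p = 2
  · rw [if_pos hp2]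
    have e2 : (2 : k) = 0 := by
      have := (hcast 2).mpr (by rw [hp2]); exact_mod_cast this
    have e3 : (3 : k) = 1 := by
      have : (3 : k) = 2 + 1 := by norm_num
      rw [this, e2, zero_add]
    have hJ : Ideal.span ({X 1 ^ 2 - X 0 ^ 3, -(C 3 * X 0 ^ 2), C 2 * X 1} :
        Set (MvPolynomial (Fin 2) k)) = Ideal.span {X 0 ^ 2, X 1 ^ 2} := by
      rw [e3, e2]
      simp only [map_one, map_zero, one_mul, zero_mul]
      apply le_antisymm
      · rw [Ideal.span_le]
        intro x hx
        rcases hx with rfl | rfl | rfl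
        · exact Ideal.mem_span_pair.mpr ⟨-X 0, 1, by ring⟩
        · exact Ideal.mem_span_pair.mpr ⟨-1, 0, by ring⟩
        · exact Ideal.zero_mem _
      · rw [Ideal.span_le]
        intro x hx
        rcases hx with rfl | rfl
        · exact Ideal.mem_span_insert.mpr ⟨0, _, Ideal.mem_span_pair.mpr ⟨-1, 0, rfl⟩, by ring⟩
        · exact Ideal.mem_span_insert.mpr ⟨1, _, Ideal.mem_span_pair.mpr ⟨-X 0, 0, rfl⟩, by ring⟩
    rw [hJ, finrank_quot_monomial]
  · rw [if_neg hp2]
    have e2 : (2 : k) ≠ 0 := by
      intro h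
      have : p ∣ 2 := (hcast 2).mp (by exact_mod_cast h)
      rcases (Nat.dvd_prime Nat.prime_two).mp this with h | h
      · exact hp1 h
      · exact hp2 h
    by_cases hp3 : p = 3
    · rw [if_pos hp3]
      have e3 : (3 : k) = 0 := by
        have := (hcast 3).mpr (by rw [hp3]); exact_mod_cast this
      have hJ : Ideal.span ({X 1 ^ 2 - X 0 ^ 3, -(C 3 * X 0 ^ 2), C 2 * X 1} :
          Set (MvPolynomial (Fin 2) k)) = Ideal.span {X 0 ^ 3, X 1 ^ 1} := by
        rw [e3]
        simp only [map_zero, zero_mul, neg_zero, pow_one]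
        apply le_antisymm
        · rw [Ideal.span_le]
          intro x hx
          rcases hx with rfl | rfl | rfl
          · exact Ideal.mem_span_pair.mpr ⟨-1, X 1, by ring⟩
          · exact Ideal.zero_mem _
          · exact Ideal.mem_span_pair.mpr ⟨0, C 2, by ring⟩
        · rw [Ideal.span_le]
          intro x hx
          rcases hx with rfl | rfl
          · refine Ideal.mem_span_insert.mpr ⟨-1, _,
              Ideal.mem_span_pair.mpr ⟨0, C (2 : k)⁻¹ * X 1, rfl⟩, ?_⟩
            have := hCinv 2 e2
            linear_combination (-(X 1 : MvPolynomial (Fin 2) k) ^ 2) * this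
          · refine Ideal.mem_span_insert.mpr ⟨0, _,
              Ideal.mem_span_pair.mpr ⟨0, C (2 : k)⁻¹, rfl⟩, ?_⟩
            have := hCinv 2 e2
            linear_combination (-(X 1 : MvPolynomial (Fin 2) k)) * this
      rw [hJ, finrank_quot_monomial]
    · rw [if_neg hp3]
      have e3 : (3 : k) ≠ 0 := by
        intro h
        have : p ∣ 3 := (hcast 3).mp (by exact_mod_cast h)
        rcases (Nat.dvd_prime Nat.prime_three).mp this with h | h
        · exact hp1 h
        · exact hp3 h
      have hJ : Ideal.span ({X 1 ^ 2 - X 0 ^ 3, -(C 3 * X 0 ^ 2), C 2 * X 1} :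
          Set (MvPolynomial (Fin 2) k)) = Ideal.span {X 0 ^ 2, X 1 ^ 1} := by
        simp only [pow_one]
        apply le_antisymm
        · rw [Ideal.span_le]
          intro x hx
          rcases hx with rfl | rfl | rfl
          · exact Ideal.mem_span_pair.mpr ⟨-X 0, X 1, by ring⟩
          · exact Ideal.mem_span_pair.mpr ⟨-C 3, 0, by ring⟩
          · exact Ideal.mem_span_pair.mpr ⟨0, C 2, by ring⟩
        · rw [Ideal.span_le]
          intro x hx
          rcases hx with rfl | rfl
          · refine Ideal.mem_span_insert.mpr ⟨0, _,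
              Ideal.mem_span_pair.mpr ⟨-C (3 : k)⁻¹, 0, rfl⟩, ?_⟩
            have := hCinv 3 e3
            linear_combination (-(X 0 : MvPolynomial (Fin 2) k) ^ 2) * this
          · refine Ideal.mem_span_insert.mpr ⟨0, _,
              Ideal.mem_span_pair.mpr ⟨0, C (2 : k)⁻¹, rfl⟩, ?_⟩
            have := hCinv 2 e2
            linear_combination (-(X 1 : MvPolynomial (Fin 2) k)) * this
      rw [hJ, finrank_quot_monomial]

end Groth.Agent.S19176
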