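import Groth.Statements.S19177
import Mathlib

set_option autoImplicit false
universe u
open CAlg

namespace Groth.Agent.S19177

/-- Under positive rank everywhere, there is an `S`-linear retraction `R → S` of the structure map. -/
theorem exists_retraction (S R : Type u) [CommRing S] [CommRing R] [Algebra S R] [Module.Finite S R]
    [Module.Projective S R]
    (h2 : ∀ p : PrimeSpectrum S, 0 < Module.rankAtStalk (R := S) R p) :
    ∃ φ : R →ₗ[S] S, φ 1 = 1 := by
  classical
  -- the ideal of values φ 1
  let ev : (R →ₗ[S] S) →ₗ[S] S := LinearMap.applyₗ (1 : R)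
  let I : Ideal S := LinearMap.range ev
  suffices hI : I = ⊤ by
    have : (1 : S) ∈ I := hI ▸ Submodule.mem_top
    obtain ⟨φ, hφ⟩ := this
    exact ⟨φ, hφ⟩
  by_contra hI
  obtain ⟨m, hm, hIm⟩ := Ideal.exists_le_maximal I hI
  -- finite free cover with section
  obtain ⟨n, f, hf⟩ := Module.Finite.exists_fin' S R
  obtain ⟨s, hs⟩ := Module.projective_lifting_property f LinearMap.id hf
  have h1 : (1 : R) = ∑ i : Fin n, (s 1) i • f (Pi.single i 1) := by
    have e1 : f (s 1) = 1 := LinearMap.congr_fun hs (1 : R)
    have e2 : s 1 = ∑ i : Fin n, (s 1) i • (Pi.single i 1 : Fin n → S) := by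
      ext j
      simp [Finset.sum_apply, Pi.single_apply]
    calc (1 : R) = f (s 1) := e1.symm
      _ = f (∑ i : Fin n, (s 1) i • (Pi.single i 1 : Fin n → S)) := by rw [← e2]
      _ = _ := by simp only [map_sum, map_smul]
  have hmem : ∀ i : Fin n, (s 1) i ∈ m := by
    intro i
    apply hIm
    exact ⟨(LinearMap.proj i).comp s, rfl⟩
  have h1m : (1 : R) ∈ m • (⊤ : Submodule S R) := by
    rw [h1]
    exact Submodule.sum_mem _ fun i _ => Submodule.smul_mem_smul (hmem i) Submodule.mem_top
  have htop : (⊤ : Submodule S R) ≤ m • (⊤ : Submodule S R) := by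
    intro x _
    have : x = x • (1 : R) := by simp
    rw [this]
    -- x • 1 = x * 1, use that m • ⊤ is an R-ideal-like: closed under R-multiplication
    have hx : ∀ y ∈ m • (⊤ : Submodule S R), x * y ∈ m • (⊤ : Submodule S R) := by
      intro y hy
      refine Submodule.smul_induction_on hy ?_ ?_
      · intro a ha z _
        rw [mul_smul_comm]
        exact Submodule.smul_mem_smul ha Submodule.mem_top
      · intro y z hy hz
        rw [mul_add]; exact Submodule.add_mem _ hy hz
    simpa using hx 1 h1m
  obtain ⟨r, hr1, hr⟩ := Submodule.exists_sub_one_mem_and_smul_eq_zero_of_fg_of_le_smul m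
    (⊤ : Submodule S R) (Module.Finite.fg_top) htop
  have hsupp : (⟨m, hm.isPrime⟩ : PrimeSpectrum S) ∈ Module.support S R :=
    (Module.rankAtStalk_pos_iff_mem_support _).mp (h2 _)
  rw [Module.mem_support_iff_of_finite] at hsupp
  have hrann : r ∈ Module.annihilator S R := by
    rw [Module.mem_annihilator]
    intro x; exact hr x Submodule.mem_top
  have hrm : r ∈ m := hsupp hrann
  apply hm.ne_top
  rw [Ideal.eq_top_iff_one]
  have : (1 : S) = r - (r - 1) := by ring
  rw [this]
  exact m.sub_mem hrm hr1

/-- Let S → R be a homomorphism of commutative rings making R a finitely generated projective S-module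
of rank 2 at every prime of S (the affine form of a finite locally free morphism of degree 2). Then
the cokernel of the (injective) structure map S → R, the S-module R/S, is a projective S-module of
rank 1 at every prime of S (locally free of rank 1). -/
theorem result
    (S R : Type u) [CommRing S] [CommRing R] [Algebra S R] [Module.Finite S R] [Module.Projective S R]
    (h2 : ∀ p : PrimeSpectrum S, Module.rankAtStalk (R := S) R p = 2) :
    Module.Projective S (R ⧸ LinearMap.range (Algebra.linearMap S R)) ∧
      ∀ p : PrimeSpectrum S,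
        Module.rankAtStalk (R := S) (R ⧸ LinearMap.range (Algebra.linearMap S R)) p = 1 := by
  classical
  obtain ⟨φ, hφ⟩ := exists_retraction S R (fun p => by rw [h2 p]; norm_num)
  set N : Submodule S R := LinearMap.range (Algebra.linearMap S R) with hN
  -- section of the quotient map
  let τ : R →ₗ[S] R := LinearMap.id - (Algebra.linearMap S R).comp φ
  have hτ : N ≤ LinearMap.ker τ := by
    rintro _ ⟨s, rfl⟩
    simp [τ, Algebra.linearMap_apply, Algebra.algebraMap_eq_smul_one, hφ]
  let σ : (R ⧸ N) →ₗ[S] R := N.liftQ τ hτ
  have hσ : N.mkQ.comp σ = LinearMap.id := by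
    apply Submodule.linearMap_qext
    ext x
    simp only [LinearMap.comp_apply, Submodule.mkQ_apply, LinearMap.id_apply, σ,
      Submodule.liftQ_apply, τ, LinearMap.sub_apply]
    rw [Submodule.Quotient.mk_sub, sub_eq_self, Submodule.Quotient.mk_eq_zero]
    exact ⟨φ x, rfl⟩
  have hproj : Module.Projective S (R ⧸ N) := Module.Projective.of_split σ N.mkQ hσ
  refine ⟨hproj, fun p => ?_⟩
  have : Nontrivial S := p.nontrivial
  -- R ≃ S × R/N
  let e : R ≃ₗ[S] S × (R ⧸ N) :=
    LinearEquiv.ofLinear (φ.prod N.mkQ) ((Algebra.linearMap S R).coprod σ)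
      (by
        apply LinearMap.ext
        rintro ⟨s, q⟩
        obtain ⟨x, rfl⟩ := N.mkQ_surjective q
        have hφa : ∀ t : S, φ (algebraMap S R t) = t := by
          intro t
          rw [Algebra.algebraMap_eq_smul_one, map_smul, hφ, smul_eq_mul, mul_one]
        have hmk : ∀ t : S, N.mkQ (algebraMap S R t) = 0 := by
          intro t
          rw [Submodule.mkQ_apply, Submodule.Quotient.mk_eq_zero]
          exact ⟨t, rfl⟩
        simp only [LinearMap.comp_apply, LinearMap.coprod_apply, LinearMap.prod_apply, Pi.prod,
          LinearMap.id_apply, σ, Submodule.mkQ_apply, Submodule.liftQ_apply, τ, LinearMap.sub_apply,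
          Algebra.linearMap_apply, map_add, map_sub, hφa]
        refine Prod.ext ?_ ?_
        · simp [Function.prod, hφa]
        · simp only [Function.prod, Prod.snd_add, Prod.snd_sub, hmk]
          simp)
      (by
        apply LinearMap.ext
        intro x
        simp [σ, τ])
  have hr := Module.rankAtStalk_eq_of_equiv (R := S) e
  rw [Module.rankAtStalk_prod] at hr
  have := congrFun hr p
  simp only [Pi.add_apply, h2 p, Module.rankAtStalk_self, Pi.one_apply] at this
  omega

end Groth.Agent.S19177
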