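import Groth.Statements.S19178
import Mathlib

set_option autoImplicit false
universe u
open Curves

namespace Groth.Agent.S19178

open MvPolynomial in
theorem totalDegree_aeval_le {k : Type*} [CommRing k] {σ τ : Type*} [Fintype σ]
    (f : σ → MvPolynomial τ k) (hf : ∀ i, (f i).totalDegree ≤ 1) (p : MvPolynomial σ k) :
    (aeval f p).totalDegree ≤ p.totalDegree := by
  rw [aeval_def, eval₂_eq']
  refine (totalDegree_finset_sum _ _).trans (Finset.sup_le fun d hd => ?_)
  have h1 : (∏ i, f i ^ d i).totalDegree ≤ ∑ i, d i := by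
    refine (totalDegree_finset_prod _ _).trans (Finset.sum_le_sum fun i _ => ?_)
    refine (totalDegree_pow _ _).trans ?_
    calc d i * (f i).totalDegree ≤ d i * 1 := Nat.mul_le_mul_left _ (hf i)
      _ = d i := mul_one _
  have h2 : ∑ i, d i ≤ p.totalDegree := by
    have := le_totalDegree hd
    rwa [Finsupp.sum_fintype _ _ (fun _ => rfl)] at this
  refine (totalDegree_mul _ _).trans ?_
  have h3 : (algebraMap k (MvPolynomial τ k) (coeff d p)).totalDegree = 0 := by
    rw [MvPolynomial.algebraMap_eq]; exact totalDegree_C _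
  rw [h3, zero_add]
  exact h1.trans h2

section td
open MvPolynomial
variable {k : Type*} [CommRing k] {σ : Type*}
theorem td_add {p q : MvPolynomial σ k} {n : ℕ} (hp : p.totalDegree ≤ n) (hq : q.totalDegree ≤ n) :
    (p + q).totalDegree ≤ n := (totalDegree_add _ _).trans (max_le hp hq)
theorem td_sub {p q : MvPolynomial σ k} {n : ℕ} (hp : p.totalDegree ≤ n) (hq : q.totalDegree ≤ n) :
    (p - q).totalDegree ≤ n := (totalDegree_sub _ _).trans (max_le hp hq)
theorem td_mul {p q : MvPolynomial σ k} {m n : ℕ} (hp : p.totalDegree ≤ m) (hq : q.totalDegree ≤ n) :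
    (p * q).totalDegree ≤ m + n := (totalDegree_mul _ _).trans (add_le_add hp hq)
theorem td_pow {p : MvPolynomial σ k} {m : ℕ} (hp : p.totalDegree ≤ m) (n : ℕ) :
    (p ^ n).totalDegree ≤ n * m := (totalDegree_pow _ _).trans (Nat.mul_le_mul_left _ hp)
theorem td_X (i : σ) : (X i : MvPolynomial σ k).totalDegree ≤ 1 := by
  rcases subsingleton_or_nontrivial k with h | h
  · have : (X i : MvPolynomial σ k) = 0 := Subsingleton.elim _ _
    rw [this]; simp
  · exact (totalDegree_X i).le
theorem td_C (a : k) : (C a : MvPolynomial σ k).totalDegree ≤ 0 := (totalDegree_C a).le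
end td

open MvPolynomial

/-- For every field k and every choice of coefficients a₁, a₂, a₃, a₄, a₆ in k, the homogeneous
Weierstrass cubic Y²Z + a₁XYZ + a₃YZ² − (X³ + a₂X²Z + a₄XZ² + a₆Z³) is an irreducible polynomial in
k[X, Y, Z]. Applied to all fields, this says every fibre of the Weierstrass family over the affine
space of coefficients is geometrically integral. -/
theorem result (k : Type u) [Field k]
    (W : WeierstrassCurve k) :
    Irreducible (WeierstrassCurve.Projective.polynomial W) := by
  classical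
  have hFdef : WeierstrassCurve.Projective.polynomial W =
      (X 1 ^ 2 * X 2 + C W.a₁ * X 0 * X 1 * X 2 + C W.a₃ * X 1 * X 2 ^ 2
        - (X 0 ^ 3 + C W.a₂ * X 0 ^ 2 * X 2 + C W.a₄ * X 0 * X 2 ^ 2 + C W.a₆ * X 2 ^ 3) :
        MvPolynomial (Fin 3) k) := rfl
  set F := WeierstrassCurve.Projective.polynomial W with hF
  let φ : MvPolynomial (Fin 3) k →ₐ[k] MvPolynomial (Fin 2) k := aeval ![X 1, X 0, 1]
  let e : MvPolynomial (Fin 2) k ≃ₐ[k] Polynomial (Polynomial k) :=
    (MvPolynomial.finSuccEquiv k 1).trans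
      (Polynomial.mapAlgEquiv (MvPolynomial.uniqueAlgEquiv k (Fin 1)))
  have hφF : φ F = X 0 ^ 2 + C W.a₁ * X 1 * X 0 + C W.a₃ * X 0 -
      (X 1 ^ 3 + C W.a₂ * X 1 ^ 2 + C W.a₄ * X 1 + C W.a₆) := by
    rw [hFdef]
    simp [φ]
  have h1 : (1 : Fin 2) = Fin.succ 0 := rfl
  have heX1 : e (X 1) = Polynomial.C Polynomial.X := by
    simp only [e, AlgEquiv.trans_apply]
    rw [h1, MvPolynomial.finSuccEquiv_X_succ]
    simp
  have heX0 : e (X 0) = Polynomial.X := by
    simp only [e, AlgEquiv.trans_apply]
    rw [MvPolynomial.finSuccEquiv_X_zero]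
    simp
  have heC : ∀ a : k, e (C a) = Polynomial.C (Polynomial.C a) := by
    intro a
    have := e.commutes a
    simpa [MvPolynomial.algebraMap_eq, Polynomial.algebraMap_apply] using this
  have heφ : e (φ F) = W.toAffine.polynomial := by
    rw [hφF]
    simp only [map_sub, map_add, map_mul, map_pow, heX0, heX1, heC,
      WeierstrassCurve.Affine.polynomial]
    ring
  have hirr : Irreducible (φ F) := by
    have := W.toAffine.irreducible_polynomial
    rw [← heφ] at this
    exact (MulEquiv.irreducible_iff e.toMulEquiv).mp this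
  have hdeg : 3 ≤ (φ F).totalDegree := by
    have hc : coeff (Finsupp.single (1 : Fin 2) 3) (φ F) = -1 := by
      rw [hφF]
      have h1 : (Finsupp.single (0 : Fin 2) 2) ≠ Finsupp.single (1 : Fin 2) 3 := by
        intro h; have := DFunLike.congr_fun h 0; simp at this
      have h2 : (0 : Fin 2 →₀ ℕ) ≠ Finsupp.single (1 : Fin 2) 3 := by
        intro h; have := DFunLike.congr_fun h 1; simp at this
      have h3 : (0 : Fin 2 →₀ ℕ) ≠ Finsupp.single (1 : Fin 2) 3 - Finsupp.single (1 : Fin 2) 1 := by
        intro h; have := DFunLike.congr_fun h 1; simp at this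
      simp [coeff_X_pow, coeff_C_mul, coeff_mul_X', coeff_C, Finsupp.single_eq_single_iff, h2, h3]
    have hs : Finsupp.single (1 : Fin 2) 3 ∈ (φ F).support := by
      rw [mem_support_iff, hc]; norm_num
    have := le_totalDegree hs
    simpa using this
  have hFdeg : F.totalDegree ≤ 3 := by
    rw [hFdef]
    refine td_sub (td_add (td_add ?_ ?_) ?_) (td_add (td_add (td_add ?_ ?_) ?_) ?_)
    · exact (td_mul (td_pow (td_X 1) 2) (td_X 2)).trans (by norm_num)
    · exact (td_mul (td_mul (td_mul (td_C _) (td_X 0)) (td_X 1)) (td_X 2)).trans (by norm_num)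
    · exact (td_mul (td_mul (td_C _) (td_X 1)) (td_pow (td_X 2) 2)).trans (by norm_num)
    · exact (td_pow (td_X 0) 3).trans (by norm_num)
    · exact (td_mul (td_mul (td_C _) (td_pow (td_X 0) 2)) (td_X 2)).trans (by norm_num)
    · exact (td_mul (td_mul (td_C _) (td_X 0)) (td_pow (td_X 2) 2)).trans (by norm_num)
    · exact (td_mul (td_C _) (td_pow (td_X 2) 3)).trans (by norm_num)
  have hφle : ∀ p : MvPolynomial (Fin 3) k, (φ p).totalDegree ≤ p.totalDegree := by
    intro p
    apply totalDegree_aeval_le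
    intro i
    fin_cases i
    · exact td_X 1
    · exact td_X 0
    · simp
  have key : ∀ A B : MvPolynomial (Fin 3) k, F = A * B → IsUnit (φ A) → IsUnit A := by
    intro A B hAB hu
    have hF0 : F ≠ 0 := fun h => hirr.ne_zero (by rw [h, map_zero])
    have hA0 : A ≠ 0 := fun h => hF0 (by rw [hAB, h, zero_mul])
    have hB0 : B ≠ 0 := fun h => hF0 (by rw [hAB, h, mul_zero])
    have hφA0 : φ A ≠ 0 := hu.ne_zero
    have hφB0 : φ B ≠ 0 := fun h => hirr.ne_zero (by rw [hAB, map_mul, h, mul_zero])
    have hdegAB : A.totalDegree + B.totalDegree = F.totalDegree := by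
      rw [hAB, totalDegree_mul_of_isDomain hA0 hB0]
    have hdegφ : (φ A).totalDegree + (φ B).totalDegree = (φ F).totalDegree := by
      rw [hAB, map_mul, totalDegree_mul_of_isDomain hφA0 hφB0]
    have huA : (φ A).totalDegree = 0 := by
      obtain ⟨v, hv⟩ := hu.exists_right_inv
      have hv0 : v ≠ 0 := fun h => by rw [h, mul_zero] at hv; exact zero_ne_one hv
      have := totalDegree_mul_of_isDomain hφA0 hv0
      rw [hv, totalDegree_one] at this
      omega
    have hB3 := hφle B
    have hA : A.totalDegree = 0 := by omega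
    rw [totalDegree_eq_zero_iff_eq_C] at hA
    rw [hA]
    apply IsUnit.map
    rw [isUnit_iff_ne_zero]
    intro h0
    apply hA0
    rw [hA, h0, map_zero]
  refine ⟨fun hu => hirr.not_isUnit (hu.map φ), ?_⟩
  intro A B hAB
  rcases hirr.isUnit_or_isUnit (show φ F = φ A * φ B by rw [hAB, map_mul]) with hu | hu
  · exact Or.inl (key A B hAB hu)
  · exact Or.inr (key B A (by rw [hAB, mul_comm]) hu)

end Groth.Agent.S19178
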