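import Groth.Statements.S1918
import Mathlib
import Groth.Agent.Lib.Helper22.ClosedRat
import Groth.Agent.Lib.Helper22.C1Indep
-- import your own Groth.Agent.* helpers here

set_option autoImplicit false
universe u
open CategoryTheory AlgebraicGeometry
open CategoryTheory.Limits
open Cyc

namespace Groth.Agent.S1918

section PRE
open CategoryTheory.Limits
open Groth.Agent.Lib.Helper22.ClosedC1 Groth.Agent.Lib.Helper22.ClosedRat
open Groth.Agent.Lib.Helper22.DivLocFin (divFun_ne_zero sum_divFun_locfin)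
open Groth.Agent.Lib.Helper22.C1Indep (divFun_zpow)

/-- the support of a locally finite family of divisors at a point is finite. -/
lemma finite_support_div {X : Scheme.{u}} (δ : X → ℤ) {ι : Type u} (ξ : ι → X)
    (f : (i : ι) → X.residueField (ξ i))
    (hlf : ∀ x : X, ∃ U : Set X, IsOpen U ∧ x ∈ U ∧ {i | (closure {ξ i} ∩ U).Nonempty}.Finite)
    (x : X) : (Function.support fun i => divFun δ (ξ i) (f i) x).Finite := by
  obtain ⟨U, -, hxU, hfin⟩ := hlf x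
  refine hfin.subset ?_
  intro i hi
  obtain ⟨hs, -, -⟩ := divFun_ne_zero δ (ξ i) (f i) x hi
  exact ⟨x, specializes_iff_mem_closure.mp hs, hxU⟩

/-- the pushforward of a `k`-cycle along a closed immersion vanishes at points not of dimension
`k`. -/
lemma map_closedImm_zk {D X : Scheme.{u}} (i : D ⟶ X) [IsClosedImmersion i] (δ : X → ℤ) (k : ℤ)
    (α : AlgebraicCycle D ℤ) (hα : α ∈ Cyc.Zk D (fun d => δ (i d)) k) (x : X) (hx : δ x ≠ k) :
    (AlgebraicCycle.map i (fun d => δ (i d)) δ α) x = 0 := by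
  by_cases hr : x ∈ Set.range i
  · obtain ⟨d, rfl⟩ := hr
    rw [map_closedImm_apply]
    exact hα d hx
  · exact map_closedImm_notMem i δ α x hr

lemma divFun_inv {X : Scheme.{u}} (δ : X → ℤ) (ξ : X) (g : X.residueField ξ) (x : X) :
    divFun δ ξ g⁻¹ x = - divFun δ ξ g x := by
  rw [← zpow_neg_one, divFun_zpow]
  ring

theorem main (X : Scheme.{u}) (δ : X → ℤ) (hX : Cyc.IsSetup X δ) (X₁ X₂ : Scheme.{u}) (i₁ : X₁ ⟶ X) (i₂ : X₂ ⟶ X) [IsClosedImmersion i₁] [IsClosedImmersion i₂] (hcov : Set.range ⇑i₁ ∪ Set.range ⇑i₂ = Set.univ) (k : ℤ) (α₁ : AlgebraicCycle X₁ ℤ) (α₂ : AlgebraicCycle X₂ ℤ) (h₁ : α₁ ∈ Cyc.Zk X₁ (fun x => δ (i₁ x)) k) (h₂ : α₂ ∈ Cyc.Zk X₂ (fun x => δ (i₂ x)) k) (h : Cyc.RatEquiv δ k (AlgebraicCycle.map i₁ (fun x => δ (i₁ x)) δ α₁) (AlgebraicCycle.map i₂ (fun x => δ (i₂ x)) δ α₂)) : ∃ β : AlgebraicCycle (pullback i₁ i₂) ℤ, β ∈ Cyc.Zk (pullback i₁ i₂) (fun z => δ (i₁ (pullback.fst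 i₁ i₂ z))) k ∧ Cyc.RatEquiv (fun x => δ (i₁ x)) k α₁ (AlgebraicCycle.map (pullback.fst i₁ i₂) (fun z => δ (i₁ (pullback.fst i₁ i₂ z))) (fun x => δ (i₁ x)) β) ∧ Cyc.RatEquiv (fun x => δ (i₂ x)) k α₂ (AlgebraicCycle.map (pullback.snd i₁ i₂) (fun z => δ (i₁ (pullback.fst i₁ i₂ z))) (fun x => δ (i₂ x)) β) := by
  classical
  haveI := hX.1
  have hδ := hX.2.2
  obtain ⟨ι, ξ, f, hδξ, hf0, hlf, hsum⟩ := h
  set A₁ := AlgebraicCycle.map i₁ (fun x => δ (i₁ x)) δ α₁ with hA₁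
  set A₂ := AlgebraicCycle.map i₂ (fun x => δ (i₂ x)) δ α₂ with hA₂
  let S₁ : Set ι := {i | ξ i ∈ Set.range i₁}
  have hS₂ : ∀ i : ↥S₁ᶜ, ξ i ∈ Set.range i₂ := by
    intro i
    have hh : ξ i ∈ Set.range i₁ ∪ Set.range i₂ := by rw [hcov]; trivial
    rcases hh with h | h
    · exact absurd h i.2
    · exact h
  let D₁ : X → ℤ := fun x => ∑ᶠ i : ↥S₁, divFun δ (ξ i) (f i) x
  let D₂ : X → ℤ := fun x => ∑ᶠ i : ↥S₁ᶜ, divFun δ (ξ i) (f i) x
  have hsplit : ∀ x, ∑ᶠ i, divFun δ (ξ i) (f i) x = D₁ x + D₂ x := by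
    intro x
    have hfin := finite_support_div δ ξ f hlf x
    show _ = (∑ᶠ i : ↥S₁, divFun δ (ξ i) (f i) x) + ∑ᶠ i : ↥S₁ᶜ, divFun δ (ξ i) (f i) x
    rw [finsum_set_coe_eq_finsum_mem (f := fun i => divFun δ (ξ i) (f i) x) S₁,
      finsum_set_coe_eq_finsum_mem (f := fun i => divFun δ (ξ i) (f i) x) S₁ᶜ,
      ← finsum_mem_union' disjoint_compl_right (hfin.inter_of_right _) (hfin.inter_of_right _),
      Set.union_compl_self, finsum_mem_univ]
  let γ : X → ℤ := fun x => A₁ x - D₁ x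
  have hγ₂ : ∀ x, γ x = A₂ x + D₂ x := by
    intro x
    have h1 := hsum x
    rw [Function.locallyFinsuppWithin.coe_sub] at h1
    have h2 : A₁ x - A₂ x = D₁ x + D₂ x := by rw [← hsplit x]; exact h1
    show A₁ x - D₁ x = _
    linarith
  have hD₁r : ∀ x, x ∉ Set.range i₁ → D₁ x = 0 := by
    intro x hx
    exact finsum_eq_zero_of_forall_eq_zero fun i =>
      divFun_notMem_range i₁ δ (ξ i) i.2 (f i) x hx
  have hD₂r : ∀ x, x ∉ Set.range i₂ → D₂ x = 0 := by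
    intro x hx
    exact finsum_eq_zero_of_forall_eq_zero fun i =>
      divFun_notMem_range i₂ δ (ξ i) (hS₂ i) (f i) x hx
  have hγr₁ : ∀ x, x ∉ Set.range i₁ → γ x = 0 := by
    intro x hx
    show A₁ x - D₁ x = 0
    rw [hD₁r x hx, hA₁, map_closedImm_notMem i₁ δ α₁ x hx, sub_zero]
  have hγr₂ : ∀ x, x ∉ Set.range i₂ → γ x = 0 := by
    intro x hx
    rw [hγ₂ x, hD₂r x hx, hA₂, map_closedImm_notMem i₂ δ α₂ x hx, add_zero]
  have hD₁k : ∀ x, δ x ≠ k → D₁ x = 0 := by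
    intro x hx
    refine finsum_eq_zero_of_forall_eq_zero fun i => ?_
    by_contra hne
    obtain ⟨-, hd, -⟩ := divFun_ne_zero δ (ξ i) (f i) x hne
    rw [hδξ i] at hd
    exact hx (by linarith)
  have hγk : ∀ x, δ x ≠ k → γ x = 0 := by
    intro x hx
    show A₁ x - D₁ x = 0
    rw [hD₁k x hx, hA₁, map_closedImm_zk i₁ δ k α₁ h₁ x hx, sub_zero]
  have hlf₁ : ∀ x : X, ∃ U : Set X, IsOpen U ∧ x ∈ U ∧
      {i : ↥S₁ | (closure {ξ i} ∩ U).Nonempty}.Finite := by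
    intro x
    obtain ⟨U, hUo, hxU, hfin⟩ := hlf x
    exact ⟨U, hUo, hxU, (hfin.preimage Subtype.val_injective.injOn).subset (fun i hi => hi)⟩
  have hlf₂ : ∀ x : X, ∃ U : Set X, IsOpen U ∧ x ∈ U ∧
      {i : ↥S₁ᶜ | (closure {ξ i} ∩ U).Nonempty}.Finite := by
    intro x
    obtain ⟨U, hUo, hxU, hfin⟩ := hlf x
    exact ⟨U, hUo, hxU, (hfin.preimage Subtype.val_injective.injOn).subset (fun i hi => hi)⟩
  have hγlf : ∀ x : X, ∃ t ∈ nhds x, (t ∩ Function.support γ).Finite := by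
    intro x
    obtain ⟨t, ht, htfin⟩ := A₁.supportLocallyFiniteWithinDomain' x (Set.mem_univ x)
    obtain ⟨V, hVo, hxV, hVfin⟩ := sum_divFun_locfin δ hδ (fun i : ↥S₁ => ξ i) (fun i => f i)
      (fun i => hf0 i) hlf₁ x
    refine ⟨t ∩ V, Filter.inter_mem ht (hVo.mem_nhds hxV), (htfin.union hVfin).subset ?_⟩
    rintro z ⟨⟨hzt, hzV⟩, hz⟩
    by_cases hA : A₁ z = 0
    · right
      refine ⟨hzV, ?_⟩
      intro hD
      apply hz
      show A₁ z - D₁ z = 0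
      rw [hA, zero_sub, neg_eq_zero]
      exact hD
    · left
      exact ⟨hzt, hA⟩
  set p₁ := pullback.fst i₁ i₂ with hp₁
  set p₂ := pullback.snd i₁ i₂ with hp₂
  have hcond : ∀ z : ↥(pullback i₁ i₂), i₁ (p₁ z) = i₂ (p₂ z) := by
    intro z
    have := congrArg (fun g : pullback i₁ i₂ ⟶ X => g z) (pullback.condition (f := i₁) (g := i₂))
    exact this
  let q : ↥(pullback i₁ i₂) → X := fun z => i₁ (p₁ z)
  have hqc : Continuous q := i₁.continuous.comp p₁.continuous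
  have hqi : Function.Injective q := (ci_injective i₁).comp (ci_injective p₁)
  let β : AlgebraicCycle (pullback i₁ i₂) ℤ := ⟨fun z => γ (q z), fun _ _ => trivial, by
    intro z _
    obtain ⟨t, ht, htfin⟩ := hγlf (q z)
    refine ⟨q ⁻¹' t, hqc.continuousAt.preimage_mem_nhds ht, ?_⟩
    refine (htfin.preimage hqi.injOn).subset ?_
    rintro z' ⟨hz't, hz'⟩
    exact ⟨hz't, hz'⟩⟩
  have hβ : ∀ z, β z = γ (q z) := fun z => rfl
  refine ⟨β, ?_, ?_, ?_⟩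
  · intro z hz
    rw [hβ]
    exact hγk _ hz
  · refine ratEquivZero_closedImm i₁ δ hδ k (fun i : ↥S₁ => ξ i) (fun i => f i)
      (fun i => hδξ i) (fun i => hf0 i) hlf₁ (fun i => i.2) _ ?_
    intro d
    rw [Function.locallyFinsuppWithin.coe_sub]
    have key₁ : (AlgebraicCycle.map p₁ (fun z => δ (i₁ (p₁ z))) (fun x => δ (i₁ x)) β) d =
        γ (i₁ d) := by
      by_cases hd : d ∈ Set.range p₁
      · obtain ⟨z, rfl⟩ := hd
        exact map_closedImm_apply p₁ (fun x => δ (i₁ x)) β z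
      · rw [map_closedImm_notMem p₁ (fun x => δ (i₁ x)) β d hd]
        symm
        apply hγr₂
        rintro ⟨d₂, hd₂⟩
        obtain ⟨z, hz1, -⟩ := Scheme.Pullback.exists_preimage_pullback d d₂ hd₂.symm
        exact hd ⟨z, hz1⟩
    show α₁ d - _ = _
    rw [key₁]
    show α₁ d - (A₁ (i₁ d) - D₁ (i₁ d)) = _
    rw [hA₁, map_closedImm_apply i₁ δ α₁ d]
    show α₁ d - (α₁ d - D₁ (i₁ d)) = D₁ (i₁ d)
    ring
  · have hδP : (fun z : ↥(pullback i₁ i₂) => δ (i₁ (p₁ z))) = (fun z => δ (i₂ (p₂ z))) :=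
      funext fun z => by rw [hcond z]
    rw [hδP]
    refine ratEquivZero_closedImm i₂ δ hδ k (fun i : ↥S₁ᶜ => ξ i) (fun i => (f i)⁻¹)
      (fun i => hδξ i) (fun i => inv_ne_zero (hf0 i)) hlf₂ hS₂ _ ?_
    intro d
    rw [Function.locallyFinsuppWithin.coe_sub]
    have key₂ : (AlgebraicCycle.map p₂ (fun z => δ (i₂ (p₂ z))) (fun x => δ (i₂ x)) β) d =
        γ (i₂ d) := by
      by_cases hd : d ∈ Set.range p₂
      · obtain ⟨z, rfl⟩ := hd
        rw [← hcond z]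
        exact map_closedImm_apply p₂ (fun x => δ (i₂ x)) β z
      · rw [map_closedImm_notMem p₂ (fun x => δ (i₂ x)) β d hd]
        symm
        apply hγr₁
        rintro ⟨d₁, hd₁⟩
        obtain ⟨z, -, hz2⟩ := Scheme.Pullback.exists_preimage_pullback d₁ d hd₁
        exact hd ⟨z, hz2⟩
    show α₂ d - _ = _
    rw [key₂, hγ₂, hA₂, map_closedImm_apply i₂ δ α₂ d]
    have e1 : (∑ᶠ i : ↥S₁ᶜ, divFun δ (ξ i) (f i)⁻¹ (i₂ d)) = - D₂ (i₂ d) := by
      show _ = - ∑ᶠ i : ↥S₁ᶜ, divFun δ (ξ i) (f i) (i₂ d)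
      rw [← finsum_neg_distrib]
      exact finsum_congr fun i => divFun_inv δ (ξ i) (f i) (i₂ d)
    rw [e1]
    ring

end PRE

/-- Mayer–Vietoris for Chow groups, exactness in the middle: let i₁ : X₁ → X, i₂ : X₂ → X be closed
immersions covering X set-theoretically and X₁₂ = X₁ ×_X X₂ their scheme-theoretic intersection. If
k-cycles α₁ on X₁ and α₂ on X₂ have rationally equivalent pushforwards on X, then there is a k-cycle
β on X₁₂ with α₁ ∼_rat (pr₁)_*β on X₁ and α₂ ∼_rat (pr₂)_*β on X₂. (The published statement also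
asserts that CH_k(X₁) ⊕ CH_k(X₂) → CH_k(X) is surjective; that is not asserted here.) Here a pair
(X, δ) with Cyc.IsSetup plays the role of a scheme locally of finite type over a fixed base with a
dimension function (X locally Noetherian with universally catenary local rings, δ a dimension
function). -/
theorem result (X : Scheme.{u}) (δ : X → ℤ) (hX : Cyc.IsSetup X δ) (X₁ X₂ : Scheme.{u}) (i₁ : X₁ ⟶ X) (i₂ : X₂ ⟶ X) [IsClosedImmersion i₁] [IsClosedImmersion i₂] (hcov : Set.range ⇑i₁ ∪ Set.range ⇑i₂ = Set.univ) (k : ℤ) (α₁ : AlgebraicCycle X₁ ℤ) (α₂ : AlgebraicCycle X₂ ℤ) (h₁ : α₁ ∈ Cyc.Zk X₁ (fun x => δ (i₁ x)) k) (h₂ : α₂ ∈ Cyc.Zk X₂ (fun x => δ (i₂ x)) k) (h : Cyc.RatEquiv δ k (AlgebraicCycle.map i₁ (fun x => δ (i₁ x)) δ α₁) (AlgebraicCycle.map i₂ (fun x => δ (i₂ x)) δ α₂)) : ∃ β : AlgebraicCycle (pullback i₁ i₂) ℤ, β ∈ Cyc.Zk (pullback i₁ i₂) (fun z => δ (i₁ (pullback.fst i₁ i₂ z))) k ∧ Cyc.RatEquiv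 (fun x => δ (i₁ x)) k α₁ (AlgebraicCycle.map (pullback.fst i₁ i₂) (fun z => δ (i₁ (pullback.fst i₁ i₂ z))) (fun x => δ (i₁ x)) β) ∧ Cyc.RatEquiv (fun x => δ (i₂ x)) k α₂ (AlgebraicCycle.map (pullback.snd i₁ i₂) (fun z => δ (i₁ (pullback.fst i₁ i₂ z))) (fun x => δ (i₂ x)) β) := by
  exact main X δ hX X₁ X₂ i₁ i₂ hcov k α₁ α₂ h₁ h₂ h

end Groth.Agent.S1918
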