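import Groth.Statements.S19180
import Groth.Agent.Lib.Proj.Helper44_PnBridge
import Groth.Agent.Lib.Cohomology.Helper1_SerreCrit
import Groth.Agent.Lib.Helper32.SectFree

set_option autoImplicit false
universe u
open Coherent

namespace Groth.Agent.S19180

open CategoryTheory AlgebraicGeometry in
/-- Let R be a local ring and m ≥ 1, and consider the projective line P¹_R with its structure sheaf O
and twisting sheaf O(m). For every O-module F and every short exact sequence 0 → O(m) → F → O → 0 of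
O-modules, the surjection F → O admits a section; consequently F is isomorphic to O(m) ⊕ O. -/
theorem result (R : Type u) [CommRing R] [IsLocalRing R]
    (m : ℕ) (hm : 1 ≤ m) (F : (CohB1.ProjSpace 1 R).Modules)
    (i : Twist.twistProjSpace 1 R (m : ℤ) ⟶ F) (p : F ⟶ Coh.structureModule (CohB1.ProjSpace 1 R))
    (w : i ≫ p = 0) (hex : (ShortComplex.mk i p w).ShortExact) :
    ∃ s : Coh.structureModule (CohB1.ProjSpace 1 R) ⟶ F, s ≫ p = 𝟙 _ := by
  have h1 : Subsingleton (Coh.HH (CohB1.ProjSpace 1 R) (Twist.twistProjSpace 1 R (m : ℤ)) 1) := by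
    apply Groth.Agent.Lib.Proj.Bridge.subsingleton_HH_twist' 1 R (m : ℤ) 1
    · rintro ⟨h, -⟩
      exact absurd h one_ne_zero
    · rintro ⟨-, h⟩
      have : (0 : ℤ) ≤ m := Int.natCast_nonneg m
      push_cast at h
      omega
  have hsurj := Groth.Agent.Lib.Cohomology.SerreCrit.surjective_app_top_of_H1
    (ShortComplex.mk i p w) hex h1
  obtain ⟨s0, hs0⟩ := hsurj (1 : (CohB1.ProjSpace 1 R).ringCatSheaf.obj.obj (Opposite.op ⊤))
  have hT : Limits.IsTerminal (⊤ : (CohB1.ProjSpace 1 R).Opens) := Limits.isTerminalTop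
  obtain ⟨s, hs⟩ := (Groth.Agent.Lib.Helper32.SectFree.unit_ev_bijective hT F).2 s0
  refine ⟨s, ?_⟩
  apply (Groth.Agent.Lib.Helper32.SectFree.unit_ev_bijective hT
    (Coh.structureModule (CohB1.ProjSpace 1 R))).1
  change p.val.app (Opposite.op ⊤) (s.val.app (Opposite.op ⊤)
    (1 : (CohB1.ProjSpace 1 R).ringCatSheaf.obj.obj (Opposite.op ⊤))) =
    (1 : (CohB1.ProjSpace 1 R).ringCatSheaf.obj.obj (Opposite.op ⊤))
  have hs' : s.val.app (Opposite.op ⊤)
    (1 : (CohB1.ProjSpace 1 R).ringCatSheaf.obj.obj (Opposite.op ⊤)) = s0 := hs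
  rw [hs']
  exact hs0

end Groth.Agent.S19180
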