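import Groth.Statements.S19181
import Mathlib

set_option autoImplicit false
universe u
open CAlg

namespace Groth.Agent.S19181

open Polynomial in
theorem key_poly {T : Type*} [CommRing T] (G : T[X])
    (hG : ∀ t : T, G.coeff 0 * t = 0 → t = 0) :
    ∀ (n : ℕ) (S : T[X]), G ∣ Polynomial.X ^ n * S → G ∣ S := by
  intro n
  induction n with
  | zero => intro S h; simpa using h
  | succ n ih =>
    intro S h
    obtain ⟨t, ht⟩ := h
    have h0 : (G * t).coeff 0 = 0 := by
      rw [← ht, pow_succ', mul_assoc, Polynomial.coeff_X_mul_zero]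
    rw [Polynomial.mul_coeff_zero] at h0
    have ht0 : t.coeff 0 = 0 := hG _ h0
    obtain ⟨t', rfl⟩ := Polynomial.X_dvd_iff.mpr ht0
    apply ih
    refine ⟨t', ?_⟩
    have hX : IsLeftRegular (Polynomial.X : T[X]) := Polynomial.monic_X.isRegular.left
    apply hX
    show Polynomial.X * (Polynomial.X ^ n * S) = Polynomial.X * (G * t')
    rw [← mul_assoc, ← pow_succ', ht]; ring

open Polynomial in
theorem key_poly_iff {T : Type*} [CommRing T] (G S : T[X])
    (hG : ∀ t : T, G.coeff 0 * t = 0 → t = 0) :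
    (∃ n : ℕ, Polynomial.X ^ 2 * G ∣ Polynomial.X ^ n * S) ↔ G ∣ S := by
  constructor
  · rintro ⟨n, hn⟩
    exact key_poly G hG n S (dvd_trans (dvd_mul_left G _) hn)
  · intro h
    exact ⟨2, mul_dvd_mul_left _ h⟩

open Polynomial in
theorem reg_of_coeff_zero_eq_one {R : Type*} [CommRing R] (p : R[X]) (hp : p.coeff 0 = 1)
    (t : R[X]) (h : p * t = 0) : t = 0 := by
  have hu : IsUnit (p : PowerSeries R) := by
    rw [PowerSeries.isUnit_iff_constantCoeff]; simp [hp]
  apply Polynomial.coe_injective R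
  have := congrArg (fun q : R[X] => (q : PowerSeries R)) h
  simp only [Polynomial.coe_mul, Polynomial.coe_zero] at this
  rw [Polynomial.coe_zero]
  exact hu.mul_left_cancel (by rw [this, mul_zero])

theorem reg_c (R : Type*) [CommRing R] (a₁ a₂ : R) (t : MvPolynomial (Fin 1) R)
    (h : (1 + MvPolynomial.C a₁ * MvPolynomial.X 0 - MvPolynomial.C a₂ * MvPolynomial.X 0 ^ 2) * t = 0) :
    t = 0 := by
  have h2 := congrArg (MvPolynomial.uniqueAlgEquiv R (Fin 1)) h
  rw [map_mul, map_zero] at h2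
  have := reg_of_coeff_zero_eq_one _ ?_ _ h2
  · exact EmbeddingLike.map_eq_zero_iff.mp this
  · simp

theorem reg_q (R : Type*) [CommRing R] (a₁ a₂ : R) (t : MvPolynomial (Fin 1) R)
    (h : (MvPolynomial.X 0 ^ 2 + MvPolynomial.C a₁ * MvPolynomial.X 0 - MvPolynomial.C a₂) * t = 0) :
    t = 0 := by
  have h2 := congrArg (MvPolynomial.uniqueAlgEquiv R (Fin 1)) h
  rw [map_mul, map_zero] at h2
  have hm : (MvPolynomial.uniqueAlgEquiv R (Fin 1)
      (MvPolynomial.X 0 ^ 2 + MvPolynomial.C a₁ * MvPolynomial.X 0 - MvPolynomial.C a₂)).Monic := by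
    have : MvPolynomial.uniqueAlgEquiv R (Fin 1)
      (MvPolynomial.X 0 ^ 2 + MvPolynomial.C a₁ * MvPolynomial.X 0 - MvPolynomial.C a₂) =
      Polynomial.X ^ 2 + (Polynomial.C a₁ * Polynomial.X - Polynomial.C a₂) := by
      simp [add_sub_assoc]
    rw [this]
    apply Polynomial.monic_X_pow_add
    refine lt_of_le_of_lt (Polynomial.degree_sub_le _ _) ?_
    refine max_lt ?_ ?_
    · exact lt_of_le_of_lt (Polynomial.degree_C_mul_X_le _) (by norm_num)
    · exact lt_of_le_of_lt Polynomial.degree_C_le (by norm_num)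
  have := hm.isRegular.left (a₁ := MvPolynomial.uniqueAlgEquiv R (Fin 1) t) (a₂ := 0) (by simpa using h2)
  exact EmbeddingLike.map_eq_zero_iff.mp this

open MvPolynomial in
/-- Let R be a commutative ring, a₁, a₂ ∈ R, and C ⊂ A²_R the curve y² + a₁xy = x³ + a₂x², blown up at
the section x = y = 0. In the chart where x = yα (variables y = X 0, α = X 1) the equation of C
becomes y²·g₁ with g₁ = 1 + a₁α − yα³ − a₂α², and the y-saturation of the ideal (y²g₁) is (g₁): for
s ∈ R[y, α], some yⁿs lies in (y²g₁) if and only if s ∈ (g₁). In the chart where y = xβ (variables x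
= X 0, β = X 1) the equation becomes x²·g₂ with g₂ = β² + a₁β − x − a₂, and some xⁿs lies in (x²g₂)
if and only if s ∈ (g₂). In other words the strict transform of C is cut out by g₁, resp. g₂, in the
two charts. -/
theorem result (R : Type u) [CommRing R] (a₁ a₂ : R) :
    (∀ s : MvPolynomial (Fin 2) R,
      (∃ n : ℕ, X 0 ^ n * s ∈ Ideal.span ({X 0 ^ 2 * (1 + C a₁ * X 1 - X 0 * X 1 ^ 3 - C a₂ * X 1 ^ 2)} :
        Set (MvPolynomial (Fin 2) R))) ↔
      s ∈ Ideal.span ({1 + C a₁ * X 1 - X 0 * X 1 ^ 3 - C a₂ * X 1 ^ 2} : Set (MvPolynomial (Fin 2) R))) ∧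
    (∀ s : MvPolynomial (Fin 2) R,
      (∃ n : ℕ, X 0 ^ n * s ∈ Ideal.span ({X 0 ^ 2 * (X 1 ^ 2 + C a₁ * X 1 - X 0 - C a₂)} :
        Set (MvPolynomial (Fin 2) R))) ↔
      s ∈ Ideal.span ({X 1 ^ 2 + C a₁ * X 1 - X 0 - C a₂} : Set (MvPolynomial (Fin 2) R))) := by
  have h1 : (1 : Fin 2) = Fin.succ 0 := rfl
  have hX1 : MvPolynomial.finSuccEquiv R 1 (X 1) = Polynomial.C (X 0) := by
    rw [h1]; exact MvPolynomial.finSuccEquiv_X_succ
  have hC : ∀ a : R, MvPolynomial.finSuccEquiv R 1 (C a) = Polynomial.C (C a) := fun a => by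
    simp [MvPolynomial.finSuccEquiv_apply]
  refine ⟨fun s => ?_, fun s => ?_⟩
  · simp only [Ideal.mem_span_singleton]
    rw [← map_dvd_iff (MvPolynomial.finSuccEquiv R 1)]
    have hex : (∃ n : ℕ, X 0 ^ 2 * (1 + C a₁ * X 1 - X 0 * X 1 ^ 3 - C a₂ * X 1 ^ 2) ∣ X 0 ^ n * s) ↔
        (∃ n : ℕ, MvPolynomial.finSuccEquiv R 1 (X 0 ^ 2 * (1 + C a₁ * X 1 - X 0 * X 1 ^ 3 - C a₂ * X 1 ^ 2)) ∣
          MvPolynomial.finSuccEquiv R 1 (X 0 ^ n * s)) :=
      exists_congr fun n => (map_dvd_iff (MvPolynomial.finSuccEquiv R 1)).symm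
    rw [hex]
    simp only [map_mul, map_pow, MvPolynomial.finSuccEquiv_X_zero]
    apply key_poly_iff
    intro t ht
    apply reg_c R a₁ a₂ t
    rw [← ht]
    congr 1
    simp only [map_sub, map_add, map_mul, map_pow, map_one, hX1, hC, MvPolynomial.finSuccEquiv_X_zero]
    simp only [← Polynomial.C_pow, ← Polynomial.C_mul, Polynomial.coeff_sub, Polynomial.coeff_add, Polynomial.coeff_C_zero, Polynomial.coeff_one_zero, Polynomial.coeff_X_mul_zero, Polynomial.coeff_X_zero, sub_zero]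
  · simp only [Ideal.mem_span_singleton]
    rw [← map_dvd_iff (MvPolynomial.finSuccEquiv R 1)]
    have hex : (∃ n : ℕ, X 0 ^ 2 * (X 1 ^ 2 + C a₁ * X 1 - X 0 - C a₂) ∣ X 0 ^ n * s) ↔
        (∃ n : ℕ, MvPolynomial.finSuccEquiv R 1 (X 0 ^ 2 * (X 1 ^ 2 + C a₁ * X 1 - X 0 - C a₂)) ∣
          MvPolynomial.finSuccEquiv R 1 (X 0 ^ n * s)) :=
      exists_congr fun n => (map_dvd_iff (MvPolynomial.finSuccEquiv R 1)).symm
    rw [hex]
    simp only [map_mul, map_pow, MvPolynomial.finSuccEquiv_X_zero]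
    apply key_poly_iff
    intro t ht
    apply reg_q R a₁ a₂ t
    rw [← ht]
    congr 1
    simp only [map_sub, map_add, map_mul, map_pow, map_one, hX1, hC, MvPolynomial.finSuccEquiv_X_zero]
    simp only [← Polynomial.C_pow, ← Polynomial.C_mul, Polynomial.coeff_sub, Polynomial.coeff_add, Polynomial.coeff_C_zero, Polynomial.coeff_one_zero, Polynomial.coeff_X_mul_zero, Polynomial.coeff_X_zero, sub_zero]

end Groth.Agent.S19181
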