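import Groth.Statements.S19182
import Mathlib

set_option autoImplicit false
universe u
open CAlg

namespace Groth.Agent.S19182

open MvPolynomial in
theorem smooth_quot_of_pderiv_unit (R : Type u) [CommRing R] (g : MvPolynomial (Fin 2) R)
    (h : IsUnit (Ideal.Quotient.mk (Ideal.span ({g} : Set (MvPolynomial (Fin 2) R))) (pderiv 0 g))) :
    Algebra.Smooth R (MvPolynomial (Fin 2) R ⧸ Ideal.span ({g} : Set (MvPolynomial (Fin 2) R))) := by
  let v : Unit → MvPolynomial (Fin 2) R := fun _ => g
  have hv : ({g} : Set (MvPolynomial (Fin 2) R)) = Set.range v := Set.range_const.symm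
  rw [hv] at h ⊢
  let P : Algebra.PreSubmersivePresentation R
      (MvPolynomial (Fin 2) R ⧸ Ideal.span (Set.range v)) (Fin 2) Unit :=
    Algebra.PreSubmersivePresentation.naive (R := R) (v := v) (fun _ : Unit => (0 : Fin 2))
    (fun _ _ _ => rfl)
  have hj : IsUnit P.jacobian := by
    rw [P.jacobian_eq_jacobiMatrix_det, Matrix.det_unique]
    have : P.jacobiMatrix default default = pderiv 0 g :=
      Algebra.PreSubmersivePresentation.jacobiMatrix_naive _ _ _ _ _ _
    rw [this]
    convert h using 1
    rfl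
  let Q : Algebra.SubmersivePresentation R _ (Fin 2) Unit := { P with jacobian_isUnit := hj }
  have := Q.isStandardSmooth
  infer_instance

open MvPolynomial in
/-- Let R be a commutative ring and a₁, a₂ ∈ R. The two affine charts of the blow-up of the plane curve
y² + a₁xy = x³ + a₂x² at the section x = y = 0, with coordinate rings R[y, α]/(1 + a₁α − yα³ − a₂α²)
and R[x, β]/(β² + a₁β − x − a₂) (variables indexed 0 and 1 in this order), are smooth R-algebras
(formally smooth of finite presentation). This is the local computation behind the statement that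
the blow-up of a Weierstrass curve along a section through its singular locus is a smooth proper
curve of genus 0. -/
theorem result (R : Type u) [CommRing R] (a₁ a₂ : R) :
    Algebra.Smooth R (MvPolynomial (Fin 2) R ⧸
      Ideal.span ({1 + C a₁ * X 1 - X 0 * X 1 ^ 3 - C a₂ * X 1 ^ 2} : Set (MvPolynomial (Fin 2) R))) ∧
    Algebra.Smooth R (MvPolynomial (Fin 2) R ⧸
      Ideal.span ({X 1 ^ 2 + C a₁ * X 1 - X 0 - C a₂} : Set (MvPolynomial (Fin 2) R))) := by
  constructor
  · apply smooth_quot_of_pderiv_unit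
    have hp : pderiv (0 : Fin 2) (1 + C a₁ * X 1 - X 0 * X 1 ^ 3 - C a₂ * X 1 ^ 2 : MvPolynomial (Fin 2) R)
        = - X 1 ^ 3 := by
      simp [Derivation.leibniz, Derivation.leibniz_pow]
    rw [hp]
    set I := Ideal.span ({1 + C a₁ * X 1 - X 0 * X 1 ^ 3 - C a₂ * X 1 ^ 2} : Set (MvPolynomial (Fin 2) R)) with hI
    have hα : IsUnit (Ideal.Quotient.mk I (X 1)) := by
      refine IsUnit.of_mul_eq_one (Ideal.Quotient.mk I (X 0 * X 1 ^ 2 - C a₁ + C a₂ * X 1)) ?_
      rw [← map_mul, ← map_one (Ideal.Quotient.mk I), ← sub_eq_zero, ← map_sub,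
        Ideal.Quotient.eq_zero_iff_mem, hI, Ideal.mem_span_singleton]
      refine ⟨-1, ?_⟩
      ring
    rw [map_neg, map_pow]
    exact (hα.pow 3).neg
  · apply smooth_quot_of_pderiv_unit
    have hp : pderiv (0 : Fin 2) (X 1 ^ 2 + C a₁ * X 1 - X 0 - C a₂ : MvPolynomial (Fin 2) R)
        = - 1 := by
      simp [Derivation.leibniz, Derivation.leibniz_pow]
    rw [hp, map_neg, map_one]
    exact (isUnit_one (M := MvPolynomial (Fin 2) R ⧸ Ideal.span ({X 1 ^ 2 + C a₁ * X 1 - X 0 - C a₂} : Set (MvPolynomial (Fin 2) R)))).neg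

end Groth.Agent.S19182
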