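import Groth.Statements.S19183
import Mathlib.LinearAlgebra.Dimension.Constructions
import Mathlib.LinearAlgebra.Dimension.Free
import Mathlib.LinearAlgebra.FreeModule.Finite.Basic
import Mathlib.LinearAlgebra.Matrix.Nonsingular
import Mathlib.RingTheory.FiniteType
import Mathlib.Tactic.Ring

set_option autoImplicit false
universe u
open CAlg

namespace Groth.Agent.S19183

variable (A : Type u) [CommRing A]

/-- the parametrisation `(y, t) ↦ (y + t f, y)` of the fibre product. -/
def param (f : A) : (A × A) →ₗ[A]
    (Submodule.comap (LinearMap.fst A A A - LinearMap.snd A A A) (Ideal.span ({f} : Set A))) where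
  toFun yt := ⟨(yt.1 + yt.2 * f, yt.1), by
    rw [Submodule.mem_comap]
    show (yt.1 + yt.2 * f) - yt.1 ∈ Ideal.span ({f} : Set A)
    rw [add_sub_cancel_left]
    exact Ideal.mul_mem_left _ _ (Ideal.subset_span rfl)⟩
  map_add' a b := by
    apply Subtype.ext
    show ((a.1 + b.1) + (a.2 + b.2) * f, a.1 + b.1) = ((a.1 + a.2 * f) + (b.1 + b.2 * f), a.1 + b.1)
    congr 1
    ring
  map_smul' r a := by
    apply Subtype.ext
    show (r * a.1 + (r * a.2) * f, r * a.1) = (r * (a.1 + a.2 * f), r * a.1)
    congr 1
    ring

theorem param_bijective (f : A) (hf : f ∈ nonZeroDivisors A) : Function.Bijective (param A f) := by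
  constructor
  · intro a b hab
    have h := congrArg Subtype.val hab
    have h1 : a.1 + a.2 * f = b.1 + b.2 * f := congrArg Prod.fst h
    have h2 : a.1 = b.1 := congrArg Prod.snd h
    rw [h2] at h1
    have h3 : a.2 * f = b.2 * f := add_left_cancel h1
    have h4 : a.2 = b.2 := by
      have := (mul_right_mem_nonZeroDivisors_eq_zero_iff hf).mp (by rw [sub_mul, h3, sub_self] : (a.2 - b.2) * f = 0)
      exact sub_eq_zero.mp this
    exact Prod.ext h2 h4
  · rintro ⟨⟨x, y⟩, hxy⟩
    rw [Submodule.mem_comap] at hxy
    have hxy' : x - y ∈ Ideal.span ({f} : Set A) := hxy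
    obtain ⟨t, ht⟩ := Ideal.mem_span_singleton'.mp hxy'
    refine ⟨(y, t), ?_⟩
    apply Subtype.ext
    show (y + t * f, y) = (x, y)
    rw [ht]
    congr 1
    ring

/-- Let A be a non-zero commutative ring and f ∈ A a non-zero-divisor. The fibre product A ×_{A/(f)} A
of two copies of A over A/(f) — the A-submodule of A × A of pairs (x, y) with x − y ∈ (f), which is
the coordinate ring of two copies of Spec A glued along the Cartier divisor f = 0 — is a free
A-module of rank 2. (This is what makes the gluing of two copies of a curve along an effective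
Cartier divisor finite locally free of degree 2 over the curve.) -/
theorem result (A : Type u) [CommRing A] [Nontrivial A]
    (f : A) (hf : f ∈ nonZeroDivisors A) :
    Module.Free A (Submodule.comap (LinearMap.fst A A A - LinearMap.snd A A A) (Ideal.span ({f} : Set A))) ∧
      Module.finrank A (Submodule.comap (LinearMap.fst A A A - LinearMap.snd A A A) (Ideal.span ({f} : Set A))) = 2 := by
  have e := LinearEquiv.ofBijective (param A f) (param_bijective A f hf)
  refine ⟨Module.Free.of_equiv e, ?_⟩
  rw [← LinearEquiv.finrank_eq e, Module.finrank_prod, Module.finrank_self]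

end Groth.Agent.S19183
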