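import Groth.Statements.S19184
import Mathlib

set_option autoImplicit false
universe u
open CAlg

namespace Groth.Agent.S19184


open Polynomial

section Helpers

variable (S : Type u) [CommRing S] (a b : S)

theorem f_monic : (X ^ 2 + C a * X + C b : S[X]).Monic := by
  rw [add_assoc]
  apply Polynomial.monic_X_pow_add
  calc (C a * X + C b : S[X]).degree ≤ 1 := by
        apply (Polynomial.degree_add_le _ _).trans
        apply max_le
        · exact (Polynomial.degree_C_mul_X_le a)
        · exact (Polynomial.degree_C_le).trans (by norm_num)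
    _ < ((2 : ℕ) : WithBot ℕ) := by norm_num

theorem f_natDegree [Nontrivial S] : (X ^ 2 + C a * X + C b : S[X]).natDegree = 2 := by
  rw [add_assoc, Polynomial.natDegree_add_eq_left_of_degree_lt, natDegree_X_pow]
  rw [degree_X_pow]
  calc (C a * X + C b : S[X]).degree ≤ 1 := by
        apply (Polynomial.degree_add_le _ _).trans
        apply max_le
        · exact (Polynomial.degree_C_mul_X_le a)
        · exact (Polynomial.degree_C_le).trans (by norm_num)
    _ < ((2 : ℕ) : WithBot ℕ) := by norm_num

end Helpers

open Polynomial in
/-- Let S be a commutative ring, a, b ∈ S, f = x² + ax + b ∈ S[x] and R = S[x]/(f), a free S-algebra of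
rank 2. Let A ⊂ S[x] be the S-subalgebra of polynomials whose class in R lies in the image of S → R;
it is the fibre product S[x] ×_R S, the coordinate ring of the affine line over S with the degree-2
subscheme Spec R collapsed onto Spec S. Then A is a free S-module and S[x] is a finitely generated
A-module. -/
theorem result (S : Type u) [CommRing S] (a b : S) :
    Module.Free S ((⊥ : Subalgebra S (S[X] ⧸ Ideal.span ({X ^ 2 + C a * X + C b} : Set S[X]))).comap
        (Ideal.Quotient.mkₐ S (Ideal.span ({X ^ 2 + C a * X + C b} : Set S[X])))) ∧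
      Module.Finite ((⊥ : Subalgebra S (S[X] ⧸ Ideal.span ({X ^ 2 + C a * X + C b} : Set S[X]))).comap
        (Ideal.Quotient.mkₐ S (Ideal.span ({X ^ 2 + C a * X + C b} : Set S[X])))) S[X] := by
  classical
  set f : S[X] := X ^ 2 + C a * X + C b with hf
  set I : Ideal S[X] := Ideal.span ({f} : Set S[X]) with hI
  set A := (⊥ : Subalgebra S (S[X] ⧸ I)).comap (Ideal.Quotient.mkₐ S I) with hA
  have hfm : f.Monic := f_monic S a b
  have hmemA : ∀ p : S[X], p ∈ A ↔ ∃ (c : S) (q : S[X]), p = C c + q * f := by
    intro p
    rw [hA, Subalgebra.mem_comap, Algebra.mem_bot]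
    constructor
    · rintro ⟨c, hc⟩
      have h1 : Ideal.Quotient.mk I (p - C c) = 0 := by
        rw [map_sub, sub_eq_zero]
        exact hc.symm
      rw [Ideal.Quotient.eq_zero_iff_mem, hI, Ideal.mem_span_singleton] at h1
      obtain ⟨q, hq⟩ := h1
      exact ⟨c, q, by rw [mul_comm, ← hq]; ring⟩
    · rintro ⟨c, q, rfl⟩
      refine ⟨c, ?_⟩
      show _ = Ideal.Quotient.mk I (C c + q * f)
      rw [map_add, map_mul]
      have : Ideal.Quotient.mk I f = 0 :=
        Ideal.Quotient.eq_zero_iff_mem.mpr (Ideal.subset_span rfl)
      rw [this, mul_zero, add_zero]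
      rfl
  constructor
  · -- freeness
    let Φ : (S × S[X]) →ₗ[S] A :=
      { toFun := fun x => ⟨C x.1 + x.2 * f, (hmemA _).mpr ⟨x.1, x.2, rfl⟩⟩
        map_add' := by
          intro x y
          apply Subtype.ext
          simp only [Prod.fst_add, Prod.snd_add, map_add]
          show _ = (C x.1 + x.2 * f) + (C y.1 + y.2 * f)
          ring
        map_smul' := by
          intro r x
          apply Subtype.ext
          simp only [Prod.smul_fst, Prod.smul_snd, smul_eq_mul, RingHom.id_apply]
          show _ = r • (C x.1 + x.2 * f)
          rw [smul_add, map_mul, ← smul_eq_C_mul, smul_mul_assoc] }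
    have hΦinj : Function.Injective Φ := by
      rw [← LinearMap.ker_eq_bot, LinearMap.ker_eq_bot']
      rintro ⟨c, q⟩ h
      have h0 : C c + q * f = 0 := congrArg Subtype.val h
      have hq : q = 0 := by
        by_contra hq
        haveI : Nontrivial S := by
          by_contra hS
          rw [not_nontrivial_iff_subsingleton] at hS
          exact hq (Subsingleton.elim _ _)
        have h1 : (q * f).natDegree = q.natDegree + 2 := by
          rw [mul_comm, hfm.natDegree_mul' hq, f_natDegree S a b, add_comm]
        have h2 : q * f = C (-c) := by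
          rw [map_neg]; exact eq_neg_of_add_eq_zero_right h0
        rw [h2, natDegree_C] at h1
        omega
      rw [hq, zero_mul, add_zero] at h0
      have hc : c = 0 := by
        apply Polynomial.C_injective
        rw [h0, map_zero]
      rw [hq, hc]; rfl
    have hΦsurj : Function.Surjective Φ := by
      rintro ⟨p, hp⟩
      obtain ⟨c, q, rfl⟩ := (hmemA p).mp hp
      exact ⟨(c, q), rfl⟩
    exact Module.Free.of_equiv (LinearEquiv.ofBijective Φ ⟨hΦinj, hΦsurj⟩)
  · -- finiteness
    rcases subsingleton_or_nontrivial S with hS | hS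
    · haveI : Subsingleton S[X] := inferInstance
      exact Module.Finite.of_surjective (0 : A →ₗ[A] S[X])
        (fun y => ⟨0, Subsingleton.elim _ _⟩)
    · refine ⟨⟨{1, X}, ?_⟩⟩
      rw [eq_top_iff]
      intro p _
      have hdiv := Polynomial.modByMonic_add_div p f
      have hdeg : (p %ₘ f).natDegree ≤ 1 := by
        have hne : f ≠ 1 := by
          intro h
          have := f_natDegree S a b
          rw [← hf, h, natDegree_one] at this
          omega
        have := Polynomial.natDegree_modByMonic_lt p hfm hne
        have h2 : f.natDegree = 2 := f_natDegree S a b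
        rw [h2] at this
        omega
      have hrem := Polynomial.eq_X_add_C_of_natDegree_le_one hdeg
      set r₁ := (p %ₘ f).coeff 1
      set r₀ := (p %ₘ f).coeff 0
      have hp : p = (⟨C r₀ + (p /ₘ f) * f, (hmemA _).mpr ⟨r₀, p /ₘ f, rfl⟩⟩ : A) • (1 : S[X]) +
          (⟨C r₁ + 0 * f, (hmemA _).mpr ⟨r₁, 0, rfl⟩⟩ : A) • (X : S[X]) := by
        show p = (C r₀ + (p /ₘ f) * f) * 1 + (C r₁ + 0 * f) * X
        rw [← hdiv] at *
        conv_lhs => rw [← hdiv, hrem]
        ring
      rw [hp]
      apply Submodule.add_mem
      · apply Submodule.smul_mem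
        apply Submodule.subset_span
        simp
      · apply Submodule.smul_mem
        apply Submodule.subset_span
        simp

end Groth.Agent.S19184
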