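import Groth.Statements.S19185
import Mathlib
import Groth.Agent.Lib.Helper96.LinearChart

set_option autoImplicit false
universe u
open Curves

namespace Groth.Agent.S19185

open Polynomial in
theorem natDegree_lt_of_coeff_eq_zero {k : Type*} [Field k] {F : k[X]} {m : ℕ} (hm : 1 ≤ m)
    (hF : F.natDegree ≤ m) (h0 : F.coeff m = 0) : F.natDegree < m := by
  rcases hF.lt_or_eq with h | h
  · exact h
  · exfalso
    rw [← h, Polynomial.coeff_natDegree, Polynomial.leadingCoeff_eq_zero] at h0
    rw [h0, Polynomial.natDegree_zero] at h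
    omega

open Polynomial in
/-- coprime + one leading coefficient nonzero ⇒ resultant with size parameters nonzero -/
theorem resultant_ne_zero_of_isCoprime {k : Type*} [Field k] (F G : k[X]) (m n : ℕ)
    (hF : F.natDegree ≤ m) (hG : G.natDegree ≤ n) (hlead : F.coeff m ≠ 0 ∨ G.coeff n ≠ 0)
    (hcop : IsCoprime F G) : Polynomial.resultant F G m n ≠ 0 := by
  have h0 : Polynomial.resultant F G ≠ 0 := Polynomial.resultant_ne_zero F G hcop
  rcases hlead with h | h
  · have hm : F.natDegree = m := by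
      refine le_antisymm hF ?_
      exact Polynomial.le_natDegree_of_ne_zero h
    obtain ⟨kk, rfl⟩ := Nat.exists_eq_add_of_le hG
    rw [Polynomial.resultant_add_right_deg _ _ _ _ _ le_rfl, ← hm]
    exact mul_ne_zero (pow_ne_zero _ (by rw [hm]; exact h)) h0
  · have hn : G.natDegree = n := by
      refine le_antisymm hG ?_
      exact Polynomial.le_natDegree_of_ne_zero h
    obtain ⟨kk, rfl⟩ := Nat.exists_eq_add_of_le hF
    rw [Polynomial.resultant_add_left_deg _ _ _ _ _ le_rfl, ← hn]
    refine mul_ne_zero (mul_ne_zero (pow_ne_zero _ (by norm_num)) (pow_ne_zero _ ?_)) h0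
    rw [hn]; exact h

open Polynomial in
theorem isCoprime_of_resultant_ne_zero {k : Type*} [Field k] (F G : k[X]) (m n : ℕ)
    (hF : F.natDegree ≤ m) (hG : G.natDegree ≤ n) (hmn : m ≠ 0 ∨ n ≠ 0)
    (hres : Polynomial.resultant F G m n ≠ 0) : IsCoprime F G := by
  obtain ⟨p, q, -, -, e⟩ := Polynomial.exists_mul_add_mul_eq_C_resultant F G hF hG hmn
  refine ⟨C (Polynomial.resultant F G m n)⁻¹ * p, C (Polynomial.resultant F G m n)⁻¹ * q, ?_⟩
  have : C (Polynomial.resultant F G m n)⁻¹ * C (Polynomial.resultant F G m n) = 1 := by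
    rw [← C_mul, inv_mul_cancel₀ hres, C_1]
  rw [← this, ← e]; ring

open Polynomial in
theorem natDegree_le_pred_of_degree_lt {k : Type*} [Field k] {p : k[X]} {n : ℕ}
    (h : p.degree < n) : p.natDegree ≤ n - 1 := by
  by_cases hp : p = 0
  · simp [hp]
  · have := (Polynomial.natDegree_lt_iff_degree_lt hp).mpr h
    omega

open Polynomial in
theorem isCoprime_reflect_of_resultant_ne_zero {k : Type*} [Field k] (F G : k[X]) (m n : ℕ)
    (hF : F.natDegree ≤ m) (hG : G.natDegree ≤ n) (hm : 1 ≤ m) (hn : 1 ≤ n)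
    (hres : Polynomial.resultant F G m n ≠ 0) : IsCoprime (reflect m F) (reflect n G) := by
  obtain ⟨p, q, hp, hq, e⟩ := Polynomial.exists_mul_add_mul_eq_C_resultant F G hF hG
    (Or.inl (by omega))
  set r := Polynomial.resultant F G m n with hr
  have hp' := natDegree_le_pred_of_degree_lt hp
  have hq' := natDegree_le_pred_of_degree_lt hq
  have e' := congrArg (reflect (m + (n - 1))) e
  rw [reflect_add, reflect_mul F p hF hp', show m + (n - 1) = n + (m - 1) by omega,
    reflect_mul G q hG hq', reflect_C] at e'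
  set N' := n + (m - 1)
  have hlead : F.coeff m ≠ 0 ∨ G.coeff n ≠ 0 := by
    by_contra hcon
    push_neg at hcon
    exact hres (Polynomial.resultant_eq_zero_of_lt_lt _ _ _ _
      (natDegree_lt_of_coeff_eq_zero hm hF hcon.1) (natDegree_lt_of_coeff_eq_zero hn hG hcon.2))
  have hrr : C r⁻¹ * C r = 1 := by rw [← C_mul, inv_mul_cancel₀ hres, C_1]
  rcases hlead with h | h
  · have hX : IsCoprime (X : k[X]) (reflect m F) := by
      rw [Irreducible.coprime_iff_not_dvd Polynomial.irreducible_X, Polynomial.X_dvd_iff,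
        coeff_reflect, revAt_zero]
      exact h
    obtain ⟨u, v, huv⟩ := hX.pow_left (m := N')
    refine ⟨v + u * C r⁻¹ * reflect (n - 1) p, u * C r⁻¹ * reflect (m - 1) q, ?_⟩
    have : u * C r⁻¹ * (C r * X ^ N') = u * X ^ N' := by
      rw [mul_assoc, ← mul_assoc (C r⁻¹), hrr, one_mul]
    rw [← huv, ← this, ← e']; ring
  · have hX : IsCoprime (X : k[X]) (reflect n G) := by
      rw [Irreducible.coprime_iff_not_dvd Polynomial.irreducible_X, Polynomial.X_dvd_iff,
        coeff_reflect, revAt_zero]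
      exact h
    obtain ⟨u, v, huv⟩ := hX.pow_left (m := N')
    refine ⟨u * C r⁻¹ * reflect (n - 1) p, v + u * C r⁻¹ * reflect (m - 1) q, ?_⟩
    have : u * C r⁻¹ * (C r * X ^ N') = u * X ^ N' := by
      rw [mul_assoc, ← mul_assoc (C r⁻¹), hrr, one_mul]
    rw [← huv, ← this, ← e']; ring

section polys
open Polynomial
variable {k : Type*} [Field k]

/-- the polynomial with coefficient vector `v` -/
noncomputable def poly (N : ℕ) (v : Fin (N + 1) → k) : k[X] := ∑ j : Fin (N + 1), C (v j) * X ^ (j : ℕ)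

/-- the reversed polynomial -/
noncomputable def polyR (N : ℕ) (v : Fin (N + 1) → k) : k[X] :=
  ∑ j : Fin (N + 1), C (v j) * X ^ (N - (j : ℕ))

theorem coeff_poly (N : ℕ) (v : Fin (N + 1) → k) (j : Fin (N + 1)) : (poly N v).coeff j = v j := by
  unfold poly
  rw [Polynomial.finset_sum_coeff, Finset.sum_eq_single j]
  · simp
  · intro i _ hij
    rw [Polynomial.coeff_C_mul_X_pow, if_neg]
    exact fun h => hij (Fin.ext h.symm)
  · intro h; exact absurd (Finset.mem_univ j) h

theorem natDegree_poly_le (N : ℕ) (v : Fin (N + 1) → k) : (poly N v).natDegree ≤ N := by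
  unfold poly
  refine Polynomial.natDegree_sum_le_of_forall_le _ _ fun j _ => ?_
  exact (Polynomial.natDegree_C_mul_X_pow_le _ _).trans (Nat.lt_succ_iff.mp j.2)

theorem poly_ne_zero (N : ℕ) (v : Fin (N + 1) → k) (hv : v ≠ 0) : poly N v ≠ 0 := by
  intro h
  apply hv
  funext j
  rw [← coeff_poly N v j, h]; simp

theorem polyR_eq_reflect (N : ℕ) (v : Fin (N + 1) → k) : polyR N v = reflect N (poly N v) := by
  unfold polyR poly
  have : ∀ s : Finset (Fin (N + 1)), reflect N (∑ j ∈ s, C (v j) * X ^ (j : ℕ)) =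
      ∑ j ∈ s, C (v j) * X ^ (N - (j : ℕ)) := by
    intro s
    induction s using Finset.induction_on with
    | empty => simp
    | insert a s ha ih =>
      rw [Finset.sum_insert ha, Finset.sum_insert ha, reflect_add, ih, reflect_C_mul_X_pow,
        revAt_le (Nat.lt_succ_iff.mp a.2)]
  exact (this _).symm

end polys

/-- Let k be a field, n ≥ 3, q a binary quadratic form and ξ a binary form of degree n over k, given by
coefficient vectors (q_i the coefficient of x^i y^(2−i), ξ_j that of x^j y^(n−j)), not both zero.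
The pair (q, ξ) is a global section of O(2) ⊕ O(n) on P¹_k, i.e. of the line bundle of class e + nf
on the Hirzebruch surface F_{n−2} = P(O ⊕ O(n−2)) → P¹_k, and cuts out the curve W : q·u + ξ·v = 0
there ([u : v] the fibre coordinates). Over the two standard opens of P¹ (t = x/y, s = y/x) and the
two opens u ≠ 0, v ≠ 0 of the fibres, W is covered by four affine charts with coordinate rings k[t,
w]/(q(t,1) + ξ(t,1)·w), k[t, w]/(q(t,1)·w + ξ(t,1)), k[s, w]/(q(1,s) + ξ(1,s)·w) and k[s,
w]/(q(1,s)·w + ξ(1,s)) (variables indexed 0 for t or s and 1 for w). Then W is smooth over k — all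
four chart algebras are smooth k-algebras — if and only if the resultant of q and ξ (the Sylvester
determinant of the two coefficient vectors with size parameters 2 and n) is nonzero. (The published
statement is over a general base scheme B, for a section (q, ξ) vanishing on no fibre, with 'the
resultant is a unit on B' in place of 'nonzero'; its proof reduces at once to the statement over a
field given here, which is the case B = Spec k.) -/
theorem result (k : Type u) [Field k] (n : ℕ) (hn : 3 ≤ n)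
    (q : Fin 3 → k) (ξ : Fin (n + 1) → k) (hqξ : q ≠ 0 ∨ ξ ≠ 0) :
    (Algebra.Smooth k (MvPolynomial (Fin 2) k ⧸ Ideal.span ({(∑ i : Fin 3, MvPolynomial.C (q i) * MvPolynomial.X 0 ^ (i : ℕ)) + (∑ j : Fin (n + 1), MvPolynomial.C (ξ j) * MvPolynomial.X 0 ^ (j : ℕ)) * MvPolynomial.X 1} : Set (MvPolynomial (Fin 2) k))) ∧
      Algebra.Smooth k (MvPolynomial (Fin 2) k ⧸ Ideal.span ({(∑ i : Fin 3, MvPolynomial.C (q i) * MvPolynomial.X 0 ^ (i : ℕ)) * MvPolynomial.X 1 + (∑ j : Fin (n + 1), MvPolynomial.C (ξ j) * MvPolynomial.X 0 ^ (j : ℕ))} : Set (MvPolynomial (Fin 2) k))) ∧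
      Algebra.Smooth k (MvPolynomial (Fin 2) k ⧸ Ideal.span ({(∑ i : Fin 3, MvPolynomial.C (q i) * MvPolynomial.X 0 ^ (2 - (i : ℕ))) + (∑ j : Fin (n + 1), MvPolynomial.C (ξ j) * MvPolynomial.X 0 ^ (n - (j : ℕ))) * MvPolynomial.X 1} : Set (MvPolynomial (Fin 2) k))) ∧
      Algebra.Smooth k (MvPolynomial (Fin 2) k ⧸ Ideal.span ({(∑ i : Fin 3, MvPolynomial.C (q i) * MvPolynomial.X 0 ^ (2 - (i : ℕ))) * MvPolynomial.X 1 + (∑ j : Fin (n + 1), MvPolynomial.C (ξ j) * MvPolynomial.X 0 ^ (n - (j : ℕ)))} : Set (MvPolynomial (Fin 2) k)))) ↔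
    Polynomial.resultant (∑ i : Fin 3, Polynomial.C (q i) * Polynomial.X ^ (i : ℕ))
      (∑ j : Fin (n + 1), Polynomial.C (ξ j) * Polynomial.X ^ (j : ℕ)) 2 n ≠ 0 := by
  classical
  have hQ : (∑ i : Fin 3, MvPolynomial.C (q i) * MvPolynomial.X 0 ^ (i : ℕ) :
      MvPolynomial (Fin 2) k) = Groth.Agent.Lib.Helper96.polyToMv k (poly 2 q) := by
    simp [poly, Groth.Agent.Lib.Helper96.polyToMv, map_sum, MvPolynomial.algebraMap_eq]
  have hΞ : (∑ j : Fin (n + 1), MvPolynomial.C (ξ j) * MvPolynomial.X 0 ^ (j : ℕ) :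
      MvPolynomial (Fin 2) k) = Groth.Agent.Lib.Helper96.polyToMv k (poly n ξ) := by
    simp [poly, Groth.Agent.Lib.Helper96.polyToMv, map_sum, MvPolynomial.algebraMap_eq]
  have hQr : (∑ i : Fin 3, MvPolynomial.C (q i) * MvPolynomial.X 0 ^ (2 - (i : ℕ)) :
      MvPolynomial (Fin 2) k) = Groth.Agent.Lib.Helper96.polyToMv k (polyR 2 q) := by
    simp [polyR, Groth.Agent.Lib.Helper96.polyToMv, map_sum, MvPolynomial.algebraMap_eq]
  have hΞr : (∑ j : Fin (n + 1), MvPolynomial.C (ξ j) * MvPolynomial.X 0 ^ (n - (j : ℕ)) :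
      MvPolynomial (Fin 2) k) = Groth.Agent.Lib.Helper96.polyToMv k (polyR n ξ) := by
    simp [polyR, Groth.Agent.Lib.Helper96.polyToMv, map_sum, MvPolynomial.algebraMap_eq]
  have hQp : (∑ i : Fin 3, Polynomial.C (q i) * Polynomial.X ^ (i : ℕ)) = poly 2 q := rfl
  have hΞp : (∑ j : Fin (n + 1), Polynomial.C (ξ j) * Polynomial.X ^ (j : ℕ)) = poly n ξ := rfl
  rw [hQ, hΞ, hQr, hΞr, hQp, hΞp]
  have hQdeg := natDegree_poly_le 2 q
  have hΞdeg := natDegree_poly_le n ξ
  have hne : poly 2 q ≠ 0 ∨ poly n ξ ≠ 0 := hqξ.imp (poly_ne_zero 2 q) (poly_ne_zero n ξ)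
  have hner : polyR 2 q ≠ 0 ∨ polyR n ξ ≠ 0 := by
    rw [polyR_eq_reflect, polyR_eq_reflect]
    refine hne.imp (fun h => ?_) (fun h => ?_)
    · rwa [Ne, Polynomial.reflect_eq_zero_iff]
    · rwa [Ne, Polynomial.reflect_eq_zero_iff]
  have hc2 : (poly 2 q).coeff 2 = q 2 := coeff_poly 2 q 2
  have hcn : (poly n ξ).coeff n = ξ (Fin.last n) := coeff_poly n ξ (Fin.last n)
  constructor
  · rintro ⟨s1, s2, s3, s4⟩
    by_cases hlead : q 2 = 0 ∧ ξ (Fin.last n) = 0
    · exfalso
      refine Groth.Agent.Lib.Helper96.not_smooth_charts (polyR 2 q) (polyR n ξ) hner ?_ ⟨s3, s4⟩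
      intro hcop
      have h1 : (Polynomial.X : Polynomial k) ∣ polyR 2 q := by
        rw [polyR_eq_reflect, Polynomial.X_dvd_iff, Polynomial.coeff_reflect, Polynomial.revAt_zero,
          hc2]
        exact hlead.1
      have h2 : (Polynomial.X : Polynomial k) ∣ polyR n ξ := by
        rw [polyR_eq_reflect, Polynomial.X_dvd_iff, Polynomial.coeff_reflect, Polynomial.revAt_zero,
          hcn]
        exact hlead.2
      exact Polynomial.not_isUnit_X (hcop.isUnit_of_dvd' h1 h2)
    · intro hres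
      refine Groth.Agent.Lib.Helper96.not_smooth_charts (poly 2 q) (poly n ξ) hne ?_ ⟨s1, s2⟩
      intro hcop
      refine resultant_ne_zero_of_isCoprime (poly 2 q) (poly n ξ) 2 n hQdeg hΞdeg ?_ hcop hres
      rw [hc2, hcn]
      by_contra hcon
      push_neg at hcon
      exact hlead hcon
  · intro hres
    have hcop : IsCoprime (poly 2 q) (poly n ξ) :=
      isCoprime_of_resultant_ne_zero _ _ 2 n hQdeg hΞdeg (Or.inl (by norm_num)) hres
    have hcopr : IsCoprime (polyR 2 q) (polyR n ξ) := by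
      rw [polyR_eq_reflect, polyR_eq_reflect]
      exact isCoprime_reflect_of_resultant_ne_zero _ _ 2 n hQdeg hΞdeg (by norm_num) (by omega) hres
    exact ⟨Groth.Agent.Lib.Helper96.smooth_chart_add _ _ hcop,
      Groth.Agent.Lib.Helper96.smooth_chart_mul _ _ hcop,
      Groth.Agent.Lib.Helper96.smooth_chart_add _ _ hcopr,
      Groth.Agent.Lib.Helper96.smooth_chart_mul _ _ hcopr⟩

end Groth.Agent.S19185
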