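import Groth.Statements.S19186
import Mathlib.Tactic.Module
import Mathlib.Tactic.LinearCombination
import Mathlib.RingTheory.Coprime.Lemmas
import Mathlib.RingTheory.Int.Basic

set_option autoImplicit false
universe u
open OneMot

namespace Groth.Agent.S19186

/-- Let p and ℓ be distinct prime numbers, r and n natural numbers, and f : A → B a homomorphism of
abelian groups whose kernel and cokernel are annihilated by p^r (f a = 0 implies p^r • a = 0, and
every p^r • b lies in the image of f). Then f induces a bijection between the ℓ^n-torsion subgroups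
of A and B and a bijection A/ℓ^n A → B/ℓ^n B. Spelled out without quotients: every ℓ^n-torsion
element of B has exactly one ℓ^n-torsion preimage; an element of A whose image is an ℓ^n-multiple is
itself an ℓ^n-multiple; and every element of B is the sum of an image and an ℓ^n-multiple. -/
theorem result {A B : Type u} [AddCommGroup A] [AddCommGroup B] (f : A →+ B) (p ℓ r n : ℕ) (hp : p.Prime) (hl : ℓ.Prime) (hne : ℓ ≠ p) (hker : ∀ a : A, f a = 0 → p ^ r • a = 0) (hcoker : ∀ b : B, ∃ a : A, f a = p ^ r • b) : (∀ b : B, ℓ ^ n • b = 0 → ∃! a : A, ℓ ^ n • a = 0 ∧ f a = b) ∧ (∀ a : A, (∃ b' : B, f a = ℓ ^ n • b') → ∃ a' : A, a = ℓ ^ n • a') ∧ (∀ b : B, ∃ (a : A) (b' : B), b = f a + ℓ ^ n • b') := by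
  have hcop : Nat.Coprime (p ^ r) (ℓ ^ n) :=
    Nat.Coprime.pow r n ((Nat.coprime_primes hp hl).mpr hne.symm)
  have hcop2 : Nat.Coprime (p ^ r * p ^ r) (ℓ ^ n) := Nat.Coprime.mul_left hcop hcop
  obtain ⟨u, w, huw⟩ := Nat.isCoprime_iff_coprime.mpr hcop2
  obtain ⟨u', w', huw'⟩ := Nat.isCoprime_iff_coprime.mpr hcop
  -- integer versions of the hypotheses
  have hkerZ : ∀ a : A, f a = 0 → ((p ^ r : ℕ) : ℤ) • a = 0 := by
    intro a ha
    rw [natCast_zsmul]
    exact hker a ha
  have hcokerZ : ∀ b : B, ∃ a : A, f a = ((p ^ r : ℕ) : ℤ) • b := by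
    intro b
    obtain ⟨a, ha⟩ := hcoker b
    exact ⟨a, by rw [natCast_zsmul]; exact ha⟩
  generalize hP : ((p ^ r : ℕ) : ℤ) = P at *
  have hPP : ((p ^ r * p ^ r : ℕ) : ℤ) = P * P := by rw [Nat.cast_mul, hP]
  rw [hPP] at huw
  simp only [← natCast_zsmul]
  generalize hL : ((ℓ ^ n : ℕ) : ℤ) = L at *
  refine ⟨?_, ?_, ?_⟩
  · intro b hb
    obtain ⟨a0, ha0⟩ := hcokerZ b
    have h1 : f (L • a0) = 0 := by
      rw [map_zsmul, ha0]
      linear_combination (norm := module) P • hb
    have h2 := hkerZ _ h1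
    refine ⟨u • P • a0, ⟨?_, ?_⟩, ?_⟩
    · linear_combination (norm := module) u • h2
    · rw [map_zsmul, map_zsmul, ha0]
      linear_combination (norm := module) huw • b - w • hb
    · rintro a' ⟨ha'1, ha'2⟩
      have h3 : f (a' - u • P • a0) = 0 := by
        rw [map_sub, map_zsmul, map_zsmul, ha0, ha'2]
        linear_combination (norm := module) w • hb - huw • b
      have h4 := hkerZ _ h3
      have h5 : L • (a' - u • P • a0) = 0 := by
        linear_combination (norm := module) ha'1 - u • h2
      have h6 : a' - u • P • a0 = 0 := by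
        linear_combination (norm := module) u' • h4 + w' • h5 - huw' • (a' - u • P • a0)
      exact sub_eq_zero.mp h6
  · rintro a ⟨b', hb'⟩
    obtain ⟨a0, ha0⟩ := hcokerZ b'
    have h1 : f (P • a - L • a0) = 0 := by
      rw [map_sub, map_zsmul, map_zsmul, ha0, hb']
      module
    have h2 := hkerZ _ h1
    refine ⟨u • P • a0 + w • a, ?_⟩
    linear_combination (norm := module) u • h2 - huw • a
  · intro b
    obtain ⟨a0, ha0⟩ := hcokerZ b
    refine ⟨u' • a0, w' • b, ?_⟩
    rw [map_zsmul, ha0]
    linear_combination (norm := module) - huw' • b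

end Groth.Agent.S19186
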