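import Groth.Statements.S19187
import Mathlib

set_option autoImplicit false
universe u
open Cpct

namespace Groth.Agent.S19187

open CategoryTheory AlgebraicGeometry in
/-- Let k be a field, X̄ and Ȳ schemes proper over Spec k, j : X → X̄ an open immersion with dense image
and v : Y → Ȳ an open immersion (compactifications of X and Y), f : X → Y a proper morphism and f̄ :
X̄ → Ȳ a morphism over Spec k with f̄ ∘ j = v ∘ f. Then the preimage under f̄ of the open v(Y) is
the open j(X); equivalently, the complement of X in X̄ is the preimage of the complement of Y in Ȳ.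
(The base field k is arbitrary: no perfectness assumption is needed.) -/
theorem result {k : Type u} [Field k] {X Y Xb Yb : Scheme.{u}} (a : Xb ⟶ Spec (CommRingCat.of k)) (b : Yb ⟶ Spec (CommRingCat.of k)) [IsProper a] [IsProper b] (j : X ⟶ Xb) [IsOpenImmersion j] (hj : Dense (Set.range j.base)) (v : Y ⟶ Yb) [IsOpenImmersion v] (f : X ⟶ Y) [IsProper f] (fb : Xb ⟶ Yb) (hfb : fb ≫ b = a) (hsq : j ≫ fb = f ≫ v) : fb ⁻¹ᵁ v.opensRange = j.opensRange := by
  haveI : IsSeparated (fb ≫ b) := by rw [hfb]; infer_instance
  haveI : IsSeparated fb := IsSeparated.of_comp fb b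
  let g : X ⟶ Limits.pullback fb v := Limits.pullback.lift j f hsq
  have hg1 : g ≫ Limits.pullback.fst fb v = j := Limits.pullback.lift_fst _ _ _
  have hg2 : g ≫ Limits.pullback.snd fb v = f := Limits.pullback.lift_snd _ _ _
  haveI : IsProper (g ≫ Limits.pullback.snd fb v) := by rw [hg2]; infer_instance
  haveI : IsProper g := IsProper.of_comp g (Limits.pullback.snd fb v)
  have hclosed : IsClosed (Set.range g.base) := g.isClosedMap.isClosed_range
  have hfst_inj : Function.Injective (Limits.pullback.fst fb v).base :=
    (Limits.pullback.fst fb v).isOpenEmbedding.injective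
  have hdense : Dense (Set.range g.base) := by
    rw [dense_iff_inter_open]
    intro O hO hOne
    have hO' : IsOpen ((Limits.pullback.fst fb v).base '' O) :=
      (Limits.pullback.fst fb v).isOpenEmbedding.isOpenMap O hO
    have hne' : ((Limits.pullback.fst fb v).base '' O).Nonempty := hOne.image _
    obtain ⟨y, hyO, x, hx⟩ := (dense_iff_inter_open.mp hj) _ hO' hne'
    obtain ⟨o, ho, hoy⟩ := hyO
    refine ⟨o, ho, x, ?_⟩
    apply hfst_inj
    rw [hoy, ← hx, ← Scheme.Hom.comp_apply, hg1]
  have huniv : Set.range g.base = Set.univ := by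
    rw [← hclosed.closure_eq]; exact hdense.closure_eq
  ext x
  constructor
  · intro hx
    have hx' : fb.base x ∈ Set.range v.base := hx
    have h1 : x ∈ Set.range (Limits.pullback.fst fb v).base := by
      rw [Scheme.Pullback.range_fst]; exact hx'
    obtain ⟨p, rfl⟩ := h1
    have hp : p ∈ Set.range g.base := by rw [huniv]; trivial
    obtain ⟨x', rfl⟩ := hp
    refine ⟨x', ?_⟩
    rw [← Scheme.Hom.comp_apply, hg1]
  · rintro ⟨x', rfl⟩
    show fb.base (j.base x') ∈ Set.range v.base
    refine ⟨f.base x', ?_⟩
    rw [← Scheme.Hom.comp_apply, ← Scheme.Hom.comp_apply, hsq]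

end Groth.Agent.S19187
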