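import Groth.Statements.S19191
import Mathlib.CategoryTheory.Localization.CalculusOfFractions
import Mathlib.Algebra.Module.Torsion.Basic
import Mathlib.CategoryTheory.ObjectProperty.Shift

set_option autoImplicit false
universe w v u v' u'
open CategoryTheory CategoryTheory.Limits CategoryTheory.Pretriangulated CategoryTheory.Triangulated
open CohDer

namespace Groth.Agent.S19191

/-- Let `A` be a commutative ring, `T` an `A`-linear triangulated category (octahedron axiom included;
shift functors `A`-linear), `U` a thick subcategory of `T` (a property of objects containing zero,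
stable under shifts, extensions, isomorphisms and direct factors), and `Q : T ⥤ E` a localization of
`T` at the morphisms whose cone lies in `U` (the Verdier quotient `T/U`), where `E` is preadditive
and `A`-linear and `Q` is `A`-linear. For an object `X` of `T` the following two conditions are
equivalent: (i) `X` lies in `U`; (ii) for every maximal ideal `m` of `A` the image of `X` in the
category obtained from `T/U` by tensoring the morphism modules with `A_m` is zero, i.e. some element
of `A` outside `m` annihilates the identity of `Q X`. (The published statement also lists a third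
equivalent condition, phrased with idempotent completions of the localized categories; it is not
asserted here.) -/
theorem result
    {A : Type w} [CommRing A]
    {T : Type u} [Category.{v} T] [Preadditive T] [Linear A T] [HasZeroObject T] [HasShift T ℤ]
    [∀ n : ℤ, (shiftFunctor T n).Additive] [∀ n : ℤ, (shiftFunctor T n).Linear A]
    [Pretriangulated T] [IsTriangulated T]
    (U : ObjectProperty T) [U.IsTriangulated] [U.IsClosedUnderIsomorphisms] [U.IsStableUnderRetracts]
    {E : Type u'} [Category.{v'} E] [Preadditive E] [Linear A E]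
    (Q : T ⥤ E) [Q.Additive] [Q.Linear A] [Q.IsLocalization U.trW] (X : T) :
    U X ↔ ∀ m : Ideal A, m.IsMaximal → ∃ s : A, s ∉ m ∧ s • 𝟙 (Q.obj X) = 0 := by
  constructor
  · intro hX m hm
    refine ⟨1, (Ideal.ne_top_iff_one m).mp hm.ne_top, ?_⟩
    rw [one_smul]
    have h1 : Q.map (𝟙 X) = Q.map (0 : X ⟶ X) := by
      rw [MorphismProperty.map_eq_iff_postcomp Q U.trW]
      refine ⟨_, (contractibleTriangle X).mor₂,
        ObjectProperty.trW.mk' (P := U) (contractible_distinguished X) hX, ?_⟩
      show 𝟙 X ≫ (0 : X ⟶ _) = 0 ≫ (0 : X ⟶ _)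
      rw [comp_zero, comp_zero]
    rw [CategoryTheory.Functor.map_id, CategoryTheory.Functor.map_zero] at h1
    exact h1
  · intro h
    have htop : Ideal.torsionOf A (Q.obj X ⟶ Q.obj X) (𝟙 (Q.obj X)) = ⊤ := by
      by_contra hne
      obtain ⟨m, hm, hle⟩ := Ideal.exists_le_maximal _ hne
      obtain ⟨s, hsm, hs⟩ := h m hm
      exact hsm (hle ((Ideal.mem_torsionOf_iff _ _).mpr hs))
    have h1 : (1 : A) • 𝟙 (Q.obj X) = 0 := by
      rw [← Ideal.mem_torsionOf_iff, htop]
      exact Submodule.mem_top
    rw [one_smul] at h1
    have h2 : Q.map (𝟙 X) = Q.map (0 : X ⟶ X) := by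
      rw [CategoryTheory.Functor.map_id, CategoryTheory.Functor.map_zero, h1]
    rw [MorphismProperty.map_eq_iff_postcomp Q U.trW] at h2
    obtain ⟨Z, s, hs, hs0⟩ := h2
    rw [Category.id_comp, zero_comp] at hs0
    subst hs0
    obtain ⟨C, g, hh, hT, hC⟩ := hs
    obtain ⟨s', hs'⟩ := Triangle.coyoneda_exact₃ _ (rot_of_distTriang _ hT) (𝟙 (X⟦(1 : ℤ)⟧))
      (by show 𝟙 _ ≫ (-(shiftFunctor T (1 : ℤ)).map (0 : X ⟶ Z)) = 0; rw [CategoryTheory.Functor.map_zero, neg_zero, comp_zero])
    have hr : Retract (X⟦(1 : ℤ)⟧) C := ⟨s', hh, hs'.symm⟩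
    have hX1 : U (X⟦(1 : ℤ)⟧) := ObjectProperty.prop_of_retract U hr hC
    exact (U.prop_shift_iff_of_isStableUnderShift X (1 : ℤ)).mp hX1

end Groth.Agent.S19191
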