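import Groth.Statements.S19193
import Mathlib

set_option autoImplicit false
universe u
open CategoryTheory Opposite TopologicalSpace
open CohTop

namespace Groth.Agent.S19193


open W4c6blochformula0cyc

section Helpers

variable {X : Type u} [TopologicalSpace X]

theorem res_res (F : (Opens X)ᵒᵖ ⥤ AddCommGrpCat.{u}) {V W W' : Opens X} (h₁ : W ≤ V) (h₂ : W' ≤ W)
    (x : F.obj (op V)) : res F h₂ (res F h₁ x) = res F (h₂.trans h₁) x := by
  have : F.map (homOfLE (h₂.trans h₁)).op = F.map (homOfLE h₁).op ≫ F.map (homOfLE h₂).op := by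
    rw [← F.map_comp]; rfl
  show (F.map (homOfLE h₂).op).hom ((F.map (homOfLE h₁).op).hom x) =
    (F.map (homOfLE (h₂.trans h₁)).op).hom x
  rw [this]; rfl

theorem res_self (F : (Opens X)ᵒᵖ ⥤ AddCommGrpCat.{u}) {V : Opens X} (h : V ≤ V) (x : F.obj (op V)) :
    res F h x = x := by
  have : F.map (homOfLE h).op = 𝟙 _ := by
    rw [← F.map_id]; rfl
  show (F.map (homOfLE h).op).hom x = x
  rw [this]; rfl

theorem cochain_congr (F : (Opens X)ᵒᵖ ⥤ AddCommGrpCat.{u}) {ι : Type u} (U : ι → Opens X) {n : ℕ}
    (f : Cochain F U n) {t₁ t₂ : Fin n → ι} (h : t₁ = t₂) {W : Opens X}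
    (h₁ : W ≤ cechOpen U t₁) (h₂ : W ≤ cechOpen U t₂) :
    res F h₁ (f t₁) = res F h₂ (f t₂) := by
  subst h; rfl

theorem E_congr (F : (Opens X)ᵒᵖ ⥤ AddCommGrpCat.{u}) {ι : Type u} (U : ι → Opens X)
    (E : ∀ (V : Opens X) (α : ι), F.obj (op (V ⊓ U α)) →+ F.obj (op V)) (α : ι)
    {V₁ V₂ : Opens X} (h : V₁ = V₂) (g : F.obj (op (V₁ ⊓ U α))) {W : Opens X}
    (h₁ : W ≤ V₁) (h₂ : W ≤ V₂) (h₃ : V₂ ⊓ U α ≤ V₁ ⊓ U α) :
    res F h₁ (E V₁ α g) = res F h₂ (E V₂ α (res F h₃ g)) := by
  subst h
  rw [res_self]

theorem cechOpen_eq {ι : Type u} (U : ι → Opens X) {n : ℕ} (t : Fin (n + 1) → ι) (i : Fin (n + 1)) :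
    cechOpen U (t ∘ i.succAbove) ⊓ U (t i) = cechOpen U t := by
  apply le_antisymm
  · refine le_iInf fun j => ?_
    rcases Fin.eq_self_or_eq_succAbove i j with rfl | ⟨j', rfl⟩
    · exact inf_le_right
    · exact inf_le_left.trans (iInf_le (fun j'' => U ((t ∘ i.succAbove) j'')) j')
  · exact le_inf (cechOpen_le_comp U t i) (iInf_le (fun j => U (t j)) i)

end Helpers

open W4c6blochformula0cyc in
/-- Let `F` be a presheaf of abelian groups on a topological space `X`, `U` a family of opens of `X`
indexed by a finite type, and suppose given, for every open `V` and every index `α`, an additive map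
`E V α : F(V ∩ U_α) → F(V)` such that for every nonempty tuple of indices `t`, with `V = U_{t_0} ∩ ⋯
∩ U_{t_m}`: (i) `∑_α E V α (f|_{V ∩ U_α}) = f` for all `f ∈ F(V)`, and (ii) `(E V α g)|_{V ∩ U_β} =
E (V ∩ U_β) α (g|_{V ∩ U_β ∩ U_α})` for all indices `α, β` and all `g ∈ F(V ∩ U_α)`. Then the
operator `H` on ordered Čech cochains, `(H f)_t = ∑_α E (U_t) α (f_{(α, t)})`, satisfies `H (δ f) +
δ (H f) = f` for every Čech cochain `f` on tuples of length at least `2`, i.e. in every Čech degree
`≥ 1`. (The published statement takes a flasque sheaf on an open cover and extension maps attached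
to pairs of finite intersections; this row takes any presheaf, any finite family of opens, and maps
that may depend on the index, none of which the printed argument needs. The published statement also
asserts the identity in every degree of the Čech complex without augmentation term, and allows an
infinite index set with finitely supported sums; in Čech degree `0`, where that complex has no term
below and the identity reads `H (δ f) = f`, it fails in general — for the one-member cover of a
point and the constant presheaf `ℤ` with `E` the identity, `δ f` vanishes on the pair while `f` need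
not — so it is stated here from degree `1` on, i.e. for cochains on tuples of length at least `2`
(the whole-space term on the empty tuple carried by the cochain groups used here plays no role), and
for a finite index type.) -/
theorem result {X : Type u} [TopologicalSpace X]
    {ι : Type u} [Fintype ι] (F : (Opens X)ᵒᵖ ⥤ AddCommGrpCat.{u}) (U : ι → Opens X)
    (E : ∀ (V : Opens X) (α : ι), F.obj (op (V ⊓ U α)) →+ F.obj (op V))
    (h2 : ∀ (m : ℕ) (t : Fin (m + 1) → ι) (f : F.obj (op (cechOpen U t))),
      ∑ α, E (cechOpen U t) α (res F inf_le_left f) = f)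
    (h3 : ∀ (m : ℕ) (t : Fin (m + 1) → ι) (α β : ι) (g : F.obj (op (cechOpen U t ⊓ U α))),
      res F inf_le_left (E (cechOpen U t) α g) =
        E (cechOpen U t ⊓ U β) α (res F (inf_le_inf_right (U α) inf_le_left) g))
    (n : ℕ) (f : Cochain F U (n + 2)) :
    homotopy F U E (n + 2) (delta F U (n + 2) f) + delta F U (n + 1) (homotopy F U E (n + 1) f) = f := by
  funext t
  -- abbreviations
  have hδi : ∀ (i : Fin (n + 2)) (α : ι),
      (Fin.cons α t : Fin (n + 3) → ι) ∘ i.succ.succAbove = Fin.cons α (t ∘ i.succAbove) := by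
    intro i α
    rw [Fin.cons_comp_succ_succAbove]; rfl
  have hδ0 : ∀ α : ι, (Fin.cons α t : Fin (n + 3) → ι) ∘ (0 : Fin (n + 3)).succAbove = t := by
    intro α
    rw [Fin.succAbove_zero, Fin.cons_comp_succ]
  -- the common term
  let T : ι → Fin (n + 2) → F.obj (op (cechOpen U t)) := fun α i =>
    E (cechOpen U t) α (res F
      (le_trans (inf_le_inf_right (U α) (cechOpen_le_comp U t i))
        (inf_le_cechOpen_cons U (t ∘ i.succAbove) α))
      (f (Fin.cons α (t ∘ i.succAbove))))
  -- first part
  have h1 : homotopy F U E (n + 2) (delta F U (n + 2) f) t =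
      f t - ∑ α, ∑ i : Fin (n + 2), ((-1 : ℤ) ^ (i : ℕ)) • T α i := by
    show ∑ α : ι, E (cechOpen U t) α (res F (inf_le_cechOpen_cons U t α)
      (∑ j : Fin (n + 3), ((-1 : ℤ) ^ (j : ℕ)) •
        res F (cechOpen_le_comp U (Fin.cons α t) j) (f ((Fin.cons α t) ∘ j.succAbove)))) = _
    have hα : ∀ α : ι, E (cechOpen U t) α (res F (inf_le_cechOpen_cons U t α)
        (∑ j : Fin (n + 3), ((-1 : ℤ) ^ (j : ℕ)) •
          res F (cechOpen_le_comp U (Fin.cons α t) j) (f ((Fin.cons α t) ∘ j.succAbove)))) =
        E (cechOpen U t) α (res F inf_le_left (f t)) -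
          ∑ i : Fin (n + 2), ((-1 : ℤ) ^ (i : ℕ)) • T α i := by
      intro α
      rw [Fin.sum_univ_succ, map_add, map_add, map_sum, map_sum]
      have e0 : res F (inf_le_cechOpen_cons U t α) (((-1 : ℤ) ^ ((0 : Fin (n + 3)) : ℕ)) •
          res F (cechOpen_le_comp U (Fin.cons α t) 0) (f ((Fin.cons α t) ∘ (0 : Fin (n + 3)).succAbove))) =
          res F inf_le_left (f t) := by
        simp only [Fin.val_zero, pow_zero, one_smul]
        rw [res_res]
        exact cochain_congr F U f (hδ0 α) _ _
      rw [e0, sub_eq_add_neg, ← Finset.sum_neg_distrib]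
      congr 1
      apply Finset.sum_congr rfl
      intro i _
      rw [map_zsmul, map_zsmul, res_res, Fin.val_succ, pow_succ, mul_neg_one, neg_smul]
      congr 2
      show E (cechOpen U t) α _ = E (cechOpen U t) α _
      congr 1
      exact cochain_congr F U f (hδi i α) _ _
    rw [Finset.sum_congr rfl (fun α _ => hα α), Finset.sum_sub_distrib, h2 (n + 1) t (f t)]
  -- second part
  have h2' : delta F U (n + 1) (homotopy F U E (n + 1) f) t =
      ∑ α, ∑ i : Fin (n + 2), ((-1 : ℤ) ^ (i : ℕ)) • T α i := by
    show ∑ i : Fin (n + 2), ((-1 : ℤ) ^ (i : ℕ)) • res F (cechOpen_le_comp U t i)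
      (∑ α : ι, E (cechOpen U (t ∘ i.succAbove)) α
        (res F (inf_le_cechOpen_cons U (t ∘ i.succAbove) α) (f (Fin.cons α (t ∘ i.succAbove))))) = _
    rw [Finset.sum_comm]
    apply Finset.sum_congr rfl
    intro i _
    rw [map_sum, Finset.smul_sum]
    apply Finset.sum_congr rfl
    intro α _
    congr 1
    -- the compatibility
    set g := res F (inf_le_cechOpen_cons U (t ∘ i.succAbove) α) (f (Fin.cons α (t ∘ i.succAbove)))
      with hg
    have hle : cechOpen U t ≤ cechOpen U (t ∘ i.succAbove) ⊓ U (t i) := (cechOpen_eq U t i).ge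
    have e1 : res F (cechOpen_le_comp U t i) (E (cechOpen U (t ∘ i.succAbove)) α g) =
        res F hle (res F inf_le_left (E (cechOpen U (t ∘ i.succAbove)) α g)) := by
      rw [res_res]
    rw [e1, h3 n (t ∘ i.succAbove) α (t i) g]
    rw [E_congr F U E α (cechOpen_eq U t i) _ hle le_rfl
      (inf_le_inf_right (U α) hle), res_self, res_res, hg, res_res]
  rw [Pi.add_apply, h1, h2']
  abel

end Groth.Agent.S19193
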