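import Groth.Statements.S19195
import Groth.Agent.Lib.Helper54.RegFibre6

set_option autoImplicit false
universe u
open TensorProduct
open RelS1

namespace Groth.Agent.S19195

open Groth.Agent.Lib.Helper54 in
/-- On a fibre: an element avoiding the minimal primes of the annihilator of a module all of whose
associated primes are minimal is regular on the module (written on `M ⊗[A] K`). -/
theorem fibre_regular (A B M : Type u) [CommRing A] [CommRing B] [Algebra A B]
    [Algebra.FinitePresentation A B] [AddCommGroup M] [Module B M] [Module A M]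
    [IsScalarTower A B M] (K : Type u) [Field K] [Algebra A K]
    (hS1 : associatedPrimes (B ⊗[A] K) ((B ⊗[A] K) ⊗[B] M) ⊆
        (Module.annihilator (B ⊗[A] K) ((B ⊗[A] K) ⊗[B] M)).minimalPrimes)
    (a : B)
    (ha : ∀ P ∈ (Module.annihilator (B ⊗[A] K) ((B ⊗[A] K) ⊗[B] M)).minimalPrimes,
        a ⊗ₜ[A] (1 : K) ∉ P) (z : M ⊗[A] K) (hz : a • z = 0) : z = 0 := by
  letI : Algebra K (B ⊗[A] K) := Algebra.TensorProduct.rightAlgebra
  have hft : Algebra.FiniteType K (B ⊗[A] K) := FlatOpenB.finiteType_right A B K
  have hnoeth : IsNoetherianRing (B ⊗[A] K) := Algebra.FiniteType.isNoetherianRing K (B ⊗[A] K)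
  have hreg : IsSMulRegular ((B ⊗[A] K) ⊗[B] M) (a ⊗ₜ[A] (1 : K)) := by
    by_contra hn
    have hmem : a ⊗ₜ[A] (1 : K) ∈
        ({r : B ⊗[A] K | IsSMulRegular ((B ⊗[A] K) ⊗[B] M) r}ᶜ : Set (B ⊗[A] K)) := hn
    rw [← biUnion_associatedPrimes_eq_compl_regular (B ⊗[A] K) ((B ⊗[A] K) ⊗[B] M)] at hmem
    simp only [Set.mem_iUnion] at hmem
    obtain ⟨P, hP, haP⟩ := hmem
    exact ha P (hS1 hP) haP
  let e : (B ⊗[A] K) ⊗[B] M ≃ₗ[B] M ⊗[A] K :=
    TensorProduct.comm B (B ⊗[A] K) M ≪≫ₗ AlgebraTensorModule.cancelBaseChange A B B M K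
  have h2 : (a ⊗ₜ[A] (1 : K)) • e.symm z = a • e.symm z := by
    rw [← algebraMap_smul (B ⊗[A] K) a (e.symm z), Algebra.TensorProduct.algebraMap_apply]
    rfl
  have h1 : (a ⊗ₜ[A] (1 : K)) • e.symm z = 0 := by
    rw [h2, ← map_smul, hz, map_zero]
  have h3 := hreg.right_eq_zero_of_smul h1
  exact (LinearEquiv.map_eq_zero_iff e.symm).1 h3

/-- Let A be a commutative ring, B a finitely presented A-algebra and M a finitely presented B-module
which is flat over A. Suppose that for every prime p of A, with residue field κ(p), the fibre module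
(B ⊗_A κ(p)) ⊗_B M over the fibre ring B ⊗_A κ(p) satisfies Serre's condition (S_1) in the form:
each of its associated primes is a minimal prime of its annihilator. Let a be an element of B whose
image a ⊗ 1 in every fibre ring B ⊗_A κ(p) lies in no minimal prime of the annihilator of the fibre
module. Then a is a non-zero-divisor on M. (Since all hypotheses are preserved by base change of A
and by passing to affine opens, this expresses that a flat finitely presented sheaf with (S_1)
fibres is pure relative to the base after every base change. The published statement is an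
equivalence for sheaves on a locally finitely presented morphism, quantified over all base changes;
this row states its direct implication in affine form.) -/
theorem result (A B M : Type u) [CommRing A] [CommRing B] [Algebra A B]
    [Algebra.FinitePresentation A B] [AddCommGroup M] [Module B M] [Module A M]
    [IsScalarTower A B M] [Module.FinitePresentation B M] [Module.Flat A M]
    (hS1 : ∀ (p : Ideal A) [p.IsPrime],
      associatedPrimes (B ⊗[A] p.ResidueField) ((B ⊗[A] p.ResidueField) ⊗[B] M) ⊆
        (Module.annihilator (B ⊗[A] p.ResidueField) ((B ⊗[A] p.ResidueField) ⊗[B] M)).minimalPrimes)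
    (a : B)
    (ha : ∀ (p : Ideal A) [p.IsPrime],
      ∀ P ∈ (Module.annihilator (B ⊗[A] p.ResidueField) ((B ⊗[A] p.ResidueField) ⊗[B] M)).minimalPrimes,
        a ⊗ₜ[A] (1 : p.ResidueField) ∉ P) :
    IsSMulRegular M a := by
  rw [isSMulRegular_iff_right_eq_zero_of_smul]
  intro m hm
  by_contra hne
  let I : Ideal B := LinearMap.ker (LinearMap.toSpanSingleton B M m)
  have hI : I ≠ ⊤ := by
    intro h
    have h1 : (1 : B) ∈ I := by rw [h]; exact Submodule.mem_top
    rw [LinearMap.mem_ker, LinearMap.toSpanSingleton_apply, one_smul] at h1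
    exact hne h1
  obtain ⟨q, hqmax, hIq⟩ := Ideal.exists_le_maximal I hI
  have hqp : q.IsPrime := hqmax.isPrime
  have hflat : Module.Flat A (LocalizedModule q.primeCompl M) :=
    Groth.Agent.Lib.Helper54.FlatOpenA.flat_of_isLocalizedModule B q.primeCompl
      (LocalizedModule.mkLinearMap q.primeCompl M)
  have hK : ∀ x : A, algebraMap A (q.comap (algebraMap A B)).ResidueField x = 0 ↔
      algebraMap A B x ∈ q := fun x => by
    rw [Ideal.algebraMap_residueField_eq_zero, Ideal.mem_comap]
  have hfib : ∀ z : M ⊗[A] (q.comap (algebraMap A B)).ResidueField, a • z = 0 →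
      ∃ w, w ∉ q ∧ w • z = 0 := by
    intro z hz
    refine ⟨1, fun h1 => hqmax.ne_top ((Ideal.eq_top_iff_one q).2 h1), ?_⟩
    rw [one_smul]
    exact fibre_regular A B M (q.comap (algebraMap A B)).ResidueField
      (hS1 (q.comap (algebraMap A B))) a (ha (q.comap (algebraMap A B))) z hz
  obtain ⟨c1, -⟩ := Groth.Agent.Lib.Helper54.RegFibre5.core M q a
    (q.comap (algebraMap A B)).ResidueField hK hflat hfib
  obtain ⟨w, hw, hwm⟩ := c1 m hm
  refine hw (hIq ?_)
  show w ∈ LinearMap.ker (LinearMap.toSpanSingleton B M m)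
  rw [LinearMap.mem_ker, LinearMap.toSpanSingleton_apply]
  exact hwm

end Groth.Agent.S19195
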