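import Groth.Statements.S19196
import Mathlib.RingTheory.Ideal.MinimalPrime.Noetherian
import Mathlib.RingTheory.Ideal.Operations

set_option autoImplicit false
universe u
open RelS1

namespace Groth.Agent.S19196

/-- Let R be a Noetherian commutative ring and N a finitely generated R-module which fails Serre's
condition (S_1), in the sense that some associated prime of N is not a minimal prime of the
annihilator of N. Then there exist an element a of R lying in no minimal prime of the annihilator of
N and a nonzero element b of N with a • b = 0; thus the basic open set D(a) meets the support of N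
densely while restriction to it is not injective on N. -/
theorem result (R N : Type u) [CommRing R] [IsNoetherianRing R]
    [AddCommGroup N] [Module R N] [Module.Finite R N]
    (h : ¬ associatedPrimes R N ⊆ (Module.annihilator R N).minimalPrimes) :
    ∃ (a : R) (b : N), (∀ P ∈ (Module.annihilator R N).minimalPrimes, a ∉ P) ∧ b ≠ 0 ∧ a • b = 0 := by
  rw [Set.not_subset] at h
  obtain ⟨P, hPass, hPmin⟩ := h
  obtain ⟨hPprime, b, hPb⟩ := (isAssociatedPrime_iff).mp hPass
  have hannP : Module.annihilator R N ≤ P := by
    have := hPass.annihilator_le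
    rwa [Submodule.annihilator_top] at this
  have hfin := Ideal.finite_minimalPrimes_of_isNoetherianRing R (Module.annihilator R N)
  have hnot : ∀ Q ∈ (Module.annihilator R N).minimalPrimes, ¬ P ≤ Q := by
    intro Q hQ hPQ
    have hQP : Q ≤ P := hQ.2 ⟨hPprime, hannP⟩ hPQ
    have hEq : P = Q := le_antisymm hPQ hQP
    exact hPmin (hEq ▸ hQ)
  have hav : ¬ ((P : Set R) ⊆ ⋃ Q ∈ (hfin.toFinset : Set (Ideal R)), ((id Q : Ideal R) : Set R)) := by
    rw [Ideal.subset_union_prime (s := hfin.toFinset) (f := id) P P]
    · rintro ⟨Q, hQ, hPQ⟩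
      exact hnot Q (hfin.mem_toFinset.mp hQ) hPQ
    · intro Q hQ _ _
      exact (hfin.mem_toFinset.mp hQ).1.1
  rw [Set.not_subset] at hav
  obtain ⟨a, haP, haU⟩ := hav
  refine ⟨a, b, ?_, ?_, ?_⟩
  · intro Q hQ haQ
    apply haU
    simp only [Set.mem_iUnion]
    exact ⟨Q, Finset.mem_coe.mpr (hfin.mem_toFinset.mpr hQ), haQ⟩
  · rintro rfl
    apply hPprime.ne_top
    rw [hPb, Ideal.eq_top_iff_one, Submodule.mem_colon_singleton]
    simp
  · have : a ∈ (⊥ : Submodule R N).colon {b} := hPb ▸ haP
    rw [Submodule.mem_colon_singleton] at this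
    exact (Submodule.mem_bot R).mp this

end Groth.Agent.S19196
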