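import Groth.Statements.S19202
import Mathlib
-- import your own Groth.Agent.* helpers here

set_option autoImplicit false
universe u
open CategoryTheory AlgebraicGeometry
open FlatMor

namespace Groth.Agent.S19202
open CategoryTheory AlgebraicGeometry Limits TopologicalSpace Topology Opposite


open scoped nonZeroDivisors

section
variable {R : Type u} [CommRing R]

/-- structure map `R → Γ(Y, U)` of a scheme over `Spec R`. -/
noncomputable def rho {Y : Scheme.{u}} (q : Y ⟶ Spec (CommRingCat.of R)) (U : Y.Opens) :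
    R →+* Γ(Y, U) :=
  (q.appLE ⊤ U le_top).hom.comp (Scheme.ΓSpecIso (CommRingCat.of R)).inv.hom

lemma rho_res {Y : Scheme.{u}} (q : Y ⟶ Spec (CommRingCat.of R)) (U V : Y.Opens) (h : V ≤ U)
    (r : R) : (Y.presheaf.map (homOfLE h).op).hom (rho q U r) = rho q V r := by
  simp only [rho, RingHom.comp_apply]
  rw [← CommRingCat.comp_apply, Scheme.Hom.appLE_map]

lemma rho_comp {X Y : Scheme.{u}} (f : X ⟶ Y) (q : Y ⟶ Spec (CommRingCat.of R)) (U : Y.Opens)
    (W : X.Opens) (h : W ≤ f ⁻¹ᵁ U) (r : R) :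
    (f.appLE U W h).hom (rho q U r) = rho (f ≫ q) W r := by
  simp only [rho, RingHom.comp_apply]
  rw [← CommRingCat.comp_apply, Scheme.Hom.appLE_comp_appLE]

variable [IsDomain R]

/-- the saturation of an ideal with respect to nonzero elements of `R`. -/
def sat {Y : Scheme.{u}} (q : Y ⟶ Spec (CommRingCat.of R)) (J : Y.IdealSheafData)
    (U : Y.affineOpens) : Ideal Γ(Y, U) where
  carrier := {b | ∃ r : R, r ≠ 0 ∧ rho q U r * b ∈ J.ideal U}
  add_mem' := by
    rintro a b ⟨r, hr, ha⟩ ⟨s, hs, hb⟩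
    refine ⟨r * s, mul_ne_zero hr hs, ?_⟩
    rw [map_mul, mul_add]
    have h1 : rho q U r * rho q U s * a = rho q U s * (rho q U r * a) := by ring
    have h2 : rho q U r * rho q U s * b = rho q U r * (rho q U s * b) := by ring
    rw [h1, h2]
    exact (J.ideal U).add_mem ((J.ideal U).mul_mem_left _ ha) ((J.ideal U).mul_mem_left _ hb)
  zero_mem' := ⟨1, one_ne_zero, by simp⟩
  smul_mem' := by
    rintro c b ⟨r, hr, hb⟩
    refine ⟨r, hr, ?_⟩
    rw [smul_eq_mul, mul_left_comm]
    exact (J.ideal U).mul_mem_left _ hb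

lemma mem_sat {Y : Scheme.{u}} (q : Y ⟶ Spec (CommRingCat.of R)) (J : Y.IdealSheafData)
    (U : Y.affineOpens) (b : Γ(Y, U)) :
    b ∈ sat q J U ↔ ∃ r : R, r ≠ 0 ∧ rho q U r * b ∈ J.ideal U := Iff.rfl

/-- the saturated ideal sheaf -/
def satSheaf {Y : Scheme.{u}} (q : Y ⟶ Spec (CommRingCat.of R)) (J : Y.IdealSheafData) :
    Y.IdealSheafData where
  ideal := sat q J
  map_ideal_basicOpen := by
    intro U s
    apply le_antisymm
    · rw [Ideal.map_le_iff_le_comap]
      rintro b ⟨r, hr, hb⟩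
      refine ⟨r, hr, ?_⟩
      have key : rho q (Y.basicOpen s) r * (Y.presheaf.map (homOfLE (Y.basicOpen_le s)).op).hom b ∈
          (J.ideal U).map (Y.presheaf.map (homOfLE (Y.basicOpen_le s)).op).hom := by
        rw [← rho_res q U.1 (Y.basicOpen s) (Y.basicOpen_le s) r, ← map_mul]
        exact Ideal.mem_map_of_mem _ hb
      rw [J.map_ideal_basicOpen U s] at key
      exact key
    · rintro c ⟨r, hr, hc⟩
      have := U.2.isLocalization_basicOpen s
      have hc1 : rho q (Y.basicOpen s) r * c ∈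
          (J.ideal U).map (algebraMap Γ(Y, U.1) Γ(Y, Y.basicOpen s)) := by
        have h0 := J.map_ideal_basicOpen U s
        rw [← h0] at hc
        exact hc
      show c ∈ Ideal.map (algebraMap Γ(Y, U.1) Γ(Y, Y.basicOpen s)) (sat q J U)
      obtain ⟨b, ⟨_, n, rfl⟩, rfl⟩ := IsLocalization.exists_mk'_eq (.powers s) c
      refine (IsLocalization.mk'_mem_map_algebraMap_iff (.powers s) _ _ _ _).mpr ?_
      have h1 : rho q (Y.basicOpen s) r =
          algebraMap Γ(Y, U.1) Γ(Y, Y.basicOpen s) (rho q U.1 r) :=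
        (rho_res q U.1 (Y.basicOpen s) (Y.basicOpen_le s) r).symm
      rw [h1, ← IsLocalization.mk'_one (M := .powers s) Γ(Y, Y.basicOpen s) (rho q U.1 r),
        ← IsLocalization.mk'_mul, one_mul] at hc1
      obtain ⟨_, ⟨m, rfl⟩, hm⟩ :=
        (IsLocalization.mk'_mem_map_algebraMap_iff (.powers s) _ _ _ _).mp hc1
      refine ⟨s ^ m, ⟨m, rfl⟩, r, hr, ?_⟩
      have h2 : rho q U.1 r * (s ^ m * b) = s ^ m * (rho q U.1 r * b) := by ring
      rw [h2]
      exact hm

end


/-- Let R be a Dedekind domain, X and Y schemes over Spec R with X flat over Spec R, and f : X → Y a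
morphism over Spec R. Then the scheme-theoretic image of f, i.e. the closed subscheme of Y cut out
by the kernel ideal sheaf of f, is flat over Spec R. (The published statement takes the base to be a
non-singular curve and f proper; this row takes the spectrum of any Dedekind domain and any morphism
f over it.) -/
theorem result (R : Type u) [CommRing R] [IsDedekindDomain R]
    {X Y : Scheme.{u}} (p : X ⟶ Spec (CommRingCat.of R)) (q : Y ⟶ Spec (CommRingCat.of R))
    (f : X ⟶ Y) (w : f ≫ q = p) [Flat p] : Flat (f.imageι ≫ q) := by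
  subst w
  let e₀ : Γ(Spec (CommRingCat.of R), ⊤) ≃+* R :=
    (Scheme.ΓSpecIso (CommRingCat.of R)).commRingCatIsoToRingEquiv
  haveI : IsDomain Γ(Spec (CommRingCat.of R), ⊤) := e₀.toMulEquiv.isDomain
  have hsat : satSheaf q f.ker ≤ f.ker := by
    rw [Scheme.Hom.ker, Scheme.IdealSheafData.le_ofIdeals_iff]
    intro U b hb
    obtain ⟨r, hr, hb⟩ := hb
    have hb' := f.ideal_ker_le U hb
    rw [RingHom.mem_ker] at hb' ⊢
    apply X.IsSheaf.section_ext
    intro x hx
    obtain ⟨W, hW, hxW, hWV⟩ := Opens.isBasis_iff_nbhd.mp X.isBasis_affineOpens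
      (show x ∈ f ⁻¹ᵁ U.1 from hx)
    refine ⟨W, hWV, hxW, ?_⟩
    rw [map_zero]
    have hflat : ((f ≫ q).appLE ⊤ W le_top).hom.Flat :=
      Scheme.Hom.flat_appLE (f ≫ q) (isAffineOpen_top _) hW le_top
    have hres : ∀ c : Γ(Y, U.1), X.presheaf.map (homOfLE hWV).op ((f.app U.1).hom c) =
        (f.appLE U.1 W hWV).hom c := by
      intro c
      simp [Scheme.Hom.appLE]
    have h1 : rho (f ≫ q) W r * (f.appLE U.1 W hWV).hom b = 0 := by
      rw [← rho_comp f q U.1 W hWV r, ← map_mul, ← hres, hb', map_zero]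
    rw [hres]
    algebraize [((f ≫ q).appLE ⊤ W le_top).hom]
    have hr' : (Scheme.ΓSpecIso (CommRingCat.of R)).inv.hom r ∈
        Γ(Spec (CommRingCat.of R), ⊤)⁰ := by
      apply mem_nonZeroDivisors_of_ne_zero
      intro h
      apply hr
      have h' := congrArg (Scheme.ΓSpecIso (CommRingCat.of R)).hom.hom h
      rw [← CommRingCat.comp_apply, Iso.inv_hom_id, map_zero] at h'
      exact h'
    have hreg : IsSMulRegular Γ(X, W) ((Scheme.ΓSpecIso (CommRingCat.of R)).inv.hom r) :=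
      Module.Flat.isSMulRegular_of_nonZeroDivisors hr'
    apply hreg
    show _ • _ = _ • (0 : Γ(X, W))
    rw [smul_zero, Algebra.smul_def]
    exact h1
  have heq : satSheaf q f.ker = f.ker :=
    le_antisymm hsat (fun U b hb => ⟨1, one_ne_zero, by simpa using hb⟩)
  rw [HasRingHomProperty.iff_of_iSup_eq_top (P := @Flat)
    (fun V : Y.affineOpens => (⟨f.imageι ⁻¹ᵁ V.1, V.2.preimage f.imageι⟩ : f.image.affineOpens))
    (by
      show ⨆ V : Y.affineOpens, f.imageι ⁻¹ᵁ V.1 = ⊤
      rw [← Scheme.Hom.preimage_iSup, iSup_affineOpens_eq_top]; rfl)]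
  intro V
  have hfl : (rho (f.imageι ≫ q) (f.imageι ⁻¹ᵁ V.1)).Flat := by
    algebraize [rho (f.imageι ≫ q) (f.imageι ⁻¹ᵁ V.1)]
    show Module.Flat R Γ(f.image, f.imageι ⁻¹ᵁ V.1)
    rw [IsDedekindDomain.flat_iff_torsion_eq_bot, eq_bot_iff]
    rintro c ⟨⟨r, hr⟩, hrc⟩
    rw [Submodule.mem_bot]
    obtain ⟨b, rfl⟩ := f.ker.subschemeι_app_surjective V c
    have h2 : r • (f.imageι.app V.1).hom b = 0 := hrc
    rw [Algebra.smul_def] at h2
    have h3 : algebraMap R Γ(f.image, f.imageι ⁻¹ᵁ V.1) r =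
        (f.imageι.app V.1).hom (rho q V.1 r) := by
      rw [RingHom.algebraMap_toAlgebra, ← rho_comp f.imageι q V.1 _ le_rfl r]
      simp [Scheme.Hom.app_eq_appLE]
    rw [h3, ← map_mul] at h2
    have h4 : rho q V.1 r * b ∈ f.ker.ideal V := by
      rw [← f.ker.ker_subschemeι_app V]; exact h2
    have h5 : b ∈ (satSheaf q f.ker).ideal V := ⟨r, nonZeroDivisors.ne_zero hr, h4⟩
    rw [heq, ← f.ker.ker_subschemeι_app V] at h5
    exact h5
  have h6 := RingHom.Flat.respectsIso.2 _ e₀ hfl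
  convert h6 using 1
  ext x
  have hx : (Scheme.ΓSpecIso (CommRingCat.of R)).inv.hom (e₀ x) = x := by
    show ((Scheme.ΓSpecIso (CommRingCat.of R)).hom ≫ (Scheme.ΓSpecIso (CommRingCat.of R)).inv).hom x = x
    rw [Iso.hom_inv_id]
    rfl
  show _ = rho (f.imageι ≫ q) (f.imageι ⁻¹ᵁ V.1) (e₀ x)
  simp only [rho, RingHom.comp_apply]
  rw [hx]

end Groth.Agent.S19202
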