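import Groth.Statements.S19208
import Groth.Agent.Lib.Helper87.SamuelExists

set_option autoImplicit false
universe u
open Filter
open LocAlg

namespace Groth.Agent.S19208

/-- Let O be a Noetherian local ring of Krull dimension r containing a field, with maximal ideal m. The
zeroth flat multiplicity e_0(O), the supremum over m-primary ideals I of e(I)/(r!·length(O/I)) with
e(I) the Samuel multiplicity, is at least 1: for every ε > 0 there is an m-primary ideal I (I ⊆ m,
m^N ⊆ I for some N) whose multiplicity e(I), the limit of r!·length(O/I^n)/n^r, satisfies e(I) ≥ (1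
− ε)·r!·length(O/I). (The same statement for the power-series rings O[[t_1, …, t_k]] is the bound
e_k(O) ≥ 1 for the k-th flat multiplicity.) -/
theorem result (O : Type u) [CommRing O] [IsNoetherianRing O]
    [IsLocalRing O] (K : Type u) [Field K] [Algebra K O] (r : ℕ) (hr : ringKrullDim O = r)
    (ε : ℝ) (hε : 0 < ε) :
    ∃ (I : Ideal O) (e : ℝ), I ≤ IsLocalRing.maximalIdeal O ∧
      (∃ N : ℕ, IsLocalRing.maximalIdeal O ^ N ≤ I) ∧
      Tendsto (fun n : ℕ => (r.factorial : ℝ) * ((Module.length O (O ⧸ I ^ n)).toNat : ℝ) / (n : ℝ) ^ r)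
        atTop (nhds e) ∧
      (1 - ε) * ((r.factorial : ℝ) * ((Module.length O (O ⧸ I)).toNat : ℝ)) ≤ e := by
  obtain ⟨e₀, he₀, hlim⟩ := Groth.Agent.Lib.Helper87.SamuelExists.exists_limit_pos O r hr
  set x : ℕ → ℝ := fun n => (r.factorial : ℝ) *
      ((Module.length O (O ⧸ IsLocalRing.maximalIdeal O ^ n)).toNat : ℝ) / (n : ℝ) ^ r with hx
  have h1 : Tendsto (fun n => (1 - ε) * x n) atTop (nhds ((1 - ε) * e₀)) := hlim.const_mul _
  have h2 : (1 - ε) * e₀ < e₀ := by nlinarith
  obtain ⟨k, hk1, hk⟩ := ((h1.eventually (gt_mem_nhds h2)).and (eventually_ge_atTop 1)).exists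
  have hkpos : (0 : ℝ) < (k : ℝ) ^ r := by positivity
  refine ⟨IsLocalRing.maximalIdeal O ^ k, (k : ℝ) ^ r * e₀, Ideal.pow_le_self (by omega),
    ⟨k, le_rfl⟩, ?_, ?_⟩
  · have hkn : Tendsto (fun n : ℕ => k * n) atTop atTop :=
      Filter.tendsto_atTop_mono (fun n => Nat.le_mul_of_pos_left n hk) tendsto_id
    have h3 := (hlim.comp hkn).const_mul ((k : ℝ) ^ r)
    refine h3.congr' ?_
    filter_upwards [eventually_ge_atTop 1] with n hn
    have hn0 : (n : ℝ) ≠ 0 := by
      have : (0 : ℝ) < n := by exact_mod_cast hn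
      exact this.ne'
    have hk0 : (k : ℝ) ≠ 0 := by
      have : (0 : ℝ) < k := by exact_mod_cast hk
      exact this.ne'
    have hpow : (IsLocalRing.maximalIdeal O ^ k) ^ n = IsLocalRing.maximalIdeal O ^ (k * n) :=
      (pow_mul _ k n).symm
    rw [hpow]
    simp only [Function.comp_apply, hx]
    push_cast
    field_simp
    ring
  · have h4 : (1 - ε) * x k < e₀ := hk1
    have h5 : x k * (k : ℝ) ^ r = (r.factorial : ℝ) *
        ((Module.length O (O ⧸ IsLocalRing.maximalIdeal O ^ k)).toNat : ℝ) := by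
      simp only [hx]
      field_simp
    rw [← h5]
    nlinarith

end Groth.Agent.S19208
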