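import Groth.Statements.S19210
import Mathlib
-- import your own Groth.Agent.* helpers here

set_option autoImplicit false
universe u
open LocAlg

namespace Groth.Agent.S19210

theorem K2 (y : ℝ) (hy : 0 ≤ y) (b : ℕ) :
    (y + 1) ^ (b + 1) - y ^ (b + 1) ≤ ((b : ℝ) + 1) * (y + 1) ^ b := by
  induction b with
  | zero => simp
  | succ b ih =>
    have h1 : y ^ (b + 1) ≤ (y + 1) ^ (b + 1) := pow_le_pow_left₀ hy (by linarith) _
    have h3 : (y + 1) * ((y + 1) ^ (b + 1) - y ^ (b + 1))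
        ≤ (y + 1) * (((b : ℝ) + 1) * (y + 1) ^ b) :=
      mul_le_mul_of_nonneg_left ih (by linarith)
    push_cast
    calc (y + 1) ^ (b + 1 + 1) - y ^ (b + 1 + 1)
        = (y + 1) * ((y + 1) ^ (b + 1) - y ^ (b + 1)) + y ^ (b + 1) := by ring
      _ ≤ (y + 1) * (((b : ℝ) + 1) * (y + 1) ^ b) + (y + 1) ^ (b + 1) := add_le_add h3 h1
      _ = ((b : ℝ) + 1 + 1) * (y + 1) ^ (b + 1) := by ring

theorem K1 (y : ℝ) (hy : 0 ≤ y) (b : ℕ) :
    ((b : ℝ) + 1) * y ^ b ≤ (y + 1) ^ (b + 1) - y ^ (b + 1) := by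
  induction b with
  | zero => simp
  | succ b ih =>
    have h3 : (y + 1) * (((b : ℝ) + 1) * y ^ b)
        ≤ (y + 1) * ((y + 1) ^ (b + 1) - y ^ (b + 1)) :=
      mul_le_mul_of_nonneg_left ih (by linarith)
    have h5 : 0 ≤ ((b : ℝ) + 1) * y ^ b := by positivity
    push_cast
    calc ((b : ℝ) + 1 + 1) * y ^ (b + 1)
        ≤ (y + 1) * (((b : ℝ) + 1) * y ^ b) + y ^ (b + 1) := by
          have : (y + 1) * (((b : ℝ) + 1) * y ^ b) + y ^ (b + 1)
              - ((b : ℝ) + 1 + 1) * y ^ (b + 1) = ((b : ℝ) + 1) * y ^ b := by ring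
          linarith
      _ ≤ (y + 1) * ((y + 1) ^ (b + 1) - y ^ (b + 1)) + y ^ (b + 1) := by linarith
      _ = (y + 1) ^ (b + 1 + 1) - y ^ (b + 1 + 1) := by ring

theorem base (b : ℕ) (n : ℕ) :
    (n : ℝ) ^ (b + 1) / ((b : ℝ) + 1) - (n : ℝ) ^ b ≤ ∑ i ∈ Finset.range n, (i : ℝ) ^ b ∧
      ∑ i ∈ Finset.range n, (i : ℝ) ^ b ≤ (n : ℝ) ^ (b + 1) / ((b : ℝ) + 1) := by
  induction n with
  | zero =>
    rw [Finset.range_zero, Finset.sum_empty, Nat.cast_zero, zero_pow (Nat.succ_ne_zero b),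
      zero_div]
    constructor
    · have : (0 : ℝ) ≤ (0 : ℝ) ^ b := by positivity
      linarith
    · exact le_refl 0
  | succ n ih =>
    rw [Finset.sum_range_succ]
    have hb : (0 : ℝ) < (b : ℝ) + 1 := by positivity
    have k1 := K1 (n : ℝ) (Nat.cast_nonneg n) b
    have k2 := K2 (n : ℝ) (Nat.cast_nonneg n) b
    push_cast
    constructor
    · have : ((n : ℝ) + 1) ^ (b + 1) / ((b : ℝ) + 1) - (n : ℝ) ^ (b + 1) / ((b : ℝ) + 1)
          ≤ ((n : ℝ) + 1) ^ b := by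
        rw [← sub_div, div_le_iff₀ hb]; linarith
      linarith [ih.1]
    · have : (n : ℝ) ^ b
          ≤ ((n : ℝ) + 1) ^ (b + 1) / ((b : ℝ) + 1) - (n : ℝ) ^ (b + 1) / ((b : ℝ) + 1) := by
        rw [← sub_div, le_div_iff₀ hb]; linarith
      linarith [ih.2]

theorem main (a : ℕ) : ∀ b : ℕ, ∃ C : ℝ, ∀ n : ℕ, 1 ≤ n →
    |(∑ i ∈ Finset.range n, ((n : ℝ) - (i : ℝ)) ^ a * (i : ℝ) ^ b) -
        ((a.factorial : ℝ) * (b.factorial : ℝ) / ((a + b + 1).factorial : ℝ)) *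
          (n : ℝ) ^ (a + b + 1)| ≤ C * (n : ℝ) ^ (a + b) := by
  induction a with
  | zero =>
    intro b
    refine ⟨1, fun n hn => ?_⟩
    obtain ⟨h1, h2⟩ := base b n
    simp only [pow_zero, one_mul, Nat.factorial_zero, Nat.cast_one, zero_add]
    have hfac : ((b.factorial : ℝ) / ((b + 1).factorial : ℝ)) = 1 / ((b : ℝ) + 1) := by
      have hb0 : (b.factorial : ℝ) ≠ 0 := Nat.cast_ne_zero.mpr (Nat.factorial_ne_zero b)
      rw [Nat.factorial_succ]; push_cast; field_simp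
    have hnb : (0 : ℝ) ≤ (n : ℝ) ^ b := by positivity
    rw [hfac, abs_le]
    have e : 1 / ((b : ℝ) + 1) * (n : ℝ) ^ (b + 1) = (n : ℝ) ^ (b + 1) / ((b : ℝ) + 1) := by ring
    rw [e]
    constructor
    · linarith
    · linarith
  | succ a ih =>
    intro b
    obtain ⟨C1, hC1⟩ := ih b
    obtain ⟨C2, hC2⟩ := ih (b + 1)
    refine ⟨C1 + C2, fun n hn => ?_⟩
    have hn0 : (0 : ℝ) ≤ n := Nat.cast_nonneg n
    have e1 : ∑ i ∈ Finset.range n, ((n : ℝ) - (i : ℝ)) ^ (a + 1) * (i : ℝ) ^ b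
        = (n : ℝ) * ∑ i ∈ Finset.range n, ((n : ℝ) - (i : ℝ)) ^ a * (i : ℝ) ^ b
          - ∑ i ∈ Finset.range n, ((n : ℝ) - (i : ℝ)) ^ a * (i : ℝ) ^ (b + 1) := by
      rw [Finset.mul_sum, ← Finset.sum_sub_distrib]
      refine Finset.sum_congr rfl fun i _ => ?_
      ring
    have hF0 : ((a + b + 1).factorial : ℝ) ≠ 0 :=
      Nat.cast_ne_zero.mpr (Nat.factorial_ne_zero _)
    have hF : ((a + 1 + b + 1).factorial : ℝ)
        = ((a : ℝ) + b + 2) * ((a + b + 1).factorial : ℝ) := by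
      rw [show a + 1 + b + 1 = (a + b + 1) + 1 by omega, Nat.factorial_succ]; push_cast; ring
    have hF' : ((a + (b + 1) + 1).factorial : ℝ)
        = ((a : ℝ) + b + 2) * ((a + b + 1).factorial : ℝ) := by
      rw [show a + (b + 1) + 1 = (a + b + 1) + 1 by omega, Nat.factorial_succ]; push_cast; ring
    have hab : ((a : ℝ) + b + 2) ≠ 0 := by positivity
    have e2 : (((a + 1).factorial : ℝ) * (b.factorial : ℝ) / ((a + 1 + b + 1).factorial : ℝ))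
        = ((a.factorial : ℝ) * (b.factorial : ℝ) / ((a + b + 1).factorial : ℝ))
          - ((a.factorial : ℝ) * ((b + 1).factorial : ℝ) / ((a + (b + 1) + 1).factorial : ℝ)) := by
      rw [hF, hF', Nat.factorial_succ a, Nat.factorial_succ b]
      push_cast
      field_simp
      ring
    have x1 : (n : ℝ) ^ (a + 1 + b + 1) = n * (n : ℝ) ^ (a + b + 1) := by ring
    have x2 : (n : ℝ) ^ (a + (b + 1) + 1) = n * (n : ℝ) ^ (a + b + 1) := by ring
    have x3 : (n : ℝ) ^ (a + (b + 1)) = (n : ℝ) ^ (a + b + 1) := by ring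
    have x4 : (n : ℝ) ^ (a + 1 + b) = (n : ℝ) ^ (a + b + 1) := by ring
    have c1 := hC1 n hn
    have c2 := hC2 n hn
    rw [x2, x3] at c2
    rw [e1, e2, x1, x4]
    set S1 := ∑ i ∈ Finset.range n, ((n : ℝ) - (i : ℝ)) ^ a * (i : ℝ) ^ b
    set S2 := ∑ i ∈ Finset.range n, ((n : ℝ) - (i : ℝ)) ^ a * (i : ℝ) ^ (b + 1)
    set k1 := ((a.factorial : ℝ) * (b.factorial : ℝ) / ((a + b + 1).factorial : ℝ))
    set k2 := ((a.factorial : ℝ) * ((b + 1).factorial : ℝ) / ((a + (b + 1) + 1).factorial : ℝ))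
    have key : (n : ℝ) * S1 - S2 - (k1 - k2) * (n * (n : ℝ) ^ (a + b + 1))
        = n * (S1 - k1 * (n : ℝ) ^ (a + b + 1)) - (S2 - k2 * (n * (n : ℝ) ^ (a + b + 1))) := by
      ring
    rw [key]
    calc |(n : ℝ) * (S1 - k1 * (n : ℝ) ^ (a + b + 1)) - (S2 - k2 * (n * (n : ℝ) ^ (a + b + 1)))|
        ≤ |(n : ℝ) * (S1 - k1 * (n : ℝ) ^ (a + b + 1))|
          + |S2 - k2 * (n * (n : ℝ) ^ (a + b + 1))| := abs_sub _ _
      _ = (n : ℝ) * |S1 - k1 * (n : ℝ) ^ (a + b + 1)|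
          + |S2 - k2 * (n * (n : ℝ) ^ (a + b + 1))| := by rw [abs_mul, abs_of_nonneg hn0]
      _ ≤ (n : ℝ) * (C1 * (n : ℝ) ^ (a + b)) + C2 * (n : ℝ) ^ (a + b + 1) :=
          add_le_add (mul_le_mul_of_nonneg_left c1 hn0) c2
      _ = (C1 + C2) * (n : ℝ) ^ (a + b + 1) := by ring


/-- For natural numbers j ≤ r, the sums Σ_{i=0}^{n−1} (n − i)^{r−j} i^j equal n^{r+1}·(r − j)!·j!/(r +
1)! up to O(n^r): there is a real constant C with |Σ_{i<n} (n − i)^{r−j} i^j − ((r − j)!·j!/(r +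
1)!)·n^{r+1}| ≤ C·n^r for all n ≥ 1. -/
theorem result (r j : ℕ) (hj : j ≤ r) :
    ∃ C : ℝ, ∀ n : ℕ, 1 ≤ n →
      |(∑ i ∈ Finset.range n, ((n : ℝ) - (i : ℝ)) ^ (r - j) * (i : ℝ) ^ j) -
          ((r - j).factorial : ℝ) * (j.factorial : ℝ) / ((r + 1).factorial : ℝ) * (n : ℝ) ^ (r + 1)| ≤
        C * (n : ℝ) ^ r := by
  have h : r - j + j = r := Nat.sub_add_cancel hj
  obtain ⟨C, hC⟩ := main (r - j) j
  refine ⟨C, fun n hn => ?_⟩
  have := hC n hn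
  rw [h] at this
  exact this

end Groth.Agent.S19210
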