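import Groth.Statements.S19216
import Mathlib.Tactic.LinearCombination
import Mathlib.Tactic.Ring
import Mathlib.Algebra.BigOperators.Ring.Finset
import Mathlib.Algebra.CharZero.Defs
import Mathlib.Algebra.Field.Basic

set_option autoImplicit false
universe u
open SymRep

namespace Groth.Agent.S19216

/-- Let k be a field of characteristic zero and r, s ≥ 1. Realise the standard representation of the
symmetric group on a finite set T as the hyperplane of functions T → k with sum zero, the group
acting by precomposition with the inverse. Then the standard representation of the symmetric group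
of Fin r ⊕ Fin s, restricted to the subgroup S_r × S_s, is isomorphic to the direct sum of the
standard representations of S_r and of S_s and of a one-dimensional trivial representation: there is
a k-linear map E from functions on Fin r ⊕ Fin s to triples (function on Fin r, function on Fin s,
scalar), compatible with the actions of S_r × S_s (trivial on the scalar), which maps the sum-zero
hyperplane bijectively onto the product of the two sum-zero hyperplanes and k. (The published
statement is over the complex numbers; a field of characteristic zero is used here. The published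
statement also gives the analogous decomposition for any number of blocks, which follows by
induction; only the two-block case is stated here.) -/
theorem result (k : Type u) [Field k] [CharZero k]
    (r s : ℕ) (hr : 1 ≤ r) (hs : 1 ≤ s) :
    ∃ E : (Fin r ⊕ Fin s → k) →ₗ[k] (Fin r → k) × (Fin s → k) × k,
      (∀ (σ : Equiv.Perm (Fin r)) (τ : Equiv.Perm (Fin s)) (f : Fin r ⊕ Fin s → k),
        E (f ∘ ⇑(Equiv.sumCongr σ τ).symm) = ((E f).1 ∘ ⇑σ.symm, (E f).2.1 ∘ ⇑τ.symm, (E f).2.2)) ∧
      Set.BijOn E {f | ∑ i, f i = 0}
        ({g : Fin r → k | ∑ i, g i = 0} ×ˢ ({h : Fin s → k | ∑ i, h i = 0} ×ˢ Set.univ)) := by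
  classical
  have hr0 : (r : k) ≠ 0 := Nat.cast_ne_zero.mpr (by omega)
  have hs0 : (s : k) ≠ 0 := Nat.cast_ne_zero.mpr (by omega)
  -- sums over the two blocks
  let Sr : (Fin r ⊕ Fin s → k) →ₗ[k] k :=
    { toFun := fun f => ∑ i, f (Sum.inl i)
      map_add' := fun f g => by simp [Finset.sum_add_distrib]
      map_smul' := fun c f => by simp [Finset.mul_sum] }
  let Ss : (Fin r ⊕ Fin s → k) →ₗ[k] k :=
    { toFun := fun f => ∑ j, f (Sum.inr j)
      map_add' := fun f g => by simp [Finset.sum_add_distrib]
      map_smul' := fun c f => by simp [Finset.mul_sum] }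
  let E : (Fin r ⊕ Fin s → k) →ₗ[k] (Fin r → k) × (Fin s → k) × k :=
    { toFun := fun f => (fun i => f (Sum.inl i) - (r : k)⁻¹ * Sr f,
        fun j => f (Sum.inr j) - (s : k)⁻¹ * Ss f, Sr f)
      map_add' := fun f g => by
        ext <;> simp [map_add] <;> ring
      map_smul' := fun c f => by
        ext <;> simp [map_smul] <;> ring }
  have hSr : ∀ f, Sr f = ∑ i, f (Sum.inl i) := fun _ => rfl
  have hSs : ∀ f, Ss f = ∑ j, f (Sum.inr j) := fun _ => rfl
  have hE : ∀ f, E f = (fun i => f (Sum.inl i) - (r : k)⁻¹ * Sr f,
        fun j => f (Sum.inr j) - (s : k)⁻¹ * Ss f, Sr f) := fun _ => rfl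
  refine ⟨E, ?_, ?_, ?_, ?_⟩
  · -- equivariance
    intro σ τ f
    have h1 : Sr (f ∘ ⇑(Equiv.sumCongr σ τ).symm) = Sr f := by
      rw [hSr, hSr]
      exact Equiv.sum_comp σ.symm (fun i => f (Sum.inl i))
    have h2 : Ss (f ∘ ⇑(Equiv.sumCongr σ τ).symm) = Ss f := by
      rw [hSs, hSs]
      exact Equiv.sum_comp τ.symm (fun j => f (Sum.inr j))
    rw [hE, hE, h1, h2]
    rfl
  · -- maps into
    intro f hf
    have hf' : Sr f + Ss f = 0 := by
      rw [hSr, hSs, ← Fintype.sum_sum_type]; exact hf
    refine ⟨?_, ?_, trivial⟩
    · change ∑ i, (f (Sum.inl i) - (r : k)⁻¹ * Sr f) = 0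
      rw [Finset.sum_sub_distrib, Finset.sum_const, Finset.card_univ, Fintype.card_fin, nsmul_eq_mul,
        ← hSr, mul_inv_cancel_left₀ hr0, sub_self]
    · change ∑ j, (f (Sum.inr j) - (s : k)⁻¹ * Ss f) = 0
      rw [Finset.sum_sub_distrib, Finset.sum_const, Finset.card_univ, Fintype.card_fin, nsmul_eq_mul,
        ← hSs, mul_inv_cancel_left₀ hs0, sub_self]
  · -- injective on the hyperplane
    intro f hf g hg hfg
    have hf' : Sr f + Ss f = 0 := by
      rw [hSr, hSs, ← Fintype.sum_sum_type]; exact hf
    have hg' : Sr g + Ss g = 0 := by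
      rw [hSr, hSs, ← Fintype.sum_sum_type]; exact hg
    rw [hE, hE] at hfg
    have e3 : Sr f = Sr g := congrArg (fun t => t.2.2) hfg
    have e4 : Ss f = Ss g := by
      have h1 : Ss f = - Sr f := by linear_combination hf'
      have h2 : Ss g = - Sr g := by linear_combination hg'
      rw [h1, h2, e3]
    funext x
    rcases x with i | j
    · have := congrFun (congrArg (fun t => t.1) hfg) i
      simp only at this
      rw [e3] at this
      exact sub_left_injective this
    · have := congrFun (congrArg (fun t => t.2.1) hfg) j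
      simp only at this
      rw [e4] at this
      exact sub_left_injective this
  · -- surjective
    rintro ⟨g, h, c⟩ ⟨hg, hh, -⟩
    have hg' : ∑ i, g i = 0 := hg
    have hh' : ∑ j, h j = 0 := hh
    let f : Fin r ⊕ Fin s → k := Sum.elim (fun i => g i + (r : k)⁻¹ * c) (fun j => h j - (s : k)⁻¹ * c)
    have hfr : Sr f = c := by
      rw [hSr]
      change ∑ i, (g i + (r : k)⁻¹ * c) = c
      rw [Finset.sum_add_distrib, hg', Finset.sum_const, Finset.card_univ, Fintype.card_fin,
        nsmul_eq_mul, mul_inv_cancel_left₀ hr0, zero_add]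
    have hfs : Ss f = -c := by
      rw [hSs]
      change ∑ j, (h j - (s : k)⁻¹ * c) = -c
      rw [Finset.sum_sub_distrib, hh', Finset.sum_const, Finset.card_univ, Fintype.card_fin,
        nsmul_eq_mul, mul_inv_cancel_left₀ hs0, zero_sub]
    refine ⟨f, ?_, ?_⟩
    · change ∑ x, f x = 0
      rw [Fintype.sum_sum_type, ← hSr, ← hSs, hfr, hfs, add_neg_cancel]
    · rw [hE, hfr, hfs]
      refine Prod.ext ?_ (Prod.ext ?_ rfl)
      · funext i
        change g i + (r : k)⁻¹ * c - (r : k)⁻¹ * c = g i
        ring
      · funext j
        change h j - (s : k)⁻¹ * c - (s : k)⁻¹ * (-c) = h j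
        ring

end Groth.Agent.S19216
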