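import Groth.Statements.S19218
-- import your own Groth.Agent.* helpers here

set_option autoImplicit false
universe u v
open TensorProduct
open DiagIdeal

namespace Groth.Agent.S19218


section helpers

open PiTensorProduct

variable {k : Type u} [Field k] {A : Type v} [CommRing A] [Algebra k A] {n : ℕ}

/-- reindexing as a `k`-linear self map of the tensor power -/
noncomputable def T (σ : Equiv.Perm (Fin n)) : (⨂[k] _ : Fin n, A) →ₗ[k] (⨂[k] _ : Fin n, A) :=
  (PiTensorProduct.reindex k (fun _ : Fin n => A) σ).toLinearMap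

lemma T_apply (σ : Equiv.Perm (Fin n)) (x : ⨂[k] _ : Fin n, A) :
    T σ x = PiTensorProduct.reindex k (fun _ : Fin n => A) σ x := rfl

lemma T_tprod (σ : Equiv.Perm (Fin n)) (f : Fin n → A) :
    T (k := k) σ (tprod k f) = tprod k (fun i => f (σ.symm i)) :=
  PiTensorProduct.reindex_tprod σ f

lemma T_one (σ : Equiv.Perm (Fin n)) : T (k := k) (A := A) σ 1 = 1 := by
  change T σ (tprod k (1 : Fin n → A)) = tprod k (1 : Fin n → A)
  rw [T_tprod]
  rfl

lemma T_mul (σ : Equiv.Perm (Fin n)) (x y : ⨂[k] _ : Fin n, A) :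
    T σ (x * y) = T σ x * T σ y := by
  induction x using PiTensorProduct.induction_on with
  | smul_tprod r f =>
    induction y using PiTensorProduct.induction_on with
    | smul_tprod r' g =>
      rw [smul_tprod_mul_smul_tprod, map_smul, map_smul, map_smul, T_tprod, T_tprod, T_tprod,
        smul_tprod_mul_smul_tprod]
      rfl
    | add y1 y2 h1 h2 => rw [mul_add, map_add, map_add, mul_add, h1, h2]
  | add x1 x2 h1 h2 => rw [add_mul, map_add, map_add, add_mul, h1, h2]

/-- reindexing as an algebra map -/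
noncomputable def Talg (σ : Equiv.Perm (Fin n)) :
    (⨂[k] _ : Fin n, A) →ₐ[k] (⨂[k] _ : Fin n, A) :=
  AlgHom.ofLinearMap (T σ) (T_one σ) (T_mul σ)

lemma Talg_apply (σ : Equiv.Perm (Fin n)) (x : ⨂[k] _ : Fin n, A) : Talg σ x = T σ x := rfl

lemma T_single (σ : Equiv.Perm (Fin n)) (i : Fin n) (a : A) :
    T σ (singleAlgHom (R := k) (A := fun _ : Fin n => A) i a) =
      singleAlgHom (R := k) (A := fun _ : Fin n => A) (σ i) a := by
  change T σ (tprod k (Pi.mulSingle i a)) = tprod k (Pi.mulSingle (σ i) a)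
  rw [T_tprod]
  congr 1
  funext l
  by_cases h : l = σ i
  · subst h
    simp
  · have h' : σ.symm l ≠ i := fun e => h (by rw [← e]; simp)
    rw [Pi.mulSingle_eq_of_ne h, Pi.mulSingle_eq_of_ne h']

/-- the generators of the diagonal ideal -/
noncomputable def dlt (p : Fin n × Fin n) (a : A) : ⨂[k] _ : Fin n, A :=
  singleAlgHom (R := k) (A := fun _ : Fin n => A) p.1 a -
    singleAlgHom (R := k) (A := fun _ : Fin n => A) p.2 a

/-- the diagonal ideal -/
noncomputable def Ip (p : Fin n × Fin n) : Ideal (⨂[k] _ : Fin n, A) :=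
  Ideal.span (Set.range (dlt (k := k) p))

lemma T_dlt (p : Fin n × Fin n) (a : A) :
    T (Equiv.swap p.1 p.2) (dlt (k := k) p a) = - dlt (k := k) p a := by
  unfold dlt
  rw [map_sub, T_single, T_single, Equiv.swap_apply_left, Equiv.swap_apply_right]
  ring

lemma claimA (p : Fin n × Fin n) (r : ⨂[k] _ : Fin n, A) :
    T (Equiv.swap p.1 p.2) r - r ∈ Ip (k := k) p := by
  have key : (Ideal.Quotient.mkₐ k (Ip (k := k) (A := A) p)).comp (Talg (Equiv.swap p.1 p.2)) =
      Ideal.Quotient.mkₐ k (Ip (k := k) (A := A) p) := by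
    apply PiTensorProduct.algHom_ext
    intro l
    ext a
    change Ideal.Quotient.mk _ (T (Equiv.swap p.1 p.2) (singleAlgHom (R := k) (A := fun _ : Fin n => A) l a)) =
      Ideal.Quotient.mk _ (singleAlgHom (R := k) (A := fun _ : Fin n => A) l a)
    rw [T_single, Ideal.Quotient.eq]
    by_cases h1 : l = p.1
    · subst h1
      rw [Equiv.swap_apply_left]
      have : singleAlgHom (R := k) (A := fun _ : Fin n => A) p.2 a -
          singleAlgHom (R := k) (A := fun _ : Fin n => A) p.1 a = - dlt (k := k) p a := by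
        unfold dlt; ring
      rw [this]
      exact Ideal.neg_mem_iff _ |>.mpr (Ideal.subset_span ⟨a, rfl⟩)
    · by_cases h2 : l = p.2
      · subst h2
        rw [Equiv.swap_apply_right]
        exact Ideal.subset_span ⟨a, rfl⟩
      · rw [Equiv.swap_apply_of_ne_of_ne h1 h2, sub_self]
        exact Ideal.zero_mem _
  have := congrArg (fun f : (⨂[k] _ : Fin n, A) →ₐ[k] _ => f r) key
  change Ideal.Quotient.mk _ (T (Equiv.swap p.1 p.2) r) = Ideal.Quotient.mk _ r at this
  rwa [Ideal.Quotient.eq] at this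

lemma claimB1 (p : Fin n × Fin n) (z : ⨂[k] _ : Fin n, A) (hz : z ∈ Ip (k := k) p) :
    T (Equiv.swap p.1 p.2) z + z ∈ Ip (k := k) p ^ 2 := by
  unfold Ip at hz
  refine Submodule.span_induction ?_ ?_ ?_ ?_ hz
  · rintro _ ⟨a, rfl⟩
    rw [T_dlt, neg_add_cancel]
    exact Ideal.zero_mem _
  · rw [map_zero, add_zero]; exact Ideal.zero_mem _
  · intro u v _ _ hu hv
    have : T (Equiv.swap p.1 p.2) (u + v) + (u + v) =
        (T (Equiv.swap p.1 p.2) u + u) + (T (Equiv.swap p.1 p.2) v + v) := by
      rw [map_add]; ring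
    rw [this]
    exact Ideal.add_mem _ hu hv
  · intro r z' hz' h
    have hz'I : z' ∈ Ip (k := k) p := hz'
    have hTz' : T (Equiv.swap p.1 p.2) z' ∈ Ip (k := k) p := by
      have : T (Equiv.swap p.1 p.2) z' = (T (Equiv.swap p.1 p.2) z' + z') - z' := by ring
      rw [this]
      exact Ideal.sub_mem _ (Ideal.pow_le_self two_ne_zero h) hz'I
    have : T (Equiv.swap p.1 p.2) (r • z') + r • z' =
        (T (Equiv.swap p.1 p.2) r - r) * T (Equiv.swap p.1 p.2) z' +
          r * (T (Equiv.swap p.1 p.2) z' + z') := by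
      rw [smul_eq_mul, T_mul]; ring
    rw [this]
    refine Ideal.add_mem _ ?_ (Ideal.mul_mem_left _ _ h)
    rw [pow_two]
    exact Ideal.mul_mem_mul (claimA p r) hTz'

lemma T_mem_Ip (p : Fin n × Fin n) (z : ⨂[k] _ : Fin n, A) (hz : z ∈ Ip (k := k) p) :
    T (Equiv.swap p.1 p.2) z ∈ Ip (k := k) p := by
  have : T (Equiv.swap p.1 p.2) z = (T (Equiv.swap p.1 p.2) z + z) - z := by ring
  rw [this]
  exact Ideal.sub_mem _ (Ideal.pow_le_self two_ne_zero (claimB1 p z hz)) hz

lemma claimB (p : Fin n × Fin n) (s : ℕ) (y : ⨂[k] _ : Fin n, A) (hy : y ∈ Ip (k := k) p ^ s) :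
    T (Equiv.swap p.1 p.2) y - (-1) ^ s * y ∈ Ip (k := k) p ^ (s + 1) := by
  induction s generalizing y with
  | zero =>
    rw [pow_zero, one_mul, zero_add, pow_one]
    exact claimA p y
  | succ s ih =>
    rw [pow_succ] at hy
    refine Submodule.smul_induction_on hy ?_ ?_
    · intro a ha b hb
      have : T (Equiv.swap p.1 p.2) (a • b) - (-1) ^ (s + 1) * (a • b) =
          (T (Equiv.swap p.1 p.2) a - (-1) ^ s * a) * T (Equiv.swap p.1 p.2) b +
            ((-1) ^ s * a) * (T (Equiv.swap p.1 p.2) b + b) := by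
        rw [smul_eq_mul, T_mul, pow_succ]; ring
      rw [this]
      refine Ideal.add_mem _ ?_ ?_
      · rw [pow_succ (Ip (k := k) p) (s + 1)]
        exact Ideal.mul_mem_mul (ih a ha) (T_mem_Ip p b hb)
      · have h2 : Ip (k := k) (A := A) p ^ (s + 1 + 1) = Ip (k := k) p ^ s * Ip (k := k) p ^ 2 := by
          rw [← pow_add]
        rw [h2]
        exact Ideal.mul_mem_mul (Ideal.mul_mem_left _ _ ha) (claimB1 p b hb)
    · intro u v hu hv
      have : T (Equiv.swap p.1 p.2) (u + v) - (-1) ^ (s + 1) * (u + v) =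
          (T (Equiv.swap p.1 p.2) u - (-1) ^ (s + 1) * u) +
            (T (Equiv.swap p.1 p.2) v - (-1) ^ (s + 1) * v) := by
        rw [map_add]; ring
      rw [this]
      exact Ideal.add_mem _ hu hv

lemma key [CharZero k] (p : Fin n × Fin n) (m : ℕ) (hm : 1 ≤ m) (x : ⨂[k] _ : Fin n, A)
    (hx : T (Equiv.swap p.1 p.2) x = x) (hmem : x ∈ Ip (k := k) p ^ (2 * m - 1)) :
    x ∈ Ip (k := k) p ^ (2 * m) := by
  have h := claimB p (2 * m - 1) x hmem
  have hodd : Odd (2 * m - 1) := by
    refine ⟨m - 1, ?_⟩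
    omega
  rw [hx, hodd.neg_one_pow, show 2 * m - 1 + 1 = 2 * m by omega] at h
  have h2 : x - -1 * x = (2 : k) • x := by
    rw [two_smul]; ring
  rw [h2] at h
  have h3 : x = (2 : k)⁻¹ • ((2 : k) • x) := by
    rw [smul_smul, inv_mul_cancel₀ (two_ne_zero), one_smul]
  rw [h3]
  exact Submodule.smul_of_tower_mem _ _ h

end helpers

/-- Let k be an algebraically closed field of characteristic zero and A a smooth k-algebra which is a
domain of Krull dimension 2. In the n-fold tensor power R of A over k, indexed by Fin n, let I_p (p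
= (i, j), i < j) be the ideal generated by the a_i − a_j, a ∈ A, and let I be the intersection of
the I_p, the ideal of the big diagonal. Assume that for every s ≥ 0 the power I ^ s is the
intersection of the powers I_p ^ s (a property of the big diagonal of a smooth surface that the
source takes from the literature). Then for m ≥ 1 every element of R fixed by all permutations of
the n factors and lying in I ^ (2m − 1) lies in I ^ (2m): on the symmetric product the invariants of
the odd power and of the next even power of the ideal of the big diagonal coincide. (The source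
states the sheaf version for a smooth quasi-projective complex surface, using the displayed property
of the powers without restating it as a hypothesis.) -/
theorem result (k : Type u) [Field k] [IsAlgClosed k] [CharZero k]
    (A : Type v) [CommRing A] [Algebra k A] [Algebra.Smooth k A] [IsDomain A]
    (hdim : ringKrullDim A = 2) (n : ℕ)
    (I : Fin n × Fin n → Ideal (⨂[k] _ : Fin n, A))
    (hI : ∀ p, I p = Ideal.span (Set.range fun a : A =>
        PiTensorProduct.singleAlgHom (R := k) (A := fun _ : Fin n => A) p.1 a -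
        PiTensorProduct.singleAlgHom (R := k) (A := fun _ : Fin n => A) p.2 a))
    (IΔ : Ideal (⨂[k] _ : Fin n, A))
    (hIΔ : IΔ = ⨅ p ∈ Finset.univ.filter (fun p : Fin n × Fin n => p.1 < p.2), I p)
    (hpow : ∀ s : ℕ, IΔ ^ s = ⨅ p ∈ Finset.univ.filter (fun p : Fin n × Fin n => p.1 < p.2), (I p) ^ s)
    (m : ℕ) (hm : 1 ≤ m) (x : ⨂[k] _ : Fin n, A)
    (hx : ∀ σ : Equiv.Perm (Fin n), PiTensorProduct.reindex k (fun _ : Fin n => A) σ x = x)
    (hmem : x ∈ IΔ ^ (2 * m - 1)) :
    x ∈ IΔ ^ (2 * m) := by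
  have hIp : ∀ p, I p = Ip (k := k) p := fun p => hI p
  rw [hpow] at hmem ⊢
  simp only [Submodule.mem_iInf] at hmem ⊢
  intro p hp
  rw [hIp]
  apply key p m hm x (hx _)
  rw [← hIp]
  exact hmem p hp

end Groth.Agent.S19218
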