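import Groth.Statements.S19221
-- import your own Groth.Agent.* helpers here
import Mathlib
import Groth.Agent.Lib.Helper72.ExtFour

set_option autoImplicit false
universe u
open SymRep

namespace Groth.Agent.S19221

/-- Let k be a field of characteristic zero and F the k-space of functions Fin 2 → Fin 4 → Fin 4 → k,
with the symmetric group of Fin 4 acting through P σ f c a b = f c (σ⁻¹ a) (σ⁻¹ b). The signed edge
vectors of the complete graph on four vertices live in F as the functions antisymmetric in the two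
vertex arguments, and for a colour c and an oriented 3-cycle i → j → l → i the cycle vector z c i j
l is the function equal, in colour c, to +1 at (i,j), (j,l), (l,i), to −1 at (j,i), (l,j), (i,l) and
to 0 elsewhere (and 0 in the other colour); these cycle vectors span k² ⊗ (cycle space), the
representation written C² ⊗ q in the published text. Let Γ be the graph with edges 01, 02, 03, 12,
23 (a 4-cycle with one chord), whose cycle space is spanned by the cycles (0,1,2) and (0,2,3), and
let ω be the product in the exterior algebra of F of the four vectors z 0 0 1 2, z 1 0 1 2, z 0 0 2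
3, z 1 0 2 3 (a generator of the top exterior power of k² ⊗ q_Γ). Then ω is fixed by the stabiliser
of Γ in the symmetric group (generated by the transpositions (0 2) and (1 3)), and the sum over all
24 permutations σ of the images of ω under the maps induced by P σ is nonzero: the projection of ω
to the invariants of the fourth exterior power of k² ⊗ q_{K₄} does not vanish. (The published
statement is over the complex numbers; a field of characteristic zero is used here. The published
statement also asserts that this map is an isomorphism onto the one-dimensional space of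
S₄-invariants of the fourth exterior power of k² ⊗ q_{K₄}; only its non-vanishing is stated here.) -/
theorem result (k : Type u) [Field k] [CharZero k]
    (P : Equiv.Perm (Fin 4) → ((Fin 2 → Fin 4 → Fin 4 → k) →ₗ[k] (Fin 2 → Fin 4 → Fin 4 → k)))
    (hP : ∀ (σ : Equiv.Perm (Fin 4)) (f : Fin 2 → Fin 4 → Fin 4 → k) (c : Fin 2) (a b : Fin 4),
      P σ f c a b = f c (σ.symm a) (σ.symm b))
    (z : Fin 2 → Fin 4 → Fin 4 → Fin 4 → (Fin 2 → Fin 4 → Fin 4 → k))
    (hz : ∀ (c : Fin 2) (i j l : Fin 4) (c' : Fin 2) (a b : Fin 4), z c i j l c' a b =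
      if c' = c then
        ((if a = i ∧ b = j then 1 else 0) + (if a = j ∧ b = l then 1 else 0) + (if a = l ∧ b = i then 1 else 0)
          - (if a = j ∧ b = i then 1 else 0) - (if a = l ∧ b = j then 1 else 0) - (if a = i ∧ b = l then 1 else 0))
      else 0)
    (ω : ExteriorAlgebra k (Fin 2 → Fin 4 → Fin 4 → k))
    (hω : ω = ExteriorAlgebra.ι k (z 0 0 1 2) * ExteriorAlgebra.ι k (z 1 0 1 2) *
      ExteriorAlgebra.ι k (z 0 0 2 3) * ExteriorAlgebra.ι k (z 1 0 2 3)) :
    ExteriorAlgebra.map (P (Equiv.swap 0 2)) ω = ω ∧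
    ExteriorAlgebra.map (P (Equiv.swap 1 3)) ω = ω ∧
    (∑ σ : Equiv.Perm (Fin 4), ExteriorAlgebra.map (P σ) ω) ≠ 0 := by
  classical
  -- action of `P σ` on the cycle vectors
  have hPz : ∀ (σ : Equiv.Perm (Fin 4)) (c : Fin 2) (i j l : Fin 4) (c' : Fin 2) (a b : Fin 4),
      P σ (z c i j l) c' a b = z c i j l c' (σ.symm a) (σ.symm b) := fun σ c i j l c' a b => hP σ _ c' a b
  -- part 1
  have h02a : ∀ c, P (Equiv.swap 0 2) (z c 0 1 2) = -z c 0 1 2 := by
    intro c
    funext c' a b
    rw [hPz, Pi.neg_apply, Pi.neg_apply, Pi.neg_apply, hz, hz]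
    by_cases hc : c' = c
    · simp only [hc, if_true]
      fin_cases a <;> fin_cases b <;> simp [Equiv.swap_apply_def]
    · simp [hc]
  have h02b : ∀ c, P (Equiv.swap 0 2) (z c 0 2 3) = -z c 0 2 3 := by
    intro c
    funext c' a b
    rw [hPz, Pi.neg_apply, Pi.neg_apply, Pi.neg_apply, hz, hz]
    by_cases hc : c' = c
    · simp only [hc, if_true]
      fin_cases a <;> fin_cases b <;> simp [Equiv.swap_apply_def]
    · simp [hc]
  have h13a : ∀ c, P (Equiv.swap 1 3) (z c 0 1 2) = -z c 0 2 3 := by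
    intro c
    funext c' a b
    rw [hPz, Pi.neg_apply, Pi.neg_apply, Pi.neg_apply, hz, hz]
    by_cases hc : c' = c
    · simp only [hc, if_true]
      fin_cases a <;> fin_cases b <;> simp [Equiv.swap_apply_def]
    · simp [hc]
  have h13b : ∀ c, P (Equiv.swap 1 3) (z c 0 2 3) = -z c 0 1 2 := by
    intro c
    funext c' a b
    rw [hPz, Pi.neg_apply, Pi.neg_apply, Pi.neg_apply, hz, hz]
    by_cases hc : c' = c
    · simp only [hc, if_true]
      fin_cases a <;> fin_cases b <;> simp [Equiv.swap_apply_def]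
    · simp [hc]
  refine ⟨?_, ?_, ?_⟩
  · rw [hω]
    simp only [map_mul, ExteriorAlgebra.map_apply_ι, h02a, h02b, map_neg, neg_mul, mul_neg, neg_neg]
  · rw [hω]
    simp only [map_mul, ExteriorAlgebra.map_apply_ι, h13a, h13b, map_neg, neg_mul, mul_neg, neg_neg]
    exact Groth.Agent.Lib.Helper72.ExtFour.reorder _ _ _ _
  · -- integer-valued cycle function
    obtain ⟨E, hE⟩ : ∃ E : Fin 4 → Fin 4 → Fin 4 → Fin 4 → Fin 4 → ℤ, E = fun i j l a b =>
        ((if a = i ∧ b = j then 1 else 0) + (if a = j ∧ b = l then 1 else 0) + (if a = l ∧ b = i then 1 else 0)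
          - (if a = j ∧ b = i then 1 else 0) - (if a = l ∧ b = j then 1 else 0) - (if a = i ∧ b = l then 1 else 0)) :=
      ⟨_, rfl⟩
    have hzE : ∀ (c : Fin 2) (i j l : Fin 4) (c' : Fin 2) (a b : Fin 4),
        z c i j l c' a b = if c' = c then ((E i j l a b : ℤ) : k) else 0 := by
      intro c i j l c' a b
      rw [hz, hE]
      simp only [Int.cast_add, Int.cast_sub, Int.cast_ite, Int.cast_one, Int.cast_zero]
    let g : (Fin 2 → Fin 4 → Fin 4 → k) →ₗ[k] (Fin 4 → k) :=
      { toFun := fun f => ![f 0 0 1, f 0 2 3, f 1 0 1, f 1 2 3]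
        map_add' := fun f f' => by
          ext i; fin_cases i <;> rfl
        map_smul' := fun c f => by
          ext i; fin_cases i <;> rfl }
    obtain ⟨Φ, hΦ⟩ := Groth.Agent.Lib.Helper72.ExtFour.phi_exists g
    obtain ⟨D, hD⟩ : ∃ D : Equiv.Perm (Fin 4) → ℤ, D = fun σ =>
        E 0 1 2 (σ.symm 0) (σ.symm 1) * E 0 2 3 (σ.symm 2) (σ.symm 3) -
          E 0 1 2 (σ.symm 2) (σ.symm 3) * E 0 2 3 (σ.symm 0) (σ.symm 1) := ⟨_, rfl⟩
    have hterm : ∀ σ : Equiv.Perm (Fin 4), Φ (ExteriorAlgebra.map (P σ) ω) = ((-(D σ) ^ 2 : ℤ) : k) := by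
      intro σ
      rw [hω]
      simp only [map_mul, ExteriorAlgebra.map_apply_ι]
      rw [hΦ]
      have hM : (Matrix.of ![g (P σ (z 0 0 1 2)), g (P σ (z 1 0 1 2)), g (P σ (z 0 0 2 3)),
          g (P σ (z 1 0 2 3))] : Matrix (Fin 4) (Fin 4) k) =
          Matrix.of ![![((E 0 1 2 (σ.symm 0) (σ.symm 1) : ℤ) : k), ((E 0 1 2 (σ.symm 2) (σ.symm 3) : ℤ) : k), 0, 0],
            ![0, 0, ((E 0 1 2 (σ.symm 0) (σ.symm 1) : ℤ) : k), ((E 0 1 2 (σ.symm 2) (σ.symm 3) : ℤ) : k)],
            ![((E 0 2 3 (σ.symm 0) (σ.symm 1) : ℤ) : k), ((E 0 2 3 (σ.symm 2) (σ.symm 3) : ℤ) : k), 0, 0],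
            ![0, 0, ((E 0 2 3 (σ.symm 0) (σ.symm 1) : ℤ) : k), ((E 0 2 3 (σ.symm 2) (σ.symm 3) : ℤ) : k)]] := by
        ext r s
        fin_cases r <;> fin_cases s <;> simp [g, hPz, hzE]
      rw [hM, Groth.Agent.Lib.Helper72.ExtFour.det_block, hD]
      push_cast
      ring
    intro hsum
    have h1 := congrArg Φ hsum
    rw [map_sum, map_zero] at h1
    simp only [hterm] at h1
    rw [← Int.cast_sum] at h1
    have h2 : (∑ σ : Equiv.Perm (Fin 4), -(D σ) ^ 2) = 0 := by exact_mod_cast h1
    rw [Finset.sum_neg_distrib, neg_eq_zero] at h2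
    have h3 : (D 1) ^ 2 ≤ ∑ σ : Equiv.Perm (Fin 4), (D σ) ^ 2 :=
      Finset.single_le_sum (f := fun σ => (D σ) ^ 2) (fun σ _ => sq_nonneg _) (Finset.mem_univ 1)
    have h4 : D 1 = 1 := by
      rw [hD, hE]
      have h1s : ∀ a : Fin 4, (Equiv.symm (1 : Equiv.Perm (Fin 4))) a = a := fun a => rfl
      simp only [h1s]
      decide
    rw [h2, h4] at h3
    norm_num at h3

end Groth.Agent.S19221
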