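import Groth.Statements.S19222
import Groth.Agent.Lib.Helper70.StrictHensCoh
import Groth.Agent.Lib.Helper70.PushExact
import Groth.Agent.Lib.Helper70.PropBFinite

set_option autoImplicit false
universe u
open CategoryTheory AlgebraicGeometry
open EtBase

namespace Groth.Agent.S19222

/-- Let R be a strictly henselian local ring (henselian, with separably closed residue field), let X be
a scheme finite over Spec R and let F be an abelian étale sheaf on X. Then H^j(X_et, F) = 0 for
every j ≥ 1. (The source states this vanishing for the schemes X ×_R Y ×_R ⋯ ×_R Y with Y a further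
finite R-scheme; these are again finite over R, so the present form is the whole content.) -/
theorem result (R : Type u) [CommRing R] [HenselianLocalRing R]
    [IsSepClosed (IsLocalRing.ResidueField R)] (X : Scheme.{u}) (f : X ⟶ Spec (CommRingCat.of R)) [IsFinite f]
    (F : EtCoh.Ab X) (j : ℕ) (hj : 1 ≤ j) : Subsingleton (EtCoh.H X F j) := by
  haveI h1 : (EtCore.gsec (Spec (CommRingCat.of R))).PreservesEpimorphisms := by
    constructor
    intro A B e he
    change Epi (e.hom.app (Opposite.op (EtCoh.top (Spec (CommRingCat.of R)))))
    rw [AddCommGrpCat.epi_iff_surjective]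
    exact Groth.Agent.Lib.Helper70.StrictHensCoh.surjective_gsec R e
  haveI h2 : (EtCoh.push f).PreservesEpimorphisms :=
    Groth.Agent.Lib.Helper70.PushExact.preservesEpimorphisms_push f
      (Groth.Agent.Lib.Helper70.PropBFinite.propB_of_isFinite f)
  haveI h3 : (EtCoh.push f ⋙ EtCore.gsec (Spec (CommRingCat.of R))).PreservesEpimorphisms :=
    inferInstance
  haveI h4 : (EtCore.gsec X).PreservesEpimorphisms :=
    Functor.PreservesEpimorphisms.of_iso (EtCore.pushGsecIso f)
  haveI := (EtCore.constAdj X).map_projective _
    Groth.Agent.Lib.Helper70.StrictHensCoh.projective_ulift_int.{u}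
  obtain ⟨n, rfl⟩ : ∃ n, j = n + 1 := ⟨j - 1, by omega⟩
  exact subsingleton_of_forall_eq 0 (fun x => Abelian.Ext.eq_zero_of_projective x)

end Groth.Agent.S19222
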