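import Groth.Statements.S19223
import Mathlib
import Groth.Agent.Lib.Helper27.GrpCoh

set_option autoImplicit false
attribute [local instance] Units.mulDistribMulActionRight
open GalCoh

namespace Groth.Agent.S19223

open CategoryTheory CategoryTheory.Limits groupCohomology

universe u
theorem bij_of_ses {k G : Type u} [CommRing k] [Group G] [Finite G] {A B : Rep.{u} k G} (φ : A ⟶ B)
    (hsurj : Function.Surjective φ.hom)
    (hdiv : ∀ a : A, φ.hom a = 0 → ∃ a' : A, φ.hom a' = 0 ∧ Nat.card G • a' = a)
    (htor : ∀ a : A, φ.hom a = 0 → Nat.card G • a = 0 → a = 0)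
    (n : ℕ) (hn : 1 ≤ n) : Function.Bijective ((groupCohomology.functor k G n).map φ).hom := by
  classical
  set N := Nat.card G with hN
  have hepi : Epi φ := (Rep.epi_iff_surjective φ).mpr hsurj
  let X : ShortComplex (Rep.{u} k G) := ShortComplex.mk (kernel.ι φ) φ (kernel.condition φ)
  have hX : X.ShortExact :=
    { exact := ShortComplex.exact_of_f_is_kernel _ (kernelIsKernel φ)
      mono_f := inferInstanceAs (Mono (kernel.ι φ))
      epi_g := hepi }
  have hιi : Function.Injective (kernel.ι φ).hom :=
    (Rep.mono_iff_injective (kernel.ι φ)).mp inferInstance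
  have hzero : ∀ c, φ.hom ((kernel.ι φ).hom c) = 0 := by
    intro c
    have := congrArg (fun f => f.hom c) (kernel.condition φ)
    simpa using this
  have hex : ∀ a, φ.hom a = 0 → ∃ c, (kernel.ι φ).hom c = a := by
    intro a ha
    have hr := (hX.exact.map (forget₂ (Rep.{u} k G) (ModuleCat.{u} k))).moduleCat_range_eq_ker
    have : a ∈ LinearMap.ker φ.hom.toLinearMap := ha
    have h3 : a ∈ LinearMap.range (kernel.ι φ).hom.toLinearMap := by
      rw [show LinearMap.range (kernel.ι φ).hom.toLinearMap = LinearMap.ker φ.hom.toLinearMap from hr]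
      exact this
    exact h3
  -- multiplication by N is an isomorphism of the kernel
  have hNapp : ∀ c : (kernel φ : Rep.{u} k G), (N • 𝟙 (kernel φ)).hom c = N • c := by
    intro c
    rw [Rep.nsmul_hom]
    rfl
  have hmono : Mono (N • 𝟙 (kernel φ)) := by
    rw [Rep.mono_iff_injective]
    rw [injective_iff_map_eq_zero]
    intro c hc
    rw [hNapp] at hc
    apply hιi
    rw [map_zero]
    apply htor _ (hzero c)
    rw [← map_nsmul, hc, map_zero]
  have hepiN : Epi (N • 𝟙 (kernel φ)) := by
    rw [Rep.epi_iff_surjective]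
    intro c
    obtain ⟨a', ha', ha'2⟩ := hdiv _ (hzero c)
    obtain ⟨c', hc'⟩ := hex a' ha'
    refine ⟨c', ?_⟩
    rw [hNapp]
    apply hιi
    rw [map_nsmul, hc', ha'2]
  have hiso : IsIso (N • 𝟙 (kernel φ)) := isIso_of_mono_of_epi _
  have hvan : ∀ m : ℕ, Subsingleton (groupCohomology (kernel φ) (m+1)) := by
    intro m
    have h1 : IsIso ((functor k G (m+1)).map (N • 𝟙 (kernel φ))) := inferInstance
    rw [CategoryTheory.Functor.map_nsmul, CategoryTheory.Functor.map_id] at h1
    have h2 : Function.Injective (N • 𝟙 ((functor k G (m+1)).obj (kernel φ))).hom :=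
      (ModuleCat.mono_iff_injective _).mp inferInstance
    refine ⟨fun a b => ?_⟩
    apply h2
    have e : ∀ x : groupCohomology (kernel φ) (m+1),
        (N • 𝟙 ((functor k G (m+1)).obj (kernel φ))).hom x = N • x := by
      intro x; rfl
    rw [e, e]
    rw [Groth.Agent.Lib.Helper27.GrpCoh.card_nsmul_eq_zero _ m a,
      Groth.Agent.Lib.Helper27.GrpCoh.card_nsmul_eq_zero _ m b]
  obtain ⟨m, rfl⟩ : ∃ m, n = m + 1 := ⟨n - 1, by omega⟩
  constructor
  · rw [injective_iff_map_eq_zero]
    intro x hx
    have h2 := mapShortComplex₂_exact hX (m+1)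
    rw [ShortComplex.moduleCat_exact_iff] at h2
    obtain ⟨x₁, hx₁⟩ := h2 x hx
    have : x₁ = 0 := @Subsingleton.elim _ (hvan m) _ _
    rw [← hx₁, this]
    exact map_zero _
  · intro y
    have h3 := mapShortComplex₃_exact hX (rfl : (m+1) + 1 = m + 2)
    rw [ShortComplex.moduleCat_exact_iff] at h3
    exact h3 y (@Subsingleton.elim _ (hvan (m+1)) _ _)



/-- For a strictly henselian local ring R whose residue field k has characteristic p ≥ 0, and a finite
group G of order prime to p acting on R by ring automorphisms (hence on the unit groups R^× and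
k^×), consider the homomorphism H^n(G, R^×) → H^n(G, k^×) induced by the reduction map. It is
bijective for every n ≥ 2; it is also bijective for n = 1 provided that p = 0 or the only p-power
root of unity in R is 1. (The reduction map on cohomology is pinned by its values on units; groups,
rings and modules are taken in the lowest universe, as integral coefficients in the group-cohomology
library require.) -/
theorem result (R : Type) [CommRing R]
    [HenselianLocalRing R] [IsSepClosed (IsLocalRing.ResidueField R)] (p : ℕ) [CharP (IsLocalRing.ResidueField R) p]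
    (G : Type) [Group G] [Finite G] [MulSemiringAction G R] (hp : ¬ p ∣ Nat.card G)
    (φ : Rep.ofMulDistribMulAction G Rˣ ⟶ Rep.ofMulDistribMulAction G (IsLocalRing.ResidueField R)ˣ)
    (hφ : ∀ x : Rˣ, Additive.toMul (φ.hom (Additive.ofMul x)) = Units.map (IsLocalRing.residue R).toMonoidHom x)
    (n : ℕ) (hn : 1 ≤ n) (h1 : n = 1 → p ≠ 0 → ∀ (ζ : Rˣ) (m : ℕ), ζ ^ p ^ m = 1 → ζ = 1) :
    Function.Bijective ((groupCohomology.functor ℤ G n).map φ).hom := by
  classical
  set N := Nat.card G with hN
  have hNpos : 0 < N := Nat.card_pos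
  have hN0 : N ≠ 0 := hNpos.ne'
  have hNk : ((N : ℕ) : IsLocalRing.ResidueField R) ≠ 0 := by
    intro h0; exact hp ((CharP.cast_eq_zero_iff _ p N).mp h0)
  have hunit_of : ∀ x : R, IsLocalRing.residue R x ≠ 0 → IsUnit x := by
    intro x hx
    rw [ne_eq, IsLocalRing.residue_eq_zero_iff] at hx
    exact IsLocalRing.notMem_maximalIdeal.mp hx
  have hNunit : IsUnit ((N : ℕ) : R) := hunit_of _ (by rwa [map_natCast])
  -- characterization of the kernel
  have hkerU : ∀ x : Rˣ, φ.hom (Additive.ofMul x) = 0 ↔ IsLocalRing.residue R (x : R) = 1 := by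
    intro x
    have h := hφ x
    constructor
    · intro h0
      rw [h0] at h
      change (1 : (IsLocalRing.ResidueField R)ˣ) = _ at h
      have h2 := congrArg Units.val h
      simpa using h2.symm
    · intro h1
      have h3 : Units.map (IsLocalRing.residue R).toMonoidHom x = 1 := by
        apply Units.ext
        simpa using h1
      rw [h3] at h
      exact h
  have hs : ∀ y : (IsLocalRing.ResidueField R)ˣ, ∃ x : Rˣ,
      Units.map (IsLocalRing.residue R).toMonoidHom x = y := by
    intro y
    obtain ⟨x, hx⟩ := IsLocalRing.residue_surjective (y : IsLocalRing.ResidueField R)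
    have hxu : IsUnit x := hunit_of x (by rw [hx]; exact Units.ne_zero _)
    refine ⟨hxu.unit, ?_⟩
    apply Units.ext
    simpa using hx
  have hd : ∀ x : Rˣ, IsLocalRing.residue R (x : R) = 1 →
      ∃ y : Rˣ, IsLocalRing.residue R (y : R) = 1 ∧ y ^ N = x := by
    intro x ha
    set u : R := (x : R) with hu
    obtain ⟨r, hr, hr1⟩ := HenselianLocalRing.is_henselian (Polynomial.X ^ N - Polynomial.C u)
      (Polynomial.monic_X_pow_sub_C u hN0) 1
      (by
        rw [← IsLocalRing.residue_eq_zero_iff]
        simp [ha])
      (by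
        simp only [Polynomial.derivative_sub, Polynomial.derivative_X_pow, Polynomial.derivative_C,
          sub_zero, Polynomial.eval_mul, Polynomial.eval_C, Polynomial.eval_pow, Polynomial.eval_X,
          one_pow, mul_one]
        exact hNunit)
    have hrN : r ^ N = u := by
      have := hr
      simp only [Polynomial.IsRoot.def, Polynomial.eval_sub, Polynomial.eval_pow, Polynomial.eval_X,
        Polynomial.eval_C] at this
      exact sub_eq_zero.mp this
    have hru : IsUnit r := by
      have : IsUnit (r ^ N) := by rw [hrN]; exact x.isUnit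
      exact (isUnit_pow_iff hN0).mp this
    have hrres : IsLocalRing.residue R r = 1 := by
      rw [← IsLocalRing.residue_eq_zero_iff, map_sub, map_one] at hr1
      exact sub_eq_zero.mp hr1
    refine ⟨hru.unit, ?_, ?_⟩
    · simpa using hrres
    · apply Units.ext
      simpa using hrN
  have ht : ∀ x : Rˣ, IsLocalRing.residue R (x : R) = 1 → x ^ N = 1 → x = 1 := by
    intro x ha h1
    set u : R := (x : R) with hu
    have huN : u ^ N = 1 := by
      have := congrArg Units.val h1
      simpa using this
    have hgeom := geom_sum_mul u N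
    rw [huN, sub_self] at hgeom
    have hsum : IsUnit (∑ i ∈ Finset.range N, u ^ i) := by
      apply hunit_of
      rw [map_sum]
      simp only [map_pow, ha, one_pow, Finset.sum_const, Finset.card_range, nsmul_eq_mul, mul_one]
      exact hNk
    have hu1 : u - 1 = 0 := (hsum.mul_right_eq_zero).mp hgeom
    have hu1' : u = 1 := sub_eq_zero.mp hu1
    apply Units.ext
    rw [Units.val_one]
    exact hu1'
  refine bij_of_ses (k := ℤ) (G := G) φ ?_ ?_ ?_ n hn
  · intro b
    obtain ⟨x, hx⟩ := hs (Additive.toMul b)
    refine ⟨Additive.ofMul x, ?_⟩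
    have h := hφ x
    rw [hx] at h
    exact h
  · intro a ha
    obtain ⟨y, hy1, hyN⟩ := hd (Additive.toMul a) ((hkerU _).mp ha)
    exact ⟨Additive.ofMul y, (hkerU y).mpr hy1, congrArg Additive.ofMul hyN⟩
  · intro a ha haN
    have h := ht (Additive.toMul a) ((hkerU _).mp ha) haN
    exact congrArg Additive.ofMul h

end Groth.Agent.S19223
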