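import Groth.Statements.S19224
import Mathlib.RepresentationTheory.Homological.GroupCohomology.LowDegree
import Mathlib.RingTheory.RootsOfUnity.AlgebraicallyClosed
import Groth.Agent.Lib.Helper27.GrpCoh

set_option autoImplicit false
open GalCoh

namespace Groth.Agent.S19224

open CategoryTheory groupCohomology

section bridge
variable {Q : Type} [Group Q]

/-- `H²` vanishes if all 2-cocycles are coboundaries. -/
theorem subsingleton_H2_of (A : Rep.{0} ℤ Q)
    (h : ∀ x : cocycles₂ A, ⇑x ∈ coboundaries₂ A) : Subsingleton (groupCohomology A 2) := by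
  refine ⟨fun a b => ?_⟩
  have h0 : ∀ a : H2 A, a = 0 := by
    intro a
    induction a using H2_induction_on with
    | h x => exact (H2π_eq_zero_iff x).mpr (h x)
  rw [h0 a, h0 b]

/-- `|Q|` kills `H²`: `|Q| • f` is a coboundary for every 2-cocycle `f`. -/
theorem card_nsmul_mem_coboundaries₂ [Finite Q] (A : Rep.{0} ℤ Q) (x : cocycles₂ A) :
    (Nat.card Q) • (⇑x : Q × Q → A) ∈ coboundaries₂ A := by
  have key : ∀ (m : ℕ) (_ : m = 1 + 1) (y : groupCohomology A m), Nat.card Q • y = 0 := by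
    intro m hm
    subst hm
    exact Groth.Agent.Lib.Helper27.GrpCoh.card_nsmul_eq_zero A 1
  have h1 : (Nat.card Q) • (H2π A x) = 0 := key 2 rfl (H2π A x)
  rw [← map_nsmul] at h1
  have h2 := (H2π_eq_zero_iff ((Nat.card Q) • x)).mp h1
  exact h2

/-- Exactness in degree 3 from vanishing of `H³`. -/
theorem exists_of_H3 (A : Rep.{0} ℤ Q) (hQ : Subsingleton (groupCohomology A 3))
    (x₃ : (inhomogeneousCochains A).X 3) (hx : (inhomogeneousCochains A).d 3 4 x₃ = 0) :
    ∃ y₂ : (inhomogeneousCochains A).X 2, (inhomogeneousCochains A).d 2 3 y₂ = x₃ := by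
  have hz : Limits.IsZero ((inhomogeneousCochains A).homology 3) :=
    @ModuleCat.isZero_of_subsingleton _ _ _ hQ
  have hex : (inhomogeneousCochains A).ExactAt 3 :=
    (HomologicalComplex.exactAt_iff_isZero_homology _ _).mpr hz
  rw [HomologicalComplex.exactAt_iff' _ 2 3 4 (by simp) (by simp)] at hex
  rw [ShortComplex.moduleCat_exact_iff] at hex
  exact hex x₃ hx

theorem exists_d₂₃_eq (A : Rep.{0} ℤ Q) (hQ : Subsingleton (groupCohomology A 3))
    (htf : ∀ (N : ℤ) (a : A), N ≠ 0 → N • a = 0 → a = 0)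
    (N : ℤ) (hN : N ≠ 0) (c : Q × Q → A) (dd : Q × Q × Q → A)
    (h : (d₂₃ A).hom c = N • dd) : ∃ e : Q × Q → A, (d₂₃ A).hom e = dd := by
  let x₃ : (inhomogeneousCochains A).X 3 := (cochainsIso₃ A).inv.hom dd
  have e1 : ((inhomogeneousCochains A).d 2 3).hom ((cochainsIso₂ A).inv.hom c) = N • x₃ := by
    have h0 := congrArg (fun f => f.hom c) (eq_d₂₃_comp_inv A)
    simp only [ModuleCat.hom_comp, LinearMap.coe_comp, Function.comp_apply] at h0
    rw [h0, h, map_zsmul]
  have e2 : ((inhomogeneousCochains A).d 3 4).hom x₃ = 0 := by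
    have h1 : N • ((inhomogeneousCochains A).d 3 4).hom x₃ = 0 := by
      rw [← map_zsmul, ← e1, ← LinearMap.comp_apply, ← ModuleCat.hom_comp,
        HomologicalComplex.d_comp_d]
      rfl
    have h2 : ∀ v : (Fin 4 → Q) → A, N • v = 0 → v = 0 := by
      intro v hv
      funext g
      exact htf N (v g) hN (congrFun hv g)
    exact h2 _ h1
  obtain ⟨y₂, hy₂⟩ := exists_of_H3 A hQ x₃ e2
  refine ⟨(cochainsIso₂ A).hom.hom y₂, ?_⟩
  have h3 := congrArg (fun f => f.hom y₂) (comp_d₂₃_eq A)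
  simp only [ModuleCat.hom_comp, LinearMap.coe_comp, Function.comp_apply] at h3
  rw [h3]
  have h4 : ((inhomogeneousCochains A).d 2 3).hom y₂ = x₃ := hy₂
  rw [h4]
  change (cochainsIso₃ A).hom.hom ((cochainsIso₃ A).inv.hom dd) = dd
  rw [← LinearMap.comp_apply, ← ModuleCat.hom_comp, Iso.inv_hom_id]; rfl

end bridge


section key
variable {Q : Type} [Group Q] [Finite Q] (V : Type) [AddCommGroup V]

set_option quotPrecheck false in
local notation "AV" => (Rep.trivial ℤ Q V : Rep.{0} ℤ Q)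
set_option quotPrecheck false in
local notation "AZ" => (Rep.trivial ℤ Q ℤ : Rep.{0} ℤ Q)

theorem d₁₂_trivial (W : Type) [AddCommGroup W] (g : Q → W) (q : Q × Q) :
    (d₁₂ (Rep.trivial ℤ Q W : Rep.{0} ℤ Q)).hom g q = g q.2 - g (q.1 * q.2) + g q.1 := rfl

theorem d₂₃_trivial (W : Type) [AddCommGroup W] (f : Q × Q → W) (q : Q × Q × Q) :
    (d₂₃ (Rep.trivial ℤ Q W : Rep.{0} ℤ Q)).hom f q =
      f (q.2.1, q.2.2) - f (q.1 * q.2.1, q.2.2) + f (q.1, q.2.1 * q.2.2) - f (q.1, q.2.1) := rfl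

theorem key (hQ : Subsingleton (groupCohomology AZ 3)) (ω : V)
    (F1 : ∀ m : V, ∃ m' : V, (Nat.card Q : ℤ) • m' = m)
    (F2 : ∀ m : V, (Nat.card Q : ℤ) • m = 0 → ∃ c : ℤ, m = c • ω)
    (F3 : ∀ c : ℤ, c • ω = 0 → (Nat.card Q : ℤ) ∣ c)
    (F4 : (Nat.card Q : ℤ) • ω = 0) :
    Subsingleton (groupCohomology AV 2) := by
  classical
  set n := Nat.card Q with hn
  have hnpos : 0 < n := Nat.card_pos
  have hn0 : n ≠ 0 := hnpos.ne'
  have hnZ : (n : ℤ) ≠ 0 := by exact_mod_cast hn0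
  apply subsingleton_H2_of AV
  intro f
  -- Step 1
  obtain ⟨g₀, hg₀⟩ := card_nsmul_mem_coboundaries₂ AV f
  have hg₀' : ∀ q : Q × Q, g₀ q.2 - g₀ (q.1 * q.2) + g₀ q.1 = (n : ℤ) • (f q : V) := by
    intro q
    have := congrFun hg₀ q
    rw [d₁₂_trivial] at this
    rw [this, natCast_zsmul]
    rfl
  choose g hg using fun x => F1 (g₀ x)
  let ζ : Q × Q → V := fun q => (f q : V) - (g q.2 - g (q.1 * q.2) + g q.1)
  have hζn : ∀ q, (n : ℤ) • ζ q = 0 := by
    intro q
    change (n : ℤ) • ((f q : V) - (g q.2 - g (q.1 * q.2) + g q.1)) = 0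
    rw [smul_sub, smul_add, smul_sub, hg, hg, hg, hg₀', sub_self]
  have hfc : ∀ x y z : Q, (f (y, z) : V) - f (x * y, z) + f (x, y * z) - f (x, y) = 0 := by
    intro x y z
    have h1 : (d₂₃ AV).hom ⇑f = 0 := f.2
    have := congrFun h1 (x, y, z)
    rw [d₂₃_trivial] at this
    exact this
  have hζc : ∀ x y z : Q, ζ (y, z) - ζ (x * y, z) + ζ (x, y * z) - ζ (x, y) = 0 := by
    intro x y z
    have := hfc x y z
    change ((f (y, z) : V) - (g z - g (y * z) + g y)) - ((f (x * y, z) : V) - (g z - g (x * y * z) + g (x * y)))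
      + ((f (x, y * z) : V) - (g (y * z) - g (x * (y * z)) + g x)) - ((f (x, y) : V) - (g y - g (x * y) + g x)) = 0
    rw [mul_assoc]
    have e : ((f (y, z) : V) - (g z - g (y * z) + g y)) - ((f (x * y, z) : V) - (g z - g (x * (y * z)) + g (x * y)))
      + ((f (x, y * z) : V) - (g (y * z) - g (x * (y * z)) + g x)) - ((f (x, y) : V) - (g y - g (x * y) + g x))
      = (f (y, z) : V) - f (x * y, z) + f (x, y * z) - f (x, y) := by abel
    rw [e, this]
  -- Step 2
  choose c hc using fun q => F2 (ζ q) (hζn q)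
  -- Step 3
  have hdiv : ∀ q : Q × Q × Q, (n : ℤ) ∣
      (c (q.2.1, q.2.2) - c (q.1 * q.2.1, q.2.2) + c (q.1, q.2.1 * q.2.2) - c (q.1, q.2.1)) := by
    intro q
    apply F3
    have h1 := hζc q.1 q.2.1 q.2.2
    rw [hc, hc, hc, hc] at h1
    rw [← h1]
    simp only [sub_smul, add_smul]
  choose dd hdd using hdiv
  have hdd' : (d₂₃ AZ).hom (c : Q × Q → ℤ) = (n : ℤ) • (dd : Q × Q × Q → ℤ) := by
    funext q
    rw [d₂₃_trivial, hdd q]; rfl
  obtain ⟨e, he⟩ := exists_d₂₃_eq AZ hQ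
    (fun N a hN h => by
      rcases mul_eq_zero.mp (show N * a = 0 from h) with h' | h'
      · exact absurd h' hN
      · exact h') (n : ℤ) hnZ c dd hdd'
  let b : Q × Q → ℤ := fun q => c q - (n : ℤ) * e q
  have hb : b ∈ cocycles₂ AZ := by
    change (d₂₃ AZ).hom b = 0
    funext q
    rw [d₂₃_trivial]
    have h1 := congrFun he q
    rw [d₂₃_trivial] at h1
    change (c _ - (n : ℤ) * e _) - (c _ - (n : ℤ) * e _) + (c _ - (n : ℤ) * e _) - (c _ - (n : ℤ) * e _) = 0
    have h2 := hdd q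
    have h3 : (n : ℤ) * (e (q.2.1, q.2.2) - e (q.1 * q.2.1, q.2.2) + e (q.1, q.2.1 * q.2.2) - e (q.1, q.2.1))
        = (n : ℤ) * dd q := by rw [h1]
    linarith
  have hbζ : ∀ q, (b q : ℤ) • ω = ζ q := by
    intro q
    change ((c q : ℤ) - (n : ℤ) * (e q : ℤ)) • ω = ζ q
    rw [sub_smul, mul_comm, mul_smul, F4, smul_zero, sub_zero, ← hc]
  -- Step 4
  obtain ⟨h, hh⟩ := card_nsmul_mem_coboundaries₂ AZ ⟨b, hb⟩
  obtain ⟨ω', hω'⟩ := F1 ω
  have hh' : ∀ q : Q × Q, ((h q.2 : ℤ) - h (q.1 * q.2) + h q.1) = (n : ℤ) * b q := by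
    intro q
    have h1 := congrFun hh q
    rw [d₁₂_trivial] at h1
    rw [h1]
    change (n • b) q = _
    simp [nsmul_eq_mul]
  have hζ' : ∀ q : Q × Q, ζ q = (h q.2 : ℤ) • ω' - (h (q.1 * q.2) : ℤ) • ω' + (h q.1 : ℤ) • ω' := by
    intro q
    rw [← sub_smul, ← add_smul, hh', mul_comm, mul_smul, hω', hbζ]
  change ⇑f ∈ LinearMap.range (d₁₂ AV).hom
  refine ⟨fun x => (h x : ℤ) • ω' + g x, ?_⟩
  funext q
  rw [d₁₂_trivial]
  have h1 := hζ' q
  change (f q : V) - (g q.2 - g (q.1 * q.2) + g q.1) = _ at h1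
  have h2 : (f q : V) = ((h q.2 : ℤ) • ω' - (h (q.1 * q.2) : ℤ) • ω' + (h q.1 : ℤ) • ω')
      + (g q.2 - g (q.1 * q.2) + g q.1) := by
    rw [← h1]; abel
  rw [h2]; abel

end key

/-- Let Q be a finite group such that H^3(Q, ℤ) = 0 for the trivial action, and let k be a separably
closed field of characteristic p ≥ 0 with p not dividing the order of Q. Then H^2(Q, k^×) = 0, where
Q acts trivially on the units of k. (Groups and fields are taken in the lowest universe, as integral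
coefficients in the group-cohomology library require.) -/
theorem result (Q : Type) [Group Q] [Finite Q]
    (hQ : Subsingleton (groupCohomology (Rep.trivial ℤ Q ℤ) 3)) (k : Type) [Field k] [IsSepClosed k]
    (p : ℕ) [CharP k p] (hp : ¬ p ∣ Nat.card Q) :
    Subsingleton (groupCohomology (Rep.trivial ℤ Q (Additive kˣ)) 2) := by
  classical
  set n := Nat.card Q with hn
  have hnpos : 0 < n := Nat.card_pos
  have hn0 : n ≠ 0 := hnpos.ne'
  have hnn : NeZero n := ⟨hn0⟩
  have hnk : NeZero (n : k) := ⟨by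
    intro h0
    exact hp ((CharP.cast_eq_zero_iff k p n).mp h0)⟩
  obtain ⟨ω, hω⟩ := HasEnoughRootsOfUnity.exists_primitiveRoot k n
  set ωu : kˣ := (hω.isUnit hn0).unit with hωu
  have hωval : (ωu : k) = ω := IsUnit.unit_spec _
  have hωp : IsPrimitiveRoot ωu n := hω.isUnit_unit hn0
  have F1 : ∀ m : Additive kˣ, ∃ m' : Additive kˣ, (n : ℤ) • m' = m := by
    intro m
    obtain ⟨z, hz⟩ := IsSepClosed.exists_pow_nat_eq (((Additive.toMul m : kˣ) : k)) n
    have hz0 : z ≠ 0 := by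
      rintro rfl
      rw [zero_pow hn0] at hz
      exact (Additive.toMul m : kˣ).ne_zero hz.symm
    refine ⟨Additive.ofMul (Units.mk0 z hz0), ?_⟩
    rw [natCast_zsmul, ← ofMul_pow]
    have : (Units.mk0 z hz0) ^ n = (Additive.toMul m : kˣ) := by
      ext
      simpa using hz
    rw [this]; rfl
  have F2 : ∀ m : Additive kˣ, (n : ℤ) • m = 0 → ∃ c : ℤ, m = c • Additive.ofMul ωu := by
    intro m hm
    have h1 : (Additive.toMul m : kˣ) ^ n = 1 := by
      have := congrArg Additive.toMul hm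
      rw [natCast_zsmul] at this
      simpa using this
    have h1' : (((Additive.toMul m : kˣ) : k)) ^ n = 1 := by
      rw [← Units.val_pow_eq_pow_val, h1, Units.val_one]
    obtain ⟨i, -, hi⟩ := hω.eq_pow_of_pow_eq_one h1'
    refine ⟨(i : ℤ), ?_⟩
    rw [natCast_zsmul, ← ofMul_pow]
    have : ωu ^ i = (Additive.toMul m : kˣ) := by
      ext
      rw [Units.val_pow_eq_pow_val, hωval, hi]
    rw [this]; rfl
  have F3 : ∀ c : ℤ, c • Additive.ofMul ωu = 0 → (n : ℤ) ∣ c := by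
    intro c hc
    rw [← hωp.zpow_eq_one_iff_dvd]
    have := congrArg Additive.toMul hc
    simpa using this
  have F4 : (n : ℤ) • Additive.ofMul ωu = 0 := by
    rw [natCast_zsmul, ← ofMul_pow, hωp.pow_eq_one]; rfl
  exact key (Additive kˣ) hQ (Additive.ofMul ωu) F1 F2 F3 F4

end Groth.Agent.S19224
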