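import Groth.Statements.S1923
import Mathlib
import Groth.Agent.Lib.Helper22.InvStalk
import Groth.Agent.Lib.Helper22.FlatDiv
-- import your own Groth.Agent.* helpers here

set_option autoImplicit false
universe u
open CategoryTheory AlgebraicGeometry
open Cyc

namespace Groth.Agent.S1923

section PRE
open Groth.Agent.Lib.Helper22.InvStalk Groth.Agent.Lib.Helper22.OrdFlat
open Groth.Agent.Lib.Helper22.FlatDivAlg (ord_quot_eq)
open Groth.Agent.Lib.Helper22.FlatDiv (locQuot_conds)
open Groth.Agent.S6462 (ker_specMap_isPrime)
open IsLocalRing

variable {X : Scheme.{u}}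

lemma ker_specMap_generic [IsIntegral X] (x : X) (h : genericPoint X ⤳ x) :
    RingHom.ker (specMap x (genericPoint X) h) = ⊥ := by
  rw [eq_bot_iff]
  intro a ha
  have h1 : (X.residue (genericPoint X)).hom ((X.presheaf.stalkSpecializes h).hom a) = 0 := ha
  have hinj : Function.Injective (X.residue (genericPoint X)).hom :=
    RingHom.injective (R := X.functionField) _
  have h2 : (X.presheaf.stalkSpecializes h).hom a = 0 := by
    apply hinj
    rw [h1, map_zero]
  have h3 := IsFractionRing.injective (X.presheaf.stalk x) X.functionField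
  have h4 : algebraMap (X.presheaf.stalk x) X.functionField a = 0 := h2
  rw [← map_zero (algebraMap (X.presheaf.stalk x) X.functionField)] at h4
  exact h3 h4

lemma ordAt_integral [IsLocallyNoetherian X] (δ : X → ℤ) (hδ : Cyc.IsDimFun X δ) (x ξ : X)
    (h : ξ ⤳ x) (hd : δ x + 1 = δ ξ) (f : X.presheaf.stalk x)
    (hf : f ∉ RingHom.ker (specMap x ξ h)) :
    ordAt x ξ h (specMap x ξ h f) =
      ((Module.length (X.presheaf.stalk x) (X.presheaf.stalk x ⧸
        (RingHom.ker (specMap x ξ h) ⊔ Ideal.span {f}))).toNat : ℤ) := by
  have hA := locQuot_conds δ hδ x ξ h hd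
  haveI : (RingHom.ker (specMap x ξ h)).IsPrime := ker_specMap_isPrime _ _ _
  haveI : IsDomain (LocQuot x ξ h) := Ideal.Quotient.isDomain _
  have hnz : (Ideal.Quotient.mk (RingHom.ker (specMap x ξ h)) f) ∈
      nonZeroDivisors (LocQuot x ξ h) := by
    apply mem_nonZeroDivisors_of_ne_zero
    rw [Ne, Ideal.Quotient.eq_zero_iff_mem]
    exact hf
  have e : specMap x ξ h f = algebraMap (LocQuot x ξ h) (X.residueField ξ)
      (Ideal.Quotient.mk _ f) / algebraMap (LocQuot x ξ h) (X.residueField ξ) 1 := by
    rw [map_one, div_one]
    rfl
  unfold ordAt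
  rw [e, ordFrac_div hA _ 1 hnz (one_mem _), ord_quot_eq]
  have h1 : Ring.ord (LocQuot x ξ h) 1 = 0 := by
    unfold Ring.ord
    rw [Module.length_eq_zero_iff, Ideal.Quotient.subsingleton_iff,
      Ideal.span_singleton_eq_top]
    exact isUnit_one
  rw [h1]
  simp

theorem main (X : Scheme.{u}) [IsIntegral X] (δ : X → ℤ) (hX : Cyc.IsSetup X δ) (n : ℤ)
    (hn : δ (genericPoint X) = n) (L : X.Modules) (hL : PicF.IsInvertible L)
    (s : L.presheaf.obj (Opposite.op ⊤))
    (hs : (L.presheaf.germ ⊤ (genericPoint X) trivial) s ≠ 0) :
    Cyc.secDivFun δ L (genericPoint X)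
      (Submodule.Quotient.mk ((L.presheaf.germ ⊤ (genericPoint X) trivial) s)) =
      Cyc.zeroSectionFun δ (n - 1) L s := by
  haveI := hX.1
  have hδ := hX.2.2
  funext x
  have hsp : genericPoint X ⤳ x := genericPoint_specializes x
  unfold secDivFun zeroSectionFun
  by_cases hd : δ x = n - 1
  · have hd' : δ x + 1 = δ (genericPoint X) := by omega
    rw [dif_pos ⟨hsp, hd'⟩, if_pos hd]
    have ht := exists_gen hL x
    have hf : ∃ f : X.presheaf.stalk x,
        (L.presheaf.germ ⊤ x trivial) s = f • Classical.choose ht := by
      have : (L.presheaf.germ ⊤ x trivial) s ∈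
          Submodule.span (X.presheaf.stalk x) {Classical.choose ht} := by
        rw [Classical.choose_spec ht]; trivial
      obtain ⟨f, hf⟩ := Submodule.mem_span_singleton.mp this
      exact ⟨f, hf.symm⟩
    rw [dif_pos ht, dif_pos hf]
    have hb := isBasis_of_gen hL hsp (Classical.choose ht) (Classical.choose_spec ht)
    have hφ : ∃ φ : X.presheaf.stalk (genericPoint X),
        (Submodule.Quotient.mk ((L.presheaf.germ ⊤ (genericPoint X) trivial) s) :
          secFibre L (genericPoint X)) =
        φ • (Submodule.Quotient.mk ((L.presheaf.stalkSpecializes hsp) (Classical.choose ht)) :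
          secFibre L (genericPoint X)) := hb.1 _
    unfold secOrdAt
    rw [dif_pos ht, dif_pos hφ]
    have hfs := Classical.choose_spec hf
    have hφs := Classical.choose_spec hφ
    -- the germ at the generic point
    have hη : (L.presheaf.germ ⊤ (genericPoint X) trivial) s =
        (X.presheaf.stalkSpecializes hsp).hom (Classical.choose hf) •
          (L.presheaf.stalkSpecializes hsp).hom (Classical.choose ht) := by
      rw [← sp_smul, ← hfs, sp_germ]
    have key1 : (X.residue (genericPoint X)).hom (Classical.choose hφ) =
        specMap x (genericPoint X) hsp (Classical.choose hf) := by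
      have : Classical.choose hφ - (X.presheaf.stalkSpecializes hsp).hom (Classical.choose hf) ∈
          maximalIdeal (X.presheaf.stalk (genericPoint X)) := by
        apply hb.2
        rw [sub_smul, ← hφs, ← Submodule.Quotient.mk_smul, ← hη, sub_self]
      have h3 := (IsLocalRing.residue_eq_zero_iff _).mpr this
      have h4 : (X.residue (genericPoint X)).hom
          (Classical.choose hφ - (X.presheaf.stalkSpecializes hsp).hom (Classical.choose hf)) = 0 :=
        h3
      rw [map_sub, sub_eq_zero] at h4
      exact h4
    have hker := ker_specMap_generic x hsp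
    have hfne : Classical.choose hf ∉ RingHom.ker (specMap x (genericPoint X) hsp) := by
      rw [hker]
      intro h0
      apply hs
      rw [hη, (Ideal.mem_bot.mp h0), map_zero, zero_smul]
    rw [key1, ordAt_integral δ hδ x _ hsp hd' _ hfne, hker, bot_sup_eq]
  · have hd' : ¬ (genericPoint X ⤳ x ∧ δ x + 1 = δ (genericPoint X)) := by
      rintro ⟨-, h⟩
      apply hd
      omega
    rw [dif_neg hd', if_neg hd]

end PRE

/-- Let X be integral with δ(η) = n, L an invertible O_X-module and s a global section of L whose germ
at η is nonzero. Then div_L(s) = [Z(s)]_{n−1} as (n − 1)-cycles, where s is viewed as a rational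
section through its image in L(η). Here L(ξ) = L_ξ/𝔪_ξ L_ξ is the space of rational sections of L on
the closure of ξ, div_{L|W}(s) and c_1(L) ∩ α are computed as coefficient functions from chosen
nonzero rational sections (Cyc.secDivFun, Cyc.c1CapFun), and results are compared up to rational
equivalence for any cycles with those coefficients. A pair (X, δ) with Cyc.IsSetup plays the role of
a scheme locally of finite type over a fixed base with a dimension function (X locally Noetherian
with universally catenary local rings, δ a dimension function), and Cyc.DeltaCompat records that the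
dimension function upstairs is the induced one. -/
theorem result (X : Scheme.{u}) [IsIntegral X] (δ : X → ℤ) (hX : Cyc.IsSetup X δ) (n : ℤ) (hn : δ (genericPoint X) = n) (L : X.Modules) (hL : PicF.IsInvertible L) (s : L.presheaf.obj (Opposite.op ⊤)) (hs : (L.presheaf.germ ⊤ (genericPoint X) trivial) s ≠ 0) : Cyc.secDivFun δ L (genericPoint X) (Submodule.Quotient.mk ((L.presheaf.germ ⊤ (genericPoint X) trivial) s)) = Cyc.zeroSectionFun δ (n - 1) L s := by
  exact main X δ hX n hn L hL s hs

end Groth.Agent.S1923
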