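import Groth.Statements.S19238
import Mathlib
import Groth.Agent.Lib.Helper82.SigmaLocalFix
import Groth.Agent.Lib.Helper82.TruncWittSigma
import Groth.Agent.Lib.Helper82.SigmaLinAC
-- import your own Groth.Agent.* helpers here

set_option autoImplicit false
universe u v
open SigmaLin

namespace Groth.Agent.S19238

open Groth.Agent.Lib.Helper82 in
/-- generic version: `f` a surjective endomorphism of `k` satisfying (h2), (h3) with finite fixed field -/
private theorem finite_fix_aux (p : ℕ) [Fact p.Prime] (k : Type u) [Field k] [CharP k p] [PerfectRing k p]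
    {n : ℕ} (hn : 0 < n) (f : k →+* k) (hf : Function.Surjective f)
    (h2 : ∀ (m : ℕ) (b : Fin (m + 1) → k), b ≠ 0 →
      ∃ x : k, x ≠ 0 ∧ x = ∑ i : Fin (m + 1), (⇑f)^[i.val + 1] x * (⇑f)^[i.val] (b (Fin.rev i)))
    (h3 : ∀ c : k, ∃ y : k, f y - y + c = 0)
    (hfin : {a : k | f a = a}.Finite)
    (M : Type v) [AddCommGroup M] [Module (TruncatedWittVector p n k) M]
    [Module.Finite (TruncatedWittVector p n k) M]
    (T : M →ₛₗ[WittGrp.truncMap p n f] M) : {m : M | T m = m}.Finite := by
  classical
  letI := TruncWitt.isLocalRing p k hn
  obtain ⟨σbar, ρ, hρbij, hρres, hρσ, hσbarres, hsurj, h2', h3'⟩ :=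
    TruncWitt.exists_sigmaBar p k hn f hf h2 h3
  have hlift : ∀ x : IsLocalRing.ResidueField (TruncatedWittVector p n k), σbar x = x →
      ∃ r : TruncatedWittVector p n k, WittGrp.truncMap p n f r = r ∧
        IsLocalRing.residue _ r = x := by
    intro x hx
    have hfx : f (ρ x) = ρ x := by rw [← hρσ, hx]
    refine ⟨TruncatedWittVector.mk p (fun _ => ρ x), ?_, ?_⟩
    · apply TruncatedWittVector.ext
      intro i
      rw [WittGrp.coeff_truncMap, TruncatedWittVector.coeff_mk, hfx]
    · apply hρbij.1
      rw [hρres, TruncWitt.pi0_apply, TruncatedWittVector.coeff_mk]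
  have hfg := SigmaLocal.fixT_fg p (TruncatedWittVector p n k) (TruncWitt.maximalIdeal_eq p k hn) n
    (TruncWitt.natCast_p_pow_eq_zero p k) (WittGrp.truncMap p n f) σbar hσbarres hsurj h2' h3' hlift
    n M T (fun m => by rw [TruncWitt.natCast_p_pow_eq_zero p k, zero_smul])
  -- the fixed subring is finite
  have hSfin : ((RingHom.eqLocus (WittGrp.truncMap p n f)
      (RingHom.id (TruncatedWittVector p n k)) : Subring _) : Set (TruncatedWittVector p n k)).Finite := by
    have hpi : (Set.pi Set.univ (fun _ : Fin n => {a : k | f a = a})).Finite :=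
      Set.Finite.pi (fun _ => hfin)
    refine Set.Finite.subset (hpi.preimage (f := fun x : TruncatedWittVector p n k =>
      (fun i => x.coeff i)) ?_) ?_
    · intro x _ y _ hxy
      apply TruncatedWittVector.ext
      intro i
      exact congrFun hxy i
    · intro x hx
      simp only [Set.mem_preimage, Set.mem_pi, Set.mem_univ, true_implies, Set.mem_ofPred_eq]
      intro i
      have hx' : WittGrp.truncMap p n f x = x := hx
      have := congrArg (fun y => TruncatedWittVector.coeff i y) hx'
      simpa [WittGrp.coeff_truncMap] using this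
  haveI : Finite ↥(RingHom.eqLocus (WittGrp.truncMap p n f)
      (RingHom.id (TruncatedWittVector p n k))) := Set.finite_coe_iff.mpr hSfin
  haveI : Module.Finite ↥(RingHom.eqLocus (WittGrp.truncMap p n f)
      (RingHom.id (TruncatedWittVector p n k))) ↥(SigmaLocal.FixT (WittGrp.truncMap p n f) T) :=
    Module.Finite.iff_fg.mpr hfg
  haveI : Finite ↥(SigmaLocal.FixT (WittGrp.truncMap p n f) T) :=
    Module.finite_of_finite ↥(RingHom.eqLocus (WittGrp.truncMap p n f)
      (RingHom.id (TruncatedWittVector p n k)))
  exact Set.finite_coe_iff.mp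
    (inferInstance : Finite ↥(SigmaLocal.FixT (WittGrp.truncMap p n f) T))

private theorem finite_fix_frob (p : ℕ) [Fact p.Prime] (k : Type u) [Field k] [CharP k p] :
    {a : k | frobenius k p a = a}.Finite := by
  classical
  have hp : p.Prime := Fact.out
  have hne : (Polynomial.X ^ p - Polynomial.X : Polynomial k) ≠ 0 := by
    intro h
    have := congrArg (fun q => Polynomial.coeff q p) h
    simp [Polynomial.coeff_X_pow, Polynomial.coeff_X, hp.one_lt.ne] at this
  refine Set.Finite.subset (Polynomial.X ^ p - Polynomial.X : Polynomial k).roots.toFinset.finite_toSet ?_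
  intro a ha
  simp only [Finset.mem_coe, Multiset.mem_toFinset]
  rw [Polynomial.mem_roots hne]
  simp only [Polynomial.IsRoot.def, Polynomial.eval_sub, Polynomial.eval_pow, Polynomial.eval_X]
  have ha' : a ^ p = a := ha
  rw [ha', sub_self]

/-- Let k be an algebraically closed field of characteristic p > 0 and n a natural number; let M be a
finitely generated module over the ring W_n(k) of truncated Witt vectors and T : M → M an additive
map with T (c • m) = σ(c) • T m, where σ is either the Frobenius endomorphism of W_n(k) or its
inverse. Then the set of T-fixed elements of M is finite. (The printed statement says that the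
T-fixed elements form a finitely generated module over the σ-fixed subring of W_n(k), which is the
finite ring of integers modulo p^n.) -/
theorem result
    (p : ℕ) [Fact p.Prime] (k : Type u) [Field k] [CharP k p] [IsAlgClosed k] (n : ℕ)
    (σ : TruncatedWittVector p n k →+* TruncatedWittVector p n k)
    (hσ : σ = WittGrp.truncMap p n (frobenius k p) ∨
      σ = WittGrp.truncMap p n (frobeniusEquiv k p).symm.toRingHom)
    (M : Type v) [AddCommGroup M] [Module (TruncatedWittVector p n k) M] [Module.Finite (TruncatedWittVector p n k) M]
    (T : M →ₛₗ[σ] M) :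
    {m : M | T m = m}.Finite := by
  rcases Nat.eq_zero_or_pos n with hn0 | hn
  · subst hn0
    haveI : Subsingleton (TruncatedWittVector p 0 k) :=
      ⟨fun a b => TruncatedWittVector.ext (fun i => i.elim0)⟩
    haveI : Subsingleton M := Module.subsingleton (TruncatedWittVector p 0 k) M
    exact Set.toFinite _
  · rcases hσ with rfl | rfl
    · exact finite_fix_aux p k hn (frobenius k p) (bijective_frobenius k p).surjective
        (fun m b hb => Groth.Agent.Lib.Helper82.SigmaLinAC.h2_frob p k m b hb)
        (fun c => Groth.Agent.Lib.Helper82.SigmaLinAC.h3_frob p k c) (finite_fix_frob p k) M T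
    · refine finite_fix_aux p k hn (frobeniusEquiv k p).symm.toRingHom
        (frobeniusEquiv k p).symm.surjective
        (fun m b hb => Groth.Agent.Lib.Helper82.SigmaLinAC.h2_frobInv p k m b hb)
        (fun c => Groth.Agent.Lib.Helper82.SigmaLinAC.h3_frobInv p k c) ?_ M T
      refine Set.Finite.subset (finite_fix_frob p k) ?_
      intro a ha
      have ha' : (frobeniusEquiv k p).symm a = a := ha
      show frobenius k p a = a
      conv_lhs => rw [← ha']
      exact frobenius_apply_frobeniusEquiv_symm k p a

end Groth.Agent.S19238
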