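import Groth.Statements.S1925
import Mathlib
import Groth.Agent.Lib.Helper22.InvStalk
import Groth.Agent.Lib.Helper22.FlatDiv
import Groth.Agent.S1923
import Groth.Agent.S1833
-- import your own Groth.Agent.* helpers here

set_option autoImplicit false
universe u
open CategoryTheory AlgebraicGeometry
open Cyc

namespace Groth.Agent.S1925

section PRE
open Groth.Agent.Lib.Helper22.InvStalk Groth.Agent.Lib.Helper22.OrdFlat
open Groth.Agent.Lib.Helper22.FlatDivAlg (ord_quot_eq)
open Groth.Agent.Lib.Helper22.FlatDiv (locQuot_conds asIdeal_eq_ker pt_eq_self_iff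
  ker_specMap_eq_primeOf toNat_finset_sum)
open Groth.Agent.S6462 (ker_specMap_isPrime)
open Groth.Agent.S6459 (pt pt_specializes_iff pt_injective pt_closedPoint exists_pt_eq pt_specializes)
open Groth.Agent.Lib.Helper91.GenPrime (primeOf isLocalization_stalkSpecializes)
open Groth.Agent.S1923 (ordAt_integral)
open IsLocalRing TensorProduct Pointwise

lemma length_self_ringEquiv {R S : Type u} [CommRing R] [CommRing S] (e : R ≃+* S) :
    Module.length R R = Module.length S S := by
  algebraize [e.toRingHom]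
  have h1 : Module.length R S = Module.length S S :=
    Module.length_eq_of_surjective (S := R) (R := S) (M := S) e.surjective
  rw [← h1]
  let l : R ≃ₗ[R] S :=
    { e with
      map_smul' := fun r x => by
        show e (r * x) = (algebraMap R S r) * e x
        rw [map_mul]; rfl }
  exact l.length_eq

lemma len_loc_self {A : Type u} [CommRing A] (q : Ideal A) [q.IsPrime]
    (S : Type u) [CommRing S] [Algebra A S] [IsLocalization.AtPrime S q] :
    Module.length (Localization.AtPrime q) (LocalizedModule q.primeCompl A) =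
      Module.length S S := by
  have hb : IsBaseChange (Localization.AtPrime q)
      (LocalizedModule.mkLinearMap q.primeCompl A) :=
    IsLocalizedModule.isBaseChange q.primeCompl (Localization.AtPrime q) _
  have e1 := hb.equiv.length_eq
  have e2 := (TensorProduct.AlgebraTensorModule.rid A (Localization.AtPrime q)
    (Localization.AtPrime q)).length_eq
  rw [← e1, e2]
  exact length_self_ringEquiv
    (IsLocalization.algEquiv q.primeCompl (Localization.AtPrime q) S).toRingEquiv

lemma smul_top_eq_span {A : Type u} [CommRing A] (f : A) :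
    f • (⊤ : Submodule A A) = Ideal.span {f} := by
  ext z
  rw [Submodule.mem_smul_pointwise_iff_exists, Ideal.mem_span_singleton']
  constructor
  · rintro ⟨w, -, rfl⟩
    exact ⟨w, mul_comm _ _⟩
  · rintro ⟨a, rfl⟩
    exact ⟨a, trivial, mul_comm _ _⟩

variable {Y : Scheme.{u}}

lemma gen_iff (δ : Y → ℤ) (hδ : Cyc.IsDimFun Y δ) (k : ℤ) (hdim : ∀ y : Y, δ y ≤ k + 1) (y : Y)
    (hy : δ y = k) (ξ : Y) (h : ξ ⤳ y) : ξ ≠ y ↔ δ ξ = k + 1 := by
  constructor
  · intro hne
    have h1 := (hδ ξ y h hne).1
    have h2 := hdim ξ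
    omega
  · rintro h1 rfl
    omega

lemma prime_min (δ : Y → ℤ) (hδ : Cyc.IsDimFun Y δ) (k : ℤ) (hdim : ∀ y : Y, δ y ≤ k + 1)
    (y : Y) (hy : δ y = k) (p : PrimeSpectrum (Y.presheaf.stalk y))
    (hp : p.asIdeal ≠ maximalIdeal (Y.presheaf.stalk y)) :
    p.asIdeal ∈ minimalPrimes (Y.presheaf.stalk y) := by
  refine ⟨⟨p.2, bot_le⟩, fun J hJ hle => ?_⟩
  have hqp : (⟨J, hJ.1⟩ : PrimeSpectrum (Y.presheaf.stalk y)) ≤ p := hle
  have h1 : pt y ⟨J, hJ.1⟩ ⤳ pt y p := (pt_specializes_iff y _ p).mpr hqp
  have hpne : pt y p ≠ y := fun h => hp ((pt_eq_self_iff y p).mp h)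
  have d1 : δ (pt y p) = k + 1 :=
    (gen_iff δ hδ k hdim y hy (pt y p) (pt_specializes y p)).mp hpne
  by_contra hne
  have hne' : pt y ⟨J, hJ.1⟩ ≠ pt y p := by
    intro h
    apply hne
    have := pt_injective y h
    rw [← this]
  have h2 := (hδ _ _ h1 hne').1
  have h3 := hdim (pt y ⟨J, hJ.1⟩)
  omega

lemma dim_le_one (δ : Y → ℤ) (hδ : Cyc.IsDimFun Y δ) (k : ℤ) (hdim : ∀ y : Y, δ y ≤ k + 1)
    (y : Y) (hy : δ y = k) : Ring.KrullDimLE 1 (Y.presheaf.stalk y) := by
  rw [Ring.krullDimLE_one_iff]
  intro I hI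
  by_cases h : I = maximalIdeal (Y.presheaf.stalk y)
  · right
    rw [h]
    exact IsLocalRing.maximalIdeal.isMaximal _
  · left
    exact prime_min δ hδ k hdim y hy ⟨I, hI⟩ h

lemma len_loc_pt (y ξ : Y) (h' : ξ ⤳ y) (q : Ideal (Y.presheaf.stalk y)) [q.IsPrime]
    (hq : q = primeOf h') :
    Module.length (Localization.AtPrime q) (LocalizedModule q.primeCompl (Y.presheaf.stalk y)) =
      Module.length (Y.presheaf.stalk ξ) (Y.presheaf.stalk ξ) := by
  subst hq
  letI alg := (Y.presheaf.stalkSpecializes h').hom.toAlgebra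
  haveI := isLocalization_stalkSpecializes h'
  exact len_loc_self (primeOf h') (Y.presheaf.stalk ξ)

theorem key [IsLocallyNoetherian Y] (δ : Y → ℤ) (hδ : Cyc.IsDimFun Y δ) (k : ℤ)
    (hdim : ∀ y : Y, δ y ≤ k + 1) (y : Y) (hy : δ y = k) (f : Y.presheaf.stalk y)
    (hreg : ∀ a : Y.presheaf.stalk y, a * f = 0 → a = 0)
    (hf : ∀ (ξ : Y) (h : ξ ⤳ y), δ ξ = k + 1 → f ∉ RingHom.ker (specMap y ξ h)) :
    ((Module.length (Y.presheaf.stalk y) (Y.presheaf.stalk y ⧸ Ideal.span {f})).toNat : ℤ) =
      ∑ᶠ p ∈ {p : PrimeSpectrum (Y.presheaf.stalk y) |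
          p.asIdeal ≠ maximalIdeal (Y.presheaf.stalk y)},
        ((Module.length (Y.presheaf.stalk (pt y p)) (Y.presheaf.stalk (pt y p))).toNat : ℤ) *
          ((Module.length (Y.presheaf.stalk y)
            (Y.presheaf.stalk y ⧸ (p.asIdeal ⊔ Ideal.span {f}))).toNat : ℤ) := by
  classical
  haveI : IsNoetherianRing (Y.presheaf.stalk y) := inferInstance
  haveI hK := dim_le_one δ hδ k hdim y hy
  have hfnz : f ∈ nonZeroDivisors (Y.presheaf.stalk y) := by
    rw [mem_nonZeroDivisors_iff]
    refine ⟨fun a ha => hreg a (by rw [mul_comm]; exact ha), fun a ha => hreg a ha⟩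
  -- primes containing f are maximal
  have hfp : ∀ p : PrimeSpectrum (Y.presheaf.stalk y),
      p.asIdeal ≠ maximalIdeal (Y.presheaf.stalk y) → f ∉ p.asIdeal := by
    intro p hp hfp
    have hpne : pt y p ≠ y := fun h => hp ((pt_eq_self_iff y p).mp h)
    have d1 : δ (pt y p) = k + 1 :=
      (gen_iff δ hδ k hdim y hy (pt y p) (pt_specializes y p)).mp hpne
    apply hf (pt y p) (pt_specializes y p) d1
    rw [← asIdeal_eq_ker y p (pt y p) (pt_specializes y p) rfl]
    exact hfp
  have h1 : Module.supportDim (Y.presheaf.stalk y) (Y.presheaf.stalk y) ≤ 1 := by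
    rw [Module.supportDim_self_eq_ringKrullDim]
    exact (Ring.krullDimLE_iff).mp hK
  have h0 : Module.supportDim (Y.presheaf.stalk y)
      (Y.presheaf.stalk y ⧸ f • (⊤ : Submodule (Y.presheaf.stalk y) (Y.presheaf.stalk y))) ≤ 0 := by
    unfold Module.supportDim
    have hss : Subsingleton (Module.support (Y.presheaf.stalk y)
        (Y.presheaf.stalk y ⧸ f • (⊤ : Submodule (Y.presheaf.stalk y) (Y.presheaf.stalk y)))) := by
      constructor
      rintro ⟨q1, hq1⟩ ⟨q2, hq2⟩
      rw [smul_top_eq_span, Module.support_eq_zeroLocus, Ideal.annihilator_quotient,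
        PrimeSpectrum.mem_zeroLocus] at hq1 hq2
      apply Subtype.ext
      have a1 : f ∈ q1.asIdeal := hq1 (Ideal.mem_span_singleton_self _)
      have a2 : f ∈ q2.asIdeal := hq2 (Ideal.mem_span_singleton_self _)
      have b1 : q1.asIdeal = maximalIdeal _ := by
        by_contra h; exact hfp q1 h a1
      have b2 : q2.asIdeal = maximalIdeal _ := by
        by_contra h; exact hfp q2 h a2
      exact PrimeSpectrum.ext (b1.trans b2.symm)
    exact Order.krullDim_nonpos_of_subsingleton
  have hmain := Groth.Agent.S1833.result (Y.presheaf.stalk y) (Y.presheaf.stalk y) f h1 h0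
  have hker : LinearMap.ker (LinearMap.lsmul (Y.presheaf.stalk y) (Y.presheaf.stalk y) f) = ⊥ := by
    rw [LinearMap.ker_eq_bot]
    intro a b hab
    have h2 : f * a = f * b := hab
    have h3 : (a - b) * f = 0 := by
      rw [sub_mul, mul_comm a, mul_comm b, h2, sub_self]
    exact sub_eq_zero.mp (hreg _ h3)
  rw [hker, Module.length_bot, zero_add] at hmain
  -- rewrite the index set
  have hset : ∀ p : PrimeSpectrum (Y.presheaf.stalk y),
      (p ∈ Module.support (Y.presheaf.stalk y) (Y.presheaf.stalk y) ∧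
        p.asIdeal ≠ maximalIdeal (Y.presheaf.stalk y)) ↔
      p ∈ {p : PrimeSpectrum (Y.presheaf.stalk y) |
          p.asIdeal ≠ maximalIdeal (Y.presheaf.stalk y)} := by
    intro p
    constructor
    · exact fun h => h.2
    · intro h
      refine ⟨?_, h⟩
      rw [Module.support_eq_zeroLocus, PrimeSpectrum.mem_zeroLocus]
      intro a ha
      have : a = 0 := by
        have := (Module.mem_annihilator.mp ha) 1
        simpa using this
      rw [this]
      exact p.asIdeal.zero_mem
  have hmain2 : Module.length (Y.presheaf.stalk y) (Y.presheaf.stalk y ⧸ Ideal.span {f}) =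
      ∑ᶠ p ∈ {p : PrimeSpectrum (Y.presheaf.stalk y) |
          p.asIdeal ≠ maximalIdeal (Y.presheaf.stalk y)},
        Module.length (Y.presheaf.stalk y) (Y.presheaf.stalk y ⧸ (p.asIdeal ⊔ Ideal.span {f})) *
          Module.length (Y.presheaf.stalk (pt y p)) (Y.presheaf.stalk (pt y p)) := by
    rw [smul_top_eq_span] at hmain
    rw [hmain]
    apply finsum_congr
    intro p
    apply finsum_congr_Prop (propext (hset p))
    intro hp
    rw [ord_quot_eq]
    congr 1
    have h' : pt y p ⤳ y := pt_specializes y p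
    have hp1 : p.asIdeal = primeOf h' := by
      rw [asIdeal_eq_ker y p (pt y p) h' rfl, ker_specMap_eq_primeOf]
    exact len_loc_pt y (pt y p) h' p.asIdeal hp1
  -- finiteness
  have hsfin : {p : PrimeSpectrum (Y.presheaf.stalk y) |
      p.asIdeal ≠ maximalIdeal (Y.presheaf.stalk y)}.Finite := by
    have hfin := minimalPrimes.finite_of_isNoetherianRing (Y.presheaf.stalk y)
    refine (hfin.preimage (f := PrimeSpectrum.asIdeal) ?_).subset ?_
    · intro a _ b _ hab
      exact PrimeSpectrum.ext hab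
    · intro p hp
      exact prime_min δ hδ k hdim y hy p hp
  rw [finsum_mem_eq_finite_toFinset_sum _ hsfin] at hmain2 ⊢
  have hlhs : Module.length (Y.presheaf.stalk y) (Y.presheaf.stalk y ⧸ Ideal.span {f}) ≠ ⊤ :=
    Ring.ord_ne_top hfnz
  have hterms := (WithTop.sum_ne_top).mp (hmain2 ▸ hlhs)
  have h3 := congrArg ENat.toNat hmain2
  rw [toNat_finset_sum _ _ hterms] at h3
  simp only [ENat.toNat_mul] at h3
  have h4 := congrArg (fun n : ℕ => (n : ℤ)) h3
  simp only [Nat.cast_mul, Nat.cast_sum] at h4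
  rw [h4]
  apply Finset.sum_congr rfl
  intro p _
  rw [mul_comm]

/-- the order of a global section, computed through the chosen generator of `L_y`. -/
lemma secOrdAt_global {L : Y.Modules} (hL : PicF.IsInvertible L)
    (s : L.presheaf.obj (Opposite.op ⊤)) {ξ y : Y} (hsp : ξ ⤳ y)
    (ht : ∃ t : L.presheaf.stalk y, Submodule.span (Y.presheaf.stalk y) {t} = ⊤)
    (hf : ∃ f : Y.presheaf.stalk y, (L.presheaf.germ ⊤ y trivial) s = f • Classical.choose ht) :
    secOrdAt L ξ y hsp (Submodule.Quotient.mk ((L.presheaf.germ ⊤ ξ trivial) s)) =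
      ordAt y ξ hsp (specMap y ξ hsp (Classical.choose hf)) ∧
    (L.presheaf.germ ⊤ ξ trivial) s =
        (Y.presheaf.stalkSpecializes hsp).hom (Classical.choose hf) •
          (L.presheaf.stalkSpecializes hsp).hom (Classical.choose ht) := by
  have hb := isBasis_of_gen hL hsp (Classical.choose ht) (Classical.choose_spec ht)
  have hφ : ∃ φ : Y.presheaf.stalk ξ,
      (Submodule.Quotient.mk ((L.presheaf.germ ⊤ ξ trivial) s) : secFibre L ξ) =
      φ • (Submodule.Quotient.mk ((L.presheaf.stalkSpecializes hsp) (Classical.choose ht)) :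
        secFibre L ξ) := hb.1 _
  have hfs := Classical.choose_spec hf
  have hφs := Classical.choose_spec hφ
  have hη : (L.presheaf.germ ⊤ ξ trivial) s =
      (Y.presheaf.stalkSpecializes hsp).hom (Classical.choose hf) •
        (L.presheaf.stalkSpecializes hsp).hom (Classical.choose ht) := by
    rw [← sp_smul, ← hfs, sp_germ]
  refine ⟨?_, hη⟩
  unfold secOrdAt
  rw [dif_pos ht, dif_pos hφ]
  have key1 : (Y.residue ξ).hom (Classical.choose hφ) =
      specMap y ξ hsp (Classical.choose hf) := by
    have : Classical.choose hφ - (Y.presheaf.stalkSpecializes hsp).hom (Classical.choose hf) ∈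
        maximalIdeal (Y.presheaf.stalk ξ) := by
      apply hb.2
      rw [sub_smul, ← hφs, ← Submodule.Quotient.mk_smul, ← hη, sub_self]
    have h3 := (IsLocalRing.residue_eq_zero_iff _).mpr this
    have h4 : (Y.residue ξ).hom
        (Classical.choose hφ - (Y.presheaf.stalkSpecializes hsp).hom (Classical.choose hf)) = 0 :=
      h3
    rw [map_sub, sub_eq_zero] at h4
    exact h4
  rw [key1]

theorem main (Y : Scheme.{u}) (δ : Y → ℤ) (hY : Cyc.IsSetup Y δ) (L : Y.Modules)
    (hL : PicF.IsInvertible L) (k : ℤ) (hdim : ∀ y : Y, δ y ≤ k + 1)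
    (s : L.presheaf.obj (Opposite.op ⊤))
    (hZ : ∀ y : Y, (L.presheaf.germ ⊤ y trivial) s ∈ IsLocalRing.maximalIdeal (Y.presheaf.stalk y) •
      (⊤ : Submodule (Y.presheaf.stalk y) (L.presheaf.stalk y)) → δ y ≤ k)
    (hreg : ∀ y : Y, δ y = k → Function.Injective
      (fun a : Y.presheaf.stalk y => a • (L.presheaf.germ ⊤ y trivial) s)) :
    Cyc.zeroSectionFun δ k L s = Cyc.c1CapFun δ L (Cyc.subschemeFun δ (k + 1) (𝟙 Y))
      (fun ξ => Submodule.Quotient.mk ((L.presheaf.germ ⊤ ξ trivial) s)) := by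
  haveI := hY.1
  have hδ := hY.2.2
  funext y
  unfold c1CapFun
  by_cases hy : δ y = k
  · have ht := exists_gen hL y
    have hfex : ∃ f : Y.presheaf.stalk y,
        (L.presheaf.germ ⊤ y trivial) s = f • Classical.choose ht := by
      have : (L.presheaf.germ ⊤ y trivial) s ∈
          Submodule.span (Y.presheaf.stalk y) {Classical.choose ht} := by
        rw [Classical.choose_spec ht]; trivial
      obtain ⟨f, hf⟩ := Submodule.mem_span_singleton.mp this
      exact ⟨f, hf.symm⟩
    unfold zeroSectionFun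
    rw [if_pos hy, dif_pos ht, dif_pos hfex]
    have hfs := Classical.choose_spec hfex
    have hreg' : ∀ a : Y.presheaf.stalk y, a * Classical.choose hfex = 0 → a = 0 := by
      intro a ha
      apply hreg y hy
      show a • (L.presheaf.germ ⊤ y trivial) s = (0 : Y.presheaf.stalk y) • _
      rw [hfs, smul_smul, ha, zero_smul, zero_smul]
    have hf' : ∀ (ξ : Y) (h : ξ ⤳ y), δ ξ = k + 1 →
        Classical.choose hfex ∉ RingHom.ker (specMap y ξ h) := by
      intro ξ h dξ hmem
      have h1 := hZ ξ ?_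
      · omega
      · rw [(secOrdAt_global hL s h ht hfex).2]
        refine Submodule.smul_mem_smul ?_ (Submodule.mem_top)
        rw [← IsLocalRing.residue_eq_zero_iff]
        exact hmem
    rw [key δ hδ k hdim y hy _ hreg' hf']
    -- the right hand side
    have hsupp : (Function.support fun ξ : Y => subschemeFun δ (k + 1) (𝟙 Y) ξ *
        secDivFun δ L ξ (Submodule.Quotient.mk ((L.presheaf.germ ⊤ ξ trivial) s)) y) ⊆
        {ξ : Y | ξ ⤳ y ∧ ξ ≠ y} := by
      intro ξ hξ
      have h0 : subschemeFun δ (k + 1) (𝟙 Y) ξ *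
        secDivFun δ L ξ (Submodule.Quotient.mk ((L.presheaf.germ ⊤ ξ trivial) s)) y ≠ 0 := hξ
      have h2 := right_ne_zero_of_mul h0
      unfold secDivFun at h2
      by_cases hc : ξ ⤳ y ∧ δ y + 1 = δ ξ
      · refine ⟨hc.1, ?_⟩
        rintro rfl
        omega
      · rw [dif_neg hc] at h2
        exact absurd rfl h2
    have hrhs : (∑ᶠ ξ : Y, subschemeFun δ (k + 1) (𝟙 Y) ξ *
        secDivFun δ L ξ (Submodule.Quotient.mk ((L.presheaf.germ ⊤ ξ trivial) s)) y) =
        ∑ᶠ ξ ∈ {ξ : Y | ξ ⤳ y ∧ ξ ≠ y}, subschemeFun δ (k + 1) (𝟙 Y) ξ *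
        secDivFun δ L ξ (Submodule.Quotient.mk ((L.presheaf.germ ⊤ ξ trivial) s)) y := by
      rw [finsum_mem_def, Set.indicator_eq_self.mpr hsupp]
    rw [hrhs]
    apply finsum_mem_eq_of_bijOn (pt y)
    · refine ⟨?_, ?_, ?_⟩
      · intro p hp
        exact ⟨pt_specializes y p, fun h => hp ((pt_eq_self_iff y p).mp h)⟩
      · intro a _ b _ hab
        exact pt_injective y hab
      · rintro ξ ⟨h1, h2⟩
        obtain ⟨p, hp⟩ := exists_pt_eq y ξ h1
        refine ⟨p, ?_, hp⟩
        intro hmax
        apply h2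
        rw [← hp]
        exact (pt_eq_self_iff y p).mpr hmax
    · intro p hp
      have h' : pt y p ⤳ y := pt_specializes y p
      have hpne : pt y p ≠ y := fun h => hp ((pt_eq_self_iff y p).mp h)
      have dξ : δ (pt y p) = k + 1 := (gen_iff δ hδ k hdim y hy (pt y p) h').mp hpne
      have hd' : δ y + 1 = δ (pt y p) := by omega
      have hsub : subschemeFun δ (k + 1) (𝟙 Y) (pt y p) =
          ((Module.length (Y.presheaf.stalk (pt y p)) (Y.presheaf.stalk (pt y p))).toNat : ℤ) := by
        unfold subschemeFun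
        rw [if_pos dξ]
        have : {z : Y | (𝟙 Y : Y ⟶ Y) z = pt y p} = {pt y p} := by
          ext z
          simp
        rw [this, finsum_mem_singleton]
      have hdiv : secDivFun δ L (pt y p)
          (Submodule.Quotient.mk ((L.presheaf.germ ⊤ (pt y p) trivial) s)) y =
          ((Module.length (Y.presheaf.stalk y)
            (Y.presheaf.stalk y ⧸ (p.asIdeal ⊔ Ideal.span {Classical.choose hfex}))).toNat : ℤ) := by
        unfold secDivFun
        rw [dif_pos ⟨h', hd'⟩, (secOrdAt_global hL s h' ht hfex).1,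
          ordAt_integral δ hδ y (pt y p) h' hd' _ (hf' (pt y p) h' dξ),
          ← asIdeal_eq_ker y p (pt y p) h' rfl]
      rw [hsub, hdiv]
  · have hz : ∀ ξ : Y, subschemeFun δ (k + 1) (𝟙 Y) ξ *
        secDivFun δ L ξ (Submodule.Quotient.mk ((L.presheaf.germ ⊤ ξ trivial) s)) y = 0 := by
      intro ξ
      unfold subschemeFun secDivFun
      by_cases h1 : δ ξ = k + 1
      · rw [dif_neg (by rintro ⟨-, h⟩; apply hy; omega), mul_zero]
      · rw [if_neg h1, zero_mul]
    unfold zeroSectionFun
    rw [if_neg hy]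
    simp only [hz, finsum_zero]

end PRE

/-- Let L be an invertible O_Y-module and s a global section of L; assume δ ≤ k + 1 on Y, δ ≤ k on the
zero locus of s, and multiplication by the germ of s injective on O_{Y,ξ} at the points ξ of
δ-dimension k. Writing [Y]_{k+1} = Σ n_i[Y_i] over the irreducible components of δ-dimension k + 1,
one has [Z(s)]_k = Σ n_i [Z(s|_{Y_i})]_k as k-cycles on Y; here the right side is computed as c_1(L)
∩ [Y]_{k+1} with the rational sections induced by s. Here L(ξ) = L_ξ/𝔪_ξ L_ξ is the space of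
rational sections of L on the closure of ξ, div_{L|W}(s) and c_1(L) ∩ α are computed as coefficient
functions from chosen nonzero rational sections (Cyc.secDivFun, Cyc.c1CapFun), and results are
compared up to rational equivalence for any cycles with those coefficients. A pair (X, δ) with
Cyc.IsSetup plays the role of a scheme locally of finite type over a fixed base with a dimension
function (X locally Noetherian with universally catenary local rings, δ a dimension function), and
Cyc.DeltaCompat records that the dimension function upstairs is the induced one. -/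
theorem result (Y : Scheme.{u}) (δ : Y → ℤ) (hY : Cyc.IsSetup Y δ) (L : Y.Modules) (hL : PicF.IsInvertible L) (k : ℤ) (hdim : ∀ y : Y, δ y ≤ k + 1) (s : L.presheaf.obj (Opposite.op ⊤)) (hZ : ∀ y : Y, (L.presheaf.germ ⊤ y trivial) s ∈ IsLocalRing.maximalIdeal (Y.presheaf.stalk y) • (⊤ : Submodule (Y.presheaf.stalk y) (L.presheaf.stalk y)) → δ y ≤ k) (hreg : ∀ y : Y, δ y = k → Function.Injective (fun a : Y.presheaf.stalk y => a • (L.presheaf.germ ⊤ y trivial) s)) : Cyc.zeroSectionFun δ k L s = Cyc.c1CapFun δ L (Cyc.subschemeFun δ (k + 1) (𝟙 Y)) (fun ξ => Submodule.Quotient.mk ((L.presheaf.germ ⊤ ξ trivial) s)) := by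
  exact main Y δ hY L hL k hdim s hZ hreg

end Groth.Agent.S1925
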