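import Groth.Statements.S1924
import Mathlib
import Groth.Agent.Lib.Helper22.ClosedCap
import Groth.Agent.S1925
-- import your own Groth.Agent.* helpers here

set_option autoImplicit false
universe u
open CategoryTheory AlgebraicGeometry
open Cyc

namespace Groth.Agent.S1924

section PRE
open Groth.Agent.Lib.Helper22.InvStalk Groth.Agent.Lib.Helper22.OrdFlat
open Groth.Agent.Lib.Helper22.TensorOrd Groth.Agent.Lib.Helper22.PullC1
open Groth.Agent.Lib.Helper22.ClosedC1 Groth.Agent.Lib.Helper22.ClosedRat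
open Groth.Agent.Lib.Helper22.ClosedCap
open Groth.Agent.Lib.Helper22.C1Indep (c1Cap_indep)
open Groth.Agent.Lib.QCoh (isInvertible_pullback)

lemma subschemeFun_closedImm_apply {X Y : Scheme.{u}} (ι : Y ⟶ X) [IsClosedImmersion ι]
    (δ : X → ℤ) (k : ℤ) (y : Y) :
    subschemeFun δ k ι (ι y) = subschemeFun (fun y => δ (ι y)) k (𝟙 Y) y := by
  unfold subschemeFun
  have h1 : {z : Y | ι z = ι y} = {y} := by
    ext z
    simp only [Set.mem_setOf_eq, Set.mem_singleton_iff]
    exact ⟨fun h => ci_injective ι h, fun h => by rw [h]⟩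
  have h2 : {z : Y | (𝟙 Y : Y ⟶ Y) z = y} = {y} := by
    ext z
    simp
  rw [h1, h2]

lemma subschemeFun_notMem {X Y : Scheme.{u}} (ι : Y ⟶ X) (δ : X → ℤ) (k : ℤ) (x : X)
    (hx : x ∉ Set.range ι) : subschemeFun δ k ι x = 0 := by
  unfold subschemeFun
  have h1 : {z : Y | ι z = x} = ∅ := by
    ext z
    simp only [Set.mem_setOf_eq, Set.mem_empty_iff_false, iff_false]
    exact fun h => hx ⟨z, h⟩
  rw [h1, finsum_mem_empty, ite_self]

theorem main (X Y : Scheme.{u}) (δ : X → ℤ) (hX : Cyc.IsSetup X δ) (L : X.Modules) (hL : PicF.IsInvertible L) (ι : Y ⟶ X) [IsClosedImmersion ι] (k : ℤ) (hY : ∀ y : Y, δ (ι y) ≤ k + 1) (s : ((Scheme.Modules.pullback ι).obj L).presheaf.obj (Opposite.op ⊤)) (hZ : ∀ y : Y, (((Scheme.Modules.pullback ι).obj L).presheaf.germ ⊤ y trivial) s ∈ IsLocalRing.maximalIdeal (Y.presheaf.stalk y) • (⊤ : Submodule (Y.presheaf.stalk y) (((Scheme.Modules.pullback ι).obj L).presheaf.stalk y)) → δ (ι y) ≤ k) (hreg : ∀ y : Y, δ (ι y) = k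 → Function.Injective (fun a : Y.presheaf.stalk y => a • (((Scheme.Modules.pullback ι).obj L).presheaf.germ ⊤ y trivial) s)) (v : (ξ : X) → Cyc.secFibre L ξ) (hv : ∀ ξ, v ξ ≠ 0) (γ : AlgebraicCycle X ℤ) (hγ : ⇑γ = Cyc.c1CapFun δ L (Cyc.subschemeFun δ (k + 1) ι) v) (ζ : AlgebraicCycle Y ℤ) (hζ : ⇑ζ = Cyc.zeroSectionFun (fun y => δ (ι y)) k ((Scheme.Modules.pullback ι).obj L) s) : Cyc.RatEquiv δ k γ (AlgebraicCycle.map ι (fun y => δ (ι y)) δ ζ) := by
  classical
  haveI := hX.1
  have hδ := hX.2.2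
  have hYs : Cyc.IsSetup Y (fun y => δ (ι y)) := isSetup_closedImm ι δ hX
  haveI : IsLocallyNoetherian Y := hYs.1
  have hδY := hYs.2.2
  have hL' : PicF.IsInvertible ((Scheme.Modules.pullback ι).obj L) := isInvertible_pullback ι hL
  have e25 := Groth.Agent.S1925.result Y (fun y => δ (ι y)) hYs ((Scheme.Modules.pullback ι).obj L)
    hL' k hY s hZ hreg
  obtain ⟨F, hF, hFk⟩ := exists_fundCycle Y (fun y => δ (ι y)) hδY (k + 1) hY
  choose s' hs' using fun ξ' => exists_pullSection ι hL v ξ'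
  have hs'0 : ∀ ξ', s' ξ' ≠ 0 := fun ξ' => pullSection_ne_zero ι hL v s' hs' ξ' (hv _)
  let σs : (ξ : Y) → secFibre ((Scheme.Modules.pullback ι).obj L) ξ := fun ξ =>
    Submodule.Quotient.mk ((((Scheme.Modules.pullback ι).obj L).presheaf.germ ⊤ ξ trivial) s)
  let σ' : (ξ : Y) → secFibre ((Scheme.Modules.pullback ι).obj L) ξ := fun ξ =>
    if σs ξ ≠ 0 then σs ξ else s' ξ
  have hσ'0 : ∀ ξ, σ' ξ ≠ 0 := by
    intro ξ
    show (if σs ξ ≠ 0 then σs ξ else s' ξ) ≠ 0
    split_ifs with h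
    · exact h
    · exact hs'0 ξ
  have hσeq : c1CapFun (fun y => δ (ι y)) ((Scheme.Modules.pullback ι).obj L) (⇑F) σ' =
      c1CapFun (fun y => δ (ι y)) ((Scheme.Modules.pullback ι).obj L) (⇑F) σs := by
    funext y
    unfold Cyc.c1CapFun
    refine finsum_congr fun ξ => ?_
    by_cases hFξ : F ξ = 0
    · rw [hFξ, zero_mul, zero_mul]
    · have hk : δ (ι ξ) = k + 1 := by
        by_contra h
        exact hFξ (hFk ξ h)
      have hne : σs ξ ≠ 0 := by
        intro h0
        have := hZ ξ ((Submodule.Quotient.mk_eq_zero _).mp h0)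
        omega
      have : σ' ξ = σs ξ := if_pos hne
      rw [this]
  obtain ⟨J, ξ', f', hξ', hf', hlf', hsum'⟩ :=
    c1Cap_indep (fun y => δ (ι y)) hδY hL' k F hFk s' σ' hs'0 hσ'0
  obtain ⟨ξ, f, hξ, hf, hlf, hsum, hsum0⟩ := exists_push_family ι δ hδ k ξ' f' hξ' hf' hlf'
  refine ⟨J, ξ, f, hξ, hf, hlf, fun x => ?_⟩
  rw [Function.locallyFinsuppWithin.coe_sub]
  show γ x - (AlgebraicCycle.map ι (fun y => δ (ι y)) δ ζ) x = _
  have hA0 : ∀ x, x ∉ Set.range ι → subschemeFun δ (k + 1) ι x = 0 :=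
    fun x hx => subschemeFun_notMem ι δ (k + 1) x hx
  by_cases hx : x ∈ Set.range ι
  · obtain ⟨y, rfl⟩ := hx
    rw [map_closedImm_apply ι δ ζ y, hsum y, ← hsum' y, hσeq]
    have eζ : ζ y = c1CapFun (fun y => δ (ι y)) ((Scheme.Modules.pullback ι).obj L) (⇑F) σs y := by
      rw [hζ, e25, hF]
    have eγ : γ (ι y) =
        c1CapFun (fun y => δ (ι y)) ((Scheme.Modules.pullback ι).obj L) (⇑F) s' y := by
      rw [hγ]
      exact c1Cap_closedImm ι δ hδ hL v s' hs' (subschemeFun δ (k + 1) ι) (⇑F)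
        (fun d => by rw [hF]; exact subschemeFun_closedImm_apply ι δ (k + 1) d) hA0 y
    rw [eζ, eγ]
  · rw [map_closedImm_notMem ι δ ζ x hx, hsum0 x hx, hγ, c1Cap_notMem ι δ v _ hA0 x hx, sub_zero]

end PRE

/-- Let L be invertible on X, ι : Y → X a closed immersion with δ ≤ k + 1 on Y, and s a global section
of L|_Y = ι^*L such that the points of its zero locus have δ ≤ k and, at every such point ξ with
δ(ξ) = k, multiplication by the germ of s is injective on O_{Y,ξ}. Then c_1(L) ∩ [Y]_{k+1} ∼_rat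
ι_*[Z(s)]_k as k-cycles on X (for any nonzero rational sections used to compute the left side and
any cycle on Y with the coefficients of [Z(s)]_k). Here L(ξ) = L_ξ/𝔪_ξ L_ξ is the space of rational
sections of L on the closure of ξ, div_{L|W}(s) and c_1(L) ∩ α are computed as coefficient functions
from chosen nonzero rational sections (Cyc.secDivFun, Cyc.c1CapFun), and results are compared up to
rational equivalence for any cycles with those coefficients. A pair (X, δ) with Cyc.IsSetup plays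
the role of a scheme locally of finite type over a fixed base with a dimension function (X locally
Noetherian with universally catenary local rings, δ a dimension function), and Cyc.DeltaCompat
records that the dimension function upstairs is the induced one. -/
theorem result (X Y : Scheme.{u}) (δ : X → ℤ) (hX : Cyc.IsSetup X δ) (L : X.Modules) (hL : PicF.IsInvertible L) (ι : Y ⟶ X) [IsClosedImmersion ι] (k : ℤ) (hY : ∀ y : Y, δ (ι y) ≤ k + 1) (s : ((Scheme.Modules.pullback ι).obj L).presheaf.obj (Opposite.op ⊤)) (hZ : ∀ y : Y, (((Scheme.Modules.pullback ι).obj L).presheaf.germ ⊤ y trivial) s ∈ IsLocalRing.maximalIdeal (Y.presheaf.stalk y) • (⊤ : Submodule (Y.presheaf.stalk y) (((Scheme.Modules.pullback ι).obj L).presheaf.stalk y)) → δ (ι y) ≤ k) (hreg : ∀ y : Y, δ (ι y) = k → Function.Injective (fun a : Y.presheaf.stalk y => a • (((Scheme.Modules.pullback ι).obj L).presheaf.germ ⊤ y trivial) s)) (v : (ξ : X) → Cyc.secFibre L ξ) (hv : ∀ ξ, v ξ ≠ 0) (γ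 : AlgebraicCycle X ℤ) (hγ : ⇑γ = Cyc.c1CapFun δ L (Cyc.subschemeFun δ (k + 1) ι) v) (ζ : AlgebraicCycle Y ℤ) (hζ : ⇑ζ = Cyc.zeroSectionFun (fun y => δ (ι y)) k ((Scheme.Modules.pullback ι).obj L) s) : Cyc.RatEquiv δ k γ (AlgebraicCycle.map ι (fun y => δ (ι y)) δ ζ) := by
  exact main X Y δ hX L hL ι k hY s hZ hreg v hv γ hγ ζ hζ

end Groth.Agent.S1924
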