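import Groth.Statements.S19258
import Mathlib.GroupTheory.FiniteAbelian.Duality
-- import your own Groth.Agent.* helpers here

set_option autoImplicit false
universe u
open PontDual

namespace Groth.Agent.S19258

/-- `Multiplicative (ℚ/ℤ)` has enough roots of unity. -/
theorem hasEnough (n : ℕ) (hn : 0 < n) :
    HasEnoughRootsOfUnity (Multiplicative (AddCircle (1 : ℚ))) n where
  prim := by
    refine ⟨Multiplicative.ofAdd ((((1 : ℚ) / (n : ℚ) : ℚ)) : AddCircle (1 : ℚ)), ?_⟩
    have h := IsPrimitiveRoot.orderOf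
      (Multiplicative.ofAdd ((((1 : ℚ) / (n : ℚ) : ℚ)) : AddCircle (1 : ℚ)))
    rwa [orderOf_ofAdd_eq_addOrderOf, AddCircle.addOrderOf_period_div hn] at h
  cyc := by
    refine ⟨⟨⟨toUnits (Multiplicative.ofAdd ((((1 : ℚ) / (n : ℚ) : ℚ)) : AddCircle (1 : ℚ))), ?_⟩,
      ?_⟩⟩
    · rw [mem_rootsOfUnity]
      apply Units.ext
      simp only [Units.val_pow_eq_pow_val, val_toUnits_apply, Units.val_one]
      rw [← ofAdd_nsmul, ← AddCircle.coe_nsmul]
      have : (n • ((1 : ℚ) / (n : ℚ)) : ℚ) = 1 := by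
        rw [nsmul_eq_mul]; field_simp
      rw [this, AddCircle.coe_period]; rfl
    · rintro ⟨x, hx⟩
      rw [mem_rootsOfUnity] at hx
      have hx' : n • (Multiplicative.toAdd (x : Multiplicative (AddCircle (1 : ℚ)))) = 0 := by
        have := congrArg Units.val hx
        simp only [Units.val_pow_eq_pow_val, Units.val_one] at this
        exact this
      obtain ⟨m, -, hm⟩ := (AddCircle.nsmul_eq_zero_iff hn).mp hx'
      refine ⟨(m : ℤ), ?_⟩
      apply Subtype.ext
      apply Units.ext
      simp only [zpow_natCast, SubgroupClass.coe_pow, Units.val_pow_eq_pow_val, val_toUnits_apply]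
      rw [← ofAdd_nsmul, ← AddCircle.coe_nsmul]
      have : (m • ((1 : ℚ) / (n : ℚ)) : ℚ) = (m : ℚ) / (n : ℚ) * 1 := by
        rw [nsmul_eq_mul]; ring
      rw [this, hm]; rfl

theorem card_char (A : Type u) [AddCommGroup A] [Finite A] :
    Nat.card (A →+ AddCircle (1 : ℚ)) = Nat.card A := by
  have hne : 0 < Monoid.exponent (Multiplicative A) :=
    Nat.pos_of_ne_zero Monoid.exponent_ne_zero_of_finite
  have := hasEnough _ hne
  have h := CommGroup.card_monoidHom_of_hasEnoughRootsOfUnity (Multiplicative A)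
    (Multiplicative (AddCircle (1 : ℚ)))
  have e : (A →+ AddCircle (1 : ℚ)) ≃
      (Multiplicative A →* (Multiplicative (AddCircle (1 : ℚ)))ˣ) :=
    AddMonoidHom.toMultiplicative.trans (MulEquiv.monoidHomCongrRight toUnits).toEquiv
  rw [Nat.card_congr e, h]
  exact Nat.card_congr Multiplicative.toAdd

theorem result
    (G : Type u) (G' : Type u) [AddCommGroup G] [AddCommGroup G'] (hG' : IsAddTorsion G')
    (β : G' →+ (G →+ AddCircle (1 : ℚ))) (hβ : Function.Injective β)
    (χ : G →+ AddCircle (1 : ℚ))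
    (hχ : @Continuous G (AddCircle (1 : ℚ)) (⨅ f' : G', TopologicalSpace.induced (fun x : G => β f' x) ⊥) ⊥ χ) :
    ∃ f' : G', β f' = χ := by
  classical
  -- Step 1: a finite set `I` of `G'` with `⋂_{i ∈ I} ker (β i) ⊆ ker χ`.
  have h1 : ∃ I : Set G', I.Finite ∧ ∀ g : G, (∀ i ∈ I, β i g = 0) → χ g = 0 := by
    have hopen : @IsOpen G (⨅ f' : G', TopologicalSpace.induced (fun x : G => β f' x) ⊥)
        (χ ⁻¹' {0}) :=
      @IsOpen.preimage _ _ (⨅ f' : G', TopologicalSpace.induced (fun x : G => β f' x) ⊥) ⊥ _ hχ _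
        (@isOpen_discrete (AddCircle (1 : ℚ)) ⊥ (discreteTopology_bot _) {0})
    have hmem := @IsOpen.mem_nhds G (⨅ f' : G', TopologicalSpace.induced (fun x : G => β f' x) ⊥)
      (0 : G) _ hopen (by simp)
    rw [nhds_iInf] at hmem
    obtain ⟨I, hI, V, hV, hVeq⟩ := Filter.mem_iInf.mp hmem
    refine ⟨I, hI, fun g hg => ?_⟩
    have hgV : g ∈ ⋂ i, V i := by
      refine Set.mem_iInter.mpr fun i => ?_
      have hVi := hV i
      rw [@nhds_induced _ _ ⊥, @nhds_discrete (AddCircle (1 : ℚ)) ⊥ (discreteTopology_bot _)] at hVi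
      obtain ⟨t, ht, hts⟩ := Filter.mem_comap.mp hVi
      apply hts
      have h0 : (β (i : G')) (0 : G) ∈ t := ht
      simpa [hg i i.2] using h0
    rw [← hVeq] at hgV
    simpa using hgV
  obtain ⟨I, hI, hIχ⟩ := h1
  -- Step 2: the finite subgroup `H` generated by `I`.
  let H : AddSubgroup G' := AddSubgroup.closure I
  have : AddGroup.FG H :=
    (AddGroup.fg_iff_addSubgroup_fg H).mpr ((AddSubgroup.fg_iff H).mpr ⟨I, rfl, hI⟩)
  have : Finite H := AddCommGroup.finite_of_fg_isAddTorsion H (hG'.addSubgroup H)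
  have hcH := card_char H
  have : Finite (H →+ AddCircle (1 : ℚ)) :=
    Nat.finite_of_card_ne_zero (by rw [hcH]; exact Nat.card_pos.ne')
  -- Step 3: the pairing map `Φ : G → Hom(H, ℚ/ℤ)` and the quotient `A = G / ker Φ`.
  let Φ : G →+ (H →+ AddCircle (1 : ℚ)) :=
    { toFun := fun g =>
        { toFun := fun h => β (h : G') g
          map_zero' := by simp
          map_add' := fun a b => by simp }
      map_zero' := by ext h; simp
      map_add' := fun a b => by ext h; simp }
  have hΦ : ∀ g h, Φ g h = β (h : G') g := fun _ _ => rfl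
  let N : AddSubgroup G := Φ.ker
  have hNβ : ∀ h : H, N ≤ (β (h : G')).ker := by
    intro h g hg
    have : Φ g = 0 := hg
    rw [AddMonoidHom.mem_ker, ← hΦ, this]; rfl
  have hNχ : N ≤ χ.ker := by
    intro g hg
    have hg0 : Φ g = 0 := hg
    refine hIχ g fun i hi => ?_
    have := hΦ g ⟨i, AddSubgroup.subset_closure hi⟩
    rw [hg0] at this
    exact this.symm
  have hAinj : Function.Injective (QuotientAddGroup.kerLift Φ) :=
    QuotientAddGroup.kerLift_injective Φ
  have : Finite (G ⧸ N) := Finite.of_injective _ hAinj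
  have hcA := card_char (G ⧸ N)
  have : Finite ((G ⧸ N) →+ AddCircle (1 : ℚ)) :=
    Nat.finite_of_card_ne_zero (by rw [hcA]; exact Nat.card_pos.ne')
  -- Step 4: `Ψ : H → Hom(A, ℚ/ℤ)` is injective, hence bijective by counting.
  let Ψ : H → ((G ⧸ N) →+ AddCircle (1 : ℚ)) := fun h =>
    QuotientAddGroup.lift N (β (h : G')) (hNβ h)
  have hΨ : Function.Injective Ψ := by
    intro h h' hh
    apply Subtype.ext
    apply hβ
    ext g
    have := DFunLike.congr_fun hh (QuotientAddGroup.mk g)
    simpa [Ψ] using this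
  have hle1 : Nat.card (G ⧸ N) ≤ Nat.card H := by
    rw [← hcH]
    exact Nat.card_le_card_of_injective _ hAinj
  have hbij : Function.Bijective Ψ := by
    refine hΨ.bijective_of_nat_card_le ?_
    rw [hcA]
    exact hle1
  obtain ⟨h, hh⟩ := hbij.2 (QuotientAddGroup.lift N χ hNχ)
  refine ⟨(h : G'), ?_⟩
  ext g
  have := DFunLike.congr_fun hh (QuotientAddGroup.mk g)
  simpa [Ψ] using this

end Groth.Agent.S19258
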