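import Groth.Statements.S19264
import Mathlib
import Groth.Agent.Lib.Helper82.WittFilNF
-- import your own Groth.Agent.* helpers here

set_option autoImplicit false
universe u
open WittFil

namespace Groth.Agent.S19264

/-- Let A be a unique factorisation domain of characteristic p, x_1, …, x_r pairwise non-associate prime
elements of A, B = A[1/(x_1⋯x_r)] with u_i the unit of B defined by x_i, n ∈ ℤ^r and m ≥ 0. The
restriction map from truncated p-typical Witt vectors of length m+1 to those of length m over B
(forgetting the last coordinate) maps the filtered piece cut out by ∏ u_i ^ n_i onto the filtered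
piece cut out by ∏ u_i ^ ⌊n_i / p⌋; that is, the image is exactly that piece. (The other parts of
the exact sequence, injectivity of the (m-fold) Verschiebung from the fractional ideal generated by
(∏ u_i ^ n_i)⁻¹ and exactness in the middle, are immediate from the definition and are not restated.
The published setting is a regular local ring; only unique factorisation is used.) -/
theorem result (p : ℕ) [Fact p.Prime] {A B : Type u} [CommRing A] [IsDomain A]
    [UniqueFactorizationMonoid A] [CharP A p] [CommRing B] [Algebra A B] {r : ℕ} (x : Fin r → A)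
    (hx : ∀ i, Prime (x i)) (hxa : ∀ i j, Associated (x i) (x j) → i = j)
    [IsLocalization.Away (∏ i, x i) B] (u : Fin r → Bˣ)
    (hu : ∀ i, (u i : B) = algebraMap A B (x i)) (n : Fin r → ℤ) (m : ℕ) :
    (TruncatedWittVector.truncate (Nat.le_succ m)) '' WittFil.fil p (m + 1) (A := A) (WittFil.zmon u n) =
      WittFil.fil p m (A := A) (WittFil.zmon u (fun i => n i / (p : ℤ))) := by
  have hp0 : (0 : ℤ) < (p : ℤ) := by exact_mod_cast (Fact.out : p.Prime).pos
  have hpow : ∀ j : ℕ, j < m → p ^ (m + 1 - 1 - j) = p * p ^ (m - 1 - j) := by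
    intro j hj
    rw [← pow_succ']
    congr 1
    omega
  ext z
  constructor
  · rintro ⟨y, hy, rfl⟩
    intro j
    rw [TruncatedWittVector.coeff_truncate]
    have h := hy (Fin.castLE (Nat.le_succ m) j)
    rw [Fin.val_castLE, hpow j j.2] at h
    rcases Groth.Agent.Lib.Helper82.WittFilNF.nf x hx u hu
      (TruncatedWittVector.coeff (Fin.castLE (Nat.le_succ m) j) y) with h0 | ⟨k, c, hc, hk⟩
    · rw [h0, zero_pow (pow_ne_zero _ (Fact.out : p.Prime).ne_zero), zero_mul]
      exact ⟨0, map_zero _⟩
    · rw [hk, Groth.Agent.Lib.Helper82.WittFilNF.pow_mul_mem_iff x hx hxa u hu k c hc] at h ⊢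
      intro i
      have h1 := h i
      push_cast at h1 ⊢
      have h2 : -(k i * (p : ℤ) ^ (m - 1 - (j : ℕ))) ≤ n i / (p : ℤ) := by
        apply Int.le_ediv_of_mul_le hp0
        nlinarith
      linarith
  · intro hz
    refine ⟨TruncatedWittVector.mk p
      (fun j : Fin (m + 1) => if h : (j : ℕ) < m then TruncatedWittVector.coeff ⟨j, h⟩ z else 0),
      ?_, ?_⟩
    · intro j
      rw [TruncatedWittVector.coeff_mk]
      split_ifs with h
      · have hz' := hz ⟨j, h⟩
        rw [hpow j h]
        rcases Groth.Agent.Lib.Helper82.WittFilNF.nf x hx u hu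
          (TruncatedWittVector.coeff ⟨j, h⟩ z) with h0 | ⟨k, c, hc, hk⟩
        · rw [h0, zero_pow (Nat.mul_ne_zero (Fact.out : p.Prime).ne_zero
            (pow_ne_zero _ (Fact.out : p.Prime).ne_zero)), zero_mul]
          exact ⟨0, map_zero _⟩
        · rw [hk, Groth.Agent.Lib.Helper82.WittFilNF.pow_mul_mem_iff x hx hxa u hu k c hc] at hz' ⊢
          intro i
          have h1 := hz' i
          push_cast at h1 ⊢
          have h2 : n i / (p : ℤ) * (p : ℤ) ≤ n i := Int.ediv_mul_le _ hp0.ne'
          nlinarith
      · rw [zero_pow (pow_ne_zero _ (Fact.out : p.Prime).ne_zero), zero_mul]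
        exact ⟨0, map_zero _⟩
    · apply TruncatedWittVector.ext
      intro j
      rw [TruncatedWittVector.coeff_truncate, TruncatedWittVector.coeff_mk, Fin.val_castLE,
        dif_pos j.2]

end Groth.Agent.S19264
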