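import Groth.Statements.S19266
import Mathlib
import Groth.Agent.Lib.Helper60.WittSqZero
import Groth.Agent.Lib.Helper82.WittFilIso
-- import your own Groth.Agent.* helpers here

set_option autoImplicit false
universe u
open WittFil

namespace Groth.Agent.S19266

/-- Let A be a unique factorisation domain of characteristic p, x_1, …, x_r pairwise non-associate prime
elements of A, B = A[1/(x_1⋯x_r)] with u_i the unit of B defined by x_i, n ∈ ℤ^r, m ≥ 0 and c = ∏
u_i ^ n_i. A truncated p-typical Witt vector a of length m over B lies in the filtered piece cut out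
by c ^ (p ^ (m-1)) if and only if all coordinates of the product a · [c] lie in A, where [c] denotes
the (truncated) Teichmüller representative of c; in other words that filtered piece is the
invertible module [c]⁻¹ · W_m(A). (Published for a regular local ring; only unique factorisation is
used.) -/
theorem result (p : ℕ) [Fact p.Prime] {A B : Type u} [CommRing A] [IsDomain A]
    [UniqueFactorizationMonoid A] [CharP A p] [CommRing B] [Algebra A B] {r : ℕ} (x : Fin r → A)
    (hx : ∀ i, Prime (x i)) (hxa : ∀ i j, Associated (x i) (x j) → i = j)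
    [IsLocalization.Away (∏ i, x i) B] (u : Fin r → Bˣ)
    (hu : ∀ i, (u i : B) = algebraMap A B (x i)) (n : Fin r → ℤ) (m : ℕ)
    (a : TruncatedWittVector p m B) :
    a ∈ WittFil.fil p m (A := A) ((WittFil.zmon u n) ^ (p ^ (m - 1))) ↔
      ∀ j : Fin m, TruncatedWittVector.coeff j
          (a * WittVector.truncate m (WittVector.teichmuller p (WittFil.zmon u n))) ∈
        (algebraMap A B).range := by
  classical
  have hs : (∏ i, x i) ≠ 0 := Finset.prod_ne_zero_iff.mpr (fun i _ => (hx i).ne_zero)
  have hT : ∀ (z : B) (N : ℕ), 0 < N → z ^ N ∈ (algebraMap A B).range → z ∈ (algebraMap A B).range :=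
    fun z N hN h => Groth.Agent.Lib.Helper82.WittFilIso.mem_range_of_pow_mem_range (∏ i, x i) hs z N hN h
  have key : ∀ (v : B) (j : Fin m),
      TruncatedWittVector.coeff j (a * WittVector.truncate m (WittVector.teichmuller p v)) =
        TruncatedWittVector.coeff j a * v ^ p ^ (j : ℕ) := by
    intro v j
    have e : a * WittVector.truncate m (WittVector.teichmuller p v) =
        WittVector.truncate m (a.out * WittVector.teichmuller p v) := by
      rw [map_mul]
      congr 1
      exact (TruncatedWittVector.truncateFun_out a).symm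
    rw [e, WittVector.coeff_truncate, Groth.Agent.Lib.Helper60.WittSqZero.mul_teichmuller_coeff,
      TruncatedWittVector.coeff_out]
  have hpow : ∀ (j : Fin m), p ^ (j : ℕ) * p ^ (m - 1 - (j : ℕ)) = p ^ (m - 1) := by
    intro j
    rw [← pow_add]; congr 1; have := j.2; omega
  have hz : ∀ j : Fin m, (TruncatedWittVector.coeff j a * (WittFil.zmon u n) ^ p ^ (j : ℕ)) ^
      p ^ (m - 1 - (j : ℕ)) =
      (TruncatedWittVector.coeff j a) ^ p ^ (m - 1 - (j : ℕ)) * (WittFil.zmon u n) ^ p ^ (m - 1) := by
    intro j
    rw [mul_pow, ← pow_mul, hpow j]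
  constructor
  · intro ha j
    rw [key]
    apply hT _ (p ^ (m - 1 - (j : ℕ))) (pow_pos (Fact.out : p.Prime).pos _)
    rw [hz j]
    exact ha j
  · intro h j
    have := h j
    rw [key] at this
    change (TruncatedWittVector.coeff j a) ^ p ^ (m - 1 - (j : ℕ)) * (WittFil.zmon u n) ^ p ^ (m - 1) ∈
      (algebraMap A B).range
    rw [← hz j]
    exact Subring.pow_mem _ this _

end Groth.Agent.S19266
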