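import Groth.Statements.S19267
import Mathlib
import Groth.Agent.Lib.Helper60.WittSqZero
-- import your own Groth.Agent.* helpers here

set_option autoImplicit false
universe u
open WittFil

namespace Groth.Agent.S19267

/-- Let A → B be a homomorphism of commutative rings, u a unit of B, m ≥ 0 and n, l integers. For an
element c of B call the filtered piece cut out by c the set of truncated p-typical Witt vectors of
length m over B whose j-th coordinate y_j satisfies: y_j ^ (p ^ (m-1-j)) · c lies in the image of A,
for every j < m. Then the piece cut out by u ^ (n − p^(m−1)·l) is exactly the image of the piece cut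
out by u ^ n under multiplication by the truncated Teichmüller representative [u ^ l]. (The
published case is B = S[[π]][1/π] over A = S[[π]] with u = π; the computation is the same in
general.) -/
theorem result (p : ℕ) [Fact p.Prime] {A B : Type u}
    [CommRing A] [CommRing B] [Algebra A B] (m : ℕ) (u : Bˣ) (n l : ℤ) :
    WittFil.fil p m (A := A) ((u ^ (n - (p : ℤ) ^ (m - 1) * l) : Bˣ) : B) =
      (fun a => WittVector.truncate m (WittVector.teichmuller p ((u ^ l : Bˣ) : B)) * a) ''
        WittFil.fil p m (A := A) ((u ^ n : Bˣ) : B) := by
  classical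
  -- coefficient formula for multiplication by a truncated Teichmüller representative
  have key : ∀ (v : B) (a : TruncatedWittVector p m B) (j : Fin m),
      TruncatedWittVector.coeff j (WittVector.truncate m (WittVector.teichmuller p v) * a) =
        TruncatedWittVector.coeff j a * v ^ p ^ (j : ℕ) := by
    intro v a j
    have e : WittVector.truncate m (WittVector.teichmuller p v) * a =
        WittVector.truncate m (a.out * WittVector.teichmuller p v) := by
      rw [map_mul, mul_comm]
      congr 1
      exact (TruncatedWittVector.truncateFun_out a).symm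
    rw [e, WittVector.coeff_truncate, Groth.Agent.Lib.Helper60.WittSqZero.mul_teichmuller_coeff,
      TruncatedWittVector.coeff_out]
  have hpow : ∀ (j : Fin m), p ^ (j : ℕ) * p ^ (m - 1 - (j : ℕ)) = p ^ (m - 1) := by
    intro j
    rw [← pow_add]; congr 1; have := j.2; omega
  -- the key membership transfer
  have transfer : ∀ (l' n' : ℤ) (a : TruncatedWittVector p m B),
      a ∈ WittFil.fil p m (A := A) ((u ^ n' : Bˣ) : B) →
      WittVector.truncate m (WittVector.teichmuller p ((u ^ l' : Bˣ) : B)) * a ∈
        WittFil.fil p m (A := A) ((u ^ (n' - (p : ℤ) ^ (m - 1) * l') : Bˣ) : B) := by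
    intro l' n' a ha j
    rw [key, mul_pow, ← pow_mul, hpow j, mul_assoc]
    have : (((u ^ l' : Bˣ) : B)) ^ p ^ (m - 1) * ((u ^ (n' - (p : ℤ) ^ (m - 1) * l') : Bˣ) : B) =
        ((u ^ n' : Bˣ) : B) := by
      rw [← Units.val_pow_eq_pow_val, ← Units.val_mul]
      congr 1
      rw [← zpow_natCast, ← zpow_mul, ← zpow_add]
      congr 1
      push_cast
      ring
    rw [this]
    exact ha j
  apply Set.eq_of_subset_of_subset
  · intro b hb
    refine ⟨WittVector.truncate m (WittVector.teichmuller p ((u ^ (-l) : Bˣ) : B)) * b, ?_, ?_⟩
    · have := transfer (-l) (n - (p : ℤ) ^ (m - 1) * l) b hb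
      have e : n - (p : ℤ) ^ (m - 1) * l - (p : ℤ) ^ (m - 1) * (-l) = n := by ring
      rwa [e] at this
    · change WittVector.truncate m (WittVector.teichmuller p ((u ^ l : Bˣ) : B)) *
        (WittVector.truncate m (WittVector.teichmuller p ((u ^ (-l) : Bˣ) : B)) * b) = b
      rw [← mul_assoc, ← map_mul, ← map_mul, ← Units.val_mul, ← zpow_add, add_neg_cancel, zpow_zero,
        Units.val_one, map_one, map_one, one_mul]
  · rintro _ ⟨a, ha, rfl⟩
    exact transfer l n a ha

end Groth.Agent.S19267
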