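import Groth.Statements.S19268
import Mathlib
import Groth.Agent.Lib.Helper60.WittSqZero
import Groth.Agent.Lib.Helper82.WittFilIso
-- import your own Groth.Agent.* helpers here

set_option autoImplicit false
universe u
open WittFil

namespace Groth.Agent.S19268

section wittgeneral

variable (p : ℕ) [hp : Fact p.Prime]

open WittVector in
/-- coordinates of `vShiftTeich`. -/
theorem coeff_vShiftTeich {S B : Type*} [CommRing S] [CommRing B] [Algebra S B]
    (m s : ℕ) (v : B) (c : WittVector p S) (j : Fin m) :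
    (WittFil.vShiftTeich p m s v c).coeff j =
      if (j : ℕ) < s then 0 else algebraMap S B (c.coeff (j - s)) * v ^ p ^ ((j : ℕ) - s) := by
  unfold WittFil.vShiftTeich
  rw [WittVector.coeff_truncate]
  split_ifs with h
  · exact WittVector.iterate_verschiebung_coeff_eq_zero _ h
  · obtain ⟨k, hk⟩ : ∃ k, (j : ℕ) = k + s := ⟨j - s, by omega⟩
    rw [hk, WittVector.iterate_verschiebung_coeff, Nat.add_sub_cancel,
      Groth.Agent.Lib.Helper60.WittSqZero.mul_teichmuller_coeff, WittVector.map_coeff]

theorem vShiftTeich_add {S B : Type*} [CommRing S] [CommRing B] [Algebra S B]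
    (m s : ℕ) (v : B) (c c' : WittVector p S) :
    WittFil.vShiftTeich p m s v (c + c') =
      WittFil.vShiftTeich p m s v c + WittFil.vShiftTeich p m s v c' := by
  unfold WittFil.vShiftTeich
  rw [map_add, add_mul, iterate_map_add, map_add]

theorem vShiftTeich_zero {S B : Type*} [CommRing S] [CommRing B] [Algebra S B]
    (m s : ℕ) (v : B) :
    WittFil.vShiftTeich p m s v (0 : WittVector p S) = 0 := by
  unfold WittFil.vShiftTeich
  rw [map_zero, zero_mul, iterate_map_zero, map_zero]

open WittVector in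
/-- decomposition of a Witt vector in its first `t` coordinates and the rest. -/
theorem eq_low_add {R : Type*} [CommRing R] (x : WittVector p R) (t : ℕ) :
    x = WittVector.mk p (fun n => if n < t then x.coeff n else 0) +
      (⇑(verschiebung (p := p) (R := R)))^[t] (x.shift t) := by
  have hdisj : ∀ n, (WittVector.mk p (fun n => if n < t then x.coeff n else 0)).coeff n = 0 ∨
      ((⇑(verschiebung (p := p) (R := R)))^[t] (x.shift t)).coeff n = 0 := by
    intro n
    by_cases hn : n < t
    · right; exact iterate_verschiebung_coeff_eq_zero _ hn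
    · left; rw [coeff_mk, if_neg hn]
  ext n
  rw [coeff_add_of_disjoint _ _ _ hdisj]
  by_cases hn : n < t
  · rw [coeff_mk, if_pos hn, iterate_verschiebung_coeff_eq_zero _ hn, add_zero]
  · obtain ⟨k, rfl⟩ : ∃ k, n = k + t := ⟨n - t, by omega⟩
    rw [coeff_mk, if_neg hn, iterate_verschiebung_coeff, shift_coeff, zero_add, add_comm]

open WittVector in
theorem coeff_sub_of_low_zero {R : Type*} [CommRing R] (x z : WittVector p R) (t : ℕ)
    (hz : ∀ j < t, z.coeff j = 0) :
    (∀ j < t, (x - z).coeff j = x.coeff j) ∧ (x - z).coeff t = x.coeff t - z.coeff t := by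
  have hz' := WittVector.eq_iterate_verschiebung hz
  have hx := eq_low_add p x t
  have key : x - z = WittVector.mk p (fun n => if n < t then x.coeff n else 0) +
      (⇑(verschiebung (p := p) (R := R)))^[t] (x.shift t - z.shift t) := by
    rw [iterate_map_sub, ← hz', ← add_sub_assoc, ← hx]
  have hdisj : ∀ n, (WittVector.mk p (fun n => if n < t then x.coeff n else 0)).coeff n = 0 ∨
      ((⇑(verschiebung (p := p) (R := R)))^[t] (x.shift t - z.shift t)).coeff n = 0 := by
    intro n
    by_cases hn : n < t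
    · right; exact iterate_verschiebung_coeff_eq_zero _ hn
    · left; rw [coeff_mk, if_neg hn]
  constructor
  · intro j hj
    rw [key, coeff_add_of_disjoint _ _ _ hdisj, iterate_verschiebung_coeff_eq_zero _ hj, add_zero,
      coeff_mk, if_pos hj]
  · rw [key, coeff_add_of_disjoint _ _ _ hdisj, coeff_mk, if_neg (lt_irrefl t), zero_add]
    have h1 := iterate_verschiebung_coeff (x.shift t - z.shift t) t 0
    rw [zero_add] at h1
    rw [h1]
    have h2 : (x.shift t - z.shift t).coeff 0 = (x.shift t).coeff 0 - (z.shift t).coeff 0 :=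
      map_sub (WittVector.constantCoeff (p := p) (R := R)) _ _
    rw [h2, shift_coeff, shift_coeff, add_zero]

/-- the truncated version. -/
theorem trunc_coeff_sub_of_low_zero {R : Type*} [CommRing R] (m : ℕ)
    (x z : TruncatedWittVector p m R) (t : ℕ) (ht : t < m)
    (hz : ∀ j : Fin m, (j : ℕ) < t → z.coeff j = 0) :
    (∀ j : Fin m, (j : ℕ) < t → (x - z).coeff j = x.coeff j) ∧
      (x - z).coeff ⟨t, ht⟩ = x.coeff ⟨t, ht⟩ - z.coeff ⟨t, ht⟩ := by
  have e : x - z = WittVector.truncateFun m (x.out - z.out) := by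
    rw [WittVector.truncateFun_sub, TruncatedWittVector.truncateFun_out,
      TruncatedWittVector.truncateFun_out]
  have hz' : ∀ j < t, z.out.coeff j = 0 := by
    intro j hj
    have hjm : j < m := by omega
    rw [show z.out.coeff j = z.coeff ⟨j, hjm⟩ from TruncatedWittVector.coeff_out z ⟨j, hjm⟩]
    exact hz ⟨j, hjm⟩ hj
  obtain ⟨h1, h2⟩ := coeff_sub_of_low_zero p x.out z.out t hz'
  constructor
  · intro j hj
    rw [e, WittVector.coeff_truncateFun, h1 j hj, TruncatedWittVector.coeff_out]
  · rw [e, WittVector.coeff_truncateFun]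
    change (x.out - z.out).coeff t = _
    rw [h2, show x.out.coeff t = x.coeff ⟨t, ht⟩ from TruncatedWittVector.coeff_out x ⟨t, ht⟩,
      show z.out.coeff t = z.coeff ⟨t, ht⟩ from TruncatedWittVector.coeff_out z ⟨t, ht⟩]

end wittgeneral


section nf

open PowerSeries

variable {S B : Type u} [CommRing S] [IsDomain S] [CommRing B] [Algebra (PowerSeries S) B]
  [IsLocalization.Away (PowerSeries.X : PowerSeries S) B]

theorem algebraMap_inj : Function.Injective (algebraMap (PowerSeries S) B) :=
  IsLocalization.injective B (M := Submonoid.powers (PowerSeries.X : PowerSeries S))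
    (powers_le_nonZeroDivisors_of_noZeroDivisors PowerSeries.X_ne_zero)

omit [IsDomain S] [Algebra (PowerSeries S) B]
  [IsLocalization.Away (PowerSeries.X : PowerSeries S) B] in
theorem pow_mul_eq (u : Bˣ) (k : ℤ) (α : B) (P : ℕ) (e : ℤ) :
    (((u ^ k : Bˣ) : B) * α) ^ P * ((u ^ e : Bˣ) : B) =
      ((u ^ (k * P + e) : Bˣ) : B) * α ^ P := by
  rw [mul_pow, ← Units.val_pow_eq_pow_val, ← zpow_natCast, ← zpow_mul, mul_right_comm,
    ← Units.val_mul, ← zpow_add]

variable (u : Bˣ) (hu : (u : B) = algebraMap (PowerSeries S) B PowerSeries.X)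
include hu

omit [IsDomain S] [IsLocalization.Away (PowerSeries.X : PowerSeries S) B] in
theorem upow_nat (l : ℕ) :
    ((u ^ (l : ℤ) : Bˣ) : B) = algebraMap (PowerSeries S) B (PowerSeries.X ^ l) := by
  rw [zpow_natCast, Units.val_pow_eq_pow_val, hu, map_pow]

omit [IsDomain S] [IsLocalization.Away (PowerSeries.X : PowerSeries S) B] in
theorem upow_of_nonneg (k : ℤ) (hk : 0 ≤ k) :
    ((u ^ k : Bˣ) : B) = algebraMap (PowerSeries S) B (PowerSeries.X ^ k.toNat) := by
  obtain ⟨l, rfl⟩ := Int.eq_ofNat_of_zero_le hk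
  rw [upow_nat u hu, Int.toNat_natCast]

theorem nf (b : B) : b = 0 ∨ ∃ (k : ℤ) (a : PowerSeries S), PowerSeries.constantCoeff a ≠ 0 ∧
    b = ((u ^ k : Bˣ) : B) * algebraMap (PowerSeries S) B a := by
  obtain ⟨l, a₀, h⟩ := IsLocalization.Away.surj (PowerSeries.X : PowerSeries S) b
  rw [← map_pow, ← upow_nat u hu] at h
  by_cases ha : a₀ = 0
  · left
    rw [ha, map_zero] at h
    exact (Units.mul_left_eq_zero _).mp h
  · right
    refine ⟨(a₀.order.toNat : ℤ) - l, PowerSeries.divXPowOrder a₀, ?_, ?_⟩
    · rw [Ne, PowerSeries.constantCoeff_divXPowOrder_eq_zero_iff]; exact ha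
    · have h' : b * ((u ^ (l : ℤ) : Bˣ) : B) =
          ((u ^ (a₀.order.toNat : ℤ) : Bˣ) : B) *
            algebraMap (PowerSeries S) B (PowerSeries.divXPowOrder a₀) := by
        rw [h, upow_nat u hu, ← map_mul, PowerSeries.X_pow_order_mul_divXPowOrder]
      rw [zpow_sub, Units.val_mul, mul_right_comm, ← h', Units.mul_inv_cancel_right]

theorem mem_range_iff (k : ℤ) (a : PowerSeries S) (ha : PowerSeries.constantCoeff a ≠ 0) :
    ((u ^ k : Bˣ) : B) * algebraMap (PowerSeries S) B a ∈ (algebraMap (PowerSeries S) B).range ↔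
      0 ≤ k := by
  constructor
  · rintro ⟨f, hf⟩
    by_contra hk
    push Not at hk
    have h1 : algebraMap (PowerSeries S) B a =
        ((u ^ (-k) : Bˣ) : B) * algebraMap (PowerSeries S) B f := by
      rw [hf, ← mul_assoc, ← Units.val_mul, ← zpow_add, neg_add_cancel, zpow_zero, Units.val_one,
        one_mul]
    rw [upow_of_nonneg u hu (-k) (by omega), ← map_mul] at h1
    have h2 := algebraMap_inj h1
    apply ha
    rw [h2, map_mul, map_pow, PowerSeries.constantCoeff_X, zero_pow (by omega), zero_mul]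
  · intro hk
    rw [upow_of_nonneg u hu k hk, ← map_mul]
    exact ⟨_, rfl⟩

theorem pow_mul_mem_iff (k : ℤ) (a : PowerSeries S) (ha : PowerSeries.constantCoeff a ≠ 0)
    (P : ℕ) (e : ℤ) :
    (((u ^ k : Bˣ) : B) * algebraMap (PowerSeries S) B a) ^ P * ((u ^ e : Bˣ) : B) ∈
      (algebraMap (PowerSeries S) B).range ↔ 0 ≤ k * P + e := by
  rw [pow_mul_eq, ← map_pow]
  exact mem_range_iff u hu _ _ (by rw [map_pow]; exact pow_ne_zero _ ha)

theorem root_closed (z : B) (N : ℕ) (hN : 0 < N)
    (h : z ^ N ∈ (algebraMap (PowerSeries S) B).range) :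
    z ∈ (algebraMap (PowerSeries S) B).range := by
  rcases nf u hu z with rfl | ⟨k, a, ha, rfl⟩
  · exact ⟨0, map_zero _⟩
  · have h1 := (pow_mul_mem_iff u hu k a ha N 0).mp (by simpa using h)
    have hk : 0 ≤ k := by
      by_contra hk
      push Not at hk
      have : k * (N : ℤ) < 0 := mul_neg_of_neg_of_pos hk (by exact_mod_cast hN)
      omega
    exact (mem_range_iff u hu k a ha).mpr hk

/-- coordinates below `s` automatically satisfy the stronger condition. -/
theorem strong_of_lt (p : ℕ) (i : ℤ) (hpi : ¬ (p : ℤ) ∣ i) (Q r : ℕ) (hQ : 0 < Q) (hr0 : 0 < r)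
    (hr : p ∣ r) (n : ℤ) (hn : n = Q * i) (b : B)
    (h : b ^ (Q * r) * ((u ^ (-n) : Bˣ) : B) ∈ (algebraMap (PowerSeries S) B).range) :
    b ^ (Q * r) * ((u ^ (-n - 1) : Bˣ) : B) ∈ (algebraMap (PowerSeries S) B).range := by
  rcases nf u hu b with rfl | ⟨k, a, ha, rfl⟩
  · rw [zero_pow (Nat.mul_ne_zero hQ.ne' hr0.ne'), zero_mul]; exact ⟨0, map_zero _⟩
  · rw [pow_mul_mem_iff u hu k a ha] at h ⊢
    push_cast at h ⊢
    subst hn
    have hQ' : (0 : ℤ) < Q := by exact_mod_cast hQ
    have h1 : 0 ≤ k * r - i := by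
      by_contra hlt
      push Not at hlt
      have : (Q : ℤ) * (k * r - i) < 0 := mul_neg_of_pos_of_neg hQ' hlt
      nlinarith
    have h2 : k * r ≠ i := by
      intro h
      apply hpi
      rw [← h]
      exact Dvd.dvd.mul_left (by exact_mod_cast hr) k
    have h3 : 1 ≤ k * r - i := by omega
    nlinarith

theorem exists_of_mem (P : ℕ) (hP : 0 < P) (e n : ℤ) (hn : n = e * P) (b : B)
    (h : b ^ P * ((u ^ (-n) : Bˣ) : B) ∈ (algebraMap (PowerSeries S) B).range) :
    ∃ a' : PowerSeries S, b = ((u ^ e : Bˣ) : B) * algebraMap (PowerSeries S) B a' := by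
  rcases nf u hu b with rfl | ⟨k, a, ha, rfl⟩
  · exact ⟨0, by simp⟩
  · rw [pow_mul_mem_iff u hu k a ha] at h
    subst hn
    have hP' : (0 : ℤ) < P := by exact_mod_cast hP
    have hk : e ≤ k := by
      by_contra hlt
      push Not at hlt
      have : (k - e) * (P : ℤ) < 0 := mul_neg_of_neg_of_pos (by omega) hP'
      nlinarith
    refine ⟨PowerSeries.X ^ (k - e).toNat * a, ?_⟩
    rw [map_mul, ← upow_of_nonneg u hu (k - e) (by omega), ← mul_assoc, ← Units.val_mul,
      ← zpow_add]
    congr 3
    omega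

omit [IsDomain S] [IsLocalization.Away (PowerSeries.X : PowerSeries S) B] in
theorem strong_of_constantCoeff_eq_zero (P : ℕ) (hP : 0 < P) (e n : ℤ) (hn : n = e * P)
    (a' : PowerSeries S) (ha' : PowerSeries.constantCoeff a' = 0) :
    (((u ^ e : Bˣ) : B) * algebraMap (PowerSeries S) B a') ^ P * ((u ^ (-n - 1) : Bˣ) : B) ∈
      (algebraMap (PowerSeries S) B).range := by
  obtain ⟨a'', rfl⟩ := PowerSeries.X_dvd_iff.mpr ha'
  have h1 : ((u ^ e : Bˣ) : B) * algebraMap (PowerSeries S) B (PowerSeries.X * a'') =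
      ((u ^ (e + 1) : Bˣ) : B) * algebraMap (PowerSeries S) B a'' := by
    rw [map_mul, ← hu, ← mul_assoc, zpow_add_one, Units.val_mul]
  rw [h1, pow_mul_eq, upow_of_nonneg u hu _ (by
    subst hn
    have hP' : (1 : ℤ) ≤ P := by exact_mod_cast hP
    nlinarith), ← map_pow, ← map_mul]
  exact ⟨_, rfl⟩

end nf

section main

open PowerSeries

variable (p : ℕ) [hp : Fact p.Prime] {S B : Type u} [CommRing S]
    [IsDomain S] [CharP S p] [CommRing B] [Algebra (PowerSeries S) B] [Algebra S B]
    [IsScalarTower S (PowerSeries S) B] [IsLocalization.Away (PowerSeries.X : PowerSeries S) B]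
    (u : Bˣ) (hu : (u : B) = algebraMap (PowerSeries S) B PowerSeries.X) (m s : ℕ) (hs : s < m)
    (i : ℤ)

omit hp [IsDomain S] [CharP S p] [IsLocalization.Away (PowerSeries.X : PowerSeries S) B] in
theorem algebraMap_S (x : S) :
    algebraMap S B x = algebraMap (PowerSeries S) B (PowerSeries.C x) := by
  rw [IsScalarTower.algebraMap_apply S (PowerSeries S) B x]
  rfl

omit [IsDomain S] [CharP S p] [Algebra (PowerSeries S) B]
  [IsScalarTower S (PowerSeries S) B] [IsLocalization.Away (PowerSeries.X : PowerSeries S) B] in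
/-- the `j`-th coordinate of `Φ(c)` for `s ≤ j`, raised to the relevant power and multiplied by
`u ^ e`. -/
theorem coeff_pow_mul (c : WittVector p S) (j : Fin m) (hj : s ≤ (j : ℕ)) (e : ℤ) :
    (WittFil.vShiftTeich p m s ((u ^ i : Bˣ) : B) c).coeff j ^ p ^ (m - 1 - (j : ℕ)) *
        ((u ^ e : Bˣ) : B) =
      algebraMap S B (c.coeff (j - s) ^ p ^ (m - 1 - (j : ℕ))) *
        ((u ^ ((p : ℤ) ^ (m - 1 - s) * i + e) : Bˣ) : B) := by
  rw [coeff_vShiftTeich, if_neg (by omega), mul_pow, ← Units.val_pow_eq_pow_val,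
    ← Units.val_pow_eq_pow_val, ← zpow_natCast, ← zpow_natCast, ← zpow_mul, ← zpow_mul,
    mul_assoc, ← Units.val_mul, ← zpow_add, map_pow]
  congr 4
  have h1 : (m - 1 - s) = ((j : ℕ) - s) + (m - 1 - (j : ℕ)) := by
    have := j.2
    omega
  rw [h1, pow_add]
  push_cast
  ring

include hu

omit [CharP S p] in
theorem part1 (c : WittVector p S) :
    WittFil.vShiftTeich p m s ((u ^ i : Bˣ) : B) c ∈
      WittFil.fil p m (A := PowerSeries S) ((u ^ (-((p : ℤ) ^ (m - 1 - s) * i)) : Bˣ) : B) := by
  intro j
  by_cases hj : (j : ℕ) < s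
  · rw [coeff_vShiftTeich, if_pos hj, zero_pow (pow_ne_zero _ hp.out.ne_zero), zero_mul]
    exact ⟨0, map_zero _⟩
  · rw [coeff_pow_mul p u m s i c j (by omega), add_neg_cancel, zpow_zero, Units.val_one, mul_one,
      algebraMap_S]
    exact ⟨_, rfl⟩

omit [CharP S p] in
theorem part2 (c : WittVector p S) :
    WittFil.vShiftTeich p m s ((u ^ i : Bˣ) : B) c ∈
        WittFil.fil p m (A := PowerSeries S)
          ((u ^ (-((p : ℤ) ^ (m - 1 - s) * i) - 1) : Bˣ) : B) ↔
      WittVector.truncate (m - s) c = 0 := by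
  constructor
  · intro h
    apply TruncatedWittVector.ext
    intro k
    rw [WittVector.coeff_truncate, TruncatedWittVector.coeff_zero]
    have hk := k.2
    have hj : (k : ℕ) + s < m := by omega
    have h1 := h ⟨(k : ℕ) + s, hj⟩
    rw [coeff_pow_mul p u m s i c ⟨(k : ℕ) + s, hj⟩ (by simp),
      show (p : ℤ) ^ (m - 1 - s) * i + (-((p : ℤ) ^ (m - 1 - s) * i) - 1) = -1 by ring,
      algebraMap_S, mul_comm] at h1
    simp only [Nat.add_sub_cancel] at h1
    by_contra hne
    have h2 := (mem_range_iff u hu (-1) _ (by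
      rw [PowerSeries.constantCoeff_C]
      exact pow_ne_zero _ hne)).mp h1
    omega
  · intro h j
    have hc : ∀ k, k < m - s → c.coeff k = 0 := by
      intro k hk
      have := congrArg (fun x => TruncatedWittVector.coeff ⟨k, hk⟩ x) h
      simpa [WittVector.coeff_truncate, TruncatedWittVector.coeff_zero] using this
    have h0 : (WittFil.vShiftTeich p m s ((u ^ i : Bˣ) : B) c).coeff j = 0 := by
      rw [coeff_vShiftTeich]
      split_ifs with hj
      · rfl
      · rw [hc _ (by have := j.2; omega), map_zero, zero_mul]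
    rw [h0, zero_pow (pow_ne_zero _ hp.out.ne_zero), zero_mul]
    exact ⟨0, map_zero _⟩

end main

section main3

open PowerSeries

variable (p : ℕ) [hp : Fact p.Prime]

theorem coeff_iterate_verschiebung_teichmuller {R : Type*} [CommRing R] (w : R) (k l : ℕ) :
    ((⇑(WittVector.verschiebung (p := p) (R := R)))^[k] (WittVector.teichmuller p w)).coeff l =
      if l = k then w else 0 := by
  by_cases hl : l < k
  · rw [WittVector.iterate_verschiebung_coeff_eq_zero _ hl, if_neg (by omega)]
  · obtain ⟨q, rfl⟩ : ∃ q, l = q + k := ⟨l - k, by omega⟩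
    rw [WittVector.iterate_verschiebung_coeff]
    cases q with
    | zero => rw [WittVector.teichmuller_coeff_zero, if_pos (by omega)]
    | succ q => rw [WittVector.teichmuller_coeff_pos _ _ _ (Nat.succ_pos q), if_neg (by omega)]

variable {S B : Type u} [CommRing S]
    [IsDomain S] [CharP S p] [CommRing B] [Algebra (PowerSeries S) B] [Algebra S B]
    [IsScalarTower S (PowerSeries S) B] [IsLocalization.Away (PowerSeries.X : PowerSeries S) B]
    (u : Bˣ) (hu : (u : B) = algebraMap (PowerSeries S) B PowerSeries.X) (m s : ℕ) (hs : s < m)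
    (i : ℤ)

theorem charP_B (p : ℕ) (S B : Type u) [CommRing S]
    [IsDomain S] [CharP S p] [CommRing B] [Algebra (PowerSeries S) B] [Algebra S B]
    [IsScalarTower S (PowerSeries S) B] [IsLocalization.Away (PowerSeries.X : PowerSeries S) B] :
    CharP B p := by
  have hinj : Function.Injective (algebraMap S B) := by
    rw [IsScalarTower.algebraMap_eq S (PowerSeries S) B]
    exact (algebraMap_inj (S := S) (B := B)).comp (PowerSeries.C_injective (R := S))
  exact charP_of_injective_algebraMap hinj p

include hu hs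

theorem part3_aux (hsi : s = 0 ∨ ¬ ((p : ℤ) ∣ i)) (d : ℕ) :
    ∀ (t : ℕ), t + d = m → ∀ y : TruncatedWittVector p m B,
      y ∈ WittFil.fil p m (A := PowerSeries S)
        ((u ^ (-((p : ℤ) ^ (m - 1 - s) * i)) : Bˣ) : B) →
      (∀ j : Fin m, (j : ℕ) < t →
        y.coeff j ^ p ^ (m - 1 - (j : ℕ)) *
          ((u ^ (-((p : ℤ) ^ (m - 1 - s) * i) - 1) : Bˣ) : B) ∈
            (algebraMap (PowerSeries S) B).range) →
      ∃ c : WittVector p S,
        y - WittFil.vShiftTeich p m s ((u ^ i : Bˣ) : B) c ∈
          WittFil.fil p m (A := PowerSeries S)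
            ((u ^ (-((p : ℤ) ^ (m - 1 - s) * i) - 1) : Bˣ) : B) := by
  have : CharP B p := charP_B p S B
  induction d with
  | zero =>
    intro t ht y hy hstr
    refine ⟨0, ?_⟩
    rw [vShiftTeich_zero, sub_zero]
    intro j
    exact hstr j (by have := j.2; omega)
  | succ d ih =>
    intro t ht y hy hstr
    have htm : t < m := by omega
    have step : ∃ c₀ : WittVector p S,
        (y - WittFil.vShiftTeich p m s ((u ^ i : Bˣ) : B) c₀) ∈
          WittFil.fil p m (A := PowerSeries S)
            ((u ^ (-((p : ℤ) ^ (m - 1 - s) * i)) : Bˣ) : B) ∧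
        ∀ j : Fin m, (j : ℕ) < t + 1 →
          (y - WittFil.vShiftTeich p m s ((u ^ i : Bˣ) : B) c₀).coeff j ^ p ^ (m - 1 - (j : ℕ)) *
            ((u ^ (-((p : ℤ) ^ (m - 1 - s) * i) - 1) : Bˣ) : B) ∈
              (algebraMap (PowerSeries S) B).range := by
      by_cases hts : t < s
      · refine ⟨0, ?_, ?_⟩
        · rw [vShiftTeich_zero, sub_zero]; exact hy
        · rw [vShiftTeich_zero, sub_zero]
          intro j hj
          by_cases hjt : (j : ℕ) < t
          · exact hstr j hjt
          · have hpi : ¬ (p : ℤ) ∣ i := hsi.resolve_left (by omega)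
            have h1 := hy j
            have hpow : p ^ (m - 1 - (j : ℕ)) = p ^ (m - 1 - s) * p ^ (s - (j : ℕ)) := by
              rw [← pow_add]; congr 1; omega
            rw [hpow] at h1 ⊢
            exact strong_of_lt u hu p i hpi _ _ (pow_pos hp.out.pos _) (pow_pos hp.out.pos _)
              (dvd_pow_self p (by omega)) _ (by push_cast; ring) _ h1
      · push Not at hts
        have hyt := hy ⟨t, htm⟩
        have hn : (p : ℤ) ^ (m - 1 - s) * i =
            i * ((p ^ (t - s) : ℕ) : ℤ) * ((p ^ (m - 1 - t) : ℕ) : ℤ) := by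
          have h1 : m - 1 - s = (t - s) + (m - 1 - t) := by omega
          rw [h1, pow_add]; push_cast; ring
        obtain ⟨a', ha'⟩ := exists_of_mem u hu (p ^ (m - 1 - t)) (pow_pos hp.out.pos _)
          (i * ((p ^ (t - s) : ℕ) : ℤ)) ((p : ℤ) ^ (m - 1 - s) * i) hn (y.coeff ⟨t, htm⟩) hyt
        have hΦ : ∀ j : Fin m, (WittFil.vShiftTeich p m s ((u ^ i : Bˣ) : B)
            ((⇑(WittVector.verschiebung (p := p) (R := S)))^[t - s]
              (WittVector.teichmuller p (PowerSeries.constantCoeff a')))).coeff j =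
            if (j : ℕ) = t then
              algebraMap S B (PowerSeries.constantCoeff a') * ((u ^ i : Bˣ) : B) ^ p ^ (t - s)
            else 0 := by
          intro j
          rw [coeff_vShiftTeich]
          by_cases hj : (j : ℕ) < s
          · rw [if_pos hj, if_neg (by omega)]
          · rw [if_neg hj, coeff_iterate_verschiebung_teichmuller]
            by_cases hjt : (j : ℕ) = t
            · rw [if_pos (by omega), if_pos hjt, hjt]
            · rw [if_neg (by omega), if_neg hjt, map_zero, zero_mul]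
        refine ⟨(⇑(WittVector.verschiebung (p := p) (R := S)))^[t - s]
              (WittVector.teichmuller p (PowerSeries.constantCoeff a')), ?_, ?_⟩
        · intro j
          exact Groth.Agent.Lib.Helper82.WittFilIso.coeff_sub_mem p
            (algebraMap (PowerSeries S) B).range (root_closed u hu) m _ y _ hy
            (part1 p u hu m s i _) j
        · obtain ⟨hlow, htop⟩ := trunc_coeff_sub_of_low_zero p m y
            (WittFil.vShiftTeich p m s ((u ^ i : Bˣ) : B)
              ((⇑(WittVector.verschiebung (p := p) (R := S)))^[t - s]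
                (WittVector.teichmuller p (PowerSeries.constantCoeff a')))) t htm (by
            intro j hj; rw [hΦ, if_neg (by omega)])
          intro j hj
          by_cases hjt : (j : ℕ) < t
          · rw [hlow j hjt]; exact hstr j hjt
          · have hjt' : j = ⟨t, htm⟩ := Fin.ext (by simp only; omega)
            subst hjt'
            rw [htop, hΦ, if_pos rfl, ha']
            have h3 : ((u ^ (i * ((p ^ (t - s) : ℕ) : ℤ)) : Bˣ) : B) *
                  algebraMap (PowerSeries S) B a' -
                algebraMap S B (PowerSeries.constantCoeff a') * ((u ^ i : Bˣ) : B) ^ p ^ (t - s) =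
                ((u ^ (i * ((p ^ (t - s) : ℕ) : ℤ)) : Bˣ) : B) *
                  algebraMap (PowerSeries S) B
                    (a' - PowerSeries.C (PowerSeries.constantCoeff a')) := by
              rw [map_sub, mul_sub, algebraMap_S (S := S) (B := B) (PowerSeries.constantCoeff a'),
                ← Units.val_pow_eq_pow_val, ← zpow_natCast,
                ← zpow_mul, mul_comm (algebraMap (PowerSeries S) B (PowerSeries.C _))]
            rw [h3]
            exact strong_of_constantCoeff_eq_zero u hu (p ^ (m - 1 - t)) (pow_pos hp.out.pos _)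
              _ _ hn _ (by simp)
    obtain ⟨c₀, h1, h2⟩ := step
    obtain ⟨c', hc'⟩ := ih (t + 1) (by omega) _ h1 h2
    refine ⟨c₀ + c', ?_⟩
    rw [vShiftTeich_add, ← sub_sub]
    exact hc'

end main3

/-- Let S be an integral domain of characteristic p, A = S[[π]] the power series ring, B = A[1/π] with u
the unit of B given by π, and let m > s ≥ 0 and i be an integer with s = 0 or p ∤ i; put n = p ^
(m−1−s) · i. For e in B write fil(e) for the set of truncated p-typical Witt vectors of length m
over B whose j-th coordinate y_j satisfies y_j ^ (p ^ (m−1−j)) · e ∈ A for all j, and for a Witt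
vector c over S let Φ(c) ∈ W_m(B) be the length-m truncation of V^s(c · [u ^ i]) (V the
Verschiebung, [ ] the Teichmüller map, c mapped to B). Then Φ induces a bijection from the
length-(m−s) truncated Witt vectors of S onto the graded piece fil(u^(−n)) / fil(u^(−n−1)): (1) Φ(c)
lies in fil(u^(−n)) for every c; (2) Φ(c) lies in fil(u^(−n−1)) exactly when the length-(m−s)
truncation of c is zero; (3) every element of fil(u^(−n)) is congruent to some Φ(c) modulo
fil(u^(−n−1)). (Published for S a regular local Noetherian F-finite F_p-algebra; the argument uses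
only that S is a domain.) -/
theorem result (p : ℕ) [Fact p.Prime] {S B : Type u} [CommRing S]
    [IsDomain S] [CharP S p] [CommRing B] [Algebra (PowerSeries S) B] [Algebra S B]
    [IsScalarTower S (PowerSeries S) B] [IsLocalization.Away (PowerSeries.X : PowerSeries S) B]
    (u : Bˣ) (hu : (u : B) = algebraMap (PowerSeries S) B PowerSeries.X) (m s : ℕ) (hs : s < m)
    (i : ℤ) (hsi : s = 0 ∨ ¬ ((p : ℤ) ∣ i)) :
    (∀ c : WittVector p S,
        WittFil.vShiftTeich p m s ((u ^ i : Bˣ) : B) c ∈
          WittFil.fil p m (A := PowerSeries S) ((u ^ (-((p : ℤ) ^ (m - 1 - s) * i)) : Bˣ) : B)) ∧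
      (∀ c : WittVector p S,
        WittFil.vShiftTeich p m s ((u ^ i : Bˣ) : B) c ∈
            WittFil.fil p m (A := PowerSeries S) ((u ^ (-((p : ℤ) ^ (m - 1 - s) * i) - 1) : Bˣ) : B) ↔
          WittVector.truncate (m - s) c = 0) ∧
      (∀ y ∈ WittFil.fil p m (A := PowerSeries S) ((u ^ (-((p : ℤ) ^ (m - 1 - s) * i)) : Bˣ) : B),
        ∃ c : WittVector p S,
          y - WittFil.vShiftTeich p m s ((u ^ i : Bˣ) : B) c ∈
            WittFil.fil p m (A := PowerSeries S)
              ((u ^ (-((p : ℤ) ^ (m - 1 - s) * i) - 1) : Bˣ) : B)) := by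
  refine ⟨fun c => part1 p u hu m s i c, fun c => part2 p u hu m s i c, fun y hy => ?_⟩
  exact part3_aux p u hu m s hs i hsi m 0 (zero_add m) y hy
    (fun j hj => absurd hj (Nat.not_lt_zero _))

end Groth.Agent.S19268
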