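import Groth.Statements.S19269
import Mathlib
import Groth.Agent.Lib.Helper83.FlatLocalDim
-- import your own Groth.Agent.* helpers here

set_option autoImplicit false
universe u
open CAlg

namespace Groth.Agent.S19269

open IsLocalRing in
theorem finite_adicCompletion {R : Type u} [CommRing R] (I : Ideal R) (M : Type u)
    [AddCommGroup M] [Module R M] [Module.Finite R M] :
    Module.Finite (AdicCompletion I R) (AdicCompletion I M) :=
  Module.Finite.of_surjective (AdicCompletion.ofTensorProduct I M)
    (AdicCompletion.ofTensorProduct_surjective_of_finite I M)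

open IsLocalRing in
/-- kernel of `eval k` in terms of the maximal ideal of the completion. -/
theorem mem_pow_smul_top_of_eval_eq_zero {R : Type u} [CommRing R] [IsNoetherianRing R]
    [IsLocalRing R] {M : Type u} [AddCommGroup M] [Module R M] (k : ℕ)
    (z : AdicCompletion (maximalIdeal R) M)
    (hz : AdicCompletion.eval (maximalIdeal R) M k z = 0) :
    z ∈ (maximalIdeal (AdicCompletion (maximalIdeal R) R) ^ k • ⊤ :
      Submodule (AdicCompletion (maximalIdeal R) R) (AdicCompletion (maximalIdeal R) M)) := by
  have fg : (maximalIdeal R).FG := (maximalIdeal R).fg_of_isNoetherianRing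
  have h1 : z ∈ (maximalIdeal R ^ k • ⊤ : Submodule R (AdicCompletion (maximalIdeal R) M)) := by
    rw [AdicCompletion.pow_smul_top_eq_ker_eval fg]
    exact hz
  rw [AdicCompletion.maximalIdeal_eq_map, ← Ideal.map_pow, ← Submodule.restrictScalars_mem R,
    Ideal.smul_restrictScalars, Submodule.restrictScalars_top]
  exact h1

open IsLocalRing in
/-- Let R be a Noetherian local ring with maximal ideal 𝔪, M a finitely generated R-module and M^ its
𝔪-adic completion, a module over the 𝔪-adic completion R^ of R. Let N' be an R^-submodule of M^ and
N an R-submodule of M whose image in M^ is contained in N' and is dense in N' for the 𝔪-adic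
topology, in the sense that for every y in N' and every k there is x in N with y ≡ x modulo the
kernel of M^ → M/𝔪^k M. Then N' equals the image of the completion of N under the map induced by the
inclusion N → M (so N' is the completion of N), and N is the set of elements of M whose image in M^
lies in N'. -/
theorem result {R : Type u} [CommRing R]
    [IsNoetherianRing R] [IsLocalRing R] {M : Type u} [AddCommGroup M] [Module R M]
    [Module.Finite R M] (N : Submodule R M)
    (N' : Submodule (AdicCompletion (maximalIdeal R) R) (AdicCompletion (maximalIdeal R) M))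
    (hle : ∀ x ∈ N, AdicCompletion.of (maximalIdeal R) M x ∈ N')
    (hdense : ∀ y ∈ N', ∀ k : ℕ, ∃ x ∈ N,
      AdicCompletion.eval (maximalIdeal R) M k y = Submodule.Quotient.mk x) :
    (N'.restrictScalars R =
        (LinearMap.range (AdicCompletion.map (maximalIdeal R) N.subtype)).restrictScalars R) ∧
      (∀ x : M, x ∈ N ↔ AdicCompletion.of (maximalIdeal R) M x ∈ N') := by
  have fg : (maximalIdeal R).FG := (maximalIdeal R).fg_of_isNoetherianRing
  have hNoeth : IsNoetherianRing (AdicCompletion (maximalIdeal R) R) :=
    Groth.Agent.Lib.Helper83.isNoetherianRing_adicCompletion _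
  have hfin : Module.Finite (AdicCompletion (maximalIdeal R) R)
      (AdicCompletion (maximalIdeal R) M) := finite_adicCompletion _ M
  refine ⟨?_, ?_⟩
  · apply le_antisymm
    · -- N' ⊆ range
      intro y hy
      rw [Submodule.restrictScalars_mem] at hy ⊢
      obtain ⟨c, hc⟩ := Ideal.exists_pow_inf_eq_pow_smul (maximalIdeal R) N
      choose x hxN hx using fun k => hdense y hy k
      have hdiff : ∀ k, x k - x (k + 1) ∈ (maximalIdeal R ^ k • ⊤ : Submodule R M) := by
        intro k
        have h1 := AdicCompletion.transitionMap_comp_eval_apply (maximalIdeal R) M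
          (Nat.le_succ k) y
        have h2 := hx k
        have h3 := hx (k + 1)
        rw [AdicCompletion.eval_apply] at h2 h3
        rw [h2, h3] at h1
        rw [← Submodule.Quotient.mk_eq_zero, Submodule.Quotient.mk_sub, sub_eq_zero]
        exact h1.symm
      have hcauchy : ∀ k, (⟨x (k + c), hxN (k + c)⟩ : N) ≡ ⟨x (k + 1 + c), hxN (k + 1 + c)⟩
          [SMOD (maximalIdeal R ^ k • ⊤ : Submodule R N)] := by
        intro k
        rw [SModEq.sub_mem, Submodule.mem_smul_top_iff]
        have h1 : x (k + c) - x (k + 1 + c) ∈
            (maximalIdeal R ^ (k + c) • ⊤ : Submodule R M) ⊓ N := by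
          refine ⟨?_, N.sub_mem (hxN _) (hxN _)⟩
          have := hdiff (k + c)
          rwa [show k + c + 1 = k + 1 + c by omega] at this
        rw [hc (k + c) (by omega), Nat.add_sub_cancel] at h1
        exact (Submodule.smul_mono le_rfl inf_le_right) h1
      refine ⟨AdicCompletion.mk _ _ (AdicCompletion.AdicCauchySequence.mk _ _ _ hcauchy), ?_⟩
      rw [AdicCompletion.map_mk]
      apply AdicCompletion.ext
      intro k
      have h1 := AdicCompletion.transitionMap_comp_eval_apply (maximalIdeal R) M
        (Nat.le_add_right k c) y
      have h2 := hx (k + c)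
      rw [AdicCompletion.eval_apply] at h2
      rw [h2] at h1
      rw [← h1]
      rfl
    · -- range ⊆ N'
      rintro z ⟨yhat, rfl⟩
      rw [Submodule.restrictScalars_mem]
      induction yhat using AdicCompletion.induction_on with
      | _ a =>
      rw [AdicCompletion.map_mk]
      have hH : IsHausdorff (maximalIdeal (AdicCompletion (maximalIdeal R) R))
        (AdicCompletion (maximalIdeal R) M ⧸ N') := inferInstance
      rw [← Submodule.Quotient.mk_eq_zero N']
      apply IsHausdorff.haus hH
      intro k
      rw [SModEq.zero]
      set z := AdicCompletion.mk (maximalIdeal R) M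
        (AdicCompletion.AdicCauchySequence.map (maximalIdeal R) N.subtype a) with hz
      have h1 : z - AdicCompletion.of (maximalIdeal R) M (a k : M) ∈
          (maximalIdeal (AdicCompletion (maximalIdeal R) R) ^ k • ⊤ :
            Submodule (AdicCompletion (maximalIdeal R) R) (AdicCompletion (maximalIdeal R) M)) := by
        apply mem_pow_smul_top_of_eval_eq_zero
        rw [map_sub, sub_eq_zero]
        rfl
      have h2 : AdicCompletion.of (maximalIdeal R) M (a k : M) ∈ N' := hle _ (a k).2
      have h3 : (Submodule.Quotient.mk z : AdicCompletion (maximalIdeal R) M ⧸ N') =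
          Submodule.Quotient.mk (z - AdicCompletion.of (maximalIdeal R) M (a k : M)) := by
        rw [Submodule.Quotient.mk_sub, (Submodule.Quotient.mk_eq_zero N').mpr h2, sub_zero]
      rw [h3]
      exact (Submodule.smul_top_le_comap_smul_top _ N'.mkQ) h1
  · intro x
    constructor
    · exact hle x
    · intro hx
      have hH : IsHausdorff (maximalIdeal R) (M ⧸ N) := inferInstance
      rw [← Submodule.Quotient.mk_eq_zero N]
      apply IsHausdorff.haus hH
      intro k
      rw [SModEq.zero]
      obtain ⟨xk, hxkN, hxk⟩ := hdense _ hx k
      have h1 : x - xk ∈ (maximalIdeal R ^ k • ⊤ : Submodule R M) := by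
        rw [AdicCompletion.eval_of, Submodule.mkQ_apply, Submodule.Quotient.eq] at hxk
        exact hxk
      have h2 : (Submodule.Quotient.mk x : M ⧸ N) = Submodule.Quotient.mk (x - xk) := by
        rw [Submodule.Quotient.mk_sub, (Submodule.Quotient.mk_eq_zero N).mpr hxkN, sub_zero]
      rw [h2]
      exact (Submodule.smul_top_le_comap_smul_top _ N.mkQ) h1

end Groth.Agent.S19269
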