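import Groth.Statements.S1946
import Mathlib
import Groth.Agent.Lib.Helper22.PullC1
-- import your own Groth.Agent.* helpers here

set_option autoImplicit false
universe u
open CategoryTheory AlgebraicGeometry
open Cyc

namespace Groth.Agent.S1946

section PRE
open Groth.Agent.Lib.Helper22.PullC1 Groth.Agent.Lib.Helper22.C1Indep
open Groth.Agent.Lib.Ample Groth.Agent.Lib.QCoh

theorem main (X X' : Scheme.{u}) (δ : X → ℤ) (δ' : X' → ℤ) (hX : Cyc.IsSetup X δ)
    (hX' : Cyc.IsSetup X' δ') (p : X' ⟶ X) [Flat p] (c : ℤ)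
    (hc : ∀ x' : X', (∀ y, p y = p x' → y ⤳ x' → y = x') → δ' x' = δ (p x') + c)
    (L : X.Modules) (hL : PicF.IsInvertible L) (k : ℤ) (α : AlgebraicCycle X ℤ)
    (hα : α ∈ Cyc.Zk X δ k) (v : (ξ : X) → Cyc.secFibre L ξ) (hv : ∀ ξ, v ξ ≠ 0)
    (u : (ξ : X') → Cyc.secFibre ((Scheme.Modules.pullback p).obj L) ξ) (hu : ∀ ξ, u ξ ≠ 0)
    (γ₁ γ₂ : AlgebraicCycle X' ℤ)
    (h₁ : ⇑γ₁ = Cyc.pullFun p δ' δ c (Cyc.c1CapFun δ L ⇑α v))
    (h₂ : ⇑γ₂ = Cyc.c1CapFun δ' ((Scheme.Modules.pullback p).obj L)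
      (Cyc.pullFun p δ' δ c ⇑α) u) :
    Cyc.RatEquiv δ' (k + c - 1) γ₁ γ₂ := by
  haveI := hX.1
  haveI := hX'.1
  have hδ := hX.2.2
  have hδ' := hX'.2.2
  have hL' : PicF.IsInvertible ((Scheme.Modules.pullback p).obj L) := isInvertible_pullback p hL
  choose s' hs' using fun ξ' => exists_pullSection p hL v ξ'
  have hs'0 : ∀ ξ', s' ξ' ≠ 0 := fun ξ' => pullSection_ne_zero p hL v s' hs' ξ' (hv _)
  obtain ⟨α', hα'1, hα'2⟩ := exists_pullCycle p δ δ' hδ' c hc k α hα
  have hα'3 : α' ∈ Cyc.Zk X' δ' (k + c - 1 + 1) := by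
    have : k + c - 1 + 1 = k + c := by ring
    rw [this]; exact hα'2
  obtain ⟨ι, ξ, f, g1, g2, g3, g4⟩ := c1Cap_indep δ' hδ' hL' (k + c - 1) α' hα'3 s' u hs'0 hu
  refine ⟨ι, ξ, f, g1, g2, g3, fun x' => ?_⟩
  rw [← g4 x', Function.locallyFinsuppWithin.coe_sub]
  show γ₁ x' - γ₂ x' = _
  rw [congrFun h₁ x', congrFun h₂ x', hα'1,
    pull_c1Cap p δ δ' hδ hδ' c hc hL α v s' hs' x']

end PRE

/-- Intersecting with the first Chern class commutes with flat base change: in the base-change setting,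
take an invertible O_X-module L and write L' = p^*L for its pullback to X'. For a k-cycle α on X,
g^*(c_1(L) ∩ α) ∼_rat c_1(L') ∩ g^*α as (k + c − 1)-cycles on X', where the two caps are computed
with any nonzero rational sections of L on X and of L' on X'. The base-change setting, stated
without a base scheme: p : X' → X is flat (not necessarily of finite type), (X, δ) and (X', δ')
carry dimension functions, and δ'(x') = δ(p x') + c whenever x' is a generic point of an irreducible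
component of its fibre; g^* : Z_k(X) → Z_{k+c}(X') is the coefficientwise flat pullback Cyc.pullFun
p δ' δ c. Here L(ξ) = L_ξ/𝔪_ξ L_ξ is the space of rational sections of L on the closure of ξ,
div_{L|W}(s) and c_1(L) ∩ α are computed as coefficient functions from chosen nonzero rational
sections (Cyc.secDivFun, Cyc.c1CapFun), and results are compared up to rational equivalence for any
cycles with those coefficients. A pair (X, δ) with Cyc.IsSetup (X locally Noetherian with
universally catenary local rings, δ a dimension function) plays the role of a scheme locally of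
finite type over a base equipped with a dimension function. -/
theorem result (X X' : Scheme.{u}) (δ : X → ℤ) (δ' : X' → ℤ) (hX : Cyc.IsSetup X δ) (hX' : Cyc.IsSetup X' δ') (p : X' ⟶ X) [Flat p] (c : ℤ) (hc : ∀ x' : X', (∀ y, p y = p x' → y ⤳ x' → y = x') → δ' x' = δ (p x') + c) (L : X.Modules) (hL : PicF.IsInvertible L) (k : ℤ) (α : AlgebraicCycle X ℤ) (hα : α ∈ Cyc.Zk X δ k) (v : (ξ : X) → Cyc.secFibre L ξ) (hv : ∀ ξ, v ξ ≠ 0) (u : (ξ : X') → Cyc.secFibre ((Scheme.Modules.pullback p).obj L) ξ) (hu : ∀ ξ, u ξ ≠ 0) (γ₁ γ₂ : AlgebraicCycle X' ℤ) (h₁ : ⇑γ₁ = Cyc.pullFun p δ' δ c (Cyc.c1CapFun δ L ⇑α v)) (h₂ : ⇑γ₂ = Cyc.c1CapFun δ' ((Scheme.Modules.pullback p).obj L) (Cyc.pullFun p δ' δ c ⇑α) u) : Cyc.RatEquiv δ' (k + c - 1) γ₁ γ₂ := by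
  exact main X X' δ δ' hX hX' p c hc L hL k α hα v hv u hu γ₁ γ₂ h₁ h₂

end Groth.Agent.S1946
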