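import Groth.Statements.S19270
import Groth.Agent.Lib.Helper86.CotangentIndep

set_option autoImplicit false
universe u
open CAlg

namespace Groth.Agent.S19270

open IsLocalRing in
/-- Let A be a regular local ring of prime characteristic p, of Krull dimension N, with maximal ideal
generated by x_1, …, x_N, and assume that the module Ω_A of absolute Kähler differentials of A
(differentials relative to ℤ, equivalently relative to the prime field) is a free A-module of finite
rank. Then dx_1, …, dx_N are part of a basis of Ω_A: there exist a basis b of Ω_A and an injection e
of the indices 1, …, N into the index type of b with b (e i) = d(x_i) for all i. (In the published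
statement A is a regular local F-finite algebra over the prime field and the freeness and finiteness
of Ω_A form the first assertion, taken there from the literature; here they are hypotheses.) -/
theorem result (p : ℕ) [Fact p.Prime]
    {A : Type u} [CommRing A] [IsRegularLocalRing A] [CharP A p]
    [Module.Free A (KaehlerDifferential ℤ A)] [Module.Finite A (KaehlerDifferential ℤ A)]
    {N : ℕ} (x : Fin N → A) (hx : Ideal.span (Set.range x) = maximalIdeal A)
    (hN : ringKrullDim A = (N : WithBot ℕ∞)) :
    ∃ (ι : Type u) (b : Module.Basis ι A (KaehlerDifferential ℤ A)) (e : Fin N ↪ ι),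
      ∀ i : Fin N, b (e i) = KaehlerDifferential.D ℤ A (x i) := by
  classical
  letI : Algebra (ULift.{u} (ZMod p)) A :=
    ((ZMod.castHom (dvd_refl p) A).comp
      (ULift.ringEquiv : ULift.{u} (ZMod p) ≃+* ZMod p).toRingHom).toAlgebra
  haveI : Algebra.IsGeometricallyReduced (ULift.{u} (ZMod p)) (IsLocalRing.ResidueField A) :=
    Groth.Agent.S2535.isGeometricallyReduced_of_perfectField (ULift.{u} (ZMod p))
      (IsLocalRing.ResidueField A)
  haveI : Algebra.FormallySmooth (ULift.{u} (ZMod p)) (IsLocalRing.ResidueField A) :=
    Groth.Agent.Lib.Helper13.SepDiff.formallySmooth_iff_isGeometricallyReduced.mpr inferInstance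
  have hfin : Module.finrank (IsLocalRing.ResidueField A) (IsLocalRing.CotangentSpace A) = N := by
    have h1 := (IsRegularLocalRing.iff_finrank_cotangentSpace A).mp inferInstance
    rw [hN] at h1
    exact_mod_cast h1
  have hli := Groth.Agent.Lib.Helper86.CotangentIndep.linearIndependent_tmul_D
    (F := ULift.{u} (ZMod p)) x hx hfin
  exact Groth.Agent.Lib.Helper86.CotangentIndep.exists_basis_extending
    (fun i => KaehlerDifferential.D ℤ A (x i)) hli

end Groth.Agent.S19270
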