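import Groth.Statements.S19272
import Mathlib
import Groth.Agent.Lib.Helper82.WittFilNF
-- import your own Groth.Agent.* helpers here

set_option autoImplicit false
universe u
open WittFil

namespace Groth.Agent.S19272

/-- Let A be a unique factorisation domain of characteristic p, x_1, …, x_r pairwise non-associate prime
elements of A, B = A[1/(x_1⋯x_r)] with u_i the unit of B defined by x_i, m ≥ 0, and n ∈ ℤ^r with n_i
< 0 for every i. Then every truncated p-typical Witt vector of length m over B lying in the filtered
piece cut out by ∏ u_i ^ n_i (every coordinate y_j has y_j ^ (p ^ (m−1−j)) · ∏ u_i ^ n_i in the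
image of A) has all its coordinates in the image of the ideal (x_1⋯x_r)·A. (The published item,
stated for the filtered de Rham–Witt pieces in all degrees over a regular local ring, says only that
such vectors have all coordinates in A; this row states the divisibility of every coordinate by
x_1⋯x_r that its proof establishes, in degree zero, for a unique factorisation domain in place of a
regular local ring.) -/
theorem result (p : ℕ) [Fact p.Prime] {A B : Type u} [CommRing A] [IsDomain A]
    [UniqueFactorizationMonoid A] [CharP A p] [CommRing B] [Algebra A B] {r : ℕ} (x : Fin r → A)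
    (hx : ∀ i, Prime (x i)) (hxa : ∀ i j, Associated (x i) (x j) → i = j)
    [IsLocalization.Away (∏ i, x i) B] (u : Fin r → Bˣ)
    (hu : ∀ i, (u i : B) = algebraMap A B (x i)) (m : ℕ) (n : Fin r → ℤ) (hn : ∀ i, n i < 0)
    (a : TruncatedWittVector p m B) (ha : a ∈ WittFil.fil p m (A := A) (WittFil.zmon u n))
    (j : Fin m) :
    ∃ b : A, TruncatedWittVector.coeff j a = algebraMap A B ((∏ i, x i) * b) := by
  have hj := ha j
  rcases Groth.Agent.Lib.Helper82.WittFilNF.nf x hx u hu (TruncatedWittVector.coeff j a) with
    h0 | ⟨k, c, hc, hk⟩
  · exact ⟨0, by rw [h0, mul_zero, map_zero]⟩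
  · rw [hk, Groth.Agent.Lib.Helper82.WittFilNF.pow_mul_mem_iff x hx hxa u hu k c hc] at hj
    have hk1 : ∀ i, 1 ≤ k i := by
      intro i
      have h1 := hj i
      have h2 := hn i
      by_contra hlt
      push Not at hlt
      have : k i * ((p ^ (m - 1 - (j : ℕ)) : ℕ) : ℤ) ≤ 0 :=
        mul_nonpos_of_nonpos_of_nonneg (by omega) (by positivity)
      omega
    refine ⟨(∏ i, x i ^ (k i - 1).toNat) * c, ?_⟩
    rw [hk, ← mul_assoc, map_mul]
    congr 1
    rw [← Finset.prod_mul_distrib,
      Groth.Agent.Lib.Helper82.WittFilNF.zmon_of_nonneg x u hu k (fun i => by have := hk1 i; omega)]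
    congr 1
    refine Finset.prod_congr rfl (fun i _ => ?_)
    rw [← pow_succ']
    congr 1
    have := hk1 i
    omega

end Groth.Agent.S19272
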