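import Groth.Statements.S19273
import Mathlib

set_option autoImplicit false
universe u
open CAlg

namespace Groth.Agent.S19273

open KaehlerDifferential in
/-- Let A be an integral domain of prime characteristic p, x_1, …, x_N elements of A, r ≤ N, B =
A[1/(x_1⋯x_r)] with u_i the unit of B defined by x_i for i ≤ r, and suppose that the module Ω_A of
absolute Kähler differentials of A is free with a basis b indexed by {1, …, N} ⊔ ι whose i-th vector
is d(x_i) for i ≤ N. Then the module of logarithmic 1-forms — the A-submodule of Ω_B spanned by the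
image of Ω_A and the forms u_i⁻¹ · d(x_i), i ≤ r — is a free A-module: it has a basis indexed by {1,
…, N} ⊔ ι whose vector at i ≤ r is u_i⁻¹ · d(x_i), at r < i ≤ N is d(x_i), and at k ∈ ι is the image
of b_k. (In the published statement A is a regular local F-finite algebra over the prime field with
maximal ideal (x_1, …, x_N), the basis of Ω_A comes from the preceding lemma, and the assertion
covers the logarithmic q-forms for all q together with their identification with the log de Rham
complex of the log ring; only the degree-one freeness is stated here, from the properties of A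
actually used.) -/
theorem result (p : ℕ) [Fact p.Prime]
    {A B : Type u} [CommRing A] [IsDomain A] [CharP A p] [CommRing B] [Algebra A B] {r N : ℕ}
    (hr : r ≤ N) (x : Fin N → A) [IsLocalization.Away (∏ i : Fin r, x (Fin.castLE hr i)) B]
    (u : Fin r → Bˣ) (hu : ∀ i, (u i : B) = algebraMap A B (x (Fin.castLE hr i)))
    {ι : Type u} (b : Module.Basis (Fin N ⊕ ι) A (Ω[A⁄ℤ])) (hb : ∀ i, b (Sum.inl i) = D ℤ A (x i)) :
    ∃ e : Module.Basis (Fin N ⊕ ι) A
        (W4c6katofilta.logForms1 (fun i : Fin r => x (Fin.castLE hr i)) u),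
      (∀ i : Fin r, (e (Sum.inl (Fin.castLE hr i)) : Ω[B⁄ℤ]) =
          ((u i)⁻¹ : Bˣ) • KaehlerDifferential.map ℤ ℤ A B (D ℤ A (x (Fin.castLE hr i)))) ∧
      (∀ i : Fin N, r ≤ (i : ℕ) →
          (e (Sum.inl i) : Ω[B⁄ℤ]) = KaehlerDifferential.map ℤ ℤ A B (D ℤ A (x i))) ∧
      (∀ k : ι, (e (Sum.inr k) : Ω[B⁄ℤ]) = KaehlerDifferential.map ℤ ℤ A B (b (Sum.inr k))) := by
  classical
  set π : A := ∏ i : Fin r, x (Fin.castLE hr i) with hπ
  have hπ0 : π ≠ 0 := by
    intro h0
    obtain ⟨i, -, hi⟩ := Finset.prod_eq_zero_iff.mp h0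
    have := b.ne_zero (Sum.inl (Fin.castLE hr i))
    rw [hb, hi, map_zero] at this
    exact this rfl
  have : IsLocalization (Submonoid.powers π) B := ‹IsLocalization.Away π B›
  have hinj : Function.Injective (algebraMap A B) :=
    IsLocalization.injective B (powers_le_nonZeroDivisors_of_noZeroDivisors hπ0)
  let f : (Ω[A⁄ℤ]) →ₗ[A] (Ω[B⁄ℤ]) := KaehlerDifferential.map ℤ ℤ A B
  have hloc : IsLocalizedModule (Submonoid.powers π) f :=
    KaehlerDifferential.isLocalizedModule_map (R := ℤ) (S := A) (T := B) (Submonoid.powers π)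
  let bB : Module.Basis (Fin N ⊕ ι) B (Ω[B⁄ℤ]) := b.ofIsLocalizedModule B (Submonoid.powers π) f
  have hbB : ∀ i, bB i = f (b i) := fun i => Module.Basis.ofIsLocalizedModule_apply _ _ _ _ i
  let c : Fin N ⊕ ι → Bˣ := fun j =>
    Sum.elim (fun i : Fin N => if h : (i : ℕ) < r then (u ⟨i, h⟩)⁻¹ else 1) (fun _ => 1) j
  let vB : Module.Basis (Fin N ⊕ ι) B (Ω[B⁄ℤ]) := bB.unitsSMul c
  have hvB : ∀ j, vB j = c j • f (b j) := by
    intro j
    rw [Module.Basis.unitsSMul_apply, hbB]
  have hliB : LinearIndependent B vB := vB.linearIndependent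
  have hliA : LinearIndependent A vB :=
    hliB.restrict_scalars (by
      intro a a' h
      apply hinj
      simpa [Algebra.smul_def] using h)
  have hmem : ∀ j, vB j ∈ W4c6katofilta.logForms1 (fun i : Fin r => x (Fin.castLE hr i)) u := by
    intro j
    rw [hvB]
    rcases j with i | k
    · by_cases h : (i : ℕ) < r
      · have hc : c (Sum.inl i) = (u ⟨i, h⟩)⁻¹ := by simp [c, h]
        rw [hc, hb]
        apply Submodule.subset_span
        right
        exact ⟨⟨i, h⟩, rfl⟩
      · have hc : c (Sum.inl i) = 1 := by simp [c, h]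
        rw [hc, one_smul]
        apply Submodule.subset_span
        left
        exact ⟨_, rfl⟩
    · have hc : c (Sum.inr k) = 1 := by simp [c]
      rw [hc, one_smul]
      apply Submodule.subset_span
      left
      exact ⟨_, rfl⟩
  let v' : Fin N ⊕ ι → ↥(W4c6katofilta.logForms1 (fun i : Fin r => x (Fin.castLE hr i)) u) :=
    fun j => ⟨vB j, hmem j⟩
  have hli' : LinearIndependent A v' := by
    apply LinearIndependent.of_comp
      (W4c6katofilta.logForms1 (fun i : Fin r => x (Fin.castLE hr i)) u).subtype
    exact hliA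
  -- each f (b j) is an A-multiple of vB j
  have hfb : ∀ j, f (b j) ∈ Submodule.span A (Set.range (fun j => (vB j : Ω[B⁄ℤ]))) := by
    intro j
    rcases j with i | k
    · by_cases h : (i : ℕ) < r
      · have hc : c (Sum.inl i) = (u ⟨i, h⟩)⁻¹ := by simp [c, h]
        have e1 : f (b (Sum.inl i)) = x i • vB (Sum.inl i) := by
          rw [hvB, hc, ← algebraMap_smul B (x i), Units.smul_def, smul_smul]
          have : algebraMap A B (x i) * ((u ⟨i, h⟩)⁻¹ : Bˣ) = 1 := by
            have := hu ⟨i, h⟩
            simp only [Fin.castLE_mk, Fin.eta] at this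
            rw [← this]
            exact Units.mul_inv _
          rw [this, one_smul]
        rw [e1]
        exact Submodule.smul_mem _ _ (Submodule.subset_span ⟨_, rfl⟩)
      · have hc : c (Sum.inl i) = 1 := by simp [c, h]
        have e1 : f (b (Sum.inl i)) = vB (Sum.inl i) := by rw [hvB, hc, one_smul]
        rw [e1]
        exact Submodule.subset_span ⟨_, rfl⟩
    · have hc : c (Sum.inr k) = 1 := by simp [c]
      have e1 : f (b (Sum.inr k)) = vB (Sum.inr k) := by rw [hvB, hc, one_smul]
      rw [e1]
      exact Submodule.subset_span ⟨_, rfl⟩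
  have hspanle : W4c6katofilta.logForms1 (fun i : Fin r => x (Fin.castLE hr i)) u ≤
      Submodule.span A (Set.range (fun j => (vB j : Ω[B⁄ℤ]))) := by
    unfold W4c6katofilta.logForms1
    rw [Submodule.span_le]
    rintro y (⟨ω, rfl⟩ | ⟨i, rfl⟩)
    · -- ω is a combination of the b j
      have hω : ω ∈ Submodule.span A (Set.range b) := by rw [b.span_eq]; trivial
      show f ω ∈ _
      induction hω using Submodule.span_induction with
      | mem z hz =>
        obtain ⟨j, rfl⟩ := hz
        exact hfb j
      | zero => rw [map_zero]; exact Submodule.zero_mem _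
      | add y z _ _ hy hz => rw [map_add]; exact Submodule.add_mem _ hy hz
      | smul a y _ hy => rw [map_smul]; exact Submodule.smul_mem _ _ hy
    · apply Submodule.subset_span
      refine ⟨Sum.inl (Fin.castLE hr i), ?_⟩
      have h : ((Fin.castLE hr i : Fin N) : ℕ) < r := i.2
      have hc : c (Sum.inl (Fin.castLE hr i)) = (u i)⁻¹ := by simp [c]
      show vB (Sum.inl (Fin.castLE hr i)) = _
      rw [hvB, hc, hb]
  have hspan' : ⊤ ≤ Submodule.span A (Set.range v') := by
    rintro ⟨y, hy⟩ -
    have hy' := hspanle hy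
    have : ∀ z (hz : z ∈ Submodule.span A (Set.range (fun j => (vB j : Ω[B⁄ℤ]))))
        (hz' : z ∈ W4c6katofilta.logForms1 (fun i : Fin r => x (Fin.castLE hr i)) u),
        (⟨z, hz'⟩ : ↥(W4c6katofilta.logForms1 (fun i : Fin r => x (Fin.castLE hr i)) u)) ∈
          Submodule.span A (Set.range v') := by
      intro z hz
      induction hz using Submodule.span_induction with
      | mem z hz =>
        obtain ⟨j, rfl⟩ := hz
        intro _
        exact Submodule.subset_span ⟨j, rfl⟩
      | zero => intro _; exact Submodule.zero_mem _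
      | add y z hy1 hz1 hy hz =>
        intro _
        have hy2 : y ∈ W4c6katofilta.logForms1 (fun i : Fin r => x (Fin.castLE hr i)) u := by
          refine Submodule.span_le.mpr ?_ hy1
          rintro _ ⟨j, rfl⟩
          exact hmem j
        have hz2 : z ∈ W4c6katofilta.logForms1 (fun i : Fin r => x (Fin.castLE hr i)) u := by
          refine Submodule.span_le.mpr ?_ hz1
          rintro _ ⟨j, rfl⟩
          exact hmem j
        exact Submodule.add_mem _ (hy hy2) (hz hz2)
      | smul a y hy1 hy =>
        intro _
        have hy2 : y ∈ W4c6katofilta.logForms1 (fun i : Fin r => x (Fin.castLE hr i)) u := by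
          refine Submodule.span_le.mpr ?_ hy1
          rintro _ ⟨j, rfl⟩
          exact hmem j
        exact Submodule.smul_mem _ a (hy hy2)
    exact this y hy' hy
  refine ⟨Module.Basis.mk hli' hspan', ?_, ?_, ?_⟩
  · intro i
    rw [Module.Basis.mk_apply]
    show vB (Sum.inl (Fin.castLE hr i)) = _
    have hc : c (Sum.inl (Fin.castLE hr i)) = (u i)⁻¹ := by simp [c]
    rw [hvB, hc, hb]
  · intro i hi
    rw [Module.Basis.mk_apply]
    show vB (Sum.inl i) = _
    have hc : c (Sum.inl i) = 1 := by simp [c, Nat.not_lt.mpr hi]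
    rw [hvB, hc, one_smul, hb]
  · intro k
    rw [Module.Basis.mk_apply]
    show vB (Sum.inr k) = _
    have hc : c (Sum.inr k) = 1 := by simp [c]
    rw [hvB, hc, one_smul]

end Groth.Agent.S19273
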