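import Groth.Statements.S19274
import Mathlib
import Groth.Agent.Lib.Helper82.WittFilNF
import Groth.Agent.Lib.Helper82.WittFilIso
import Groth.Agent.S19268
-- import your own Groth.Agent.* helpers here

set_option autoImplicit false
universe u
open WittFil

namespace Groth.Agent.S19274

section single

open Groth.Agent.Lib.Helper82.WittFilNF

variable {A B : Type*} [CommRing A] [IsDomain A] [UniqueFactorizationMonoid A] [CommRing B]
  [Algebra A B] (x : A) (hx : Prime x) [IsLocalization.Away x B] (u : Bˣ)
  (hu : (u : B) = algebraMap A B x)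

omit [IsDomain A] [UniqueFactorizationMonoid A] [Algebra A B] [IsLocalization.Away x B] in
theorem zmon_one (k : ℤ) : WittFil.zmon (fun _ : Fin 1 => u) (fun _ => k) = ((u ^ k : Bˣ) : B) := by
  unfold WittFil.zmon
  simp

include hx hu in
theorem nf1 (b : B) : b = 0 ∨ ∃ (k : ℤ) (c : A), ¬ x ∣ c ∧
    b = ((u ^ k : Bˣ) : B) * algebraMap A B c := by
  have : IsLocalization.Away (∏ i : Fin 1, (fun _ => x) i) B := by
    simpa using ‹IsLocalization.Away x B›
  rcases nf (fun _ : Fin 1 => x) (fun _ => hx) (fun _ : Fin 1 => u) (fun _ => hu) b with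
    h | ⟨k, c, hc, hk⟩
  · exact Or.inl h
  · refine Or.inr ⟨k 0, c, hc 0, ?_⟩
    rw [hk, ← zmon_one u (k 0)]
    congr 2
    funext i
    rw [Subsingleton.elim i 0]

include hx hu in
theorem pow_mul_mem_iff1 (k : ℤ) (c : A) (hc : ¬ x ∣ c) (P : ℕ) (e : ℤ) :
    (((u ^ k : Bˣ) : B) * algebraMap A B c) ^ P * ((u ^ e : Bˣ) : B) ∈ (algebraMap A B).range ↔
      0 ≤ k * P + e := by
  have : IsLocalization.Away (∏ i : Fin 1, (fun _ => x) i) B := by
    simpa using ‹IsLocalization.Away x B›
  rw [← zmon_one u k, ← zmon_one u e,
    pow_mul_mem_iff (fun _ : Fin 1 => x) (fun _ => hx)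
      (fun i j _ => Subsingleton.elim i j) (fun _ : Fin 1 => u) (fun _ => hu) (fun _ => k) c
      (fun _ => hc) P (fun _ => e)]
  exact ⟨fun h => h 0, fun h _ => h⟩

end single

/-- Let A be a unique factorisation domain of characteristic p, x a prime element of A, B = A[1/x] with
u the unit of B defined by x, m ≥ 1, and n an integer NOT divisible by p^m. For e in B and k ≥ 0
write fil_k(e) for the set of truncated p-typical Witt vectors of length k over B whose j-th
coordinate y_j satisfies y_j ^ (p ^ (k−1−j)) · e ∈ A for all j < k (the filtered piece; fil_k(u^n)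
is the piece of index n). Then fil_{m+1}(u^n) is contained in fil_{m+1}(u^(n−1)) + V(fil_m(u^n))
(the reverse inclusion is immediate): every a in fil_{m+1}(u^n) can be written a = b + V(y) with b
in fil_{m+1}(u^(n−1)) and y a Witt vector over B whose length-m truncation lies in fil_m(u^n), V(y)
being truncated to length m+1. (In the source A is a henselian discrete valuation ring, n = p^r·l >
1 with p not dividing l, and the condition reads m ≥ r + 1.) -/
theorem result (p : ℕ) [Fact p.Prime]
    {A B : Type u} [CommRing A] [IsDomain A] [UniqueFactorizationMonoid A] [CharP A p]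
    [CommRing B] [Algebra A B] (x : A) (hx : Prime x) [IsLocalization.Away x B] (u : Bˣ)
    (hu : (u : B) = algebraMap A B x) (m : ℕ) (hm : 0 < m) (n : ℤ) (hn : ¬ ((p : ℤ) ^ m ∣ n)) :
    ∀ a ∈ WittFil.fil p (m + 1) (A := A) ((u ^ n : Bˣ) : B),
      ∃ b ∈ WittFil.fil p (m + 1) (A := A) ((u ^ (n - 1) : Bˣ) : B),
        ∃ y : WittVector p B,
          WittVector.truncate m y ∈ WittFil.fil p m (A := A) ((u ^ n : Bˣ) : B) ∧
            a = b + WittVector.truncate (m + 1) (WittVector.verschiebung y) := by
  intro a ha
  have hpp : 0 < p := (Fact.out : p.Prime).pos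
  have hinj : Function.Injective (algebraMap A B) :=
    IsLocalization.injective B (M := Submonoid.powers x)
      (powers_le_nonZeroDivisors_of_noZeroDivisors hx.ne_zero)
  have : CharP B p := charP_of_injective_algebraMap hinj p
  have hT : ∀ (z : B) (N : ℕ), 0 < N → z ^ N ∈ (algebraMap A B).range →
      z ∈ (algebraMap A B).range :=
    fun z N hN h =>
      Groth.Agent.Lib.Helper82.WittFilIso.mem_range_of_pow_mem_range x hx.ne_zero z N hN h
  have hzero : ∀ (P : ℕ) (c : B), 0 < P → (0 : B) ^ P * c ∈ (algebraMap A B).range := by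
    intro P c hP
    rw [zero_pow hP.ne', zero_mul]
    exact ⟨0, map_zero _⟩
  -- the Teichmüller part
  have hbcoeff : ∀ j : Fin (m + 1),
      (WittVector.truncate (m + 1)
        (WittVector.teichmuller p (TruncatedWittVector.coeff 0 a))).coeff j =
        if (j : ℕ) = 0 then TruncatedWittVector.coeff 0 a else 0 := by
    intro j
    rw [WittVector.coeff_truncate]
    split_ifs with h
    · rw [h, WittVector.teichmuller_coeff_zero]
    · exact WittVector.teichmuller_coeff_pos p _ _ (Nat.pos_of_ne_zero h)
  have hb1 : WittVector.truncate (m + 1)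
      (WittVector.teichmuller p (TruncatedWittVector.coeff 0 a)) ∈
        WittFil.fil p (m + 1) (A := A) ((u ^ (n - 1) : Bˣ) : B) := by
    intro j
    rw [hbcoeff]
    split_ifs with h
    · have hj : j = 0 := Fin.ext h
      subst hj
      have h0 := ha 0
      rcases nf1 x hx u hu (TruncatedWittVector.coeff 0 a) with hz | ⟨k, c, hc, hk⟩
      · rw [hz]; exact hzero _ _ (pow_pos hpp _)
      · rw [hk, pow_mul_mem_iff1 x hx u hu k c hc] at h0 ⊢
        simp only [Fin.val_zero, Nat.sub_zero, Nat.add_sub_cancel] at h0 ⊢
        have hne : k * ((p ^ m : ℕ) : ℤ) + n ≠ 0 := by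
          intro h
          apply hn
          refine ⟨-k, ?_⟩
          push_cast at h
          linarith
        omega
    · exact hzero _ _ (pow_pos hpp _)
  have hb0 : WittVector.truncate (m + 1)
      (WittVector.teichmuller p (TruncatedWittVector.coeff 0 a)) ∈
        WittFil.fil p (m + 1) (A := A) ((u ^ n : Bˣ) : B) := by
    intro j
    rw [hbcoeff]
    split_ifs with h
    · have hj : j = 0 := Fin.ext h
      subst hj
      exact ha 0
    · exact hzero _ _ (pow_pos hpp _)
  have hab : ∀ j : Fin (m + 1), (a - WittVector.truncate (m + 1)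
      (WittVector.teichmuller p (TruncatedWittVector.coeff 0 a))).coeff j ^
        p ^ (m + 1 - 1 - (j : ℕ)) * ((u ^ n : Bˣ) : B) ∈ (algebraMap A B).range :=
    fun j => Groth.Agent.Lib.Helper82.WittFilIso.coeff_sub_mem p (algebraMap A B).range hT (m + 1)
      _ a _ ha hb0 j
  have hab0 : (a - WittVector.truncate (m + 1)
      (WittVector.teichmuller p (TruncatedWittVector.coeff 0 a))).coeff 0 = 0 := by
    have := (Groth.Agent.S19268.trunc_coeff_sub_of_low_zero p (m + 1) a
      (WittVector.truncate (m + 1) (WittVector.teichmuller p (TruncatedWittVector.coeff 0 a)))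
      0 (Nat.succ_pos m) (fun j hj => absurd hj (Nat.not_lt_zero _))).2
    rw [show (⟨0, Nat.succ_pos m⟩ : Fin (m + 1)) = 0 from rfl] at this
    rw [this, hbcoeff, if_pos (Fin.val_zero _), sub_self]
  refine ⟨_, hb1, ((a - WittVector.truncate (m + 1)
      (WittVector.teichmuller p (TruncatedWittVector.coeff 0 a))).out).shift 1, ?_, ?_⟩
  · intro j
    rw [WittVector.coeff_truncate, WittVector.shift_coeff]
    have hj1 : 1 + (j : ℕ) < m + 1 := by have := j.2; omega
    have h1 := hab ⟨1 + (j : ℕ), hj1⟩
    rw [show (a - WittVector.truncate (m + 1)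
        (WittVector.teichmuller p (TruncatedWittVector.coeff 0 a))).out.coeff (1 + (j : ℕ)) =
      (a - WittVector.truncate (m + 1)
        (WittVector.teichmuller p (TruncatedWittVector.coeff 0 a))).coeff ⟨1 + (j : ℕ), hj1⟩ from
      TruncatedWittVector.coeff_out _ ⟨1 + (j : ℕ), hj1⟩]
    have e : m + 1 - 1 - (1 + (j : ℕ)) = m - 1 - (j : ℕ) := by omega
    simp only [e] at h1
    exact h1
  · have hV : (a - WittVector.truncate (m + 1)
        (WittVector.teichmuller p (TruncatedWittVector.coeff 0 a))).out =
        WittVector.verschiebung (((a - WittVector.truncate (m + 1)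
          (WittVector.teichmuller p (TruncatedWittVector.coeff 0 a))).out).shift 1) := by
      have := WittVector.eq_iterate_verschiebung (n := 1)
        (x := (a - WittVector.truncate (m + 1)
          (WittVector.teichmuller p (TruncatedWittVector.coeff 0 a))).out) (by
          intro i hi
          have hi0 : i = 0 := by omega
          subst hi0
          rw [show (a - WittVector.truncate (m + 1)
              (WittVector.teichmuller p (TruncatedWittVector.coeff 0 a))).out.coeff 0 =
            (a - WittVector.truncate (m + 1)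
              (WittVector.teichmuller p (TruncatedWittVector.coeff 0 a))).coeff 0 from
            TruncatedWittVector.coeff_out _ 0]
          exact hab0)
      rwa [Function.iterate_one] at this
    rw [← hV]
    have : WittVector.truncate (m + 1) (a - WittVector.truncate (m + 1)
        (WittVector.teichmuller p (TruncatedWittVector.coeff 0 a))).out =
        a - WittVector.truncate (m + 1)
          (WittVector.teichmuller p (TruncatedWittVector.coeff 0 a)) :=
      TruncatedWittVector.truncateFun_out _
    rw [this]
    abel

end Groth.Agent.S19274
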