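import Groth.Statements.S19275
import Mathlib
import Groth.Agent.Lib.Helper52.HochBCB

set_option autoImplicit false
universe u v w
open Hoch

namespace Groth.Agent.S19275

open TensorProduct in
/-- In the case of an affine group scheme over a field (a K-groupoid acting on Spec K itself),
cohomology commutes with arbitrary base change. Precisely: let K be a field, A a commutative Hopf
algebra over K (the coordinate ring of an affine K-group scheme G), V a right A-comodule (a linear
representation of G) and R any commutative K-algebra. Give R ⊗ V the base-changed comodule structure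
over the R-bialgebra R ⊗ A, whose coaction sends r ⊗ v to the image of r ⊗ ρ(v) under the canonical
identification of R ⊗ (V ⊗ A) with (R ⊗ V) ⊗_R (R ⊗ A), and let φ_n : R ⊗ C^n(A, V) → C^n(R ⊗ A, R ⊗
V) be the canonical R-linear maps between the Hochschild cochain modules, determined by φ_0 = id and
φ_{n+1}(r ⊗ (c ⊗ a)) = φ_n(r ⊗ c) ⊗ (1 ⊗ a). Then every φ_n is bijective, the φ_n commute with the
Hochschild differentials, and for every n there is an R-linear isomorphism R ⊗ H^n(A, V) ≅ H^n(R ⊗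
A, R ⊗ V) sending r ⊗ [z] to [φ_n(r ⊗ z)] for every n-cocycle z. (The published statement is for an
affine K-groupoid acting on the spectrum of a finite extension L of K and its coherent
representations, with K of characteristic 0; this is its case L = K, in which the cochain complex of
a representation is the Hochschild complex of the comodule; V is not assumed finite-dimensional and
K may be any field.) -/
theorem result
    (K : Type u) [Field K] (A : Type v) [CommRing A] [HopfAlgebra K A]
    (V : Type v) [AddCommGroup V] [Module K V] [HopfRep.Comod K A V]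
    (R : Type w) [CommRing R] [Algebra K R]
    (φ : ∀ n : ℕ, R ⊗[K] (Hoch.cochain K A V n) →ₗ[R] (Hoch.cochain R (R ⊗[K] A) (R ⊗[K] V) n))
    (hφ0 : ∀ x : R ⊗[K] V, φ 0 x = x)
    (hφs : ∀ (n : ℕ) (r : R) (c : Hoch.cochain K A V n) (a : A),
      φ (n + 1) (r ⊗ₜ[K] (c ⊗ₜ[K] a)) = (φ n (r ⊗ₜ[K] c)) ⊗ₜ[R] ((1 : R) ⊗ₜ[K] a)) :
    letI := CoactBr.Comod.baseChange K R A V
    (∀ n : ℕ, Function.Bijective (φ n)) ∧
    (∀ (n : ℕ) (x : R ⊗[K] (Hoch.cochain K A V n)),
        φ (n + 1) ((Hoch.d K A V n).baseChange R x) = Hoch.d R (R ⊗[K] A) (R ⊗[K] V) n (φ n x)) ∧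
      ∀ n : ℕ, ∃ e : R ⊗[K] Hoch.H K A V n ≃ₗ[R] Hoch.H R (R ⊗[K] A) (R ⊗[K] V) n,
        ∀ (r : R) (z : Hoch.cocycles K A V n)
          (hz : φ n (r ⊗ₜ[K] (z : Hoch.cochain K A V n)) ∈ Hoch.cocycles R (R ⊗[K] A) (R ⊗[K] V) n),
          e (r ⊗ₜ[K] Hoch.H.mk K A V n z) = Hoch.H.mk R (R ⊗[K] A) (R ⊗[K] V) n ⟨φ n (r ⊗ₜ[K] (z : Hoch.cochain K A V n)), hz⟩ := by
  letI : HopfRep.Comod R (R ⊗[K] A) (R ⊗[K] V) := CoactBr.Comod.baseChange K R A V
  have hφ : ∀ n, φ n = (Groth.Agent.Lib.Helper52.HochBCB.psi K A V R n).toLinearMap :=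
    Groth.Agent.Lib.Helper52.HochBCB.eq_psi K A V R φ hφ0 hφs
  refine ⟨?_, ?_, ?_⟩
  · intro n
    rw [hφ n]
    exact (Groth.Agent.Lib.Helper52.HochBCB.psi K A V R n).bijective
  · intro n x
    rw [hφ (n + 1), hφ n]
    exact Groth.Agent.Lib.Helper52.HochBCB.psi_d K A V R n x
  · intro n
    obtain ⟨e, he⟩ := Groth.Agent.Lib.Helper52.HochBCB.exists_H_equiv K A V R n
    refine ⟨e, ?_⟩
    intro r z hz
    have hz' : Groth.Agent.Lib.Helper52.HochBCB.psi K A V R n (r ⊗ₜ[K] (z : Hoch.cochain K A V n)) ∈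
        Hoch.cocycles R (R ⊗[K] A) (R ⊗[K] V) n := by
      have := hz
      rw [hφ n] at this
      exact this
    rw [he r z hz']
    congr 1
    apply Subtype.ext
    change _ = φ n (r ⊗ₜ[K] (z : Hoch.cochain K A V n))
    rw [hφ n]
    rfl

end Groth.Agent.S19275
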