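import Groth.Statements.S19276
import Mathlib
import Groth.Agent.Lib.Helper97.CycDecomp
-- import your own Groth.Agent.* helpers here

set_option autoImplicit false
universe u v
open GrpAlg

namespace Groth.Agent.S19276

open W4c6equivkfinstab Polynomial
open Groth.Agent.Lib.Helper97.CycDecomp

section general

variable {Λ : Type*} [CommRing Λ] {A : Type*} [AddCommGroup A] {C : Type*} [AddCommGroup C]

/-- the map `Λ[A] → CycQuot Λ C` induced by `q : A →+ C` -/
noncomputable def hq (Λ : Type*) [CommRing Λ] (q : A →+ C) :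
    AddMonoidAlgebra Λ A →+* CycQuot Λ C :=
  (Ideal.Quotient.mk (cycIdeal Λ C)).comp (AddMonoidAlgebra.mapDomainRingHom Λ q)

lemma hq_apply (q : A →+ C) (x : AddMonoidAlgebra Λ A) :
    hq Λ q x = Ideal.Quotient.mk (cycIdeal Λ C) (AddMonoidAlgebra.mapDomainRingHom Λ q x) := rfl

lemma mapDomainRingHom_single (q : A →+ C) (a : A) (r : Λ) :
    AddMonoidAlgebra.mapDomainRingHom Λ q (AddMonoidAlgebra.single a r) =
      AddMonoidAlgebra.single (q a) r := by
  simp

lemma hq_single (q : A →+ C) (a : A) (r : Λ) :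
    hq Λ q (AddMonoidAlgebra.single a r) =
      Ideal.Quotient.mk (cycIdeal Λ C) (AddMonoidAlgebra.single (q a) r) := by
  rw [hq_apply, mapDomainRingHom_single]

lemma hq_single_sub_one_of_ker (q : A →+ C) {b : A} (hb : q b = 0) :
    hq Λ q (AddMonoidAlgebra.single b 1 - 1) = 0 := by
  rw [map_sub, hq_single, hb, map_one, ← AddMonoidAlgebra.one_def, map_one, sub_self]

lemma mapDomainRingHom_surjective (q : A →+ C) (hqs : Function.Surjective q) :
    Function.Surjective (AddMonoidAlgebra.mapDomainRingHom Λ q) := by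
  intro y
  induction y using AddMonoidAlgebra.induction_linear with
  | zero => exact ⟨0, map_zero _⟩
  | add y z hy hz =>
    obtain ⟨y', rfl⟩ := hy
    obtain ⟨z', rfl⟩ := hz
    exact ⟨y' + z', map_add _ _ _⟩
  | single c r =>
    obtain ⟨a, rfl⟩ := hqs c
    exact ⟨AddMonoidAlgebra.single a r, mapDomainRingHom_single q a r⟩

lemma hq_surjective (q : A →+ C) (hqs : Function.Surjective q) :
    Function.Surjective (hq Λ q) := by
  intro y
  obtain ⟨z, rfl⟩ := Ideal.Quotient.mk_surjective y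
  obtain ⟨x, rfl⟩ := mapDomainRingHom_surjective (Λ := Λ) q hqs z
  exact ⟨x, rfl⟩

lemma exists_hq_mul_single_sub_one [Finite C] [IsAddCyclic C]
    (hu : IsUnit ((Nat.card C : ℕ) : Λ))
    (q : A →+ C) (hqs : Function.Surjective q) {b : A} (hb : q b ≠ 0) :
    ∃ y : AddMonoidAlgebra Λ A, hq Λ q (y * (AddMonoidAlgebra.single b 1 - 1)) = 1 := by
  have hU := isUnit_mk_single_sub_one (Λ := Λ) (C := C) hu hb
  obtain ⟨y, hy⟩ := hq_surjective (Λ := Λ) q hqs (↑hU.unit⁻¹)
  refine ⟨y, ?_⟩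
  have h1 : hq Λ q (AddMonoidAlgebra.single b 1 - 1) =
      Ideal.Quotient.mk (cycIdeal Λ C) (AddMonoidAlgebra.single (q b) (1 : Λ) - 1) := by
    rw [map_sub, hq_single, map_one, map_sub, map_one]
  rw [map_mul, hy, h1]
  exact hU.val_inv_mul

lemma exists_sep {C' : Type*} [AddCommGroup C'] [Finite C] [IsAddCyclic C] [Finite C']
    [IsAddCyclic C']
    (hu : IsUnit ((Nat.card C : ℕ) : Λ)) (hu' : IsUnit ((Nat.card C' : ℕ) : Λ))
    (q : A →+ C) (hqs : Function.Surjective q) (q' : A →+ C') (hqs' : Function.Surjective q')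
    (hne : q.ker ≠ q'.ker) :
    ∃ s : AddMonoidAlgebra Λ A, hq Λ q s = 1 ∧ hq Λ q' s = 0 := by
  by_cases hle : q.ker ≤ q'.ker
  · have hnle : ¬ q'.ker ≤ q.ker := fun h => hne (le_antisymm hle h)
    obtain ⟨b, hb', hb⟩ := SetLike.not_le_iff_exists.mp hnle
    obtain ⟨y, hy⟩ := exists_hq_mul_single_sub_one hu q hqs (b := b)
      (fun h => hb (AddMonoidHom.mem_ker.mpr h))
    refine ⟨y * (AddMonoidAlgebra.single b 1 - 1), hy, ?_⟩
    rw [map_mul, hq_single_sub_one_of_ker q' (AddMonoidHom.mem_ker.mp hb'), mul_zero]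
  · obtain ⟨b, hb, hb'⟩ := SetLike.not_le_iff_exists.mp hle
    obtain ⟨y, hy⟩ := exists_hq_mul_single_sub_one hu' q' hqs' (b := b)
      (fun h => hb' (AddMonoidHom.mem_ker.mpr h))
    refine ⟨1 - y * (AddMonoidAlgebra.single b 1 - 1), ?_, ?_⟩
    · rw [map_sub, map_mul, hq_single_sub_one_of_ker q (AddMonoidHom.mem_ker.mp hb), mul_zero,
        map_one, sub_zero]
    · rw [map_sub, hy, map_one, sub_self]

lemma isUnit_card_of_surjective [Finite A] (q : A →+ C) (hqs : Function.Surjective q)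
    (hA : IsUnit ((Nat.card A : ℕ) : Λ)) : IsUnit ((Nat.card C : ℕ) : Λ) := by
  obtain ⟨k, hk⟩ := AddSubgroup.card_dvd_of_surjective q hqs
  rw [hk, Nat.cast_mul] at hA
  exact isUnit_of_mul_isUnit_left hA

end general

section family

lemma exists_idem {R : Type*} [CommRing R] {ι : Type*} [Finite ι] {T : ι → Type*}
    [∀ i, CommRing (T i)]
    (f : ∀ i, R →+* T i) (hsep : ∀ i j, i ≠ j → ∃ s, f i s = 1 ∧ f j s = 0) :
    ∃ e : ι → R, (∀ i, f i (e i) = 1) ∧ (∀ i j, i ≠ j → f j (e i) = 0) := by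
  classical
  haveI : Fintype ι := Fintype.ofFinite ι
  have h' : ∀ i j, ∃ s, i ≠ j → (f i s = 1 ∧ f j s = 0) := by
    intro i j
    by_cases hij : i = j
    · exact ⟨0, fun h => (h hij).elim⟩
    · obtain ⟨s, hs⟩ := hsep i j hij
      exact ⟨s, fun _ => hs⟩
  choose s hs using h'
  refine ⟨fun i => ∏ j ∈ Finset.univ.erase i, s i j, ?_, ?_⟩
  · intro i
    rw [map_prod]
    exact Finset.prod_eq_one fun j hj => (hs i j (Finset.ne_of_mem_erase hj).symm).1
  · intro i j hij
    rw [map_prod]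
    exact Finset.prod_eq_zero (Finset.mem_erase.mpr ⟨hij.symm, Finset.mem_univ j⟩) (hs i j hij).2

lemma pi_surjective_of_idem {R : Type*} [CommRing R] {ι : Type*} [Finite ι] {T : ι → Type*}
    [∀ i, CommRing (T i)]
    (f : ∀ i, R →+* T i) (hsurj : ∀ i, Function.Surjective (f i))
    (e : ι → R) (he1 : ∀ i, f i (e i) = 1) (he0 : ∀ i j, i ≠ j → f j (e i) = 0) :
    Function.Surjective (RingHom.pi f) := by
  classical
  haveI : Fintype ι := Fintype.ofFinite ι
  intro y
  choose x hx using fun i => hsurj i (y i)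
  refine ⟨∑ i, e i * x i, ?_⟩
  funext j
  show f j (∑ i, e i * x i) = y j
  rw [map_sum, Finset.sum_eq_single j]
  · rw [map_mul, he1, one_mul, hx]
  · intro i _ hij
    rw [map_mul, he0 i j hij, zero_mul]
  · intro h; exact (h (Finset.mem_univ j)).elim

end family

section fourier

variable (Λ : Type*) [CommRing Λ] (n : ℕ)

/-- `Λ[X]/(Φ_n)` -/
abbrev Lp := AdjoinRoot (cyclotomic n Λ)

/-- the canonical root of `Φ_n` -/
noncomputable def zt : Lp Λ n := AdjoinRoot.root (cyclotomic n Λ)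

lemma zt_cyc : (cyclotomic n (Lp Λ n)).eval (zt Λ n) = 0 := by
  rw [← map_cyclotomic n (AdjoinRoot.of (cyclotomic n Λ)), eval_map]
  exact AdjoinRoot.eval₂_root _

lemma zt_pow : zt Λ n ^ n = 1 := by
  obtain ⟨q, hq⟩ := cyclotomic.dvd_X_pow_sub_one n (Lp Λ n)
  have h := congrArg (eval (zt Λ n)) hq
  rw [eval_mul, zt_cyc, zero_mul, eval_sub, eval_pow, eval_X, eval_one] at h
  exact sub_eq_zero.mp h

lemma zt_pow_sub_one_isUnit (hn0 : 0 < n) (hn : IsUnit ((n : ℕ) : Λ)) (k : ℕ) (hk : ¬ n ∣ k) :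
    IsUnit (zt Λ n ^ k - 1) := by
  have hdn : Nat.gcd k n ∣ n := Nat.gcd_dvd_right _ _
  have hdne : Nat.gcd k n ≠ n := fun h => hk (h ▸ Nat.gcd_dvd_left k n)
  have hdlt : Nat.gcd k n < n := lt_of_le_of_ne (Nat.le_of_dvd hn0 hdn) hdne
  have hdprop : Nat.gcd k n ∈ n.properDivisors := Nat.mem_properDivisors.mpr ⟨hdn, hdlt⟩
  have hn' : IsUnit ((n : ℕ) : Lp Λ n) := by
    simpa using hn.map (algebraMap Λ (Lp Λ n))
  obtain ⟨a, b, hab⟩ := isCoprime_X_pow_sub_one_cyclotomic (Lp Λ n) hdprop hn'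
  have hev := congrArg (eval (zt Λ n)) hab
  rw [eval_add, eval_mul, eval_mul, zt_cyc, mul_zero, add_zero, eval_sub, eval_pow, eval_X,
    eval_one] at hev
  have hud : IsUnit (zt Λ n ^ (Nat.gcd k n) - 1) :=
    IsUnit.of_mul_eq_one _ (by rw [mul_comm]; exact hev)
  obtain ⟨α, -, hα⟩ := Nat.exists_mul_mod_eq_gcd (n := k) (k := n) hdlt
  have hpow : zt Λ n ^ (Nat.gcd k n) = (zt Λ n ^ k) ^ α := by
    rw [← pow_mul, ← hα]
    exact (pow_eq_pow_mod _ (zt_pow Λ n)).symm
  have hdvd : (zt Λ n ^ k - 1) ∣ (zt Λ n ^ (Nat.gcd k n) - 1) := by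
    rw [hpow]
    simpa using sub_dvd_pow_sub_pow (zt Λ n ^ k) 1 α
  exact isUnit_of_dvd_unit hdvd hud

lemma algebraMap_Lp_injective (hn0 : 0 < n) : Function.Injective (algebraMap Λ (Lp Λ n)) := by
  rcases subsingleton_or_nontrivial Λ with h | h
  · exact Function.injective_of_subsingleton _
  rw [injective_iff_map_eq_zero]
  intro r hr
  rw [AdjoinRoot.algebraMap_eq, ← AdjoinRoot.mk_C, AdjoinRoot.mk_eq_zero] at hr
  by_contra hne
  have hne' : (C r : Λ[X]) ≠ 0 := by rwa [Ne, C_eq_zero]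
  refine (cyclotomic.monic n Λ).not_dvd_of_natDegree_lt hne' ?_ hr
  rw [natDegree_C, natDegree_cyclotomic]
  exact Nat.totient_pos.mpr hn0

variable [NeZero n]

/-- `k ↦ ζ^k` as a monoid hom from `ZMod n` -/
noncomputable def Ehom : Multiplicative (ZMod n) →* Lp Λ n where
  toFun k := zt Λ n ^ (Multiplicative.toAdd k).val
  map_one' := by simp
  map_mul' j k := by
    rw [toAdd_mul, ZMod.val_add, ← pow_add]
    exact (pow_eq_pow_mod _ (zt_pow Λ n)).symm

/-- `z ↦ ζ^z` -/
noncomputable def E (z : ZMod n) : Lp Λ n := Ehom Λ n (Multiplicative.ofAdd z)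

lemma E_def (z : ZMod n) : E Λ n z = zt Λ n ^ z.val := rfl

lemma E_zero : E Λ n 0 = 1 := by simp [E_def]

lemma E_add (y z : ZMod n) : E Λ n (y + z) = E Λ n y * E Λ n z := by
  unfold E; rw [ofAdd_add, map_mul]

lemma E_nsmul (k : ℕ) (z : ZMod n) : E Λ n (k • z) = E Λ n z ^ k := by
  unfold E; rw [ofAdd_nsmul, map_pow]

lemma E_sub_one_isUnit (hn : IsUnit ((n : ℕ) : Λ)) (z : ZMod n) (hz : z ≠ 0) :
    IsUnit (E Λ n z - 1) := by
  rw [E_def]
  apply zt_pow_sub_one_isUnit Λ n (NeZero.pos n) hn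
  intro hdvd
  exact hz ((ZMod.val_eq_zero z).mp (Nat.eq_zero_of_dvd_of_lt hdvd (ZMod.val_lt z)))

lemma eval_E_cyclotomic (hn : IsUnit ((n : ℕ) : Λ)) (z : ZMod n) :
    (cyclotomic (addOrderOf z) (Lp Λ n)).eval (E Λ n z) = 0 := by
  have hd0 : 0 < addOrderOf z := addOrderOf_pos z
  have hwd : E Λ n z ^ addOrderOf z = 1 := by
    rw [← E_nsmul, addOrderOf_nsmul_eq_zero, E_zero]
  have hprod := congrArg (eval (E Λ n z)) (prod_cyclotomic_eq_X_pow_sub_one hd0 (Lp Λ n))
  rw [eval_prod, eval_sub, eval_pow, eval_X, eval_one, hwd, sub_self,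
    ← Nat.insert_self_properDivisors hd0.ne',
    Finset.prod_insert Nat.self_notMem_properDivisors] at hprod
  have hunit : IsUnit (∏ e ∈ (addOrderOf z).properDivisors,
      (cyclotomic e (Lp Λ n)).eval (E Λ n z)) := by
    refine Finset.prod_induction _ IsUnit (fun _ _ => IsUnit.mul) isUnit_one ?_
    intro e he
    rw [Nat.mem_properDivisors] at he
    have he0 : e ≠ 0 := fun h => by
      rw [h, zero_dvd_iff] at he; exact hd0.ne' he.1
    have hne : e • z ≠ 0 := nsmul_ne_zero_of_lt_addOrderOf he0 he.2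
    have hu := E_sub_one_isUnit Λ n hn (e • z) hne
    rw [E_nsmul] at hu
    obtain ⟨q, hq⟩ := cyclotomic.dvd_X_pow_sub_one e (Lp Λ n)
    have h2 := congrArg (eval (E Λ n z)) hq
    rw [eval_sub, eval_pow, eval_X, eval_one, eval_mul] at h2
    exact isUnit_of_dvd_unit ⟨_, h2⟩ hu
  exact (hunit.mul_left_eq_zero).mp hprod

/-- evaluation at the character `χ` -/
noncomputable def ev {G : Type*} [AddCommGroup G] (χ : G →+ ZMod n) :
    AddMonoidAlgebra Λ G →ₐ[Λ] Lp Λ n :=
  AddMonoidAlgebra.lift Λ (Lp Λ n) G ((Ehom Λ n).comp (AddMonoidHom.toMultiplicative χ))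

lemma ev_single {G : Type*} [AddCommGroup G] (χ : G →+ ZMod n) (a : G) (r : Λ) :
    ev Λ n χ (AddMonoidAlgebra.single a r) = r • E Λ n (χ a) := by
  rw [ev, AddMonoidAlgebra.lift_single]; rfl

lemma ev_comp {G H : Type*} [AddCommGroup G] [AddCommGroup H] (q : G →+ H) (ψ : H →+ ZMod n)
    (x : AddMonoidAlgebra Λ G) :
    ev Λ n (ψ.comp q) x = ev Λ n ψ (AddMonoidAlgebra.mapDomainRingHom Λ q x) := by
  induction x using AddMonoidAlgebra.induction_linear with
  | zero => simp
  | add y z hy hz => rw [map_add, map_add, map_add, hy, hz]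
  | single a r => rw [ev_single, mapDomainRingHom_single, ev_single]; rfl

lemma cycIdeal_le_ker (hn : IsUnit ((n : ℕ) : Λ)) {H : Type*} [AddCommGroup H] [Finite H]
    (ψ : H →+ ZMod n) (hψ : Function.Injective ψ) (x : AddMonoidAlgebra Λ H)
    (hx : x ∈ cycIdeal Λ H) : ev Λ n ψ x = 0 := by
  have hle : cycIdeal Λ H ≤ RingHom.ker (ev Λ n ψ) := by
    unfold cycIdeal
    rw [Ideal.span_le]
    rintro _ ⟨g, hg, rfl⟩
    rw [SetLike.mem_coe, RingHom.mem_ker, ← Polynomial.aeval_algHom_apply, ev_single, one_smul,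
      aeval_def, eval₂_eq_eval_map, map_cyclotomic]
    have hord : addOrderOf (ψ g) = Nat.card H := by
      rw [addOrderOf_injective ψ hψ, ← Nat.card_zmultiples, hg,
        Nat.card_congr (AddSubgroup.topEquiv (G := H)).toEquiv]
    rw [← hord]
    exact eval_E_cyclotomic Λ n hn (ψ g)
  exact hle hx

lemma ev_eq_zero_of_hq (hn : IsUnit ((n : ℕ) : Λ)) {G H : Type*} [AddCommGroup G]
    [AddCommGroup H] (q : G →+ H) (ψ : H →+ ZMod n) (hψ : Function.Injective ψ)
    (x : AddMonoidAlgebra Λ G) (h : hq Λ q x = 0) : ev Λ n (ψ.comp q) x = 0 := by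
  haveI : Finite H := Finite.of_injective ψ hψ
  rw [ev_comp]
  rw [hq_apply, Ideal.Quotient.eq_zero_iff_mem] at h
  exact cycIdeal_le_ker Λ n hn ψ hψ _ h

omit [NeZero n] in
lemma hasEnough (e : ℕ) [NeZero n] (he : e ∣ n) :
    HasEnoughRootsOfUnity (Multiplicative (ZMod n)) e where
  prim := by
    obtain ⟨q, hq⟩ := he
    have hq0 : 0 < q := by
      rcases Nat.eq_zero_or_pos q with h | h
      · exfalso; rw [h, mul_zero] at hq; exact NeZero.ne n hq
      · exact h
    refine ⟨Multiplicative.ofAdd ((q : ℕ) : ZMod n), ?_⟩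
    have h1 : orderOf (Multiplicative.ofAdd ((q : ℕ) : ZMod n)) = e := by
      rw [orderOf_ofAdd_eq_addOrderOf, ZMod.addOrderOf_coe q (NeZero.ne n)]
      conv_lhs => rw [hq]
      rw [Nat.gcd_mul_left_left, Nat.mul_div_cancel _ hq0]
    rw [← h1]; exact IsPrimitiveRoot.orderOf _
  cyc := by
    haveI : IsCyclic (Multiplicative (ZMod n))ˣ :=
      isCyclic_of_surjective (toUnits (G := Multiplicative (ZMod n)))
        (toUnits (G := Multiplicative (ZMod n))).surjective
    infer_instance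

omit [NeZero n] in
lemma exists_char_ne_zero {A : Type*} [AddCommGroup A] [Finite A] [NeZero n]
    (hAn : ∀ a : A, n • a = 0) {c : A} (hc : c ≠ 0) : ∃ χ : A →+ ZMod n, χ c ≠ 0 := by
  have he : Monoid.exponent (Multiplicative A) ∣ n :=
    Monoid.exponent_dvd_of_forall_pow_eq_one fun g => by
      have hg : g = Multiplicative.ofAdd (Multiplicative.toAdd g) := (ofAdd_toAdd g).symm
      rw [hg, ← ofAdd_nsmul, hAn, ofAdd_zero]
  haveI := hasEnough n _ he
  have hc' : (Multiplicative.ofAdd c : Multiplicative A) ≠ 1 := fun h => hc (ofAdd_eq_one.mp h)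
  obtain ⟨φ, hφ⟩ := CommGroup.exists_apply_ne_one_of_hasEnoughRootsOfUnity (Multiplicative A)
    (Multiplicative (ZMod n)) hc'
  refine ⟨AddMonoidHom.toMultiplicative.symm ((Units.coeHom _).comp φ), ?_⟩
  intro h0
  apply hφ
  have h1 : ((φ (Multiplicative.ofAdd c) : (Multiplicative (ZMod n))ˣ) :
      Multiplicative (ZMod n)) = 1 := toAdd_eq_zero.mp h0
  exact Units.ext h1

theorem fourier_injective (hn : IsUnit ((n : ℕ) : Λ)) {A : Type*} [AddCommGroup A] [Finite A]
    (hAn : ∀ a : A, n • a = 0) (x : AddMonoidAlgebra Λ A)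
    (hx : ∀ χ : A →+ ZMod n, ev Λ n χ x = 0) : x = 0 := by
  classical
  haveI : Finite (A →+ ZMod n) :=
    Finite.of_injective (fun f : A →+ ZMod n => (f : A → ZMod n)) DFunLike.coe_injective
  haveI : Fintype (A →+ ZMod n) := Fintype.ofFinite _
  have hNunit : IsUnit ((Fintype.card (A →+ ZMod n) : ℕ) : Λ) := by
    have h1 : Nat.card (A →+ ZMod n) ∣ n ^ AddGroup.rank (A →+ ZMod n) :=
      card_dvd_exponent_nsmul_rank' (A →+ ZMod n) (fun χ => by ext a; simp)
    rw [Nat.card_eq_fintype_card] at h1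
    obtain ⟨q, hq⟩ := h1
    have h2 : IsUnit (((n ^ AddGroup.rank (A →+ ZMod n) : ℕ)) : Λ) := by
      rw [Nat.cast_pow]; exact hn.pow _
    rw [hq, Nat.cast_mul] at h2
    exact isUnit_of_mul_isUnit_left h2
  have horth : ∀ c : A, c ≠ 0 → ∑ χ : A →+ ZMod n, E Λ n (χ c) = 0 := by
    intro c hc
    obtain ⟨χ₀, hχ₀⟩ := exists_char_ne_zero n hAn hc
    have hu := E_sub_one_isUnit Λ n hn (χ₀ c) hχ₀
    have hshift : E Λ n (χ₀ c) * ∑ χ : A →+ ZMod n, E Λ n (χ c) =
        ∑ χ : A →+ ZMod n, E Λ n (χ c) := by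
      rw [Finset.mul_sum]
      refine Fintype.sum_equiv (Equiv.addLeft χ₀) _ _ (fun χ => ?_)
      rw [← E_add]; rfl
    have h0 : (E Λ n (χ₀ c) - 1) * ∑ χ : A →+ ZMod n, E Λ n (χ c) = 0 := by
      rw [sub_mul, hshift, one_mul, sub_self]
    exact (hu.mul_right_eq_zero).mp h0
  have hfour : ∀ (a : A) (y : AddMonoidAlgebra Λ A),
      ∑ χ : A →+ ZMod n, E Λ n (-(χ a)) * ev Λ n χ y =
        algebraMap Λ (Lp Λ n) (((Fintype.card (A →+ ZMod n) : ℕ) : Λ) * y.coeff a) := by
    intro a y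
    induction y using AddMonoidAlgebra.induction_linear with
    | zero => simp
    | add y z hy hz =>
      simp only [map_add, mul_add, Finset.sum_add_distrib, hy, hz, AddMonoidAlgebra.coeff_add,
        Finsupp.add_apply]
    | single b r =>
      have hterm : ∀ χ : A →+ ZMod n,
          E Λ n (-(χ a)) * ev Λ n χ (AddMonoidAlgebra.single b r) = r • E Λ n (χ (b - a)) := by
        intro χ
        rw [ev_single, mul_smul_comm, ← E_add, neg_add_eq_sub, ← map_sub]
      rw [Finset.sum_congr rfl (fun χ _ => hterm χ), ← Finset.smul_sum,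
        AddMonoidAlgebra.coeff_single, Finsupp.single_apply]
      by_cases hba : b = a
      · subst hba
        have hsum : ∑ χ : A →+ ZMod n, E Λ n (χ (b - b)) =
            ((Fintype.card (A →+ ZMod n) : ℕ) : Lp Λ n) := by
          simp [E_zero]
        rw [hsum, if_pos rfl, Algebra.smul_def, map_mul, map_natCast, mul_comm]
      · rw [horth (b - a) (sub_ne_zero.mpr hba), smul_zero, if_neg hba, mul_zero, map_zero]
  have hcoeff : ∀ a : A, x.coeff a = 0 := by
    intro a
    have h1 := hfour a x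
    rw [Finset.sum_eq_zero (fun χ _ => by rw [hx χ, mul_zero])] at h1
    have h2 : ((Fintype.card (A →+ ZMod n) : ℕ) : Λ) * x.coeff a = 0 :=
      algebraMap_Lp_injective Λ n (NeZero.pos n) (by rw [← h1, map_zero])
    exact (hNunit.mul_right_eq_zero).mp h2
  apply AddMonoidAlgebra.coeff_injective
  ext a
  rw [hcoeff a]; rfl

end fourier

/-- Let `A` be a finite commutative group and `Λ` a commutative ring in which the order of `A` is
invertible. Then the ring homomorphism from the group ring `Λ[A]` to the product, over the subgroups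
`B` of `A` with cyclic quotient, of the cyclotomic quotients `Λ[A ⧸ B]/(Φ_{|A/B|})`, each component
induced by `A → A/B`, is bijective. (In terms of group schemes: `Λ[A]` is the representation ring
with coefficients in `Λ` of the finite diagonalizable group with character group `A`, the factors
are indexed by its dual cyclic subgroups, i.e. those isomorphic to some `μ_n`, and the components
are restriction followed by the cyclotomic quotient. The published statement takes `Λ = ℤ[1/|A|]`;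
here `Λ` is any commutative ring in which `|A|` is invertible.) -/
theorem result (Λ : Type u) [CommRing Λ] (A : Type v)
    [AddCommGroup A] [Finite A] (hA : IsUnit ((Nat.card A : ℕ) : Λ)) :
    Function.Bijective (RingHom.pi fun B : {B : AddSubgroup A // IsAddCyclic (A ⧸ B)} =>
      W4c6equivkfinstab.cycQuotMap Λ A B.1) := by
  classical
  haveI : NeZero (Nat.card A) := ⟨Nat.card_pos.ne'⟩
  constructor
  · rw [injective_iff_map_eq_zero]
    intro x hx
    apply fourier_injective Λ (Nat.card A) hA (fun a => card_nsmul_eq_zero') x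
    intro χ
    have hcyc : IsAddCyclic (A ⧸ χ.ker) :=
      isAddCyclic_of_injective (QuotientAddGroup.kerLift χ) (QuotientAddGroup.kerLift_injective χ)
    have h1 : hq Λ (QuotientAddGroup.mk' χ.ker) x = 0 := congrFun hx ⟨χ.ker, hcyc⟩
    have h2 := ev_eq_zero_of_hq Λ (Nat.card A) hA (QuotientAddGroup.mk' χ.ker)
      (QuotientAddGroup.kerLift χ) (QuotientAddGroup.kerLift_injective χ) x h1
    have h3 : (QuotientAddGroup.kerLift χ).comp (QuotientAddGroup.mk' χ.ker) = χ := by
      ext a; rfl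
    rwa [h3] at h2
  · have hsep : ∀ B B' : {B : AddSubgroup A // IsAddCyclic (A ⧸ B)}, B ≠ B' →
        ∃ s, W4c6equivkfinstab.cycQuotMap Λ A B.1 s = 1 ∧
          W4c6equivkfinstab.cycQuotMap Λ A B'.1 s = 0 := by
      intro B B' hne
      haveI := B.2
      haveI := B'.2
      have hs1 := QuotientAddGroup.mk'_surjective B.1
      have hs2 := QuotientAddGroup.mk'_surjective B'.1
      refine exists_sep (Λ := Λ) (isUnit_card_of_surjective _ hs1 hA)
        (isUnit_card_of_surjective _ hs2 hA) (QuotientAddGroup.mk' B.1) hs1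
        (QuotientAddGroup.mk' B'.1) hs2 ?_
      rw [QuotientAddGroup.ker_mk', QuotientAddGroup.ker_mk']
      exact fun h => hne (Subtype.ext h)
    obtain ⟨e, he1, he0⟩ := exists_idem
      (fun B : {B : AddSubgroup A // IsAddCyclic (A ⧸ B)} =>
        W4c6equivkfinstab.cycQuotMap Λ A B.1) hsep
    exact pi_surjective_of_idem _
      (fun B => hq_surjective (Λ := Λ) (QuotientAddGroup.mk' B.1)
        (QuotientAddGroup.mk'_surjective B.1)) e he1 he0

end Groth.Agent.S19276
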