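import Groth.Statements.S19277
import Groth.Agent.Lib.Helper97.CycDecomp

set_option autoImplicit false
universe u v
open GrpAlg

namespace Groth.Agent.S19277

/-- Let `M` be a commutative group, `B ≠ B'` subgroups of finite index with `M ⧸ B` and `M ⧸ B'` cyclic,
and `Λ` a commutative ring in which both indices are invertible. Then the localization of the
`Λ[M]`-module `Λ[M ⧸ B]/(Φ_{|M/B|})` at the multiplicative subset of `Λ[M]` of elements with image
`1` in `Λ[M ⧸ B']/(Φ_{|M/B'|})` is zero. (In terms of group schemes: for two distinct dual cyclic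
subgroups σ, σ' of the diagonalizable group with character group `M`, the ring R̃(σ) with
coefficients in `Λ` vanishes after localization at σ'. The published statement has a split torus,
i.e. `M` free of finite rank, and `Λ = ℤ[1/N]` for `N` the order of the subgroup generated by σ and
σ'; here `M` is any commutative group and `Λ` any commutative ring in which the orders of σ and σ'
are invertible.) -/
theorem result (Λ : Type u) [CommRing Λ] (M : Type v)
    [AddCommGroup M] (B B' : AddSubgroup M) [B.FiniteIndex] [B'.FiniteIndex]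
    [IsAddCyclic (M ⧸ B)] [IsAddCyclic (M ⧸ B')] (hne : B ≠ B')
    (hu : IsUnit ((B.index * B'.index : ℕ) : Λ)) :
    Subsingleton (LocalizedModule (W4c6equivkfinstab.locSubmonoid Λ M B')
      (W4c6equivkfinstab.CycQuot Λ (M ⧸ B))) := by
  open Groth.Agent.Lib.Helper97.CycDecomp in
  classical
  have huB : IsUnit ((B.index : ℕ) : Λ) := by
    rw [Nat.cast_mul] at hu
    exact isUnit_of_mul_isUnit_left hu
  have huB' : IsUnit ((B'.index : ℕ) : Λ) := by
    rw [Nat.cast_mul] at hu
    exact isUnit_of_mul_isUnit_right hu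
  rw [LocalizedModule.subsingleton_iff]
  -- it suffices to find `s` with image `1` at `B'` and `0` at `B`
  suffices h : ∃ s : AddMonoidAlgebra Λ M,
      W4c6equivkfinstab.cycQuotMap Λ M B' s = 1 ∧ W4c6equivkfinstab.cycQuotMap Λ M B s = 0 by
    obtain ⟨s, hs1, hs0⟩ := h
    intro m
    refine ⟨s, hs1, ?_⟩
    rw [smul_cycQuot_def, hs0, zero_mul]
  by_cases hle : B' ≤ B
  · -- then some `b ∈ B`, `b ∉ B'`
    have : ¬ B ≤ B' := fun h => hne (le_antisymm h hle)
    obtain ⟨b, hbB, hbB'⟩ := SetLike.not_le_iff_exists.mp this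
    obtain ⟨y, hy⟩ := exists_mul_single_sub_one (Λ := Λ) B' huB' hbB'
    refine ⟨y * (AddMonoidAlgebra.single b 1 - 1), hy, ?_⟩
    rw [map_mul, cycQuotMap_single_sub_one_of_mem B hbB, mul_zero]
  · obtain ⟨b', hb'B', hb'B⟩ := SetLike.not_le_iff_exists.mp hle
    obtain ⟨y, hy⟩ := exists_mul_single_sub_one (Λ := Λ) B huB hb'B
    refine ⟨1 - y * (AddMonoidAlgebra.single b' 1 - 1), ?_, ?_⟩
    · rw [map_sub, map_mul, cycQuotMap_single_sub_one_of_mem B' hb'B', mul_zero, map_one, sub_zero]
    · rw [map_sub, hy, map_one, sub_self]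

end Groth.Agent.S19277
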