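import Groth.Statements.S19279
import Groth.Agent.Lib.Helper97.CycDecomp

set_option autoImplicit false
universe u v
open GrpAlg

namespace Groth.Agent.S19279

/-- Let `M` be a commutative group, `B₀` a subgroup of finite index and `Λ` a commutative ring in which
the index of `B₀` is invertible. Then the `Λ[M]`-linear map from `Λ[M ⧸ B₀]` to the product, over
the subgroups `B ⊇ B₀` with `M ⧸ B` cyclic, of the localizations of `Λ[M ⧸ B₀]` at the
multiplicative subsets of `Λ[M]` of elements with image `1` in `Λ[M ⧸ B]/(Φ_{|M/B|})`, with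
components the localization maps, is bijective. (In terms of group schemes: for a finite closed
subgroup T' = D(M/B₀) of the diagonalizable group with character group `M`, the representation ring
of T' with coefficients in `Λ` is the product of its localizations at the dual cyclic subgroups of
T'. The published statement has a split torus and `Λ = ℤ[1/|T'|]`; here `M` is any commutative group
and `Λ` any commutative ring in which the order of T' is invertible.) -/
theorem result (Λ : Type u) [CommRing Λ]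
    (M : Type v) [AddCommGroup M] (B₀ : AddSubgroup M) [B₀.FiniteIndex]
    (hu : IsUnit ((B₀.index : ℕ) : Λ)) :
    Function.Bijective (LinearMap.pi (R := AddMonoidAlgebra Λ M)
      fun B : {B : AddSubgroup M // B₀ ≤ B ∧ IsAddCyclic (M ⧸ B)} =>
        LocalizedModule.mkLinearMap (W4c6equivkfinstab.locSubmonoid Λ M B.1)
          (AddMonoidAlgebra Λ (M ⧸ B₀))) := by
  open Groth.Agent.Lib.Helper97.CycDecomp in
  classical
  -- the index set and its basic properties
  have hfin : Finite {B : AddSubgroup M // B₀ ≤ B ∧ IsAddCyclic (M ⧸ B)} := by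
    have := finite_subgroups_ge B₀
    exact Finite.of_injective
      (fun B : {B : AddSubgroup M // B₀ ≤ B ∧ IsAddCyclic (M ⧸ B)} =>
        (⟨B.1, B.2.1⟩ : {B : AddSubgroup M // B₀ ≤ B}))
      (fun B B' h => Subtype.ext (Subtype.mk.inj h))
  have : Fintype {B : AddSubgroup M // B₀ ≤ B ∧ IsAddCyclic (M ⧸ B)} := Fintype.ofFinite _
  have hcyc : ∀ i : {B : AddSubgroup M // B₀ ≤ B ∧ IsAddCyclic (M ⧸ B)},
      IsAddCyclic (M ⧸ i.1) := fun i => i.2.2
  have hfi : ∀ i : {B : AddSubgroup M // B₀ ≤ B ∧ IsAddCyclic (M ⧸ B)},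
      (i.1).FiniteIndex := fun i => AddSubgroup.finiteIndex_of_le i.2.1
  have hui : ∀ i : {B : AddSubgroup M // B₀ ≤ B ∧ IsAddCyclic (M ⧸ B)},
      IsUnit (((i.1).index : ℕ) : Λ) :=
    fun i => isUnit_natCast_of_dvd (AddSubgroup.index_dvd_of_le i.2.1) hu
  -- relative injectivity
  have G1 : ∀ x : AddMonoidAlgebra Λ M,
      (∀ B : {B : AddSubgroup M // B₀ ≤ B ∧ IsAddCyclic (M ⧸ B)},
        W4c6equivkfinstab.cycQuotMap Λ M B.1 x = 0) →
      W4c6equivkfinstab.quotMap Λ M B₀ x = 0 := fun x hx =>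
    quotMap_eq_zero_of_forall B₀ hu x (fun B hB hB' => hx ⟨B, hB, hB'⟩)
  -- orthogonal "idempotents"
  have hex : ∀ B : {B : AddSubgroup M // B₀ ≤ B ∧ IsAddCyclic (M ⧸ B)},
      ∃ r : AddMonoidAlgebra Λ M,
        ∀ B' : {B : AddSubgroup M // B₀ ≤ B ∧ IsAddCyclic (M ⧸ B)},
          W4c6equivkfinstab.cycQuotMap Λ M B'.1 r = if B' = B then 1 else 0 := by
    intro B
    obtain ⟨r, hr⟩ := exists_crt (Λ := Λ)
      (fun B : {B : AddSubgroup M // B₀ ≤ B ∧ IsAddCyclic (M ⧸ B)} => B.1)
      Subtype.val_injective hui (fun B' => if B' = B then 1 else 0)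
    refine ⟨r, fun B' => ?_⟩
    rw [hr B']
    split_ifs <;> simp
  choose e he using hex
  -- consequences of relative injectivity
  have ha : W4c6equivkfinstab.quotMap Λ M B₀ (∑ B, e B) = 1 := by
    rw [← sub_eq_zero, ← map_one (W4c6equivkfinstab.quotMap Λ M B₀), ← map_sub]
    apply G1
    intro B'
    rw [map_sub, map_sum, map_one, Finset.sum_congr rfl (fun B _ => he B B'),
      Finset.sum_ite_eq Finset.univ B']
    simp
  have hb : ∀ (B : {B : AddSubgroup M // B₀ ≤ B ∧ IsAddCyclic (M ⧸ B)})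
      (s : AddMonoidAlgebra Λ M), W4c6equivkfinstab.cycQuotMap Λ M B.1 s = 1 →
      W4c6equivkfinstab.quotMap Λ M B₀ (e B * s) = W4c6equivkfinstab.quotMap Λ M B₀ (e B) := by
    intro B s hs
    rw [← sub_eq_zero, ← map_sub]
    apply G1
    intro B'
    rw [map_sub, map_mul, he B B']
    split_ifs with h
    · subst h; rw [hs]; simp
    · simp
  have hc : ∀ (B B' : {B : AddSubgroup M // B₀ ≤ B ∧ IsAddCyclic (M ⧸ B)}), B ≠ B' →
      W4c6equivkfinstab.quotMap Λ M B₀ (e B * e B') = 0 := by
    intro B B' hne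
    apply G1
    intro B''
    rw [map_mul, he B B'', he B' B'']
    split_ifs with h1 h2
    · exact absurd (h1.symm.trans h2) hne
    · simp
    · simp
    · simp
  have hd : ∀ (B : {B : AddSubgroup M // B₀ ≤ B ∧ IsAddCyclic (M ⧸ B)}),
      W4c6equivkfinstab.quotMap Λ M B₀ (e B * e B) = W4c6equivkfinstab.quotMap Λ M B₀ (e B) :=
    fun B => hb B (e B) (by rw [he B B]; simp)
  have heS : ∀ (B : {B : AddSubgroup M // B₀ ≤ B ∧ IsAddCyclic (M ⧸ B)}),
      e B ∈ W4c6equivkfinstab.locSubmonoid Λ M B.1 := by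
    intro B
    change W4c6equivkfinstab.cycQuotMap Λ M B.1 (e B) = 1
    rw [he B B]; simp
  constructor
  · -- injectivity
    rw [injective_iff_map_eq_zero]
    intro x hx
    have hx' : ∀ B : {B : AddSubgroup M // B₀ ≤ B ∧ IsAddCyclic (M ⧸ B)},
        ∃ s ∈ W4c6equivkfinstab.locSubmonoid Λ M B.1, s • x = 0 := by
      intro B
      have := congrFun hx B
      simp only [LinearMap.pi_apply, Pi.zero_apply] at this
      rwa [← LinearMap.mem_ker, LocalizedModule.mem_ker_mkLinearMap_iff] at this
    choose s hsS hs using hx'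
    calc x = W4c6equivkfinstab.quotMap Λ M B₀ (∑ B, e B) * x := by rw [ha, one_mul]
      _ = ∑ B, W4c6equivkfinstab.quotMap Λ M B₀ (e B) * x := by rw [map_sum, Finset.sum_mul]
      _ = 0 := by
        refine Finset.sum_eq_zero fun B _ => ?_
        rw [← hb B (s B) (hsS B), map_mul, mul_assoc, ← smul_quot_def B₀ (s B) x, hs B, mul_zero]
  · -- surjectivity
    intro z
    have hz : ∀ B : {B : AddSubgroup M // B₀ ≤ B ∧ IsAddCyclic (M ⧸ B)},
        ∃ (m : AddMonoidAlgebra Λ (M ⧸ B₀)) (t : W4c6equivkfinstab.locSubmonoid Λ M B.1),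
          z B = LocalizedModule.mk m t := by
      intro B
      induction z B using LocalizedModule.induction_on with
      | h m t => exact ⟨m, t, rfl⟩
    choose m t hmt using hz
    refine ⟨∑ B, W4c6equivkfinstab.quotMap Λ M B₀ (e B) * m B, ?_⟩
    funext B
    rw [LinearMap.pi_apply, LocalizedModule.mkLinearMap_apply, hmt B, LocalizedModule.mk_eq]
    refine ⟨⟨e B, heS B⟩, ?_⟩
    change e B • (t B).1 • _ = e B • (1 : AddMonoidAlgebra Λ M) • m B
    rw [one_smul, smul_quot_def, smul_quot_def, smul_quot_def, ← mul_assoc, ← map_mul,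
      hb B _ (t B).2, Finset.mul_sum, Finset.sum_eq_single B]
    · rw [← mul_assoc, ← map_mul, hd B]
    · intro B' _ hne
      rw [← mul_assoc, ← map_mul, hc B B' hne.symm, zero_mul]
    · intro h; exact absurd (Finset.mem_univ B) h

end Groth.Agent.S19279
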