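import Groth.Statements.S19288
-- import your own Groth.Agent.* helpers here

set_option autoImplicit false
universe u
open CategoryTheory CategoryTheory.Limits MonoidalCategory CartesianMonoidalCategory MonObj AlgebraicGeometry
open AbSch

namespace Groth.Agent.S19288

/-- Let S be a scheme, X a commutative S-group scheme which is etale and separated over S (hence locally
of finite presentation), and P a commutative S-group scheme of finite presentation over S all of
whose fibres are connected. Then every homomorphism of S-group schemes from P to X is trivial (it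
factors through the unit section). -/
theorem result {S : Scheme.{u}} (P X : Over S)
    [GrpObj P] [IsCommMonObj P] [GrpObj X] [IsCommMonObj X]
    [Etale X.hom] [IsSeparated X.hom]
    [QuasiCompact P.hom] [QuasiSeparated P.hom] [LocallyOfFinitePresentation P.hom]
    (hP : ∀ s : S, ConnectedSpace ↥(P.hom.fiber s))
    (f : P ⟶ X) [IsMonHom f] : f = 1 := by
  have he_sec : (η[X] : 𝟙_ (Over S) ⟶ X).left ≫ X.hom = 𝟙 S := by
    have := Over.w (η[X] : 𝟙_ (Over S) ⟶ X)
    simp
  have hp_sec : (η[P] : 𝟙_ (Over S) ⟶ P).left ≫ P.hom = 𝟙 S := by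
    have := Over.w (η[P] : 𝟙_ (Over S) ⟶ P)
    simp
  set e : S ⟶ X.left := (η[X] : 𝟙_ (Over S) ⟶ X).left with he
  have hopen : IsOpenImmersion e := by
    set gr : S ⟶ pullback (e ≫ X.hom) X.hom := pullback.lift (𝟙 S) e (by simp) with hgr
    have h1 : e = gr ≫ pullback.snd _ _ := (pullback.lift_snd _ _ _).symm
    rw [h1]
    have : IsOpenImmersion gr :=
      MorphismProperty.of_isPullback (P := @IsOpenImmersion)
        (pullback_lift_diagonal_isPullback e X.hom) inferInstance
    have : IsOpenImmersion (e ≫ X.hom) := by rw [he_sec]; infer_instance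
    infer_instance
  have hclosed : IsClosedImmersion e :=
    MorphismProperty.of_postcomp (W := @IsClosedImmersion) (W' := @IsSeparated) e X.hom
      inferInstance (by rw [he_sec]; infer_instance)
  -- the clopen set
  let Z : Set P.left := f.left ⁻¹' (Set.range e)
  have hZo : IsOpen Z := (hopen.isOpen_range).preimage f.left.continuous
  have hZc : IsClosed Z := (e.isClosedEmbedding.isClosed_range).preimage f.left.continuous
  have hmon : (η[P] : 𝟙_ (Over S) ⟶ P) ≫ f = η[X] := IsMonHom.one_hom f
  have hmon' : (η[P] : 𝟙_ (Over S) ⟶ P).left ≫ f.left = e := by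
    rw [he, ← hmon]; rfl
  have hZ : ∀ x : P.left, x ∈ Z := by
    intro x
    have hconn : _root_.IsPreconnected (P.hom ⁻¹' {P.hom x}) := by
      rw [← Scheme.Hom.range_fiberι]
      have := hP (P.hom x)
      exact isPreconnected_range (P.hom.fiberι (P.hom x)).continuous
    have h1 : (η[P] : 𝟙_ (Over S) ⟶ P).left (P.hom x) ∈ P.hom ⁻¹' {P.hom x} ∩ Z := by
      constructor
      · change P.hom ((η[P] : 𝟙_ (Over S) ⟶ P).left (P.hom x)) = P.hom x
        rw [← Scheme.Hom.comp_apply, hp_sec]; rfl
      · change f.left ((η[P] : 𝟙_ (Over S) ⟶ P).left (P.hom x)) ∈ Set.range e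
        rw [← Scheme.Hom.comp_apply, hmon']
        exact ⟨_, rfl⟩
    exact (hconn.subset_isClopen ⟨hZc, hZo⟩ ⟨_, h1⟩) (show x ∈ P.hom ⁻¹' {P.hom x} from rfl)
  have hrange : Set.range f.left ⊆ Set.range e := by
    rintro _ ⟨x, rfl⟩
    exact hZ x
  have hfac : IsOpenImmersion.lift e f.left hrange ≫ e = f.left := IsOpenImmersion.lift_fac _ _ _
  have hh : IsOpenImmersion.lift e f.left hrange = P.hom := by
    have h2 : (IsOpenImmersion.lift e f.left hrange ≫ e) ≫ X.hom = f.left ≫ X.hom := by
      rw [hfac]
    rw [Category.assoc, he_sec, Category.comp_id, Over.w] at h2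
    exact h2
  rw [hh] at hfac
  ext1
  rw [← hfac]
  rfl

end Groth.Agent.S19288
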