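import Groth.Statements.S19308
import Groth.Agent.Lib.Helper46.TensorCoordFlat
import Mathlib

set_option autoImplicit false
universe u
open TensorProduct
open CAlg

namespace Groth.Agent.S19308

open Groth.Agent.Lib.Helper46.TensorCoord

/-- The section `R ⊗[k] A → R` attached to a `k`-point `z` of `A`. -/
noncomputable abbrev sec {k : Type u} [Field k] {A : Type u} [CommRing A] [Algebra k A]
    (R : Type u) [CommRing R] [Algebra k R] (z : A →ₐ[k] k) : R ⊗[k] A →ₐ[k] R :=
  Algebra.TensorProduct.lift (AlgHom.id k R) ((Algebra.ofId k R).comp z)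
    (fun _ _ => Commute.all _ _)


/-- Let k be an algebraically closed field, A a finitely generated k-algebra which is an integral domain
(an affine variety X = Spec A), Z a finite (possibly empty) set of k-points of A, R a commutative
k-algebra and U an open dense subset of Spec (R ⊗_k A) = X_R containing every point of Z_R and
meeting every fibre of X_R → Spec R. Then locally on Spec R there is a principal relative effective
Cartier divisor missing Z_R whose complement lies in U: for every prime p of R there are r ∉ p and f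
∈ R[1/r] ⊗_k A such that f is a non-zero-divisor, (R[1/r] ⊗_k A)/(f) is flat over R[1/r], f maps to
a unit under every point of Z, and the basic open set D(f) of X_{R[1/r]} maps into U. (The published
statement is for a quasi-projective variety X and asks for relative Cartier divisors D_i over an
open cover of Spec R; this row is the affine case, to which the published proof reduces, where the
divisors produced are principal.) -/
theorem result
    (k : Type u) [Field k] [IsAlgClosed k]
    (A : Type u) [CommRing A] [Algebra k A] [IsDomain A] [Algebra.FiniteType k A]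
    (Z : Finset (A →ₐ[k] k))
    (R : Type u) [CommRing R] [Algebra k R]
    (U : TopologicalSpace.Opens (PrimeSpectrum (TensorProduct k R A)))
    (hU : Dense (U : Set (PrimeSpectrum (TensorProduct k R A))))
    (hZ : ∀ z ∈ Z, ∀ q : PrimeSpectrum R,
      PrimeSpectrum.comap (Algebra.TensorProduct.lift (AlgHom.id k R) ((Algebra.ofId k R).comp z)
        (fun _ _ => Commute.all _ _)).toRingHom q ∈ U)
    (hsurj : ∀ q : PrimeSpectrum R, ∃ P ∈ U,
      PrimeSpectrum.comap (Algebra.TensorProduct.includeLeftRingHom : R →+* TensorProduct k R A) P = q)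
    (p : PrimeSpectrum R) :
    ∃ r : R, r ∉ p.asIdeal ∧
      ∃ f : TensorProduct k (Localization.Away r) A,
        f ∈ nonZeroDivisors (TensorProduct k (Localization.Away r) A) ∧
        Module.Flat (Localization.Away r)
          (TensorProduct k (Localization.Away r) A ⧸ Ideal.span {f}) ∧
        (∀ z ∈ Z, IsUnit (Algebra.TensorProduct.lift (AlgHom.id k (Localization.Away r))
          ((Algebra.ofId k (Localization.Away r)).comp z) (fun _ _ => Commute.all _ _) f)) ∧
        (∀ P : PrimeSpectrum (TensorProduct k (Localization.Away r) A), f ∉ P.asIdeal →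
          PrimeSpectrum.comap (Algebra.TensorProduct.map
            (IsScalarTower.toAlgHom k R (Localization.Away r)) (AlgHom.id k A)).toRingHom P ∈ U) := by
  classical
  obtain ⟨ι, ⟨b⟩⟩ : ∃ ι : Type u, Nonempty (Module.Basis ι k A) :=
    ⟨_, ⟨Module.Free.chooseBasis k A⟩⟩
  -- the vanishing ideal of the complement of `U`
  obtain ⟨I, hI⟩ : ∃ I : Ideal (R ⊗[k] A),
      I = PrimeSpectrum.vanishingIdeal ((U : Set (PrimeSpectrum (R ⊗[k] A)))ᶜ) := ⟨_, rfl⟩
  have hI1 : ∀ x : R ⊗[k] A, x ∈ I → ∀ Q : PrimeSpectrum (R ⊗[k] A), x ∉ Q.asIdeal → Q ∈ U := by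
    intro x hx Q hQ
    by_contra hQU
    rw [hI, PrimeSpectrum.mem_vanishingIdeal] at hx
    exact hQ (hx Q hQU)
  have hI2 : ∀ Q : PrimeSpectrum (R ⊗[k] A), Q ∈ U → ¬ I ≤ Q.asIdeal := by
    intro Q hQ hle
    have h1 : Q ∈ PrimeSpectrum.zeroLocus (I : Set (R ⊗[k] A)) := by
      rw [PrimeSpectrum.mem_zeroLocus]; exact SetLike.coe_subset_coe.mpr hle
    rw [hI, PrimeSpectrum.zeroLocus_vanishingIdeal_eq_closure,
      U.isOpen.isClosed_compl.closure_eq] at h1
    exact h1 hQ
  -- the prime `P0 = p (R ⊗ A)`
  haveI : IsDomain ((R ⧸ p.asIdeal) ⊗[k] A) :=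
    Groth.Agent.Lib.Helper13.isDomain_tensorProduct k (R ⧸ p.asIdeal) A
  obtain ⟨P0, hP0⟩ : ∃ P0 : Ideal (R ⊗[k] A), P0 = RingHom.ker (quotMap k A p.asIdeal) :=
    ⟨_, rfl⟩
  have hP0prime : P0.IsPrime := by rw [hP0]; exact RingHom.ker_isPrime _
  have hIP0 : ¬ I ≤ P0 := by
    intro hle
    obtain ⟨P, hPU, hPp⟩ := hsurj p
    apply hI2 P hPU
    refine hle.trans ?_
    intro x hx
    rw [hP0, RingHom.mem_ker] at hx
    refine mem_of_quotMap_eq_zero P.asIdeal p.asIdeal ?_ x hx
    have := congrArg PrimeSpectrum.asIdeal hPp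
    rw [PrimeSpectrum.comap_asIdeal] at this
    exact this.ge
  -- prime avoidance
  obtain ⟨f₀, hf₀I, hf₀P0, hf₀Z⟩ : ∃ f₀ ∈ I, f₀ ∉ P0 ∧ ∀ z ∈ Z, sec R z f₀ ∉ p.asIdeal := by
    let F : Option (A →ₐ[k] k) → Ideal (R ⊗[k] A) := fun o =>
      o.elim P0 (fun z => Ideal.comap (sec R z).toRingHom p.asIdeal)
    let s : Finset (Option (A →ₐ[k] k)) := insert none (Z.image some)
    have hprime : ∀ i ∈ s, i ≠ none → i ≠ none → (F i).IsPrime := by
      intro i _ _ _
      cases i with
      | none => exact hP0prime
      | some z =>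
        haveI := p.isPrime
        exact Ideal.comap_isPrime _ _
    have hnot : ¬ ((I : Set (R ⊗[k] A)) ⊆ ⋃ i ∈ (↑s : Set (Option (A →ₐ[k] k))),
        (F i : Set (R ⊗[k] A))) := by
      rw [Ideal.subset_union_prime none none hprime]
      rintro ⟨i, his, hle⟩
      cases i with
      | none => exact hIP0 hle
      | some z =>
        have hz : z ∈ Z := by simpa [s] using his
        exact hI2 _ (hZ z hz p) (by rw [PrimeSpectrum.comap_asIdeal]; exact hle)
    obtain ⟨f₀, hf₀I, hf₀⟩ := Set.not_subset.mp hnot
    refine ⟨f₀, hf₀I, ?_, ?_⟩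
    · intro h
      apply hf₀
      exact Set.mem_biUnion (show none ∈ (↑s : Set (Option (A →ₐ[k] k))) by simp [s]) h
    · intro z hz h
      apply hf₀
      exact Set.mem_biUnion (show some z ∈ (↑s : Set (Option (A →ₐ[k] k))) by simp [s, hz]) h
  -- a coordinate of `f₀` outside `p`
  obtain ⟨i0, hi0⟩ : ∃ i, (Algebra.TensorProduct.basis R b).repr f₀ i ∉ p.asIdeal := by
    by_contra hall
    push_neg at hall
    apply hf₀P0
    rw [hP0, RingHom.mem_ker, quotMap_eq_zero_iff b]
    exact hall
  obtain ⟨r, hr⟩ : ∃ r : R,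
      r = (Algebra.TensorProduct.basis R b).repr f₀ i0 * ∏ z ∈ Z, sec R z f₀ := ⟨_, rfl⟩
  have hrp : r ∉ p.asIdeal := by
    rw [hr]
    intro h
    rcases p.isPrime.mem_or_mem h with h | h
    · exact hi0 h
    · obtain ⟨z, hz, hzp⟩ := (p.isPrime.prod_mem_iff).mp h
      exact hf₀Z z hz hzp
  refine ⟨r, hrp, ?_⟩
  have hru : IsUnit (algebraMap R (Localization.Away r) r) :=
    IsLocalization.Away.algebraMap_isUnit r
  have hunit_of_dvd : ∀ s : R, s ∣ r → IsUnit (algebraMap R (Localization.Away r) s) :=
    fun s hs => isUnit_of_dvd_unit (map_dvd _ hs) hru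
  have hcoord : IsUnit ((Algebra.TensorProduct.basis (Localization.Away r) b).repr
      (Algebra.TensorProduct.map (IsScalarTower.toAlgHom k R (Localization.Away r))
        (AlgHom.id k A) f₀) i0) := by
    rw [repr_map]
    exact hunit_of_dvd _ (by rw [hr]; exact Dvd.intro _ rfl)
  refine ⟨Algebra.TensorProduct.map (IsScalarTower.toAlgHom k R (Localization.Away r))
      (AlgHom.id k A) f₀, mem_nonZeroDivisors_of_isUnit_repr b _ i0 hcoord,
    flat_quotient_of_isUnit_repr b _ i0 hcoord, ?_, ?_⟩
  · intro z hz
    have hcomp : (sec (Localization.Away r) z).comp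
        (Algebra.TensorProduct.map (IsScalarTower.toAlgHom k R (Localization.Away r))
          (AlgHom.id k A)) =
        (IsScalarTower.toAlgHom k R (Localization.Away r)).comp (sec R z) := by
      apply Algebra.TensorProduct.ext'
      intro a c
      simp [sec, Algebra.TensorProduct.lift_tmul, Algebra.ofId_apply]
      rw [IsScalarTower.algebraMap_apply k R (Localization.Away r)]
    have h1 : sec (Localization.Away r) z
        (Algebra.TensorProduct.map (IsScalarTower.toAlgHom k R (Localization.Away r))
          (AlgHom.id k A) f₀) = algebraMap R (Localization.Away r) (sec R z f₀) := by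
      have := DFunLike.congr_fun hcomp f₀
      simpa using this
    rw [h1]
    exact hunit_of_dvd _ (by rw [hr]; exact Dvd.dvd.mul_left (Finset.dvd_prod_of_mem _ hz) _)
  · intro P' hP'
    apply hI1 f₀ hf₀I
    rw [PrimeSpectrum.comap_asIdeal]
    intro h
    exact hP' h

end Groth.Agent.S19308
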