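import Groth.Statements.S19309
-- import your own Groth.Agent.* helpers here

set_option autoImplicit false
universe u
open PowerSeries LaurentSeries
open CAlg

namespace Groth.Agent.S19309

/-- Let k be a field, R a commutative k-algebra, B a finitely presented R⟦X⟧-algebra (an affine scheme V
= Spec B of finite presentation over the disc D_R = Spec R⟦X⟧) and s : B → R((X)) an R⟦X⟧-algebra
map (a section of V over the punctured disc). Then there is an ideal I of R such that for every ring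
map φ : R → R', writing θ : R((X)) → R'((X)) for the ring map compatible with R⟦X⟧ → R'⟦X⟧, the
section s extends to a section over D_{R'} — an R⟦X⟧-algebra map s' : B → R'⟦X⟧ whose composite with
R'⟦X⟧ → R'((X)) is θ ∘ s — if and only if φ kills I. In other words the sub-presheaf of Spec R where
s extends over the disc is the closed subscheme defined by I. -/
theorem result
    (k : Type u) [Field k] (R : Type u) [CommRing R] [Algebra k R]
    (B : Type u) [CommRing B] [Algebra R⟦X⟧ B] [Algebra.FinitePresentation R⟦X⟧ B]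
    (s : B →ₐ[R⟦X⟧] R⸨X⸩) :
    ∃ I : Ideal R, ∀ (R' : Type u) [CommRing R'] (φ : R →+* R') (θ : R⸨X⸩ →+* R'⸨X⸩),
      θ.comp (algebraMap R⟦X⟧ R⸨X⸩) = (algebraMap R'⟦X⟧ R'⸨X⸩).comp (PowerSeries.map φ) →
      ((∃ s' : B →+* R'⟦X⟧, s'.comp (algebraMap R⟦X⟧ B) = PowerSeries.map φ ∧
          (algebraMap R'⟦X⟧ R'⸨X⸩).comp s' = θ.comp s.toRingHom) ↔ I ≤ RingHom.ker φ) := by
  classical
  obtain ⟨t, ht⟩ := (Algebra.FiniteType.out : (⊤ : Subalgebra R⟦X⟧ B).FG)
  have hloc : ∀ z : R⸨X⸩, ∃ (N : ℕ) (p : R⟦X⟧),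
      z * algebraMap R⟦X⟧ R⸨X⸩ (PowerSeries.X ^ N) = algebraMap R⟦X⟧ R⸨X⸩ p := by
    intro z
    obtain ⟨⟨p, ⟨_, N, rfl⟩⟩, h⟩ := IsLocalization.surj (Submonoid.powers (PowerSeries.X : R⟦X⟧)) z
    exact ⟨N, p, h⟩
  choose N p hNp using hloc
  refine ⟨Ideal.span {c | ∃ b ∈ t, ∃ j < N (s b), c = PowerSeries.coeff j (p (s b))}, ?_⟩
  intro R' _ φ θ hθ
  have hθ' : ∀ r : R⟦X⟧, θ (algebraMap R⟦X⟧ R⸨X⸩ r) = algebraMap R'⟦X⟧ R'⸨X⸩ (PowerSeries.map φ r) :=
    fun r => RingHom.congr_fun hθ r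
  have hinj : Function.Injective (algebraMap R'⟦X⟧ R'⸨X⸩) := HahnSeries.ofPowerSeries_injective
  have hunit : ∀ n : ℕ, IsUnit (algebraMap R'⟦X⟧ R'⸨X⸩ (PowerSeries.X ^ n)) := fun n =>
    IsLocalization.map_units (M := Submonoid.powers (PowerSeries.X : R'⟦X⟧)) R'⸨X⸩ ⟨_, n, rfl⟩
  have key : ∀ z : R⸨X⸩, (θ z ∈ (algebraMap R'⟦X⟧ R'⸨X⸩).range) ↔
      ∀ j < N z, φ (PowerSeries.coeff j (p z)) = 0 := by
    intro z
    have h1 : θ z * algebraMap R'⟦X⟧ R'⸨X⸩ (PowerSeries.X ^ N z) =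
        algebraMap R'⟦X⟧ R'⸨X⸩ (PowerSeries.map φ (p z)) := by
      have := congrArg θ (hNp z)
      rw [map_mul, hθ', hθ', map_pow, PowerSeries.map_X] at this
      exact this
    constructor
    · rintro ⟨q, hq⟩ j hj
      rw [← hq, ← map_mul] at h1
      have h2 := hinj h1
      have h3 : (PowerSeries.X : R'⟦X⟧) ^ N z ∣ PowerSeries.map φ (p z) := ⟨q, by rw [← h2, mul_comm]⟩
      have := PowerSeries.X_pow_dvd_iff.mp h3 j hj
      rwa [PowerSeries.coeff_map] at this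
    · intro h
      have h3 : (PowerSeries.X : R'⟦X⟧) ^ N z ∣ PowerSeries.map φ (p z) := by
        rw [PowerSeries.X_pow_dvd_iff]
        intro j hj
        rw [PowerSeries.coeff_map]
        exact h j hj
      obtain ⟨q, hq⟩ := h3
      refine ⟨q, ?_⟩
      rw [hq, map_mul, mul_comm] at h1
      exact ((hunit (N z)).mul_right_injective h1).symm
  constructor
  · rintro ⟨s', hs'1, hs'2⟩
    rw [Ideal.span_le]
    rintro c ⟨b, hb, j, hj, rfl⟩
    have : θ (s b) ∈ (algebraMap R'⟦X⟧ R'⸨X⸩).range := ⟨s' b, RingHom.congr_fun hs'2 b⟩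
    exact (key (s b)).mp this j hj
  · intro hI
    set g : B →+* R'⸨X⸩ := θ.comp s.toRingHom with hg
    have hgalg : ∀ r : R⟦X⟧, g (algebraMap R⟦X⟧ B r) = algebraMap R'⟦X⟧ R'⸨X⸩ (PowerSeries.map φ r) := by
      intro r
      change θ (s (algebraMap R⟦X⟧ B r)) = _
      rw [s.commutes, hθ']
    let S' : Subalgebra R⟦X⟧ B :=
      { toSubsemiring := ((algebraMap R'⟦X⟧ R'⸨X⸩).range.comap g).toSubsemiring
        algebraMap_mem' := fun r => ⟨PowerSeries.map φ r, (hgalg r).symm⟩ }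
    have hle : Algebra.adjoin R⟦X⟧ (t : Set B) ≤ S' := by
      apply Algebra.adjoin_le
      intro b hb
      change g b ∈ (algebraMap R'⟦X⟧ R'⸨X⸩).range
      refine (key (s b)).mpr ?_
      intro j hj
      exact hI (Ideal.subset_span ⟨b, hb, j, hj, rfl⟩)
    rw [ht] at hle
    have hall : ∀ b : B, g b ∈ (algebraMap R'⟦X⟧ R'⸨X⸩).range := fun b => hle Algebra.mem_top
    let eqv : R'⟦X⟧ ≃+* (algebraMap R'⟦X⟧ R'⸨X⸩).range :=
      RingEquiv.ofBijective (algebraMap R'⟦X⟧ R'⸨X⸩).rangeRestrict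
        ⟨fun x y hxy => hinj (congrArg Subtype.val hxy),
          (algebraMap R'⟦X⟧ R'⸨X⸩).rangeRestrict_surjective⟩
    let s' : B →+* R'⟦X⟧ := eqv.symm.toRingHom.comp (g.codRestrict _ hall)
    have hs' : ∀ b : B, algebraMap R'⟦X⟧ R'⸨X⸩ (s' b) = g b := by
      intro b
      have : eqv (s' b) = g.codRestrict _ hall b := eqv.apply_symm_apply _
      have := congrArg Subtype.val this
      exact this
    refine ⟨s', ?_, ?_⟩
    · ext1 r
      apply hinj
      rw [RingHom.comp_apply, hs', hgalg]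
    · ext1 b
      exact hs' b

end Groth.Agent.S19309
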