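import Groth.Statements.S19310
import Groth.Agent.Lib.Helper13.TensorField
import Mathlib

set_option autoImplicit false
universe u
open TensorProduct
open CAlg

namespace Groth.Agent.S19310

section Coord

variable {k : Type u} [Field k] {A : Type u} [CommRing A] [Algebra k A]

/-- Coordinates with respect to the base-changed basis commute with base change of the left
factor. -/
lemma repr_map {R R' : Type u} [CommRing R] [Algebra k R] [CommRing R'] [Algebra k R']
    {ι : Type u} (b : Module.Basis ι k A) (ρ : R →ₐ[k] R') (x : R ⊗[k] A) (i : ι) :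
    (Algebra.TensorProduct.basis R' b).repr
        (Algebra.TensorProduct.map ρ (AlgHom.id k A) x) i =
      ρ ((Algebra.TensorProduct.basis R b).repr x i) := by
  induction x using TensorProduct.induction_on with
  | zero => simp
  | tmul r a =>
    rw [Algebra.TensorProduct.map_tmul, Algebra.TensorProduct.basis_repr_tmul,
      Algebra.TensorProduct.basis_repr_tmul]
    simp
  | add x y hx hy => simp only [map_add, Finsupp.add_apply, hx, hy]

/-- An element dies in `(R ⧸ a) ⊗ A` iff all its coordinates lie in `a`. -/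
lemma map_mk_eq_zero_iff {R : Type u} [CommRing R] [Algebra k R] {ι : Type u}
    (b : Module.Basis ι k A) (a : Ideal R) (x : R ⊗[k] A) :
    Algebra.TensorProduct.map (Ideal.Quotient.mkₐ k a) (AlgHom.id k A) x = 0 ↔
      ∀ i, (Algebra.TensorProduct.basis R b).repr x i ∈ a := by
  rw [← (Algebra.TensorProduct.basis (R ⧸ a) b).repr.map_eq_zero_iff, DFunLike.ext_iff]
  refine forall_congr' fun i => ?_
  rw [repr_map, Finsupp.zero_apply, Ideal.Quotient.mkₐ_eq_mk, Ideal.Quotient.eq_zero_iff_mem]

end Coord


/-- Let k be an algebraically closed field, A a finitely generated k-algebra which is an integral domain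
(X = Spec A an affine variety), R a commutative k-algebra, possibly non-reduced, and U an open
subset of X_R = Spec (R ⊗_k A) meeting every fibre of X_R → Spec R (a very dense open subset). Then
a regular function on X_R whose restriction to U vanishes is zero: if f ∈ R ⊗_k A maps to 0 in the
localisation (R ⊗_k A)[1/g] for every g with D(g) ⊆ U, then f = 0. (The published statement is that
automorphisms of a torsor under a smooth affine group scheme over X_R which are the identity over a
very dense open subset are the identity, for X a smooth projective curve; its proof reduces this to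
the present assertion about functions, for quasi-projective X; this row is the affine case.) -/
theorem result
    (k : Type u) [Field k] [IsAlgClosed k]
    (A : Type u) [CommRing A] [Algebra k A] [IsDomain A] [Algebra.FiniteType k A]
    (R : Type u) [CommRing R] [Algebra k R]
    (U : TopologicalSpace.Opens (PrimeSpectrum (TensorProduct k R A)))
    (hsurj : ∀ q : PrimeSpectrum R, ∃ P ∈ U,
      PrimeSpectrum.comap (Algebra.TensorProduct.includeLeftRingHom : R →+* TensorProduct k R A) P = q)
    (f : TensorProduct k R A)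
    (hf : ∀ g : TensorProduct k R A, (PrimeSpectrum.basicOpen g : Set (PrimeSpectrum (TensorProduct k R A))) ⊆ U →
      algebraMap (TensorProduct k R A) (Localization.Away g) f = 0) :
    f = 0 := by
  classical
  by_contra hne
  obtain ⟨ι, ⟨b⟩⟩ : ∃ ι : Type u, Nonempty (Module.Basis ι k A) :=
    ⟨_, ⟨Module.Free.chooseBasis k A⟩⟩
  obtain ⟨rf, hrf⟩ : ∃ rf : ι →₀ R, rf = (Algebra.TensorProduct.basis R b).repr f := ⟨_, rfl⟩
  -- the coefficient ideal
  obtain ⟨c, hc⟩ : ∃ c : Ideal R, c = Ideal.span (rf.support.image rf : Set R) := ⟨_, rfl⟩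
  have hcfg : c.FG := ⟨rf.support.image rf, hc.symm⟩
  have hrc : ∀ i, rf i ∈ c := by
    intro i
    by_cases hi : i ∈ rf.support
    · rw [hc]
      exact Ideal.subset_span (Finset.mem_coe.mpr (Finset.mem_image_of_mem _ hi))
    · rw [Finsupp.notMem_support_iff.mp hi]; exact c.zero_mem
  have hcne : ¬ c ≤ ⊥ := by
    intro hle
    apply hne
    apply (Algebra.TensorProduct.basis R b).repr.injective
    ext i
    have := hle (hrc i)
    rw [hrf] at this
    simpa using this
  -- a maximal ideal among those not containing `c`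
  obtain ⟨c', -, hmax⟩ := zorn_le_nonempty₀ {a : Ideal R | ¬ c ≤ a} (by
    intro C hCS hC y hy
    refine ⟨sSup C, ?_, fun z hz => le_sSup hz⟩
    intro hle
    have hcomp := (Submodule.fg_iff_compact c).mp hcfg
    rw [CompleteLattice.isCompactElement_iff_le_of_directed_sSup_le] at hcomp
    obtain ⟨x, hxC, hx⟩ := hcomp C ⟨y, hy⟩ hC.directedOn hle
    exact hCS hxC hx) ⊥ hcne
  have hc'S : ¬ c ≤ c' := hmax.prop
  have hbig : ∀ b' : Ideal R, c' ≤ b' → ¬ b' ≤ c' → c ≤ b' := by
    intro b' h1 h2
    by_contra h3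
    exact h2 (hmax.le_of_ge h3 h1)
  obtain ⟨i0, hi0⟩ : ∃ i, rf i ∉ c' := by
    by_contra hall
    push_neg at hall
    apply hc'S
    rw [hc, Ideal.span_le]
    intro r hr
    obtain ⟨i, -, rfl⟩ := Finset.mem_image.mp (Finset.mem_coe.mp hr)
    exact hall i
  obtain ⟨ε, hε⟩ : ∃ ε : R, ε = rf i0 := ⟨_, rfl⟩
  obtain ⟨p, hp⟩ : ∃ p : Ideal R, p = Submodule.colon c' ({ε} : Set R) := ⟨_, rfl⟩
  have hpmem : ∀ a, a ∈ p ↔ a * ε ∈ c' := by
    intro a
    rw [hp, Submodule.mem_colon_singleton, smul_eq_mul]
  have hεc' : ε ∉ c' := by rw [hε]; exact hi0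
  have hsup : c ≤ c' ⊔ Ideal.span {ε} := hbig _ le_sup_left (fun hle =>
    hεc' (hle (Ideal.mem_sup_right (Ideal.subset_span rfl))))
  have hpmax : p.IsMaximal := by
    rw [Ideal.isMaximal_iff]
    refine ⟨?_, ?_⟩
    · rw [hpmem, one_mul]; exact hεc'
    · intro J a hpJ hap haJ
      have h1 : a * ε ∉ c' := fun h => hap ((hpmem a).mpr h)
      have h2 : c ≤ c' ⊔ Ideal.span {a * ε} := hbig _ le_sup_left (fun hle =>
        h1 (hle (Ideal.mem_sup_right (Ideal.subset_span rfl))))
      have h3 : ε ∈ c' ⊔ Ideal.span {a * ε} := h2 (hε ▸ hrc i0)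
      obtain ⟨y, hy, z, hz, hyz⟩ := Submodule.mem_sup.mp h3
      obtain ⟨t, rfl⟩ := Ideal.mem_span_singleton'.mp hz
      have h4 : (1 - t * a) ∈ p := by
        rw [hpmem]
        have : (1 - t * a) * ε = y := by linear_combination (-1 : R) * hyz
        rw [this]; exact hy
      have h5 : (1 - t * a) + t * a ∈ J := J.add_mem (hpJ h4) (J.mul_mem_left t haJ)
      simpa using h5
  -- the quotient coefficients
  have hex : ∀ r : R, ∃ v : R, (r ∈ c → r - v * ε ∈ c') ∧ (r = 0 → v = 0) := by
    intro r
    by_cases hr0 : r = 0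
    · exact ⟨0, fun _ => by simp [hr0], fun _ => rfl⟩
    · by_cases hrc' : r ∈ c
      · obtain ⟨y, hy, z, hz, hyz⟩ := Submodule.mem_sup.mp (hsup hrc')
        obtain ⟨t, rfl⟩ := Ideal.mem_span_singleton'.mp hz
        refine ⟨t, fun _ => ?_, fun h => absurd h hr0⟩
        have : r - t * ε = y := by rw [← hyz]; ring
        rw [this]; exact hy
      · exact ⟨0, fun h => absurd h hrc', fun _ => rfl⟩
  choose u hu1 hu0 using hex
  obtain ⟨h, hh⟩ : ∃ h : R ⊗[k] A, ∀ i, (Algebra.TensorProduct.basis R b).repr h i = u (rf i) :=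
    ⟨(Algebra.TensorProduct.basis R b).repr.symm (Finsupp.mapRange u (hu0 0 rfl) rf), fun i => by
      rw [LinearEquiv.apply_symm_apply, Finsupp.mapRange_apply]⟩
  -- the point of `U` over `p` and a basic open around it
  obtain ⟨P, hPU, hPp⟩ := hsurj ⟨p, hpmax.isPrime⟩
  obtain ⟨_, ⟨g, rfl⟩, hPg, hgU⟩ :=
    PrimeSpectrum.isTopologicalBasis_basic_opens.exists_subset_of_mem_open hPU U.isOpen
  obtain ⟨⟨_, N, rfl⟩, hN⟩ := (IsLocalization.map_eq_zero_iff (Submonoid.powers g)
    (Localization.Away g) f).mp (hf g hgU)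
  have hPp' : Ideal.comap (Algebra.TensorProduct.includeLeftRingHom : R →+* R ⊗[k] A) P.asIdeal
      = p := by
    have := congrArg PrimeSpectrum.asIdeal hPp
    rwa [PrimeSpectrum.comap_asIdeal] at this
  have hmem : ∀ x : R, x ∈ p → (x ⊗ₜ[k] (1 : A)) ∈ P.asIdeal := by
    intro x hx
    rw [← hPp'] at hx
    exact hx
  have hgp : Algebra.TensorProduct.map (Ideal.Quotient.mkₐ k p) (AlgHom.id k A) g ≠ 0 := by
    intro h0
    rw [map_mk_eq_zero_iff b p g] at h0
    have hg_sum : g = ((Algebra.TensorProduct.basis R b).repr g).sum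
        fun i a => a • (Algebra.TensorProduct.basis R b) i := by
      rw [← Finsupp.linearCombination_apply, Module.Basis.linearCombination_repr]
    have hPg' : g ∉ P.asIdeal := (PrimeSpectrum.mem_basicOpen g P).mp hPg
    apply hPg'
    rw [hg_sum]
    refine Ideal.sum_mem _ fun i _ => ?_
    beta_reduce
    rw [Algebra.TensorProduct.basis_repr_symm_apply']
    have : ((Algebra.TensorProduct.basis R b).repr g i) ⊗ₜ[k] b i =
        (((Algebra.TensorProduct.basis R b).repr g i) ⊗ₜ[k] (1 : A)) * ((1 : R) ⊗ₜ[k] b i) := by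
      rw [Algebra.TensorProduct.tmul_mul_tmul, mul_one, one_mul]
    rw [this]
    exact Ideal.mul_mem_right _ _ (hmem _ (h0 i))
  haveI : p.IsPrime := hpmax.isPrime
  haveI : IsDomain ((R ⧸ p) ⊗[k] A) :=
    Groth.Agent.Lib.Helper13.isDomain_tensorProduct k (R ⧸ p) A
  -- the key computation modulo `c'`
  have key : Algebra.TensorProduct.map (Ideal.Quotient.mkₐ k c') (AlgHom.id k A)
      (ε • (g ^ N * h)) = 0 := by
    have h1 : Algebra.TensorProduct.map (Ideal.Quotient.mkₐ k c') (AlgHom.id k A) (ε • h) =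
        Algebra.TensorProduct.map (Ideal.Quotient.mkₐ k c') (AlgHom.id k A) f := by
      apply (Algebra.TensorProduct.basis (R ⧸ c') b).repr.injective
      ext i
      rw [repr_map, repr_map, map_smul, Finsupp.smul_apply, hh i, smul_eq_mul, ← hrf,
        Ideal.Quotient.mkₐ_eq_mk, eq_comm, Ideal.Quotient.mk_eq_mk_iff_sub_mem]
      have := hu1 (rf i) (hrc i)
      rwa [mul_comm] at this
    calc Algebra.TensorProduct.map (Ideal.Quotient.mkₐ k c') (AlgHom.id k A) (ε • (g ^ N * h))
        = Algebra.TensorProduct.map (Ideal.Quotient.mkₐ k c') (AlgHom.id k A)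
            (g ^ N * (ε • h)) := by rw [mul_smul_comm]
      _ = Algebra.TensorProduct.map (Ideal.Quotient.mkₐ k c') (AlgHom.id k A) (g ^ N) *
            Algebra.TensorProduct.map (Ideal.Quotient.mkₐ k c') (AlgHom.id k A) (ε • h) :=
          map_mul _ _ _
      _ = Algebra.TensorProduct.map (Ideal.Quotient.mkₐ k c') (AlgHom.id k A) (g ^ N) *
            Algebra.TensorProduct.map (Ideal.Quotient.mkₐ k c') (AlgHom.id k A) f := by rw [h1]
      _ = Algebra.TensorProduct.map (Ideal.Quotient.mkₐ k c') (AlgHom.id k A) (g ^ N * f) :=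
          (map_mul _ _ _).symm
      _ = 0 := by rw [hN, map_zero]
  rw [map_mk_eq_zero_iff b c'] at key
  have hw : Algebra.TensorProduct.map (Ideal.Quotient.mkₐ k p) (AlgHom.id k A) (g ^ N * h) = 0 := by
    rw [map_mk_eq_zero_iff b p]
    intro i
    rw [hpmem]
    have := key i
    rw [map_smul, Finsupp.smul_apply, smul_eq_mul] at this
    rwa [mul_comm]
  rw [map_mul, map_pow] at hw
  rcases mul_eq_zero.mp hw with h1 | h1
  · exact hgp (IsReduced.eq_zero _ ⟨N, h1⟩)
  · rw [map_mk_eq_zero_iff b p] at h1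
    have h2 := h1 i0
    rw [hh i0] at h2
    have h3 := hu1 (rf i0) (hrc i0)
    have h4 : (1 - u (rf i0)) ∈ p := by
      rw [hpmem]
      have : (1 - u (rf i0)) * ε = rf i0 - u (rf i0) * ε := by rw [hε]; ring
      rw [this]; exact h3
    have h5 : (1 : R) ∈ p := by
      have := p.add_mem h4 h2
      simpa using this
    exact hpmax.ne_top ((Ideal.eq_top_iff_one p).mpr h5)

end Groth.Agent.S19310
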