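import Groth.Statements.S19326
import Groth.Agent.Lib.Helper17.WeightDecomp

set_option autoImplicit false
universe u
open TensorProduct
open GLin
open Groth.Agent.Lib.Helper17.WtDec

namespace Groth.Agent.S19326

/-- Let k be a field, M a finite abelian group and D = Spec k[M] the finite diagonalizable group scheme
it defines, acting on an affine k-scheme U = Spec R through a multiplicative coaction R → R ⊗ k[M];
write R_a for the weight space of a ∈ M (elements with coaction f ⊗ a). For an ideal J of R the
induced action of D on the closed subscheme V(J) is trivial, meaning that the coaction followed by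
reduction modulo J equals f ↦ (f mod J) ⊗ 1, exactly when J contains the ideal generated by the
weight spaces R_a for a ≠ 0; in other words that ideal defines the largest closed subscheme of U on
which D acts trivially. (The printed setting has U smooth, which plays no role here and is not
assumed; the further assertion that the construction commutes with flat base change on U/D is not
part of this statement.) -/
theorem result
    {k : Type u} [Field k] {M : Type u} [AddCommGroup M] [Finite M]
    {R : Type u} [CommRing R] [Algebra k R] [HopfRep.Comod k (AddMonoidAlgebra k M) R]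
    [GLin.IsCoactAlg k (AddMonoidAlgebra k M) R] (J : Ideal R) :
    (∀ f : R, LinearMap.rTensor (AddMonoidAlgebra k M) (Ideal.Quotient.mkₐ k J).toLinearMap
        (HopfRep.Comod.coact (k := k) (A := AddMonoidAlgebra k M) f) =
        (Ideal.Quotient.mk J f) ⊗ₜ[k] (1 : AddMonoidAlgebra k M)) ↔
      Ideal.span (⋃ (a : M) (_ : a ≠ 0),
        (HopfRep.eigenspace k (AddMonoidAlgebra k M) R (AddMonoidAlgebra.single a 1) : Set R)) ≤ J := by
  classical
  set b := AddMonoidAlgebra.basis M k with hbdef
  have hb : ∀ m, IsGroupLikeElem k (b m) := fun m => by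
    rw [hbdef, AddMonoidAlgebra.basis_apply]; exact AddMonoidAlgebra.isGroupLikeElem_single_one m
  have hb0 : b 0 = (1 : AddMonoidAlgebra k M) := by
    rw [hbdef, AddMonoidAlgebra.basis_apply]; rfl
  set π : R →ₗ[k] R ⧸ J := (Ideal.Quotient.mkₐ k J).toLinearMap with hπ
  have hπ_apply : ∀ f, π f = Ideal.Quotient.mk J f := fun f => rfl
  constructor
  · intro h
    rw [Ideal.span_le]
    intro f hf
    simp only [Set.mem_iUnion, SetLike.mem_coe] at hf
    obtain ⟨a, ha, hfa⟩ := hf
    have hco : HopfRep.Comod.coact (k := k) (A := AddMonoidAlgebra k M) f = f ⊗ₜ[k] b a := by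
      rw [hbdef, AddMonoidAlgebra.basis_apply]; exact hfa
    have h1 := h f
    rw [hco, LinearMap.rTensor_tmul, ← hb0] at h1
    have h2 := congrArg (fun z => TensorProduct.rid k (R ⧸ J)
      ((b.coord a).lTensor (R ⧸ J) z)) h1
    simp only [LinearMap.lTensor_tmul, TensorProduct.rid_tmul, Module.Basis.coord_apply,
      Module.Basis.repr_self, Finsupp.single_apply, if_true, one_smul] at h2
    rw [if_neg (fun h0 : (0 : M) = a => ha h0.symm), zero_smul] at h2
    rw [SetLike.mem_coe, ← Ideal.Quotient.eq_zero_iff_mem, ← hπ_apply]
    exact h2
  · intro h f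
    have hkill : ∀ m : M, m ≠ 0 → π (dec b f m) = 0 := by
      intro m hm
      rw [hπ_apply, Ideal.Quotient.eq_zero_iff_mem]
      apply h
      apply Ideal.subset_span
      simp only [Set.mem_iUnion, SetLike.mem_coe]
      refine ⟨m, hm, ?_⟩
      have := coact_wt b hb m f
      rw [hbdef, AddMonoidAlgebra.basis_apply] at this
      exact this
    have h1 : π f = π (dec b f 0) := by
      conv_lhs => rw [← sum_wt b hb f]
      rw [Finsupp.sum, map_sum]
      rw [Finset.sum_eq_single 0]
      · intro m _ hm
        exact hkill m hm
      · intro h0
        rw [Finsupp.notMem_support_iff] at h0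
        rw [h0, map_zero]
    rw [coact_eq b f, Finsupp.sum, map_sum]
    rw [Finset.sum_eq_single 0]
    · rw [LinearMap.rTensor_tmul, hb0, ← hπ_apply, h1]
    · intro m _ hm
      rw [LinearMap.rTensor_tmul, hkill m hm, TensorProduct.zero_tmul]
    · intro h0
      rw [Finsupp.notMem_support_iff] at h0
      rw [h0, TensorProduct.zero_tmul, map_zero]

end Groth.Agent.S19326
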