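import Groth.Statements.S19328
import Mathlib

set_option autoImplicit false
universe u
open CategoryTheory CategoryTheory.Limits AlgebraicGeometry
open ModPair

namespace Groth.Agent.S19328
open AlgebraicGeometry CategoryTheory

open Polynomial in
/-- Pure algebra: if every monic polynomial of positive degree over `A` has a root in `A`,
then every residue field of `A` is algebraically closed. -/
lemma algClosed_of_roots (A : Type u) [CommRing A]
    (H : ∀ F : A[X], F.Monic → 0 < F.natDegree → ∃ r : A, F.eval r = 0)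
    (p : Ideal A) [p.IsPrime] : IsAlgClosed p.ResidueField := by
  classical
  refine IsAlgClosed.of_exists_root _ fun f hf hirr => ?_
  have hd : 0 < f.natDegree := hirr.natDegree_pos
  obtain ⟨b, hb⟩ := IsLocalization.exist_integer_multiples (nonZeroDivisors (A ⧸ p))
    (Finset.range f.natDegree) (fun i => f.coeff i)
  set σ : p.ResidueField := algebraMap (A ⧸ p) p.ResidueField b with hσ
  have hσ0 : σ ≠ 0 := by
    rw [hσ]
    exact IsFractionRing.to_map_ne_zero_of_mem_nonZeroDivisors b.2
  have hsurj : ∀ y : A ⧸ p, ∃ a : A, algebraMap (A ⧸ p) p.ResidueField y =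
      algebraMap A p.ResidueField a := by
    intro y
    obtain ⟨a, rfl⟩ := Ideal.Quotient.mk_surjective y
    exact ⟨a, (IsScalarTower.algebraMap_apply A (A ⧸ p) p.ResidueField a).symm⟩
  have hlift : f.scaleRoots σ ∈ Polynomial.lifts (algebraMap A p.ResidueField) := by
    rw [Polynomial.lifts_iff_coeff_lifts]
    intro i
    rw [Polynomial.coeff_scaleRoots]
    rcases lt_trichotomy i f.natDegree with hi | hi | hi
    · obtain ⟨y, hy⟩ := hb i (Finset.mem_range.2 hi)
      obtain ⟨a, ha⟩ := hsurj y
      obtain ⟨a', ha'⟩ := hsurj b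
      obtain ⟨j, hj⟩ : ∃ j, f.natDegree - i = j + 1 := ⟨f.natDegree - i - 1, by omega⟩
      refine ⟨a * a' ^ j, ?_⟩
      rw [map_mul, map_pow, ← ha, ← ha', hy, Algebra.smul_def, ← hσ, hj, pow_succ]
      ring
    · subst hi
      refine ⟨1, ?_⟩
      rw [map_one, Nat.sub_self, pow_zero, mul_one]
      exact hf.coeff_natDegree.symm
    · refine ⟨0, ?_⟩
      rw [map_zero, Polynomial.coeff_eq_zero_of_natDegree_lt hi, zero_mul]
  have hmon : (f.scaleRoots σ).Monic := (Polynomial.monic_scaleRoots_iff σ).2 hf
  obtain ⟨F, hF, hFdeg, hFmon⟩ := Polynomial.lifts_and_degree_eq_and_monic hlift hmon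
  have hFnat : 0 < F.natDegree := by
    have : F.natDegree = (f.scaleRoots σ).natDegree := Polynomial.natDegree_eq_of_degree_eq hFdeg
    rw [this, Polynomial.natDegree_scaleRoots]
    exact hd
  obtain ⟨r, hr⟩ := H F hFmon hFnat
  have hz : (f.scaleRoots σ).eval (algebraMap A p.ResidueField r) = 0 := by
    rw [← hF, Polynomial.eval_map, Polynomial.eval₂_at_apply, hr, map_zero]
  refine ⟨σ⁻¹ * algebraMap A p.ResidueField r, ?_⟩
  have h1 := Polynomial.scaleRoots_eval_mul f (σ⁻¹ * algebraMap A p.ResidueField r) σ
  rw [← mul_assoc, mul_inv_cancel₀ hσ0, one_mul, hz] at h1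
  exact (mul_eq_zero.1 h1.symm).resolve_left (pow_ne_zero _ hσ0)

/-- Let A be a commutative ring such that Spec A is local for fppf coverings, in the sense that for
every scheme X, every jointly surjective family of morphisms to X each of which is flat and of
finite presentation (locally of finite presentation, quasi-compact and quasi-separated), and every
morphism Spec A ⟶ X, the morphism factors through a member of the family. Then the residue field of
A at every prime ideal is algebraically closed. -/
theorem result (A : Type u) [CommRing A]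
    (hloc : ∀ (X : Scheme.{u}) (R : Presieve X),
      R ∈ Scheme.precoverage (@Flat ⊓ @LocallyOfFinitePresentation ⊓ @QuasiCompact ⊓ @QuasiSeparated) X →
      ∀ g : Spec (CommRingCat.of A) ⟶ X,
        ∃ (Y : Scheme.{u}) (v : Y ⟶ X) (h : Spec (CommRingCat.of A) ⟶ Y), R v ∧ h ≫ v = g)
    (p : Ideal A) [p.IsPrime] : IsAlgClosed p.ResidueField := by
  apply algClosed_of_roots
  intro F hF hdeg
  rcases subsingleton_or_nontrivial A with hA | hA
  · exact ⟨0, Subsingleton.elim _ _⟩
  let B := AdjoinRoot F
  let φ : CommRingCat.of A ⟶ CommRingCat.of B := CommRingCat.ofHom (algebraMap A B)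
  let v : Spec (CommRingCat.of B) ⟶ Spec (CommRingCat.of A) := Spec.map φ
  have hfree : Module.Free A B := Module.Free.of_basis (AdjoinRoot.powerBasis' hF).basis
  have hfin : Module.Finite A B := Module.Finite.of_basis (AdjoinRoot.powerBasis' hF).basis
  have hnt : Nontrivial B := by
    have hdim : (AdjoinRoot.powerBasis' hF).dim = F.natDegree := rfl
    have i0 : Fin (AdjoinRoot.powerBasis' hF).dim := ⟨0, by rw [hdim]; exact hdeg⟩
    exact ⟨(AdjoinRoot.powerBasis' hF).basis i0, 0,
      (AdjoinRoot.powerBasis' hF).basis.linearIndependent.ne_zero i0⟩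
  have hfp : Algebra.FinitePresentation A B :=
    Algebra.FinitePresentation.quotient ⟨{F}, by simp⟩
  have hmem : Presieve.singleton v ∈ Scheme.precoverage
      (@Flat ⊓ @LocallyOfFinitePresentation ⊓ @QuasiCompact ⊓ @QuasiSeparated)
      (Spec (CommRingCat.of A)) := by
    rw [Scheme.singleton_mem_precoverage_iff]
    refine ⟨?_, ⟨⟨⟨?_, ?_⟩, ?_⟩, ?_⟩⟩
    · exact PrimeSpectrum.comap_surjective_of_faithfullyFlat (A := A) (B := B)
    · rw [HasRingHomProperty.Spec_iff (P := @Flat)]
      show (algebraMap A B).Flat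
      rw [RingHom.flat_algebraMap_iff]
      infer_instance
    · rw [HasRingHomProperty.Spec_iff (P := @LocallyOfFinitePresentation)]
      show (algebraMap A B).FinitePresentation
      rw [RingHom.finitePresentation_algebraMap]
      exact hfp
    · infer_instance
    · infer_instance
  obtain ⟨Y, v', h, hR, hcomp⟩ := hloc _ _ hmem (𝟙 _)
  cases hR
  obtain ⟨ψ, hψ⟩ : ∃ ψ : CommRingCat.of B ⟶ CommRingCat.of A, Spec.map ψ = h :=
    ⟨Spec.preimage h, Spec.map_preimage h⟩
  have hcomp' : φ ≫ ψ = 𝟙 _ := by
    apply Spec.map_injective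
    rw [Spec.map_comp, hψ, Spec.map_id]
    exact hcomp
  have hψφ : ∀ a : A, ψ.hom (algebraMap A B a) = a := by
    intro a
    have := congrArg (fun t => t.hom a) hcomp'
    exact this
  refine ⟨ψ.hom (AdjoinRoot.root F), ?_⟩
  have h1 : Polynomial.eval₂ (algebraMap A B) (AdjoinRoot.root F) F = 0 := by
    exact AdjoinRoot.eval₂_root F
  have h2 := congrArg ψ.hom h1
  rw [Polynomial.hom_eval₂, map_zero] at h2
  have h3 : ψ.hom.comp (algebraMap A B) = RingHom.id A := RingHom.ext hψφ
  rw [h3, Polynomial.eval₂_id] at h2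
  exact h2

end Groth.Agent.S19328
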