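import Groth.Statements.S19333
import Mathlib.RingTheory.Valuation.LocalSubring
import Mathlib.RingTheory.LocalRing.ResidueField.Ideal
import Mathlib.Algebra.Polynomial.Lifts

set_option autoImplicit false
universe u
open ModPair

namespace Groth.Agent.S19333

open Polynomial in
/-- the set of values of monic polynomials at `x`, as a submonoid. -/
def monicValues (A : Type u) {B : Type u} [CommRing A] [CommRing B] [Algebra A B] (x : B) :
    Submonoid B where
  carrier := {y | ∃ p : A[X], p.Monic ∧ aeval x p = y}
  one_mem' := ⟨1, monic_one, by simp⟩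
  mul_mem' := by
    rintro _ _ ⟨p, hp, rfl⟩ ⟨q, hq, rfl⟩
    exact ⟨p * q, hp.mul hq, by simp⟩

open Polynomial in
theorem forward {A B : Type u} [CommRing A] [CommRing B] [Algebra A B] (x : B)
    (hx : IsIntegral A x) (K : Type u) [Field K] (R : ValuationSubring K) (φ : B →+* K)
    (hφ : ∀ a : A, φ (algebraMap A B a) ∈ R) : φ x ∈ R := by
  let ψ : A →+* R := (φ.comp (algebraMap A B)).codRestrict R.toSubring hφ
  have h1 : IsIntegral R (φ x) := by
    refine IsIntegral.map_of_comp_eq ψ φ ?_ hx
    ext a
    rfl
  obtain ⟨y, hy⟩ := IsIntegrallyClosed.isIntegral_iff.mp h1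
  rw [← hy]
  exact y.2

open Polynomial in
theorem backward {A B : Type u} [CommRing A] [CommRing B] [Algebra A B] (x : B)
    (h : ∀ (K : Type u) [Field K] (R : ValuationSubring K) (φ : B →+* K),
        (∀ a : A, φ (algebraMap A B a) ∈ R) → φ x ∈ R) : IsIntegral A x := by
  by_contra hx
  -- 0 ∉ T
  have h0 : (0 : B) ∉ monicValues A x := by
    rintro ⟨p, hp, hpx⟩
    exact hx ⟨p, hp, by simpa [aeval_def] using hpx⟩
  obtain ⟨q, hq, -, hdisj⟩ := Ideal.exists_le_prime_disjoint (⊥ : Ideal B) (monicValues A x)
    (by
      rw [Set.disjoint_left]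
      intro y hy hyT
      have : y = 0 := by simpa using hy
      exact h0 (this ▸ hyT))
  let K := q.ResidueField
  let φ : B →+* K := algebraMap B K
  let f : A →+* K := φ.comp (algebraMap A B)
  have hmem : φ x ∈ (integralClosure (Subring.closure (Set.range f)) K).toSubring := by
    rw [← iInf_valuationSubring_superset]
    rw [Subring.mem_iInf]
    rintro ⟨V, hV⟩
    refine h K V φ ?_
    intro a
    exact hV ⟨a, rfl⟩
  have hcl : Subring.closure (Set.range f) = f.range := by
    rw [← RingHom.coe_range, Subring.closure_eq]
  obtain ⟨p, hp, hpx⟩ := hmem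
  -- p : (closure ..)[X], monic, eval₂ (algebraMap _ K) (φ x) p = 0
  -- lift p to A[X]
  let g : A →+* Subring.closure (Set.range f) :=
    f.codRestrict _ (fun a => Subring.subset_closure ⟨a, rfl⟩)
  have hg : Function.Surjective g := by
    rintro ⟨y, hy⟩
    rw [hcl] at hy
    obtain ⟨a, rfl⟩ := hy
    exact ⟨a, rfl⟩
  have hpl : p ∈ Polynomial.lifts g := by
    rw [Polynomial.lifts_iff_coeff_lifts]
    intro n
    exact hg _
  obtain ⟨P, hPmap, -, hPmonic⟩ := Polynomial.lifts_and_degree_eq_and_monic hpl hp
  have hval : φ (aeval x P) = 0 := by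
    rw [aeval_def, Polynomial.hom_eval₂]
    rw [← hpx, ← hPmap, Polynomial.eval₂_map]
    rfl
  have hq_mem : aeval x P ∈ q := by
    rw [← Ideal.ker_algebraMap_residueField q, RingHom.mem_ker]
    exact hval
  exact Set.disjoint_left.mp hdisj hq_mem ⟨P, hPmonic, rfl⟩

/-- Let A → B be any homomorphism of commutative rings. An element x of B is integral over A if and only
if for every field K, every valuation subring R of K and every ring homomorphism φ : B → K which
sends the image of A into R, the element φ(x) lies in R. In other words the integral closure of A in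
B is the intersection of the subrings R ×_K B taken over all commutative squares A → R ⊆ K ← B with
R a valuation ring of the field K. -/
theorem result {A B : Type u} [CommRing A]
    [CommRing B] [Algebra A B] (x : B) :
    x ∈ integralClosure A B ↔
      ∀ (K : Type u) [Field K] (R : ValuationSubring K) (φ : B →+* K),
        (∀ a : A, φ (algebraMap A B a) ∈ R) → φ x ∈ R := by
  constructor
  · intro hx K _ R φ hφ
    exact forward x hx K R φ hφ
  · intro h
    exact backward x h

end Groth.Agent.S19333
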