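import Groth.Statements.S19338
-- import your own Groth.Agent.* helpers here

set_option autoImplicit false
universe w v u
open CategoryTheory
open ModPair

namespace Groth.Agent.S19338

open Opposite in
/-- Ore condition in the form used below. -/
theorem ore {C : Type u} [Category.{v} C] (S : MorphismProperty C) [S.HasRightCalculusOfFractions]
    {X Y Z : C} (s : Y ⟶ X) (hs : S s) (f : Z ⟶ X) :
    ∃ (W : C) (s' : W ⟶ Z) (f' : W ⟶ Y), S s' ∧ s' ≫ f = f' ≫ s := by
  obtain ⟨ψ, hψ⟩ := (MorphismProperty.LeftFraction.mk f s hs).exists_rightFraction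
  exact ⟨_, ψ.s, ψ.f, ψ.hs, hψ⟩

open Opposite in
/-- For a monomorphism `s`, the sheaf condition for the singleton presieve says `F.map s.op` is bijective. -/
theorem isSheafFor_singleton_iff_bijective {C : Type u} [Category.{v} C] (F : Cᵒᵖ ⥤ Type w)
    {X Y : C} (s : X ⟶ Y) [Mono s] :
    Presieve.IsSheafFor F (Presieve.singleton s) ↔ Function.Bijective (F.map s.op) := by
  constructor
  · intro h
    constructor
    · intro a b hab
      refine h.isSeparatedFor.ext ?_
      rintro Z g ⟨⟩
      exact hab
    · intro x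
      let fam : Presieve.FamilyOfElements F (Presieve.singleton s) := fun Z g hg => by
        cases hg
        exact x
      have hfam : fam.Compatible := by
        rintro Z₁ Z₂ W g₁ g₂ f₁ f₂ ⟨⟩ ⟨⟩ hcomm
        have : g₁ = g₂ := (cancel_mono s).1 hcomm
        rw [this]
      obtain ⟨y, hy, -⟩ := h fam hfam
      exact ⟨y, hy s (Presieve.singleton_self s)⟩
  · intro hb x hx
    obtain ⟨y, hy⟩ := hb.2 (x s (Presieve.singleton_self s))
    refine ⟨y, ?_, ?_⟩
    · rintro Z g ⟨⟩
      exact hy
    · intro y' hy'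
      exact hb.1 ((hy' s (Presieve.singleton_self s)).trans hy.symm)

/-- Let C be a category and S a class of morphisms which contains the identities, is closed under
composition, admits a right calculus of fractions, and consists of monomorphisms. Then the sieves
containing a morphism of S are the covering sieves of a Grothendieck topology on C, and for every
such topology J a presheaf of types F on C is a J-sheaf if and only if it is S-local, i.e. F sends
every morphism of S to a bijection. -/
theorem result {C : Type u} [Category.{v} C]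
    (S : MorphismProperty C) [S.HasRightCalculusOfFractions]
    (hmono : ∀ ⦃X Y : C⦄ (s : X ⟶ Y), S s → Mono s) :
    (∃ J : GrothendieckTopology C, ∀ (X : C) (T : Sieve X),
        T ∈ J X ↔ ∃ (Y : C) (s : Y ⟶ X), S s ∧ T s) ∧
      ∀ J : GrothendieckTopology C, (∀ (X : C) (T : Sieve X),
          T ∈ J X ↔ ∃ (Y : C) (s : Y ⟶ X), S s ∧ T s) →
        ∀ F : Cᵒᵖ ⥤ Type w,
          Presheaf.IsSheaf J F ↔ ∀ ⦃X Y : C⦄ (s : X ⟶ Y), S s → IsIso (F.map s.op) := by
  have hJ : ∃ J : GrothendieckTopology C, ∀ (X : C) (T : Sieve X),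
      T ∈ J X ↔ ∃ (Y : C) (s : Y ⟶ X), S s ∧ T s := by
    refine ⟨{ sieves := fun X => {T | ∃ (Y : C) (s : Y ⟶ X), S s ∧ T s}
              top_mem' := fun X => ⟨X, 𝟙 X, S.id_mem X, trivial⟩
              pullback_stable' := ?_
              transitive' := ?_ }, fun X T => Iff.rfl⟩
    · rintro X Z T f ⟨Y, s, hs, hTs⟩
      obtain ⟨W, s', f', hs', hcomm⟩ := ore S s hs f
      refine ⟨W, s', hs', ?_⟩
      change T (s' ≫ f)
      rw [hcomm]
      exact T.downward_closed hTs f'
    · rintro X T ⟨Y, s, hs, hTs⟩ R hR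
      obtain ⟨Z, t, ht, hRt⟩ := hR hTs
      exact ⟨Z, t ≫ s, S.comp_mem _ _ ht hs, hRt⟩
  refine ⟨hJ, ?_⟩
  intro J hJ' F
  rw [isSheaf_iff_isSheaf_of_type]
  constructor
  · intro hF X Y s hs
    have := hmono s hs
    rw [isIso_iff_bijective, ← isSheafFor_singleton_iff_bijective, Presieve.isSheafFor_iff_generate]
    apply hF
    rw [hJ']
    exact ⟨X, s, hs, Sieve.le_generate _ _ _ (Presieve.singleton_self s)⟩
  · intro hF X T hT
    rw [hJ'] at hT
    obtain ⟨Y, s, hs, hTs⟩ := hT
    have hbij : ∀ ⦃X Y : C⦄ (s : X ⟶ Y), S s → Function.Bijective (F.map s.op) := fun X Y s hs => by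
      have := hF s hs
      rwa [← isIso_iff_bijective]
    intro x hx
    have hx' := (Presieve.compatible_iff_sieveCompatible x).1 hx
    obtain ⟨y, hy⟩ := (hbij s hs).2 (x s hTs)
    refine ⟨y, ?_, ?_⟩
    · intro Z f hf
      obtain ⟨W, s', f', hs', hcomm⟩ := ore S s hs f
      apply (hbij s' hs').1
      have h1 : F.map s'.op (F.map f.op y) = F.map f'.op (F.map s.op y) := by
        rw [← Functor.map_comp_apply, ← Functor.map_comp_apply, ← op_comp, ← op_comp,
          hcomm]
      rw [h1, hy, ← hx' s f' hTs, ← hx' f s' hf]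
      congr 1
      exact hcomm.symm
    · intro y' hy'
      exact (hbij s hs).1 ((hy' s hTs).trans hy.symm)

end Groth.Agent.S19338
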