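import Groth.Statements.S19339
-- import your own Groth.Agent.* helpers here
import Mathlib
import Groth.Agent.Lib.Helper67.EtaleFiniteFlat

set_option autoImplicit false
universe u
open CategoryTheory CategoryTheory.Limits AlgebraicGeometry TopologicalSpace
open ModPair

namespace Groth.Agent.S19339

open CategoryTheory CategoryTheory.Limits AlgebraicGeometry TopologicalSpace



/-- Let X be a scheme and (w_j : W_j ⟶ X) an fppf covering, i.e. a jointly surjective family of
morphisms each of which is flat and of finite presentation (locally of finite presentation,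
quasi-compact and quasi-separated). Then it is refined by a family of composites V_k ⟶ U_k ⟶ X in
which the u_k : U_k ⟶ X are étale morphisms such that every point of X is the image of a point of
some U_k with trivial residue field extension, and the v_k : V_k ⟶ U_k are finite, flat and
surjective: each composite v_k ≫ u_k factors through some w_j. (The covering condition on the family
(u_k) is stated here pointwise, every point lifting to some U_k with the same residue field; a
Nisnevich covering in the stronger sense with members of finite presentation and a finite splitting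
stratification is not asserted.) -/
theorem result {X : Scheme.{u}}
    {ι : Type u} (W : ι → Scheme.{u}) (w : ∀ j, W j ⟶ X)
    (hw : Presieve.ofArrows W w ∈
      Scheme.precoverage (@Flat ⊓ @LocallyOfFinitePresentation ⊓ @QuasiCompact ⊓ @QuasiSeparated) X) :
    ∃ (κ : Type u) (U V : κ → Scheme.{u}) (u : ∀ k, U k ⟶ X) (v : ∀ k, V k ⟶ U k),
      (∀ k, Etale (u k)) ∧
        (∀ x : X, ∃ (k : κ) (y : U k), (u k).base y = x ∧ IsIso ((u k).residueFieldMap y)) ∧
        (∀ k, IsFinite (v k) ∧ Flat (v k) ∧ Surjective (v k)) ∧
        ∀ k, ∃ (j : ι) (r : V k ⟶ W j), r ≫ w j = v k ≫ u k := by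
  rw [Scheme.ofArrows_mem_precoverage_iff] at hw
  obtain ⟨hcov, hP⟩ := hw
  have key : ∀ x : X, ∃ (j : ι) (U V : Scheme.{u}) (e : U ⟶ X) (y : U) (π : V ⟶ U) (r : V ⟶ W j),
      Etale e ∧ e y = x ∧ IsIso (e.residueFieldMap y) ∧ IsFinite π ∧ Flat π ∧ Surjective π ∧
      r ≫ w j = π ≫ e := by
    intro x
    obtain ⟨j, hj⟩ := hcov x
    haveI : Flat (w j) := (hP j).1.1.1
    haveI : LocallyOfFinitePresentation (w j) := (hP j).1.1.2
    obtain ⟨U, V, e, y, π, r, h1, h2, h3, h4, h5, -, h7, h8⟩ :=
      Groth.Agent.Lib.Helper67.EtaleFiniteFlat.exists_etale_finite_flat (w j) x hj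
    exact ⟨j, U, V, e, y, π, r, h1, h2, h3, h4, h5, h7, h8⟩
  choose j U V e y π r h1 h2 h3 h4 h5 h6 h7 using key
  refine ⟨X, U, V, e, π, h1, fun x => ⟨x, y x, h2 x, h3 x⟩, fun k => ⟨h4 k, h5 k, h6 k⟩,
    fun k => ⟨j k, r k, h7 k⟩⟩

end Groth.Agent.S19339
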