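import Groth.Statements.S19340
-- import your own Groth.Agent.* helpers here

set_option autoImplicit false
universe v v' u u'
open CategoryTheory
open ModPair

namespace Groth.Agent.S19340

/-- Let C be a category, S a class of morphisms of C containing the identities, closed under composition
and admitting a right calculus of fractions, and L : C ⥤ D a localization functor for S. Then for
every object X of C the comma category of L under X, whose objects are pairs (Y, L(X) ⟶ L(Y)) and
whose morphisms are morphisms Y ⟶ Y' of C compatible with the structure maps, is cofiltered. The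
published statement calls this category filtered; its proof verifies, and this row states,
cofilteredness. -/
theorem result {C : Type u}
    [Category.{v} C] {D : Type u'} [Category.{v'} D] (S : MorphismProperty C)
    [S.HasRightCalculusOfFractions] (L : C ⥤ D) [L.IsLocalization S] (X : C) :
    IsCofiltered (StructuredArrow (L.obj X) L) := by
  have hL := Localization.inverts L S
  -- helper on inverses
  have hinv : ∀ {X₁ X₂ : C} (s : X₁ ⟶ X) (t : X₂ ⟶ X) (u : X₂ ⟶ X₁) [IsIso (L.map s)]
      [IsIso (L.map t)], t = u ≫ s → inv (L.map t) ≫ L.map u = inv (L.map s) := by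
    intro X₁ X₂ s t u _ _ ht
    rw [IsIso.inv_comp_eq, IsIso.eq_comp_inv, ← L.map_comp, ht]
  -- every structure map is a right fraction
  have key : ∀ A : StructuredArrow (L.obj X) L, ∃ (X' : C) (s : X' ⟶ X) (_ : S s)
      (f : X' ⟶ A.right) (_ : IsIso (L.map s)), A.hom = inv (L.map s) ≫ L.map f := by
    intro A
    obtain ⟨φ, hφ⟩ := Localization.exists_rightFraction L S A.hom
    exact ⟨φ.X', φ.s, φ.hs, φ.f, hL _ φ.hs, hφ⟩
  have : IsCofilteredOrEmpty (StructuredArrow (L.obj X) L) := by
    constructor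
    · intro A B
      obtain ⟨XA, sA, hsA, fA, _, hA⟩ := key A
      obtain ⟨XB, sB, hsB, fB, _, hB⟩ := key B
      obtain ⟨ψ, hψ⟩ := (MorphismProperty.LeftFraction.mk sB sA hsA).exists_rightFraction
      -- ψ.s : W ⟶ XB in S, ψ.f : W ⟶ XA, ψ.s ≫ sB = ψ.f ≫ sA
      have ht : S (ψ.s ≫ sB) := S.comp_mem _ _ ψ.hs hsB
      have : IsIso (L.map (ψ.s ≫ sB)) := hL _ ht
      refine ⟨StructuredArrow.mk (inv (L.map (ψ.s ≫ sB))),
        StructuredArrow.homMk (ψ.f ≫ fA) ?_, StructuredArrow.homMk (ψ.s ≫ fB) ?_, trivial⟩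
      · change inv (L.map (ψ.s ≫ sB)) ≫ L.map (ψ.f ≫ fA) = A.hom
        rw [L.map_comp ψ.f fA, ← Category.assoc, hinv sA (ψ.s ≫ sB) ψ.f hψ, hA]
      · change inv (L.map (ψ.s ≫ sB)) ≫ L.map (ψ.s ≫ fB) = B.hom
        rw [L.map_comp ψ.s fB, ← Category.assoc, hinv sB (ψ.s ≫ sB) ψ.s rfl, hB]
    · intro A B g h
      obtain ⟨XA, sA, hsA, fA, _, hA⟩ := key A
      have hg : A.hom ≫ L.map g.right = B.hom := StructuredArrow.w g
      have hh : A.hom ≫ L.map h.right = B.hom := StructuredArrow.w h
      have heq : L.map (fA ≫ g.right) = L.map (fA ≫ h.right) := by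
        rw [← cancel_epi (inv (L.map sA)), L.map_comp, L.map_comp, ← Category.assoc,
          ← Category.assoc, ← hA, hg, hh]
      obtain ⟨X'', t, ht, htcomm⟩ := (MorphismProperty.map_eq_iff_precomp L S _ _).1 heq
      have hts : S (t ≫ sA) := S.comp_mem _ _ ht hsA
      have : IsIso (L.map (t ≫ sA)) := hL _ hts
      refine ⟨StructuredArrow.mk (inv (L.map (t ≫ sA))), StructuredArrow.homMk (t ≫ fA) ?_, ?_⟩
      · change inv (L.map (t ≫ sA)) ≫ L.map (t ≫ fA) = A.hom
        rw [L.map_comp t fA, ← Category.assoc, hinv sA (t ≫ sA) t rfl, hA]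
      · apply StructuredArrow.hom_ext
        change (t ≫ fA) ≫ g.right = (t ≫ fA) ≫ h.right
        rw [Category.assoc, Category.assoc, htcomm]
  exact { nonempty := ⟨StructuredArrow.mk (𝟙 (L.obj X))⟩ }

end Groth.Agent.S19340
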