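import Groth.Statements.S19348
import Mathlib.Tactic.Ring
import Mathlib.RingTheory.Jacobson.Ideal
-- import your own Groth.Agent.* helpers here

set_option autoImplicit false
universe u
open RigCh

namespace Groth.Agent.S19348

/-- Let p be a prime and m a natural number, P a commutative ring complete and separated for the p-adic
topology, and I an ideal of P with a divided power structure of level m, that is a sub-ideal J of I
endowed with divided powers such that x ^ (p ^ m) and p * x lie in J for all x in I. Then an element
of P whose class in P / I is invertible is invertible in P. (The source states this for a lift of a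
unit to the p-adically completed level-m divided power envelope of a closed immersion; the statement
here keeps exactly what its argument uses: completeness for p and the level-m divided powers on the
kernel.) -/
theorem result (p : ℕ) [Fact p.Prime] (m : ℕ)
    (P : Type u) [CommRing P] [IsAdicComplete (Ideal.span {(p : P)}) P]
    (I J : Ideal P) (hJ : DividedPowers J) (hJI : J ≤ I)
    (hpow : ∀ x ∈ I, x ^ (p ^ m) ∈ J) (hmul : ∀ x ∈ I, (p : P) * x ∈ J)
    (u : P) (hu : IsUnit (Ideal.Quotient.mk I u)) : IsUnit u := by
  obtain ⟨v, hv⟩ := hu.exists_right_inv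
  obtain ⟨v, rfl⟩ := Ideal.Quotient.mk_surjective v
  have hx : 1 - u * v ∈ I := by
    rw [← Ideal.Quotient.eq_zero_iff_mem, map_sub, map_mul, hv, map_one, sub_self]
  have h1 : (1 - u * v) ^ (p ^ m) ∈ J := hpow _ hx
  have h2 : ((1 - u * v) ^ (p ^ m)) ^ p = (p.factorial : P) * hJ.dpow p ((1 - u * v) ^ (p ^ m)) :=
    (hJ.factorial_mul_dpow_eq_pow h1).symm
  have hp : 0 < p := (Fact.out : p.Prime).pos
  have h3 : ((1 - u * v) ^ (p ^ m)) ^ p ∈ Ideal.span {(p : P)} := by
    rw [h2, ← Nat.mul_factorial_pred hp.ne', Nat.cast_mul, mul_assoc]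
    exact Ideal.mul_mem_right _ _ (Ideal.subset_span rfl)
  have hjac : Ideal.span {(p : P)} ≤ Ideal.jacobson ⊥ := IsAdicComplete.le_jacobson_bot _
  have h4 : IsUnit (1 - ((1 - u * v) ^ (p ^ m)) ^ p) := by
    have := (Ideal.mem_jacobson_bot.mp (hjac h3)) (-1)
    convert this using 1
    ring
  have h5 : (1 - (1 - u * v)) ∣ 1 - ((1 - u * v) ^ (p ^ m)) ^ p := by
    have := sub_dvd_pow_sub_pow (1 : P) (1 - u * v) (p ^ m * p)
    rwa [one_pow, pow_mul] at this
  have h6 : IsUnit (1 - (1 - u * v)) := isUnit_of_dvd_unit h5 h4
  have h7 : IsUnit (u * v) := by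
    convert h6 using 1
    ring
  exact isUnit_of_mul_isUnit_left h7

end Groth.Agent.S19348
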