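import Groth.Statements.S19356
import Mathlib
-- import your own Groth.Agent.* helpers here

set_option autoImplicit false
universe u
open AbVar

namespace Groth.Agent.S19356

open Matrix in
theorem lemmaA {n : ℕ} (a : Fin n → Fin n → ℚ) (d : Fin n → ℚ) (hd : ∀ i, 0 < d i) (q : ℚ) (hq : q ≠ 0)
    (h1 : ∀ i j, ∑ k, a k i * d k * a k j = if i = j then q * d i else 0)
    (u : Fin n → ℂ) (hu : ∃ i, u i ≠ 0) (lam : ℂ)
    (h2 : ∀ j, ∑ i, (a i j : ℂ) * u i = lam * u j) :
    lam * (starRingEnd ℂ) lam = (q : ℂ) := by
  classical
  let A : Matrix (Fin n) (Fin n) ℚ := Matrix.of a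
  let D : Matrix (Fin n) (Fin n) ℚ := Matrix.diagonal d
  let Di : Matrix (Fin n) (Fin n) ℚ := Matrix.diagonal fun i => (d i)⁻¹
  have hDDi : D * Di = 1 := by
    simp only [D, Di, Matrix.diagonal_mul_diagonal]
    rw [← Matrix.diagonal_one]
    congr 1
    funext i
    exact mul_inv_cancel₀ (hd i).ne'
  have hDiD : Di * D = 1 := by
    simp only [D, Di, Matrix.diagonal_mul_diagonal]
    rw [← Matrix.diagonal_one]
    congr 1
    funext i
    exact inv_mul_cancel₀ (hd i).ne'
  have hF1 : A.transpose * D * A = q • D := by
    ext i j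
    rw [Matrix.mul_apply]
    simp only [D, Matrix.mul_diagonal, Matrix.transpose_apply, Matrix.smul_apply, Matrix.diagonal_apply,
      smul_eq_mul, mul_ite, mul_zero]
    exact h1 i j
  have hinv : (q⁻¹ • (Di * A.transpose * D)) * A = 1 := by
    rw [Matrix.smul_mul, Matrix.mul_assoc (Di * A.transpose), Matrix.mul_assoc Di, ← Matrix.mul_assoc A.transpose,
      hF1, Matrix.mul_smul, hDiD, smul_smul, inv_mul_cancel₀ hq, one_smul]
  have hinv' : A * (q⁻¹ • (Di * A.transpose * D)) = 1 := mul_eq_one_comm.mp hinv
  have hF1' : A * Di * A.transpose = q • Di := by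
    have h3 : A * (Di * A.transpose * D) = q • (1 : Matrix (Fin n) (Fin n) ℚ) := by
      rw [Matrix.mul_smul] at hinv'
      rw [← hinv', smul_smul, mul_inv_cancel₀ hq, one_smul]
    calc A * Di * A.transpose = A * Di * A.transpose * (D * Di) := by rw [hDDi, Matrix.mul_one]
      _ = (A * (Di * A.transpose * D)) * Di := by simp only [Matrix.mul_assoc]
      _ = q • Di := by rw [h3, Matrix.smul_mul, Matrix.one_mul]
  -- complexify
  let Ac : Matrix (Fin n) (Fin n) ℂ := A.map (algebraMap ℚ ℂ)
  let Dic : Matrix (Fin n) (Fin n) ℂ := Di.map (algebraMap ℚ ℂ)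
  have hc : Ac * Dic * Ac.transpose = (q : ℂ) • Dic := by
    have := congrArg (fun M : Matrix (Fin n) (Fin n) ℚ => M.map (algebraMap ℚ ℂ)) hF1'
    simp only [Matrix.map_mul, Matrix.transpose_map] at this
    rw [this]
    ext i j
    simp [Dic, Matrix.map_apply, Matrix.smul_apply]
  have hconj : Ac.transpose.conjTranspose = Ac := by
    ext i j
    simp [Ac, Matrix.conjTranspose_apply, Matrix.map_apply]
  have hw : Ac.transpose *ᵥ u = lam • u := by
    ext j
    simp only [Matrix.mulVec, dotProduct, Matrix.transpose_apply, Pi.smul_apply, smul_eq_mul]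
    exact h2 j
  -- quadratic form value
  set S : ℂ := star u ⬝ᵥ (Dic *ᵥ u) with hS
  have e1 : star (Ac.transpose *ᵥ u) ⬝ᵥ (Dic *ᵥ (Ac.transpose *ᵥ u)) = (q : ℂ) * S := by
    rw [Matrix.star_mulVec, hconj, Matrix.mulVec_mulVec, ← Matrix.dotProduct_mulVec, Matrix.mulVec_mulVec,
      ← Matrix.mul_assoc, hc, Matrix.smul_mulVec, dotProduct_smul, smul_eq_mul]
  have e2 : star (Ac.transpose *ᵥ u) ⬝ᵥ (Dic *ᵥ (Ac.transpose *ᵥ u)) = (star lam * lam) * S := by
    rw [hw, Matrix.mulVec_smul, star_smul, smul_dotProduct, dotProduct_smul, smul_eq_mul, smul_eq_mul, mul_assoc]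
  have hSval : S = ((∑ i, Complex.normSq (u i) * ((d i : ℝ))⁻¹ : ℝ) : ℂ) := by
    rw [hS]
    simp only [dotProduct, Dic, Di, Matrix.diagonal_map (map_zero _), Matrix.mulVec_diagonal, Pi.star_apply]
    push_cast
    apply Finset.sum_congr rfl
    intro i _
    rw [← Complex.mul_conj]
    simp
    ring
  have hSpos : (0 : ℝ) < ∑ i, Complex.normSq (u i) * ((d i : ℝ))⁻¹ := by
    obtain ⟨i0, hi0⟩ := hu
    apply Finset.sum_pos'
    · intro i _
      exact mul_nonneg (Complex.normSq_nonneg _) (inv_nonneg.mpr (by exact_mod_cast (hd i).le))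
    · exact ⟨i0, Finset.mem_univ _, mul_pos (Complex.normSq_pos.mpr hi0) (inv_pos.mpr (by exact_mod_cast hd i0))⟩
  have hS0 : S ≠ 0 := by
    rw [hSval]
    exact_mod_cast hSpos.ne'
  have := e1.symm.trans e2
  have h4 : (q : ℂ) = star lam * lam := mul_right_cancel₀ hS0 this
  rw [h4, mul_comm]
  rfl


/-- Let R be a finite-dimensional ℚ-algebra with a ℚ-linear involution x ↦ x† (an anti-automorphism of
order two) and a ℚ-linear functional σ with σ(x x†) > 0 for every x ≠ 0; this is the positivity of
the involution, σ being the trace of R over ℚ in the case of the endomorphism algebra of an abelian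
variety with a Rosati involution, and the trace on a cohomology group in the case of an algebra of
correspondences with the adjoint for a Weil form. Let α ∈ R with α α† = q for a rational number q.
Then α† lies in the subalgebra ℚ[α], and for every ℚ-algebra homomorphism ρ : ℚ[α] → ℂ one has ρ(α†)
= the complex conjugate of ρ(α) and |ρ(α)|² = q. (The published statement is for the endomorphism
algebra of an abelian variety with a Rosati involution, with σ its trace over ℚ and q an integer;
the form given here, for an arbitrary ℚ-linear functional σ positive on every x x† with x ≠ 0 and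
rational q, is what its proof establishes.) -/
theorem result (R : Type u) [Ring R] [Algebra ℚ R]
    [Module.Finite ℚ R] [StarRing R] [StarModule ℚ R]
    (σ : R →ₗ[ℚ] ℚ) (hpos : ∀ x : R, x ≠ 0 → 0 < σ (x * star x))
    (α : R) (q : ℚ) (hα : α * star α = algebraMap ℚ R q) :
    ∃ hmem : star α ∈ Algebra.adjoin ℚ ({α} : Set R),
      ∀ ρ : Algebra.adjoin ℚ ({α} : Set R) →ₐ[ℚ] ℂ,
        ρ ⟨star α, hmem⟩ = starRingEnd ℂ (ρ ⟨α, Algebra.self_mem_adjoin_singleton ℚ α⟩) ∧
          ‖ρ ⟨α, Algebra.self_mem_adjoin_singleton ℚ α⟩‖ ^ 2 = (q : ℝ) := by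
  classical
  by_cases hq : q = 0
  · have hα0 : α = 0 := by
      by_contra h
      have := hpos α h
      rw [hα, hq, map_zero, map_zero] at this
      exact lt_irrefl _ this
    have hs : star α = 0 := by rw [hα0, star_zero]
    refine ⟨by rw [hs]; exact Subalgebra.zero_mem _, ?_⟩
    intro ρ
    have e1 : (⟨star α, by rw [hs]; exact Subalgebra.zero_mem _⟩ : Algebra.adjoin ℚ ({α} : Set R)) = 0 :=
      Subtype.ext hs
    have e2 : (⟨α, Algebra.self_mem_adjoin_singleton ℚ α⟩ : Algebra.adjoin ℚ ({α} : Set R)) = 0 :=
      Subtype.ext hα0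
    rw [e1, e2, map_zero, hq]
    simp
  · have hαE : α ∈ Algebra.adjoin ℚ ({α} : Set R) := Algebra.self_mem_adjoin_singleton ℚ α
    have hcomm : ∀ x ∈ Algebra.adjoin ℚ ({α} : Set R), ∀ y ∈ Algebra.adjoin ℚ ({α} : Set R),
        x * y = y * x := by
      intro x hx y hy
      have h1 : Commute α y := Algebra.commute_of_mem_adjoin_self hy
      have h2 : Commute y x := Algebra.commute_of_mem_adjoin_singleton_of_commute hx h1.symm
      exact h2.eq.symm
    have h3 : α * (q⁻¹ • star α) = 1 := by
      rw [mul_smul_comm, hα, Algebra.algebraMap_eq_smul_one, smul_smul, inv_mul_cancel₀ hq, one_smul]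
    set E := Algebra.adjoin ℚ ({α} : Set R) with hE
    set αE : E := ⟨α, hαE⟩ with hαEdef
    have hinj : Function.Injective (LinearMap.mulLeft ℚ αE) := by
      rw [← LinearMap.ker_eq_bot, LinearMap.ker_eq_bot']
      intro x hx
      have h1 : α * (x : R) = 0 := congrArg Subtype.val hx
      have h2 : (x : R) * α = 0 := by rw [← hcomm _ hαE _ x.2]; exact h1
      apply Subtype.ext
      calc (x : R) = (x : R) * (α * (q⁻¹ • star α)) := by rw [h3, mul_one]
        _ = ((x : R) * α) * (q⁻¹ • star α) := (mul_assoc _ _ _).symm
        _ = 0 := by rw [h2, zero_mul]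
    have hsurj : Function.Surjective (LinearMap.mulLeft ℚ αE) :=
      LinearMap.surjective_of_injective hinj
    obtain ⟨a', ha'⟩ := hsurj 1
    have ha'1 : α * (a' : R) = 1 := congrArg Subtype.val ha'
    have ha'2 : (a' : R) * α = 1 := by rw [← hcomm _ hαE _ a'.2]; exact ha'1
    have hβ : q⁻¹ • star α = a' := by
      calc q⁻¹ • star α = ((a' : R) * α) * (q⁻¹ • star α) := by rw [ha'2, one_mul]
        _ = (a' : R) * (α * (q⁻¹ • star α)) := mul_assoc _ _ _
        _ = a' := by rw [h3, mul_one]
    have hstar : star α = q • (a' : R) := by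
      rw [← hβ, smul_smul, mul_inv_cancel₀ hq, one_smul]
    have hmem : star α ∈ E := by rw [hstar]; exact Subalgebra.smul_mem _ a'.2 q
    refine ⟨hmem, ?_⟩
    intro ρ
    have hnorm : ρ αE * starRingEnd ℂ (ρ αE) = (q : ℂ) := by
      -- the symmetrised bilinear form on `E`
      let B : LinearMap.BilinForm ℚ E := LinearMap.mk₂ ℚ
        (fun x y : E => σ ((x : R) * star (y : R)) + σ ((y : R) * star (x : R)))
        (by
          intro x x' y
          simp only [Subalgebra.coe_add, add_mul, mul_add, star_add, map_add]
          ring)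
        (by
          intro c x y
          simp only [Subalgebra.coe_smul, star_smul, star_trivial, smul_mul_assoc, mul_smul_comm,
            map_smul, smul_eq_mul]
          ring)
        (by
          intro x y y'
          simp only [Subalgebra.coe_add, add_mul, mul_add, star_add, map_add]
          ring)
        (by
          intro c x y
          simp only [Subalgebra.coe_smul, star_smul, star_trivial, smul_mul_assoc, mul_smul_comm,
            map_smul, smul_eq_mul]
          ring)
      have hBdef : ∀ x y : E, B x y = σ ((x : R) * star (y : R)) + σ ((y : R) * star (x : R)) :=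
        fun x y => rfl
      have hBsymm : B.IsSymm := ⟨fun x y => by rw [hBdef, hBdef, add_comm]⟩
      have hBpos : ∀ x : E, x ≠ 0 → 0 < B x x := by
        intro x hx
        have hx' : (x : R) ≠ 0 := fun h => hx (Subtype.ext h)
        rw [hBdef]
        have := hpos _ hx'
        linarith
      have hcs : ∀ y : E, α * star (y : R) = star (y : R) * α := by
        intro y
        have h := hcomm _ y.2 _ hmem
        have h' := congrArg star h
        rw [star_mul, star_mul, star_star] at h'
        exact h'
      have hBα : ∀ x y : E, B (αE * x) (αE * y) = q * B x y := by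
        intro x y
        have key : ∀ x y : E, (α * (x : R)) * star (α * (y : R)) = q • ((x : R) * star (y : R)) := by
          intro x y
          rw [star_mul, hcomm _ hαE _ x.2]
          calc (x : R) * α * (star (y : R) * star α) = (x : R) * ((α * star (y : R)) * star α) := by
                simp only [mul_assoc]
            _ = (x : R) * ((star (y : R) * α) * star α) := by rw [hcs y]
            _ = ((x : R) * star (y : R)) * (α * star α) := by simp only [mul_assoc]
            _ = q • ((x : R) * star (y : R)) := by
                rw [hα, ← Algebra.commutes, ← Algebra.smul_def]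
        rw [hBdef, hBdef]
        change σ ((α * (x : R)) * star (α * (y : R))) + σ ((α * (y : R)) * star (α * (x : R))) = _
        rw [key x y, key y x, map_smul, map_smul, smul_eq_mul, smul_eq_mul]
        ring
      obtain ⟨v, hv⟩ := LinearMap.BilinForm.exists_orthogonal_basis (LinearMap.BilinForm.isSymm_iff.mp hBsymm)
      have hI1 : ∀ x y : E, B x y = ∑ k, v.repr x k * B (v k) (v k) * v.repr y k := by
        intro x y
        conv_lhs => rw [← v.sum_repr x, ← v.sum_repr y]
        simp only [map_sum, LinearMap.sum_apply, map_smul, LinearMap.smul_apply, smul_eq_mul]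
        apply Finset.sum_congr rfl
        intro i _
        rw [Finset.sum_eq_single i]
        · ring
        · intro j _ hji
          rw [hv hji]
          ring
        · intro h
          exact absurd (Finset.mem_univ i) h
      have h1 : ∀ i j, ∑ k, v.repr (αE * v i) k * B (v k) (v k) * v.repr (αE * v j) k =
          if i = j then q * B (v i) (v i) else 0 := by
        intro i j
        rw [← hI1 (αE * v i) (αE * v j), hBα]
        split_ifs with h
        · subst h; rfl
        · rw [hv h, mul_zero]
      have hu : ∃ i, ρ (v i) ≠ 0 := by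
        by_contra hcon
        push Not at hcon
        have h0 : ρ 1 = 0 := by
          rw [← v.sum_repr 1, map_sum]
          apply Finset.sum_eq_zero
          intro i _
          rw [map_smul, hcon i, smul_zero]
        rw [map_one] at h0
        exact one_ne_zero h0
      have h2 : ∀ j, ∑ i, ((v.repr (αE * v j) i : ℚ) : ℂ) * ρ (v i) = ρ αE * ρ (v j) := by
        intro j
        rw [← map_mul]
        conv_rhs => rw [← v.sum_repr (αE * v j)]
        rw [map_sum]
        apply Finset.sum_congr rfl
        intro i _
        rw [map_smul, Algebra.smul_def]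
        simp
      exact lemmaA (fun i j => v.repr (αE * v j) i) (fun i => B (v i) (v i))
        (fun i => hBpos _ (v.ne_zero i)) q hq h1 (fun i => ρ (v i)) hu (ρ αE) h2
    have h1 : ρ αE * ρ ⟨star α, hmem⟩ = (q : ℂ) := by
      rw [← map_mul]
      have : αE * (⟨star α, hmem⟩ : E) = algebraMap ℚ E q := Subtype.ext hα
      rw [this, AlgHom.commutes]
      simp
    have hne : ρ αE ≠ 0 := by
      intro h
      rw [h, zero_mul] at h1
      exact hq (by exact_mod_cast h1.symm)
    constructor
    · exact mul_left_cancel₀ hne (h1.trans hnorm.symm)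
    · rw [Complex.sq_norm]
      have := Complex.mul_conj (ρ αE)
      rw [hnorm] at this
      exact_mod_cast this.symm

end Groth.Agent.S19356
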