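import Groth.Statements.S19374
-- import your own Groth.Agent.* helpers here

set_option autoImplicit false
universe u
open CategoryTheory Opposite Instab
open Instab Instab.Fan

namespace Groth.Agent.S19374

/-- Let F be a formal fan and U ⊆ P F. Then U is locally convex in the simplex-wise sense — for every
rational simplex, a ray lying strictly between two rays that map into U also maps into U — if and
only if, for every n-cone ξ of F, the set of nonzero nonnegative vectors v of ℝ^n whose point of the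
rational simplex of ξ lies in U is a convex subset of ℝ^n (convexity of the preimage of U in each
punctured cone of the affine realization). -/
theorem realMap_id (n : ICone) (v : Fin n.dim → ℝ) : (𝟙 n : n ⟶ n).realMap v = v := by
  funext j
  change ∑ i, (((LinearMap.id : (Fin n.dim → ℤ) →ₗ[ℤ] (Fin n.dim → ℤ)) (Pi.single i 1) j : ℤ) : ℝ)
    * v i = v j
  simp only [LinearMap.id_coe, id_eq, Pi.single_apply]
  rw [Finset.sum_eq_single j]
  · simp
  · intro b _ hb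
    simp [Ne.symm hb]
  · simp

theorem mk_smul (F : Fan.{u}) {n : ICone} (ξ : F.obj (op n)) (v w : Fan.Orth n) (c : ℝ)
    (hc : 0 < c) (h : w.1 = c • v.1) : Fan.P.mk ξ v = Fan.P.mk ξ w := by
  have hr := Fan.Rel.glue (F := F) (𝟙 n) ξ v w c hc (by rw [realMap_id]; exact h)
  have e : F.map (𝟙 n).op ξ = ξ := by simp
  rw [e] at hr
  exact Quot.sound hr

theorem result (F : Fan.{u}) (U : Set (Fan.P F)) :
    Fan.IsLocallyConvex U ↔
      ∀ (n : ICone) (ξ : F.obj (op n)),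
        Convex ℝ {v : Fin n.dim → ℝ | ∃ h : (∀ i, 0 ≤ v i) ∧ v ≠ 0, Fan.P.mk ξ (⟨v, h⟩ : Fan.Orth n) ∈ U} := by
  constructor
  · intro hU n ξ v₀ hv₀ v₂ hv₂ a b ha hb hab
    obtain ⟨h₀, hm₀⟩ := hv₀
    obtain ⟨h₂, hm₂⟩ := hv₂
    rcases ha.eq_or_lt with ha0 | ha0
    · have hb1 : b = 1 := by rw [← ha0, zero_add] at hab; exact hab
      rw [← ha0, hb1, zero_smul, zero_add, one_smul]
      exact ⟨h₂, hm₂⟩
    rcases hb.eq_or_lt with hb0 | hb0
    · have ha1 : a = 1 := by rw [← hb0, add_zero] at hab; exact hab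
      rw [← hb0, ha1, zero_smul, add_zero, one_smul]
      exact ⟨h₀, hm₀⟩
    have hnn : ∀ i, 0 ≤ (a • v₀ + b • v₂) i := fun i => by
      simp only [Pi.add_apply, Pi.smul_apply, smul_eq_mul]
      exact add_nonneg (mul_nonneg ha (h₀.1 i)) (mul_nonneg hb (h₂.1 i))
    have hne : a • v₀ + b • v₂ ≠ 0 := by
      intro hz
      apply h₀.2
      funext i
      have hi := congr_fun hz i
      simp only [Pi.add_apply, Pi.smul_apply, smul_eq_mul, Pi.zero_apply] at hi
      have h1 : 0 ≤ a * v₀ i := mul_nonneg ha (h₀.1 i)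
      have h2 : 0 ≤ b * v₂ i := mul_nonneg hb (h₂.1 i)
      have h3 : a * v₀ i = 0 := by linarith
      rcases mul_eq_zero.mp h3 with h4 | h4
      · exact absurd h4 ha0.ne'
      · exact h4
    refine ⟨⟨hnn, hne⟩, ?_⟩
    exact hU n ξ ⟨v₀, h₀⟩ ⟨a • v₀ + b • v₂, hnn, hne⟩ ⟨v₂, h₂⟩ hm₀ hm₂ ⟨a, b, ha0, hb0, rfl⟩
  · intro hC n ξ v₀ v₁ v₂ h₀ h₂ hab
    obtain ⟨a, b, ha, hb, hv⟩ := hab
    have hs : 0 < a + b := add_pos ha hb
    have hmem₀ : v₀.1 ∈ {v : Fin n.dim → ℝ | ∃ h : (∀ i, 0 ≤ v i) ∧ v ≠ 0,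
        Fan.P.mk ξ (⟨v, h⟩ : Fan.Orth n) ∈ U} := ⟨v₀.2, h₀⟩
    have hmem₂ : v₂.1 ∈ {v : Fin n.dim → ℝ | ∃ h : (∀ i, 0 ≤ v i) ∧ v ≠ 0,
        Fan.P.mk ξ (⟨v, h⟩ : Fan.Orth n) ∈ U} := ⟨v₂.2, h₂⟩
    have hc := hC n ξ hmem₀ hmem₂ (a := a / (a + b)) (b := b / (a + b))
      (div_nonneg ha.le hs.le) (div_nonneg hb.le hs.le) (by field_simp)
    obtain ⟨hw, hwU⟩ := hc
    have : Fan.P.mk ξ (⟨_, hw⟩ : Fan.Orth n) = Fan.P.mk ξ v₁ := by
      apply mk_smul F ξ _ _ (a + b) hs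
      rw [hv]
      funext i
      simp only [Pi.add_apply, Pi.smul_apply, smul_eq_mul]
      field_simp
    rw [← this]
    exact hwU

end Groth.Agent.S19374
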