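import Groth.Statements.S19375
import Groth.Agent.Lib.Helper49.AdicNormal
import Groth.Agent.Lib.Helper83.FlatLocalDim
-- import your own Groth.Agent.* helpers here

set_option autoImplicit false
universe u
open EGA4

namespace Groth.Agent.S19375

open Groth.Agent.Lib.Helper49.AdicNormal

/-- Let A be a Noetherian ring, J a proper ideal of A, Â the J-adic completion of A and A_T the
localization of A at the multiplicative set T = 1 + J (the elements congruent to 1 modulo J). Assume
that the canonical map A → Â is a normal homomorphism (flat, with geometrically normal fibres), as
happens when A is excellent. Then Â is an integrally closed domain if and only if A_T is an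
integrally closed domain and the spectrum of A/J is connected. (The published statement asserts the
equivalence of the first two conditions alone; for A = ℤ and J = 6ℤ the localization A_T is an
integrally closed domain while Â ≅ ℤ_2 × ℤ_3 is not a domain, and the published proof tacitly uses
that Spec Â, whose connected components correspond to those of Spec(A/J), is connected. The case of
the henselization of the pair and of the weak completion is not stated here.) -/
theorem result
    (A : Type u) [CommRing A] [IsNoetherianRing A] (J : Ideal A) (hJ : J ≠ ⊤)
    (hf : EGA4.IsNormalHom A (AdicCompletion J A))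
    (T : Submonoid A) (hT : T = MonoidHom.mker (Ideal.Quotient.mk J)) :
    (IsDomain (AdicCompletion J A) ∧ IsIntegrallyClosed (AdicCompletion J A)) ↔
      ((IsDomain (Localization T) ∧ IsIntegrallyClosed (Localization T)) ∧
        ConnectedSpace (PrimeSpectrum (A ⧸ J))) := by
  classical
  have hunits : ∀ t : T, IsUnit (algebraMap A (AdicCompletion J A) t) := fun t =>
    isUnit_algebraMap_of_mem A J T hT t.1 t.2
  letI alg : Algebra (Localization T) (AdicCompletion J A) :=
    (IsLocalization.lift (M := T) (S := Localization T) hunits).toAlgebra
  haveI : IsScalarTower A (Localization T) (AdicCompletion J A) :=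
    IsScalarTower.of_algebraMap_eq fun x => by
      show _ = IsLocalization.lift hunits (algebraMap A (Localization T) x)
      rw [IsLocalization.lift_eq]
  have hNH : EGA4.IsNormalHom (Localization T) (AdicCompletion J A) :=
    isNormalHom_of_isLocalization_mker A J T hT (Localization T) hf
  haveI := hNH.1
  haveI : Module.FaithfullyFlat (Localization T) (AdicCompletion J A) :=
    faithfullyFlat_of_isLocalization_mker A J T hT (Localization T)
  haveI : IsNoetherianRing (AdicCompletion J A) :=
    Groth.Agent.Lib.Helper83.isNoetherianRing_adicCompletion J
  haveI : IsNoetherianRing (Localization T) :=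
    IsLocalization.isNoetherianRing T (Localization T) inferInstance
  constructor
  · rintro ⟨hD, hIC⟩
    haveI := hD
    haveI := hIC
    refine ⟨Groth.Agent.Lib.Helper49.EtaleNormal.isIntegrallyClosed_of_faithfullyFlat
      (Localization T) (AdicCompletion J A), ?_⟩
    rw [← connectedSpace_adicCompletion_iff A J hJ]
    infer_instance
  · rintro ⟨⟨hD, hIC⟩, hconn⟩
    haveI := hD
    haveI := hIC
    have hN1 : EGA4.IsNormalRing (Localization T) :=
      Groth.Agent.Lib.Helper49.EtaleNormal.isNormalRing_of_isIntegrallyClosed _
    have hN2 : EGA4.IsNormalRing (AdicCompletion J A) :=
      Groth.Agent.Lib.Helper49.EtaleNormal.isNormalRing_of_isNormalHom (Localization T)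
        (AdicCompletion J A) hN1 hNH
    haveI : ConnectedSpace (PrimeSpectrum (AdicCompletion J A)) :=
      (connectedSpace_adicCompletion_iff A J hJ).mpr hconn
    haveI hdom : IsDomain (AdicCompletion J A) :=
      isDomain_of_isNormalRing_of_connected _ hN2
    refine ⟨hdom, ?_⟩
    apply IsIntegrallyClosed.of_localization_maximal
    intro p _ hp
    exact (hN2 p).2

end Groth.Agent.S19375
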