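import Groth.Statements.S19376
-- import your own Groth.Agent.* helpers here
import Groth.Agent.Lib.Helper15.AdicLift

set_option autoImplicit false
universe u
open EGA4

namespace Groth.Agent.S19376

/-- Let V be an excellent normal ring with no additive torsion, I an ideal of V such that (V, I) is a
henselian pair, A and C smooth V-algebras, and φ₀ a V-algebra homomorphism from A/IA to C/IC which
is finite. Then φ₀ lifts to a finite V-algebra homomorphism φ from the IA-adic completion of A to
the IC-adic completion of C: composing φ with the projection onto C/IC equals the projection onto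
A/IA followed by φ₀. (The published statement also treats finite flat, finite faithfully flat and
finite étale maps, whose proofs are referred elsewhere; only the finite case is stated.) -/
theorem result
    (V : Type u) [CommRing V] [IsAddTorsionFree V]
    (hexc : EGA4.IsExcellent V) (hV : EGA4.IsNormalRing V)
    (I : Ideal V) [HenselianRing V I]
    (A C : Type u) [CommRing A] [Algebra V A] [Algebra.Smooth V A]
    [CommRing C] [Algebra V C] [Algebra.Smooth V C]
    (φ₀ : (A ⧸ I.map (algebraMap V A)) →ₐ[V] (C ⧸ I.map (algebraMap V C)))
    (hφ₀ : φ₀.toRingHom.Finite) :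
    ∃ φ : AdicCompletion (I.map (algebraMap V A)) A →ₐ[V]
        AdicCompletion (I.map (algebraMap V C)) C,
      φ.toRingHom.Finite ∧
      (AdicCompletion.evalOneₐ (I.map (algebraMap V C))).toRingHom.comp φ.toRingHom =
        φ₀.toRingHom.comp (AdicCompletion.evalOneₐ (I.map (algebraMap V A))).toRingHom := by
  have : IsNoetherianRing V := hexc.1
  have : IsNoetherianRing A := Algebra.FiniteType.isNoetherianRing V A
  have : IsNoetherianRing C := Algebra.FiniteType.isNoetherianRing V C
  obtain ⟨φ, hφ⟩ := Groth.Agent.Lib.Helper15.AdicLift.exists_lift V I A C _ _ rfl rfl φ₀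
  refine ⟨φ, ?_, ?_⟩
  · exact Groth.Agent.Lib.Helper15.AdicLift.finite_of_lift V I A C _ _ rfl rfl
      (IsNoetherian.noetherian _) (IsNoetherian.noetherian _) φ₀ hφ₀ φ hφ
  · ext x
    exact hφ x

end Groth.Agent.S19376
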