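import Groth.Statements.S19378
import Groth.Agent.Lib.Helper49.ComplLoc
import Groth.Agent.Lib.Helper49.EtaleNormal
-- import your own Groth.Agent.* helpers here

set_option autoImplicit false
universe u
open EGA4

namespace Groth.Agent.S19378

/-- Let A be a Noetherian ring, J a proper ideal of A, Â the J-adic completion and A_T the localization
of A at T = 1 + J. If the canonical map A → Â is a normal homomorphism (flat with geometrically
normal fibres), then A_T is a normal ring (all local rings integrally closed domains) if and only if
Â is. (The case of the henselization of the pair and of the weak completion is not stated here.) -/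
theorem result
    (A : Type u) [CommRing A] [IsNoetherianRing A] (J : Ideal A) (hJ : J ≠ ⊤)
    (hf : EGA4.IsNormalHom A (AdicCompletion J A))
    (T : Submonoid A) (hT : T = MonoidHom.mker (Ideal.Quotient.mk J)) :
    EGA4.IsNormalRing (Localization T) ↔ EGA4.IsNormalRing (AdicCompletion J A) := by
  subst hT
  haveI hN : IsNoetherianRing (AdicCompletion J A) :=
    Groth.Agent.Lib.Helper63.CompletionNoeth.isNoetherianRing_adicCompletion A J
  haveI : IsLocalization (Algebra.algebraMapSubmonoid (AdicCompletion J A)
      (Groth.Agent.Lib.Helper49.ComplLoc.T1 A J)) (AdicCompletion J A) := by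
    apply IsLocalization.at_units
    rintro _ ⟨t, ht, rfl⟩
    exact Groth.Agent.Lib.Helper49.ComplLoc.isUnit_algebraMap_of_mem A J t ht
  have hnor : EGA4.IsNormalHom (Localization (Groth.Agent.Lib.Helper49.ComplLoc.T1 A J))
      (AdicCompletion J A) :=
    Groth.Agent.Lib.Helper49.HomLoc.isNormalHom_of_isLocalization A (AdicCompletion J A)
      (Groth.Agent.Lib.Helper49.ComplLoc.T1 A J)
      (Localization (Groth.Agent.Lib.Helper49.ComplLoc.T1 A J)) (AdicCompletion J A) hf
  haveI : IsNoetherianRing (Localization (Groth.Agent.Lib.Helper49.ComplLoc.T1 A J)) :=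
    IsLocalization.isNoetherianRing (Groth.Agent.Lib.Helper49.ComplLoc.T1 A J) _ inferInstance
  constructor
  · intro h
    exact Groth.Agent.Lib.Helper49.EtaleNormal.isNormalRing_of_isNormalHom
      (Localization (Groth.Agent.Lib.Helper49.ComplLoc.T1 A J)) (AdicCompletion J A) h hnor
  · intro h p hp
    obtain ⟨q, hq, hqp⟩ := Ideal.exists_isPrime_liesOver_of_faithfullyFlat
      (B := AdicCompletion J A) p
    have key : ∀ (p' : Ideal (Localization (Groth.Agent.Lib.Helper49.ComplLoc.T1 A J)))
        [p'.IsPrime], p' = p →
        (IsDomain (Localization.AtPrime p') ∧ IsIntegrallyClosed (Localization.AtPrime p')) →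
        (IsDomain (Localization.AtPrime p) ∧ IsIntegrallyClosed (Localization.AtPrime p)) := by
      intro p' _ he
      subst he
      exact id
    obtain ⟨h1, h2⟩ := h q
    exact key _ hqp.over.symm
      (Groth.Agent.Lib.Helper49.EtaleNormal.isIntegrallyClosed_localization_of_flat
        (Localization (Groth.Agent.Lib.Helper49.ComplLoc.T1 A J)) (AdicCompletion J A) q h1 h2)

end Groth.Agent.S19378
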