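import Groth.Statements.S19380
import Mathlib.LinearAlgebra.Matrix.SchurComplement
-- import your own Groth.Agent.* helpers here

set_option autoImplicit false
universe u
open CAlg

namespace Groth.Agent.S19380

/-- Let L be a commutative ring, σ a ring automorphism of L of finite order dividing d (σ^d = 1), and C
an r × r matrix over L. The reverse characteristic polynomial det(1 − T·N) of the twisted product N
= C·σ(C)·σ²(C)⋯σ^(d−1)(C), with σ applied to the entries, is fixed by σ acting on coefficients. (In
the source this is phrased for the fibre at a closed point x of degree d of a convergent F-module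
with Frobenius matrix C: the d-th iterate of the semilinear Frobenius of the fibre is the linear map
with matrix N, so its characteristic polynomial has coefficients in the subfield fixed by the
Frobenius of K(x), namely K, and likewise with the valuation ring in place of K for an integral
F-module; only this linear-algebra statement, over any commutative ring, is given here.) -/
theorem charpolyRev_map' {R S : Type u} [CommRing R] [CommRing S] (f : R →+* S) {r : ℕ}
    (M : Matrix (Fin r) (Fin r) R) :
    (Matrix.charpolyRev M).map f = Matrix.charpolyRev (M.map f) := by
  unfold Matrix.charpolyRev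
  rw [← Polynomial.coe_mapRingHom, RingHom.map_det]
  congr 1
  ext i j
  simp only [RingHom.mapMatrix_apply, Matrix.map_apply, Matrix.sub_apply, Matrix.smul_apply,
    Matrix.one_apply, Polynomial.coe_mapRingHom, smul_eq_mul]
  by_cases h : i = j <;> simp [h]

theorem charpolyRev_mul_comm' {R : Type u} [CommRing R] {r : ℕ}
    (A B : Matrix (Fin r) (Fin r) R) :
    Matrix.charpolyRev (A * B) = Matrix.charpolyRev (B * A) := by
  unfold Matrix.charpolyRev
  have h1 : (1 : Matrix (Fin r) (Fin r) (Polynomial R)) - (Polynomial.X : Polynomial R) •
      (A * B).map Polynomial.C =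
      1 - ((Polynomial.X : Polynomial R) • A.map Polynomial.C) * B.map Polynomial.C := by
    rw [Matrix.map_mul, Matrix.smul_mul]
  have h2 : (1 : Matrix (Fin r) (Fin r) (Polynomial R)) - (Polynomial.X : Polynomial R) •
      (B * A).map Polynomial.C =
      1 - B.map Polynomial.C * ((Polynomial.X : Polynomial R) • A.map Polynomial.C) := by
    rw [Matrix.map_mul, Matrix.mul_smul]
  rw [h1, h2, Matrix.det_one_sub_mul_comm]

theorem result
    (L : Type u) [CommRing L] (σ : L ≃+* L) (d : ℕ) (hσ : σ ^ d = 1)
    (r : ℕ) (C : Matrix (Fin r) (Fin r) L) :
    (Matrix.charpolyRev (((List.range d).map fun i => C.map ⇑(σ ^ i)).prod)).map (σ : L →+* L) =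
      Matrix.charpolyRev (((List.range d).map fun i => C.map ⇑(σ ^ i)).prod) := by
  rw [charpolyRev_map']
  -- mapping the product by `σ` shifts the exponents
  have hmap : (((List.range d).map fun i => C.map ⇑(σ ^ i)).prod).map ⇑(σ : L →+* L) =
      ((List.range d).map fun i => C.map ⇑(σ ^ (i + 1))).prod := by
    have := map_list_prod (RingHom.mapMatrix (m := Fin r) (σ : L →+* L))
      ((List.range d).map fun i => C.map ⇑(σ ^ i))
    rw [RingHom.mapMatrix_apply] at this
    rw [this, List.map_map]
    congr 1
    apply List.map_congr_left
    intro i _
    ext a b
    simp [pow_succ']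
  rw [hmap]
  cases d with
  | zero => simp
  | succ d =>
    have hA : ((List.range (d + 1)).map fun i => C.map ⇑(σ ^ i)).prod =
        C * ((List.range d).map fun i => C.map ⇑(σ ^ (i + 1))).prod := by
      rw [List.range_succ_eq_map, List.map_cons, List.prod_cons, List.map_map]
      congr 1
    have hB : ((List.range (d + 1)).map fun i => C.map ⇑(σ ^ (i + 1))).prod =
        ((List.range d).map fun i => C.map ⇑(σ ^ (i + 1))).prod * C := by
      rw [List.range_succ, List.map_append, List.prod_append, List.map_singleton,
        List.prod_singleton, hσ]
      congr 1
    rw [hA, hB, charpolyRev_mul_comm']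

end Groth.Agent.S19380
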