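import Groth.Statements.S19383
import Mathlib.RingTheory.Flat.TorsionFree
import Mathlib.RingTheory.AdicCompletion.AsTensorProduct
import Mathlib.RingTheory.Filtration
import Mathlib.RingTheory.Flat.Stability
-- import your own Groth.Agent.* helpers here

set_option autoImplicit false
universe u
open CAlg

namespace Groth.Agent.S19383

/-- Over a discrete valuation ring, let V be a henselian discrete valuation ring with maximal ideal 𝔪
and B a Noetherian V-algebra, B̂ its 𝔪B-adic completion. Then B is flat over V if and only if B̂ is
flat over V. (The published lemma takes V an excellent normal ring with an ideal I such that (V,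
V/I) is a henselian pair and B of finite type; in that generality it fails: for V = ℤ_p[[x]], I =
(p) and B = V[y]/(x, py − 1) ≅ ℚ_p one has IB = B, so B̂ = 0 is flat while B is not flat over V.
Over a discrete valuation ring flatness is torsion-freeness and the statement holds for every
Noetherian B.) -/
theorem result
    (V : Type u) [CommRing V] [IsDomain V] [IsDiscreteValuationRing V] [HenselianLocalRing V]
    (B : Type u) [CommRing B] [Algebra V B] [IsNoetherianRing B] :
    Module.Flat V B ↔
      Module.Flat V (AdicCompletion ((IsLocalRing.maximalIdeal V).map (algebraMap V B)) B) := by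
  set I := (IsLocalRing.maximalIdeal V).map (algebraMap V B) with hI
  constructor
  · intro h
    exact Module.Flat.trans V B (AdicCompletion I B)
  · intro h
    rw [IsDedekindDomain.flat_iff_torsion_eq_bot, eq_bot_iff]
    rintro b ⟨⟨v, hv⟩, hvb⟩
    have hvb' : v • b = 0 := hvb
    have hv0 : v ≠ 0 := nonZeroDivisors.ne_zero hv
    -- the image of `b` in the completion is zero
    have hof : AdicCompletion.of I B b = 0 := by
      have ht := Module.Flat.torsion_eq_bot (R := V) (M := AdicCompletion I B)
      have hmem : AdicCompletion.of I B b ∈ Submodule.torsion V (AdicCompletion I B) := by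
        refine ⟨⟨v, hv⟩, ?_⟩
        change v • AdicCompletion.of I B b = 0
        apply AdicCompletion.ext
        intro n
        rw [AdicCompletion.val_smul_apply, AdicCompletion.of_apply, AdicCompletion.val_zero_apply,
          ← LinearMap.map_smul_of_tower, hvb', map_zero]
      rw [ht] at hmem
      exact hmem
    -- hence `b` lies in every power of `I`
    have hmem : b ∈ (⨅ i : ℕ, I ^ i • ⊤ : Submodule B B) := by
      rw [Submodule.mem_iInf]
      intro n
      have := congrArg (fun x : AdicCompletion I B => x.val n) hof
      simp only [AdicCompletion.of_apply, AdicCompletion.val_zero_apply] at this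
      exact (Submodule.Quotient.mk_eq_zero _).mp this
    obtain ⟨⟨r, hrI⟩, hr⟩ := (I.mem_iInf_smul_pow_eq_bot_iff b).mp hmem
    -- `r = c * π` and `v = u * π ^ k`
    obtain ⟨π, hπ⟩ := IsDiscreteValuationRing.exists_irreducible V
    have hmax : IsLocalRing.maximalIdeal V = Ideal.span {π} := hπ.maximalIdeal_eq
    have hI' : I = Ideal.span {algebraMap V B π} := by
      rw [hI, hmax, Ideal.map_span, Set.image_singleton]
    rw [hI', Ideal.mem_span_singleton'] at hrI
    obtain ⟨c, hc⟩ := hrI
    obtain ⟨k, u, hu⟩ := IsDiscreteValuationRing.eq_unit_mul_pow_irreducible hv0 hπ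
    -- `π ^ k • b = 0`
    have hπk : algebraMap V B π ^ k * b = 0 := by
      have h1 : (u : V) • (π ^ k • b) = 0 := by rw [smul_smul, ← hu]; exact hvb'
      have h2 : π ^ k • b = 0 := by
        have := congrArg (fun x => ((u⁻¹ : Vˣ) : V) • x) h1
        simpa [smul_smul] using this
      rw [Algebra.smul_def, map_pow] at h2
      exact h2
    -- `b = r ^ k * b`
    have hrk : ∀ m : ℕ, r ^ m * b = b := by
      intro m
      induction m with
      | zero => simp
      | succ m ih => rw [pow_succ, mul_assoc, ← smul_eq_mul r b, hr, ih]
    have : b = 0 := by
      rw [← hrk k, ← hc, mul_pow, mul_assoc, hπk, mul_zero]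
    exact this

end Groth.Agent.S19383
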