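import Groth.Statements.S19384
import Groth.Agent.S15889
import Mathlib
-- import your own Groth.Agent.* helpers here

set_option autoImplicit false
universe u
open Versch

namespace Groth.Agent.S19384
open TensorProduct


section
variable (R : Type u) [CommRing R] (A : Type u) [CommRing A] [HopfAlgebra R A]

lemma powConv_mul (m n : ℕ) : SGA3b.powConv R A (n * m) = (SGA3b.powConv R A m).comp (SGA3b.powConv R A n) := by
  have h : ∀ n : ℕ, (SGA3b.powConv R A m).comp (SGA3b.powConv R A n) =
      ((WithConv.toConv (SGA3b.powConv R A m)) ^ n).ofConv := by
    intro n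
    induction n with
    | zero =>
      rw [pow_zero]
      change (SGA3b.powConv R A m).comp (1 : WithConv (A →ₐ[R] A)).ofConv = (1 : WithConv (A →ₐ[R] A)).ofConv
      rw [AlgHom.convOne_def]
      apply AlgHom.ext
      intro a
      simp only [AlgHom.comp_apply, AlgHom.commutes, Algebra.ofId_apply]
    | succ n ih =>
      rw [pow_succ]
      have h1 : SGA3b.powConv R A (n + 1) = (WithConv.toConv (SGA3b.powConv R A n) * WithConv.toConv (AlgHom.id R A)).ofConv := by
        unfold SGA3b.powConv
        rw [pow_succ]
      rw [h1, AlgHom.comp_convMul_distrib]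
      simp only [AlgHom.comp_id]
      rw [ih, WithConv.toConv_ofConv]
  rw [h]
  unfold SGA3b.powConv
  rw [mul_comm, pow_mul, WithConv.toConv_ofConv]

end


/-- Over a field and for one finite level, let k be a field of characteristic p > 0 and G = Spec A a
finite commutative k-group scheme (A a finite-dimensional commutative cocommutative Hopf algebra)
killed by p^n, i.e. the p^n-th power map of G is the trivial homomorphism, and suppose the
Verschiebung of G is an isomorphism (the ring map v : A → A ⊗_k k^(p) characterised as the
Verschiebung is bijective). Then G is infinitesimal, more precisely the n-th iterate of its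
Frobenius is trivial: a^(p^n) = 0 for every a in the augmentation ideal. (The source states this for
the p^n-torsion levels of a p-divisible group of multiplicative type over any scheme of
characteristic p and reduces to a field fibre by fibre; it also records that the Cartier dual has
unipotent fibres, which is not stated here.) -/
theorem result
    (p : ℕ) [Fact p.Prime] (k : Type u) [Field k] [CharP k p]
    (A : Type u) [CommRing A] [HopfAlgebra k A] [Coalgebra.IsCocomm k A] [Module.Finite k A]
    (n : ℕ)
    (hn : SGA3b.powConv k A (p ^ n) = (Algebra.ofId k A).comp (Bialgebra.counitAlgHom k A))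
    (v : A →+* FrobAlg.BaseChange p k A) (hv : Versch.IsVerschiebung p k A v)
    (hbij : Function.Bijective v)
    (a : A) (ha : Coalgebra.counit (R := k) a = 0) : a ^ (p ^ n) = 0 := by
  have hp : Fact p.Prime := inferInstance
  have : CharP A p := charP_of_injective_algebraMap (Bialgebra.algebraMap_injective (R := k) A) p
  have h89 := Groth.Agent.S15889.result p k A v hv
  have key : ∀ m : ℕ, ∀ a : A, ∃ c : A, a ^ (p ^ m) = SGA3b.powConv k A (p ^ m) c := by
    intro m
    induction m with
    | zero =>
      intro a
      refine ⟨a, ?_⟩
      rw [pow_zero, pow_one]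
      unfold SGA3b.powConv
      rw [pow_one]
      rfl
    | succ m ih =>
      intro a
      obtain ⟨b, hb⟩ := hbij.2 (a ⊗ₜ 1)
      have h1 : a ^ p = SGA3b.powConv k A p b := by
        have h2 := congrArg (fun φ => φ b) h89
        simp only [RingHom.comp_apply] at h2
        rw [hb, Groth.Agent.S15889.relFrob_tmul, map_one, map_one, mul_one] at h2
        exact h2
      obtain ⟨c, hc⟩ := ih b
      refine ⟨c, ?_⟩
      rw [pow_succ, pow_mul', h1, ← map_pow, hc, powConv_mul]
      rfl
  obtain ⟨c, hc⟩ := key n a
  rw [hn] at hc
  have h3 : Bialgebra.counitAlgHom k A (a ^ (p ^ n)) = Coalgebra.counit (R := k) c := by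
    rw [hc]
    simp
  have h4 : Bialgebra.counitAlgHom k A (a ^ (p ^ n)) = 0 := by
    rw [map_pow]
    have : Bialgebra.counitAlgHom k A a = 0 := ha
    rw [this, zero_pow (pow_ne_zero n hp.out.ne_zero)]
  rw [hc, AlgHom.comp_apply, Bialgebra.counitAlgHom_apply, ← h3, h4, map_zero]

end Groth.Agent.S19384
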