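import Groth.Statements.S1939
import Mathlib
import Groth.Agent.S1857
import Groth.Agent.Lib.Helper21.PullbackTrdeg
-- import your own Groth.Agent.* helpers here

set_option autoImplicit false
universe u
open CategoryTheory AlgebraicGeometry
open CategoryTheory.Limits
open Cyc

namespace Groth.Agent.S1939

section PRE
open Groth.Agent.S6479 (MaxFib max_comp dim_iff exists_max_gen)

lemma flat_specMap_field {X S : Scheme.{u}} (a : X ⟶ S) (x : X) :
    Flat (Spec.map (a.residueFieldMap x)) := by
  rw [Flat.SpecMap_iff]
  algebraize [(a.residueFieldMap x).hom]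
  show Module.Flat (S.residueField (a x)) (X.residueField x)
  infer_instance

/-- going down inside fibres for a flat base change. -/
lemma gd_fibre {X S S' : Scheme.{u}} (a : X ⟶ S) (g : S' ⟶ S) [Flat g]
    (x' : ↥(pullback a g)) (t : S')
    (ht : t ⤳ pullback.snd a g x') (hgt : g t = g (pullback.snd a g x')) :
    ∃ x'₁ : ↥(pullback a g), x'₁ ⤳ x' ∧ pullback.snd a g x'₁ = t ∧
      pullback.fst a g x'₁ = pullback.fst a g x' := by
  set x : X := pullback.fst a g x' with hx
  have hcond : a x = g (pullback.snd a g x') := by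
    have := congrArg (fun φ : pullback a g ⟶ S => φ x') (pullback.condition (f := a) (g := g))
    simpa [Scheme.Hom.comp_apply] using this
  -- the pieces
  let φ : Spec (X.residueField x) ⟶ Spec (S.residueField (a x)) := Spec.map (a.residueFieldMap x)
  let ψ : g.fiber (a x) ⟶ Spec (S.residueField (a x)) := g.fiberToSpecResidueField (a x)
  haveI : Flat φ := flat_specMap_field a x
  let π₁ : pullback φ ψ ⟶ Spec (X.residueField x) := pullback.fst φ ψ
  let π₂ : pullback φ ψ ⟶ g.fiber (a x) := pullback.snd φ ψ
  haveI : Flat π₂ := inferInstance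
  have hm : (π₁ ≫ X.fromSpecResidueField x) ≫ a = (π₂ ≫ g.fiberι (a x)) ≫ g := by
    rw [Category.assoc, Category.assoc, Scheme.Hom.fiber_fac,
      ← Scheme.Hom.SpecMap_residueFieldMap_fromSpecResidueField]
    rw [← Category.assoc, ← Category.assoc]
    congr 1
    exact pullback.condition
  let m : pullback φ ψ ⟶ pullback a g :=
    pullback.lift (π₁ ≫ X.fromSpecResidueField x) (π₂ ≫ g.fiberι (a x)) hm
  have hv : ((pullback a g).fromSpecResidueField x' ≫ pullback.snd a g) ≫ g =
      (Spec.map ((pullback.fst a g).residueFieldMap x') ≫ φ) ≫ S.fromSpecResidueField (a x) := by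
    show _ = (Spec.map ((pullback.fst a g).residueFieldMap x') ≫
      Spec.map (a.residueFieldMap x)) ≫ S.fromSpecResidueField (a x)
    simp only [Category.assoc]
    rw [← pullback.condition, Scheme.Hom.SpecMap_residueFieldMap_fromSpecResidueField (f := a) x,
      Scheme.Hom.SpecMap_residueFieldMap_fromSpecResidueField_assoc]
  let v : Spec ((pullback a g).residueField x') ⟶ g.fiber (a x) :=
    pullback.lift ((pullback a g).fromSpecResidueField x' ≫ pullback.snd a g)
      (Spec.map ((pullback.fst a g).residueFieldMap x') ≫ φ) hv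
  have hvψ : v ≫ ψ = Spec.map ((pullback.fst a g).residueFieldMap x') ≫ φ :=
    pullback.lift_snd _ _ _
  have hvι : v ≫ g.fiberι (a x) = (pullback a g).fromSpecResidueField x' ≫ pullback.snd a g :=
    pullback.lift_fst _ _ _
  let u : Spec ((pullback a g).residueField x') ⟶ pullback φ ψ :=
    pullback.lift (Spec.map ((pullback.fst a g).residueFieldMap x')) v hvψ.symm
  have hum : u ≫ m = (pullback a g).fromSpecResidueField x' := by
    apply pullback.hom_ext
    · rw [Category.assoc, pullback.lift_fst, ← Category.assoc, pullback.lift_fst,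
        Scheme.Hom.SpecMap_residueFieldMap_fromSpecResidueField]
    · rw [Category.assoc, pullback.lift_snd, ← Category.assoc, pullback.lift_snd, hvι]
  let w : ↥(pullback φ ψ) := u (IsLocalRing.closedPoint ((pullback a g).residueField x'))
  have hw : m w = x' := by
    have := congrArg (fun φ : Spec ((pullback a g).residueField x') ⟶ pullback a g =>
      φ (IsLocalRing.closedPoint ((pullback a g).residueField x'))) hum
    simpa only [Scheme.Hom.comp_apply, Scheme.fromSpecResidueField_apply] using this
  -- the point of the fibre over t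
  have htr : t ∈ Set.range (g.fiberι (a x)) := by
    rw [Scheme.Hom.range_fiberι]; exact hgt.trans hcond.symm
  obtain ⟨t', ht'⟩ := htr
  have hsnd : ∀ z : ↥(pullback φ ψ), pullback.snd a g (m z) = g.fiberι (a x) (π₂ z) := by
    intro z
    have h : m ≫ pullback.snd a g = π₂ ≫ g.fiberι (a x) := pullback.lift_snd _ _ _
    have := congrArg (fun φ : pullback φ ψ ⟶ S' => φ z) h
    simpa only [Scheme.Hom.comp_apply] using this
  have hfst : ∀ z : ↥(pullback φ ψ), pullback.fst a g (m z) = x := by
    intro z
    have h : m ≫ pullback.fst a g = π₁ ≫ X.fromSpecResidueField x := pullback.lift_fst _ _ _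
    have := congrArg (fun φ : pullback φ ψ ⟶ X => φ z) h
    simpa only [Scheme.Hom.comp_apply, Scheme.fromSpecResidueField_apply] using this
  have hsp : t' ⤳ π₂ w := by
    rw [← (g.fiberι (a x)).isEmbedding.specializes_iff, ht', ← hsnd w, hw]
    exact ht
  obtain ⟨w₁, hw₁, hw₁'⟩ := (Flat.generalizingMap π₂) hsp
  refine ⟨m w₁, ?_, ?_, ?_⟩
  · rw [← hw]; exact hw₁.map m.continuous
  · rw [hsnd w₁, hw₁', ht']
  · rw [hfst w₁]

theorem main (S S' X : Scheme.{u}) (δS : S → ℤ) (δS' : S' → ℤ) (hS : Cyc.IsSetup S δS) (hS' : Cyc.IsSetup S' δS') (g : S' ⟶ S) [Flat g] (c : ℤ) (hc : ∀ s' : S', (∀ y, g y = g s' → y ⤳ s' → y = s') → δS' s' = δS (g s') + c) (a : X ⟶ S) [LocallyOfFiniteType a] [IsIntegral X] (δX : X → ℤ) (hX : Cyc.DeltaCompat a δX δS) (δX' : ↥(pullback a g) → ℤ) (hX' : Cyc.DeltaCompat (pullback.snd a g) δX' δS') (k : ℤ) (hk : δX (genericPoint X) = k) (x' : ↥(pullback a g)) (hx' : ∀ y : ↥(pullback a g), y ⤳ x' → y = x') : δX' x' = k + c := by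
  -- fst x' is the generic point
  have h1 : pullback.fst a g x' = genericPoint X := by
    obtain ⟨y, hy1, hy2⟩ := (Flat.generalizingMap (pullback.fst a g))
      (genericPoint_specializes (pullback.fst a g x'))
    rw [← hy2, hx' y hy1]
  -- snd x' is maximal in its fibre
  have h2 : ∀ t, g t = g (pullback.snd a g x') → t ⤳ pullback.snd a g x' →
      t = pullback.snd a g x' := by
    intro t hgt ht
    obtain ⟨x'₁, hx1, hx2, -⟩ := gd_fibre a g x' t ht hgt
    rw [← hx2, hx' x'₁ hx1]
  have h3 := hc _ h2
  have h4 := Groth.Agent.Lib.Helper21.PullbackTrdeg.trdeg_snd_eq_of_maximal a g x'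
    (fun t' ht' _ _ => hx' t' ht')
  obtain ⟨n', hn', hδ'⟩ := hX' x'
  obtain ⟨n, hn, hδ⟩ := hX (pullback.fst a g x')
  have hnn : n' = n := by
    have : (n' : Cardinal.{u}) = n := by rw [← hn', ← hn]; exact h4
    exact_mod_cast this
  have hcond : a (pullback.fst a g x') = g (pullback.snd a g x') := by
    have := congrArg (fun φ : pullback a g ⟶ S => φ x') (pullback.condition (f := a) (g := g))
    simpa [Scheme.Hom.comp_apply] using this
  rw [hδ', h3, ← hcond, hnn]
  rw [h1] at hδ ⊢
  rw [← hk, hδ]; ring

end PRE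

/-- Let (S, δS) and (S', δS') be two pairs satisfying Cyc.IsSetup, g : S' → S flat with δS'(s') = δS(g
s') + c for every s' generic in an irreducible component of its fibre g⁻¹(g s'), a : X → S locally
of finite type with X integral of δ-dimension k (δX induced from δS), and X' = X ×_S S' with δX'
induced from δS'. Then every generic point x' of an irreducible component of X' has δX'(x') = k + c.
A pair (X, δ) with Cyc.IsSetup plays the role of a scheme locally of finite type over a fixed base
with a dimension function (X locally Noetherian with universally catenary local rings, δ a dimension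
function), and Cyc.DeltaCompat records that the dimension function upstairs is the induced one. -/
theorem result (S S' X : Scheme.{u}) (δS : S → ℤ) (δS' : S' → ℤ) (hS : Cyc.IsSetup S δS) (hS' : Cyc.IsSetup S' δS') (g : S' ⟶ S) [Flat g] (c : ℤ) (hc : ∀ s' : S', (∀ y, g y = g s' → y ⤳ s' → y = s') → δS' s' = δS (g s') + c) (a : X ⟶ S) [LocallyOfFiniteType a] [IsIntegral X] (δX : X → ℤ) (hX : Cyc.DeltaCompat a δX δS) (δX' : ↥(pullback a g) → ℤ) (hX' : Cyc.DeltaCompat (pullback.snd a g) δX' δS') (k : ℤ) (hk : δX (genericPoint X) = k) (x' : ↥(pullback a g)) (hx' : ∀ y : ↥(pullback a g), y ⤳ x' → y = x') : δX' x' = k + c := by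
  exact main S S' X δS δS' hS hS' g c hc a δX hX δX' hX' k hk x' hx'

end Groth.Agent.S1939
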