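import Groth.Statements.S19390
import Mathlib
-- import your own Groth.Agent.* helpers here

set_option autoImplicit false
universe u
open GIT

namespace Groth.Agent.S19390

/-- position functions -/
def PI (e k : ℕ) : ℕ := if k = 0 then 0 else if k = 1 then e else if k = 2 then 2 * e else (k - 3) / 2 + 1

def PJ (e k : ℕ) : ℕ :=
  if k = 0 then e else if k = 1 then 2 * e else if k = 2 then 0 else (k - 3) / 2 + 1 + e

theorem PI_lt (e k : ℕ) (he : 1 ≤ e) (hk : k < 2 * e + 1) : PI e k < 2 * e + 1 := by
  unfold PI
  split_ifs <;> omega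

theorem PJ_lt (e k : ℕ) (he : 1 ≤ e) (hk : k < 2 * e + 1) : PJ e k < 2 * e + 1 := by
  unfold PJ
  split_ifs <;> omega

theorem PI_add_le (e k : ℕ) (he : 1 ≤ e) (hk : k < 2 * e + 1) :
    PI e k + e ≤ PJ e k ∨ PJ e k + e ≤ PI e k := by
  unfold PI PJ
  split_ifs <;> omega


/-- Let e ≥ 1, n = 2e + 1, and let x_1, …, x_n be points such that no point occurs more than e times
among them (the stability condition for n ordered points on a line, n odd). Then there are index
sequences i_1, …, i_n and j_1, …, j_n in which every index between 1 and n occurs exactly twice in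
total, such that x_{i_k} ≠ x_{j_k} for every k and (i_1, i_2, i_3) = (j_3, j_1, j_2). Indices are
written 0, …, n − 1 here. -/
theorem result {α : Type u} [DecidableEq α] (e : ℕ) (he : 1 ≤ e)
    (x : Fin (2 * e + 1) → α)
    (hx : ∀ a : α, (Finset.univ.filter fun k => x k = a).card ≤ e) :
    ∃ i j : Fin (2 * e + 1) → Fin (2 * e + 1),
      (∀ m : Fin (2 * e + 1),
        (Finset.univ.filter fun k => i k = m).card + (Finset.univ.filter fun k => j k = m).card = 2) ∧
      (∀ k, x (i k) ≠ x (j k)) ∧
      i 0 = j 2 ∧ i 1 = j 0 ∧ i 2 = j 1 := by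
  classical
  obtain ⟨f, hf⟩ := Set.countable_iff_exists_injOn.1 (Set.finite_range x).countable
  have hy : ∀ k l, f (x k) = f (x l) ↔ x k = x l := fun k l =>
    ⟨fun h => hf ⟨k, rfl⟩ ⟨l, rfl⟩ h, fun h => by rw [h]⟩
  let y : Fin (2 * e + 1) → ℕ := fun k => f (x k)
  let σ := Tuple.sort y
  have hmono : Monotone (y ∘ σ) := Tuple.monotone_sort y
  have hfar : ∀ p q : Fin (2 * e + 1), p.val + e ≤ q.val → x (σ p) ≠ x (σ q) := by
    intro p q hpq heq
    have hsub : (Finset.Icc p q).image σ ⊆ Finset.univ.filter fun k => x k = x (σ p) := by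
      intro m hm
      obtain ⟨r, hr, rfl⟩ := Finset.mem_image.1 hm
      rw [Finset.mem_Icc] at hr
      rw [Finset.mem_filter]
      refine ⟨Finset.mem_univ _, ?_⟩
      rw [← hy]
      have h1 : y (σ p) ≤ y (σ r) := hmono hr.1
      have h2 : y (σ r) ≤ y (σ q) := hmono hr.2
      have h3 : y (σ q) = y (σ p) := ((hy _ _).2 heq).symm
      change y (σ r) = y (σ p)
      omega
    have hcard := Finset.card_le_card hsub
    rw [Finset.card_image_of_injective _ σ.injective, Fin.card_Icc] at hcard
    have := hx (x (σ p))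
    omega
  let i : Fin (2 * e + 1) → Fin (2 * e + 1) := fun k => σ ⟨PI e k.val, PI_lt e k.val he k.2⟩
  let j : Fin (2 * e + 1) → Fin (2 * e + 1) := fun k => σ ⟨PJ e k.val, PJ_lt e k.val he k.2⟩
  have hi : ∀ k, i k = σ ⟨PI e k.val, PI_lt e k.val he k.2⟩ := fun _ => rfl
  have hj : ∀ k, j k = σ ⟨PJ e k.val, PJ_lt e k.val he k.2⟩ := fun _ => rfl
  have h0 : ((0 : Fin (2 * e + 1)) : ℕ) = 0 := rfl
  have h1 : ((1 : Fin (2 * e + 1)) : ℕ) = 1 := by
    change (1 % (2 * e + 1)) = 1
    exact Nat.mod_eq_of_lt (by omega)
  have h2 : ((2 : Fin (2 * e + 1)) : ℕ) = 2 := by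
    change (2 % (2 * e + 1)) = 2
    exact Nat.mod_eq_of_lt (by omega)
  refine ⟨i, j, ?_, ?_, ?_, ?_, ?_⟩
  · -- counting
    have hsumi : ∑ m : Fin (2 * e + 1), (Finset.univ.filter fun k => i k = m).card = 2 * e + 1 := by
      have := Finset.card_eq_sum_card_fiberwise (f := i) (s := Finset.univ) (t := Finset.univ)
        (fun _ _ => Finset.mem_univ _)
      rw [← this, Finset.card_univ, Fintype.card_fin]
    have hsumj : ∑ m : Fin (2 * e + 1), (Finset.univ.filter fun k => j k = m).card = 2 * e + 1 := by
      have := Finset.card_eq_sum_card_fiberwise (f := j) (s := Finset.univ) (t := Finset.univ)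
        (fun _ _ => Finset.mem_univ _)
      rw [← this, Finset.card_univ, Fintype.card_fin]
    have hge : ∀ m ∈ (Finset.univ : Finset (Fin (2 * e + 1))), 2 ≤
        (Finset.univ.filter fun k => i k = m).card + (Finset.univ.filter fun k => j k = m).card := by
      intro m _
      obtain ⟨p, rfl⟩ := σ.surjective m
      have hp := p.2
      have memi : ∀ k : Fin (2 * e + 1), PI e k.val = p.val →
          k ∈ Finset.univ.filter fun k => i k = σ p := fun k hk => by
        rw [Finset.mem_filter]
        exact ⟨Finset.mem_univ _, by rw [hi]; congr 1; exact Fin.ext hk⟩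
      have memj : ∀ k : Fin (2 * e + 1), PJ e k.val = p.val →
          k ∈ Finset.univ.filter fun k => j k = σ p := fun k hk => by
        rw [Finset.mem_filter]
        exact ⟨Finset.mem_univ _, by rw [hj]; congr 1; exact Fin.ext hk⟩
      by_cases c0 : p.val = 0
      · have a1 := Finset.card_pos.2 ⟨_, memi ⟨0, by omega⟩ (by simp [PI, c0])⟩
        have a2 := Finset.card_pos.2 ⟨_, memj ⟨2, by omega⟩ (by simp [PJ, c0])⟩
        omega
      by_cases c1 : p.val = e
      · have a1 := Finset.card_pos.2 ⟨_, memi ⟨1, by omega⟩ (by simp [PI, c1])⟩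
        have a2 := Finset.card_pos.2 ⟨_, memj ⟨0, by omega⟩ (by simp [PJ, c1])⟩
        omega
      by_cases c2 : p.val = 2 * e
      · have a1 := Finset.card_pos.2 ⟨_, memi ⟨2, by omega⟩ (by simp [PI, c2])⟩
        have a2 := Finset.card_pos.2 ⟨_, memj ⟨1, by omega⟩ (by simp [PJ, c2])⟩
        omega
      by_cases c3 : p.val < e
      · have a1 : 1 < (Finset.univ.filter fun k => i k = σ p).card := by
          refine Finset.one_lt_card.2 ⟨⟨2 * p.val + 1, by omega⟩,
            memi _ (show PI e (2 * p.val + 1) = p.val from ?_),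
            ⟨2 * p.val + 2, by omega⟩, memi _ (show PI e (2 * p.val + 2) = p.val from ?_), ?_⟩
          · unfold PI
            rw [if_neg (by omega), if_neg (by omega), if_neg (by omega)]
            omega
          · unfold PI
            rw [if_neg (by omega), if_neg (by omega), if_neg (by omega)]
            omega
          · intro h
            have := congrArg Fin.val h
            simp at this
        omega
      · have a1 : 1 < (Finset.univ.filter fun k => j k = σ p).card := by
          refine Finset.one_lt_card.2 ⟨⟨2 * (p.val - e) + 1, by omega⟩,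
            memj _ (show PJ e (2 * (p.val - e) + 1) = p.val from ?_),
            ⟨2 * (p.val - e) + 2, by omega⟩,
            memj _ (show PJ e (2 * (p.val - e) + 2) = p.val from ?_), ?_⟩
          · unfold PJ
            rw [if_neg (by omega), if_neg (by omega), if_neg (by omega)]
            omega
          · unfold PJ
            rw [if_neg (by omega), if_neg (by omega), if_neg (by omega)]
            omega
          · intro h
            have := congrArg Fin.val h
            simp at this
        omega
    have hsum : ∑ m : Fin (2 * e + 1), 2 = ∑ m : Fin (2 * e + 1),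
        ((Finset.univ.filter fun k => i k = m).card + (Finset.univ.filter fun k => j k = m).card) := by
      rw [Finset.sum_add_distrib, hsumi, hsumj]
      simp
      ring
    intro m
    exact ((Finset.sum_eq_sum_iff_of_le hge).1 hsum m (Finset.mem_univ _)).symm
  · intro k
    rcases PI_add_le e k.val he k.2 with h | h
    · exact hfar _ _ h
    · exact (hfar _ _ h).symm
  · rw [hi, hj]
    congr 1
    refine Fin.ext ?_
    change PI e ((0 : Fin (2 * e + 1)) : ℕ) = PJ e ((2 : Fin (2 * e + 1)) : ℕ)
    rw [h0, h2]
    unfold PI PJ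
    simp
  · rw [hi, hj]
    congr 1
    refine Fin.ext ?_
    change PI e ((1 : Fin (2 * e + 1)) : ℕ) = PJ e ((0 : Fin (2 * e + 1)) : ℕ)
    rw [h0, h1]
    unfold PI PJ
    simp
  · rw [hi, hj]
    congr 1
    refine Fin.ext ?_
    change PI e ((2 : Fin (2 * e + 1)) : ℕ) = PJ e ((1 : Fin (2 * e + 1)) : ℕ)
    rw [h1, h2]
    unfold PI PJ
    simp

end Groth.Agent.S19390
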