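import Groth.Statements.S19392
import Groth.Agent.Lib.Helper97.Quartic
-- import your own Groth.Agent.* helpers here

set_option autoImplicit false
universe u
open InvQ

namespace Groth.Agent.S19392

theorem comb (z : Fin 4 → Fin 4 → Prop) (i j l : Fin 4) (hij : i ≠ j) (hjl : j ≠ l) (hil : i ≠ l)
    (h1 : z i j) (h1' : z j i) (h2 : z j l) (h2' : z l j) (h3 : z i l) (h3' : z l i) :
    (z 0 1 ∨ z 2 3) ∧ (z 0 2 ∨ z 1 3) := by
  fin_cases i <;> fin_cases j <;> fin_cases l <;> simp_all


/-- Over a field of characteristic different from 2 and 3, a nonzero binary quartic f has P(f) = Q(f) =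
0 for the two basic invariants P, Q if and only if f has a triple zero. Stated for f = ∏_i (μ_i X₀ −
λ_i X₁) given by four root points (λ_i, μ_i) ≠ (0, 0) (over an algebraically closed field every
nonzero quartic form is of this shape), with the integral invariants I = 6P and J = 72Q of the
coefficients of f; a triple zero means that three of the four root points are pairwise proportional. -/
theorem result (k : Type u) [Field k]
    (h2 : (2 : k) ≠ 0) (h3 : (3 : k) ≠ 0) (la mu : Fin 4 → k) (hne : ∀ i, la i ≠ 0 ∨ mu i ≠ 0) :
    (W4c6intromoduli.invI (W4c6intromoduli.coef la mu) = 0 ∧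
        W4c6intromoduli.invJ (W4c6intromoduli.coef la mu) = 0) ↔
      ∃ i j l : Fin 4, i ≠ j ∧ j ≠ l ∧ i ≠ l ∧
        la i * mu j = la j * mu i ∧ la j * mu l = la l * mu j := by
  rw [Groth.Agent.Lib.Helper97.invI_eq, Groth.Agent.Lib.Helper97.invJ_eq]
  set A := Groth.Agent.Lib.Helper97.qA la mu with hA
  set B := Groth.Agent.Lib.Helper97.qB la mu with hB
  constructor
  · rintro ⟨hI, hJ⟩
    -- first `A = 0` and `B = 0`
    have hAB : A = 0 ∧ B = 0 := by
      rw [neg_eq_zero] at hJ
      rcases mul_eq_zero.mp hJ with hJ | hJ
      · rcases mul_eq_zero.mp hJ with hJ | hJ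
        · have e : A = B := sub_eq_zero.mp hJ
          have : 3 * B ^ 2 = 0 := by rw [← hI, e]; ring
          have hB0 : B = 0 := by
            rcases mul_eq_zero.mp this with h | h
            · exact absurd h h3
            · exact pow_eq_zero_iff (two_ne_zero) |>.mp h
          exact ⟨e.trans hB0, hB0⟩
        · have e : A = -2 * B := by linear_combination hJ
          have : 3 * B ^ 2 = 0 := by rw [← hI, e]; ring
          have hB0 : B = 0 := by
            rcases mul_eq_zero.mp this with h | h
            · exact absurd h h3
            · exact pow_eq_zero_iff (two_ne_zero) |>.mp h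
          exact ⟨by rw [e, hB0, mul_zero], hB0⟩
      · have e : B = -2 * A := by linear_combination hJ
        have : 3 * A ^ 2 = 0 := by rw [← hI, e]; ring
        have hA0 : A = 0 := by
          rcases mul_eq_zero.mp this with h | h
          · exact absurd h h3
          · exact pow_eq_zero_iff (two_ne_zero) |>.mp h
        exact ⟨hA0, by rw [e, hA0, mul_zero]⟩
    obtain ⟨hA0, hB0⟩ := hAB
    rw [hA] at hA0
    rw [hB] at hB0
    simp only [Groth.Agent.Lib.Helper97.qA, Groth.Agent.Lib.Helper97.qB,
      Groth.Agent.Lib.Helper97.dd, neg_eq_zero] at hA0 hB0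
    rcases mul_eq_zero.mp hA0 with a | a <;> rcases mul_eq_zero.mp hB0 with b | b
    · exact ⟨1, 0, 2, by decide, by decide, by decide, by linear_combination a,
        by linear_combination -b⟩
    · exact ⟨0, 1, 3, by decide, by decide, by decide, by linear_combination -a,
        by linear_combination -b⟩
    · exact ⟨0, 2, 3, by decide, by decide, by decide, by linear_combination -b,
        by linear_combination -a⟩
    · exact ⟨1, 3, 2, by decide, by decide, by decide, by linear_combination -b,
        by linear_combination a⟩
  · rintro ⟨i, j, l, hij, hjl, hil, h1, h2⟩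
    have h3 : la i * mu l = la l * mu i := by
      rcases hne j with hj | hj
      · apply mul_left_cancel₀ hj
        linear_combination la i * h2 + la l * h1
      · apply mul_left_cancel₀ hj
        linear_combination mu l * h1 + mu i * h2
    obtain ⟨c1, c2⟩ := comb (fun a b => la a * mu b = la b * mu a) i j l hij hjl hil
      h1 h1.symm h2 h2.symm h3 h3.symm
    have hA0 : A = 0 := by
      rw [hA]
      simp only [Groth.Agent.Lib.Helper97.qA, Groth.Agent.Lib.Helper97.dd]
      rcases c1 with c | c
      · have : la 1 * mu 0 - la 0 * mu 1 = 0 := by linear_combination -c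
        rw [this, zero_mul]
      · have : la 3 * mu 2 - la 2 * mu 3 = 0 := by linear_combination -c
        rw [this, mul_zero]
    have hB0 : B = 0 := by
      rw [hB]
      simp only [Groth.Agent.Lib.Helper97.qB, Groth.Agent.Lib.Helper97.dd]
      rcases c2 with c | c
      · have : la 2 * mu 0 - la 0 * mu 2 = 0 := by linear_combination -c
        rw [this, zero_mul, neg_zero]
      · have : la 3 * mu 1 - la 1 * mu 3 = 0 := by linear_combination -c
        rw [this, mul_zero, neg_zero]
    rw [hA0, hB0]
    constructor <;> ring

end Groth.Agent.S19392
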