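import Groth.Statements.S19393
import Mathlib
-- import your own Groth.Agent.* helpers here

set_option autoImplicit false
universe u
open InvQ

namespace Groth.Agent.S19393

open W4c6intromoduli Polynomial in
theorem rootPoly_eq {R : Type u} [CommRing R] (la mu : Fin 4 → R) :
    rootPoly la mu =
      C (mu 0 * mu 1 * mu 2 * mu 3) +
      C (-(la 0 * mu 1 * mu 2 * mu 3 + mu 0 * la 1 * mu 2 * mu 3 + mu 0 * mu 1 * la 2 * mu 3 +
          mu 0 * mu 1 * mu 2 * la 3)) * X +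
      C (la 0 * la 1 * mu 2 * mu 3 + la 0 * mu 1 * la 2 * mu 3 + la 0 * mu 1 * mu 2 * la 3 +
          mu 0 * la 1 * la 2 * mu 3 + mu 0 * la 1 * mu 2 * la 3 + mu 0 * mu 1 * la 2 * la 3) * X ^ 2 +
      C (-(la 0 * la 1 * la 2 * mu 3 + la 0 * la 1 * mu 2 * la 3 + la 0 * mu 1 * la 2 * la 3 +
          mu 0 * la 1 * la 2 * la 3)) * X ^ 3 +
      C (la 0 * la 1 * la 2 * la 3) * X ^ 4 := by
  unfold rootPoly
  rw [Fin.prod_univ_four]
  simp only [map_add, map_mul, map_neg]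
  ring

open W4c6intromoduli Polynomial in
theorem coeff_quartic {R : Type u} [CommRing R] (a0 a1 a2 a3 a4 : R) :
    (C a0 + C a1 * X + C a2 * X ^ 2 + C a3 * X ^ 3 + C a4 * X ^ 4 : R[X]).coeff 0 = a0 ∧
    (C a0 + C a1 * X + C a2 * X ^ 2 + C a3 * X ^ 3 + C a4 * X ^ 4 : R[X]).coeff 1 = a1 ∧
    (C a0 + C a1 * X + C a2 * X ^ 2 + C a3 * X ^ 3 + C a4 * X ^ 4 : R[X]).coeff 2 = a2 ∧
    (C a0 + C a1 * X + C a2 * X ^ 2 + C a3 * X ^ 3 + C a4 * X ^ 4 : R[X]).coeff 3 = a3 ∧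
    (C a0 + C a1 * X + C a2 * X ^ 2 + C a3 * X ^ 3 + C a4 * X ^ 4 : R[X]).coeff 4 = a4 := by
  refine ⟨?_, ?_, ?_, ?_, ?_⟩ <;>
    simp [coeff_X, coeff_C, coeff_X_pow]

section
open W4c6intromoduli
variable {R : Type u} [CommRing R]

/-- `d i j = la j * mu i - la i * mu j`. -/
def dd (la mu : Fin 4 → R) (i j : Fin 4) : R := la j * mu i - la i * mu j

/-- `A = d01 d23`. -/
def qA (la mu : Fin 4 → R) : R := dd la mu 0 1 * dd la mu 2 3

/-- `B = - d02 d13`. -/
def qB (la mu : Fin 4 → R) : R := -(dd la mu 0 2 * dd la mu 1 3)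

theorem coef_zero (la mu : Fin 4 → R) : coef la mu 0 = mu 0 * mu 1 * mu 2 * mu 3 := by
  unfold coef
  rw [rootPoly_eq]
  exact (coeff_quartic _ _ _ _ _).1

theorem coef_one (la mu : Fin 4 → R) : coef la mu 1 =
    -(la 0 * mu 1 * mu 2 * mu 3 + mu 0 * la 1 * mu 2 * mu 3 + mu 0 * mu 1 * la 2 * mu 3 +
          mu 0 * mu 1 * mu 2 * la 3) := by
  unfold coef
  rw [rootPoly_eq]
  exact (coeff_quartic _ _ _ _ _).2.1

theorem coef_two (la mu : Fin 4 → R) : coef la mu 2 =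
    la 0 * la 1 * mu 2 * mu 3 + la 0 * mu 1 * la 2 * mu 3 + la 0 * mu 1 * mu 2 * la 3 +
          mu 0 * la 1 * la 2 * mu 3 + mu 0 * la 1 * mu 2 * la 3 + mu 0 * mu 1 * la 2 * la 3 := by
  unfold coef
  rw [rootPoly_eq]
  exact (coeff_quartic _ _ _ _ _).2.2.1

theorem coef_three (la mu : Fin 4 → R) : coef la mu 3 =
    -(la 0 * la 1 * la 2 * mu 3 + la 0 * la 1 * mu 2 * la 3 + la 0 * mu 1 * la 2 * la 3 +
          mu 0 * la 1 * la 2 * la 3) := by
  unfold coef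
  rw [rootPoly_eq]
  exact (coeff_quartic _ _ _ _ _).2.2.2.1

theorem coef_four (la mu : Fin 4 → R) : coef la mu 4 = la 0 * la 1 * la 2 * la 3 := by
  unfold coef
  rw [rootPoly_eq]
  exact (coeff_quartic _ _ _ _ _).2.2.2.2

theorem invI_eq (la mu : Fin 4 → R) :
    invI (coef la mu) = qA la mu ^ 2 + qA la mu * qB la mu + qB la mu ^ 2 := by
  unfold invI
  rw [coef_zero, coef_one, coef_two, coef_three, coef_four]
  simp only [qA, qB, dd]
  ring

theorem invJ_eq (la mu : Fin 4 → R) :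
    invJ (coef la mu) =
      -((qA la mu - qB la mu) * (qA la mu + 2 * qB la mu) * (2 * qA la mu + qB la mu)) := by
  unfold invJ
  rw [coef_zero, coef_one, coef_two, coef_three, coef_four]
  simp only [qA, qB, dd]
  ring

end

section
open W4c6intromoduli MvPolynomial
variable {k : Type u} [Field k]

/-- the linear form `m X0 - l X1`. -/
noncomputable def lin (l m : k) : MvPolynomial (Fin 2) k := C m * X 0 - C l * X 1

theorem binForm_eq (la mu : Fin 4 → k) :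
    binForm la mu = lin (la 0) (mu 0) * lin (la 1) (mu 1) * lin (la 2) (mu 2) * lin (la 3) (mu 3) := by
  unfold binForm lin
  rw [Fin.prod_univ_four]

theorem lin_smul (c l m : k) : lin (c * l) (c * m) = C c * lin l m := by
  unfold lin
  rw [map_mul, map_mul]
  ring

theorem subst_lin (n00 n01 n10 n11 l m : k) :
    subst !![n11, -n01; -n10, n00] (lin l m) = lin (n00 * l + n01 * m) (n10 * l + n11 * m) := by
  unfold subst lin
  simp only [map_sub, map_mul, aeval_C, aeval_X, Fin.sum_univ_two, algebraMap_eq, map_add, map_neg,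
    Matrix.of_apply, Matrix.cons_val', Matrix.cons_val_zero, Matrix.cons_val_one,
    Matrix.cons_val_fin_one]
  ring

theorem core (l0 l1 l2 l3 m0 m1 m2 m3 l0' l1' l2' l3' m0' m1' m2' m3' : k)
    (h01 : l1 * m0 - l0 * m1 ≠ 0) (h03 : l3 * m0 - l0 * m3 ≠ 0)
    (h13 : l3 * m1 - l1 * m3 ≠ 0) (h23 : l3 * m2 - l2 * m3 ≠ 0)
    (h01' : l1' * m0' - l0' * m1' ≠ 0) (h03' : l3' * m0' - l0' * m3' ≠ 0)
    (h13' : l3' * m1' - l1' * m3' ≠ 0) (h23' : l3' * m2' - l2' * m3' ≠ 0)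
    (hAB : ((l1' * m0' - l0' * m1') * (l3' * m2' - l2' * m3')) *
        (-((l2 * m0 - l0 * m2) * (l3 * m1 - l1 * m3))) =
      (-((l2' * m0' - l0' * m2') * (l3' * m1' - l1' * m3'))) *
        ((l1 * m0 - l0 * m1) * (l3 * m2 - l2 * m3))) :
    ∃ (M : Matrix (Fin 2) (Fin 2) k) (c : k), IsUnit M.det ∧ c ≠ 0 ∧
      lin l0' m0' * lin l1' m1' * lin l2' m2' * lin l3' m3' =
        C c * subst M (lin l0 m0 * lin l1 m1 * lin l2 m2 * lin l3 m3) := by
  obtain ⟨d01, hd01⟩ : ∃ x, x = l1 * m0 - l0 * m1 := ⟨_, rfl⟩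
  obtain ⟨d03, hd03⟩ : ∃ x, x = l3 * m0 - l0 * m3 := ⟨_, rfl⟩
  obtain ⟨d13, hd13⟩ : ∃ x, x = l3 * m1 - l1 * m3 := ⟨_, rfl⟩
  obtain ⟨d23, hd23⟩ : ∃ x, x = l3 * m2 - l2 * m3 := ⟨_, rfl⟩
  obtain ⟨d01', hd01'⟩ : ∃ x, x = l1' * m0' - l0' * m1' := ⟨_, rfl⟩
  obtain ⟨d03', hd03'⟩ : ∃ x, x = l3' * m0' - l0' * m3' := ⟨_, rfl⟩
  obtain ⟨d13', hd13'⟩ : ∃ x, x = l3' * m1' - l1' * m3' := ⟨_, rfl⟩
  obtain ⟨d23', hd23'⟩ : ∃ x, x = l3' * m2' - l2' * m3' := ⟨_, rfl⟩
  rw [← hd01] at h01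
  rw [← hd03] at h03
  rw [← hd13] at h13
  rw [← hd23] at h23
  rw [← hd01'] at h01'
  rw [← hd03'] at h03'
  rw [← hd13'] at h13'
  rw [← hd23'] at h23'
  obtain ⟨al, hal⟩ : ∃ x, x = d13' * d01 := ⟨_, rfl⟩
  obtain ⟨be, hbe⟩ : ∃ x, x = d01' * d13 := ⟨_, rfl⟩
  have hal0 : al ≠ 0 := by rw [hal]; exact mul_ne_zero h13' h01
  have hbe0 : be ≠ 0 := by rw [hbe]; exact mul_ne_zero h01' h13
  obtain ⟨n00, hn00⟩ : ∃ x, x = -(al * m3 * l0') + be * m0 * l3' := ⟨_, rfl⟩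
  obtain ⟨n01, hn01⟩ : ∃ x, x = al * l3 * l0' - be * l0 * l3' := ⟨_, rfl⟩
  obtain ⟨n10, hn10⟩ : ∃ x, x = -(al * m3 * m0') + be * m0 * m3' := ⟨_, rfl⟩
  obtain ⟨n11, hn11⟩ : ∃ x, x = al * l3 * m0' - be * l0 * m3' := ⟨_, rfl⟩
  obtain ⟨c0, hc0⟩ : ∃ x, x = al * d03 := ⟨_, rfl⟩
  obtain ⟨c1, hc1⟩ : ∃ x, x = d13 * d01 * d03' := ⟨_, rfl⟩
  obtain ⟨c2, hc2⟩ : ∃ x, x = d13' * d01 * d23 * d03' / d23' := ⟨_, rfl⟩
  obtain ⟨c3, hc3⟩ : ∃ x, x = be * d03 := ⟨_, rfl⟩
  have hc00 : c0 ≠ 0 := by rw [hc0]; exact mul_ne_zero hal0 h03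
  have hc10 : c1 ≠ 0 := by rw [hc1]; exact mul_ne_zero (mul_ne_zero h13 h01) h03'
  have hc20 : c2 ≠ 0 := by
    rw [hc2]
    exact div_ne_zero (mul_ne_zero (mul_ne_zero (mul_ne_zero h13' h01) h23) h03') h23'
  have hc30 : c3 ≠ 0 := by rw [hc3]; exact mul_ne_zero hbe0 h03
  have hcc : c0 * c1 * c2 * c3 ≠ 0 :=
    mul_ne_zero (mul_ne_zero (mul_ne_zero hc00 hc10) hc20) hc30
  refine ⟨!![n11, -n01; -n10, n00], (c0 * c1 * c2 * c3)⁻¹, ?_, inv_ne_zero hcc, ?_⟩
  · rw [Matrix.det_fin_two_of]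
    have : n11 * n00 - -n01 * -n10 = al * be * d03 * d03' := by
      rw [hn00, hn01, hn10, hn11, hd03, hd03']
      ring
    rw [this]
    exact isUnit_iff_ne_zero.mpr (mul_ne_zero (mul_ne_zero (mul_ne_zero hal0 hbe0) h03) h03')
  · rw [map_mul, map_mul, map_mul, subst_lin, subst_lin, subst_lin, subst_lin]
    have e0 : lin (n00 * l0 + n01 * m0) (n10 * l0 + n11 * m0) = C c0 * lin l0' m0' := by
      rw [← lin_smul]
      congr 1
      · rw [hn00, hn01, hc0, hd03]; ring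
      · rw [hn10, hn11, hc0, hd03]; ring
    have e3 : lin (n00 * l3 + n01 * m3) (n10 * l3 + n11 * m3) = C c3 * lin l3' m3' := by
      rw [← lin_smul]
      congr 1
      · rw [hn00, hn01, hc3, hd03]; ring
      · rw [hn10, hn11, hc3, hd03]; ring
    have e1 : lin (n00 * l1 + n01 * m1) (n10 * l1 + n11 * m1) = C c1 * lin l1' m1' := by
      rw [← lin_smul]
      congr 1
      · rw [hn00, hn01, hc1, hal, hbe, hd01, hd13, hd03', hd13', hd01']; ring
      · rw [hn10, hn11, hc1, hal, hbe, hd01, hd13, hd03', hd13', hd01']; ring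
    have e2 : lin (n00 * l2 + n01 * m2) (n10 * l2 + n11 * m2) = C c2 * lin l2' m2' := by
      rw [← lin_smul]
      congr 1
      · rw [hc2, div_mul_eq_mul_div, eq_div_iff h23']
        rw [hn00, hn01, hal, hbe, hd01, hd13, hd03', hd13', hd01', hd23, hd23']
        linear_combination (-l3') * hAB
      · rw [hc2, div_mul_eq_mul_div, eq_div_iff h23']
        rw [hn10, hn11, hal, hbe, hd01, hd13, hd03', hd13', hd01', hd23, hd23']
        linear_combination (-m3') * hAB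
    rw [e0, e1, e2, e3]
    have hone : (C ((c0 * c1 * c2 * c3)⁻¹) : MvPolynomial (Fin 2) k) * (C c0 * C c1 * C c2 * C c3) = 1 := by
      rw [← map_mul, ← map_mul, ← map_mul, ← map_mul, inv_mul_cancel₀ hcc, map_one]
    linear_combination (-(lin l0' m0' * lin l1' m1' * lin l2' m2' * lin l3' m3')) * hone


theorem case1 (la mu la' mu' : Fin 4 → k)
    (hdd : ∀ i j : Fin 4, i ≠ j → la j * mu i - la i * mu j ≠ 0)
    (hdd' : ∀ i j : Fin 4, i ≠ j → la' j * mu' i - la' i * mu' j ≠ 0)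
    (hcase : qA la' mu' * qB la mu - qB la' mu' * qA la mu = 0) :
    ∃ (M : Matrix (Fin 2) (Fin 2) k) (c : k), IsUnit M.det ∧ c ≠ 0 ∧
      lin (la' 0) (mu' 0) * lin (la' 1) (mu' 1) * lin (la' 2) (mu' 2) * lin (la' 3) (mu' 3) =
        C c * subst M (lin (la 0) (mu 0) * lin (la 1) (mu 1) * lin (la 2) (mu 2) * lin (la 3) (mu 3)) := by
  simp only [qA, qB, dd] at hcase
  obtain ⟨M, c, hM, hc, hEq⟩ := core (la 0) (la 1) (la 2) (la 3) (mu 0) (mu 1) (mu 2) (mu 3)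
      (la' 0) (la' 1) (la' 2) (la' 3) (mu' 0) (mu' 1) (mu' 2) (mu' 3)
      (hdd _ _ (by decide)) (hdd _ _ (by decide)) (hdd _ _ (by decide)) (hdd _ _ (by decide))
      (hdd' _ _ (by decide)) (hdd' _ _ (by decide)) (hdd' _ _ (by decide)) (hdd' _ _ (by decide))
      (by first | linear_combination hcase | linear_combination (-1 : k) * hcase)
  refine ⟨M, c, hM, hc, ?_⟩
  rw [hEq]

theorem case2 (la mu la' mu' : Fin 4 → k)
    (hdd : ∀ i j : Fin 4, i ≠ j → la j * mu i - la i * mu j ≠ 0)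
    (hdd' : ∀ i j : Fin 4, i ≠ j → la' j * mu' i - la' i * mu' j ≠ 0)
    (hcase : qA la' mu' * qA la mu - qB la' mu' * qB la mu = 0) :
    ∃ (M : Matrix (Fin 2) (Fin 2) k) (c : k), IsUnit M.det ∧ c ≠ 0 ∧
      lin (la' 0) (mu' 0) * lin (la' 1) (mu' 1) * lin (la' 2) (mu' 2) * lin (la' 3) (mu' 3) =
        C c * subst M (lin (la 0) (mu 0) * lin (la 1) (mu 1) * lin (la 2) (mu 2) * lin (la 3) (mu 3)) := by
  simp only [qA, qB, dd] at hcase
  obtain ⟨M, c, hM, hc, hEq⟩ := core (la 0) (la 2) (la 1) (la 3) (mu 0) (mu 2) (mu 1) (mu 3)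
      (la' 0) (la' 1) (la' 2) (la' 3) (mu' 0) (mu' 1) (mu' 2) (mu' 3)
      (hdd _ _ (by decide)) (hdd _ _ (by decide)) (hdd _ _ (by decide)) (hdd _ _ (by decide))
      (hdd' _ _ (by decide)) (hdd' _ _ (by decide)) (hdd' _ _ (by decide)) (hdd' _ _ (by decide))
      (by first | linear_combination hcase | linear_combination (-1 : k) * hcase)
  refine ⟨M, c, hM, hc, ?_⟩
  rw [hEq]
  congr 2
  ring

theorem case3 (la mu la' mu' : Fin 4 → k)
    (hdd : ∀ i j : Fin 4, i ≠ j → la j * mu i - la i * mu j ≠ 0)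
    (hdd' : ∀ i j : Fin 4, i ≠ j → la' j * mu' i - la' i * mu' j ≠ 0)
    (hcase : qA la' mu' * (-qA la mu - qB la mu) - qB la' mu' * qA la mu = 0) :
    ∃ (M : Matrix (Fin 2) (Fin 2) k) (c : k), IsUnit M.det ∧ c ≠ 0 ∧
      lin (la' 0) (mu' 0) * lin (la' 1) (mu' 1) * lin (la' 2) (mu' 2) * lin (la' 3) (mu' 3) =
        C c * subst M (lin (la 0) (mu 0) * lin (la 1) (mu 1) * lin (la 2) (mu 2) * lin (la 3) (mu 3)) := by
  simp only [qA, qB, dd] at hcase
  obtain ⟨M, c, hM, hc, hEq⟩ := core (la 1) (la 0) (la 2) (la 3) (mu 1) (mu 0) (mu 2) (mu 3)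
      (la' 0) (la' 1) (la' 2) (la' 3) (mu' 0) (mu' 1) (mu' 2) (mu' 3)
      (hdd _ _ (by decide)) (hdd _ _ (by decide)) (hdd _ _ (by decide)) (hdd _ _ (by decide))
      (hdd' _ _ (by decide)) (hdd' _ _ (by decide)) (hdd' _ _ (by decide)) (hdd' _ _ (by decide))
      (by first | linear_combination hcase | linear_combination (-1 : k) * hcase)
  refine ⟨M, c, hM, hc, ?_⟩
  rw [hEq]
  congr 2
  ring

theorem case4 (la mu la' mu' : Fin 4 → k)
    (hdd : ∀ i j : Fin 4, i ≠ j → la j * mu i - la i * mu j ≠ 0)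
    (hdd' : ∀ i j : Fin 4, i ≠ j → la' j * mu' i - la' i * mu' j ≠ 0)
    (hcase : qA la' mu' * qB la mu - qB la' mu' * (-qA la mu - qB la mu) = 0) :
    ∃ (M : Matrix (Fin 2) (Fin 2) k) (c : k), IsUnit M.det ∧ c ≠ 0 ∧
      lin (la' 0) (mu' 0) * lin (la' 1) (mu' 1) * lin (la' 2) (mu' 2) * lin (la' 3) (mu' 3) =
        C c * subst M (lin (la 0) (mu 0) * lin (la 1) (mu 1) * lin (la 2) (mu 2) * lin (la 3) (mu 3)) := by
  simp only [qA, qB, dd] at hcase
  obtain ⟨M, c, hM, hc, hEq⟩ := core (la 2) (la 1) (la 0) (la 3) (mu 2) (mu 1) (mu 0) (mu 3)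
      (la' 0) (la' 1) (la' 2) (la' 3) (mu' 0) (mu' 1) (mu' 2) (mu' 3)
      (hdd _ _ (by decide)) (hdd _ _ (by decide)) (hdd _ _ (by decide)) (hdd _ _ (by decide))
      (hdd' _ _ (by decide)) (hdd' _ _ (by decide)) (hdd' _ _ (by decide)) (hdd' _ _ (by decide))
      (by first | linear_combination hcase | linear_combination (-1 : k) * hcase)
  refine ⟨M, c, hM, hc, ?_⟩
  rw [hEq]
  congr 2
  ring

theorem case5 (la mu la' mu' : Fin 4 → k)
    (hdd : ∀ i j : Fin 4, i ≠ j → la j * mu i - la i * mu j ≠ 0)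
    (hdd' : ∀ i j : Fin 4, i ≠ j → la' j * mu' i - la' i * mu' j ≠ 0)
    (hcase : qA la' mu' * qA la mu - qB la' mu' * (-qA la mu - qB la mu) = 0) :
    ∃ (M : Matrix (Fin 2) (Fin 2) k) (c : k), IsUnit M.det ∧ c ≠ 0 ∧
      lin (la' 0) (mu' 0) * lin (la' 1) (mu' 1) * lin (la' 2) (mu' 2) * lin (la' 3) (mu' 3) =
        C c * subst M (lin (la 0) (mu 0) * lin (la 1) (mu 1) * lin (la 2) (mu 2) * lin (la 3) (mu 3)) := by
  simp only [qA, qB, dd] at hcase
  obtain ⟨M, c, hM, hc, hEq⟩ := core (la 1) (la 2) (la 0) (la 3) (mu 1) (mu 2) (mu 0) (mu 3)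
      (la' 0) (la' 1) (la' 2) (la' 3) (mu' 0) (mu' 1) (mu' 2) (mu' 3)
      (hdd _ _ (by decide)) (hdd _ _ (by decide)) (hdd _ _ (by decide)) (hdd _ _ (by decide))
      (hdd' _ _ (by decide)) (hdd' _ _ (by decide)) (hdd' _ _ (by decide)) (hdd' _ _ (by decide))
      (by first | linear_combination hcase | linear_combination (-1 : k) * hcase)
  refine ⟨M, c, hM, hc, ?_⟩
  rw [hEq]
  congr 2
  ring

theorem case6 (la mu la' mu' : Fin 4 → k)
    (hdd : ∀ i j : Fin 4, i ≠ j → la j * mu i - la i * mu j ≠ 0)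
    (hdd' : ∀ i j : Fin 4, i ≠ j → la' j * mu' i - la' i * mu' j ≠ 0)
    (hcase : qA la' mu' * (-qA la mu - qB la mu) - qB la' mu' * qB la mu = 0) :
    ∃ (M : Matrix (Fin 2) (Fin 2) k) (c : k), IsUnit M.det ∧ c ≠ 0 ∧
      lin (la' 0) (mu' 0) * lin (la' 1) (mu' 1) * lin (la' 2) (mu' 2) * lin (la' 3) (mu' 3) =
        C c * subst M (lin (la 0) (mu 0) * lin (la 1) (mu 1) * lin (la 2) (mu 2) * lin (la 3) (mu 3)) := by
  simp only [qA, qB, dd] at hcase
  obtain ⟨M, c, hM, hc, hEq⟩ := core (la 2) (la 0) (la 1) (la 3) (mu 2) (mu 0) (mu 1) (mu 3)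
      (la' 0) (la' 1) (la' 2) (la' 3) (mu' 0) (mu' 1) (mu' 2) (mu' 3)
      (hdd _ _ (by decide)) (hdd _ _ (by decide)) (hdd _ _ (by decide)) (hdd _ _ (by decide))
      (hdd' _ _ (by decide)) (hdd' _ _ (by decide)) (hdd' _ _ (by decide)) (hdd' _ _ (by decide))
      (by first | linear_combination hcase | linear_combination (-1 : k) * hcase)
  refine ⟨M, c, hM, hc, ?_⟩
  rw [hEq]
  congr 2
  ring

end


/-- Over a field of characteristic different from 2 and 3, two binary quartics without double zeros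
lying in the same fibre of the map to the projective line given by the invariants, i.e. with
proportional (P³, Q²), are equivalent under a linear substitution of the variables up to a nonzero
constant factor. Stated for split quartics f = ∏_i (μ_i X₀ − λ_i X₁) given by root points (λ_i, μ_i)
≠ (0, 0), with the integral invariants I = 6P, J = 72Q and the discriminant ∏_{i<j} (λ_j μ_i − λ_i
μ_j)²; only the assertion that such a fibre is a single orbit is stated (not its closedness). -/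
theorem result (k : Type u) [Field k]
    (h2 : (2 : k) ≠ 0) (h3 : (3 : k) ≠ 0) (la mu la' mu' : Fin 4 → k)
    (hne : ∀ i, la i ≠ 0 ∨ mu i ≠ 0) (hne' : ∀ i, la' i ≠ 0 ∨ mu' i ≠ 0)
    (hd : W4c6intromoduli.disc la mu ≠ 0) (hd' : W4c6intromoduli.disc la' mu' ≠ 0)
    (h : W4c6intromoduli.invI (W4c6intromoduli.coef la mu) ^ 3
          * W4c6intromoduli.invJ (W4c6intromoduli.coef la' mu') ^ 2 =
        W4c6intromoduli.invI (W4c6intromoduli.coef la' mu') ^ 3
          * W4c6intromoduli.invJ (W4c6intromoduli.coef la mu) ^ 2) :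
    ∃ (M : Matrix (Fin 2) (Fin 2) k) (c : k), IsUnit M.det ∧ c ≠ 0 ∧
      W4c6intromoduli.binForm la' mu' =
        MvPolynomial.C c * W4c6intromoduli.subst M (W4c6intromoduli.binForm la mu) := by
  have hprod := Finset.prod_ne_zero_iff.mp hd
  have hprod' := Finset.prod_ne_zero_iff.mp hd'
  have hlt : ∀ i j : Fin 4, i < j → la j * mu i - la i * mu j ≠ 0 := by
    intro i j hij h0
    have := hprod (i, j) (by simp [hij])
    exact this (by simp only; rw [h0]; ring)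
  have hlt' : ∀ i j : Fin 4, i < j → la' j * mu' i - la' i * mu' j ≠ 0 := by
    intro i j hij h0
    have := hprod' (i, j) (by simp [hij])
    exact this (by simp only; rw [h0]; ring)
  have hdd : ∀ i j : Fin 4, i ≠ j → la j * mu i - la i * mu j ≠ 0 := by
    intro i j hij
    rcases lt_or_gt_of_ne hij with h1 | h1
    · exact hlt i j h1
    · intro h0
      exact hlt j i h1 (by linear_combination (-1 : k) * h0)
  have hdd' : ∀ i j : Fin 4, i ≠ j → la' j * mu' i - la' i * mu' j ≠ 0 := by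
    intro i j hij
    rcases lt_or_gt_of_ne hij with h1 | h1
    · exact hlt' i j h1
    · intro h0
      exact hlt' j i h1 (by linear_combination (-1 : k) * h0)
  rw [invI_eq, invJ_eq, invI_eq, invJ_eq] at h
  have key : (27 : k) * ((qA la' mu' * qB la mu - qB la' mu' * qA la mu) *
      (qA la' mu' * qA la mu - qB la' mu' * qB la mu) *
      (qA la' mu' * (-qA la mu - qB la mu) - qB la' mu' * qA la mu) *
      (qA la' mu' * qB la mu - qB la' mu' * (-qA la mu - qB la mu)) *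
      (qA la' mu' * qA la mu - qB la' mu' * (-qA la mu - qB la mu)) *
      (qA la' mu' * (-qA la mu - qB la mu) - qB la' mu' * qB la mu)) = 0 := by
    linear_combination h
  have h27 : (27 : k) ≠ 0 := by
    have : (27 : k) = 3 ^ 3 := by norm_num
    rw [this]
    exact pow_ne_zero 3 h3
  have key2 := (mul_eq_zero.mp key).resolve_left h27
  rw [binForm_eq la mu, binForm_eq la' mu']
  rcases mul_eq_zero.mp key2 with key3 | hcase
  rcases mul_eq_zero.mp key3 with key4 | hcase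
  rcases mul_eq_zero.mp key4 with key5 | hcase
  rcases mul_eq_zero.mp key5 with key6 | hcase
  rcases mul_eq_zero.mp key6 with hcase | hcase
  · exact case1 la mu la' mu' hdd hdd' hcase
  · exact case2 la mu la' mu' hdd hdd' hcase
  · exact case3 la mu la' mu' hdd hdd' hcase
  · exact case4 la mu la' mu' hdd hdd' hcase
  · exact case5 la mu la' mu' hdd hdd' hcase
  · exact case6 la mu la' mu' hdd hdd' hcase

end Groth.Agent.S19393
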