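import Groth.Statements.S19394
import Mathlib
-- import your own Groth.Agent.* helpers here

set_option autoImplicit false
universe u
open InvQ

namespace Groth.Agent.S19394

theorem exists_proj {k V : Type*} [Field k] [AddCommGroup V] [Module k V]
    (s n : Module.End k V) (hs : s.IsSemisimple) (hsn : Commute s n) (j : ℕ) :
    ∃ e : Module.End k V, e * e = e ∧ s * e = e * s ∧ n ^ j * e = 0 ∧
      ∀ g : Module.End k V, n ^ j * g = 0 → e * g = g := by
  have hK : LinearMap.ker (n ^ j) ∈ Module.End.invtSubmodule s := by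
    rw [Module.End.mem_invtSubmodule_iff_forall_mem_of_mem]
    intro x hx
    rw [LinearMap.mem_ker] at hx ⊢
    have h := (hsn.pow_right j).eq
    have h2 : (n ^ j) (s x) = s ((n ^ j) x) := (LinearMap.congr_fun h x).symm
    rw [h2, hx, map_zero]
  obtain ⟨W, hW, hKW⟩ := (Module.End.isSemisimple_iff.mp hs) _ hK
  rw [Module.End.mem_invtSubmodule_iff_forall_mem_of_mem] at hK hW
  refine ⟨(LinearMap.ker (n ^ j)).projection W hKW, ?_, ?_, ?_, ?_⟩
  · exact (Submodule.isIdempotentElem_projection hKW)
  · ext x
    show s ((LinearMap.ker (n ^ j)).projection W hKW x) =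
      (LinearMap.ker (n ^ j)).projection W hKW (s x)
    have hx : s x = s ((LinearMap.ker (n ^ j)).projection W hKW x) +
        s (W.projection (LinearMap.ker (n ^ j)) hKW.symm x) := by
      rw [← map_add, Submodule.projection_add_projection_eq_self hKW x]
    have h1 := hK _ (Submodule.projection_apply_mem hKW x)
    have h2 := hW _ (Submodule.projection_apply_mem hKW.symm x)
    rw [hx, map_add, Submodule.projection_apply_of_mem_left hKW h1,
      (Submodule.projection_apply_eq_zero_iff hKW).mpr h2, add_zero]
  · ext x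
    show (n ^ j) ((LinearMap.ker (n ^ j)).projection W hKW x) = 0
    exact LinearMap.mem_ker.mp (Submodule.projection_apply_mem hKW x)
  · intro g hg
    ext x
    show (LinearMap.ker (n ^ j)).projection W hKW (g x) = g x
    apply Submodule.projection_apply_of_mem_left
    exact LinearMap.mem_ker.mpr (LinearMap.congr_fun hg x)

theorem exists_proj_matrix {k : Type*} [Field k] {n : ℕ} (S N : Matrix (Fin n) (Fin n) k)
    (hS : Module.End.IsSemisimple (Matrix.toLin' S)) (hSN : Commute S N) (j : ℕ)
    (hN : N ^ (j + 1) = 0) :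
    ∃ e : Matrix (Fin n) (Fin n) k, e * e = e ∧ S * e = e * S ∧ N ^ j * e = 0 ∧ e * N = N := by
  let φ : Matrix (Fin n) (Fin n) k ≃ₐ[k] Module.End k (Fin n → k) := Matrix.toLinAlgEquiv'
  have hS' : Module.End.IsSemisimple (φ S) := hS
  have hc : Commute (φ S) (φ N) := by
    show φ S * φ N = φ N * φ S
    rw [← map_mul, ← map_mul, hSN.eq]
  obtain ⟨e', he, hse, hne, hg⟩ := exists_proj (φ S) (φ N) hS' hc j
  refine ⟨φ.symm e', ?_, ?_, ?_, ?_⟩
  · rw [← map_mul, he]
  · apply φ.injective
    rw [map_mul, map_mul, φ.apply_symm_apply, hse]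
  · apply φ.injective
    rw [map_mul, map_pow, φ.apply_symm_apply, hne, map_zero]
  · apply φ.injective
    rw [map_mul, φ.apply_symm_apply]
    apply hg
    rw [← map_pow, ← map_mul, ← pow_succ, hN, map_zero]

theorem conj_identity {R : Type*} {k : Type*} [Field k] [Ring R] [Algebra k R]
    (S N e : R) (he : e * e = e) (hSe : S * e = e * S) (heN : e * N = N) (s : k) (hs : s ≠ 0) :
    (e + s⁻¹ • (1 - e)) * (e + s • (1 - e)) = 1 ∧
    (e + s⁻¹ • (1 - e)) * (S + N) * (e + s • (1 - e)) = S + N * e + s • (N * (1 - e)) := by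
  have hef : e * (1 - e) = 0 := by rw [mul_sub, mul_one, he, sub_self]
  have hfe : (1 - e) * e = 0 := by rw [sub_mul, one_mul, he, sub_self]
  have hff : (1 - e) * (1 - e) = 1 - e := by
    rw [mul_sub, mul_one, hfe, sub_zero]
  have hfN : (1 - e) * N = 0 := by rw [sub_mul, one_mul, heN, sub_self]
  have hSf : S * (1 - e) = (1 - e) * S := by rw [mul_sub, sub_mul, hSe, mul_one, one_mul]
  have hab : (e + s⁻¹ • (1 - e)) * (e + s • (1 - e)) = 1 := by
    rw [add_mul, mul_add, mul_add, he, mul_smul_comm, hef, smul_zero, smul_mul_assoc, hfe,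
      smul_zero, smul_mul_assoc, mul_smul_comm, hff, smul_smul, inv_mul_cancel₀ hs, one_smul,
      add_zero, zero_add, add_sub_cancel]
  refine ⟨hab, ?_⟩
  have h1 : (e + s⁻¹ • (1 - e)) * S = S * (e + s⁻¹ • (1 - e)) := by
    rw [add_mul, mul_add, hSe, smul_mul_assoc, mul_smul_comm, hSf]
  have h2 : (e + s⁻¹ • (1 - e)) * N = N := by
    rw [add_mul, heN, smul_mul_assoc, hfN, smul_zero, add_zero]
  have step1 : (e + s⁻¹ • (1 - e)) * (S + N) = S * (e + s⁻¹ • (1 - e)) + N := by
    rw [mul_add, h1, h2]
  rw [step1, add_mul, mul_assoc, hab, mul_one, mul_add, mul_smul_comm, add_assoc]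

theorem aux (k : Type*) [Field k] [IsAlgClosed k] (n : ℕ) (S : Matrix (Fin n) (Fin n) k)
    (hS : Module.End.IsSemisimple (Matrix.toLin' S)) (F : MvPolynomial (Fin n × Fin n) k) :
    ∀ (m : ℕ) (N : Matrix (Fin n) (Fin n) k), N ^ (m + 1) = 0 → Commute S N →
      (∀ A : Matrix (Fin n) (Fin n) k, IsUnit A.det →
        MvPolynomial.eval (fun p => (A * (S + N) * A⁻¹) p.1 p.2) F = 0) →
      ∀ A₀ : Matrix (Fin n) (Fin n) k, IsUnit A₀.det →
        MvPolynomial.eval (fun p => (A₀ * S * A₀⁻¹) p.1 p.2) F = 0 := by
  intro m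
  induction m with
  | zero =>
    intro N hN _ hF A₀ hA₀
    rw [zero_add, pow_one] at hN
    have := hF A₀ hA₀
    simpa [hN] using this
  | succ m ih =>
    intro N hN hSN hF A₀ hA₀
    obtain ⟨e, he, hSe, hNe, heN⟩ := exists_proj_matrix S N hS hSN (m + 1) hN
    have key : ∀ j, (N * e) ^ (j + 1) = N ^ (j + 1) * e := by
      intro j
      induction j with
      | zero => rw [zero_add, pow_one, pow_one]
      | succ j ihj =>
        have h3 : e * N ^ (j + 1) = N ^ (j + 1) := by
          rw [pow_succ', ← mul_assoc, heN]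
        rw [pow_succ', ihj, mul_assoc, ← mul_assoc e, h3, ← mul_assoc, ← pow_succ']
    refine ih (N * e) ?_ ?_ ?_ A₀ hA₀
    · rw [key, hNe]
    · show S * (N * e) = N * e * S
      rw [← mul_assoc, hSN.eq, mul_assoc, hSe, mul_assoc]
    · intro A hA
      set P := A * (S + N * e) * A⁻¹ with hP
      set Q := A * (N * (1 - e)) * A⁻¹ with hQ
      let g : Fin n × Fin n → Polynomial k := fun p =>
        Polynomial.C (P p.1 p.2) + Polynomial.X * Polynomial.C (Q p.1 p.2)
      let G : Polynomial k := MvPolynomial.eval₂Hom Polynomial.C g F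
      have hG : ∀ s : k, G.eval s = MvPolynomial.eval (fun p => (P + s • Q) p.1 p.2) F := by
        intro s
        have hh : (Polynomial.evalRingHom s).comp (MvPolynomial.eval₂Hom Polynomial.C g) =
            MvPolynomial.eval (fun p => (P + s • Q) p.1 p.2) := by
          apply MvPolynomial.ringHom_ext
          · intro r
            simp
          · intro i
            simp only [RingHom.comp_apply, MvPolynomial.coe_eval₂Hom, MvPolynomial.eval₂_X,
              MvPolynomial.eval_X, g, Polynomial.coe_evalRingHom, Polynomial.eval_add,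
              Polynomial.eval_C, Polynomial.eval_mul, Polynomial.eval_X, Matrix.add_apply,
              Matrix.smul_apply, smul_eq_mul]
        exact RingHom.congr_fun hh F
      have hroot : ∀ s : k, s ≠ 0 → G.IsRoot s := by
        intro s hs
        obtain ⟨hab, hconj⟩ := conj_identity S N e he hSe heN s hs
        have hdet : IsUnit (A * (e + s⁻¹ • (1 - e))).det := by
          rw [Matrix.det_mul]
          exact hA.mul (Matrix.isUnit_det_of_right_inverse hab)
        have hinv : (A * (e + s⁻¹ • (1 - e)))⁻¹ = (e + s • (1 - e)) * A⁻¹ := by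
          apply Matrix.inv_eq_right_inv
          rw [mul_assoc, ← mul_assoc _ _ A⁻¹, hab, one_mul, Matrix.mul_nonsing_inv A hA]
        have h5 : A * (e + s⁻¹ • (1 - e)) * (S + N) * (A * (e + s⁻¹ • (1 - e)))⁻¹ =
            P + s • Q := by
          rw [hinv, hP, hQ]
          have : A * (e + s⁻¹ • (1 - e)) * (S + N) * ((e + s • (1 - e)) * A⁻¹) =
              A * ((e + s⁻¹ • (1 - e)) * (S + N) * (e + s • (1 - e))) * A⁻¹ := by
            simp only [mul_assoc]
          rw [this, hconj, mul_add, add_mul, mul_smul_comm, smul_mul_assoc]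
        show G.eval s = 0
        rw [hG, ← h5]
        exact hF _ hdet
      have hinf : Set.Infinite {s : k | s ≠ 0} := (Set.finite_singleton (0 : k)).infinite_compl
      have hG0 : G = 0 := Polynomial.eq_zero_of_infinite_isRoot G (hinf.mono hroot)
      have := hG 0
      rw [hG0, Polynomial.eval_zero, zero_smul, add_zero] at this
      exact this.symm

/-- Over an algebraically closed field, the semisimple part of a square matrix B lies in the Zariski
closure of the orbit of B under conjugation by the general linear group. The semisimple part is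
given as S with B = S + N, S semisimple, N nilpotent and SN = NS; membership in the Zariski closure
is spelled out as: every polynomial in the n² matrix entries vanishing at all conjugates A B A⁻¹ (A
invertible) vanishes at S. -/
theorem result (k : Type u) [Field k] [IsAlgClosed k] (n : ℕ)
    (B S N : Matrix (Fin n) (Fin n) k) (hS : Module.End.IsSemisimple (Matrix.toLin' S))
    (hN : IsNilpotent N) (hSN : Commute S N) (hB : B = S + N)
    (F : MvPolynomial (Fin n × Fin n) k)
    (hF : ∀ A : Matrix (Fin n) (Fin n) k, IsUnit A.det →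
      MvPolynomial.eval (fun p => (A * B * A⁻¹) p.1 p.2) F = 0) :
    MvPolynomial.eval (fun p => S p.1 p.2) F = 0 := by
  obtain ⟨j, hj⟩ := hN
  have hj' : N ^ (j + 1) = 0 := by rw [pow_succ, hj, zero_mul]
  have h := aux k n S hS F j N hj' hSN (fun A hA => by rw [← hB]; exact hF A hA) 1 (by simp)
  simpa using h

end Groth.Agent.S19394
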