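import Groth.Statements.S19395
import Mathlib
import Groth.Agent.S19394
-- import your own Groth.Agent.* helpers here

set_option autoImplicit false
universe u
open InvQ

namespace Groth.Agent.S19395

theorem exists_equiv_of_charpoly_eq {K V : Type*} [Field K] [IsAlgClosed K] [AddCommGroup V]
    [Module K V] [FiniteDimensional K V] (f g : Module.End K V) (hf : f.IsSemisimple)
    (hg : g.IsSemisimple) (h : f.charpoly = g.charpoly) :
    ∃ φ : V ≃ₗ[K] V, φ.toLinearMap ∘ₗ f = g ∘ₗ φ.toLinearMap := by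
  classical
  have hr : ∀ μ, Module.finrank K (f.eigenspace μ) = Module.finrank K (g.eigenspace μ) := by
    intro μ
    rw [← hf.isFinitelySemisimple.maxGenEigenspace_eq_eigenspace μ,
      ← hg.isFinitelySemisimple.maxGenEigenspace_eq_eigenspace μ,
      LinearMap.finrank_maxGenEigenspace_eq, LinearMap.finrank_maxGenEigenspace_eq, h]
  have hIf : DirectSum.IsInternal (fun μ => f.eigenspace μ) :=
    DirectSum.isInternal_submodule_of_iSupIndep_of_iSup_eq_top
      (Module.End.eigenspaces_iSupIndep f) hf.iSup_eigenspace_eq_top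
  have hIg : DirectSum.IsInternal (fun μ => g.eigenspace μ) :=
    DirectSum.isInternal_submodule_of_iSupIndep_of_iSup_eq_top
      (Module.End.eigenspaces_iSupIndep g) hg.iSup_eigenspace_eq_top
  let bf : ∀ μ, Module.Basis (Fin (Module.finrank K (f.eigenspace μ))) K (f.eigenspace μ) :=
    fun μ => Module.finBasis K _
  let bg : ∀ μ, Module.Basis (Fin (Module.finrank K (f.eigenspace μ))) K (g.eigenspace μ) :=
    fun μ => (Module.finBasis K _).reindex (finCongr (hr μ).symm)
  refine ⟨(hIf.collectedBasis bf).equiv (hIg.collectedBasis bg) (Equiv.refl _), ?_⟩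
  apply (hIf.collectedBasis bf).ext
  intro a
  have h1 : hIf.collectedBasis bf a ∈ f.eigenspace a.1 := hIf.collectedBasis_mem bf a
  have h2 : hIg.collectedBasis bg a ∈ g.eigenspace a.1 := hIg.collectedBasis_mem bg a
  rw [Module.End.mem_eigenspace_iff] at h1 h2
  simp only [LinearMap.comp_apply, LinearEquiv.coe_coe, h1, map_smul, Module.Basis.equiv_apply,
    Equiv.refl_apply, h2]

theorem exists_conj_of_charpoly_eq {k : Type*} [Field k] [IsAlgClosed k] {n : ℕ}
    (S₁ S₂ : Matrix (Fin n) (Fin n) k) (h₁ : Module.End.IsSemisimple (Matrix.toLin' S₁))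
    (h₂ : Module.End.IsSemisimple (Matrix.toLin' S₂)) (h : S₁.charpoly = S₂.charpoly) :
    ∃ A : Matrix (Fin n) (Fin n) k, IsUnit A.det ∧ A * S₁ * A⁻¹ = S₂ := by
  obtain ⟨φ, hφ⟩ := exists_equiv_of_charpoly_eq (Matrix.toLin' S₁) (Matrix.toLin' S₂) h₁ h₂
    (by rw [Matrix.charpoly_toLin', Matrix.charpoly_toLin', h])
  have hAB : LinearMap.toMatrix' φ.toLinearMap * LinearMap.toMatrix' φ.symm.toLinearMap = 1 := by
    rw [← LinearMap.toMatrix'_comp, LinearEquiv.comp_coe, LinearEquiv.symm_trans_self,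
      LinearEquiv.refl_toLinearMap, LinearMap.toMatrix'_id]
  have hc : LinearMap.toMatrix' φ.toLinearMap * S₁ = S₂ * LinearMap.toMatrix' φ.toLinearMap := by
    have := congrArg LinearMap.toMatrix' hφ
    rwa [LinearMap.toMatrix'_comp, LinearMap.toMatrix'_comp, LinearMap.toMatrix'_toLin',
      LinearMap.toMatrix'_toLin'] at this
  refine ⟨LinearMap.toMatrix' φ.toLinearMap, Matrix.isUnit_det_of_right_inverse hAB, ?_⟩
  rw [Matrix.inv_eq_right_inv hAB, hc, mul_assoc, hAB, mul_one]

theorem charpoly_eq_of_mem_closure {k : Type*} [Field k] {n : ℕ}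
    (B X : Matrix (Fin n) (Fin n) k)
    (hX : ∀ F : MvPolynomial (Fin n × Fin n) k,
      (∀ A : Matrix (Fin n) (Fin n) k, IsUnit A.det →
        MvPolynomial.eval (fun p => (A * B * A⁻¹) p.1 p.2) F = 0) →
      MvPolynomial.eval (fun p => X p.1 p.2) F = 0) : X.charpoly = B.charpoly := by
  have key : ∀ (Y : Matrix (Fin n) (Fin n) k) (i : ℕ), MvPolynomial.eval (fun p => Y p.1 p.2)
      ((Matrix.charpoly.univ k (Fin n)).coeff i) = Y.charpoly.coeff i := by
    intro Y i
    exact Matrix.charpoly.univ_coeff_eval₂Hom (Fin n) (RingHom.id k)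
      (fun p : Fin n × Fin n => Y p.1 p.2) i
  ext i
  have h := hX ((Matrix.charpoly.univ k (Fin n)).coeff i -
      MvPolynomial.C (B.charpoly.coeff i)) (by
    intro A hA
    rw [map_sub, key, MvPolynomial.eval_C, sub_eq_zero, Matrix.charpoly_mul_comm, ← mul_assoc,
      Matrix.nonsing_inv_mul A hA, one_mul])
  rw [map_sub, key, MvPolynomial.eval_C, sub_eq_zero] at h
  exact h

/-- Over an algebraically closed field, the Zariski closures of the conjugation orbits of two square
matrices B₁, B₂ meet if and only if their semisimple parts lie in one orbit. The semisimple parts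
are given as S_i with B_i = S_i + N_i, S_i semisimple, N_i nilpotent, S_i N_i = N_i S_i; a common
point of the two closures is a matrix C at which every polynomial in the matrix entries vanishing on
the whole orbit of B₁, and every one vanishing on the whole orbit of B₂, vanishes. -/
theorem result (k : Type u) [Field k] [IsAlgClosed k]
    (n : ℕ) (B₁ S₁ N₁ B₂ S₂ N₂ : Matrix (Fin n) (Fin n) k)
    (hS₁ : Module.End.IsSemisimple (Matrix.toLin' S₁)) (hN₁ : IsNilpotent N₁) (hc₁ : Commute S₁ N₁)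
    (hB₁ : B₁ = S₁ + N₁)
    (hS₂ : Module.End.IsSemisimple (Matrix.toLin' S₂)) (hN₂ : IsNilpotent N₂) (hc₂ : Commute S₂ N₂)
    (hB₂ : B₂ = S₂ + N₂) :
    (∃ C : Matrix (Fin n) (Fin n) k,
        (∀ F : MvPolynomial (Fin n × Fin n) k,
          (∀ A : Matrix (Fin n) (Fin n) k, IsUnit A.det →
            MvPolynomial.eval (fun p => (A * B₁ * A⁻¹) p.1 p.2) F = 0) →
          MvPolynomial.eval (fun p => C p.1 p.2) F = 0) ∧
        (∀ F : MvPolynomial (Fin n × Fin n) k,
          (∀ A : Matrix (Fin n) (Fin n) k, IsUnit A.det →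
            MvPolynomial.eval (fun p => (A * B₂ * A⁻¹) p.1 p.2) F = 0) →
          MvPolynomial.eval (fun p => C p.1 p.2) F = 0)) ↔
      ∃ A : Matrix (Fin n) (Fin n) k, IsUnit A.det ∧ A * S₁ * A⁻¹ = S₂ := by
  have hcl₁ : ∀ F : MvPolynomial (Fin n × Fin n) k,
      (∀ A : Matrix (Fin n) (Fin n) k, IsUnit A.det →
        MvPolynomial.eval (fun p => (A * B₁ * A⁻¹) p.1 p.2) F = 0) →
      ∀ A₀ : Matrix (Fin n) (Fin n) k, IsUnit A₀.det →
        MvPolynomial.eval (fun p => (A₀ * S₁ * A₀⁻¹) p.1 p.2) F = 0 := by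
    intro F hF
    obtain ⟨j, hj⟩ := hN₁
    have hj' : N₁ ^ (j + 1) = 0 := by rw [pow_succ, hj, zero_mul]
    exact Groth.Agent.S19394.aux k n S₁ hS₁ F j N₁ hj' hc₁
      (fun A hA => by rw [← hB₁]; exact hF A hA)
  have hcl₂ : ∀ F : MvPolynomial (Fin n × Fin n) k,
      (∀ A : Matrix (Fin n) (Fin n) k, IsUnit A.det →
        MvPolynomial.eval (fun p => (A * B₂ * A⁻¹) p.1 p.2) F = 0) →
      ∀ A₀ : Matrix (Fin n) (Fin n) k, IsUnit A₀.det →
        MvPolynomial.eval (fun p => (A₀ * S₂ * A₀⁻¹) p.1 p.2) F = 0 := by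
    intro F hF
    obtain ⟨j, hj⟩ := hN₂
    have hj' : N₂ ^ (j + 1) = 0 := by rw [pow_succ, hj, zero_mul]
    exact Groth.Agent.S19394.aux k n S₂ hS₂ F j N₂ hj' hc₂
      (fun A hA => by rw [← hB₂]; exact hF A hA)
  constructor
  · rintro ⟨C, hC₁, hC₂⟩
    apply exists_conj_of_charpoly_eq S₁ S₂ hS₁ hS₂
    have e1 : C.charpoly = B₁.charpoly := charpoly_eq_of_mem_closure B₁ C hC₁
    have e2 : C.charpoly = B₂.charpoly := charpoly_eq_of_mem_closure B₂ C hC₂
    have e3 : S₁.charpoly = B₁.charpoly := charpoly_eq_of_mem_closure B₁ S₁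
      (fun F hF => by simpa using hcl₁ F hF 1 (by simp))
    have e4 : S₂.charpoly = B₂.charpoly := charpoly_eq_of_mem_closure B₂ S₂
      (fun F hF => by simpa using hcl₂ F hF 1 (by simp))
    rw [e3, ← e1, e2, ← e4]
  · rintro ⟨A, hA, hAS⟩
    refine ⟨S₂, fun F hF => ?_, fun F hF => ?_⟩
    · rw [← hAS]
      exact hcl₁ F hF A hA
    · simpa using hcl₂ F hF 1 (by simp)

end Groth.Agent.S19395
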