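import Groth.Statements.S19396
import Groth.Agent.Lib.Helper55.FunFld.GenusOne

set_option autoImplicit false
universe u v
open FunFld

namespace Groth.Agent.S19396

/-- On an elliptic curve with base point 0, if f has a double pole at 0 and no other pole and g a triple
pole at 0 and no other pole, then for n ≥ 2 the functions 1, f, …, f^[n/2], g, fg, …, f^[(n−3)/2] g
form a basis of the space of functions with at most an n-fold pole at 0. Stated for a function field
K/k of one variable of genus 1 with a place P of degree 1 in the role of the curve and its base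
point: the family indexed by Fin (n/2 + 1) ⊕ Fin ((n − 1)/2), sending i on the left to f^i and i on
the right to f^i g, is linearly independent over k and spans L(nP). -/
theorem result (k : Type u) (K : Type v) [Field k] [Field K]
    [Algebra k K] (hK : FunFld.IsFunctionField k K) (hgen : FunFld.genus k K = 1)
    (P : FunFld.Place k K) (hP : P.deg = 1) (f g : K)
    (hf : f ∈ FunFld.L (Finsupp.single P 2)) (hf2 : P.ord f = -2)
    (hg : g ∈ FunFld.L (Finsupp.single P 3)) (hg3 : P.ord g = -3) (n : ℕ) (hn : 2 ≤ n) :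
    LinearIndependent k
        (Sum.elim (fun i : Fin (n / 2 + 1) => f ^ (i : ℕ)) (fun i : Fin ((n - 1) / 2) => f ^ (i : ℕ) * g)) ∧
      Submodule.span k (Set.range
        (Sum.elim (fun i : Fin (n / 2 + 1) => f ^ (i : ℕ)) (fun i : Fin ((n - 1) / 2) => f ^ (i : ℕ) * g))) =
        FunFld.L (Finsupp.single P (n : ℤ)) := by
  classical
  have hf0 : f ≠ 0 := by
    intro h0; rw [h0] at hf2; unfold FunFld.Place.ord at hf2; simp at hf2
  have hg0 : g ≠ 0 := by
    intro h0; rw [h0] at hg3; unfold FunFld.Place.ord at hg3; simp at hg3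
  have hPf : P.1 f = WithZero.exp 2 := by
    rw [Groth.Agent.Lib.Helper55.ff_val_eq_exp_neg_ord P hf0, hf2]; rfl
  have hPg : P.1 g = WithZero.exp 3 := by
    rw [Groth.Agent.Lib.Helper55.ff_val_eq_exp_neg_ord P hg0, hg3]; rfl
  set v : Fin (n / 2 + 1) ⊕ Fin ((n - 1) / 2) → K :=
    Sum.elim (fun i : Fin (n / 2 + 1) => f ^ (i : ℕ)) (fun i : Fin ((n - 1) / 2) => f ^ (i : ℕ) * g)
    with hv
  have hv0 : ∀ i, v i ≠ 0 := by
    rintro (i | i)
    · exact pow_ne_zero _ hf0
    · exact mul_ne_zero (pow_ne_zero _ hf0) hg0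
  have hval : ∀ i, P.1 (v i) = WithZero.exp (Sum.elim (fun i : Fin (n / 2 + 1) => (2 * (i : ℕ) : ℤ))
      (fun i : Fin ((n - 1) / 2) => (2 * (i : ℕ) + 3 : ℤ)) i) := by
    rintro (i | i)
    · change P.1 (f ^ (i : ℕ)) = _
      rw [map_pow, hPf, ← WithZero.exp_nsmul]
      simp [mul_comm]
    · change P.1 (f ^ (i : ℕ) * g) = _
      rw [map_mul, map_pow, hPf, hPg, ← WithZero.exp_nsmul, ← WithZero.exp_add]
      simp [mul_comm]
  have hli : LinearIndependent k v := by
    rw [Fintype.linearIndependent_iff]
    intro c hc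
    have hrel : ∑ i, algebraMap k K (c i) * v i = 0 := by
      simp_rw [← Algebra.smul_def]; exact hc
    have := Groth.Agent.Lib.Helper55.ff_coeff_zero_of_val_injective P v hv0 c hrel (by
      intro i j _ _ hij
      rw [hval i, hval j] at hij
      have hij' := WithZero.exp_injective hij
      rcases i with i | i <;> rcases j with j | j <;> simp only [Sum.elim_inl, Sum.elim_inr] at hij'
      · congr 1; apply Fin.ext; omega
      · omega
      · omega
      · congr 1; apply Fin.ext; omega)
    intro i
    rw [this]; rfl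
  have hfpow : ∀ i : ℕ, f ^ i ∈ FunFld.L (Finsupp.single P ((2 * i : ℕ) : ℤ)) := by
    intro i
    induction i with
    | zero =>
      intro Q
      simp
    | succ i ih =>
      have h1 := Groth.Agent.Lib.Helper55.ff_mul_mem_L ih hf
      rw [← Finsupp.single_add] at h1
      rw [pow_succ]
      have h2 : ((2 * i : ℕ) : ℤ) + 2 = ((2 * (i + 1) : ℕ) : ℤ) := by push_cast; ring
      rw [h2] at h1
      exact h1
  have hle : Submodule.span k (Set.range v) ≤ FunFld.L (Finsupp.single P (n : ℤ)) := by
    rw [Submodule.span_le]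
    rintro _ ⟨i | i, rfl⟩
    · refine Groth.Agent.Lib.Helper55.ff_L_mono
        (Groth.Agent.Lib.Helper55.ff_single_le_single P ?_) (hfpow i)
      have := i.2
      push_cast
      omega
    · have h1 := Groth.Agent.Lib.Helper55.ff_mul_mem_L (hfpow i) hg
      rw [← Finsupp.single_add] at h1
      refine Groth.Agent.Lib.Helper55.ff_L_mono
        (Groth.Agent.Lib.Helper55.ff_single_le_single P ?_) h1
      have := i.2
      push_cast
      omega
  refine ⟨hli, ?_⟩
  haveI := Groth.Agent.Lib.Helper55.ff_L_finiteDimensional hK (Finsupp.single P (n : ℤ))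
  apply Submodule.eq_of_le_of_finrank_eq hle
  rw [finrank_span_eq_card hli]
  have hell := Groth.Agent.Lib.Helper55.ff_ell_eq_of_deg_ge hK (Finsupp.single P (n : ℤ)) (by
    rw [Groth.Agent.Lib.Helper55.ff_deg_single, hgen, hP]
    push_cast
    omega)
  rw [Groth.Agent.Lib.Helper55.ff_deg_single, hgen, hP] at hell
  unfold FunFld.ell at hell
  have h3 : Module.finrank k (FunFld.L (Finsupp.single P (n : ℤ))) = n := by
    have : (Module.finrank k (FunFld.L (Finsupp.single P (n : ℤ))) : ℤ) = n := by
      rw [hell]; push_cast; ring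
    exact_mod_cast this
  rw [h3, Fintype.card_sum, Fintype.card_fin, Fintype.card_fin]
  omega

end Groth.Agent.S19396
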