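import Groth.Statements.S19400
import Groth.Agent.Lib.Helper23.GITAffine

set_option autoImplicit false
universe u
open GIT

namespace Groth.Agent.S19400

/-- For a reductive group G (here: every finite-dimensional representation completely reducible, i.e.
linearly reductive; any characteristic) acting on an affine variety X = Spec R over an algebraically
closed field with all orbits of closed points closed, the morphism X → Y = Spec R^G is a geometric
quotient; in particular it is surjective on closed points and its fibre over every closed point of Y
is a single orbit. This row states those two point-set assertions in coaction form: G = Spec A with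
A a finitely generated commutative Hopf algebra whose finite-dimensional comodules are semisimple, R
of finite type with a multiplicative unital coaction, points as k-algebra maps. The published
statement takes X to be a variety (reduced and irreducible); this row does not assume R reduced or a
domain. -/
theorem result (k : Type u) [Field k] [IsAlgClosed k]
    (A : Type u) [CommRing A] [HopfAlgebra k A] [Algebra.FiniteType k A]
    (hG : HopfRep.IsLinearlyReductive k A)
    (R : Type u) [CommRing R] [Algebra k R] [Algebra.FiniteType k R]
    [HopfRep.Comod k A R] [GLin.IsCoactAlg k A R]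
    (hcl : ∀ x : R →ₐ[k] k, GLin.IsClosedOrbit k A x)
    (y : GLin.invariants k A R →ₐ[k] k) :
    (∃ x : R →ₐ[k] k, x.comp (GLin.invariants k A R).val = y) ∧
      ∀ x x' : R →ₐ[k] k, x.comp (GLin.invariants k A R).val = y →
        x'.comp (GLin.invariants k A R).val = y →
          ∃ g : A →ₐ[k] k, x' = GLin.actPt k g x := by
  have hss := Groth.Agent.Lib.Helper23.Reynolds.isSemisimpleModule_of_isLinearlyReductive hG R
  constructor
  · obtain ⟨x, -, hx⟩ := Groth.Agent.Lib.Helper23.GITAffine.exists_point_lift
      (GLin.IsCoactAlg.coact_mul (k := k) (A := A) (R := R))
      (GLin.IsCoactAlg.coact_one (k := k) (A := A) (R := R))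
      (GLin.invariants k A R) (fun _ => Iff.rfl) ⊥
      (by
        have := Groth.Agent.Lib.Helper75.isSubcomod_bot (K := k) (A := A) (V := R)
        convert this using 1
        exact Submodule.restrictScalars_bot k R R)
      y (by
        intro f hf
        have : f = 0 := Subtype.ext (by simpa using hf)
        rw [this, map_zero])
    exact ⟨x, AlgHom.ext fun f => hx f⟩
  · intro x x' hx hx'
    have h' : ∀ f ∈ HopfRep.fixedPts k A R, x f = x' f := by
      intro f hf
      have h1 := congrArg (fun φ : ↥(GLin.invariants k A R) →ₐ[k] k => φ ⟨f, hf⟩) hx
      have h2 := congrArg (fun φ : ↥(GLin.invariants k A R) →ₐ[k] k => φ ⟨f, hf⟩) hx'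
      exact h1.trans h2.symm
    obtain ⟨z, hz1, hz2⟩ := Groth.Agent.Lib.Helper23.GITAffine.exists_common_point (A := A) x x' h'
    obtain ⟨g, hg⟩ := Groth.Agent.Lib.Helper23.GITAffine.exists_actPt_eq_of_isClosedOrbit (hcl x) hz1
    obtain ⟨g', hg'⟩ := Groth.Agent.Lib.Helper23.GITAffine.exists_actPt_eq_of_isClosedOrbit (hcl x') hz2
    exact Groth.Agent.Lib.Helper23.GITAffine.exists_actPt_of_actPt_eq (hg.symm.trans hg')

end Groth.Agent.S19400
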