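import Groth.Statements.S19402
import Groth.Agent.Lib.Helper84.FreeEtale

set_option autoImplicit false
universe u v w
open scoped Pointwise
open GLin

namespace Groth.Agent.S19402

open Groth.Agent.Lib.Helper84

/-- residue fields at maximal ideals of a finitely generated algebra over an algebraically closed
field are trivial -/
theorem exists_sub_mem (k : Type u) [Field k] [IsAlgClosed k]
    (R : Type v) [CommRing R] [Algebra k R] [Algebra.FiniteType k R]
    (m : Ideal R) [m.IsMaximal] (x : R) : ∃ c : k, x - algebraMap k R c ∈ m := by
  let _ : Field (R ⧸ m) := Ideal.Quotient.field m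
  have hft : Algebra.FiniteType k (R ⧸ m) :=
    Algebra.FiniteType.of_surjective (Ideal.Quotient.mkₐ k m) (Ideal.Quotient.mkₐ_surjective k m)
  have hfin : Module.Finite k (R ⧸ m) := finite_of_finite_type_of_isJacobsonRing k (R ⧸ m)
  have hint : Algebra.IsIntegral k (R ⧸ m) := Algebra.IsIntegral.of_finite k (R ⧸ m)
  have hbij : Function.Bijective (algebraMap k (R ⧸ m)) :=
    IsAlgClosed.algebraMap_bijective_of_isIntegral
  obtain ⟨c, hc⟩ := hbij.2 (Ideal.Quotient.mk m x)
  refine ⟨c, ?_⟩
  rw [← Ideal.Quotient.eq_zero_iff_mem, map_sub, ← hc, IsScalarTower.algebraMap_apply k R (R ⧸ m),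
    Ideal.Quotient.algebraMap_eq, sub_self]

/-- unramified at `m` implies trivial stabilizer -/
theorem stabilizer_eq_bot_of_unramified (k : Type u) [Field k] [IsAlgClosed k]
    (R : Type v) [CommRing R] [IsDomain R] [Algebra k R] [Algebra.FiniteType k R]
    (G : Type w) [Group G] [MulSemiringAction G R] [FaithfulSMul G R] [SMulCommClass G k R]
    (B : Type v) [CommRing B] [Algebra B R] [SMulCommClass G B R]
    (m : Ideal R) [m.IsMaximal]
    [Algebra.FormallyUnramified B (Localization.AtPrime m)] :
    MulAction.stabilizer G m = ⊥ := by
  rw [Subgroup.eq_bot_iff_forall]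
  intro σ hσ
  rw [MulAction.mem_stabilizer_iff] at hσ
  have hmem : ∀ y : R, y ∈ m → σ • y ∈ m := fun y hy => by
    have := (Ideal.smul_mem_pointwise_smul_iff (a := σ)).mpr hy
    rwa [hσ] at this
  let f : R →+* R := MulSemiringAction.toRingHom G R σ
  have hcomap : m = m.comap f := by
    ext x
    rw [Ideal.mem_comap]
    change x ∈ m ↔ σ • x ∈ m
    refine ⟨hmem x, fun hx => ?_⟩
    have := (Ideal.smul_mem_pointwise_smul_iff (a := σ) (S := m) (x := x))
    rw [hσ] at this
    exact this.mp hx
  let Rm := Localization.AtPrime m
  let σ' : Rm →+* Rm := Localization.localRingHom m m f hcomap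
  let σA : Rm →ₐ[B] Rm :=
    { σ' with
      commutes' := fun b => by
        change σ' (algebraMap B Rm b) = algebraMap B Rm b
        rw [IsScalarTower.algebraMap_apply B R Rm, Localization.localRingHom_to_map]
        change algebraMap R Rm (σ • algebraMap B R b) = _
        rw [smul_algebraMap] }
  have hinert : ∀ x : R, σ • x - x ∈ m := by
    intro x
    obtain ⟨c, hc⟩ := exists_sub_mem k R m x
    have : σ • x - x = σ • (x - algebraMap k R c) - (x - algebraMap k R c) := by
      rw [smul_sub, smul_algebraMap]
      ring
    rw [this]
    exact m.sub_mem (hmem _ hc) hc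
  have hres : (Ideal.Quotient.mk (IsLocalRing.maximalIdeal Rm)).comp σ'
      = Ideal.Quotient.mk (IsLocalRing.maximalIdeal Rm) := by
    apply IsLocalization.ringHom_ext m.primeCompl
    ext x
    simp only [RingHom.comp_apply]
    rw [Localization.localRingHom_to_map, Ideal.Quotient.eq, ← map_sub,
      IsLocalization.AtPrime.to_map_mem_maximal_iff Rm m]
    exact hinert x
  have hnoeth : IsNoetherianRing R := Algebra.FiniteType.isNoetherianRing k R
  have hnoeth' : IsNoetherianRing Rm := IsLocalization.isNoetherianRing m.primeCompl Rm hnoeth
  have hK : ⨅ i, (IsLocalRing.maximalIdeal Rm) ^ i = ⊥ :=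
    Ideal.iInf_pow_eq_bot_of_isLocalRing _ (IsLocalRing.maximalIdeal.isMaximal Rm).ne_top
  have heq : σA = AlgHom.id B Rm :=
    Algebra.FormallyUnramified.ext_of_iInf (I := IsLocalRing.maximalIdeal Rm) hK (fun y => by
      change Ideal.Quotient.mk _ (σ' y) = Ideal.Quotient.mk _ y
      exact RingHom.congr_fun hres y)
  apply FaithfulSMul.eq_of_smul_eq_smul (α := R)
  intro x
  rw [one_smul]
  have h1 := AlgHom.congr_fun heq (algebraMap R Rm x)
  change σ' (algebraMap R Rm x) = algebraMap R Rm x at h1
  rw [Localization.localRingHom_to_map] at h1
  exact IsLocalization.injective Rm m.primeCompl_le_nonZeroDivisors h1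

/-- trivial stabilizer implies étale at `m` -/
theorem isEtaleAt_of_stabilizer_eq_bot (k : Type u) [Field k]
    (R : Type v) [CommRing R] [Algebra k R] [Algebra.FiniteType k R]
    (G : Type w) [Group G] [Finite G] [MulSemiringAction G R]
    (B : Type v) [CommRing B] [Algebra k B] [Algebra B R] [IsScalarTower k B R] [FaithfulSMul B R]
    [SMulCommClass G B R] [Algebra.IsInvariant B R G]
    (m : Ideal R) [m.IsMaximal] (h : MulAction.stabilizer G m = ⊥) :
    Algebra.IsEtaleAt B m := by
  cases nonempty_fintype G
  have hfree : ∀ g : G, g ≠ 1 → ∃ a : R, g • a - a ∉ m := by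
    intro g hg
    have hgm : g • m ≠ m := fun hh =>
      hg (Subgroup.mem_bot.mp (h ▸ MulAction.mem_stabilizer_iff.mpr hh))
    by_contra hcon
    push Not at hcon
    apply hgm
    ext x
    rw [Ideal.mem_pointwise_smul_iff_inv_smul_mem]
    have h1 := hcon (g⁻¹ • x)
    rw [smul_inv_smul] at h1
    constructor
    · intro hx
      have := m.add_mem h1 hx
      simpa using this
    · intro hx
      have := m.sub_mem hx h1
      simpa using this
  have hinj : Function.Injective (algebraMap B R) := FaithfulSMul.algebraMap_injective B R
  let e₀ : B →+* FixedPoints.subring R G :=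
    (algebraMap B R).codRestrict (FixedPoints.subring R G) (fun b g => smul_algebraMap g b)
  have hbij : Function.Bijective e₀ := by
    refine ⟨fun a b hab => hinj (congrArg Subtype.val hab), ?_⟩
    rintro ⟨r, hr⟩
    obtain ⟨b, hb⟩ := Algebra.IsInvariant.isInvariant (A := B) (G := G) r hr
    exact ⟨b, Subtype.ext hb⟩
  let _ : Algebra B (FixedPoints.subring R G) := e₀.toAlgebra
  have hT : IsScalarTower B (FixedPoints.subring R G) R :=
    IsScalarTower.of_algebraMap_eq fun b => rfl
  have hFT : Algebra.FiniteType B R := Algebra.FiniteType.of_restrictScalars_finiteType k B R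
  have hFT₀ : Algebra.FiniteType (FixedPoints.subring R G) R :=
    Algebra.FiniteType.of_restrictScalars_finiteType B (FixedPoints.subring R G) R
  have hint : Algebra.IsIntegral (FixedPoints.subring R G) R := WQ7.isIntegral_fixed G R
  have hfin : Module.Finite (FixedPoints.subring R G) R := Algebra.IsIntegral.finite
  have hE : Algebra.FormallyEtale (FixedPoints.subring R G) (Localization.AtPrime m) :=
    FreeEtale.isEtaleAt_of_free R G m hfree
  have hB₀ : Algebra.FormallyEtale B (FixedPoints.subring R G) :=
    Algebra.FormallyEtale.of_equiv
      (AlgEquiv.ofBijective (Algebra.ofId B (FixedPoints.subring R G)) hbij)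
  have hT2 : IsScalarTower B (FixedPoints.subring R G) (Localization.AtPrime m) := by
    refine IsScalarTower.of_algebraMap_eq fun b => ?_
    rw [IsScalarTower.algebraMap_apply B R (Localization.AtPrime m),
      IsScalarTower.algebraMap_apply (FixedPoints.subring R G) R (Localization.AtPrime m)]
    rfl
  exact Algebra.FormallyEtale.comp B (FixedPoints.subring R G) (Localization.AtPrime m)

/-- Let k be an algebraically closed field of characteristic zero, R a finitely generated commutative
k-algebra which is an integrally closed domain (a normal irreducible affine variety X), and G a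
finite group acting faithfully on R by k-algebra automorphisms. Let B be a commutative k-algebra
with an injective algebra map B → R, compatible with the k-structures and G-invariant, whose image
is exactly the subring of G-invariants (so Spec R → Spec B is the quotient morphism X → X/G). Then
for a maximal ideal m of R (a closed point x of X), R is étale over B at m (the local ring R_m is
formally étale over B) if and only if the stabilizer of m in G is trivial. -/
theorem result (k : Type u) [Field k] [IsAlgClosed k] [CharZero k]
    (R : Type v) [CommRing R] [IsDomain R] [IsIntegrallyClosed R] [Algebra k R] [Algebra.FiniteType k R]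
    (G : Type w) [Group G] [Finite G] [MulSemiringAction G R] [FaithfulSMul G R] [SMulCommClass G k R]
    (B : Type v) [CommRing B] [Algebra k B] [Algebra B R] [IsScalarTower k B R] [FaithfulSMul B R]
    [SMulCommClass G B R] [Algebra.IsInvariant B R G]
    (m : Ideal R) [m.IsMaximal] :
    Algebra.IsEtaleAt B m ↔ MulAction.stabilizer G m = ⊥ := by
  constructor
  · intro h
    have hfe : Algebra.FormallyEtale B (Localization.AtPrime m) := h
    have : Algebra.FormallyUnramified B (Localization.AtPrime m) := inferInstance
    exact stabilizer_eq_bot_of_unramified k R G B m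
  · intro h
    exact isEtaleAt_of_stabilizer_eq_bot k R G B m h

end Groth.Agent.S19402
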