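import Groth.Statements.S19406
import Groth.Agent.Lib.Helper75.ChiStabG

set_option autoImplicit false
universe u
open TensorProduct
open GLin

namespace Groth.Agent.S19406

/-- Let k be an algebraically closed field of characteristic zero, A a finitely generated commutative
Hopf algebra over k which is an integral domain and all of whose finite-dimensional comodules are
semisimple (a connected reductive group G), R a reduced finitely generated commutative k-algebra
with a multiplicative A-coaction (G acting on the affine variety X = Spec R), and χ a group-like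
element of A (a character of G). Then there is a set E of G-invariant functions on X such that, for
every k-point x of X whose orbit is closed, χ − 1 lies in the stabilizer ideal of x (χ is trivial on
the stabilizer of x) if and only if some member of E does not vanish at x: the set of points of X//G
over which the closed orbit has stabilizer on which χ is trivial is open. (The published statement
allows any reductive G; this row assumes G connected, the case the source's argument covers.) -/
theorem result (k : Type u) [Field k] [IsAlgClosed k] [CharZero k]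
    (A : Type u) [CommRing A] [IsDomain A] [HopfAlgebra k A] [Algebra.FiniteType k A] (hG : HopfRep.IsLinearlyReductive k A)
    (R : Type u) [CommRing R] [IsReduced R] [Algebra k R] [Algebra.FiniteType k R] [HopfRep.Comod k A R] [GLin.IsCoactAlg k A R]
    (χ : A) (hχ : IsGroupLikeElem k χ) :
    ∃ E : Set R, E ⊆ GLin.invariants k A R ∧
      ∀ x : R →ₐ[k] k, GLin.IsClosedOrbit k A x →
        (χ - 1 ∈ GLin.stabIdeal k A x ↔ ∃ f ∈ E, x f ≠ 0) := by
  classical
  let g : GroupLike k A := ⟨χ, hχ⟩
  have hcz1 : Groth.Agent.Lib.Helper75.ChiStab.cz g 1 = χ := Groth.Agent.Lib.Helper75.ChiStab.cz_one g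
  refine ⟨{F | ∃ f f' : R, HopfRep.Comod.coact (k := k) (A := A) f = f ⊗ₜ[k] χ ∧
      HopfRep.Comod.coact (k := k) (A := A) f' =
        f' ⊗ₜ[k] Groth.Agent.Lib.Helper75.ChiStab.cz g (-1) ∧ F = f * f'}, ?_, ?_⟩
  · rintro F ⟨f, f', hf, hf', rfl⟩
    rw [SetLike.mem_coe, GLin.mem_invariants_iff, GLin.IsCoactAlg.coact_mul, hf, hf',
      Algebra.TensorProduct.tmul_mul_tmul, ← hcz1,
      Groth.Agent.Lib.Helper75.ChiStab.cz_mul_neg]
  · intro x hx
    constructor
    · intro hstab
      obtain ⟨⟨f, hf, hxf⟩, ⟨f', hf', hxf'⟩⟩ :=
        Groth.Agent.Lib.Helper75.ChiStab.one_mem_Gam g hG x hx hstab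
      rw [hcz1] at hf
      refine ⟨f * f', ⟨f, f', hf, hf', rfl⟩, ?_⟩
      rw [map_mul]
      exact mul_ne_zero hxf hxf'
    · rintro ⟨F, ⟨f, f', hf, hf', rfl⟩, hxF⟩
      rw [map_mul] at hxF
      have hxf : x f ≠ 0 := left_ne_zero_of_mul hxF
      have h1 : GLin.orbitHom k A x f = x f • χ := by
        have := Groth.Agent.Lib.Helper75.ChiStab.orbitHom_of_eigen g x f 1 (by rw [hcz1]; exact hf)
        rw [hcz1] at this
        exact this
      have hmem : f - algebraMap k R (x f) ∈ RingHom.ker x := by
        rw [RingHom.mem_ker, map_sub]
        change x f - x (algebraMap k R (x f)) = 0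
        rw [AlgHom.commutes]
        exact sub_self _
      have h2 : GLin.orbitHom k A x (f - algebraMap k R (x f)) ∈ GLin.stabIdeal k A x :=
        Ideal.mem_map_of_mem _ hmem
      rw [map_sub, h1, AlgHom.commutes, Algebra.algebraMap_eq_smul_one, ← smul_sub] at h2
      have h3 := (GLin.stabIdeal k A x).smul_mem ((x f)⁻¹ • (1 : A)) h2
      rw [smul_eq_mul, smul_mul_assoc, one_mul, smul_smul, inv_mul_cancel₀ hxf, one_smul] at h3
      exact h3

end Groth.Agent.S19406
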