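import Groth.Statements.S19408
import Groth.Agent.Lib.Helper75.StrEtA

set_option autoImplicit false
universe u
open TensorProduct
open GLin

namespace Groth.Agent.S19408

/-- Let k be an algebraically closed field of characteristic zero, A a finitely generated commutative
Hopf algebra over k all of whose finite-dimensional comodules are semisimple (a reductive group G),
S and R finitely generated commutative k-algebras with multiplicative A-coactions (G acting on
affine Y = Spec S and X = Spec R), S → R an algebra map compatible with the coactions (a G-morphism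
θ : X → Y), S₀ → S and R₀ → R injective k-algebra maps whose images are the subrings of invariants,
and S₀ → R₀ an algebra map with S₀ → R₀ → R equal to S₀ → S → R (θ/G). Suppose R is étale over S, R₀
is étale over S₀, and the canonical map S ⊗_{S₀} R₀ → R is bijective (θ and θ/G étale and X ≅ Y
×_{Y//G} X//G). Let J be an ideal of S which is a subcomodule (Y' = V(J) a closed G-invariant
subscheme), let S/J and R/JR carry A-coactions for which the quotient maps are compatible with the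
coactions (the induced actions on Y' and X' = Y' ×_Y X), and let S₁ → S/J and R₁ → R/JR be injective
k-algebra maps whose images are the subrings of invariants, with S₁ → R₁ an algebra map such that S₁
→ R₁ → R/JR equals S₁ → S/J → R/JR. Then R/JR is étale over S/J, R₁ is étale over S₁, and the
canonical map (S/J) ⊗_{S₁} R₁ → R/JR is bijective (θ' : X' → Y' and θ'/G are étale and X' ≅ Y'
×_{Y'//G} X'//G). -/
theorem result (k : Type u) [Field k] [IsAlgClosed k] [CharZero k]
    (A : Type u) [CommRing A] [HopfAlgebra k A] [Algebra.FiniteType k A] (hG : HopfRep.IsLinearlyReductive k A)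
    (S : Type u) [CommRing S] [Algebra k S] [Algebra.FiniteType k S] [HopfRep.Comod k A S] [GLin.IsCoactAlg k A S]
    (R : Type u) [CommRing R] [Algebra k R] [Algebra.FiniteType k R] [HopfRep.Comod k A R] [GLin.IsCoactAlg k A R]
    [Algebra S R] [IsScalarTower k S R]
    (hequiv : (∀ s : S, HopfRep.Comod.coact (k := k) (A := A) (algebraMap S R s) =
      Algebra.TensorProduct.map (IsScalarTower.toAlgHom k S R) (AlgHom.id k A) (HopfRep.Comod.coact (k := k) (A := A) s)))
    (S₀ : Type u) [CommRing S₀] [Algebra k S₀] [Algebra S₀ S] [IsScalarTower k S₀ S]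
    (hS₀i : Function.Injective (algebraMap S₀ S)) (hS₀ : (IsScalarTower.toAlgHom k S₀ S).range = GLin.invariants k A S)
    (R₀ : Type u) [CommRing R₀] [Algebra k R₀] [Algebra R₀ R] [IsScalarTower k R₀ R]
    (hR₀i : Function.Injective (algebraMap R₀ R)) (hR₀ : (IsScalarTower.toAlgHom k R₀ R).range = GLin.invariants k A R)
    [Algebra S₀ R₀] [Algebra S₀ R] [IsScalarTower S₀ S R] [IsScalarTower S₀ R₀ R]
    (het : Algebra.Etale S R) (het₀ : Algebra.Etale S₀ R₀)
    (hcart : Function.Bijective (Algebra.TensorProduct.productMap (IsScalarTower.toAlgHom S₀ S R) (IsScalarTower.toAlgHom S₀ R₀ R)))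
    (J : Ideal S) (hJ : HopfRep.IsSubcomod (k := k) (A := A) (J.restrictScalars k))
    [HopfRep.Comod k A (S ⧸ J)] [GLin.IsCoactAlg k A (S ⧸ J)]
    (hqS : (∀ s : S, HopfRep.Comod.coact (k := k) (A := A) ((Ideal.Quotient.mkₐ k J) s) =
        Algebra.TensorProduct.map (Ideal.Quotient.mkₐ k J) (AlgHom.id k A) (HopfRep.Comod.coact (k := k) (A := A) s)))
    [HopfRep.Comod k A (R ⧸ J.map (algebraMap S R))] [GLin.IsCoactAlg k A (R ⧸ J.map (algebraMap S R))]
    (hqR : (∀ s : R, HopfRep.Comod.coact (k := k) (A := A) ((Ideal.Quotient.mkₐ k (J.map (algebraMap S R))) s) =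
        Algebra.TensorProduct.map (Ideal.Quotient.mkₐ k (J.map (algebraMap S R))) (AlgHom.id k A) (HopfRep.Comod.coact (k := k) (A := A) s)))
    (S₁ : Type u) [CommRing S₁] [Algebra k S₁] [Algebra S₁ (S ⧸ J)] [IsScalarTower k S₁ (S ⧸ J)]
    (hS₁i : Function.Injective (algebraMap S₁ (S ⧸ J)))
    (hS₁ : (IsScalarTower.toAlgHom k S₁ (S ⧸ J)).range = GLin.invariants k A (S ⧸ J))
    (R₁ : Type u) [CommRing R₁] [Algebra k R₁] [Algebra R₁ (R ⧸ J.map (algebraMap S R))] [IsScalarTower k R₁ (R ⧸ J.map (algebraMap S R))]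
    (hR₁i : Function.Injective (algebraMap R₁ (R ⧸ J.map (algebraMap S R))))
    (hR₁ : (IsScalarTower.toAlgHom k R₁ (R ⧸ J.map (algebraMap S R))).range = GLin.invariants k A (R ⧸ J.map (algebraMap S R)))
    [Algebra S₁ R₁] [Algebra S₁ (R ⧸ J.map (algebraMap S R))]
    [IsScalarTower S₁ (S ⧸ J) (R ⧸ J.map (algebraMap S R))] [IsScalarTower S₁ R₁ (R ⧸ J.map (algebraMap S R))] :
    Algebra.Etale (S ⧸ J) (R ⧸ J.map (algebraMap S R)) ∧ Algebra.Etale S₁ R₁ ∧
      Function.Bijective (Algebra.TensorProduct.productMap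
        (IsScalarTower.toAlgHom S₁ (S ⧸ J) (R ⧸ J.map (algebraMap S R)))
        (IsScalarTower.toAlgHom S₁ R₁ (R ⧸ J.map (algebraMap S R)))) := by
  classical
  have hmapinv : ∀ {V W : Type u} [CommRing V] [Algebra k V] [HopfRep.Comod k A V]
      [CommRing W] [Algebra k W] [HopfRep.Comod k A W] (f : V →ₐ[k] W)
      (_ : ∀ s : V, HopfRep.Comod.coact (k := k) (A := A) (f s) =
        Algebra.TensorProduct.map f (AlgHom.id k A) (HopfRep.Comod.coact (k := k) (A := A) s))
      (v : V), HopfRep.Comod.coact (k := k) (A := A) v = v ⊗ₜ[k] (1 : A) →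
        HopfRep.Comod.coact (k := k) (A := A) (f v) = f v ⊗ₜ[k] (1 : A) := by
    intro V W _ _ _ _ _ _ f hf v hv
    rw [hf, hv]; simp
  let qS : S →ₐ[k] S ⧸ J := Ideal.Quotient.mkₐ k J
  let qR : R →ₐ[k] R ⧸ (J.map (algebraMap S R)) := Ideal.Quotient.mkₐ k (J.map (algebraMap S R))
  let φ : S →ₐ[k] R := IsScalarTower.toAlgHom k S R
  have qSsurj : Function.Surjective qS := Ideal.Quotient.mkₐ_surjective k J
  have qRsurj : Function.Surjective qR := Ideal.Quotient.mkₐ_surjective k (J.map (algebraMap S R))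
  -- membership helpers
  have memS : ∀ s₀ : S₀, algebraMap S₀ S s₀ ∈ GLin.invariants k A S := fun s₀ => by
    rw [← hS₀]; exact ⟨s₀, rfl⟩
  have memR : ∀ r₀ : R₀, algebraMap R₀ R r₀ ∈ GLin.invariants k A R := fun r₀ => by
    rw [← hR₀]; exact ⟨r₀, rfl⟩
  have memS₁ : ∀ s₁ : S₁, algebraMap S₁ (S ⧸ J) s₁ ∈ GLin.invariants k A (S ⧸ J) := fun s₁ => by
    rw [← hS₁]; exact ⟨s₁, rfl⟩
  have memR₁ : ∀ r₁ : R₁, algebraMap R₁ (R ⧸ (J.map (algebraMap S R))) r₁ ∈ GLin.invariants k A (R ⧸ (J.map (algebraMap S R))) := fun r₁ => by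
    rw [← hR₁]; exact ⟨r₁, rfl⟩
  have exS : ∀ s ∈ GLin.invariants k A S, ∃ s₀ : S₀, algebraMap S₀ S s₀ = s := fun s hs => by
    rw [← hS₀] at hs; exact hs
  have exR : ∀ r ∈ GLin.invariants k A R, ∃ r₀ : R₀, algebraMap R₀ R r₀ = r := fun r hr => by
    rw [← hR₀] at hr; exact hr
  have exS₁ : ∀ s ∈ GLin.invariants k A (S ⧸ J), ∃ s₁ : S₁, algebraMap S₁ (S ⧸ J) s₁ = s :=
    fun s hs => by rw [← hS₁] at hs; exact hs
  have exR₁ : ∀ r ∈ GLin.invariants k A (R ⧸ (J.map (algebraMap S R))), ∃ r₁ : R₁, algebraMap R₁ (R ⧸ (J.map (algebraMap S R))) r₁ = r :=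
    fun r hr => by rw [← hR₁] at hr; exact hr
  have invqS : ∀ s ∈ GLin.invariants k A S, qS s ∈ GLin.invariants k A (S ⧸ J) :=
    fun s hs => hmapinv qS hqS s hs
  have invqR : ∀ r ∈ GLin.invariants k A R, qR r ∈ GLin.invariants k A (R ⧸ (J.map (algebraMap S R))) :=
    fun r hr => hmapinv qR hqR r hr
  -- the induced maps on invariants
  obtain ⟨σ, hσ⟩ := Groth.Agent.Lib.Helper75.StrEt.exists_lift_of_injective
    (algebraMap S₁ (S ⧸ J)) hS₁i ((qS : S →+* S ⧸ J).comp (algebraMap S₀ S))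
    (fun s₀ => exS₁ _ (invqS _ (memS s₀)))
  obtain ⟨τ, hτ⟩ := Groth.Agent.Lib.Helper75.StrEt.exists_lift_of_injective
    (algebraMap R₁ (R ⧸ (J.map (algebraMap S R)))) hR₁i ((qR : R →+* R ⧸ (J.map (algebraMap S R))).comp (algebraMap R₀ R))
    (fun r₀ => exR₁ _ (invqR _ (memR r₀)))
  have hσ' : ∀ s₀ : S₀, algebraMap S₁ (S ⧸ J) (σ s₀) = qS (algebraMap S₀ S s₀) := hσ
  have hτ' : ∀ r₀ : R₀, algebraMap R₁ (R ⧸ (J.map (algebraMap S R))) (τ r₀) = qR (algebraMap R₀ R r₀) := hτ
  have σsurj : Function.Surjective σ := by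
    intro s₁
    obtain ⟨s, hs, hs'⟩ := Groth.Agent.Lib.Helper75.StrEt.exists_invariant_lift hG qS hqS qSsurj
      (algebraMap S₁ (S ⧸ J) s₁) (memS₁ s₁)
    obtain ⟨s₀, rfl⟩ := exS s hs
    exact ⟨s₀, hS₁i (by rw [hσ']; exact hs')⟩
  have τsurj : Function.Surjective τ := by
    intro r₁
    obtain ⟨r, hr, hr'⟩ := Groth.Agent.Lib.Helper75.StrEt.exists_invariant_lift hG qR hqR qRsurj
      (algebraMap R₁ (R ⧸ (J.map (algebraMap S R))) r₁) (memR₁ r₁)
    obtain ⟨r₀, rfl⟩ := exR r hr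
    exact ⟨r₀, hR₁i (by rw [hτ']; exact hr')⟩
  have hcomm : ∀ s₀ : S₀, τ (algebraMap S₀ R₀ s₀) = algebraMap S₁ R₁ (σ s₀) := by
    intro s₀
    apply hR₁i
    rw [hτ', ← IsScalarTower.algebraMap_apply S₁ R₁ (R ⧸ (J.map (algebraMap S R))),
      IsScalarTower.algebraMap_apply S₁ (S ⧸ J) (R ⧸ (J.map (algebraMap S R))), hσ',
      ← IsScalarTower.algebraMap_apply S₀ R₀ R, IsScalarTower.algebraMap_apply S₀ S R]
    rfl
  -- `R` is generated by `S` and the invariants
  have hgen : ∀ w : R, w ∈ AddSubgroup.closure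
      {x | ∃ (s : S) (ρ : R), ρ ∈ GLin.invariants k A R ∧ x = φ s * ρ} := by
    intro w
    obtain ⟨z, rfl⟩ := hcart.2 w
    induction z using TensorProduct.induction_on with
    | zero => rw [map_zero]; exact AddSubgroup.zero_mem _
    | add a b ha hb => rw [map_add]; exact AddSubgroup.add_mem _ ha hb
    | tmul s r₀ =>
      apply AddSubgroup.subset_closure
      refine ⟨s, algebraMap R₀ R r₀, memR r₀, ?_⟩
      rw [Algebra.TensorProduct.productMap_apply_tmul]
      rfl
  have hker : ∀ r₀ : R₀, τ r₀ = 0 → r₀ ∈ (RingHom.ker σ).map (algebraMap S₀ R₀) := by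
    intro r₀ h0
    have h1 : qR (algebraMap R₀ R r₀) = 0 := by rw [← hτ', h0, map_zero]
    have h2 : algebraMap R₀ R r₀ ∈ (J.map (algebraMap S R)) := Ideal.Quotient.eq_zero_iff_mem.mp h1
    have h3 := Groth.Agent.Lib.Helper75.StrEt.mem_span_invariants hG φ hequiv hgen J hJ
      (algebraMap R₀ R r₀) (memR r₀) h2
    have hle : AddSubgroup.closure
        {x | ∃ (j : S) (ρ : R), j ∈ J ∧ j ∈ GLin.invariants k A S ∧ ρ ∈ GLin.invariants k A R ∧
          x = φ j * ρ} ≤
        (((RingHom.ker σ).map (algebraMap S₀ R₀)).toAddSubgroup).map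
          ((algebraMap R₀ R : R₀ →+* R) : R₀ →+ R) := by
      rw [AddSubgroup.closure_le]
      rintro x ⟨j, ρ, hjJ, hjinv, hρ, rfl⟩
      obtain ⟨s₀, rfl⟩ := exS j hjinv
      obtain ⟨r₀', rfl⟩ := exR ρ hρ
      have hs₀ : σ s₀ = 0 := by
        apply hS₁i
        rw [hσ', map_zero]
        exact Ideal.Quotient.eq_zero_iff_mem.mpr hjJ
      refine ⟨algebraMap S₀ R₀ s₀ * r₀', ?_, ?_⟩
      · exact Ideal.mul_mem_right _ _ (Ideal.mem_map_of_mem _ ((RingHom.mem_ker).mpr hs₀))
      · change algebraMap R₀ R (algebraMap S₀ R₀ s₀ * r₀') = _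
        rw [map_mul, ← IsScalarTower.algebraMap_apply S₀ R₀ R, IsScalarTower.algebraMap_apply S₀ S R]
        rfl
    obtain ⟨y, hy, hy'⟩ := hle h3
    have : y = r₀ := hR₀i hy'
    rw [← this]; exact hy
  have G2 : Algebra.Etale S₁ R₁ :=
    Groth.Agent.Lib.Helper75.StrEt.etale_of_surjective_square S₀ R₀ S₁ R₁ σ σsurj τ τsurj hcomm hker
  have G1 : Algebra.Etale (S ⧸ J) (R ⧸ (J.map (algebraMap S R))) :=
    Groth.Agent.Lib.Helper75.StrEt.etale_quotient S R J
  refine ⟨G1, G2, ?_⟩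
  -- the comparison map `S ⊗[S₀] R₀ → (S/J) ⊗[S₁] R₁`
  let f₀ : S →+ R₀ →+ (S ⧸ J) ⊗[S₁] R₁ :=
    AddMonoidHom.mk' (fun s => AddMonoidHom.mk' (fun r₀ => qS s ⊗ₜ[S₁] τ r₀)
      (fun a b => by rw [map_add, TensorProduct.tmul_add]))
      (fun a b => by
        ext r₀
        simp only [AddMonoidHom.mk'_apply, AddMonoidHom.add_apply]
        rw [map_add, TensorProduct.add_tmul])
  have hf₀ : ∀ (c : S₀) (s : S) (r₀ : R₀), f₀ (c • s) r₀ = f₀ s (c • r₀) := by
    intro c s r₀
    change qS (c • s) ⊗ₜ[S₁] τ r₀ = qS s ⊗ₜ[S₁] τ (c • r₀)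
    have e1 : qS (c • s) = σ c • qS s := by
      rw [Algebra.smul_def, map_mul, Algebra.smul_def, hσ']
    have e2 : τ (c • r₀) = σ c • τ r₀ := by
      rw [Algebra.smul_def, map_mul, Algebra.smul_def, hcomm]
    rw [e1, e2, TensorProduct.smul_tmul]
  let Pm : S ⊗[S₀] R₀ →+ (S ⧸ J) ⊗[S₁] R₁ := TensorProduct.liftAddHom f₀ hf₀
  have hPm : ∀ (s : S) (r₀ : R₀), Pm (s ⊗ₜ[S₀] r₀) = qS s ⊗ₜ[S₁] τ r₀ := fun s r₀ => rfl
  let μ := Algebra.TensorProduct.productMap (IsScalarTower.toAlgHom S₀ S R)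
    (IsScalarTower.toAlgHom S₀ R₀ R)
  let μ' := Algebra.TensorProduct.productMap
    (IsScalarTower.toAlgHom S₁ (S ⧸ J) (R ⧸ (J.map (algebraMap S R))))
    (IsScalarTower.toAlgHom S₁ R₁ (R ⧸ (J.map (algebraMap S R))))
  have hb : ∀ w : S ⊗[S₀] R₀, μ' (Pm w) = qR (μ w) := by
    intro w
    induction w using TensorProduct.induction_on with
    | zero => simp
    | add a b ha hb => rw [map_add, map_add, map_add, map_add, ha, hb]
    | tmul s r₀ =>
      rw [hPm]
      simp only [μ, μ', Algebra.TensorProduct.productMap_apply_tmul, map_mul]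
      congr 1
      exact (hτ' r₀)
  have hc : Function.Surjective Pm := by
    intro z
    induction z using TensorProduct.induction_on with
    | zero => exact ⟨0, map_zero _⟩
    | add a b ha hb =>
      obtain ⟨wa, rfl⟩ := ha
      obtain ⟨wb, rfl⟩ := hb
      exact ⟨wa + wb, map_add _ _ _⟩
    | tmul a b =>
      obtain ⟨s, rfl⟩ := qSsurj a
      obtain ⟨r₀, rfl⟩ := τsurj b
      exact ⟨s ⊗ₜ[S₀] r₀, hPm s r₀⟩
  -- `Pm` kills the extension of `J`
  have hd : ∀ x ∈ Ideal.map (Algebra.TensorProduct.includeLeft : S →ₐ[S₀] S ⊗[S₀] R₀) J,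
      ∀ v : S ⊗[S₀] R₀, Pm (v * x) = 0 := by
    intro x hx
    have hx' : x ∈ Ideal.span ((Algebra.TensorProduct.includeLeft : S →ₐ[S₀] S ⊗[S₀] R₀) ''
        (J : Set S)) := hx
    clear hx
    induction hx' using Submodule.span_induction with
    | zero => intro v; rw [mul_zero, map_zero]
    | add a b _ _ ha hb => intro v; rw [mul_add, map_add, ha, hb, add_zero]
    | mem a ha =>
      obtain ⟨j, hj, rfl⟩ := ha
      intro v
      induction v using TensorProduct.induction_on with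
      | zero => rw [zero_mul, map_zero]
      | add a b ha hb => rw [add_mul, map_add, ha, hb, add_zero]
      | tmul s r₀ =>
        rw [Algebra.TensorProduct.includeLeft_apply, Algebra.TensorProduct.tmul_mul_tmul, hPm]
        have : qS (s * j) = 0 := Ideal.Quotient.eq_zero_iff_mem.mpr (J.mul_mem_left s hj)
        rw [this, TensorProduct.zero_tmul]
    | smul c a _ ih =>
      intro v
      rw [smul_eq_mul, ← mul_assoc]
      exact ih (v * c)
  constructor
  · -- injectivity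
    rw [injective_iff_map_eq_zero]
    intro z hz
    obtain ⟨w, rfl⟩ := hc z
    have h1 : qR (μ w) = 0 := by rw [← hb]; exact hz
    have h2 : μ w ∈ (J.map (algebraMap S R)) := Ideal.Quotient.eq_zero_iff_mem.mp h1
    have h3 : (J.map (algebraMap S R)) ≤ Ideal.map (μ : S ⊗[S₀] R₀ →+* R)
        (Ideal.map (Algebra.TensorProduct.includeLeft : S →ₐ[S₀] S ⊗[S₀] R₀) J) := by
      rw [Ideal.map_le_iff_le_comap]
      intro j hj
      rw [Ideal.mem_comap]
      have e : algebraMap S R j = (μ : S ⊗[S₀] R₀ →+* R)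
          ((Algebra.TensorProduct.includeLeft : S →ₐ[S₀] S ⊗[S₀] R₀) j) := by
        simp [μ]
      rw [e]
      exact Ideal.mem_map_of_mem _ (Ideal.mem_map_of_mem _ hj)
    replace h2 := h3 h2
    obtain ⟨w', hw', hw''⟩ := (Ideal.mem_map_iff_of_surjective (μ : S ⊗[S₀] R₀ →+* R) hcart.2).mp h2
    have : w' = w := hcart.1 hw''
    rw [← this]
    have := hd w' hw' 1
    rwa [one_mul] at this
  · -- surjectivity
    intro r
    obtain ⟨r', rfl⟩ := qRsurj r
    obtain ⟨w, rfl⟩ := hcart.2 r'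
    exact ⟨Pm w, hb w⟩

end Groth.Agent.S19408
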