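import Groth.Statements.S19412
import Groth.Agent.Lib.Helper23.StabOpen

set_option autoImplicit false
universe u
open TensorProduct
open GLin

namespace Groth.Agent.S19412

open Groth.Agent.Lib.Helper23.GITAffine Groth.Agent.Lib.Helper23.ClosedOrbit
  Groth.Agent.Lib.Helper23.OrbitDim Groth.Agent.Lib.Helper23.StabOpen

/-- Let k be an algebraically closed field of characteristic zero, A a finitely generated commutative
Hopf algebra over k (an algebraic group G), S and R finitely generated commutative k-algebras with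
multiplicative A-coactions (G acting on affine Y = Spec S, X = Spec R), S → R an algebra map
compatible with the coactions (a G-morphism φ : X → Y), S₀ → S and R₀ → R injective k-algebra maps
whose images are the subrings of invariants, and S₀ → R₀ an algebra map with S₀ → R₀ → R equal to S₀
→ S → R (φ/G). Suppose R₀ is étale over S₀ and the canonical map S ⊗_{S₀} R₀ → R is bijective (φ is
strongly étale: φ/G étale and X ≅ Y ×_{Y//G} X//G). Then R is étale over S (φ étale), and for every
k-point x of X: every k-point of G fixing the image point φ(x) fixes x (φ restricted to the orbit of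
x is injective), and the orbit of x is closed if and only if the orbit of φ(x) is closed. (The
published item also asserts that φ is surjective; that fails when φ is the inclusion of a proper
saturated open subset, which is strongly étale, so surjectivity is not asserted here.) -/
theorem result (k : Type u) [Field k] [IsAlgClosed k] [CharZero k]
    (A : Type u) [CommRing A] [HopfAlgebra k A] [Algebra.FiniteType k A]
    (S : Type u) [CommRing S] [Algebra k S] [Algebra.FiniteType k S] [HopfRep.Comod k A S] [GLin.IsCoactAlg k A S]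
    (R : Type u) [CommRing R] [Algebra k R] [Algebra.FiniteType k R] [HopfRep.Comod k A R] [GLin.IsCoactAlg k A R]
    [Algebra S R] [IsScalarTower k S R]
    (hequiv : (∀ s : S, HopfRep.Comod.coact (k := k) (A := A) (algebraMap S R s) =
      Algebra.TensorProduct.map (IsScalarTower.toAlgHom k S R) (AlgHom.id k A) (HopfRep.Comod.coact (k := k) (A := A) s)))
    (S₀ : Type u) [CommRing S₀] [Algebra k S₀] [Algebra S₀ S] [IsScalarTower k S₀ S]
    (hS₀i : Function.Injective (algebraMap S₀ S)) (hS₀ : (IsScalarTower.toAlgHom k S₀ S).range = GLin.invariants k A S)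
    (R₀ : Type u) [CommRing R₀] [Algebra k R₀] [Algebra R₀ R] [IsScalarTower k R₀ R]
    (hR₀i : Function.Injective (algebraMap R₀ R)) (hR₀ : (IsScalarTower.toAlgHom k R₀ R).range = GLin.invariants k A R)
    [Algebra S₀ R₀] [Algebra S₀ R] [IsScalarTower S₀ S R] [IsScalarTower S₀ R₀ R]
    (het₀ : Algebra.Etale S₀ R₀)
    (hcart : Function.Bijective (Algebra.TensorProduct.productMap (IsScalarTower.toAlgHom S₀ S R) (IsScalarTower.toAlgHom S₀ R₀ R))) :
    Algebra.Etale S R ∧
      ∀ x : R →ₐ[k] k,
        (∀ g : A →ₐ[k] k, GLin.actPt k g (x.comp (IsScalarTower.toAlgHom k S R)) = x.comp (IsScalarTower.toAlgHom k S R) →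
          GLin.actPt k g x = x) ∧
        (GLin.IsClosedOrbit k A x ↔ GLin.IsClosedOrbit k A (x.comp (IsScalarTower.toAlgHom k S R))) := by
  classical
  -- notation
  let ι : S →ₐ[k] R := IsScalarTower.toAlgHom k S R
  let P := Algebra.TensorProduct.productMap (IsScalarTower.toAlgHom S₀ S R)
    (IsScalarTower.toAlgHom S₀ R₀ R)
  have hPtmul : ∀ (s : S) (r : R₀), P (s ⊗ₜ[S₀] r) = algebraMap S R s * algebraMap R₀ R r := by
    intro s r
    simp [P]
  -- invariance of the image of `R₀`
  have hR₀fix : ∀ r : R₀, algebraMap R₀ R r ∈ HopfRep.fixedPts k A R := by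
    intro r
    have : algebraMap R₀ R r ∈ GLin.invariants k A R := by
      rw [← hR₀]; exact ⟨r, rfl⟩
    exact this
  have hS₀fix : ∀ r : S₀, algebraMap S₀ S r ∈ HopfRep.fixedPts k A S := by
    intro r
    have : algebraMap S₀ S r ∈ GLin.invariants k A S := by
      rw [← hS₀]; exact ⟨r, rfl⟩
    exact this
  -- two points agreeing on `S` and `R₀` are equal
  have hext : ∀ z z' : R →ₐ[k] k, (∀ s : S, z (algebraMap S R s) = z' (algebraMap S R s)) →
      (∀ r : R₀, z (algebraMap R₀ R r) = z' (algebraMap R₀ R r)) → z = z' := by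
    intro z z' h1 h2
    apply AlgHom.ext
    intro r
    obtain ⟨t, rfl⟩ := hcart.2 r
    induction t using TensorProduct.induction_on with
    | zero => simp
    | add a b ha hb => rw [map_add, map_add, map_add, ha, hb]
    | tmul s r => rw [hPtmul, map_mul, map_mul, h1, h2]
  -- the action on invariants
  have hactR₀ : ∀ (g : A →ₐ[k] k) (x : R →ₐ[k] k) (r : R₀),
      GLin.actPt k g x (algebraMap R₀ R r) = x (algebraMap R₀ R r) := by
    intro g x r
    show g (GLin.orbitHom k A x (algebraMap R₀ R r)) = _
    rw [orbitHom_of_mem_fixedPts x (hR₀fix r), AlgHom.commutes]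
    rfl
  have hactS : ∀ (g : A →ₐ[k] k) (x : R →ₐ[k] k) (s : S),
      GLin.actPt k g x (algebraMap S R s) = GLin.actPt k g (x.comp ι) s := by
    intro g x s
    rw [actPt_comp ι hequiv]
    rfl
  refine ⟨?_, fun x => ⟨?_, ?_, ?_⟩⟩
  · -- `R` is étale over `S`
    let f : S ⊗[S₀] R₀ →ₐ[S] R :=
      Algebra.TensorProduct.productLeftAlgHom (Algebra.ofId S R) (IsScalarTower.toAlgHom S₀ R₀ R)
    have hf : ∀ t, f t = P t := by
      intro t
      induction t using TensorProduct.induction_on with
      | zero => simp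
      | add a b ha hb => rw [map_add, map_add, ha, hb]
      | tmul s r => rw [hPtmul]; simp [f, Algebra.ofId_apply]
    have hbij : Function.Bijective f := by
      have : (f : S ⊗[S₀] R₀ → R) = P := funext hf
      rw [this]; exact hcart
    let e : S ⊗[S₀] R₀ ≃ₐ[S] R := AlgEquiv.ofBijective f hbij
    have : Algebra.Etale S (S ⊗[S₀] R₀) := inferInstance
    exact Algebra.Etale.of_equiv e
  · intro g hg
    apply hext
    · intro s
      rw [hactS, hg]
      rfl
    · intro r
      exact hactR₀ g x r
  · -- closed orbit of `x` implies closed orbit of its image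
    intro hx
    rw [isClosedOrbit_iff] at hx ⊢
    intro zY hzY
    have hcompat : ∀ s₀ : S₀, zY (algebraMap S₀ S s₀) =
        x (algebraMap R₀ R (algebraMap S₀ R₀ s₀)) := by
      intro s₀
      have h1 := hzY (sub_mem_ker_orbitHom (A := A) (x.comp ι) (hS₀fix s₀))
      rw [RingHom.mem_ker] at h1
      have h1' : zY (algebraMap S₀ S s₀ - algebraMap k S ((x.comp ι) (algebraMap S₀ S s₀))) = 0 := h1
      rw [map_sub, AlgHom.commutes, sub_eq_zero] at h1'
      rw [h1']
      show x (algebraMap S R (algebraMap S₀ S s₀)) = _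
      rw [← IsScalarTower.algebraMap_apply S₀ S R, ← IsScalarTower.algebraMap_apply S₀ R₀ R]
    let x₀ : R₀ →+* k := (x : R →+* k).comp (algebraMap R₀ R)
    let _ : Algebra S₀ k := ((zY : S →+* k).comp (algebraMap S₀ S)).toAlgebra
    let φ₁ : S →ₐ[S₀] k := { (zY : S →+* k) with commutes' := fun _ => rfl }
    let φ₂ : R₀ →ₐ[S₀] k := { x₀ with commutes' := fun s₀ => (hcompat s₀).symm }
    let ψ : S ⊗[S₀] R₀ →ₐ[S₀] k := Algebra.TensorProduct.productMap φ₁ φ₂
    let e : S ⊗[S₀] R₀ ≃+* R := RingEquiv.ofBijective P hcart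
    let z₀ : R →+* k := (ψ : S ⊗[S₀] R₀ →+* k).comp (e.symm : R →+* S ⊗[S₀] R₀)
    have hz₀P : ∀ t, z₀ (P t) = ψ t := by
      intro t
      show ψ (e.symm (e t)) = ψ t
      rw [e.symm_apply_apply]
    have hψ : ∀ (s : S) (r : R₀), ψ (s ⊗ₜ[S₀] r) = zY s * x (algebraMap R₀ R r) := by
      intro s r
      show Algebra.TensorProduct.productMap φ₁ φ₂ (s ⊗ₜ[S₀] r) = _
      rw [Algebra.TensorProduct.productMap_apply_tmul]
      rfl
    have hz₀S : ∀ s : S, z₀ (algebraMap S R s) = zY s := by
      intro s
      have : algebraMap S R s = P (s ⊗ₜ[S₀] (1 : R₀)) := by rw [hPtmul, map_one, mul_one]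
      rw [this, hz₀P, hψ, map_one, map_one, mul_one]
    let z : R →ₐ[k] k := { z₀ with
      commutes' := fun c => by
        show z₀ (algebraMap k R c) = algebraMap k k c
        rw [IsScalarTower.algebraMap_apply k S R, hz₀S, AlgHom.commutes] }
    have hzz₀ : ∀ r, z r = z₀ r := fun _ => rfl
    have hz : RingHom.ker (GLin.orbitHom k A x : R →+* A) ≤ RingHom.ker (z : R →+* k) := by
      intro r hr
      rw [RingHom.mem_ker] at hr ⊢
      obtain ⟨t, rfl⟩ := hcart.2 r
      obtain ⟨T, rfl⟩ := TensorProduct.exists_finset t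
      let s : S := ∑ p ∈ T, x (algebraMap R₀ R p.2) • p.1
      have h1 : GLin.orbitHom k A (x.comp ι) s = 0 := by
        have hr' : GLin.orbitHom k A x (P (∑ p ∈ T, p.1 ⊗ₜ[S₀] p.2)) = 0 := hr
        rw [← hr', map_sum, map_sum, map_sum]
        refine Finset.sum_congr rfl (fun p _ => ?_)
        rw [hPtmul, map_mul, orbitHom_of_mem_fixedPts x (hR₀fix p.2), map_smul,
          orbitHom_comp ι hequiv, Algebra.smul_def, mul_comm]
        rfl
      have h2 : zY s = 0 := hzY h1
      show z (P (∑ p ∈ T, p.1 ⊗ₜ[S₀] p.2)) = 0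
      rw [hzz₀, hz₀P, map_sum]
      rw [← h2, map_sum]
      refine Finset.sum_congr rfl (fun p _ => ?_)
      rw [hψ, map_smul, smul_eq_mul, mul_comm]
    obtain ⟨g, hg⟩ := hx z hz
    refine ⟨g, ?_⟩
    apply AlgHom.ext
    intro s
    rw [← hactS, ← hg, hzz₀, hz₀S]
  · -- closed orbit of the image implies closed orbit of `x`
    intro hy
    rw [isClosedOrbit_iff] at hy ⊢
    intro z hz
    have hzY : RingHom.ker (GLin.orbitHom k A (x.comp ι) : S →+* A) ≤
        RingHom.ker ((z.comp ι : S →ₐ[k] k) : S →+* k) := by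
      rw [ker_orbitHom_comp ι hequiv]
      intro s hs
      exact hz hs
    obtain ⟨g, hg⟩ := hy (z.comp ι) hzY
    refine ⟨g, hext _ _ ?_ ?_⟩
    · intro s
      rw [hactS, ← hg]
      rfl
    · intro r
      rw [hactR₀]
      have h1 := hz (sub_mem_ker_orbitHom (A := A) x (hR₀fix r))
      rw [RingHom.mem_ker] at h1
      have h1' : z (algebraMap R₀ R r - algebraMap k R (x (algebraMap R₀ R r))) = 0 := h1
      rw [map_sub, AlgHom.commutes, sub_eq_zero] at h1'
      exact h1'

end Groth.Agent.S19412
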