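import Groth.Statements.S19414
import Groth.Agent.Lib.Helper79.WeilSwap

set_option autoImplicit false
universe u v
open CategoryTheory AlgebraicGeometry
open WeilCoh

namespace Groth.Agent.S19414

/-- Let H be a Weil cohomology theory with coefficients in a field K of characteristic zero on
nonsingular connected projective varieties over an algebraically closed field k, X such a variety, P
= X × X with its projections p and q, and d : X → P the diagonal (the section of p and of q). For a
closed irreducible subset Z ⊆ X with generic point η and a class α ∈ H^i(X), the cohomological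
correspondence given by the class of the diagonal image d(Z) ⊆ P acts on α as cup product with the
class of Z: q_*(p^*(α) · cl_P(d(Z))) = α · cl_X(Z) in the total cohomology ring of X. The
push-forward q_* (Gysin map, defined through Poincaré duality) is taken on the homogeneous component
of degree i + 2 codim_P(d(Z)) that contains p^*(α) · cl_P(d(Z)). The published statement takes Z to
be a smooth hyperplane section, in which case cup product with cl_X(Z) is the Lefschetz operator L
and the identity says that L is given by an algebraic correspondence; it is stated here for every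
closed irreducible Z, which is what the argument establishes. -/
theorem result (k : Type u) [Field k] [IsAlgClosed k]
    (K : Type v) [Field K] [CharZero K] (T : WeilCoh.Theory k K) (X P : WeilCoh.Var k)
    (p q : P ⟶ X) (hP : WeilCoh.IsProd p q) (d : X ⟶ P) (hdp : d ≫ p = 𝟙 X) (hdq : d ≫ q = 𝟙 X)
    (η : ↥X.obj.left) (i : ℤ) (a : ↥(T.gr X i)) :
    (T.push q (i + 2 * (WeilCoh.codim P.obj.left (WeilCoh.sm d η) : ℤ))
        ⟨T.pull p (a : T.H X) * T.cl P (WeilCoh.sm d η),
          SetLike.mul_mem_graded (T.pull_mem p i a a.2) (T.cl_mem P (WeilCoh.sm d η))⟩ : T.H X) =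
      (a : T.H X) * T.cl X η := by
  have hd : WeilCoh.dim P.obj.left = WeilCoh.dim X.obj.left + WeilCoh.dim X.obj.left :=
    Groth.Agent.Lib.Helper79.Weil.dim_prod T p q hP
  have hpd : WeilCoh.pdim P.obj.left (WeilCoh.sm d η) = WeilCoh.pdim X.obj.left η :=
    Groth.Agent.Lib.Helper79.Weil.pdim_section d p hdp η
  have h1 := Groth.Agent.Lib.Helper79.Weil.codim_add_pdim P (WeilCoh.sm d η)
  have h2 := Groth.Agent.Lib.Helper79.Weil.codim_add_pdim X η
  rw [hpd, hd] at h1
  push_cast at h1
  have hclX : T.cl X η ∈ T.gr X (2 * (WeilCoh.codim X.obj.left η : ℤ)) := T.cl_mem X η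
  have hclP := T.cl_mem P (WeilCoh.sm d η)
  refine Groth.Agent.Lib.Helper78.eq_of_forall_tr_mul_eq T X _
    (2 * (WeilCoh.dim P.obj.left : ℤ) -
      (i + 2 * (WeilCoh.codim P.obj.left (WeilCoh.sm d η) : ℤ)))
    (by omega) _ _ (T.push q _ _).2
    (Groth.Agent.Lib.Helper78.mem_gr_of_eq T X (by rw [hd]; push_cast; omega)
      (SetLike.mul_mem_graded a.2 hclX)) ?_
  intro y hy
  rw [Groth.Agent.Lib.Helper78.tr_push_mul T q _ _ y hy]
  show T.tr P (T.pull p (a : T.H X) * T.cl P (WeilCoh.sm d η) * T.pull q y) = _
  rw [Groth.Agent.Lib.Helper79.Weil.comm_of_even T P i _ _ _ (T.pull_mem p i a a.2) hclP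
    (Or.inr (by omega)), mul_assoc,
    Groth.Agent.Lib.Helper79.Weil.tr_cl_section_mul T d p hdp η _
      (Groth.Agent.Lib.Helper78.mem_gr_of_eq T P (by rw [hd]; push_cast; omega)
        (SetLike.mul_mem_graded (T.pull_mem p i a a.2) (T.pull_mem q _ y hy))),
    map_mul (T.pull d), Groth.Agent.Lib.Helper79.Weil.pull_section T d p hdp,
    Groth.Agent.Lib.Helper79.Weil.pull_section T d q hdq, ← mul_assoc,
    Groth.Agent.Lib.Helper79.Weil.comm_of_even T X _ i _ _ hclX a.2 (Or.inl (by omega))]

end Groth.Agent.S19414
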