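import Groth.Statements.S19415
import Groth.Agent.Lib.Helper79.WeilProj

set_option autoImplicit false
universe u v
open CategoryTheory AlgebraicGeometry
open WeilCoh

namespace Groth.Agent.S19415

/-- Let H be a Weil cohomology theory with coefficients in a field K of characteristic zero on
nonsingular connected projective varieties over an algebraically closed field k, X such a variety of
dimension n, P = X × X with its projections p, q, and F : X → X an endomorphism such that the
characteristic polynomials of F^* on the cohomology groups H^i(X), i ∈ ℤ, are pairwise coprime in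
K[T]. Then for every i the i-th Künneth projector of X is given by an algebraic correspondence with
coefficients in K: there is a class u in H^{2n}(P), lying in the K-linear span of the classes of
closed irreducible subsets of P, whose action β ↦ q_*(p^*(β) · u) is the identity on H^i(X) and zero
on H^j(X) for every j ≠ i (push-forward q_* taken on the homogeneous piece of degree j + 2n). The
published statement has rational coefficients, X defined over a finite field and F its Frobenius
endomorphism, the coprimality of the characteristic polynomials being deduced there from the Riemann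
hypothesis over finite fields and from the independence of these polynomials of the cohomology
theory; here that coprimality is the hypothesis and F is any endomorphism. -/
theorem result (k : Type u) [Field k]
    [IsAlgClosed k] (K : Type v) [Field K] [CharZero K] (T : WeilCoh.Theory k K)
    (X P : WeilCoh.Var k) (p q : P ⟶ X) (hP : WeilCoh.IsProd p q) (F : X ⟶ X)
    (hF : ∀ i j : ℤ, i ≠ j → IsCoprime (T.pullDeg F i).charpoly (T.pullDeg F j).charpoly)
    (i : ℤ) :
    ∃ u : ↥(T.gr P (2 * (WeilCoh.dim X.obj.left : ℤ))),
      (u : T.H P) ∈ Submodule.span K (Set.range (T.cl P)) ∧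
        ∀ (j : ℤ) (b : ↥(T.gr X j)),
          (T.push q (j + 2 * (WeilCoh.dim X.obj.left : ℤ))
              ⟨T.pull p (b : T.H X) * (u : T.H P),
                SetLike.mul_mem_graded (T.pull_mem p j b b.2) u.2⟩ : T.H X) =
            if j = i then (b : T.H X) else 0 := by
  classical
  choose jm hjm using fun m : ℕ =>
    Groth.Agent.Lib.Helper79.Weil.exists_lift p q hP (Groth.Agent.Lib.Helper79.Weil.Fpow F m) (𝟙 X)
  have hjp : ∀ m, jm m ≫ p = Groth.Agent.Lib.Helper79.Weil.Fpow F m := fun m => (hjm m).1
  have hjq : ∀ m, jm m ≫ q = 𝟙 X := fun m => (hjm m).2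
  have hcop : IsCoprime (T.pullDeg F i).charpoly
      (∏ j ∈ (Finset.Icc (0 : ℤ) (2 * (WeilCoh.dim X.obj.left : ℤ))).erase i,
        (T.pullDeg F j).charpoly) :=
    IsCoprime.prod_right (fun j hj => hF i j (Finset.ne_of_mem_erase hj).symm)
  obtain ⟨a, b', hab⟩ := hcop
  set Pr := ∏ j ∈ (Finset.Icc (0 : ℤ) (2 * (WeilCoh.dim X.obj.left : ℤ))).erase i,
        (T.pullDeg F j).charpoly with hPr
  set g := b' * Pr with hg
  refine ⟨∑ m ∈ Finset.range (g.natDegree + 1), g.coeff m •
        (⟨T.cl P (WeilCoh.sm (jm m) (genericPoint ↥X.obj.left)),
          Groth.Agent.Lib.Helper79.Weil.cl_section_mem T p q hP (jm m) (hjq m)⟩ :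
          ↥(T.gr P (2 * (WeilCoh.dim X.obj.left : ℤ)))), ?_, ?_⟩
  · rw [Submodule.coe_sum]
    refine Submodule.sum_mem _ fun m _ => ?_
    rw [Submodule.coe_smul]
    exact Submodule.smul_mem _ _ (Submodule.subset_span ⟨_, rfl⟩)
  · intro j b
    have key := Groth.Agent.Lib.Helper79.Weil.corr_poly_graph T p q hP F jm hjp hjq g j b
    refine Eq.trans ?_ (key.trans ?_)
    · rfl
    · by_cases hji : j = i
      · subst hji
        rw [if_pos rfl]
        have hg1 : g = 1 - a * (T.pullDeg F j).charpoly := by
          rw [hg]; exact eq_sub_of_add_eq' hab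
        rw [hg1, map_sub, map_one, map_mul, LinearMap.aeval_self_charpoly, mul_zero]
        simp
      · rw [if_neg hji]
        by_cases hj : j ∈ Finset.Icc (0 : ℤ) (2 * (WeilCoh.dim X.obj.left : ℤ))
        · have hdvd : (T.pullDeg F j).charpoly ∣ Pr :=
            Finset.dvd_prod_of_mem _ (Finset.mem_erase.mpr ⟨hji, hj⟩)
          obtain ⟨c, hc⟩ := hdvd
          rw [hg, hc, map_mul, map_mul, LinearMap.aeval_self_charpoly, zero_mul, mul_zero]
          rfl
        · rw [Finset.mem_Icc] at hj
          have hb0 : b = 0 := Subtype.ext
            (Groth.Agent.Lib.Helper79.Weil.eq_zero_of_mem_gr_of_lt T X b.2 (by omega))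
          rw [hb0, map_zero]
          rfl

end Groth.Agent.S19415
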