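import Groth.Statements.S19422
import Mathlib

set_option autoImplicit false
universe u
open TensorProduct LaurentPolynomial
open GIT

namespace Groth.Agent.S19422


section aux

variable {k : Type u} [Field k] {ι : Type u}

theorem prod_tmul_T (s : Finset ι) (a : ι → MvPolynomial ι k) (n : ι → ℤ) :
    ∏ i ∈ s, (a i ⊗ₜ[k] (T (n i) : k[T;T⁻¹])) =
      (∏ i ∈ s, a i) ⊗ₜ[k] (T (∑ i ∈ s, n i) : k[T;T⁻¹]) := by
  classical
  induction s using Finset.induction_on with
  | empty => simp [Algebra.TensorProduct.one_def]
  | insert j s hj ih =>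
    rw [Finset.prod_insert hj, Finset.prod_insert hj, Finset.sum_insert hj, ih,
      Algebra.TensorProduct.tmul_mul_tmul, LaurentPolynomial.T_add]

end aux

/-- Over an algebraically closed field k, let the multiplicative group, whose coordinate Hopf algebra is
the Laurent polynomial ring, act diagonally on affine ι-space, ι finite: the coaction on the
polynomial ring is multiplicative and sends the coordinate function X_i to X_i ⊗ T^(r_i) for
integers r_i. Then a vector v is semistable (some invariant homogeneous polynomial of positive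
degree does not vanish at v) if and only if there are indices i and j, possibly equal, with v_i ≠ 0,
v_j ≠ 0 and r_i ≤ 0 ≤ r_j, i.e. the origin lies in the convex hull of the weights of v. (Stated for
the ambient projective space on its affine cone; the published statement is for a point of a closed
invariant subvariety, whose semistability is that of the point in the ambient space.) -/
theorem result (k : Type u) [Field k] [IsAlgClosed k]
    (ι : Type u) [Fintype ι] [HopfRep.Comod k k[T;T⁻¹] (MvPolynomial ι k)] [GLin.IsCoactAlg k k[T;T⁻¹] (MvPolynomial ι k)]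
    (r : ι → ℤ)
    (hr : ∀ i : ι, HopfRep.Comod.coact (k := k) (A := k[T;T⁻¹]) (MvPolynomial.X i : MvPolynomial ι k) =
      (MvPolynomial.X i : MvPolynomial ι k) ⊗ₜ[k] (T (r i) : k[T;T⁻¹]))
    (v : ι → k) :
    GLin.IsSemistableVec k k[T;T⁻¹] v ↔ ∃ i j : ι, v i ≠ 0 ∧ v j ≠ 0 ∧ r i ≤ 0 ∧ 0 ≤ r j := by
  classical
  set ρ := GLin.coactAlgHom k k[T;T⁻¹] (MvPolynomial ι k) with hρ
  have hρX : ∀ i, ρ (MvPolynomial.X i) = (MvPolynomial.X i : MvPolynomial ι k) ⊗ₜ[k] (T (r i) : k[T;T⁻¹]) :=
    fun i => hr i
  -- weight of a monomial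
  set w : (ι →₀ ℕ) → ℤ := fun m => ∑ i ∈ m.support, (m i : ℤ) * r i with hw
  have hρmon : ∀ (m : ι →₀ ℕ) (c : k), ρ (MvPolynomial.monomial m c) =
      (MvPolynomial.monomial m c) ⊗ₜ[k] (T (w m) : k[T;T⁻¹]) := by
    intro m c
    rw [MvPolynomial.monomial_eq, map_mul, Finsupp.prod, map_prod]
    have h1 : ∀ i ∈ m.support, ρ ((MvPolynomial.X i : MvPolynomial ι k) ^ m i) =
        ((MvPolynomial.X i : MvPolynomial ι k) ^ m i) ⊗ₜ[k] (T ((m i : ℤ) * r i) : k[T;T⁻¹]) := by
      intro i _
      rw [map_pow, hρX, Algebra.TensorProduct.tmul_pow, LaurentPolynomial.T_pow]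
    rw [Finset.prod_congr rfl h1, prod_tmul_T]
    have h2 : ρ (MvPolynomial.C c) = (MvPolynomial.C c : MvPolynomial ι k) ⊗ₜ[k] (1 : k[T;T⁻¹]) := by
      have : (MvPolynomial.C c : MvPolynomial ι k) = algebraMap k _ c := rfl
      rw [this, AlgHom.commutes, Algebra.TensorProduct.algebraMap_apply]
    rw [h2, Algebra.TensorProduct.tmul_mul_tmul, one_mul]
  constructor
  · intro hss
    unfold GLin.IsSemistableVec GLin.IsNullform at hss
    push Not at hss
    obtain ⟨F, hF, d, hd, hFd, hFv⟩ := hss
    rw [GLin.mem_invariants_iff] at hF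
    -- coefficientwise
    have hcoef : ∀ m : ι →₀ ℕ, F.coeff m ≠ 0 → w m = 0 := by
      intro m hm
      have hρF : ρ F = ∑ m' ∈ F.support,
          (MvPolynomial.monomial m' (F.coeff m')) ⊗ₜ[k] (T (w m') : k[T;T⁻¹]) := by
        conv_lhs => rw [F.as_sum]
        rw [map_sum]
        exact Finset.sum_congr rfl fun m' _ => hρmon m' _
      have hF' : ρ F = F ⊗ₜ[k] (1 : k[T;T⁻¹]) := hF
      set φ : MvPolynomial ι k ⊗[k] k[T;T⁻¹] →ₗ[k] k[T;T⁻¹] :=
        (TensorProduct.lid k k[T;T⁻¹]).toLinearMap ∘ₗ
          LinearMap.rTensor k[T;T⁻¹] (MvPolynomial.lcoeff k m) with hφ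
      have h1 := congrArg φ hF'
      rw [hρF, map_sum] at h1
      simp only [hφ, LinearMap.comp_apply, LinearMap.rTensor_tmul, LinearEquiv.coe_coe,
        TensorProduct.lid_tmul, MvPolynomial.lcoeff_apply, MvPolynomial.coeff_monomial] at h1
      rw [Finset.sum_eq_single m] at h1
      · rw [if_pos rfl] at h1
        have h2 : (T (w m) : k[T;T⁻¹]) = 1 := by
          have h3 : F.coeff m • ((T (w m) : k[T;T⁻¹]) - 1) = 0 := by rw [smul_sub, h1, sub_self]
          rcases smul_eq_zero.mp h3 with h4 | h4
          · exact absurd h4 hm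
          · exact sub_eq_zero.mp h4
        rw [← LaurentPolynomial.T_zero] at h2
        have h5 := congrArg LaurentPolynomial.degree h2
        rw [LaurentPolynomial.degree_T, LaurentPolynomial.degree_T] at h5
        exact_mod_cast h5
      · intro m' _ hne
        rw [if_neg hne, zero_smul]
      · intro hnot
        rw [MvPolynomial.notMem_support_iff] at hnot
        exact absurd hnot hm
    -- a monomial not vanishing at `v`
    rw [MvPolynomial.eval_eq] at hFv
    obtain ⟨m, hmF, hmv⟩ := Finset.exists_ne_zero_of_sum_ne_zero hFv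
    rw [MvPolynomial.mem_support_iff] at hmF
    have hvm : ∀ i ∈ m.support, v i ≠ 0 := by
      intro i hi hvi
      apply hmv
      rw [Finset.prod_eq_zero hi, mul_zero]
      rw [hvi, zero_pow (Finsupp.mem_support_iff.mp hi)]
    have hwm := hcoef m hmF
    have hdeg : (Finsupp.weight 1) m = d := hFd hmF
    have hne : m.support.Nonempty := by
      rw [Finset.nonempty_iff_ne_empty, Ne, Finsupp.support_eq_empty]
      rintro rfl
      rw [map_zero] at hdeg
      omega
    have hex1 : ∃ i ∈ m.support, r i ≤ 0 := by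
      by_contra hcon
      push Not at hcon
      have : 0 < w m := by
        apply Finset.sum_pos
        · intro i hi
          have : 0 < m i := Nat.pos_of_ne_zero (Finsupp.mem_support_iff.mp hi)
          exact mul_pos (by exact_mod_cast this) (hcon i hi)
        · exact hne
      omega
    have hex2 : ∃ j ∈ m.support, 0 ≤ r j := by
      by_contra hcon
      push Not at hcon
      have : w m < 0 := by
        apply Finset.sum_neg
        · intro i hi
          have : 0 < m i := Nat.pos_of_ne_zero (Finsupp.mem_support_iff.mp hi)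
          exact mul_neg_of_pos_of_neg (by exact_mod_cast this) (hcon i hi)
        · exact hne
      omega
    obtain ⟨i, hi, hri⟩ := hex1
    obtain ⟨j, hj, hrj⟩ := hex2
    exact ⟨i, j, hvm i hi, hvm j hj, hri, hrj⟩
  · rintro ⟨i, j, hvi, hvj, hri, hrj⟩
    unfold GLin.IsSemistableVec GLin.IsNullform
    push Not
    -- the invariant monomial
    set a : ℕ := if r i = 0 then 1 else (r j).toNat with ha
    set b : ℕ := if r i = 0 then 0 else (-r i).toNat with hb
    refine ⟨(MvPolynomial.X i : MvPolynomial ι k) ^ a * (MvPolynomial.X j) ^ b, ?_, a + b, ?_, ?_, ?_⟩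
    · rw [GLin.mem_invariants_iff]
      have : HopfRep.Comod.coact (k := k) (A := k[T;T⁻¹])
          ((MvPolynomial.X i : MvPolynomial ι k) ^ a * (MvPolynomial.X j) ^ b) =
          ρ ((MvPolynomial.X i : MvPolynomial ι k) ^ a * (MvPolynomial.X j) ^ b) := rfl
      rw [this, map_mul, map_pow, map_pow, hρX, hρX, Algebra.TensorProduct.tmul_pow,
        Algebra.TensorProduct.tmul_pow, Algebra.TensorProduct.tmul_mul_tmul,
        LaurentPolynomial.T_pow, LaurentPolynomial.T_pow, ← LaurentPolynomial.T_add]
      have h0 : (a : ℤ) * r i + (b : ℤ) * r j = 0 := by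
        simp only [ha, hb]
        split_ifs with h
        · simp [h]
        · have h1 : r i < 0 := lt_of_le_of_ne hri h
          rw [Int.toNat_of_nonneg hrj, Int.toNat_of_nonneg (by omega)]
          ring
      rw [h0, LaurentPolynomial.T_zero]
    · simp only [ha, hb]
      split_ifs <;> omega
    · exact (MvPolynomial.isHomogeneous_X_pow i a).mul (MvPolynomial.isHomogeneous_X_pow j b)
    · rw [map_mul, map_pow, map_pow, MvPolynomial.eval_X, MvPolynomial.eval_X]
      exact mul_ne_zero (pow_ne_zero _ hvi) (pow_ne_zero _ hvj)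

end Groth.Agent.S19422
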