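import Groth.Statements.S19423
import Mathlib.RingTheory.Spectrum.Prime.Topology
import Mathlib.RingTheory.Finiteness.Cardinality
import Mathlib.Algebra.Polynomial.Laurent

set_option autoImplicit false
universe u
open TensorProduct LaurentPolynomial
open GIT

namespace Groth.Agent.S19423

section aux

open LaurentPolynomial

variable {k : Type u} [Field k]

lemma isIntegralElem_of_pow_mem {R S : Type*} [CommRing R] [CommRing S] (f : R →+* S) (x : S)
    (m : ℕ) (hm : 0 < m) (b : R) (h : x ^ m = f b) : f.IsIntegralElem x := by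
  refine ⟨Polynomial.X ^ m - Polynomial.C b, Polynomial.monic_X_pow_sub_C b hm.ne', ?_⟩
  rw [Polynomial.eval₂_sub, Polynomial.eval₂_pow, Polynomial.eval₂_X, Polynomial.eval₂_C, h,
    sub_self]

lemma mk_T_mul (I : Ideal k[T;T⁻¹]) (n : ℤ) (h : (T n : k[T;T⁻¹]) - 1 ∈ I) (q : ℤ) :
    Ideal.Quotient.mk I (T (q * n)) = 1 := by
  have h1 : Ideal.Quotient.mk I (T n) = 1 := by
    rw [← sub_eq_zero, ← map_one (Ideal.Quotient.mk I), ← map_sub]
    exact Ideal.Quotient.eq_zero_iff_mem.mpr h
  induction q using Int.induction_on with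
  | zero => simp
  | succ q ih => rw [add_mul, one_mul, T_add, map_mul, ih, h1, one_mul]
  | pred q ih =>
    have h3 : (T ((-(q : ℤ) - 1) * n) : k[T;T⁻¹]) * T n = T (-(q : ℤ) * n) := by
      rw [← T_add]; congr 1; ring
    have h2 := congrArg (Ideal.Quotient.mk I) h3
    rw [map_mul, h1, mul_one, ih] at h2
    exact h2

lemma finite_quot (I : Ideal k[T;T⁻¹]) (n : ℕ) (hn : 0 < n)
    (h : (T (n : ℤ) : k[T;T⁻¹]) - 1 ∈ I) : Module.Finite k (k[T;T⁻¹] ⧸ I) := by
  classical
  let f : (Fin n → k) →ₗ[k] (k[T;T⁻¹] ⧸ I) :=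
    Fintype.linearCombination k (fun i : Fin n => Ideal.Quotient.mk I (T ((i : ℕ) : ℤ)))
  apply Module.Finite.of_surjective f
  intro y
  obtain ⟨p, rfl⟩ := Ideal.Quotient.mk_surjective y
  induction p using LaurentPolynomial.induction_on' with
  | add p q hp hq =>
    obtain ⟨a, ha⟩ := hp
    obtain ⟨b, hb⟩ := hq
    exact ⟨a + b, by rw [map_add, ha, hb, map_add]⟩
  | C_mul_T m a =>
    have hn' : (0 : ℤ) < (n : ℤ) := by exact_mod_cast hn
    have hm : (T m : k[T;T⁻¹]) = T ((m / n) * n) * T (m % n) := by
      rw [← T_add]; congr 1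
      exact (Int.ediv_mul_add_emod m n).symm
    have hpos : 0 ≤ m % (n : ℤ) := Int.emod_nonneg _ hn'.ne'
    have hlt : m % (n : ℤ) < n := Int.emod_lt_of_pos _ hn'
    refine ⟨Pi.single ⟨(m % n).toNat, by omega⟩ a, ?_⟩
    simp only [f, Fintype.linearCombination_apply_single]
    rw [map_mul, hm, map_mul, mk_T_mul I n h, one_mul]
    have h5 : (((m % (n : ℤ)).toNat : ℕ) : ℤ) = m % n := Int.toNat_of_nonneg hpos
    rw [h5, ← map_mul, ← LaurentPolynomial.smul_eq_C_mul]
    rfl

lemma not_finite_laurent : ¬ Module.Finite k k[T;T⁻¹] := by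
  have b : Module.Basis ℤ k k[T;T⁻¹] := Module.Basis.ofRepr (AddMonoidAlgebra.coeffLinearEquiv k)
  exact Module.not_finite_of_infinite_basis b

/-- the orbit is not closed when it has a limit point outside -/
lemma not_closed {ι : Type u} {S : Type u} [CommRing S] [Algebra k S]
    (φ : MvPolynomial ι k →ₐ[k] S)
    (ψ : MvPolynomial ι k →ₐ[k] Polynomial k) (θ : Polynomial k →ₐ[k] S)
    (hθ : Function.Injective θ) (hcomp : θ.comp ψ = φ) (j : ι) (hj : IsUnit (φ (MvPolynomial.X j)))
    (hj0 : (ψ (MvPolynomial.X j)).eval 0 = 0) :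
    ¬ IsClosed (Set.range (PrimeSpectrum.comap φ.toRingHom)) := by
  intro hcl
  let w : MvPolynomial ι k →ₐ[k] k := (Polynomial.aeval (0 : k)).comp ψ
  have hsurj : Function.Surjective w := fun c => ⟨MvPolynomial.C c, by
    show w (algebraMap k _ c) = c
    rw [AlgHom.commutes]; rfl⟩
  have hmax : (RingHom.ker w.toRingHom).IsMaximal := RingHom.ker_isMaximal_of_surjective _ hsurj
  let P : PrimeSpectrum (MvPolynomial ι k) := ⟨RingHom.ker w.toRingHom, hmax.isPrime⟩
  have hP : P ∈ closure (Set.range (PrimeSpectrum.comap φ.toRingHom)) := by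
    rw [PrimeSpectrum.closure_range_comap, PrimeSpectrum.mem_zeroLocus]
    intro f hf
    have hf' : φ f = 0 := hf
    rw [← hcomp] at hf'
    have h1 : ψ f = 0 := by
      apply hθ
      rw [map_zero]; exact hf'
    show w f = 0
    show Polynomial.aeval (0 : k) (ψ f) = 0
    rw [h1, map_zero]
  rw [hcl.closure_eq] at hP
  obtain ⟨q, hq⟩ := hP
  have h2 : MvPolynomial.X j ∈ P.asIdeal := by
    show w (MvPolynomial.X j) = 0
    show Polynomial.aeval (0 : k) (ψ (MvPolynomial.X j)) = 0
    rw [Polynomial.aeval_def, Polynomial.eval₂_eq_eval_map]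
    simpa using hj0
  rw [← hq] at h2
  have h3 : φ (MvPolynomial.X j) ∈ q.asIdeal := h2
  exact q.isPrime.ne_top (Ideal.eq_top_of_isUnit_mem _ h3 hj)

end aux

/-- Over an algebraically closed field k, let the multiplicative group, whose coordinate Hopf algebra is
the Laurent polynomial ring, act diagonally on affine ι-space, ι finite: the coaction on the
polynomial ring is multiplicative and sends the coordinate function X_i to X_i ⊗ T^(r_i) for
integers r_i. Then a vector v is stable (the orbit of the point v of affine space is closed and its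
stabiliser is a finite group scheme) if and only if there are indices i and j with v_i ≠ 0, v_j ≠ 0
and r_i < 0 < r_j, i.e. the origin is an interior point of the convex hull of the weights of v.
(Stated for the ambient projective space on its affine cone, where stability means a closed orbit
with finite stabiliser in the cone.) -/
theorem result (k : Type u) [Field k] [IsAlgClosed k]
    (ι : Type u) [Fintype ι] [HopfRep.Comod k k[T;T⁻¹] (MvPolynomial ι k)] [GLin.IsCoactAlg k k[T;T⁻¹] (MvPolynomial ι k)]
    (r : ι → ℤ)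
    (hr : ∀ i : ι, HopfRep.Comod.coact (k := k) (A := k[T;T⁻¹]) (MvPolynomial.X i : MvPolynomial ι k) =
      (MvPolynomial.X i : MvPolynomial ι k) ⊗ₜ[k] (T (r i) : k[T;T⁻¹]))
    (v : ι → k) :
    GLin.IsStableVec k k[T;T⁻¹] v ↔ ∃ i j : ι, v i ≠ 0 ∧ v j ≠ 0 ∧ r i < 0 ∧ 0 < r j := by
  classical
  set φ := GLin.orbitHom k k[T;T⁻¹] (GLin.vecPt k ι v) with hφ
  have hφX : ∀ i, φ (MvPolynomial.X i) = v i • (T (r i) : k[T;T⁻¹]) := by
    intro i
    simp only [hφ, GLin.orbitHom, AlgHom.comp_apply, GLin.coactAlgHom_apply, hr i,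
      Algebra.TensorProduct.map_tmul, AlgHom.id_apply]
    simp
  have hstab : ∀ i, v i ≠ 0 → (T (r i) : k[T;T⁻¹]) - 1 ∈
      GLin.stabIdeal k k[T;T⁻¹] (GLin.vecPt k ι v) := by
    intro i hi
    have h1 : (MvPolynomial.X i - MvPolynomial.C (v i) : MvPolynomial ι k) ∈
        RingHom.ker (GLin.vecPt k ι v) := by
      rw [RingHom.mem_ker, map_sub]
      simp
    have h2 : φ (MvPolynomial.X i - MvPolynomial.C (v i)) ∈
        GLin.stabIdeal k k[T;T⁻¹] (GLin.vecPt k ι v) := Ideal.mem_map_of_mem _ h1
    have h3 : φ (MvPolynomial.X i - MvPolynomial.C (v i)) =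
        C (v i) * ((T (r i) : k[T;T⁻¹]) - 1) := by
      rw [map_sub, hφX, LaurentPolynomial.smul_eq_C_mul, mul_sub, mul_one]
      congr 1
      show φ (algebraMap k _ (v i)) = _
      rw [AlgHom.commutes, LaurentPolynomial.C_eq_algebraMap]
    rw [h3] at h2
    have h4 := Ideal.mul_mem_left _ (C (v i)⁻¹) h2
    rw [← mul_assoc, ← map_mul, inv_mul_cancel₀ hi, map_one, one_mul] at h4
    exact h4
  constructor
  · rintro ⟨hcl, hfin⟩
    -- some weight on the support is nonzero
    have hA : ∃ i, v i ≠ 0 ∧ r i ≠ 0 := by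
      by_contra hcon
      push Not at hcon
      have hφeq : φ = (Algebra.ofId k k[T;T⁻¹]).comp (GLin.vecPt k ι v) := by
        apply MvPolynomial.algHom_ext
        intro i
        rw [hφX]
        by_cases hi : v i = 0
        · simp [hi]
        · rw [hcon i hi, T_zero]
          simp [Algebra.ofId_apply, Algebra.algebraMap_eq_smul_one]
      have hbot : GLin.stabIdeal k k[T;T⁻¹] (GLin.vecPt k ι v) = ⊥ := by
        rw [eq_bot_iff]
        unfold GLin.stabIdeal
        rw [Ideal.map_le_iff_le_comap]
        intro f hf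
        rw [Ideal.mem_comap, Ideal.mem_bot]
        show φ f = 0
        rw [hφeq, AlgHom.comp_apply]
        have : GLin.vecPt k ι v f = 0 := hf
        rw [this, map_zero]
      have hfin' : Module.Finite k (k[T;T⁻¹] ⧸ GLin.stabIdeal k k[T;T⁻¹] (GLin.vecPt k ι v)) := hfin
      have hinj : Function.Injective
          ((Ideal.Quotient.mkₐ k (GLin.stabIdeal k k[T;T⁻¹] (GLin.vecPt k ι v))).toLinearMap) := by
        intro a b hab
        have h1 : Ideal.Quotient.mk _ a = Ideal.Quotient.mk _ b := hab
        rw [Ideal.Quotient.eq, hbot, Ideal.mem_bot, sub_eq_zero] at h1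
        exact h1
      exact not_finite_laurent (Module.Finite.of_injective _ hinj)
    obtain ⟨i0, hv0, hr0⟩ := hA
    by_contra hno
    push Not at hno
    rcases lt_or_gt_of_ne hr0 with hneg | hpos
    · -- all weights on the support are ≤ 0
      have hall : ∀ i, v i ≠ 0 → r i ≤ 0 := by
        intro i hi
        by_contra hcon
        push Not at hcon
        exact absurd hcon (not_lt.mpr (le_of_not_gt (fun h => absurd h (not_lt.mpr
          (le_of_not_gt (fun h' => (hno i0 i hv0 hi hneg).not_gt h'))))))
      let ψ : MvPolynomial ι k →ₐ[k] Polynomial k :=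
        MvPolynomial.aeval (fun i => Polynomial.C (v i) * Polynomial.X ^ (-r i).toNat)
      let θ : Polynomial k →ₐ[k] k[T;T⁻¹] :=
        (LaurentPolynomial.invert (R := k)).toAlgHom.comp Polynomial.toLaurentAlg
      refine not_closed φ ψ θ ?_ ?_ i0 ?_ ?_ hcl
      · intro a b hab
        have h1 : Polynomial.toLaurentAlg a = Polynomial.toLaurentAlg b :=
          (LaurentPolynomial.invert (R := k)).injective hab
        exact Polynomial.toLaurent_injective h1
      · apply MvPolynomial.algHom_ext
        intro i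
        rw [hφX]
        show LaurentPolynomial.invert (Polynomial.toLaurent (MvPolynomial.aeval
          (fun i => Polynomial.C (v i) * Polynomial.X ^ (-r i).toNat) (MvPolynomial.X i))) = _
        rw [MvPolynomial.aeval_X, map_mul, map_pow, Polynomial.toLaurent_C, Polynomial.toLaurent_X,
          map_mul, map_pow, invert_C, invert_T, T_pow, LaurentPolynomial.smul_eq_C_mul]
        by_cases hi : v i = 0
        · simp [hi]
        · have h1 : ((-r i).toNat : ℤ) = -r i := Int.toNat_of_nonneg (by have := hall i hi; omega)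
          rw [h1]
          congr 2
          ring
      · rw [hφX]
        rw [LaurentPolynomial.smul_eq_C_mul]
        exact (IsUnit.map (C : k →+* k[T;T⁻¹]) (IsUnit.mk0 _ hv0)).mul (isUnit_T _)
      · simp only [ψ, MvPolynomial.aeval_X, Polynomial.eval_mul, Polynomial.eval_C,
          Polynomial.eval_pow, Polynomial.eval_X]
        have : (-r i0).toNat ≠ 0 := by omega
        rw [zero_pow this, mul_zero]
    · have hall : ∀ i, v i ≠ 0 → 0 ≤ r i := by
        intro i hi
        by_contra hcon
        push Not at hcon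
        exact (hno i i0 hi hv0 hcon).not_gt hpos
      let ψ : MvPolynomial ι k →ₐ[k] Polynomial k :=
        MvPolynomial.aeval (fun i => Polynomial.C (v i) * Polynomial.X ^ (r i).toNat)
      refine not_closed φ ψ Polynomial.toLaurentAlg ?_ ?_ i0 ?_ ?_ hcl
      · exact Polynomial.toLaurent_injective
      · apply MvPolynomial.algHom_ext
        intro i
        rw [hφX]
        simp only [ψ, AlgHom.comp_apply, MvPolynomial.aeval_X, Polynomial.toLaurentAlg_apply,
          map_mul, map_pow, Polynomial.toLaurent_C, Polynomial.toLaurent_X]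
        by_cases hi : v i = 0
        · simp [hi]
        · have h1 : ((r i).toNat : ℤ) = r i := Int.toNat_of_nonneg (hall i hi)
          simp only [T_pow, h1]
          rw [LaurentPolynomial.smul_eq_C_mul, mul_one]
      · rw [hφX]
        rw [LaurentPolynomial.smul_eq_C_mul]
        exact (IsUnit.map (C : k →+* k[T;T⁻¹]) (IsUnit.mk0 _ hv0)).mul (isUnit_T _)
      · simp only [ψ, MvPolynomial.aeval_X, Polynomial.eval_mul, Polynomial.eval_C,
          Polynomial.eval_pow, Polynomial.eval_X]
        have : (r i0).toNat ≠ 0 := by omega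
        rw [zero_pow this, mul_zero]
  · rintro ⟨i, j, hvi, hvj, hri, hrj⟩
    constructor
    · -- closed orbit by integrality
      have hTint : ∀ n : ℤ, φ.toRingHom.IsIntegralElem (T n : k[T;T⁻¹]) := by
        intro n
        rcases le_or_gt 0 n with hn | hn
        · apply isIntegralElem_of_pow_mem φ.toRingHom (T n) (r j).toNat (by omega)
            ((MvPolynomial.C (v j)⁻¹ * MvPolynomial.X j) ^ n.toNat)
          show _ = φ _
          rw [map_pow, map_mul, hφX, T_pow, Int.toNat_of_nonneg hrj.le]
          have h1 : φ (MvPolynomial.C (v j)⁻¹) = C (v j)⁻¹ := by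
            show φ (algebraMap k _ (v j)⁻¹) = _
            rw [AlgHom.commutes, LaurentPolynomial.C_eq_algebraMap]
          rw [h1, LaurentPolynomial.smul_eq_C_mul, ← mul_assoc, ← map_mul, inv_mul_cancel₀ hvj,
            map_one, one_mul, T_pow, Int.toNat_of_nonneg hn, mul_comm]
        · apply isIntegralElem_of_pow_mem φ.toRingHom (T n) (-r i).toNat (by omega)
            ((MvPolynomial.C (v i)⁻¹ * MvPolynomial.X i) ^ (-n).toNat)
          show _ = φ _
          rw [map_pow, map_mul, hφX, T_pow, Int.toNat_of_nonneg (by omega)]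
          have h1 : φ (MvPolynomial.C (v i)⁻¹) = C (v i)⁻¹ := by
            show φ (algebraMap k _ (v i)⁻¹) = _
            rw [AlgHom.commutes, LaurentPolynomial.C_eq_algebraMap]
          rw [h1, LaurentPolynomial.smul_eq_C_mul, ← mul_assoc, ← map_mul, inv_mul_cancel₀ hvi,
            map_one, one_mul, T_pow, Int.toNat_of_nonneg (by omega)]
          congr 1
          ring
      have hint : φ.toRingHom.IsIntegral := by
        intro p
        induction p using LaurentPolynomial.induction_on' with
        | add p q hp hq => exact RingHom.IsIntegralElem.add _ hp hq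
        | C_mul_T n a =>
          apply RingHom.IsIntegralElem.mul _ _ (hTint n)
          have : (C a : k[T;T⁻¹]) = φ.toRingHom (MvPolynomial.C a) := by
            show _ = φ (algebraMap k _ a)
            rw [AlgHom.commutes, LaurentPolynomial.C_eq_algebraMap]
          rw [this]
          exact φ.toRingHom.isIntegralElem_map
      have hcm := PrimeSpectrum.isClosedMap_comap_of_isIntegral φ.toRingHom hint
      have := hcm _ isClosed_univ
      rwa [Set.image_univ] at this
    · -- finite stabiliser
      have h1 := hstab j hvj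
      have h2 : ((r j).toNat : ℤ) = r j := Int.toNat_of_nonneg hrj.le
      rw [← h2] at h1
      exact finite_quot _ (r j).toNat (by omega) h1

end Groth.Agent.S19423
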