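import Groth.Statements.S19425
-- import your own Groth.Agent.* helpers here
import Groth.Agent.Lib.Helper40.GoodQuotRestrict
import Groth.Agent.Lib.Helper40.FpqcCovOver

set_option autoImplicit false
universe u
open CategoryTheory MonoidalCategory CartesianMonoidalCategory MonObj AlgebraicGeometry Topology
open NRQuot

namespace Groth.Agent.S19425

/-- Let k be an algebraically closed field, G an affine group scheme of finite type over k acting on a
k-scheme X locally of finite type, φ : X → Y a good quotient (affine and invariant, functions on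
every open of Y are exactly the invariant functions on its preimage, invariant closed subsets have
closed images, and images commute with intersections of families of invariant closed subsets), and U
an open subset of Y. Equip the open subscheme φ⁻¹(U) of X with the restricted action, given here as
an action compatible with the inclusion into X, and let φ_U : φ⁻¹(U) → U be the restriction of φ.
Then φ_U is a good quotient for the restricted action. -/
theorem result
    (k : Type u) [Field k] [IsAlgClosed k]
    (G X Y : Over (Spec (CommRingCat.of k))) [GrpObj G] [IsAffine G.left] [LocallyOfFiniteType G.hom]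
    [LocallyOfFiniteType X.hom]
    (a : AlgGrp.Action G X) (φ : X ⟶ Y) (h : NRQuot.IsGoodQuot a φ)
    (U : Y.left.Opens)
    (aU : AlgGrp.Action G (Over.mk ((φ.left ⁻¹ᵁ U).ι ≫ X.hom)))
    (jU : Over.mk ((φ.left ⁻¹ᵁ U).ι ≫ X.hom) ⟶ X) (hjU : jU.left = (φ.left ⁻¹ᵁ U).ι)
    (haU : aU.act ≫ jU = (G ◁ jU) ≫ a.act)
    (φU : Over.mk ((φ.left ⁻¹ᵁ U).ι ≫ X.hom) ⟶ Over.mk (U.ι ≫ Y.hom))
    (hφU : φU.left ≫ U.ι = (φ.left ⁻¹ᵁ U).ι ≫ φ.left) :
    NRQuot.IsGoodQuot aU φU := by
  haveI hjo : IsOpenImmersion jU.left := by rw [hjU]; infer_instance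
  have hφU' : φU.left ≫ U.ι = jU.left ≫ φ.left := by rw [hjU]; exact hφU
  have hrange : ∀ x : X.left, φ.left.base x ∈ Set.range U.ι.base →
      x ∈ Set.range jU.left.base := by
    intro x hx
    rw [hjU, Scheme.Opens.range_ι]
    rw [Scheme.Opens.range_ι] at hx
    exact hx
  have hσ : aU.act.left ≫ jU.left = (G ◁ jU).left ≫ a.act.left :=
    congrArg CommaMorphism.left haU
  have hp : (snd G (Over.mk ((φ.left ⁻¹ᵁ U).ι ≫ X.hom))).left ≫ jU.left =
      (G ◁ jU).left ≫ (snd G X).left :=
    (congrArg CommaMorphism.left (whiskerLeft_snd G jU)).symm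
  have hcart : IsPullback (G ◁ jU).left (snd G (Over.mk ((φ.left ⁻¹ᵁ U).ι ≫ X.hom))).left
      (snd G X).left jU.left :=
    (Groth.Agent.Lib.Helper40.FpqcCov.isPullback_whiskerLeft G jU).map (Over.forget _)
  have hpopen : IsOpenMap (snd G X).left.base := by
    haveI : Subsingleton ↥(Spec (CommRingCat.of k)) :=
      inferInstanceAs (Subsingleton (PrimeSpectrum k))
    haveI : IsIntegral (Spec (CommRingCat.of k)) := inferInstance
    haveI : UniversallyOpen G.hom := inferInstance
    have sq : IsPullback (fst G X).left (snd G X).left G.hom X.hom :=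
      IsPullback.of_hasPullback G.hom X.hom
    haveI : UniversallyOpen (snd G X).left :=
      MorphismProperty.of_isPullback (P := @UniversallyOpen) sq inferInstance
    exact (snd G X).left.isOpenMap
  have hinvL := h.inv.left
  have hinvU : aU.act.left ≫ φU.left =
      (snd G (Over.mk ((φ.left ⁻¹ᵁ U).ι ≫ X.hom))).left ≫ φU.left :=
    Groth.Agent.Lib.Helper40.GoodQuotRestrict.invU hφU' hσ hp hinvL
  refine ⟨?_, ?_, ?_, ?_, ?_⟩
  · have e : φU.left = φ.left ∣_ U := by
      rw [← cancel_mono U.ι, hφU, morphismRestrict_ι]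
    rw [e]
    exact IsZariskiLocalAtTarget.restrict (P := @IsAffineHom) h.affine U
  · show aU.act ≫ φU = snd G _ ≫ φU
    apply Over.OverMorphism.ext
    exact hinvU
  · intro V
    obtain ⟨h1, h2⟩ := Groth.Agent.Lib.Helper40.GoodQuotRestrict.sections_restrict hφU' hrange
      hσ hp hcart hinvL
      (fun V' => ⟨(h.sections V').1, fun f hf => by
        have hm : f ∈ {f | GIT.IsInvSection a φ V' f} := hf
        rw [← (h.sections V').2] at hm
        exact hm⟩) V
    refine ⟨h1, ?_⟩
    ext f
    exact h2 f
  · intro W hW hWinv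
    exact Groth.Agent.Lib.Helper40.GoodQuotRestrict.closed_restrict hφU' hrange hσ hcart hpopen
      h.closed W hW hWinv
  · intro J W hW hWinv
    exact Groth.Agent.Lib.Helper40.GoodQuotRestrict.inter_restrict hφU' hrange hσ hcart hpopen
      h.inter J W hW hWinv

end Groth.Agent.S19425
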