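import Groth.Statements.S19426
import Mathlib
import Groth.Agent.Lib.Helper79.StabGrp
import Groth.Agent.Lib.Helper73.GrpFibreDim
-- import your own Groth.Agent.* helpers here

set_option autoImplicit false
set_option linter.style.haveILetI false
set_option linter.unusedSectionVars false
set_option linter.unusedVariables false
universe u
open CategoryTheory MonoidalCategory CartesianMonoidalCategory MonObj AlgebraicGeometry Topology
open GIT

namespace Groth.Agent.S19426

open CategoryTheory CategoryTheory.Limits MonoidalCategory CartesianMonoidalCategory MonObj AlgebraicGeometry Topology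
open Groth.Agent.Lib.Helper79.StabGrp Groth.Agent.Lib.Helper79.FreeAct

section Helpers

variable {S : Scheme.{u}} {G X : Over S} [GrpObj G] (a : AlgGrp.Action G X)

/-- the base change square for the orbit maps -/
theorem isPullback_psi {T : Over S} (f : T ⟶ X) :
    IsPullback (G ◁ f) (GIT.psi a f) (GIT.psi a (𝟙 X)) (X ◁ f) := by
  have hw : (G ◁ f) ≫ GIT.psi a (𝟙 X) = GIT.psi a f ≫ (X ◁ f) := by
    unfold GIT.psi
    apply CartesianMonoidalCategory.hom_ext <;> simp
  refine ⟨⟨hw⟩, ⟨PullbackCone.IsLimit.mk _ (fun s => lift (s.fst ≫ fst G X) (s.snd ≫ snd X T))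
    ?_ ?_ ?_⟩⟩
  · intro s
    apply CartesianMonoidalCategory.hom_ext
    · simp
    · have := congrArg (fun m => m ≫ snd X X) s.condition
      simp only [Category.assoc, GIT.psi, lift_snd, whiskerLeft_snd] at this
      simp [this]
  · intro s
    apply CartesianMonoidalCategory.hom_ext
    · have := congrArg (fun m => m ≫ fst X X) s.condition
      simp only [Category.assoc, GIT.psi, lift_fst, whiskerLeft_fst] at this
      simp only [GIT.psi, ← this, comp_lift, lift_fst, Category.assoc, lift_whiskerLeft_assoc]
      have h2 := congrArg (fun m => m ≫ snd X X) s.condition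
      simp only [Category.assoc, GIT.psi, lift_snd, whiskerLeft_snd] at h2
      have h3 : lift (s.fst ≫ fst G X) (s.snd ≫ snd X T ≫ f) = s.fst := by
        apply CartesianMonoidalCategory.hom_ext <;> simp [h2]
      simp [h3]
    · simp [GIT.psi]
  · intro s m h1 h2
    apply CartesianMonoidalCategory.hom_ext
    · have := congrArg (fun m => m ≫ fst G X) h1
      simpa using this
    · have := congrArg (fun m => m ≫ snd X T) h2
      simpa [GIT.psi] using this

theorem isPullback_psi_left {T : Over S} (f : T ⟶ X) :
    IsPullback (G ◁ f).left (GIT.psi a f).left (GIT.psi a (𝟙 X)).left (X ◁ f).left :=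
  (isPullback_psi a f).map (Over.forget S)

theorem lift_whisker_eq {T : Over S} (f : T ⟶ X) :
    (lift f (𝟙 T)).left ≫ (X ◁ f).left = f.left ≫ (lift (𝟙 X) (𝟙 X)).left := by
  rw [← Over.comp_left, ← Over.comp_left]
  congr 1
  apply CartesianMonoidalCategory.hom_ext <;> simp

open Groth.Agent.Lib.Helper79.StabGrp Groth.Agent.Lib.Helper79.FreeAct in
/-- the stabiliser of a `T`-point is the fibre of the universal stabiliser. -/
noncomputable def stabIso {T : Over S} (f : T ⟶ X) :
    GLinSh.stab a f ≅ fib a f.left := by
  have H1 : IsPullback (pullback.fst (GIT.psi a f).left (lift f (𝟙 T)).left)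
      (pullback.snd (GIT.psi a f).left (lift f (𝟙 T)).left) (GIT.psi a f).left
      (lift f (𝟙 T)).left := IsPullback.of_hasPullback _ _
  have H2 := H1.paste_horiz (isPullback_psi_left a f)
  rw [lift_whisker_eq] at H2
  have K1 : IsPullback (pullback.fst (GIT.psi a (𝟙 X)).left (lift (𝟙 X) (𝟙 X)).left)
      (stabP a) (GIT.psi a (𝟙 X)).left (lift (𝟙 X) (𝟙 X)).left := IsPullback.of_hasPullback _ _
  have K2 : IsPullback (pullback.fst (stabP a) f.left) (pullback.snd (stabP a) f.left)
      (stabP a) f.left := IsPullback.of_hasPullback _ _
  have K3 := K2.paste_horiz K1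
  exact H2.isoIsPullback _ _ K3

section Dim

open Groth.Agent.Lib.Helper79.StabGrp Groth.Agent.Lib.Helper79.FreeAct
open Groth.Agent.Lib.Helper21.FieldDim Groth.Agent.Lib.Helper73.SchemeDim
  Groth.Agent.Lib.Helper73.FibreDimRetro

variable [LocallyOfFiniteType G.hom] [LocallyOfFiniteType X.hom]

instance lft_tensor : LocallyOfFiniteType (G ⊗ X).hom := by
  have : (G ⊗ X).hom = pullback.fst G.hom X.hom ≫ G.hom := rfl
  rw [this]
  infer_instance

instance lft_psi : LocallyOfFiniteType (GIT.psi a (𝟙 X)).left := by
  have h : (GIT.psi a (𝟙 X)).left ≫ (X ⊗ X).hom = (G ⊗ X).hom := Over.w _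
  have : LocallyOfFiniteType ((GIT.psi a (𝟙 X)).left ≫ (X ⊗ X).hom) := by
    rw [h]; infer_instance
  exact locallyOfFiniteType_of_comp _ (X ⊗ X).hom

instance lft_stabP : LocallyOfFiniteType (stabP a) := by
  unfold stabP
  infer_instance

theorem stabP_section (x : X.left) : (stabP a) (stabSection a x) = x := by
  rw [← Scheme.Hom.comp_apply]
  have := stabSection_snd a
  unfold stabP
  rw [this]
  rfl

theorem dim_fiber_eq (x : X.left) :
    topologicalKrullDim ↥((stabP a).fiber x) =
      FlatMor.fibreDimAt (stabP a) (stabSection a x) := by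
  have hmem : stabSection a x ∈ Set.range ((stabP a).fiberι x) := by
    rw [Scheme.Hom.range_fiberι]
    exact stabP_section a x
  obtain ⟨z, hz⟩ := hmem
  rw [← localDim_fiber_eq_fibreDimAt (stabP a) _ x (stabP_section a x) z hz]
  letI := grpObjFib a (X.left.fromSpecResidueField x)
  have i1 : LocallyOfFiniteType (fibOver a (X.left.fromSpecResidueField x)).hom :=
    inferInstanceAs (LocallyOfFiniteType (pullback.snd (stabP a) (X.left.fromSpecResidueField x)))
  exact ((grp_equidim (k := X.left.residueField x)
    (fibOver a (X.left.fromSpecResidueField x))).2 z).symm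

end Dim

end Helpers

/-- Let k be an algebraically closed field, G an affine group scheme of finite type over k acting on a
k-scheme X locally of finite type, and for a point x of X let G_x denote its stabiliser, the group
scheme over the residue field of x obtained as the fibre of (g, t) ↦ (g · x(t), t) over (x, id).
Then for every n the set of points x of X with dim G_x ≥ n is closed: the stabiliser dimension is an
upper semicontinuous function on X. (Stated at all points of the scheme X; the published statement
is for the closed points of a variety, and also phrases it through the orbit dimension dim G − dim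
G_x, which is not restated here.) -/
theorem result
    (k : Type u) [Field k] [IsAlgClosed k]
    (G X : Over (Spec (CommRingCat.of k))) [GrpObj G] [IsAffine G.left] [LocallyOfFiniteType G.hom]
    [LocallyOfFiniteType X.hom]
    (a : AlgGrp.Action G X) (n : WithBot ℕ∞) :
    IsClosed {x : X.left | n ≤ topologicalKrullDim
      (GLinSh.stab a (Over.homMk (X.left.fromSpecResidueField x) rfl :
        Over.mk (X.left.fromSpecResidueField x ≫ X.hom) ⟶ X))} := by
  have hD : ∀ x : X.left, topologicalKrullDim
      (GLinSh.stab a (Over.homMk (X.left.fromSpecResidueField x) rfl :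
        Over.mk (X.left.fromSpecResidueField x ≫ X.hom) ⟶ X)) =
      FlatMor.fibreDimAt (stabP a) (stabSection a x) := by
    intro x
    rw [← dim_fiber_eq a x]
    exact (Scheme.homeoOfIso (stabIso a (Over.homMk (X.left.fromSpecResidueField x) rfl :
        Over.mk (X.left.fromSpecResidueField x ≫ X.hom) ⟶ X))).isHomeomorph.topologicalKrullDim_eq
  have hnat : ∀ x : X.left, ∃ m : ℕ,
      FlatMor.fibreDimAt (stabP a) (stabSection a x) = (m : WithBot ℕ∞) := by
    intro x
    obtain ⟨_, m, -, -, -, hm⟩ :=
      Groth.Agent.Lib.Helper73.SchemeDim.exists_specializes_trdeg_eq_fibreDimAt (stabP a)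
        (stabSection a x)
    exact ⟨m, hm⟩
  have hopen : ∀ m : ℕ, IsOpen {x : X.left |
      FlatMor.fibreDimAt (stabP a) (stabSection a x) ≤ (m : WithBot ℕ∞)} := by
    intro m
    exact (Groth.Agent.Lib.Helper73.SchemeDim.isOpen_setOf_fibreDimAt_le (stabP a) m).preimage
      (stabSection a).continuous
  simp only [hD]
  induction n using WithBot.recBotCoe with
  | bot => simp
  | coe n =>
    induction n using ENat.recTopCoe with
    | top =>
      have : {x : X.left | ((⊤ : ℕ∞) : WithBot ℕ∞) ≤
          FlatMor.fibreDimAt (stabP a) (stabSection a x)} = ∅ := by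
        ext x
        simp only [Set.mem_ofPred_eq, Set.mem_empty_iff_false, iff_false]
        obtain ⟨m, hm⟩ := hnat x
        rw [hm]
        intro h
        have : ((⊤ : ℕ∞)) ≤ (m : ℕ∞) := by exact_mod_cast h
        simp at this
      rw [this]
      exact isClosed_empty
    | coe n =>
      rcases Nat.eq_zero_or_pos n with rfl | hpos
      · have : {x : X.left | (((0 : ℕ) : ℕ∞) : WithBot ℕ∞) ≤
            FlatMor.fibreDimAt (stabP a) (stabSection a x)} = Set.univ := by
          ext x
          simp only [Set.mem_ofPred_eq, Set.mem_univ, iff_true]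
          obtain ⟨m, hm⟩ := hnat x
          rw [hm]
          exact_mod_cast Nat.zero_le m
        rw [this]
        exact isClosed_univ
      · obtain ⟨n', rfl⟩ : ∃ n', n = n' + 1 := ⟨n - 1, by omega⟩
        have : {x : X.left | (((n' + 1 : ℕ) : ℕ∞) : WithBot ℕ∞) ≤
            FlatMor.fibreDimAt (stabP a) (stabSection a x)} =
            {x : X.left | FlatMor.fibreDimAt (stabP a) (stabSection a x) ≤ (n' : WithBot ℕ∞)}ᶜ := by
          ext x
          simp only [Set.mem_ofPred_eq, Set.mem_compl_iff]
          obtain ⟨m, hm⟩ := hnat x
          rw [hm]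
          constructor
          · intro h h'
            have h1 : n' + 1 ≤ m := by exact_mod_cast h
            have h2 : m ≤ n' := by exact_mod_cast h'
            omega
          · intro h
            have h2 : ¬ m ≤ n' := fun hh => h (by exact_mod_cast hh)
            have h1 : n' + 1 ≤ m := by omega
            exact_mod_cast h1
        rw [this]
        exact (hopen n').isClosed_compl

end Groth.Agent.S19426
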