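import Groth.Statements.S19431
import Groth.Agent.Lib.Helper32.RegSheaf

set_option autoImplicit false
universe u

namespace Groth.Agent.S19431

open CategoryTheory CategoryTheory.Limits AlgebraicGeometry
open Groth.Agent.Lib.Helper32.RegSheaf Groth.Agent.Lib.Helper47.RDerLES

theorem result (n : ℕ) (T : Scheme.{u}) (S : ShortComplex (KRR.PY n T).Modules)
    (hS : S.ShortExact) (h₁ : Coh.IsQCoh S.X₁) (h₂ : Coh.IsQCoh S.X₂) (h₃ : Coh.IsQCoh S.X₃)
    (hreg₁ : KRR.IsRegSheaf n T S.X₁) (hreg₃ : KRR.IsRegSheaf n T S.X₃) :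
    KRR.IsRegSheaf n T S.X₂ := by
  intro i hi
  have hS' := shortExact_toAb_twF n T (-(i : ℤ)) hS
  have hex := (derivedLES (Coh.pushAb (KRR.pr n T))).exact₂ _ hS' i
  exact hex.isZero_of_both_zeros ((hreg₁ i hi).eq_of_src _ _) ((hreg₃ i hi).eq_of_tgt _ _)

end Groth.Agent.S19431
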