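import Groth.Statements.S19432
import Groth.Agent.Lib.Helper32.RegSheaf

set_option autoImplicit false
universe u

namespace Groth.Agent.S19432

open CategoryTheory CategoryTheory.Limits AlgebraicGeometry
open Groth.Agent.Lib.Helper32.RegSheaf Groth.Agent.Lib.Helper47.RDerLES
open Groth.Agent.Lib.QCoh CohB1 Groth.Agent.Lib.Cohomology.HHLES

/-- `(F(b))(a) ≅ F(a+b)` -/
noncomputable def twFTwFIso (n : ℕ) (T : Scheme.{u}) (a b c : ℤ) (h : c = a + b)
    (F : (KRR.PY n T).Modules) :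
    KRR.twF n T a (KRR.twF n T b F) ≅ KRR.twF n T c F :=
  (tensorModAssoc (Twist.twistOver n T a) (Twist.twistOver n T b) F).symm ≪≫
    tensorModCongr (twistOverMulIso n T a b c h) (Iso.refl F)

theorem result (n : ℕ) (T : Scheme.{u}) (S : ShortComplex (KRR.PY n T).Modules)
    (hS : S.ShortExact) (h₁ : Coh.IsQCoh S.X₁) (h₂ : Coh.IsQCoh S.X₂) (h₃ : Coh.IsQCoh S.X₃)
    (hreg₂ : KRR.IsRegSheaf n T S.X₂) (hreg₁ : KRR.IsRegSheaf n T (KRR.twF n T 1 S.X₁)) :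
    KRR.IsRegSheaf n T S.X₃ := by
  intro i hi
  have hS' := shortExact_toAb_twF n T (-(i : ℤ)) hS
  have hex := (derivedLES (Coh.pushAb (KRR.pr n T))).exact₃ _ hS' i (i + 1) rfl
  have hz : IsZero ((Coh.RpushAb (KRR.pr n T) (i + 1)).obj
      (Coh.toAb (KRR.twF n T (-(i : ℤ)) S.X₁))) := by
    refine (hreg₁ (i + 1) (by omega)).of_iso ?_
    exact (Coh.RpushAb (KRR.pr n T) (i + 1)).mapIso ((toAbF _).mapIso
      (twFTwFIso n T (-((i + 1 : ℕ) : ℤ)) 1 (-(i : ℤ)) (by push_cast; ring) S.X₁).symm)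
  exact hex.isZero_of_both_zeros ((hreg₂ i hi).eq_of_src _ _) (hz.eq_of_tgt _ _)

end Groth.Agent.S19432
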