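import Groth.Statements.S19433
import Groth.Agent.Lib.Helper32.RegSheaf
import Groth.Agent.Lib.Cohomology.Helper3_Flasque

set_option autoImplicit false
universe u

namespace Groth.Agent.S19433

open CategoryTheory CategoryTheory.Limits AlgebraicGeometry
open Groth.Agent.Lib.Helper32.RegSheaf Groth.Agent.Lib.Helper47.RDerLES
open Groth.Agent.Lib.QCoh CohB1 Groth.Agent.Lib.Cohomology.HHLES Groth.Agent.Lib.Helper77.TwEx

/-- `(F(b))(a) ≅ F(a+b)` -/
noncomputable def twFTwFIso (n : ℕ) (T : Scheme.{u}) (a b c : ℤ) (h : c = a + b)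
    (F : (KRR.PY n T).Modules) :
    KRR.twF n T a (KRR.twF n T b F) ≅ KRR.twF n T c F :=
  (tensorModAssoc (Twist.twistOver n T a) (Twist.twistOver n T b) F).symm ≪≫
    tensorModCongr (twistOverMulIso n T a b c h) (Iso.refl F)

instance {X Y : Scheme.{u}} (f : X ⟶ Y) : PreservesFiniteLimits (Coh.pushAb f) :=
  inferInstanceAs (PreservesFiniteLimits (CohTop.push f.base))

/-- pushforward commutes with the forgetful functors -/
noncomputable def pushToAbIso {X Y : Scheme.{u}} (f : X ⟶ Y) :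
    Scheme.Modules.pushforward f ⋙ toAbF Y ≅ toAbF X ⋙ Coh.pushAb f :=
  NatIso.ofComponents (fun F => Iso.refl _) (by intros; rfl)

/-- `O(c) ≅ O` on `P^n_T` for `c = 0`. -/
noncomputable def twistOverZeroIso (n : ℕ) (T : Scheme.{u}) (c : ℤ) (hc : c = 0) :
    Twist.twistOver n T c ≅ Coh.structureModule (KRR.PY n T) := by
  subst hc
  exact (Scheme.Modules.pullback _).mapIso
    (Groth.Agent.Lib.Proj.twistZeroIso (CohB1.polyGrading n (ULift.{u} ℤ))) ≪≫
    Groth.Agent.Lib.QCoh.pullbackUnitIso _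

/-- the twist by `O(c)`, `c = 0`, is isomorphic to the identity functor -/
noncomputable def twFunZeroIso (n : ℕ) (T : Scheme.{u}) (c : ℤ) (hc : c = 0) :
    twFun n T c ≅ 𝟭 _ :=
  tensorBiObjIso _ ≪≫ tensorRightCongr (twistOverZeroIso n T c hc) ≪≫ tensorRightUnitIso

lemma epi_of_natIso {C D : Type*} [Category C] [Category D] {F G : C ⥤ D} (α : F ≅ G)
    {X Y : C} (f : X ⟶ Y) (h : Epi (G.map f)) : Epi (F.map f) := by
  have : F.map f = α.hom.app X ≫ G.map f ≫ α.inv.app Y := by simp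
  rw [this]
  infer_instance

theorem result (n : ℕ) (T : Scheme.{u}) (S : ShortComplex (KRR.PY n T).Modules)
    (hS : S.ShortExact) (h₁ : Coh.IsQCoh S.X₁) (h₂ : Coh.IsQCoh S.X₂) (h₃ : Coh.IsQCoh S.X₃)
    (hreg₂ : KRR.IsRegSheaf n T (KRR.twF n T 1 S.X₂)) (hreg₃ : KRR.IsRegSheaf n T S.X₃)
    (hepi : Epi ((Scheme.Modules.pushforward (KRR.pr n T)).map S.g)) :
    KRR.IsRegSheaf n T (KRR.twF n T 1 S.X₁) := by
  intro i hi
  obtain ⟨j, rfl⟩ : ∃ j, i = j + 1 := ⟨i - 1, by omega⟩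
  have hS' := shortExact_toAb_twF n T (-(j : ℤ)) hS
  set Δ := derivedLES (Coh.pushAb (KRR.pr n T))
  have hex₁ := Δ.exact₁ _ hS' j (j + 1) rfl
  -- it suffices to treat the twisted module `X₁(-j)`
  refine IsZero.of_iso ?_ ((Coh.RpushAb (KRR.pr n T) (j + 1)).mapIso ((toAbF _).mapIso
      (twFTwFIso n T (-((j + 1 : ℕ) : ℤ)) 1 (-(j : ℤ)) (by push_cast; ring) S.X₁)))
  have hz₂ : IsZero ((Coh.RpushAb (KRR.pr n T) (j + 1)).obj
      (Coh.toAb (KRR.twF n T (-(j : ℤ)) S.X₂))) := by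
    refine (hreg₂ (j + 1) (by omega)).of_iso ?_
    exact (Coh.RpushAb (KRR.pr n T) (j + 1)).mapIso ((toAbF _).mapIso
      (twFTwFIso n T (-((j + 1 : ℕ) : ℤ)) 1 (-(j : ℤ)) (by push_cast; ring) S.X₂).symm)
  refine hex₁.isZero_of_both_zeros ?_ (hz₂.eq_of_tgt _ _)
  -- the connecting morphism vanishes
  rcases Nat.eq_zero_or_pos j with hj | hj
  · subst hj
    -- `R⁰(X₂(0)) ⟶ R⁰(X₃(0))` is an epimorphism
    have hc : (-((0 : ℕ) : ℤ)) = 0 := by simp
    have e1 : Epi ((Scheme.Modules.pushforward (KRR.pr n T)).map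
        ((twFun n T (-((0 : ℕ) : ℤ))).map S.g)) :=
      epi_of_natIso (Functor.isoWhiskerRight (twFunZeroIso n T _ hc)
        (Scheme.Modules.pushforward (KRR.pr n T))) S.g
        (by simpa using hepi)
    have e2 : Epi ((Scheme.Modules.pushforward (KRR.pr n T) ⋙ toAbF T).map
        ((twFun n T (-((0 : ℕ) : ℤ))).map S.g)) := by
      rw [Functor.comp_map]; infer_instance
    have e3 : Epi ((toAbF _ ⋙ Coh.pushAb (KRR.pr n T)).map
        ((twFun n T (-((0 : ℕ) : ℤ))).map S.g)) :=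
      epi_of_natIso (pushToAbIso (KRR.pr n T)).symm _ e2
    have e4 : Epi (((Coh.pushAb (KRR.pr n T)).rightDerived 0).map
        ((toAbF _).map ((twFun n T (-((0 : ℕ) : ℤ))).map S.g))) :=
      epi_of_natIso (Functor.rightDerivedZeroIsoSelf (Coh.pushAb (KRR.pr n T))) _ e3
    haveI := e4
    exact (cancel_epi (((Coh.pushAb (KRR.pr n T)).rightDerived 0).map
      ((toAbF _).map ((twFun n T (-((0 : ℕ) : ℤ))).map S.g)))).1
      ((Δ.comp_δ _ hS' 0 (0 + 1) rfl).trans comp_zero.symm)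
  · exact (hreg₃ j hj).eq_of_src _ _

end Groth.Agent.S19433
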