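import Groth.Statements.S19436
import Mathlib.RingTheory.Nakayama
import Mathlib.LinearAlgebra.FiniteDimensional.Lemmas
-- import your own Groth.Agent.* helpers here

set_option autoImplicit false
universe u
open CAlg

namespace Groth.Agent.S19436

/-- For a Noetherian local commutative algebra R over a field k, with maximal ideal M, and an ideal I of
R whose quotient R/I is finite-dimensional over k of dimension n, the power M^n lies in I. -/
theorem result (k : Type u) [Field k] (R : Type u) [CommRing R]
    [Algebra k R] [IsNoetherianRing R] [IsLocalRing R] (I : Ideal R) [Module.Finite k (R ⧸ I)] (n : ℕ)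
    (hn : Module.finrank k (R ⧸ I) = n) : IsLocalRing.maximalIdeal R ^ n ≤ I := by
  classical
  set M := IsLocalRing.maximalIdeal R with hM
  -- the descending chain `N j = M ^ j • ⊤` of submodules of `R ⧸ I`
  let N : ℕ → Submodule R (R ⧸ I) := fun j => M ^ j • ⊤
  have hNsucc : ∀ j, N (j + 1) = M • N j := by
    intro j
    change M ^ (j + 1) • (⊤ : Submodule R (R ⧸ I)) = M • (M ^ j • ⊤)
    rw [pow_succ', Submodule.mul_smul]
  have hjac : M ≤ Ideal.jacobson ⊥ := by
    rw [IsLocalRing.jacobson_eq_maximalIdeal ⊥ bot_ne_top]
  have key : ∀ j, N j = ⊥ ∨ Module.finrank k ((N j).restrictScalars k) + j ≤ n := by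
    intro j
    induction j with
    | zero =>
      right
      have : (N 0).restrictScalars k = ⊤ := by
        change (M ^ 0 • (⊤ : Submodule R (R ⧸ I))).restrictScalars k = ⊤
        rw [pow_zero, Ideal.one_eq_top, Submodule.top_smul]
        rfl
      rw [this, finrank_top, hn, add_zero]
    | succ j ih =>
      rcases ih with h0 | hle
      · left
        rw [hNsucc, h0, Submodule.smul_bot]
      · by_cases hb : N j = ⊥
        · left
          rw [hNsucc, hb, Submodule.smul_bot]
        · right
          have hlt : N (j + 1) < N j := by
            rw [hNsucc]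
            refine lt_of_le_of_ne Submodule.smul_le_right ?_
            intro heq
            apply hb
            exact Submodule.eq_bot_of_le_smul_of_le_jacobson_bot M (N j)
              (IsNoetherian.noetherian _) heq.symm.le hjac
          have hlt' : (N (j + 1)).restrictScalars k < (N j).restrictScalars k := by
            exact hlt
          have := Submodule.finrank_lt_finrank_of_lt hlt'
          omega
  have hbot : N n = ⊥ := by
    rcases key n with h | h
    · exact h
    · have h0 : Module.finrank k ((N n).restrictScalars k) = 0 := by omega
      have := Submodule.finrank_eq_zero.mp h0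
      exact (Submodule.restrictScalars_eq_bot_iff k R (R ⧸ I)).mp this
  intro x hx
  have hmem : x • (1 : R ⧸ I) ∈ N n := Submodule.smul_mem_smul hx Submodule.mem_top
  rw [hbot, Submodule.mem_bot] at hmem
  have : (Ideal.Quotient.mk I) x = 0 := by
    rw [← hmem, Algebra.smul_def, mul_one]; rfl
  exact Ideal.Quotient.eq_zero_iff_mem.mp this

end Groth.Agent.S19436
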