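import Groth.Statements.S19438
import Mathlib.Algebra.Polynomial.Taylor
import Mathlib.RingTheory.Ideal.Cotangent
import Mathlib.RingTheory.Adjoin.Polynomial.Basic
import Mathlib.LinearAlgebra.Dimension.Finite
-- import your own Groth.Agent.* helpers here

set_option autoImplicit false
universe u
open CAlg

namespace Groth.Agent.S19438

/-- First assertion: let A be a Noetherian local commutative algebra over a field k with maximal ideal
M, residue field k (the map from k to A/M is onto) and embedding dimension dim M/M^2 at least 2, and
let I be a proper ideal with A/I finite-dimensional over k. If A/I is generated as a k-algebra by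
one element, then some element of I does not lie in M^2; that is, the finite closed subscheme
defined by I lies on a smooth hypersurface germ (it is curvilinear). (The published statement is for
the local ring of a smooth surface at a closed point; only a Noetherian local algebra with residue
field k and embedding dimension at least 2 is assumed here, which is what the published argument
uses.) -/
theorem result (k : Type u) [Field k]
    (A : Type u) [CommRing A] [Algebra k A] [IsNoetherianRing A] [IsLocalRing A]
    (hres : Function.Surjective (algebraMap k (IsLocalRing.ResidueField A)))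
    (hemb : 2 ≤ Module.finrank (IsLocalRing.ResidueField A) (IsLocalRing.CotangentSpace A))
    (I : Ideal A) (hI : I ≠ ⊤) [Module.Finite k (A ⧸ I)]
    (f : A ⧸ I) (hf : Algebra.adjoin k {f} = ⊤) :
    ∃ g ∈ I, g ∉ IsLocalRing.maximalIdeal A ^ 2 := by
  classical
  by_contra hcon
  push Not at hcon
  obtain ⟨a, rfl⟩ := Ideal.Quotient.mk_surjective f
  obtain ⟨c, hc⟩ := hres (IsLocalRing.residue A a)
  have hm : a - algebraMap k A c ∈ IsLocalRing.maximalIdeal A := by
    rw [← IsLocalRing.residue_eq_zero_iff, map_sub, ← hc, sub_eq_zero]
    exact IsScalarTower.algebraMap_apply k A (IsLocalRing.ResidueField A) c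
  -- every element is `α + β m` modulo `M ^ 2`
  have key : ∀ x : A, ∃ α β : k,
      x - (algebraMap k A α + algebraMap k A β * (a - algebraMap k A c)) ∈
        IsLocalRing.maximalIdeal A ^ 2 := by
    intro x
    have hx : Ideal.Quotient.mk I x ∈ Algebra.adjoin k {Ideal.Quotient.mk I a} := by
      rw [hf]; trivial
    rw [Algebra.adjoin_singleton_eq_range_aeval] at hx
    obtain ⟨p, hp⟩ := hx
    have h1 : x - Polynomial.aeval a p ∈ I := by
      rw [← Ideal.Quotient.eq]
      rw [← hp]
      exact (Polynomial.aeval_algHom_apply (Ideal.Quotient.mkₐ k I) a p)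
    have h2 := hcon _ h1
    refine ⟨p.eval c, (Polynomial.derivative p).eval c, ?_⟩
    rw [← Ideal.Quotient.eq] at h2 ⊢
    rw [h2]
    have h3 : (Ideal.Quotient.mk (IsLocalRing.maximalIdeal A ^ 2)) (Polynomial.aeval a p) =
        Polynomial.aeval ((Ideal.Quotient.mk (IsLocalRing.maximalIdeal A ^ 2)) a) p :=
      (Polynomial.aeval_algHom_apply (Ideal.Quotient.mkₐ k (IsLocalRing.maximalIdeal A ^ 2)) a p).symm
    rw [h3]
    have h4 : (Ideal.Quotient.mk (IsLocalRing.maximalIdeal A ^ 2)) a =
        algebraMap k (A ⧸ IsLocalRing.maximalIdeal A ^ 2) c +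
          (Ideal.Quotient.mk (IsLocalRing.maximalIdeal A ^ 2)) (a - algebraMap k A c) := by
      rw [map_sub]
      have : (Ideal.Quotient.mk (IsLocalRing.maximalIdeal A ^ 2)) (algebraMap k A c) =
          algebraMap k (A ⧸ IsLocalRing.maximalIdeal A ^ 2) c := rfl
      rw [this]; ring
    have h5 : ((Ideal.Quotient.mk (IsLocalRing.maximalIdeal A ^ 2)) (a - algebraMap k A c)) ^ 2 = 0 := by
      rw [← map_pow, Ideal.Quotient.eq_zero_iff_mem]
      exact Ideal.pow_mem_pow hm 2
    rw [h4, Polynomial.aeval_add_of_sq_eq_zero _ _ _ h5,
      Polynomial.aeval_algebraMap_apply_eq_algebraMap_eval,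
      Polynomial.aeval_algebraMap_apply_eq_algebraMap_eval, map_add, map_mul]
    rfl
  have hle : Module.finrank (IsLocalRing.ResidueField A) (IsLocalRing.CotangentSpace A) ≤ 1 := by
    refine finrank_le_one ((IsLocalRing.maximalIdeal A).toCotangent ⟨_, hm⟩) ?_
    intro w
    obtain ⟨⟨x, hx⟩, rfl⟩ := (IsLocalRing.maximalIdeal A).toCotangent_surjective w
    obtain ⟨α, β, hαβ⟩ := key x
    have hα : α = 0 := by
      by_contra hne
      have hu : IsUnit (algebraMap k A α) := (IsUnit.mk0 α hne).map (algebraMap k A)
      have hmem : algebraMap k A α ∈ IsLocalRing.maximalIdeal A := by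
        have e : algebraMap k A α = x - algebraMap k A β * (a - algebraMap k A c) -
            (x - (algebraMap k A α + algebraMap k A β * (a - algebraMap k A c))) := by ring
        rw [e]
        refine Ideal.sub_mem _ (Ideal.sub_mem _ hx (Ideal.mul_mem_left _ _ hm)) ?_
        exact Ideal.pow_le_self (by norm_num) hαβ
      exact (IsLocalRing.mem_maximalIdeal _).mp hmem hu
    subst hα
    refine ⟨algebraMap A (IsLocalRing.ResidueField A) (algebraMap k A β), ?_⟩
    rw [algebraMap_smul, ← map_smul, Ideal.toCotangent_eq]
    have e : ((algebraMap k A β • (⟨a - algebraMap k A c, hm⟩ : IsLocalRing.maximalIdeal A) :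
        IsLocalRing.maximalIdeal A) : A) - x =
        -(x - (algebraMap k A 0 + algebraMap k A β * (a - algebraMap k A c))) := by
      simp only [map_zero, zero_add]
      change algebraMap k A β * (a - algebraMap k A c) - x = _
      ring
    rw [e]
    exact Ideal.neg_mem_iff _ |>.mpr hαβ
  omega

end Groth.Agent.S19438
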