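import Groth.Statements.S19439
import Mathlib.RingTheory.MvPolynomial.Basic
import Mathlib.LinearAlgebra.FiniteDimensional.Lemmas
-- import your own Groth.Agent.* helpers here

set_option autoImplicit false
universe u
open CAlg

namespace Groth.Agent.S19439

section aux

variable {k : Type u} [Field k] {N : ℕ} (I : Ideal (MvPolynomial (Fin N) k))

/-- image of polynomials of total degree `≤ d` in the quotient -/
noncomputable def W (d : ℕ) : Submodule k (MvPolynomial (Fin N) k ⧸ I) :=
  Submodule.map (Ideal.Quotient.mkₐ k I).toLinearMap (MvPolynomial.restrictTotalDegree (Fin N) k d)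

theorem W_mono {d e : ℕ} (h : d ≤ e) : W I d ≤ W I e := by
  apply Submodule.map_mono
  intro p hp
  rw [MvPolynomial.mem_restrictTotalDegree] at hp ⊢
  exact hp.trans h

theorem W_stable {d : ℕ} (h : W I (d + 1) = W I d) : W I d = ⊤ := by
  rw [eq_top_iff]
  rintro x -
  obtain ⟨p, rfl⟩ := Ideal.Quotient.mk_surjective x
  induction p using MvPolynomial.induction_on with
  | C a =>
    refine ⟨MvPolynomial.C a, ?_, rfl⟩
    rw [SetLike.mem_coe, MvPolynomial.mem_restrictTotalDegree, MvPolynomial.totalDegree_C]
    exact Nat.zero_le _
  | add p q hp hq =>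
    rw [map_add]
    exact Submodule.add_mem _ hp hq
  | mul_X p i hp =>
    obtain ⟨p', hp', hpp'⟩ := hp
    rw [← h]
    refine ⟨p' * MvPolynomial.X i, ?_, ?_⟩
    · rw [SetLike.mem_coe, MvPolynomial.mem_restrictTotalDegree] at hp' ⊢
      refine (MvPolynomial.totalDegree_mul _ _).trans ?_
      rw [MvPolynomial.totalDegree_X]
      omega
    · change (Ideal.Quotient.mk I) (p' * MvPolynomial.X i) = (Ideal.Quotient.mk I) (p * MvPolynomial.X i)
      have : (Ideal.Quotient.mk I) p' = (Ideal.Quotient.mk I) p := hpp'
      rw [map_mul, map_mul, this]

theorem key [Module.Finite k (MvPolynomial (Fin N) k ⧸ I)] (d : ℕ) :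
    W I d = ⊤ ∨ d ≤ Module.finrank k (W I d) := by
  induction d with
  | zero => right; exact Nat.zero_le _
  | succ d ih =>
    by_cases htop : W I (d + 1) = ⊤
    · left; exact htop
    · right
      have hne : W I d ≠ W I (d + 1) := by
        intro heq
        apply htop
        rw [← heq]
        exact W_stable I heq.symm
      have hlt : W I d < W I (d + 1) := lt_of_le_of_ne (W_mono I (Nat.le_succ d)) hne
      have h1 := Submodule.finrank_lt_finrank_of_lt hlt
      have hd : W I d ≠ ⊤ := by
        intro h
        apply htop
        exact top_le_iff.mp (h ▸ W_mono I (Nat.le_succ d))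
      rcases ih with h | h
      · exact absurd h hd
      · omega

end aux

/-- Affine form: for all n and N there is an integer d, that depends only on n and N, such that for
every algebraically closed field k and every ideal I of the polynomial ring in N variables over k
whose quotient has finite dimension n over k, the polynomials of total degree at most d map onto the
quotient. -/
theorem result (n N : ℕ) :
    ∃ d : ℕ, ∀ (k : Type u) [Field k] [IsAlgClosed k] (I : Ideal (MvPolynomial (Fin N) k))
      [Module.Finite k (MvPolynomial (Fin N) k ⧸ I)],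
      Module.finrank k (MvPolynomial (Fin N) k ⧸ I) = n →
      Submodule.map (Ideal.Quotient.mkₐ k I).toLinearMap (MvPolynomial.restrictTotalDegree (Fin N) k d) = ⊤ := by
  refine ⟨n, ?_⟩
  intro k _ _ I _ hn
  rcases key I n with h | h
  · exact h
  · apply Submodule.eq_top_of_finrank_eq
    have := Submodule.finrank_le (W I n)
    change Module.finrank k (W I n) = _
    omega

end Groth.Agent.S19439
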