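import Groth.Statements.S19440
-- import your own Groth.Agent.* helpers here

set_option autoImplicit false
universe u
open LinAlg

namespace Groth.Agent.S19440

/-- Let U, V be commuting n × n matrices over a field k and e a vector which is cyclic for them (the
vectors U^p V^q e span k^n). An invertible matrix T which commutes with U and V and fixes e is the
identity: the general linear group acts freely by simultaneous conjugation on commuting pairs with a
cyclic vector. -/
theorem result (k : Type u) [Field k] (n : ℕ)
    (U V : Matrix (Fin n) (Fin n) k) (hUV : U * V = V * U) (e : Fin n → k)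
    (he : Submodule.span k (Set.range fun p : ℕ × ℕ => (U ^ p.1 * V ^ p.2).mulVec e) = ⊤)
    (T : Matrix.GeneralLinearGroup (Fin n) k)
    (hTU : (T : Matrix (Fin n) (Fin n) k) * U = U * T) (hTV : (T : Matrix (Fin n) (Fin n) k) * V = V * T)
    (hTe : (T : Matrix (Fin n) (Fin n) k).mulVec e = e) : T = 1 := by
  -- `T` commutes with all `U ^ p * V ^ q`
  have hcU : ∀ p : ℕ, (T : Matrix (Fin n) (Fin n) k) * U ^ p = U ^ p * T := by
    intro p
    induction p with
    | zero => simp
    | succ p ih => rw [pow_succ, ← mul_assoc, ih, mul_assoc, hTU, ← mul_assoc]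
  have hcV : ∀ q : ℕ, (T : Matrix (Fin n) (Fin n) k) * V ^ q = V ^ q * T := by
    intro q
    induction q with
    | zero => simp
    | succ q ih => rw [pow_succ, ← mul_assoc, ih, mul_assoc, hTV, ← mul_assoc]
  -- the fixed vectors of `T` form a submodule containing the spanning set
  have hfix : ∀ w : Fin n → k, (T : Matrix (Fin n) (Fin n) k).mulVec w = w := by
    intro w
    have hw : w ∈ Submodule.span k (Set.range fun p : ℕ × ℕ => (U ^ p.1 * V ^ p.2).mulVec e) := by
      rw [he]; trivial
    refine Submodule.span_induction (p := fun w _ => (T : Matrix (Fin n) (Fin n) k).mulVec w = w)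
      ?_ ?_ ?_ ?_ hw
    · rintro _ ⟨⟨p, q⟩, rfl⟩
      simp only
      rw [Matrix.mulVec_mulVec, ← mul_assoc, hcU, mul_assoc, hcV, ← mul_assoc,
        ← Matrix.mulVec_mulVec, hTe]
    · exact Matrix.mulVec_zero _
    · intro x y _ _ hx hy
      rw [Matrix.mulVec_add, hx, hy]
    · intro a x _ hx
      rw [Matrix.mulVec_smul, hx]
  apply Units.ext
  rw [Units.val_one]
  apply Matrix.toLin'.injective
  apply LinearMap.ext
  intro w
  simp only [Matrix.toLin'_apply, Matrix.one_mulVec]
  exact hfix w

end Groth.Agent.S19440
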