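import Groth.Statements.S19443
-- import your own Groth.Agent.* helpers here

set_option autoImplicit false
universe u
open LinAlg
namespace Groth.Agent.S19443

/-- Sum over the group lies in the invariants. -/
theorem sum_mem_invariants (k : Type u) [Field k]
    (G : Type u) [Group G] [Fintype G]
    (V : Type u) [AddCommGroup V] [Module k V] (ρ : Representation k G V) (w : V) :
    (∑ g : G, ρ g w) ∈ ρ.invariants := by
  rw [Representation.mem_invariants]
  intro h
  rw [map_sum]
  have : ∀ g : G, ρ h (ρ g w) = ρ (h * g) w := by
    intro g
    rw [map_mul]; rfl
  simp_rw [this]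
  exact Fintype.sum_bijective (fun g => h * g) (Group.mulLeft_bijective h) _ _ (fun _ => rfl)

/-- Algebraic form: let G be a finite group with order invertible in the field k, ρ a linear
representation of G on a k-vector space V, and ω a nondegenerate bilinear form on V invariant under
G. Then ω restricted to the fixed subspace V^G is nondegenerate (for a finite group of symplectic
automorphisms, the fixed subspace is a symplectic subspace). -/
theorem result (k : Type u) [Field k]
    (G : Type u) [Group G] [Finite G] (hG : (Nat.card G : k) ≠ 0)
    (V : Type u) [AddCommGroup V] [Module k V] (ρ : Representation k G V)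
    (ω : LinearMap.BilinForm k V) (hω : ω.Nondegenerate)
    (hinv : ∀ (g : G) (v w : V), ω (ρ g v) (ρ g w) = ω v w) :
    (ω.restrict ρ.invariants).Nondegenerate := by
  classical
  letI : Fintype G := Fintype.ofFinite G
  have hcard : (Fintype.card G : k) ≠ 0 := by
    rwa [← Nat.card_eq_fintype_card]
  constructor
  · rintro ⟨v, hv⟩ h
    have hv' := (Representation.mem_invariants ρ v).1 hv
    have h0 : ∀ w : V, ω v w = 0 := by
      intro w
      have h1 := h ⟨_, sum_mem_invariants k G V ρ w⟩
      simp only [LinearMap.BilinForm.restrict_apply, LinearMap.domRestrict_apply] at h1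
      rw [map_sum] at h1
      have h2 : ∀ g : G, ω v (ρ g w) = ω v w := by
        intro g
        conv_lhs => rw [← hv' g]
        exact hinv g v w
      simp_rw [h2] at h1
      rw [Finset.sum_const, Finset.card_univ, nsmul_eq_mul] at h1
      exact (mul_eq_zero.1 h1).resolve_left hcard
    have := hω.1 v h0
    exact Subtype.ext this
  · rintro ⟨v, hv⟩ h
    have hv' := (Representation.mem_invariants ρ v).1 hv
    have h0 : ∀ w : V, ω w v = 0 := by
      intro w
      have h1 := h ⟨_, sum_mem_invariants k G V ρ w⟩
      simp only [LinearMap.BilinForm.restrict_apply, LinearMap.domRestrict_apply] at h1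
      rw [map_sum, LinearMap.sum_apply] at h1
      have h2 : ∀ g : G, ω (ρ g w) v = ω w v := by
        intro g
        conv_lhs => rw [← hv' g]
        exact hinv g w v
      simp_rw [h2] at h1
      rw [Finset.sum_const, Finset.card_univ, nsmul_eq_mul] at h1
      exact (mul_eq_zero.1 h1).resolve_left hcard
    have := hω.2 v h0
    exact Subtype.ext this

end Groth.Agent.S19443
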