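import Groth.Statements.S19444
import Groth.Agent.Lib.Helper98.SymNorm

set_option autoImplicit false
universe u
open SymTen

namespace Groth.Agent.S19444

/-- Linearised norm: let A be a commutative ring in which n! is invertible and R a commutative
A-algebra, free of rank n as an A-module. There is a unique A-algebra homomorphism from the
symmetric tensors TS^n_A(R) to A taking r ⊗ ⋯ ⊗ r to the norm of r for every r in R. (The published
corollary is stated for any free algebra of rank n; the construction printed for it divides by n!,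
and n! invertible is assumed here.) -/
theorem result (A : Type u) [CommRing A] (R : Type u) [CommRing R]
    [Algebra A R] [Module.Free A R] [Module.Finite A R] (n : ℕ) (hn : Module.finrank A R = n)
    (hfact : IsUnit ((Nat.factorial n : ℕ) : A)) :
    ∃! φ : SymTen.TS A R n →ₐ[A] A, ∀ r : R, φ (SymTen.tpow A R n r) = Algebra.norm A r := by
  rcases subsingleton_or_nontrivial A with hA | hA
  · refine ⟨AlgHom.ofLinearMap 0 (Subsingleton.elim _ _) (fun _ _ => Subsingleton.elim _ _),
      fun r => Subsingleton.elim _ _, fun ψ _ => ?_⟩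
    ext t
    exact Subsingleton.elim _ _
  let b : Module.Basis (Fin n) A R := Module.finBasisOfFinrankEq A R hn
  have hV : ∀ t : SymTen.TS A R n, t.1 ∈ Groth.Agent.Lib.Helper98.SymNorm.V A R n := fun t =>
    Groth.Agent.Lib.Helper98.SymNorm.mem_V_of_mem_TS A R n hfact t.1 t.2
  let φl : SymTen.TS A R n →ₗ[A] A :=
    (Groth.Agent.Lib.Helper98.SymNorm.ell b) ∘ₗ (SymTen.TS A R n).val.toLinearMap
  let φ : SymTen.TS A R n →ₐ[A] A := AlgHom.ofLinearMap φl
    (Groth.Agent.Lib.Helper98.SymNorm.ell_one b)
    (fun x y => Groth.Agent.Lib.Helper98.SymNorm.ell_mul b _ _ (hV x) (hV y))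
  refine ⟨φ, fun r => Groth.Agent.Lib.Helper98.SymNorm.ell_diag b r, ?_⟩
  intro ψ hψ
  have key : ∀ (x : PiTensorProduct A (fun _ : Fin n => R)) (_ : x ∈ Groth.Agent.Lib.Helper98.SymNorm.V A R n),
      ∀ h : x ∈ SymTen.TS A R n, ψ ⟨x, h⟩ = Groth.Agent.Lib.Helper98.SymNorm.ell b x := by
    intro x hx
    induction hx using Submodule.span_induction with
    | mem x hx =>
      obtain ⟨r, rfl⟩ := hx
      intro h
      rw [Groth.Agent.Lib.Helper98.SymNorm.ell_diag]
      exact hψ r
    | zero =>
      intro h
      have : (⟨0, h⟩ : SymTen.TS A R n) = 0 := rfl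
      rw [this, map_zero, map_zero]
    | add x y hx hy ihx ihy =>
      intro h
      have hx' := Groth.Agent.Lib.Helper98.SymNorm.V_le_TS A R n hx
      have hy' := Groth.Agent.Lib.Helper98.SymNorm.V_le_TS A R n hy
      have : (⟨x + y, h⟩ : SymTen.TS A R n) = ⟨x, hx'⟩ + ⟨y, hy'⟩ := rfl
      rw [this, map_add, ihx hx', ihy hy', map_add]
    | smul a x hx ih =>
      intro h
      have hx' := Groth.Agent.Lib.Helper98.SymNorm.V_le_TS A R n hx
      have : (⟨a • x, h⟩ : SymTen.TS A R n) = a • ⟨x, hx'⟩ := rfl
      rw [this, map_smul, ih hx', map_smul]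
  ext t
  exact key t.1 (hV t) t.2

end Groth.Agent.S19444
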