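import Groth.Statements.S19447
import Groth.Agent.Lib.Helper84.CST1
import Groth.Agent.Lib.Helper84.CST2
import Groth.Agent.Lib.Helper84.CST3
import Groth.Agent.Lib.Helper84.CST4
import Groth.Agent.Lib.Helper76.PSCohen
import Groth.Agent.S0565

set_option autoImplicit false
universe u
open ConstAct

namespace Groth.Agent.S19447

/-- Let k be an algebraically closed field, A the power series ring in n variables over k with maximal
ideal M, and G a finite group of order invertible in k acting faithfully on A by k-algebra
automorphisms, A being finite over the ring of invariants A^G. Say g is a pseudo-reflection or acts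
trivially on the cotangent space when A modulo M^2 and the elements g·a − a has dimension at least n
over k. If G is generated by such elements, then A is flat over A^G and A^G is a regular local ring:
generation by pseudo-reflections implies the other two conditions of the published criterion (only
this sufficiency half is stated; the converse implication is not part of this statement). -/
theorem result (k : Type u) [Field k]
    [IsAlgClosed k] (n : ℕ) (G : Type u) [Group G] [Finite G] [MulSemiringAction G (MvPowerSeries (Fin n) k)]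
    [SMulCommClass G k (MvPowerSeries (Fin n) k)] [FaithfulSMul G (MvPowerSeries (Fin n) k)]
    (hG : (Nat.card G : k) ≠ 0)
    [Module.Finite (ConstAct.inv k (MvPowerSeries (Fin n) k) G) (MvPowerSeries (Fin n) k)]
    (hgen : Subgroup.closure {g : G | n ≤ Module.finrank k (MvPowerSeries (Fin n) k ⧸
        (Ideal.span {x : MvPowerSeries (Fin n) k | ∃ a, x = g • a - a} ⊔
          IsLocalRing.maximalIdeal (MvPowerSeries (Fin n) k) ^ 2))} = ⊤) :
    Module.Flat (ConstAct.inv k (MvPowerSeries (Fin n) k) G) (MvPowerSeries (Fin n) k) ∧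
      IsRegularLocalRing (ConstAct.inv k (MvPowerSeries (Fin n) k) G) := by
  classical
  let _ : Fintype G := Fintype.ofFinite G
  have hcommi : SMulCommClass G (ConstAct.inv k (MvPowerSeries (Fin n) k) G)
      (MvPowerSeries (Fin n) k) := ⟨fun g b a => by
    change g • ((b : MvPowerSeries (Fin n) k) * a) = (b : MvPowerSeries (Fin n) k) * g • a
    rw [smul_mul', b.2 g]⟩
  have hinj : Function.Injective (algebraMap (ConstAct.inv k (MvPowerSeries (Fin n) k) G)
      (MvPowerSeries (Fin n) k)) := Subtype.val_injective
  have hinv : ∀ a : MvPowerSeries (Fin n) k, (∀ g : G, g • a = a) →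
      ∃ b : ConstAct.inv k (MvPowerSeries (Fin n) k) G,
        algebraMap (ConstAct.inv k (MvPowerSeries (Fin n) k) G) (MvPowerSeries (Fin n) k) b = a :=
    fun a ha => ⟨⟨a, ha⟩, rfl⟩
  have hcardG : (Fintype.card G : k) ≠ 0 := by
    rwa [← Nat.card_eq_fintype_card]
  have hu : (Fintype.card G : ConstAct.inv k (MvPowerSeries (Fin n) k) G)
      * algebraMap k (ConstAct.inv k (MvPowerSeries (Fin n) k) G) ((Fintype.card G : k)⁻¹) = 1 := by
    rw [← map_natCast (algebraMap k (ConstAct.inv k (MvPowerSeries (Fin n) k) G)), ← map_mul,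
      mul_inv_cancel₀ hcardG, map_one]
  have hloc : IsLocalRing (ConstAct.inv k (MvPowerSeries (Fin n) k) G) :=
    Groth.Agent.Lib.Helper84.CST.isLocalRing_of_invariants (G := G) hinj hinv
  have hlh : IsLocalHom (algebraMap (ConstAct.inv k (MvPowerSeries (Fin n) k) G)
      (MvPowerSeries (Fin n) k)) :=
    Groth.Agent.Lib.Helper84.CST.isLocalHom_of_invariants (G := G) hinj hinv
  obtain ⟨r, hr⟩ := Groth.Agent.Lib.Helper84.CST.exists_retraction (G := G) hinj _ hu hinv
  have hnoeth : IsNoetherianRing (ConstAct.inv k (MvPowerSeries (Fin n) k) G) :=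
    Groth.Agent.Lib.Helper84.CST.isNoetherianRing_of_retraction r hr
  have hS : ∀ g ∈ {g : G | n ≤ Module.finrank k (MvPowerSeries (Fin n) k ⧸
        (Ideal.span {x : MvPowerSeries (Fin n) k | ∃ a, x = g • a - a} ⊔
          IsLocalRing.maximalIdeal (MvPowerSeries (Fin n) k) ^ 2))},
      ∃ L ∈ IsLocalRing.maximalIdeal (MvPowerSeries (Fin n) k),
        ∃ Δ : MvPowerSeries (Fin n) k →ₗ[ConstAct.inv k (MvPowerSeries (Fin n) k) G]
          MvPowerSeries (Fin n) k, ∀ a, g • a - a = L * Δ a := by
    intro g hg
    obtain ⟨L, hL, hU⟩ := Groth.Agent.Lib.Helper84.CST.exists_spanning (k := k) n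
      (Groth.Agent.Lib.Helper84.CST.Ig g) (Groth.Agent.Lib.Helper84.CST.finrank_quot_sq_le k n) hg
    have hpos : 0 < orderOf g := orderOf_pos g
    have he : (orderOf g : k) ≠ 0 := by
      intro h0
      apply hG
      obtain ⟨m, hm⟩ := orderOf_dvd_natCard g
      rw [hm, Nat.cast_mul, h0, zero_mul]
    obtain ⟨hLm, hprin⟩ := Groth.Agent.Lib.Helper84.CST.exists_principal (k := k)
      (Groth.Agent.Lib.Helper84.CST.ps_hres k n) g hpos he L hL hU
    by_cases h0 : g • L - L = 0
    · refine ⟨0, zero_mem _, 0, fun a => ?_⟩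
      obtain ⟨b, hb⟩ := hprin a
      rw [hb, h0, zero_mul, zero_mul]
    · choose Δ hΔ using hprin
      refine ⟨g • L - L, hLm, ⟨{ toFun := Δ, map_add' := fun x y => ?_, map_smul' := fun b x => ?_ }, hΔ⟩⟩
      · apply mul_left_cancel₀ h0
        rw [mul_add, ← hΔ, ← hΔ, ← hΔ, smul_add]
        abel
      · apply mul_left_cancel₀ h0
        rw [RingHom.id_apply, ← hΔ, smul_comm g b x, ← smul_sub, hΔ x, mul_smul_comm]
  have hfree : Module.Free (ConstAct.inv k (MvPowerSeries (Fin n) k) G) (MvPowerSeries (Fin n) k) :=
    Groth.Agent.Lib.Helper84.CST.free_of_pseudo (G := G) hinj _ hu hinv _ hS hgen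
  have hflat : Module.Flat (ConstAct.inv k (MvPowerSeries (Fin n) k) G) (MvPowerSeries (Fin n) k) :=
    Module.Flat.of_free
  exact ⟨hflat, Groth.Agent.S0565.result (ConstAct.inv k (MvPowerSeries (Fin n) k) G)
    (MvPowerSeries (Fin n) k)⟩

end Groth.Agent.S19447
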