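import Groth.Statements.S19449
import Mathlib
-- import your own Groth.Agent.* helpers here

set_option autoImplicit false
universe u
open SymRep

namespace Groth.Agent.S19449

section helpers
variable {k : Type u} [Field k] {n : ℕ}

noncomputable def act (σ : Equiv.Perm (Fin n)) :
    MvPolynomial (Fin n × Fin 2) k →ₐ[k] MvPolynomial (Fin n × Fin 2) k :=
  MvPolynomial.rename (fun v : Fin n × Fin 2 => (σ v.1, v.2))

noncomputable def mono (p : Fin n → ℕ × ℕ) : MvPolynomial (Fin n × Fin 2) k :=
  ∏ i, (MvPolynomial.X (i, 0)) ^ (p i).1 * MvPolynomial.X (i, 1) ^ (p i).2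

noncomputable def delta (p : Fin n → ℕ × ℕ) : MvPolynomial (Fin n × Fin 2) k :=
  (Matrix.of fun i j : Fin n =>
    (MvPolynomial.X (i, 0) : MvPolynomial (Fin n × Fin 2) k) ^ (p j).1 *
      MvPolynomial.X (i, 1) ^ (p j).2).det

theorem act_X (σ : Equiv.Perm (Fin n)) (v : Fin n × Fin 2) :
    act (k := k) σ (MvPolynomial.X v) = MvPolynomial.X (σ v.1, v.2) := by
  unfold act
  rw [MvPolynomial.rename_X]

theorem delta_eq (p : Fin n → ℕ × ℕ) :
    delta (k := k) p = ∑ σ : Equiv.Perm (Fin n),
      ((Equiv.Perm.sign σ : ℤˣ) : ℤ) • act σ (mono p) := by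
  unfold delta
  rw [Matrix.det_apply']
  apply Finset.sum_congr rfl
  intro σ _
  rw [zsmul_eq_mul]
  congr 1
  unfold mono
  rw [map_prod]
  apply Finset.prod_congr rfl
  intro i _
  rw [Matrix.of_apply, map_mul, map_pow, map_pow, act_X, act_X]

theorem delta_alt (p : Fin n → ℕ × ℕ) (τ : Equiv.Perm (Fin n)) :
    act (k := k) τ (delta p) = ((Equiv.Perm.sign τ : ℤˣ) : ℤ) • delta p := by
  unfold delta
  rw [AlgHom.map_det]
  have h : (act (k := k) τ).mapMatrix (Matrix.of fun i j : Fin n =>
      (MvPolynomial.X (i, 0) : MvPolynomial (Fin n × Fin 2) k) ^ (p j).1 *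
        MvPolynomial.X (i, 1) ^ (p j).2) =
      (Matrix.of fun i j : Fin n =>
      (MvPolynomial.X (i, 0) : MvPolynomial (Fin n × Fin 2) k) ^ (p j).1 *
        MvPolynomial.X (i, 1) ^ (p j).2).submatrix τ id := by
    ext i j
    rw [AlgHom.mapMatrix_apply, Matrix.map_apply, Matrix.of_apply, Matrix.submatrix_apply,
      Matrix.of_apply, map_mul, map_pow, map_pow, act_X, act_X]
    rfl
  rw [h, Matrix.det_permute, zsmul_eq_mul]

theorem alt_of_mem_span (f : MvPolynomial (Fin n × Fin 2) k)
    (hf : f ∈ Submodule.span k (Set.range fun p : Fin n → ℕ × ℕ => delta (k := k) p))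
    (σ : Equiv.Perm (Fin n)) :
    act σ f = ((Equiv.Perm.sign σ : ℤˣ) : ℤ) • f := by
  induction hf using Submodule.span_induction with
  | mem x hx =>
    obtain ⟨p, rfl⟩ := hx
    exact delta_alt p σ
  | zero => simp
  | add x y _ _ hx hy => rw [map_add, hx, hy, smul_add]
  | smul a x _ hx => rw [map_smul, hx, smul_comm]

theorem mono_pd (d : (Fin n × Fin 2) →₀ ℕ) :
    mono (k := k) (fun i => (d (i, 0), d (i, 1))) = MvPolynomial.monomial d (1 : k) := by
  unfold mono
  rw [MvPolynomial.monomial_eq, map_one, one_mul,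
    Finsupp.prod_fintype _ _ (fun v => pow_zero _), Fintype.prod_prod_type]
  apply Finset.prod_congr rfl
  intro i _
  rw [Fin.prod_univ_two]

noncomputable def D (p : Fin n → ℕ × ℕ) : (Fin n × Fin 2) →₀ ℕ :=
  Finsupp.equivFunOnFinite.symm (fun v => if v.2 = 0 then (p v.1).1 else (p v.1).2)

theorem D_apply0 (p : Fin n → ℕ × ℕ) (i : Fin n) : D p (i, 0) = (p i).1 := by
  simp [D]

theorem D_apply1 (p : Fin n → ℕ × ℕ) (i : Fin n) : D p (i, 1) = (p i).2 := by
  simp [D]

theorem mono_eq (p : Fin n → ℕ × ℕ) : mono (k := k) p = MvPolynomial.monomial (D p) (1 : k) := by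
  have h := mono_pd (k := k) (D p)
  simp only [D_apply0, D_apply1, Prod.mk.eta] at h
  exact h

theorem inj_aux (σ : Equiv.Perm (Fin n)) :
    Function.Injective (fun v : Fin n × Fin 2 => (σ v.1, v.2)) := by
  intro a b hab
  simp only [Prod.mk.injEq] at hab
  exact Prod.ext (σ.injective hab.1) hab.2

theorem coeff_act_mono (p q : Fin n → ℕ × ℕ) (σ : Equiv.Perm (Fin n)) :
    MvPolynomial.coeff (D q) (act σ (mono (k := k) p)) =
      if (∀ i, p i = q (σ i)) then 1 else 0 := by
  classical
  rw [mono_eq]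
  unfold act
  rw [MvPolynomial.rename_monomial, MvPolynomial.coeff_monomial]
  have hmd : ∀ (i : Fin n) (c : Fin 2),
      Finsupp.mapDomain (fun v : Fin n × Fin 2 => (σ v.1, v.2)) (D p) (σ i, c) = D p (i, c) :=
    fun i c => Finsupp.mapDomain_apply (inj_aux σ) (D p) (i, c)
  have key : (Finsupp.mapDomain (fun v : Fin n × Fin 2 => (σ v.1, v.2)) (D p) = D q) ↔
      ∀ i, p i = q (σ i) := by
    constructor
    · intro h i
      have h0 := DFunLike.congr_fun h (σ i, 0)
      have h1 := DFunLike.congr_fun h (σ i, 1)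
      rw [hmd, D_apply0, D_apply0] at h0
      rw [hmd, D_apply1, D_apply1] at h1
      exact Prod.ext h0 h1
    · intro h
      apply Finsupp.ext
      rintro ⟨i', c⟩
      obtain ⟨i, rfl⟩ := σ.surjective i'
      rw [hmd]
      revert c
      rw [Fin.forall_fin_two]
      exact ⟨by rw [D_apply0, D_apply0, h i], by rw [D_apply1, D_apply1, h i]⟩
  simp only [key]

theorem perm_eq_one_of_strictMono (σ : Equiv.Perm (Fin n)) (h : StrictMono σ) : σ = 1 := by
  ext i
  have h1 := h.le_id i
  have h2 := h.id_le i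
  exact congrArg Fin.val (le_antisymm h1 h2)

theorem coeff_delta (p q : Fin n → ℕ ×ₗ ℕ) (hp : StrictMono p) (hq : StrictMono q) :
    MvPolynomial.coeff (D (fun j => ofLex (q j))) (delta (k := k) (fun j => ofLex (p j))) =
      if p = q then 1 else 0 := by
  classical
  rw [delta_eq, MvPolynomial.coeff_sum]
  simp only [MvPolynomial.coeff_smul, coeff_act_mono]
  have hσ : ∀ σ : Equiv.Perm (Fin n), (∀ i, ofLex (p i) = ofLex (q (σ i))) → σ = 1 := by
    intro σ h
    apply perm_eq_one_of_strictMono
    intro i j hij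
    have h1 : p i < p j := hp hij
    have e1 : p i = q (σ i) := h i
    have e2 : p j = q (σ j) := h j
    rw [e1, e2] at h1
    exact hq.lt_iff_lt.mp h1
  rw [Finset.sum_eq_single (1 : Equiv.Perm (Fin n))]
  · have hiff : (∀ i, ofLex (p i) = ofLex (q ((1 : Equiv.Perm (Fin n)) i))) ↔ p = q := by
      constructor
      · intro h
        funext i
        exact h i
      · intro h i
        rw [h]
        rfl
    rw [Equiv.Perm.sign_one, Units.val_one, one_smul]
    by_cases hpq : p = q
    · rw [if_pos hpq, if_pos (hiff.mpr hpq)]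
    · rw [if_neg hpq, if_neg (fun h => hpq (hiff.mp h))]
  · intro σ _ hne
    rw [if_neg, smul_zero]
    intro h
    exact hne (hσ σ h)
  · intro h
    exact absurd (Finset.mem_univ _) h

theorem mem_span_of_alt [CharZero k] (f : MvPolynomial (Fin n × Fin 2) k)
    (hf : ∀ σ : Equiv.Perm (Fin n), act σ f = ((Equiv.Perm.sign σ : ℤˣ) : ℤ) • f) :
    f ∈ Submodule.span k (Set.range fun p : Fin n → ℕ × ℕ => delta (k := k) p) := by
  classical
  let A : MvPolynomial (Fin n × Fin 2) k →ₗ[k] MvPolynomial (Fin n × Fin 2) k :=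
    ∑ σ : Equiv.Perm (Fin n), ((Equiv.Perm.sign σ : ℤˣ) : ℤ) • (act (k := k) σ).toLinearMap
  have hA : ∀ g, A g = ∑ σ : Equiv.Perm (Fin n),
      ((Equiv.Perm.sign σ : ℤˣ) : ℤ) • act σ g := by
    intro g
    simp [A, LinearMap.sum_apply]
  have h1 : A f = (Nat.factorial n : k) • f := by
    rw [hA]
    have h0 : ∀ σ : Equiv.Perm (Fin n), ((Equiv.Perm.sign σ : ℤˣ) : ℤ) • act σ f = f := by
      intro σ
      rw [hf σ, smul_smul]
      have h00 : ((Equiv.Perm.sign σ : ℤˣ) : ℤ) * ((Equiv.Perm.sign σ : ℤˣ) : ℤ) = 1 := by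
        rcases Int.units_eq_one_or (Equiv.Perm.sign σ) with h | h <;> simp [h]
      rw [h00, one_smul]
    rw [Finset.sum_congr rfl (fun σ _ => h0 σ), Finset.sum_const, Finset.card_univ,
      Fintype.card_perm, Fintype.card_fin, Nat.cast_smul_eq_nsmul]
  have hAmono : ∀ d : (Fin n × Fin 2) →₀ ℕ, A (MvPolynomial.monomial d 1) =
      delta (fun i => (d (i, 0), d (i, 1))) := by
    intro d
    rw [hA, delta_eq, mono_pd]
  have h2 : A f = ∑ d ∈ f.support, f.coeff d • delta (k := k) (fun i => (d (i, 0), d (i, 1))) := by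
    conv_lhs => rw [f.as_sum]
    rw [map_sum]
    apply Finset.sum_congr rfl
    intro d _
    have h3 : MvPolynomial.monomial d (f.coeff d) =
        f.coeff d • MvPolynomial.monomial d (1 : k) := by
      rw [MvPolynomial.smul_monomial, smul_eq_mul, mul_one]
    rw [h3, map_smul, hAmono]
  have h3 : (Nat.factorial n : k) • f ∈
      Submodule.span k (Set.range fun p : Fin n → ℕ × ℕ => delta (k := k) p) := by
    rw [← h1, h2]
    apply Submodule.sum_mem
    intro d _
    exact Submodule.smul_mem _ _ (Submodule.subset_span ⟨_, rfl⟩)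
  have hne : (Nat.factorial n : k) ≠ 0 := Nat.cast_ne_zero.mpr (Nat.factorial_ne_zero n)
  have h4 := Submodule.smul_mem _ ((Nat.factorial n : k)⁻¹) h3
  rwa [smul_smul, inv_mul_cancel₀ hne, one_smul] at h4

end helpers

/-- Over a field k of characteristic zero, let the symmetric group S_n act on the polynomial ring in the
2n variables x_i, y_i (i < n; the variable (i, 0) is x_i and (i, 1) is y_i) by permuting the index
i, and for an n-tuple p of pairs (p_j, q_j) of exponents let Δ_p be the determinant det(x_i^{p_j}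
y_i^{q_j}). A polynomial is alternating — each permutation acts on it by its sign — exactly when it
is a k-linear combination of the Δ_p; and the Δ_p for p strictly increasing in the lexicographic
order on pairs (one for each n-element set of exponent pairs) are linearly independent. Hence these
Δ_p form a basis of the space of alternating polynomials. -/
theorem result (k : Type u) [Field k] [CharZero k] (n : ℕ) :
    (∀ f : MvPolynomial (Fin n × Fin 2) k,
      (∀ σ : Equiv.Perm (Fin n),
          MvPolynomial.rename (fun v : Fin n × Fin 2 => (σ v.1, v.2)) f = ((Equiv.Perm.sign σ : ℤˣ) : ℤ) • f) ↔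
        f ∈ Submodule.span k (Set.range fun p : Fin n → ℕ × ℕ =>
          (Matrix.of fun i j : Fin n =>
            (MvPolynomial.X (i, 0) : MvPolynomial (Fin n × Fin 2) k) ^ (p j).1 * MvPolynomial.X (i, 1) ^ (p j).2).det)) ∧
    LinearIndependent k (fun p : {p : Fin n → ℕ ×ₗ ℕ // StrictMono p} =>
      (Matrix.of fun i j : Fin n =>
        (MvPolynomial.X (i, 0) : MvPolynomial (Fin n × Fin 2) k) ^ (ofLex (p.1 j)).1 *
          MvPolynomial.X (i, 1) ^ (ofLex (p.1 j)).2).det) := by
  classical
  refine ⟨?_, ?_⟩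
  · intro f
    constructor
    · intro hf
      exact mem_span_of_alt f hf
    · intro hf σ
      exact alt_of_mem_span f hf σ
  · rw [linearIndependent_iff']
    intro s g hg q hq
    have h0 := congrArg (MvPolynomial.coeff (D (fun j => ofLex (q.1 j)))) hg
    rw [MvPolynomial.coeff_sum, MvPolynomial.coeff_zero] at h0
    simp only [MvPolynomial.coeff_smul, smul_eq_mul] at h0
    rw [Finset.sum_eq_single q] at h0
    · have h1 := coeff_delta (k := k) q.1 q.1 q.2 q.2
      rw [if_pos rfl] at h1
      have h2 : g q * 1 = 0 := by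
        rw [← h1]
        exact h0
      rwa [mul_one] at h2
    · intro p' _ hne
      have h1 := coeff_delta (k := k) p'.1 q.1 p'.2 q.2
      rw [if_neg (fun h => hne (Subtype.ext h))] at h1
      have h2 : MvPolynomial.coeff (D fun j => ofLex (q.1 j))
          (delta (k := k) fun j => ofLex (p'.1 j)) = 0 := h1
      show g p' * MvPolynomial.coeff (D fun j => ofLex (q.1 j))
          (delta (k := k) fun j => ofLex (p'.1 j)) = 0
      rw [h2, mul_zero]
    · intro h
      exact absurd hq h

end Groth.Agent.S19449
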