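import Groth.Statements.S19452
import Groth.Agent.Lib.Helper98.LiftIdeal

set_option autoImplicit false
universe u
attribute [local instance] W4c6puncthilbintro.dualAlgebra
open HilbD

namespace Groth.Agent.S19452

/-- Let A be a commutative ring, R a commutative A-algebra free as an A-module, I an ideal of R with R/I
flat over A, and view the dual numbers R[ε] as an algebra over A[ε] (ε ↦ ε). For φ : I → R/I linear
over R, let J_φ be the ideal of elements a + bε of R[ε] with a ∈ I and b ≡ φ(a) modulo I. Then each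
R[ε]/J_φ is flat over A[ε] and J_φ reduces to I modulo ε; the assignment φ ↦ J_φ is injective; and
every ideal J of R[ε] with R[ε]/J flat over A[ε] which reduces to I modulo ε equals some J_φ. Thus
the first-order liftings of I correspond one-to-one to Hom_R(I, R/I) (the tangent space of the
Hilbert scheme at I). -/
theorem result (A : Type u) [CommRing A] (R : Type u) [CommRing R]
    [Algebra A R] [Module.Free A R] (I : Ideal R) [Module.Flat A (R ⧸ I)] :
    (∀ φ : I →ₗ[R] R ⧸ I,
        Module.Flat (DualNumber A) (DualNumber R ⧸ W4c6puncthilbintro.liftIdeal I φ) ∧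
          Ideal.map (TrivSqZeroExt.fstHom A R R) (W4c6puncthilbintro.liftIdeal I φ) = I) ∧
      Function.Injective (W4c6puncthilbintro.liftIdeal I) ∧
      ∀ J : Ideal (DualNumber R), Module.Flat (DualNumber A) (DualNumber R ⧸ J) →
        Ideal.map (TrivSqZeroExt.fstHom A R R) J = I →
          ∃ φ : I →ₗ[R] R ⧸ I, J = W4c6puncthilbintro.liftIdeal I φ := by
  obtain ⟨-, clause2⟩ := Groth.Agent.S11294.result R I
  refine ⟨?_, ?_, ?_⟩
  · intro φ
    obtain ⟨hmap, hflat⟩ := (clause2 (W4c6puncthilbintro.liftIdeal I φ)).mpr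
      ⟨φ, Groth.Agent.Lib.Helper98.LiftIdeal.mem_liftIdeal φ⟩
    exact ⟨Groth.Agent.Lib.Helper98.LiftIdeal.flat_quotient A _ hmap hflat, hmap⟩
  · intro φ ψ h
    ext ⟨a, ha⟩
    obtain ⟨b, hb⟩ := Ideal.Quotient.mk_surjective (φ ⟨a, ha⟩)
    have h1 : (TrivSqZeroExt.inl a + TrivSqZeroExt.inr b : DualNumber R) ∈
        W4c6puncthilbintro.liftIdeal I φ :=
      (Groth.Agent.Lib.Helper98.LiftIdeal.mem_liftIdeal φ a b).mpr ⟨ha, hb⟩
    rw [h] at h1
    obtain ⟨_, h2⟩ := (Groth.Agent.Lib.Helper98.LiftIdeal.mem_liftIdeal ψ a b).mp h1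
    rw [← hb, h2]
  · intro J hJflat hJmap
    have hflat : ∀ m : DualNumber R ⧸ J, Ideal.Quotient.mk J DualNumber.eps * m = 0 →
        ∃ m' : DualNumber R ⧸ J, m = Ideal.Quotient.mk J DualNumber.eps * m' := by
      intro m hm
      rw [← Groth.Agent.Lib.Helper98.LiftIdeal.eps_smul A] at hm
      obtain ⟨m', hm'⟩ := Groth.Agent.Lib.Helper98.DualFlat.exists_eq_smul_of_flat
        (DualNumber.eps : DualNumber A) DualNumber.eps_mul_eps
        (Groth.Agent.Lib.Helper98.LiftIdeal.dual_exact A) m hm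
      exact ⟨m', by rw [← Groth.Agent.Lib.Helper98.LiftIdeal.eps_smul A]; exact hm'⟩
    obtain ⟨φ, hφ⟩ := (clause2 J).mp ⟨hJmap, hflat⟩
    refine ⟨φ, ?_⟩
    apply Groth.Agent.S11294.ideal_ext
    intro a b
    rw [hφ, Groth.Agent.Lib.Helper98.LiftIdeal.mem_liftIdeal]

end Groth.Agent.S19452
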