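import Groth.Statements.S19455
import Mathlib
import Groth.Agent.Lib.Helper48.TensorDesc
import Groth.Agent.Lib.Helper48.MeroInv
import Groth.Agent.Lib.Ample.SecTwistBridge
-- import your own Groth.Agent.* helpers here

set_option autoImplicit false
universe u
open CategoryTheory CategoryTheory.Limits AlgebraicGeometry TopologicalSpace Opposite
open Mero

namespace Groth.Agent.S19455

section Aux
open Groth.Agent.Lib.Ample Groth.Agent.Lib.Helper48

variable {X : Scheme.{u}}

theorem divCond_mul (D E : Mero.Divisor X) (x : X) (t t' : Mero.KStalk X x)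
    (h : Mero.DivCond D x t) (h' : Mero.DivCond E x t') : Mero.DivCond (D * E) x (t * t') := by
  obtain ⟨g, hg⟩ := QuotientGroup.mk_surjective (D.1 x)
  obtain ⟨g', hg'⟩ := QuotientGroup.mk_surjective (E.1 x)
  refine MeroDivMod.divCond_of_eq_mk (D * E) x (g * g') ?_ (t * t') ?_
  · show D.1 x * E.1 x = _
    rw [← hg, ← hg']
    rfl
  · have e : t * t' * ((g * g' : (Mero.KStalk X x)ˣ) : Mero.KStalk X x) = (t * g) * (t' * g') := by
      rw [Units.val_mul]; ring
    rw [e]
    exact mul_mem (h g hg.symm) (h' g' hg'.symm)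

noncomputable def mulSec (D E : Mero.Divisor X) (U : X.Opens) (t : Γ(Mero.divMod D, U))
    (t' : Γ(Mero.divMod E, U)) : Γ(Mero.divMod (D * E), U) :=
  ⟨fun y => t.1 y * t'.1 y, ⟨Mero.kLoc_mul X U t.1 t'.1 t.2.1 t'.2.1,
    fun y => divCond_mul D E y.1 _ _ (t.2.2 y) (t'.2.2 y)⟩⟩

theorem exists_mu (D E : Mero.Divisor X) :
    ∃ μ : CohB1.tensorMod (Mero.divMod D) (Mero.divMod E) ⟶ Mero.divMod (D * E),
      ∀ (U : X.Opens) (t : Γ(Mero.divMod D, U)) (t' : Γ(Mero.divMod E, U)),
        μ.app U (tmulSect _ _ t t') = mulSec D E U t t' := by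
  refine TensorDesc.exists_desc (Mero.divMod D) (Mero.divMod E) (Mero.divMod (D * E))
    (mulSec D E) ?_ ?_ ?_ ?_ ?_
  · intro U m m' n
    exact Subtype.ext (funext fun y => add_mul _ _ _)
  · intro U a m n
    exact Subtype.ext (funext fun y => smul_mul_assoc _ _ _)
  · intro U m n n'
    exact Subtype.ext (funext fun y => mul_add _ _ _)
  · intro U a m n
    exact Subtype.ext (funext fun y => mul_smul_comm _ _ _)
  · intro U V i m n
    rfl

theorem exists_gen (D E : Mero.Divisor X)
    (μ : CohB1.tensorMod (Mero.divMod D) (Mero.divMod E) ⟶ Mero.divMod (D * E))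
    (hμ : ∀ (U : X.Opens) (t : Γ(Mero.divMod D, U)) (t' : Γ(Mero.divMod E, U)),
        μ.app U (tmulSect _ _ t t') = mulSec D E U t t') (x : X) :
    ∃ (W : X.Opens) (_ : x ∈ W) (e : Γ(CohB1.tensorMod (Mero.divMod D) (Mero.divMod E), W)),
      IsGenerator _ W e ∧ IsGenerator (Mero.divMod (D * E)) W (μ.app W e) := by
  obtain ⟨U, hxU, f, hf⟩ := D.2 x
  obtain ⟨V, hxV, g, hg⟩ := E.2 x
  obtain ⟨W, hW⟩ : ∃ W : X.Opens, W = U ⊓ V := ⟨_, rfl⟩
  have hWU : W ≤ U := hW ▸ inf_le_left
  have hWV : W ≤ V := hW ▸ inf_le_right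
  obtain ⟨fW, hfW0⟩ : ∃ fW : (Γ(Mero.kmod X, W))ˣ, fW =
    Units.map ((Mero.kring X).obj.map (homOfLE hWU).op).hom.toMonoidHom f := ⟨_, rfl⟩
  obtain ⟨gW, hgW0⟩ : ∃ gW : (Γ(Mero.kmod X, W))ˣ, gW =
    Units.map ((Mero.kring X).obj.map (homOfLE hWV).op).hom.toMonoidHom g := ⟨_, rfl⟩
  have hfW : ∀ y : W, D.1 y.1 = Mero.germOf fW y := fun y =>
    (hf ⟨y.1, hWU y.2⟩).trans (congrArg _ (Units.ext (by rw [hfW0]; rfl)))
  have hgW : ∀ y : W, E.1 y.1 = Mero.germOf gW y := fun y =>
    (hg ⟨y.1, hWV y.2⟩).trans (congrArg _ (Units.ext (by rw [hgW0]; rfl)))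
  have hfgW : ∀ y : W, (D * E).1 y.1 = Mero.germOf (fW * gW) y := fun y => by
    show D.1 y.1 * E.1 y.1 = _
    rw [hfW y, hgW y]
    exact (congrArg (QuotientGroup.mk (s := Mero.stalkUnits X y.1))
      (map_mul (Units.map (Mero.evalK X W y).toMonoidHom) fW gW)).symm
  obtain ⟨eD, heD, gD⟩ := MeroInv.exists_isGenerator D W fW hfW
  obtain ⟨eE, heE, gE⟩ := MeroInv.exists_isGenerator E W gW hgW
  obtain ⟨eDE, heDE, gDE⟩ := MeroInv.exists_isGenerator (D * E) W (fW * gW) hfgW
  refine ⟨W, hW ▸ ⟨hxU, hxV⟩, tmulSect _ _ eD eE, gD.tmul gE, ?_⟩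
  have e1 : μ.app W (tmulSect _ _ eD eE) = eDE := by
    rw [hμ]
    apply Subtype.ext
    funext y
    show eD.1 y * eE.1 y = eDE.1 y
    rw [heD, heE, heDE, mul_inv, Units.val_mul]
    rfl
  rw [e1]
  exact gDE

end Aux

/-- Let X be an integral scheme and D, E Cartier divisors on X (global sections of the sheaf of units of
K_X modulo units of O_X, written multiplicatively, so that D · E stands for the sum of the two
divisors). Then there is a morphism of O_X-modules from the tensor product O_X(D) ⊗ O_X(E) to O_X(D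
· E) which sends each section t ⊗ t' over an open subset U to the product t · t' computed in the
sheaf of meromorphic functions K_X, and this morphism is an isomorphism. (The published statement is
for an irreducible normal variety over an algebraically closed field, where a Cartier divisor is a
locally principal Weil divisor and O_X(D) is its sheaf of rational functions φ with div φ + D ≥ 0
locally, a subsheaf of the constant sheaf of rational functions equal to O_U · φ⁻¹ wherever D is the
divisor of φ; this row states it for the fractional ideals O_X(D) ⊆ K_X of Cartier divisors on an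
arbitrary integral scheme.) -/
theorem result (X : Scheme.{u}) [AlgebraicGeometry.IsIntegral X]
    (D E : Mero.Divisor X) :
    ∃ μ : CohB1.tensorMod (Mero.divMod D) (Mero.divMod E) ⟶ Mero.divMod (D * E),
      (∀ (U : X.Opens) (t : Γ(Mero.divMod D, U)) (t' : Γ(Mero.divMod E, U)),
        (Mero.divModι (D * E)).app U (μ.app U (SecTwist.tmul (Mero.divMod D) (Mero.divMod E) U t t')) =
          (Mero.divModι D).app U t * (Mero.divModι E).app U t') ∧
      IsIso μ := by
  obtain ⟨μ, hμ⟩ := exists_mu D E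
  refine ⟨μ, fun U t t' => ?_, ?_⟩
  · rw [Groth.Agent.Lib.Ample.tmul_eq_tmulSect, hμ]
    rfl
  · exact Groth.Agent.Lib.Helper48.TensorDesc.isIso_of_isGenerator μ (exists_gen D E μ hμ)

end Groth.Agent.S19455
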