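import Groth.Statements.S19457
import Mathlib
import Groth.Agent.Lib.Helper48.DivOfSection
-- import your own Groth.Agent.* helpers here

set_option autoImplicit false
universe u
open CategoryTheory CategoryTheory.Limits AlgebraicGeometry TopologicalSpace Opposite
open PicF2

namespace Groth.Agent.S19457

section Aux
open Groth.Agent.Lib.Ample Groth.Agent.Lib.Helper48

variable {X : Scheme.{u}}

theorem hid' (M : X.Modules) (U : X.Opens) (y : Γ(M, U)) :
    M.presheaf.map (homOfLE (le_refl U)).op y = y := by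
  have h2 : (homOfLE (le_refl U)) = 𝟙 U := rfl
  rw [h2, op_id, M.presheaf.map_id]
  rfl

/-- restriction of the relation `val s' = h • val s` -/
theorem val_rel_res {L : X.Modules} (s s' : Coh.structureModule X ⟶ L) {U V : X.Opens} (i : V ⟶ U)
    (h : Γ(X, U))
    (hrel : (SecTwist.val s' U : Γ(L, U)) = h • (SecTwist.val s U : Γ(L, U))) :
    (SecTwist.val s' V : Γ(L, V)) = X.presheaf.map i.op h • (SecTwist.val s V : Γ(L, V)) := by
  have h1 : L.presheaf.map i.op (SecTwist.val s' U : Γ(L, U)) = (SecTwist.val s' V : Γ(L, V)) :=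
    SecTwist.map_val s' i
  have h2 : L.presheaf.map i.op (SecTwist.val s U : Γ(L, U)) = (SecTwist.val s V : Γ(L, V)) :=
    SecTwist.map_val s i
  exact h1.symm.trans ((congrArg (fun t : Γ(L, U) => L.presheaf.map i.op t) hrel).trans
    ((L.map_smul i h _).trans (congrArg (fun t : Γ(L, V) => X.presheaf.map i.op h • t) h2)))

theorem val_coeff_res {L : X.Modules} (s : Coh.structureModule X ⟶ L) {U V : X.Opens} (i : V ⟶ U)
    (e : Γ(L, U)) (c : Γ(X, U)) (hc : (SecTwist.val s U : Γ(L, U)) = c • e) :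
    (SecTwist.val s V : Γ(L, V)) = X.presheaf.map i.op c • L.presheaf.map i.op e := by
  have h2 : L.presheaf.map i.op (SecTwist.val s U : Γ(L, U)) = (SecTwist.val s V : Γ(L, V)) :=
    SecTwist.map_val s i
  exact h2.symm.trans ((congrArg (fun t : Γ(L, U) => L.presheaf.map i.op t) hc).trans
    (L.map_smul i c _))

theorem zeroScheme_eq_of_rel {L : X.Modules} (s s' : Coh.structureModule X ⟶ L) (h g : Γ(X, ⊤))
    (hg : h * g = 1)
    (hrel : (SecTwist.val s' ⊤ : Γ(L, ⊤)) = h • (SecTwist.val s ⊤ : Γ(L, ⊤))) :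
    PicF2.zeroScheme L s' = PicF2.zeroScheme L s := by
  have key : ∀ U : X.Opens, (show Ideal Γ(X, U) from PicF2.zeroIdealOn L s' U) =
      (show Ideal Γ(X, U) from PicF2.zeroIdealOn L s U) := by
    intro U
    have hU := val_rel_res s s' (homOfLE (le_top : U ≤ ⊤)) h hrel
    have hU' : (SecTwist.val s U : Γ(L, U)) =
        X.presheaf.map (homOfLE (le_top : U ≤ ⊤)).op g • (SecTwist.val s' U : Γ(L, U)) := by
      have e1 : X.presheaf.map (homOfLE (le_top : U ≤ ⊤)).op g *
          X.presheaf.map (homOfLE (le_top : U ≤ ⊤)).op h = 1 := by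
        rw [← map_mul, mul_comm, hg, map_one]
      calc (SecTwist.val s U : Γ(L, U)) = (1 : Γ(X, U)) • (SecTwist.val s U : Γ(L, U)) :=
            (one_smul _ _).symm
        _ = (X.presheaf.map (homOfLE (le_top : U ≤ ⊤)).op g *
              X.presheaf.map (homOfLE (le_top : U ≤ ⊤)).op h) • (SecTwist.val s U : Γ(L, U)) := by
            rw [e1]
        _ = X.presheaf.map (homOfLE (le_top : U ≤ ⊤)).op g •
              (X.presheaf.map (homOfLE (le_top : U ≤ ⊤)).op h • (SecTwist.val s U : Γ(L, U))) :=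
            mul_smul _ _ _
        _ = X.presheaf.map (homOfLE (le_top : U ≤ ⊤)).op g • (SecTwist.val s' U : Γ(L, U)) :=
            congrArg (fun t : Γ(L, U) => X.presheaf.map (homOfLE (le_top : U ≤ ⊤)).op g • t)
              hU.symm
    ext a
    rw [ZeroScheme.mem_zeroIdealOn_iff, ZeroScheme.mem_zeroIdealOn_iff]
    constructor
    · intro ha m
      obtain ⟨b, hb⟩ := ha m
      exact ⟨b * X.presheaf.map (homOfLE (le_top : U ≤ ⊤)).op h,
        hb.trans ((congrArg (fun t : Γ(L, U) => b • t) hU).trans (mul_smul b _ _).symm)⟩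
    · intro ha m
      obtain ⟨b, hb⟩ := ha m
      exact ⟨b * X.presheaf.map (homOfLE (le_top : U ≤ ⊤)).op g,
        hb.trans ((congrArg (fun t : Γ(L, U) => b • t) hU').trans (mul_smul b _ _).symm)⟩
  unfold PicF2.zeroScheme
  congr 1
  funext U
  exact key U.1

theorem exists_local_unit [IsIntegral X] {L : X.Modules} (hL : PicF.IsInvertible L)
    (s s' : Coh.structureModule X ⟶ L) (hs : s ≠ 0)
    (hZ : PicF2.zeroScheme L s' = PicF2.zeroScheme L s) (x : X) :
    ∃ (U : X.Opens) (_ : x ∈ U) (u : Γ(X, U)), IsUnit u ∧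
      (SecTwist.val s' U : Γ(L, U)) = u • (SecTwist.val s U : Γ(L, U)) ∧
      ∃ (e : Γ(L, U)) (c : Γ(X, U)), IsGenerator L U e ∧ c ∈ Mero.regSub X U ∧
        (SecTwist.val s U : Γ(L, U)) = c • e := by
  obtain ⟨⟨U₀, hxU₀, e, c, he, hc, hreg⟩⟩ := DivOfSection.exists_triv hL s hs x
  obtain ⟨U, hUaff, hxU, hUle⟩ := Opens.isBasis_iff_nbhd.1 X.isBasis_affineOpens hxU₀
  have heU := he.res hUle
  have hcU := val_coeff_res s (homOfLE hUle) e c hc
  obtain ⟨c', hc'0⟩ := (heU.bijective (le_refl U)).2 (SecTwist.val s' U)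
  have hc' : c' • L.presheaf.map (homOfLE hUle).op e = (SecTwist.val s' U : Γ(L, U)) := by
    have h := hc'0
    simp only [hid'] at h
    exact h
  have h1 := ZeroScheme.ideal_zeroScheme_eq_span L hL s ⟨U, hUaff⟩ _ heU _ hcU
  have h2 := ZeroScheme.ideal_zeroScheme_eq_span L hL s' ⟨U, hUaff⟩ _ heU c' hc'.symm
  have h3 : Ideal.span {c'} = Ideal.span {X.presheaf.map (homOfLE hUle).op c} := by
    rw [← h1, ← h2, hZ]
  haveI : Nonempty U := ⟨⟨x, hxU⟩⟩
  obtain ⟨u, hu⟩ := Ideal.span_singleton_eq_span_singleton.1 h3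
  refine ⟨U, hxU, ↑u⁻¹, u⁻¹.isUnit, ?_, _, _, heU, Mero.regSub_res (homOfLE hUle) hreg, hcU⟩
  have e1 : (↑u⁻¹ : Γ(X, U)) * X.presheaf.map (homOfLE hUle).op c = c' := by
    rw [← hu, mul_comm c', ← mul_assoc, Units.inv_mul, one_mul]
  exact hc'.symm.trans ((congrArg (fun a : Γ(X, U) => a • L.presheaf.map (homOfLE hUle).op e)
    e1.symm).trans ((mul_smul _ _ _).trans
      (congrArg (fun t : Γ(L, U) => (↑u⁻¹ : Γ(X, U)) • t) hcU.symm)))

theorem unit_compat {L : X.Modules} (s s' : Coh.structureModule X ⟶ L) {U U' : X.Opens}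
    (u : Γ(X, U)) (u' : Γ(X, U'))
    (hrel : (SecTwist.val s' U : Γ(L, U)) = u • (SecTwist.val s U : Γ(L, U)))
    (hrel' : (SecTwist.val s' U' : Γ(L, U')) = u' • (SecTwist.val s U' : Γ(L, U')))
    (e : Γ(L, U)) (c : Γ(X, U)) (he : IsGenerator L U e) (hreg : c ∈ Mero.regSub X U)
    (hc : (SecTwist.val s U : Γ(L, U)) = c • e) :
    X.presheaf.map (homOfLE (inf_le_left : U ⊓ U' ≤ U)).op u =
      X.presheaf.map (homOfLE (inf_le_right : U ⊓ U' ≤ U')).op u' := by
  have r1 := val_rel_res s s' (homOfLE (inf_le_left : U ⊓ U' ≤ U)) u hrel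
  have r2 := val_rel_res s s' (homOfLE (inf_le_right : U ⊓ U' ≤ U')) u' hrel'
  have hcN := val_coeff_res s (homOfLE (inf_le_left : U ⊓ U' ≤ U)) e c hc
  have heN := he.res (inf_le_left : U ⊓ U' ≤ U)
  have h1 : (X.presheaf.map (homOfLE (inf_le_left : U ⊓ U' ≤ U)).op u *
        X.presheaf.map (homOfLE (inf_le_left : U ⊓ U' ≤ U)).op c) •
        L.presheaf.map (homOfLE (inf_le_left : U ⊓ U' ≤ U)).op e =
      (X.presheaf.map (homOfLE (inf_le_right : U ⊓ U' ≤ U')).op u' *
        X.presheaf.map (homOfLE (inf_le_left : U ⊓ U' ≤ U)).op c) •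
        L.presheaf.map (homOfLE (inf_le_left : U ⊓ U' ≤ U)).op e := by
    exact (mul_smul _ _ _).trans ((congrArg (fun t : Γ(L, U ⊓ U') =>
      X.presheaf.map (homOfLE (inf_le_left : U ⊓ U' ≤ U)).op u • t) hcN.symm).trans
      (r1.symm.trans (r2.trans ((congrArg (fun t : Γ(L, U ⊓ U') =>
        X.presheaf.map (homOfLE (inf_le_right : U ⊓ U' ≤ U')).op u' • t) hcN).trans
        (mul_smul _ _ _).symm))))
  have h2 : X.presheaf.map (homOfLE (inf_le_left : U ⊓ U' ≤ U)).op u *
        X.presheaf.map (homOfLE (inf_le_left : U ⊓ U' ≤ U)).op c =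
      X.presheaf.map (homOfLE (inf_le_right : U ⊓ U' ≤ U')).op u' *
        X.presheaf.map (homOfLE (inf_le_left : U ⊓ U' ≤ U)).op c := by
    apply (heN.bijective (le_refl (U ⊓ U'))).1
    show _ • L.presheaf.map (homOfLE (le_refl (U ⊓ U'))).op _ =
      _ • L.presheaf.map (homOfLE (le_refl (U ⊓ U'))).op _
    rw [hid']
    exact h1
  refine TopCat.Presheaf.section_ext X.sheaf (U ⊓ U') _ _ (fun z hz => ?_)
  have h3 := congrArg (X.presheaf.germ (U ⊓ U') z hz) h2
  rw [map_mul, map_mul] at h3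
  have hnz : X.presheaf.germ (U ⊓ U') z hz
      (X.presheaf.map (homOfLE (inf_le_left : U ⊓ U' ≤ U)).op c) ∈ nonZeroDivisors _ :=
    (Mero.regSub_res (homOfLE (inf_le_left : U ⊓ U' ≤ U)) hreg) ⟨z, hz⟩
  exact (mul_cancel_right_mem_nonZeroDivisors hnz).1 h3

theorem exists_global_unit [IsIntegral X] {L : X.Modules} (hL : PicF.IsInvertible L)
    (s s' : Coh.structureModule X ⟶ L) (hs : s ≠ 0)
    (hZ : PicF2.zeroScheme L s' = PicF2.zeroScheme L s) :
    ∃ h : Γ(X, ⊤), IsUnit h ∧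
      (SecTwist.val s' ⊤ : Γ(L, ⊤)) = h • (SecTwist.val s ⊤ : Γ(L, ⊤)) := by
  choose U hxU u hu hrel e c he hreg hc using exists_local_unit hL s s' hs hZ
  have hcompat : TopCat.Presheaf.IsCompatible X.sheaf.1 U u := by
    intro x x'
    exact unit_compat s s' (u x) (u x') (hrel x) (hrel x') (e x) (c x) (he x) (hreg x) (hc x)
  have hle : (⊤ : X.Opens) ≤ iSup U := fun z _ => Opens.mem_iSup.mpr ⟨z, hxU z⟩
  obtain ⟨h, hh, -⟩ := X.sheaf.existsUnique_gluing' U ⊤ (fun x => homOfLE le_top) hle u hcompat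
  have hh' : ∀ x, X.presheaf.map (homOfLE (le_top : U x ≤ ⊤)).op h = u x := hh
  have e3 : ∀ (x : X) (hx : x ∈ (⊤ : X.Opens)),
      X.presheaf.germ ⊤ x hx h = X.presheaf.germ (U x) x (hxU x) (u x) := by
    intro x hx
    rw [← hh' x, TopCat.Presheaf.germ_res_apply]
  refine ⟨h, ?_, ?_⟩
  · refine X.toRingedSpace.isUnit_of_isUnit_germ ⊤ h (fun x hx => ?_)
    have h1 := e3 x hx
    have h2 : IsUnit (X.presheaf.germ (U x) x (hxU x) (u x)) :=
      (hu x).map (X.presheaf.germ (U x) x (hxU x)).hom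
    rw [← h1] at h2
    exact h2
  · refine TopCat.Presheaf.section_ext (⟨L.presheaf, L.isSheaf⟩ : TopCat.Sheaf Ab X) ⊤ _ _
      (fun x hx => ?_)
    have e1 : L.presheaf.germ ⊤ x hx (SecTwist.val s' ⊤ : Γ(L, ⊤)) =
        L.presheaf.germ (U x) x (hxU x) (SecTwist.val s' (U x) : Γ(L, U x)) :=
      (DivOfSection.germ_val (s := s') (U x) x (hxU x)).symm
    have e2 : L.presheaf.germ ⊤ x hx (SecTwist.val s ⊤ : Γ(L, ⊤)) =
        L.presheaf.germ (U x) x (hxU x) (SecTwist.val s (U x) : Γ(L, U x)) :=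
      (DivOfSection.germ_val (s := s) (U x) x (hxU x)).symm
    calc L.presheaf.germ ⊤ x hx (SecTwist.val s' ⊤ : Γ(L, ⊤))
        = L.presheaf.germ (U x) x (hxU x) (SecTwist.val s' (U x) : Γ(L, U x)) := e1
      _ = L.presheaf.germ (U x) x (hxU x) (u x • (SecTwist.val s (U x) : Γ(L, U x))) :=
          congrArg (fun t : Γ(L, U x) => L.presheaf.germ (U x) x (hxU x) t) (hrel x)
      _ = X.presheaf.germ (U x) x (hxU x) (u x) •
            L.presheaf.germ (U x) x (hxU x) (SecTwist.val s (U x) : Γ(L, U x)) :=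
          Mero.germ_smul L (U x) x (hxU x) (u x) _
      _ = X.presheaf.germ ⊤ x hx h • L.presheaf.germ ⊤ x hx (SecTwist.val s ⊤ : Γ(L, ⊤)) := by
          rw [e3 x hx, e2]
      _ = L.presheaf.germ ⊤ x hx (h • (SecTwist.val s ⊤ : Γ(L, ⊤))) :=
          (Mero.germ_smul L ⊤ x hx h _).symm

end Aux

/-- Let X be an integral scheme, L an invertible O_X-module and s, s' two nonzero global sections of L,
given as nonzero morphisms O_X → L. Then the zero schemes Z(s') and Z(s) are equal (as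
quasi-coherent ideal sheaves of O_X, that is, as effective Cartier divisors) if and only if s' = h ·
s for some unit h of the ring of global functions Γ(X, O_X). (The published statement is for an
irreducible variety over an algebraically closed field; this row states it for an arbitrary integral
scheme.) -/
theorem result (X : Scheme.{u}) [AlgebraicGeometry.IsIntegral X]
    (L : X.Modules) (hL : PicF.IsInvertible L) (s s' : Coh.structureModule X ⟶ L) (hs : s ≠ 0) (hs' : s' ≠ 0) :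
    PicF2.zeroScheme L s' = PicF2.zeroScheme L s ↔
      ∃ h : Γ(X, ⊤), IsUnit h ∧ (SecTwist.val s' ⊤ : Γ(L, ⊤)) = h • (SecTwist.val s ⊤ : Γ(L, ⊤)) := by
  constructor
  · intro hZ
    exact exists_global_unit hL s s' hs hZ
  · rintro ⟨h, hh, hrel⟩
    obtain ⟨g, hg⟩ := hh.exists_right_inv
    exact zeroScheme_eq_of_rel s s' h g hg hrel

end Groth.Agent.S19457
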