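import Groth.Statements.S19458
import Mathlib
import Groth.Agent.Lib.Helper48.DivOfSection
-- import your own Groth.Agent.* helpers here

set_option autoImplicit false
universe u
open CategoryTheory CategoryTheory.Limits AlgebraicGeometry TopologicalSpace Opposite
open Mero

namespace Groth.Agent.S19458

section Aux
open Groth.Agent.Lib.Ample Groth.Agent.Lib.Helper48 Groth.Agent.Lib.Helper48.MeroGlue

variable {X : Scheme.{u}}

/-- generators transport along isomorphisms -/
theorem isGenerator_of_iso {M N : X.Modules} (φ : M ⟶ N) [IsIso φ] {U : X.Opens} {e : Γ(M, U)}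
    (he : IsGenerator M U e) : IsGenerator N U (φ.app U e) := by
  rw [isGenerator_iff]
  intro V hV
  have b1 := he.bijective hV
  have hcomp : (fun a : Γ(X, V) => a • N.presheaf.map (homOfLE hV).op (φ.app U e)) =
      (φ.app V) ∘ (fun a : Γ(X, V) => a • M.presheaf.map (homOfLE hV).op e) := by
    funext a
    simp only [Function.comp]
    rw [Scheme.Modules.Hom.app_smul, Groth.Agent.Lib.QCoh.app_naturality_apply φ (homOfLE hV) e]
  rw [hcomp]
  have b2 : Function.Bijective (φ.app V) :=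
    (ConcreteCategory.isIso_iff_bijective _).1 inferInstance
  exact b2.comp b1

theorem divCond_one (D : Mero.Divisor X) (hD : Mero.IsEffective D) (x : X) :
    Mero.DivCond D x 1 := by
  obtain ⟨a, ha⟩ := hD x
  refine MeroDivMod.divCond_of_eq_mk D x _ ha 1 ?_
  rw [one_mul]
  exact ⟨(a : X.presheaf.stalk x), rfl⟩

noncomputable def oneSec (D : Mero.Divisor X) (hD : Mero.IsEffective D) : Γ(Mero.divMod D, ⊤) :=
  ⟨fun _ => 1, ⟨(1 : Γ(Mero.kmod X, ⊤)).2, fun y => divCond_one D hD y.1⟩⟩

end Aux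

/-- Let X be an integral scheme, L an invertible O_X-module and D an effective Cartier divisor on X (a
global section of the sheaf of units of K_X modulo units of O_X whose germ at every point is the
class of a germ of a regular function) such that O_X(D) is isomorphic to L. Then there is a nonzero
global section s of L, given as a nonzero morphism O_X → L, whose zero scheme Z(s) is D: around
every point of X, on some affine open neighbourhood, the ideal of Z(s) is generated by a regular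
function whose classes are the germs of D there. (The published statement is for an irreducible
variety over an algebraically closed field; this row states it for an arbitrary integral scheme.) -/
theorem result (X : Scheme.{u}) [AlgebraicGeometry.IsIntegral X]
    (L : X.Modules) (hL : PicF.IsInvertible L) (D : Mero.Divisor X) (hD : Mero.IsEffective D)
    (e : L ≅ Mero.divMod D) :
    ∃ s : Coh.structureModule X ⟶ L, s ≠ 0 ∧ Mero.IsDivOfIdeal D (PicF2.zeroScheme L s) := by
  obtain ⟨t, ht⟩ : ∃ t : Γ(L, ⊤), t = e.inv.app ⊤ (oneSec D hD) := ⟨_, rfl⟩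
  obtain ⟨s, hs⟩ : ∃ s : Coh.structureModule X ⟶ L, s = Groth.Agent.Lib.Ample.homOfSec L t :=
    ⟨_, rfl⟩
  have hval : (SecTwist.val s ⊤ : Γ(L, ⊤)) = t := by
    rw [Groth.Agent.Lib.Ample.val_eq_secOn, Groth.Agent.Lib.Ample.secOn_top, hs,
      Groth.Agent.Lib.Ample.secOf_homOfSec]
  refine ⟨s, ?_, ?_⟩
  · intro h0
    have h1 : t = 0 := by
      rw [← hval, h0]
      rfl
    have h2 : e.hom.app ⊤ t = oneSec D hD := by
      rw [ht]
      have h := congrArg (fun k => k.app ⊤ (oneSec D hD)) e.inv_hom_id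
      exact h
    have h20 : e.hom.app ⊤ (0 : Γ(L, ⊤)) = 0 := map_zero _
    rw [h1, h20] at h2
    obtain ⟨x⟩ : Nonempty X := inferInstance
    have h3 := congrArg (fun w : Γ(Mero.divMod D, ⊤) => w.1 ⟨x, trivial⟩) h2
    exact zero_ne_one h3
  · intro x
    obtain ⟨U₀, hxU₀, f, hf⟩ := D.2 x
    obtain ⟨e₀, he₀, g₀⟩ := Groth.Agent.Lib.Helper48.MeroInv.exists_isGenerator D U₀ f hf
    have hid : (Mero.divMod D).presheaf.map (homOfLE (le_refl U₀)).op e₀ = e₀ := by
      have h2 : (homOfLE (le_refl U₀)) = 𝟙 U₀ := rfl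
      rw [h2, op_id, (Mero.divMod D).presheaf.map_id]
      rfl
    obtain ⟨c, hc0⟩ := (g₀.bijective (le_refl U₀)).2
      ((Mero.divMod D).presheaf.map (homOfLE (le_top : U₀ ≤ ⊤)).op (oneSec D hD))
    have hc : c • e₀ =
        (Mero.divMod D).presheaf.map (homOfLE (le_top : U₀ ≤ ⊤)).op (oneSec D hD) := by
      have h := hc0
      simp only [hid] at h
      exact h
    have hfc : ∀ y : U₀, (f : Γ(Mero.kmod X, U₀)).1 y =
        algebraMap _ (Mero.KStalk X y.1) (X.presheaf.germ U₀ y.1 y.2 c) := by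
      intro y
      have h1 := congrArg (fun w : Γ(Mero.divMod D, U₀) => w.1 y) hc
      have h2 : X.presheaf.germ U₀ y.1 y.2 c • (↑f⁻¹ : Γ(Mero.kmod X, U₀)).1 y = 1 := by
        rw [← he₀ y]
        exact h1
      have h3 : (f : Γ(Mero.kmod X, U₀)).1 y * (↑f⁻¹ : Γ(Mero.kmod X, U₀)).1 y = 1 :=
        congrArg (fun w : Γ(Mero.kmod X, U₀) => w.1 y) f.mul_inv
      calc (f : Γ(Mero.kmod X, U₀)).1 y
          = (f : Γ(Mero.kmod X, U₀)).1 y *
              (X.presheaf.germ U₀ y.1 y.2 c • (↑f⁻¹ : Γ(Mero.kmod X, U₀)).1 y) := by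
            rw [h2, mul_one]
        _ = X.presheaf.germ U₀ y.1 y.2 c •
              ((f : Γ(Mero.kmod X, U₀)).1 y * (↑f⁻¹ : Γ(Mero.kmod X, U₀)).1 y) := by
            rw [mul_smul_comm]
        _ = algebraMap _ (Mero.KStalk X y.1) (X.presheaf.germ U₀ y.1 y.2 c) := by
            rw [h3, Algebra.algebraMap_eq_smul_one]
    have hcne : c ≠ 0 := by
      intro h0
      have h4 := hfc ⟨x, hxU₀⟩
      rw [h0, map_zero, map_zero] at h4
      have h3 : (f : Γ(Mero.kmod X, U₀)).1 ⟨x, hxU₀⟩ *
          (↑f⁻¹ : Γ(Mero.kmod X, U₀)).1 ⟨x, hxU₀⟩ = 1 :=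
        congrArg (fun w : Γ(Mero.kmod X, U₀) => w.1 ⟨x, hxU₀⟩) f.mul_inv
      rw [h4, zero_mul] at h3
      exact zero_ne_one h3
    have hreg := Groth.Agent.Lib.Helper48.DivOfSection.mem_regSub_of_ne_zero U₀ c hcne
    have gε : Groth.Agent.Lib.Ample.IsGenerator L U₀ (e.inv.app U₀ e₀) :=
      isGenerator_of_iso e.inv g₀
    have hsc : (SecTwist.val s U₀ : Γ(L, U₀)) = c • e.inv.app U₀ e₀ := by
      have h1 : L.presheaf.map (homOfLE (le_top : U₀ ≤ ⊤)).op (SecTwist.val s ⊤ : Γ(L, ⊤)) =
          (SecTwist.val s U₀ : Γ(L, U₀)) := SecTwist.map_val s (homOfLE le_top)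
      calc (SecTwist.val s U₀ : Γ(L, U₀))
          = L.presheaf.map (homOfLE (le_top : U₀ ≤ ⊤)).op (SecTwist.val s ⊤ : Γ(L, ⊤)) := h1.symm
        _ = L.presheaf.map (homOfLE (le_top : U₀ ≤ ⊤)).op (e.inv.app ⊤ (oneSec D hD)) := by
            rw [hval, ht]
        _ = e.inv.app U₀ ((Mero.divMod D).presheaf.map (homOfLE (le_top : U₀ ≤ ⊤)).op
              (oneSec D hD)) :=
            (Groth.Agent.Lib.QCoh.app_naturality_apply e.inv (homOfLE le_top) (oneSec D hD)).symm
        _ = e.inv.app U₀ (c • e₀) := by rw [hc]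
        _ = c • e.inv.app U₀ e₀ := Scheme.Modules.Hom.app_smul _ _ _
    obtain ⟨U, hUaff, hxU, hUle⟩ := Opens.isBasis_iff_nbhd.1 X.isBasis_affineOpens hxU₀
    have hc' : (SecTwist.val s U : Γ(L, U)) =
        X.presheaf.map (homOfLE hUle).op c •
          L.presheaf.map (homOfLE hUle).op (e.inv.app U₀ e₀) := by
      have h2 : L.presheaf.map (homOfLE hUle).op (SecTwist.val s U₀ : Γ(L, U₀)) =
          (SecTwist.val s U : Γ(L, U)) := SecTwist.map_val s (homOfLE hUle)
      exact h2.symm.trans ((congrArg (fun t : Γ(L, U₀) => L.presheaf.map (homOfLE hUle).op t)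
        hsc).trans (L.map_smul (homOfLE hUle) c _))
    refine ⟨⟨U, hUaff⟩, hxU, X.presheaf.map (homOfLE hUle).op c,
      Mero.regSub_res (homOfLE hUle) hreg, ?_, fun y => ?_⟩
    · exact Groth.Agent.Lib.Helper48.ZeroScheme.ideal_zeroScheme_eq_span L hL s ⟨U, hUaff⟩ _
        (gε.res hUle) _ hc'
    · rw [hf ⟨y.1, hUle y.2⟩]
      refine congrArg _ (Units.ext ?_)
      show (f : Γ(Mero.kmod X, U₀)).1 ⟨y.1, hUle y.2⟩ = algebraMap _ (Mero.KStalk X y.1)
        (X.presheaf.germ U y.1 y.2 (X.presheaf.map (homOfLE hUle).op c))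
      rw [hfc, TopCat.Presheaf.germ_res_apply]

end Groth.Agent.S19458
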