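import Groth.Statements.S19459
import Mathlib
import Groth.Agent.Lib.Helper48.ZeroScheme
import Groth.Agent.Lib.QCoh.TensorPic
-- import your own Groth.Agent.* helpers here

set_option autoImplicit false
universe u
open CategoryTheory CategoryTheory.Limits AlgebraicGeometry TopologicalSpace Opposite
open Mero

namespace Groth.Agent.S19459

section Aux
open Groth.Agent.Lib.Ample Groth.Agent.Lib.Helper48

theorem aux {X : Scheme.{u}} (L₁ L₂ : X.Modules) (hL₁ : PicF.IsInvertible L₁)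
    (hL₂ : PicF.IsInvertible L₂)
    (s₁ : Coh.structureModule X ⟶ L₁) (s₂ : Coh.structureModule X ⟶ L₂)
    (U U₁ U₂ : X.affineOpens) (hU1 : U ≤ U₁) (hU2 : U ≤ U₂)
    (f₁ : Γ(X, U₁.1)) (f₂ : Γ(X, U₂.1))
    (hI₁ : (PicF2.zeroScheme L₁ s₁).ideal U₁ = Ideal.span {f₁})
    (hI₂ : (PicF2.zeroScheme L₂ s₂).ideal U₂ = Ideal.span {f₂})
    (e₁ : Γ(L₁, U.1)) (he₁ : IsGenerator L₁ U.1 e₁) (e₂ : Γ(L₂, U.1))
    (he₂ : IsGenerator L₂ U.1 e₂) :
    (PicF2.zeroScheme (CohB1.tensorMod L₁ L₂) (SecTwist.tmulHom s₁ s₂)).ideal U =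
      Ideal.span {X.presheaf.map (homOfLE hU1).op f₁ * X.presheaf.map (homOfLE hU2).op f₂} := by
  have hid : ∀ (M : X.Modules) (y : Γ(M, U.1)),
      M.presheaf.map (homOfLE (le_refl U.1)).op y = y := by
    intro M y
    have h2 : (homOfLE (le_refl U.1)) = 𝟙 U.1 := rfl
    rw [h2, op_id, M.presheaf.map_id]
    rfl
  obtain ⟨c₁, hc₁⟩ := (he₁.bijective (le_refl U.1)).2 (SecTwist.val s₁ U.1)
  obtain ⟨c₂, hc₂⟩ := (he₂.bijective (le_refl U.1)).2 (SecTwist.val s₂ U.1)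
  simp only [hid] at hc₁ hc₂
  have h1 := ZeroScheme.ideal_zeroScheme_eq_span L₁ hL₁ s₁ U e₁ he₁ c₁ hc₁.symm
  have h2 := ZeroScheme.ideal_zeroScheme_eq_span L₂ hL₂ s₂ U e₂ he₂ c₂ hc₂.symm
  have h1' : (PicF2.zeroScheme L₁ s₁).ideal U =
      Ideal.span {X.presheaf.map (homOfLE hU1).op f₁} := by
    rw [← (PicF2.zeroScheme L₁ s₁).map_ideal hU1, hI₁, Ideal.map_span, Set.image_singleton]
  have h2' : (PicF2.zeroScheme L₂ s₂).ideal U =
      Ideal.span {X.presheaf.map (homOfLE hU2).op f₂} := by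
    rw [← (PicF2.zeroScheme L₂ s₂).map_ideal hU2, hI₂, Ideal.map_span, Set.image_singleton]
  have hc : (SecTwist.val (SecTwist.tmulHom s₁ s₂) U.1 : Γ(CohB1.tensorMod L₁ L₂, U.1)) =
      (c₁ * c₂) • tmulSect L₁ L₂ e₁ e₂ := by
    rw [SecTwist.val_tmulHom]
    calc SecTwist.tmul L₁ L₂ U.1 (SecTwist.val s₁ U.1) (SecTwist.val s₂ U.1)
        = tmulSect L₁ L₂ (c₁ • e₁) (c₂ • e₂) :=
          congrArg₂ (fun p q => tmulSect L₁ L₂ p q) hc₁.symm hc₂.symm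
      _ = c₁ • c₂ • tmulSect L₁ L₂ e₁ e₂ := by rw [tmulSect_smul_left, tmulSect_smul_right]
      _ = (c₁ * c₂) • tmulSect L₁ L₂ e₁ e₂ := (mul_smul c₁ c₂ _).symm
  rw [ZeroScheme.ideal_zeroScheme_eq_span _ (Groth.Agent.Lib.QCoh.isInvertible_tensorMod hL₁ hL₂) _ U _
    (he₁.tmul he₂) (c₁ * c₂) hc]
  rw [← Ideal.span_singleton_mul_span_singleton, ← Ideal.span_singleton_mul_span_singleton,
    ← h1, ← h2, h1', h2']

end Aux

/-- Let X be an integral scheme, L₁ and L₂ invertible O_X-modules with nonzero global sections s₁ and s₂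
(nonzero morphisms O_X → L₁ and O_X → L₂), and let D₁, D₂ be the effective Cartier divisors of the
zero schemes Z(s₁), Z(s₂): divisors on X (global sections of the sheaf of units of K_X modulo units
of O_X) which around every point, on some affine open neighbourhood, are the class of a regular
function generating the ideal of the zero scheme. Then the divisor D₁ · D₂ (multiplicative notation
for the sum D₁ + D₂) is in the same sense the effective Cartier divisor of the zero scheme of the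
global section s₁ ⊗ s₂ of the tensor product L₁ ⊗ L₂; that is, Z(s₁ ⊗ s₂) = Z(s₁) + Z(s₂). (The
published statement is for an irreducible variety over an algebraically closed field; this row
states it for an arbitrary integral scheme.) -/
theorem result (X : Scheme.{u}) [AlgebraicGeometry.IsIntegral X]
    (L₁ L₂ : X.Modules) (hL₁ : PicF.IsInvertible L₁) (hL₂ : PicF.IsInvertible L₂)
    (s₁ : Coh.structureModule X ⟶ L₁) (s₂ : Coh.structureModule X ⟶ L₂) (hs₁ : s₁ ≠ 0) (hs₂ : s₂ ≠ 0)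
    (D₁ D₂ : Mero.Divisor X) (hD₁ : Mero.IsDivOfIdeal D₁ (PicF2.zeroScheme L₁ s₁))
    (hD₂ : Mero.IsDivOfIdeal D₂ (PicF2.zeroScheme L₂ s₂)) :
    Mero.IsDivOfIdeal (D₁ * D₂) (PicF2.zeroScheme (CohB1.tensorMod L₁ L₂) (SecTwist.tmulHom s₁ s₂)) := by
  intro x
  obtain ⟨U₁, hxU₁, f₁, hf₁, hI₁, hg₁⟩ := hD₁ x
  obtain ⟨U₂, hxU₂, f₂, hf₂, hI₂, hg₂⟩ := hD₂ x
  obtain ⟨W₁, hxW₁, e₁, he₁⟩ := Groth.Agent.Lib.Ample.exists_isGenerator_of_isInvertible hL₁ x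
  obtain ⟨W₂, hxW₂, e₂, he₂⟩ := Groth.Agent.Lib.Ample.exists_isGenerator_of_isInvertible hL₂ x
  obtain ⟨U, hUaff, hxU, hUle⟩ := Opens.isBasis_iff_nbhd.1 X.isBasis_affineOpens
    (show x ∈ (U₁.1 ⊓ U₂.1) ⊓ (W₁ ⊓ W₂) from ⟨⟨hxU₁, hxU₂⟩, ⟨hxW₁, hxW₂⟩⟩)
  have hU1 : U ≤ U₁.1 := hUle.trans (inf_le_left.trans inf_le_left)
  have hU2 : U ≤ U₂.1 := hUle.trans (inf_le_left.trans inf_le_right)
  have hW1 : U ≤ W₁ := hUle.trans (inf_le_right.trans inf_le_left)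
  have hW2 : U ≤ W₂ := hUle.trans (inf_le_right.trans inf_le_right)
  refine ⟨⟨U, hUaff⟩, hxU,
    X.presheaf.map (homOfLE hU1).op f₁ * X.presheaf.map (homOfLE hU2).op f₂,
    Submonoid.mul_mem _ (Mero.regSub_res (homOfLE hU1) hf₁) (Mero.regSub_res (homOfLE hU2) hf₂),
    aux L₁ L₂ hL₁ hL₂ s₁ s₂ ⟨U, hUaff⟩ U₁ U₂ hU1 hU2 f₁ f₂ hI₁ hI₂ _ (he₁.res hW1) _ (he₂.res hW2),
    fun y => ?_⟩
  show D₁.1 y.1 * D₂.1 y.1 = _
  rw [hg₁ ⟨y.1, hU1 y.2⟩, hg₂ ⟨y.1, hU2 y.2⟩, ← QuotientGroup.mk_mul]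
  refine congrArg _ (Units.ext ?_)
  simp only [Units.val_mul, IsUnit.unit_spec]
  rw [← map_mul]
  congr 1
  show X.presheaf.germ U₁.1 y.1 (hU1 y.2) f₁ * X.presheaf.germ U₂.1 y.1 (hU2 y.2) f₂ =
    X.presheaf.germ U y.1 y.2
      (X.presheaf.map (homOfLE hU1).op f₁ * X.presheaf.map (homOfLE hU2).op f₂)
  rw [map_mul, TopCat.Presheaf.germ_res_apply, TopCat.Presheaf.germ_res_apply]

end Groth.Agent.S19459
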