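import Groth.Statements.S19460
import Groth.Agent.Lib.Helper73.CotSm
import Groth.Agent.Lib.Helper73.ComponentDims
-- import your own Groth.Agent.* helpers here

set_option autoImplicit false
universe u
open CategoryTheory CategoryTheory.Limits AlgebraicGeometry
open Variety

namespace Groth.Agent.S19460

/-- Let k be an algebraically closed field, X and Y smooth irreducible varieties over k (integral,
separated, of finite type and smooth over k) of dimensions dX and dY, and f : X → Y a k-morphism
which is smooth in the sense that at every closed point x of X the tangent map T_x X → T_{f(x)} Y is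
surjective, equivalently the cotangent map m_{f(x)}/m_{f(x)}² → m_x/m_x² of the local rings is
injective. Then f is dominant, dY ≤ dX, and for every closed point y of Y in the image of f the
scheme-theoretic fibre X_y is smooth over the residue field κ(y) (which is k) and each of its
irreducible components has dimension dX − dY. (The published statement is for varieties in the
classical sense, with the fibre carrying its reduced structure, and it also identifies the tangent
space of the fibre at each point with the kernel of the tangent map; that identification is not part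
of this row.) -/
theorem result (k : Type u) [Field k] [IsAlgClosed k]
    {X Y : Scheme.{u}} (qX : X ⟶ Spec (CommRingCat.of k)) (qY : Y ⟶ Spec (CommRingCat.of k))
    [AlgebraicGeometry.IsIntegral X] [IsSeparated qX] [LocallyOfFiniteType qX] [QuasiCompact qX] [Smooth qX]
    [AlgebraicGeometry.IsIntegral Y] [IsSeparated qY] [LocallyOfFiniteType qY] [QuasiCompact qY] [Smooth qY]
    (f : X ⟶ Y) (hf : f ≫ qY = qX) (dX dY : ℕ) (hX : topologicalKrullDim ↥X = dX)
    (hY : topologicalKrullDim ↥Y = dY)
    (hT : ∀ x : X, IsClosed ({x} : Set ↥X) → Function.Injective (FixPt.cotangentMapAt f x (f.base x) rfl)) :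
    DenseRange f.base ∧ dY ≤ dX ∧
      ∀ y : Y, IsClosed ({y} : Set ↥Y) → y ∈ Set.range f.base →
        Smooth (f.fiberToSpecResidueField y) ∧
          ∀ Z ∈ irreducibleComponents ↥(f.fiber y),
            topologicalKrullDim ↥Z = ((dX - dY : ℕ) : WithBot ℕ∞) := by
  have hsm : Smooth f :=
    Groth.Agent.Lib.Helper73.CotSm.smooth_of_cotangentMapAt_injective k qX qY f hf hT
  haveI : JacobsonSpace X := LocallyOfFiniteType.jacobsonSpace qX
  haveI : IsLocallyNoetherian Y := LocallyOfFiniteType.isLocallyNoetherian qY
  haveI : JacobsonSpace Y := LocallyOfFiniteType.jacobsonSpace qY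
  obtain ⟨x₀, -, hx₀⟩ := nonempty_inter_closedPoints (Z := (Set.univ : Set X)) Set.univ_nonempty
    isOpen_univ.isLocallyClosed
  have hle : dY ≤ dX := by
    obtain ⟨-, hdim⟩ := Groth.Agent.Lib.Helper73.CotSm.mem_smoothLocus_of_cotangentMapAt_injective
      k qX qY f hf x₀ hx₀ (hT x₀ hx₀)
    obtain ⟨hfx, -⟩ := Groth.Agent.Lib.Helper73.SchemeDim.isClosed_base_of_isClosed f hx₀
    rw [Groth.Agent.Lib.Helper73.CotSm.ringKrullDim_stalk_eq_of_isClosed k qX x₀ hx₀,
      Groth.Agent.Lib.Helper73.CotSm.ringKrullDim_stalk_eq_of_isClosed k qY _ hfx, hX, hY] at hdim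
    have h0 : (0 : WithBot ℕ∞) ≤ ringKrullDim (X.presheaf.stalk x₀ ⧸
        Groth.Agent.Lib.Helper67.FibreStalk.fibreIdeal f x₀) := ringKrullDim_nonneg_of_nontrivial
    have : (dY : WithBot ℕ∞) ≤ dX := by
      rw [hdim]
      exact le_add_of_nonneg_right h0
    exact_mod_cast this
  haveI hrel : SmoothOfRelativeDimension (dX - dY) f :=
    Groth.Agent.Lib.Helper73.CotSm.smoothOfRelativeDimension_of_cotangentMapAt_injective
      k qX qY f hf (dX - dY) dY hY (by rw [hX]; congr 1; omega) hT
  refine ⟨?_, hle, ?_⟩
  · haveI : UniversallyOpen f := inferInstance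
    exact (f.isOpenMap.isOpen_range).dense (Set.range_nonempty _)
  · intro y hy hyr
    refine ⟨?_, ?_⟩
    · have hbc : MorphismProperty.IsStableUnderBaseChange @Smooth := inferInstance
      exact hbc.of_isPullback (IsPullback.of_hasPullback f (Y.fromSpecResidueField y)) hsm
    · intro Z hZ
      obtain ⟨e, x, hxy, he, hw⟩ :=
        (Groth.Agent.Lib.Helper73.SchemeDim.mem_componentDims_iff f y (topologicalKrullDim ↥Z)).mp
          ⟨Z, hZ, rfl⟩
      rw [hw, ← he,
        Groth.Agent.Lib.Helper73.SmoothFibreDim.fibreDimAt_eq_of_smoothOfRelativeDimension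
          (dX - dY) f x]

end Groth.Agent.S19460
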