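import Groth.Statements.S19461
import Mathlib.RingTheory.AdicCompletion.LocalRing
import Mathlib.RingTheory.AdicCompletion.AsTensorProduct
import Mathlib.RingTheory.Flat.FaithfullyFlat.Algebra
-- import your own Groth.Agent.* helpers here

set_option autoImplicit false
universe u
open CAlg

namespace Groth.Agent.S19461


open TensorProduct in
/-- Flatness descends along a faithfully flat extension `B → C`: if `C` is `A`-flat and
faithfully flat over `B`, then `B` is `A`-flat. -/
theorem flat_of_flat_of_faithfullyFlat (A B C : Type u) [CommRing A] [CommRing B] [CommRing C]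
    [Algebra A B] [Algebra B C] [Algebra A C] [IsScalarTower A B C]
    [Module.Flat A C] [Module.FaithfullyFlat B C] : Module.Flat A B := by
  rw [Module.Flat.iff_lTensor_preserves_injective_linearMap]
  intro N P _ _ _ _ f hf
  have h1 : Function.Injective (LinearMap.lTensor C f) :=
    Module.Flat.lTensor_preserves_injective_linearMap f hf
  change Function.Injective (AlgebraTensorModule.lTensor B B f)
  rw [← Module.FaithfullyFlat.lTensor_injective_iff_injective B C]
  have h2 := AlgebraTensorModule.lTensor_comp_cancelBaseChange (R := A) (A := B) (B := B)
    (M := C) (N := N) (Q := P) f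
  have h3 : ∀ x, AlgebraTensorModule.cancelBaseChange A B B C P
      (LinearMap.lTensor C (AlgebraTensorModule.lTensor B B f) x) =
      LinearMap.lTensor C f (AlgebraTensorModule.cancelBaseChange A B B C N x) := by
    intro x
    exact (LinearMap.congr_fun h2 x).symm
  intro x y hxy
  apply (AlgebraTensorModule.cancelBaseChange A B B C N).injective
  apply h1
  rw [← h3, ← h3, hxy]

/-- The implication from isomorphic completions to flat and unramified. Let A → B be a local
homomorphism of Noetherian local rings and ψ a ring map from the completion of A at its maximal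
ideal to that of B whose composite with A → A^ is A → B → B^. If ψ is bijective, then A → B is flat
and the maximal ideal of A generates the maximal ideal of B. (The published statement is the
implication, for a morphism of algebraic varieties over an algebraically closed field, from
isomorphic induced maps of completed local rings at every point to flat and unramified; its proof is
this local-ring argument, valid for any Noetherian local rings. The converse implication is a
separate result.) -/
theorem result (A B : Type u) [CommRing A]
    [CommRing B] [IsLocalRing A] [IsLocalRing B] [IsNoetherianRing A] [IsNoetherianRing B]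
    [Algebra A B] [IsLocalHom (algebraMap A B)]
    (ψ : AdicCompletion (IsLocalRing.maximalIdeal A) A →+* AdicCompletion (IsLocalRing.maximalIdeal B) B)
    (hψ : ψ.comp (algebraMap A (AdicCompletion (IsLocalRing.maximalIdeal A) A)) =
      (algebraMap B (AdicCompletion (IsLocalRing.maximalIdeal B) B)).comp (algebraMap A B))
    (hbij : Function.Bijective ψ) :
    Module.Flat A B ∧
      Ideal.map (algebraMap A B) (IsLocalRing.maximalIdeal A) = IsLocalRing.maximalIdeal B := by
  classical
  have hψa : ∀ a : A, ψ (algebraMap A (AdicCompletion (IsLocalRing.maximalIdeal A) A) a) =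
      algebraMap A (AdicCompletion (IsLocalRing.maximalIdeal B) B) a := by
    intro a
    exact RingHom.congr_fun hψ a
  have : IsScalarTower A B (AdicCompletion (IsLocalRing.maximalIdeal B) B) :=
    IsScalarTower.of_algebraMap_eq fun _ => rfl
  -- ψ as an A-linear equivalence
  let e : AdicCompletion (IsLocalRing.maximalIdeal A) A ≃ₗ[A]
      AdicCompletion (IsLocalRing.maximalIdeal B) B :=
    { (RingEquiv.ofBijective ψ hbij).toAddEquiv with
      map_smul' := by
        intro a x
        change ψ (a • x) = a • ψ x
        rw [Algebra.smul_def, map_mul, hψa, ← Algebra.smul_def] }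
  have : Module.Flat A (AdicCompletion (IsLocalRing.maximalIdeal A) A) :=
    AdicCompletion.flat_of_isNoetherian _
  have : Module.Flat A (AdicCompletion (IsLocalRing.maximalIdeal B) B) :=
    Module.Flat.of_linearEquiv e.symm
  have : Module.Flat B (AdicCompletion (IsLocalRing.maximalIdeal B) B) :=
    AdicCompletion.flat_of_isNoetherian _
  have : Module.FaithfullyFlat B (AdicCompletion (IsLocalRing.maximalIdeal B) B) :=
    Module.FaithfullyFlat.of_flat_of_isLocalHom
  refine ⟨flat_of_flat_of_faithfullyFlat A B (AdicCompletion (IsLocalRing.maximalIdeal B) B), ?_⟩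
  -- maximal ideals
  have hmB : IsLocalRing.maximalIdeal (AdicCompletion (IsLocalRing.maximalIdeal B) B) =
      (IsLocalRing.maximalIdeal B).map
        (algebraMap B (AdicCompletion (IsLocalRing.maximalIdeal B) B)) :=
    AdicCompletion.maximalIdeal_eq_map
  have hmA : IsLocalRing.maximalIdeal (AdicCompletion (IsLocalRing.maximalIdeal A) A) =
      (IsLocalRing.maximalIdeal A).map
        (algebraMap A (AdicCompletion (IsLocalRing.maximalIdeal A) A)) :=
    AdicCompletion.maximalIdeal_eq_map
  -- ψ maps maximal ideal onto maximal ideal
  have hψm : (IsLocalRing.maximalIdeal (AdicCompletion (IsLocalRing.maximalIdeal A) A)).map ψ =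
      IsLocalRing.maximalIdeal (AdicCompletion (IsLocalRing.maximalIdeal B) B) := by
    have h1 := Ideal.map_comap_of_equiv
      (I := IsLocalRing.maximalIdeal (AdicCompletion (IsLocalRing.maximalIdeal A) A))
      (RingEquiv.ofBijective ψ hbij)
    have h2 : ((RingEquiv.ofBijective ψ hbij : _ ≃+* _) : _ →+* _) = ψ := by
      ext x; rfl
    rw [h2] at h1
    rw [h1]
    exact IsLocalRing.maximalIdeal_comap
      ((RingEquiv.ofBijective ψ hbij).symm :
        AdicCompletion (IsLocalRing.maximalIdeal B) B →+*
          AdicCompletion (IsLocalRing.maximalIdeal A) A)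
  have h : Ideal.map (algebraMap B (AdicCompletion (IsLocalRing.maximalIdeal B) B))
      (Ideal.map (algebraMap A B) (IsLocalRing.maximalIdeal A)) =
      Ideal.map (algebraMap B (AdicCompletion (IsLocalRing.maximalIdeal B) B))
        (IsLocalRing.maximalIdeal B) := by
    rw [← hmB, ← hψm, hmA, Ideal.map_map, Ideal.map_map, hψ]
  have h' := congrArg (Ideal.comap (algebraMap B (AdicCompletion (IsLocalRing.maximalIdeal B) B))) h
  rwa [Ideal.comap_map_eq_self_of_faithfullyFlat, Ideal.comap_map_eq_self_of_faithfullyFlat] at h'

end Groth.Agent.S19461
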