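import Groth.Statements.S19462
import Mathlib
-- import your own Groth.Agent.* helpers here

set_option autoImplicit false
universe u
open GrNak

namespace Groth.Agent.S19462

section helpers
open DirectSum

variable {R : Type u} [CommRing R] {σ : Type u} [SetLike σ R] [AddSubmonoidClass σ R]
  (𝒜 : ℤ → σ) [GradedRing 𝒜]

def OrdGe (m : ℤ) (x : R) : Prop := ∀ i < m, (decompose 𝒜 x i : R) = 0

lemma ordGe_zero' (m : ℤ) : OrdGe 𝒜 m 0 := by
  intro i _
  rw [decompose_zero, DirectSum.zero_apply, ZeroMemClass.coe_zero]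

lemma ordGe_add {m : ℤ} {x y : R} (hx : OrdGe 𝒜 m x) (hy : OrdGe 𝒜 m y) :
    OrdGe 𝒜 m (x + y) := by
  intro i hi
  rw [decompose_add, DirectSum.add_apply, AddMemClass.coe_add, hx i hi, hy i hi, add_zero]

lemma ordGe_sum {ι' : Type*} (s : Finset ι') (f : ι' → R) (m : ℤ)
    (h : ∀ a ∈ s, OrdGe 𝒜 m (f a)) : OrdGe 𝒜 m (∑ a ∈ s, f a) := by
  classical
  induction s using Finset.induction_on with
  | empty => simpa using ordGe_zero' 𝒜 m
  | insert a s ha ih =>
    rw [Finset.sum_insert ha]
    exact ordGe_add 𝒜 (h a (Finset.mem_insert_self a s))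
      (ih fun b hb => h b (Finset.mem_insert_of_mem hb))

lemma ordGe_of_mem {m j : ℤ} {x : R} (hx : x ∈ 𝒜 j) (hj : m ≤ j) : OrdGe 𝒜 m x := by
  intro i hi
  exact decompose_of_mem_ne 𝒜 hx (by omega)

lemma ordGe_all (hneg : ∀ i : ℤ, i < 0 → ∀ x ∈ 𝒜 i, x = 0) (x : R) : OrdGe 𝒜 0 x :=
  fun i hi => hneg i hi _ (SetLike.coe_mem _)

lemma ordGe_mul {a b : ℤ} {x y : R} (hx : OrdGe 𝒜 a x) (hy : OrdGe 𝒜 b y) :
    OrdGe 𝒜 (a + b) (x * y) := by
  classical
  have hxy : x * y = ∑ p ∈ (decompose 𝒜 x).support, ∑ q ∈ (decompose 𝒜 y).support,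
      (decompose 𝒜 x p : R) * (decompose 𝒜 y q : R) := by
    conv_lhs => rw [← sum_support_decompose 𝒜 x, ← sum_support_decompose 𝒜 y,
      Finset.sum_mul_sum]
  rw [hxy]
  refine ordGe_sum 𝒜 _ _ _ fun p _ => ordGe_sum 𝒜 _ _ _ fun q _ => ?_
  by_cases hpa : p < a
  · rw [hx p hpa, zero_mul]; exact ordGe_zero' 𝒜 _
  by_cases hqb : q < b
  · rw [hy q hqb, mul_zero]; exact ordGe_zero' 𝒜 _
  exact ordGe_of_mem 𝒜 (SetLike.mul_mem_graded (SetLike.coe_mem _) (SetLike.coe_mem _))
    (by omega)

def irr (hneg : ∀ i : ℤ, i < 0 → ∀ x ∈ 𝒜 i, x = 0) : Ideal R where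
  carrier := {x | OrdGe 𝒜 1 x}
  add_mem' := fun hx hy => ordGe_add 𝒜 hx hy
  zero_mem' := ordGe_zero' 𝒜 1
  smul_mem' := fun c x hx => by
    have h := ordGe_mul 𝒜 (ordGe_all 𝒜 hneg c) hx
    rw [zero_add] at h
    exact h

lemma irr_pow (hneg : ∀ i : ℤ, i < 0 → ∀ x ∈ 𝒜 i, x = 0) (k : ℕ) :
    ∀ x ∈ (irr 𝒜 hneg) ^ k, OrdGe 𝒜 (k : ℤ) x := by
  induction k with
  | zero => intro x _; simpa using ordGe_all 𝒜 hneg x
  | succ k ih =>
    intro x hx
    rw [pow_succ] at hx
    refine Submodule.smul_induction_on hx ?_ ?_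
    · intro a ha b hb
      have h := ordGe_mul 𝒜 (ih a ha) (show OrdGe 𝒜 1 b from hb)
      push_cast
      exact h
    · intro a b ha hb; exact ordGe_add 𝒜 ha hb

lemma eq_zero_of_ordGe (x : R) (h : ∀ k : ℕ, OrdGe 𝒜 ((k : ℤ) + 1) x) : x = 0 := by
  apply (decompose 𝒜).injective
  refine DFinsupp.ext fun i => Subtype.ext ?_
  rw [decompose_zero, DirectSum.zero_apply, ZeroMemClass.coe_zero]
  exact h i.toNat i (by have := Int.self_le_toNat i; omega)

variable {M : Type u} [AddCommGroup M] [Module R M] {τ : Type u} [SetLike τ M]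
  [AddSubmonoidClass τ M] (ℳ : ℤ → τ) [DirectSum.Decomposition ℳ]

lemma coe_decompose_sum {ι' : Type*} (s : Finset ι') (f : ι' → M) (e : ℤ) :
    (decompose ℳ (∑ a ∈ s, f a) e : M) = ∑ a ∈ s, (decompose ℳ (f a) e : M) := by
  classical
  induction s using Finset.induction_on with
  | empty => simp [decompose_zero]
  | insert a s ha ih =>
    rw [Finset.sum_insert ha, Finset.sum_insert ha, decompose_add, DirectSum.add_apply,
      AddMemClass.coe_add, ih]

lemma decompose_smul_of_mem [SetLike.GradedSMul 𝒜 ℳ] (r : R) {m : M} {j : ℤ} (hm : m ∈ ℳ j)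
    (e : ℤ) : (decompose ℳ (r • m) e : M) = (decompose 𝒜 r (e - j) : R) • m := by
  classical
  refine DirectSum.Decomposition.inductionOn 𝒜
    (motive := fun r => (decompose ℳ (r • m) e : M) = (decompose 𝒜 r (e - j) : R) • m)
    ?_ ?_ ?_ r
  · simp [decompose_zero]
  · intro p r'
    have hmem : (r' : R) • m ∈ ℳ (p + j) := by
      have := SetLike.GradedSMul.smul_mem r'.2 hm
      simpa [vadd_eq_add] using this
    by_cases h : p + j = e
    · have hp : e - j = p := by omega
      rw [hp, decompose_of_mem_same 𝒜 r'.2, ← h, decompose_of_mem_same ℳ hmem]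
    · have hp : p ≠ e - j := by omega
      rw [decompose_of_mem_ne 𝒜 r'.2 hp, decompose_of_mem_ne ℳ hmem h, zero_smul]
  · intro a b ha hb
    rw [add_smul, decompose_add, DirectSum.add_apply, AddMemClass.coe_add, ha, hb,
      decompose_add, DirectSum.add_apply, AddMemClass.coe_add, add_smul]

lemma exists_homog_gens [Module.Finite R M] :
    ∃ (n : ℕ) (x : Fin n → M), (∀ i, SetLike.IsHomogeneousElem ℳ (x i)) ∧
      Submodule.span R (Set.range x) = ⊤ := by
  classical
  obtain ⟨T, hT⟩ := (Module.Finite.fg_top : (⊤ : Submodule R M).FG)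
  let T' : Finset M := T.biUnion fun t =>
    (decompose ℳ t).support.image fun i => (decompose ℳ t i : M)
  have hT'hom : ∀ y ∈ T', SetLike.IsHomogeneousElem ℳ y := by
    intro y hy
    obtain ⟨t, _, hy⟩ := Finset.mem_biUnion.1 hy
    obtain ⟨i, _, rfl⟩ := Finset.mem_image.1 hy
    exact ⟨i, SetLike.coe_mem _⟩
  have hT'span : Submodule.span R (↑T' : Set M) = ⊤ := by
    rw [eq_top_iff, ← hT, Submodule.span_le]
    intro t ht
    rw [SetLike.mem_coe, ← sum_support_decompose ℳ t]
    refine Submodule.sum_mem _ fun i hi => Submodule.subset_span ?_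
    exact Finset.mem_coe.2 (Finset.mem_biUnion.2 ⟨t, Finset.mem_coe.1 ht,
      Finset.mem_image.2 ⟨i, hi, rfl⟩⟩)
  refine ⟨T'.card, fun i => (T'.equivFin.symm i : M),
    fun i => hT'hom _ (T'.equivFin.symm i).2, ?_⟩
  have hrange : Set.range (fun i => (T'.equivFin.symm i : M)) = ↑T' := by
    ext y; constructor
    · rintro ⟨i, rfl⟩; exact (T'.equivFin.symm i).2
    · intro hy; exact ⟨T'.equivFin ⟨y, hy⟩, by simp⟩
  rw [hrange, hT'span]

lemma exists_min_gens [Module.Finite R M] :
    ∃ (n : ℕ) (x : Fin n → M), (∀ i, SetLike.IsHomogeneousElem ℳ (x i)) ∧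
      Submodule.span R (Set.range x) = ⊤ ∧
      ∀ m < n, ¬ ∃ y : Fin m → M, (∀ i, SetLike.IsHomogeneousElem ℳ (y i)) ∧
        Submodule.span R (Set.range y) = ⊤ := by
  classical
  have hex := exists_homog_gens (R := R) ℳ
  refine ⟨Nat.find hex, ?_⟩
  obtain ⟨x, hx1, hx2⟩ := Nat.find_spec hex
  exact ⟨x, hx1, hx2, fun m hm => Nat.find_min hex hm⟩

lemma ker_coord [SetLike.GradedSMul 𝒜 ℳ] {k : Type u} [Field k] [Algebra k R]
    (hneg : ∀ i : ℤ, i < 0 → ∀ x ∈ 𝒜 i, x = 0)
    (h0 : ∀ x ∈ 𝒜 0, ∃ c : k, algebraMap k R c = x)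
    (n : ℕ) (x : Fin n → M) (hx : ∀ i, SetLike.IsHomogeneousElem ℳ (x i))
    (hspan : Submodule.span R (Set.range x) = ⊤)
    (hmin : ∀ m < n, ¬ ∃ y : Fin m → M, (∀ i, SetLike.IsHomogeneousElem ℳ (y i)) ∧
        Submodule.span R (Set.range y) = ⊤)
    (v : Fin n → R) (hv : ∑ i, v i • x i = 0) (j : Fin n) : OrdGe 𝒜 1 (v j) := by
  classical
  intro i hi
  rcases lt_or_eq_of_le (show i ≤ 0 by omega) with hi' | rfl
  · exact hneg i hi' _ (SetLike.coe_mem _)
  by_contra hne
  obtain ⟨c, hc⟩ := h0 _ (SetLike.coe_mem (decompose 𝒜 (v j) 0))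
  have hc0 : c ≠ 0 := by
    rintro rfl; apply hne; rw [← hc, map_zero]
  choose d hd using hx
  have hrel : ∑ i, (decompose 𝒜 (v i) (d j - d i) : R) • x i = 0 := by
    have h1 : (decompose ℳ (∑ i, v i • x i) (d j) : M) = 0 := by
      rw [hv, decompose_zero, DirectSum.zero_apply, ZeroMemClass.coe_zero]
    rw [coe_decompose_sum] at h1
    rw [← h1]
    exact Finset.sum_congr rfl fun i _ => (decompose_smul_of_mem 𝒜 ℳ (v i) (hd i) (d j)).symm
  have hwj : ∀ z : ℤ, z = 0 → (decompose 𝒜 (v j) z : R) = algebraMap k R c := by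
    rintro z rfl; exact hc.symm
  cases n with
  | zero => exact j.elim0
  | succ m =>
    rw [Fin.sum_univ_succAbove _ j, hwj _ (sub_self _)] at hrel
    have hxj : x j ∈ Submodule.span R (Set.range (x ∘ j.succAbove)) := by
      have h2 : algebraMap k R c • x j =
          -∑ l, (decompose 𝒜 (v (j.succAbove l)) (d j - d (j.succAbove l)) : R) •
            x (j.succAbove l) := eq_neg_of_add_eq_zero_left hrel
      have h3 : x j = algebraMap k R c⁻¹ • (algebraMap k R c • x j) := by
        rw [smul_smul, ← map_mul, inv_mul_cancel₀ hc0, map_one, one_smul]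
      rw [h3, h2]
      exact Submodule.smul_mem _ _ (Submodule.neg_mem _ (Submodule.sum_mem _ fun l _ =>
        Submodule.smul_mem _ _ (Submodule.subset_span ⟨l, rfl⟩)))
    apply hmin m (Nat.lt_succ_self m)
    refine ⟨x ∘ j.succAbove, fun l => ⟨d _, hd _⟩, ?_⟩
    rw [eq_top_iff, ← hspan, Submodule.span_le]
    rintro _ ⟨i, rfl⟩
    by_cases hij : i = j
    · rw [hij]; exact hxj
    · obtain ⟨l, rfl⟩ := Fin.exists_succAbove_eq hij
      exact Submodule.subset_span ⟨l, rfl⟩

end helpers


/-- Let k be a field and R a commutative ℤ-graded k-algebra whose pieces of negative degree vanish and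
whose degree-zero piece is the image of k, and let M be a finitely generated ℤ-graded R-module,
graded compatibly with R. Then M is a projective R-module if and only if M has an R-basis consisting
of homogeneous elements, i.e. M is a free graded module. (The published statement takes R a graded
quotient of a polynomial ring k[x_0, …, x_n] with its standard grading; stated here for any
commutative graded k-algebra concentrated in non-negative degrees with degree-zero part k, to which
the same graded-Nakayama argument applies.) -/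
theorem result {k : Type u} [Field k] {R : Type u} [CommRing R] [Algebra k R]
    {σ : Type u} [SetLike σ R] [AddSubmonoidClass σ R] (𝒜 : ℤ → σ) [GradedRing 𝒜]
    (hneg : ∀ i : ℤ, i < 0 → ∀ x ∈ 𝒜 i, x = 0)
    (hk : ∀ c : k, algebraMap k R c ∈ 𝒜 0) (h0 : ∀ x ∈ 𝒜 0, ∃ c : k, algebraMap k R c = x)
    {M : Type u} [AddCommGroup M] [Module R M] [Module.Finite R M]
    {τ : Type u} [SetLike τ M] [AddSubmonoidClass τ M] (ℳ : ℤ → τ) [DirectSum.Decomposition ℳ]
    [SetLike.GradedSMul 𝒜 ℳ] :
    Module.Projective R M ↔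
      ∃ (ι : Type u) (b : Module.Basis ι R M), ∀ i : ι, SetLike.IsHomogeneousElem ℳ (b i) := by
  classical
  constructor
  · intro hproj
    obtain ⟨n, x, hxhom, hxspan, hmin⟩ := exists_min_gens (R := R) ℳ
    have hsurj : Function.Surjective (Fintype.linearCombination R x) := by
      rw [← LinearMap.range_eq_top, Fintype.range_linearCombination, hxspan]
    obtain ⟨s, hs⟩ := Module.projective_lifting_property (Fintype.linearCombination R x)
      LinearMap.id hsurj
    have hs' : ∀ m, Fintype.linearCombination R x (s m) = m := fun m => LinearMap.congr_fun hs m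
    have hEid : IsIdempotentElem
        ((s ∘ₗ Fintype.linearCombination R x : Module.End R (Fin n → R))) := by
      refine LinearMap.ext fun v => ?_
      simp only [Module.End.mul_apply, LinearMap.comp_apply, hs']
    have hN : IsIdempotentElem
        ((1 - s ∘ₗ Fintype.linearCombination R x : Module.End R (Fin n → R))) := hEid.one_sub
    have hNapply : ∀ v, (1 - s ∘ₗ Fintype.linearCombination R x : Module.End R (Fin n → R)) v =
        v - s (Fintype.linearCombination R x v) := by
      intro v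
      rw [LinearMap.sub_apply, Module.End.one_apply, LinearMap.comp_apply]
    have hφN : ∀ v, Fintype.linearCombination R x
        ((1 - s ∘ₗ Fintype.linearCombination R x : Module.End R (Fin n → R)) v) = 0 := by
      intro v
      rw [hNapply, map_sub, hs', sub_self]
    have hNI : ∀ v j, (1 - s ∘ₗ Fintype.linearCombination R x : Module.End R (Fin n → R)) v j ∈
        irr 𝒜 hneg := fun v j =>
      ker_coord 𝒜 ℳ hneg h0 n x hxhom hxspan hmin _
        ((Fintype.linearCombination_apply R x _).symm.trans (hφN v)) j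
    have hpow : ∀ K : ℕ, ∀ v j,
        ((1 - s ∘ₗ Fintype.linearCombination R x : Module.End R (Fin n → R)) ^ (K + 1)) v j ∈
          (irr 𝒜 hneg) ^ (K + 1) := by
      intro K
      induction K with
      | zero =>
        intro v j
        simp only [zero_add, pow_one]
        exact hNI v j
      | succ K ih =>
        intro v j
        rw [pow_succ' (1 - s ∘ₗ Fintype.linearCombination R x : Module.End R (Fin n → R)) (K + 1),
          Module.End.mul_apply, LinearMap.pi_apply_eq_sum_univ
          (1 - s ∘ₗ Fintype.linearCombination R x : Module.End R (Fin n → R)), Finset.sum_apply]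
        refine Ideal.sum_mem _ fun l _ => ?_
        rw [Pi.smul_apply, smul_eq_mul, pow_succ (irr 𝒜 hneg) (K + 1)]
        exact Ideal.mul_mem_mul (ih v l) (hNI _ j)
    have hNzero : ∀ v, (1 - s ∘ₗ Fintype.linearCombination R x : Module.End R (Fin n → R)) v =
        0 := by
      intro v
      funext j
      apply eq_zero_of_ordGe 𝒜
      intro K
      have h1 := hpow K v j
      rw [hN.pow_succ_eq K] at h1
      have h2 := irr_pow 𝒜 hneg (K + 1) _ h1
      push_cast at h2
      exact h2
    have hinj : ∀ v, Fintype.linearCombination R x v = 0 → v = 0 := by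
      intro v hv
      have h1 := hNzero v
      rw [hNapply, hv, map_zero, sub_zero] at h1
      exact h1
    have hli : LinearIndependent R x := by
      rw [Fintype.linearIndependent_iff]
      intro g hg i
      have : g = 0 := hinj g ((Fintype.linearCombination_apply R x g).trans hg)
      rw [this]; rfl
    refine ⟨ULift.{u, 0} (Fin n), (Module.Basis.mk hli hxspan.ge).reindex Equiv.ulift.symm,
      fun i => ?_⟩
    rw [Module.Basis.reindex_apply, Module.Basis.mk_apply]
    exact hxhom _
  · rintro ⟨ι, b, -⟩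
    exact Module.Projective.of_basis b

end Groth.Agent.S19462
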