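import Groth.Statements.S19465
import Groth.Agent.Lib.Helper79.TrivGrpFibre

set_option autoImplicit false
universe u
open CategoryTheory CategoryTheory.Limits MonoidalCategory CartesianMonoidalCategory MonObj GrpObj AlgebraicGeometry
open AlgGrp

namespace Groth.Agent.S19465

/-- Let S be a scheme and G an S-group scheme whose structure morphism G → S is locally of finite type.
Then G → S is an isomorphism (G is the trivial group scheme over S) if and only if every fibre G_s →
Spec κ(s), s ∈ S, is an isomorphism. -/
theorem result (S : Scheme.{u}) (G : Over S)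
    [GrpObj G] [LocallyOfFiniteType G.hom] :
    IsIso G.hom ↔ ∀ s : S, IsIso (G.hom.fiberToSpecResidueField s) := by
  constructor
  · intro h s
    unfold Scheme.Hom.fiberToSpecResidueField
    exact MorphismProperty.pullback_snd (P := MorphismProperty.isomorphisms Scheme.{u}) _ _ h
  · intro h
    have he : (η[G] : 𝟙_ (Over S) ⟶ G).left ≫ G.hom = 𝟙 S := by
      exact Over.w (η[G] : 𝟙_ (Over S) ⟶ G)
    exact Groth.Agent.Lib.Helper79.TrivGrpFibre.isIso_of_section_of_fibres G.hom _ he h

end Groth.Agent.S19465
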