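import Groth.Statements.S19471
import Mathlib
import Groth.Agent.Lib.Helper77.TorVanish
import Groth.Agent.Lib.Helper77.GrTor
import Groth.Agent.S15416

set_option autoImplicit false
universe u
open GrSyz

namespace Groth.Agent.S19471

/-- Let k be an algebraically closed field, S = k[x_0, …, x_n] with its standard grading, and M a
finitely generated ℤ-graded S-module. Then M has a graded free resolution of length at most n + 1:
an exact sequence 0 → F_{n+1} → … → F_1 → F_0 → M → 0 in which every F_i is a finite direct sum of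
twists S(−j) (a finite-rank free module with a homogeneous basis) and all maps respect the grading. -/
theorem result (k : Type u) [Field k] [IsAlgClosed k] (n : ℕ)
    (M : Type u) [AddCommGroup M] [Module k M] [Module (MvPolynomial (Fin (n + 1)) k) M]
    [IsScalarTower k (MvPolynomial (Fin (n + 1)) k) M] [Module.Finite (MvPolynomial (Fin (n + 1)) k) M]
    (ℳ : ℤ → Submodule k M) [DirectSum.Decomposition ℳ]
    [SetLike.GradedSMul (GrSyz.stdGr k (Fin (n + 1))) ℳ] :
    ∃ F : GrSyz.FreeRes (GrSyz.stdGr k (Fin (n + 1))) ℳ, F.HasLengthLE (n + 1) := by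
  obtain ⟨F, hF⟩ := Groth.Agent.S15416.result k n M ℳ
  refine ⟨F, fun i hi => ?_⟩
  have := Groth.Agent.Lib.Helper77.GrTor.irrel_isMaximal k (Fin (n + 1))
  have hlen := Groth.Agent.Lib.Helper77.GrTor.length_tor F _ hF i
  have hz := Groth.Agent.Lib.Helper77.TorVanish.isZero_tor_of_eq_ker k (n + 1)
    (GrSyz.irrel (GrSyz.stdGr k (Fin (n + 1)))).toIdeal
    (Groth.Agent.Lib.Helper77.GrTor.irrel_eq_ker_constantCoeff k (Fin (n + 1)))
    (ModuleCat.of _ M) i hi
  have hsub := ModuleCat.subsingleton_of_isZero hz
  rw [Module.length_eq_zero] at hlen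
  exact_mod_cast hlen.symm

end Groth.Agent.S19471
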