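import Groth.Statements.S19474
import Groth.Agent.Lib.Helper33.CompletionLocal

set_option autoImplicit false
universe u
open CAlg

namespace Groth.Agent.S19474

/-- Let A be a Noetherian local ring and I an ideal of A different from A. Then the I-adic completion of
A has the same Krull dimension as A, and A is a regular local ring if and only if the I-adic
completion of A is a regular local ring (in particular the completion is then local and Noetherian).
The case where I is the maximal ideal is the classical one; here I is any proper ideal. -/
theorem result (A : Type u) [CommRing A]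
    [IsLocalRing A] [IsNoetherianRing A] (I : Ideal A) (hI : I ≠ ⊤) :
    ringKrullDim (AdicCompletion I A) = ringKrullDim A ∧
      (IsRegularLocalRing A ↔ IsRegularLocalRing (AdicCompletion I A)) := by
  have hloc : IsLocalRing (AdicCompletion I A) :=
    Groth.Agent.Lib.Helper33.isLocalRing_adicCompletion I hI
  have hN : IsNoetherianRing (AdicCompletion I A) :=
    Groth.Agent.Lib.Helper63.CompletionNoeth.isNoetherianRing_adicCompletion A I
  have hlh : IsLocalHom (algebraMap A (AdicCompletion I A)) :=
    Groth.Agent.Lib.Helper33.isLocalHom_algebraMap_adicCompletion I hI
  have hmax := Groth.Agent.Lib.Helper33.maximalIdeal_adicCompletion I hI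
  constructor
  · rw [← IsLocalRing.maximalIdeal_height_eq_ringKrullDim,
      ← IsLocalRing.maximalIdeal_height_eq_ringKrullDim]
    have hlo : (IsLocalRing.maximalIdeal (AdicCompletion I A)).LiesOver
        (IsLocalRing.maximalIdeal A) :=
      ⟨(IsLocalRing.maximalIdeal_comap (algebraMap A (AdicCompletion I A))).symm⟩
    have h1 := Ideal.height_eq_height_add_of_liesOver_of_hasGoingDown
      (IsLocalRing.maximalIdeal A) (IsLocalRing.maximalIdeal (AdicCompletion I A))
    have h0 : ((IsLocalRing.maximalIdeal (AdicCompletion I A)).map (Ideal.Quotient.mk
        ((IsLocalRing.maximalIdeal A).map (algebraMap A (AdicCompletion I A))))).height = 0 := by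
      have hnt : Nontrivial (AdicCompletion I A ⧸
          (IsLocalRing.maximalIdeal A).map (algebraMap A (AdicCompletion I A))) := by
        rw [← hmax]
        exact Ideal.Quotient.nontrivial_iff.mpr (Ideal.IsPrime.ne_top')
      rw [hmax, Ideal.map_quotient_self, Ideal.height_bot]
    rw [h1, h0, add_zero]
  · constructor
    · intro h
      exact Groth.Agent.Lib.Helper33.isRegularLocalRing_of_flat_of_map_maximalIdeal A
        (AdicCompletion I A) hmax.symm
    · intro h
      exact Groth.Agent.S0565.result A (AdicCompletion I A)

end Groth.Agent.S19474
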