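import Groth.Statements.S19475
import Mathlib

set_option autoImplicit false
universe u
open CAlg

namespace Groth.Agent.S19475

open IsLocalRing in
/-- Let A be a Noetherian ring, B an A-algebra, q a prime ideal of B and p its preimage in A; let A_p
and B_q be the local rings at p and q and Â_p the completion of A_p at its maximal ideal pA_p. Then
the ideal generated by qB_q in B_q ⊗ Â_p is maximal. (The tensor product is formed over A; since A_p
is a localization of A it agrees with the tensor product over A_p used in the published statement.) -/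
theorem result (A B : Type u) [CommRing A] [CommRing B]
    [Algebra A B] [IsNoetherianRing A] (q : Ideal B) [q.IsPrime] :
    ((maximalIdeal (Localization.AtPrime q)).map
      (Algebra.TensorProduct.includeLeftRingHom :
        Localization.AtPrime q →+* TensorProduct A (Localization.AtPrime q)
          (AdicCompletion (maximalIdeal (Localization.AtPrime (q.under A)))
            (Localization.AtPrime (q.under A))))).IsMaximal := by
  classical
  -- notation
  set p : Ideal A := q.under A with hp
  have hpprime : p.IsPrime := Ideal.IsPrime.under A q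
  set Ap := Localization.AtPrime p with hAp
  set Bq := Localization.AtPrime q with hBq
  set mp : Ideal Ap := maximalIdeal Ap with hmp
  set Ahat := AdicCompletion mp Ap with hAhat
  -- `Bq` is an `Ap`-algebra
  let loc : Ap →+* Bq := Localization.localRingHom p q (algebraMap A B) rfl
  let _ : Algebra Ap Bq := loc.toAlgebra
  have hloc : IsLocalHom loc := Localization.isLocalHom_localRingHom p q (algebraMap A B) rfl
  have htower : IsScalarTower A Ap Bq := by
    refine IsScalarTower.of_algebraMap_eq (fun a => ?_)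
    change algebraMap A Bq a = loc (algebraMap A Ap a)
    rw [Localization.localRingHom_to_map, ← IsScalarTower.algebraMap_apply]
  have htower2 : IsScalarTower A Ap Ahat := inferInstance
  -- the residue field map
  let res : Bq →ₐ[A] ResidueField Bq := IsScalarTower.toAlgHom A Bq (ResidueField Bq)
  let ψ0 : Ahat →+* ResidueField Bq :=
    (IsLocalRing.ResidueField.map loc).comp (AdicCompletion.evalOneₐ mp).toRingHom
  let ψ : Ahat →ₐ[A] ResidueField Bq :=
    { toRingHom := ψ0
      commutes' := fun a => by
        change (IsLocalRing.ResidueField.map loc) (AdicCompletion.evalOneₐ mp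
          (algebraMap A Ahat a)) = _
        rw [IsScalarTower.algebraMap_apply A Ap Ahat a]
        change (IsLocalRing.ResidueField.map loc) (AdicCompletion.evalOneₐ mp
          (AdicCompletion.of mp Ap (algebraMap A Ap a))) = _
        rw [AdicCompletion.evalOneₐ_of]
        change (IsLocalRing.ResidueField.map loc) (IsLocalRing.residue Ap (algebraMap A Ap a)) = _
        rw [IsLocalRing.ResidueField.map_residue]
        change IsLocalRing.residue Bq (loc (algebraMap A Ap a)) = _
        rw [Localization.localRingHom_to_map]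
        rfl }
  let φ : TensorProduct A Bq Ahat →ₐ[A] ResidueField Bq :=
    Algebra.TensorProduct.lift res ψ (fun _ _ => Commute.all _ _)
  have hφ : ∀ b x, φ (b ⊗ₜ[A] x) = res b * ψ x := fun b x =>
    Algebra.TensorProduct.lift_tmul _ _ _ _ _
  have hφsurj : Function.Surjective φ := by
    intro y
    obtain ⟨b, rfl⟩ := IsLocalRing.residue_surjective y
    refine ⟨b ⊗ₜ[A] 1, ?_⟩
    rw [hφ, map_one, mul_one]
    rfl
  -- the ideal
  set I : Ideal (TensorProduct A Bq Ahat) := (maximalIdeal Bq).map
      (Algebra.TensorProduct.includeLeftRingHom : Bq →+* TensorProduct A Bq Ahat) with hI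
  have hres : ∀ b : Bq, res b = 0 ↔ b ∈ maximalIdeal Bq := fun b => by
    change IsLocalRing.residue Bq b = 0 ↔ _
    exact IsLocalRing.residue_eq_zero_iff b
  have hinc : ∀ b ∈ maximalIdeal Bq, ∀ x : Ahat, b ⊗ₜ[A] x ∈ I := by
    intro b hb x
    have : b ⊗ₜ[A] x = (b ⊗ₜ[A] (1 : Ahat)) * ((1 : Bq) ⊗ₜ[A] x) := by
      rw [Algebra.TensorProduct.tmul_mul_tmul, mul_one, one_mul]
    rw [this]
    exact Ideal.mul_mem_right _ _ (Ideal.mem_map_of_mem _ hb)
  -- moving scalars of `Ap`
  have hmove : ∀ (a : Ap) (b : Bq) (x : Ahat), b ⊗ₜ[A] (a • x) = (a • b) ⊗ₜ[A] x := by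
    intro a b x
    exact (TensorProduct.smul_tmul a b x).symm
  have hsmulmem : ∀ a ∈ mp, ∀ b : Bq, a • b ∈ maximalIdeal Bq := by
    intro a ha b
    rw [Algebra.smul_def]
    refine Ideal.mul_mem_right _ _ ?_
    change loc a ∈ maximalIdeal Bq
    rw [IsLocalRing.mem_maximalIdeal, mem_nonunits_iff] at ha ⊢
    intro hu
    exact ha (hloc.map_nonunit a hu)
  have hmapmem : ∀ z ∈ mp.map (algebraMap Ap Ahat), ∀ b : Bq, b ⊗ₜ[A] z ∈ I := by
    intro z hz
    induction hz using Submodule.span_induction with
    | mem z hz =>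
      obtain ⟨a, ha, rfl⟩ := hz
      intro b
      have : b ⊗ₜ[A] (algebraMap Ap Ahat a) = (a • b) ⊗ₜ[A] (1 : Ahat) := by
        rw [← hmove, Algebra.smul_def, mul_one]
      rw [this]
      exact hinc _ (hsmulmem a ha b) _
    | zero => intro b; rw [TensorProduct.tmul_zero]; exact I.zero_mem
    | add y z _ _ hy hz => intro b; rw [TensorProduct.tmul_add]; exact I.add_mem (hy b) (hz b)
    | smul y z _ hz =>
      intro b
      have : b ⊗ₜ[A] (y • z) = ((1 : Bq) ⊗ₜ[A] y) * (b ⊗ₜ[A] z) := by
        rw [Algebra.TensorProduct.tmul_mul_tmul, one_mul, smul_eq_mul]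
      rw [this]
      exact Ideal.mul_mem_left _ _ (hz b)
  have hker : RingHom.ker (AdicCompletion.evalOneₐ mp).toRingHom = mp.map (algebraMap Ap Ahat) :=
    AdicCompletion.ker_evalOneₐ_eq_map mp (Ideal.fg_of_isNoetherianRing mp)
  -- every element is congruent to `b ⊗ 1` mod `I`
  have hcong : ∀ t : TensorProduct A Bq Ahat, ∃ b : Bq, t - b ⊗ₜ[A] (1 : Ahat) ∈ I := by
    intro t
    induction t using TensorProduct.induction_on with
    | zero => exact ⟨0, by rw [TensorProduct.zero_tmul, sub_zero]; exact I.zero_mem⟩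
    | tmul b x =>
      obtain ⟨a, ha⟩ := Ideal.Quotient.mk_surjective (AdicCompletion.evalOneₐ mp x)
      have hx : x - algebraMap Ap Ahat a ∈ mp.map (algebraMap Ap Ahat) := by
        rw [← hker, RingHom.mem_ker, map_sub]
        change AdicCompletion.evalOneₐ mp x - AdicCompletion.evalOneₐ mp
          (AdicCompletion.of mp Ap a) = 0
        rw [AdicCompletion.evalOneₐ_of, ha, sub_self]
      refine ⟨a • b, ?_⟩
      have : b ⊗ₜ[A] x - (a • b) ⊗ₜ[A] (1 : Ahat) = b ⊗ₜ[A] (x - algebraMap Ap Ahat a) := by
        rw [TensorProduct.tmul_sub, ← hmove, Algebra.smul_def, mul_one]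
      rw [this]
      exact hmapmem _ hx b
    | add s t hs ht =>
      obtain ⟨b, hb⟩ := hs
      obtain ⟨c, hc⟩ := ht
      refine ⟨b + c, ?_⟩
      have : s + t - (b + c) ⊗ₜ[A] (1 : Ahat) = (s - b ⊗ₜ[A] 1) + (t - c ⊗ₜ[A] 1) := by
        rw [TensorProduct.add_tmul]; ring
      rw [this]
      exact I.add_mem hb hc
  have hIle : I ≤ RingHom.ker φ.toRingHom := by
    rw [hI, Ideal.map_le_iff_le_comap]
    intro b hb
    rw [Ideal.mem_comap, RingHom.mem_ker]
    change φ (b ⊗ₜ[A] 1) = 0
    rw [hφ, map_one, mul_one]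
    exact (hres b).mpr hb
  have hkerφ : RingHom.ker φ.toRingHom = I := by
    refine le_antisymm ?_ hIle
    intro t ht
    obtain ⟨b, hb⟩ := hcong t
    have h1 : φ (t - b ⊗ₜ[A] (1 : Ahat)) = 0 := hIle hb
    rw [RingHom.mem_ker] at ht
    change φ t = 0 at ht
    rw [map_sub, ht, zero_sub, neg_eq_zero, hφ, map_one, mul_one] at h1
    have hbm : b ∈ maximalIdeal Bq := (hres b).mp h1
    have : t = (t - b ⊗ₜ[A] (1 : Ahat)) + b ⊗ₜ[A] (1 : Ahat) := by ring
    rw [this]
    exact I.add_mem hb (hinc b hbm 1)
  rw [← hkerφ]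
  exact RingHom.ker_isMaximal_of_surjective φ.toRingHom hφsurj

end Groth.Agent.S19475
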