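import Groth.Statements.S19477
import Mathlib

set_option autoImplicit false
set_option linter.style.haveILetI false
universe u
open Variety

namespace Groth.Agent.S19477

open TensorProduct

section helpers

variable (K F L : Type u) [Field K] [Field F] [Algebra K F] [Field L] [Algebra K L]

/-- The Galois group acts on `F ⊗ L` through the second factor. -/
noncomputable def actHom : (L ≃ₐ[K] L) →* ((F ⊗[K] L) ≃ₐ[F] (F ⊗[K] L)) where
  toFun g := Algebra.TensorProduct.congr AlgEquiv.refl g
  map_one' := by
    apply AlgEquiv.ext
    intro x
    induction x using TensorProduct.induction_on with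
    | zero => simp
    | tmul a b => simp
    | add x y hx hy => simp only [map_add, hx, hy]
  map_mul' g h := by
    apply AlgEquiv.ext
    intro x
    induction x using TensorProduct.induction_on with
    | zero => simp
    | tmul a b => simp
    | add x y hx hy => simp only [map_add, hx, hy]

noncomputable instance actInst : MulSemiringAction (L ≃ₐ[K] L) (F ⊗[K] L) :=
  MulSemiringAction.compHom _ (actHom K F L)

lemma smul_def (g : L ≃ₐ[K] L) (x : F ⊗[K] L) :
    g • x = Algebra.TensorProduct.congr (AlgEquiv.refl : F ≃ₐ[F] F) g x := rfl

lemma smul_tmul (g : L ≃ₐ[K] L) (a : F) (b : L) :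
    g • (a ⊗ₜ[K] b : F ⊗[K] L) = a ⊗ₜ[K] g b := by
  rw [smul_def]; simp

instance : SMulCommClass (L ≃ₐ[K] L) F (F ⊗[K] L) where
  smul_comm g a x := by
    rw [smul_def, smul_def, map_smul]

end helpers


section helpers2

variable (K F L : Type u) [Field K] [Field F] [Algebra K F] [Field L] [Algebra K L]

/-- coordinates of `F ⊗ L` with respect to a `K`-basis of `F`. -/
noncomputable def coord {ι : Type u} [DecidableEq ι] (b : Module.Basis ι K F) : (F ⊗[K] L) ≃ₗ[K] (ι →₀ L) :=
  (LinearEquiv.rTensor L b.repr) ≪≫ₗ TensorProduct.finsuppScalarLeft K L ι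

lemma coord_tmul {ι : Type u} [DecidableEq ι] (b : Module.Basis ι K F) (a : F) (l : L) (i : ι) :
    coord K F L b (a ⊗ₜ[K] l) i = (b.repr a i) • l := by
  simp [coord, TensorProduct.finsuppScalarLeft_apply_tmul_apply]

lemma coord_smul {ι : Type u} [DecidableEq ι] (b : Module.Basis ι K F) (g : L ≃ₐ[K] L) (x : F ⊗[K] L) (i : ι) :
    coord K F L b (g • x) i = g (coord K F L b x i) := by
  induction x using TensorProduct.induction_on with
  | zero => simp
  | tmul a l => rw [smul_tmul, coord_tmul, coord_tmul, map_smul]
  | add x y hx hy => rw [smul_add, map_add, map_add, Finsupp.add_apply, Finsupp.add_apply, hx, hy,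
      map_add]

instance isInv [IsGalois K L] : Algebra.IsInvariant F (F ⊗[K] L) (L ≃ₐ[K] L) where
  isInvariant x hx := by
    classical
    let b := Module.Free.chooseBasis K F
    have hfix : ∀ i, coord K F L b x i ∈ Set.range (algebraMap K L) := by
      intro i
      rw [InfiniteGalois.mem_range_algebraMap_iff_fixed]
      intro g
      rw [← coord_smul, hx g]
    let ψ : L → K := Function.invFun (algebraMap K L)
    have hψ : ∀ l ∈ Set.range (algebraMap K L), algebraMap K L (ψ l) = l := by
      intro l hl
      exact Function.invFun_eq hl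
    have hψ0 : ψ 0 = 0 := by
      have := hψ 0 ⟨0, map_zero _⟩
      exact (algebraMap K L).injective (by rw [this, map_zero])
    let c : _ →₀ K := (coord K F L b x).mapRange ψ hψ0
    refine ⟨b.repr.symm c, ?_⟩
    apply (coord K F L b).injective
    ext i
    rw [Algebra.TensorProduct.algebraMap_apply, Algebra.algebraMap_self, RingHom.id_apply, coord_tmul]
    simp only [Module.Basis.repr_symm_apply, Module.Basis.repr_linearCombination]
    rw [Algebra.smul_def, mul_one]
    simp only [c, Finsupp.mapRange_apply]
    exact hψ _ (hfix i)

lemma stab_open [Algebra.IsIntegral K L] (x : F ⊗[K] L) :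
    IsOpen (MulAction.stabilizer (L ≃ₐ[K] L) x : Set (L ≃ₐ[K] L)) := by
  induction x using TensorProduct.induction_on with
  | zero =>
    have : MulAction.stabilizer (L ≃ₐ[K] L) (0 : F ⊗[K] L) = ⊤ := by
      ext g; simp
    rw [this]; exact isOpen_univ
  | tmul a l =>
    refine Subgroup.isOpen_mono (H₁ := MulAction.stabilizer (L ≃ₐ[K] L) l) ?_
      (stabilizer_isOpen_of_isIntegral l)
    intro g hg
    rw [MulAction.mem_stabilizer_iff] at hg ⊢
    rw [smul_tmul]
    congr 1
  | add x y hx hy =>
    refine Subgroup.isOpen_mono (H₁ := MulAction.stabilizer (L ≃ₐ[K] L) x ⊓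
      MulAction.stabilizer (L ≃ₐ[K] L) y) ?_ (hx.inter hy)
    intro g hg
    rw [Subgroup.mem_inf, MulAction.mem_stabilizer_iff, MulAction.mem_stabilizer_iff] at hg
    rw [MulAction.mem_stabilizer_iff, smul_add, hg.1, hg.2]

end helpers2

/-- Let K be a field, B an integral K-algebra of finite type with fraction field F, and L a Galois
extension of K with group Γ = Aut_K(L). Then F ⊗_K L has only finitely many prime ideals and Γ,
acting through the second factor, permutes them transitively: for prime ideals P, Q there is γ ∈ Γ
with Q the preimage of P under id ⊗ γ. (The published statement is the geometric one, that the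
points of an algebraic K-scheme X correspond to the Γ-orbits of points of X_L and that these orbits
are finite; it reduces to this algebraic statement by passing to the fibre over a point, and the
algebraic statement is what is proved.) -/
theorem result (K B L : Type u) [Field K]
    [CommRing B] [IsDomain B] [Algebra K B] [Algebra.FiniteType K B] [Field L] [Algebra K L] [IsGalois K L] :
    Finite (PrimeSpectrum (TensorProduct K (FractionRing B) L)) ∧
      ∀ P Q : PrimeSpectrum (TensorProduct K (FractionRing B) L), ∃ γ : L ≃ₐ[K] L,
        Q.asIdeal = P.asIdeal.comap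
          (Algebra.TensorProduct.map (AlgHom.id K (FractionRing B)) (γ : L →ₐ[K] L)) := by
  classical
  haveI : Algebra.IsIntegral K L := inferInstance
  have hfin : Finite (PrimeSpectrum (TensorProduct K (FractionRing B) L)) := by
    haveI : Algebra.EssFiniteType K (FractionRing B) := Algebra.EssFiniteType.comp K B _
    haveI : Algebra.EssFiniteType L (L ⊗[K] (FractionRing B)) := inferInstance
    haveI : IsNoetherianRing (L ⊗[K] (FractionRing B)) :=
      Algebra.EssFiniteType.isNoetherianRing L _
    haveI : IsNoetherianRing (TensorProduct K (FractionRing B) L) :=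
      isNoetherianRing_of_ringEquiv _
        (Algebra.TensorProduct.comm K L (FractionRing B)).toRingEquiv
    haveI : Algebra.IsIntegral (FractionRing B) (TensorProduct K (FractionRing B) L) :=
      inferInstance
    haveI : Ring.KrullDimLE 0 (TensorProduct K (FractionRing B) L) := by
      rw [Ring.krullDimLE_zero_iff]
      intro I hI
      apply Ideal.isMaximal_of_isIntegral_of_isMaximal_comap (R := FractionRing B) I
      have : (I.comap (algebraMap (FractionRing B) (TensorProduct K (FractionRing B) L))).IsPrime :=
        Ideal.IsPrime.comap _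
      rw [(Ideal.eq_bot_or_top _).resolve_right this.ne_top]
      exact Ideal.bot_isMaximal
    haveI : IsArtinianRing (TensorProduct K (FractionRing B) L) :=
      isArtinianRing_iff_krullDimLE_zero.mpr inferInstance
    infer_instance
  refine ⟨hfin, ?_⟩
  intro P Q
  letI : TopologicalSpace (TensorProduct K (FractionRing B) L) := ⊥
  haveI : DiscreteTopology (TensorProduct K (FractionRing B) L) := ⟨rfl⟩
  haveI : ContinuousSMul (L ≃ₐ[K] L) (TensorProduct K (FractionRing B) L) :=
    continuousSMul_iff_stabilizer_isOpen.mpr (stab_open K (FractionRing B) L)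
  have hPQ : P.asIdeal.under (FractionRing B) = Q.asIdeal.under (FractionRing B) := by
    have h1 : P.asIdeal.under (FractionRing B) = ⊥ := by
      have : (P.asIdeal.under (FractionRing B)).IsPrime := Ideal.IsPrime.under _ _
      exact ((Ideal.eq_bot_or_top _).resolve_right this.ne_top)
    have h2 : Q.asIdeal.under (FractionRing B) = ⊥ := by
      have : (Q.asIdeal.under (FractionRing B)).IsPrime := Ideal.IsPrime.under _ _
      exact ((Ideal.eq_bot_or_top _).resolve_right this.ne_top)
    rw [h1, h2]
  obtain ⟨g, hg⟩ := Algebra.IsInvariant.exists_smul_of_under_eq_of_profinite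
    (A := FractionRing B) (G := L ≃ₐ[K] L) P.asIdeal Q.asIdeal hPQ
  refine ⟨g⁻¹, ?_⟩
  rw [hg, Ideal.pointwise_smul_eq_comap]
  ext x
  simp only [Ideal.mem_comap]
  have : (MulSemiringAction.toRingAut (L ≃ₐ[K] L) (TensorProduct K (FractionRing B) L) g).symm x =
      (Algebra.TensorProduct.map (AlgHom.id K (FractionRing B)) ((g⁻¹ : L ≃ₐ[K] L) : L →ₐ[K] L)) x := by
    change g⁻¹ • x = _
    induction x using TensorProduct.induction_on with
    | zero => simp
    | tmul a l => rw [smul_tmul]; simp
    | add x y hx hy => rw [smul_add, map_add, hx, hy]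
  rw [this]


end Groth.Agent.S19477
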