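import Groth.Statements.S19479
import Groth.Agent.Lib.Helper75.ComodModule

set_option autoImplicit false
universe u v w
open HopfRep

namespace Groth.Agent.S19479


open Groth.Agent.Lib.Helper75

attribute [local instance] Groth.Agent.Lib.Helper75.comodModule

open TensorProduct in
/-- Let K be a field, C a K-coalgebra and V a right C-comodule. The following are equivalent: (i) V is
the internal direct sum of a family of simple subcomodules, i.e. there is an independent family of
subcomodules W_i with sum V, each W_i nonzero and having no subcomodules inside it other than 0 and
W_i; (ii) every subcomodule of V has a complementary subcomodule. A subcomodule is a subspace W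
whose coaction lands in the image of W ⊗ C. (The source states this for left comodules; a left
comodule over C is a right comodule over the co-opposite coalgebra, so the statement is the same.) -/
theorem result {K : Type u} {C : Type v} [Field K]
    [AddCommGroup C] [Module K C] [Coalgebra K C] (V : Type w) [AddCommGroup V] [Module K V] [HopfRep.Comod K C V] :
    (∃ (ι : Type w) (W : ι → Submodule K V), iSupIndep W ∧ iSup W = ⊤ ∧ ∀ i,
        HopfRep.IsSubcomod (k := K) (A := C) (W i) ∧ W i ≠ ⊥ ∧
          ∀ W' : Submodule K V, HopfRep.IsSubcomod (k := K) (A := C) W' → W' ≤ W i → W' = ⊥ ∨ W' = W i) ↔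
      HopfRep.IsSemisimpleComod K C V := by
  classical
  rw [isSemisimpleComod_iff]
  constructor
  · rintro ⟨ι, W, hind, hsup, hW⟩
    -- lift to submodules over the dual algebra
    let W' : ι → Submodule (DualAlg K C) V := fun i => toDualSubmodule (W i) (hW i).1
    have hW'r : ∀ i, (W' i).restrictScalars K = W i := fun i =>
      toDualSubmodule_restrictScalars (W i) (hW i).1
    have hsimple : ∀ i, IsSimpleModule (DualAlg K C) (W' i) := by
      intro i
      rw [isSimpleModule_iff_isAtom]
      refine ⟨?_, ?_⟩
      · intro h
        apply (hW i).2.1
        rw [← hW'r i, h, Submodule.restrictScalars_bot]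
      · intro b hb
        rcases (hW i).2.2 (b.restrictScalars K) (isSubcomod_restrictScalars b)
          (by rw [← hW'r i]; exact fun x hx => hb.le hx) with h0 | h1
        · apply Submodule.restrictScalars_injective K
          rw [h0, Submodule.restrictScalars_bot]
        · exfalso
          apply hb.ne
          apply Submodule.restrictScalars_injective K
          rw [h1, hW'r i]
    refine isSemisimpleModule_of_isSemisimpleModule_submodule' (p := W')
      (fun i => inferInstance) ?_
    apply Submodule.restrictScalars_injective K
    rw [Submodule.restrictScalars_iSup, Submodule.restrictScalars_top]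
    simp_rw [hW'r]
    exact hsup
  · intro hss
    obtain ⟨s, hind, hsup, hsimp⟩ :=
      IsSemisimpleModule.exists_sSupIndep_sSup_simples_eq_top (DualAlg K C) V
    refine ⟨s, fun i => (i : Submodule (DualAlg K C) V).restrictScalars K, ?_, ?_, ?_⟩
    · have hind' := (sSupIndep_iff s).1 hind
      intro i
      rw [disjoint_iff]
      have h1 := disjoint_iff.1 (hind' i)
      have h2 : (⨆ j, ⨆ (_ : j ≠ i), ((j : s) : Submodule (DualAlg K C) V).restrictScalars K) =
          (⨆ j, ⨆ (_ : j ≠ i), ((j : s) : Submodule (DualAlg K C) V)).restrictScalars K := by
        simp only [Submodule.restrictScalars_iSup]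
      rw [h2, ← Submodule.restrictScalars_inf, h1, Submodule.restrictScalars_bot]
    · rw [← Submodule.restrictScalars_iSup, ← sSup_eq_iSup', hsup, Submodule.restrictScalars_top]
    · intro i
      have hat : IsAtom (i : Submodule (DualAlg K C) V) :=
        isSimpleModule_iff_isAtom.1 (hsimp i i.2)
      refine ⟨isSubcomod_restrictScalars _, ?_, ?_⟩
      · intro h
        apply hat.1
        apply Submodule.restrictScalars_injective K
        rw [Submodule.restrictScalars_bot]
        exact h
      · intro W' hW' hle
        have hle' : toDualSubmodule W' hW' ≤ (i : Submodule (DualAlg K C) V) := fun x hx => hle hx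
        rcases hat.le_iff.1 hle' with h0 | h1
        · left
          rw [← toDualSubmodule_restrictScalars W' hW', h0, Submodule.restrictScalars_bot]
        · right
          rw [← toDualSubmodule_restrictScalars W' hW', h1]

end Groth.Agent.S19479
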