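import Groth.Statements.S19485
import Groth.Agent.Lib.Helper98.CrimpOrder

set_option autoImplicit false
universe u
open Crimp

namespace Groth.Agent.S19485

/-- The criterion for closedness under multiplication on which the description of the stratum rests.
Over R = k⟦t⟧ with k an algebraically closed field of characteristic zero, let S̃ = k⟦x⟧ regarded as
an R-algebra through t ↦ x ^ 3, that is S̃ = R[x] / (x ^ 3 - t). Let m, n be natural numbers with m
not divisible by 3, and let g be a power series with nonzero constant term. Then the R-submodule of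
S̃ spanned by 1 and x ^ m g together with the ideal x ^ n S̃ is closed under multiplication if and
only if n ≤ 2m. (The published proposition goes on to describe the stratum of crimps with these
invariants as irreducible of dimension ⌊(n - m)/3⌋ with a normal form for g; only the closedness
criterion is stated here.) -/
theorem result {k : Type u} [Field k] [IsAlgClosed k] [CharZero k]
    (m n : ℕ) (hm : ¬ 3 ∣ m) (x g : W4c1hurwitzcpt.RootDisk 3 k)
    (hx : W4c1hurwitzcpt.RootDisk.val x = PowerSeries.X) (hg : PowerSeries.order (W4c1hurwitzcpt.RootDisk.val g) = 0)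
    (M : Submodule (PowerSeries k) (W4c1hurwitzcpt.RootDisk 3 k))
    (hM : M = Submodule.span (PowerSeries k) {1, x ^ m * g} ⊔
      (Ideal.span {x ^ n} : Ideal (W4c1hurwitzcpt.RootDisk 3 k)).restrictScalars (PowerSeries k)) :
    (∀ a ∈ M, ∀ b ∈ M, a * b ∈ M) ↔ n ≤ 2 * m := by
  classical
  subst hM
  have hmem : ∀ a : W4c1hurwitzcpt.RootDisk 3 k,
      a ∈ Submodule.span (PowerSeries k) {1, x ^ m * g} ⊔
        (Ideal.span {x ^ n} : Ideal (W4c1hurwitzcpt.RootDisk 3 k)).restrictScalars (PowerSeries k) ↔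
      ∃ (a0 b0 : PowerSeries k) (s : W4c1hurwitzcpt.RootDisk 3 k),
        a = algebraMap (PowerSeries k) (W4c1hurwitzcpt.RootDisk 3 k) a0 +
          algebraMap (PowerSeries k) (W4c1hurwitzcpt.RootDisk 3 k) b0 * (x ^ m * g) + x ^ n * s := by
    intro a
    rw [Submodule.mem_sup]
    constructor
    · rintro ⟨y, hy, z, hz, rfl⟩
      rw [Submodule.mem_span_pair] at hy
      obtain ⟨a0, b0, rfl⟩ := hy
      rw [Submodule.restrictScalars_mem, Ideal.mem_span_singleton'] at hz
      obtain ⟨s, rfl⟩ := hz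
      refine ⟨a0, b0, s, ?_⟩
      rw [Algebra.smul_def, Algebra.smul_def, mul_one, mul_comm s]
    · rintro ⟨a0, b0, s, rfl⟩
      refine ⟨a0 • 1 + b0 • (x ^ m * g), Submodule.mem_span_pair.mpr ⟨a0, b0, rfl⟩, x ^ n * s, ?_, ?_⟩
      · rw [Submodule.restrictScalars_mem, Ideal.mem_span_singleton']
        exact ⟨s, mul_comm _ _⟩
      · rw [Algebra.smul_def, Algebra.smul_def, mul_one]
  constructor
  · intro hclosed
    by_contra hlt
    push Not at hlt
    have hu : x ^ m * g ∈ Submodule.span (PowerSeries k) {1, x ^ m * g} ⊔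
        (Ideal.span {x ^ n} : Ideal (W4c1hurwitzcpt.RootDisk 3 k)).restrictScalars (PowerSeries k) :=
      (hmem _).mpr ⟨0, 1, 0, by simp⟩
    obtain ⟨a0, b0, s, hs⟩ := (hmem _).mp (hclosed _ hu _ hu)
    obtain ⟨v, hv⟩ : ∃ v : W4c1hurwitzcpt.RootDisk 3 k ≃+* PowerSeries k,
        v = W4c1hurwitzcpt.RootDisk.val := ⟨_, rfl⟩
    have hvι : ∀ a : PowerSeries k,
        v (algebraMap (PowerSeries k) (W4c1hurwitzcpt.RootDisk 3 k) a) =
          PowerSeries.expand 3 (NeZero.ne 3) a := fun a => by rw [hv]; rfl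
    have hvx : v x = PowerSeries.X := by rw [hv]; exact hx
    have hvg : PowerSeries.order (v g) = 0 := by rw [hv]; exact hg
    have hs2 := congrArg v hs
    simp only [map_mul, map_add, map_pow, hvι, hvx] at hs2
    have h1 : PowerSeries.X ^ (2 * m) * (v g) ^ 2 - PowerSeries.X ^ n * v s =
        PowerSeries.expand 3 (NeZero.ne 3) a0 + PowerSeries.expand 3 (NeZero.ne 3) b0 *
          (PowerSeries.X ^ m * v g) := by
      have hpow : (PowerSeries.X : PowerSeries k) ^ (2 * m) = PowerSeries.X ^ m * PowerSeries.X ^ m := by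
        rw [← pow_add]; congr 1; omega
      rw [hpow]
      linear_combination hs2
    have h2 := Groth.Agent.Lib.Helper98.CrimpOrder.order_sub_eq (2 * m) n hlt
      ((v g) ^ 2) (v s) (by rw [PowerSeries.order_pow, hvg, smul_zero])
    have h3 := Groth.Agent.Lib.Helper98.CrimpOrder.order_expand_add_ne 3 (NeZero.ne 3) m (2 * m) hm
      (fun h => hm ((Nat.Coprime.dvd_of_dvd_mul_left (by norm_num : Nat.Coprime 3 2)) h))
      (fun j hj => hm ⟨j, by omega⟩) a0 b0 (v g) hvg
    rw [← h1] at h3
    exact h3 h2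
  · intro hle a ha b hb
    obtain ⟨a0, b0, s, rfl⟩ := (hmem a).mp ha
    obtain ⟨a0', b0', s', rfl⟩ := (hmem b).mp hb
    obtain ⟨c, hc⟩ : ∃ c, 2 * m = n + c := ⟨2 * m - n, by omega⟩
    refine (hmem _).mpr ⟨a0 * a0', a0 * b0' + a0' * b0,
      algebraMap (PowerSeries k) (W4c1hurwitzcpt.RootDisk 3 k) (b0 * b0') * x ^ c * g ^ 2 +
        algebraMap (PowerSeries k) (W4c1hurwitzcpt.RootDisk 3 k) a0 * s' +
        algebraMap (PowerSeries k) (W4c1hurwitzcpt.RootDisk 3 k) b0 * (x ^ m * g) * s' +
        algebraMap (PowerSeries k) (W4c1hurwitzcpt.RootDisk 3 k) a0' * s +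
        algebraMap (PowerSeries k) (W4c1hurwitzcpt.RootDisk 3 k) b0' * (x ^ m * g) * s +
        x ^ n * s * s', ?_⟩
    have hxx : x ^ m * x ^ m = x ^ n * x ^ c := by rw [← pow_add, ← pow_add, ← hc]; ring_nf
    simp only [map_mul, map_add]
    linear_combination (algebraMap (PowerSeries k) (W4c1hurwitzcpt.RootDisk 3 k) b0 *
      algebraMap (PowerSeries k) (W4c1hurwitzcpt.RootDisk 3 k) b0' * g ^ 2) * hxx

end Groth.Agent.S19485
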