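import Groth.Statements.S19486
import Groth.Agent.Lib.Helper98.CrimpOrder

set_option autoImplicit false
universe u
open Crimp

namespace Groth.Agent.S19486

/-- The emptiness of the stratum rests on the following computation. Over R = k⟦t⟧ with k an
algebraically closed field of characteristic zero, let S̃ = S̃₁ × R where S̃₁ = k⟦x⟧ is regarded as
an R-algebra through t ↦ x ^ 2, that is S̃₁ = R[x] / (x ^ 2 - t), with R embedded diagonally in the
product. Let m be odd, n > 2m, and let g be a power series with nonzero constant term. Then the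
R-submodule of S̃ spanned by 1 = (1, 1) and (x ^ m g, 0) together with the ideal x ^ n S̃₁ × 0 is
not closed under multiplication. (The published item concludes that the corresponding stratum of
crimps is empty; only this computation is stated here, with the ideal read as x ^ n S̃₁ × 0.) -/
theorem result {k : Type u} [Field k] [IsAlgClosed k] [CharZero k]
    (m n : ℕ) (hm : Odd m) (hmn : 2 * m < n) (x g : W4c1hurwitzcpt.RootDisk 2 k)
    (hx : W4c1hurwitzcpt.RootDisk.val x = PowerSeries.X) (hg : PowerSeries.order (W4c1hurwitzcpt.RootDisk.val g) = 0)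
    (M : Submodule (PowerSeries k) (W4c1hurwitzcpt.RootDisk 2 k × PowerSeries k))
    (hM : M = Submodule.span (PowerSeries k) {(1 : W4c1hurwitzcpt.RootDisk 2 k × PowerSeries k), (x ^ m * g, 0)} ⊔
      ((Ideal.span {x ^ n} : Ideal (W4c1hurwitzcpt.RootDisk 2 k)).restrictScalars (PowerSeries k)).prod ⊥) :
    ∃ a ∈ M, ∃ b ∈ M, a * b ∉ M := by
  classical
  subst hM
  obtain ⟨v, hv⟩ : ∃ v : W4c1hurwitzcpt.RootDisk 2 k ≃+* PowerSeries k,
      v = W4c1hurwitzcpt.RootDisk.val := ⟨_, rfl⟩
  have hvι : ∀ a : PowerSeries k,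
      v (algebraMap (PowerSeries k) (W4c1hurwitzcpt.RootDisk 2 k) a) =
        PowerSeries.expand 2 (NeZero.ne 2) a := fun a => by rw [hv]; rfl
  have hvx : v x = PowerSeries.X := by rw [hv]; exact hx
  have hvg : PowerSeries.order (v g) = 0 := by rw [hv]; exact hg
  have hu : ((x ^ m * g, 0) : W4c1hurwitzcpt.RootDisk 2 k × PowerSeries k) ∈
      Submodule.span (PowerSeries k)
        {(1 : W4c1hurwitzcpt.RootDisk 2 k × PowerSeries k), (x ^ m * g, 0)} ⊔
      ((Ideal.span {x ^ n} : Ideal (W4c1hurwitzcpt.RootDisk 2 k)).restrictScalars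
        (PowerSeries k)).prod ⊥ :=
    Submodule.mem_sup_left (Submodule.subset_span (by simp))
  refine ⟨_, hu, _, hu, ?_⟩
  intro hmem
  rw [Submodule.mem_sup] at hmem
  obtain ⟨y, hy, z, hz, hyz⟩ := hmem
  rw [Submodule.mem_span_pair] at hy
  obtain ⟨a0, b0, rfl⟩ := hy
  rw [Submodule.mem_prod] at hz
  obtain ⟨hz1, hz2⟩ := hz
  rw [Submodule.restrictScalars_mem, Ideal.mem_span_singleton'] at hz1
  obtain ⟨s, hs⟩ := hz1
  rw [Submodule.mem_bot] at hz2
  have h2nd := congrArg Prod.snd hyz
  have h1st := congrArg Prod.fst hyz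
  simp only [Prod.snd_add, Prod.smul_snd, Prod.snd_one, Prod.snd_mul, hz2, add_zero,
    mul_zero, smul_eq_mul, mul_one] at h2nd
  subst h2nd
  simp only [Prod.fst_add, Prod.smul_fst, Prod.fst_mul, zero_smul, zero_add,
    ← hs] at h1st
  rw [Algebra.smul_def] at h1st
  have hs2 := congrArg v h1st
  simp only [map_mul, map_add, map_pow, hvι, hvx] at hs2
  have h1 : PowerSeries.X ^ (2 * m) * (v g) ^ 2 - PowerSeries.X ^ n * v s =
      PowerSeries.expand 2 (NeZero.ne 2) b0 * (PowerSeries.X ^ m * v g) := by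
    have hpow : (PowerSeries.X : PowerSeries k) ^ (2 * m) = PowerSeries.X ^ m * PowerSeries.X ^ m := by
      rw [← pow_add]; congr 1; omega
    rw [hpow]
    linear_combination -hs2
  have h2 := Groth.Agent.Lib.Helper98.CrimpOrder.order_sub_eq (2 * m) n hmn
    ((v g) ^ 2) (v s) (by rw [PowerSeries.order_pow, hvg, smul_zero])
  rw [h1] at h2
  by_cases hb : b0 = 0
  · subst hb
    rw [map_zero, zero_mul, PowerSeries.order_zero] at h2
    exact ENat.top_ne_natCast _ h2
  · obtain ⟨ob, hob⟩ := Groth.Agent.Lib.Helper98.CrimpOrder.exists_order_eq hb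
    rw [PowerSeries.order_mul, PowerSeries.order_mul, PowerSeries.order_expand,
      PowerSeries.order_X_pow, hvg, add_zero, hob] at h2
    have h' : ((2 * ob + m : ℕ) : ℕ∞) = ((2 * m : ℕ) : ℕ∞) := by
      rw [← h2]; push_cast; simp [nsmul_eq_mul]
    have h'' : 2 * ob + m = 2 * m := by exact_mod_cast h'
    obtain ⟨j, hj⟩ := hm
    omega

end Groth.Agent.S19486
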