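import Groth.Statements.S19488
import Groth.Agent.Lib.Ample.Helper50_Counit
-- import your own Groth.Agent.* helpers here

set_option autoImplicit false
universe u
open CategoryTheory CategoryTheory.Limits AlgebraicGeometry
open W4c1frobunstiva

namespace Groth.Agent.S19488

/-- Fix a closed immersion of schemes f : S → T, an O_T-module G, an O_S-module E and an epimorphism ψ :
G → f_*E. Then the morphism ψ′ : f^*G → E that corresponds to ψ under the adjunction between
pullback and pushforward (it is the pullback f^*ψ followed by the counit f^*f_*E → E, an isomorphism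
for a closed immersion) is an epimorphism, and the canonical map f^*(ker ψ) → ker(f^*ψ) is an
epimorphism. (The published statement takes G and E locally free, which these two assertions do not
use.) -/
theorem result
    {S T : Scheme.{u}} (f : S ⟶ T) [IsClosedImmersion f] (G : T.Modules) (E : S.Modules)
    (ψ : G ⟶ (Scheme.Modules.pushforward f).obj E) [Epi ψ] :
    Epi (((Scheme.Modules.pullbackPushforwardAdjunction f).homEquiv G E).symm ψ) ∧
      Epi (kernelComparison ψ (Scheme.Modules.pullback f)) := by
  constructor
  · have hc : Epi ((Scheme.Modules.pullbackPushforwardAdjunction f).counit.app E) := by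
      refine Groth.Agent.Lib.Ample.Counit.epi_counit_of_isBasis f E
        (fun V : T.Opens => f ⁻¹ᵁ V) ?_ (fun V => V) (fun V => le_rfl) ?_
      · rw [TopologicalSpace.Opens.isBasis_iff_nbhd]
        intro U x hxU
        obtain ⟨t, ht, hts⟩ := (f.isClosedEmbedding.isEmbedding.isInducing.isOpen_iff).1 U.isOpen
        refine ⟨U, ⟨⟨t, ht⟩, ?_⟩, hxU, le_rfl⟩
        exact TopologicalSpace.Opens.ext hts
      · intro V
        rw [eq_top_iff]
        intro y _
        refine Submodule.subset_span ⟨y, ?_⟩
        have h2 : (homOfLE (le_refl (f ⁻¹ᵁ V))) = 𝟙 (f ⁻¹ᵁ V) := rfl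
        show E.presheaf.map (homOfLE (le_refl (f ⁻¹ᵁ V))).op y = y
        rw [h2, op_id, E.presheaf.map_id]
        rfl
    rw [Adjunction.homEquiv_counit]
    haveI : (Scheme.Modules.pullback f).PreservesEpimorphisms :=
      Functor.preservesEpimorphisms_of_adjunction
        (Scheme.Modules.pullbackPushforwardAdjunction f)
    haveI : Epi ((Scheme.Modules.pullback f).map ψ) := Functor.map_epi _ ψ
    exact epi_comp _ _
  · have hS : (ShortComplex.mk (kernel.ι ψ) ψ (kernel.condition ψ)).Exact :=
      ShortComplex.exact_of_f_is_kernel _ (kernelIsKernel ψ)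
    haveI : (Scheme.Modules.pullback f).IsLeftAdjoint :=
      (Scheme.Modules.pullbackPushforwardAdjunction f).isLeftAdjoint
    haveI : (Scheme.Modules.pullback f).Additive :=
      (Scheme.Modules.pullbackPushforwardAdjunction f).left_adjoint_additive
    have h2 := hS.map_of_epi_of_preservesCokernel (Scheme.Modules.pullback f)
      (inferInstance : Epi ψ) inferInstance
    exact (ShortComplex.exact_iff_epi_kernel_lift _).1 h2

end Groth.Agent.S19488
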