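import Groth.Statements.S19489
import Mathlib

set_option autoImplicit false
open scoped TensorProduct
open ZeroCyc

namespace Groth.Agent.S19489

section law

variable (p : ℕ) [hp : Fact p.Prime] (k : Type) [Field k] [CharP k p]

lemma natCast_eq_zero (S : Type) [CommSemiring S] [Algebra k S] : (p : S) = 0 := by
  rw [← map_natCast (algebraMap k S) p, CharP.cast_eq_zero k p, map_zero]

lemma add_pow_p (S : Type) [CommSemiring S] [Algebra k S] (x y : S) :
    (x + y) ^ p = x ^ p + y ^ p := by
  rw [add_pow_prime_eq hp.out, natCast_eq_zero p k S]; simp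

/-- the underlying element of `k` -/
def un (a : FrobAlg.Twist p k) : k := (FrobAlg.toTwist p k).symm a

lemma un_def (a : FrobAlg.Twist p k) : un p k a = (FrobAlg.toTwist p k).symm a := rfl

lemma un_add (a b : FrobAlg.Twist p k) : un p k (a + b) = un p k a + un p k b := map_add _ _ _
lemma un_mul (a b : FrobAlg.Twist p k) : un p k (a * b) = un p k a * un p k b := map_mul _ _ _
lemma un_zero : un p k 0 = 0 := map_zero _
lemma un_one : un p k 1 = 1 := map_one _

lemma un_smul (r : k) (a : FrobAlg.Twist p k) : un p k (r • a) = r ^ p * un p k a := by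
  rw [Algebra.smul_def, FrobAlg.algebraMap_twist, un_mul, un_def, RingEquiv.symm_apply_apply]

/-- the biadditive map `(s, a) ↦ s ^ p ⊗ a` -/
noncomputable def bi (S : Type) [CommSemiring S] [Algebra k S] :
    S →+ FrobAlg.Twist p k →+ S ⊗[k] k where
  toFun s :=
    { toFun := fun a => (s ^ p) ⊗ₜ[k] un p k a
      map_zero' := by rw [un_zero, TensorProduct.tmul_zero]
      map_add' := by intro a b; rw [un_add, TensorProduct.tmul_add] }
  map_zero' := by
    ext a
    change ((0 : S) ^ p) ⊗ₜ[k] un p k a = 0
    rw [zero_pow hp.out.ne_zero, TensorProduct.zero_tmul]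
  map_add' := by
    intro s s'
    ext a
    change ((s + s') ^ p) ⊗ₜ[k] un p k a = (s ^ p) ⊗ₜ[k] un p k a + (s' ^ p) ⊗ₜ[k] un p k a
    rw [add_pow_p p k S, TensorProduct.add_tmul]

/-- the additive map `S ⊗ K → S ⊗ k` -/
noncomputable def FS (S : Type) [CommSemiring S] [Algebra k S] :
    S ⊗[k] FrobAlg.Twist p k →+ S ⊗[k] k :=
  TensorProduct.liftAddHom (bi p k S) (by
    intro r s a
    change ((r • s) ^ p) ⊗ₜ[k] un p k a = (s ^ p) ⊗ₜ[k] un p k (r • a)
    rw [un_smul, smul_pow, TensorProduct.smul_tmul, smul_eq_mul])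

lemma FS_tmul (S : Type) [CommSemiring S] [Algebra k S] (s : S) (a : FrobAlg.Twist p k) :
    FS p k S (s ⊗ₜ[k] a) = (s ^ p) ⊗ₜ[k] un p k a := rfl

/-- the polynomial law -/
noncomputable def lawF : FrobAlg.Twist p k →ₚₗ[k] k where
  toFun' S _ _ := fun x => FS p k S x
  isCompat' {S} _ _ {S'} _ _ φ := by
    funext x
    simp only [Function.comp_apply]
    induction x using TensorProduct.induction_on with
    | zero => simp
    | tmul s a =>
      rw [FS_tmul, LinearMap.rTensor_tmul, LinearMap.rTensor_tmul, FS_tmul]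
      simp
    | add x y hx hy => simp only [map_add, hx, hy]

lemma lawF_apply (S : Type) [CommSemiring S] [Algebra k S] (x : S ⊗[k] FrobAlg.Twist p k) :
    (lawF p k).toFun' S x = FS p k S x := rfl

/-- the multiplicative law -/
noncomputable def mulLawF : PolLaw.MulLaw k (FrobAlg.Twist p k) k p where
  law := lawF p k
  homog S _ _ s x := by
    rw [lawF_apply, lawF_apply]
    induction x using TensorProduct.induction_on with
    | zero => simp
    | tmul s' a =>
      rw [TensorProduct.smul_tmul', FS_tmul, FS_tmul, TensorProduct.smul_tmul', smul_eq_mul,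
        smul_eq_mul, mul_pow]
    | add x y hx hy => rw [smul_add, map_add, hx, hy, map_add, smul_add]
  mult S _ _ := by
    refine ⟨?_, ?_⟩
    · rw [lawF_apply, Algebra.TensorProduct.one_def, FS_tmul, one_pow, un_one]
      rfl
    · intro x y
      rw [lawF_apply, lawF_apply, lawF_apply]
      induction x using TensorProduct.induction_on with
      | zero => simp
      | tmul s a =>
        induction y using TensorProduct.induction_on with
        | zero => simp
        | tmul s' a' =>
          rw [Algebra.TensorProduct.tmul_mul_tmul, FS_tmul, FS_tmul, FS_tmul,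
            Algebra.TensorProduct.tmul_mul_tmul, mul_pow, un_mul]
        | add y z hy hz => rw [mul_add, map_add, hy, hz, map_add, mul_add]
      | add x z hx hz => rw [add_mul, map_add, hx, hz, map_add, add_mul]

lemma ker_eq_bot (F : PolLaw.MulLaw k (FrobAlg.Twist p k) k p)
    (hF : ∀ (S : Type) [CommSemiring S] [Algebra k S] (s : S) (a : FrobAlg.Twist p k),
      F.law.toFun' S (s ⊗ₜ[k] a) = (s ^ p) ⊗ₜ[k] (FrobAlg.toTwist p k).symm a) :
    PolLaw.ker F.law = ⊥ := by
  rw [Submodule.eq_bot_iff]
  intro b hb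
  by_contra hb0
  have hub : un p k b ≠ 0 := by
    intro h
    apply hb0
    have : (FrobAlg.toTwist p k).symm b = (FrobAlg.toTwist p k).symm 0 := by
      rw [map_zero]; exact h
    exact (FrobAlg.toTwist p k).symm.injective this
  have h1 : (1 : FrobAlg.Twist p k) ∈ PolLaw.ker F.law := by
    have h2 : FrobAlg.toTwist p k ((un p k b)⁻¹) * b = 1 := by
      apply (FrobAlg.toTwist p k).symm.injective
      rw [map_mul, RingEquiv.symm_apply_apply, map_one]
      exact inv_mul_cancel₀ hub
    rw [← h2]
    exact Ideal.mul_mem_left _ _ hb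
  have h3 : ∀ (S : Type) [CommSemiring S] [Algebra k S] (x w : S ⊗[k] FrobAlg.Twist p k),
      F.law.toFun' S (x + w * (1 ⊗ₜ[k] (1 : FrobAlg.Twist p k))) = F.law.toFun' S x := h1
  have h4 := h3 k ((0 : k) ⊗ₜ[k] (1 : FrobAlg.Twist p k)) 1
  rw [hF, TensorProduct.zero_tmul, zero_add, one_mul, hF, one_pow, map_one,
    zero_pow hp.out.ne_zero, TensorProduct.zero_tmul] at h4
  have h5 := congrArg (TensorProduct.lid k k) h4
  rw [TensorProduct.lid_tmul, map_zero, smul_eq_mul, mul_one] at h5
  exact one_ne_zero h5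

end law


section notfinite

open MvPolynomial

variable (p : ℕ) [hp : Fact p.Prime]

lemma coeff_key (s : Finset ℕ) (g : ℕ → MvPolynomial ℕ (ZMod p))
    (h : ∑ i ∈ s, g i ^ p * X i = 0) (j : ℕ) (hj : j ∈ s) : g j = 0 := by
  classical
  ext m
  rw [coeff_zero]
  have h1 := congrArg (coeff (p • m + Finsupp.single j 1)) h
  rw [coeff_sum, coeff_zero] at h1
  rw [Finset.sum_eq_single j] at h1
  · rw [coeff_mul_X', if_pos, add_tsub_cancel_right, ← expand_zmod,
      coeff_expand_smul p hp.out.ne_zero] at h1
    · exact h1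
    · rw [Finsupp.mem_support_iff]
      simp
  · intro i _ hij
    rw [coeff_mul_X']
    split_ifs with hi
    · rw [← expand_zmod]
      apply coeff_expand_of_not_dvd (i := j)
      have h2 : ((p • m + Finsupp.single j 1 - Finsupp.single i 1 : ℕ →₀ ℕ) j) = p * m j + 1 := by
        rw [Finsupp.tsub_apply, Finsupp.add_apply, Finsupp.smul_apply, Finsupp.single_apply,
          Finsupp.single_apply, if_pos rfl, if_neg hij, smul_eq_mul, Nat.sub_zero]
      rw [h2]
      intro hdvd
      have h3 : p ∣ 1 := (Nat.dvd_add_right (Dvd.intro _ rfl)).mp hdvd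
      exact hp.out.one_lt.ne' (Nat.dvd_one.mp h3)
    · rfl
  · intro hj'; exact absurd hj hj'

theorem not_finite :
    ¬ Module.Finite (FractionRing (MvPolynomial ℕ (ZMod p)))
      (FrobAlg.Twist p (FractionRing (MvPolynomial ℕ (ZMod p)))) := by
  classical
  intro hfin
  letI modR : Module (MvPolynomial ℕ (ZMod p))
      (FrobAlg.Twist p (FractionRing (MvPolynomial ℕ (ZMod p)))) :=
    Module.compHom _ (algebraMap (MvPolynomial ℕ (ZMod p)) (FractionRing (MvPolynomial ℕ (ZMod p))))
  haveI : IsScalarTower (MvPolynomial ℕ (ZMod p)) (FractionRing (MvPolynomial ℕ (ZMod p)))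
      (FrobAlg.Twist p (FractionRing (MvPolynomial ℕ (ZMod p)))) := by
    refine ⟨fun r x a => ?_⟩
    change (r • x) • a = algebraMap _ (FractionRing (MvPolynomial ℕ (ZMod p))) r • (x • a)
    rw [Algebra.smul_def r x, mul_smul]
  let v : ℕ → FrobAlg.Twist p (FractionRing (MvPolynomial ℕ (ZMod p))) := fun i =>
    FrobAlg.toTwist p _ (algebraMap (MvPolynomial ℕ (ZMod p)) (FractionRing (MvPolynomial ℕ (ZMod p)))
      (X i))
  have hsmul : ∀ (r : MvPolynomial ℕ (ZMod p)) (i : ℕ), r • v i =
      FrobAlg.toTwist p _ (algebraMap (MvPolynomial ℕ (ZMod p))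
        (FractionRing (MvPolynomial ℕ (ZMod p))) (r ^ p * X i)) := by
    intro r i
    change algebraMap _ (FractionRing (MvPolynomial ℕ (ZMod p))) r • v i = _
    rw [Algebra.smul_def, FrobAlg.algebraMap_twist, ← map_mul, ← map_pow, ← map_mul]
  have hli : LinearIndependent (MvPolynomial ℕ (ZMod p)) v := by
    rw [linearIndependent_iff']
    intro s g hg j hj
    simp only [hsmul] at hg
    rw [← map_sum, ← map_sum] at hg
    have h1 : ∑ i ∈ s, g i ^ p * X i = 0 := by
      apply IsFractionRing.injective (MvPolynomial ℕ (ZMod p)) (FractionRing (MvPolynomial ℕ (ZMod p)))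
      apply (FrobAlg.toTwist p _).injective
      rw [hg, map_zero, map_zero]
    exact coeff_key p s g h1 j hj
  have hli' : LinearIndependent (FractionRing (MvPolynomial ℕ (ZMod p))) v :=
    (LinearIndependent.iff_fractionRing (MvPolynomial ℕ (ZMod p))
      (FractionRing (MvPolynomial ℕ (ZMod p)))).mp hli
  exact Module.Finite.not_linearIndependent_of_infinite v hli'

end notfinite

/-- Let p be a prime, k = F_p(t_0, t_1, …) the field of rational functions over F_p in countably many
variables, and K = k^{1/p} = F_p(t_0^{1/p}, t_1^{1/p}, …), modelled here as a copy of k made into a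
k-algebra through the Frobenius b ↦ b ^ p (under a ↦ a ^ p the extension k ⊆ k^{1/p} becomes this
algebra). Then a ↦ a ^ p is a multiplicative polynomial law from K to k over k, homogeneous of
degree p: there is such a law sending s ⊗ a to s ^ p ⊗ a ^ p on every test algebra S, where a ^ p is
read in k. Every such law has zero kernel, so the support of the corresponding family of zero-cycles
of degree p on Spec K over Spec k is all of Spec K; and K is not finite over k. Thus the support of
a family of zero-cycles need not be finite over the base. -/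
theorem result (p : ℕ) [Fact p.Prime] :
    (∃ F : PolLaw.MulLaw (FractionRing (MvPolynomial ℕ (ZMod p))) (FrobAlg.Twist p (FractionRing (MvPolynomial ℕ (ZMod p)))) (FractionRing (MvPolynomial ℕ (ZMod p))) p,
      ∀ (S : Type) [CommSemiring S] [Algebra (FractionRing (MvPolynomial ℕ (ZMod p))) S] (s : S) (a : FrobAlg.Twist p (FractionRing (MvPolynomial ℕ (ZMod p)))),
        F.law.toFun' S (s ⊗ₜ[FractionRing (MvPolynomial ℕ (ZMod p))] a) =
          (s ^ p) ⊗ₜ[FractionRing (MvPolynomial ℕ (ZMod p))] (FrobAlg.toTwist p (FractionRing (MvPolynomial ℕ (ZMod p)))).symm a) ∧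
    (∀ F : PolLaw.MulLaw (FractionRing (MvPolynomial ℕ (ZMod p))) (FrobAlg.Twist p (FractionRing (MvPolynomial ℕ (ZMod p)))) (FractionRing (MvPolynomial ℕ (ZMod p))) p,
      (∀ (S : Type) [CommSemiring S] [Algebra (FractionRing (MvPolynomial ℕ (ZMod p))) S] (s : S) (a : FrobAlg.Twist p (FractionRing (MvPolynomial ℕ (ZMod p)))),
        F.law.toFun' S (s ⊗ₜ[FractionRing (MvPolynomial ℕ (ZMod p))] a) =
          (s ^ p) ⊗ₜ[FractionRing (MvPolynomial ℕ (ZMod p))] (FrobAlg.toTwist p (FractionRing (MvPolynomial ℕ (ZMod p)))).symm a) →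
      PolLaw.ker F.law = ⊥) ∧
    ¬ Module.Finite (FractionRing (MvPolynomial ℕ (ZMod p))) (FrobAlg.Twist p (FractionRing (MvPolynomial ℕ (ZMod p)))) := by
  refine ⟨⟨mulLawF p _, ?_⟩, ?_, not_finite p⟩
  · intro S _ _ s a
    rfl
  · intro F hF
    exact ker_eq_bot p _ F hF

end Groth.Agent.S19489
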