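import Groth.Statements.S19502
import Mathlib

set_option autoImplicit false
universe u
open W4c3ghconstell

namespace Groth.Agent.S19502

theorem summable_ite {ι : Type*} [DecidableEq ι] {f : ι → ℝ} (hf : Summable f) (D : Finset ι) :
    Summable (fun i => if i ∈ D then (0 : ℝ) else f i) := by
  refine Summable.of_norm_bounded hf.norm (fun i => ?_)
  split_ifs <;> simp

theorem tsum_split {ι : Type*} [DecidableEq ι] {f : ι → ℝ} (hf : Summable f) (D : Finset ι) :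
    ∑' i, f i = ∑ i ∈ D, f i + ∑' i, (if i ∈ D then (0 : ℝ) else f i) := by
  have h1 : ∀ i, f i = (if i ∈ D then f i else 0) + (if i ∈ D then (0 : ℝ) else f i) := by
    intro i
    split_ifs <;> simp
  have hs1 : Summable (fun i => if i ∈ D then f i else (0 : ℝ)) := by
    refine Summable.of_norm_bounded hf.norm (fun i => ?_)
    split_ifs <;> simp
  have h2 : ∑' i, (if i ∈ D then f i else (0 : ℝ)) = ∑ i ∈ D, f i := by
    rw [tsum_eq_sum (s := D) (fun i hi => by rw [if_neg hi])]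
    exact Finset.sum_congr rfl (fun i hi => by rw [if_pos hi])
  calc ∑' i, f i = ∑' i, ((if i ∈ D then f i else 0) + (if i ∈ D then (0 : ℝ) else f i)) :=
        tsum_congr h1
    _ = _ := by rw [Summable.tsum_add hs1 (summable_ite hf D), h2]

theorem tsum_split2 {ι : Type*} [DecidableEq ι] {f : ι → ℝ} (hf : Summable f) (D D' : Finset ι)
    (hDD' : D ⊆ D') :
    ∑' i, (if i ∈ D then (0 : ℝ) else f i) =
      ∑ i ∈ D' \ D, f i + ∑' i, (if i ∈ D' then (0 : ℝ) else f i) := by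
  rw [tsum_split (summable_ite hf D) (D' \ D)]
  congr 1
  · apply Finset.sum_congr rfl
    intro i hi
    rw [if_neg (Finset.mem_sdiff.mp hi).2]
  · apply tsum_congr
    intro i
    by_cases h1 : i ∈ D
    · have h2 : i ∈ D' := hDD' h1
      have h3 : i ∉ D' \ D := fun h => (Finset.mem_sdiff.mp h).2 h1
      rw [if_neg h3, if_pos h1, if_pos h2]
    · by_cases h2 : i ∈ D'
      · rw [if_pos (Finset.mem_sdiff.mpr ⟨h2, h1⟩), if_pos h2]
      · have h3 : i ∉ D' \ D := fun h => h2 (Finset.mem_sdiff.mp h).1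
        rw [if_neg h3, if_neg h1, if_neg h2]

theorem ident1 {ι : Type*} [DecidableEq ι] (a b r : ι → ℝ) (hab : ∀ i, a i * r i = b i)
    (Dm D D' : Finset ι) (hDm : Dm ⊆ D) (hDD' : D ⊆ D') (S' S : ℝ)
    (hS : S = ∑ τ ∈ D' \ D, a τ + S') :
    ((∑ i ∈ D', b i) + S' / ((D' \ Dm).card : ℝ) * ∑ σ ∈ D' \ Dm, r σ) -
      ((∑ i ∈ D, b i) + S / ((D \ Dm).card : ℝ) * ∑ σ ∈ D \ Dm, r σ) =
    ∑ τ ∈ D' \ D, (a τ + S' / ((D' \ Dm).card : ℝ)) *
      (r τ - 1 / ((D \ Dm).card : ℝ) * ∑ σ ∈ D \ Dm, r σ) := by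
  have hU : D' \ Dm = (D \ Dm) ∪ (D' \ D) := by
    ext i
    simp only [Finset.mem_sdiff, Finset.mem_union]
    constructor
    · rintro ⟨h1, h2⟩
      by_cases h3 : i ∈ D
      · exact Or.inl ⟨h3, h2⟩
      · exact Or.inr ⟨h1, h3⟩
    · rintro (⟨h1, h2⟩ | ⟨h1, h2⟩)
      · exact ⟨hDD' h1, h2⟩
      · exact ⟨h1, fun h3 => h2 (hDm h3)⟩
  have hdisj : Disjoint (D \ Dm) (D' \ D) := by
    rw [Finset.disjoint_left]
    intro i hi hi'
    exact (Finset.mem_sdiff.mp hi').2 (Finset.mem_sdiff.mp hi).1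
  have hcard : ((D' \ Dm).card : ℝ) = ((D \ Dm).card : ℝ) + ((D' \ D).card : ℝ) := by
    rw [hU, Finset.card_union_of_disjoint hdisj]
    push_cast
    rfl
  have hQ : ∑ σ ∈ D' \ Dm, r σ = ∑ σ ∈ D \ Dm, r σ + ∑ σ ∈ D' \ D, r σ := by
    rw [hU, Finset.sum_union hdisj]
  have hB : ∑ i ∈ D', b i = ∑ i ∈ D, b i + ∑ i ∈ D' \ D, b i := by
    conv_lhs => rw [← Finset.union_sdiff_of_subset hDD']
    rw [Finset.sum_union Finset.disjoint_sdiff]
  have hR : ∀ c e : ℝ, ∑ τ ∈ D' \ D, (a τ + c) * (r τ - e) =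
      ∑ τ ∈ D' \ D, b τ - e * ∑ τ ∈ D' \ D, a τ + c * ∑ τ ∈ D' \ D, r τ -
        ((D' \ D).card : ℝ) * (c * e) := by
    intro c e
    have h1 : ∀ τ, (a τ + c) * (r τ - e) = b τ - e * a τ + c * r τ - c * e := by
      intro τ
      rw [← hab τ]
      ring
    simp_rw [h1]
    rw [Finset.sum_sub_distrib, Finset.sum_add_distrib, Finset.sum_sub_distrib,
      ← Finset.mul_sum, ← Finset.mul_sum, Finset.sum_const, nsmul_eq_mul]
  rw [hR, hQ, hB, hcard, hS]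
  generalize ∑ i ∈ D, b i = B0
  generalize ∑ i ∈ D' \ D, b i = Sb
  generalize ∑ τ ∈ D' \ D, a τ = Sa
  generalize ∑ τ ∈ D' \ D, r τ = R
  have hn : (0 : ℝ) ≤ ((D' \ D).card : ℝ) := Nat.cast_nonneg _
  generalize ((D' \ D).card : ℝ) = n at hn ⊢
  by_cases hd : (D \ Dm).card = 0
  · have hempty : D \ Dm = ∅ := Finset.card_eq_zero.mp hd
    rw [hempty]
    simp
    ring
  · have hd' : ((D \ Dm).card : ℝ) ≠ 0 := by exact_mod_cast hd
    have hdpos : (0 : ℝ) < ((D \ Dm).card : ℝ) := Nat.cast_pos.mpr (Nat.pos_of_ne_zero hd)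
    generalize ∑ σ ∈ D \ Dm, r σ = Qd
    generalize ((D \ Dm).card : ℝ) = d at hdpos hd' ⊢
    have hdn : d + n ≠ 0 := by linarith
    field_simp
    ring

theorem ident2 {ι : Type*} [DecidableEq ι] (a b r : ι → ℝ) (hab : ∀ i, a i * r i = b i)
    (hsa : Summable a) (hsb : Summable b) (D : Finset ι) (d Qd : ℝ) :
    (∑' i, b i) - ((∑ i ∈ D, b i) +
        (∑' i, if i ∈ D then (0 : ℝ) else a i) / d * Qd) =
      ∑' τ, if τ ∈ D then (0 : ℝ) else a τ * (r τ - 1 / d * Qd) := by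
  have h1 : ∀ τ, (if τ ∈ D then (0 : ℝ) else a τ * (r τ - 1 / d * Qd)) =
      (if τ ∈ D then (0 : ℝ) else b τ) - (1 / d * Qd) * (if τ ∈ D then (0 : ℝ) else a τ) := by
    intro τ
    split_ifs
    · simp
    · rw [← hab τ]
      ring
  rw [tsum_congr h1, Summable.tsum_sub (summable_ite hsb D)
    ((summable_ite hsa D).mul_left _), tsum_mul_left, tsum_split hsb D]
  ring

/-- Let ι index the irreducible representations, θ : ι → ℚ a weight which is negative exactly on the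
finite set D₋, h h' : ι → ℕ with h' ≤ h pointwise (the isotypic dimensions of an object and of a
sub-object) and Σ_i θ_i h_i summable. For a finite set D of indices put S_D = Σ_{i ∉ D} θ_i h_i, d =
#(D ∖ D₋) and θ̃_D = Σ_{i ∈ D} θ_i h'_i + (S_D / d) · Σ_{i ∈ D ∖ D₋} h'_i / h_i, the modified weight
attached to the parameters chosen for D (a quotient by zero is read as zero). Then for finite sets
D₋ ⊆ D ⊆ D̃ contained in the locus θ ≠ 0: (first error term) θ̃_{D̃} − θ̃_D = Σ_{τ ∈ D̃ ∖ D} (θ_τ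
h_τ + S_{D̃}/d̃) · (h'_τ/h_τ − (1/d) Σ_{σ ∈ D ∖ D₋} h'_σ/h_σ); (second error term) Σ_i θ_i h'_i −
θ̃_D = Σ_{τ ∉ D} θ_τ h_τ · (h'_τ/h_τ − (1/d) Σ_{σ ∈ D ∖ D₋} h'_σ/h_σ). -/
theorem result {ι : Type u} [DecidableEq ι]
    (θ : ι → ℚ) (h h' : ι → ℕ) (hle : ∀ i, h' i ≤ h i) (hfin : {i | θ i < 0}.Finite)
    (hsum : Summable (fun i => (θ i : ℝ) * (h i : ℝ))) (D D' : Finset ι)
    (hDm : hfin.toFinset ⊆ D) (hDD' : D ⊆ D') (hsupp : ∀ i ∈ D', θ i ≠ 0) :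
    (((∑ i ∈ D', (θ i : ℝ) * (h' i : ℝ)) + ((∑' i, if i ∈ D' then (0 : ℝ) else (θ i : ℝ) * (h i : ℝ)) / ((D' \ hfin.toFinset).card : ℝ)) * (∑ σ ∈ D' \ hfin.toFinset, ((h' σ : ℝ) / (h σ : ℝ)))) - ((∑ i ∈ D, (θ i : ℝ) * (h' i : ℝ)) + ((∑' i, if i ∈ D then (0 : ℝ) else (θ i : ℝ) * (h i : ℝ)) / ((D \ hfin.toFinset).card : ℝ)) * (∑ σ ∈ D \ hfin.toFinset, ((h' σ : ℝ) / (h σ : ℝ)))) =
      ∑ τ ∈ D' \ D, ((θ τ : ℝ) * (h τ : ℝ) + (∑' i, if i ∈ D' then (0 : ℝ) else (θ i : ℝ) * (h i : ℝ)) / ((D' \ hfin.toFinset).card : ℝ)) *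
        (((h' τ : ℝ) / (h τ : ℝ)) - (1 / ((D \ hfin.toFinset).card : ℝ)) * (∑ σ ∈ D \ hfin.toFinset, ((h' σ : ℝ) / (h σ : ℝ))))) ∧
    ((∑' i, (θ i : ℝ) * (h' i : ℝ)) - ((∑ i ∈ D, (θ i : ℝ) * (h' i : ℝ)) + ((∑' i, if i ∈ D then (0 : ℝ) else (θ i : ℝ) * (h i : ℝ)) / ((D \ hfin.toFinset).card : ℝ)) * (∑ σ ∈ D \ hfin.toFinset, ((h' σ : ℝ) / (h σ : ℝ)))) =
      ∑' τ, if τ ∈ D then (0 : ℝ) else (θ τ : ℝ) * (h τ : ℝ) *
        (((h' τ : ℝ) / (h τ : ℝ)) - (1 / ((D \ hfin.toFinset).card : ℝ)) * (∑ σ ∈ D \ hfin.toFinset, ((h' σ : ℝ) / (h σ : ℝ))))) := by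
  classical
  have hab : ∀ i, ((θ i : ℝ) * (h i : ℝ)) * ((h' i : ℝ) / (h i : ℝ)) = (θ i : ℝ) * (h' i : ℝ) := by
    intro i
    by_cases h0 : h i = 0
    · have h1 : h' i = 0 := Nat.le_zero.mp (h0 ▸ hle i)
      simp [h0, h1]
    · have h1 : (h i : ℝ) ≠ 0 := by exact_mod_cast h0
      field_simp
  have hsb : Summable (fun i => (θ i : ℝ) * (h' i : ℝ)) := by
    refine Summable.of_norm_bounded hsum.norm (fun i => ?_)
    simp only [norm_mul]
    apply mul_le_mul_of_nonneg_left _ (norm_nonneg _)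
    simp only [Real.norm_natCast]
    exact_mod_cast hle i
  constructor
  · exact ident1 (fun i => (θ i : ℝ) * (h i : ℝ)) (fun i => (θ i : ℝ) * (h' i : ℝ))
      (fun i => (h' i : ℝ) / (h i : ℝ)) hab hfin.toFinset D D' hDm hDD' _ _
      (tsum_split2 hsum D D' hDD')
  · exact ident2 (fun i => (θ i : ℝ) * (h i : ℝ)) (fun i => (θ i : ℝ) * (h' i : ℝ))
      (fun i => (h' i : ℝ) / (h i : ℝ)) hab hsum hsb D _ _

end Groth.Agent.S19502
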