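import Groth.Statements.S9315
-- import your own Groth.Agent.* helpers here
import Groth.Agent.Lib.Helper31.SmallExt

set_option autoImplicit false
universe u
open CAlg

namespace Groth.Agent.S9315

open IsLocalRing Groth.Agent.Lib.Helper31.SmallExt

/-- a local homomorphism into a local ring with nilpotent maximal ideal kills a power of the
maximal ideal -/
theorem exists_pow_map_eq_zero {S T : Type*} [CommRing S] [CommRing T] [IsLocalRing S]
    [IsLocalRing T] (hT : ∃ n : ℕ, maximalIdeal T ^ n = ⊥) (f : S →+* T) [IsLocalHom f] :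
    ∃ k : ℕ, ∀ x ∈ maximalIdeal S ^ k, f x = 0 := by
  obtain ⟨k, hk⟩ := hT
  refine ⟨k, fun x hx => ?_⟩
  have h1 : f x ∈ (maximalIdeal S ^ k).map f := Ideal.mem_map_of_mem _ hx
  rw [Ideal.map_pow] at h1
  have h2 := Ideal.pow_right_mono (IsLocalRing.map_maximalIdeal_le f) k h1
  rw [hk] at h2
  exact h2

section

variable {R S : Type u} [CommRing R] [CommRing S] [IsLocalRing R] [IsLocalRing S] [Algebra R S]
  [IsLocalHom (algebraMap R S)]

/-- the lifting property of the statement -/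
def NilLift (R S : Type u) [CommRing R] [CommRing S] [IsLocalRing R] [IsLocalRing S]
    [Algebra R S] : Prop :=
  ∀ (A : Type u) [CommRing A] [IsLocalRing A] [Algebra R A] [IsLocalHom (algebraMap R A)]
    (J : Ideal A), J ^ 2 = ⊥ → (∃ n : ℕ, maximalIdeal A ^ n = ⊥) →
    ∀ [IsLocalRing (A ⧸ J)] (ψ : S →ₐ[R] A ⧸ J) [IsLocalHom ψ.toRingHom],
      Function.Bijective (ResidueField.map ψ.toRingHom) →
      ∃ χ : S →ₐ[R] A, (Ideal.Quotient.mkₐ R J).comp χ = ψ

omit [IsLocalHom (algebraMap R S)] in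
theorem apply_nil (h : NilLift R S) (E : Type u) [CommRing E] [IsLocalRing E]
    [Algebra R E] [IsLocalHom (algebraMap R E)] (J' : Ideal E)
    (sq : J' ^ 2 = ⊥) (hnil : ∃ n : ℕ, maximalIdeal E ^ n = ⊥) (ρ : MvPolynomial S R →ₐ[R] E)
    (hρ : Function.Surjective ρ) (hρJ : ∀ p, π R S p = 0 → ρ p ∈ J') :
    ∃ χ : S →ₐ[R] E, ∀ p, ρ p - χ (π R S p) ∈ J' := by
  haveI : Nontrivial (E ⧸ J') := by
    rw [Ideal.Quotient.nontrivial_iff]
    intro htop
    rw [htop, Ideal.top_pow] at sq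
    exact top_ne_bot sq
  haveI : IsLocalRing (E ⧸ J') :=
    IsLocalRing.of_surjective' (Ideal.Quotient.mk _) Ideal.Quotient.mk_surjective
  let g : MvPolynomial S R →ₐ[R] E ⧸ J' := (Ideal.Quotient.mkₐ R J').comp ρ
  have H : RingHom.ker (π R S).toRingHom ≤ RingHom.ker g.toRingHom := by
    intro p hp
    change Ideal.Quotient.mk _ (ρ p) = 0
    exact Ideal.Quotient.eq_zero_iff_mem.mpr (hρJ p hp)
  let ψ' : S →ₐ[R] E ⧸ J' := AlgHom.liftOfSurjective (π R S) (π_surjective R S) g H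
  have hψ'surj : Function.Surjective ψ' := by
    apply AlgHom.liftOfSurjective_surjective
    exact Ideal.Quotient.mk_surjective.comp hρ
  haveI : IsLocalHom ψ'.toRingHom := IsLocalHom.of_surjective _ hψ'surj
  have hbij : Function.Bijective (ResidueField.map ψ'.toRingHom) := by
    refine ⟨RingHom.injective _, fun y => ?_⟩
    obtain ⟨z, rfl⟩ := residue_surjective y
    obtain ⟨s, rfl⟩ := hψ'surj z
    exact ⟨residue S s, ResidueField.map_residue _ _⟩
  obtain ⟨χ, hχ⟩ := h E J' sq hnil ψ' hbij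
  refine ⟨χ, fun p => ?_⟩
  rw [← Ideal.Quotient.eq]
  have h1 := congr($hχ (π R S p))
  simp only [AlgHom.comp_apply, ψ', AlgHom.liftOfSurjective_apply] at h1
  exact h1.symm

theorem isAdicFormallySmooth_of_nilLift (h : NilLift R S) :
    CAlgX.IsAdicFormallySmooth R S (maximalIdeal S) := by
  intro A _ _ J hJ ψ hψ
  obtain ⟨k, hk⟩ := hψ
  have hk' : ∀ x ∈ maximalIdeal S ^ (k + 1), ψ x = 0 := fun x hx =>
    hk x (Ideal.pow_le_pow_right (Nat.le_succ k) hx)
  -- a lift of the presentation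
  let f : S → A := fun s => (Ideal.Quotient.mk_surjective (ψ s)).choose
  have hf : ∀ s, Ideal.Quotient.mk J (f s) = ψ s := fun s =>
    (Ideal.Quotient.mk_surjective (ψ s)).choose_spec
  let φ : MvPolynomial S R →ₐ[R] A := MvPolynomial.aeval f
  have hφ' : (Ideal.Quotient.mkₐ R J).comp φ = ψ.comp (π R S) := by
    apply MvPolynomial.algHom_ext
    intro s
    simp [φ, π, hf]
  have hφ : ∀ p, Ideal.Quotient.mk J (φ p) = ψ (π R S p) := fun p => congr($hφ' p)
  have hmemJ : ∀ p ∈ qk R S (k + 1), φ p ∈ J := by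
    intro p hp
    rw [← Ideal.Quotient.eq_zero_iff_mem, hφ]
    exact hk' _ hp
  -- the ideal `𝔎 = qk ⊓ ker φ`
  have h𝔎Q : qk R S (k + 1) ⊓ RingHom.ker φ ≤ qk R S (k + 1) := inf_le_left
  have hQ𝔮 := qk_le_qq R S (Nat.le_add_left 1 k)
  have hsqQ : qk R S (k + 1) * qk R S (k + 1) ≤ qk R S (k + 1) ⊓ RingHom.ker φ := by
    rw [Ideal.mul_le]
    intro p hp p' hp'
    refine ⟨Ideal.mul_mem_left _ _ hp', ?_⟩
    rw [SetLike.mem_coe, RingHom.mem_ker, map_mul]
    have : φ p * φ p' ∈ J ^ 2 := by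
      rw [pow_two]; exact Ideal.mul_mem_mul (hmemJ p hp) (hmemJ p' hp')
    rwa [hJ, Ideal.mem_bot] at this
  have hn : qq R S ^ ((k + 1) * 2) ≤ qk R S (k + 1) ⊓ RingHom.ker φ := by
    rw [pow_mul, pow_two]
    exact (Ideal.mul_mono (qq_pow_le R S (k + 1)) (qq_pow_le R S (k + 1))).trans hsqQ
  haveI := isLocalRing_quot (qq R S) (qk R S (k + 1) ⊓ RingHom.ker φ) (h𝔎Q.trans hQ𝔮) _ hn
  haveI := isLocalHom_algebraMap_quot (qk R S (k + 1) ⊓ RingHom.ker φ) (h𝔎Q.trans hQ𝔮)
  have sq : ((qk R S (k + 1)).map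
      (Ideal.Quotient.mk (qk R S (k + 1) ⊓ RingHom.ker φ))) ^ 2 = ⊥ := by
    rw [← Ideal.map_pow, Ideal.map_eq_bot_iff_le_ker, Ideal.mk_ker, pow_two]
    exact hsqQ
  have hmax : maximalIdeal (MvPolynomial S R ⧸ (qk R S (k + 1) ⊓ RingHom.ker φ)) ≤
      (qq R S).map (Ideal.Quotient.mk _) := by
    intro y hy
    obtain ⟨p, rfl⟩ := Ideal.Quotient.mk_surjective y
    apply Ideal.mem_map_of_mem
    by_contra hp
    obtain ⟨a, m, hm, ha⟩ := Ideal.IsMaximal.exists_inv (inferInstance : (qq R S).IsMaximal) hp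
    -- `a * p = 1 - m` with `m` nilpotent mod `𝔎`
    have hmnil : IsNilpotent (Ideal.Quotient.mk (qk R S (k + 1) ⊓ RingHom.ker φ) m) := by
      refine ⟨(k + 1) * 2, ?_⟩
      rw [← map_pow, Ideal.Quotient.eq_zero_iff_mem]
      exact hn (Ideal.pow_mem_pow hm _)
    have hu : IsUnit (Ideal.Quotient.mk (qk R S (k + 1) ⊓ RingHom.ker φ) (a * p)) := by
      have : a * p = 1 - m := by rw [← ha]; ring
      rw [this, map_sub, map_one]
      exact hmnil.isUnit_one_sub
    rw [map_mul] at hu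
    exact hy (isUnit_of_mul_isUnit_right hu)
  have hnil : ∃ n : ℕ, maximalIdeal (MvPolynomial S R ⧸ (qk R S (k + 1) ⊓ RingHom.ker φ)) ^ n
      = ⊥ := by
    refine ⟨(k + 1) * 2, ?_⟩
    rw [eq_bot_iff]
    refine (Ideal.pow_right_mono hmax _).trans ?_
    rw [← Ideal.map_pow, Ideal.map_le_iff_le_comap]
    intro p hp
    rw [Ideal.mem_comap, Ideal.Quotient.eq_zero_iff_mem.mpr (hn hp)]
    exact Ideal.zero_mem _
  obtain ⟨χ', hχ'⟩ := apply_nil h (MvPolynomial S R ⧸ (qk R S (k + 1) ⊓ RingHom.ker φ)) _ sq hnil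
    (Ideal.Quotient.mkₐ R _) Ideal.Quotient.mk_surjective (fun p hp => Ideal.mem_map_of_mem _ (by
      simp only [qk, Ideal.mem_comap, hp, Ideal.zero_mem]))
  -- descend `φ`
  let φbar : (MvPolynomial S R ⧸ (qk R S (k + 1) ⊓ RingHom.ker φ)) →ₐ[R] A :=
    Ideal.Quotient.liftₐ _ φ (fun a ha => ha.2)
  have hφbar : ∀ p, φbar (Ideal.Quotient.mk _ p) = φ p := fun p => rfl
  refine ⟨φbar.comp χ', AlgHom.ext fun s => ?_⟩
  obtain ⟨p, rfl⟩ := π_surjective R S s
  obtain ⟨q, hq, hpq⟩ := (Ideal.mem_map_iff_of_surjective _ Ideal.Quotient.mk_surjective).mp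
    (hχ' p)
  have h1 : χ' (π R S p) = Ideal.Quotient.mk _ (p - q) := by
    rw [map_sub, hpq]
    simp
  rw [AlgHom.comp_apply, AlgHom.comp_apply, h1, hφbar]
  change Ideal.Quotient.mk J _ = _
  rw [map_sub, map_sub, Ideal.Quotient.eq_zero_iff_mem.mpr (hmemJ q hq), sub_zero, hφ]

end


open IsLocalRing in
/-- Let `R → S` be a local homomorphism of local rings (no Noetherian hypothesis). Then `R → S` is
formally smooth for the adic topology of the maximal ideal of `S` if and only if the following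
lifting property holds: for every local ring `A` with a local structure map `R → A`, every ideal `J`
of `A` of square zero such that some power of the maximal ideal of `A` is zero, and every local
`R`-algebra homomorphism `ψ : S → A/J` inducing a bijection on residue fields, there is an
`R`-algebra homomorphism `S → A` lifting `ψ`. -/
theorem result {R S : Type u} [CommRing R] [CommRing S]
    [IsLocalRing R] [IsLocalRing S] [Algebra R S] [IsLocalHom (algebraMap R S)] :
    CAlgX.IsAdicFormallySmooth R S (maximalIdeal S) ↔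
      ∀ (A : Type u) [CommRing A] [IsLocalRing A] [Algebra R A] [IsLocalHom (algebraMap R A)]
        (J : Ideal A), J ^ 2 = ⊥ → (∃ n : ℕ, maximalIdeal A ^ n = ⊥) →
        ∀ [IsLocalRing (A ⧸ J)] (ψ : S →ₐ[R] A ⧸ J) [IsLocalHom ψ.toRingHom],
          Function.Bijective (ResidueField.map ψ.toRingHom) →
          ∃ χ : S →ₐ[R] A, (Ideal.Quotient.mkₐ R J).comp χ = ψ := by
  constructor
  · intro h A _ _ _ _ J hJ hn _ ψ _ _
    haveI : IsLocalHom (Ideal.Quotient.mk J) :=
      IsLocalHom.of_surjective _ Ideal.Quotient.mk_surjective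
    have hn' : ∃ n : ℕ, maximalIdeal (A ⧸ J) ^ n = ⊥ := by
      obtain ⟨n, hn⟩ := hn
      refine ⟨n, ?_⟩
      have h1 : maximalIdeal (A ⧸ J) ≤ (maximalIdeal A).map (Ideal.Quotient.mk J) := by
        intro y hy
        obtain ⟨a, rfl⟩ := Ideal.Quotient.mk_surjective y
        apply Ideal.mem_map_of_mem
        rw [mem_maximalIdeal, mem_nonunits_iff] at hy ⊢
        exact fun h => hy (h.map _)
      rw [eq_bot_iff]
      refine (Ideal.pow_right_mono h1 n).trans ?_
      rw [← Ideal.map_pow, hn, Ideal.map_bot]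
    exact h A J hJ ψ (exists_pow_map_eq_zero hn' ψ.toRingHom)
  · intro h
    exact isAdicFormallySmooth_of_nilLift h

end Groth.Agent.S9315
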