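import Groth.Statements.S19506
import Groth.Agent.S2453
import Groth.Agent.S9315
import Groth.Agent.Lib.Helper31.SmallExt

set_option autoImplicit false
universe u
open CAlg

namespace Groth.Agent.S19506
open IsLocalRing

theorem isGeometricallyReduced_self (k : Type u) [Field k] : Algebra.IsGeometricallyReduced k k := by
  rw [Algebra.isGeometricallyReduced_field_iff]
  exact isReduced_of_injective (Algebra.TensorProduct.rid k k (AlgebraicClosure k)).toAlgHom
    (Algebra.TensorProduct.rid k k (AlgebraicClosure k)).injective


/-- (i) ⇔ (iii): let k be a field and A a complete local Noetherian k-algebra with residue field k (a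
k-algebra map π : A → k with kernel the maximal ideal; A complete for the adic topology of its
maximal ideal). Then A is regular if and only if A satisfies the infinitesimal lifting criterion:
for every Artinian local k-algebra R and every ideal J of R of square zero, every local k-algebra
homomorphism A → R/J (one carrying non-units to non-units) lifts to a k-algebra homomorphism A → R.
(The test algebras R range over one universe, that of A. The published criterion is worded for
arbitrary k-algebra homomorphisms A → R/J; it is stated here for local ones, the case the argument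
establishes and the form in which the text itself restates the criterion afterwards. The published
statement lists a third equivalent condition, A ≅ k[[x_1, …, x_d]].) -/
theorem result (k A : Type u) [Field k]
    [CommRing A] [Algebra k A] [IsLocalRing A] [IsNoetherianRing A]
    [IsAdicComplete (IsLocalRing.maximalIdeal A) A]
    (π : A →ₐ[k] k) (hπ : RingHom.ker π = IsLocalRing.maximalIdeal A) :
    IsRegularLocalRing A ↔
      ∀ (R : Type u) [CommRing R] [Algebra k R] [IsArtinianRing R] [IsLocalRing R] (J : Ideal R),
        J ^ 2 = ⊥ → ∀ f : A →ₐ[k] R ⧸ J, IsLocalHom (f : A →+* R ⧸ J) →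
          ∃ g : A →ₐ[k] R, (Ideal.Quotient.mkₐ k J).comp g = f := by
  -- residue field is `k`
  let ρ : ResidueField A →ₐ[k] k :=
    Ideal.Quotient.liftₐ (maximalIdeal A) π (fun a ha => by
      rw [← hπ] at ha; exact ha)
  haveI : Algebra.IsGeometricallyReduced k k := isGeometricallyReduced_self k
  haveI : Algebra.IsGeometricallyReduced k (ResidueField A) :=
    Algebra.IsGeometricallyReduced.of_injective ρ (RingHom.injective (ρ : ResidueField A →+* k))
  have htfae := Groth.Agent.S2453.result (k := k) (A := A)
  have h03 : CAlgX.IsAdicFormallySmooth k A (maximalIdeal A) ↔ IsRegularLocalRing A :=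
    htfae.out 0 3 rfl rfl
  rw [← h03]
  constructor
  · intro hfs R _ _ _ _ J hJ f hf
    haveI : IsLocalHom (f : A →+* R ⧸ J) := hf
    haveI : Nontrivial (R ⧸ J) := by
      by_contra hnt
      rw [not_nontrivial_iff_subsingleton] at hnt
      have h0 : IsUnit ((f : A →+* R ⧸ J) 0) := by
        rw [map_zero]; exact isUnit_of_subsingleton _
      exact not_isUnit_zero (hf.map_nonunit 0 h0)
    haveI : IsLocalRing (R ⧸ J) :=
      IsLocalRing.of_surjective' (Ideal.Quotient.mk J) Ideal.Quotient.mk_surjective
    have hnil : ∃ n : ℕ, maximalIdeal (R ⧸ J) ^ n = ⊥ := by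
      have h1 : IsNilpotent (Ideal.jacobson (⊥ : Ideal (R ⧸ J))) :=
        IsArtinianRing.isNilpotent_jacobson_bot
      rw [IsLocalRing.jacobson_eq_maximalIdeal ⊥ bot_ne_top] at h1
      obtain ⟨n, hn⟩ := h1
      exact ⟨n, hn⟩
    obtain ⟨n, hn⟩ := Groth.Agent.S9315.exists_pow_map_eq_zero hnil (f : A →+* R ⧸ J)
    exact hfs R J hJ f ⟨n, hn⟩
  · intro h
    haveI : IsLocalHom (algebraMap k A) := by
      refine ⟨fun x hx => ?_⟩
      rcases eq_or_ne x 0 with rfl | hx0
      · rw [map_zero] at hx
        exact absurd hx not_isUnit_zero
      · exact isUnit_iff_ne_zero.mpr hx0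
    apply Groth.Agent.Lib.Helper31.SmallExt.isAdicFormallySmooth_of_smallLift
    intro E _ _ _ _ _ J hJ _ _ ψ hψ _
    exact h E J hJ ψ hψ

end Groth.Agent.S19506
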