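import Groth.Statements.S19513
import Groth.Agent.S20014
import Groth.Agent.S19511
-- import your own Groth.Agent.* helpers here

set_option autoImplicit false
universe u
open CategoryTheory CategoryTheory.Limits AlgebraicGeometry
open Variety

namespace Groth.Agent.S19513


open TopologicalSpace Opposite

/-- helper48: a clopen subset of a scheme is the non-vanishing locus of a global section (its
indicator idempotent). -/
lemma exists_indicator {X : Scheme.{u}} {Z : Set X} (hZ : IsClopen Z) :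
    ∃ ε : Γ(X, ⊤), X.basicOpen ε = (⟨Z, hZ.isOpen⟩ : X.Opens) := by
  let A1 : X.Opens := ⟨Z, hZ.isOpen⟩
  let A0 : X.Opens := ⟨Zᶜ, hZ.compl.isOpen⟩
  let A : Bool → X.Opens := fun b => cond b A1 A0
  have hinf : A0 ⊓ A1 = ⊥ := by
    apply Opens.ext
    show Zᶜ ∩ Z = ∅
    exact Set.compl_inter_self Z
  haveI hsub : Subsingleton Γ(X, A0 ⊓ A1) := by rw [hinf]; infer_instance
  haveI hsub' : Subsingleton Γ(X, A1 ⊓ A0) := by rw [inf_comm, hinf]; infer_instance
  have hAV : ∀ b, A b ≤ ⊤ := fun b => le_top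
  have hcover : (⊤ : X.Opens) ≤ iSup A := by
    intro y _
    rw [Opens.mem_iSup]
    by_cases hy : y ∈ Z
    · exact ⟨true, hy⟩
    · exact ⟨false, hy⟩
  let sf : ∀ b, Γ(X, A b) := fun b =>
    Bool.rec (motive := fun b => Γ(X, A b)) (0 : Γ(X, A0)) (1 : Γ(X, A1)) b
  have hsf : TopCat.Presheaf.IsCompatible X.sheaf.1 A sf := by
    intro i j
    cases i <;> cases j
    · rfl
    · exact Subsingleton.elim (α := Γ(X, A0 ⊓ A1)) _ _
    · exact Subsingleton.elim (α := Γ(X, A1 ⊓ A0)) _ _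
    · rfl
  obtain ⟨ε, he⟩ : ∃ e : Γ(X, ⊤), ∀ b, X.presheaf.map (homOfLE (hAV b)).op e = sf b := by
    obtain ⟨s, hs, -⟩ :=
      X.sheaf.existsUnique_gluing' A ⊤ (fun b => homOfLE (hAV b)) hcover sf hsf
    exact ⟨s, hs⟩
  have he1 : X.presheaf.map (homOfLE (le_top : A1 ≤ ⊤)).op ε = (1 : Γ(X, A1)) := he true
  have he0 : X.presheaf.map (homOfLE (le_top : A0 ≤ ⊤)).op ε = (0 : Γ(X, A0)) := he false
  refine ⟨ε, ?_⟩
  have h1 : A1 ⊓ X.basicOpen ε = A1 := by
    have h := X.basicOpen_res ε (homOfLE (le_top : A1 ≤ ⊤)).op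
    rw [← h, he1]
    exact X.basicOpen_of_isUnit isUnit_one
  have h0 : A0 ⊓ X.basicOpen ε = ⊥ := by
    have h := X.basicOpen_res ε (homOfLE (le_top : A0 ≤ ⊤)).op
    rw [← h, he0]
    exact X.basicOpen_zero A0
  apply le_antisymm
  · intro x hx
    by_contra hxZ
    have h2 : x ∈ A0 ⊓ X.basicOpen ε := ⟨hxZ, hx⟩
    rw [h0] at h2
    exact h2
  · intro x hx
    have h2 : x ∈ A1 ⊓ X.basicOpen ε := by rw [h1]; exact hx
    exact h2.2

/-- Let k be a field and f : X → Y a k-morphism between proper k-schemes which is a fibration, i.e. O_Y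
→ f_*O_X is an isomorphism (Γ(V, O_Y) → Γ(f⁻¹V, O_X) bijective for every open V ⊆ Y). If X is normal
(every local ring an integrally closed domain), then so is Y. -/
theorem result (k : Type u) [Field k] (X Y : Scheme.{u})
    [X.Over (Spec (CommRingCat.of k))] [Y.Over (Spec (CommRingCat.of k))] [IsProper (X ↘ Spec (CommRingCat.of k))] [IsProper (Y ↘ Spec (CommRingCat.of k))]
    (f : X ⟶ Y) (hf : f ≫ (Y ↘ Spec (CommRingCat.of k)) = X ↘ Spec (CommRingCat.of k)) (hfib : ∀ V : Y.Opens, IsIso (f.app V))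
    (hX : Pi1.IsNormalScheme X) : Pi1.IsNormalScheme Y := by
  classical
  haveI : IsNoetherianRing (CommRingCat.of k) := inferInstanceAs (IsNoetherianRing k)
  haveI : IsLocallyNoetherian X :=
    LocallyOfFiniteType.isLocallyNoetherian (X ↘ Spec (CommRingCat.of k))
  haveI : CompactSpace X :=
    QuasiCompact.compactSpace_of_compactSpace (X ↘ Spec (CommRingCat.of k))
  haveI : IsNoetherian X := {}
  have hdom : ∀ x : X, IsDomain (X.presheaf.stalk x) := fun x => (hX x).1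
  haveI hsurj : Surjective f := Groth.Agent.S19511.result k X Y f hf hfib
  intro y
  obtain ⟨x, rfl⟩ := f.surjective y
  have hZ := irreducibleComponent_mem_irreducibleComponents x
  have hopen :=
    Groth.Agent.Lib.Helper48.FactorialAmple.isOpen_of_mem_irreducibleComponents hdom hZ
  have hclopen : IsClopen (irreducibleComponent x) := ⟨isClosed_irreducibleComponent, hopen⟩
  obtain ⟨ε, hε⟩ := exists_indicator hclopen
  haveI : IsIso f.appTop := hfib ⊤
  obtain ⟨e, he⟩ := (ConcreteCategory.bijective_of_isIso f.appTop).2 ε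
  have hpre : f ⁻¹ᵁ Y.basicOpen e = ⟨irreducibleComponent x, hopen⟩ := by
    rw [Scheme.preimage_basicOpen_top, he]
    exact hε
  have hyE : f.base x ∈ Y.basicOpen e := by
    have h1 : x ∈ f ⁻¹ᵁ Y.basicOpen e := by
      rw [hpre]
      exact mem_irreducibleComponent
    exact h1
  obtain ⟨_, ⟨V, hV, rfl⟩, hxV, hVE⟩ :=
    Y.isBasis_affineOpens.exists_subset_of_mem_open hyE (Y.basicOpen e).2
  haveI : Nonempty V := ⟨⟨f.base x, hxV⟩⟩
  haveI : IsIso (f.app V) := hfib V
  have hsub : ((f ⁻¹ᵁ V : X.Opens) : Set X) ⊆ irreducibleComponent x := by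
    intro z hz
    have h1 : z ∈ f ⁻¹ᵁ Y.basicOpen e := hVE hz
    rw [hpre] at h1
    exact h1
  have hirrV : IsIrreducible ((f ⁻¹ᵁ V : X.Opens) : Set X) :=
    ⟨⟨x, hxV⟩, isIrreducible_irreducibleComponent.2.open_subset (f ⁻¹ᵁ V).2 hsub⟩
  obtain ⟨hd, hic⟩ := Groth.Agent.Lib.Helper69.NormRel4.normal_sections hX (f ⁻¹ᵁ V) hirrV
  let e' : Γ(Y, V) ≃+* Γ(X, f ⁻¹ᵁ V) := (asIso (f.app V)).commRingCatIsoToRingEquiv
  haveI : IsDomain Γ(Y, V) := MulEquiv.isDomain Γ(X, f ⁻¹ᵁ V) e'.toMulEquiv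
  haveI : IsIntegrallyClosed Γ(Y, V) := IsIntegrallyClosed.of_equiv e'.symm
  have hloc := hV.isLocalization_stalk ⟨f.base x, hxV⟩
  letI : Algebra Γ(Y, V) (Y.presheaf.stalk (f.base x)) :=
    TopCat.Presheaf.algebra_section_stalk Y.presheaf (⟨f.base x, hxV⟩ : V)
  haveI : IsLocalization (hV.primeIdealOf ⟨f.base x, hxV⟩).asIdeal.primeCompl
    (Y.presheaf.stalk (f.base x)) := hloc
  refine ⟨?_, ?_⟩
  · exact IsLocalization.isDomain_of_le_nonZeroDivisors (Y.presheaf.stalk (f.base x))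
      (Ideal.primeCompl_le_nonZeroDivisors (hV.primeIdealOf ⟨f.base x, hxV⟩).asIdeal)
  · exact isIntegrallyClosed_of_isLocalization (Y.presheaf.stalk (f.base x))
      (hV.primeIdealOf ⟨f.base x, hxV⟩).asIdeal.primeCompl
      (Ideal.primeCompl_le_nonZeroDivisors (hV.primeIdealOf ⟨f.base x, hxV⟩).asIdeal)

end Groth.Agent.S19513
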