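import Groth.Statements.S19514
import Groth.Agent.S19512
import Groth.Agent.Lib.Helper48.FibBaseChange
-- import your own Groth.Agent.* helpers here

set_option autoImplicit false
universe u
open CategoryTheory CategoryTheory.Limits AlgebraicGeometry
open Variety

namespace Groth.Agent.S19514

/-- Let k be a field and f : X → Y a k-morphism between proper k-schemes which is a fibration, i.e. O_Y
→ f_*O_X is an isomorphism (Γ(V, O_Y) → Γ(f⁻¹V, O_X) bijective for every open V ⊆ Y). If X is
geometrically integral over k, then so is Y. (The assertion of (iii) for geometric normality is not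
stated here.) -/
theorem result (k : Type u) [Field k] (X Y : Scheme.{u})
    [X.Over (Spec (CommRingCat.of k))] [Y.Over (Spec (CommRingCat.of k))] [IsProper (X ↘ Spec (CommRingCat.of k))] [IsProper (Y ↘ Spec (CommRingCat.of k))]
    (f : X ⟶ Y) (hf : f ≫ (Y ↘ Spec (CommRingCat.of k)) = X ↘ Spec (CommRingCat.of k)) (hfib : ∀ V : Y.Opens, IsIso (f.app V))
    [GeometricallyIntegral (X ↘ Spec (CommRingCat.of k))] : GeometricallyIntegral (Y ↘ Spec (CommRingCat.of k)) := by
  constructor
  intro K _ y Z fst snd hZ
  obtain ⟨hp1, hp2, hfib', Hbig⟩ :=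
    Groth.Agent.Lib.Helper48.FibBaseChange.baseChange_field k X Y f hf hfib y fst snd hZ
  haveI : AlgebraicGeometry.IsIntegral (pullback f fst) :=
    GeometricallyIntegral.geometrically_isIntegral (f := X ↘ Spec (CommRingCat.of k)) y
      (pullback.fst f fst) (pullback.snd f fst ≫ snd) Hbig
  letI : Z.Over (Spec (CommRingCat.of K)) := ⟨snd⟩
  letI : (pullback f fst).Over (Spec (CommRingCat.of K)) := ⟨pullback.snd f fst ≫ snd⟩
  haveI : IsProper (Z ↘ Spec (CommRingCat.of K)) := hp1
  haveI : IsProper ((pullback f fst) ↘ Spec (CommRingCat.of K)) := hp2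
  exact Groth.Agent.S19512.result K (pullback f fst) Z (pullback.snd f fst) rfl hfib'

end Groth.Agent.S19514
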