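import Groth.Statements.S19515
import Groth.Agent.S19513
import Groth.Agent.Lib.Helper48.FibBaseChange
import Groth.Agent.Lib.Helper7.NormField
-- import your own Groth.Agent.* helpers here

set_option autoImplicit false
universe u
open CategoryTheory CategoryTheory.Limits AlgebraicGeometry
open Variety

namespace Groth.Agent.S19515

/-- Let k be a field and f : X → Y a k-morphism between proper k-schemes which is a fibration, i.e. O_Y
→ f_*O_X is an isomorphism (Γ(V, O_Y) → Γ(f⁻¹V, O_X) bijective for every open V ⊆ Y). If X is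
geometrically normal, i.e. its base change to every algebraic closure of k has all local rings
integrally closed domains, then Y is geometrically normal in the same sense. -/
theorem result (k : Type u) [Field k] (X Y : Scheme.{u})
    [X.Over (Spec (CommRingCat.of k))] [Y.Over (Spec (CommRingCat.of k))] [IsProper (X ↘ Spec (CommRingCat.of k))] [IsProper (Y ↘ Spec (CommRingCat.of k))]
    (f : X ⟶ Y) (hf : f ≫ (Y ↘ Spec (CommRingCat.of k)) = X ↘ Spec (CommRingCat.of k)) (hfib : ∀ V : Y.Opens, IsIso (f.app V))
    (hX : ∀ (K : Type u) [Field K] [Algebra k K] [IsAlgClosure k K],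
      Pi1.IsNormalScheme (pullback (X ↘ Spec (CommRingCat.of k)) (Spec.map (CommRingCat.ofHom (algebraMap k K)))))
    (K : Type u) [Field K] [Algebra k K] [IsAlgClosure k K] :
    Pi1.IsNormalScheme (pullback (Y ↘ Spec (CommRingCat.of k)) (Spec.map (CommRingCat.ofHom (algebraMap k K)))) := by
  obtain ⟨hp1, hp2, hfib', Hbig⟩ :=
    Groth.Agent.Lib.Helper48.FibBaseChange.baseChange_field k X Y f hf hfib
      (Spec.map (CommRingCat.ofHom (algebraMap k K)))
      (pullback.fst (Y ↘ Spec (CommRingCat.of k)) (Spec.map (CommRingCat.ofHom (algebraMap k K))))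
      (pullback.snd (Y ↘ Spec (CommRingCat.of k)) (Spec.map (CommRingCat.ofHom (algebraMap k K))))
      (IsPullback.of_hasPullback _ _)
  have hX' : Pi1.IsNormalScheme (pullback f
      (pullback.fst (Y ↘ Spec (CommRingCat.of k))
        (Spec.map (CommRingCat.ofHom (algebraMap k K))))) :=
    Groth.Agent.Lib.Helper7.NormField.isNormalScheme_of_isOpenImmersion Hbig.isoPullback.hom (hX K)
  letI : (pullback (Y ↘ Spec (CommRingCat.of k))
      (Spec.map (CommRingCat.ofHom (algebraMap k K)))).Over (Spec (CommRingCat.of K)) :=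
    ⟨pullback.snd (Y ↘ Spec (CommRingCat.of k)) (Spec.map (CommRingCat.ofHom (algebraMap k K)))⟩
  letI : (pullback f (pullback.fst (Y ↘ Spec (CommRingCat.of k))
      (Spec.map (CommRingCat.ofHom (algebraMap k K))))).Over (Spec (CommRingCat.of K)) :=
    ⟨pullback.snd f (pullback.fst (Y ↘ Spec (CommRingCat.of k))
      (Spec.map (CommRingCat.ofHom (algebraMap k K)))) ≫
      pullback.snd (Y ↘ Spec (CommRingCat.of k)) (Spec.map (CommRingCat.ofHom (algebraMap k K)))⟩
  haveI : IsProper ((pullback (Y ↘ Spec (CommRingCat.of k))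
      (Spec.map (CommRingCat.ofHom (algebraMap k K)))) ↘ Spec (CommRingCat.of K)) := hp1
  haveI : IsProper ((pullback f (pullback.fst (Y ↘ Spec (CommRingCat.of k))
      (Spec.map (CommRingCat.ofHom (algebraMap k K))))) ↘ Spec (CommRingCat.of K)) := hp2
  exact Groth.Agent.S19513.result K _ _ (pullback.snd f (pullback.fst (Y ↘ Spec (CommRingCat.of k))
      (Spec.map (CommRingCat.ofHom (algebraMap k K))))) rfl hfib' hX'

end Groth.Agent.S19515
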