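import Groth.Statements.S19522
import Mathlib

set_option autoImplicit false
universe u
open TensorProduct
open GLin

namespace Groth.Agent.S19522

/-- Let k be a field, A a commutative k-bialgebra coacting multiplicatively on a commutative k-algebra
R, and χ ∈ A a group-like element with an inverse χ' (χχ' = 1). Suppose the polynomial ring R[t]
carries a multiplicative coaction which restricts to the given one on constants and sends t to t ⊗
χ'. Then g ∈ R[t] is coinvariant if and only if, for every r, its r-th coefficient has coaction g_r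
↦ g_r ⊗ χ^r; that is, the ring of invariants of R[t] is the sum over r ≥ 0 of the weight-χ^r
semi-invariants of R times t^r. (The published statement is phrased for an affine variety with an
action of a linear algebraic group over an algebraically closed field of characteristic zero and
identifies the invariants of X × A¹ with the graded ring of invariant sections of the powers of the
linearised trivial bundle; this is its coordinate-ring content, valid over any field.) -/
theorem result (k : Type u) [Field k]
    (A : Type u) [CommRing A] [Bialgebra k A]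
    (R : Type u) [CommRing R] [Algebra k R] [HopfRep.Comod k A R] [GLin.IsCoactAlg k A R]
    [HopfRep.Comod k A (Polynomial R)] [GLin.IsCoactAlg k A (Polynomial R)]
    (χ χ' : A) (hχ : CoalgebraStruct.comul (R := k) (A := A) χ = χ ⊗ₜ[k] χ)
    (hχε : CoalgebraStruct.counit (R := k) (A := A) χ = 1) (hχχ' : χ * χ' = 1)
    (hC : ∀ r : R, HopfRep.Comod.coact (k := k) (A := A) (Polynomial.C r) =
      Algebra.TensorProduct.map (Polynomial.CAlgHom : R →ₐ[k] Polynomial R) (AlgHom.id k A)
        (HopfRep.Comod.coact (k := k) (A := A) r))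
    (hX : HopfRep.Comod.coact (k := k) (A := A) (Polynomial.X : Polynomial R) = Polynomial.X ⊗ₜ[k] χ')
    (g : Polynomial R) :
    g ∈ GLin.invariants k A (Polynomial R) ↔
      ∀ r : ℕ, g.coeff r ∈ HopfRep.eigenspace k A R (χ ^ r) := by
  classical
  -- the coaction as an algebra map
  set ρ := GLin.coactAlgHom k A (Polynomial R) with hρ
  set ρR := GLin.coactAlgHom k A R with hρR
  set CA : R ⊗[k] A →ₐ[k] Polynomial R ⊗[k] A :=
    Algebra.TensorProduct.map (Polynomial.CAlgHom : R →ₐ[k] Polynomial R) (AlgHom.id k A) with hCA
  -- coefficient maps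
  set c : ℕ → Polynomial R ⊗[k] A →ₗ[k] R ⊗[k] A := fun r =>
    LinearMap.rTensor A ((Polynomial.lcoeff R r).restrictScalars k) with hc
  have hc_key : ∀ (r s : ℕ) (z : R ⊗[k] A) (a' : A),
      c r (CA z * (((Polynomial.X : Polynomial R) ^ s) ⊗ₜ[k] a')) =
        if r = s then z * ((1 : R) ⊗ₜ[k] a') else 0 := by
    intro r s z a'
    induction z using TensorProduct.induction_on with
    | zero => simp
    | tmul x y =>
      simp only [hCA, Algebra.TensorProduct.map_tmul, AlgHom.id_apply,
        Algebra.TensorProduct.tmul_mul_tmul, hc, LinearMap.rTensor_tmul,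
        LinearMap.restrictScalars_apply, Polynomial.lcoeff_apply, Polynomial.CAlgHom_apply,
        Polynomial.coeff_C_mul, Polynomial.coeff_X_pow, mul_one]
      split_ifs with h
      · simp
      · simp
    | add x y hx hy =>
      rw [map_add, add_mul, map_add, hx, hy]
      split_ifs
      · rw [add_mul]
      · rw [add_zero]
  have hρg : ρ g = ∑ s ∈ g.support, CA (ρR (g.coeff s)) *
      (((Polynomial.X : Polynomial R) ^ s) ⊗ₜ[k] (χ' ^ s)) := by
    conv_lhs => rw [g.as_sum_support_C_mul_X_pow]
    rw [map_sum]
    refine Finset.sum_congr rfl fun s _ => ?_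
    rw [map_mul, map_pow, hρ, GLin.coactAlgHom_apply, GLin.coactAlgHom_apply, hC, hX,
      Algebra.TensorProduct.tmul_pow]
    rfl
  rw [GLin.mem_invariants_iff]
  have hρ_apply : HopfRep.Comod.coact (k := k) (A := A) g = ρ g := rfl
  rw [hρ_apply, hρg]
  constructor
  · intro h r
    have h1 := congrArg (c r) h
    rw [map_sum] at h1
    simp only [hc_key] at h1
    rw [Finset.sum_ite_eq] at h1
    have h2 : c r (g ⊗ₜ[k] (1 : A)) = g.coeff r ⊗ₜ[k] (1 : A) := by
      simp [hc]
    rw [h2] at h1
    have h3 : ρR (g.coeff r) * ((1 : R) ⊗ₜ[k] (χ' ^ r)) = g.coeff r ⊗ₜ[k] (1 : A) := by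
      split_ifs at h1 with hr
      · exact h1
      · rw [Polynomial.notMem_support_iff] at hr
        rw [hr, map_zero, zero_mul, TensorProduct.zero_tmul]
    have h4 := congrArg (fun z => z * ((1 : R) ⊗ₜ[k] (χ ^ r))) h3
    simp only [mul_assoc, Algebra.TensorProduct.tmul_mul_tmul, mul_one, one_mul] at h4
    rw [← mul_pow, mul_comm χ' χ, hχχ', one_pow, ← Algebra.TensorProduct.one_def, mul_one] at h4
    exact h4
  · intro h
    conv_rhs => rw [g.as_sum_support_C_mul_X_pow]
    rw [TensorProduct.sum_tmul]
    refine Finset.sum_congr rfl fun s _ => ?_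
    have h1 : ρR (g.coeff s) = g.coeff s ⊗ₜ[k] (χ ^ s) := h s
    rw [h1, hCA, Algebra.TensorProduct.map_tmul, Algebra.TensorProduct.tmul_mul_tmul,
      AlgHom.id_apply, ← mul_pow, hχχ', one_pow]
    rfl

end Groth.Agent.S19522
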