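import Groth.Statements.S19533
import Groth.Agent.Lib.Helper60.AbSub
import Groth.Agent.Lib.Helper69.ReducedSmoothLocal
import Groth.Agent.S7806

set_option autoImplicit false
universe u
open CategoryTheory CategoryTheory.Limits MonoidalCategory CartesianMonoidalCategory MonObj GrpObj AlgebraicGeometry
open AbVar

namespace Groth.Agent.S19533

/-- Let k be an algebraically closed field, A an abelian variety over k (a k-group scheme whose
structure morphism is proper, smooth and geometrically connected) with unit point e, Y a scheme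
separated over k and f : A → Y a morphism over k. Write F₀ for the connected component of e in the
fibre f⁻¹(f(e)). Then the k-rational points of F₀ are stable under the group law: if k-points x and
y of A lie in F₀ then so do the product point x·y and the inverse point x⁻¹. (The published
statement is for Y a k-variety and concludes that F₀ with its reduced structure is an abelian
subvariety, together with the translation formula F_a = a + F₀; this row records the closure of
F₀(k) under multiplication and inversion, for Y merely separated over k.) -/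
theorem result (k : Type u) [Field k] [IsAlgClosed k]
    (A : Over (Spec (CommRingCat.of k))) [GrpObj A] [IsProper A.hom] [Smooth A.hom] [GeometricallyConnected A.hom]
    {Y : Scheme.{u}} (q : Y ⟶ Spec (CommRingCat.of k)) [IsSeparated q] (f : A.left ⟶ Y) (hf : f ≫ q = A.hom)
    (x y : 𝟙_ (Over (Spec (CommRingCat.of k))) ⟶ A)
    (hx : x.left (IsLocalRing.closedPoint k) ∈
      connectedComponentIn (f ⁻¹' {f (η[A].left (IsLocalRing.closedPoint k))}) (η[A].left (IsLocalRing.closedPoint k)))
    (hy : y.left (IsLocalRing.closedPoint k) ∈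
      connectedComponentIn (f ⁻¹' {f (η[A].left (IsLocalRing.closedPoint k))}) (η[A].left (IsLocalRing.closedPoint k))) :
    (lift x y ≫ μ[A]).left (IsLocalRing.closedPoint k) ∈
        connectedComponentIn (f ⁻¹' {f (η[A].left (IsLocalRing.closedPoint k))}) (η[A].left (IsLocalRing.closedPoint k)) ∧
      (x ≫ ι[A]).left (IsLocalRing.closedPoint k) ∈
        connectedComponentIn (f ⁻¹' {f (η[A].left (IsLocalRing.closedPoint k))}) (η[A].left (IsLocalRing.closedPoint k)) := by
  haveI : GeometricallyReduced A.hom := by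
    rw [geometricallyReduced_iff]
    intro K _ y Z fst snd h
    have : Smooth snd := MorphismProperty.of_isPullback (P := @Smooth) h inferInstance
    exact Groth.Agent.Lib.Helper69.ReducedSmoothLocal.isReduced_of_smooth snd
  haveI : Subsingleton ↥(Spec (CommRingCat.of k)) :=
    inferInstanceAs (Subsingleton (PrimeSpectrum k))
  haveI : ConnectedSpace A.left := GeometricallyConnected.connectedSpace_of_subsingleton A.hom
  haveI : GeometricallyIntegral A.hom :=
    Groth.Agent.Lib.Helper60.AbSub.geometricallyIntegral_of_connected A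
  generalize hpt : IsLocalRing.closedPoint k = pt at *
  generalize he : η[A].left pt = e at *
  have heF : e ∈ f ⁻¹' {f e} := rfl
  have heC : e ∈ connectedComponentIn (f ⁻¹' {f e}) e := mem_connectedComponentIn heF
  have key : ∀ z : 𝟙_ (Over (Spec (CommRingCat.of k))) ⟶ A,
      z.left pt ∈ connectedComponentIn (f ⁻¹' {f e}) e →
      (lift (toUnit A ≫ z) (𝟙 A) ≫ μ[A]).left '' connectedComponentIn (f ⁻¹' {f e}) e =
        connectedComponentIn (f ⁻¹' {f e}) e := by
    intro z hz
    have h := Groth.Agent.S7806.result k A q f hf z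
    rw [hpt, he] at h
    have hzF : z.left pt ∈ f ⁻¹' {f e} := connectedComponentIn_subset _ _ hz
    have hfz : f (z.left pt) = f e := hzF
    rw [hfz] at h
    rw [h]
    exact (connectedComponentIn_eq hz).symm
  have hun : ∀ z : 𝟙_ (Over (Spec (CommRingCat.of k))) ⟶ A,
      toUnit A ≫ z = toUnit A ≫ z := fun _ => rfl
  have hη : η[A] = (1 : 𝟙_ (Over (Spec (CommRingCat.of k))) ⟶ A) := by
    rw [Hom.one_def, toUnit_unique (toUnit (𝟙_ (Over (Spec (CommRingCat.of k))))) (𝟙 _),
      Category.id_comp]
  constructor
  · have h1 : lift x y ≫ μ[A] = y ≫ lift (toUnit A ≫ x) (𝟙 A) ≫ μ[A] := by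
      rw [comp_lift_assoc, Category.comp_id, ← Category.assoc,
        toUnit_unique (y ≫ toUnit A) (𝟙 _), Category.id_comp]
    rw [h1, ← key x hx]
    exact ⟨y.left pt, hy, rfl⟩
  · have hk := key x hx
    have hmem : e ∈ (lift (toUnit A ≫ x) (𝟙 A) ≫ μ[A]).left ''
        connectedComponentIn (f ⁻¹' {f e}) e := by rw [hk]; exact heC
    obtain ⟨c, hc, hce⟩ := hmem
    have hinv : (lift (toUnit A ≫ x) (𝟙 A) ≫ μ[A]) ≫
        (lift (toUnit A ≫ x ≫ ι[A]) (𝟙 A) ≫ μ[A]) = 𝟙 A := by
      rw [← Hom.mul_def, ← Hom.mul_def, MonObj.comp_mul, Category.comp_id, ← Category.assoc,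
        toUnit_unique (((toUnit A ≫ x) * 𝟙 A) ≫ toUnit A) (toUnit A), ← _root_.mul_assoc,
        ← MonObj.comp_mul, ← Hom.inv_def, inv_mul_cancel, MonObj.comp_one, _root_.one_mul]
    have h2 : η[A] ≫ (lift (toUnit A ≫ x ≫ ι[A]) (𝟙 A) ≫ μ[A]) = x ≫ ι[A] := by
      rw [← Hom.mul_def, MonObj.comp_mul, Category.comp_id, ← Category.assoc,
        toUnit_unique (η[A] ≫ toUnit A) (𝟙 _), Category.id_comp, hη, _root_.mul_one]
    have h3 : (lift (toUnit A ≫ x ≫ ι[A]) (𝟙 A) ≫ μ[A]).left e = c := by
      rw [← hce]
      show ((lift (toUnit A ≫ x) (𝟙 A) ≫ μ[A]).left ≫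
        (lift (toUnit A ≫ x ≫ ι[A]) (𝟙 A) ≫ μ[A]).left) c = c
      rw [← Over.comp_left, hinv]; rfl
    have h4 : (x ≫ ι[A]).left pt = c := by
      have h5 : (x ≫ ι[A]).left pt =
          (lift (toUnit A ≫ x ≫ ι[A]) (𝟙 A) ≫ μ[A]).left (η[A].left pt) := by
        conv_lhs => rw [← h2]
        rfl
      rw [h5, he, h3]
    rw [h4]; exact hc

end Groth.Agent.S19533
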