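import Groth.Statements.S1954
import Mathlib
import Groth.Agent.S0558
import Groth.Agent.Lib.Helper33.InterOne
import Groth.Agent.Lib.Helper9.InterSch
import Groth.Agent.Lib.Helper62.SmoothStalk

set_option autoImplicit false
universe u
open CategoryTheory CategoryTheory.Limits AlgebraicGeometry
attribute [local instance] HasDerivedCategory.standard
open IntMult

namespace Groth.Agent.S1954


open Groth.Agent.Lib.Helper91.StalkIdeal Groth.Agent.Lib.Helper91.GenPrime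
open Groth.Agent.Lib.Helper33 Groth.Agent.Lib.Helper21.FieldDim

theorem exists_nat_of_bounds (x : WithBot ℕ∞) (lo hi : ℕ) (h1 : ((lo : ℕ) : WithBot ℕ∞) ≤ x)
    (h2 : x ≤ ((hi : ℕ) : WithBot ℕ∞)) : ∃ a : ℕ, x = ((a : ℕ) : WithBot ℕ∞) ∧ lo ≤ a := by
  induction x using WithBot.recBotCoe with
  | bot => exact absurd h1 (by simp)
  | coe r =>
    have h2' : r ≤ (hi : ℕ∞) := by exact_mod_cast h2
    obtain ⟨m, rfl⟩ := ENat.ne_top_iff_exists.mp (ne_top_of_le_ne_top (ENat.coe_ne_top hi) h2')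
    exact ⟨m, rfl, by exact_mod_cast h1⟩

theorem unpack {X W : Scheme.{u}} (ι : W ⟶ X) (δ : X → ℤ) (k : ℤ) (x : X)
    (hα : Cyc.subschemeFun δ k ι x ≠ 0) : δ x = k ∧ ∃ w : W, ι w = x := by
  by_contra hcon
  apply hα
  by_cases hk : δ x = k
  · exact InterOne.subschemeFun_eq_zero ι δ k x (fun w hw => hcon ⟨hk, w, hw⟩)
  · unfold Cyc.subschemeFun
    rw [if_neg hk]

theorem mem_support_of_range {X W : Scheme.{u}} (ι : W ⟶ X) [IsClosedImmersion ι] (x : X)
    (hx : x ∈ Set.range ι) : x ∈ ι.ker.support := by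
  have h : (ι.ker.support : Set X) = closure (Set.range ι) := Scheme.Hom.support_ker ι
  have hc : IsClosed (Set.range ι) := ι.isClosedEmbedding.isClosed_range
  rw [hc.closure_eq] at h
  show x ∈ (ι.ker.support : Set X)
  rw [h]; exact hx

theorem range_of_mem_support {X W : Scheme.{u}} (ι : W ⟶ X) [IsClosedImmersion ι] (x : X)
    (hx : x ∈ ι.ker.support) : x ∈ Set.range ι := by
  have h : (ι.ker.support : Set X) = closure (Set.range ι) := Scheme.Hom.support_ker ι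
  have hc : IsClosed (Set.range ι) := ι.isClosedEmbedding.isClosed_range
  rw [hc.closure_eq] at h
  rw [← h]; exact hx

theorem side {K : Type u} [Field K] (X : Scheme.{u}) (f : X ⟶ Spec (CommRingCat.of K))
    [LocallyOfFiniteType f] (δ : X → ℤ) (hδtd : ∀ x, δ x = (td f x : ℤ))
    {W : Scheme.{u}} (ι : W ⟶ X) [IsClosedImmersion ι] (k : ℤ)
    (τ ξ₀ : X) (hα : Cyc.subschemeFun δ k ι ξ₀ ≠ 0) (h₀ : ξ₀ ⤳ τ) :
    δ ξ₀ = k ∧ (∃ w : W, ι w = τ) ∧ ∃ d : ℕ, ((d : ℕ) : WithBot ℕ∞) ≤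
      ringKrullDim (X.presheaf.stalk τ ⧸ IntMult.stalkIdeal ι.ker τ) ∧ (d : ℤ) + δ τ = k := by
  obtain ⟨hk, w₀, hw₀⟩ := unpack ι δ k ξ₀ hα
  have hclosed : IsClosed (Set.range ι) := ι.isClosedEmbedding.isClosed_range
  have hτ : τ ∈ Set.range ι := h₀.mem_closed hclosed ⟨w₀, hw₀⟩
  have hsupp := mem_support_of_range ι ξ₀ ⟨w₀, hw₀⟩
  have hle : IntMult.stalkIdeal ι.ker τ ≤ primeOf h₀ :=
    ClosedStalk.stalkIdeal_le_primeOf ι.ker h₀ hsupp
  obtain ⟨d, hd1, hd2⟩ := VarDim.exists_dim_quot_primeOf f h₀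
  refine ⟨hk, hτ, d, ?_, ?_⟩
  · rw [← hd1]
    exact ringKrullDim_le_of_surjective (Ideal.Quotient.factor hle)
      (Ideal.Quotient.factor_surjective hle)
  · rw [hδtd τ, ← hk, hδtd ξ₀]
    exact_mod_cast hd2

theorem uniq {X W : Scheme.{u}} (δ : X → ℤ) (hdim : Cyc.IsDimFun X δ)
    (ι : W ⟶ X) [IsClosedImmersion ι] (k : ℤ) (hW : ∀ w : W, δ (ι w) ≤ k)
    (τ ξ₁ : X) (h₁ : ξ₁ ⤳ τ) (hp : primeOf h₁ = IntMult.stalkIdeal ι.ker τ)
    (ξ' : X) (hα : Cyc.subschemeFun δ k ι ξ' ≠ 0) (h' : ξ' ⤳ τ) : ξ' = ξ₁ := by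
  obtain ⟨hk, w', hw'⟩ := unpack ι δ k ξ' hα
  have hsupp := mem_support_of_range ι ξ' ⟨w', hw'⟩
  have hle : IntMult.stalkIdeal ι.ker τ ≤ primeOf h' :=
    ClosedStalk.stalkIdeal_le_primeOf ι.ker h' hsupp
  have hsp : ξ₁ ⤳ ξ' := ClosedStalk.specializes_of_primeOf_le h₁ h' (hp ▸ hle)
  have hsupp₁ : ξ₁ ∈ ι.ker.support :=
    VarDim.mem_support_of_stalkIdeal_le_primeOf ι.ker h₁ (le_of_eq hp.symm)
  obtain ⟨w₁, hw₁⟩ := range_of_mem_support ι ξ₁ hsupp₁
  have hδ₁ : δ ξ₁ ≤ k := hw₁ ▸ hW w₁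
  by_contra hne
  have := (hdim ξ₁ ξ' hsp (Ne.symm hne)).1
  omega

theorem val_one {X W : Scheme.{u}} (δ : X → ℤ) (ι : W ⟶ X) [IsClosedImmersion ι] (k : ℤ)
    (τ ξ₁ : X) (h₁ : ξ₁ ⤳ τ) (hp : primeOf h₁ = IntMult.stalkIdeal ι.ker τ)
    (hk : δ ξ₁ = k) (w₁ : W) (hw₁ : ι w₁ = ξ₁) : Cyc.subschemeFun δ k ι ξ₁ = 1 := by
  rw [InterOne.subschemeFun_eq ι ι.isClosedEmbedding.injective δ k w₁ ξ₁ hw₁ hk]
  obtain ⟨e⟩ := ClosedStalk.nonempty_stalk_equiv ι w₁ ξ₁ hw₁
  have hmax : Groth.Agent.Lib.Helper91.StalkIdeal.stalkIdeal ι.ker ξ₁ =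
      IsLocalRing.maximalIdeal (X.presheaf.stalk ξ₁) := by
    rw [← map_stalkSpecializes ι.ker h₁]
    have : Groth.Agent.Lib.Helper91.StalkIdeal.stalkIdeal ι.ker τ = primeOf h₁ := hp.symm
    rw [this, ClosedStalk.map_primeOf]
  have key : ∀ Kk : Ideal (X.presheaf.stalk ξ₁), Kk = IsLocalRing.maximalIdeal _ →
      IsField (X.presheaf.stalk ξ₁ ⧸ Kk) := by
    rintro _ rfl
    exact (Ideal.Quotient.maximal_ideal_iff_isField_quotient _).mp inferInstance
  have hF' : IsField (W.presheaf.stalk w₁) := MulEquiv.isField (key _ hmax) e.toMulEquiv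
  rw [ClosedStalk.length_eq_one_of_isField _ hF']
  rfl

/-- Let Y, Z → X be closed immersions into a nonsingular variety with δ ≤ r on Y and δ ≤ s on Z, such
that [Y]_r and [Z]_s intersect properly, and let τ be a point of δ-dimension r + s − n lying under Y
and Z (the generic point of a component of the intersection of components of dimension r and s) at
which the scheme-theoretic intersection Y ×_X Z has multiplicity 1 (its local ring there has length
1). Then the coefficient of the closure of τ in [Y]_r · [Z]_s is 1, and the local rings of Y and Z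
at the points over τ are regular. (The published statement has further parts, not restated here.)
Here X is a nonsingular variety over the algebraically closed field K (smooth, separated,
quasi-compact, integral) with dimension function δ (transcendence degree) and n = dim X; cycles are
Mathlib AlgebraicCycles with Cyc.Zk membership, proper intersection is IntMult.IntersectProperly and
α · β is the Tor-formula intersection product on coefficient functions (IntMult.interProd), bundled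
where needed as 'any cycle with these coefficients'. -/
theorem result (K : Type u) [Field K] [IsAlgClosed K] (X : Scheme.{u}) (f : X ⟶ Spec (CommRingCat.of K)) [Smooth f] [IsSeparated f] [QuasiCompact f] [IsIntegral X] (δ : X → ℤ) (hX : Cyc.IsSetup X δ) (hδ : Cyc.DeltaCompat f δ (fun _ => 0)) (n : ℤ) (hn : δ (genericPoint X) = n) (Y Z : Scheme.{u}) (ιY : Y ⟶ X) (ιZ : Z ⟶ X) [IsClosedImmersion ιY] [IsClosedImmersion ιZ] (r s : ℤ) (hY : ∀ y : Y, δ (ιY y) ≤ r) (hZ : ∀ z : Z, δ (ιZ z) ≤ s) (hprop : IntMult.IntersectProperly δ n (Cyc.subschemeFun δ r ιY) (Cyc.subschemeFun δ s ιZ)) (τ : X) (hτ : δ τ = r + s - n) (hξ : ∃ ξ η : X, Cyc.subschemeFun δ r ιY ξ ≠ 0 ∧ Cyc.subschemeFun δ s ιZ η ≠ 0 ∧ ξ ⤳ τ ∧ η ⤳ τ) (hmult : Cyc.subschemeFun δ (r + s - n) (pullback.fst ιY ιZ ≫ ιY) τ = 1) : IntMult.interProd δ n (Cyc.subschemeFun δ r ιY) (Cyc.subschemeFun δ s ιZ) τ = 1 ∧ (∀ y : Y, ιY y = τ → IsRegularLocalRing (Y.presheaf.stalk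 y)) ∧ (∀ z : Z, ιZ z = τ → IsRegularLocalRing (Z.presheaf.stalk z)) := by
  classical
  haveI : LocallyOfFiniteType f := inferInstance
  haveI hregA : IsRegularLocalRing (X.presheaf.stalk τ) :=
    Groth.Agent.Lib.Helper62.SmoothStalk.isRegularLocalRing_stalk f τ
  have hδtd := ClosedStalk.delta_eq_td f δ hδ
  obtain ⟨ξ₀, η₀, hαξ, hβη, hξτ, hητ⟩ := hξ
  obtain ⟨hkY, ⟨yτ, hyτ⟩, dY, hdY1, hdY2⟩ := side X f δ hδtd ιY r τ ξ₀ hαξ hξτ
  obtain ⟨hkZ, ⟨zτ, hzτ⟩, dZ, hdZ1, hdZ2⟩ := side X f δ hδtd ιZ s τ η₀ hβη hητ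
  -- dimension of A
  obtain ⟨D, hD1, hD2⟩ := VarDim.exists_height_primeOf f (specializes_refl τ)
  rw [VarDim.primeOf_refl] at hD1
  have hD : ringKrullDim (X.presheaf.stalk τ) = ((D : ℕ) : WithBot ℕ∞) := by
    rw [← IsLocalRing.maximalIdeal_height_eq_ringKrullDim, hD1]
    rfl
  have hDint : (D : ℤ) + δ τ = n := by
    rw [hδtd τ, ← hn, hδtd (genericPoint X)]
    exact_mod_cast hD2
  obtain ⟨a, ha, hda⟩ := exists_nat_of_bounds _ dY D hdY1
    (hD ▸ ringKrullDim_quotient_le (IntMult.stalkIdeal ιY.ker τ))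
  obtain ⟨b, hb, hdb⟩ := exists_nat_of_bounds _ dZ D hdZ1
    (hD ▸ ringKrullDim_quotient_le (IntMult.stalkIdeal ιZ.ker τ))
  have hab : D ≤ a + b := by omega
  -- the sum of the two ideals is the maximal ideal
  have hsup : IntMult.stalkIdeal ιY.ker τ ⊔ IntMult.stalkIdeal ιZ.ker τ =
      IsLocalRing.maximalIdeal (X.presheaf.stalk τ) := by
    have hinjj : Function.Injective (pullback.fst ιY ιZ ≫ ιY) :=
      (pullback.fst ιY ιZ ≫ ιY).isClosedEmbedding.injective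
    obtain ⟨w, hw⟩ : ∃ w, (pullback.fst ιY ιZ ≫ ιY) w = τ := by
      by_contra hcon
      push Not at hcon
      rw [InterOne.subschemeFun_eq_zero _ δ _ τ hcon] at hmult
      exact zero_ne_one hmult
    rw [InterOne.subschemeFun_eq _ hinjj δ _ w τ hw hτ] at hmult
    have hlen : Module.length ((pullback ιY ιZ).presheaf.stalk w)
        ((pullback ιY ιZ).presheaf.stalk w) = 1 := by
      have h1 : (Module.length ((pullback ιY ιZ).presheaf.stalk w)
        ((pullback ιY ιZ).presheaf.stalk w)).toNat = 1 := by exact_mod_cast hmult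
      exact (ENat.toNat_eq_iff (by norm_num)).mp h1
    have hF := ClosedStalk.isField_of_length_eq_one _ hlen
    obtain ⟨e⟩ := ClosedStalk.nonempty_stalk_equiv (pullback.fst ιY ιZ ≫ ιY) w τ hw
    have hker : IntMult.stalkIdeal (pullback.fst ιY ιZ ≫ ιY).ker τ =
        IntMult.stalkIdeal ιY.ker τ ⊔ IntMult.stalkIdeal ιZ.ker τ := by
      rw [Groth.Agent.Lib.Helper9.InterSch.ker_inter]
      exact ClosedStalk.stalkIdeal_sup _ _ _
    have hF' : IsField (X.presheaf.stalk τ ⧸ IntMult.stalkIdeal (pullback.fst ιY ιZ ≫ ιY).ker τ) :=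
      MulEquiv.isField hF e.symm.toMulEquiv
    have hmaxl : (IntMult.stalkIdeal (pullback.fst ιY ιZ ≫ ιY).ker τ).IsMaximal :=
      Ideal.Quotient.maximal_of_isField _ hF'
    rw [← hker]
    exact IsLocalRing.eq_maximalIdeal hmaxl
  have hsup' : IntMult.stalkIdeal ιZ.ker τ ⊔ IntMult.stalkIdeal ιY.ker τ =
      IsLocalRing.maximalIdeal (X.presheaf.stalk τ) := (sup_comm _ _).trans hsup
  haveI regY : IsRegularLocalRing (X.presheaf.stalk τ ⧸ IntMult.stalkIdeal ιY.ker τ) :=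
    RegSup.isRegularLocalRing_quotient' _ _ hsup a b D hD ha hb hab
  haveI regZ : IsRegularLocalRing (X.presheaf.stalk τ ⧸ IntMult.stalkIdeal ιZ.ker τ) :=
    RegSup.isRegularLocalRing_quotient' _ _ hsup' b a D hD hb ha (by omega)
  refine ⟨?_, fun y hy => ?_, fun z hz => ?_⟩
  · haveI : IsDomain (X.presheaf.stalk τ ⧸ IntMult.stalkIdeal ιY.ker τ) := Groth.Agent.S0558.result _
    haveI : IsDomain (X.presheaf.stalk τ ⧸ IntMult.stalkIdeal ιZ.ker τ) := Groth.Agent.S0558.result _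
    haveI pY : (IntMult.stalkIdeal ιY.ker τ).IsPrime :=
      (Ideal.Quotient.isDomain_iff_prime _).mp inferInstance
    haveI pZ : (IntMult.stalkIdeal ιZ.ker τ).IsPrime :=
      (Ideal.Quotient.isDomain_iff_prime _).mp inferInstance
    obtain ⟨ξ₁, h₁, hp₁⟩ := exists_specializes_primeOf_eq τ (IntMult.stalkIdeal ιY.ker τ)
    obtain ⟨η₁, h₂, hp₂⟩ := exists_specializes_primeOf_eq τ (IntMult.stalkIdeal ιZ.ker τ)
    have hU1 := uniq δ hX.2.2 ιY r hY τ ξ₁ h₁ hp₁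
    have hU2 := uniq δ hX.2.2 ιZ s hZ τ η₁ h₂ hp₂
    have e1 : ξ₀ = ξ₁ := hU1 ξ₀ hαξ hξτ
    have e2 : η₀ = η₁ := hU2 η₀ hβη hητ
    subst e1 e2
    obtain ⟨_, y₁, hy₁⟩ := unpack ιY δ r ξ₀ hαξ
    obtain ⟨_, z₁, hz₁⟩ := unpack ιZ δ s η₀ hβη
    have hv1 := val_one δ ιY r τ ξ₀ h₁ hp₁ hkY y₁ hy₁
    have hv2 := val_one δ ιZ s τ η₀ h₂ hp₂ hkZ z₁ hz₁
    have hδp : δ ξ₀ + δ η₀ - n = δ τ := by rw [hkY, hkZ, hτ]
    have key : ∀ I' J' : Ideal (X.presheaf.stalk τ), I' = IntMult.stalkIdeal ιY.ker τ →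
        J' = IntMult.stalkIdeal ιZ.ker τ →
        IntMult.chi (X.presheaf.stalk τ) (X.presheaf.stalk τ ⧸ J') (X.presheaf.stalk τ ⧸ I') = 1 := by
      rintro _ _ rfl rfl
      exact InterOne.chi_eq_one _ _ hsup a b D hD ha hb hab
    have hmult1 : IntMult.mult (IntMult.ptIdeal ξ₀) (IntMult.ptIdeal η₀) τ = 1 := by
      unfold IntMult.mult
      exact key _ _ ((InterOne.stalkIdeal_ptIdeal h₁).trans hp₁)
        ((InterOne.stalkIdeal_ptIdeal h₂).trans hp₂)
    unfold IntMult.interProd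
    rw [finsum_eq_single _ (⟨(ξ₀, η₀), h₁, h₂, hδp⟩ :
      {p : X × X // p.1 ⤳ τ ∧ p.2 ⤳ τ ∧ δ p.1 + δ p.2 - n = δ τ})]
    · simp only
      rw [hv1, hv2, hmult1]
      norm_num
    · rintro ⟨⟨x, y⟩, hx, hy, hxy⟩ hne
      by_cases hx0 : Cyc.subschemeFun δ r ιY x = 0
      · simp only [hx0, zero_mul]
      by_cases hy0 : Cyc.subschemeFun δ s ιZ y = 0
      · simp only [hy0, mul_zero, zero_mul]
      exfalso
      apply hne
      have ex : x = ξ₀ := hU1 x hx0 hx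
      have ey : y = η₀ := hU2 y hy0 hy
      subst ex ey
      rfl
  · obtain ⟨e⟩ := ClosedStalk.nonempty_stalk_equiv ιY y τ hy
    have e' : Y.presheaf.stalk y ≃+* (X.presheaf.stalk τ ⧸ IntMult.stalkIdeal ιY.ker τ) := e
    exact IsRegularLocalRing.of_ringEquiv e'.symm
  · obtain ⟨e⟩ := ClosedStalk.nonempty_stalk_equiv ιZ z τ hz
    have e' : Z.presheaf.stalk z ≃+* (X.presheaf.stalk τ ⧸ IntMult.stalkIdeal ιZ.ker τ) := e
    exact IsRegularLocalRing.of_ringEquiv e'.symm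

end Groth.Agent.S1954
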