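import Groth.Statements.S19540
import Groth.Agent.Lib.Helper43.SiteExact

set_option autoImplicit false
open CategoryTheory CategoryTheory.Limits Opposite
universe w v u
open CohSite

namespace Groth.Agent.S19540

/-- Let (C, J) be a site and B a class of objects of C, each weakly contractible (every epimorphism of
sheaves of sets, valued in a fixed universe, is surjective on sections over it), such that every
object V of C has a covering sieve all of whose arrows factor through some object of B. Then a
three-term complex F ⟶ G ⟶ H of abelian sheaves on (C, J) is exact if and only if for every U in B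
the sequence of section groups F(U) ⟶ G(U) ⟶ H(U) is exact. (The published statement is for sheaves
of modules over a sheaf of rings O; this row is the case of the constant sheaf of rings ℤ, i.e.
abelian sheaves, to which exactness questions for O-modules reduce. The universe set-up assumes that
abelian sheafification exists and inverts exactly the locally bijective maps, as on any small site.) -/
theorem result
    {C : Type u} [Category.{v} C] (J : GrothendieckTopology C) [HasSheafify J AddCommGrpCat.{w}]
    [J.WEqualsLocallyBijective AddCommGrpCat.{w}]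
    (B : C → Prop)
    (hB : ∀ U : C, B U → ∀ (P Q : Sheaf J (Type w)) (ψ : P ⟶ Q), Epi ψ → Function.Surjective (ψ.hom.app (op U)))
    (hcov : ∀ V : C, ∃ S : Sieve V, S ∈ J V ∧ ∀ ⦃W : C⦄ (f : W ⟶ V), S.arrows f →
      ∃ (U : C) (g : W ⟶ U) (h : U ⟶ V), B U ∧ g ≫ h = f)
    (S : ShortComplex (Sheaf J AddCommGrpCat.{w})) :
    S.Exact ↔ ∀ U : C, B U →
      (S.map (sheafToPresheaf J AddCommGrpCat.{w} ⋙ (evaluation Cᵒᵖ AddCommGrpCat.{w}).obj (op U))).Exact := by
  constructor
  · intro hS U hU
    rw [ShortComplex.ab_exact_iff]
    intro s hs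
    obtain ⟨z, hz⟩ := Groth.Agent.Lib.Helper43.SiteExact.exists_ker S U s hs
    have hk : Sheaf.IsLocallySurjective (Groth.Agent.Lib.Helper43.SiteExact.k S) :=
      (Groth.Agent.Lib.Helper43.SiteExact.exact_iff_isLocallySurjective S).mp hS
    have hepi : Epi ((sheafCompose J (forget AddCommGrpCat.{w})).map
        (Groth.Agent.Lib.Helper43.SiteExact.k S)) := inferInstance
    obtain ⟨t, ht⟩ := hB U hU _ _ _ hepi z
    refine ⟨t, ?_⟩
    have h1 := Groth.Agent.Lib.Helper43.SiteExact.k_ι_apply S U t
    change _ = s
    rw [← hz]
    refine Eq.trans h1.symm ?_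
    exact congrArg _ ht
  · intro h
    rw [Groth.Agent.Lib.Helper43.SiteExact.exact_iff_locally]
    intro V s hs
    obtain ⟨R, hR, hR'⟩ := hcov V
    refine ⟨R, hR, ?_⟩
    intro W f hf
    obtain ⟨U, g, h', hU, rfl⟩ := hR' f hf
    have hex := h U hU
    rw [ShortComplex.ab_exact_iff] at hex
    obtain ⟨tU, htU⟩ := hex (S.X₂.obj.map h'.op s) (by
      have := NatTrans.naturality_apply S.g.hom h'.op s
      change S.g.hom.app (op U) (S.X₂.obj.map h'.op s) = 0
      rw [this, hs, map_zero])
    refine ⟨S.X₁.obj.map g.op tU, ?_⟩
    have e1 := NatTrans.naturality_apply S.f.hom g.op tU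
    rw [e1]
    have e2 : S.f.hom.app (op U) tU = S.X₂.obj.map h'.op s := htU
    rw [e2, op_comp, Functor.map_comp]
    rfl

end Groth.Agent.S19540
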