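import Groth.Statements.S9566
import Groth.Agent.Lib.Helper35.EtaleLocal
import Groth.Agent.Lib.Helper35.EtaleLocalScheme

set_option autoImplicit false
universe u
open EtLocal

namespace Groth.Agent.S9566


open AlgebraicGeometry CategoryTheory in
/-- Let Y be a locally Noetherian scheme, f : X ⟶ Y locally of finite type and x a point of X with image
y. Then f is étale on some open neighbourhood of x if and only if the map of local rings O_{Y,y} →
O_{X,x} is an étale homomorphism of local rings: it is flat, the maximal ideal of O_{Y,y} generates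
that of O_{X,x}, and the residue field of x is a finite separable extension of that of y (O_{X,x} is
automatically essentially of finite type over O_{Y,y}). -/
theorem result {X Y : Scheme.{u}} (f : X ⟶ Y)
    [LocallyOfFiniteType f] [IsLocallyNoetherian Y] (x : X) :
    (∃ U : X.Opens, x ∈ U ∧ Etale (U.ι ≫ f)) ↔
      ((f.stalkMap x).hom.Flat ∧
        (IsLocalRing.maximalIdeal (Y.presheaf.stalk (f.base x))).map (f.stalkMap x).hom =
          IsLocalRing.maximalIdeal (X.presheaf.stalk x) ∧
        letI := (f.residueFieldMap x).hom.toAlgebra
        Module.Finite (Y.residueField (f.base x)) (X.residueField x) ∧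
          Algebra.IsSeparable (Y.residueField (f.base x)) (X.residueField x)) := by
  have hfp : LocallyOfFinitePresentation f :=
    LocallyOfFinitePresentation.iff_locallyOfFiniteType.mpr inferInstance
  algebraize [(f.stalkMap x).hom]
  have : IsLocalHom (algebraMap (Y.presheaf.stalk (f x)) (X.presheaf.stalk x)) :=
    inferInstanceAs <| IsLocalHom (f.stalkMap x).hom
  have : Algebra.EssFiniteType (Y.presheaf.stalk (f x)) (X.presheaf.stalk x) := by
    rw [← RingHom.essFiniteType_algebraMap, RingHom.algebraMap_toAlgebra]
    exact LocallyOfFiniteType.stalkMap f x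
  have key := Groth.Agent.Lib.Helper35.formallyEtale_iff_local
    (Y.presheaf.stalk (f x)) (X.presheaf.stalk x)
  have hL : (∃ U : X.Opens, x ∈ U ∧ Etale (U.ι ≫ f)) ↔
      Algebra.FormallyEtale (Y.presheaf.stalk (f x)) (X.presheaf.stalk x) := by
    constructor
    · rintro ⟨U, hxU, hU⟩
      obtain ⟨h1, h2⟩ := Groth.Agent.Lib.Helper35.stalkMap_of_etale_nhd f x U hxU
      have h1' : Algebra.FormallyUnramified (Y.presheaf.stalk (f x)) (X.presheaf.stalk x) := h1
      have h2' : Algebra.FormallySmooth (Y.presheaf.stalk (f x)) (X.presheaf.stalk x) := h2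
      exact Algebra.FormallyEtale.of_formallyUnramified_and_formallySmooth
    · intro h
      have h1 : Algebra.FormallyUnramified (Y.presheaf.stalk (f x)) (X.presheaf.stalk x) := inferInstance
      have h2 : Algebra.FormallySmooth (Y.presheaf.stalk (f x)) (X.presheaf.stalk x) := inferInstance
      exact Groth.Agent.Lib.Helper35.exists_etale_nhd_of_stalkMap f x h1 h2
  rw [hL, key]
  have halg : (f.residueFieldMap x).hom.toAlgebra =
      (inferInstance : Algebra (IsLocalRing.ResidueField (Y.presheaf.stalk (f x)))
        (IsLocalRing.ResidueField (X.presheaf.stalk x))) := by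
    refine Algebra.algebra_ext _ _ fun x ↦ ?_
    obtain ⟨x, rfl⟩ := IsLocalRing.residue_surjective x
    rfl
  refine and_congr Iff.rfl (and_congr Iff.rfl ?_)
  show _ ↔ (@Module.Finite (Y.residueField (f.base x)) (X.residueField x) _ _
      (f.residueFieldMap x).hom.toAlgebra.toModule ∧
    @Algebra.IsSeparable (Y.residueField (f.base x)) (X.residueField x) _ _
      (f.residueFieldMap x).hom.toAlgebra)
  rw [halg]
  exact Iff.rfl

end Groth.Agent.S9566
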