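import Groth.Statements.S19541
import Groth.Agent.S9566
import Groth.Agent.Lib.Helper76.NodeEt2
import Groth.Agent.Lib.Helper62.SmoothStalk
import Groth.Agent.Lib.QCoh.Helper74_TorsionFreeDimOne
import Groth.Agent.Lib.Helper82.FlatDedekind

set_option autoImplicit false
universe u
open CategoryTheory CategoryTheory.Limits AlgebraicGeometry TopologicalSpace
open Curves

namespace Groth.Agent.S19541

/-- an injective map from a principal ideal domain to a domain is flat -/
theorem flat_of_injective {A B : Type u} [CommRing A] [IsDomain A] [IsPrincipalIdealRing A]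
    [CommRing B] [IsDomain B] (f : A →+* B) (hf : Function.Injective f) : f.Flat := by
  letI := f.toAlgebra
  haveI : Module.IsTorsionFree A B := by
    refine Module.IsTorsionFree.of_smul_eq_zero (fun r m h => ?_)
    rw [Algebra.smul_def, RingHom.algebraMap_toAlgebra] at h
    rcases mul_eq_zero.1 h with h | h
    · exact Or.inl (hf (h.trans (map_zero f).symm))
    · exact Or.inr h
  show Module.Flat A B
  infer_instance

/-- Pointwise criterion for a map of smooth curves to be étale: let k be an algebraically closed field,
X and Y integral schemes each smooth, separated and quasi-compact over Spec k and of dimension one,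
φ : X → Y a morphism over k and x a closed point of X. Then φ is étale at x (the restriction of φ to
some open neighbourhood of x is étale) if and only if the induced homomorphism of stalks O_{Y,φ(x)}
→ O_{X,x} carries the maximal ideal of the discrete valuation ring O_{Y,φ(x)} to an ideal generating
the maximal ideal of O_{X,x}; equivalently a uniformiser at φ(x) pulls back to a uniformiser at x.
(The published statement is for smooth curves, which are in addition geometrically connected;
integrality is what is used. For a constant φ both sides fail.) -/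
theorem result (k : Type u) [Field k] [IsAlgClosed k] {X Y : Scheme.{u}}
    (pX : X ⟶ Spec (CommRingCat.of k)) (pY : Y ⟶ Spec (CommRingCat.of k)) (φ : X ⟶ Y) (w : φ ≫ pY = pX)
    [IsIntegral X] [Smooth pX] [IsSeparated pX] [QuasiCompact pX] (hdX : topologicalKrullDim X = 1)
    [IsIntegral Y] [Smooth pY] [IsSeparated pY] [QuasiCompact pY] (hdY : topologicalKrullDim Y = 1)
    (x : X) (hx : IsClosed ({x} : Set X)) :
    (∃ U : X.Opens, x ∈ U ∧ Etale (U.ι ≫ φ)) ↔
      Ideal.map (φ.stalkMap x).hom (IsLocalRing.maximalIdeal (Y.presheaf.stalk (φ.base x))) =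
        IsLocalRing.maximalIdeal (X.presheaf.stalk x) := by
  letI instX : X.Over (Spec (CommRingCat.of k)) := ⟨pX⟩
  letI instY : Y.Over (Spec (CommRingCat.of k)) := ⟨pY⟩
  haveI : LocallyOfFiniteType pX := inferInstance
  haveI : LocallyOfFiniteType pY := inferInstance
  haveI : LocallyOfFiniteType (X ↘ Spec (CommRingCat.of k)) :=
    (inferInstance : LocallyOfFiniteType pX)
  haveI : LocallyOfFiniteType φ := by
    haveI : LocallyOfFiniteType (φ ≫ pY) := by rw [w]; infer_instance
    exact locallyOfFiniteType_of_comp φ pY
  haveI : IsLocallyNoetherian Y := LocallyOfFiniteType.isLocallyNoetherian pY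
  refine (Groth.Agent.S9566.result φ x).trans ⟨fun h => h.2.1, fun hm => ?_⟩
  refine ⟨?_, hm, ?_⟩
  · -- flatness
    haveI : IsRegularLocalRing (Y.presheaf.stalk (φ.base x)) :=
      Groth.Agent.Lib.Helper62.SmoothStalk.isRegularLocalRing_stalk pY _
    have hdim : ringKrullDim (Y.presheaf.stalk (φ.base x)) ≤ 1 :=
      (Groth.Agent.Lib.QCoh.TFDimOne74.ringKrullDim_stalk_le Y _).trans hdY.le
    haveI : IsPrincipalIdealRing (Y.presheaf.stalk (φ.base x)) :=
      Groth.Agent.Lib.QCoh.TFDimOne74.isPrincipalIdealRing_of_isRegularLocalRing _ hdim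
    apply flat_of_injective
    rw [injective_iff_map_eq_zero]
    intro a ha
    by_contra ha0
    have hker : RingHom.ker (φ.stalkMap x).hom ≠ ⊥ := fun h => ha0 (by
      have hmem : a ∈ RingHom.ker (φ.stalkMap x).hom := ha
      rw [h] at hmem
      exact hmem)
    haveI hprime : (RingHom.ker (φ.stalkMap x).hom).IsPrime := RingHom.ker_isPrime _
    have hmax : (RingHom.ker (φ.stalkMap x).hom).IsMaximal :=
      IsPrime.to_maximal_ideal hker
    have heq := IsLocalRing.eq_maximalIdeal hmax
    have hbot : IsLocalRing.maximalIdeal (X.presheaf.stalk x) = ⊥ := by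
      rw [← hm, ← heq]
      exact (Ideal.map_eq_bot_iff_le_ker _).2 le_rfl
    have hgen :=
      Groth.Agent.Lib.Helper82.FlatDedekind.eq_genericPoint_of_maximalIdeal_eq_bot x hbot
    have h1 : closure ({x} : Set X) = Set.univ := by
      rw [hgen]
      exact genericPoint_spec X
    rw [hx.closure_eq] at h1
    haveI hsub : Subsingleton X := ⟨fun a b => by
      have ha' : a ∈ ({x} : Set X) := h1 ▸ Set.mem_univ a
      have hb' : b ∈ ({x} : Set X) := h1 ▸ Set.mem_univ b
      rw [Set.mem_singleton_iff.1 ha', Set.mem_singleton_iff.1 hb']⟩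
    have h0 := topologicalKrullDim_zero_of_discreteTopology X
    rw [hdX] at h0
    exact absurd h0 (not_le.2 zero_lt_one)
  · -- residue field extension is trivial
    letI := (φ.residueFieldMap x).hom.toAlgebra
    have hcomp : (φ.residueFieldMap x).hom.comp (Curv2.resMap k Y (φ.base x)) =
        Curv2.resMap k X x := by
      ext t
      have e1 := ConcreteCategory.congr_hom (Scheme.residue_residueFieldMap φ x)
        (Curv2.stalkMap k Y (φ.base x) t)
      have e2 := RingHom.congr_fun (Groth.Agent.Lib.Helper76.NodeEt.stalkMap_comp k φ w x) t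
      exact e1.trans (congrArg (X.residue x).hom e2)
    have hbij := IsAlgClosed.ringHom_bijective_of_isIntegral (Curv2.resMap k X x)
      (Groth.Agent.Lib.Helper76.NodeBC.resMap_isIntegral k X x hx)
    have hsurj : Function.Surjective (φ.residueFieldMap x).hom := by
      intro b
      obtain ⟨t, rfl⟩ := hbij.2 b
      exact ⟨Curv2.resMap k Y (φ.base x) t, RingHom.congr_fun hcomp t⟩
    refine ⟨Module.Finite.of_surjective (Algebra.linearMap _ _) hsurj, ⟨fun b => ?_⟩⟩
    obtain ⟨a, rfl⟩ := hsurj b
    exact isSeparable_algebraMap a

end Groth.Agent.S19541
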