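import Groth.Statements.S19544
import Groth.Agent.Lib.Helper54.SerreSplit

set_option autoImplicit false
universe u
open CAlg

namespace Groth.Agent.S19544

/-- Let R be a Noetherian ring of Krull dimension d and P a finitely generated projective R-module of
constant rank n at every prime of R, with n > d. Then P is isomorphic to P₀ ⊕ R^(n-d) for some
module P₀; concretely, P has complementary submodules P₀ and Q with Q free of rank n - d. -/
theorem result (R : Type u) [CommRing R]
    [IsNoetherianRing R] (d n : ℕ) (hdim : ringKrullDim R = d)
    (P : Type u) [AddCommGroup P] [Module R P] [Module.Finite R P] [Module.Projective R P]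
    (hrk : ∀ p : PrimeSpectrum R, Module.rankAtStalk (R := R) P p = n) (hnd : d < n) :
    ∃ (P₀ Q : Submodule R P), IsCompl P₀ Q ∧ Nonempty (Q ≃ₗ[R] (Fin (n - d) → R)) := by
  classical
  haveI := Groth.Agent.Lib.Helper54.Serre.noetherianSpace_maximalSpectrum (R := R)
  have hdim' := Groth.Agent.Lib.Helper54.Serre.dim_maximalSpectrum_le (R := R) d hdim
  obtain ⟨i, r, hri⟩ := Groth.Agent.Lib.Helper54.Serre.exists_split_free d hdim' (n - d) P
    (fun p => by rw [hrk p]; omega)
  have hinj : Function.Injective i := by
    intro x y hxy
    have := congrArg r hxy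
    rwa [← LinearMap.comp_apply, ← LinearMap.comp_apply, hri] at this
  have hsurj : Function.Surjective r := fun x => ⟨i x, LinearMap.congr_fun hri x⟩
  let f : P →ₗ[R] P := i ∘ₗ r
  have hf : IsIdempotentElem f := by
    show f * f = f
    apply LinearMap.ext
    intro x
    show i (r (i (r x))) = i (r x)
    rw [show r (i (r x)) = r x from LinearMap.congr_fun hri (r x)]
  have hrange : LinearMap.range f = LinearMap.range i := by
    rw [LinearMap.range_comp, LinearMap.range_eq_top.2 hsurj, Submodule.map_top]
  have hker : LinearMap.ker f = LinearMap.ker r := by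
    rw [LinearMap.ker_comp, LinearMap.ker_eq_bot.2 hinj, Submodule.comap_bot]
  have hcompl := LinearMap.IsIdempotentElem.isCompl hf
  rw [hrange, hker] at hcompl
  exact ⟨LinearMap.ker r, LinearMap.range i, hcompl.symm, ⟨(LinearEquiv.ofInjective i hinj).symm⟩⟩

end Groth.Agent.S19544
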