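import Groth.Statements.S19545
import Groth.Agent.Lib.Helper54.SerreProj

set_option autoImplicit false
universe u
open CAlg

namespace Groth.Agent.S19545

/-- Let R be a Noetherian ring of Krull dimension d and P, P' finitely generated projective R-modules of
constant rank n > d at every prime which are stably isomorphic, i.e. P ⊕ R^m ≅ P' ⊕ R^m for some m.
Then P ≅ P'. -/
theorem result (R : Type u)
    [CommRing R] [IsNoetherianRing R] (d n : ℕ) (hdim : ringKrullDim R = d)
    (P P' : Type u) [AddCommGroup P] [Module R P] [Module.Finite R P] [Module.Projective R P]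
    [AddCommGroup P'] [Module R P'] [Module.Finite R P'] [Module.Projective R P']
    (hrk : ∀ p : PrimeSpectrum R, Module.rankAtStalk (R := R) P p = n)
    (hrk' : ∀ p : PrimeSpectrum R, Module.rankAtStalk (R := R) P' p = n) (hnd : d < n)
    (m : ℕ) (e : (P × (Fin m → R)) ≃ₗ[R] (P' × (Fin m → R))) :
    Nonempty (P ≃ₗ[R] P') := by
  classical
  haveI := Groth.Agent.Lib.Helper54.Serre.noetherianSpace_maximalSpectrum (R := R)
  have hdim' := Groth.Agent.Lib.Helper54.Serre.dim_maximalSpectrum_le (R := R) d hdim
  -- reassociation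
  have κ : ∀ (Q : Type u) [AddCommGroup Q] [Module R Q] (k : ℕ),
      (Q × (Fin (k + 1) → R)) ≃ₗ[R] ((Q × (Fin k → R)) × R) := fun Q _ _ k =>
    (LinearEquiv.prodCongr (LinearEquiv.refl R Q)
      ((Fin.consLinearEquiv R (fun _ : Fin (k + 1) => R)).symm.trans
        (LinearEquiv.prodComm R R (Fin k → R)))).trans
      (LinearEquiv.prodAssoc R Q (Fin k → R) R).symm
  induction m with
  | zero =>
    exact ⟨(LinearEquiv.prodUnique (R := R) (M := P) (M₂ := Fin 0 → R)).symm.trans
      (e.trans (LinearEquiv.prodUnique (R := R) (M := P') (M₂ := Fin 0 → R)))⟩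
  | succ m ih =>
    let ε : ((P × (Fin m → R)) × R) ≃ₗ[R] ((P' × (Fin m → R)) × R) :=
      (κ P m).symm.trans (e.trans (κ P' m))
    have hA : Groth.Agent.Lib.Helper54.Serre.HasDetRank R (P × (Fin m → R)) (d + 1) := by
      apply Groth.Agent.Lib.Helper54.Serre.hasDetRank_of_rankAtStalk
      intro p
      have h1 := congrFun (Module.rankAtStalk_prod (R := R) P (Fin m → R)) p
      rw [h1, Pi.add_apply, hrk p]
      omega
    obtain ⟨e'⟩ := Groth.Agent.Lib.Helper54.Serre.cancel_one d hdim' hA ε
    exact ih e'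

end Groth.Agent.S19545
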