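import Groth.Statements.S19550
import Groth.Agent.S15610

set_option autoImplicit false
universe u
open SchFin SchFin.RSpace

namespace Groth.Agent.S19550

theorem algHom_pi_eq_eval {R : Type u} [CommRing R] [Nontrivial R]
    (hid : ∀ e : R, IsIdempotentElem e → e = 0 ∨ e = 1) {F : Type} [Finite F]
    (h : (F → R) →ₐ[R] R) : ∃ i : F, ∀ g : F → R, h g = g i := by
  classical
  cases nonempty_fintype F
  have h01 : ∀ i : F, h (Pi.single i 1) = 0 ∨ h (Pi.single i 1) = 1 := by
    intro i
    apply hid
    change h (Pi.single i 1) * h (Pi.single i 1) = h (Pi.single i 1)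
    rw [← map_mul, ← Pi.single_mul, mul_one]
  have hsum : ∑ i : F, h (Pi.single i (1 : R)) = 1 := by
    rw [← map_sum, Finset.univ_sum_single]
    exact map_one h
  have hex : ∃ i : F, h (Pi.single i (1 : R)) = 1 := by
    by_contra hne
    push Not at hne
    have : ∀ i : F, h (Pi.single i (1 : R)) = 0 := fun i => (h01 i).resolve_right (hne i)
    rw [Finset.sum_congr rfl (fun i _ => this i), Finset.sum_const_zero] at hsum
    exact zero_ne_one hsum
  obtain ⟨i, hi⟩ := hex
  refine ⟨i, fun g => ?_⟩
  have hj : ∀ j : F, j ≠ i → h (Pi.single j (1 : R)) = 0 := by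
    intro j hji
    have : h (Pi.single j (1 : R)) * h (Pi.single i (1 : R)) = 0 := by
      rw [← map_mul]
      have : (Pi.single j (1 : R) : F → R) * Pi.single i (1 : R) = 0 := by
        funext k
        by_cases hk : k = j
        · subst hk; simp [Pi.single_eq_of_ne hji]
        · simp [Pi.single_eq_of_ne hk]
      rw [this, map_zero]
    rwa [hi, mul_one] at this
  have hg : g = ∑ j : F, g j • (Pi.single j (1 : R) : F → R) := by
    funext k
    simp [Finset.sum_apply, Pi.single_apply]
  rw [hg, map_sum]
  simp only [map_smul, smul_eq_mul]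
  rw [Finset.sum_eq_single i]
  · rw [hi, mul_one]
    simp [Finset.sum_apply, Pi.single_apply]
  · intro j _ hji
    rw [hj j hji, mul_zero]
  · intro hni
    exact absurd (Finset.mem_univ i) hni


open SchFin in
/-- Let X be a well-connected schematic finite space and f : A → B a morphism of quasi-coherent algebras
between trivial étale covers A ≅ O_X^F and B ≅ O_X^E, F and E finite sets. Then f is induced by a
map of finite sets φ : E → F. Here the trivial algebras are written out: f is a family of
O_p-algebra maps (F → O_p) → (E → O_p), one for each point p, compatible with the restriction maps,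
and the conclusion says f_p(g) = g ∘ φ for every p and g. (The published statement names a map F →
E; a map of algebras of functions O^F → O^E is composition with a map E → F, which is what this row
states.) -/
theorem result (X : RSpace.{u})
    (hX : X.IsSchematic) (hW : X.IsWellConnected) (F E : Type) [Finite F] [Finite E]
    (f : ∀ p : X.pt, (F → X.ring p) →ₐ[X.ring p] (E → X.ring p))
    (hf : ∀ (p q : X.pt) (h : p ≤ q) (g : F → X.ring p) (e : E),
      X.res h (f p g e) = f q (fun i => X.res h (g i)) e) :
    ∃ φ : E → F, ∀ (p : X.pt) (g : F → X.ring p) (e : E), f p g e = g (φ e) := by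
  classical
  obtain ⟨⟨hne, hconn⟩, hpw⟩ := (Groth.Agent.S15610.result X hX).mp hW
  have hntr : ∀ r : X.pt, Nontrivial (X.ring r) := fun r =>
    ((Groth.Agent.S15610.connectedSpace_iff_idem _).mp (hpw r)).1
  have hidp : ∀ r : X.pt, ∀ e : X.ring r, IsIdempotentElem e → e = 0 ∨ e = 1 := fun r =>
    ((Groth.Agent.S15610.connectedSpace_iff_idem _).mp (hpw r)).2
  have hloc : ∀ (p : X.pt) (e : E), ∃ i : F, ∀ g : F → X.ring p, f p g e = g i := by
    intro p e
    have := hntr p
    obtain ⟨i, hi⟩ := algHom_pi_eq_eval (hidp p)
      ((Pi.evalAlgHom (X.ring p) (fun _ : E => X.ring p) e).comp (f p))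
    exact ⟨i, fun g => hi g⟩
  choose φ hφ using hloc
  have hstep : ∀ p q : X.pt, p ≤ q → φ p = φ q := by
    intro p q hpq
    funext e
    have h1 : f p (Pi.single (φ p e) 1) e = 1 := by rw [hφ]; simp
    have h2 := hf p q hpq (Pi.single (φ p e) 1) e
    rw [h1, map_one, hφ] at h2
    by_contra hne'
    have : X.res hpq ((Pi.single (φ p e) (1 : X.ring p) : F → X.ring p) (φ q e)) = 0 := by
      rw [Pi.single_eq_of_ne (Ne.symm hne'), map_zero]
    rw [this] at h2
    have := hntr q
    exact one_ne_zero h2
  have hall : ∀ p q : X.pt, Relation.EqvGen (fun a b : X.pt => a ≤ b) p q → φ p = φ q := by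
    intro p q hpq
    induction hpq with
    | rel a b h => exact hstep a b h
    | refl a => rfl
    | symm a b _ ih => exact ih.symm
    | trans a b c _ _ ih1 ih2 => exact ih1.trans ih2
  obtain ⟨p₀⟩ := hne
  refine ⟨φ p₀, fun p g e => ?_⟩
  rw [hφ, hall p p₀ (hconn p p₀)]

end Groth.Agent.S19550
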