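import Groth.Statements.S19551
import Mathlib

set_option autoImplicit false
universe u v w
open KronMod

namespace Groth.Agent.S19551

/-- Case of two arrows. Over an algebraically closed field K, if a Kronecker module f = (f_0, f_1) with
two arrows between spaces V and W of the same finite dimension k is semistable, then some linear
combination z_0 f_0 + z_1 f_1 of its arrows is a linear isomorphism V → W: for two arrows the
semistable locus of dimension vector (k, k) lies in the open set of modules whose generic
combination is invertible, for every k. (The published statement, over an algebraically closed field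
of characteristic zero, also covers the dimension vectors (1, 1) and (2, 2) for any number of
arrows; this row states the two-arrow case for all k, without the characteristic assumption.) -/
theorem result (K : Type u) [Field K] [IsAlgClosed K]
    (V : Type v) (W : Type w)
    [AddCommGroup V] [Module K V] [FiniteDimensional K V]
    [AddCommGroup W] [Module K W] [FiniteDimensional K W]
    (f : Fin 2 → (V →ₗ[K] W)) (k : ℕ)
    (hV : Module.finrank K V = k) (hW : Module.finrank K W = k)
    (hf : KronMod.IsSemistable f) :
    ∃ z : Fin 2 → K, Function.Bijective ((∑ j, z j • f j : V →ₗ[K] W) : V → W) := by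
  classical
  by_contra hcon
  push Not at hcon
  have hk : 0 < k := by
    have := hf.1
    omega
  let bV : Module.Basis (Fin k) K V := Module.finBasisOfFinrankEq K V hV
  let bW : Module.Basis (Fin k) K W := Module.finBasisOfFinrankEq K W hW
  let A₀ := LinearMap.toMatrix bV bW (f 0)
  let A₁ := LinearMap.toMatrix bV bW (f 1)
  -- all combinations `f 0 + a • f 1` are singular
  have hsing : ∀ a : K, (A₀ + a • A₁).det = 0 := by
    intro a
    by_contra hdet
    have hu : IsUnit (LinearMap.toMatrix bV bW (f 0 + a • f 1)).det := by
      rw [map_add, map_smul]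
      exact isUnit_iff_ne_zero.mpr hdet
    apply hcon ![1, a]
    have : (∑ j, (![1, a] : Fin 2 → K) j • f j : V →ₗ[K] W) = f 0 + a • f 1 := by
      rw [Fin.sum_univ_two]; simp
    rw [this, ← LinearEquiv.coe_ofIsUnitDet hu]
    exact (LinearEquiv.ofIsUnitDet hu).bijective
  -- polynomial matrix
  let M : Matrix (Fin k) (Fin k) (Polynomial K) :=
    Matrix.of fun r j => Polynomial.C (A₀ r j) + Polynomial.X * Polynomial.C (A₁ r j)
  have hMdet : M.det = 0 := by
    apply Polynomial.funext
    intro a
    rw [Polynomial.eval_zero, ← Polynomial.coe_evalRingHom, RingHom.map_det]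
    have : (Polynomial.evalRingHom a).mapMatrix M = A₀ + a • A₁ := by
      ext r j
      simp [M]
      exact mul_comm _ _
    rw [this, hsing a]
  obtain ⟨v, hv0, hMv⟩ := Matrix.exists_mulVec_eq_zero_iff.mpr hMdet
  -- coefficient vectors
  let c : ℕ → (Fin k → K) := fun i j => (v j).coeff i
  let u : ℕ → V := fun i => bV.equivFun.symm (c i)
  have hrepr : ∀ i, ⇑(bV.repr (u i)) = c i := by
    intro i
    have := bV.equivFun.apply_symm_apply (c i)
    rw [Module.Basis.equivFun_apply] at this
    exact this
  have hrel0 : f 0 (u 0) = 0 := by
    apply bW.repr.injective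
    rw [map_zero]
    ext r
    rw [← LinearMap.toMatrix_mulVec_repr bV bW (f 0) (u 0), hrepr]
    have h := congrArg (fun p => Polynomial.coeff p 0) (congrFun hMv r)
    simp only [Matrix.mulVec, dotProduct, M, Matrix.of_apply, Pi.zero_apply,
      Polynomial.coeff_zero, Polynomial.finsetSum_coeff] at h
    simp only [Finsupp.coe_zero, Pi.zero_apply, Matrix.mulVec, dotProduct]
    rw [← h]
    refine Finset.sum_congr rfl fun j _ => ?_
    simp [add_mul, mul_assoc, Polynomial.coeff_C_mul, Polynomial.coeff_X_mul_zero, c]
    left; rfl
  have hrel : ∀ i, f 0 (u (i + 1)) + f 1 (u i) = 0 := by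
    intro i
    apply bW.repr.injective
    rw [map_zero, map_add]
    ext r
    rw [Finsupp.add_apply, ← LinearMap.toMatrix_mulVec_repr bV bW (f 0) (u (i + 1)),
      ← LinearMap.toMatrix_mulVec_repr bV bW (f 1) (u i), hrepr, hrepr]
    have h := congrArg (fun p => Polynomial.coeff p (i + 1)) (congrFun hMv r)
    simp only [Matrix.mulVec, dotProduct, M, Matrix.of_apply, Pi.zero_apply,
      Polynomial.coeff_zero, Polynomial.finsetSum_coeff] at h
    simp only [Finsupp.coe_zero, Pi.zero_apply, Matrix.mulVec, dotProduct]
    rw [← h, ← Finset.sum_add_distrib]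
    refine Finset.sum_congr rfl fun j _ => ?_
    simp [add_mul, mul_assoc, Polynomial.coeff_C_mul, Polynomial.coeff_X_mul, c]
    rfl
  -- some `u i` is nonzero
  have hex : ∃ i, u i ≠ 0 := by
    by_contra hall
    push Not at hall
    apply hv0
    ext j i
    have h1 : c i = 0 := by
      rw [← hrepr, hall i, map_zero]; rfl
    simpa [c] using congrFun h1 j
  let i₀ := Nat.find hex
  have hi₀ : u i₀ ≠ 0 := Nat.find_spec hex
  have hker : f 0 (u i₀) = 0 := by
    rcases Nat.eq_zero_or_pos i₀ with h0 | hpos
    · rw [h0]; exact hrel0
    · obtain ⟨m, hm⟩ := Nat.exists_eq_succ_of_ne_zero hpos.ne'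
      have hmin : u m = 0 := by
        by_contra hne
        have := Nat.find_min' hex hne
        omega
      have := hrel m
      rw [hmin, map_zero, add_zero, ← Nat.succ_eq_add_one, ← hm] at this
      exact this
  let V' : Submodule K V := Submodule.span K (Set.range u)
  let W' : Submodule K W := V'.map (f 0)
  have hsub : KronMod.IsSubrep f V' W' := by
    intro j
    fin_cases j
    · exact le_refl _
    · change V'.map (f 1) ≤ W'
      rw [Submodule.map_span, Submodule.span_le]
      rintro _ ⟨_, ⟨i, rfl⟩, rfl⟩
      have h1 : f 1 (u i) = f 0 (-(u (i + 1))) := by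
        rw [map_neg]
        have := hrel i
        exact eq_neg_of_add_eq_zero_right this
      rw [h1]
      exact Submodule.mem_map_of_mem (V'.neg_mem (Submodule.subset_span ⟨i + 1, rfl⟩))
  have hmemV' : u i₀ ∈ V' := Submodule.subset_span ⟨i₀, rfl⟩
  have hlt : Module.finrank K W' < Module.finrank K V' := by
    have h1 := LinearMap.finrank_range_add_finrank_ker ((f 0).domRestrict V')
    have h2 : LinearMap.range ((f 0).domRestrict V') = W' := LinearMap.range_domRestrict _ _
    have h3 : 0 < Module.finrank K (LinearMap.ker ((f 0).domRestrict V')) := by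
      rw [Module.finrank_pos_iff_exists_ne_zero]
      refine ⟨⟨⟨u i₀, hmemV'⟩, ?_⟩, ?_⟩
      · rw [LinearMap.mem_ker]; exact hker
      · intro h
        apply hi₀
        have := congrArg (fun x => (x.1 : V)) h
        simpa using this
    rw [h2] at h1
    omega
  have hss := hf.2 V' W' hsub ?_ ?_
  · rw [hV, hW] at hss
    have := Nat.le_of_mul_le_mul_left hss hk
    omega
  · rintro ⟨h1, -⟩
    rw [h1] at hmemV'
    exact hi₀ ((Submodule.mem_bot K).mp hmemV')
  · rintro ⟨h1, h2⟩
    rw [h1, h2, finrank_top, finrank_top, hV, hW] at hlt
    exact lt_irrefl _ hlt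

end Groth.Agent.S19551
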