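import Groth.Statements.S19552
import Groth.Agent.S19545

set_option autoImplicit false
universe u
open CAlg

namespace Groth.Agent.S19552

/-- Let R be a Noetherian ring of Krull dimension d and P, Q finitely generated projective R-modules of
constant rank at every prime which have the same class in the Grothendieck group, i.e. are stably
isomorphic: P ⊕ R^m ≅ Q ⊕ R^m for some m. Then there is a positive integer N with P^N ≅ Q^N. (The
two exponents in the published display are read as the same integer N; for modules of positive rank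
an isomorphism between direct powers forces equal exponents.) -/
theorem result (R : Type u) [CommRing R] [IsNoetherianRing R]
    (d n : ℕ) (hdim : ringKrullDim R = d)
    (P Q : Type u) [AddCommGroup P] [Module R P] [Module.Finite R P] [Module.Projective R P]
    [AddCommGroup Q] [Module R Q] [Module.Finite R Q] [Module.Projective R Q]
    (hrk : ∀ p : PrimeSpectrum R, Module.rankAtStalk (R := R) P p = n)
    (hrk' : ∀ p : PrimeSpectrum R, Module.rankAtStalk (R := R) Q p = n)
    (m : ℕ) (e : (P × (Fin m → R)) ≃ₗ[R] (Q × (Fin m → R))) :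
    ∃ N : ℕ, 1 ≤ N ∧ Nonempty ((Fin N → P) ≃ₗ[R] (Fin N → Q)) := by
  classical
  by_cases hn : n = 0
  · subst hn
    haveI hP : Subsingleton P :=
      Module.rankAtStalk_eq_zero_iff_subsingleton.1 (funext hrk)
    haveI hQ : Subsingleton Q :=
      Module.rankAtStalk_eq_zero_iff_subsingleton.1 (funext hrk')
    exact ⟨1, le_rfl, ⟨LinearEquiv.ofSubsingleton _ _⟩⟩
  · refine ⟨d + 1, by omega, ?_⟩
    have split : ∀ (A : Type u) [AddCommGroup A] [Module R A],
        (Fin (d + 1) → A × (Fin m → R)) ≃ₗ[R] (Fin (d + 1) → A) × (Fin (d + 1) → (Fin m → R)) :=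
      fun A _ _ =>
      { toFun := fun f => (fun i => (f i).1, fun i => (f i).2)
        invFun := fun g => fun i => (g.1 i, g.2 i)
        map_add' := fun _ _ => rfl
        map_smul' := fun _ _ => rfl
        left_inv := fun _ => rfl
        right_inv := fun _ => rfl }
    let flat : (Fin (d + 1) → (Fin m → R)) ≃ₗ[R] (Fin ((d + 1) * m) → R) :=
      (LinearEquiv.curry R R (Fin (d + 1)) (Fin m)).symm.trans
        (LinearEquiv.funCongrLeft R R finProdFinEquiv.symm)
    let E : ((Fin (d + 1) → P) × (Fin ((d + 1) * m) → R)) ≃ₗ[R]
        ((Fin (d + 1) → Q) × (Fin ((d + 1) * m) → R)) :=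
      (LinearEquiv.prodCongr (LinearEquiv.refl R _) flat).symm.trans
        ((split P).symm.trans ((LinearEquiv.piCongrRight fun _ => e).trans
          ((split Q).trans (LinearEquiv.prodCongr (LinearEquiv.refl R _) flat))))
    haveI : Module.Projective R (Fin (d + 1) → P) :=
      Module.Projective.of_equiv (DFinsupp.linearEquivFunOnFintype (R := R)
        (M := fun _ : Fin (d + 1) => P))
    haveI : Module.Projective R (Fin (d + 1) → Q) :=
      Module.Projective.of_equiv (DFinsupp.linearEquivFunOnFintype (R := R)
        (M := fun _ : Fin (d + 1) => Q))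
    have hrkN : ∀ p : PrimeSpectrum R,
        Module.rankAtStalk (R := R) (Fin (d + 1) → P) p = (d + 1) * n := by
      intro p
      rw [Module.rankAtStalk_pi (fun _ : Fin (d + 1) => P) p, finsum_eq_sum_of_fintype]
      simp [hrk p]
    have hrkN' : ∀ p : PrimeSpectrum R,
        Module.rankAtStalk (R := R) (Fin (d + 1) → Q) p = (d + 1) * n := by
      intro p
      rw [Module.rankAtStalk_pi (fun _ : Fin (d + 1) => Q) p, finsum_eq_sum_of_fintype]
      simp [hrk' p]
    have hlt : d < (d + 1) * n := by
      have : 1 ≤ n := Nat.one_le_iff_ne_zero.2 hn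
      nlinarith
    exact Groth.Agent.S19545.result R d ((d + 1) * n) hdim (Fin (d + 1) → P) (Fin (d + 1) → Q)
      hrkN hrkN' hlt ((d + 1) * m) E

end Groth.Agent.S19552
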