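import Groth.Statements.S19560
import Mathlib
-- import your own Groth.Agent.* helpers here

set_option autoImplicit false
universe u
open W4c1limliniiii

namespace Groth.Agent.S19560

section helpers
open Polynomial

variable {k : Type u} [Field k]

lemma core (p : ℕ) [CharP k p] (A B : k[X]) (a : k) (hA : A.eval a ≠ 0) (hB : B.eval a = 0)
    (hW : wronskian A B ≠ 0) (hp : p = 0 ∨ (wronskian A B).rootMultiplicity a < p) :
    B.rootMultiplicity a = (wronskian A B).rootMultiplicity a + 1 ∧
      ¬ p ∣ B.rootMultiplicity a := by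
  have hB0 : B ≠ 0 := by
    rintro rfl
    exact hW (wronskian_zero_right A)
  have hμpos : 0 < B.rootMultiplicity a := (rootMultiplicity_pos hB0).mpr hB
  obtain ⟨Q, hBQ, hndvd⟩ := exists_eq_pow_rootMultiplicity_mul_and_not_dvd B hB0 a
  have hQa : Q.eval a ≠ 0 := fun h => hndvd (dvd_iff_isRoot.mpr h)
  obtain ⟨ν, hν⟩ : ∃ ν, B.rootMultiplicity a = ν + 1 := ⟨B.rootMultiplicity a - 1, by omega⟩
  rw [hν] at hBQ
  have hWf : wronskian A B = (X - C a) ^ ν * (C ((ν + 1 : ℕ) : k) * A * Q +
      (X - C a) * (A * derivative Q - derivative A * Q)) := by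
    rw [wronskian, hBQ, derivative_mul, derivative_X_sub_C_pow]
    simp only [Nat.add_sub_cancel]
    ring
  have hTa : (C ((ν + 1 : ℕ) : k) * A * Q +
      (X - C a) * (A * derivative Q - derivative A * Q)).eval a
        = ((ν + 1 : ℕ) : k) * A.eval a * Q.eval a := by
    simp
  by_cases hμ : ((ν + 1 : ℕ) : k) = 0
  · exfalso
    have hdvd : p ∣ ν + 1 := (CharP.cast_eq_zero_iff k p (ν + 1)).mp hμ
    have hle : ν + 1 ≤ (wronskian A B).rootMultiplicity a := by
      rw [le_rootMultiplicity_iff hW, hWf, hμ, C_0, zero_mul, zero_mul, zero_add, ← mul_assoc,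
        ← pow_succ]
      exact dvd_mul_right _ _
    rcases hp with hp | hp
    · rw [hp, zero_dvd_iff] at hdvd; omega
    · have := Nat.le_of_dvd (by omega) hdvd; omega
  · have hTa' : ¬ IsRoot (C ((ν + 1 : ℕ) : k) * A * Q +
        (X - C a) * (A * derivative Q - derivative A * Q)) a := by
      rw [IsRoot, hTa]; exact mul_ne_zero (mul_ne_zero hμ hA) hQa
    have hne : (X - C a) ^ ν * (C ((ν + 1 : ℕ) : k) * A * Q +
        (X - C a) * (A * derivative Q - derivative A * Q)) ≠ 0 := by
      rw [← hWf]; exact hW
    have hord : (wronskian A B).rootMultiplicity a = ν := by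
      rw [hWf, rootMultiplicity_mul hne, rootMultiplicity_X_sub_C_pow,
        rootMultiplicity_eq_zero hTa', add_zero]
    refine ⟨by rw [hν, hord], ?_⟩
    rw [hν]
    intro hdvd
    exact hμ ((CharP.cast_eq_zero_iff k p (ν + 1)).mpr hdvd)

end helpers


open Polynomial in
/-- Let k be an algebraically closed field of characteristic p (a prime or zero) and let F, G be
polynomials spanning a base-point-free pencil V of degree d (a two-dimensional space of polynomials
of degree at most d containing one of degree d and with no common zero in k), so that V encodes a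
degree-d self-map F/G of the projective line up to automorphisms of the target. Suppose the
Wronskian W = F′G − FG′ is non-zero and vanishes at the point a to order exactly e − 1 with e ≥ 1,
and that p = 0 or e − 1 < p. Then the map is tamely ramified at a with index e: the largest order of
vanishing at a of a non-zero member of V is e, and p does not divide e. (The hypothesis W ≠ 0 makes
the order of vanishing meaningful; for W = 0 the map is inseparable.) -/
theorem result
    (k : Type u) [Field k] [IsAlgClosed k] (p : ℕ) [CharP k p]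
    (d : ℕ) (F G : k[X]) (hV : W4c1limliniiii.IsPencil d (Submodule.span k {F, G}))
    (hW : Polynomial.wronskian F G ≠ 0) (a : k) (e : ℕ)
    (he : (Polynomial.wronskian F G).rootMultiplicity a + 1 = e) (hp : p = 0 ∨ e - 1 < p) :
    W4c1limliniiii.HasRamIdx (Submodule.span k {F, G}) a e ∧ ¬ p ∣ e := by
  obtain ⟨hle, hfr, hdeg, hbpf⟩ := hV
  have hFG : F.eval a ≠ 0 ∨ G.eval a ≠ 0 := by
    obtain ⟨s, hs, hsa⟩ := hbpf a
    obtain ⟨x, y, rfl⟩ := Submodule.mem_span_pair.mp hs
    by_contra hcon
    push Not at hcon
    apply hsa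
    simp [hcon.1, hcon.2]
  obtain ⟨A, B, hAa, hBV, hBa, ⟨c, hc0, hcW⟩, hprop⟩ : ∃ A B : k[X], A.eval a ≠ 0 ∧
      B ∈ Submodule.span k {F, G} ∧ B.eval a = 0 ∧
      (∃ c : k, c ≠ 0 ∧ Polynomial.wronskian A B = c • Polynomial.wronskian F G) ∧
      (∀ s ∈ Submodule.span k {F, G}, s.eval a = 0 → ∃ l : k, s = l • B) := by
    have hBmem : G.eval a • F - F.eval a • G ∈ Submodule.span k {F, G} :=
      Submodule.sub_mem _ (Submodule.smul_mem _ _ (Submodule.subset_span (by simp)))
        (Submodule.smul_mem _ _ (Submodule.subset_span (by simp)))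
    have hBa : (G.eval a • F - F.eval a • G).eval a = 0 := by
      simp only [Polynomial.eval_sub, Polynomial.eval_smul, smul_eq_mul]; ring
    rcases hFG with hF | hG
    · refine ⟨F, G.eval a • F - F.eval a • G, hF, hBmem, hBa,
        ⟨-F.eval a, neg_ne_zero.mpr hF, ?_⟩, ?_⟩
      · rw [← Polynomial.wronskianBilin_apply, map_sub, map_smul, map_smul,
          Polynomial.wronskianBilin_apply, Polynomial.wronskianBilin_apply,
          Polynomial.wronskian_self_eq_zero, smul_zero, zero_sub, neg_smul]
      · intro s hs hsa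
        obtain ⟨x, y, rfl⟩ := Submodule.mem_span_pair.mp hs
        have h1 : x * F.eval a + y * G.eval a = 0 := by simpa using hsa
        refine ⟨-y / F.eval a, ?_⟩
        have hx : x = -y / F.eval a * G.eval a := by field_simp; linear_combination h1
        have h2 : -y / F.eval a * F.eval a = -y := by field_simp
        rw [smul_sub, smul_smul, smul_smul, ← hx, h2, neg_smul, sub_neg_eq_add]
    · refine ⟨G, G.eval a • F - F.eval a • G, hG, hBmem, hBa,
        ⟨-G.eval a, neg_ne_zero.mpr hG, ?_⟩, ?_⟩
      · rw [← Polynomial.wronskianBilin_apply, map_sub, map_smul, map_smul,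
          Polynomial.wronskianBilin_apply, Polynomial.wronskianBilin_apply,
          Polynomial.wronskian_self_eq_zero, smul_zero, sub_zero,
          ← Polynomial.wronskian_neg_eq F G, smul_neg, neg_smul]
      · intro s hs hsa
        obtain ⟨x, y, rfl⟩ := Submodule.mem_span_pair.mp hs
        have h1 : x * F.eval a + y * G.eval a = 0 := by simpa using hsa
        refine ⟨x / G.eval a, ?_⟩
        have hy : y = -(x / G.eval a * F.eval a) := by field_simp; linear_combination h1
        have h2 : x / G.eval a * G.eval a = x := by field_simp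
        rw [smul_sub, smul_smul, smul_smul, h2, sub_eq_add_neg, ← neg_smul, ← hy]
  have hWAB : Polynomial.wronskian A B ≠ 0 := by rw [hcW]; exact smul_ne_zero hc0 hW
  have hordW : (Polynomial.wronskian A B).rootMultiplicity a
      = (Polynomial.wronskian F G).rootMultiplicity a := by
    rw [hcW, Polynomial.smul_eq_C_mul,
      Polynomial.rootMultiplicity_mul (mul_ne_zero (Polynomial.C_ne_zero.mpr hc0) hW),
      Polynomial.rootMultiplicity_C, zero_add]
  obtain ⟨hordB, hpB⟩ := core p A B a hAa hBa hWAB (by rw [hordW]; omega)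
  have hBe : B.rootMultiplicity a = e := by rw [hordB, hordW]; exact he
  have hB0 : B ≠ 0 := by
    rintro rfl
    exact hWAB (Polynomial.wronskian_zero_right A)
  unfold W4c1limliniiii.HasRamIdx
  refine ⟨⟨⟨B, hBV, hB0, hBe.ge⟩, ?_⟩, by rw [← hBe]; exact hpB⟩
  intro s hs hs0
  by_cases hsa : s.eval a = 0
  · obtain ⟨l, rfl⟩ := hprop s hs hsa
    have hl : l ≠ 0 := by
      rintro rfl
      exact hs0 (zero_smul _ _)
    rw [Polynomial.smul_eq_C_mul,
      Polynomial.rootMultiplicity_mul (mul_ne_zero (Polynomial.C_ne_zero.mpr hl) hB0),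
      Polynomial.rootMultiplicity_C, zero_add, hBe]
  · rw [Polynomial.rootMultiplicity_eq_zero hsa]; exact Nat.zero_le _

end Groth.Agent.S19560
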