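import Groth.Statements.S19562
-- import your own Groth.Agent.* helpers here

set_option autoImplicit false
universe u
open W4c1limliniiii

namespace Groth.Agent.S19562

section LA
variable {k : Type u} [Field k] {E : Type u} [AddCommGroup E] [Module k E] [FiniteDimensional k E]

lemma finrank_map_add_finrank_ker_inf (F : E →ₗ[k] E) (W : Submodule k E) :
    Module.finrank k ↥(Submodule.map F W) + Module.finrank k ↥(LinearMap.ker F ⊓ W) =
      Module.finrank k W := by
  have h := LinearMap.finrank_range_add_finrank_ker (F.domRestrict W)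
  rw [LinearMap.range_domRestrict, LinearMap.ker_domRestrict] at h
  have e : Submodule.comap W.subtype (LinearMap.ker F) =
      Submodule.comap W.subtype (LinearMap.ker F ⊓ W) := by
    ext x; simp
  rw [e, (Submodule.comapSubtypeEquivOfLe (p := LinearMap.ker F ⊓ W) (q := W) inf_le_right).finrank_eq] at h
  exact h

lemma key (F G : E →ₗ[k] E) (hGF : G.comp F = 0) (hFG : F.comp G = 0)
    (W W' : Submodule k E) (r : ℕ) (hW : Module.finrank k W = r) (hW' : Module.finrank k W' = r)
    (h1 : Submodule.map F W ≤ W') (h2 : Submodule.map G W' ≤ W) :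
    (LinearMap.ker G ⊓ W' ≤ Submodule.map F W ∧ LinearMap.ker F ⊓ W ≤ Submodule.map G W') ↔
      Module.finrank k ↥(Submodule.map F W) + Module.finrank k ↥(Submodule.map G W') = r := by
  have e1 := finrank_map_add_finrank_ker_inf F W
  have e2 := finrank_map_add_finrank_ker_inf G W'
  rw [hW] at e1
  rw [hW'] at e2
  have l1 : Submodule.map F W ≤ LinearMap.ker G ⊓ W' := by
    refine le_inf ?_ h1
    rintro _ ⟨x, _, rfl⟩
    simpa using LinearMap.congr_fun hGF x
  have l2 : Submodule.map G W' ≤ LinearMap.ker F ⊓ W := by
    refine le_inf ?_ h2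
    rintro _ ⟨x, _, rfl⟩
    simpa using LinearMap.congr_fun hFG x
  constructor
  · rintro ⟨a, b⟩
    have := le_antisymm l1 a
    rw [this]
    omega
  · intro h
    have q1 : Submodule.map F W = LinearMap.ker G ⊓ W' :=
      Submodule.eq_of_le_of_finrank_eq l1 (by omega)
    have q2 : Submodule.map G W' = LinearMap.ker F ⊓ W :=
      Submodule.eq_of_le_of_finrank_eq l2 (by omega)
    exact ⟨q1.ge, q2.ge⟩

end LA

section G
open TensorProduct
lemma finrank_grass (k : Type u) [Field k] (d r : ℕ) (hrd : r < d)
    (V : Module.Grassmannian k (k ⊗[k] (Fin d → k)) (d - r)) :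
    Module.finrank k V.toSubmodule = r := by
  have h := V.rankAtStalk_eq ⊥
  rw [Module.rankAtStalk_eq_finrank_of_free] at h
  have h2 := V.toSubmodule.finrank_quotient_add_finrank
  have h3 : Module.finrank k (k ⊗[k] (Fin d → k)) = d := by
    simp
  simp at h
  omega

end G

open TensorProduct in
/-- Let k be a field, 0 < r < d, and f_i, g_i (i < n) linear maps forward and backward between
consecutive ones of n + 1 copies of k^d, forming a linked Grassmannian over Spec k whose scalar s is
zero: every composite f_i ∘ g_i and g_i ∘ f_i vanishes, rank f_i + rank g_i ≥ d, and for consecutive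
indices im f_i ∩ ker f_{i+1} = 0 and im g_{i+1} ∩ ker g_i = 0. Let (V_i) be a k-valued point of the
linked Grassmannian of rank-r sub-bundles (subspaces V_i of k ⊗ k^d with quotient of rank d − r,
with f_i(V_i) ⊆ V_{i+1} and g_i(V_{i+1}) ⊆ V_i). Then (V_i) is exact, meaning ker g_i ∩ V_{i+1} ⊆
f_i(V_i) and ker f_i ∩ V_i ⊆ g_i(V_{i+1}) for all i, if and only if dim f_i(V_i) + dim g_i(V_{i+1})
= r for all i. (The published assertion is for points with values in an arbitrary scheme and also
says that f_i(V_i) and g_i(V_{i+1}) are then sub-bundles; this row is the case of a field, where the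
last clause is empty.) -/
theorem result (k : Type u) [Field k]
    (d r n : ℕ) (hr : 0 < r) (hrd : r < d) (f g : Fin n → ((Fin d → k) →ₗ[k] (Fin d → k)))
    (hI : ∀ i, (f i).comp (g i) = 0 ∧ (g i).comp (f i) = 0)
    (hII : ∀ i, d ≤ Module.finrank k (LinearMap.range (f i)) + Module.finrank k (LinearMap.range (g i)))
    (hIII : ∀ i j : Fin n, i.val + 1 = j.val →
      LinearMap.range (f i) ⊓ LinearMap.ker (f j) = ⊥ ∧
        LinearMap.range (g j) ⊓ LinearMap.ker (g i) = ⊥)
    (V : Fin (n + 1) → Module.Grassmannian k (k ⊗[k] (Fin d → k)) (d - r))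
    (hV : V ∈ W4c1limliniiii.LGPoints k d r n f g k) :
    W4c1limliniiii.IsExact k d r n f g k V ↔
      ∀ i : Fin n,
        Module.finrank k ↥(Submodule.map ((f i).baseChange k) (V i.castSucc).toSubmodule) +
          Module.finrank k ↥(Submodule.map ((g i).baseChange k) (V i.succ).toSubmodule) = r := by
  unfold W4c1limliniiii.IsExact
  refine forall_congr' fun i => ?_
  have hGF : ((g i).baseChange k).comp ((f i).baseChange k) = 0 := by
    rw [← LinearMap.baseChange_comp, (hI i).2, LinearMap.baseChange_zero]
  have hFG : ((f i).baseChange k).comp ((g i).baseChange k) = 0 := by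
    rw [← LinearMap.baseChange_comp, (hI i).1, LinearMap.baseChange_zero]
  exact key _ _ hGF hFG _ _ r (finrank_grass k d r hrd _) (finrank_grass k d r hrd _)
    (hV i).1 (hV i).2

end Groth.Agent.S19562
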