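import Groth.Statements.S19564
import Groth.Agent.Lib.Helper27.W2Lift

set_option autoImplicit false
universe u
open scoped BigOperators
open FrobAlg
open Groth.Agent.Lib.Helper27.W2Obst Groth.Agent.Lib.Helper27.W2Lift

namespace Groth.Agent.S19564


theorem main
    (p : ℕ) [Fact p.Prime] (hp : 3 ≤ p) (k : Type u) [Field k] [CharP k p] [PerfectRing k p]
    (n : ℕ) (i₀ i₁ i₂ : Fin n) (h01 : i₀ ≠ i₁) (h02 : i₀ ≠ i₂) (h12 : i₁ ≠ i₂)
    (J : Ideal (MvPolynomial (Fin n × Fin 2) k))
    (hqJ : (∑ i : Fin n, MvPolynomial.X (i, (0 : Fin 2)) * MvPolynomial.X (i, (1 : Fin 2))) ∈ J)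
    (hlamJ : ∀ x ∈ J, lam k p i₀ i₁ i₂ x = 0) :
    ¬ FrobAlg.IsFLiftable p k (MvPolynomial (Fin n × Fin 2) k ⧸ J) := by
  classical
  rintro ⟨B, _, ι, π, Φ, hF⟩
  have h : IsLift p k (MvPolynomial (Fin n × Fin 2) k ⧸ J) B ι π := hF.toIsLift
  have hpr : p.Prime := Fact.out
  have hodd : Odd p := hpr.odd_of_ne_two (by omega)
  have hπ : (p : B) * (p : B) = 0 := p_sq p k ι
  -- lifts of the variables
  choose b hb using fun v : Fin n × Fin 2 => h.surj (Ideal.Quotient.mk J (MvPolynomial.X v))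
  set z : Fin n → B := fun i => b (i, 0) * b (i, 1) with hz
  have hπz : ∀ i, π (z i) = Ideal.Quotient.mk J
      (MvPolynomial.X (i, (0 : Fin 2)) * MvPolynomial.X (i, (1 : Fin 2))) := by
    intro i
    rw [hz]
    simp only [map_mul, hb]
  -- the sum of the z i is a multiple of p
  have hsum : π (∑ i, z i) = 0 := by
    rw [map_sum]
    simp only [hπz]
    rw [← map_sum, Ideal.Quotient.eq_zero_iff_mem]
    exact hqJ
  obtain ⟨β, hβ⟩ := (mem_ker_iff p k h _).1 hsum
  -- the Frobenius lift on the variables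
  have hΦb : ∀ v, ∃ c, Φ (b v) - b v ^ p = (p : B) * c := by
    intro v
    apply (mem_ker_iff p k h _).1
    rw [map_sub, hF.red, map_pow, sub_self]
  choose hh hhh using hΦb
  have hΦb' : ∀ v, Φ (b v) = b v ^ p + (p : B) * hh v := by
    intro v
    rw [← hhh v]; ring
  set T : B := ∑ i, (hh (i, 0) * b (i, 1) ^ p + hh (i, 1) * b (i, 0) ^ p) with hT
  have hΦz : ∀ i, Φ (z i) = z i ^ p + (p : B) * (hh (i, 0) * b (i, 1) ^ p + hh (i, 1) * b (i, 0) ^ p) := by
    intro i
    rw [hz]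
    simp only
    rw [map_mul, hΦb', hΦb', mul_pow]
    have : (b (i, 0) ^ p + (p : B) * hh (i, 0)) * (b (i, 1) ^ p + (p : B) * hh (i, 1)) =
        b (i, 0) ^ p * b (i, 1) ^ p +
          (p : B) * (hh (i, 0) * b (i, 1) ^ p + hh (i, 1) * b (i, 0) ^ p) +
          ((p : B) * (p : B)) * (hh (i, 0) * hh (i, 1)) := by ring
    rw [this, hπ, zero_mul, add_zero]
  have hΦsum : ∑ i, z i ^ p + (p : B) * T = (p : B) * Φ β := by
    have := congrArg Φ hβ
    rw [map_sum, map_mul, map_natCast] at this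
    rw [← this, hT, Finset.mul_sum, ← Finset.sum_add_distrib]
    exact Finset.sum_congr rfl fun i _ => (hΦz i).symm
  -- the key identity
  obtain ⟨α, hα, hkey⟩ := bside p hpr (p : B) hπ rfl z β hβ i₀ i₁ i₂ h01 h02 h12
  rw [hodd.neg_one_pow] at hkey
  have hi1 : i₁ ∈ Finset.univ.erase i₀ := by
    rw [Finset.mem_erase]; exact ⟨h01.symm, Finset.mem_univ _⟩
  have hsplit : ∑ i, z i ^ p = z i₀ ^ p + z i₁ ^ p +
      ∑ i ∈ (Finset.univ.erase i₀).erase i₁, z i ^ p := by
    rw [← Finset.add_sum_erase Finset.univ (fun i => z i ^ p) (Finset.mem_univ i₀),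
      ← Finset.add_sum_erase _ (fun i => z i ^ p) hi1]
    ring
  have htors : (p : B) * (-(hpoly p (z i₀) (z i₁) + α) + T - Φ β) = 0 := by
    have e1 : (p : B) * (-(hpoly p (z i₀) (z i₁) + α) + T - Φ β) =
        -((z i₀ ^ p + z i₁ ^ p + (p : B) * hpoly p (z i₀) (z i₁)) -
          (-1) * (∑ i ∈ (Finset.univ.erase i₀).erase i₁, z i ^ p + (p : B) * α)) +
        ((z i₀ ^ p + z i₁ ^ p + ∑ i ∈ (Finset.univ.erase i₀).erase i₁, z i ^ p) + (p : B) * T -
          (p : B) * Φ β) := by ring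
    rw [e1, hkey, sub_self, neg_zero, zero_add, ← hsplit, hΦsum, sub_self]
  obtain ⟨c, hc⟩ := torsion p k h _ htors
  have hπc : π (-(hpoly p (z i₀) (z i₁) + α) + T - Φ β) = 0 := (mem_ker_iff p k h _).2 ⟨c, hc⟩
  -- push to A
  set S : Set (Fin n) := {i | i ≠ i₀ ∧ i ≠ i₁ ∧ i ≠ i₂} with hS
  set Zp : Fin n → MvPolynomial (Fin n × Fin 2) k :=
    fun i => MvPolynomial.X (i, (0 : Fin 2)) * MvPolynomial.X (i, (1 : Fin 2)) with hZp
  have hαmap : π α ∈ Ideal.map (Ideal.Quotient.mk J) (Ideal.span (Zp '' S)) := by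
    have h1 : π α ∈ Ideal.map π (Ideal.span (z '' S)) := Ideal.mem_map_of_mem π hα
    rw [Ideal.map_span] at h1
    rw [Ideal.map_span]
    have h2 : (π '' (z '' S)) = (Ideal.Quotient.mk J) '' (Zp '' S) := by
      rw [Set.image_image, Set.image_image]
      apply Set.image_congr
      intro i _
      exact hπz i
    rwa [h2] at h1
  obtain ⟨a, ha, haα⟩ := (Ideal.mem_map_iff_of_surjective (Ideal.Quotient.mk J)
    Ideal.Quotient.mk_surjective).1 hαmap
  choose hhP hhP' using fun v => Ideal.Quotient.mk_surjective (I := J) (π (hh v))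
  obtain ⟨f, hf⟩ := Ideal.Quotient.mk_surjective (I := J) (π β)
  set TP : MvPolynomial (Fin n × Fin 2) k :=
    ∑ i, (hhP (i, 0) * MvPolynomial.X (i, 1) ^ p + hhP (i, 1) * MvPolynomial.X (i, 0) ^ p) with hTP
  have hπT : π T = Ideal.Quotient.mk J TP := by
    rw [hT, hTP, map_sum, map_sum]
    refine Finset.sum_congr rfl fun i _ => ?_
    simp only [map_add, map_mul, map_pow, hb, hhP']
  have hmem : -(hpoly p (Zp i₀) (Zp i₁) + a) + TP - f ^ p ∈ J := by
    rw [← Ideal.Quotient.eq_zero_iff_mem, map_sub, map_add, map_neg, map_add, haα,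
      map_hpoly, ← hπz, ← hπz, ← map_hpoly, ← hπT, map_pow, hf, ← hF.red]
    rw [map_sub, map_add, map_neg, map_add] at hπc
    exact hπc
  -- apply the obstruction functional
  have hlamS : ∀ x ∈ Ideal.span (Zp '' S), lam k p i₀ i₁ i₂ x = 0 := by
    apply lam_span_eq_zero
    rintro g ⟨i, hi, rfl⟩ f
    exact lam_mul_Z k p i hi.1 hi.2.1 hi.2.2 f
  have hlamT : lam k p i₀ i₁ i₂ TP = 0 := by
    rw [hTP, map_sum]
    refine Finset.sum_eq_zero fun i _ => ?_
    rw [map_add, lam_mul_X_pow, lam_mul_X_pow, add_zero]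
  have h1 := hlamJ _ hmem
  rw [map_sub, map_add, map_neg, map_add, hlamS _ ha, hlamT, lam_pow_p,
    lam_hpoly k p h01 h02 h12] at h1
  have : (-1 : k) = 0 := by
    rw [← h1]; ring
  exact one_ne_zero (neg_eq_zero.mp this)

/-- Let k be a perfect field of characteristic p ≥ 3 and n ≥ 3. Then the ordinary double point k[x_1,
y_1, …, x_n, y_n]/(x_1y_1 + ⋯ + x_ny_n), the affine cone over the split quadric in 2n ≥ 6 variables,
admits no flat lifting over W₂(k) compatible with Frobenius (no flat W₂(k)-algebra reducing to it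
that carries a ring endomorphism which is σ₂-semilinear and reduces to the p-th power map). (The
published statement is for any number N ≥ 5 of variables and allows arbitrary terms of degree ≥ 3 to
be added to a non-degenerate quadratic form; this row is the case of the split form in an even
number of variables with nothing added, the case in which the argument is a pure comparison of
homogeneous components.) -/
theorem result
    (p : ℕ) [Fact p.Prime] (hp : 3 ≤ p) (k : Type u) [Field k] [CharP k p] [PerfectRing k p]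
    (n : ℕ) (hn : 3 ≤ n) :
    ¬ FrobAlg.IsFLiftable p k
      (MvPolynomial (Fin n × Fin 2) k ⧸ Ideal.span
        {(∑ i : Fin n, MvPolynomial.X (i, (0 : Fin 2)) * MvPolynomial.X (i, (1 : Fin 2)) : MvPolynomial (Fin n × Fin 2) k)}) := by
  have h01 : (⟨0, by omega⟩ : Fin n) ≠ ⟨1, by omega⟩ := by simp [Fin.ext_iff]
  have h02 : (⟨0, by omega⟩ : Fin n) ≠ ⟨2, by omega⟩ := by simp [Fin.ext_iff]
  have h12 : (⟨1, by omega⟩ : Fin n) ≠ ⟨2, by omega⟩ := by simp [Fin.ext_iff]
  apply main p hp k n _ _ _ h01 h02 h12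
  · exact Ideal.subset_span rfl
  · apply lam_span_eq_zero
    intro g hg f
    rw [Set.mem_singleton_iff] at hg
    subst hg
    exact lam_mul_q k p h01 h02 h12 f


end Groth.Agent.S19564
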