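import Groth.Statements.S19569
import Mathlib.RingTheory.Smooth.NoetherianDescent
import Mathlib.RingTheory.FinitePresentation
import Mathlib.Data.Fintype.Order
-- import your own Groth.Agent.* helpers here

set_option autoImplicit false
universe u
open CAlg

namespace Groth.Agent.S19569

section lift
variable {ι : Type u} [Preorder ι] [IsDirected ι (· ≤ ·)] [Nonempty ι]
    (G : ι → Type u) [∀ i, CommRing (G i)] (f : ∀ i j, i ≤ j → (G i →+* G j))
    (A : Type u) [CommRing A] (g : ∀ i, G i →+* A) (hg : ∀ i j (h : i ≤ j), (g j).comp (f i j h) = g i)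
    (hsurj : ∀ a : A, ∃ i, ∃ x : G i, g i x = a)
    (hker : ∀ i (x : G i), g i x = 0 → ∃ j, ∃ h : i ≤ j, f i j h x = 0)
include hg hsurj hker

/-- evaluation of integer polynomials at a tuple -/
noncomputable abbrev ev {S : Type u} [CommRing S] {m : ℕ} (x : Fin m → S) :
    MvPolynomial (Fin m) ℤ →+* S :=
  MvPolynomial.eval₂Hom (Int.castRingHom S) x

omit [IsDirected ι (· ≤ ·)] [Nonempty ι] hsurj hker hg in
lemma ev_comp {S T : Type u} [CommRing S] [CommRing T] {m : ℕ} (x : Fin m → S) (φ : S →+* T) :
    φ.comp (ev x) = ev (fun l => φ (x l)) := by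
  apply MvPolynomial.ringHom_ext
  · intro n; simp
  · intro l; simp

omit hker in
lemma exists_lift_tuple {m : ℕ} (a : Fin m → A) :
    ∃ (j : ι) (x : Fin m → G j), ∀ l, g j (x l) = a l := by
  choose i y hy using fun l => hsurj (a l)
  obtain ⟨j, hj⟩ := Finite.exists_le i
  refine ⟨j, fun l => f (i l) j (hj l) (y l), fun l => ?_⟩
  have := congrArg (fun φ => φ (y l)) (hg (i l) j (hj l))
  simpa [hy] using this

lemma exists_lift_rel {m : ℕ} (a : Fin m → A) (s : Finset (MvPolynomial (Fin m) ℤ))
    (hs : ∀ r ∈ s, ev a r = 0) :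
    ∃ (j : ι) (x : Fin m → G j), (∀ l, g j (x l) = a l) ∧ ∀ r ∈ s, ev x r = 0 := by
  classical
  induction s using Finset.induction_on with
  | empty =>
    obtain ⟨j, x, hx⟩ := exists_lift_tuple G f A g hg hsurj a
    exact ⟨j, x, hx, by simp⟩
  | insert r s hr ih =>
    obtain ⟨j, x, hx, hxs⟩ := ih (fun r' hr' => hs r' (Finset.mem_insert_of_mem hr'))
    have h1 : g j (ev x r) = 0 := by
      have := congrArg (fun φ => φ r) (ev_comp x (g j))
      simp only [RingHom.comp_apply] at this
      rw [this]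
      have : (fun l => g j (x l)) = a := funext hx
      rw [this]
      exact hs r (Finset.mem_insert_self _ _)
    obtain ⟨j', hjj', h0⟩ := hker j _ h1
    refine ⟨j', fun l => f j j' hjj' (x l), fun l => ?_, ?_⟩
    · have := congrArg (fun φ => φ (x l)) (hg j j' hjj')
      simpa [hx] using this
    · intro r' hr'
      have e := congrArg (fun φ => φ r') (ev_comp x (f j j' hjj'))
      simp only [RingHom.comp_apply] at e
      rw [← e]
      rcases Finset.mem_insert.mp hr' with rfl | h'
      · exact h0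
      · rw [hxs r' h', map_zero]

lemma exists_lift_of_finitePresentation (A₀ : Type u) [CommRing A₀]
    [Algebra.FinitePresentation ℤ A₀] (ψ : A₀ →+* A) :
    ∃ (j : ι) (φ : A₀ →+* G j), (g j).comp φ = ψ := by
  obtain ⟨m, π, hπ, hfg⟩ := Algebra.FinitePresentation.out (R := ℤ) (A := A₀)
  obtain ⟨s, hs⟩ := hfg
  let a : Fin m → A := fun l => ψ (π (MvPolynomial.X l))
  have hψπ : ψ.comp π.toRingHom = ev a := by
    apply MvPolynomial.ringHom_ext
    · intro n; simp
    · intro l; simp [a]
  have hsa : ∀ r ∈ s, ev a r = 0 := by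
    intro r hr
    rw [← hψπ]
    have : r ∈ RingHom.ker π.toRingHom := by
      rw [← hs]; exact Ideal.subset_span hr
    rw [RingHom.mem_ker] at this
    rw [RingHom.comp_apply, this, map_zero]
  obtain ⟨j, x, hx, hxs⟩ := exists_lift_rel G f A g hg hsurj hker a s hsa
  have hle : RingHom.ker π.toRingHom ≤ RingHom.ker (ev x) := by
    rw [← hs, Ideal.span_le]
    intro r hr
    exact hxs r hr
  refine ⟨j, π.toRingHom.liftOfSurjective hπ ⟨ev x, hle⟩, ?_⟩
  have h1 : ((π.toRingHom.liftOfSurjective hπ) ⟨ev x, hle⟩).comp π.toRingHom = ev x :=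
    RingHom.liftOfSurjective_comp _ hπ ⟨ev x, hle⟩
  apply RingHom.cancel_right (f := π.toRingHom) hπ |>.mp
  rw [RingHom.comp_assoc, h1, hψπ, ev_comp]
  congr 1
  exact funext hx

end lift

open TensorProduct in
/-- Let A be the colimit of a directed system of rings (A_i), given by compatible ring maps A_i → A
which are jointly surjective and such that an element of some A_i mapping to zero in A already maps
to zero in some later A_j, and let B be an étale A-algebra. Then for some index i there is an étale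
A_i-algebra B_i such that B is isomorphic, as an A-algebra, to the base change A ⊗_{A_i} B_i
(existence of an isomorphism). (Stated for a system indexed by a directed preordered set.) -/
theorem result {ι : Type u} [Preorder ι] [IsDirected ι (· ≤ ·)] [Nonempty ι]
    (G : ι → Type u) [∀ i, CommRing (G i)] (f : ∀ i j, i ≤ j → (G i →+* G j))
    (A : Type u) [CommRing A] (g : ∀ i, G i →+* A) (hg : ∀ i j (h : i ≤ j), (g j).comp (f i j h) = g i)
    (hsurj : ∀ a : A, ∃ i, ∃ x : G i, g i x = a)
    (hker : ∀ i (x : G i), g i x = 0 → ∃ j, ∃ h : i ≤ j, f i j h x = 0)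
    (B : Type u) [CommRing B] [Algebra A B] [Algebra.Etale A B] :
    ∃ (i : ι) (Bi : Type u) (_ : CommRing Bi) (_ : Algebra (G i) Bi), Algebra.Etale (G i) Bi ∧
      letI : Algebra (G i) A := (g i).toAlgebra
      Nonempty (B ≃ₐ[A] A ⊗[G i] Bi) := by
  obtain ⟨A₀, B₀, _, _, hfg, hEt, ⟨e⟩⟩ := Algebra.Etale.exists_subalgebra_fg ℤ A B
  have hft : Algebra.FiniteType ℤ A₀ := (Subalgebra.fg_iff_finiteType A₀).mp hfg
  have hfp : Algebra.FinitePresentation ℤ A₀ := Algebra.FinitePresentation.of_finiteType.mp hft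
  obtain ⟨j, φ, hφ⟩ := exists_lift_of_finitePresentation G f A g hg hsurj hker A₀
    (algebraMap A₀ A)
  let : Algebra (G j) A := (g j).toAlgebra
  let : Algebra A₀ (G j) := φ.toAlgebra
  have : IsScalarTower A₀ (G j) A := IsScalarTower.of_algebraMap_eq' hφ.symm
  refine ⟨j, G j ⊗[A₀] B₀, inferInstance, inferInstance, inferInstance, ?_⟩
  exact ⟨e.trans (Algebra.TensorProduct.cancelBaseChange A₀ (G j) A A B₀).symm⟩

end Groth.Agent.S19569
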