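import Groth.Statements.S1957
import Groth.Agent.Lib.Helper90.EtaleNbhdUnit
-- import your own Groth.Agent.* helpers here

set_option autoImplicit false
universe u
open Polynomial
open EtAlg

namespace Groth.Agent.S1957

/-- Let A be a ring, I an ideal and f a monic polynomial over A. Suppose the image of f in (A/I)[x]
factors as g h where the leading coefficient of g is a unit and g, h generate the unit ideal. Then
there is an etale A-algebra A' such that A/I -> A'/IA' is bijective, together with a factorization f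
= g' h' in A'[x] whose reduction modulo IA' is the image of the given one. -/
theorem result (A : Type u) [CommRing A] (I : Ideal A) (f : A[X]) (hf : f.Monic)
    (g h : (A ⧸ I)[X]) (hgh : f.map (Ideal.Quotient.mk I) = g * h) (hlead : IsUnit g.leadingCoeff)
    (hcop : IsCoprime g h) :
    ∃ (A' : Type u) (_ : CommRing A') (_ : Algebra A A') (_ : Algebra.Etale A A'),
      Function.Bijective (Ideal.quotientMap (I.map (algebraMap A A')) (algebraMap A A') Ideal.le_comap_map) ∧
      ∃ g' h' : A'[X], f.map (algebraMap A A') = g' * h' ∧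
        g'.map (Ideal.Quotient.mk (I.map (algebraMap A A'))) =
          g.map (Ideal.quotientMap (I.map (algebraMap A A')) (algebraMap A A') Ideal.le_comap_map) ∧
        h'.map (Ideal.Quotient.mk (I.map (algebraMap A A'))) =
          h.map (Ideal.quotientMap (I.map (algebraMap A A')) (algebraMap A A') Ideal.le_comap_map) := by
  classical
  rcases subsingleton_or_nontrivial (A ⧸ I) with hsub | hnt
  · -- trivial case
    have hI : I = ⊤ := Ideal.Quotient.subsingleton_iff.mp hsub
    have hI' : I.map (algebraMap A A) = ⊤ := by rw [Algebra.algebraMap_self, Ideal.map_id, hI]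
    haveI : Subsingleton (A ⧸ I.map (algebraMap A A)) := Ideal.Quotient.subsingleton_iff.mpr hI'
    refine ⟨A, inferInstance, inferInstance, inferInstance, ⟨fun _ _ _ => Subsingleton.elim _ _,
      fun y => ⟨0, Subsingleton.elim _ _⟩⟩, f, 1, ?_, ?_, ?_⟩
    · rw [Algebra.algebraMap_self, Polynomial.map_id, mul_one]
    · exact Subsingleton.elim _ _
    · exact Subsingleton.elim _ _
  · -- main case
    obtain ⟨u, hu⟩ := hlead
    obtain ⟨a, ha⟩ := Ideal.Quotient.mk_surjective (u : A ⧸ I)
    set g₁ : (A ⧸ I)[X] := Polynomial.C (↑u⁻¹ : A ⧸ I) * g with hg₁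
    set h₁ : (A ⧸ I)[X] := Polynomial.C (u : A ⧸ I) * h with hh₁
    have hCC : Polynomial.C (↑u⁻¹ : A ⧸ I) * Polynomial.C (u : A ⧸ I) = 1 := by
      rw [← Polynomial.C_mul, Units.inv_mul, Polynomial.C_1]
    have hCC' : Polynomial.C (u : A ⧸ I) * Polynomial.C (↑u⁻¹ : A ⧸ I) = 1 := by
      rw [← Polynomial.C_mul, Units.mul_inv, Polynomial.C_1]
    have hg₁m : g₁.Monic :=
      Polynomial.monic_C_mul_of_mul_leadingCoeff_eq_one (by rw [← hu, Units.inv_mul])
    have hfgh₁ : f.map (Ideal.Quotient.mk I) = g₁ * h₁ := by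
      rw [hgh, hg₁, hh₁]
      linear_combination (-(g * h)) * hCC
    have hh₁m : h₁.Monic := hg₁m.of_mul_monic_left (hfgh₁ ▸ hf.map _)
    have hcop₁ : IsCoprime g₁ h₁ := by
      have hU1 : IsUnit (Polynomial.C (↑u⁻¹ : A ⧸ I)) := Polynomial.isUnit_C.mpr (Units.isUnit _)
      have hU2 : IsUnit (Polynomial.C (u : A ⧸ I)) := Polynomial.isUnit_C.mpr (Units.isUnit _)
      exact (isCoprime_mul_unit_left_left hU1 _ _).mpr
        ((isCoprime_mul_unit_left_right hU2 _ _).mpr hcop)
    have hn : f.natDegree = g₁.natDegree + h₁.natDegree := by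
      rw [← hg₁m.natDegree_mul hh₁m, ← hfgh₁, hf.natDegree_map]
    let p : Polynomial.MonicDegreeEq A f.natDegree := Polynomial.MonicDegreeEq.mk f hf rfl
    let qg : Polynomial.MonicDegreeEq (A ⧸ I) g₁.natDegree :=
      Polynomial.MonicDegreeEq.mk g₁ hg₁m rfl
    let qh : Polynomial.MonicDegreeEq (A ⧸ I) h₁.natDegree :=
      Polynomial.MonicDegreeEq.mk h₁ hh₁m rfl
    let D := Polynomial.UniversalCoprimeFactorizationRing g₁.natDegree h₁.natDegree hn p
    let E := Polynomial.UniversalCoprimeFactorizationRing.homEquiv (A ⧸ I)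
      g₁.natDegree h₁.natDegree hn p
    let φ : D →ₐ[A] A ⧸ I := E.symm ⟨(qg, qh), ⟨hfgh₁.symm, hcop₁⟩⟩
    have hφa : IsUnit (φ (algebraMap A D a)) := by
      rw [φ.commutes]
      change IsUnit (Ideal.Quotient.mk I a)
      rw [ha]
      exact Units.isUnit u
    obtain ⟨A', _, _, hA', ι, hbij, hι, hunit⟩ :=
      Groth.Agent.Lib.Helper90.EtaleNbhd.exists_etale_nbhd_of_algHom_quotient_of_isUnit I D φ
        (algebraMap A D a) hφa
    rw [ι.commutes] at hunit
    obtain ⟨u', hu'⟩ := hunit
    let E' := Polynomial.UniversalCoprimeFactorizationRing.homEquiv A'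
      g₁.natDegree h₁.natDegree hn p
    have hcomp : (Ideal.Quotient.mkₐ A (I.map (algebraMap A A'))).comp ι =
        (IsScalarTower.toAlgHom A (A ⧸ I) (A' ⧸ I.map (algebraMap A A'))).comp φ :=
      AlgHom.ext hι
    have hG : (E' ι).1.1.1.map (Ideal.Quotient.mk (I.map (algebraMap A A'))) =
        g₁.map (algebraMap (A ⧸ I) (A' ⧸ I.map (algebraMap A A'))) := by
      have h1 := Polynomial.UniversalCoprimeFactorizationRing.homEquiv_comp_fst A'
        g₁.natDegree h₁.natDegree hn p ι (Ideal.Quotient.mkₐ A (I.map (algebraMap A A')))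
      have h2 := Polynomial.UniversalCoprimeFactorizationRing.homEquiv_comp_fst (A ⧸ I)
        g₁.natDegree h₁.natDegree hn p φ
        (IsScalarTower.toAlgHom A (A ⧸ I) (A' ⧸ I.map (algebraMap A A')))
      rw [hcomp, h2] at h1
      have h3 : (E φ).1.1 = qg := by
        simp only [φ, E, Equiv.apply_symm_apply]
      have := congrArg Subtype.val h1
      rw [h3] at this
      exact this.symm
    have hH : (E' ι).1.2.1.map (Ideal.Quotient.mk (I.map (algebraMap A A'))) =
        h₁.map (algebraMap (A ⧸ I) (A' ⧸ I.map (algebraMap A A'))) := by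
      have h1 := Polynomial.UniversalCoprimeFactorizationRing.homEquiv_comp_snd A'
        g₁.natDegree h₁.natDegree hn p ι (Ideal.Quotient.mkₐ A (I.map (algebraMap A A')))
      have h2 := Polynomial.UniversalCoprimeFactorizationRing.homEquiv_comp_snd (A ⧸ I)
        g₁.natDegree h₁.natDegree hn p φ
        (IsScalarTower.toAlgHom A (A ⧸ I) (A' ⧸ I.map (algebraMap A A')))
      rw [hcomp, h2] at h1
      have h3 : (E φ).1.2 = qh := by
        simp only [φ, E, Equiv.apply_symm_apply]
      have := congrArg Subtype.val h1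
      rw [h3] at this
      exact this.symm
    -- the quotient map
    set qm := Ideal.quotientMap (I.map (algebraMap A A')) (algebraMap A A') Ideal.le_comap_map
      with hqm
    have hqm' : algebraMap (A ⧸ I) (A' ⧸ I.map (algebraMap A A')) = qm := rfl
    rw [hqm'] at hG hH hbij
    have hmu : Ideal.Quotient.mk (I.map (algebraMap A A')) (u' : A') = qm (u : A ⧸ I) := by
      rw [hu', ← ha, hqm, Ideal.quotientMap_mk]
    have hmu' : Ideal.Quotient.mk (I.map (algebraMap A A')) (↑u'⁻¹ : A') =
        qm (↑u⁻¹ : A ⧸ I) := by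
      have e1 : Ideal.Quotient.mk (I.map (algebraMap A A')) (u' : A') *
          Ideal.Quotient.mk (I.map (algebraMap A A')) (↑u'⁻¹ : A') = 1 := by
        rw [← map_mul, Units.mul_inv, map_one]
      have e2 : qm (↑u⁻¹ : A ⧸ I) * qm (u : A ⧸ I) = 1 := by
        rw [← map_mul, Units.inv_mul, map_one]
      rw [hmu] at e1
      calc Ideal.Quotient.mk (I.map (algebraMap A A')) (↑u'⁻¹ : A')
          = (qm (↑u⁻¹ : A ⧸ I) * qm (u : A ⧸ I)) *
            Ideal.Quotient.mk (I.map (algebraMap A A')) (↑u'⁻¹ : A') := by rw [e2, one_mul]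
        _ = qm (↑u⁻¹ : A ⧸ I) := by rw [mul_assoc, e1, mul_one]
    refine ⟨A', inferInstance, inferInstance, hA', hbij,
      Polynomial.C (u' : A') * (E' ι).1.1.1, Polynomial.C (↑u'⁻¹ : A') * (E' ι).1.2.1, ?_, ?_, ?_⟩
    · have h0 : (E' ι).1.1.1 * (E' ι).1.2.1 = f.map (algebraMap A A') := (E' ι).2.1
      have hc : Polynomial.C (u' : A') * Polynomial.C (↑u'⁻¹ : A') = 1 := by
        rw [← Polynomial.C_mul, Units.mul_inv, Polynomial.C_1]
      rw [← h0]
      linear_combination (-((E' ι).1.1.1 * (E' ι).1.2.1)) * hc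
    · rw [Polynomial.map_mul, Polynomial.map_C, hG, hmu, hg₁, Polynomial.map_mul,
        Polynomial.map_C, ← mul_assoc, ← Polynomial.C_mul, ← map_mul, Units.mul_inv, map_one,
        Polynomial.C_1, one_mul]
    · rw [Polynomial.map_mul, Polynomial.map_C, hH, hmu', hh₁, Polynomial.map_mul,
        Polynomial.map_C, ← mul_assoc, ← Polynomial.C_mul, ← map_mul, Units.inv_mul, map_one,
        Polynomial.C_1, one_mul]

end Groth.Agent.S1957
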