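import Groth.Statements.S19573
import Mathlib.LinearAlgebra.Matrix.Determinant.Basic
import Mathlib.LinearAlgebra.TensorProduct.RightExactness
-- import your own Groth.Agent.* helpers here

set_option autoImplicit false
universe u
open LocInt

namespace Groth.Agent.S19573

section part1
variable {R : Type u} [CommRing R] {n : ℕ} (a : Fin n → R)

/-- the cokernel module -/
abbrev Fq (a : Fin n → R) : Type u := (Fin n → R) ⧸ Submodule.span R ({a} : Set (Fin n → R))

local notation "F" => Fq a

/-- the images of the standard basis vectors -/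
noncomputable def ebar (j : Fin n) : F := Submodule.Quotient.mk (Pi.single j 1)

/-- the generator `ē₁ ∧ … ∧ ēₙ`. -/
noncomputable def omega : ⋀[R]^n F := exteriorPower.ιMulti R n (ebar a)

lemma smul_omega (i : Fin n) : a i • omega a = 0 := by
  classical
  let L : F →ₗ[R] ⋀[R]^n F := (exteriorPower.ιMulti R n).toMultilinearMap.toLinearMap (ebar a) i
  have hL : ∀ j, j ≠ i → L (ebar a j) = 0 := by
    intro j hj
    exact (exteriorPower.ιMulti R n).map_update_self (ebar a) (Ne.symm hj)
  have hLi : L (ebar a i) = omega a := by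
    change (exteriorPower.ιMulti R n) (Function.update (ebar a) i (ebar a i)) = _
    rw [Function.update_eq_self]; rfl
  have ha : (Submodule.Quotient.mk a : F) = 0 :=
    (Submodule.Quotient.mk_eq_zero _).mpr (Submodule.mem_span_singleton_self a)
  have hsum : (Submodule.Quotient.mk a : F) = ∑ j, a j • ebar a j := by
    have h1 : a = ∑ j, a j • (Pi.single j 1 : Fin n → R) := pi_eq_sum_univ' a
    have h2 := congrArg (Submodule.span R ({a} : Set (Fin n → R))).mkQ h1
    rw [map_sum] at h2
    simpa [ebar] using h2
  have := congrArg L hsum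
  rw [ha, map_zero, map_sum, Finset.sum_eq_single i] at this
  · rw [map_smul, hLi] at this
    exact this.symm
  · intro j _ hj
    rw [map_smul, hL j hj, smul_zero]
  · intro h; exact absurd (Finset.mem_univ i) h

lemma smul_ιMulti (i : Fin n) (m : Fin n → F) : a i • exteriorPower.ιMulti R n m = 0 := by
  classical
  -- the alternating map on `E`
  let π : (Fin n → R) →ₗ[R] F := (Submodule.span R ({a} : Set (Fin n → R))).mkQ
  let G : (Fin n → R) [⋀^Fin n]→ₗ[R] ⋀[R]^n F :=
    a i • (exteriorPower.ιMulti R n).compLinearMap π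
  have hG : G = 0 := by
    refine (Pi.basisFun R (Fin n)).ext_alternating fun v hv => ?_
    have hbij : Function.Bijective v := Finite.injective_iff_bijective.mp hv
    let σ : Equiv.Perm (Fin n) := Equiv.ofBijective v hbij
    have e1 : (fun j => (Pi.basisFun R (Fin n)) (v j)) =
        (fun j => (Pi.basisFun R (Fin n)) j) ∘ σ := rfl
    rw [e1, AlternatingMap.map_perm]
    have : G (fun j => (Pi.basisFun R (Fin n)) j) = 0 := by
      change a i • (exteriorPower.ιMulti R n) (fun j => π ((Pi.basisFun R (Fin n)) j)) = 0
      have : (fun j => π ((Pi.basisFun R (Fin n)) j)) = ebar a := by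
        funext j; simp [ebar, π]
      rw [this]
      exact smul_omega a i
    rw [this]
    simp
  obtain ⟨v, hv⟩ : ∃ v : Fin n → (Fin n → R), ∀ j, π (v j) = m j :=
    ⟨fun j => (Submodule.mkQ_surjective _ (m j)).choose,
      fun j => (Submodule.mkQ_surjective _ (m j)).choose_spec⟩
  have := congrArg (fun g => g v) hG
  have hm : m = fun j => π (v j) := funext fun j => (hv j).symm
  rw [hm]
  exact this

lemma smul_eq_zero (i : Fin n) (x : ⋀[R]^n F) : a i • x = 0 := by
  have hx : x ∈ Submodule.span R (Set.range (exteriorPower.ιMulti R n (M := F))) := by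
    rw [exteriorPower.ιMulti_span]; trivial
  induction hx using Submodule.span_induction with
  | mem y hy =>
    obtain ⟨m, rfl⟩ := hy
    exact smul_ιMulti a i m
  | zero => simp
  | add y z _ _ hy hz => rw [smul_add, hy, hz, add_zero]
  | smul c y _ hy => rw [smul_comm, hy, smul_zero]

/-- The determinant over `R ⧸ J` as an `R`-alternating map. -/
noncomputable def detAlt (J : Ideal R) : (Fin n → R ⧸ J) [⋀^Fin n]→ₗ[R] (R ⧸ J) :=
  { (Matrix.detRowAlternating (R := R ⧸ J) (n := Fin n)).toMultilinearMap.restrictScalars R with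
    map_eq_zero_of_eq' := fun v _ _ h hij =>
      (Matrix.detRowAlternating (R := R ⧸ J) (n := Fin n)).map_eq_zero_of_eq v h hij }

lemma detAlt_apply (J : Ideal R) (v : Fin n → Fin n → R ⧸ J) :
    detAlt J v = Matrix.det (Matrix.of v) := rfl

/-- reduction mod `J = (a₁, …, aₙ)` on `F`. -/
noncomputable def psi : F →ₗ[R] (Fin n → R ⧸ Ideal.span (Set.range a)) :=
  (Submodule.span R ({a} : Set (Fin n → R))).liftQ
    ((Ideal.Quotient.mkₐ R (Ideal.span (Set.range a))).toLinearMap.compLeft (Fin n)) (by
      rw [Submodule.span_le, Set.singleton_subset_iff]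
      change _ = 0
      funext j
      simp only [LinearMap.compLeft_apply, Function.comp_apply, Pi.zero_apply]
      exact Ideal.Quotient.eq_zero_iff_mem.mpr (Ideal.subset_span ⟨j, rfl⟩))

lemma psi_ebar (j k : Fin n) : psi a (ebar a j) k = if j = k then 1 else 0 := by
  classical
  change (Ideal.Quotient.mk _ ((Pi.single j 1 : Fin n → R) k)) = _
  rw [Pi.single_apply]
  split_ifs with h1 h2 h2
  · simp
  · exact absurd h1.symm h2
  · exact absurd h2.symm h1
  · simp

/-- the functional `⋀ⁿ F → R ⧸ J` sending `ω ↦ 1`. -/
noncomputable def phi : ⋀[R]^n F →ₗ[R] R ⧸ Ideal.span (Set.range a) :=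
  exteriorPower.alternatingMapLinearEquiv ((detAlt (Ideal.span (Set.range a))).compLinearMap (psi a))

lemma phi_omega : phi a (omega a) = 1 := by
  classical
  rw [phi, omega, exteriorPower.alternatingMapLinearEquiv_apply_ιMulti]
  change detAlt _ (fun j => psi a (ebar a j)) = 1
  rw [detAlt_apply]
  have : Matrix.of (fun j => psi a (ebar a j)) = (1 : Matrix (Fin n) (Fin n) _) := by
    ext j k
    rw [Matrix.of_apply, psi_ebar, Matrix.one_apply]
  rw [this, Matrix.det_one]

theorem annihilator_eq :
    (⋀[R]^n F).annihilator = Ideal.span (Set.range a) := by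
  apply le_antisymm
  · intro r hr
    rw [Submodule.mem_annihilator] at hr
    have h1 := hr _ (omega a).2
    have h2 : r • omega a = 0 := Subtype.ext h1
    have h3 := congrArg (phi a) h2
    rw [map_smul, phi_omega, map_zero] at h3
    rw [← Ideal.Quotient.eq_zero_iff_mem]
    simpa [Algebra.smul_def] using h3
  · rw [Ideal.span_le]
    rintro _ ⟨i, rfl⟩
    rw [SetLike.mem_coe, Submodule.mem_annihilator]
    intro x hx
    have := smul_eq_zero a i ⟨x, hx⟩
    exact congrArg Subtype.val this

end part1

section part2
open TensorProduct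

/-- A split exact sequence gives a product decomposition. -/
noncomputable def splitEquiv {S : Type u} [CommRing S] {L E' F' : Type u}
    [AddCommGroup L] [Module S L] [AddCommGroup E'] [Module S E'] [AddCommGroup F'] [Module S F']
    (ι' : L →ₗ[S] E') (π' : E' →ₗ[S] F') (ρ' : E' →ₗ[S] L)
    (hex : Function.Exact ι' π') (hsurj : Function.Surjective π')
    (hρ : ρ' ∘ₗ ι' = LinearMap.id) : E' ≃ₗ[S] F' × L :=
  LinearEquiv.ofBijective (π'.prod ρ') (by
    have hρ' : ∀ l, ρ' (ι' l) = l := fun l => congrArg (fun f => f l) hρ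
    constructor
    · rw [injective_iff_map_eq_zero]
      intro x hx
      have h1 : π' x = 0 := congrArg Prod.fst hx
      have h2 : ρ' x = 0 := congrArg Prod.snd hx
      obtain ⟨l, rfl⟩ := (hex x).mp h1
      rw [hρ'] at h2
      rw [h2, map_zero]
    · rintro ⟨y, l⟩
      obtain ⟨x₀, rfl⟩ := hsurj y
      refine ⟨x₀ - ι' (ρ' x₀) + ι' l, ?_⟩
      have h0 : ∀ l, π' (ι' l) = 0 := fun l => hex.apply_apply_eq_zero l
      simp [h0, hρ'])

variable {R : Type u} [CommRing R] {n : ℕ} (a : Fin n → R)

theorem free_and_rank (p : PrimeSpectrum R) (i : Fin n) (hi : a i ∉ p.asIdeal) :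
    p ∈ Module.freeLocus R (Fq a) ∧ Module.rankAtStalk (Fq a) p = n - 1 := by
  classical
  let S := Localization.AtPrime p.asIdeal
  have hu : IsUnit (algebraMap R S (a i)) :=
    IsLocalization.map_units S (⟨a i, hi⟩ : p.asIdeal.primeCompl)
  let ι : R →ₗ[R] (Fin n → R) := LinearMap.toSpanSingleton R (Fin n → R) a
  let π : (Fin n → R) →ₗ[R] Fq a := (Submodule.span R ({a} : Set (Fin n → R))).mkQ
  have hex : Function.Exact ι π := by
    rw [LinearMap.exact_iff, Submodule.ker_mkQ]
    exact (LinearMap.span_singleton_eq_range R (Fin n → R) a)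
  have hsurj : Function.Surjective π := Submodule.mkQ_surjective _
  let ι' : S ⊗[R] R →ₗ[S] S ⊗[R] (Fin n → R) := ι.baseChange S
  let π' : S ⊗[R] (Fin n → R) →ₗ[S] S ⊗[R] Fq a := π.baseChange S
  let ρ' : S ⊗[R] (Fin n → R) →ₗ[S] S ⊗[R] R :=
    ((hu.unit⁻¹ : Sˣ) : S) • (LinearMap.proj i : (Fin n → R) →ₗ[R] R).baseChange S
  have hex' : Function.Exact ι' π' := by
    have := lTensor_exact S hex hsurj
    exact this
  have hsurj' : Function.Surjective π' := LinearMap.lTensor_surjective S hsurj
  have hρ : ρ' ∘ₗ ι' = LinearMap.id := by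
    have h1 : (LinearMap.proj i : (Fin n → R) →ₗ[R] R) ∘ₗ ι = a i • LinearMap.id := by
      ext; simp [ι]
    have h2 : ((LinearMap.proj i : (Fin n → R) →ₗ[R] R).baseChange S) ∘ₗ ι' =
        (algebraMap R S (a i)) • LinearMap.id := by
      rw [← LinearMap.baseChange_comp, h1, LinearMap.baseChange_smul, LinearMap.baseChange_id]
      refine LinearMap.ext fun x => ?_
      simp only [LinearMap.smul_apply, LinearMap.id_apply]
      rw [algebraMap_smul]
    change (((hu.unit⁻¹ : Sˣ) : S) • _) ∘ₗ ι' = _
    rw [LinearMap.smul_comp, h2, smul_smul]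
    simp
  let e := splitEquiv ι' π' ρ' hex' hsurj' hρ
  -- projectivity
  have hproj : Module.Projective S (S ⊗[R] Fq a) :=
    Module.Projective.of_split (e.symm.toLinearMap ∘ₗ LinearMap.inl S _ _)
      (LinearMap.fst S _ _ ∘ₗ e.toLinearMap) (by ext x; simp)
  have hfree : Module.Free S (S ⊗[R] Fq a) := Module.free_of_flat_of_isLocalRing
  have hrank : Module.finrank S (S ⊗[R] Fq a) = n - 1 := by
    have : Nontrivial R := PrimeSpectrum.nonempty_iff_nontrivial.mp ⟨p⟩
    have h1 := e.finrank_eq
    have hE : Module.finrank S (S ⊗[R] (Fin n → R)) = n := by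
      rw [Module.finrank_baseChange]; simp
    have hL : Module.finrank S (S ⊗[R] R) = 1 := by
      rw [Module.finrank_baseChange]; simp
    rw [Module.finrank_prod, hE, hL] at h1
    omega
  refine ⟨(Module.mem_freeLocus_iff_tensor p S).mpr hfree, ?_⟩
  rw [Module.rankAtStalk_eq_finrank_tensorProduct]
  exact hrank

end part2

/-- The first sentence of the lemma together with the description of the closed subscheme Z given in its
proof, in the local model. Let R be a commutative ring, n ≥ 1, a ∈ R^n, and F = R^n / R·a the
cokernel of R → R^n, 1 ↦ a (the zeroth homology of the two-term complex R → R^n). Then the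
annihilator ideal of the top exterior power ⋀^n F is the ideal generated by the coordinates a_1, …,
a_n of a, and at every prime p of R off the closed set V(a_1, …, a_n) the module F is free of rank n
− 1 after localization at p. (The published statement is for a complex on a scheme which is locally
quasi-isomorphic to such a two-term complex L → E with L invertible and E locally free of rank n,
and says that H^0 restricted to the complement of the closed subscheme cut out by the annihilator of
its n-th exterior power is locally free of rank n − 1; this row is the local model.) -/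
theorem result (R : Type u) [CommRing R]
    (n : ℕ) (hn : 1 ≤ n) (a : Fin n → R) :
    (⋀[R]^n ((Fin n → R) ⧸ Submodule.span R {a})).annihilator = Ideal.span (Set.range a) ∧
    ∀ p : PrimeSpectrum R, ¬ Ideal.span (Set.range a) ≤ p.asIdeal →
      p ∈ Module.freeLocus R ((Fin n → R) ⧸ Submodule.span R {a}) ∧
      Module.rankAtStalk ((Fin n → R) ⧸ Submodule.span R {a}) p = n - 1 := by
  refine ⟨annihilator_eq a, fun p hp => ?_⟩
  have : ∃ i, a i ∉ p.asIdeal := by
    by_contra hcon
    simp only [not_exists, not_not] at hcon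
    apply hp
    rw [Ideal.span_le]
    rintro _ ⟨i, rfl⟩
    exact hcon i
  obtain ⟨i, hi⟩ := this
  exact free_and_rank a p i hi

end Groth.Agent.S19573
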