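import Groth.Statements.S19574
import Mathlib.RingTheory.Flat.Tensor
import Mathlib.LinearAlgebra.TensorProduct.Quotient
import Mathlib.LinearAlgebra.TensorProduct.RightExactness
import Mathlib.Algebra.Homology.ShortComplex.ModuleCat
-- import your own Groth.Agent.* helpers here

set_option autoImplicit false
universe u
open CategoryTheory MonoidalCategory
open Lie3Mod

namespace Groth.Agent.S19574

section modules
open TensorProduct
variable {R : Type u} [CommRing R]

lemma one_tmul_eq_zero_iff {M : Type u} [AddCommGroup M] [Module R M] (I : Ideal R) (x : M) :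
    ((1 : R ⧸ I) ⊗ₜ[R] x = 0) ↔ x ∈ (I • ⊤ : Submodule R M) := by
  rw [← (quotTensorEquivQuotSMul M I).map_eq_zero_iff, quotTensorEquivQuotSMul_mk_one_tmul,
    Submodule.Quotient.mk_eq_zero]

lemma exists_one_tmul {M : Type u} [AddCommGroup M] [Module R M] (I : Ideal R)
    (z : (R ⧸ I) ⊗[R] M) : ∃ x : M, z = (1 : R ⧸ I) ⊗ₜ[R] x := by
  obtain ⟨y, rfl⟩ := (quotTensorEquivQuotSMul M I).symm.surjective z
  obtain ⟨x, rfl⟩ := Submodule.Quotient.mk_surjective _ y
  exact ⟨x, rfl⟩

/-- Flatness of a quotient of a flat module. -/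
lemma flat_of_surjective {P M : Type u} [AddCommGroup P] [Module R P] [AddCommGroup M] [Module R M]
    [Module.Flat R P] (π : P →ₗ[R] M) (hπ : Function.Surjective π)
    (h : ∀ (I : Ideal R) (n : P), n ∈ LinearMap.ker π → n ∈ (I • ⊤ : Submodule R P) →
      n ∈ I • LinearMap.ker π) : Module.Flat R M := by
  rw [Module.Flat.iff_lift_lsmul_comp_subtype_injective]
  intro I _
  rw [injective_iff_map_eq_zero]
  intro x hx
  -- lift to `I ⊗ P`
  obtain ⟨y, rfl⟩ := LinearMap.lTensor_surjective I hπ x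
  set μP : I ⊗[R] P →ₗ[R] P := TensorProduct.lift ((LinearMap.lsmul R P).comp I.subtype) with hμP
  set μM : I ⊗[R] M →ₗ[R] M := TensorProduct.lift ((LinearMap.lsmul R M).comp I.subtype) with hμM
  have hcomm : μM ∘ₗ (π.lTensor I) = π ∘ₗ μP := by
    apply TensorProduct.ext'
    intro a p
    simp [μM, μP]
  have hμPinj : Function.Injective μP :=
    Module.Flat.iff_lift_lsmul_comp_subtype_injective.mp inferInstance ‹I.FG›
  have hp : μP y ∈ LinearMap.ker π := by
    rw [LinearMap.mem_ker]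
    have := congrArg (fun f => f y) hcomm
    simp only [LinearMap.comp_apply] at this
    rw [← this]; exact hx
  have hp2 : ∀ y : I ⊗[R] P, μP y ∈ (I • ⊤ : Submodule R P) := by
    intro y
    induction y using TensorProduct.induction_on with
    | zero => simp
    | tmul a p =>
      simp only [μP, TensorProduct.lift.tmul, LinearMap.comp_apply, Submodule.subtype_apply,
        LinearMap.lsmul_apply]
      exact Submodule.smul_mem_smul a.2 Submodule.mem_top
    | add y₁ y₂ h₁ h₂ =>
      rw [map_add]; exact Submodule.add_mem _ h₁ h₂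
  have hp3 := h I _ hp (hp2 y)
  -- lift to `I ⊗ ker π`
  have key : ∀ p ∈ I • LinearMap.ker π, ∃ y' : I ⊗[R] (LinearMap.ker π),
      μP ((LinearMap.ker π).subtype.lTensor I y') = p := by
    intro p hp
    refine Submodule.smul_induction_on hp ?_ ?_
    · intro r hr n hn
      exact ⟨(⟨r, hr⟩ : I) ⊗ₜ[R] (⟨n, hn⟩ : LinearMap.ker π), by simp [μP]⟩
    · rintro p₁ p₂ ⟨y₁, rfl⟩ ⟨y₂, rfl⟩
      exact ⟨y₁ + y₂, by simp⟩
  obtain ⟨y', hy'⟩ := key _ hp3
  have hy : y = (LinearMap.ker π).subtype.lTensor I y' := (hμPinj hy').symm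
  rw [hy, ← LinearMap.comp_apply, ← LinearMap.lTensor_comp]
  have : π ∘ₗ (LinearMap.ker π).subtype = 0 := by
    ext n; exact n.2
  rw [this, LinearMap.lTensor_zero, LinearMap.zero_apply]

end modules

/-- Let R be a commutative ring and d ≥ 1. Let K be a chain complex of R-modules concentrated in degrees
0, …, d + 1, written … → 0 → P_{d+1} → P_d → … → P_1 → M with M = K_0, which is exact (so 0 →
P_{d+1} → … → P_1 → M → 0 is an exact sequence), such that P_1, …, P_d are flat R-modules and such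
that for every ideal I of R the complex obtained by applying (R/I) ⊗_R − termwise is again exact.
Then M is a flat R-module. (No flatness is assumed for P_{d+1}. The published lemma adds that for R
Noetherian it suffices to test prime ideals I; that refinement is not part of this statement.) -/
theorem result (R : Type u) [CommRing R]
    (d : ℕ) (hd : 1 ≤ d) (K : ChainComplex (ModuleCat.{u} R) ℕ)
    (hzero : ∀ i : ℕ, d + 1 < i → Limits.IsZero (K.X i))
    (hflat : ∀ i : ℕ, 1 ≤ i → i ≤ d → Module.Flat R (K.X i))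
    (hK : K.Acyclic)
    (hbc : ∀ I : Ideal R,
      (((tensorLeft (ModuleCat.of R (R ⧸ I))).mapHomologicalComplex (ComplexShape.down ℕ)).obj K).Acyclic) :
    Module.Flat R (K.X 0) := by
  open TensorProduct in
  have h0 := (ShortComplex.moduleCat_exact_iff _).mp
    ((K.exactAt_iff' 1 0 0 (by simp) (by simp)).mp (hK 0))
  have h1 := (ShortComplex.moduleCat_exact_iff _).mp
    ((K.exactAt_iff' 2 1 0 (by simp) (by simp)).mp (hK 1))
  have h2 := (ShortComplex.moduleCat_exact_iff _).mp
    ((K.exactAt_iff' 3 2 1 (by simp) (by simp)).mp (hK 2))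
  have hb2 := fun I : Ideal R => (ShortComplex.moduleCat_exact_iff _).mp
    ((HomologicalComplex.exactAt_iff' _ 3 2 1 (by simp) (by simp)).mp (hbc I 2))
  have : Module.Flat R (K.X 1) := hflat 1 le_rfl hd
  have e0 : ∀ x : K.X 0, ∃ p : K.X 1, (K.d 1 0).hom p = x := by
    intro x
    refine h0 x ?_
    change (K.d 0 0).hom x = 0
    rw [K.shape 0 0 (by simp)]
    rfl
  have e1 : ∀ p : K.X 1, (K.d 1 0).hom p = 0 → ∃ q : K.X 2, (K.d 2 1).hom q = p := h1
  have e2 : ∀ p : K.X 2, (K.d 2 1).hom p = 0 → ∃ q : K.X 3, (K.d 3 2).hom q = p := h2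
  have eb2 : ∀ (I : Ideal R) (z : (R ⧸ I) ⊗[R] (K.X 2)),
      ((K.d 2 1).hom.lTensor (R ⧸ I)) z = 0 →
        ∃ w : (R ⧸ I) ⊗[R] (K.X 3), ((K.d 3 2).hom.lTensor (R ⧸ I)) w = z := fun I => hb2 I
  clear h0 h1 h2 hb2
  have dd32 : ∀ q : K.X 3, (K.d 2 1).hom ((K.d 3 2).hom q) = 0 := by
    intro q
    have := K.d_comp_d 3 2 1
    exact congrArg (fun f => f.hom q) this
  have dd21 : ∀ q : K.X 2, (K.d 1 0).hom ((K.d 2 1).hom q) = 0 := by
    intro q
    have := K.d_comp_d 2 1 0
    exact congrArg (fun f => f.hom q) this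
  refine flat_of_surjective (K.d 1 0).hom (fun x => e0 x) ?_
  intro I n hn hnI
  obtain ⟨p2, rfl⟩ := e1 n hn
  have h1 : ((K.d 2 1).hom.lTensor (R ⧸ I)) ((1 : R ⧸ I) ⊗ₜ p2) = 0 := by
    rw [LinearMap.lTensor_tmul]; exact (one_tmul_eq_zero_iff I _).mpr hnI
  obtain ⟨w, hw⟩ := eb2 I _ h1
  obtain ⟨p3, rfl⟩ := exists_one_tmul I w
  rw [LinearMap.lTensor_tmul] at hw
  have h3 : p2 - (K.d 3 2).hom p3 ∈ (I • ⊤ : Submodule R (K.X 2)) := by
    rw [← one_tmul_eq_zero_iff, TensorProduct.tmul_sub, hw, sub_self]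
  have h4 : (K.d 2 1).hom p2 = (K.d 2 1).hom (p2 - (K.d 3 2).hom p3) := by
    rw [map_sub, dd32, sub_zero]
  rw [h4]
  have h5 := Submodule.mem_map_of_mem (f := (K.d 2 1).hom) h3
  rw [Submodule.map_smul''] at h5
  refine Submodule.smul_mono le_rfl ?_ h5
  rintro _ ⟨q, -, rfl⟩
  exact dd21 q

end Groth.Agent.S19574
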