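import Groth.Statements.S19575
import Groth.Agent.Lib.Helper69.EtaPtLoc

set_option autoImplicit false
universe u
open EtaPt

namespace Groth.Agent.S19575

/-- Let η be the field-endofunctor datum of the pointwise construction, A a commutative ring with
finitely many minimal prime ideals and φ : A → B a ring map inducing a surjection on prime spectra.
If the canonical map A → (B/A)_η (the corestriction of φ onto the subring of B of elements whose
image in ∏_q F(k(q)) comes from M_η(A)) is bijective, then for every f ∈ A the canonical map A_f →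
(B_f/A_f)_η attached to the localized map A_f → B_{φ(f)} is bijective as well. -/
theorem result (η : EtaPt.FieldEndo.{u}) {A B : Type u} [CommRing A] [CommRing B]
    (hA : (minimalPrimes A).Finite) (φ : A →+* B) (hs : Function.Surjective (PrimeSpectrum.comap φ))
    (h : Function.Bijective (η.qRel φ)) (f : A) :
    Function.Bijective (η.qRel (Localization.awayMap φ f)) := by
  open Groth.Agent.Lib.Helper69.EtaPt in
  set α := algebraMap A (Localization.Away f) with hα
  set β := algebraMap B (Localization.Away (φ f)) with hβ
  have hsq : (Localization.awayMap φ f).comp α = β.comp φ := awayMap_comp φ f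
  have hφinj : Function.Injective φ := by
    intro a₁ a₂ h12
    exact h.1 (Subtype.ext h12)
  have huα : IsUnit (α f) := IsLocalization.Away.algebraMap_isUnit f
  have huβ : IsUnit (β (φ f)) := IsLocalization.Away.algebraMap_isUnit (φ f)
  constructor
  · intro a₁ a₂ h12
    have h12' : Localization.awayMap φ f a₁ = Localization.awayMap φ f a₂ := congrArg Subtype.val h12
    rw [← sub_eq_zero] at h12' ⊢
    rw [← map_sub] at h12'
    set d := a₁ - a₂ with hd
    obtain ⟨k, a₀, hk⟩ := IsLocalization.Away.surj f d
    change d * α f ^ k = α a₀ at hk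
    have h1 : β (φ a₀) = 0 := by
      have := RingHom.congr_fun hsq a₀
      simp only [RingHom.comp_apply] at this
      rw [← this, ← hk, map_mul, h12', zero_mul]
    obtain ⟨⟨_, j, rfl⟩, hj⟩ := (IsLocalization.map_eq_zero_iff (Submonoid.powers (φ f)) _ _).mp h1
    have h2 : φ (f ^ j * a₀) = 0 := by rw [map_mul, map_pow]; exact hj
    have h3 : f ^ j * a₀ = 0 := hφinj (by rw [h2, map_zero])
    have h4 : α f ^ j * α a₀ = 0 := by rw [← map_pow, ← map_mul, h3, map_zero]
    have h5 : α a₀ = 0 := (huα.pow j).mul_right_eq_zero.mp h4
    rw [h5] at hk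
    exact (huα.pow k).mul_left_eq_zero.mp hk
  · rintro ⟨y, hy⟩
    obtain ⟨x, hx, n, hn⟩ := (rel_away_isLocalization η hA φ f).2 y hy
    obtain ⟨a, ha⟩ := h.2 ⟨x, hx⟩
    have ha' : φ a = x := congrArg Subtype.val ha
    obtain ⟨v, hv⟩ := huα
    refine ⟨α a * ((v⁻¹ : (Localization.Away f)ˣ) : Localization.Away f) ^ n, Subtype.ext ?_⟩
    change Localization.awayMap φ f (α a * ((v⁻¹ : (Localization.Away f)ˣ) : Localization.Away f) ^ n) = y
    apply (huβ.pow n).mul_left_injective
    change _ * β (φ f) ^ n = y * β (φ f) ^ n
    have h1 : β (φ f) = Localization.awayMap φ f (α f) := (RingHom.congr_fun hsq f).symm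
    rw [hn, ← ha', h1, ← map_pow, ← map_mul, mul_assoc, ← mul_pow, ← hv, Units.inv_mul, one_pow,
      mul_one]
    exact RingHom.congr_fun hsq a

end Groth.Agent.S19575
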