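import Groth.Statements.S19576
import Groth.Agent.Lib.Helper69.EtaPtLoc

set_option autoImplicit false
universe u
open EtaPt

namespace Groth.Agent.S19576

/-- Let η be the field-endofunctor datum of the pointwise construction, A a commutative ring with
finitely many minimal prime ideals and φ : A → B a ring map inducing a surjection on prime spectra.
If finitely many elements f_1, …, f_n of A generate the unit ideal and, for each i, the canonical
map A_{f_i} → (B_{f_i}/A_{f_i})_η attached to the localized map A_{f_i} → B_{φ(f_i)} is bijective,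
then the canonical map A → (B/A)_η is bijective. -/
theorem result (η : EtaPt.FieldEndo.{u}) {A B : Type u} [CommRing A] [CommRing B]
    (hA : (minimalPrimes A).Finite) (φ : A →+* B) (hs : Function.Surjective (PrimeSpectrum.comap φ))
    (s : Finset A) (hspan : Ideal.span (s : Set A) = ⊤)
    (h : ∀ f ∈ s, Function.Bijective (η.qRel (Localization.awayMap φ f))) :
    Function.Bijective (η.qRel φ) := by
  open Groth.Agent.Lib.Helper69.EtaPt in
  have hsq : ∀ f : A, (Localization.awayMap φ f).comp (algebraMap A (Localization.Away f)) =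
      (algebraMap B (Localization.Away (φ f))).comp φ := fun f => awayMap_comp φ f
  constructor
  · intro a₁ a₂ h12
    have h12' : φ a₁ = φ a₂ := congrArg Subtype.val h12
    rw [← sub_eq_zero] at h12' ⊢
    rw [← map_sub] at h12'
    set a := a₁ - a₂ with ha
    have hmem : a ∈ (⊥ : Submodule A A) := by
      apply Submodule.mem_of_span_eq_top_of_smul_pow_mem ⊥ (s : Set A) hspan
      rintro ⟨f, hf⟩
      have h1 : Localization.awayMap φ f (algebraMap A _ a) = Localization.awayMap φ f 0 := by
        have := RingHom.congr_fun (hsq f) a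
        simp only [RingHom.comp_apply] at this
        rw [this, h12', map_zero, map_zero]
      have h2 : algebraMap A (Localization.Away f) a = 0 :=
        (h f hf).1 (Subtype.ext h1)
      obtain ⟨⟨_, j, rfl⟩, hj⟩ := (IsLocalization.map_eq_zero_iff (Submonoid.powers f) _ _).mp h2
      exact ⟨j, by rw [Submodule.mem_bot, smul_eq_mul]; exact hj⟩
    exact (Submodule.mem_bot A).mp hmem
  · rintro ⟨b, hb⟩
    let := φ.toAlgebra
    have hmem : b ∈ LinearMap.range (Algebra.linearMap A B) := by
      apply Submodule.mem_of_span_eq_top_of_smul_pow_mem _ (s : Set A) hspan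
      rintro ⟨f, hf⟩
      have h1 : algebraMap B (Localization.Away (φ f)) b ∈ η.rel (Localization.awayMap φ f) :=
        (rel_away_isLocalization η hA φ f).1 (Subring.mem_map.mpr ⟨b, hb, rfl⟩)
      obtain ⟨a', ha'⟩ := (h f hf).2 ⟨_, h1⟩
      have ha'' : Localization.awayMap φ f a' = algebraMap B (Localization.Away (φ f)) b :=
        congrArg Subtype.val ha'
      obtain ⟨k, a₀, hk⟩ := IsLocalization.Away.surj f a'
      have h2 : algebraMap B (Localization.Away (φ f)) (b * φ f ^ k - φ a₀) = 0 := by
        have e1 := RingHom.congr_fun (hsq f) a₀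
        have e2 := RingHom.congr_fun (hsq f) f
        simp only [RingHom.comp_apply] at e1 e2
        rw [map_sub, map_mul, map_pow, ← e1, ← hk, map_mul, map_pow, ha'', e2, sub_self]
      obtain ⟨⟨_, j, rfl⟩, hj⟩ :=
        (IsLocalization.map_eq_zero_iff (Submonoid.powers (φ f)) _ _).mp h2
      refine ⟨j + k, f ^ j * a₀, ?_⟩
      change φ (f ^ j * a₀) = (f ^ (j + k)) • b
      rw [Algebra.smul_def]
      change φ (f ^ j * a₀) = φ (f ^ (j + k)) * b
      have hj' : φ f ^ j * (b * φ f ^ k - φ a₀) = 0 := hj
      rw [map_mul, map_pow, map_pow, pow_add]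
      linear_combination (-1 : B) * hj'
    obtain ⟨a, ha⟩ := hmem
    exact ⟨a, Subtype.ext ha⟩

end Groth.Agent.S19576
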