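import Groth.Statements.S19577
import Groth.Agent.Lib.Helper69.EtaPtRel

set_option autoImplicit false
universe u
open EtaPt

namespace Groth.Agent.S19577

/-- Let f : A → B be a homomorphism of commutative rings, each with only finitely many minimal primes.
Then M_η(f) : M_η(A) → M_η(B) is integral exactly when f is integral, and Spec M_η(f) is surjective
exactly when Spec f is. Here η is the field-endofunctor datum of the pointwise construction, M_η(A)
⊆ ∏_p F(k(p)) the subring attached to A with q_A : A → M_η(A), and M_η(f) : M_η(A) → M_η(B) the ring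
map induced by N_η(f), pinned here as the ring map g compatible with N_η(f) under the two subring
inclusions. -/
theorem result (η : EtaPt.FieldEndo.{u}) {A B : Type u} [CommRing A] [CommRing B]
    (hA : (minimalPrimes A).Finite) (hB : (minimalPrimes B).Finite) (f : A →+* B)
    (g : η.M A →+* η.M B) (hg : ∀ x : η.M A, ((g x : η.M B) : η.N B) = η.Nmap f (x : η.N A)) :
    (f.IsIntegral ↔ g.IsIntegral) ∧
      (Function.Surjective (PrimeSpectrum.comap f) ↔ Function.Surjective (PrimeSpectrum.comap g)) := by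
  open Groth.Agent.Lib.Helper69.EtaPt in
  have hsq : g.comp (η.q A) = (η.q B).comp f := by
    refine RingHom.ext fun a => Subtype.ext ?_
    change ((g (η.q A a) : η.M B) : η.N B) = η.t B (f a)
    rw [hg]
    exact Nmap_t η f a
  have hqA := isIntegral_q η hA
  have hqB := isIntegral_q η hB
  have hcA := comap_q_bijective η hA
  have hcB := comap_q_bijective η hB
  have hcomap : ∀ Q'' : PrimeSpectrum (η.M B),
      PrimeSpectrum.comap f (PrimeSpectrum.comap (η.q B) Q'') =
        PrimeSpectrum.comap (η.q A) (PrimeSpectrum.comap g Q'') := by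
    intro Q''
    have h1 : PrimeSpectrum.comap ((η.q B).comp f) Q'' = PrimeSpectrum.comap (g.comp (η.q A)) Q'' := by
      rw [hsq]
    exact h1
  refine ⟨⟨fun hf => ?_, fun hgi => ?_⟩, ⟨fun hf => ?_, fun hgs => ?_⟩⟩
  · have h1 : ((η.q B).comp f).IsIntegral := RingHom.IsIntegral.trans f (η.q B) hf hqB
    rw [← hsq] at h1
    exact RingHom.IsIntegral.tower_top _ _ h1
  · have h1 : (g.comp (η.q A)).IsIntegral := RingHom.IsIntegral.trans (η.q A) g hqA hgi
    rw [hsq] at h1
    intro b
    obtain ⟨P, hP, hPb⟩ := h1 (η.q B b)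
    rw [← Polynomial.hom_eval₂] at hPb
    have h2 : η.t B (Polynomial.eval₂ f b P) = 0 := congrArg Subtype.val hPb
    obtain ⟨n, hn⟩ := isNilpotent_of_t_eq_zero η _ h2
    exact ⟨P ^ n, hP.pow n, by rw [Polynomial.eval₂_pow, hn]⟩
  · intro Q'
    obtain ⟨Q, hQ⟩ := hf (PrimeSpectrum.comap (η.q A) Q')
    obtain ⟨Q'', rfl⟩ := hcB.2 Q
    refine ⟨Q'', hcA.1 ?_⟩
    rw [← hcomap, hQ]
  · intro P
    obtain ⟨Q', rfl⟩ := hcA.2 P
    obtain ⟨Q'', rfl⟩ := hgs Q'
    exact ⟨PrimeSpectrum.comap (η.q B) Q'', hcomap Q''⟩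

end Groth.Agent.S19577
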