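import Groth.Statements.S19578
import Groth.Agent.Lib.Helper69.EtaPtRel

set_option autoImplicit false
universe u
open EtaPt

namespace Groth.Agent.S19578

/-- Let f : A → B be a homomorphism of commutative rings, each with only finitely many minimal primes,
and suppose the induced map M_η(f) : M_η(A) → M_η(B) is an isomorphism. Then Spec f is a bijection
between the prime ideals of B and of A, and for every prime q of B, with p = f⁻¹(q), there is a ring
map φ : k(q) → F(k(p)) whose composite with the residue field map k(p) → k(q) equals η_{k(p)}. Here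
η is the field-endofunctor datum of the pointwise construction, M_η(A) ⊆ ∏_p F(k(p)) the subring
attached to A with q_A : A → M_η(A), and M_η(f) : M_η(A) → M_η(B) the ring map induced by N_η(f),
pinned here as the ring map g compatible with N_η(f) under the two subring inclusions. -/
theorem result (η : EtaPt.FieldEndo.{u}) {A B : Type u} [CommRing A] [CommRing B]
    (hA : (minimalPrimes A).Finite) (hB : (minimalPrimes B).Finite) (f : A →+* B)
    (g : η.M A →+* η.M B) (hg : ∀ x : η.M A, ((g x : η.M B) : η.N B) = η.Nmap f (x : η.N A))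
    (hbij : Function.Bijective g) :
    Function.Bijective (PrimeSpectrum.comap f) ∧
      ∀ Q : PrimeSpectrum B,
        ∃ φ : Q.asIdeal.ResidueField →+* η.obj (PrimeSpectrum.comap f Q).asIdeal.ResidueField,
          φ.comp (Ideal.ResidueField.map (PrimeSpectrum.comap f Q).asIdeal Q.asIdeal f rfl) =
            η.eta (PrimeSpectrum.comap f Q).asIdeal.ResidueField := by
  open Groth.Agent.Lib.Helper69.EtaPt in
  have hsq : g.comp (η.q A) = (η.q B).comp f := by
    refine RingHom.ext fun a => Subtype.ext ?_
    change ((g (η.q A a) : η.M B) : η.N B) = η.t B (f a)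
    rw [hg]
    exact Nmap_t η f a
  have hcA := comap_q_bijective η hA
  have hcB := comap_q_bijective η hB
  let e : η.M A ≃+* η.M B := RingEquiv.ofBijective g hbij
  have hcg : Function.Bijective (PrimeSpectrum.comap g) := by
    constructor
    · intro Q₁ Q₂ h12
      have h1 : PrimeSpectrum.comap (e.symm : η.M B →+* η.M A) (PrimeSpectrum.comap g Q₁) =
          PrimeSpectrum.comap (e.symm : η.M B →+* η.M A) (PrimeSpectrum.comap g Q₂) := by rw [h12]
      have h2 : ∀ Q : PrimeSpectrum (η.M B),
          PrimeSpectrum.comap (e.symm : η.M B →+* η.M A) (PrimeSpectrum.comap g Q) = Q := by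
        intro Q
        apply PrimeSpectrum.ext
        ext z
        change g (e.symm z) ∈ Q.asIdeal ↔ z ∈ Q.asIdeal
        rw [show g (e.symm z) = z from e.apply_symm_apply z]
      rw [h2, h2] at h1
      exact h1
    · intro Q'
      refine ⟨PrimeSpectrum.comap (e.symm : η.M B →+* η.M A) Q', ?_⟩
      apply PrimeSpectrum.ext
      ext z
      change e.symm (g z) ∈ Q'.asIdeal ↔ z ∈ Q'.asIdeal
      rw [show e.symm (g z) = z from e.symm_apply_apply z]
  have hcomap : ∀ Q'' : PrimeSpectrum (η.M B),
      PrimeSpectrum.comap f (PrimeSpectrum.comap (η.q B) Q'') =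
        PrimeSpectrum.comap (η.q A) (PrimeSpectrum.comap g Q'') := by
    intro Q''
    have h1 : PrimeSpectrum.comap ((η.q B).comp f) Q'' = PrimeSpectrum.comap (g.comp (η.q A)) Q'' := by
      rw [hsq]
    exact h1
  refine ⟨⟨?_, ?_⟩, ?_⟩
  · intro Q₁ Q₂ h12
    obtain ⟨Q₁'', rfl⟩ := hcB.2 Q₁
    obtain ⟨Q₂'', rfl⟩ := hcB.2 Q₂
    rw [hcomap, hcomap] at h12
    rw [hcg.1 (hcA.1 h12)]
  · intro P
    obtain ⟨Q', rfl⟩ := hcA.2 P
    obtain ⟨Q'', rfl⟩ := hcg.2 Q'
    exact ⟨PrimeSpectrum.comap (η.q B) Q'', hcomap Q''⟩
  · intro Q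
    -- π : B → F(k(P))
    let P := PrimeSpectrum.comap f Q
    let π : B →+* η.obj P.asIdeal.ResidueField :=
      (proj η P).comp ((e.symm : η.M B →+* η.M A).comp (η.q B))
    have hπf : π.comp f = etaPt η P := by
      refine RingHom.ext fun a => ?_
      change proj η P (e.symm (η.q B (f a))) = _
      have h1 : η.q B (f a) = g (η.q A a) := (RingHom.congr_fun hsq a).symm
      rw [h1, show e.symm (g (η.q A a)) = η.q A a from e.symm_apply_apply _]
      rfl
    have hker : ∀ b : B, π b = 0 ↔ b ∈ Q.asIdeal := by
      intro b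
      set x : η.M A := e.symm (η.q B b) with hx
      have hx1 : η.Nmap f (x : η.N A) = η.t B b := by
        rw [← hg, hx, show g (e.symm (η.q B b)) = η.q B b from e.apply_symm_apply _]
        rfl
      have h2 : η.Nmap f (x : η.N A) Q = η.t B b Q := by rw [hx1]
      rw [Nmap_apply, t_apply] at h2
      change (x : η.N A) P = 0 ↔ _
      constructor
      · intro h0
        change (x : η.N A) (PrimeSpectrum.comap f Q) = 0 at h0
        rw [h0, map_zero] at h2
        have h3 : algebraMap B Q.asIdeal.ResidueField b = 0 := by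
          apply eta_injective η; rw [← h2, map_zero]
        exact Ideal.algebraMap_residueField_eq_zero.mp h3
      · intro hb
        rw [Ideal.algebraMap_residueField_eq_zero.mpr hb, map_zero] at h2
        exact (map_eq_zero _).mp h2
    have h1 : Q.asIdeal ≤ RingHom.ker π := fun b hb => (hker b).mpr hb
    have h2 : Q.asIdeal.primeCompl ≤ (IsUnit.submonoid _).comap π := by
      intro b hb
      change IsUnit (π b)
      rw [isUnit_iff_ne_zero]
      exact fun h => hb ((hker b).mp h)
    refine ⟨Ideal.ResidueField.lift Q.asIdeal π h1 h2, ?_⟩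
    apply Ideal.ResidueField.ringHom_ext
    ext a
    change Ideal.ResidueField.lift Q.asIdeal π h1 h2
      (Ideal.ResidueField.map _ _ f rfl (algebraMap A _ a)) = η.eta _ (algebraMap A _ a)
    rw [Ideal.ResidueField.map_algebraMap, Ideal.ResidueField.lift_algebraMap]
    exact RingHom.congr_fun hπf a

end Groth.Agent.S19578
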