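import Groth.Statements.S1959
import Mathlib.RingTheory.IntegralClosure.Algebra.Ideal
-- import your own Groth.Agent.* helpers here

set_option autoImplicit false
universe u
open Polynomial
open EtAlg

namespace Groth.Agent.S1959

/-- Let I be an ideal of a ring A, A -> B an integral ring map and b an element of B whose image in B/IB
is idempotent. Then there are d ≥ 1 and a monic polynomial f over A with f(b) = 0 whose reduction
modulo I is x^d (x - 1)^d. -/
theorem result (A B : Type u) [CommRing A] [CommRing B] [Algebra A B]
    [Algebra.IsIntegral A B] (I : Ideal A) (b : B)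
    (hb : IsIdempotentElem (Ideal.Quotient.mk (I.map (algebraMap A B)) b)) :
    ∃ (f : A[X]) (d : ℕ), f.Monic ∧ 1 ≤ d ∧ aeval b f = 0 ∧
      f.map (Ideal.Quotient.mk I) = X ^ d * (X - 1) ^ d := by
  have hz : b * b - b ∈ I.map (algebraMap A B) := by
    rw [← Ideal.Quotient.eq_zero_iff_mem, map_sub, map_mul, sub_eq_zero]
    exact hb
  obtain ⟨p, hp, hpz, hpI⟩ := Polynomial.exists_monic_aeval_eq_zero_forall_mem_of_mem_map hz
  -- reduction of p modulo I is X ^ natDegree p
  have hpmap : p.map (Ideal.Quotient.mk I) = X ^ p.natDegree := by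
    ext i
    rw [coeff_map, coeff_X_pow]
    by_cases hi : i = p.natDegree
    · rw [if_pos hi, hi, hp.coeff_natDegree, map_one]
    · rw [if_neg hi, Ideal.Quotient.eq_zero_iff_mem]
      exact hpI i hi
  refine ⟨(X * p).comp (X ^ 2 - X), p.natDegree + 1, ?_, Nat.le_add_left _ _, ?_, ?_⟩
  · rcases subsingleton_or_nontrivial A with h | h
    · exact Subsingleton.elim _ _
    · have hq : (X ^ 2 - X : A[X]).Monic := by
        apply Polynomial.monic_X_pow_sub
        simp
      have hqdeg : (X ^ 2 - X : A[X]).natDegree ≠ 0 := by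
        have : (X ^ 2 - X : A[X]).natDegree = 2 := by
          rw [natDegree_sub_eq_left_of_natDegree_lt] <;> simp
        omega
      exact ((monic_X.mul hp).comp hq hqdeg)
  · rw [aeval_comp]
    have : aeval b (X ^ 2 - X : A[X]) = b * b - b := by
      simp [pow_two]
    rw [this, map_mul, hpz, mul_zero]
  · rw [map_comp, Polynomial.map_mul, hpmap, map_X]
    simp only [Polynomial.map_sub, Polynomial.map_pow, map_X]
    rw [mul_comp, X_comp, X_pow_comp, ← pow_succ', ← mul_pow]
    congr 1
    ring

end Groth.Agent.S1959
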