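import Groth.Statements.S19590
import Mathlib.Tactic.Ring
import Mathlib.Tactic.Linarith
import Mathlib.Tactic.NoncommRing
import Mathlib.Data.ZMod.Basic
import Mathlib.GroupTheory.OrderOfElement
-- import your own Groth.Agent.* helpers here

set_option autoImplicit false
open BddFin

namespace Groth.Agent.S19590

open Matrix

/-- entrywise divisibility by `3 ^ k` -/
def D {n : ℕ} (k : ℕ) (N : Matrix (Fin n) (Fin n) ℤ) : Prop := ∀ i j, (3 : ℤ) ^ k ∣ N i j

lemma D_mul {n a b : ℕ} {N M : Matrix (Fin n) (Fin n) ℤ} (hN : D a N) (hM : D b M) :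
    D (a + b) (N * M) := by
  intro i j
  rw [Matrix.mul_apply, pow_add]
  exact Finset.dvd_sum fun l _ => mul_dvd_mul (hN i l) (hM l j)

lemma D_zero' {n : ℕ} (N : Matrix (Fin n) (Fin n) ℤ) : D 0 N := fun i j => by simp

lemma D_mono {n a b : ℕ} {N : Matrix (Fin n) (Fin n) ℤ} (h : a ≤ b) (hN : D b N) : D a N :=
  fun i j => (pow_dvd_pow 3 h).trans (hN i j)

lemma D_add {n a : ℕ} {N M : Matrix (Fin n) (Fin n) ℤ} (hN : D a N) (hM : D a M) :
    D a (N + M) := fun i j => by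
  rw [Matrix.add_apply]; exact dvd_add (hN i j) (hM i j)

/-- `(1+N)^m = 1 + m N + N^2 Y`. -/
lemma exists_pow_expansion {n : ℕ} (N : Matrix (Fin n) (Fin n) ℤ) (m : ℕ) :
    ∃ Y : Matrix (Fin n) (Fin n) ℤ, (1 + N) ^ m = 1 + (m : ℤ) • N + N * N * Y := by
  induction m with
  | zero => exact ⟨0, by simp⟩
  | succ m ih =>
    obtain ⟨Y, hY⟩ := ih
    refine ⟨(m : ℤ) • 1 + Y + Y * N, ?_⟩
    rw [pow_succ, hY]
    push_cast
    rw [add_smul, one_smul]
    noncomm_ring

lemma step {n : ℕ} (p : ℕ) (hp : p.Prime) (N : Matrix (Fin n) (Fin n) ℤ) (k : ℕ) (hk : 1 ≤ k)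
    (hN : D k N) (hpow : (1 + N) ^ p = 1) : D (k + 1) N := by
  by_cases hp3 : p = 3
  · subst hp3
    have h3 : (1 + N) ^ 3 = 1 + (3 : ℤ) • N + (3 : ℤ) • (N * N) + N * N * N := by
      noncomm_ring
    rw [h3] at hpow
    have h2 : D (k + k) (N * N) := D_mul hN hN
    have h3' : D (k + k + k) (N * N * N) := D_mul h2 hN
    intro i j
    have hij : (3 : ℤ) * N i j = -(3 * (N * N) i j) - (N * N * N) i j := by
      have := congrFun (congrFun hpow i) j
      simp only [Matrix.add_apply, Matrix.smul_apply, smul_eq_mul] at this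
      linarith
    have hA : (3 : ℤ) ^ (k + 2) ∣ 3 * (N * N) i j := by
      have : (3 : ℤ) ^ (k + 2) = 3 * 3 ^ (k + 1) := by ring
      rw [this]
      exact mul_dvd_mul_left 3 ((pow_dvd_pow 3 (by omega)).trans (h2 i j))
    have hB : (3 : ℤ) ^ (k + 2) ∣ (N * N * N) i j :=
      (pow_dvd_pow 3 (by omega)).trans (h3' i j)
    have hC : (3 : ℤ) ^ (k + 2) ∣ 3 * N i j := by
      rw [hij]; exact dvd_sub (dvd_neg.2 hA) hB
    have : (3 : ℤ) ^ (k + 2) = 3 * 3 ^ (k + 1) := by ring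
    rw [this] at hC
    exact (mul_dvd_mul_iff_left (by norm_num : (3 : ℤ) ≠ 0)).1 hC
  · obtain ⟨Y, hY⟩ := exists_pow_expansion N p
    rw [hY] at hpow
    have h2 : D (k + k + 0) (N * N * Y) := D_mul (D_mul hN hN) (D_zero' Y)
    intro i j
    have hij : (p : ℤ) * N i j = -(N * N * Y) i j := by
      have := congrFun (congrFun hpow i) j
      simp only [Matrix.add_apply, Matrix.smul_apply, smul_eq_mul] at this
      linarith
    have hC : (3 : ℤ) ^ (k + k) ∣ (p : ℤ) * N i j := by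
      rw [hij]; exact dvd_neg.2 (h2 i j)
    have hcop : IsCoprime ((3 : ℤ) ^ (k + k)) (p : ℤ) := by
      apply IsCoprime.pow_left
      have : Nat.Coprime 3 p := (Nat.coprime_primes Nat.prime_three hp).2 (Ne.symm hp3)
      exact_mod_cast Nat.isCoprime_iff_coprime.2 this
    exact (pow_dvd_pow 3 (by omega)).trans (hcop.dvd_of_dvd_mul_left hC)

lemma eq_one_of_pow_prime {n : ℕ} (p : ℕ) (hp : p.Prime) (M : Matrix (Fin n) (Fin n) ℤ)
    (h3 : D 1 (M - 1)) (hpow : M ^ p = 1) : M = 1 := by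
  have hM : M = 1 + (M - 1) := by abel
  have hpow' : (1 + (M - 1)) ^ p = 1 := by rw [← hM]; exact hpow
  have hall : ∀ k, 1 ≤ k → D k (M - 1) :=
    fun k hk => Nat.le_induction h3 (fun k hk ih => step p hp (M - 1) k hk ih hpow') k hk
  have hN0 : M - 1 = 0 := by
    ext i j
    by_contra hne
    rw [Matrix.zero_apply] at hne
    have h1 := hall (((M - 1) i j).natAbs + 1) (by omega) i j
    have h2 : 3 ^ (((M - 1) i j).natAbs + 1) ∣ ((M - 1) i j).natAbs := by
      have := Int.natAbs_dvd_natAbs.2 h1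
      rwa [Int.natAbs_pow] at this
    have h3 := Nat.le_of_dvd (Int.natAbs_pos.2 hne) h2
    have h4 : ((M - 1) i j).natAbs + 1 < 3 ^ (((M - 1) i j).natAbs + 1) :=
      Nat.lt_pow_self (by norm_num)
    omega
  exact sub_eq_zero.1 hN0

lemma D_pow_sub_one {n : ℕ} (M : Matrix (Fin n) (Fin n) ℤ) (h3 : D 1 (M - 1)) (m : ℕ) :
    D 1 (M ^ m - 1) := by
  induction m with
  | zero => intro i j; simp
  | succ m ih =>
    have : M ^ (m + 1) - 1 = M ^ m * (M - 1) + (M ^ m - 1) := by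
      rw [pow_succ]; noncomm_ring
    rw [this]
    exact D_add (by simpa using D_mul (D_zero' (M ^ m)) h3) ih

lemma eq_one_of_isOfFinOrder {n : ℕ} (g : Matrix.GeneralLinearGroup (Fin n) ℤ)
    (hfin : IsOfFinOrder g)
    (h3 : D 1 ((g : Matrix (Fin n) (Fin n) ℤ) - 1)) : g = 1 := by
  by_contra hne
  have hd1 : orderOf g ≠ 1 := fun h => hne (orderOf_eq_one_iff.1 h)
  have hdpos : 0 < orderOf g := hfin.orderOf_pos
  have hp : (orderOf g).minFac.Prime := Nat.minFac_prime hd1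
  have hpd : (orderOf g).minFac ∣ orderOf g := Nat.minFac_dvd _
  set p := (orderOf g).minFac with hpdef
  set h := g ^ (orderOf g / p) with hh
  have hhp : h ^ p = 1 := by
    rw [hh, ← pow_mul, Nat.div_mul_cancel hpd, pow_orderOf_eq_one]
  have hh1 : h ≠ 1 := by
    apply pow_ne_one_of_lt_orderOf
    · exact (Nat.div_pos (Nat.le_of_dvd hdpos hpd) hp.pos).ne'
    · exact Nat.div_lt_self hdpos hp.one_lt
  apply hh1
  have hval : (h : Matrix (Fin n) (Fin n) ℤ) = (g : Matrix (Fin n) (Fin n) ℤ) ^ (orderOf g / p) := by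
    rw [hh]; exact Units.val_pow_eq_pow_val g _
  have hD : D 1 ((h : Matrix (Fin n) (Fin n) ℤ) - 1) := by
    rw [hval]; exact D_pow_sub_one _ h3 _
  have hpow : (h : Matrix (Fin n) (Fin n) ℤ) ^ p = 1 := by
    rw [← Units.val_pow_eq_pow_val, hhp]; rfl
  exact Units.ext (eq_one_of_pow_prime p hp _ hD hpow)

/-- For every n, the orders of the finite subgroups of GL_n(ℤ) are bounded: there is B such that every
finite subgroup of GL_n(ℤ) has at most B elements. -/
theorem result (n : ℕ) :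
    ∃ B : ℕ, ∀ H : Subgroup (Matrix.GeneralLinearGroup (Fin n) ℤ), Finite H → Nat.card H ≤ B := by
  classical
  refine ⟨Nat.card (Matrix (Fin n) (Fin n) (ZMod 3)), fun H hH => ?_⟩
  let φ : Matrix (Fin n) (Fin n) ℤ →+* Matrix (Fin n) (Fin n) (ZMod 3) :=
    (Int.castRingHom (ZMod 3)).mapMatrix
  let f : H → Matrix (Fin n) (Fin n) (ZMod 3) :=
    fun h => φ ((h : Matrix.GeneralLinearGroup (Fin n) ℤ) : Matrix (Fin n) (Fin n) ℤ)
  haveI : Finite (Matrix (Fin n) (Fin n) (ZMod 3)) := by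
    unfold Matrix; infer_instance
  apply Nat.card_le_card_of_injective f
  intro a b hab
  have hfin : IsOfFinOrder (a⁻¹ * b) := isOfFinOrder_of_finite _
  have hfin' : IsOfFinOrder ((a⁻¹ * b : H) : Matrix.GeneralLinearGroup (Fin n) ℤ) :=
    Submonoid.isOfFinOrder_coe (H := H.toSubmonoid).2 hfin
  have hk : ((a⁻¹ * b : H) : Matrix.GeneralLinearGroup (Fin n) ℤ) = 1 := by
    apply eq_one_of_isOfFinOrder _ hfin'
    have hφ : φ (((a⁻¹ * b : H) : Matrix.GeneralLinearGroup (Fin n) ℤ) :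
        Matrix (Fin n) (Fin n) ℤ) = 1 := by
      have e1 : (((a⁻¹ * b : H) : Matrix.GeneralLinearGroup (Fin n) ℤ) :
          Matrix (Fin n) (Fin n) ℤ) =
          (((a⁻¹ : H) : Matrix.GeneralLinearGroup (Fin n) ℤ) : Matrix (Fin n) (Fin n) ℤ) *
          ((b : Matrix.GeneralLinearGroup (Fin n) ℤ) : Matrix (Fin n) (Fin n) ℤ) := by
        simp
      have e2 : (((a⁻¹ : H) : Matrix.GeneralLinearGroup (Fin n) ℤ) : Matrix (Fin n) (Fin n) ℤ) *
          ((a : Matrix.GeneralLinearGroup (Fin n) ℤ) : Matrix (Fin n) (Fin n) ℤ) = 1 := by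
        rw [← Units.val_mul]; simp
      have hab' : φ ((b : Matrix.GeneralLinearGroup (Fin n) ℤ) : Matrix (Fin n) (Fin n) ℤ) =
          φ ((a : Matrix.GeneralLinearGroup (Fin n) ℤ) : Matrix (Fin n) (Fin n) ℤ) := hab.symm
      rw [e1, map_mul, hab', ← map_mul, e2, map_one]
    intro i j
    have := congrFun (congrFun hφ i) j
    have h0 : ((((((a⁻¹ * b : H) : Matrix.GeneralLinearGroup (Fin n) ℤ) :
        Matrix (Fin n) (Fin n) ℤ) - 1) i j : ℤ) : ZMod 3) = 0 := by
      simp only [φ, RingHom.mapMatrix_apply, Matrix.map_apply, Int.coe_castRingHom] at this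
      rw [Matrix.sub_apply, Int.cast_sub, this]
      by_cases hij : i = j
      · subst hij; simp
      · simp [hij]
    have := (ZMod.intCast_zmod_eq_zero_iff_dvd _ 3).1 h0
    simpa using this
  have : a⁻¹ * b = 1 := Subtype.ext hk
  exact (inv_mul_eq_one.1 this)

end Groth.Agent.S19590
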