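import Groth.Statements.S19591
import Mathlib.Tactic.Ring
import Mathlib.Tactic.Linarith
import Mathlib.Algebra.CharP.Two
import Mathlib.FieldTheory.Perfect
import Mathlib.LinearAlgebra.FiniteDimensional.Lemmas
-- import your own Groth.Agent.* helpers here

set_option autoImplicit false
universe u v
open BddFin

namespace Groth.Agent.S19591

/-- Let K be a perfect field of characteristic 2, V a finite-dimensional K-vector space with dim V > 2
and q a quadratic form on V whose polar bilinear form is non-degenerate. Then q represents zero
non-trivially. (Non-degeneracy of the polar form, which is alternating in characteristic 2, forces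
dim V to be even, as the published lemma notes.) -/
theorem result
    (K : Type u) [Field K] [CharP K 2] [PerfectField K]
    (V : Type v) [AddCommGroup V] [Module K V] [FiniteDimensional K V]
    (hV : 2 < Module.finrank K V) (q : QuadraticForm K V)
    (hq : (QuadraticMap.polarBilin q).Nondegenerate) :
    ∃ v : V, v ≠ 0 ∧ q v = 0 := by
  classical
  have hpos : 0 < Module.finrank K V := by omega
  obtain ⟨v, hv⟩ := (Module.finrank_pos_iff_exists_ne_zero (R := K) (M := V)).1 hpos
  by_cases hqv : q v = 0
  · exact ⟨v, hv, hqv⟩
  -- the functional `polar q v`
  let φ : V →ₗ[K] K := QuadraticMap.polarBilin q v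
  have hφ : ∀ w, φ w = QuadraticMap.polar q v w := fun w => rfl
  have hrk : Module.finrank K (LinearMap.range φ) + Module.finrank K (LinearMap.ker φ)
      = Module.finrank K V := LinearMap.finrank_range_add_finrank_ker φ
  have hr1 : Module.finrank K (LinearMap.range φ) ≤ 1 := by
    have := Submodule.finrank_le (LinearMap.range φ)
    simpa using this
  have hker : 2 ≤ Module.finrank K (LinearMap.ker φ) := by omega
  have hnot : ¬ (LinearMap.ker φ ≤ Submodule.span K {v}) := by
    intro hle
    have h1 := Submodule.finrank_mono hle
    have h2 : Module.finrank K (Submodule.span K ({v} : Set V)) ≤ 1 := by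
      rw [finrank_span_singleton hv]
    omega
  obtain ⟨w, hwker, hwspan⟩ := SetLike.not_le_iff_exists.1 hnot
  have hpol : QuadraticMap.polar q v w = 0 := by
    have : φ w = 0 := hwker
    rwa [hφ] at this
  haveI : ExpChar K 2 := ExpChar.prime Nat.prime_two
  haveI : PerfectRing K 2 := PerfectField.toPerfectRing 2
  obtain ⟨c, hc⟩ := surjective_frobenius K 2 (q w / q v)
  rw [frobenius_def] at hc
  refine ⟨c • v + w, ?_, ?_⟩
  · intro h0
    apply hwspan
    have : w = (-c) • v := by
      rw [neg_smul]
      exact eq_neg_of_add_eq_zero_right h0
    rw [this]
    exact Submodule.smul_mem _ _ (Submodule.mem_span_singleton_self v)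
  · have hexp : q (c • v + w) = q (c • v) + q w + QuadraticMap.polar q (c • v) w := by
      unfold QuadraticMap.polar
      ring
    rw [hexp, QuadraticMap.polar_smul_left, hpol, QuadraticMap.map_smul]
    have hcc : c * c * q v = q w := by
      have : c ^ 2 * q v = q w := by rw [hc]; field_simp
      rw [← this]; ring
    simp only [smul_eq_mul, mul_zero, add_zero]
    rw [hcc]
    exact CharTwo.add_self_eq_zero (q w)

end Groth.Agent.S19591
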