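import Groth.Statements.S19595
import Groth.Agent.Lib.Helper76.ArLefPS

set_option autoImplicit false
universe u
open ArLef

namespace Groth.Agent.S19595

/-- In the case of a smooth point lying on the divisorial part of the fixed locus with multiplicity i
strictly between 0 and j, let B be a discrete valuation ring with uniformizer π and residue field k,
B[[t]] the complete local ring of a semi-stable arithmetic surface over B at a point x where the
closed fibre is smooth, and σ a ring automorphism of B[[t]] with σ(π) = π + γ π^j (γ a unit of B, j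
≥ 1) and σ(b) - b ∈ π^j B[[t]] for all b ∈ B (σ lies over an automorphism τ of B with v(τ(π) - π) =
j). Suppose σ(t) - t = π^i f with 0 < i < j and π not dividing f, so that the fixed-point ideal I of
σ is (π^j, π^i f) and its divisorial part near x is the closed fibre with multiplicity i. Then the
residual fixed-point scheme, with ideal (I : π^i), has length (j - i) m at x, where m is the length
of k[[t]]/(f mod π) (the order at x of the derivation induced by σ on the closed fibre). -/
theorem result (B : Type u) [CommRing B] [IsDomain B] [IsDiscreteValuationRing B] (π : B) (hπ : Irreducible π)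
    (j i : ℕ) (hi : 0 < i) (hij : i < j) (γ : B) (hγ : IsUnit γ)
    (σ : PowerSeries B ≃+* PowerSeries B)
    (hσB : ∀ b : B, σ (algebraMap B (PowerSeries B) b) - algebraMap B (PowerSeries B) b ∈
      Ideal.span ({algebraMap B (PowerSeries B) (π ^ j)} : Set (PowerSeries B)))
    (hσπ : σ (algebraMap B (PowerSeries B) π) = algebraMap B (PowerSeries B) (π + γ * π ^ j))
    (f : PowerSeries B) (hf : σ PowerSeries.X - PowerSeries.X = algebraMap B (PowerSeries B) (π ^ i) * f)
    (hfπ : ¬ (algebraMap B (PowerSeries B) π ∣ f)) :
    Module.length (PowerSeries B) (PowerSeries B ⧸ (ArLef.fixIdeal σ).colon ({algebraMap B (PowerSeries B) (π ^ i)} : Set (PowerSeries B))) =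
      ((j - i : ℕ) : ℕ∞) * Module.length (PowerSeries (IsLocalRing.ResidueField B)) (PowerSeries (IsLocalRing.ResidueField B) ⧸
        Ideal.span ({PowerSeries.map (IsLocalRing.residue B) f} : Set (PowerSeries (IsLocalRing.ResidueField B)))) := by
  have hfix := Groth.Agent.Lib.Helper76.ArLefPS.fixIdeal_eq (π := π) σ hγ hσB hσπ
  have hπ0 : algebraMap B (PowerSeries B) π ^ i ≠ 0 :=
    pow_ne_zero _ (Groth.Agent.Lib.Helper76.ArLefPS.aC_ne_zero hπ)
  have hcolon : (ArLef.fixIdeal σ).colon
      ({algebraMap B (PowerSeries B) (π ^ i)} : Set (PowerSeries B)) =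
      Ideal.span {f, algebraMap B (PowerSeries B) π ^ (j - i)} := by
    ext z
    rw [Submodule.mem_colon_singleton, hfix, Ideal.mem_span_pair, Ideal.mem_span_pair, hf,
      smul_eq_mul, map_pow, map_pow]
    have hji : j = i + (j - i) := by omega
    constructor
    · rintro ⟨u, v, huv⟩
      refine ⟨v, u, ?_⟩
      apply mul_right_cancel₀ hπ0
      have hp : algebraMap B (PowerSeries B) π ^ j =
          algebraMap B (PowerSeries B) π ^ i * algebraMap B (PowerSeries B) π ^ (j - i) := by
        rw [← pow_add, ← hji]
      rw [hp] at huv
      linear_combination huv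
    · rintro ⟨u, v, huv⟩
      refine ⟨v, u, ?_⟩
      have hp : algebraMap B (PowerSeries B) π ^ j =
          algebraMap B (PowerSeries B) π ^ i * algebraMap B (PowerSeries B) π ^ (j - i) := by
        rw [← pow_add, ← hji]
      rw [hp, ← huv]
      ring
  rw [hcolon]
  exact Groth.Agent.Lib.Helper76.ArLefPS.length_pi_pow' hπ hfπ (j - i)

end Groth.Agent.S19595
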