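import Groth.Statements.S19596
import Groth.Agent.Lib.Helper76.ArLefNode

set_option autoImplicit false
universe u
open ArLef ArLef.NodeAlg

namespace Groth.Agent.S19596

/-- In the cases where σ fixes the two branches through the point, these lie on different components,
and the second branch lies in the divisorial part of the fixed locus with multiplicity i₂ strictly
between 0 and j while the first has multiplicity i₁ ≤ i₂, let B be a discrete valuation ring with
uniformizer π, N = B[[t, e]]/(te - π) the complete local ring of a semi-stable arithmetic surface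
over B at a singular point x of the closed fibre, and σ a ring automorphism of N with σ(π) = π + γ
π^j (γ a unit of B, j ≥ 1) and σ(c) - c ∈ π^j N for all c ∈ B. Suppose σ(t) = α t and σ(e) = β e
with units α, β, and α - 1 = t^{i₁} e^{i₂} a, β - 1 = t^{i₁} e^{i₂} b with i₁ ≤ i₂, 0 < i₂ < j, e
not dividing a and t not dividing b. Then, I being the fixed-point ideal of σ, whose divisorial part
near x is t^{i₁} e^{i₂}, the residual fixed-point scheme with ideal (I : t^{i₁} e^{i₂}) has length 1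
+ (j - i₁)·Leng N/(t, b) + (j - i₂)·Leng N/(e, a) at x; here Leng N/(t, b) + i₂ + 1 and Leng N/(e,
a) + i₁ + 1 are the orders at x of the derivations σ induces on the two components (the fixed-point
multiplicities when the component is outside the divisorial part). -/
theorem result (B : Type u) [CommRing B] [IsDomain B] [IsDiscreteValuationRing B] (π : B) (hπ : Irreducible π)
    (j i₁ i₂ : ℕ) (h12 : i₁ ≤ i₂) (h2 : 0 < i₂) (h2j : i₂ < j) (γ : B) (hγ : IsUnit γ)
    (σ : ArLef.NodeAlg B π ≃+* ArLef.NodeAlg B π)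
    (hσB : ∀ c : B, σ (algebraMap B (ArLef.NodeAlg B π) c) - algebraMap B (ArLef.NodeAlg B π) c ∈
      Ideal.span ({algebraMap B (ArLef.NodeAlg B π) (π ^ j)} : Set (ArLef.NodeAlg B π)))
    (hσπ : σ (algebraMap B (ArLef.NodeAlg B π) π) = algebraMap B (ArLef.NodeAlg B π) (π + γ * π ^ j))
    (α β : (ArLef.NodeAlg B π)ˣ) (ht : σ (ArLef.NodeAlg.t π) = (α : ArLef.NodeAlg B π) * ArLef.NodeAlg.t π) (he : σ (ArLef.NodeAlg.e π) = (β : ArLef.NodeAlg B π) * ArLef.NodeAlg.e π)
    (a b : ArLef.NodeAlg B π) (ha : (α : ArLef.NodeAlg B π) - 1 = ArLef.NodeAlg.t π ^ i₁ * ArLef.NodeAlg.e π ^ i₂ * a) (hb : (β : ArLef.NodeAlg B π) - 1 = ArLef.NodeAlg.t π ^ i₁ * ArLef.NodeAlg.e π ^ i₂ * b)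
    (hea : ¬ (ArLef.NodeAlg.e π ∣ a)) (htb : ¬ (ArLef.NodeAlg.t π ∣ b)) :
    Module.length (ArLef.NodeAlg B π) (ArLef.NodeAlg B π ⧸ (ArLef.fixIdeal σ).colon ({ArLef.NodeAlg.t π ^ i₁ * ArLef.NodeAlg.e π ^ i₂} : Set (ArLef.NodeAlg B π))) =
      1 + ((j - i₁ : ℕ) : ℕ∞) * Module.length (ArLef.NodeAlg B π) (ArLef.NodeAlg B π ⧸ Ideal.span ({ArLef.NodeAlg.t π, b} : Set (ArLef.NodeAlg B π))) +
        ((j - i₂ : ℕ) : ℕ∞) * Module.length (ArLef.NodeAlg B π) (ArLef.NodeAlg B π ⧸ Ideal.span ({ArLef.NodeAlg.e π, a} : Set (ArLef.NodeAlg B π))) := by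
  haveI := Groth.Agent.Lib.Helper76.ArLefNode.isDomain_node hπ
  have htp : Prime (t π) := Groth.Agent.Lib.Helper76.ArLefNode.prime_t hπ
  have hep : Prime (e π) := Groth.Agent.Lib.Helper76.ArLefNode.prime_e hπ
  have hnte := Groth.Agent.Lib.Helper76.ArLefNode.not_t_dvd_e hπ
  have hnet := Groth.Agent.Lib.Helper76.ArLefNode.not_e_dvd_t hπ
  have hte : t π * e π = algebraMap B (NodeAlg B π) π :=
    Groth.Agent.Lib.Helper76.ArLefNode.t_mul_e
  obtain ⟨m₂, rfl⟩ : ∃ m₂, j = i₂ + 1 + m₂ := ⟨j - i₂ - 1, by omega⟩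
  obtain ⟨d, rfl⟩ : ∃ d, i₂ = i₁ + d := ⟨i₂ - i₁, by omega⟩
  obtain ⟨γ', hγ'⟩ := hγ.exists_left_inv
  obtain ⟨g₀, hg₀⟩ : ∃ g₀ : NodeAlg B π, g₀ = algebraMap B (NodeAlg B π) γ := ⟨_, rfl⟩
  obtain ⟨g₁, hg₁⟩ : ∃ g₁ : NodeAlg B π, g₁ = algebraMap B (NodeAlg B π) γ' := ⟨_, rfl⟩
  have hgg : g₁ * g₀ = 1 := by rw [hg₀, hg₁, ← map_mul, hγ', map_one]
  obtain ⟨D, hD⟩ : ∃ D : NodeAlg B π, D = t π ^ i₁ * e π ^ (i₁ + d) := ⟨_, rfl⟩
  have hD0 : D ≠ 0 := by
    rw [hD]
    exact mul_ne_zero (pow_ne_zero _ htp.ne_zero) (pow_ne_zero _ hep.ne_zero)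
  rw [← hD] at ha hb ⊢
  have hα : (α : NodeAlg B π) = 1 + D * a := by linear_combination ha
  have hβ : (β : NodeAlg B π) = 1 + D * b := by linear_combination hb
  rw [hα] at ht
  rw [hβ] at he
  obtain ⟨TT, hTT⟩ : ∃ TT : NodeAlg B π, TT = t π ^ (d + m₂) * e π ^ m₂ := ⟨_, rfl⟩
  have hDT : D * (t π * e π) * TT = (t π * e π) ^ (i₁ + d + 1 + m₂) := by
    rw [hD, hTT]
    ring
  have hstar : a + b + D * a * b = g₀ * TT := by
    have h1 : σ (t π * e π) = t π * e π + g₀ * (t π * e π) ^ (i₁ + d + 1 + m₂) := by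
      rw [hte, hσπ, map_add, map_mul, map_pow, hg₀]
    rw [map_mul, ht, he] at h1
    have hte0 : D * (t π * e π) ≠ 0 :=
      mul_ne_zero hD0 (mul_ne_zero htp.ne_zero hep.ne_zero)
    apply mul_left_cancel₀ hte0
    linear_combination h1 - g₀ * hDT
  have hσt : σ (t π) - t π = D * a * t π := by
    rw [ht]; ring
  have hσe : σ (e π) - e π = D * b * e π := by
    rw [he]; ring
  have hfix : ArLef.fixIdeal σ = Ideal.span {D * a * t π, D * b * e π} := by
    apply le_antisymm
    · unfold ArLef.fixIdeal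
      rw [Ideal.span_le]
      rintro _ ⟨r, rfl⟩
      refine Groth.Agent.Lib.Helper76.ArLefNode.sub_mem_node hπ σ _ (fun c => ?_) ?_ ?_ r
      · have hpj : algebraMap B (NodeAlg B π) (π ^ (i₁ + d + 1 + m₂)) ∈
            Ideal.span {D * a * t π, D * b * e π} := by
          rw [map_pow, ← hte, Ideal.mem_span_pair]
          exact ⟨g₁ * e π, g₁ * (t π + D * a * t π), by
            linear_combination (g₁ * D * t π * e π) * hstar + (g₁ * g₀) * hDT +
              (t π * e π) ^ (i₁ + d + 1 + m₂) * hgg⟩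
        exact (Ideal.span_le.mpr (Set.singleton_subset_iff.mpr hpj)) (hσB c)
      · rw [hσt]
        exact Ideal.subset_span (by simp)
      · rw [hσe]
        exact Ideal.subset_span (by simp)
    · rw [Ideal.span_le]
      intro z hz
      simp only [Set.mem_insert_iff, Set.mem_singleton_iff] at hz
      rcases hz with rfl | rfl
      · rw [← hσt]
        exact Ideal.subset_span ⟨_, rfl⟩
      · rw [← hσe]
        exact Ideal.subset_span ⟨_, rfl⟩
  have hcolon : (ArLef.fixIdeal σ).colon ({D} : Set (NodeAlg B π)) =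
      Ideal.span {t π * a, b * e π} := by
    ext x
    rw [Submodule.mem_colon_singleton, hfix, smul_eq_mul, Ideal.mem_span_pair,
      Ideal.mem_span_pair]
    constructor
    · rintro ⟨u, v, huv⟩
      refine ⟨u, v, ?_⟩
      apply mul_left_cancel₀ hD0
      linear_combination huv
    · rintro ⟨u, v, huv⟩
      exact ⟨u, v, by linear_combination D * huv⟩
  -- regularity facts
  have hreg₁ : ∀ v, b * e π ∣ t π * v → b * e π ∣ v := by
    rintro v ⟨c, hc⟩
    have h1 : e π ∣ t π * v := ⟨b * c, by rw [hc]; ring⟩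
    rcases hep.dvd_or_dvd h1 with h2 | h2
    · exact absurd h2 hnet
    · obtain ⟨v₁, rfl⟩ := h2
      have h3 : t π * v₁ = b * c := by
        apply mul_left_cancel₀ hep.ne_zero
        linear_combination hc
      have h4 : t π ∣ b * c := ⟨v₁, h3.symm⟩
      rcases htp.dvd_or_dvd h4 with h5 | h5
      · exact absurd h5 htb
      · obtain ⟨c₁, rfl⟩ := h5
        refine ⟨c₁, ?_⟩
        have h6 : v₁ = b * c₁ := by
          apply mul_left_cancel₀ htp.ne_zero
          linear_combination h3
        rw [h6]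
        ring
  have hreg₂ : ∀ v, t π ∣ e π * v → t π ∣ v := by
    intro v hv
    rcases htp.dvd_or_dvd hv with h | h
    · exact absurd h hnte
    · exact h
  have hreg₃ : ∀ v, a ∣ e π * v → a ∣ v := by
    rintro v ⟨c, hc⟩
    have h1 : e π ∣ a * c := ⟨v, hc.symm⟩
    rcases hep.dvd_or_dvd h1 with h2 | h2
    · exact absurd h2 hea
    · obtain ⟨c₁, rfl⟩ := h2
      refine ⟨c₁, ?_⟩
      apply mul_left_cancel₀ hep.ne_zero
      linear_combination hc
  have hs1 := Groth.Agent.Lib.Helper76.ArLefNode.length_mul_pair (t π) a (b * e π) hreg₁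
  have hs2 := Groth.Agent.Lib.Helper76.ArLefNode.length_mul_pair (e π) b (t π) hreg₂
  have hs3 := Groth.Agent.Lib.Helper76.ArLefNode.length_mul_pair (e π) b a hreg₃
  haveI := Groth.Agent.Lib.Helper76.ArLefNode.isMaximal_span_t_e hπ
  have hmax : Module.length (NodeAlg B π) (NodeAlg B π ⧸
      Ideal.span {e π, t π}) = 1 := by
    rw [Set.pair_comm]
    exact Groth.Agent.Lib.Helper76.ArNF.length_quot_of_isMaximal _
  -- the ideal (a, b)
  have hspab : (Ideal.span {b, a} : Ideal (NodeAlg B π)) = Ideal.span {TT, a} := by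
    apply le_antisymm
    · rw [Ideal.span_le]
      intro z hz
      simp only [Set.mem_insert_iff, Set.mem_singleton_iff] at hz
      rcases hz with rfl | rfl
      · rw [SetLike.mem_coe, Ideal.mem_span_pair]
        exact ⟨g₀, -(1 + D * z), by linear_combination -hstar⟩
      · exact Ideal.subset_span (by simp)
    · rw [Ideal.span_le]
      intro z hz
      simp only [Set.mem_insert_iff, Set.mem_singleton_iff] at hz
      rcases hz with rfl | rfl
      · rw [SetLike.mem_coe, Ideal.mem_span_pair]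
        exact ⟨g₁, g₁ * (1 + D * b), by linear_combination g₁ * hstar + z * hgg⟩
      · exact Ideal.subset_span (by simp)
  have hab : Module.length (NodeAlg B π) (NodeAlg B π ⧸ Ideal.span {b, a}) =
      (m₂ : ℕ∞) * Module.length (NodeAlg B π) (NodeAlg B π ⧸ Ideal.span {e π, a}) +
        ((d + m₂ : ℕ) : ℕ∞) * Module.length (NodeAlg B π) (NodeAlg B π ⧸
          Ideal.span {t π, b}) := by
    rw [hspab]
    rcases Nat.eq_zero_or_pos (d + m₂) with h0 | hpos
    · have hm0 : m₂ = 0 := by omega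
      have hT1 : TT = 1 := by
        rw [hTT, h0, hm0, pow_zero, pow_zero, mul_one]
      have : (Ideal.span {TT, a} : Ideal (NodeAlg B π)) = ⊤ := by
        rw [Ideal.eq_top_iff_one, hT1]
        exact Ideal.subset_span (by simp)
      rw [this, h0, hm0, Nat.cast_zero, zero_mul, zero_mul, add_zero]
      exact Module.length_eq_zero_iff.mpr (Ideal.Quotient.subsingleton_iff.mpr rfl)
    · obtain ⟨k, hk⟩ : ∃ k, d + m₂ = k + 1 := ⟨d + m₂ - 1, by omega⟩
      have hTT' : TT = t π * (t π ^ k * e π ^ m₂) := by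
        rw [hTT, hk]
        ring
      have hnta : ¬ t π ∣ a := by
        intro hd
        apply htb
        have h1 : t π ∣ g₀ * TT - a - D * a * b := by
          refine dvd_sub (dvd_sub ?_ hd) ((hd.mul_left D).mul_right b)
          exact ⟨g₀ * (t π ^ k * e π ^ m₂), by rw [hTT']; ring⟩
        have h2 : g₀ * TT - a - D * a * b = b := by linear_combination -hstar
        rwa [h2] at h1
      have hreg₄ : ∀ v, a ∣ t π ^ (d + m₂) * v → a ∣ v := by
        rintro v ⟨c, hc⟩
        have h1 : t π ^ (d + m₂) ∣ a * c := ⟨v, hc.symm⟩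
        obtain ⟨c₁, rfl⟩ := htp.pow_dvd_of_dvd_mul_left _ hnta h1
        refine ⟨c₁, ?_⟩
        apply mul_left_cancel₀ (pow_ne_zero (d + m₂) htp.ne_zero)
        linear_combination hc
      have hs4 := Groth.Agent.Lib.Helper76.ArLefNode.length_mul_pair
        (t π ^ (d + m₂)) (e π ^ m₂) a hreg₄
      have hspat : (Ideal.span {a, t π} : Ideal (NodeAlg B π)) = Ideal.span {t π, b} := by
        apply le_antisymm
        · rw [Ideal.span_le]
          intro z hz
          simp only [Set.mem_insert_iff, Set.mem_singleton_iff] at hz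
          rcases hz with rfl | rfl
          · rw [SetLike.mem_coe, Ideal.mem_span_pair]
            exact ⟨g₀ * (t π ^ k * e π ^ m₂), -(1 + D * z), by
              linear_combination -hstar - g₀ * hTT'⟩
          · exact Ideal.subset_span (by simp)
        · rw [Ideal.span_le]
          intro z hz
          simp only [Set.mem_insert_iff, Set.mem_singleton_iff] at hz
          rcases hz with rfl | rfl
          · exact Ideal.subset_span (by simp)
          · rw [SetLike.mem_coe, Ideal.mem_span_pair]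
            exact ⟨-(1 + D * z), g₀ * (t π ^ k * e π ^ m₂), by
              linear_combination -hstar - g₀ * hTT'⟩
      rw [hTT, hs4, Set.pair_comm (e π ^ m₂) a, Set.pair_comm (t π ^ (d + m₂)) a,
        Groth.Agent.Lib.Helper76.ArLefNode.length_span_pair_pow hep hea,
        Groth.Agent.Lib.Helper76.ArLefNode.length_span_pair_pow htp hnta, hspat,
        Set.pair_comm a (e π)]
  -- assemble
  have e1 : i₁ + d + 1 + m₂ - i₁ = d + m₂ + 1 := by omega
  have e2 : i₁ + d + 1 + m₂ - (i₁ + d) = m₂ + 1 := by omega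
  rw [hcolon, hs1, Set.pair_comm (t π) (b * e π), mul_comm b (e π), hs2,
    Set.pair_comm a (e π * b), hs3, hab, hmax, Set.pair_comm b (t π), e1, e2]
  push_cast
  ring

end Groth.Agent.S19596
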