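import Groth.Statements.S19597
import Groth.Agent.Lib.Helper76.ArLefNode

set_option autoImplicit false
universe u
open ArLef ArLef.NodeAlg

namespace Groth.Agent.S19597

/-- In the cases where σ fixes the two branches through the point, these lie on different components,
the second lies in the divisorial part of the fixed locus with the maximal multiplicity j and the
first with multiplicity i₁ < j, let B be a discrete valuation ring with uniformizer π, N = B[[t,
e]]/(te - π) the complete local ring of a semi-stable arithmetic surface over B at a singular point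
x of the closed fibre, and σ a ring automorphism of N with σ(π) = π + γ π^j (γ a unit of B, j ≥ 1)
and σ(c) - c ∈ π^j N for all c ∈ B. Suppose σ(t) = α t and σ(e) = β e with units α, β, that α - 1 =
t^{i₁} e^j a and β - 1 = t^{i₁} e^{j-1} b with i₁ < j and t not dividing b. Then, I being the
fixed-point ideal of σ, whose divisorial part near x is t^{i₁} e^j, the length l of the residual
fixed-point scheme with ideal (I : t^{i₁} e^j) satisfies l + (j - 1 - i₁) = (j - i₁)·Leng N/(t, b);
for i₁ = 0, Leng N/(t, b) + j is the fixed-point multiplicity s₁ of σ at x on the first component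
and l = j (s₁ - j - 1) + 1. -/
theorem result (B : Type u) [CommRing B] [IsDomain B] [IsDiscreteValuationRing B] (π : B) (hπ : Irreducible π)
    (j i₁ : ℕ) (h1 : i₁ < j) (γ : B) (hγ : IsUnit γ)
    (σ : ArLef.NodeAlg B π ≃+* ArLef.NodeAlg B π)
    (hσB : ∀ c : B, σ (algebraMap B (ArLef.NodeAlg B π) c) - algebraMap B (ArLef.NodeAlg B π) c ∈
      Ideal.span ({algebraMap B (ArLef.NodeAlg B π) (π ^ j)} : Set (ArLef.NodeAlg B π)))
    (hσπ : σ (algebraMap B (ArLef.NodeAlg B π) π) = algebraMap B (ArLef.NodeAlg B π) (π + γ * π ^ j))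
    (α β : (ArLef.NodeAlg B π)ˣ) (ht : σ (ArLef.NodeAlg.t π) = (α : ArLef.NodeAlg B π) * ArLef.NodeAlg.t π) (he : σ (ArLef.NodeAlg.e π) = (β : ArLef.NodeAlg B π) * ArLef.NodeAlg.e π)
    (a b : ArLef.NodeAlg B π) (ha : (α : ArLef.NodeAlg B π) - 1 = ArLef.NodeAlg.t π ^ i₁ * ArLef.NodeAlg.e π ^ j * a) (hb : (β : ArLef.NodeAlg B π) - 1 = ArLef.NodeAlg.t π ^ i₁ * ArLef.NodeAlg.e π ^ (j - 1) * b)
    (htb : ¬ (ArLef.NodeAlg.t π ∣ b)) :
    Module.length (ArLef.NodeAlg B π) (ArLef.NodeAlg B π ⧸ (ArLef.fixIdeal σ).colon ({ArLef.NodeAlg.t π ^ i₁ * ArLef.NodeAlg.e π ^ j} : Set (ArLef.NodeAlg B π))) + ((j - 1 - i₁ : ℕ) : ℕ∞) =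
      ((j - i₁ : ℕ) : ℕ∞) * Module.length (ArLef.NodeAlg B π) (ArLef.NodeAlg B π ⧸ Ideal.span ({ArLef.NodeAlg.t π, b} : Set (ArLef.NodeAlg B π))) := by
  haveI := Groth.Agent.Lib.Helper76.ArLefNode.isDomain_node hπ
  have htp : Prime (t π) := Groth.Agent.Lib.Helper76.ArLefNode.prime_t hπ
  have hep : Prime (e π) := Groth.Agent.Lib.Helper76.ArLefNode.prime_e hπ
  have hnte := Groth.Agent.Lib.Helper76.ArLefNode.not_t_dvd_e hπ
  have hte : t π * e π = algebraMap B (NodeAlg B π) π :=
    Groth.Agent.Lib.Helper76.ArLefNode.t_mul_e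
  obtain ⟨m, rfl⟩ : ∃ m, j = i₁ + 1 + m := ⟨j - i₁ - 1, by omega⟩
  have ej : i₁ + 1 + m - 1 = i₁ + m := by omega
  rw [ej] at hb
  obtain ⟨γ', hγ'⟩ := hγ.exists_left_inv
  obtain ⟨g₀, hg₀⟩ : ∃ g₀ : NodeAlg B π, g₀ = algebraMap B (NodeAlg B π) γ := ⟨_, rfl⟩
  obtain ⟨g₁, hg₁⟩ : ∃ g₁ : NodeAlg B π, g₁ = algebraMap B (NodeAlg B π) γ' := ⟨_, rfl⟩
  have hgg : g₁ * g₀ = 1 := by rw [hg₀, hg₁, ← map_mul, hγ', map_one]
  obtain ⟨D, hD⟩ : ∃ D : NodeAlg B π, D = t π ^ i₁ * e π ^ (i₁ + m) := ⟨_, rfl⟩
  have hD0 : D ≠ 0 := by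
    rw [hD]
    exact mul_ne_zero (pow_ne_zero _ htp.ne_zero) (pow_ne_zero _ hep.ne_zero)
  have hDe : t π ^ i₁ * e π ^ (i₁ + 1 + m) = D * e π := by
    rw [hD]
    ring
  rw [hDe] at ha ⊢
  rw [← hD] at hb
  have hα : (α : NodeAlg B π) = 1 + D * e π * a := by linear_combination ha
  have hβ : (β : NodeAlg B π) = 1 + D * b := by linear_combination hb
  obtain ⟨ai, hai⟩ : ∃ ai : NodeAlg B π, ai * (1 + D * e π * a) = 1 :=
    ⟨((α⁻¹ : (NodeAlg B π)ˣ) : NodeAlg B π), by rw [← hα]; simp⟩
  rw [hα] at ht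
  rw [hβ] at he
  have hDT : D * (t π * e π) * t π ^ m = (t π * e π) ^ (i₁ + 1 + m) := by
    rw [hD]
    ring
  have hstar : e π * a + b + D * e π * a * b = g₀ * t π ^ m := by
    have h1 : σ (t π * e π) = t π * e π + g₀ * (t π * e π) ^ (i₁ + 1 + m) := by
      rw [hte, hσπ, map_add, map_mul, map_pow, hg₀]
    rw [map_mul, ht, he] at h1
    have hte0 : D * (t π * e π) ≠ 0 :=
      mul_ne_zero hD0 (mul_ne_zero htp.ne_zero hep.ne_zero)
    apply mul_left_cancel₀ hte0
    linear_combination h1 - g₀ * hDT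
  have hσt : σ (t π) - t π = D * e π * a * t π := by
    rw [ht]; ring
  have hσe : σ (e π) - e π = D * b * e π := by
    rw [he]; ring
  have hfix : ArLef.fixIdeal σ = Ideal.span {D * e π * a * t π, D * b * e π} := by
    apply le_antisymm
    · unfold ArLef.fixIdeal
      rw [Ideal.span_le]
      rintro _ ⟨r, rfl⟩
      refine Groth.Agent.Lib.Helper76.ArLefNode.sub_mem_node hπ σ _ (fun c => ?_) ?_ ?_ r
      · have hpj : algebraMap B (NodeAlg B π) (π ^ (i₁ + 1 + m)) ∈
            Ideal.span {D * e π * a * t π, D * b * e π} := by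
          rw [map_pow, ← hte, Ideal.mem_span_pair]
          exact ⟨g₁ * e π, g₁ * (t π + D * e π * a * t π), by
            linear_combination (g₁ * D * t π * e π) * hstar + (g₁ * g₀) * hDT +
              (t π * e π) ^ (i₁ + 1 + m) * hgg⟩
        exact (Ideal.span_le.mpr (Set.singleton_subset_iff.mpr hpj)) (hσB c)
      · rw [hσt]
        exact Ideal.subset_span (by simp)
      · rw [hσe]
        exact Ideal.subset_span (by simp)
    · rw [Ideal.span_le]
      intro z hz
      simp only [Set.mem_insert_iff, Set.mem_singleton_iff] at hz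
      rcases hz with rfl | rfl
      · rw [← hσt]
        exact Ideal.subset_span ⟨_, rfl⟩
      · rw [← hσe]
        exact Ideal.subset_span ⟨_, rfl⟩
  have hDe0 : D * e π ≠ 0 := mul_ne_zero hD0 hep.ne_zero
  have hcolon : (ArLef.fixIdeal σ).colon ({D * e π} : Set (NodeAlg B π)) =
      Ideal.span {t π * a, b} := by
    ext x
    rw [Submodule.mem_colon_singleton, hfix, smul_eq_mul, Ideal.mem_span_pair,
      Ideal.mem_span_pair]
    constructor
    · rintro ⟨u, v, huv⟩
      refine ⟨u, v, ?_⟩
      apply mul_left_cancel₀ hDe0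
      linear_combination huv
    · rintro ⟨u, v, huv⟩
      exact ⟨u, v, by linear_combination (D * e π) * huv⟩
  -- regularity facts
  have hreg₁ : ∀ v, b ∣ t π * v → b ∣ v := by
    rintro v ⟨c, hc⟩
    have h1 : t π ∣ b * c := ⟨v, hc.symm⟩
    rcases htp.dvd_or_dvd h1 with h2 | h2
    · exact absurd h2 htb
    · obtain ⟨c₁, rfl⟩ := h2
      refine ⟨c₁, ?_⟩
      apply mul_left_cancel₀ htp.ne_zero
      linear_combination hc
  have hreg₂ : ∀ v, t π ∣ e π * v → t π ∣ v := by
    intro v hv
    rcases htp.dvd_or_dvd hv with h | h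
    · exact absurd h hnte
    · exact h
  have hs1 := Groth.Agent.Lib.Helper76.ArLefNode.length_mul_pair (t π) a b hreg₁
  have hs2 := Groth.Agent.Lib.Helper76.ArLefNode.length_mul_pair (e π) a (t π) hreg₂
  haveI := Groth.Agent.Lib.Helper76.ArLefNode.isMaximal_span_t_e hπ
  have hmax : Module.length (NodeAlg B π) (NodeAlg B π ⧸
      Ideal.span {e π, t π}) = 1 := by
    rw [Set.pair_comm]
    exact Groth.Agent.Lib.Helper76.ArNF.length_quot_of_isMaximal _
  have hb' : -ai * e π * a + ai * g₀ * t π ^ m = b := by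
    linear_combination (-ai) * hstar + b * hai
  -- the ideal (a, b)
  have hspab : (Ideal.span {a, b} : Ideal (NodeAlg B π)) = Ideal.span {a, t π ^ m} := by
    apply le_antisymm
    · rw [Ideal.span_le]
      intro z hz
      simp only [Set.mem_insert_iff, Set.mem_singleton_iff] at hz
      rcases hz with rfl | rfl
      · exact Ideal.subset_span (by simp)
      · rw [SetLike.mem_coe, Ideal.mem_span_pair]
        exact ⟨-ai * e π, ai * g₀, by linear_combination hb'⟩
    · rw [Ideal.span_le]
      intro z hz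
      simp only [Set.mem_insert_iff, Set.mem_singleton_iff] at hz
      rcases hz with rfl | rfl
      · exact Ideal.subset_span (by simp)
      · rw [SetLike.mem_coe, Ideal.mem_span_pair]
        exact ⟨g₁ * e π, g₁ * (1 + D * e π * a), by
          linear_combination g₁ * hstar + t π ^ m * hgg⟩
  have hab : Module.length (NodeAlg B π) (NodeAlg B π ⧸ Ideal.span {a, b}) + (m : ℕ∞) =
      (m : ℕ∞) * Module.length (NodeAlg B π) (NodeAlg B π ⧸ Ideal.span {t π, b}) := by
    rw [hspab]
    rcases Nat.eq_zero_or_pos m with h0 | hpos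
    · have : (Ideal.span {a, t π ^ m} : Ideal (NodeAlg B π)) = ⊤ := by
        rw [Ideal.eq_top_iff_one, h0, pow_zero]
        exact Ideal.subset_span (by simp)
      rw [this, h0, Nat.cast_zero, zero_mul, add_zero]
      exact Module.length_eq_zero_iff.mpr (Ideal.Quotient.subsingleton_iff.mpr rfl)
    · obtain ⟨k, hk⟩ : ∃ k, m = k + 1 := ⟨m - 1, by omega⟩
      have hnta : ¬ t π ∣ a := by
        intro hd
        apply htb
        rw [← hb']
        exact dvd_add (hd.mul_left _) ⟨ai * g₀ * t π ^ k, by rw [hk]; ring⟩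
      have hspt : (Ideal.span {t π, b} : Ideal (NodeAlg B π)) = Ideal.span {e π * a, t π} := by
        apply le_antisymm
        · rw [Ideal.span_le]
          intro z hz
          simp only [Set.mem_insert_iff, Set.mem_singleton_iff] at hz
          rcases hz with rfl | rfl
          · exact Ideal.subset_span (by simp)
          · rw [SetLike.mem_coe, Ideal.mem_span_pair]
            exact ⟨-ai, ai * g₀ * t π ^ k, by rw [← hb', hk]; ring⟩
        · rw [Ideal.span_le]
          intro z hz
          simp only [Set.mem_insert_iff, Set.mem_singleton_iff] at hz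
          rcases hz with rfl | rfl
          · rw [SetLike.mem_coe, Ideal.mem_span_pair]
            exact ⟨g₀ * t π ^ k, -(1 + D * e π * a), by
              rw [hk] at hstar
              linear_combination -hstar⟩
          · exact Ideal.subset_span (by simp)
      rw [Groth.Agent.Lib.Helper76.ArLefNode.length_span_pair_pow htp hnta m, hspt, hs2, hmax]
      ring
  -- assemble
  have e1 : i₁ + 1 + m - 1 - i₁ = m := by omega
  have e2 : i₁ + 1 + m - i₁ = m + 1 := by omega
  rw [hcolon, hs1, e1, e2, add_right_comm, hab]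
  push_cast
  ring

end Groth.Agent.S19597
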