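import Groth.Statements.S19599
import Groth.Agent.Lib.Helper16.FixMult

set_option autoImplicit false
open CategoryTheory MonoidalCategory CartesianMonoidalCategory MonObj GrpObj AlgebraicGeometry
universe u
open SGA3x

namespace Groth.Agent.S19599

/-- Let G be an affine group scheme of finite presentation over a scheme S and H ⊆ G a closed subgroup
scheme of finite presentation over S which is of multiplicative type (of finite type). Then the
centralizer of H in G (points of G commuting with every point of H after any base change) is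
representable by a closed subscheme of G. Here G is not assumed smooth, and smoothness of the
centralizer is not asserted. -/
theorem result {S : Scheme.{u}} (G H : Over S) [GrpObj G] [GrpObj H]
    (hGa : IsAffineHom G.hom) (hGfp : LocallyOfFinitePresentation G.hom)
    (i : H ⟶ G) [IsMonHom i] (hi : IsClosedImmersion i.left) (hHfp : LocallyOfFinitePresentation H.hom)
    (hH : SGA3x.IsMultTypeFT H) :
    ∃ (C : Over S) (c : C ⟶ G), IsClosedImmersion c.left ∧
      ∀ (X : Over S) (g : X ⟶ G), (∃ z : X ⟶ C, z ≫ c = g) ↔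
        ∀ (X' : Over S) (x : X' ⟶ X) (a : X' ⟶ H), (x ≫ g) * (a ≫ i) = (a ≫ i) * (x ≫ g) := by
  haveI := hGa
  haveI := hi
  haveI : IsAffineHom i.left := inferInstance
  haveI : IsAffineHom H.hom := by
    rw [← Over.w i]
    infer_instance
  haveI : IsSeparated G.hom := inferInstance
  let u : H ⊗ G ⟶ G := (snd H G) * (fst H G ≫ i)
  let v : H ⊗ G ⟶ G := (fst H G ≫ i) * (snd H G)
  obtain ⟨C, c, hc, hC⟩ := Lib.Helper16.FixApp.exists_closed_of_equalizer u v
    (fun U => Lib.Helper16.FixMult.hasCoeff_snd_of_isMultTypeFT (H := H) (G := G) hH U)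
  refine ⟨C, c, hc, ?_⟩
  intro X g
  rw [hC g]
  have key : ∀ (X' : Over S) (x : X' ⟶ X) (a : X' ⟶ H),
      (lift a (x ≫ g) ≫ u = lift a (x ≫ g) ≫ v) ↔
        (x ≫ g) * (a ≫ i) = (a ≫ i) * (x ≫ g) := by
    intro X' x a
    have e1 : lift a (x ≫ g) ≫ u = (x ≫ g) * (a ≫ i) := by
      show lift a (x ≫ g) ≫ ((snd H G) * (fst H G ≫ i)) = _
      rw [MonObj.comp_mul, lift_snd, lift_fst_assoc]
    have e2 : lift a (x ≫ g) ≫ v = (a ≫ i) * (x ≫ g) := by
      show lift a (x ≫ g) ≫ ((fst H G ≫ i) * (snd H G)) = _
      rw [MonObj.comp_mul, lift_snd, lift_fst_assoc]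
    rw [e1, e2]
  constructor
  · intro h X' x a
    exact (key X' x a).1 (h X' x a)
  · intro h X' x a
    exact (key X' x a).2 (h X' x a)

end Groth.Agent.S19599
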