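import Groth.Statements.S1960
-- import your own Groth.Agent.* helpers here

set_option autoImplicit false
universe u
open EtAlg

namespace Groth.Agent.S1960

/-- For a ring map φ : R -> S and ideals I of R and J of S such that V(I) does not meet the closure in
Spec R of the image of V(J), some f in R is congruent to 1 modulo I and has φ(f) in J. -/
theorem result {R S : Type u} [CommRing R] [CommRing S] (φ : R →+* S) (I : Ideal R)
    (J : Ideal S)
    (h : Disjoint (closure (PrimeSpectrum.comap φ '' PrimeSpectrum.zeroLocus (J : Set S))) (PrimeSpectrum.zeroLocus (I : Set R))) :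
    ∃ f : R, f - 1 ∈ I ∧ φ f ∈ J := by
  have key : I ⊔ J.comap φ = ⊤ := by
    by_contra hne
    obtain ⟨m, hm, hle⟩ := Ideal.exists_le_maximal _ hne
    have hmp : m.IsPrime := hm.isPrime
    let x : PrimeSpectrum R := ⟨m, hmp⟩
    have hxI : x ∈ PrimeSpectrum.zeroLocus (I : Set R) := by
      rw [PrimeSpectrum.mem_zeroLocus]
      exact fun a ha => hle (Ideal.mem_sup_left ha)
    have hxc : x ∈ closure (PrimeSpectrum.comap φ '' PrimeSpectrum.zeroLocus (J : Set S)) := by
      rw [← PrimeSpectrum.zeroLocus_vanishingIdeal_eq_closure, PrimeSpectrum.mem_zeroLocus]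
      intro a ha
      have ha' : φ a ∈ J.radical := by
        rw [Ideal.radical_eq_sInf, Submodule.mem_sInf]
        rintro q ⟨hJq, hq⟩
        have := (PrimeSpectrum.mem_vanishingIdeal _ _).1 ha
          (PrimeSpectrum.comap φ ⟨q, hq⟩) ⟨⟨q, hq⟩, by
            rw [PrimeSpectrum.mem_zeroLocus]; exact hJq, rfl⟩
        simpa using this
      obtain ⟨n, hn⟩ := ha'
      have h1 : a ^ n ∈ m := hle (Ideal.mem_sup_right (by
        rw [Ideal.mem_comap, map_pow]; exact hn))
      exact hmp.mem_of_pow_mem n h1
    exact (Set.disjoint_left.1 h) hxc hxI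
  have h1 : (1 : R) ∈ I ⊔ J.comap φ := by rw [key]; trivial
  obtain ⟨i, hi, f, hf, hif⟩ := Submodule.mem_sup.1 h1
  refine ⟨f, ?_, hf⟩
  have : f - 1 = -i := by rw [← hif]; ring
  rw [this]
  exact I.neg_mem hi

end Groth.Agent.S1960
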