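import Groth.Statements.S19603
import Groth.Agent.Lib.Helper23.GradedInv

set_option autoImplicit false
universe u
open GIT

namespace Groth.Agent.S19603

open Groth.Agent.Lib.Helper23.GITAffine Groth.Agent.Lib.Helper23.GradedInv
  Groth.Agent.Lib.Helper23.Reynolds Groth.Agent.Lib.Helper75 in
theorem aux (k : Type u) [Field k] [IsAlgClosed k]
    (A : Type u) [CommRing A] [HopfAlgebra k A] [Algebra.FiniteType k A] (hG : HopfRep.IsLinearlyReductive k A)
    (ι : Type u) [Fintype ι] [HopfRep.Comod k A (MvPolynomial ι k)] [GLin.IsCoactAlg k A (MvPolynomial ι k)]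
    (hlin : GLin.IsLinear k A ι) (v : ι → k) :
    GLin.IsNullform k A v ↔
      GLin.InOrbitClosure k A (GLin.vecPt k ι v) (GLin.vecPt k ι (fun _ => (0 : k))) := by
  have hss := isSemisimpleModule_of_isLinearlyReductive hG (MvPolynomial ι k)
  have hmul := GLin.IsCoactAlg.coact_mul (k := k) (A := A) (R := MvPolynomial ι k)
  have hone := GLin.IsCoactAlg.coact_one (k := k) (A := A) (R := MvPolynomial ι k)
  have hlin' : IsLin k A ι := by
    intro i
    obtain ⟨m, hm⟩ := hlin i
    rw [hm]
    refine Submodule.sum_mem _ fun j _ => ?_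
    exact tmul_mem_tens (MvPolynomial.isHomogeneous_X k j) _
  have hx0 : ∀ F : MvPolynomial ι k, GLin.vecPt k ι (fun _ => (0 : k)) F = MvPolynomial.coeff 0 F := by
    intro F
    change MvPolynomial.aeval (fun _ => (0 : k)) F = _
    rw [MvPolynomial.aeval_eq_eval, MvPolynomial.eval_zero', MvPolynomial.constantCoeff_eq]
  constructor
  · -- nullform ⇒ origin in the orbit closure
    intro hnull
    by_contra hnot
    -- the origin is a fixed point
    have horb0 : ∀ F : MvPolynomial ι k,
        GLin.orbitHom k A (GLin.vecPt k ι (fun _ => (0 : k))) F =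
          algebraMap k A (GLin.vecPt k ι (fun _ => (0 : k)) F) := by
      intro F
      have : GLin.orbitHom k A (GLin.vecPt k ι (fun _ => (0 : k))) =
          (Algebra.ofId k A).comp (GLin.vecPt k ι (fun _ => (0 : k))) := by
        apply MvPolynomial.algHom_ext
        intro i
        rw [orbitHom_eq_cf, cf_apply]
        obtain ⟨m, hm⟩ := hlin i
        change contractL A _ (HopfRep.Comod.coact (k := k) (A := A) (MvPolynomial.X i)) = _
        rw [hm, map_sum]
        simp only [contractL_tmul, AlgHom.toLinearMap_apply, AlgHom.coe_comp, Function.comp_apply,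
          MvPolynomial.aeval_X, zero_smul, Finset.sum_const_zero, map_zero]
      rw [this]
      rfl
    have hker0 : RingHom.ker (GLin.orbitHom k A (GLin.vecPt k ι (fun _ => (0 : k))) :
        MvPolynomial ι k →+* A) = RingHom.ker (GLin.vecPt k ι (fun _ => (0 : k)) :
        MvPolynomial ι k →+* k) := by
      apply le_antisymm (ker_orbitHom_le_ker _)
      intro F hF
      rw [RingHom.mem_ker] at hF ⊢
      change GLin.orbitHom k A (GLin.vecPt k ι (fun _ => (0 : k))) F = 0
      rw [horb0 F]
      change GLin.vecPt k ι (fun _ => (0 : k)) F = 0 at hF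
      rw [hF, map_zero]
    have hmax : (RingHom.ker (GLin.vecPt k ι (fun _ => (0 : k)) :
        MvPolynomial ι k →+* k)).IsMaximal :=
      RingHom.ker_isMaximal_of_surjective _ (fun c => ⟨MvPolynomial.C c, by
        change MvPolynomial.aeval (fun _ => (0 : k)) (MvPolynomial.C c) = c
        rw [MvPolynomial.aeval_C]; rfl⟩)
    have htop : RingHom.ker (GLin.orbitHom k A (GLin.vecPt k ι v) : MvPolynomial ι k →+* A) ⊔
        RingHom.ker (GLin.orbitHom k A (GLin.vecPt k ι (fun _ => (0 : k))) :
        MvPolynomial ι k →+* A) = ⊤ := by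
      rw [hker0]
      by_contra hne
      have hle : RingHom.ker (GLin.vecPt k ι (fun _ => (0 : k)) : MvPolynomial ι k →+* k) ≤
          RingHom.ker (GLin.orbitHom k A (GLin.vecPt k ι v) : MvPolynomial ι k →+* A) ⊔
          RingHom.ker (GLin.vecPt k ι (fun _ => (0 : k)) : MvPolynomial ι k →+* k) := le_sup_right
      have heq := hmax.eq_of_le hne hle
      apply hnot
      change RingHom.ker (GLin.orbitHom k A (GLin.vecPt k ι v)) ≤ RingHom.ker (GLin.vecPt k ι (fun _ => (0 : k)))
      intro F hF
      have : F ∈ RingHom.ker (GLin.orbitHom k A (GLin.vecPt k ι v) : MvPolynomial ι k →+* A) ⊔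
          RingHom.ker (GLin.vecPt k ι (fun _ => (0 : k)) : MvPolynomial ι k →+* k) :=
        Ideal.mem_sup_left hF
      rw [← heq] at this
      exact this
    obtain ⟨f, hf, hfv, hf0⟩ := exists_invariant_of_sup_eq_top hone _ _
      (isSubcomod_ker_orbitHom (GLin.vecPt k ι v))
      (isSubcomod_ker_orbitHom (GLin.vecPt k ι (fun _ => (0 : k)))) htop
    have h1 : GLin.vecPt k ι v f = 0 := ker_orbitHom_le_ker _ hfv
    have h2 : GLin.vecPt k ι (fun _ => (0 : k)) (1 - f) = 0 := ker_orbitHom_le_ker _ hf0
    rw [map_sub, map_one, sub_eq_zero, hx0] at h2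
    -- evaluate f at v through homogeneous components
    have h3 : GLin.vecPt k ι v f = MvPolynomial.coeff 0 f := by
      conv_lhs => rw [← MvPolynomial.sum_homogeneousComponent f, map_sum]
      rw [Finset.sum_eq_single 0]
      · rw [MvPolynomial.homogeneousComponent_zero]
        change MvPolynomial.aeval v (MvPolynomial.C (MvPolynomial.coeff 0 f)) = _
        rw [MvPolynomial.aeval_C]; rfl
      · intro d _ hd
        have := hnull (MvPolynomial.homogeneousComponent d f)
          (homogeneousComponent_mem_fixedPts hmul hone hlin' d hf) d (Nat.pos_of_ne_zero hd)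
          (MvPolynomial.homogeneousComponent_isHomogeneous d f)
        change MvPolynomial.aeval v _ = 0
        rw [MvPolynomial.aeval_eq_eval]
        exact this
      · intro h
        exact absurd (Finset.mem_range.mpr (Nat.succ_pos _)) h
    rw [h3, ← h2] at h1
    exact one_ne_zero h1
  · -- origin in the orbit closure ⇒ nullform
    intro hcl F hF d hd hFd
    have h1 := hcl (sub_mem_ker_orbitHom (A := A) (GLin.vecPt k ι v) hF)
    rw [RingHom.mem_ker, map_sub] at h1
    change GLin.vecPt k ι (fun _ => (0 : k)) F -
      GLin.vecPt k ι (fun _ => (0 : k)) (algebraMap k (MvPolynomial ι k) (GLin.vecPt k ι v F)) = 0 at h1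
    rw [AlgHom.commutes, hx0, hFd.coeff_eq_zero (by simpa using hd.ne), zero_sub, neg_eq_zero] at h1
    have h2 : GLin.vecPt k ι v F = MvPolynomial.eval v F := by
      change MvPolynomial.aeval v F = _
      rw [MvPolynomial.aeval_eq_eval]
    rw [← h2]
    exact h1

/-- For the whole projective space U = P(V), let k be an algebraically closed field of arbitrary
characteristic and G = Spec A a linearly reductive affine algebraic group acting linearly on affine
ι-space, and let v be a vector. Then some invariant homogeneous polynomial of positive degree is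
non-zero at v (the point of v is semistable) if and only if the origin is not in the closure of the
orbit of v. -/
theorem result (k : Type u) [Field k] [IsAlgClosed k]
    (A : Type u) [CommRing A] [HopfAlgebra k A] [Algebra.FiniteType k A] (hG : HopfRep.IsLinearlyReductive k A)
    (ι : Type u) [Fintype ι] [HopfRep.Comod k A (MvPolynomial ι k)] [GLin.IsCoactAlg k A (MvPolynomial ι k)]
    (hlin : GLin.IsLinear k A ι) (v : ι → k) :
    GLin.IsSemistableVec k A v ↔
      ¬ GLin.InOrbitClosure k A (GLin.vecPt k ι v) (GLin.vecPt k ι (fun _ => (0 : k))) := by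
  unfold GLin.IsSemistableVec
  rw [aux k A hG ι hlin v]

end Groth.Agent.S19603
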