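import Groth.Statements.S19610
import Groth.Agent.Lib.Helper7.NilFlat

set_option autoImplicit false
universe u
open scoped TensorProduct
open CartMod

namespace Groth.Agent.S19610


section Aux
open TensorProduct

/-- principal ideal `(π)`: if every `m` killed by `π` lies in `Ann(π) • M`, then `(π) ⊗ M → R ⊗ M`
is injective. -/
theorem rTensor_subtype_injective_of_principal {R : Type*} [CommRing R] {M : Type*} [AddCommGroup M]
    [Module R M] (π : R)
    (h : ∀ m : M, π • m = 0 → m ∈ (Ideal.span {r : R | r * π = 0} • ⊤ : Submodule R M)) :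
    Function.Injective (LinearMap.rTensor M (Ideal.span {π}).subtype) := by
  let π' : Ideal.span {π} := ⟨π, Ideal.subset_span rfl⟩
  have hform : ∀ z : (Ideal.span {π} : Ideal R) ⊗[R] M, ∃ m : M, z = π' ⊗ₜ[R] m := by
    intro z
    induction z using TensorProduct.induction_on with
    | zero => exact ⟨0, (TensorProduct.tmul_zero _ _).symm⟩
    | tmul x m =>
      obtain ⟨a, ha⟩ := Ideal.mem_span_singleton'.mp x.2
      refine ⟨a • m, ?_⟩
      rw [TensorProduct.tmul_smul, TensorProduct.smul_tmul']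
      congr 1
      apply Subtype.ext
      change (x : R) = a • π
      rw [smul_eq_mul, ha]
    | add z w hz hw =>
      obtain ⟨m, rfl⟩ := hz
      obtain ⟨m', rfl⟩ := hw
      exact ⟨m + m', (TensorProduct.tmul_add _ _ _).symm⟩
  rw [injective_iff_map_eq_zero]
  intro z hz
  obtain ⟨m, rfl⟩ := hform z
  rw [LinearMap.rTensor_tmul] at hz
  have h0 : π • m = 0 := by
    have := congrArg (TensorProduct.lid R M) hz
    simpa [π'] using this
  have hm := h m h0
  -- m ∈ Ann(π) • ⊤
  refine Submodule.smul_induction_on hm ?_ ?_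
  · intro r hr c _
    -- r ∈ span {r | r * π = 0}: then r * π = 0
    have hrπ : r * π = 0 := by
      induction hr using Submodule.span_induction with
      | mem x hx => exact hx
      | zero => exact zero_mul _
      | add x y _ _ hx hy => rw [add_mul, hx, hy, add_zero]
      | smul a x _ hx => rw [smul_eq_mul, mul_assoc, hx, mul_zero]
    rw [TensorProduct.tmul_smul, TensorProduct.smul_tmul']
    have : r • π' = 0 := by
      apply Subtype.ext
      change r • π = 0
      rw [smul_eq_mul, hrπ]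
    rw [this, TensorProduct.zero_tmul]
  · intro x y hx hy
    rw [TensorProduct.tmul_add, hx, hy, add_zero]

end Aux

/-- Let p be a prime and B a commutative algebra over the commutative ring A, both complete and
separated for the p-adic topology and both without p-torsion (flat over the p-adic base). If B/pB is
flat over A/pA, then B/p^nB is flat over A/p^nA for every n ≥ 1 (the quotients are written as base
changes (A/p^n) ⊗_A B). (The published statement is for a morphism of flat p-adic formal schemes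
over the Witt vectors of a perfect field: if its special fibre is flat, so are the induced morphisms
of schemes modulo every power of p; this row is its affine, ring-level case.) -/
theorem result (p : ℕ) [Fact p.Prime]
    {A B : Type u} [CommRing A] [CommRing B] [Algebra A B]
    [IsAdicComplete (Ideal.span {(p : A)}) A] [IsAdicComplete (Ideal.span {(p : B)}) B]
    (hA : IsSMulRegular A (p : A)) (hB : IsSMulRegular B (p : B))
    (h : Module.Flat (A ⧸ Ideal.span {(p : A)}) ((A ⧸ Ideal.span {(p : A)}) ⊗[A] B))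
    (n : ℕ) (hn : 1 ≤ n) :
    Module.Flat (A ⧸ (Ideal.span {(p : A)} ^ n)) ((A ⧸ (Ideal.span {(p : A)} ^ n)) ⊗[A] B) := by
  classical
  have hn' : n = (n - 1) + 1 := by omega
  -- the ideal generated by `p` in `A / p^n`
  have hπn : ((p : A ⧸ (Ideal.span {(p : A)} ^ n)) ^ n) = 0 := by
    have : ((p : A ⧸ (Ideal.span {(p : A)} ^ n))) =
        Ideal.Quotient.mk (Ideal.span {(p : A)} ^ n) (p : A) := by simp
    rw [this, ← map_pow, Ideal.Quotient.eq_zero_iff_mem, Ideal.span_singleton_pow]
    exact Ideal.subset_span rfl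
  have hInil : IsNilpotent (Ideal.span {(p : A ⧸ (Ideal.span {(p : A)} ^ n))}) := by
    refine ⟨n, ?_⟩
    have h5 := Ideal.span_singleton_pow (p : A ⧸ (Ideal.span {(p : A)} ^ n)) n
    rw [hπn] at h5
    rw [h5, Ideal.zero_eq_bot, Ideal.span_singleton_eq_bot]
  -- every element of the base change is `1 ⊗ b`
  have hform : ∀ m : (A ⧸ (Ideal.span {(p : A)} ^ n)) ⊗[A] B, ∃ b : B, m = 1 ⊗ₜ[A] b := by
    intro m
    induction m using TensorProduct.induction_on with
    | zero => exact ⟨0, (TensorProduct.tmul_zero _ _).symm⟩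
    | tmul x b =>
      obtain ⟨a, rfl⟩ := Ideal.Quotient.mk_surjective x
      refine ⟨a • b, ?_⟩
      rw [← TensorProduct.smul_tmul]
      congr 1
      rw [Algebra.smul_def, mul_one]
      rfl
    | add x y hx hy =>
      obtain ⟨b, rfl⟩ := hx
      obtain ⟨b', rfl⟩ := hy
      exact ⟨b + b', (TensorProduct.tmul_add _ _ _).symm⟩
  have h1 : Function.Injective (LinearMap.rTensor ((A ⧸ (Ideal.span {(p : A)} ^ n)) ⊗[A] B)
      (Ideal.span {(p : A ⧸ (Ideal.span {(p : A)} ^ n))}).subtype) := by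
    apply rTensor_subtype_injective_of_principal
    intro m hm
    obtain ⟨b, rfl⟩ := hform m
    -- p • (1 ⊗ b) = 1 ⊗ (p * b)
    have e1 : ((p : A ⧸ (Ideal.span {(p : A)} ^ n))) • ((1 : A ⧸ (Ideal.span {(p : A)} ^ n)) ⊗ₜ[A] b) =
        (1 : A ⧸ (Ideal.span {(p : A)} ^ n)) ⊗ₜ[A] ((p : B) * b) := by
      rw [TensorProduct.smul_tmul', smul_eq_mul, mul_one]
      have : ((p : A ⧸ (Ideal.span {(p : A)} ^ n))) = (p : A) • (1 : A ⧸ (Ideal.span {(p : A)} ^ n)) := by
        rw [Algebra.smul_def, mul_one]; simp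
      rw [this, TensorProduct.smul_tmul]
      congr 1
      rw [Algebra.smul_def]; simp
    rw [e1] at hm
    have e2 := congrArg (TensorProduct.quotTensorEquivQuotSMul B (Ideal.span {(p : A)} ^ n)) hm
    rw [TensorProduct.quotTensorEquivQuotSMul_mk_one_tmul, map_zero,
      Submodule.Quotient.mk_eq_zero, Ideal.span_singleton_pow,
      Submodule.ideal_span_singleton_smul, Submodule.mem_smul_pointwise_iff_exists] at e2
    obtain ⟨c, -, hc⟩ := e2
    have e3 : b = (p : B) ^ (n - 1) * c := by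
      apply hB
      change (p : B) • b = (p : B) • ((p : B) ^ (n - 1) * c)
      rw [smul_eq_mul, smul_eq_mul, ← mul_assoc, ← pow_succ', ← hn', ← hc, Algebra.smul_def]
      simp
    have e4 : (1 : A ⧸ (Ideal.span {(p : A)} ^ n)) ⊗ₜ[A] b =
        ((p : A ⧸ (Ideal.span {(p : A)} ^ n)) ^ (n - 1)) •
          ((1 : A ⧸ (Ideal.span {(p : A)} ^ n)) ⊗ₜ[A] c) := by
      rw [e3, TensorProduct.smul_tmul', smul_eq_mul, mul_one]
      have : ((p : A ⧸ (Ideal.span {(p : A)} ^ n)) ^ (n - 1)) =
          ((p : A) ^ (n - 1)) • (1 : A ⧸ (Ideal.span {(p : A)} ^ n)) := by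
        rw [Algebra.smul_def, mul_one]; simp
      rw [this, TensorProduct.smul_tmul]
      congr 1
      rw [Algebra.smul_def]; simp
    rw [e4]
    refine Submodule.smul_mem_smul (Ideal.subset_span ?_) trivial
    change (p : A ⧸ (Ideal.span {(p : A)} ^ n)) ^ (n - 1) * (p : A ⧸ (Ideal.span {(p : A)} ^ n)) = 0
    rw [← pow_succ, ← hn', hπn]
  -- flatness modulo the ideal
  have hker : ∀ a ∈ Ideal.span {(p : A)},
      algebraMap A ((A ⧸ (Ideal.span {(p : A)} ^ n)) ⧸
        Ideal.span {(p : A ⧸ (Ideal.span {(p : A)} ^ n))}) a = 0 := by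
    intro a ha
    obtain ⟨c, rfl⟩ := Ideal.mem_span_singleton'.mp ha
    rw [map_mul]
    have : algebraMap A ((A ⧸ (Ideal.span {(p : A)} ^ n)) ⧸
        Ideal.span {(p : A ⧸ (Ideal.span {(p : A)} ^ n))}) (p : A) = 0 := by
      rw [IsScalarTower.algebraMap_apply A (A ⧸ (Ideal.span {(p : A)} ^ n))]
      change Ideal.Quotient.mk _ (algebraMap A (A ⧸ (Ideal.span {(p : A)} ^ n)) (p : A)) = 0
      rw [Ideal.Quotient.eq_zero_iff_mem]
      apply Ideal.subset_span
      simp
    rw [this, mul_zero]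
  let _ : Algebra (A ⧸ Ideal.span {(p : A)}) ((A ⧸ (Ideal.span {(p : A)} ^ n)) ⧸
        Ideal.span {(p : A ⧸ (Ideal.span {(p : A)} ^ n))}) :=
    (Ideal.Quotient.lift (Ideal.span {(p : A)}) (algebraMap A _) hker).toAlgebra
  have : IsScalarTower A (A ⧸ Ideal.span {(p : A)}) ((A ⧸ (Ideal.span {(p : A)} ^ n)) ⧸
        Ideal.span {(p : A ⧸ (Ideal.span {(p : A)} ^ n))}) :=
    IsScalarTower.of_algebraMap_eq (fun a => rfl)
  have h2 : Module.Flat ((A ⧸ (Ideal.span {(p : A)} ^ n)) ⧸
        Ideal.span {(p : A ⧸ (Ideal.span {(p : A)} ^ n))})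
      (((A ⧸ (Ideal.span {(p : A)} ^ n)) ⧸ Ideal.span {(p : A ⧸ (Ideal.span {(p : A)} ^ n))})
        ⊗[A ⧸ (Ideal.span {(p : A)} ^ n)] ((A ⧸ (Ideal.span {(p : A)} ^ n)) ⊗[A] B)) := by
    let e1 := TensorProduct.AlgebraTensorModule.cancelBaseChange A (A ⧸ Ideal.span {(p : A)})
      ((A ⧸ (Ideal.span {(p : A)} ^ n)) ⧸ Ideal.span {(p : A ⧸ (Ideal.span {(p : A)} ^ n))})
      ((A ⧸ (Ideal.span {(p : A)} ^ n)) ⧸ Ideal.span {(p : A ⧸ (Ideal.span {(p : A)} ^ n))}) B
    let e2 := TensorProduct.AlgebraTensorModule.cancelBaseChange A (A ⧸ (Ideal.span {(p : A)} ^ n))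
      ((A ⧸ (Ideal.span {(p : A)} ^ n)) ⧸ Ideal.span {(p : A ⧸ (Ideal.span {(p : A)} ^ n))})
      ((A ⧸ (Ideal.span {(p : A)} ^ n)) ⧸ Ideal.span {(p : A ⧸ (Ideal.span {(p : A)} ^ n))}) B
    exact Module.Flat.of_linearEquiv (e2.trans e1.symm)
  exact Groth.Agent.Lib.Helper7.NilFlat.flat_of_isNilpotent _ hInil h1 h2

end Groth.Agent.S19610
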