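import Groth.Statements.S19611
import Mathlib

set_option autoImplicit false
universe u
open CategoryTheory AlgebraicGeometry
open CartMod

namespace Groth.Agent.S19611

open CategoryTheory AlgebraicGeometry in
/-- A morphism of schemes which is surjective on points and injective on all rings of sections
is an epimorphism. -/
theorem epi_of_surjective_of_app_injective {X Y : Scheme.{u}} (f : X ⟶ Y)
    (h₁ : Function.Surjective f.base)
    (h₂ : ∀ U : Y.Opens, Function.Injective (f.app U)) : Epi f := by
  constructor
  intro Z g h e
  have hb : g.base = h.base := by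
    ext y
    obtain ⟨x, rfl⟩ := h₁ y
    have := congr(($e).base x)
    simpa using this
  refine Scheme.Hom.ext hb (fun U => ?_)
  have : Mono (f.app (h ⁻¹ᵁ U)) := ConcreteCategory.mono_of_injective _ (h₂ _)
  rw [← cancel_mono (f.app (h ⁻¹ᵁ U))]
  have hpre : f ⁻¹ᵁ g ⁻¹ᵁ U = f ⁻¹ᵁ h ⁻¹ᵁ U := by
    ext x
    change g (f x) ∈ U ↔ h (f x) ∈ U
    rw [show g (f x) = h (f x) from congr($hb (f x))]
  have h1 : g.app U ≫ f.app (g ⁻¹ᵁ U) =
      (h.app U ≫ f.app (h ⁻¹ᵁ U)) ≫ X.presheaf.map (eqToHom hpre).op := by
    have h0 := Scheme.Hom.congr_app e U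
    rw [Scheme.Hom.comp_app, Scheme.Hom.comp_app] at h0
    exact h0
  rw [Category.assoc, f.naturality, ← Category.assoc, h1, Category.assoc, ← Functor.map_comp]
  have key : ∀ (V : X.Opens) (i : Opposite.op V ⟶ Opposite.op V), X.presheaf.map i = 𝟙 _ := by
    intro V i
    rw [Subsingleton.elim i (𝟙 _), X.presheaf.map_id]
  rw [key, Category.comp_id]

open CategoryTheory AlgebraicGeometry in
/-- The canonical morphism to the scheme-theoretic image of a quasi-compact morphism is injective
on sections over every open. -/
theorem toImage_app_injective' {X Y : Scheme.{u}} (f : X ⟶ Y) [QuasiCompact f]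
    (V : f.image.Opens) : Function.Injective (f.toImage.app V) := by
  rw [injective_iff_map_eq_zero]
  intro s hs
  refine f.image.IsSheaf.section_ext fun x hx ↦ ?_
  obtain ⟨_, ⟨_, ⟨U, hU, rfl⟩, rfl⟩, hxU, hUV⟩ :=
    (Y.isBasis_affineOpens.of_isInducing
      f.imageι.isEmbedding.isInducing).exists_subset_of_mem_open hx V.isOpen
  refine ⟨f.imageι ⁻¹ᵁ U, hUV, hxU, f.toImage_app_injective ⟨U, hU⟩ ?_⟩
  rw [← ConcreteCategory.comp_apply, f.toImage.naturality]
  simp [hs]

/-- For a prime p and a scheme Y of characteristic p, write Y♭ for the scheme-theoretic image of the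
absolute Frobenius F_Y : Y → Y, i.e. the closed subscheme of Y defined by the sections of O_Y whose
p-th power vanishes, and Y → Y♭ for the canonical morphism through which F_Y factors. Then Y → Y♭ is
an epimorphism of schemes: two morphisms g₁, g₂ from Y♭ to a scheme Z with equal composites Y → Y♭ →
Z are equal. (The published statement is for k-morphisms g₁, g₂ from Y♭ to a k-scheme Z over a
perfect field k of characteristic p, compared after Frobenius twist through Y → (Y♭)'; this row asks
right-cancellation against morphisms to every scheme Z, which is equivalent to it for k-morphisms.) -/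
theorem result (p : ℕ) [Fact p.Prime] (Y : Scheme.{u}) [FrobSch.IsCharP Y p] :
    Epi (FrobSch.frob Y p).toImage := by
  have hfac := (FrobSch.frob Y p).toImage_imageι
  have hqc : QuasiCompact (FrobSch.frob Y p) := ⟨fun U _ hU' => hU'⟩
  -- surjectivity on points
  have hinj : Function.Injective (FrobSch.frob Y p).imageι.base :=
    (FrobSch.frob Y p).imageι.isEmbedding.injective
  have hsurj : Function.Surjective (FrobSch.frob Y p).toImage.base := by
    intro z
    refine ⟨(FrobSch.frob Y p).imageι.base z, hinj ?_⟩
    have := congr(($hfac).base ((FrobSch.frob Y p).imageι.base z))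
    exact this
  exact epi_of_surjective_of_app_injective _ hsurj (fun U => toImage_app_injective' _ U)

end Groth.Agent.S19611
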