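import Groth.Statements.S19612
import Mathlib

set_option autoImplicit false
universe u
open scoped TensorProduct
open CartMod

namespace Groth.Agent.S19612

/-- In a flat module, `s • m = 0` forces `m ∈ r • M` as soon as `ann(s) ⊆ (r)`. -/
theorem exists_smul_of_flat {R M : Type*} [CommRing R] [AddCommGroup M] [Module R M]
    [Module.Flat R M] (r s : R) (hrs : ∀ x : R, s * x = 0 → ∃ y, x = r * y)
    (m : M) (hm : s • m = 0) : ∃ m' : M, m = r • m' := by
  have h : ∑ i : Unit, (fun _ => s) i • (fun _ => m) i = 0 := by simpa using hm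
  obtain ⟨k, a, y, hxy, hfa⟩ := Module.Flat.isTrivialRelation_of_sum_smul_eq_zero h
  have hfa' : ∀ j, s * a () j = 0 := by
    intro j
    simpa using hfa j
  choose b hb using fun j => hrs (a () j) (hfa' j)
  refine ⟨∑ j, b j • y j, ?_⟩
  have hx : m = ∑ j, a () j • y j := hxy ()
  conv_lhs => rw [hx]
  rw [Finset.smul_sum]
  refine Finset.sum_congr rfl fun j _ => ?_
  rw [hb j, mul_smul]

theorem result_aux (p : ℕ) [Fact p.Prime] (k : Type u) [Field k]
    [CharP k p] [PerfectRing k p] (A : Type u) [CommRing A] [Algebra (WittVector p k) A]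
    (n : ℕ)
    (hflat : Module.Flat (WittVector p k ⧸ (Ideal.span {(p : WittVector p k)} ^ (n + 1)))
          ((WittVector p k ⧸ (Ideal.span {(p : WittVector p k)} ^ (n + 1))) ⊗[WittVector p k] A))
    (a : A) (ha : (p : WittVector p k) • a = 0) :
    a ∈ ((Ideal.span {(p : WittVector p k)}) ^ n • ⊤ : Submodule (WittVector p k) A) := by
  set W := WittVector p k
  set I : Ideal W := Ideal.span {(p : W)}
  have hp0 : (p : W) ≠ 0 := WittVector.p_nonzero p k
  -- the annihilator condition in W/I^(n+1)
  have hann : ∀ x : W ⧸ I ^ (n + 1), (Ideal.Quotient.mk (I ^ (n + 1)) (p : W)) * x = 0 →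
      ∃ y, x = (Ideal.Quotient.mk (I ^ (n + 1)) ((p : W) ^ n)) * y := by
    intro x hx
    obtain ⟨x, rfl⟩ := Ideal.Quotient.mk_surjective x
    rw [← map_mul, Ideal.Quotient.eq_zero_iff_mem, Ideal.span_singleton_pow,
      Ideal.mem_span_singleton'] at hx
    obtain ⟨c, hc⟩ := hx
    have : x = (p : W) ^ n * c := by
      have h2 : (p : W) * x = (p : W) * ((p : W) ^ n * c) := by
        rw [← hc]; ring
      exact mul_left_cancel₀ hp0 h2
    exact ⟨Ideal.Quotient.mk _ c, by rw [this, map_mul]⟩
  have h1 : (Ideal.Quotient.mk (I ^ (n + 1)) (p : W)) •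
      ((1 : W ⧸ I ^ (n + 1)) ⊗ₜ[W] a) = 0 := by
    rw [← Ideal.Quotient.algebraMap_eq, algebraMap_smul, TensorProduct.smul_tmul', 
      TensorProduct.smul_tmul, ha, TensorProduct.tmul_zero]
  obtain ⟨m', hm'⟩ := exists_smul_of_flat (M := (W ⧸ I ^ (n + 1)) ⊗[W] A) _ _ hann _ h1
  rw [← Ideal.Quotient.algebraMap_eq, algebraMap_smul] at hm'
  have h2 := congrArg (TensorProduct.quotTensorEquivQuotSMul A (I ^ (n + 1))) hm'
  rw [map_smul] at h2
  obtain ⟨a', ha'⟩ := Submodule.Quotient.mk_surjective _
    (TensorProduct.quotTensorEquivQuotSMul A (I ^ (n + 1)) m')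
  rw [← ha', ← map_one (Ideal.Quotient.mk (I ^ (n + 1))),
    TensorProduct.quotTensorEquivQuotSMul_mk_tmul, one_smul, ← Submodule.Quotient.mk_smul,
    Submodule.Quotient.eq] at h2
  have h3 : ((p : W) ^ n) • a' ∈ (I ^ n • ⊤ : Submodule W A) :=
    Submodule.smul_mem_smul (by
      rw [Ideal.span_singleton_pow]; exact Ideal.mem_span_singleton_self _) Submodule.mem_top
  have h4 : a - ((p : W) ^ n) • a' ∈ (I ^ n • ⊤ : Submodule W A) :=
    Submodule.smul_mono (Ideal.pow_le_pow_right (Nat.le_succ n)) le_rfl h2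
  have := add_mem h4 h3
  simpa using this

/-- Let k be a perfect field of characteristic p, W = W(k) the ring of Witt vectors of k, and A a
commutative W-algebra which is complete and separated for the p-adic topology (an adic W-algebra).
Then flatness of A over W is equivalent to flatness of A/p^nA = (W/p^nW) ⊗_W A over W/p^nW for every
n ≥ 1. -/
theorem result (p : ℕ) [Fact p.Prime] (k : Type u) [Field k]
    [CharP k p] [PerfectRing k p] (A : Type u) [CommRing A] [Algebra (WittVector p k) A]
    [IsAdicComplete (Ideal.span {(p : WittVector p k)}) A] :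
    Module.Flat (WittVector p k) A ↔
      ∀ n : ℕ, 1 ≤ n →
        Module.Flat (WittVector p k ⧸ (Ideal.span {(p : WittVector p k)} ^ n))
          ((WittVector p k ⧸ (Ideal.span {(p : WittVector p k)} ^ n)) ⊗[WittVector p k] A) := by
  constructor
  · intro h n _
    infer_instance
  · intro h
    have hreg : IsSMulRegular A (p : WittVector p k) := by
      rw [isSMulRegular_iff_right_eq_zero_of_smul]
      intro a ha
      refine IsHausdorff.haus (inferInstance : IsHausdorff (Ideal.span {(p : WittVector p k)}) A)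
        a fun n => ?_
      rw [SModEq.zero]
      exact result_aux p k A n (h (n + 1) (Nat.succ_le_succ (Nat.zero_le n))) a ha
    have : Module.IsTorsionFree (WittVector p k) A := by
      refine ⟨fun w hw => ?_⟩
      have hw0 : w ≠ 0 := hw.ne_zero
      obtain ⟨m, b, rfl⟩ := WittVector.exists_eq_pow_p_mul' w hw0
      exact (hreg.pow m).mul (b.isUnit.isSMulRegular A)
    infer_instance

end Groth.Agent.S19612
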