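import Groth.Statements.S19613
import Groth.Agent.Lib.Helper94.LocalExact
import Groth.Agent.Lib.Helper20.ThickAffine2
import Groth.Agent.Lib.QCoh.Helper50_AffineDict

set_option autoImplicit false
universe u
open CategoryTheory AlgebraicGeometry TopologicalSpace
open CartMod

namespace Groth.Agent.S19613

/-- Let u : T → U be an affine morphism of schemes and i : T → T♮ a nilpotent closed immersion (its
ideal has a vanishing power), so that |T♮| = |T|; let g : |T♮| → |U| be the continuous map
underlying u, and v : (T♮, O_{T♮}) → (U, g_*O_{T♮}) the induced morphism of ringed spaces (identity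
on structure rings), with direct image v_* (sections over g⁻¹ of an open) and inverse image v^* its
left adjoint. Then the restriction of v_* to quasi-coherent O_{T♮}-modules is exact; since v_* is a
right adjoint, the content is that v_* of an epimorphism between quasi-coherent O_{T♮}-modules is an
epimorphism of sheaves of g_*O_{T♮}-modules on U, which is what is stated. -/
theorem result
    {T Tc U : Scheme.{u}} (i : T ⟶ Tc) [IsClosedImmersion i]
    (hnil : ∃ n : ℕ, ∀ V : Tc.affineOpens, i.ker.ideal V ^ n = ⊥)
    (u : T ⟶ U) [IsAffineHom u] (g : Tc.carrier ⟶ U.carrier) (hg : i.base ≫ g = u.base)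
    (M N : Tc.Modules) [M.IsQuasicoherent] [N.IsQuasicoherent] (φ : M ⟶ N) [Epi φ] :
    Epi ((SheafOfModules.pushforward (F := Opens.map g) (R := Tc.ringCatSheaf)
      (𝟙 (((Opens.map g).sheafPushforwardContinuous RingCat.{u} (Opens.grothendieckTopology U)
        (Opens.grothendieckTopology Tc)).obj Tc.ringCatSheaf))).map φ) := by
  obtain ⟨n, hn⟩ := hnil
  -- `i` is surjective
  have hker : i.ker ^ n = ⊥ := by
    refine Scheme.IdealSheafData.ext (funext fun V => ?_)
    exact hn V
  have hdom : IsDominant i := by
    rw [isDominant_iff, denseRange_iff_closure_range, ← i.support_ker,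
      ← i.ker.support_pow (n + 1) (by simp), pow_succ, hker]
    simp
  have hsurj : Function.Surjective i := i.surjective
  refine Functor.epi_of_epi_map (SheafOfModules.toSheaf _) ?_
  refine Groth.Agent.Lib.Helper94.LocalExact.epi_of_locally_surjective (Y := U.carrier) _ ?_
  intro W t x hx
  obtain ⟨_, ⟨V, hV, rfl⟩, hxV, hVW⟩ :=
    U.isBasis_affineOpens.exists_subset_of_mem_open hx W.isOpen
  have hpre : i ⁻¹ᵁ ((Opens.map g).obj V : Tc.Opens) = u ⁻¹ᵁ V := by
    ext y
    change g (i.base y) ∈ V ↔ u.base y ∈ V
    rw [← hg]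
    rfl
  have hVaff : IsAffineOpen ((Opens.map g).obj V : Tc.Opens) := by
    refine Groth.Agent.Lib.Helper20.ThickAffine.isAffineOpen_of_preimage i hsurj n hn _ ?_
    rw [hpre]
    exact hV.preimage u
  have hVW' : V ≤ W := hVW
  obtain ⟨s, hs⟩ := Groth.Agent.Lib.QCoh.surjective_app_of_epi φ hVaff
    (N.presheaf.map (homOfLE ((Opens.map g).monotone hVW')).op t)
  exact ⟨V, hVW', hxV, s, hs⟩

end Groth.Agent.S19613
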