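import Groth.Statements.S19616
import Mathlib
-- import your own Groth.Agent.* helpers here

set_option autoImplicit false
universe u
open CartMod

namespace Groth.Agent.S19616
open AdicCompletion

section compl

variable {R0 : Type*} [CommRing R0] (I : Ideal R0)

theorem factor_evalₐ {m n : ℕ} (hle : m ≤ n) (x : AdicCompletion I R0) :
    Ideal.Quotient.factor (Ideal.pow_le_pow_right hle) (evalₐ I n x) = evalₐ I m x := by
  obtain ⟨c, rfl⟩ := AdicCompletion.mk_surjective I R0 x
  rw [evalₐ_mk, evalₐ_mk, Ideal.Quotient.factor_mk, Ideal.Quotient.eq]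
  have := c.property hle
  rw [SModEq.sub_mem] at this
  have h2 : (I ^ m • ⊤ : Ideal R0) = I ^ m := by simp
  rw [h2] at this
  have h3 := (I ^ m).neg_mem this
  simpa using h3

variable (π : R0)

theorem compl_complete :
    IsAdicComplete (Ideal.span {algebraMap R0 (AdicCompletion (Ideal.span {π}) R0) π})
      (AdicCompletion (Ideal.span {π}) R0) := by
  have h := AdicCompletion.isAdicComplete (I := Ideal.span {π}) (M := R0) ⟨{π}, by simp⟩
  have := (IsAdicComplete.map_algebraMap_iff (I := Ideal.span {π})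
    (S := AdicCompletion (Ideal.span {π}) R0) (M := AdicCompletion (Ideal.span {π}) R0)).mpr h
  rwa [Ideal.map_span, Set.image_singleton] at this

theorem compl_decomp (x : AdicCompletion (Ideal.span {π}) R0) (n : ℕ) :
    ∃ (r : R0) (d : AdicCompletion (Ideal.span {π}) R0),
      x = algebraMap R0 _ r + (algebraMap R0 (AdicCompletion (Ideal.span {π}) R0) π) ^ n * d := by
  obtain ⟨r, hr⟩ := Ideal.Quotient.mk_surjective (evalₐ (Ideal.span {π}) n x)
  have h1 : evalₐ (Ideal.span {π}) n (x - algebraMap R0 _ r) = 0 := by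
    rw [map_sub, ← hr]
    have : evalₐ (Ideal.span {π}) n (algebraMap R0 _ r) = Ideal.Quotient.mk _ r := by
      exact evalₐ_of (Ideal.span {π}) n r
    rw [this, sub_self]
  have h2 : x - algebraMap R0 _ r ∈ LinearMap.ker (eval (Ideal.span {π}) R0 n) := by
    rw [LinearMap.mem_ker]
    have := factor_evalₐ_eq_eval (I := Ideal.span {π}) (n := n) (x - algebraMap R0 _ r) (by simp)
    rw [← this, h1, _root_.map_zero]
  rw [← pow_smul_top_eq_ker_eval ⟨{π}, by simp⟩, Ideal.span_singleton_pow,
    Submodule.ideal_span_singleton_smul, Submodule.mem_smul_pointwise_iff_exists] at h2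
  obtain ⟨d, -, hd⟩ := h2
  refine ⟨r, d, ?_⟩
  rw [← map_pow, ← Algebra.smul_def, hd]
  ring

theorem compl_regular (hπ : IsSMulRegular R0 π) :
    IsSMulRegular (AdicCompletion (Ideal.span {π}) R0)
      (algebraMap R0 (AdicCompletion (Ideal.span {π}) R0) π) := by
  have key : ∀ z : AdicCompletion (Ideal.span {π}) R0, algebraMap R0 _ π * z = 0 → z = 0 := by
    intro z hz
    apply ext_evalₐ
    intro n
    rw [_root_.map_zero]
    obtain ⟨r, hr⟩ := Ideal.Quotient.mk_surjective (evalₐ (Ideal.span {π}) (n+1) z)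
    have h1 : evalₐ (Ideal.span {π}) (n+1) (algebraMap R0 _ π * z) = 0 := by rw [hz, _root_.map_zero]
    have h0 : evalₐ (Ideal.span {π}) (n+1) (algebraMap R0 _ π) = Ideal.Quotient.mk _ π :=
      evalₐ_of (Ideal.span {π}) (n+1) π
    rw [map_mul, ← hr, h0, ← map_mul, Ideal.Quotient.eq_zero_iff_mem, Ideal.span_singleton_pow,
      Ideal.mem_span_singleton] at h1
    obtain ⟨c, hc⟩ := h1
    have h2 : r = π ^ n * c := by
      apply hπ
      simp only [smul_eq_mul]
      rw [hc]; ring
    rw [← factor_evalₐ _ (Nat.le_succ n), ← hr, Ideal.Quotient.factor_mk,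
      Ideal.Quotient.eq_zero_iff_mem, h2, Ideal.span_singleton_pow]
    exact Ideal.mul_mem_right _ _ (Ideal.mem_span_singleton_self _)
  intro x y hxy
  have := key (x - y) (by simp only [smul_eq_mul] at hxy; rw [mul_sub, hxy, sub_self])
  exact sub_eq_zero.mp this

variable {A : Type*} [CommRing A] [Algebra A R0] {B : Type*} [CommRing B] [Algebra A B] (ϖ : B)
  [IsAdicComplete (Ideal.span {ϖ}) B]

instance : IsScalarTower A R0 (AdicCompletion I R0) :=
  IsScalarTower.of_algebraMap_eq (fun x => by rw [AdicCompletion.algebraMap_apply]; rfl)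

theorem compl_lift (g0 : R0 →ₐ[A] B) (hg : g0 π = ϖ) :
    ∃ g : AdicCompletion (Ideal.span {π}) R0 →ₐ[A] B, ∀ r, g (algebraMap R0 _ r) = g0 r := by
  have hle : ∀ n, (Ideal.span {π}) ^ n ≤ ((Ideal.span {ϖ}) ^ n).comap g0 := by
    intro n
    rw [Ideal.span_singleton_pow, Ideal.span_le]
    intro x hx
    rw [Set.mem_singleton_iff] at hx
    subst hx
    rw [SetLike.mem_coe, Ideal.mem_comap, map_pow, hg, Ideal.span_singleton_pow]
    exact Ideal.mem_span_singleton_self _
  let f : ∀ n, AdicCompletion (Ideal.span {π}) R0 →ₐ[A] B ⧸ (Ideal.span {ϖ}) ^ n := fun n =>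
    (Ideal.quotientMapₐ _ g0 (hle n)).comp ((evalₐ (Ideal.span {π}) n).restrictScalars A)
  have hf : ∀ {m n : ℕ} (hmn : m ≤ n),
      (Ideal.Quotient.factorₐ A (Ideal.pow_le_pow_right hmn)).comp (f n) = f m := by
    intro m n hmn
    ext x
    have e1 : f n x = Ideal.quotientMapₐ _ g0 (hle n) (evalₐ (Ideal.span {π}) n x) := rfl
    have e2 : f m x = Ideal.quotientMapₐ _ g0 (hle m) (evalₐ (Ideal.span {π}) m x) := rfl
    rw [AlgHom.comp_apply, e1, e2, ← factor_evalₐ _ hmn x]
    obtain ⟨r, hr⟩ := Ideal.Quotient.mk_surjective (evalₐ (Ideal.span {π}) n x)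
    rw [← hr, Ideal.Quotient.factor_mk, Ideal.quotient_map_mkₐ, Ideal.quotient_map_mkₐ,
      Ideal.Quotient.mkₐ_eq_mk, Ideal.Quotient.mkₐ_eq_mk, Ideal.Quotient.factorₐ_apply_mk]
  refine ⟨IsAdicComplete.liftAlgHom (Ideal.span {ϖ}) f hf, ?_⟩
  intro r
  rw [← sub_eq_zero]
  apply IsHausdorff.haus (inferInstance : IsHausdorff (Ideal.span {ϖ}) B)
  intro n
  rw [SModEq.zero, smul_eq_mul, Ideal.mul_top, ← Ideal.Quotient.eq_zero_iff_mem, map_sub,
    IsAdicComplete.mk_liftAlgHom, sub_eq_zero]
  have e1 : f n (algebraMap R0 _ r) =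
      Ideal.quotientMapₐ _ g0 (hle n) (evalₐ (Ideal.span {π}) n (algebraMap R0 _ r)) := rfl
  have : evalₐ (Ideal.span {π}) n (algebraMap R0 _ r) = Ideal.Quotient.mk _ r :=
    evalₐ_of (Ideal.span {π}) n r
  rw [e1, this, Ideal.quotient_map_mkₐ, Ideal.Quotient.mkₐ_eq_mk]

theorem compl_ext (f1 f2 : AdicCompletion (Ideal.span {π}) R0 →ₐ[A] B)
    (hf1 : f1 (algebraMap R0 _ π) = ϖ)
    (h : ∀ r, f1 (algebraMap R0 _ r) = f2 (algebraMap R0 _ r)) : f1 = f2 := by
  ext x
  rw [← sub_eq_zero]
  apply IsHausdorff.haus (inferInstance : IsHausdorff (Ideal.span {ϖ}) B)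
  intro n
  rw [SModEq.zero, smul_eq_mul, Ideal.mul_top]
  obtain ⟨r, d, rfl⟩ := compl_decomp π x n
  have hf2 : f2 (algebraMap R0 _ π) = ϖ := by rw [← h, hf1]
  rw [map_add, map_add, h r, map_mul, map_mul, map_pow, map_pow, hf1, hf2, add_sub_add_left_eq_sub,
    ← mul_sub, Ideal.span_singleton_pow]
  exact Ideal.mul_mem_right _ _ (Ideal.mem_span_singleton_self _)

end compl

section dil

variable (p : ℕ) (A : Type u) [CommRing A] {n : ℕ} (a : Fin n → A)

/-- the relations `p x_i = a_i`. -/
noncomputable def relIdeal : Ideal (MvPolynomial (Fin n) A) :=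
  Ideal.span (Set.range fun i => MvPolynomial.C (p : A) * MvPolynomial.X i - MvPolynomial.C (a i))

/-- the `p`-saturation of the relation ideal. -/
noncomputable def satIdeal : Ideal (MvPolynomial (Fin n) A) where
  carrier := {y | ∃ k : ℕ, (p : MvPolynomial (Fin n) A) ^ k * y ∈ relIdeal p A a}
  zero_mem' := ⟨0, by simp⟩
  add_mem' := by
    rintro y z ⟨k, hk⟩ ⟨l, hl⟩
    refine ⟨k + l, ?_⟩
    have : (p : MvPolynomial (Fin n) A) ^ (k + l) * (y + z) =
        (p : MvPolynomial (Fin n) A) ^ l * ((p : MvPolynomial (Fin n) A) ^ k * y) +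
          (p : MvPolynomial (Fin n) A) ^ k * ((p : MvPolynomial (Fin n) A) ^ l * z) := by
      ring
    rw [this]
    exact Ideal.add_mem _ (Ideal.mul_mem_left _ _ hk) (Ideal.mul_mem_left _ _ hl)
  smul_mem' := by
    rintro c y ⟨k, hk⟩
    refine ⟨k, ?_⟩
    rw [smul_eq_mul, mul_left_comm]
    exact Ideal.mul_mem_left _ _ hk

theorem relIdeal_le_satIdeal : relIdeal p A a ≤ satIdeal p A a := by
  intro x hx
  exact ⟨0, by simpa using hx⟩

abbrev R0 : Type u := MvPolynomial (Fin n) A ⧸ satIdeal p A a

/-- the class of `x_i`. -/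
noncomputable def xcl (i : Fin n) : R0 p A a := Ideal.Quotient.mk _ (MvPolynomial.X i)

theorem R0_regular : IsSMulRegular (R0 p A a) ((p : ℕ) : R0 p A a) := by
  have key : ∀ z : R0 p A a, (p : R0 p A a) * z = 0 → z = 0 := by
    intro z hz
    obtain ⟨y, rfl⟩ := Ideal.Quotient.mk_surjective z
    have : (p : R0 p A a) = Ideal.Quotient.mk (satIdeal p A a) (p : MvPolynomial (Fin n) A) := by simp
    rw [this, ← map_mul, Ideal.Quotient.eq_zero_iff_mem] at hz
    obtain ⟨k, hk⟩ := hz
    rw [Ideal.Quotient.eq_zero_iff_mem]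
    exact ⟨k + 1, by rw [pow_succ, mul_assoc]; exact hk⟩
  intro x y hxy
  have := key (x - y) (by
    simp only [smul_eq_mul] at hxy
    have e : (p : R0 p A a) * (x - y) = (p : R0 p A a) * x - (p : R0 p A a) * y := by ring
    rw [e, hxy, sub_self])
  exact sub_eq_zero.mp this

theorem algebraMap_a (i : Fin n) : algebraMap A (R0 p A a) (a i) = (p : R0 p A a) * xcl p A a i := by
  have h1 : (MvPolynomial.C (p : A) * MvPolynomial.X i - MvPolynomial.C (a i) : MvPolynomial (Fin n) A) ∈
      satIdeal p A a := relIdeal_le_satIdeal p A a (Ideal.subset_span ⟨i, rfl⟩)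
  have h2 := (Ideal.Quotient.eq_zero_iff_mem).mpr h1
  rw [map_sub, map_mul, sub_eq_zero] at h2
  have e1 : algebraMap A (R0 p A a) (a i) =
      Ideal.Quotient.mk (satIdeal p A a) (MvPolynomial.C (a i)) := rfl
  have e2 : Ideal.Quotient.mk (satIdeal p A a) (MvPolynomial.C (p : A)) = (p : R0 p A a) := by
    rw [map_natCast (MvPolynomial.C : A →+* MvPolynomial (Fin n) A) p, map_natCast]
  rw [e1, ← h2, e2]
  rfl

variable {p A a}
variable {B : Type u} [CommRing B] [Algebra A B]

theorem R0_hom_ext (hB : IsSMulRegular B (p : B)) (h1 h2 : R0 p A a →ₐ[A] B) : h1 = h2 := by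
  apply Ideal.Quotient.algHom_ext
  apply MvPolynomial.algHom_ext
  intro i
  simp only [AlgHom.comp_apply, Ideal.Quotient.mkₐ_eq_mk]
  change h1 (xcl p A a i) = h2 (xcl p A a i)
  apply hB
  simp only [smul_eq_mul]
  have e : ∀ h : R0 p A a →ₐ[A] B, (p : B) * h (xcl p A a i) = algebraMap A B (a i) := by
    intro h
    rw [← h.commutes, algebraMap_a, map_mul, map_natCast]
  rw [e h1, e h2]

theorem R0_hom_exists (hB : IsSMulRegular B (p : B)) (b : Fin n → B)
    (hb : ∀ i, algebraMap A B (a i) = (p : B) * b i) : Nonempty (R0 p A a →ₐ[A] B) := by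
  have h0 : relIdeal p A a ≤ RingHom.ker (MvPolynomial.aeval b : MvPolynomial (Fin n) A →ₐ[A] B) := by
    rw [relIdeal, Ideal.span_le]
    rintro _ ⟨i, rfl⟩
    rw [SetLike.mem_coe, RingHom.mem_ker]
    simp [hb i]
  have h1 : ∀ x ∈ satIdeal p A a, (MvPolynomial.aeval b : MvPolynomial (Fin n) A →ₐ[A] B) x = 0 := by
    rintro y ⟨k, hk⟩
    have := h0 hk
    rw [RingHom.mem_ker, map_mul, map_pow, map_natCast] at this
    have hreg : IsSMulRegular B ((p : B) ^ k) := hB.pow k
    apply hreg
    simp only [smul_eq_mul, mul_zero]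
    exact this
  exact ⟨Ideal.Quotient.liftₐ _ (MvPolynomial.aeval b) h1⟩

end dil


/-- Let p be a prime, A a commutative ring which is complete and separated for the p-adic topology and
has no p-torsion, and a_1, …, a_n elements of A (so that (p, a_1, …, a_n) is an open ideal
containing p). Then there is a commutative A-algebra D, complete and separated for the p-adic
topology and without p-torsion, in which each a_i is divisible by p, with the following universal
property: for every A-algebra B which is p-adically complete and separated, has no p-torsion, and in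
which each a_i is divisible by p, there is exactly one A-algebra homomorphism D → B; moreover this
homomorphism is surjective whenever A → B is. (D is the coordinate ring of the dilatation of Spf A
with respect to p along the closed subscheme defined by (p, a_1, …, a_n). The published statement is
for flat p-adic formal schemes locally of finite type over the Witt vectors of a perfect field; this
row is its affine, ring-level case without a finiteness hypothesis.) -/
theorem result (p : ℕ) [Fact p.Prime]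
    (A : Type u) [CommRing A] [IsAdicComplete (Ideal.span {(p : A)}) A]
    (hA : IsSMulRegular A (p : A)) {n : ℕ} (a : Fin n → A) :
    ∃ (D : Type u) (_ : CommRing D) (_ : Algebra A D),
      IsAdicComplete (Ideal.span {(p : D)}) D ∧ IsSMulRegular D (p : D) ∧
      (∀ i, algebraMap A D (a i) ∈ Ideal.span {(p : D)}) ∧
      ∀ (B : Type u) [CommRing B] [Algebra A B] [IsAdicComplete (Ideal.span {(p : B)}) B],
        IsSMulRegular B (p : B) → (∀ i, algebraMap A B (a i) ∈ Ideal.span {(p : B)}) →
          Nonempty (D →ₐ[A] B) ∧ Subsingleton (D →ₐ[A] B) ∧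
            (Function.Surjective (algebraMap A B) → ∀ f : D →ₐ[A] B, Function.Surjective f) := by
  have hpD : algebraMap (R0 p A a) (AdicCompletion (Ideal.span {(p : R0 p A a)}) (R0 p A a))
      (p : R0 p A a) = (p : AdicCompletion (Ideal.span {(p : R0 p A a)}) (R0 p A a)) :=
    map_natCast _ p
  refine ⟨AdicCompletion (Ideal.span {(p : R0 p A a)}) (R0 p A a), inferInstance, inferInstance,
    ?_, ?_, ?_, ?_⟩
  · have := compl_complete (p : R0 p A a)
    rwa [hpD] at this
  · have := compl_regular (p : R0 p A a) (R0_regular p A a)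
    rwa [hpD] at this
  · intro i
    rw [IsScalarTower.algebraMap_apply A (R0 p A a)
      (AdicCompletion (Ideal.span {(p : R0 p A a)}) (R0 p A a)), algebraMap_a, map_mul, hpD]
    exact Ideal.mul_mem_right _ _ (Ideal.mem_span_singleton_self _)
  · intro B _ _ _ hB hb
    choose b hb using fun i => Ideal.mem_span_singleton'.mp (hb i)
    obtain ⟨g0⟩ := R0_hom_exists (p := p) (a := a) hB b (fun i => by rw [← hb i, mul_comm])
    refine ⟨?_, ?_, ?_⟩
    · obtain ⟨g, -⟩ := compl_lift (p : R0 p A a) (p : B) g0 (map_natCast g0 p)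
      exact ⟨g⟩
    · constructor
      intro f1 f2
      apply compl_ext (p : R0 p A a) (p : B) f1 f2
      · rw [hpD, map_natCast]
      · intro r
        have := R0_hom_ext hB
          (f1.comp (IsScalarTower.toAlgHom A (R0 p A a)
            (AdicCompletion (Ideal.span {(p : R0 p A a)}) (R0 p A a))))
          (f2.comp (IsScalarTower.toAlgHom A (R0 p A a)
            (AdicCompletion (Ideal.span {(p : R0 p A a)}) (R0 p A a))))
        exact congrFun (congrArg DFunLike.coe this) r
    · intro hs f b'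
      obtain ⟨a', rfl⟩ := hs b'
      exact ⟨algebraMap A _ a', f.commutes a'⟩

end Groth.Agent.S19616
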