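import Groth.Statements.S19618
import Mathlib

set_option autoImplicit false
universe u
open CategoryTheory CategoryTheory.Limits AlgebraicGeometry Opposite TopologicalSpace
open BlowUp

namespace Groth.Agent.S19618

/-- A local ring containing a non-unit nonzerodivisor has Krull dimension at least one. -/
theorem one_le_ringKrullDim_of_nonunit_nonZeroDivisor {R : Type*} [CommRing R] [IsLocalRing R]
    (t : R) (ht : ¬ IsUnit t) (ht' : t ∈ nonZeroDivisors R) : 1 ≤ ringKrullDim R := by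
  obtain ⟨p0, hp0, hle⟩ := Ideal.exists_minimalPrimes_le (I := ⊥)
    (J := IsLocalRing.maximalIdeal R) bot_le
  have htm : t ∈ IsLocalRing.maximalIdeal R := (IsLocalRing.mem_maximalIdeal t).mpr ht
  have htp : t ∉ p0 := fun h => notMem_nonZeroDivisors_of_mem_mem_minimalPrimes h hp0 ht'
  have hp0prime : p0.IsPrime := hp0.1.1
  rw [ringKrullDim, Order.one_le_krullDim_iff]
  refine ⟨⟨p0, hp0prime⟩, IsLocalRing.closedPoint R, ?_⟩
  rw [lt_iff_le_and_ne]
  refine ⟨hle, fun h => htp ?_⟩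
  have h' : p0 = IsLocalRing.maximalIdeal R := congrArg PrimeSpectrum.asIdeal h
  rw [h']
  exact htm

/-- Every point of an effective Cartier divisor on a scheme has local ring of dimension ≥ 1. -/
theorem one_le_dim_of_mem_support {X : Scheme.{u}} (𝓘 : X.IdealSheafData)
    (hY : BlowUp.IsEffCartierIdeal 𝓘) (y : X) (hy : y ∈ 𝓘.support) :
    1 ≤ ringKrullDim ↑(X.presheaf.stalk y) := by
  obtain ⟨U, hyU, f, hf, hI⟩ := hY y
  rw [Scheme.IdealSheafData.mem_support_iff_of_mem hyU, hI] at hy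
  have hnu : ¬ IsUnit (X.presheaf.germ U.1 y hyU f) := by
    rw [Scheme.mem_zeroLocus_iff] at hy
    have := hy f (Ideal.subset_span rfl)
    rwa [Scheme.mem_basicOpen _ _ _ hyU] at this
  let alg : Algebra Γ(X, U.1) (X.presheaf.stalk y) :=
    TopCat.Presheaf.algebra_section_stalk X.presheaf ⟨y, hyU⟩
  have hloc : IsLocalization.AtPrime (X.presheaf.stalk y)
      (U.2.primeIdealOf ⟨y, hyU⟩).asIdeal := U.2.isLocalization_stalk ⟨y, hyU⟩
  have hnzd : algebraMap Γ(X, U.1) (X.presheaf.stalk y) f ∈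
      nonZeroDivisors (X.presheaf.stalk y) :=
    IsLocalization.map_nonZeroDivisors_le (U.2.primeIdealOf ⟨y, hyU⟩).asIdeal.primeCompl
      _ (Submonoid.mem_map_of_mem _ hf)
  exact one_le_ringKrullDim_of_nonunit_nonZeroDivisor _ hnu hnzd

/-- Let X be a locally Noetherian scheme, Y an effective Cartier divisor on X (a quasi-coherent ideal
sheaf which, near every point, is generated on some affine open by one nonzerodivisor; Y is its
support) and Z a closed integral subscheme (a closed immersion i from an integral scheme with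
generic point ξ). If Y and Z intersect properly — every point ζ of Y ∩ Z which is maximal under
generization inside Y ∩ Z satisfies dim O_{X,ζ} = codim(Y,X) + codim(Z,X), where codim(Y,X) is the
infimum over y ∈ Y of dim O_{X,y} and codim(Z,X) = dim O_{X,i(ξ)} — then Z is not contained in Y. -/
theorem result {X Z : Scheme.{u}}
    [IsLocallyNoetherian X] (𝓘 : X.IdealSheafData) (hY : BlowUp.IsEffCartierIdeal 𝓘)
    (i : Z ⟶ X) [IsClosedImmersion i] [IsIntegral Z]
    (hprop : ∀ ζ : ↥X, ζ ∈ (𝓘.support : Set ↥X) ∩ Set.range i.base →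
        (∀ ζ' : ↥X, ζ' ∈ (𝓘.support : Set ↥X) ∩ Set.range i.base → ζ' ⤳ ζ → ζ' = ζ) →
        ringKrullDim ↑(X.presheaf.stalk ζ) =
          (⨅ y : (𝓘.support : Set ↥X), ringKrullDim ↑(X.presheaf.stalk y.1)) +
            ringKrullDim ↑(X.presheaf.stalk (i (genericPoint ↥Z)))) :
    ¬ Set.range i.base ⊆ (𝓘.support : Set ↥X) := by
  intro hsub
  have hζmem : i (genericPoint ↥Z) ∈ (𝓘.support : Set ↥X) ∩ Set.range i.base :=
    ⟨hsub ⟨genericPoint ↥Z, rfl⟩, ⟨genericPoint ↥Z, rfl⟩⟩
  have hmax : ∀ ζ' : ↥X, ζ' ∈ (𝓘.support : Set ↥X) ∩ Set.range i.base →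
      ζ' ⤳ i (genericPoint ↥Z) → ζ' = i (genericPoint ↥Z) := by
    rintro ζ' ⟨-, z', rfl⟩ hspec
    have h1 : genericPoint ↥Z ⤳ z' := genericPoint_specializes z'
    have h2 : i (genericPoint ↥Z) ⤳ i z' := h1.map i.continuous
    exact (hspec.antisymm h2).eq
  have key := hprop _ hζmem hmax
  have hfin : ringKrullDim ↑(X.presheaf.stalk (i (genericPoint ↥Z))) ≠ ⊤ := ringKrullDim_ne_top
  have hnonneg : 0 ≤ ringKrullDim ↑(X.presheaf.stalk (i (genericPoint ↥Z))) :=
    ringKrullDim_nonneg_of_nontrivial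
  have hc1 : 1 ≤ ⨅ y : (𝓘.support : Set ↥X), ringKrullDim ↑(X.presheaf.stalk y.1) :=
    le_iInf fun y => one_le_dim_of_mem_support 𝓘 hY y.1 y.2
  have hc2 : (⨅ y : (𝓘.support : Set ↥X), ringKrullDim ↑(X.presheaf.stalk y.1)) ≤
      ringKrullDim ↑(X.presheaf.stalk (i (genericPoint ↥Z))) :=
    iInf_le (fun y : (𝓘.support : Set ↥X) => ringKrullDim ↑(X.presheaf.stalk y.1))
      ⟨i (genericPoint ↥Z), hζmem.1⟩
  generalize (⨅ y : (𝓘.support : Set ↥X), ringKrullDim ↑(X.presheaf.stalk y.1)) = c at *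
  generalize ringKrullDim ↑(X.presheaf.stalk (i (genericPoint ↥Z))) = d at *
  have hd_bot : d ≠ ⊥ := fun h => by simp [h] at hnonneg
  have hc_bot : c ≠ ⊥ := fun h => by simp [h] at hc1
  lift d to ℕ∞ using hd_bot
  lift c to ℕ∞ using hc_bot
  have hd_top : d ≠ ⊤ := fun h => hfin (by rw [h]; rfl)
  lift d to ℕ using hd_top
  have hc_top : c ≠ ⊤ := fun h => by
    rw [h] at hc2
    exact absurd (top_le_iff.mp (WithBot.coe_le_coe.mp hc2)) (ENat.natCast_ne_top d)
  lift c to ℕ using hc_top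
  have hc1' : 1 ≤ c := by exact_mod_cast hc1
  have key' : d = c + d := by exact_mod_cast key
  omega

end Groth.Agent.S19618
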