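import Groth.Statements.S19626
import Groth.Agent.Lib.Helper4.ZarAcyc

set_option autoImplicit false
universe u
open CategoryTheory CategoryTheory.Limits AlgebraicGeometry Opposite
open EtCore

namespace Groth.Agent.S19626

section Aux

open CategoryTheory CategoryTheory.Limits AlgebraicGeometry Opposite CategoryTheory.Abelian
open Groth.Agent.Lib.Helper4.ZarAcyc Groth.Agent.Lib.Helper47.ExtAdjShift
open Groth.Agent.Lib.Helper47

/-- étale-flasque: no higher cohomology on any étale scheme over `S` -/
def Fl (S : Scheme.{u}) (G : EtCoh.Ab S) : Prop :=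
  ∀ (T : S.Etale) (i : ℕ), 1 ≤ i → Subsingleton (EtCoh.H T.left ((EtCoh.pull T.hom).obj G) i)

/-- sections over an étale `T` are right exact on a short exact sequence with flasque kernel -/
theorem surjective_app' (S : Scheme.{u}) {Sh : ShortComplex (EtCoh.Ab S)} (hS : Sh.ShortExact)
    (h : Fl S Sh.X₁) (T : S.Etale) : Function.Surjective (Sh.g.hom.app (op T)) := by
  have : Etale T.hom := T.prop
  let j : T.left ⟶ S := T.hom
  have hpl : PreservesFiniteLimits (EtCoh.pull j) := Groth.Agent.S0101.result _
  have hST : (Sh.map (EtCoh.pull j)).ShortExact := hS.map_of_exact _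
  have h1 := surjective_gsec_of_H1 hST (h T 1 le_rfl)
  have hepi : Epi ((EtCoh.pull T.hom ⋙ EtCore.gsec T.left).map Sh.g) :=
    (AddCommGrpCat.epi_iff_surjective _).2 h1
  have hnat := (sectIso S T).hom.naturality Sh.g
  have h2 : ((sheafSections S.smallEtaleTopology AddCommGrpCat.{u + 1}).obj (op T)).map Sh.g =
      (sectIso S T).inv.app _ ≫ (EtCoh.pull T.hom ⋙ EtCore.gsec T.left).map Sh.g ≫
        (sectIso S T).hom.app _ := by
    rw [hnat, Iso.inv_hom_id_app_assoc]
  have h3 : Epi (((sheafSections S.smallEtaleTopology AddCommGrpCat.{u + 1}).obj (op T)).map Sh.g) := by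
    rw [h2]
    infer_instance
  exact (AddCommGrpCat.epi_iff_surjective _).1 h3

/-- conversely, surjectivity of sections over `T` gives surjectivity of global sections of the
restriction to `T` -/
theorem surjective_gsec_pull (S : Scheme.{u}) {A B : EtCoh.Ab S} (ψ : A ⟶ B) (T : S.Etale)
    (h : Function.Surjective (ψ.hom.app (op T))) :
    Function.Surjective (((EtCoh.pull T.hom).map ψ).hom.app (op (EtCoh.top T.left))) := by
  have hepi : Epi (((sheafSections S.smallEtaleTopology AddCommGrpCat.{u + 1}).obj (op T)).map ψ) :=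
    (AddCommGrpCat.epi_iff_surjective _).2 h
  have hnat := (sectIso S T).hom.naturality ψ
  have h2 : (EtCoh.pull T.hom ⋙ EtCore.gsec T.left).map ψ =
      (sectIso S T).hom.app _ ≫
        ((sheafSections S.smallEtaleTopology AddCommGrpCat.{u + 1}).obj (op T)).map ψ ≫
          (sectIso S T).inv.app _ := by
    rw [← Category.assoc, ← hnat, Category.assoc, Iso.hom_inv_id_app, Category.comp_id]
  have h3 : Epi ((EtCoh.pull T.hom ⋙ EtCore.gsec T.left).map ψ) := by
    rw [h2]
    infer_instance
  exact (AddCommGrpCat.epi_iff_surjective _).1 h3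

/-- the cokernel of an embedding of a flasque sheaf into an injective one is flasque -/
theorem fl_X₃ (S : Scheme.{u}) {Sh : ShortComplex (EtCoh.Ab S)} (hS : Sh.ShortExact)
    [Injective Sh.X₂] (h : Fl S Sh.X₁) : Fl S Sh.X₃ := by
  intro T i hi
  have : Etale T.hom := T.prop
  let j : T.left ⟶ S := T.hom
  have hpl : PreservesFiniteLimits (EtCoh.pull j) := Groth.Agent.S0101.result _
  have hST : (Sh.map (EtCoh.pull j)).ShortExact := hS.map_of_exact _
  have hinj : Injective (Sh.map (EtCoh.pull j)).X₂ :=
    Groth.Agent.Lib.Helper47.EtRestr.injective_pull j Sh.X₂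
  have h1 : Subsingleton (EtCoh.H T.left (Sh.map (EtCoh.pull j)).X₁ (i + 1)) :=
    h T (i + 1) (by omega)
  obtain ⟨n, rfl⟩ : ∃ n, i = n + 1 := ⟨i - 1, by omega⟩
  have hz : ∀ x : EtCoh.H T.left ((EtCoh.pull j).obj Sh.X₃) (n + 1), x = 0 := by
    intro x
    have hx3 : x.comp hST.extClass (rfl : n + 1 + 1 = n + 1 + 1) = 0 := Subsingleton.elim _ _
    obtain ⟨x₂, hx₂⟩ := Ext.covariant_sequence_exact₃ _ hST x (rfl : n + 1 + 1 = n + 1 + 1) hx3
    have hx0 : x₂ = 0 := Ext.eq_zero_of_injective x₂
    rw [← hx₂, hx0]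
    exact Ext.zero_comp _ _ (Ext.mk₀ (Sh.map (EtCoh.pull j)).g) _ (add_zero (n + 1))
  exact ⟨fun x y => (hz x).trans (hz y).symm⟩

variable {X Y : Scheme.{u}} (f : X ⟶ Y)

/-- `f_*` is exact on a short exact sequence with flasque kernel -/
theorem shortExact_map_push {Sh : ShortComplex (EtCoh.Ab X)} (hS : Sh.ShortExact)
    (h : Fl X Sh.X₁) : (Sh.map (EtCoh.push f)).ShortExact := by
  have hlim : PreservesFiniteLimits (EtCoh.push f) := by
    have : PreservesLimitsOfSize.{0, 0} (EtCoh.push f) :=
      (EtCoh.pullPushAdj f).rightAdjoint_preservesLimits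
    infer_instance
  have hlex := ((Functor.preservesFiniteLimits_tfae (EtCoh.push f)).out 3 0).1 hlim
  obtain ⟨hex, hmono⟩ := hlex Sh hS
  refine { exact := hex, mono_f := hmono, epi_g := ?_ }
  have hls : Sheaf.IsLocallySurjective ((EtCoh.push f).map Sh.g) := by
    apply Presheaf.isLocallySurjective_of_surjective
    rintro ⟨V⟩
    exact surjective_app' X hS h ((EtCoh.bc f).obj V)
  have : Sheaf.IsLocallySurjective (Sh.map (EtCoh.push f)).g := hls
  exact Sheaf.epi_of_isLocallySurjective _

theorem main : ∀ (n : ℕ) (G : EtCoh.Ab X), Fl X G → ∀ (T : Y.Etale),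
    Subsingleton (EtCoh.H T.left ((EtCoh.pull T.hom).obj ((EtCoh.push f).obj G)) (n + 1)) := by
  intro n
  induction n with
  | zero =>
    intro G hG T
    have : Etale T.hom := T.prop
    let j : T.left ⟶ Y := T.hom
    change Subsingleton (EtCoh.H T.left ((EtCoh.pull j).obj ((EtCoh.push f).obj G)) _)
    have hpl : PreservesFiniteLimits (EtCoh.pull j) := Groth.Agent.S0101.result _
    have hS := SI_shortExact G
    have hPS := shortExact_map_push f hS hG
    have hRS : (((SI G).map (EtCoh.push f)).map (EtCoh.pull j)).ShortExact :=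
      hPS.map_of_exact _
    have hi2 : Injective ((SI G).map (EtCoh.push f)).X₂ := EtRestr.injective_push f (SI G).X₂
    have hinj : Injective (((SI G).map (EtCoh.push f)).map (EtCoh.pull j)).X₂ :=
      EtRestr.injective_pull j _
    have hsurj : Function.Surjective
        ((((SI G).map (EtCoh.push f)).map (EtCoh.pull j)).g.hom.app (op (EtCoh.top T.left))) :=
      surjective_gsec_pull Y ((EtCoh.push f).map (SI G).g) T
        (surjective_app' X hS hG ((EtCoh.bc f).obj T))
    have hz : ∀ x : EtCoh.H T.left ((EtCoh.pull j).obj ((EtCoh.push f).obj G)) 1, x = 0 := by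
      intro x
      obtain ⟨y, rfl⟩ := Ext.covariant_sequence_exact₁ _ hRS x (Ext.eq_zero_of_injective _)
        (rfl : 0 + 1 = 1)
      let hTop := EtCore.topIsTerminal T.left
      obtain ⟨b, hb⟩ := hsurj (Sheaf.H.equiv₀
        (((SI G).map (EtCoh.push f)).map (EtCoh.pull j)).X₃ hTop y)
      let y' : EtCoh.H T.left (((SI G).map (EtCoh.push f)).map (EtCoh.pull j)).X₂ 0 :=
        (Sheaf.H.equiv₀ (((SI G).map (EtCoh.push f)).map (EtCoh.pull j)).X₂ hTop).symm b
      have hy : y = y'.comp
          (Ext.mk₀ (((SI G).map (EtCoh.push f)).map (EtCoh.pull j)).g) (add_zero 0) := by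
        apply (Sheaf.H.equiv₀
          (((SI G).map (EtCoh.push f)).map (EtCoh.pull j)).X₃ hTop).injective
        rw [← Sheaf.H.map_apply, ← Sheaf.H.equiv₀_naturality]
        rw [← hb]
        congr 1
        exact ((Sheaf.H.equiv₀
          (((SI G).map (EtCoh.push f)).map (EtCoh.pull j)).X₂ hTop).apply_symm_apply b).symm
      rw [hy, Ext.comp_assoc_of_second_deg_zero, hRS.comp_extClass]
      exact Ext.comp_zero _ _ _ _ _
    exact ⟨fun x y => (hz x).trans (hz y).symm⟩
  | succ n ih =>
    intro G hG T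
    have : Etale T.hom := T.prop
    let j : T.left ⟶ Y := T.hom
    change Subsingleton (EtCoh.H T.left ((EtCoh.pull j).obj ((EtCoh.push f).obj G)) _)
    have hpl : PreservesFiniteLimits (EtCoh.pull j) := Groth.Agent.S0101.result _
    have hS := SI_shortExact G
    have hPS := shortExact_map_push f hS hG
    have hRS : (((SI G).map (EtCoh.push f)).map (EtCoh.pull j)).ShortExact :=
      hPS.map_of_exact _
    have hi2 : Injective ((SI G).map (EtCoh.push f)).X₂ := EtRestr.injective_push f (SI G).X₂
    have hinj : Injective (((SI G).map (EtCoh.push f)).map (EtCoh.pull j)).X₂ :=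
      EtRestr.injective_pull j _
    have hQ : Fl X (SI G).X₃ := fl_X₃ X hS hG
    have ihQ : Subsingleton (EtCoh.H T.left
        (((SI G).map (EtCoh.push f)).map (EtCoh.pull j)).X₃ (n + 1)) := ih (SI G).X₃ hQ T
    have hz : ∀ x : EtCoh.H T.left ((EtCoh.pull j).obj ((EtCoh.push f).obj G)) (n + 1 + 1),
        x = 0 := by
      intro x
      obtain ⟨y, rfl⟩ := Ext.covariant_sequence_exact₁ _ hRS x (Ext.eq_zero_of_injective _)
        (rfl : n + 1 + 1 = n + 1 + 1)
      rw [Subsingleton.elim y 0]
      exact Ext.zero_comp _ _ _ _ _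
    exact ⟨fun x y => (hz x).trans (hz y).symm⟩

end Aux


/-- Let f : X → Y be a morphism of schemes and F an abelian sheaf on the small étale site of X which is
flasque in the sense of étale cohomology: H^q(W, F|_W) = 0 for every étale X-scheme W and every q >
0, where F|_W is the pullback of F along the structure morphism of W. Then the direct image f_*F is
flasque on Y in the same sense: H^q(W', (f_*F)|_{W'}) = 0 for every étale Y-scheme W' and every q >
0. -/
theorem result {X Y : Scheme.{u}} (f : X ⟶ Y)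
    (F : EtCoh.Ab X)
    (hF : ∀ (W : X.Etale) (q : ℕ), 0 < q → Subsingleton (EtCoh.H W.left ((EtCoh.pull W.hom).obj F) q))
    (W' : Y.Etale) (q : ℕ) (hq : 0 < q) :
    Subsingleton (EtCoh.H W'.left ((EtCoh.pull W'.hom).obj ((EtCoh.push f).obj F)) q) := by
  obtain ⟨n, rfl⟩ : ∃ n, q = n + 1 := ⟨q - 1, by omega⟩
  exact main f n F (fun T i hi => hF T i (by omega)) W'

end Groth.Agent.S19626
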