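import Groth.Statements.S19628
import Groth.Agent.S15295

set_option autoImplicit false
universe u
open DeRham

namespace Groth.Agent.S19628

section helpers

open TensorProduct

variable {k K : Type*} [Field k] [Field K] [Algebra k K]
  {V V1 U U1 : Type*} [AddCommGroup V] [Module k V] [AddCommGroup V1] [Module k V1]
  [AddCommGroup U] [Module k U] [Module K U] [IsScalarTower k K U]
  [AddCommGroup U1] [Module k U1] [Module K U1] [IsScalarTower k K U1]

/-- an additive map commuting with scalars, as a linear map. -/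
def mkLin (f : V →+ U) (h : ∀ (c : k) (x : V), f (c • x) = c • f x) : V →ₗ[k] U where
  toFun := f
  map_add' := map_add f
  map_smul' := h

@[simp] theorem mkLin_apply (f : V →+ U) (h : ∀ (c : k) (x : V), f (c • x) = c • f x) (x : V) :
    mkLin f h x = f x := rfl

variable (d : V →ₗ[k] V1) (d' : U →ₗ[K] U1) (ψ : V →ₗ[k] U) (ψ1 : V1 →ₗ[k] U1)

theorem comm_lift (hcomm : ∀ x, ψ1 (d x) = d' (ψ x)) (t : K ⊗[k] V) :
    LinearMap.liftBaseChange K ψ1 (LinearMap.baseChange K d t) = d' (LinearMap.liftBaseChange K ψ t) := by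
  induction t using TensorProduct.induction_on with
  | zero => simp
  | tmul s x =>
    rw [LinearMap.baseChange_tmul, LinearMap.liftBaseChange_tmul, LinearMap.liftBaseChange_tmul,
      hcomm, map_smul]
  | add x y hx hy => rw [map_add, map_add, map_add, map_add, hx, hy]

theorem span_range (hcomm : ∀ x, ψ1 (d x) = d' (ψ x))
    (hb : Function.Bijective (LinearMap.liftBaseChange K ψ)) :
    Submodule.span K (ψ1 '' (LinearMap.range d : Set V1)) = LinearMap.range d' := by
  apply le_antisymm
  · rw [Submodule.span_le]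
    rintro _ ⟨_, ⟨x, rfl⟩, rfl⟩
    exact ⟨ψ x, (hcomm x).symm⟩
  · rintro _ ⟨z, rfl⟩
    obtain ⟨t, rfl⟩ := hb.2 z
    rw [← comm_lift d d' ψ ψ1 hcomm]
    induction t using TensorProduct.induction_on with
    | zero => simp
    | tmul s x =>
      rw [LinearMap.baseChange_tmul, LinearMap.liftBaseChange_tmul]
      exact Submodule.smul_mem _ _ (Submodule.subset_span ⟨d x, ⟨x, rfl⟩, rfl⟩)
    | add x y hx hy =>
      rw [map_add, map_add]
      exact Submodule.add_mem _ hx hy

theorem span_ker (hcomm : ∀ x, ψ1 (d x) = d' (ψ x))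
    (hb : Function.Bijective (LinearMap.liftBaseChange K ψ))
    (hb1 : Function.Bijective (LinearMap.liftBaseChange K ψ1)) :
    Submodule.span K (ψ '' (LinearMap.ker d : Set V)) = LinearMap.ker d' := by
  apply le_antisymm
  · rw [Submodule.span_le]
    rintro _ ⟨x, hx, rfl⟩
    have hx0 : d x = 0 := hx
    show d' (ψ x) = 0
    rw [← hcomm, hx0, map_zero]
  · intro y hy
    have hy0 : d' y = 0 := hy
    obtain ⟨t, rfl⟩ := hb.2 y
    have hDt : LinearMap.baseChange K d t = 0 := by
      apply hb1.1
      rw [comm_lift d d' ψ ψ1 hcomm, hy0, map_zero]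
    have hex : Function.Exact ((LinearMap.ker d).subtype.lTensor K) (d.lTensor K) :=
      Module.Flat.lTensor_exact K (LinearMap.exact_subtype_ker_map d)
    have hDt' : d.lTensor K t = 0 := hDt
    obtain ⟨s, rfl⟩ := (hex t).mp hDt'
    clear hDt hDt' hy0 hy
    induction s using TensorProduct.induction_on with
    | zero => simp
    | tmul c x =>
      rw [LinearMap.lTensor_tmul, LinearMap.liftBaseChange_tmul]
      exact Submodule.smul_mem _ _ (Submodule.subset_span ⟨x.1, x.2, rfl⟩)
    | add x y hx hy =>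
      rw [map_add, map_add]
      exact Submodule.add_mem _ hx hy

end helpers

open exteriorPower in
/-- In the affine case, at ring level, let k ⊆ K be an extension of fields of characteristic zero, A a
smooth k-algebra and A' = K ⊗_k A (a pushout square of commutative rings with the scalar-tower
conventions). Let d be the de Rham differential of A over k, d' that of A' over K, and ψ the map of
de Rham complexes induced by A → A', assumed compatible with d and d'. Then for every p the K-span
of ψ(closed p-forms of A/k) is the module of closed p-forms of A'/K, and the K-span of ψ(exact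
p-forms of A/k) is the module of exact p-forms of A'/K. Together with the degreewise base-change
bijection for exterior powers of differentials, this says that the natural map H^p_dR(A/k) ⊗_k K →
H^p_dR(A'/K) is an isomorphism. (The source states the isomorphism H^i_dR(X) ⊗_k K ≅ H^i_dR(X_K) for
a smooth variety X, induced by a quasi-isomorphism of complexes; this row is the case of an affine
X, phrased through closed and exact forms.) -/
theorem result
    (k K : Type u) [Field k] [Field K] [CharZero k] [Algebra k K]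
    (A A' : Type u) [CommRing A] [CommRing A'] [Algebra k A] [Algebra.Smooth k A]
    [Algebra A A'] [Algebra k A'] [IsScalarTower k A A'] [Algebra K A'] [IsScalarTower k K A']
    [Algebra.IsPushout k K A A']
    (d : ∀ p : ℕ, ↥(⋀[A]^p (Ω[A⁄k])) →ₗ[k] ↥(⋀[A]^(p + 1) (Ω[A⁄k])))
    (hd : DeRham.IsDiff (KaehlerDifferential.D k A) d)
    (d' : ∀ p : ℕ, ↥(⋀[A']^p (Ω[A'⁄K])) →ₗ[K] ↥(⋀[A']^(p + 1) (Ω[A'⁄K])))
    (hd' : DeRham.IsDiff (KaehlerDifferential.D K A') d')
    (ψ : ∀ p : ℕ, ↥(⋀[A]^p (Ω[A⁄k])) →+ ↥(⋀[A']^p (Ω[A'⁄K])))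
    (hψ : DeRham.IsCxMap (KaehlerDifferential.D k A) (KaehlerDifferential.D K A') (algebraMap A A') ψ)
    (hcomm : ∀ (p : ℕ) (x : ↥(⋀[A]^p (Ω[A⁄k]))), ψ (p + 1) (d p x) = d' p (ψ p x))
    (p : ℕ) :
    Submodule.span K (ψ p '' (DeRham.cocycles d p : Set ↥(⋀[A]^p (Ω[A⁄k])))) = DeRham.cocycles d' p ∧
      Submodule.span K (ψ p '' (DeRham.coboundaries d p : Set ↥(⋀[A]^p (Ω[A⁄k])))) =
        DeRham.coboundaries d' p := by
  classical
  -- ψ is k-linear
  have hlin : ∀ (q : ℕ) (c : k) (x : ↥(⋀[A]^q (Ω[A⁄k]))), ψ q (c • x) = c • ψ q x := by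
    intro q c x
    induction x using Groth.Agent.Lib.Helper77.DeRhamGen.gen_induction_kaehler with
    | h0 => simp
    | hadd x y hx hy => rw [smul_add, map_add, map_add, hx, hy, smul_add]
    | hgen b₀ b =>
      have e1 : c • DeRham.gen (KaehlerDifferential.D k A) q b₀ b =
          DeRham.gen (KaehlerDifferential.D k A) q (c • b₀) b := by
        unfold DeRham.gen
        rw [smul_assoc]
      rw [e1, hψ, hψ]
      unfold DeRham.gen
      rw [Algebra.smul_def, map_mul, ← IsScalarTower.algebraMap_apply, ← Algebra.smul_def, smul_assoc]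
  have hbij : ∀ q, Function.Bijective (LinearMap.liftBaseChange K (mkLin (ψ q) (hlin q))) := fun q =>
    Groth.Agent.S15295.result k K A A' ψ hψ q
      (LinearMap.liftBaseChange K (mkLin (ψ q) (hlin q))).toAddMonoidHom
      (fun s x => by
        show LinearMap.liftBaseChange K (mkLin (ψ q) (hlin q)) (s ⊗ₜ[k] x) = _
        rw [LinearMap.liftBaseChange_tmul]; rfl)
  refine ⟨?_, ?_⟩
  · exact span_ker (d p) (d' p) (mkLin (ψ p) (hlin p)) (mkLin (ψ (p + 1)) (hlin (p + 1)))
      (hcomm p) (hbij p) (hbij (p + 1))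
  · rcases p with _ | q
    · show Submodule.span K (ψ 0 '' ((⊥ : Submodule k ↥(⋀[A]^0 (Ω[A⁄k]))) : Set _)) = ⊥
      rw [Submodule.span_eq_bot]
      rintro _ ⟨x, hx, rfl⟩
      have : x = 0 := hx
      rw [this, map_zero]
    · exact span_range (d q) (d' q) (mkLin (ψ q) (hlin q)) (mkLin (ψ (q + 1)) (hlin (q + 1)))
        (hcomm q) (hbij q)

end Groth.Agent.S19628
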