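import Groth.Statements.S19630
import Mathlib.RingTheory.Unramified.Field
import Mathlib.FieldTheory.Perfect
import Mathlib.LinearAlgebra.ExteriorPower.Basic

set_option autoImplicit false
universe u
open DeRham

namespace Groth.Agent.S19630

open exteriorPower in
/-- A family pinned by `IsCxMap` over the identity coincides with `exteriorPower.map` of a linear
map intertwining the derivations, as soon as the source is generated by differentials. -/
lemma eq_map_of_isCxMap {R R' A : Type u} [CommRing R] [CommRing R'] [CommRing A] [Algebra R A] [Algebra R' A]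
    (π : Ω[A⁄R] →ₗ[A] Ω[A⁄R']) (hπ : ∀ a, π (KaehlerDifferential.D R A a) = KaehlerDifferential.D R' A a)
    (ψ : ∀ p : ℕ, ↥(⋀[A]^p (Ω[A⁄R])) →+ ↥(⋀[A]^p (Ω[A⁄R'])))
    (hψ : DeRham.IsCxMap (KaehlerDifferential.D R A) (KaehlerDifferential.D R' A) (RingHom.id A) ψ)
    (p : ℕ) (x : ↥(⋀[A]^p (Ω[A⁄R]))) : ψ p x = exteriorPower.map p π x := by
  suffices h : ∀ c : A, ψ p (c • x) = exteriorPower.map p π (c • x) by simpa using h 1
  have hx : x ∈ Submodule.span A (ιMulti A p '' {a | Set.range a ⊆ Set.range (KaehlerDifferential.D R A)}) := by
    rw [exteriorPower.ιMulti_span_of_span A p _ (KaehlerDifferential.span_range_derivation R A)]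
    trivial
  induction hx using Submodule.span_induction with
  | mem y hy =>
    obtain ⟨a, ha, rfl⟩ := hy
    intro c
    have : ∀ i, ∃ b, KaehlerDifferential.D R A b = a i := fun i => ha ⟨i, rfl⟩
    choose b hb using this
    have e1 : c • ιMulti A p a = DeRham.gen (KaehlerDifferential.D R A) p c b := by
      unfold DeRham.gen
      congr 2
      funext i
      exact (hb i).symm
    rw [e1, hψ p c b]
    unfold DeRham.gen
    rw [map_smul, exteriorPower.map_apply_ιMulti]
    simp only [RingHom.id_apply]
    congr 2
    funext i
    simp [hπ]
  | zero => intro c; simp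
  | add y z _ _ hy hz => intro c; rw [smul_add, map_add, map_add, hy c, hz c]
  | smul r y _ hy => intro c; rw [smul_smul]; exact hy (c * r)


open exteriorPower in
/-- In the affine case, at ring level, let k ⊆ K be a finite extension of fields of characteristic zero
and B a smooth K-algebra, so that Y = Spec B is a smooth affine variety over K which may also be
regarded over k. Let ψ be the map of de Rham complexes from Ω•_{B/k} to Ω•_{B/K} induced by the
identity of B. Then ψ is bijective in every degree: the de Rham complex of Y over k and over K
coincide, and hence the natural map H^i_dR(Y/k) → H^i_dR(Y/K) is an isomorphism. (The source states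
the isomorphism on de Rham cohomology for any smooth variety Y over K, through the equality of the
two de Rham complexes; this row is that equality for affine Y.) -/
theorem result
    (k K : Type u) [Field k] [Field K] [CharZero k] [Algebra k K] [Module.Finite k K]
    (B : Type u) [CommRing B] [Algebra K B] [Algebra k B] [IsScalarTower k K B] [Algebra.Smooth K B]
    (ψ : ∀ p : ℕ, ↥(⋀[B]^p (Ω[B⁄k])) →+ ↥(⋀[B]^p (Ω[B⁄K])))
    (hψ : DeRham.IsCxMap (KaehlerDifferential.D k B) (KaehlerDifferential.D K B) (RingHom.id B) ψ)
    (p : ℕ) :
    Function.Bijective (ψ p) := by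
  have : Algebra.IsSeparable k K := inferInstance
  have : Algebra.FormallyUnramified k K := Algebra.FormallyUnramified.of_isSeparable k K
  have : Subsingleton (Ω[K⁄k]) := Algebra.FormallyUnramified.subsingleton_kaehlerDifferential
  have hinj : Function.Injective (KaehlerDifferential.map k K B B) := by
    rw [injective_iff_map_eq_zero]
    intro x hx
    have ht : ∀ t : TensorProduct K B (Ω[K⁄k]), t = 0 := by
      intro t
      induction t using TensorProduct.induction_on with
      | zero => rfl
      | tmul b w => rw [Subsingleton.elim w 0, TensorProduct.tmul_zero]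
      | add a b ha hb => rw [ha, hb, add_zero]
    obtain ⟨t, rfl⟩ := (KaehlerDifferential.exact_mapBaseChange_map k K B x).1 hx
    rw [ht t, map_zero]
  have hsurj : Function.Surjective (KaehlerDifferential.map k K B B) :=
    KaehlerDifferential.map_surjective k K B
  let e : Ω[B⁄k] ≃ₗ[B] Ω[B⁄K] := LinearEquiv.ofBijective (KaehlerDifferential.map k K B B) ⟨hinj, hsurj⟩
  have hfun : ⇑(ψ p) = ⇑(exteriorPower.map p e.toLinearMap) := by
    funext x
    exact eq_map_of_isCxMap e.toLinearMap (fun a => by simp [e, KaehlerDifferential.map_D]) ψ hψ p x
  rw [hfun]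
  refine Function.bijective_iff_has_inverse.2 ⟨exteriorPower.map p e.symm.toLinearMap, ?_, ?_⟩
  · intro x
    rw [← LinearMap.comp_apply, ← exteriorPower.map_comp]
    simp [exteriorPower.map_id]
  · intro x
    rw [← LinearMap.comp_apply, ← exteriorPower.map_comp]
    simp [exteriorPower.map_id]

end Groth.Agent.S19630
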