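import Groth.Statements.S19632
-- import your own Groth.Agent.* helpers here

set_option autoImplicit false
universe u
open DeRham

namespace Groth.Agent.S19632

open AddMonoidAlgebra in
/-- The Euler derivation `T d/dT` as a linear map. -/
noncomputable def theta (k : Type u) [Field k] : LaurentPolynomial k →ₗ[k] LaurentPolynomial k :=
  (AddMonoidAlgebra.coeffLinearEquiv k).symm.toLinearMap ∘ₗ
    (Finsupp.lsum k (fun n : ℤ => (n : k) • Finsupp.lsingle n)) ∘ₗ
      (AddMonoidAlgebra.coeffLinearEquiv k).toLinearMap

lemma theta_single (k : Type u) [Field k] (n : ℤ) (a : k) :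
    theta k (AddMonoidAlgebra.single n a) = AddMonoidAlgebra.single n ((n : k) * a) := by
  apply (AddMonoidAlgebra.coeffLinearEquiv k).injective
  simp [theta, AddMonoidAlgebra.coeffLinearEquiv, -LaurentPolynomial.single_eq_C_mul_T]

lemma theta_coeff (k : Type u) [Field k] (f : LaurentPolynomial k) (n : ℤ) :
    (theta k f).coeff n = (n : k) * f.coeff n := by
  induction f using AddMonoidAlgebra.induction_linear with
  | zero => simp
  | add f g hf hg => simp [hf, hg, mul_add]
  | single m a =>
    rw [theta_single]
    by_cases h : m = n
    · subst h; simp [-LaurentPolynomial.single_eq_C_mul_T]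
    · simp [-LaurentPolynomial.single_eq_C_mul_T, Finsupp.single_apply, h]

lemma theta_leibniz (k : Type u) [Field k] (f g : LaurentPolynomial k) :
    theta k (f * g) = f • theta k g + g • theta k f := by
  induction f using AddMonoidAlgebra.induction_linear with
  | zero => simp
  | add f₁ f₂ h₁ h₂ =>
    rw [add_mul, map_add, h₁, h₂, map_add, add_smul, smul_add]; abel
  | single m a =>
    induction g using AddMonoidAlgebra.induction_linear with
    | zero => simp
    | add g₁ g₂ h₁ h₂ =>
      rw [mul_add, map_add, h₁, h₂, map_add, add_smul, smul_add]; abel
    | single n b =>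
      simp only [theta_single, smul_eq_mul, AddMonoidAlgebra.single_mul_single]
      rw [add_comm n m, ← AddMonoidAlgebra.single_add]
      congr 1
      push_cast; ring

noncomputable def thetaD (k : Type u) [Field k] : Derivation k (LaurentPolynomial k) (LaurentPolynomial k) :=
  Derivation.mk' (theta k) (theta_leibniz k)


/-- Let k be a field of characteristic zero and G_m = Spec k[t, t⁻¹] the multiplicative group. The
kernel of the differential d : k[t, t⁻¹] → Ω¹ of the de Rham complex of G_m consists of the
constants: for a Laurent polynomial f, df = 0 if and only if f lies in the image of k. Equivalently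
H^0_dR(G_m/k) = k. (Characteristic zero is used: in characteristic p the element t^p is closed.) -/
theorem result (k : Type u) [Field k] [CharZero k]
    (f : LaurentPolynomial k) :
    KaehlerDifferential.D k (LaurentPolynomial k) f = 0 ↔ f ∈ Set.range (algebraMap k (LaurentPolynomial k)) := by
  constructor
  · intro h
    have h1 : theta k f = 0 := by
      have := congrArg (Derivation.liftKaehlerDifferential (thetaD k)) h
      rw [Derivation.liftKaehlerDifferential_comp_D, map_zero] at this
      exact this
    have h2 : ∀ n : ℤ, n ≠ 0 → f.coeff n = 0 := by
      intro n hn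
      have := theta_coeff k f n
      rw [h1] at this
      simp at this
      rcases this with h | h
      · exact absurd (by exact_mod_cast h) hn
      · exact h
    refine ⟨f.coeff 0, ?_⟩
    ext n
    by_cases hn : n = 0
    · subst hn; simp [LaurentPolynomial.algebraMap_apply, LaurentPolynomial.C, -LaurentPolynomial.single_eq_C_mul_T]
    · rw [h2 n hn]; simp [LaurentPolynomial.algebraMap_apply, LaurentPolynomial.C, -LaurentPolynomial.single_eq_C_mul_T, Finsupp.single_apply, Ne.symm hn]
  · rintro ⟨a, rfl⟩
    exact Derivation.map_algebraMap _ a

end Groth.Agent.S19632
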