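import Groth.Statements.S19633
import Groth.Agent.S19632
import Mathlib.LinearAlgebra.ExteriorPower.Basic

set_option autoImplicit false
universe u
open DeRham

namespace Groth.Agent.S19633

open Groth.Agent.S19632 LaurentPolynomial

/-- The form `dT/T`. -/
noncomputable def eta (k : Type u) [Field k] : Ω[LaurentPolynomial k⁄k] :=
  (T (-1) : LaurentPolynomial k) • KaehlerDifferential.D k (LaurentPolynomial k) (T 1)

/-- The `A`-linear map `Ω → A` induced by the Euler derivation. -/
noncomputable def lam (k : Type u) [Field k] : Ω[LaurentPolynomial k⁄k] →ₗ[LaurentPolynomial k] LaurentPolynomial k :=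
  (thetaD k).liftKaehlerDifferential

lemma lam_D (k : Type u) [Field k] (f : LaurentPolynomial k) :
    lam k (KaehlerDifferential.D k (LaurentPolynomial k) f) = theta k f := by
  unfold lam
  rw [Derivation.liftKaehlerDifferential_comp_D]
  rfl

lemma theta_C_mul_T (k : Type u) [Field k] (a : k) (n : ℤ) :
    theta k (C a * T n) = C ((n : k) * a) * T n := by
  rw [← single_eq_C_mul_T, theta_single, single_eq_C_mul_T]

lemma theta_T (k : Type u) [Field k] (n : ℤ) :
    theta k (T n : LaurentPolynomial k) = C (n : k) * T n := by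
  have := theta_C_mul_T k 1 n
  simpa using this

lemma lam_eta (k : Type u) [Field k] : lam k (eta k) = 1 := by
  unfold eta
  rw [map_smul, lam_D, theta_T]
  simp only [Int.cast_one, map_one, one_mul, smul_eq_mul]
  rw [← T_add]
  simp

lemma D_T_nat (k : Type u) [Field k] (n : ℕ) :
    KaehlerDifferential.D k (LaurentPolynomial k) (T (n : ℤ)) = n • ((T (n : ℤ) : LaurentPolynomial k) • eta k) := by
  induction n with
  | zero => simp
  | succ n ih =>
    have e1 : (T ((n + 1 : ℕ) : ℤ) : LaurentPolynomial k) = T (n : ℤ) * T 1 := by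
      rw [← T_add]; push_cast; rfl
    have e2 : (T ((n + 1 : ℕ) : ℤ) : LaurentPolynomial k) • eta k
        = (T (n : ℤ) : LaurentPolynomial k) • KaehlerDifferential.D k (LaurentPolynomial k) (T 1) := by
      unfold eta
      rw [smul_smul, ← T_add]
      congr 2
      push_cast; ring
    have e3 : (T 1 : LaurentPolynomial k) • ((T (n : ℤ) : LaurentPolynomial k) • eta k)
        = (T (n : ℤ) : LaurentPolynomial k) • KaehlerDifferential.D k (LaurentPolynomial k) (T 1) := by
      unfold eta
      rw [smul_smul, smul_smul, ← T_add, ← T_add]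
      congr 2
      ring
    rw [e2, e1, Derivation.leibniz, ih, smul_comm (T 1 : LaurentPolynomial k) n, e3, succ_nsmul, add_comm]

lemma D_T (k : Type u) [Field k] (n : ℤ) :
    KaehlerDifferential.D k (LaurentPolynomial k) (T n) = n • ((T n : LaurentPolynomial k) • eta k) := by
  obtain ⟨m, rfl | rfl⟩ := Int.eq_nat_or_neg n
  · rw [D_T_nat, natCast_zsmul]
  · have h1 : (T (-(m : ℤ)) : LaurentPolynomial k) * T (m : ℤ) = 1 := by
      rw [← T_add]; simp
    rw [Derivation.leibniz_of_mul_eq_one _ h1, D_T_nat, neg_smul, neg_smul, natCast_zsmul,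
      smul_comm _ m, smul_smul, pow_two, mul_assoc, h1, mul_one]

lemma D_eq (k : Type u) [Field k] (f : LaurentPolynomial k) :
    KaehlerDifferential.D k (LaurentPolynomial k) f = theta k f • eta k := by
  induction f using LaurentPolynomial.induction_on' with
  | add p q hp hq => rw [map_add, map_add, add_smul, hp, hq]
  | C_mul_T n a =>
    rw [theta_C_mul_T, Derivation.leibniz, D_T]
    have : KaehlerDifferential.D k (LaurentPolynomial k) (C a) = 0 := by
      rw [LaurentPolynomial.C_eq_algebraMap]
      exact Derivation.map_algebraMap _ a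
    rw [this, smul_zero, add_zero, mul_smul]
    rw [smul_comm (C a) n, ← Int.cast_smul_eq_zsmul k n, map_mul, mul_smul]
    rw [LaurentPolynomial.C_eq_algebraMap (n : k), algebraMap_smul]


lemma eq_lam_smul (k : Type u) [Field k] (ω : Ω[LaurentPolynomial k⁄k]) : ω = lam k ω • eta k := by
  have h : ω ∈ Submodule.span (LaurentPolynomial k)
      (Set.range (KaehlerDifferential.D k (LaurentPolynomial k))) := by
    rw [KaehlerDifferential.span_range_derivation]; trivial
  induction h using Submodule.span_induction with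
  | mem x hx => obtain ⟨f, rfl⟩ := hx; rw [lam_D, D_eq]
  | zero => simp
  | add x y _ _ hx hy => rw [map_add, add_smul, ← hx, ← hy]
  | smul a x _ hx => rw [map_smul, smul_eq_mul, mul_smul, ← hx]

open exteriorPower in
lemma ιMulti_eq_zero (k : Type u) [Field k] (i : ℕ) (m : Fin (i + 2) → Ω[LaurentPolynomial k⁄k]) :
    ιMulti (LaurentPolynomial k) (i + 2) m = 0 := by
  have hm : m = fun j => lam k (m j) • eta k := funext fun j => eq_lam_smul k (m j)
  rw [hm]
  have := (ιMulti (LaurentPolynomial k) (i + 2) (M := Ω[LaurentPolynomial k⁄k])).toMultilinearMap.map_smul_univ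
    (fun j => lam k (m j)) (fun _ => eta k)
  rw [AlternatingMap.coe_multilinearMap] at this
  rw [this, AlternatingMap.map_eq_zero_of_eq _ (fun _ => eta k) (i := 0) (j := 1) rfl (by simp), smul_zero]

open exteriorPower in
lemma eq_zero_of_two_le (k : Type u) [Field k] (i : ℕ)
    (x : ↥(⋀[LaurentPolynomial k]^(i + 2) (Ω[LaurentPolynomial k⁄k]))) : x = 0 := by
  have hx : x ∈ Submodule.span (LaurentPolynomial k) (Set.range (ιMulti (LaurentPolynomial k) (i + 2))) := by
    rw [ιMulti_span]; trivial
  induction hx using Submodule.span_induction with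
  | mem y hy => obtain ⟨m, rfl⟩ := hy; exact ιMulti_eq_zero k i m
  | zero => rfl
  | add _ _ _ _ hx hy => rw [hx, hy, add_zero]
  | smul a _ _ hx => rw [hx, smul_zero]

open exteriorPower in
/-- The residue functional on 1-forms. -/
noncomputable def res (k : Type u) [Field k] :
    ↥(⋀[LaurentPolynomial k]^1 (Ω[LaurentPolynomial k⁄k])) →ₗ[k] k :=
  (Finsupp.lapply (0 : ℤ)) ∘ₗ (AddMonoidAlgebra.coeffLinearEquiv k).toLinearMap ∘ₗ
    ((lam k).restrictScalars k) ∘ₗ
      ((exteriorPower.oneEquiv (LaurentPolynomial k) (Ω[LaurentPolynomial k⁄k])).toLinearMap.restrictScalars k)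

open exteriorPower in
lemma res_apply (k : Type u) [Field k] (x : ↥(⋀[LaurentPolynomial k]^1 (Ω[LaurentPolynomial k⁄k]))) :
    res k x = (lam k (exteriorPower.oneEquiv (LaurentPolynomial k) (Ω[LaurentPolynomial k⁄k]) x)).coeff 0 := rfl

open exteriorPower in
lemma oneEquiv_d0 (k : Type u) [Field k]
    (d : ∀ p : ℕ, ↥(⋀[LaurentPolynomial k]^p (Ω[LaurentPolynomial k⁄k])) →ₗ[k] ↥(⋀[LaurentPolynomial k]^(p + 1) (Ω[LaurentPolynomial k⁄k])))
    (hd : DeRham.IsDiff (KaehlerDifferential.D k (LaurentPolynomial k)) d)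
    (y : ↥(⋀[LaurentPolynomial k]^0 (Ω[LaurentPolynomial k⁄k]))) :
    exteriorPower.oneEquiv (LaurentPolynomial k) (Ω[LaurentPolynomial k⁄k]) (d 0 y) =
      KaehlerDifferential.D k (LaurentPolynomial k)
        (exteriorPower.zeroEquiv (LaurentPolynomial k) (Ω[LaurentPolynomial k⁄k]) y) := by
  set b₀ := exteriorPower.zeroEquiv (LaurentPolynomial k) (Ω[LaurentPolynomial k⁄k]) y with hb₀
  have hy : y = DeRham.gen (KaehlerDifferential.D k (LaurentPolynomial k)) 0 b₀ Fin.elim0 := by
    apply (exteriorPower.zeroEquiv (LaurentPolynomial k) (Ω[LaurentPolynomial k⁄k])).injective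
    unfold DeRham.gen
    rw [map_smul, zeroEquiv_ιMulti, smul_eq_mul, mul_one]
  rw [hy, hd.1 0 b₀ Fin.elim0, oneEquiv_ιMulti, Fin.cons_zero]

open exteriorPower in
lemma d0_gen (k : Type u) [Field k]
    (d : ∀ p : ℕ, ↥(⋀[LaurentPolynomial k]^p (Ω[LaurentPolynomial k⁄k])) →ₗ[k] ↥(⋀[LaurentPolynomial k]^(p + 1) (Ω[LaurentPolynomial k⁄k])))
    (hd : DeRham.IsDiff (KaehlerDifferential.D k (LaurentPolynomial k)) d) (f : LaurentPolynomial k) :
    exteriorPower.oneEquiv (LaurentPolynomial k) (Ω[LaurentPolynomial k⁄k])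
      (d 0 (DeRham.gen (KaehlerDifferential.D k (LaurentPolynomial k)) 0 f Fin.elim0)) =
      KaehlerDifferential.D k (LaurentPolynomial k) f := by
  rw [hd.1 0 f Fin.elim0, oneEquiv_ιMulti, Fin.cons_zero]

open exteriorPower in
lemma oneEquiv_omega0 (k : Type u) [Field k] :
    exteriorPower.oneEquiv (LaurentPolynomial k) (Ω[LaurentPolynomial k⁄k])
      (DeRham.gen (KaehlerDifferential.D k (LaurentPolynomial k)) 1
        (LaurentPolynomial.T (-1)) (fun _ => LaurentPolynomial.T 1)) = eta k := by
  unfold DeRham.gen eta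
  rw [map_smul, oneEquiv_ιMulti]


open exteriorPower in
/-- Let k be a field of characteristic zero, G_m = Spec k[t, t⁻¹], and d the de Rham differential of
k[t, t⁻¹] over k. Then: every 1-form is closed; the exact 1-forms and the k-line spanned by t⁻¹ dt
are complementary subspaces of the 1-forms, and t⁻¹ dt is not exact — so H^1_dR(G_m/k) is
one-dimensional, generated by the class of dt/t (the isomorphism with k being the residue); and for
every i ≥ 2 the closed i-forms are exact, so H^i_dR(G_m/k) = 0 for i > 1. (Characteristic zero is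
used in the computation of the exact forms.) -/
theorem result (k : Type u) [Field k] [CharZero k]
    (d : ∀ p : ℕ, ↥(⋀[LaurentPolynomial k]^p (Ω[LaurentPolynomial k⁄k])) →ₗ[k] ↥(⋀[LaurentPolynomial k]^(p + 1) (Ω[LaurentPolynomial k⁄k])))
    (hd : DeRham.IsDiff (KaehlerDifferential.D k (LaurentPolynomial k)) d) :
    DeRham.cocycles d 1 = ⊤ ∧
    IsCompl (DeRham.coboundaries d 1)
      (Submodule.span k {DeRham.gen (KaehlerDifferential.D k (LaurentPolynomial k)) 1
        (LaurentPolynomial.T (-1)) (fun _ => LaurentPolynomial.T 1)}) ∧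
    DeRham.gen (KaehlerDifferential.D k (LaurentPolynomial k)) 1
        (LaurentPolynomial.T (-1)) (fun _ => LaurentPolynomial.T 1) ∉ DeRham.coboundaries d 1 ∧
    ∀ i : ℕ, DeRham.cocycles d (i + 2) ≤ DeRham.coboundaries d (i + 2) := by
  have hres0 : ∀ x ∈ DeRham.coboundaries d 1, res k x = 0 := by
    rintro x ⟨y, rfl⟩
    rw [res_apply, oneEquiv_d0 k d hd, lam_D, theta_coeff]
    simp
  have hres1 : res k (DeRham.gen (KaehlerDifferential.D k (LaurentPolynomial k)) 1
        (LaurentPolynomial.T (-1)) (fun _ => LaurentPolynomial.T 1)) = 1 := by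
    rw [res_apply, oneEquiv_omega0, lam_eta]
    simp [AddMonoidAlgebra.one_def, -LaurentPolynomial.single_eq_C_mul_T]
  refine ⟨?_, ⟨?_, ?_⟩, ?_, ?_⟩
  · rw [eq_top_iff]
    intro x _
    show d 1 x = 0
    exact eq_zero_of_two_le k 0 _
  · rw [Submodule.disjoint_def]
    intro x hx1 hx2
    obtain ⟨c, rfl⟩ := Submodule.mem_span_singleton.1 hx2
    have := hres0 _ hx1
    rw [map_smul, hres1, smul_eq_mul, mul_one] at this
    rw [this, zero_smul]
  · rw [codisjoint_iff, eq_top_iff]
    intro x _
    have hx : x = lam k (exteriorPower.oneEquiv (LaurentPolynomial k) (Ω[LaurentPolynomial k⁄k]) x) •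
        (DeRham.gen (KaehlerDifferential.D k (LaurentPolynomial k)) 1
          (LaurentPolynomial.T (-1)) (fun _ => LaurentPolynomial.T 1)) := by
      apply (exteriorPower.oneEquiv (LaurentPolynomial k) (Ω[LaurentPolynomial k⁄k])).injective
      rw [map_smul, oneEquiv_omega0]
      exact eq_lam_smul k _
    rw [hx]
    generalize lam k (exteriorPower.oneEquiv (LaurentPolynomial k) (Ω[LaurentPolynomial k⁄k]) x) = g
    induction g using LaurentPolynomial.induction_on' with
    | add p q hp hq => rw [add_smul]; exact Submodule.add_mem _ hp hq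
    | C_mul_T n a =>
      by_cases hn : n = 0
      · subst hn
        apply Submodule.mem_sup_right
        rw [LaurentPolynomial.T_zero, mul_one, LaurentPolynomial.C_eq_algebraMap, algebraMap_smul]
        exact Submodule.smul_mem _ _ (Submodule.mem_span_singleton_self _)
      · apply Submodule.mem_sup_left
        refine ⟨DeRham.gen (KaehlerDifferential.D k (LaurentPolynomial k)) 0
          (LaurentPolynomial.C (a / n) * LaurentPolynomial.T n) Fin.elim0, ?_⟩
        apply (exteriorPower.oneEquiv (LaurentPolynomial k) (Ω[LaurentPolynomial k⁄k])).injective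
        rw [d0_gen k d hd, map_smul, oneEquiv_omega0, D_eq, theta_C_mul_T]
        have hn' : (n : k) ≠ 0 := by exact_mod_cast hn
        congr 3
        field_simp
  · intro h
    have := hres0 _ h
    rw [hres1] at this
    exact one_ne_zero this
  · intro i x _
    rw [eq_zero_of_two_le k i x]
    exact Submodule.zero_mem _

end Groth.Agent.S19633
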