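import Groth.Statements.S19634
import Mathlib.Algebra.MvPolynomial.Division
import Mathlib.Algebra.Polynomial.Derivation
import Mathlib.Algebra.Polynomial.AlgebraMap

set_option autoImplicit false
universe u
open DeRham

namespace Groth.Agent.S19634

open MvPolynomial in
/-- Projection to the first branch: `Y ↦ 0`. -/
noncomputable def br1 (k : Type u) [Field k] : MvPolynomial (Fin 2) k →ₐ[k] Polynomial k :=
  MvPolynomial.aeval ![Polynomial.X, 0]

/-- Projection to the second branch: `X ↦ 0`. -/
noncomputable def br2 (k : Type u) [Field k] : MvPolynomial (Fin 2) k →ₐ[k] Polynomial k :=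
  MvPolynomial.aeval ![0, Polynomial.X]

open MvPolynomial in
lemma X1_dvd_sub (k : Type u) [Field k] (q : MvPolynomial (Fin 2) k) :
    (X 1 : MvPolynomial (Fin 2) k) ∣ q - Polynomial.aeval (X 0 : MvPolynomial (Fin 2) k) (br1 k q) := by
  have h : (Ideal.Quotient.mkₐ k (Ideal.span {(X 1 : MvPolynomial (Fin 2) k)})) =
      ((Ideal.Quotient.mkₐ k (Ideal.span {(X 1 : MvPolynomial (Fin 2) k)})).comp
        (Polynomial.aeval (X 0 : MvPolynomial (Fin 2) k))).comp (br1 k) := by
    apply MvPolynomial.algHom_ext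
    intro i
    fin_cases i
    · simp [br1]
    · simp [br1, Ideal.Quotient.eq_zero_iff_mem, Ideal.mem_span_singleton]
  have := DFunLike.congr_fun h q
  simp only [AlgHom.comp_apply, Ideal.Quotient.mkₐ_eq_mk] at this
  rw [Ideal.Quotient.eq, Ideal.mem_span_singleton] at this
  exact this

open MvPolynomial in
lemma X0_dvd_sub (k : Type u) [Field k] (q : MvPolynomial (Fin 2) k) :
    (X 0 : MvPolynomial (Fin 2) k) ∣ q - Polynomial.aeval (X 1 : MvPolynomial (Fin 2) k) (br2 k q) := by
  have h : (Ideal.Quotient.mkₐ k (Ideal.span {(X 0 : MvPolynomial (Fin 2) k)})) =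
      ((Ideal.Quotient.mkₐ k (Ideal.span {(X 0 : MvPolynomial (Fin 2) k)})).comp
        (Polynomial.aeval (X 1 : MvPolynomial (Fin 2) k))).comp (br2 k) := by
    apply MvPolynomial.algHom_ext
    intro i
    fin_cases i
    · simp [br2, Ideal.Quotient.eq_zero_iff_mem, Ideal.mem_span_singleton]
    · simp [br2]
  have := DFunLike.congr_fun h q
  simp only [AlgHom.comp_apply, Ideal.Quotient.mkₐ_eq_mk] at this
  rw [Ideal.Quotient.eq, Ideal.mem_span_singleton] at this
  exact this

open MvPolynomial in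
/-- If both branch restrictions of `q` are constants then `q` is congruent to a constant mod `XY`. -/
lemma const_of_branches (k : Type u) [Field k] (q : MvPolynomial (Fin 2) k) (c₁ c₂ : k)
    (h₁ : br1 k q = Polynomial.C c₁) (h₂ : br2 k q = Polynomial.C c₂) :
    (X 0 * X 1 : MvPolynomial (Fin 2) k) ∣ q - C c₁ := by
  have e1 := X1_dvd_sub k q
  have e2 := X0_dvd_sub k q
  rw [h₁, Polynomial.aeval_C] at e1
  rw [h₂, Polynomial.aeval_C] at e2
  have hc : c₁ = c₂ := by
    obtain ⟨r₁, hr₁⟩ := e1
    obtain ⟨r₂, hr₂⟩ := e2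
    have a1 := congrArg constantCoeff hr₁
    have a2 := congrArg constantCoeff hr₂
    simp [MvPolynomial.algebraMap_eq] at a1 a2
    rw [sub_eq_zero] at a1 a2
    rw [← a1, ← a2]
  subst hc
  rw [MvPolynomial.algebraMap_eq] at e1 e2
  obtain ⟨r, hr⟩ := e1
  rw [hr] at e2 ⊢
  rcases (MvPolynomial.X_dvd_mul_iff).1 e2 with h | h
  · rw [MvPolynomial.X_dvd_X] at h
    exact absurd h (by decide)
  · obtain ⟨s, rfl⟩ := h
    exact ⟨s, by ring⟩


open MvPolynomial in
/-- A `k`-algebra map `φ : A → k[X]` sends closed elements to constants (char. zero). -/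
lemma const_of_D_eq_zero (k : Type u) [Field k] [CharZero k] {A : Type u} [CommRing A] [Algebra k A]
    (φ : A →ₐ[k] Polynomial k) (a : A) (h : KaehlerDifferential.D k A a = 0) :
    ∃ c : k, φ a = Polynomial.C c := by
  let _ : Algebra A (Polynomial k) := φ.toRingHom.toAlgebra
  have : IsScalarTower k A (Polynomial k) :=
    IsScalarTower.of_algebraMap_eq (fun x => (φ.commutes x).symm)
  have h1 := congrArg (KaehlerDifferential.map k k A (Polynomial k)) h
  rw [KaehlerDifferential.map_D, map_zero] at h1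
  have h2 := congrArg (Derivation.liftKaehlerDifferential (Polynomial.derivative' (R := k))) h1
  rw [Derivation.liftKaehlerDifferential_comp_D, map_zero] at h2
  have h3 : Polynomial.derivative (φ a) = 0 := h2
  exact ⟨_, Polynomial.eq_C_of_natDegree_eq_zero (Polynomial.derivative_eq_zero.1 h3)⟩


/-- Let k be a field of characteristic zero and A = k[X, Y]/(XY), the coordinate ring of two affine
lines crossing in a point. In the naive de Rham complex A → Ω¹_{A/k} the kernel of d consists of the
constants: dP = 0 if and only if P is in the image of k. -/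
theorem result (k : Type u) [Field k] [CharZero k]
    (P : MvPolynomial (Fin 2) k ⧸ Ideal.span {(MvPolynomial.X 0 * MvPolynomial.X 1 : MvPolynomial (Fin 2) k)}) :
    KaehlerDifferential.D k (MvPolynomial (Fin 2) k ⧸ Ideal.span {(MvPolynomial.X 0 * MvPolynomial.X 1 : MvPolynomial (Fin 2) k)}) P = 0 ↔
      P ∈ Set.range (algebraMap k (MvPolynomial (Fin 2) k ⧸ Ideal.span {(MvPolynomial.X 0 * MvPolynomial.X 1 : MvPolynomial (Fin 2) k)})) := by
  constructor
  · intro h
    obtain ⟨p, rfl⟩ := Ideal.Quotient.mk_surjective P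
    have hk1 : ∀ a ∈ Ideal.span {(MvPolynomial.X 0 * MvPolynomial.X 1 : MvPolynomial (Fin 2) k)},
        br1 k a = 0 := by
      intro a ha
      obtain ⟨b, rfl⟩ := Ideal.mem_span_singleton.1 ha
      simp [br1]
    have hk2 : ∀ a ∈ Ideal.span {(MvPolynomial.X 0 * MvPolynomial.X 1 : MvPolynomial (Fin 2) k)},
        br2 k a = 0 := by
      intro a ha
      obtain ⟨b, rfl⟩ := Ideal.mem_span_singleton.1 ha
      simp [br2]
    obtain ⟨c₁, hc₁⟩ := const_of_D_eq_zero k (Ideal.Quotient.liftₐ _ (br1 k) hk1) _ h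
    obtain ⟨c₂, hc₂⟩ := const_of_D_eq_zero k (Ideal.Quotient.liftₐ _ (br2 k) hk2) _ h
    have hc₁' : br1 k p = Polynomial.C c₁ := hc₁
    have hc₂' : br2 k p = Polynomial.C c₂ := hc₂
    have hd := const_of_branches k p c₁ c₂ hc₁' hc₂'
    refine ⟨c₁, ?_⟩
    have : (algebraMap k (MvPolynomial (Fin 2) k ⧸ Ideal.span {(MvPolynomial.X 0 * MvPolynomial.X 1 : MvPolynomial (Fin 2) k)})) c₁
        = Ideal.Quotient.mk _ (MvPolynomial.C c₁) := rfl
    rw [this]
    symm
    rw [Ideal.Quotient.eq, Ideal.mem_span_singleton]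
    exact hd
  · rintro ⟨a, rfl⟩
    exact Derivation.map_algebraMap _ a

end Groth.Agent.S19634
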