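import Groth.Statements.S19635
import Groth.Agent.S19634
import Mathlib.Algebra.MvPolynomial.Derivation

set_option autoImplicit false
universe u
open DeRham

namespace Groth.Agent.S19635

open Groth.Agent.S19634

/-- If `da = x • dy` and `φ y` is a constant then `φ a` is a constant. -/
lemma branch_const (k : Type u) [Field k] [CharZero k] {A : Type u} [CommRing A] [Algebra k A]
    (φ : A →ₐ[k] Polynomial k) (a x y : A)
    (h : KaehlerDifferential.D k A a = x • KaehlerDifferential.D k A y)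
    (c : k) (hy : φ y = Polynomial.C c) :
    ∃ c : k, φ a = Polynomial.C c := by
  let _ : Algebra A (Polynomial k) := φ.toRingHom.toAlgebra
  have : IsScalarTower k A (Polynomial k) :=
    IsScalarTower.of_algebraMap_eq (fun x => (φ.commutes x).symm)
  have h1 := congrArg (KaehlerDifferential.map k k A (Polynomial k)) h
  rw [map_smul, KaehlerDifferential.map_D, KaehlerDifferential.map_D] at h1
  have hy' : algebraMap A (Polynomial k) y = algebraMap k (Polynomial k) c := hy
  rw [hy', Derivation.map_algebraMap, smul_zero] at h1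
  have h2 := congrArg (Derivation.liftKaehlerDifferential (Polynomial.derivative' (R := k))) h1
  rw [Derivation.liftKaehlerDifferential_comp_D, map_zero] at h2
  have h3 : Polynomial.derivative (φ a) = 0 := h2
  exact ⟨_, Polynomial.eq_C_of_natDegree_eq_zero (Polynomial.derivative_eq_zero.1 h3)⟩

open MvPolynomial in
/-- The ideal `(XY, X² + Y²)`. -/
noncomputable abbrev J (k : Type u) [Field k] : Ideal (MvPolynomial (Fin 2) k) :=
  Ideal.span {(X 0 * X 1 : MvPolynomial (Fin 2) k), (X 0 * X 0 + X 1 * X 1 : MvPolynomial (Fin 2) k)}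

open MvPolynomial in
/-- The derivation `Y ∂/∂X + X ∂/∂Y` of `k[X,Y]`. -/
noncomputable def dB (k : Type u) [Field k] :
    Derivation k (MvPolynomial (Fin 2) k) (MvPolynomial (Fin 2) k) :=
  MvPolynomial.mkDerivation k ![X 1, X 0]

open MvPolynomial in
lemma dB_mem (k : Type u) [Field k] (b : MvPolynomial (Fin 2) k) (hb : b ∈ J k) :
    dB k b ∈ J k := by
  obtain ⟨u, v, rfl⟩ := Ideal.mem_span_pair.1 hb
  refine Ideal.mem_span_pair.2 ⟨dB k u + 4 * v, u + dB k v, ?_⟩
  simp only [map_add, Derivation.leibniz, dB, MvPolynomial.mkDerivation_X, smul_eq_mul]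
  simp
  ring

open MvPolynomial in
lemma X_sq_not_mem (k : Type u) [Field k] : (X 0 * X 0 : MvPolynomial (Fin 2) k) ∉ J k := by
  intro hmem
  obtain ⟨u, v, huv⟩ := Ideal.mem_span_pair.1 hmem
  have e : (Polynomial.aeval (0 : k)).comp (br1 k) = (Polynomial.aeval (0 : k)).comp (br2 k) := by
    apply MvPolynomial.algHom_ext
    intro i
    fin_cases i <;> simp [br1, br2]
  have h1 := congrArg (br1 k) huv
  have h2 := congrArg (br2 k) huv
  have x10 : br1 k (X 0) = Polynomial.X := by simp [br1]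
  have x11 : br1 k (X 1) = 0 := by simp [br1]
  have x20 : br2 k (X 0) = 0 := by simp [br2]
  have x21 : br2 k (X 1) = Polynomial.X := by simp [br2]
  simp only [map_add, map_mul, x10, x11, x20, x21, mul_zero, zero_mul, add_zero, zero_add] at h1 h2
  have e' := DFunLike.congr_fun e v
  simp only [AlgHom.comp_apply] at e'
  have hX : (Polynomial.X * Polynomial.X : Polynomial k) ≠ 0 :=
    mul_ne_zero Polynomial.X_ne_zero Polynomial.X_ne_zero
  have hb1 : br1 k v = 1 := by
    have : br1 k v * (Polynomial.X * Polynomial.X) = 1 * (Polynomial.X * Polynomial.X) := by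
      rw [one_mul]; exact h1
    exact mul_right_cancel₀ hX this
  have hb2 : br2 k v = 0 := by
    rcases mul_eq_zero.1 h2 with h | h
    · exact h
    · exact absurd h hX
  rw [hb1, hb2] at e'
  simp at e'

open MvPolynomial in
/-- The torsion differential `x dy` on the node is nonzero. -/
lemma xdy_ne_zero (k : Type u) [Field k] :
    (Ideal.Quotient.mk (Ideal.span {(X 0 * X 1 : MvPolynomial (Fin 2) k)}) (X 0)) •
      KaehlerDifferential.D k (MvPolynomial (Fin 2) k ⧸ Ideal.span {(X 0 * X 1 : MvPolynomial (Fin 2) k)})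
        (Ideal.Quotient.mk (Ideal.span {(X 0 * X 1 : MvPolynomial (Fin 2) k)}) (X 1)) ≠ 0 := by
  intro h0
  let δC : Derivation k (MvPolynomial (Fin 2) k ⧸ J k) (MvPolynomial (Fin 2) k ⧸ J k) :=
    Derivation.liftOfSurjective (f := Ideal.Quotient.mkₐ k (J k))
      (Ideal.Quotient.mkₐ_surjective k (J k)) (d := dB k) (by
        intro b hb
        rw [Ideal.Quotient.mkₐ_eq_mk, Ideal.Quotient.eq_zero_iff_mem] at hb ⊢
        exact dB_mem k b hb)
  have hk : ∀ a ∈ Ideal.span {(X 0 * X 1 : MvPolynomial (Fin 2) k)},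
      Ideal.Quotient.mkₐ k (J k) a = 0 := by
    intro a ha
    rw [Ideal.Quotient.mkₐ_eq_mk, Ideal.Quotient.eq_zero_iff_mem]
    refine (Ideal.span_mono ?_) ha
    intro z hz
    rw [Set.mem_singleton_iff] at hz
    subst hz
    exact Set.mem_insert _ _
  let φ : (MvPolynomial (Fin 2) k ⧸ Ideal.span {(X 0 * X 1 : MvPolynomial (Fin 2) k)}) →ₐ[k]
      (MvPolynomial (Fin 2) k ⧸ J k) := Ideal.Quotient.liftₐ _ (Ideal.Quotient.mkₐ k (J k)) hk
  let _ : Algebra (MvPolynomial (Fin 2) k ⧸ Ideal.span {(X 0 * X 1 : MvPolynomial (Fin 2) k)})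
      (MvPolynomial (Fin 2) k ⧸ J k) := φ.toRingHom.toAlgebra
  have : IsScalarTower k (MvPolynomial (Fin 2) k ⧸ Ideal.span {(X 0 * X 1 : MvPolynomial (Fin 2) k)})
      (MvPolynomial (Fin 2) k ⧸ J k) :=
    IsScalarTower.of_algebraMap_eq (fun x => (φ.commutes x).symm)
  have h1 := congrArg (Derivation.liftKaehlerDifferential
    (δC.compAlgebraMap (MvPolynomial (Fin 2) k ⧸ Ideal.span {(X 0 * X 1 : MvPolynomial (Fin 2) k)}))) h0
  rw [map_smul, Derivation.liftKaehlerDifferential_comp_D, map_zero] at h1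
  have h2 : (δC.compAlgebraMap (MvPolynomial (Fin 2) k ⧸ Ideal.span {(X 0 * X 1 : MvPolynomial (Fin 2) k)}))
      (Ideal.Quotient.mk (Ideal.span {(X 0 * X 1 : MvPolynomial (Fin 2) k)}) (X 1))
      = Ideal.Quotient.mk (J k) (X 0) := by
    have : (δC.compAlgebraMap (MvPolynomial (Fin 2) k ⧸ Ideal.span {(X 0 * X 1 : MvPolynomial (Fin 2) k)}))
      (Ideal.Quotient.mk (Ideal.span {(X 0 * X 1 : MvPolynomial (Fin 2) k)}) (X 1))
      = δC (Ideal.Quotient.mkₐ k (J k) (X 1)) := rfl
    rw [this, Derivation.liftOfSurjective_apply]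
    simp [dB]
  rw [h2] at h1
  have h3 : (Ideal.Quotient.mk (Ideal.span {(X 0 * X 1 : MvPolynomial (Fin 2) k)}) (X 0)) •
      (Ideal.Quotient.mk (J k) (X 0)) = Ideal.Quotient.mk (J k) (X 0 * X 0) := by
    rw [Algebra.smul_def]
    rfl
  rw [h3, Ideal.Quotient.eq_zero_iff_mem] at h1
  exact X_sq_not_mem k h1


/-- Let k be a field of characteristic zero and A = k[X, Y]/(XY), the coordinate ring of two affine
lines crossing in a point. The differential d : A → Ω¹_{A/k} of the naive de Rham complex is not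
surjective, so the naive H^1 of this singular curve does not vanish although one expects trivial
cohomology; this is the example motivating the h-topology definition. -/
theorem result (k : Type u) [Field k] [CharZero k] :
    ¬ Function.Surjective (KaehlerDifferential.D k (MvPolynomial (Fin 2) k ⧸ Ideal.span {(MvPolynomial.X 0 * MvPolynomial.X 1 : MvPolynomial (Fin 2) k)})) := by
  intro hsurj
  obtain ⟨P, hP⟩ := hsurj
    ((Ideal.Quotient.mk (Ideal.span {(MvPolynomial.X 0 * MvPolynomial.X 1 : MvPolynomial (Fin 2) k)}) (MvPolynomial.X 0)) •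
      KaehlerDifferential.D k (MvPolynomial (Fin 2) k ⧸ Ideal.span {(MvPolynomial.X 0 * MvPolynomial.X 1 : MvPolynomial (Fin 2) k)})
        (Ideal.Quotient.mk (Ideal.span {(MvPolynomial.X 0 * MvPolynomial.X 1 : MvPolynomial (Fin 2) k)}) (MvPolynomial.X 1)))
  apply xdy_ne_zero k
  rw [← hP]
  have hk1 : ∀ a ∈ Ideal.span {(MvPolynomial.X 0 * MvPolynomial.X 1 : MvPolynomial (Fin 2) k)},
      br1 k a = 0 := by
    intro a ha
    obtain ⟨b, rfl⟩ := Ideal.mem_span_singleton.1 ha
    simp [br1]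
  have hk2 : ∀ a ∈ Ideal.span {(MvPolynomial.X 0 * MvPolynomial.X 1 : MvPolynomial (Fin 2) k)},
      br2 k a = 0 := by
    intro a ha
    obtain ⟨b, rfl⟩ := Ideal.mem_span_singleton.1 ha
    simp [br2]
  -- the relation x dy = - y dx
  have hxy : (Ideal.Quotient.mk (Ideal.span {(MvPolynomial.X 0 * MvPolynomial.X 1 : MvPolynomial (Fin 2) k)}) (MvPolynomial.X 0)) *
      (Ideal.Quotient.mk (Ideal.span {(MvPolynomial.X 0 * MvPolynomial.X 1 : MvPolynomial (Fin 2) k)}) (MvPolynomial.X 1)) = 0 := by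
    rw [← map_mul, Ideal.Quotient.eq_zero_iff_mem]
    exact Ideal.subset_span rfl
  have hrel := congrArg (KaehlerDifferential.D k (MvPolynomial (Fin 2) k ⧸ Ideal.span {(MvPolynomial.X 0 * MvPolynomial.X 1 : MvPolynomial (Fin 2) k)})) hxy
  rw [Derivation.leibniz, map_zero] at hrel
  have hP' : KaehlerDifferential.D k (MvPolynomial (Fin 2) k ⧸ Ideal.span {(MvPolynomial.X 0 * MvPolynomial.X 1 : MvPolynomial (Fin 2) k)}) P =
      (-(Ideal.Quotient.mk (Ideal.span {(MvPolynomial.X 0 * MvPolynomial.X 1 : MvPolynomial (Fin 2) k)}) (MvPolynomial.X 1))) •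
      KaehlerDifferential.D k (MvPolynomial (Fin 2) k ⧸ Ideal.span {(MvPolynomial.X 0 * MvPolynomial.X 1 : MvPolynomial (Fin 2) k)})
        (Ideal.Quotient.mk (Ideal.span {(MvPolynomial.X 0 * MvPolynomial.X 1 : MvPolynomial (Fin 2) k)}) (MvPolynomial.X 0)) := by
    rw [hP, eq_neg_of_add_eq_zero_left hrel]
    exact (neg_smul _ _).symm
  obtain ⟨c₁, hc₁⟩ := branch_const k (Ideal.Quotient.liftₐ _ (br1 k) hk1) P _ _ hP 0
    (by
      show br1 k (MvPolynomial.X 1) = Polynomial.C 0
      simp [br1])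
  obtain ⟨c₂, hc₂⟩ := branch_const k (Ideal.Quotient.liftₐ _ (br2 k) hk2) P _ _ hP' 0
    (by
      show br2 k (MvPolynomial.X 0) = Polynomial.C 0
      simp [br2])
  obtain ⟨p, rfl⟩ := Ideal.Quotient.mk_surjective P
  have hc₁' : br1 k p = Polynomial.C c₁ := hc₁
  have hc₂' : br2 k p = Polynomial.C c₂ := hc₂
  have hd := const_of_branches k p c₁ c₂ hc₁' hc₂'
  have hpc : Ideal.Quotient.mk (Ideal.span {(MvPolynomial.X 0 * MvPolynomial.X 1 : MvPolynomial (Fin 2) k)}) p
      = algebraMap k _ c₁ := by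
    have : (algebraMap k (MvPolynomial (Fin 2) k ⧸ Ideal.span {(MvPolynomial.X 0 * MvPolynomial.X 1 : MvPolynomial (Fin 2) k)})) c₁
        = Ideal.Quotient.mk _ (MvPolynomial.C c₁) := rfl
    rw [this, Ideal.Quotient.eq, Ideal.mem_span_singleton]
    exact hd
  rw [hpc]
  exact Derivation.map_algebraMap _ c₁

end Groth.Agent.S19635
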