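import Groth.Statements.S1964
import Groth.Agent.Lib.Helper37.HenselPi
import Groth.Agent.Lib.Helper37.HenselFinite
import Mathlib

set_option autoImplicit false
universe u
open EtAlg

namespace Groth.Agent.S1964

open Polynomial Groth.Agent.Lib.Helper37

section Aux

/-- a domain which is a finite product of local rings is local -/
theorem isLocalRing_of_ringEquiv_pi {S : Type u} [CommRing S] [IsDomain S]
    {ι : Type u} [Fintype ι] (T : ι → Type u) [∀ i, CommRing (T i)] [∀ i, IsLocalRing (T i)]
    (e : S ≃+* (∀ i, T i)) : IsLocalRing S := by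
  classical
  -- there is exactly one index
  have hne : Nonempty ι := by
    by_contra h
    rw [not_nonempty_iff] at h
    have : (1 : S) = 0 := e.injective (Subsingleton.elim _ _)
    exact one_ne_zero this
  obtain ⟨i0⟩ := hne
  have huniq : ∀ i, i = i0 := by
    intro i
    by_contra hi
    have h1 : e.symm (Pi.single i 1) * e.symm (Pi.single i0 1) = 0 := by
      have : (Pi.single i (1 : T i) * Pi.single i0 (1 : T i0) : ∀ j, T j) = 0 := by
        funext j
        by_cases hj : j = i
        · subst hj
          simp [Pi.single_eq_of_ne hi]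
        · simp [Pi.single_eq_of_ne hj]
      rw [show e.symm (Pi.single i 1) * e.symm (Pi.single i0 1) =
        e.symm (Pi.single i 1 * Pi.single i0 1) from (map_mul _ _ _).symm, this, map_zero]
    rcases mul_eq_zero.mp h1 with h | h
    · have := congrFun ((map_eq_zero_iff _ e.symm.injective).mp h) i
      simp at this
    · have := congrFun ((map_eq_zero_iff _ e.symm.injective).mp h) i0
      simp at this
  -- so `S ≃+* T i0`
  let p : (∀ i, T i) →+* T i0 := Pi.evalRingHom T i0
  have hp : Function.Bijective p := by
    constructor
    · intro x y hxy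
      funext i
      rw [huniq i]
      exact hxy
    · intro t
      exact ⟨fun i => (huniq i) ▸ t, rfl⟩
  let e' : S ≃+* T i0 := e.trans (RingEquiv.ofBijective p hp)
  exact e'.symm.isLocalRing

/-- the structure map of a nontrivial integral algebra over a local ring is local -/
theorem isLocalHom_of_isIntegral (R C : Type*) [CommRing R] [IsLocalRing R] [CommRing C]
    [Nontrivial C] [Algebra R C] [Algebra.IsIntegral R C] : IsLocalHom (algebraMap R C) := by
  constructor
  intro a ha
  set f := algebraMap R C with hf
  have hint : f.IsIntegral := algebraMap_isIntegral_iff.mpr inferInstance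
  have h1 : IsLocalHom f.kerLift := hint.kerLift.isLocalHom f.kerLift_injective
  have h2 : IsUnit (Ideal.Quotient.mk (RingHom.ker f) a) := by
    apply h1.map_nonunit
    rw [RingHom.kerLift_mk]
    exact ha
  by_contra hna
  have hmem : a ∈ IsLocalRing.maximalIdeal R := (IsLocalRing.mem_maximalIdeal a).mpr hna
  have hker : RingHom.ker f ≤ IsLocalRing.maximalIdeal R :=
    IsLocalRing.le_maximalIdeal (RingHom.ker_ne_top f)
  obtain ⟨y, hy⟩ := h2.exists_right_inv
  obtain ⟨b, rfl⟩ := Ideal.Quotient.mk_surjective y
  rw [← map_mul, ← map_one (Ideal.Quotient.mk (RingHom.ker f)), Ideal.Quotient.eq] at hy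
  have h3 : a * b - 1 ∈ IsLocalRing.maximalIdeal R := hker hy
  have h4 : a * b ∈ IsLocalRing.maximalIdeal R := Ideal.mul_mem_right _ _ hmem
  have h5 : (1 : R) ∈ IsLocalRing.maximalIdeal R := by
    have := Ideal.sub_mem _ h4 h3
    simpa using this
  exact (Ideal.ne_top_iff_one _).mp (IsLocalRing.maximalIdeal.isMaximal R).ne_top h5

section Main

variable (A B : Type u) [CommRing A] [HenselianLocalRing A] [CommRing B]
    [IsDomain B] [Algebra A B] [Algebra.IsIntegral A B]

theorem finite_adjoin (s : Finset B) : Module.Finite A (Algebra.adjoin A (s : Set B)) :=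
  Algebra.finite_adjoin_of_finite_of_isIntegral s.finite_toSet
    (fun x _ => Algebra.IsIntegral.isIntegral x)

theorem isLocalRing_adjoin (s : Finset B) : IsLocalRing (Algebra.adjoin A (s : Set B)) := by
  have hfin := finite_adjoin A B s
  obtain ⟨ι, _, T, _, hT, ⟨e⟩⟩ := exists_pi_isLocalRing_of_finite A (Algebra.adjoin A (s : Set B))
  exact isLocalRing_of_ringEquiv_pi T e

theorem henselian_adjoin (s : Finset B) : HenselianLocalRing (Algebra.adjoin A (s : Set B)) := by
  have hfin := finite_adjoin A B s
  have hloc := isLocalRing_adjoin A B s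
  exact henselianLocalRing_of_finite A (Algebra.adjoin A (s : Set B))

theorem isLocalHom_adjoin (s : Finset B) :
    IsLocalHom (algebraMap (Algebra.adjoin A (s : Set B)) B) := by
  have hloc := isLocalRing_adjoin A B s
  have : Algebra.IsIntegral (Algebra.adjoin A (s : Set B)) B :=
    Algebra.IsIntegral.tower_top (R := A)
  exact isLocalHom_of_isIntegral _ _

include A in
theorem isLocalRing_B : IsLocalRing B := by
  classical
  refine IsLocalRing.of_nonunits_add ?_
  intro a b ha hb hab
  obtain ⟨z, hz⟩ := (hab : IsUnit (a + b)).exists_right_inv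
  set s : Finset B := {a, b, z} with hs
  set S := Algebra.adjoin A (s : Set B) with hS
  have hloc := isLocalRing_adjoin A B s
  have hlh := isLocalHom_adjoin A B s
  have has : a ∈ S := Algebra.subset_adjoin (by simp [hs])
  have hbs : b ∈ S := Algebra.subset_adjoin (by simp [hs])
  have hzs : z ∈ S := Algebra.subset_adjoin (by simp [hs])
  have hu : IsUnit ((⟨a, has⟩ : S) + ⟨b, hbs⟩) := by
    refine IsUnit.of_mul_eq_one (⟨z, hzs⟩ : S) ?_
    apply Subtype.ext
    exact hz
  rcases IsLocalRing.isUnit_or_isUnit_of_isUnit_add hu with h | h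
  · exact ha (h.map (algebraMap S B))
  · exact hb (h.map (algebraMap S B))

include A in
theorem henselianLocalRing_B : HenselianLocalRing B := by
  classical
  have hlocB := isLocalRing_B A B
  refine { is_henselian := ?_ }
  intro f hf a₀ h₁ h₂
  obtain ⟨u, hu⟩ := h₂.exists_right_inv
  set s : Finset B := f.coeffs ∪ {a₀, u} with hs
  set S := Algebra.adjoin A (s : Set B) with hS
  have hhens := henselian_adjoin A B s
  have hlh := isLocalHom_adjoin A B s
  have ha₀ : a₀ ∈ S := Algebra.subset_adjoin (by simp [hs])
  have hus : u ∈ S := Algebra.subset_adjoin (by simp [hs])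
  have hlift : f ∈ Polynomial.lifts (algebraMap S B) := by
    rw [Polynomial.lifts_iff_coeff_lifts]
    intro n
    by_cases hn : f.coeff n = 0
    · exact ⟨0, by rw [map_zero, hn]⟩
    · have : f.coeff n ∈ S := Algebra.subset_adjoin (by
        have : f.coeff n ∈ f.coeffs := Polynomial.coeff_mem_coeffs hn
        simp [hs, this])
      exact ⟨⟨_, this⟩, rfl⟩
  obtain ⟨g, hgf, -, hg⟩ := Polynomial.lifts_and_degree_eq_and_monic hlift hf
  have hinj : Function.Injective (algebraMap S B) := Subtype.val_injective
  have heval : ∀ x : S, algebraMap S B (g.eval x) = f.eval (x : B) := by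
    intro x
    rw [← hgf, Polynomial.eval_map]
    exact (Polynomial.eval₂_hom (algebraMap S B) x).symm
  have hderiv : ∀ x : S, algebraMap S B (g.derivative.eval x) = f.derivative.eval (x : B) := by
    intro x
    rw [← hgf, Polynomial.derivative_map, Polynomial.eval_map]
    exact (Polynomial.eval₂_hom (algebraMap S B) x).symm
  have hg₁ : g.eval (⟨a₀, ha₀⟩ : S) ∈ IsLocalRing.maximalIdeal S := by
    rw [IsLocalRing.mem_maximalIdeal]
    intro hunit
    have := hunit.map (algebraMap S B)
    rw [heval] at this
    exact (IsLocalRing.mem_maximalIdeal _).mp h₁ this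
  have hg₂ : IsUnit (g.derivative.eval (⟨a₀, ha₀⟩ : S)) := by
    apply hlh.map_nonunit
    rw [hderiv]
    exact h₂
  obtain ⟨a, har, ham⟩ := HenselianLocalRing.is_henselian g hg _ hg₁ hg₂
  refine ⟨(a : B), ?_, ?_⟩
  · rw [Polynomial.IsRoot.def, ← heval a, har, map_zero]
  · rw [IsLocalRing.mem_maximalIdeal]
    intro hunit
    have h3 : IsUnit (a - ⟨a₀, ha₀⟩ : S) := hlh.map_nonunit _ hunit
    exact (IsLocalRing.mem_maximalIdeal _).mp ham h3

end Main

theorem isAlgebraic_residue (A B : Type u) [CommRing A] [IsLocalRing A] [CommRing B]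
    [IsLocalRing B] [Algebra A B] [Algebra.IsIntegral A B] [IsLocalHom (algebraMap A B)] :
    letI := (IsLocalRing.ResidueField.map (algebraMap A B)).toAlgebra
    Algebra.IsAlgebraic (IsLocalRing.ResidueField A) (IsLocalRing.ResidueField B) := by
  letI := (IsLocalRing.ResidueField.map (algebraMap A B)).toAlgebra
  have : Algebra.IsIntegral (IsLocalRing.ResidueField A) (IsLocalRing.ResidueField B) := by
    constructor
    intro x
    obtain ⟨b, rfl⟩ := IsLocalRing.residue_surjective x
    exact IsIntegral.map_of_comp_eq (IsLocalRing.residue A) (IsLocalRing.residue B) (by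
      rw [RingHom.algebraMap_toAlgebra, IsLocalRing.ResidueField.map_comp_residue])
      (Algebra.IsIntegral.isIntegral b)
  exact Algebra.IsIntegral.isAlgebraic

end Aux

/-- A domain B integral over a henselian local ring A is itself henselian local, and the structure map A
-> B is local; if the residue field of A is separably closed, so is that of B, and the residue field
extension is purely inseparable. -/
theorem result (A B : Type u) [CommRing A] [HenselianLocalRing A] [CommRing B]
    [IsDomain B] [Algebra A B] [Algebra.IsIntegral A B] :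
    ∃ _ : HenselianLocalRing B, IsLocalHom (algebraMap A B) ∧
      (IsSepClosed (IsLocalRing.ResidueField A) →
        IsSepClosed (IsLocalRing.ResidueField B) ∧
        ∀ _ : IsLocalHom (algebraMap A B),
          letI := (IsLocalRing.ResidueField.map (algebraMap A B)).toAlgebra
          IsPurelyInseparable (IsLocalRing.ResidueField A) (IsLocalRing.ResidueField B)) := by
  have hB := henselianLocalRing_B A B
  refine ⟨hB, isLocalHom_of_isIntegral A B, ?_⟩
  intro hsc
  have hlh : IsLocalHom (algebraMap A B) := isLocalHom_of_isIntegral A B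
  refine ⟨?_, ?_⟩
  · letI := (IsLocalRing.ResidueField.map (algebraMap A B)).toAlgebra
    have halg := isAlgebraic_residue A B
    exact Algebra.IsAlgebraic.isSepClosed (F := IsLocalRing.ResidueField A)
  · intro h'
    letI := (IsLocalRing.ResidueField.map (algebraMap A B)).toAlgebra
    have halg := isAlgebraic_residue A B
    exact Algebra.IsAlgebraic.isPurelyInseparable_of_isSepClosed

end Groth.Agent.S1964
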