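import Groth.Statements.S1965
import Mathlib.RingTheory.Henselian
import Mathlib.Algebra.Polynomial.Identities
import Mathlib.RingTheory.KrullDimension.Basic
import Mathlib.RingTheory.Finiteness.Ideal
-- import your own Groth.Agent.* helpers here

set_option autoImplicit false
universe u
open Polynomial
open EtAlg

namespace Groth.Agent.S1965

section Aux

open scoped Ring

/-- Newton's method in an adically complete ring, for arbitrary (not necessarily monic)
polynomials.  This is the argument of `IsAdicComplete.henselianRing` in Mathlib, where monicity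
is never used. -/
theorem newton_root {R : Type*} [CommRing R] (I : Ideal R) [IsAdicComplete I R]
    (f : R[X]) (a₀ : R) (h₁ : f.eval a₀ ∈ I)
    (h₂ : IsUnit (Ideal.Quotient.mk I (f.derivative.eval a₀))) :
    ∃ a : R, f.IsRoot a ∧ a - a₀ ∈ I := by
  classical
  let f' := derivative f
  let c : ℕ → R := fun n => Nat.recOn n a₀ fun _ b => b - f.eval b * (f'.eval b)⁻¹ʳ
  have hc : ∀ n, c (n + 1) = c n - f.eval (c n) * (f'.eval (c n))⁻¹ʳ := by
    intro n
    simp only [c]
  have hc_mod : ∀ n, c n ≡ a₀ [SMOD I] := by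
    intro n
    induction n with
    | zero => rfl
    | succ n ih => ?_
    rw [hc, sub_eq_add_neg, ← add_zero a₀]
    refine ih.add ?_
    rw [SModEq.zero, Ideal.neg_mem_iff]
    refine I.mul_mem_right _ ?_
    rw [← SModEq.zero] at h₁ ⊢
    exact (ih.eval f).trans h₁
  have hf'c : ∀ n, IsUnit (f'.eval (c n)) := by
    intro n
    have := isLocalHom_of_le_jacobson_bot I (IsAdicComplete.le_jacobson_bot I)
    apply IsUnit.of_map (Ideal.Quotient.mk I)
    convert! h₂ using 1
    exact SModEq.def.mp ((hc_mod n).eval _)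
  have hfcI : ∀ n, f.eval (c n) ∈ I ^ (n + 1) := by
    intro n
    induction n with
    | zero => simpa only [Nat.rec_zero, zero_add, pow_one] using! h₁
    | succ n ih => ?_
    rw [← taylor_eval_sub (c n), hc, sub_eq_add_neg, sub_eq_add_neg,
      add_neg_cancel_comm]
    rw [eval_eq_sum, sum_over_range' _ _ _ (lt_add_of_pos_right _ zero_lt_two), ←
      Finset.sum_range_add_sum_Ico _ (Nat.le_add_left _ _)]
    swap
    · intro i
      rw [zero_mul]
    refine Ideal.add_mem _ ?_ ?_
    · rw [← one_add_one_eq_two, Finset.sum_range_succ, Finset.range_one, Finset.sum_singleton,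
        taylor_coeff_zero, taylor_coeff_one, pow_zero, pow_one, mul_one, mul_neg,
        mul_left_comm, Ring.mul_inverse_cancel _ (hf'c n), mul_one, add_neg_cancel]
      exact Ideal.zero_mem _
    · refine Submodule.sum_mem _ ?_
      simp only [Finset.mem_Ico]
      rintro i ⟨h2i, _⟩
      have aux : n + 2 ≤ i * (n + 1) := by trans 2 * (n + 1) <;> nlinarith only [h2i]
      refine Ideal.mul_mem_left _ _ (Ideal.pow_le_pow_right aux ?_)
      rw [pow_mul']
      exact Ideal.pow_mem_pow ((Ideal.neg_mem_iff _).2 <| Ideal.mul_mem_right _ _ ih) _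
  have aux : ∀ m n, m ≤ n → c m ≡ c n [SMOD (I ^ m • ⊤ : Ideal R)] := by
    intro m n hmn
    rw [← Ideal.one_eq_top, Ideal.smul_eq_mul, mul_one]
    obtain ⟨k, rfl⟩ := Nat.exists_eq_add_of_le hmn
    clear hmn
    induction k with
    | zero => rw [add_zero]
    | succ k ih => ?_
    rw [← add_assoc, hc, ← add_zero (c m), sub_eq_add_neg]
    refine ih.add ?_
    symm
    rw [SModEq.zero, Ideal.neg_mem_iff]
    refine Ideal.mul_mem_right _ _ (Ideal.pow_le_pow_right ?_ (hfcI _))
    rw [add_assoc]
    exact le_self_add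
  obtain ⟨a, ha⟩ := IsPrecomplete.prec' c (aux _ _)
  refine ⟨a, ?_, ?_⟩
  · show f.IsRoot a
    suffices ∀ n, f.eval a ≡ 0 [SMOD (I ^ n • ⊤ : Ideal R)] by exact IsHausdorff.haus' _ this
    intro n
    specialize ha n
    rw [← Ideal.one_eq_top, Ideal.smul_eq_mul, mul_one] at ha ⊢
    refine (ha.symm.eval f).trans ?_
    rw [SModEq.zero]
    exact Ideal.pow_le_pow_right le_self_add (hfcI _)
  · show a - a₀ ∈ I
    specialize ha (0 + 1)
    rw [hc, pow_one, ← Ideal.one_eq_top, Ideal.smul_eq_mul, mul_one, sub_eq_add_neg] at ha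
    rw [← SModEq.sub_mem, ← add_zero a₀]
    refine ha.symm.trans (SModEq.rfl.add ?_)
    rw [SModEq.zero, Ideal.neg_mem_iff]
    exact Ideal.mul_mem_right _ _ h₁

theorem eval_mem_of_coeff_mem {R : Type*} [CommRing R] (I : Ideal R) (Q : R[X])
    (h : ∀ i, Q.coeff i ∈ I) (a : R) : Q.eval a ∈ I := by
  rw [Polynomial.eval_eq_sum_range]
  exact Submodule.sum_mem _ (fun i _ => Ideal.mul_mem_right _ _ (h i))

end Aux

/-- Let A be a complete Noetherian local domain of Krull dimension 1 with maximal ideal m, P a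
polynomial over A and α a root of P which is not a root of the derivative P'. Then for every c there
is an n such that for every polynomial Q all of whose coefficients lie in m^n, the polynomial P + Q
has a root β with β - α in m^c. -/
theorem result (A : Type u) [CommRing A] [IsDomain A] [IsLocalRing A] [IsNoetherianRing A]
    [IsAdicComplete (IsLocalRing.maximalIdeal A) A] (hdim : ringKrullDim A = 1) (P : A[X]) (α : A)
    (hα : P.eval α = 0) (hα' : (derivative P).eval α ≠ 0) (c : ℕ) :
    ∃ n : ℕ, ∀ Q : A[X], (∀ i, Q.coeff i ∈ IsLocalRing.maximalIdeal A ^ n) →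
      ∃ β : A, (P + Q).eval β = 0 ∧ β - α ∈ IsLocalRing.maximalIdeal A ^ c := by
  classical
  haveI : Ring.KrullDimLE 1 A := Ring.krullDimLE_iff.mpr (by rw [hdim]; rfl)
  set m := IsLocalRing.maximalIdeal A with hm
  set d := (derivative P).eval α with hd
  obtain ⟨N, hN⟩ : ∃ N : ℕ, m ^ N ≤ Ideal.span {d} := by
    apply Ideal.exists_pow_le_of_le_radical_of_fg ?_ (IsNoetherian.noetherian _)
    rw [Ideal.radical_eq_sInf]
    apply le_sInf
    rintro p ⟨hdp, hp⟩
    have hpne : p ≠ ⊥ := by
      rintro rfl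
      have : d ∈ (⊥ : Ideal A) := hdp (Ideal.mem_span_singleton_self d)
      exact hα' (by simpa using this)
    have hpmax := hp.isMaximal_of_ne_bot hpne
    rw [IsLocalRing.eq_maximalIdeal hpmax]
  refine ⟨2 * N + max c 1 + 1, fun Q hQ => ?_⟩
  set c' := max c 1 with hc'
  have hc1 : 1 ≤ c' := le_max_right _ _
  have hcc : c ≤ c' := le_max_left _ _
  -- values of `Q` and `Q'` at `α`
  have hQα : Q.eval α ∈ m ^ (2 * N + c' + 1) := eval_mem_of_coeff_mem _ Q hQ α
  have hQ'α : (derivative Q).eval α ∈ m ^ (2 * N + c' + 1) := by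
    apply eval_mem_of_coeff_mem
    intro i
    rw [Polynomial.coeff_derivative]
    exact Ideal.mul_mem_right _ _ (hQ _)
  -- `F'(α) = d * u` with `u` a unit
  obtain ⟨μ, hμm, hμ⟩ : ∃ μ ∈ m, d * μ = (derivative Q).eval α := by
    have h1 : (derivative Q).eval α ∈ Ideal.span {d} * m := by
      have h2 : m ^ (2 * N + c' + 1) ≤ m ^ N * m := by
        rw [← pow_succ]
        exact Ideal.pow_le_pow_right (by omega)
      exact Ideal.mul_mono_left hN (h2 hQ'α)
    exact Ideal.mem_span_singleton_mul.mp h1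
  have hu : IsUnit (1 + μ) := by
    by_contra hnu
    have h1 : (1 + μ) ∈ m := (IsLocalRing.mem_maximalIdeal _).mpr hnu
    have h2 : (1 : A) ∈ m := by
      have := m.sub_mem h1 hμm
      simpa using this
    exact (IsLocalRing.maximalIdeal.isMaximal A).ne_top ((Ideal.eq_top_iff_one _).mpr h2)
  obtain ⟨u, hu'⟩ := hu
  set d' := (derivative (P + Q)).eval α with hd'
  have hd'eq : d' = d * (u : A) := by
    rw [hd', derivative_add, eval_add, ← hd, ← hμ, hu']
    ring
  -- `F(α) = d^2 * e₀`
  obtain ⟨e₀, he₀m, he₀⟩ : ∃ e₀ ∈ m ^ c', d * (d * e₀) = Q.eval α := by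
    have h1 : Q.eval α ∈ Ideal.span {d} * (Ideal.span {d} * m ^ c') := by
      have h2 : m ^ (2 * N + c' + 1) ≤ m ^ N * (m ^ N * m ^ c') := by
        rw [← pow_add, ← pow_add]
        exact Ideal.pow_le_pow_right (by omega)
      exact Ideal.mul_mono hN (Ideal.mul_mono_left hN) (h2 hQα)
    obtain ⟨y, hy, hy'⟩ := Ideal.mem_span_singleton_mul.mp h1
    obtain ⟨e₀, he₀, he₀'⟩ := Ideal.mem_span_singleton_mul.mp hy
    exact ⟨e₀, he₀, by rw [he₀', hy']⟩
  set e := e₀ * ((u⁻¹ : Aˣ) : A) ^ 2 with he
  have hem : e ∈ m ^ c' := Ideal.mul_mem_right _ _ he₀m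
  have hem1 : e ∈ m := Ideal.pow_le_self (by omega) hem
  have hFα : (P + Q).eval α = d' ^ 2 * e := by
    rw [eval_add, hα, zero_add, ← he₀, hd'eq, he]
    have : (u : A) * ((u⁻¹ : Aˣ) : A) = 1 := Units.mul_inv u
    linear_combination (-(d ^ 2 * e₀) * ((u : A) * ((u⁻¹ : Aˣ) : A) + 1)) * this
  -- the auxiliary polynomial
  obtain ⟨K, hK⟩ := Polynomial.binomExpansion ((P + Q).map (C : A →+* A[X])) (C α) (C (d' * e) * X)
  have hev : ((P + Q).map (C : A →+* A[X])).eval (C α) = C ((P + Q).eval α) := by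
    rw [Polynomial.eval_map, Polynomial.eval₂_at_apply]
  have hev' : (derivative ((P + Q).map (C : A →+* A[X]))).eval (C α) = C d' := by
    rw [Polynomial.derivative_map, Polynomial.eval_map, Polynomial.eval₂_at_apply]
  rw [hev, hev', hFα] at hK
  set k : A[X] := 1 + X + C e * (K * X ^ 2) with hk
  have hΦ : ((P + Q).map (C : A →+* A[X])).eval (C α + C (d' * e) * X) = C (d' ^ 2 * e) * k := by
    rw [hK, hk]
    simp only [map_mul, map_pow]
    ring
  -- a root of `k` near `-1`
  have hk1 : k.eval (-1) ∈ m := by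
    rw [hk]
    simp only [eval_add, eval_one, eval_X, eval_mul, eval_C, eval_pow]
    have : (1 : A) + -1 + e * (eval (-1) K * (-1) ^ 2) = e * (eval (-1) K * (-1) ^ 2) := by ring
    rw [this]
    exact Ideal.mul_mem_right _ _ hem1
  have hk2 : IsUnit (Ideal.Quotient.mk m ((derivative k).eval (-1))) := by
    have h1 : (derivative k).eval (-1) = 1 + e * (derivative (K * X ^ 2)).eval (-1) := by
      rw [hk]
      simp only [derivative_add, derivative_one, derivative_X, derivative_C_mul, eval_add,
        eval_zero, eval_one, eval_mul, eval_C, zero_add]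
    rw [h1, map_add, map_one, map_mul, Ideal.Quotient.eq_zero_iff_mem.mpr hem1, zero_mul, add_zero]
    exact isUnit_one
  obtain ⟨z, hz, -⟩ := newton_root m k (-1) hk1 hk2
  refine ⟨α + d' * e * z, ?_, ?_⟩
  · have h1 : (((P + Q).map (C : A →+* A[X])).eval (C α + C (d' * e) * X)).eval z =
        (P + Q).eval (α + d' * e * z) := by
      rw [Polynomial.eval_map]
      change ((P + Q).comp (C α + C (d' * e) * X)).eval z = _
      rw [Polynomial.eval_comp]
      simp
    rw [← h1, hΦ, eval_mul, eval_C, hz.eq_zero, mul_zero]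
  · have : α + d' * e * z - α = e * (d' * z) := by ring
    rw [this]
    exact Ideal.mul_mem_right _ _ (Ideal.pow_le_pow_right hcc hem)

end Groth.Agent.S1965
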