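import Groth.Statements.S19651
-- import your own Groth.Agent.* helpers here

set_option autoImplicit false
universe u v
open AbVar

namespace Groth.Agent.S19651

section Helpers

open Polynomial

variable {k : Type u} [Field k] {V : Type v} [AddCommGroup V] [Module k V]

theorem reverse_pow' (Q : k[X]) (n : ℕ) : (Q ^ n).reverse = Q.reverse ^ n := by
  induction n with
  | zero =>
    rw [pow_zero, pow_zero, ← C_1, reverse_C]
  | succ n ih => rw [pow_succ, pow_succ, reverse_mul_of_domain, ih]

theorem pow_adj (B : LinearMap.BilinForm k V) (M : V →ₗ[k] V)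
    (hM : ∀ x y : V, B (M x) (M y) = B x y) (i : ℕ) (x z : V) :
    B ((M ^ i) x) ((M ^ i) z) = B x z := by
  induction i generalizing x z with
  | zero => simp
  | succ i ih => rw [pow_succ, Module.End.mul_apply, Module.End.mul_apply, ih, hM]

theorem key (B : LinearMap.BilinForm k V) (M : V →ₗ[k] V)
    (hM : ∀ x y : V, B (M x) (M y) = B x y) (d : ℕ) (P : k[X]) (hP : P.natDegree ≤ d) (x z : V) :
    B (aeval M P x) ((M ^ d) z) = B x (aeval M (reflect d P) z) := by
  have hgood := Finset.sum_induction (fun i => monomial i (P.coeff i))
    (fun P : k[X] => ∀ x z : V, B (aeval M P x) ((M ^ d) z) = B x (aeval M (reflect d P) z))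
    (s := Finset.range (d + 1)) ?_ ?_ ?_
  · rw [← as_sum_range' P (d + 1) (by omega)] at hgood
    exact hgood x z
  · intro p q hp hq x z
    simp only [map_add, LinearMap.add_apply, reflect_add, hp, hq]
  · intro x z
    simp
  · intro i hi x z
    have hi' : i ≤ d := by
      have := Finset.mem_range.mp hi
      omega
    rw [← C_mul_X_pow_eq_monomial, reflect_C_mul_X_pow, revAt_le hi']
    simp only [map_mul, aeval_C, map_pow, aeval_X, Module.End.mul_apply,
      Module.algebraMap_end_apply, map_smul, LinearMap.smul_apply]
    congr 1
    have hd : M ^ d = M ^ i * M ^ (d - i) := by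
      rw [← pow_add]
      congr 1
      omega
    rw [hd, Module.End.mul_apply, pow_adj B M hM]

end Helpers


open Polynomial in
/-- Stated for an arbitrary invariant bilinear form, as the argument there allows. Let k be a field, V a
k-vector space with a bilinear form B and M a linear automorphism of V with B(Mx, My) = B(x, y) for
all x, y. If Q₁ and Q₂ are polynomials such that the reciprocal polynomial of Q₁ (its coefficient
list reversed) is coprime to Q₂, then every vector killed by a power of Q₁(M) is B-orthogonal to
every vector killed by a power of Q₂(M). With Q₁ = Q₂ = Q this says that the generalized kernel of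
Q(M) is totally isotropic whenever Q is coprime to its reciprocal polynomial, which for an
irreducible Q means that Q is not self-reciprocal. (The published statement takes M symplectic and
Q₁, Q₂ irreducible factors of the characteristic polynomial, with Q not self-reciprocal in the first
clause; its second clause asks Q₁ and Q₂ to be distinct and not reciprocal, which holds as proved
when this is read as saying that Q₂ is not the reciprocal of Q₁, but fails if it only means that
neither is self-reciprocal, as the diagonal matrix with entries 2 and 1/2 preserving the standard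
alternating form on k² shows; the coprimality of the reciprocal of Q₁ with Q₂, which is what the
published proof uses, is imposed here and covers both clauses.) -/
theorem result
    {k : Type u} [Field k] {V : Type v} [AddCommGroup V] [Module k V]
    (B : LinearMap.BilinForm k V) (M : V ≃ₗ[k] V)
    (hM : ∀ x y : V, B (M x) (M y) = B x y)
    (Q₁ Q₂ : k[X]) (h : IsCoprime Q₁.reverse Q₂)
    (x y : V)
    (hx : ∃ n : ℕ, (Polynomial.aeval (M : V →ₗ[k] V) Q₁ ^ n) x = 0)
    (hy : ∃ n : ℕ, (Polynomial.aeval (M : V →ₗ[k] V) Q₂ ^ n) y = 0) :
    B x y = 0 := by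
  obtain ⟨n, hn⟩ := hx
  obtain ⟨m, hm⟩ := hy
  set M' : V →ₗ[k] V := (M : V →ₗ[k] V) with hM'
  have hMM : ∀ x y : V, B (M' x) (M' y) = B x y := hM
  set d := (Q₁ ^ n).natDegree with hd
  -- B x (R(M)^n z) = 0 for all z, where R = reflect d (Q₁^n)
  have h1 : ∀ z : V, B x (Polynomial.aeval M' (Polynomial.reflect d (Q₁ ^ n)) z) = 0 := by
    intro z
    rw [← key B M' hMM d (Q₁ ^ n) le_rfl x z]
    rw [map_pow, hn]
    simp
  have hrev : Polynomial.reflect d (Q₁ ^ n) = Q₁.reverse ^ n := by
    rw [hd]
    change (Q₁ ^ n).reverse = _
    exact reverse_pow' Q₁ n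
  rw [hrev] at h1
  have hcop : IsCoprime (Q₁.reverse ^ n) (Q₂ ^ m) := h.pow
  obtain ⟨a, b, hab⟩ := hcop
  have hy' : y = Polynomial.aeval M' (Q₁.reverse ^ n) (Polynomial.aeval M' a y) := by
    have h2 := congrArg (fun P => Polynomial.aeval M' P y) hab
    simp only [map_add, map_mul, LinearMap.add_apply, Module.End.mul_apply, map_one,
      Module.End.one_apply] at h2
    rw [map_pow _ Q₂, hm, map_zero, add_zero] at h2
    calc y = (Polynomial.aeval M' a * Polynomial.aeval M' (Q₁.reverse ^ n)) y := h2.symm
      _ = Polynomial.aeval M' (a * Q₁.reverse ^ n) y := by rw [map_mul]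
      _ = Polynomial.aeval M' (Q₁.reverse ^ n * a) y := by rw [mul_comm]
      _ = (Polynomial.aeval M' (Q₁.reverse ^ n) * Polynomial.aeval M' a) y := by rw [map_mul]
      _ = _ := rfl
  rw [hy']
  exact h1 _

end Groth.Agent.S19651
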