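import Groth.Statements.S19652
import Mathlib.RingTheory.Artinian.Module
-- import your own Groth.Agent.* helpers here

set_option autoImplicit false
universe u v
open AbVar

namespace Groth.Agent.S19652

section Helpers

open Polynomial

variable {k : Type u} [Field k] {V : Type v} [AddCommGroup V] [Module k V]

theorem reverse_pow' (Q : k[X]) (n : ℕ) : (Q ^ n).reverse = Q.reverse ^ n := by
  induction n with
  | zero =>
    rw [pow_zero, pow_zero, ← C_1, reverse_C]
  | succ n ih => rw [pow_succ, pow_succ, reverse_mul_of_domain, ih]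

theorem pow_adj (B : LinearMap.BilinForm k V) (M : V →ₗ[k] V)
    (hM : ∀ x y : V, B (M x) (M y) = B x y) (i : ℕ) (x z : V) :
    B ((M ^ i) x) ((M ^ i) z) = B x z := by
  induction i generalizing x z with
  | zero => simp
  | succ i ih => rw [pow_succ, Module.End.mul_apply, Module.End.mul_apply, ih, hM]

theorem key (B : LinearMap.BilinForm k V) (M : V →ₗ[k] V)
    (hM : ∀ x y : V, B (M x) (M y) = B x y) (d : ℕ) (P : k[X]) (hP : P.natDegree ≤ d) (x z : V) :
    B (aeval M P x) ((M ^ d) z) = B x (aeval M (reflect d P) z) := by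
  have hgood := Finset.sum_induction (fun i => monomial i (P.coeff i))
    (fun P : k[X] => ∀ x z : V, B (aeval M P x) ((M ^ d) z) = B x (aeval M (reflect d P) z))
    (s := Finset.range (d + 1)) ?_ ?_ ?_
  · rw [← as_sum_range' P (d + 1) (by omega)] at hgood
    exact hgood x z
  · intro p q hp hq x z
    simp only [map_add, LinearMap.add_apply, reflect_add, hp, hq]
  · intro x z
    simp
  · intro i hi x z
    have hi' : i ≤ d := by
      have := Finset.mem_range.mp hi
      omega
    rw [← C_mul_X_pow_eq_monomial, reflect_C_mul_X_pow, revAt_le hi']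
    simp only [map_mul, aeval_C, map_pow, aeval_X, Module.End.mul_apply,
      Module.algebraMap_end_apply, map_smul, LinearMap.smul_apply]
    congr 1
    have hd : M ^ d = M ^ i * M ^ (d - i) := by
      rw [← pow_add]
      congr 1
      omega
    rw [hd, Module.End.mul_apply, pow_adj B M hM]

/-- If `x` is killed by `Q(M)^n` then `x` is left-orthogonal to the range of `Q.reverse(M)^n`. -/
theorem ortho_range (B : LinearMap.BilinForm k V) (M : V →ₗ[k] V)
    (hM : ∀ x y : V, B (M x) (M y) = B x y) (Q : k[X]) (n : ℕ) (x : V)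
    (hx : (aeval M Q ^ n) x = 0) (z : V) :
    B x ((aeval M Q.reverse ^ n) z) = 0 := by
  have h1 := key B M hM (Q ^ n).natDegree (Q ^ n) le_rfl x z
  have hrev : reflect (Q ^ n).natDegree (Q ^ n) = Q.reverse ^ n := reverse_pow' Q n
  rw [hrev, map_pow, map_pow, hx] at h1
  rw [← h1]
  simp

/-- Separation on the generalized kernel from separation on the whole space. -/
theorem sep_left (B : LinearMap.BilinForm k V) (M : V →ₗ[k] V)
    (hM : ∀ x y : V, B (M x) (M y) = B x y) (Q : k[X]) (hQ : Associated Q Q.reverse) (n : ℕ)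
    (hc : IsCompl (LinearMap.ker (aeval M Q ^ n)) (LinearMap.range (aeval M Q ^ n)))
    (hB : ∀ x : V, (∀ y : V, B x y = 0) → x = 0)
    (w : V) (hw : w ∈ LinearMap.ker (aeval M Q ^ n))
    (h : ∀ w' ∈ LinearMap.ker (aeval M Q ^ n), B w w' = 0) : w = 0 := by
  apply hB
  intro v
  obtain ⟨u, hu⟩ := hQ.symm
  have hv : v ∈ LinearMap.ker (aeval M Q ^ n) ⊔ LinearMap.range (aeval M Q ^ n) := by
    rw [hc.sup_eq_top]; trivial
  obtain ⟨a, ha, b, hb, rfl⟩ := Submodule.mem_sup.mp hv
  obtain ⟨z, rfl⟩ := hb
  rw [map_add, h a ha, zero_add]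
  have h2 : (aeval M Q ^ n) z = (aeval M Q.reverse ^ n) (aeval M ((u : k[X]) ^ n) z) := by
    rw [← Module.End.mul_apply, ← map_pow, ← map_pow, ← map_mul, ← mul_pow, hu]
  rw [h2]
  exact ortho_range B M hM Q n w hw _

end Helpers


open Polynomial in
/-- Stated for an arbitrary invariant nondegenerate bilinear form, as the argument there allows. Let k
be a field, V a finite-dimensional k-vector space with a nondegenerate bilinear form B and M a
linear automorphism of V with B(Mx, My) = B(x, y) for all x, y. If Q is a polynomial associated to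
its own reciprocal polynomial (its coefficient list reversed), then B restricted to the generalized
kernel of Q(M), the union of the kernels of the powers Q(M)^n, is nondegenerate. (The published
statement takes M symplectic and Q a self-reciprocal divisor of the characteristic polynomial;
divisibility plays no role and is not assumed.) -/
theorem result
    {k : Type u} [Field k] {V : Type v} [AddCommGroup V] [Module k V] [FiniteDimensional k V]
    (B : LinearMap.BilinForm k V) (hB : B.Nondegenerate) (M : V ≃ₗ[k] V)
    (hM : ∀ x y : V, B (M x) (M y) = B x y)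
    (Q : k[X]) (hQ : Associated Q Q.reverse) :
    (B.restrict (⨆ n : ℕ, LinearMap.ker (Polynomial.aeval (M : V →ₗ[k] V) Q ^ n))).Nondegenerate := by
  set M' : V →ₗ[k] V := (M : V →ₗ[k] V) with hM'
  have hMM : ∀ x y : V, B (M' x) (M' y) = B x y := hM
  set f : V →ₗ[k] V := Polynomial.aeval M' Q with hf
  obtain ⟨n, hc, hn⟩ := (f.eventually_isCompl_ker_pow_range_pow.and
    f.eventually_iSup_ker_pow_eq).exists
  rw [hn]
  refine ⟨?_, ?_⟩
  · rintro ⟨w, hw⟩ h
    apply Subtype.ext
    refine sep_left B M' hMM Q hQ n hc hB.1 w hw ?_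
    intro w' hw'
    exact h ⟨w', hw'⟩
  · rintro ⟨w, hw⟩ h
    apply Subtype.ext
    refine sep_left B.flip M' ?_ Q hQ n hc ?_ w hw ?_
    · intro x y
      exact hMM y x
    · intro x hx
      exact hB.2 x hx
    · intro w' hw'
      exact h ⟨w', hw'⟩

end Groth.Agent.S19652
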