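import Groth.Statements.S19659
import Groth.Agent.Lib.Helper23.IsogenyFibre2
import Groth.Agent.Lib.Helper23.FibreHomFlat2
import Groth.Agent.Lib.Helper24.LfpOfComp

set_option autoImplicit false
universe u
open CategoryTheory CategoryTheory.Limits MonoidalCategory CartesianMonoidalCategory MonObj GrpObj AlgebraicGeometry
open AbSch

namespace Groth.Agent.S19659

/-- Let S be a scheme, A and B abelian schemes over S (proper smooth S-group schemes with geometrically
connected fibres) and f : A → B a homomorphism. Then f is flat exactly when it is surjective. -/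
theorem result
    {S : Scheme.{u}} (A B : Over S) [GrpObj A] [IsProper A.hom] [Smooth A.hom] [GeometricallyConnected A.hom]
    [GrpObj B] [IsProper B.hom] [Smooth B.hom] [GeometricallyConnected B.hom]
    (f : A ⟶ B) [IsMonHom f] :
    Flat f.left ↔ Surjective f.left := by
  have hw : f.left ≫ B.hom = A.hom := Over.w f
  constructor
  · intro hflat
    haveI : LocallyOfFinitePresentation (f.left ≫ B.hom) := by rw [hw]; infer_instance
    haveI : LocallyOfFinitePresentation f.left :=
      Groth.Agent.Lib.Helper24.locallyOfFinitePresentation_of_comp f.left B.hom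
    refine ⟨fun y => ?_⟩
    set s := B.hom y with hs
    let φ := S.fromSpecResidueField s
    let Gs : Over (Spec (S.residueField s)) := Red.bc φ A
    let Hs : Over (Spec (S.residueField s)) := Red.bc φ B
    let fs : Gs ⟶ Hs := (CategoryTheory.Over.pullback φ).map f
    have sq := Groth.Agent.Lib.Helper23.FibreHomFlat.isPullback_bc_map φ f
    haveI : IsMonHom fs := inferInstance
    haveI : Flat fs.left := CategoryTheory.MorphismProperty.of_isPullback (P := @Flat) sq inferInstance
    haveI : LocallyOfFinitePresentation fs.left :=
      CategoryTheory.MorphismProperty.of_isPullback (P := @LocallyOfFinitePresentation) sq inferInstance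
    have hw' : fs.left ≫ Hs.hom = Gs.hom := CategoryTheory.Over.w fs
    haveI : QuasiCompact Gs.hom := inferInstanceAs (QuasiCompact (CategoryTheory.Limits.pullback.snd A.hom φ))
    haveI : IsSeparated Hs.hom := inferInstanceAs (IsSeparated (CategoryTheory.Limits.pullback.snd B.hom φ))
    haveI : QuasiCompact (fs.left ≫ Hs.hom) := by rw [hw']; infer_instance
    haveI : QuasiCompact fs.left := QuasiCompact.of_comp fs.left Hs.hom
    haveI : ConnectedSpace Hs.left := inferInstanceAs (ConnectedSpace (B.hom.fiber s))
    haveI : Surjective fs.left :=
      Groth.Agent.Lib.Helper23.IsogenyFibre.surjective_of_flat_of_connected (S.residueField s)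
        (G := Gs) (H := Hs) fs
    have hy_range : y ∈ Set.range (CategoryTheory.Limits.pullback.fst B.hom φ) := by
      rw [Scheme.Pullback.range_fst, Scheme.range_fromSpecResidueField]
      rfl
    obtain ⟨y', hy'⟩ := hy_range
    obtain ⟨x', hx'⟩ := fs.left.surjective y'
    refine ⟨(CategoryTheory.Limits.pullback.fst A.hom φ) x', ?_⟩
    have h1 : f.left ((CategoryTheory.Limits.pullback.fst A.hom φ) x') =
        (CategoryTheory.Limits.pullback.fst B.hom φ) (fs.left x') :=
      congrArg (fun t => t.base x') sq.w
    exact h1.trans ((congrArg _ hx').trans hy')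
  · intro hsurj
    haveI : GeometricallyReduced B.hom :=
      Groth.Agent.Lib.Helper23.IsogenyFibre.geometricallyReduced_of_smooth B.hom
    exact (Groth.Agent.Lib.Helper23.FibreHomFlat.flat_of_surjective_of_geometricallyReduced
      A B f).1

end Groth.Agent.S19659
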