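import Groth.Statements.S1966
import Groth.Agent.Lib.Helper10.HenselRadical
-- import your own Groth.Agent.* helpers here

set_option autoImplicit false
universe u
open EtAlg

namespace Groth.Agent.S1966

open Polynomial Groth.Agent.Lib.Helper10

/-- Units lift along a surjection with nil kernel. -/
theorem isUnit_of_map_of_nil {R S : Type*} [CommRing R] [CommRing S] (t : R →+* S)
    (hs : Function.Surjective t) (hn : ∀ x, t x = 0 → IsNilpotent x) (b : R)
    (hb : IsUnit (t b)) : IsUnit b := by
  obtain ⟨u, hu⟩ := hb
  obtain ⟨c, hc⟩ := hs ((u⁻¹ : Sˣ) : S)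
  have h0 : t (b * c - 1) = 0 := by
    rw [map_sub, map_mul, map_one, ← hu, hc, Units.mul_inv, sub_self]
  have h1 : IsUnit (b * c - 1 + 1) := (hn _ h0).isUnit_add_one
  rw [sub_add_cancel] at h1
  exact isUnit_of_mul_isUnit_left h1

/-- Hensel lifting of simple roots along a surjection with nil kernel. -/
theorem exists_root_lift {R S : Type*} [CommRing R] [CommRing S] (t : R →+* S)
    (hs : Function.Surjective t) (hn : ∀ x, t x = 0 → IsNilpotent x) (g : R[X]) (hg : g.Monic)
    (y : S) (hy : (g.map t).eval y = 0) (hy' : IsUnit ((g.map t).derivative.eval y)) :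
    ∃ x : R, g.eval x = 0 ∧ t x = y ∧ IsUnit (g.derivative.eval x) := by
  obtain ⟨b, rfl⟩ := hs y
  have hev : ∀ (q : R[X]) (c : R), (q.map t).eval (t c) = t (q.eval c) := by
    intro q c
    rw [Polynomial.eval_map, Polynomial.eval₂_at_apply]
  have H : HenselianRing R (RingHom.ker t) :=
    henselianRing_of_forall_isNilpotent _ (fun x hx => hn x (RingHom.mem_ker.1 hx))
  have hb0 : g.eval b ∈ RingHom.ker t := by
    rw [RingHom.mem_ker, ← hev]; exact hy
  have hbu : IsUnit (g.derivative.eval b) := by
    apply isUnit_of_map_of_nil t hs hn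
    rw [← hev, ← Polynomial.derivative_map]; exact hy'
  obtain ⟨x, hx, hxb⟩ := H.is_henselian g hg b hb0 (hbu.map _)
  have htx : t x = t b := by
    rw [RingHom.mem_ker, map_sub, sub_eq_zero] at hxb
    exact hxb
  refine ⟨x, hx, htx, ?_⟩
  apply isUnit_of_map_of_nil t hs hn
  rw [← hev, ← Polynomial.derivative_map, htx]; exact hy'

/-- Towers indexed by the natural numbers: let (A_k) be rings with surjective transition maps A_{k+1} ->
A_k whose kernels consist of nilpotent elements, and let A be a ring with compatible projections p_k
: A -> A_k identifying A with the set of compatible sequences (p is jointly injective and every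
compatible sequence comes from an element of A). Then for every k the pair (A, ker p_k) is
henselian. -/
theorem result (A : Type u) [CommRing A] (As : ℕ → Type u) [∀ k, CommRing (As k)]
    (t : ∀ k, As (k + 1) →+* As k) (ht : ∀ k, Function.Surjective (t k))
    (hnil : ∀ k (x : As (k + 1)), t k x = 0 → IsNilpotent x)
    (p : ∀ k, A →+* As k) (hp : ∀ k, (t k).comp (p (k + 1)) = p k)
    (hinj : ∀ a b : A, (∀ k, p k a = p k b) → a = b)
    (hsurj : ∀ x : ∀ k, As k, (∀ k, t k (x (k + 1)) = x k) → ∃ a : A, ∀ k, p k a = x k) (k : ℕ) :
    HenselianRing A (RingHom.ker (p k)) := by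
  -- compatibility of the projections in elementwise form
  have hp' : ∀ j (a : A), t j (p (j + 1) a) = p j a := fun j a => by
    rw [← hp j]; rfl
  -- going down: equality at a level implies equality at all lower levels
  have hdown : ∀ (a b : A) (j m : ℕ), j ≤ m → p m a = p m b → p j a = p j b := by
    intro a b j m hjm
    induction m, hjm using Nat.le_induction with
    | base => exact id
    | succ m _ ih =>
      intro h
      apply ih
      rw [← hp' m a, ← hp' m b, h]
  -- an element all of whose projections are units is a unit
  have hunitA : ∀ z : A, (∀ j, IsUnit (p j z)) → IsUnit z := by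
    intro z hz
    have hcompat : ∀ j, t j (Ring.inverse (p (j + 1) z)) = Ring.inverse (p j z) := by
      intro j
      have h1 : t j (Ring.inverse (p (j + 1) z)) * p j z = 1 := by
        rw [← hp' j z, ← map_mul, Ring.inverse_mul_cancel _ (hz (j + 1)), map_one]
      have h2 : p j z * Ring.inverse (p j z) = 1 := Ring.mul_inverse_cancel _ (hz j)
      calc t j (Ring.inverse (p (j + 1) z))
          = t j (Ring.inverse (p (j + 1) z)) * (p j z * Ring.inverse (p j z)) := by
            rw [h2, mul_one]
        _ = Ring.inverse (p j z) := by rw [← mul_assoc, h1, one_mul]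
    obtain ⟨w, hw⟩ := hsurj (fun j => Ring.inverse (p j z)) hcompat
    have hzw : z * w = 1 := by
      apply hinj
      intro j
      rw [map_mul, hw, map_one, Ring.mul_inverse_cancel _ (hz j)]
    exact IsUnit.of_mul_eq_one w hzw
  -- going up: units at level k remain units at higher levels
  have hup : ∀ (z : A) (m : ℕ), k ≤ m → IsUnit (p k z) → IsUnit (p m z) := by
    intro z m hkm
    induction m, hkm using Nat.le_induction with
    | base => exact id
    | succ m _ ih =>
      intro h
      apply isUnit_of_map_of_nil (t m) (ht m) (hnil m)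
      rw [hp' m z]
      exact ih h
  constructor
  · -- the kernel lies in the Jacobson radical
    intro x hx
    rw [RingHom.mem_ker] at hx
    rw [Ideal.mem_jacobson_bot]
    intro y
    have hk1 : p k (x * y + 1) = p k 1 := by
      rw [map_add, map_mul, hx, zero_mul, zero_add]
    apply hunitA
    intro j
    rcases le_total j k with hjk | hkj
    · rw [hdown _ _ j k hjk hk1, map_one]; exact isUnit_one
    · apply hup _ j hkj
      rw [hk1, map_one]; exact isUnit_one
  · intro f hf a₀ h₁ h₂
    rw [RingHom.mem_ker] at h₁
    -- f'(a₀) is a unit at level k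
    have hku : IsUnit (p k (f.derivative.eval a₀)) := by
      have := h₂.map (RingHom.kerLift (p k))
      simpa using this
    have hev : ∀ j (q : A[X]) (c : A), (q.map (p j)).eval (p j c) = p j (q.eval c) := by
      intro j q c
      rw [Polynomial.eval_map, Polynomial.eval₂_at_apply]
    have hmapmap : ∀ j, (f.map (p (j + 1))).map (t j) = f.map (p j) := by
      intro j
      rw [Polynomial.map_map, hp j]
    -- the recursive construction of a compatible system of roots
    let P : ∀ j, As j → Prop := fun j x =>
      (f.map (p j)).eval x = 0 ∧ (k ≤ j → IsUnit ((f.map (p j)).derivative.eval x)) ∧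
        (j ≤ k → x = p j a₀)
    have hstep : ∀ j (x : As j), P j x → ∃ x' : As (j + 1), P (j + 1) x' ∧ t j x' = x := by
      intro j x ⟨hx0, hxu, hxk⟩
      rcases Nat.lt_or_ge j k with hjk | hkj
      · -- below level k: take the projection of a₀
        refine ⟨p (j + 1) a₀, ⟨?_, ?_, fun _ => rfl⟩, ?_⟩
        · rw [hev, hdown (f.eval a₀) 0 (j + 1) k hjk (by rw [h₁, map_zero]), map_zero]
        · intro hk
          have hjk' : j + 1 = k := le_antisymm hjk hk
          subst hjk'
          rw [Polynomial.derivative_map, hev]
          exact hku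
        · rw [hp', hxk hjk.le]
      · -- above level k: Hensel lift
        obtain ⟨x', hx'0, hx't, hx'u⟩ := exists_root_lift (t j) (ht j) (hnil j)
          (f.map (p (j + 1))) (hf.map _) x (by rw [hmapmap]; exact hx0)
          (by rw [hmapmap]; exact hxu hkj)
        refine ⟨x', ⟨hx'0, fun _ => hx'u, ?_⟩, hx't⟩
        intro hjk
        exfalso; omega
    have hP0 : P 0 (p 0 a₀) := by
      refine ⟨?_, ?_, fun _ => rfl⟩
      · rw [hev, hdown (f.eval a₀) 0 0 k (Nat.zero_le k) (by rw [h₁, map_zero]), map_zero]
      · intro hk
        have hk0 : k = 0 := Nat.le_zero.1 hk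
        subst hk0
        rw [Polynomial.derivative_map, hev]
        exact hku
    let seq : ∀ j, {x : As j // P j x} := fun j =>
      Nat.rec (motive := fun j => {x : As j // P j x}) ⟨p 0 a₀, hP0⟩
        (fun j s => ⟨Classical.choose (hstep j s.1 s.2),
          (Classical.choose_spec (hstep j s.1 s.2)).1⟩) j
    have hseq : ∀ j, t j (seq (j + 1)).1 = (seq j).1 := fun j =>
      (Classical.choose_spec (hstep j (seq j).1 (seq j).2)).2
    obtain ⟨a, ha⟩ := hsurj (fun j => (seq j).1) hseq
    refine ⟨a, ?_, ?_⟩
    · rw [Polynomial.IsRoot.def]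
      apply hinj
      intro j
      rw [← hev, ha j, (seq j).2.1, map_zero]
    · rw [RingHom.mem_ker, map_sub, sub_eq_zero, ha k]
      exact (seq k).2.2.2 le_rfl

end Groth.Agent.S1966
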