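import Groth.Statements.S19660
import Mathlib.RingTheory.Artinian.Module
import Mathlib.Algebra.Polynomial.RingDivision
-- import your own Groth.Agent.* helpers here

set_option autoImplicit false
universe u v
open AbVar

namespace Groth.Agent.S19660

section Helpers

open Polynomial

variable {k : Type u} [Field k] {V : Type v} [AddCommGroup V] [Module k V]

theorem adj_one (B : LinearMap.BilinForm k V) (q : k) (M : Module.End k V)
    (hM : ∀ x y : V, B (M x) (M y) = q * B x y) (μ ν : k) (hμν : μ * ν = q) (x z : V) :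
    B ((M - μ • (1 : Module.End k V)) x) (M z) = -μ * B x ((M - ν • (1 : Module.End k V)) z) := by
  simp only [LinearMap.sub_apply, LinearMap.smul_apply, Module.End.one_apply, map_sub, map_smul,
    smul_eq_mul, hM]
  rw [← hμν]
  ring

theorem adj_pow (B : LinearMap.BilinForm k V) (q : k) (M : Module.End k V)
    (hM : ∀ x y : V, B (M x) (M y) = q * B x y) (μ ν : k) (hμν : μ * ν = q) (n : ℕ) (x z : V) :
    B (((M - μ • (1 : Module.End k V)) ^ n) x) ((M ^ n) z) =
      (-μ) ^ n * B x (((M - ν • (1 : Module.End k V)) ^ n) z) := by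
  induction n generalizing x z with
  | zero => simp
  | succ n ih =>
    have hcomm : Commute M ((M - ν • (1 : Module.End k V)) ^ n) :=
      ((Commute.refl M).sub_right ((Commute.one_right M).smul_right ν)).pow_right n
    have h1 : ((M - ν • (1 : Module.End k V)) ^ n) (M z) =
        M (((M - ν • (1 : Module.End k V)) ^ n) z) := by
      rw [← Module.End.mul_apply, ← Module.End.mul_apply, hcomm.eq]
    rw [pow_succ, pow_succ M, Module.End.mul_apply, Module.End.mul_apply, ih, h1,
      adj_one B q M hM μ ν hμν, pow_succ' (M - ν • (1 : Module.End k V)), Module.End.mul_apply]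
    ring

/-- If `x` is killed by `(M - μ)^n` then `x` is left-orthogonal to the range of `(M - ν)^n`. -/
theorem ortho_range (B : LinearMap.BilinForm k V) (q : k) (M : Module.End k V)
    (hM : ∀ x y : V, B (M x) (M y) = q * B x y) (μ ν : k) (hμν : μ * ν = q) (hμ : μ ≠ 0)
    (n : ℕ) (x : V) (hx : ((M - μ • (1 : Module.End k V)) ^ n) x = 0) (z : V) :
    B x (((M - ν • (1 : Module.End k V)) ^ n) z) = 0 := by
  have h := adj_pow B q M hM μ ν hμν n x z
  rw [hx] at h
  simp only [map_zero, LinearMap.zero_apply] at h
  have hne : (-μ) ^ n ≠ 0 := pow_ne_zero _ (neg_ne_zero.mpr hμ)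
  exact (mul_eq_zero.mp h.symm).resolve_left hne

theorem sepL [FiniteDimensional k V] (B : LinearMap.BilinForm k V) (q : k) (M : Module.End k V)
    (hM : ∀ x y : V, B (M x) (M y) = q * B x y) (μ ν : k) (hμν : μ * ν = q) (hμ : μ ≠ 0)
    (hB : ∀ x : V, (∀ y : V, B x y = 0) → x = 0)
    (x : V) (hx : x ∈ Module.End.maxGenEigenspace M μ)
    (h : ∀ y ∈ Module.End.maxGenEigenspace M ν, B x y = 0) : x = 0 := by
  apply hB
  intro v
  obtain ⟨k₀, hk₀⟩ := (Module.End.mem_maxGenEigenspace M μ x).mp hx
  set f : Module.End k V := M - ν • (1 : Module.End k V) with hf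
  obtain ⟨n, hc, hn⟩ := (f.eventually_isCompl_ker_pow_range_pow.and
    (Filter.eventually_ge_atTop k₀)).exists
  have hv : v ∈ LinearMap.ker (f ^ n) ⊔ LinearMap.range (f ^ n) := by
    rw [hc.sup_eq_top]; trivial
  obtain ⟨a, ha, b, hb, rfl⟩ := Submodule.mem_sup.mp hv
  obtain ⟨z, rfl⟩ := hb
  have ha' : a ∈ Module.End.maxGenEigenspace M ν :=
    (Module.End.mem_maxGenEigenspace M ν a).mpr ⟨n, ha⟩
  rw [map_add, h a ha', zero_add]
  exact ortho_range B q M hM μ ν hμν hμ n x (Module.End.pow_map_zero_of_le hn hk₀) z

theorem sub_smul_one_eq_aeval (M : Module.End k V) (ν : k) :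
    M - ν • (1 : Module.End k V) = aeval M (X - C ν) := by
  rw [map_sub, aeval_X, aeval_C, Algebra.algebraMap_eq_smul_one]

theorem ortho (B : LinearMap.BilinForm k V) (q : k) (M : Module.End k V)
    (hM : ∀ x y : V, B (M x) (M y) = q * B x y) (μ ν μ' : k) (hμν : μ * ν = q) (hμ : μ ≠ 0)
    (hne : ν ≠ μ')
    (x : V) (hx : x ∈ Module.End.maxGenEigenspace M μ)
    (x' : V) (hx' : x' ∈ Module.End.maxGenEigenspace M μ') : B x x' = 0 := by
  obtain ⟨n, hn⟩ := (Module.End.mem_maxGenEigenspace M μ x).mp hx
  obtain ⟨m, hm⟩ := (Module.End.mem_maxGenEigenspace M μ' x').mp hx'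
  have hcop : IsCoprime ((X - C ν : k[X]) ^ n) ((X - C μ') ^ m) :=
    (isCoprime_X_sub_C_of_isUnit_sub (sub_ne_zero_of_ne hne).isUnit).pow
  obtain ⟨a, b, hab⟩ := hcop
  have h2 := congrArg (fun P => aeval M P x') hab
  simp only [map_add, map_mul, LinearMap.add_apply, Module.End.mul_apply, map_one,
    Module.End.one_apply] at h2
  rw [map_pow _ (X - C μ'), ← sub_smul_one_eq_aeval, hm, map_zero, add_zero] at h2
  have hx'' : x' = ((M - ν • (1 : Module.End k V)) ^ n) (aeval M a x') := by
    rw [sub_smul_one_eq_aeval]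
    calc x' = (aeval M a * aeval M ((X - C ν) ^ n)) x' := h2.symm
      _ = aeval M (a * (X - C ν) ^ n) x' := by rw [map_mul]
      _ = aeval M ((X - C ν) ^ n * a) x' := by rw [mul_comm]
      _ = (aeval M ((X - C ν) ^ n) * aeval M a) x' := by rw [map_mul]
      _ = _ := by rw [map_pow]; rfl
  rw [hx'']
  exact ortho_range B q M hM μ ν hμν hμ n x hn _

end Helpers


/-- The text applies this to the Frobenius acting on the points of prime order of a principally
polarised abelian variety over a finite field with q elements and to their Weil pairing. Let k be a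
field, V a finite-dimensional k-vector space with a nondegenerate bilinear form B, q a nonzero
element of k and M a linear automorphism of V with B(Mx, My) = q·B(x, y) for all x, y. Write V₁ and
V_q for the generalized eigenspaces of M at 1 and at q. Then every vector of V₁ that is B-orthogonal
to all of V_q is zero, every vector of V_q that is B-orthogonal (on the right) to all of V₁ is zero,
and when q ≠ 1 the form B vanishes identically on V₁ × V₁ and on V_q × V_q. (The text asserts this
as the evident adaptation, to a form scaled by q, of the orthogonality and nondegeneracy facts for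
generalized kernels of an automorphism preserving a form; the abstract statement is recorded here,
the application to the Weil pairing needing that pairing's formalism.) -/
theorem result
    {k : Type u} [Field k] {V : Type v} [AddCommGroup V] [Module k V] [FiniteDimensional k V]
    (B : LinearMap.BilinForm k V) (hB : B.Nondegenerate) (q : k) (hq : q ≠ 0)
    (M : V ≃ₗ[k] V) (hM : ∀ x y : V, B (M x) (M y) = q * B x y) :
    (∀ x ∈ Module.End.maxGenEigenspace (M : Module.End k V) 1,
        (∀ y ∈ Module.End.maxGenEigenspace (M : Module.End k V) q, B x y = 0) → x = 0) ∧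
      (∀ y ∈ Module.End.maxGenEigenspace (M : Module.End k V) q,
        (∀ x ∈ Module.End.maxGenEigenspace (M : Module.End k V) 1, B x y = 0) → y = 0) ∧
      (q ≠ 1 → ∀ x ∈ Module.End.maxGenEigenspace (M : Module.End k V) 1,
        ∀ x' ∈ Module.End.maxGenEigenspace (M : Module.End k V) 1, B x x' = 0) ∧
      (q ≠ 1 → ∀ y ∈ Module.End.maxGenEigenspace (M : Module.End k V) q,
        ∀ y' ∈ Module.End.maxGenEigenspace (M : Module.End k V) q, B y y' = 0) := by
  set M' : Module.End k V := (M : V →ₗ[k] V) with hM'
  have hMM : ∀ x y : V, B (M' x) (M' y) = q * B x y := hM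
  have hMMf : ∀ x y : V, B.flip (M' x) (M' y) = q * B.flip x y := fun x y => hMM y x
  refine ⟨?_, ?_, ?_, ?_⟩
  · intro x hx h
    exact sepL B q M' hMM 1 q (one_mul q) one_ne_zero hB.1 x hx h
  · intro y hy h
    exact sepL B.flip q M' hMMf q 1 (mul_one q) hq hB.2 y hy h
  · intro hq1 x hx x' hx'
    exact ortho B q M' hMM 1 q 1 (one_mul q) one_ne_zero hq1 x hx x' hx'
  · intro hq1 y hy y' hy'
    exact ortho B q M' hMM q 1 q (mul_one q) hq (Ne.symm hq1) y hy y' hy'

end Groth.Agent.S19660
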