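import Groth.Statements.S19679
-- import your own Groth.Agent.* helpers here
import Groth.Agent.Lib.Helper40.LocTrivCov
import Groth.Agent.Lib.Helper40.FpqcCovOver

set_option autoImplicit false
universe u
open CategoryTheory MonoidalCategory CartesianMonoidalCategory MonObj AlgebraicGeometry
open ChGrp

namespace Groth.Agent.S19679

/-- Let k be an algebraically closed field of characteristic zero, G and H affine group schemes of
finite type over k (algebraic groups) with i : H → G a homomorphism which is a closed immersion, and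
Z a reduced affine k-scheme of finite type (an affine variety) with an action of H. Let Y, with its
G-action and j : G × Z → Y, be the balanced product G ×^H Z for the fppf topology: j is
G-equivariant for left translation on the first factor, it is a torsor for the twisted H-action
h·(g, z) = (g i(h)⁻¹, h·z), and it has sections fppf-locally on Y. If π_Z : Z → P is a categorical
quotient of Z by H and π_Y : Y → Q a categorical quotient of Y by G, then the projection G × Z → Z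
induces an isomorphism Q ≅ P, inverse to the morphism induced by the H-invariant map z ↦ π_Y(j(e,
z)): there are mutually inverse φ : P → Q and χ : Q → P with π_Z followed by φ equal to z ↦ π_Y(j(e,
z)) and j followed by π_Y and χ equal to the projection followed by π_Z (so Y//G ≅ Z//H). (The
source assumes G and H reductive and defines G ×^H Z as the quotient (G × Z)//H, a principal
H-bundle; here the quotients are part of the data, the balanced product is taken in its torsor form,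
and reductivity is not needed.) -/
theorem result
    (k : Type u) [Field k] [IsAlgClosed k] [CharZero k]
    (G H Z Y P Q : Over (Spec (CommRingCat.of k))) [GrpObj G] [GrpObj H]
    [IsAffine G.left] [LocallyOfFiniteType G.hom] [IsAffine H.left] [LocallyOfFiniteType H.hom]
    (i : H ⟶ G) [IsMonHom i] [IsClosedImmersion i.left]
    [IsAffine Z.left] [LocallyOfFiniteType Z.hom] [IsReduced Z.left]
    (aZ : AlgGrp.Action H Z) (aY : AlgGrp.Action G Y) (j : G ⊗ Z ⟶ Y)
    (hY : ChGrp.IsBalProd Scheme.fppfPrecoverage i aZ aY j)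
    (πZ : Z ⟶ P) (hP : GIT.IsCatQuot aZ πZ) (πY : Y ⟶ Q) (hQ : GIT.IsCatQuot aY πY) :
    ∃ (φ : P ⟶ Q) (χ : Q ⟶ P), φ ≫ χ = 𝟙 P ∧ χ ≫ φ = 𝟙 Q ∧
      πZ ≫ φ = lift (toUnit Z ≫ η[G]) (𝟙 Z) ≫ j ≫ πY ∧ j ≫ πY ≫ χ = snd G Z ≫ πZ := by
  obtain ⟨hjeq, hpb, hloc⟩ := hY
  have hcov : Groth.Agent.Lib.Helper40.FpqcCov.IsCov j.left :=
    Groth.Agent.Lib.Helper40.FpqcCov.isCov_of_isLocallyTrivialFor_fppf (Over.mk j.left) hloc
  have hjepi : Epi j := Groth.Agent.Lib.Helper40.FpqcCov.epi_of_isCov_left hcov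
  have hGjepi : Epi (G ◁ j) := Groth.Agent.Lib.Helper40.FpqcCov.epi_of_isCov_left
    (Groth.Agent.Lib.Helper40.FpqcCov.isCov_whiskerLeft G hcov)
  have ext3 : ∀ {A B C W : Over (Spec (CommRingCat.of k))} {f g : A ⊗ (B ⊗ C) ⟶ W},
      (∀ (T : Over (Spec (CommRingCat.of k))) (a : T ⟶ A) (b : T ⟶ B) (c : T ⟶ C),
        lift a (lift b c) ≫ f = lift a (lift b c) ≫ g) → f = g := by
    intro A B C W f g h
    apply AlgGrp.Action.hom_ext_lift₂
    intro T a w
    have hw : w = lift (w ≫ fst B C) (w ≫ snd B C) := by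
      apply CartesianMonoidalCategory.hom_ext <;> simp
    rw [hw]
    exact h T a _ _
  have F1 : ∀ (T : Over (Spec (CommRingCat.of k))) (h : T ⟶ H) (g : T ⟶ G) (z : T ⟶ Z),
      lift (g * (h ≫ i)⁻¹) (lift h z ≫ aZ.act) ≫ j = lift g z ≫ j := by
    intro T h g z
    have e := hpb.w
    have e2 : lift h (lift g z) ≫ (ChGrp.twist i aZ).act ≫ j =
        lift h (lift g z) ≫ snd H (G ⊗ Z) ≫ j := by rw [e]
    rw [ChGrp.lift_twist_act_assoc, lift_snd_assoc] at e2
    exact e2
  have F2 : ∀ (T : Over (Spec (CommRingCat.of k))) (g' g : T ⟶ G) (z : T ⟶ Z),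
      lift (g' * g) z ≫ j = lift g' (lift g z ≫ j) ≫ aY.act := by
    intro T g' g z
    have e : ((NonAbH1.trivialAction G).prod (AlgGrp.Action.trivial G Z)).act ≫ j =
        (G ◁ j) ≫ aY.act := hjeq
    have e2 : lift g' (lift g z) ≫
        ((NonAbH1.trivialAction G).prod (AlgGrp.Action.trivial G Z)).act ≫ j =
        lift g' (lift g z) ≫ (G ◁ j) ≫ aY.act := by rw [e]
    rw [AlgGrp.Action.lift_prod_act_assoc, AlgGrp.Action.lift_trivial_act,
      lift_whiskerLeft_assoc] at e2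
    have e3 : lift g' g ≫ (NonAbH1.trivialAction G).act = g' * g := by
      rw [Hom.mul_def]
      rfl
    rw [e3] at e2
    exact e2
  have F3 : ∀ (T : Over (Spec (CommRingCat.of k))) (g : T ⟶ G) (y : T ⟶ Y),
      lift g y ≫ aY.act ≫ πY = y ≫ πY := by
    intro T g y
    have e : aY.act ≫ πY = snd G Y ≫ πY := hQ.1
    rw [e, lift_snd_assoc]
  have F3' : ∀ (T : Over (Spec (CommRingCat.of k))) (h : T ⟶ H) (z : T ⟶ Z),
      lift h z ≫ aZ.act ≫ πZ = z ≫ πZ := by
    intro T h z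
    have e : aZ.act ≫ πZ = snd H Z ≫ πZ := hP.1
    rw [e, lift_snd_assoc]
  obtain ⟨ε, hεdef⟩ : ∃ ε : Z ⟶ G ⊗ Z, ε = lift (toUnit Z ≫ η[G]) (𝟙 Z) := ⟨_, rfl⟩
  have hε : ∀ (T : Over (Spec (CommRingCat.of k))) (w : T ⟶ Z), w ≫ ε = lift 1 w := by
    intro T w
    rw [hεdef, comp_lift, Category.comp_id, ← Category.assoc, Hom.one_def]
    congr 2
    exact toUnit_unique _ _
  have hεsnd : ε ≫ snd G Z = 𝟙 Z := by
    rw [hεdef, lift_snd]
  -- key: (g, z) ↦ πY (j (g, z)) only depends on z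
  have hkey : ∀ (T : Over (Spec (CommRingCat.of k))) (g : T ⟶ G) (z : T ⟶ Z),
      lift g z ≫ j ≫ πY = lift 1 z ≫ j ≫ πY := by
    intro T g z
    calc lift g z ≫ j ≫ πY = lift (g * 1) z ≫ j ≫ πY := by rw [_root_.mul_one]
      _ = lift g (lift 1 z ≫ j) ≫ aY.act ≫ πY := by
        rw [← Category.assoc, F2, Category.assoc]
      _ = (lift 1 z ≫ j) ≫ πY := F3 _ _ _
      _ = lift 1 z ≫ j ≫ πY := Category.assoc _ _ _
  have hψ : GIT.IsInvariant aZ (ε ≫ j ≫ πY) := by
    change aZ.act ≫ ε ≫ j ≫ πY = snd H Z ≫ ε ≫ j ≫ πY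
    apply AlgGrp.Action.hom_ext_lift₂
    intro T h z
    rw [lift_snd_assoc]
    calc lift h z ≫ aZ.act ≫ ε ≫ j ≫ πY
        = ((lift h z ≫ aZ.act) ≫ ε) ≫ j ≫ πY := by simp only [Category.assoc]
      _ = lift 1 (lift h z ≫ aZ.act) ≫ j ≫ πY := by rw [hε]
      _ = lift ((h ≫ i) * (h ≫ i)⁻¹) (lift h z ≫ aZ.act) ≫ j ≫ πY := by
        rw [_root_.mul_inv_cancel]
      _ = lift (h ≫ i) z ≫ j ≫ πY := by rw [← Category.assoc, F1, Category.assoc]
      _ = lift 1 z ≫ j ≫ πY := hkey _ _ _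
      _ = z ≫ ε ≫ j ≫ πY := by rw [← Category.assoc z, hε]
  obtain ⟨φ, hφ, -⟩ := hP.2 Q (ε ≫ j ≫ πY) hψ
  -- ρ : Y ⟶ P
  have hinvtw : (ChGrp.twist i aZ).act ≫ snd G Z ≫ πZ = snd H (G ⊗ Z) ≫ snd G Z ≫ πZ := by
    apply ext3
    intro T h g z
    rw [ChGrp.lift_twist_act_assoc, lift_snd_assoc, lift_snd_assoc, lift_snd_assoc]
    exact F3' T h z
  obtain ⟨ρ, hρ⟩ := Groth.Agent.Lib.Helper40.FpqcCov.exists_desc_over hcov (snd G Z ≫ πZ) (by
    intro R a b hab
    have h1 : hpb.lift a b hab ≫ (ChGrp.twist i aZ).act = a := hpb.lift_fst a b hab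
    have h2 : hpb.lift a b hab ≫ snd H (G ⊗ Z) = b := hpb.lift_snd a b hab
    calc a ≫ snd G Z ≫ πZ = (hpb.lift a b hab ≫ (ChGrp.twist i aZ).act) ≫ snd G Z ≫ πZ := by
          rw [h1]
      _ = (hpb.lift a b hab ≫ snd H (G ⊗ Z)) ≫ snd G Z ≫ πZ := by
          rw [Category.assoc, hinvtw, Category.assoc]
      _ = b ≫ snd G Z ≫ πZ := by rw [h2])
  have hρinv : GIT.IsInvariant aY ρ := by
    change aY.act ≫ ρ = snd G Y ≫ ρ
    rw [← cancel_epi (G ◁ j)]
    have e : ((NonAbH1.trivialAction G).prod (AlgGrp.Action.trivial G Z)).act ≫ j =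
        (G ◁ j) ≫ aY.act := hjeq
    rw [← Category.assoc, ← e, Category.assoc, hρ, whiskerLeft_snd_assoc, hρ]
    apply ext3
    intro T g' g z
    rw [AlgGrp.Action.lift_prod_act_assoc, AlgGrp.Action.lift_trivial_act, lift_snd_assoc,
      lift_snd_assoc, lift_snd_assoc]
  obtain ⟨χ, hχ, -⟩ := hQ.2 P ρ hρinv
  have hχ' : πY ≫ χ = ρ := hχ
  have hφ' : πZ ≫ φ = ε ≫ j ≫ πY := hφ
  refine ⟨φ, χ, ?_, ?_, ?_, ?_⟩
  · apply (hP.2 P πZ hP.1).unique
    · change πZ ≫ φ ≫ χ = πZ
      rw [← Category.assoc, hφ', Category.assoc, Category.assoc, hχ', hρ, ← Category.assoc,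
        hεsnd, Category.id_comp]
    · exact Category.comp_id _
  · apply (hQ.2 Q πY hQ.1).unique
    · change πY ≫ χ ≫ φ = πY
      rw [← Category.assoc, hχ', ← cancel_epi j, ← Category.assoc, hρ, Category.assoc, hφ']
      apply AlgGrp.Action.hom_ext_lift₂
      intro T g z
      rw [lift_snd_assoc, ← Category.assoc z, hε]
      exact (hkey T g z).symm
    · exact Category.comp_id _
  · rw [← hεdef]
    exact hφ'
  · rw [hχ', hρ]

end Groth.Agent.S19679
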