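import Groth.Statements.S1968
import Mathlib

set_option autoImplicit false
universe u
open EtAlg

namespace Groth.Agent.S1968

/-- in a ring with total divisibility, a nonempty finite family has a member dividing all others -/
lemma exists_dvd_all {B : Type*} [CommRing B] (hB : ∀ a b : B, a ∣ b ∨ b ∣ a) :
    ∀ (l : ℕ) (x : Fin (l + 1) → B), ∃ i₀, ∀ i, x i₀ ∣ x i := by
  intro l
  induction l with
  | zero =>
    intro x
    refine ⟨0, fun i => ?_⟩
    have : i = 0 := Fin.ext (by omega)
    rw [this]
  | succ l ih =>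
    intro x
    obtain ⟨i₀, hi₀⟩ := ih (fun i => x i.succ)
    rcases hB (x 0) (x i₀.succ) with h | h
    · refine ⟨0, fun i => ?_⟩
      refine Fin.cases (dvd_refl _) (fun i' => ?_) i
      exact h.trans (hi₀ i')
    · refine ⟨i₀.succ, fun i => ?_⟩
      refine Fin.cases h (fun i' => ?_) i
      exact hi₀ i'

theorem flat_ideal {J : Type*} (A : J → Type*) [∀ j, CommRing (A j)] [∀ j, IsDomain (A j)]
    (hA : ∀ j, ∀ a b : A j, a ∣ b ∨ b ∣ a) (I : Ideal (∀ j, A j)) : Module.Flat (∀ j, A j) I := by
  classical
  apply Module.Flat.of_forall_isTrivialRelation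
  intro l f x hfx
  rcases Nat.eq_zero_or_pos l with hl | hl
  · subst hl
    exact ⟨0, fun i => i.elim0, Fin.elim0, fun i => i.elim0, fun j => j.elim0⟩
  obtain ⟨l, rfl⟩ := Nat.exists_eq_succ_of_ne_zero hl.ne'
  have hrel : ∑ i, f i * (x i : ∀ j, A j) = 0 := by
    have := congrArg Subtype.val hfx
    simpa [Submodule.coe_sum] using this
  choose ι hι using fun j => exists_dvd_all (hA j) l (fun i => (x i : ∀ j, A j) j)
  choose b' hb' using hι
  let c : ∀ j, A j := fun j => (x (ι j) : ∀ j, A j) j
  have hc : c ∈ I := by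
    have h1 : c = ∑ i, (fun j => if ι j = i then (1 : A j) else 0) * (x i : ∀ j, A j) := by
      funext j
      simp only [c, Finset.sum_apply, Pi.mul_apply, ite_mul, one_mul, zero_mul, Finset.sum_ite_eq,
        Finset.mem_univ, if_true]
    rw [h1]
    exact I.sum_mem fun i _ => I.mul_mem_left _ (x i).2
  let b : Fin (l + 1) → ∀ j, A j := fun i j => b' j i
  have hxb : ∀ i, (x i : ∀ j, A j) = b i * c := by
    intro i
    funext j
    simp only [b, c, Pi.mul_apply]
    rw [mul_comm]
    exact hb' j i
  let e : ∀ j, A j := fun j => if c j = 0 then 0 else 1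
  have hec : e * c = c := by
    funext j
    simp only [e, Pi.mul_apply]
    split_ifs with h
    · rw [h, mul_zero]
    · rw [one_mul]
  have hsc : (∑ i, f i * b i) * c = 0 := by
    rw [Finset.sum_mul, ← hrel]
    refine Finset.sum_congr rfl fun i _ => ?_
    rw [mul_assoc, ← hxb]
  have hse : (∑ i, f i * b i) * e = 0 := by
    funext j
    have := congrFun hsc j
    simp only [Pi.mul_apply, Pi.zero_apply, e] at this ⊢
    split_ifs with h
    · rw [mul_zero]
    · rw [mul_one]
      exact (mul_eq_zero.mp this).resolve_right h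
  refine ⟨1, fun i _ => b i * e, fun _ => ⟨c, hc⟩, ?_, ?_⟩
  · intro i
    apply Subtype.ext
    rw [Fin.sum_univ_one, Submodule.coe_smul, smul_eq_mul, mul_assoc, hec, hxb]
  · intro _
    rw [← hse, Finset.sum_mul]
    refine Finset.sum_congr rfl fun i _ => ?_
    rw [mul_assoc]

theorem isLocalization_pi {J : Type*} (A : J → Type*) [∀ j, CommRing (A j)] [∀ j, IsDomain (A j)]
    (K : J → Type*) [∀ j, Field (K j)] [∀ j, Algebra (A j) (K j)] [∀ j, IsFractionRing (A j) (K j)] :
    IsLocalization (nonZeroDivisors (∀ j, A j)) (∀ j, K j) := by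
  classical
  have hnzd : ∀ a : ∀ j, A j, a ∈ nonZeroDivisors (∀ j, A j) ↔ ∀ j, a j ≠ 0 := by
    intro a
    constructor
    · intro ha j h0
      have h1 : (Pi.single j (1 : A j) : ∀ j, A j) * a = 0 := by
        funext j'
        by_cases hj : j' = j
        · subst hj; simp [h0]
        · simp [hj]
      have h2 := (mem_nonZeroDivisors_iff_right.mp ha) _ h1
      have := congrFun h2 j
      simp at this
    · intro ha
      rw [mem_nonZeroDivisors_iff_right]
      intro z hz
      funext j
      have := congrFun hz j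
      simp only [Pi.mul_apply, Pi.zero_apply] at this
      exact (mul_eq_zero.mp this).resolve_right (ha j)
  refine ⟨?_, ?_, ?_⟩
  · intro y
    rw [Pi.isUnit_iff]
    intro j
    refine IsUnit.mk0 _ ?_
    change algebraMap (A j) (K j) ((y : ∀ j, A j) j) ≠ 0
    rw [Ne, IsFractionRing.to_map_eq_zero_iff]
    exact (hnzd _).mp y.2 j
  · intro z
    choose xs hxs using fun j => IsLocalization.surj (nonZeroDivisors (A j)) (z j)
    refine ⟨⟨fun j => (xs j).1, ⟨fun j => ((xs j).2 : A j), (hnzd _).mpr fun j =>
      nonZeroDivisors.ne_zero (xs j).2.2⟩⟩, ?_⟩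
    funext j
    exact hxs j
  · intro x y hxy
    refine ⟨1, ?_⟩
    rw [OneMemClass.coe_one, one_mul, one_mul]
    funext j
    exact IsFractionRing.injective (A j) (K j) (congrFun hxy j)

end Groth.Agent.S1968

namespace Groth.Agent.S1968

/-- Let (A_j) be a family of valuation rings with fraction fields K_j. Then every ideal of the product
ring Π A_j is a flat Π A_j-module (that is, Π A_j has weak dimension at most 1), and Π K_j is the
localization of Π A_j at its non-zero-divisors. -/
theorem result {J : Type u} (A : J → Type u) [∀ j, CommRing (A j)] [∀ j, IsDomain (A j)]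
    [∀ j, ValuationRing (A j)] (K : J → Type u) [∀ j, Field (K j)] [∀ j, Algebra (A j) (K j)]
    [∀ j, IsFractionRing (A j) (K j)] :
    (∀ I : Ideal (∀ j, A j), Module.Flat (∀ j, A j) I) ∧
      IsLocalization (nonZeroDivisors (∀ j, A j)) (∀ j, K j) := by
  exact ⟨fun I => flat_ideal A (fun j => ValuationRing.dvd_total) I, isLocalization_pi A K⟩

end Groth.Agent.S1968
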