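import Groth.Statements.S19681
-- import your own Groth.Agent.* helpers here
import Groth.Agent.Lib.Helper40.TorsorExact

set_option autoImplicit false
universe u
open CategoryTheory MonoidalCategory CartesianMonoidalCategory MonObj AlgebraicGeometry
open ChGrp

namespace Groth.Agent.S19681

/-- Let k be an algebraically closed field of characteristic zero, G and H affine group schemes of
finite type over k with i : H → G a homomorphism which is a closed immersion, and Z a reduced affine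
k-scheme of finite type with an action of H. Let Y, with its G-action and j : G × Z → Y, be the
balanced product G ×^H Z for the fppf topology (j is G-equivariant for left translation on the first
factor, a torsor for the twisted H-action h·(g, z) = (g i(h)⁻¹, h·z), with sections fppf-locally on
Y). Let c : Y' → Y be a closed immersion from a reduced scheme Y' with a G-action making c
equivariant (a closed G-invariant subvariety of Y). Then Y' is again a balanced product: there are a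
closed immersion c' : Z' → Z, an H-action on Z' for which c' is equivariant (a closed H-invariant
subscheme of Z), and a morphism j' : G × Z' → Y' with j' followed by c equal to G × c' followed by
j, such that j' makes Y' the balanced product G ×^H Z' for the fppf topology. (The source assumes G
and H reductive and defines G ×^H Z as the quotient (G × Z)//H, a principal H-bundle; here the
balanced product is taken in its torsor form and reductivity is not needed.) -/
theorem result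
    (k : Type u) [Field k] [IsAlgClosed k] [CharZero k]
    (G H Z Y Y' : Over (Spec (CommRingCat.of k))) [GrpObj G] [GrpObj H]
    [IsAffine G.left] [LocallyOfFiniteType G.hom] [IsAffine H.left] [LocallyOfFiniteType H.hom]
    (i : H ⟶ G) [IsMonHom i] [IsClosedImmersion i.left]
    [IsAffine Z.left] [LocallyOfFiniteType Z.hom] [IsReduced Z.left]
    (aZ : AlgGrp.Action H Z) (aY : AlgGrp.Action G Y) (j : G ⊗ Z ⟶ Y)
    (hY : ChGrp.IsBalProd Scheme.fppfPrecoverage i aZ aY j)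
    (c : Y' ⟶ Y) [IsClosedImmersion c.left] [IsReduced Y'.left]
    (aY' : AlgGrp.Action G Y') (hc : AlgGrp.Action.IsEquivariant aY' aY c) :
    ∃ (Z' : Over (Spec (CommRingCat.of k))) (c' : Z' ⟶ Z) (aZ' : AlgGrp.Action H Z') (j' : G ⊗ Z' ⟶ Y'),
      IsClosedImmersion c'.left ∧ AlgGrp.Action.IsEquivariant aZ' aZ c' ∧
      j' ≫ c = (G ◁ c') ≫ j ∧ ChGrp.IsBalProd Scheme.fppfPrecoverage i aZ' aY' j' := by
  have I : ∀ {T : Over _} (hh : T ⟶ H) (g : T ⟶ G) (z : T ⟶ Z),
      lift (g * (hh ≫ i)⁻¹) (lift hh z ≫ aZ.act) ≫ j = lift g z ≫ j := by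
    intro T hh g z
    calc lift (g * (hh ≫ i)⁻¹) (lift hh z ≫ aZ.act) ≫ j
        = (lift hh (lift g z) ≫ (twist i aZ).act) ≫ j := by rw [lift_twist_act]
      _ = lift hh (lift g z) ≫ snd H (G ⊗ Z) ≫ j := by rw [Category.assoc, hY.2.1.w]
      _ = lift g z ≫ j := by rw [lift_snd_assoc]
  have E : ∀ {T : Over _} (g0 g : T ⟶ G) (z : T ⟶ Z),
      lift g0 (lift g z ≫ j) ≫ aY.act = lift (g0 * g) z ≫ j := by
    intro T g0 g z
    have hE : ((NonAbH1.trivialAction G).prod (AlgGrp.Action.trivial G Z)).act ≫ j =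
        (G ◁ j) ≫ aY.act := hY.1
    have hL : lift g0 (lift g z) ≫
        ((NonAbH1.trivialAction G).prod (AlgGrp.Action.trivial G Z)).act = lift (g0 * g) z := by
      rw [AlgGrp.Action.lift_prod_act, AlgGrp.Action.lift_trivial_act]
      congr 1
    calc lift g0 (lift g z ≫ j) ≫ aY.act = lift g0 (lift g z) ≫ (G ◁ j) ≫ aY.act := by
          rw [lift_whiskerLeft_assoc]
      _ = lift g0 (lift g z) ≫
          ((NonAbH1.trivialAction G).prod (AlgGrp.Action.trivial G Z)).act ≫ j := by rw [← hE]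
      _ = lift (g0 * g) z ≫ j := by rw [← Category.assoc, hL]
  have Ec : ∀ {T : Over _} (g : T ⟶ G) (y' : T ⟶ Y'),
      (lift g y' ≫ aY'.act) ≫ c = lift g (y' ≫ c) ≫ aY.act := by
    intro T g y'
    have e : aY'.act ≫ c = (G ◁ c) ≫ aY.act := hc
    rw [Category.assoc, e, lift_whiskerLeft_assoc]
  have K : ∀ {T : Over _} (hh : T ⟶ H) (z : T ⟶ Z),
      lift (1 : T ⟶ G) (lift hh z ≫ aZ.act) ≫ j = lift (hh ≫ i) z ≫ j := by
    intro T hh z
    have key := I hh (hh ≫ i) z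
    rw [_root_.mul_inv_cancel] at key
    exact key
  obtain ⟨iota, hι⟩ : ∃ iota : Z ⟶ Y, ∀ {T : Over _} (z : T ⟶ Z),
      z ≫ iota = lift (1 : T ⟶ G) z ≫ j := by
    refine ⟨lift (toUnit Z ≫ η[G]) (𝟙 Z) ≫ j, ?_⟩
    intro T z
    rw [← Category.assoc, comp_lift, Category.comp_id, ← Category.assoc, comp_toUnit,
      Hom.one_def]
  obtain ⟨Z', c', pr, hsq⟩ : ∃ (Z' : Over _) (c' : Z' ⟶ Z) (pr : Z' ⟶ Y'),
      IsPullback c' pr iota c := ⟨_, _, _, IsPullback.of_hasPullback iota c⟩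
  haveI hmc : Mono c := by
    haveI : Mono ((Over.forget _).map c) := by
      show Mono c.left
      infer_instance
    exact (Over.forget _).mono_of_mono_map (f := c) inferInstance
  haveI hmc' : Mono c' := by
    refine ⟨fun {T} a b hab => ?_⟩
    apply hsq.hom_ext hab
    rw [← cancel_mono c, Category.assoc, Category.assoc, ← hsq.w, ← Category.assoc, hab,
      Category.assoc]
  have hcl : IsClosedImmersion c'.left := by
    have sqL : IsPullback pr.left c'.left c.left iota.left := (hsq.map (Over.forget _)).flip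
    exact MorphismProperty.of_isPullback (P := @IsClosedImmersion) sqL inferInstance
  have cond : ((H ◁ c') ≫ aZ.act) ≫ iota =
      (lift (fst H Z' ≫ i) (snd H Z' ≫ pr) ≫ aY'.act) ≫ c := by
    apply AlgGrp.Action.hom_ext_lift₂
    intro T hh z'
    have l1 : lift hh z' ≫ ((H ◁ c') ≫ aZ.act) ≫ iota = lift (hh ≫ i) (z' ≫ c') ≫ j := by
      calc lift hh z' ≫ ((H ◁ c') ≫ aZ.act) ≫ iota
          = (lift hh (z' ≫ c') ≫ aZ.act) ≫ iota := by
            rw [← lift_whiskerLeft]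
            simp only [Category.assoc]
        _ = lift (hh ≫ i) (z' ≫ c') ≫ j := by rw [hι, K]
    have e : (z' ≫ pr) ≫ c = (z' ≫ c') ≫ iota := by
      rw [Category.assoc, Category.assoc, hsq.w]
    have l2 : lift hh z' ≫ (lift (fst H Z' ≫ i) (snd H Z' ≫ pr) ≫ aY'.act) ≫ c =
        lift (hh ≫ i) (z' ≫ c') ≫ j := by
      calc lift hh z' ≫ (lift (fst H Z' ≫ i) (snd H Z' ≫ pr) ≫ aY'.act) ≫ c
          = (lift (hh ≫ i) (z' ≫ pr) ≫ aY'.act) ≫ c := by
            simp only [Category.assoc, comp_lift_assoc, lift_fst_assoc, lift_snd_assoc]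
        _ = lift (hh ≫ i) (lift (1 : T ⟶ G) (z' ≫ c') ≫ j) ≫ aY.act := by rw [Ec, e, hι]
        _ = lift (hh ≫ i) (z' ≫ c') ≫ j := by rw [E, _root_.mul_one]
    exact l1.trans l2.symm
  obtain ⟨act', hact1, hact2⟩ : ∃ act' : H ⊗ Z' ⟶ Z', act' ≫ c' = (H ◁ c') ≫ aZ.act ∧
      act' ≫ pr = lift (fst H Z' ≫ i) (snd H Z' ≫ pr) ≫ aY'.act :=
    ⟨hsq.lift _ _ cond, hsq.lift_fst _ _ _, hsq.lift_snd _ _ _⟩
  have A1 : ∀ {T : Over _} (hh : T ⟶ H) (z' : T ⟶ Z'),
      (lift hh z' ≫ act') ≫ c' = lift hh (z' ≫ c') ≫ aZ.act := by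
    intro T hh z'
    rw [Category.assoc, hact1, lift_whiskerLeft_assoc]
  obtain ⟨aZ', haZ'⟩ : ∃ aZ' : AlgGrp.Action H Z', aZ'.act = act' := by
    refine ⟨Groth.Agent.Lib.Helper40.TorsorExact.actionOfPts act' ?_ ?_, rfl⟩
    · intro T z'
      rw [← cancel_mono c', A1, AlgGrp.Action.lift_one_act]
    · intro T g hh z'
      rw [← cancel_mono c', A1, A1, A1, AlgGrp.Action.lift_mul_act]
  obtain ⟨j', hj'⟩ : ∃ j' : G ⊗ Z' ⟶ Y', ∀ {T : Over _} (g : T ⟶ G) (z' : T ⟶ Z'),
      lift g z' ≫ j' = lift g (z' ≫ pr) ≫ aY'.act :=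
    ⟨(G ◁ pr) ≫ aY'.act, fun g z' => by rw [lift_whiskerLeft_assoc]⟩
  have J : ∀ {T : Over _} (g : T ⟶ G) (z' : T ⟶ Z'),
      (lift g z' ≫ j') ≫ c = lift g (z' ≫ c') ≫ j := by
    intro T g z'
    have e : (z' ≫ pr) ≫ c = (z' ≫ c') ≫ iota := by
      rw [Category.assoc, Category.assoc, hsq.w]
    rw [hj', Ec, e, hι, E, _root_.mul_one]
  have hjc : j' ≫ c = (G ◁ c') ≫ j := by
    apply AlgGrp.Action.hom_ext_lift₂
    intro T g z'
    rw [← Category.assoc, J, lift_whiskerLeft_assoc]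
  have hequiv : AlgGrp.Action.IsEquivariant aZ' aZ c' := by
    unfold AlgGrp.Action.IsEquivariant
    rw [haZ']
    exact hact1
  have tw' : ∀ {T : Over _} (hh : T ⟶ H) (g : T ⟶ G) (z' : T ⟶ Z'),
      lift hh (lift g z') ≫ (twist i aZ').act = lift (g * (hh ≫ i)⁻¹) (lift hh z' ≫ act') := by
    intro T hh g z'
    rw [lift_twist_act, haZ']
  -- Part 1
  have part1 : AlgGrp.Action.IsEquivariant
      ((NonAbH1.trivialAction G).prod (AlgGrp.Action.trivial G Z')) aY' j' := by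
    unfold AlgGrp.Action.IsEquivariant
    apply AlgGrp.Action.hom_ext_lift₂
    intro T g0 p
    obtain ⟨g, hg⟩ : ∃ g : T ⟶ G, g = p ≫ fst G Z' := ⟨_, rfl⟩
    obtain ⟨z', hz'⟩ : ∃ z' : T ⟶ Z', z' = p ≫ snd G Z' := ⟨_, rfl⟩
    have hp : p = lift g z' := by rw [hg, hz', lift_comp_fst_snd]
    rw [hp]
    have hL : lift g0 (lift g z') ≫
        ((NonAbH1.trivialAction G).prod (AlgGrp.Action.trivial G Z')).act = lift (g0 * g) z' := by
      rw [AlgGrp.Action.lift_prod_act, AlgGrp.Action.lift_trivial_act]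
      congr 1
    calc lift g0 (lift g z') ≫
          ((NonAbH1.trivialAction G).prod (AlgGrp.Action.trivial G Z')).act ≫ j'
        = lift (g0 * g) z' ≫ j' := by rw [← Category.assoc, hL]
      _ = lift (g0 * g) (z' ≫ pr) ≫ aY'.act := hj' _ _
      _ = lift g0 (lift g (z' ≫ pr) ≫ aY'.act) ≫ aY'.act :=
          AlgGrp.Action.lift_mul_act _ _ _ _
      _ = lift g0 (lift g z' ≫ j') ≫ aY'.act := by rw [hj']
      _ = lift g0 (lift g z') ≫ (G ◁ j') ≫ aY'.act := by rw [lift_whiskerLeft_assoc]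
  -- Part 2
  have part2 : IsPullback (twist i aZ').act (snd H (G ⊗ Z')) j' j' := by
    have w : (twist i aZ').act ≫ j' = snd H (G ⊗ Z') ≫ j' := by
      rw [← cancel_mono c]
      apply AlgGrp.Action.hom_ext_lift₂
      intro T hh p
      obtain ⟨g, hg⟩ : ∃ g : T ⟶ G, g = p ≫ fst G Z' := ⟨_, rfl⟩
      obtain ⟨z', hz'⟩ : ∃ z' : T ⟶ Z', z' = p ≫ snd G Z' := ⟨_, rfl⟩
      have hp : p = lift g z' := by rw [hg, hz', lift_comp_fst_snd]
      rw [hp]
      have l1 : lift hh (lift g z') ≫ ((twist i aZ').act ≫ j') ≫ c =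
          lift g (z' ≫ c') ≫ j := by
        calc lift hh (lift g z') ≫ ((twist i aZ').act ≫ j') ≫ c
            = (lift (g * (hh ≫ i)⁻¹) (lift hh z' ≫ act') ≫ j') ≫ c := by
              rw [← tw']
              simp only [Category.assoc]
          _ = lift (g * (hh ≫ i)⁻¹) (lift hh (z' ≫ c') ≫ aZ.act) ≫ j := by rw [J, A1]
          _ = lift g (z' ≫ c') ≫ j := I hh g (z' ≫ c')
      have l2 : lift hh (lift g z') ≫ (snd H (G ⊗ Z') ≫ j') ≫ c =
          lift g (z' ≫ c') ≫ j := by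
        rw [Category.assoc, lift_snd_assoc, ← Category.assoc, J]
      exact l1.trans l2.symm
    refine Groth.Agent.Lib.Helper40.TorsorExact.isPullback_of_existsUnique w ?_
    intro W p1 p2 hp
    obtain ⟨g1, hg1⟩ : ∃ g1 : W ⟶ G, g1 = p1 ≫ fst G Z' := ⟨_, rfl⟩
    obtain ⟨z1, hz1⟩ : ∃ z1 : W ⟶ Z', z1 = p1 ≫ snd G Z' := ⟨_, rfl⟩
    obtain ⟨g2, hg2⟩ : ∃ g2 : W ⟶ G, g2 = p2 ≫ fst G Z' := ⟨_, rfl⟩
    obtain ⟨z2, hz2⟩ : ∃ z2 : W ⟶ Z', z2 = p2 ≫ snd G Z' := ⟨_, rfl⟩
    have hp1 : p1 = lift g1 z1 := by rw [hg1, hz1, lift_comp_fst_snd]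
    have hp2 : p2 = lift g2 z2 := by rw [hg2, hz2, lift_comp_fst_snd]
    have h12 : lift g1 (z1 ≫ c') ≫ j = lift g2 (z2 ≫ c') ≫ j := by
      rw [← J, ← J, ← hp1, ← hp2, hp]
    obtain ⟨k, hk1, hk2⟩ : ∃ k : W ⟶ H ⊗ (G ⊗ Z),
        k ≫ (twist i aZ).act = lift g1 (z1 ≫ c') ∧
          k ≫ snd H (G ⊗ Z) = lift g2 (z2 ≫ c') :=
      ⟨hY.2.1.lift _ _ h12, hY.2.1.lift_fst _ _ _, hY.2.1.lift_snd _ _ _⟩
    obtain ⟨hh, hhh⟩ : ∃ hh : W ⟶ H, hh = k ≫ fst H (G ⊗ Z) := ⟨_, rfl⟩
    have hk : k = lift hh (lift g2 (z2 ≫ c')) := by rw [hhh, ← hk2, lift_comp_fst_snd]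
    have hk1' := hk1
    rw [hk, lift_twist_act] at hk1'
    have hq : g2 * (hh ≫ i)⁻¹ = g1 := by
      have := congrArg (fun t => t ≫ fst G Z) hk1'
      simpa only [lift_fst] using this
    have hx : lift hh (z2 ≫ c') ≫ aZ.act = z1 ≫ c' := by
      have := congrArg (fun t => t ≫ snd G Z) hk1'
      simpa only [lift_snd] using this
    have hx' : lift hh z2 ≫ act' = z1 := by rw [← cancel_mono c', A1, hx]
    refine ⟨lift hh p2, ⟨?_, lift_snd _ _⟩, ?_⟩
    · rw [hp2, tw', hq, hx', ← hp1]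
    · rintro k' ⟨hk'1, hk'2⟩
      obtain ⟨hh', hhh'⟩ : ∃ hh' : W ⟶ H, hh' = k' ≫ fst H (G ⊗ Z') := ⟨_, rfl⟩
      have hk' : k' = lift hh' p2 := by rw [hhh', ← hk'2, lift_comp_fst_snd]
      have e0 : lift (g2 * (hh' ≫ i)⁻¹) (lift hh' z2 ≫ act') = lift g1 z1 := by
        rw [← tw', ← hp2, ← hk', hk'1, hp1]
      have e1 : g2 * (hh' ≫ i)⁻¹ = g1 := by
        have := congrArg (fun t => t ≫ fst G Z') e0
        simpa only [lift_fst] using this
      have e2 : lift hh' z2 ≫ act' = z1 := by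
        have := congrArg (fun t => t ≫ snd G Z') e0
        simpa only [lift_snd] using this
      have e3 : lift hh' (z2 ≫ c') ≫ aZ.act = z1 ≫ c' := by rw [← A1, e2]
      have e5 : lift hh' (lift g2 (z2 ≫ c')) = k := by
        apply hY.2.1.hom_ext
        · rw [lift_twist_act, e1, e3, hk1]
        · rw [lift_snd, hk2]
      have e6 : hh' = hh := by rw [hhh, ← e5, lift_fst]
      rw [hk', e6]
  -- Part 3
  have sect : ∀ (T : Over _) (v : T ⟶ Y') (t : T ⟶ G ⊗ Z), t ≫ j = v ≫ c →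
      ∃ s' : T ⟶ G ⊗ Z', s' ≫ j' = v := by
    intro T v t ht
    obtain ⟨g, hg⟩ : ∃ g : T ⟶ G, g = t ≫ fst G Z := ⟨_, rfl⟩
    obtain ⟨z, hz⟩ : ∃ z : T ⟶ Z, z = t ≫ snd G Z := ⟨_, rfl⟩
    have htd : t = lift g z := by rw [hg, hz, lift_comp_fst_snd]
    obtain ⟨y0, hy0⟩ : ∃ y0 : T ⟶ Y', y0 = lift g⁻¹ v ≫ aY'.act := ⟨_, rfl⟩
    have e1 : z ≫ iota = y0 ≫ c := by
      rw [hι, hy0, Ec, ← ht, htd, E, _root_.inv_mul_cancel]
    obtain ⟨z', hz'1, hz'2⟩ : ∃ z' : T ⟶ Z', z' ≫ c' = z ∧ z' ≫ pr = y0 :=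
      ⟨hsq.lift z y0 e1, hsq.lift_fst _ _ _, hsq.lift_snd _ _ _⟩
    refine ⟨lift g z', ?_⟩
    rw [hj', hz'2, hy0, ← AlgGrp.Action.lift_mul_act, _root_.mul_inv_cancel,
      AlgGrp.Action.lift_one_act]
  have part3 : NonAbH1.IsLocallyTrivialFor Scheme.fppfPrecoverage
      (Over.mk j'.left : Over Y'.left) := by
    have gen : ∀ {V0 : Scheme.{u}} (f : V0 ⟶ Y.left) (s : V0 ⟶ (G ⊗ Z).left), s ≫ j.left = f →
        ∃ s' : Limits.pullback f c.left ⟶ (G ⊗ Z').left,
          s' ≫ j'.left = Limits.pullback.snd f c.left := by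
      intro V0 f s hs'
      have e1 : s ≫ (G ⊗ Z).hom = f ≫ Y.hom := by
        have := Over.w j
        rw [← this, ← Category.assoc, hs']
      have hG : (Limits.pullback.fst f c.left ≫ s) ≫ (G ⊗ Z).hom =
          Limits.pullback.snd f c.left ≫ Y'.hom := by
        rw [Category.assoc, e1, ← Category.assoc, Limits.pullback.condition, Category.assoc,
          Over.w c]
      obtain ⟨s', hs'2⟩ := sect (Over.mk (Limits.pullback.snd f c.left ≫ Y'.hom))
        (Over.homMk (Limits.pullback.snd f c.left) rfl)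
        (Over.homMk (Limits.pullback.fst f c.left ≫ s) hG) (by
          apply Over.OverMorphism.ext
          show (Limits.pullback.fst f c.left ≫ s) ≫ j.left =
            Limits.pullback.snd f c.left ≫ c.left
          rw [Category.assoc, hs', Limits.pullback.condition])
      refine ⟨s'.left, ?_⟩
      have := congrArg (fun k => k.left) hs'2
      exact this
    obtain ⟨R, hR, hsec⟩ := hY.2.2
    refine ⟨R.pullbackArrows c.left, Precoverage.pullbackArrows_mem c.left hR, ?_⟩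
    rintro V' f' ⟨V0, f, hf⟩
    obtain ⟨s, hs⟩ := hsec f hf
    exact gen f s hs
  exact ⟨Z', c', aZ', j', hcl, hequiv, hjc, part1, part2, part3⟩

end Groth.Agent.S19681
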