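import Groth.Statements.S19696
import Groth.Agent.Lib.QCoh.Helper74_LocFreeSplit
import Groth.Agent.Lib.QCoh.Helper74_LocFreeLift
import Groth.Agent.S19695

set_option autoImplicit false
universe u
open CategoryTheory CategoryTheory.Limits AlgebraicGeometry Opposite
open FinCov
open Scheme.Modules FlatMod Groth.Agent.Lib.QCoh

namespace Groth.Agent.S19696

/-- Let X be a scheme, A a quasi-coherent O_X-algebra which is locally free of rank d as an O_X-module,
and τ : A → O_X its trace (the O_X-linear map which over every affine open where A is finite free is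
the trace of the regular representation). If d is invertible in O_X(X), then τ is a split
epimorphism of O_X-modules — so 0 → ker τ → A → O_X → 0 is split exact — and its kernel ker τ is
locally free of rank d − 1 as an O_X-module. -/
theorem result {X : Scheme.{u}}
    (A : RelSpec.QCAlg X) (d : ℕ) (hA : FlatMod.IsFinLocFreeOfRank d A.toModule)
    (τ : A.toModule ⟶ Coh.structureModule X) (hτ : FinCov.IsTrace A τ)
    (hd : IsUnit ((d : Γ(X, ⊤)))) :
    IsSplitEpi τ ∧ FlatMod.IsFinLocFreeOfRank (d - 1) (kernel τ) := by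
  obtain ⟨u, hu⟩ := hd
  let a : Γ(A.toModule, ⊤) := (A.str.app (op ⊤)).hom (↑u⁻¹ : Γ(X, ⊤))
  let σ : Coh.structureModule X ⟶ A.toModule := Lift74.unitHomOfTop A.toModule a
  have hσ : σ ≫ τ = 𝟙 _ := by
    apply Lift74.unitHom_ext
    rw [Hom.comp_app, ConcreteCategory.comp_apply, Lift74.unitHomOfTop_app_one]
    have h1 := congrArg (fun φ : Coh.structureModule X ⟶ Coh.structureModule X =>
      φ.app ⊤ (↑u⁻¹ : Γ(X, ⊤))) (Groth.Agent.S19695.result A d hA τ hτ)
    simp only [] at h1
    rw [nsmul_app_apply] at h1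
    change τ.app ⊤ a = d • (↑u⁻¹ : Γ(X, ⊤)) at h1
    rw [h1, nsmul_eq_mul, ← hu]
    change (u : Γ(X, ⊤)) * ↑u⁻¹ = 1
    exact u.mul_inv
  refine ⟨IsSplitEpi.mk' ⟨σ, hσ⟩, ?_⟩
  let e := biprodKernelIsoOfSplit τ σ hσ
  have hK : IsFinLocFree (kernel τ) :=
    isFinLocFree_of_retract
      { i := biprod.inr ≫ e.hom
        r := e.inv ≫ biprod.snd
        retract := by simp } (isFinLocFree_of_isFinLocFreeOfRank hA)
  exact isFinLocFreeOfRank_of_biprod_left (isFinLocFreeOfRank_structureModule X) hK
    (isFinLocFreeOfRank_of_iso e.symm hA)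

end Groth.Agent.S19696
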