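import Groth.Statements.S19698
import Groth.Agent.Lib.QCoh.Helper74_LocFreeBiprod
import Groth.Agent.Lib.QCoh.Helper50_BaseChange

set_option autoImplicit false
universe u
open CategoryTheory CategoryTheory.Limits AlgebraicGeometry Opposite
open FinCov

namespace Groth.Agent.S19698

/-- Let X be a scheme, L an invertible O_X-module, m : L ⊗ L → O_X a homomorphism of O_X-modules, and
(A, j : L → A) a quasi-coherent O_X-algebra presented as O_X ⊕ L with product given by m (over every
open, every section of A is uniquely s·1 + j(l), and j(l)·j(l') = m(l ⊗ l')·1). Then A is locally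
free of rank 2 as an O_X-module. (The classification of double covers is stated for schemes on which
2 is invertible; this assertion does not use that assumption, so it is not made here.) -/
theorem result {X : Scheme.{u}} (L : X.Modules) (hL : PicF.IsInvertible L)
    (m : CohB1.tensorMod L L ⟶ Coh.structureModule X) (A : RelSpec.QCAlg X) (j : L ⟶ A.toModule)
    (h : FinCov.IsDblAlg L m A j) : FlatMod.IsFinLocFreeOfRank 2 A.toModule := by
  let φ : Coh.structureModule X ⊞ L ⟶ A.toModule := biprod.desc (FinCov.strMod A) j
  have hφ : IsIso φ := by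
    refine Groth.Agent.Lib.QCoh.isIso_of_bijective_app_of_isBasis _ (fun U : X.Opens => U) ?_ fun U => ?_
    · rw [TopologicalSpace.Opens.isBasis_iff_nbhd]
      intro V x hx
      exact ⟨V, ⟨V, rfl⟩, hx, le_rfl⟩
    · have h1 := h.1 U
      have h2 := (Groth.Agent.Lib.QCoh.ΓbiprodLinearEquiv (Coh.structureModule X) L U).bijective
      have hfun : ⇑(ConcreteCategory.hom (φ.app U)) =
          (fun p : Γ(X, U) × L.val.obj (op U) => (A.str.app (op U)).hom p.1 +
            FinCov.toSec A ((j.val.app (op U)).hom p.2)) ∘
            ⇑(Groth.Agent.Lib.QCoh.ΓbiprodLinearEquiv (Coh.structureModule X) L U) := by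
        funext s
        exact Groth.Agent.Lib.QCoh.biprod_desc_app_apply U (FinCov.strMod A) j s
      rw [hfun]
      exact h1.comp h2
  have h1 : FlatMod.IsFinLocFreeOfRank (1 + 1) (Coh.structureModule X ⊞ L) :=
    Groth.Agent.Lib.QCoh.isFinLocFreeOfRank_biprod (Groth.Agent.Lib.QCoh.isFinLocFreeOfRank_structureModule X)
      (Groth.Agent.Lib.QCoh.isFinLocFreeOfRank_one_iff_isInvertible.2 hL)
  exact Groth.Agent.Lib.QCoh.isFinLocFreeOfRank_of_iso (asIso φ) h1

end Groth.Agent.S19698
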