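import Groth.Statements.S19700
import Groth.Agent.Lib.Helper55.FinCov.Dbl4

set_option autoImplicit false
universe u
open CategoryTheory CategoryTheory.Limits AlgebraicGeometry Opposite
open FinCov

namespace Groth.Agent.S19700

/-- Let X be a scheme with 2 invertible in O_X(X), L an invertible O_X-module, m : L ⊗ L → O_X a
homomorphism of O_X-modules, (A, j : L → A) a quasi-coherent O_X-algebra presented as O_X ⊕ L with
product given by m (every section of A is uniquely s·1 + j(l), and j(l)·j(l') = m(l ⊗ l')·1), and τ
: A → O_X the trace of A (the O_X-linear map which over every affine open where A is finite free is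
the trace of the regular representation; A is locally free of rank 2 here). Then for every open
subset U of X and every section a of A over U, τ(a) = 0 if and only if a lies in the image of j over
U: the kernel of the trace is exactly j(L). -/
theorem result {X : Scheme.{u}} (L : X.Modules) (hL : PicF.IsInvertible L)
    (m : CohB1.tensorMod L L ⟶ Coh.structureModule X) (A : RelSpec.QCAlg X) (j : L ⟶ A.toModule)
    (h : FinCov.IsDblAlg L m A j) (h2 : IsUnit (2 : Γ(X, ⊤)))
    (τ : A.toModule ⟶ Coh.structureModule X) (hτ : FinCov.IsTrace A τ)
    (U : X.Opens) (a : A.toModule.val.obj (op U)) :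
    (τ.val.app (op U)).hom a = 0 ↔ a ∈ Set.range (j.val.app (op U)).hom := by
  have hg := Groth.Agent.Lib.Helper55.FinCovDbl.global_trace L hL m A j h τ hτ U
  constructor
  · intro ha
    obtain ⟨⟨s, l⟩, hsl⟩ := (h.1 U).2 a
    simp only at hsl
    have h2U : IsUnit (2 : Γ(X, U)) := by
      have := h2.map (X.presheaf.map (homOfLE (le_top : U ≤ ⊤)).op).hom
      rwa [map_ofNat] at this
    let s' : X.ringCatSheaf.obj.obj (op U) := s
    let one' : A.toModule.val.obj (op U) := (1 : A.presheaf.obj (op U))
    have hstr : FinCov.toSec A (s' • one') = (A.str.app (op U)).hom s := mul_one _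
    have hτa : (τ.val.app (op U)).hom a = s * (2 : Γ(X, U)) := by
      rw [← hsl]
      have e1 := (τ.val.app (op U)).hom.map_add (s' • one') ((j.val.app (op U)).hom l)
      have e2 := (τ.val.app (op U)).hom.map_smul s' one'
      rw [e2] at e1
      have e3 := hg.1
      have e4 := hg.2 l
      rw [e4] at e1
      refine Eq.trans ?_ (e1.trans ?_)
      · exact congrArg (fun z => (τ.val.app (op U)).hom (z + (j.val.app (op U)).hom l)) hstr.symm
      · refine (add_zero (s' • (τ.val.app (op U)).hom one')).trans ?_
        exact congrArg (fun z : Γ(X, U) => s * z) e3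
    have hs0 : s = 0 := by
      have h5 : s * (2 : Γ(X, U)) = 0 := hτa.symm.trans ha
      exact (h2U.mul_left_eq_zero).1 h5
    refine ⟨l, ?_⟩
    rw [← hsl, hs0, map_zero, zero_add]
  · rintro ⟨l, rfl⟩
    exact hg.2 l

end Groth.Agent.S19700
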