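import Groth.Statements.S19703
import Groth.Agent.Lib.Helper60.AntiAffRigidity2
import Groth.Agent.Lib.Helper23.GrpImage
import Groth.Agent.S14578

set_option autoImplicit false
universe u
open CategoryTheory MonoidalCategory CartesianMonoidalCategory MonObj GrpObj AlgebraicGeometry CategoryTheory.Limits
open AlgGrp

namespace Groth.Agent.S19703

/-- Let k be a field, G an anti-affine algebraic group over k (smooth, of finite type, with O(G) = k), H
a connected k-group scheme of finite type and j : M → H its largest anti-affine closed subgroup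
scheme H_ant (O(M) = k and every anti-affine closed subgroup scheme of H factors through M). Then
every morphism of k-schemes f : G → H with f(e_G) = e_H factors through H_ant. -/
theorem result (k : Type u) [Field k]
    (G H : Over (Spec (CommRingCat.of k))) [GrpObj G] [Smooth G.hom] [QuasiCompact G.hom]
    (hG : Function.Bijective ((Scheme.ΓSpecIso (CommRingCat.of k)).inv ≫ G.hom.appTop).hom)
    [GrpObj H] [LocallyOfFiniteType H.hom] [QuasiCompact H.hom] [ConnectedSpace ↥H.left]
    (M : Over (Spec (CommRingCat.of k))) [GrpObj M] [LocallyOfFiniteType M.hom] [QuasiCompact M.hom] (j : M ⟶ H) [IsMonHom j] [IsClosedImmersion j.left]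
    (hM : Function.Bijective ((Scheme.ΓSpecIso (CommRingCat.of k)).inv ≫ M.hom.appTop).hom)
    (hMmax : ∀ (M₁ : Over (Spec (CommRingCat.of k))) [GrpObj M₁] [LocallyOfFiniteType M₁.hom] [QuasiCompact M₁.hom] (j₁ : M₁ ⟶ H) [IsMonHom j₁] [IsClosedImmersion j₁.left],
      Function.Bijective ((Scheme.ΓSpecIso (CommRingCat.of k)).inv ≫ M₁.hom.appTop).hom → ∃ g : M₁ ⟶ M, g ≫ j = j₁)
    (f : G ⟶ H) (hf : η[G] ≫ f = η[H]) :
    ∃ g : G ⟶ M, g ≫ j = f := by
  haveI hfhom : IsMonHom f := Groth.Agent.S14578.result k G H hG f hf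
  haveI : IsLocallyNoetherian G.left := LocallyOfFiniteType.isLocallyNoetherian G.hom
  haveI : CompactSpace G.left := (quasiCompact_iff_compactSpace G.hom).mp inferInstance
  haveI : IsNoetherian G.left := {}
  haveI : QuasiCompact f.left := inferInstance
  -- the scheme-theoretic image
  let K : Over (Spec (CommRingCat.of k)) := Over.mk (f.left.imageι ≫ H.hom)
  let i : K ⟶ H := Over.homMk f.left.imageι rfl
  let g : G ⟶ K := Over.homMk f.left.toImage (by
    show f.left.toImage ≫ f.left.imageι ≫ H.hom = G.hom
    rw [Scheme.Hom.toImage_imageι_assoc]; exact Over.w f)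
  have hgi : g ≫ i = f := by
    ext1; exact f.left.toImage_imageι
  haveI : IsClosedImmersion i.left := inferInstanceAs (IsClosedImmersion f.left.imageι)
  haveI : IsSchemeTheoreticallyDominant g.left :=
    ⟨Groth.Agent.Lib.Helper23.GrpImage.ker_toImage f.left⟩
  haveI : QuasiCompact g.left := inferInstanceAs (QuasiCompact f.left.toImage)
  obtain ⟨inst, hi, hg⟩ := Groth.Agent.Lib.Helper23.GrpImage.exists_grpObj f i g hgi
  haveI : LocallyOfFiniteType K.hom := by
    show LocallyOfFiniteType (f.left.imageι ≫ H.hom); infer_instance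
  haveI : QuasiCompact K.hom := by
    show QuasiCompact (f.left.imageι ≫ H.hom); infer_instance
  -- O(K) = k
  have hinj : Function.Injective g.left.appTop.hom := g.left.app_injective ⊤
  have hw : g.left ≫ K.hom = G.hom := Over.w g
  have hcomp : (Scheme.ΓSpecIso (CommRingCat.of k)).inv ≫ G.hom.appTop =
      ((Scheme.ΓSpecIso (CommRingCat.of k)).inv ≫ K.hom.appTop) ≫ g.left.appTop := by
    rw [← hw, Scheme.Hom.comp_appTop, Category.assoc]
  have hcomp' : ∀ x, ((Scheme.ΓSpecIso (CommRingCat.of k)).inv ≫ G.hom.appTop).hom x =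
      g.left.appTop.hom (((Scheme.ΓSpecIso (CommRingCat.of k)).inv ≫ K.hom.appTop).hom x) := by
    intro x
    rw [hcomp]; rfl
  have hK : Function.Bijective ((Scheme.ΓSpecIso (CommRingCat.of k)).inv ≫ K.hom.appTop).hom := by
    constructor
    · intro x y hxy
      apply hG.1
      rw [hcomp', hcomp', hxy]
    · intro y
      obtain ⟨l, hl⟩ := hG.2 (g.left.appTop.hom y)
      refine ⟨l, hinj ?_⟩
      rw [← hl, hcomp']
  obtain ⟨g', hg'⟩ := @hMmax K inst _ _ i hi _ hK
  exact ⟨g ≫ g', by rw [Category.assoc, hg', hgi]⟩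

end Groth.Agent.S19703
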