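import Groth.Statements.S1971
import Groth.Agent.Lib.Helper10.HenselRadical
-- import your own Groth.Agent.* helpers here

set_option autoImplicit false
universe u
open EtAlg

namespace Groth.Agent.S1971

open Groth.Agent.Lib.Helper10 in
/-- One direction, for ideals with the same radical. -/
theorem isPairHenselization_of_radical_eq (A : Type u) [CommRing A] (I J : Ideal A)
    (h : I.radical = J.radical) (B : Type u) [CommRing B] [Algebra A B]
    (hB : Hens2.IsPairHenselization A I B) : Hens2.IsPairHenselization A J B := by
  have hmap : ∀ {C : Type u} [CommRing C] (f : A →+* C),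
      (I.map f).radical = (J.map f).radical := by
    intro C _ f
    have key : ∀ {K K' : Ideal A}, K.radical = K'.radical → (K.map f).radical ≤ (K'.map f).radical := by
      intro K K' hKK'
      apply Ideal.radical_le_radical_iff.2
      calc K.map f ≤ (K.radical).map f := Ideal.map_mono Ideal.le_radical
        _ = (K'.radical).map f := by rw [hKK']
        _ ≤ (K'.map f).radical := Ideal.map_radical_le f
    exact le_antisymm (key h) (key h.symm)
  refine ⟨(henselianRing_iff_of_radical_eq (hmap (algebraMap A B))).1 hB.1, ?_⟩
  intro C _ J' f hC hJ'
  have hC' : HenselianRing C J'.radical :=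
    henselianRing_of_le_radical Ideal.le_radical le_rfl hC
  apply hB.2 C J'.radical f hC'
  calc I.map f ≤ (I.map f).radical := Ideal.le_radical
    _ = (J.map f).radical := hmap f
    _ ≤ J'.radical := Ideal.radical_mono hJ'

/-- Let A be a ring with ideals I and J having the same zero locus in Spec A. Then an A-algebra is a
henselization of the pair (A, I) if and only if it is a henselization of the pair (A, J). -/
theorem result (A : Type u) [CommRing A] (I J : Ideal A)
    (h : PrimeSpectrum.zeroLocus (I : Set A) = PrimeSpectrum.zeroLocus (J : Set A)) (B : Type u) [CommRing B] [Algebra A B] :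
    Hens2.IsPairHenselization A I B ↔ Hens2.IsPairHenselization A J B := by
  have hrad : I.radical = J.radical := by
    rw [← PrimeSpectrum.vanishingIdeal_zeroLocus_eq_radical,
      ← PrimeSpectrum.vanishingIdeal_zeroLocus_eq_radical, h]
  exact ⟨isPairHenselization_of_radical_eq A I J hrad B,
    isPairHenselization_of_radical_eq A J I hrad.symm B⟩

end Groth.Agent.S1971
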