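import Groth.Statements.S19710
import Mathlib
import Groth.Agent.Lib.Helper91.Extremal

set_option autoImplicit false
open FunFld

namespace Groth.Agent.S19710

/-- Let `k` be an algebraically closed field of characteristic zero. A `g^r_d` on a function field `K/k`
of one variable is a divisor `D` of degree `d` with a subspace `V ⊆ L(D)` of dimension `r + 1`;
`V(-nP) = V ∩ L(D - nP)`, and the `i`-th vanishing order `m_i(V, P)` (`m_0 < ⋯ < m_r`) equals `m`
exactly when `dim V(-mP) = r + 1 - i` and `dim V(-(m+1)P) = r - i`. Let `K_Y` have genus `0` and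
carry a `g^r_d` `(D_Y, V_Y)` with at least a cusp at a place `Q_Y` (`dim V_Y(-2Q_Y) ≥ r`); let
`(D_Z, V_Z)` be a `g^r_d` on a second function field `K_Z`, compatible with `(D_Y, V_Y)` at a node
formed by a place `P ≠ Q_Y` of `K_Y` and a place `Q` of `K_Z` (`dim V_Y(-nP) + dim V_Z(-(d+1-n)Q) =
r + 1` for `0 ≤ n ≤ d + 1`), and let `P'` be a place of `K_Y` different from `P` and from `Q_Y`.
Then `m_i(V_Y, P') < m_i(V_Z, Q)` for all but at most one index: the set of `i ≤ r` for which the
`i`-th vanishing order of `V_Y` at `P'` equals the `i`-th vanishing order of `V_Z` at `Q` has at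
most one element. (In the source `Q_Y` is the point where the rational component `Y` meets a chain
of curves ending in a curve of positive genus, which forces the cusp condition assumed here; the
source works over the complex numbers.) -/
theorem result
    (k : Type*) [Field k] [IsAlgClosed k] [CharZero k]
    (KY : Type*) [Field KY] [Algebra k KY] (hKY : FunFld.IsFunctionField k KY) (hg0 : FunFld.genus k KY = 0)
    (KZ : Type*) [Field KZ] [Algebra k KZ] (hKZ : FunFld.IsFunctionField k KZ)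
    (d r : ℕ) (DY : FunFld.Divisor k KY) (hDY : DY.deg = d) (DZ : FunFld.Divisor k KZ) (hDZ : DZ.deg = d)
    (VY : Submodule k KY) (hVY : VY ≤ FunFld.L DY) (hVYr : Module.finrank k ↥VY = r + 1)
    (VZ : Submodule k KZ) (hVZ : VZ ≤ FunFld.L DZ) (hVZr : Module.finrank k ↥VZ = r + 1)
    (QY : FunFld.Place k KY) (hcusp : r ≤ Module.finrank k ↥(VY ⊓ FunFld.L (DY - Finsupp.single QY ((2 : ℤ)))))
    (P : FunFld.Place k KY) (hP : P ≠ QY) (Q : FunFld.Place k KZ)
    (hcomp : ∀ n : ℕ, n ≤ d + 1 →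
      Module.finrank k ↥(VY ⊓ FunFld.L (DY - Finsupp.single P ((n : ℤ)))) + Module.finrank k ↥(VZ ⊓ FunFld.L (DZ - Finsupp.single Q ((d : ℤ) + 1 - n))) = r + 1)
    (P' : FunFld.Place k KY) (hP'P : P' ≠ P) (hP'Q : P' ≠ QY) :
    {i : ℕ | i ≤ r ∧ ∃ m : ℕ,
        Module.finrank k ↥(VY ⊓ FunFld.L (DY - Finsupp.single P' ((m : ℤ)))) = r + 1 - i ∧
        Module.finrank k ↥(VY ⊓ FunFld.L (DY - Finsupp.single P' ((m : ℤ) + 1))) = r - i ∧
        Module.finrank k ↥(VZ ⊓ FunFld.L (DZ - Finsupp.single Q ((m : ℤ)))) = r + 1 - i ∧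
        Module.finrank k ↥(VZ ⊓ FunFld.L (DZ - Finsupp.single Q ((m : ℤ) + 1))) = r - i}.Subsingleton := by
  classical
  open FunFld Module Groth.Agent.Lib.Helper55 Groth.Agent.Lib.Helper91.LimLin in
  -- each index in the set gives an extremal `m`
  have key : ∀ (i m : ℕ), i ≤ r →
      finrank k ↥(VY ⊓ L (DY - Finsupp.single P' ((m : ℤ)))) = r + 1 - i →
      finrank k ↥(VZ ⊓ L (DZ - Finsupp.single Q ((m : ℤ) + 1))) = r - i →
      m ≤ d ∧ finrank k ↥(VY ⊓ L (DY - Finsupp.single P' (m : ℤ))) +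
        finrank k ↥(VY ⊓ L (DY - Finsupp.single P ((d - m : ℕ) : ℤ))) = r + 2 := by
    intro i m hi ha hc
    have hmd : m ≤ d := by
      by_contra hlt
      have hneg : (DY - Finsupp.single P' (m : ℤ)).deg < 0 := by
        rw [ff_deg_sub, ff_deg_single, hDY, ff_deg_eq_one_of_isAlgClosed hKY P']
        push_cast
        omega
      rw [ff_L_eq_bot_of_deg_neg hKY _ hneg, inf_bot_eq, finrank_bot] at ha
      omega
    refine ⟨hmd, ?_⟩
    have h1 := hcomp (d - m) (by omega)
    have e : ((d : ℤ) + 1 - ((d - m : ℕ) : ℤ)) = (m : ℤ) + 1 := by omega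
    rw [e, hc] at h1
    omega
  rintro i ⟨hi, m, ha, _, _, hc⟩ i' ⟨hi', m', ha', _, _, hc'⟩
  obtain ⟨hm, he⟩ := key i m hi ha hc
  obtain ⟨hm', he'⟩ := key i' m' hi' ha' hc'
  have hmm : m = m' := extremal_unique hKY hg0 d r DY hDY VY hVYr P' P hP'P QY hP'Q hP hcusp
    m m' hm hm' he he'
  subst hmm
  rw [ha] at ha'
  omega

end Groth.Agent.S19710
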