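import Groth.Statements.S19711
import Mathlib.RingTheory.Spectrum.Prime.FreeLocus
import Mathlib.Algebra.Module.LocalizedModule.Submodule
import Mathlib.RingTheory.Spectrum.Prime.Topology

set_option autoImplicit false
universe u
open CategoryTheory
open Coh

namespace Groth.Agent.S19711

section aux

open Submodule in
/-- If the localization of `M ⧸ N` at `S` is projective, then `N ∩ I M ⊆ I N` up to a multiplier in `S`. -/
lemma exists_smul_mem_smul_of_projective {R : Type*} [CommRing R] {M : Type*} [AddCommGroup M]
    [Module R M] (N : Submodule R M) (S : Submonoid R) (I : Ideal R)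
    [Module.Projective (Localization S) (LocalizedModule S (M ⧸ N))]
    (x : M) (hxN : x ∈ N) (hxI : x ∈ I • (⊤ : Submodule R M)) :
    ∃ t ∈ S, t • x ∈ I • N := by
  let f := LocalizedModule.mkLinearMap S M
  let f' := LocalizedModule.mkLinearMap S (M ⧸ N)
  let π₀ : LocalizedModule S M →ₗ[R] LocalizedModule S (M ⧸ N) :=
    IsLocalizedModule.map S f f' N.mkQ
  let π : LocalizedModule S M →ₗ[Localization S] LocalizedModule S (M ⧸ N) :=
    π₀.extendScalarsOfIsLocalization S (Localization S)
  have hπ : Function.Surjective π :=
    IsLocalizedModule.map_surjective S f f' N.mkQ N.mkQ_surjective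
  obtain ⟨σ, hσ⟩ := Module.projective_lifting_property π LinearMap.id hπ
  have hσ' : ∀ q, π (σ q) = q := fun q => LinearMap.congr_fun hσ q
  let ρ : LocalizedModule S M →ₗ[Localization S] LocalizedModule S M :=
    LinearMap.id - σ ∘ₗ π
  have hρ : ∀ y, ρ y = y - σ (π y) := fun y => rfl
  have hρ_ker : ∀ y, π (ρ y) = 0 := by
    intro y
    rw [hρ, map_sub, hσ', sub_self]
  have hker : ∀ y, π y = 0 → y ∈ N.localized₀ S f := by
    intro y hy
    have := LinearMap.ker_localizedMap_eq_localized₀_ker S f f' N.mkQ
    rw [Submodule.ker_mkQ] at this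
    rw [← this]
    exact hy
  have claim : ∀ y ∈ I • (⊤ : Submodule R M), ρ (f y) ∈ (I • N).localized₀ S f := by
    intro y hy
    refine Submodule.smul_induction_on hy ?_ ?_
    · intro a ha m _
      have h1 : ρ (f m) ∈ N.localized₀ S f := hker _ (hρ_ker _)
      rw [Submodule.mem_localized₀] at h1 ⊢
      obtain ⟨n, hn, s, hs⟩ := h1
      refine ⟨a • n, Submodule.smul_mem_smul ha hn, s, ?_⟩
      rw [map_smul f, LinearMap.map_smul_of_tower ρ a, ← hs, IsLocalizedModule.mk'_smul]
    · intro y z hy hz
      rw [map_add, map_add]
      exact add_mem hy hz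
  have hx1 : ρ (f x) = f x := by
    have h0 : π (f x) = 0 := by
      change IsLocalizedModule.map S f f' N.mkQ (f x) = 0
      rw [IsLocalizedModule.map_apply]
      have : N.mkQ x = 0 := (Submodule.Quotient.mk_eq_zero N).2 hxN
      rw [this, map_zero]
    rw [hρ, h0, map_zero, sub_zero]
  have hfin := claim x hxI
  rw [hx1, Submodule.mem_localized₀] at hfin
  obtain ⟨w, hw, s, hs⟩ := hfin
  rw [IsLocalizedModule.mk'_eq_iff] at hs
  have hs' : f w = f ((s : R) • x) := by rw [hs, map_smul, Submonoid.smul_def]
  obtain ⟨c, hc⟩ := (IsLocalizedModule.eq_iff_exists S f).1 hs'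
  refine ⟨c * s, (c * s).2, ?_⟩
  have : ((c : R) * (s : R)) • x = (c : R) • w := by
    rw [mul_smul]
    rw [Submonoid.smul_def, Submonoid.smul_def] at hc
    exact hc.symm
  change ((c : R) * (s : R)) • x ∈ I • N
  rw [this]
  exact Submodule.smul_mem _ _ hw

end aux

/-- Let A be a Noetherian integral domain and F an A-linear additive functor from A-modules to A-modules
with F(A) a finitely generated A-module. Call such a functor generically injective when there is a
dense open subset U of Spec A such that for every point u of U whose residue field κ(u) is a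
finitely generated A-algebra the comparison map F(A) ⊗_A κ(u) → F(κ(u)) is injective; since F is
A-linear this injectivity says: every m in F(A) whose image under F(A → κ(u)) vanishes satisfies s·m
∈ u·F(A) for some s outside u. If F is generically injective then so is every A-linear additive
subfunctor K ⊆ F (a natural transformation K → F with injective components). (The published
statement is over a reduced Noetherian affine scheme, for additive functors on quasi-coherent
sheaves with values in abelian groups and the induced A-action, assumes F weakly bounded (F(A/p)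
finitely generated for every prime ideal p) and also records that K is again weakly bounded; only
the finite generation of F(A), which its argument uses, is assumed here, and the integral case with
A-linear functors stated here is the one its argument by generic flatness treats.) -/
theorem result {A : Type u} [CommRing A] [IsNoetherianRing A] [IsDomain A]
    (F K : ModuleCat.{u} A ⥤ ModuleCat.{u} A) [F.Additive] [F.Linear A] [K.Additive] [K.Linear A]
    (ι : K ⟶ F) (hι : ∀ X : ModuleCat.{u} A, Function.Injective (ι.app X).hom)
    (hfin : Module.Finite A (F.obj (ModuleCat.of A A)))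
    (hGI : ∃ U : Set (PrimeSpectrum A), IsOpen U ∧ Dense U ∧ ∀ u ∈ U, Algebra.FiniteType A u.asIdeal.ResidueField →
        ∀ m : F.obj (ModuleCat.of A A),
          (F.map (ModuleCat.ofHom (Algebra.linearMap A u.asIdeal.ResidueField))).hom m = 0 →
            ∃ s ∉ u.asIdeal, s • m ∈ u.asIdeal • (⊤ : Submodule A (F.obj (ModuleCat.of A A)))) :
    ∃ U : Set (PrimeSpectrum A), IsOpen U ∧ Dense U ∧ ∀ u ∈ U, Algebra.FiniteType A u.asIdeal.ResidueField →
        ∀ m : K.obj (ModuleCat.of A A),
          (K.map (ModuleCat.ofHom (Algebra.linearMap A u.asIdeal.ResidueField))).hom m = 0 →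
            ∃ s ∉ u.asIdeal, s • m ∈ u.asIdeal • (⊤ : Submodule A (K.obj (ModuleCat.of A A))) := by
  obtain ⟨U, hUo, hUd, hU⟩ := hGI
  let N : Submodule A (F.obj (ModuleCat.of A A)) := LinearMap.range (ι.app (ModuleCat.of A A)).hom
  have : Module.Finite A (F.obj (ModuleCat.of A A)) := hfin
  have : Module.FinitePresentation A (F.obj (ModuleCat.of A A) ⧸ N) :=
    Module.finitePresentation_of_finite A _
  have hVo : IsOpen (Module.freeLocus A (F.obj (ModuleCat.of A A) ⧸ N)) := Module.isOpen_freeLocus
  have hVne : (Module.freeLocus A (F.obj (ModuleCat.of A A) ⧸ N)).Nonempty := by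
    refine ⟨⟨⊥, Ideal.isPrime_bot⟩, ?_⟩
    have : IsLocalization.AtPrime (FractionRing A) (⊥ : Ideal A) := by
      unfold IsLocalization.AtPrime
      rw [Ideal.primeCompl_bot]
      infer_instance
    rw [Module.mem_freeLocus_iff_tensor _ (FractionRing A)]
    infer_instance
  have hUne : U.Nonempty := hUd.nonempty
  refine ⟨U ∩ Module.freeLocus A (F.obj (ModuleCat.of A A) ⧸ N), hUo.inter hVo, ?_, ?_⟩
  · apply IsOpen.dense (hUo.inter hVo)
    exact nonempty_preirreducible_inter hUo hVo hUne hVne
  · rintro u ⟨huU, huV⟩ hft m hm
    have hnat := congrArg (fun k => k.hom m)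
      (ι.naturality (ModuleCat.ofHom (Algebra.linearMap A u.asIdeal.ResidueField)))
    simp only [ModuleCat.hom_comp, LinearMap.comp_apply] at hnat
    obtain ⟨s, hs, hsm⟩ := hU u huU hft ((ι.app (ModuleCat.of A A)).hom m)
      (by rw [← hnat, hm, map_zero])
    have : Module.Projective (Localization u.asIdeal.primeCompl)
        (LocalizedModule u.asIdeal.primeCompl (F.obj (ModuleCat.of A A) ⧸ N)) := by
      have : Module.Free (Localization.AtPrime u.asIdeal)
        (LocalizedModule u.asIdeal.primeCompl (F.obj (ModuleCat.of A A) ⧸ N)) := huV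
      infer_instance
    obtain ⟨t, ht, htx⟩ := exists_smul_mem_smul_of_projective N u.asIdeal.primeCompl u.asIdeal
      (s • (ι.app (ModuleCat.of A A)).hom m) (N.smul_mem s ⟨m, rfl⟩) hsm
    refine ⟨t * s, fun h => ?_, ?_⟩
    · rcases u.2.mem_or_mem h with h' | h'
      · exact ht h'
      · exact hs h'
    · have hN : N = Submodule.map (ι.app (ModuleCat.of A A)).hom ⊤ := (Submodule.map_top _).symm
      rw [hN, ← Submodule.map_smul''] at htx
      obtain ⟨y, hy, hyx⟩ := htx
      have : y = (t * s) • m := hι _ (by rw [hyx, map_smul, mul_smul])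
      rw [← this]
      exact hy

end Groth.Agent.S19711
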