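import Groth.Statements.S19741
import Mathlib

set_option autoImplicit false
universe w u
open EssDim

set_option linter.style.haveILetI false
open CategoryTheory AlgebraicGeometry Opposite

namespace Groth.Agent.S19741

open IntermediateField in
theorem trdeg_adjoin_le (k K L : Type u) [Field k] [Field K] [Field L] [Algebra k K] [Algebra K L]
    [Algebra k L] [IsScalarTower k K L] (E : IntermediateField k L) :
    Algebra.trdeg K (IntermediateField.adjoin K (E : Set L)) ≤ Algebra.trdeg k E := by
  classical
  obtain ⟨s, hs⟩ := exists_isTranscendenceBasis k E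
  let F := IntermediateField.adjoin K (E : Set L)
  -- inclusion E → F as a k-algebra hom
  let j : E →ₐ[k] F :=
    { toFun := fun e => ⟨e.1, IntermediateField.subset_adjoin K _ e.2⟩
      map_one' := rfl
      map_mul' := fun _ _ => rfl
      map_zero' := rfl
      map_add' := fun _ _ => rfl
      commutes' := fun r => by
        apply Subtype.ext
        rfl }
  have hj : ∀ e : E, ((j e : F) : L) = (e : L) := fun _ => rfl
  let t : Set F := j '' s
  let M' : IntermediateField K F := IntermediateField.adjoin K t
  have ht : Cardinal.mk t ≤ Cardinal.mk s := Cardinal.mk_image_le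
  have hsE : Cardinal.mk s = Algebra.trdeg k E := hs.cardinalMk_eq_trdeg
  -- Step 1
  have step1 : ∀ e : E, IsAlgebraic M' (j e) := by
    intro e
    have halg := hs.isAlgebraic_field
    let N : IntermediateField k E := IntermediateField.adjoin k (Set.range (Subtype.val : s → E))
    have hN : N ≤ (M'.restrictScalars k).comap j := by
      rw [IntermediateField.adjoin_le_iff]
      rintro _ ⟨x, rfl⟩
      change j x.1 ∈ M'
      exact IntermediateField.subset_adjoin K _ ⟨x.1, x.2, rfl⟩
    let f : N →+* M' := RingHom.codRestrict ((j : E →+* F).comp (algebraMap N E)) M'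
      (fun n => hN n.2)
    have := (halg.isAlgebraic e).ringHom_of_comp_eq f (j : E →+* F) f.injective (by
      ext n
      rfl)
    exact this
  -- Step 2
  have step2 : Algebra.IsAlgebraic M' F := by
    let C : IntermediateField K F := (algebraicClosure M' F).restrictScalars K
    have hFC : F ≤ C.map F.val := by
      change IntermediateField.adjoin K (E : Set L) ≤ _
      rw [IntermediateField.adjoin_le_iff]
      intro x hx
      refine ⟨j ⟨x, hx⟩, ?_, rfl⟩
      change j ⟨x, hx⟩ ∈ algebraicClosure M' F
      rw [mem_algebraicClosure_iff]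
      exact step1 ⟨x, hx⟩
    refine ⟨fun x => ?_⟩
    obtain ⟨y, hy, hyx⟩ := hFC x.2
    have : y = x := Subtype.ext hyx
    subst this
    exact (mem_algebraicClosure_iff).1 hy
  -- Step 3
  have step3 : Algebra.IsAlgebraic (Algebra.adjoin K t) F :=
    IntermediateField.isAlgebraic_adjoin_iff_top.1 step2
  calc Algebra.trdeg K F ≤ Cardinal.mk t := Algebra.IsAlgebraic.trdeg_le_cardinalMk K t
    _ ≤ Cardinal.mk s := ht
    _ = Algebra.trdeg k E := hsE


section
variable (k : Type u) [Field k] (K : Type u) [Field K] [Algebra k K]

/-- comparison iso -/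
noncomputable def eIso (M : Type u) [Field M] [Algebra K M] [Algebra k M] [IsScalarTower k K M] :
    (Over.map (Spec.map (CommRingCat.ofHom (algebraMap k K)))).obj (SGA7.pt (K := K) M) ≅
      SGA7.pt (K := k) M :=
  Over.isoMk (Iso.refl _) (by
    simp only [Iso.refl_hom, Category.id_comp]
    change _ = Spec.map _ ≫ Spec.map _
    rw [← Spec.map_comp, ← CommRingCat.ofHom_comp, ← IsScalarTower.algebraMap_eq k K M]
    rfl)

theorem main (P : (Over (Spec (CommRingCat.of k)))ᵒᵖ ⥤ Type w) :
    EssDim.ed (k := K) ((Over.map (Spec.map (CommRingCat.ofHom (algebraMap k K)))).op ⋙ P) ≤ EssDim.ed P := by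
  refine iSup_le fun L => iSup_le fun _ => iSup_le fun _ => iSup_le fun ξ => ?_
  letI : Algebra k L := ((algebraMap K L).comp (algebraMap k K)).toAlgebra
  haveI : IsScalarTower k K L := IsScalarTower.of_algebraMap_eq (fun _ => rfl)
  let ξ' : FPt P L := P.map (eIso k K L).inv.op ξ
  refine le_trans ?_ (edAt_le_ed ξ')
  rw [WithBot.coe_le_coe]
  refine le_iInf ?_
  rintro ⟨E, ξ₀', hξ₀'⟩
  let F : IntermediateField K L := IntermediateField.adjoin K (E : Set L)
  let j : E →ₐ[k] F :=
    { toFun := fun e => ⟨e.1, IntermediateField.subset_adjoin K _ e.2⟩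
      map_one' := rfl
      map_mul' := fun _ _ => rfl
      map_zero' := rfl
      map_add' := fun _ _ => rfl
      commutes' := fun r => by
        apply Subtype.ext
        rfl }
  have hdesc : Descends ((Over.map (Spec.map (CommRingCat.ofHom (algebraMap k K)))).op ⋙ P) ξ F := by
    refine ⟨P.map (eIso k K F).hom.op (P.map (resPt j).op ξ₀'), ?_⟩
    have hcomp : (Over.map (Spec.map (CommRingCat.ofHom (algebraMap k K)))).map (resPt F.val) ≫
        (eIso k K F).hom ≫ resPt j = (eIso k K L).hom ≫ resPt E.val := by
      ext : 1
      simp only [eIso, Over.comp_left, Over.map_map_left, resPt_left, Over.isoMk_hom_left,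
        Iso.refl_hom, Category.id_comp]
      rw [← Spec.map_comp, ← CommRingCat.ofHom_comp]
      rfl
    change P.map ((Over.map _).map (resPt F.val)).op (P.map (eIso k K F).hom.op (P.map (resPt j).op ξ₀')) = ξ
    have h1 : P.map ((Over.map (Spec.map (CommRingCat.ofHom (algebraMap k K)))).map (resPt F.val)).op
        (P.map (eIso k K F).hom.op (P.map (resPt j).op ξ₀')) =
        P.map ((Over.map (Spec.map (CommRingCat.ofHom (algebraMap k K)))).map (resPt F.val) ≫
        (eIso k K F).hom ≫ resPt j).op ξ₀' := by
      simp only [op_comp, P.map_comp]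
      rfl
    rw [h1, hcomp]
    have h2 : P.map ((eIso k K L).hom ≫ resPt E.val).op ξ₀' =
        P.map (eIso k K L).hom.op (P.map (resPt E.val).op ξ₀') := by
      simp only [op_comp, P.map_comp]
      rfl
    rw [h2]
    have h3 : P.map (resPt E.val).op ξ₀' = ξ' := hξ₀'
    rw [h3]
    change P.map (eIso k K L).hom.op (P.map (eIso k K L).inv.op ξ) = ξ
    have h4 : P.map (eIso k K L).hom.op (P.map (eIso k K L).inv.op ξ) =
        P.map ((eIso k K L).hom ≫ (eIso k K L).inv).op ξ := by
      simp only [op_comp, P.map_comp]
      rfl
    rw [h4, Iso.hom_inv_id, op_id, P.map_id]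
    rfl
  refine le_trans (edAt_le_of_descends hdesc) ?_
  exact OrderHomClass.mono Cardinal.toENat (trdeg_adjoin_le k K L E)

end


end Groth.Agent.S19741

namespace Groth.Agent.S19741

open CategoryTheory AlgebraicGeometry in
/-- For a field extension `K` of `k` and a presheaf of sets `P` on schemes over `k`, restrict `P` to
schemes over `K` by viewing a scheme over `Spec K` as a scheme over `Spec k`; then the essential
dimension over `K` of the restricted presheaf is at most the essential dimension of `P` over `k`.
(The source states this for an algebraic stack over `k` and its base change to `K`, through the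
presheaf of isomorphism classes of objects, whose restriction to schemes over `K` is the presheaf of
classes of the base-changed stack; the inequality is stated here for an arbitrary presheaf, which is
what the argument with composita of fields of definition gives.) -/
theorem result (k : Type u) [Field k] (K : Type u) [Field K] [Algebra k K]
    (P : (Over (Spec (CommRingCat.of k)))ᵒᵖ ⥤ Type w) :
    EssDim.ed (k := K) ((Over.map (Spec.map (CommRingCat.ofHom (algebraMap k K)))).op ⋙ P) ≤ EssDim.ed P := by

  exact Groth.Agent.S19741.main k K P

end Groth.Agent.S19741
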