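import Groth.Statements.S19748
-- import your own Groth.Agent.* helpers here

set_option autoImplicit false
universe u
open scoped TensorProduct
open GrSegre

namespace Groth.Agent.S19748

section Helpers

variable {k : Type u} [Field k] {R : Type u} [CommRing R] [Algebra k R] (𝒜 : ℤ → Submodule k R)
  [GradedAlgebra 𝒜] {M : Type u} [AddCommGroup M] [Module R M] (ℳ : ℤ → AddSubgroup M)
  [DirectSum.Decomposition ℳ] [SetLike.GradedSMul 𝒜 ℳ]

theorem decompose_smul_homogeneous {c : ℤ} {a : R} (ha : a ∈ 𝒜 c) (n : ℤ) (x : M) :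
    ((DirectSum.decompose ℳ (a • x) n : ℳ n) : M) =
      a • ((DirectSum.decompose ℳ x (n - c) : ℳ (n - c)) : M) := by
  classical
  induction x using DirectSum.Decomposition.inductionOn ℳ with
  | zero => simp
  | @homogeneous j m =>
    have hax : a • (m : M) ∈ ℳ (c + j) := SetLike.GradedSMul.smul_mem ha m.2
    by_cases hj : j = n - c
    · subst hj
      rw [DirectSum.decompose_coe, DirectSum.of_eq_same]
      have hax' : a • (m : M) ∈ ℳ n := by
        have : c + (n - c) = n := by ring
        rwa [this] at hax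
      exact DirectSum.decompose_of_mem_same ℳ hax'
    · rw [DirectSum.decompose_coe, DirectSum.of_eq_of_ne _ _ _ (fun h => hj h.symm)]
      rw [ZeroMemClass.coe_zero, smul_zero]
      exact DirectSum.decompose_of_mem_ne ℳ hax (by omega)
  | add x y hx hy =>
    rw [smul_add, DirectSum.decompose_add, DirectSum.add_apply, AddMemClass.coe_add, hx, hy,
      DirectSum.decompose_add, DirectSum.add_apply, AddMemClass.coe_add, smul_add]

theorem pow_smul_bijective {R' : Type u} [CommRing R'] {M' : Type u} [AddCommGroup M']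
    [Module R' M'] {f : R'} (hf : Function.Bijective (fun x : M' => f • x)) (e : ℕ) :
    Function.Bijective (fun x : M' => (f ^ e) • x) := by
  induction e with
  | zero =>
    have : (fun x : M' => (f ^ 0) • x) = id := by
      funext x
      simp
    rw [this]
    exact Function.bijective_id
  | succ e ih =>
    have : (fun x : M' => (f ^ (e + 1)) • x) = (fun x : M' => (f ^ e) • x) ∘ (fun x : M' => f • x) := by
      funext x
      simp [pow_succ, mul_smul]
    rw [this]
    exact ih.comp hf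

theorem mem_of_smul_mem {c : ℤ} {a : R} (ha : a ∈ 𝒜 c)
    (hinj : Function.Injective (fun x : M => a • x)) {n : ℤ} {x : M} (hx : a • x ∈ ℳ n) :
    x ∈ ℳ (n - c) := by
  have h1 := decompose_smul_homogeneous 𝒜 ℳ ha n x
  rw [DirectSum.decompose_of_mem_same ℳ hx] at h1
  have h2 : x = ((DirectSum.decompose ℳ x (n - c) : ℳ (n - c)) : M) := hinj h1
  rw [h2]
  exact SetLike.coe_mem _

end Helpers


/-- Let R and S be graded rings defined over a field k with Segre product T = R # S, M a graded R-module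
and N a graded S-module. Suppose that multiplication by some homogeneous element f ∈ R_d of positive
degree d is bijective on M and multiplication by some homogeneous g ∈ S_e of positive degree e is
bijective on N. Then multiplication by some homogeneous element of T of positive degree is bijective
on M # N. Here a graded ring defined over k is a commutative k-algebra of finite type, graded in
nonnegative degrees by k-subspaces with degree-zero part k·1; the Segre product T = R # S = ⊕_n R_n
⊗_k S_n is presented abstractly as a graded k-algebra T with an injective k-algebra homomorphism ψ :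
T → R ⊗_k S carrying T_n onto the k-span of the elementary tensors a ⊗ b with a ∈ R_n, b ∈ S_n; the
Segre product M # N = ⊕_n M_n ⊗_k N_n of a graded R-module M and a graded S-module N is presented
abstractly as a graded T-module P with an injective k-linear map φ : P → M ⊗_k N carrying P_n onto
the k-span of the tensors x ⊗ y with x ∈ M_n, y ∈ N_n and turning the action of t ∈ T into that of
ψ(t) (acting factorwise on M ⊗_k N). -/
theorem result (k : Type u) [Field k] (R : Type u) [CommRing R] [Algebra k R] (𝒜 : ℤ → Submodule k R) [GradedAlgebra 𝒜] (hposR : ∀ n : ℤ, n < 0 → 𝒜 n = ⊥) (h0R : 𝒜 0 = Submodule.span k {(1 : R)}) [Algebra.FiniteType k R] (S : Type u) [CommRing S] [Algebra k S] (ℬ : ℤ → Submodule k S) [GradedAlgebra ℬ] (hposS : ∀ n : ℤ, n < 0 → ℬ n = ⊥) (h0S : ℬ 0 = Submodule.span k {(1 : S)}) [Algebra.FiniteType k S] (T : Type u) [CommRing T] [Algebra k T] (𝒯 : ℤ → Submodule k T) [GradedAlgebra 𝒯] (ψ : T →ₐ[k] TensorProduct k R S) (hT : GrSeg.IsSegreRing 𝒜 ℬ 𝒯 ψ) (M : Type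 u) [AddCommGroup M] [Module R M] [Module k M] [IsScalarTower k R M] (ℳ : ℤ → AddSubgroup M) [DirectSum.Decomposition ℳ] [SetLike.GradedSMul 𝒜 ℳ] (N : Type u) [AddCommGroup N] [Module S N] [Module k N] [IsScalarTower k S N] (𝒩 : ℤ → AddSubgroup N) [DirectSum.Decomposition 𝒩] [SetLike.GradedSMul ℬ 𝒩] (P : Type u) [AddCommGroup P] [Module T P] [Module k P] [IsScalarTower k T P] (𝒬 : ℤ → AddSubgroup P) [DirectSum.Decomposition 𝒬] (φ : P →ₗ[k] TensorProduct k M N) (hP : GrSeg.IsSegreMod ψ ℳ 𝒩 𝒬 φ) (d : ℕ) (hd : 0 < d) (f : R) (hf : f ∈ 𝒜 (d : ℤ)) (hfM : Function.Bijective (fun x : M => f • x)) (e : ℕ) (he : 0 < e) (g : S) (hg : g ∈ ℬ (e : ℤ)) (hgN : Function.Bijective (fun y : N => g • y)) : ∃ (c : ℤ) (t : T), 0 < c ∧ t ∈ 𝒯 c ∧ Function.Bijective (fun p : P => t • p) := by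
  classical
  -- the homogeneous elements `a = f^e`, `b = g^d` of common degree `c = d * e`
  set c : ℤ := (d : ℤ) * (e : ℤ) with hc
  have hcpos : 0 < c := by positivity
  have ha : f ^ e ∈ 𝒜 c := by
    have := SetLike.pow_mem_graded e hf
    rwa [nsmul_eq_mul, mul_comm] at this
  have hb : g ^ d ∈ ℬ c := by
    have := SetLike.pow_mem_graded d hg
    rwa [nsmul_eq_mul] at this
  have hbijM : Function.Bijective (fun x : M => (f ^ e) • x) := pow_smul_bijective hfM e
  have hbijN : Function.Bijective (fun y : N => (g ^ d) • y) := pow_smul_bijective hgN d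
  -- the element `t` of `T`
  have hab : (f ^ e) ⊗ₜ[k] (g ^ d) ∈ GrSeg.segrePiece k 𝒜 ℬ c :=
    Submodule.subset_span ⟨f ^ e, ha, g ^ d, hb, rfl⟩
  rw [← hT.2 c] at hab
  obtain ⟨t, ht, htψ⟩ := hab
  have htψ' : ψ t = (f ^ e) ⊗ₜ[k] (g ^ d) := htψ
  refine ⟨c, t, hcpos, ht, ?_⟩
  -- the action of `ψ t` on `M ⊗ N`
  set Θ : TensorProduct k M N →ₗ[k] TensorProduct k M N :=
    GrSeg.act k R S M N ((f ^ e) ⊗ₜ[k] (g ^ d)) with hΘ
  have hΘt : ∀ (m : M) (n : N), Θ (m ⊗ₜ[k] n) = ((f ^ e) • m) ⊗ₜ[k] ((g ^ d) • n) :=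
    fun m n => GrSeg.act_tmul _ _ _ _
  have hφt : ∀ p : P, φ (t • p) = Θ (φ p) := by
    intro p
    rw [hP.map_smul, htψ']
  -- `Θ` is injective
  let eM : M ≃ₗ[k] M := LinearEquiv.ofBijective
    ((Algebra.lsmul k k M (f ^ e)) : M →ₗ[k] M) hbijM
  let eN : N ≃ₗ[k] N := LinearEquiv.ofBijective
    ((Algebra.lsmul k k N (g ^ d)) : N →ₗ[k] N) hbijN
  have hΘeq : Θ = (TensorProduct.congr eM eN).toLinearMap := by
    apply TensorProduct.ext'
    intro m n
    rw [hΘt]
    rfl
  have hΘinj : Function.Injective Θ := by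
    rw [hΘeq]
    exact (TensorProduct.congr eM eN).injective
  constructor
  · intro p₁ p₂ h
    apply hP.injective
    apply hΘinj
    rw [← hφt, ← hφt]
    exact congrArg φ h
  · -- surjectivity
    have hpiece : ∀ n : ℤ, GrSeg.segrePiece k ℳ 𝒩 n ≤
        (GrSeg.segrePiece k ℳ 𝒩 (n - c)).map Θ := by
      intro n
      refine Submodule.span_le.mpr ?_
      rintro _ ⟨x, hx, y, hy, rfl⟩
      obtain ⟨x', rfl⟩ := hbijM.2 x
      obtain ⟨y', rfl⟩ := hbijN.2 y
      have hx' : x' ∈ ℳ (n - c) := mem_of_smul_mem 𝒜 ℳ ha hbijM.1 hx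
      have hy' : y' ∈ 𝒩 (n - c) := mem_of_smul_mem ℬ 𝒩 hb hbijN.1 hy
      refine ⟨x' ⊗ₜ[k] y', Submodule.subset_span ⟨x', hx', y', hy', rfl⟩, ?_⟩
      exact hΘt x' y'
    intro q
    induction q using DirectSum.Decomposition.inductionOn 𝒬 with
    | zero => exact ⟨0, smul_zero t⟩
    | @homogeneous n q =>
      have h1 : φ (q : P) ∈ (GrSeg.segrePiece k ℳ 𝒩 n : Set (TensorProduct k M N)) := by
        rw [← hP.image_piece n]
        exact ⟨q, q.2, rfl⟩
      obtain ⟨w, hw, hwq⟩ := hpiece n h1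
      have hw' : w ∈ (GrSeg.segrePiece k ℳ 𝒩 (n - c) : Set (TensorProduct k M N)) := hw
      rw [← hP.image_piece (n - c)] at hw'
      obtain ⟨p', -, rfl⟩ := hw'
      refine ⟨p', ?_⟩
      apply hP.injective
      change φ (t • p') = φ q
      rw [hφt]
      exact hwq
    | add q₁ q₂ h₁ h₂ =>
      obtain ⟨p₁, hp₁⟩ := h₁
      obtain ⟨p₂, hp₂⟩ := h₂
      refine ⟨p₁ + p₂, ?_⟩
      change t • (p₁ + p₂) = q₁ + q₂
      rw [smul_add]
      exact congrArg₂ (· + ·) hp₁ hp₂
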