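import Groth.Statements.S19749
import Mathlib.LinearAlgebra.Dual.Lemmas
-- import your own Groth.Agent.* helpers here

set_option autoImplicit false
universe u
open scoped TensorProduct
open GrSegre

namespace Groth.Agent.S19749

/-- Let R and S be graded rings defined over a field k, both generated over k by their degree-one parts
and of positive Krull dimension, T = R # S, M a graded R-module and N a graded S-module, n an
integer with N_m ≠ 0 for every m ≥ n, and x ∈ M_n, y ∈ N_n. If x # y generates M # N as a T-module,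
then R_d x = M_{n+d} for every d ≥ 0 (every element of M_{n+d} is r x for some r ∈ R_d). Here a
graded ring defined over k is a commutative k-algebra of finite type, graded in nonnegative degrees
by k-subspaces with degree-zero part k·1; the Segre product T = R # S = ⊕_n R_n ⊗_k S_n is presented
abstractly as a graded k-algebra T with an injective k-algebra homomorphism ψ : T → R ⊗_k S carrying
T_n onto the k-span of the elementary tensors a ⊗ b with a ∈ R_n, b ∈ S_n; the Segre product M # N =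
⊕_n M_n ⊗_k N_n of a graded R-module M and a graded S-module N is presented abstractly as a graded
T-module P with an injective k-linear map φ : P → M ⊗_k N carrying P_n onto the k-span of the
tensors x ⊗ y with x ∈ M_n, y ∈ N_n and turning the action of t ∈ T into that of ψ(t) (acting
factorwise on M ⊗_k N), and x # y is the element of P mapped to x ⊗ y. -/
theorem result (k : Type u) [Field k] (R : Type u) [CommRing R] [Algebra k R] (𝒜 : ℤ → Submodule k R) [GradedAlgebra 𝒜] (hposR : ∀ n : ℤ, n < 0 → 𝒜 n = ⊥) (h0R : 𝒜 0 = Submodule.span k {(1 : R)}) [Algebra.FiniteType k R] (S : Type u) [CommRing S] [Algebra k S] (ℬ : ℤ → Submodule k S) [GradedAlgebra ℬ] (hposS : ∀ n : ℤ, n < 0 → ℬ n = ⊥) (h0S : ℬ 0 = Submodule.span k {(1 : S)}) [Algebra.FiniteType k S] (T : Type u) [CommRing T] [Algebra k T] (𝒯 : ℤ → Submodule k T) [GradedAlgebra 𝒯] (ψ : T →ₐ[k] TensorProduct k R S) (hT : GrSeg.IsSegreRing 𝒜 ℬ 𝒯 ψ) (hstdR : Ideal.span (⋃ n ∈ Set.Ioi (0 : ℤ), (𝒜 n : Set R)) = Ideal.span ((𝒜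 1 : Submodule k R) : Set R)) (hstdS : Ideal.span (⋃ n ∈ Set.Ioi (0 : ℤ), (ℬ n : Set S)) = Ideal.span ((ℬ 1 : Submodule k S) : Set S)) (hr1 : 1 ≤ ringKrullDim R) (hs1 : 1 ≤ ringKrullDim S) (M : Type u) [AddCommGroup M] [Module R M] [Module k M] [IsScalarTower k R M] (ℳ : ℤ → AddSubgroup M) [DirectSum.Decomposition ℳ] [SetLike.GradedSMul 𝒜 ℳ] (N : Type u) [AddCommGroup N] [Module S N] [Module k N] [IsScalarTower k S N] (𝒩 : ℤ → AddSubgroup N) [DirectSum.Decomposition 𝒩] [SetLike.GradedSMul ℬ 𝒩] (P : Type u) [AddCommGroup P] [Module T P] [Module k P] [IsScalarTower k T P] (𝒬 : ℤ → AddSubgroup P) [DirectSum.Decomposition 𝒬] (φ : P →ₗ[k] TensorProduct k M N) (hP : GrSeg.IsSegreMod ψ ℳ 𝒩 𝒬 φ) (n : ℤ) (hNn : ∀ m : ℤ, n ≤ m → 𝒩 m ≠ ⊥) (x : M) (hx : x ∈ ℳ n) (y : N) (hy : y ∈ 𝒩 n) (p : P) (hp : φ p = x ⊗ₜ[k] y) (hgen : Submodule.span T {p} = ⊤) (d : ℤ) (hd : 0 ≤ d) (z : M) (hz : z ∈ ℳ (n + d)) : ∃ r ∈ 𝒜 d, r • x = z := by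
  classical
  -- a nonzero element of `N_{n+d}`
  obtain ⟨y', hy', hy'0⟩ : ∃ y' ∈ 𝒩 (n + d), y' ≠ 0 := by
    have h := hNn (n + d) (by omega)
    rw [Ne, AddSubgroup.eq_bot_iff_forall] at h
    push Not at h
    exact h
  obtain ⟨lam, hlam⟩ := Module.Projective.exists_dual_eq_one k hy'0
  -- `z ⊗ y'` lies in the Segre piece, hence comes from `P`
  have hmem : z ⊗ₜ[k] y' ∈ (GrSeg.segrePiece k ℳ 𝒩 (n + d) : Set (TensorProduct k M N)) :=
    Submodule.subset_span ⟨z, hz, y', hy', rfl⟩
  rw [← hP.image_piece (n + d)] at hmem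
  obtain ⟨q, -, hq⟩ := hmem
  have hqT : q ∈ Submodule.span T {p} := by rw [hgen]; trivial
  obtain ⟨t, rfl⟩ := Submodule.mem_span_singleton.mp hqT
  rw [hP.map_smul, hp] at hq
  -- the contraction `M ⊗ N → M`
  let Lam : TensorProduct k M N →ₗ[k] M :=
    (TensorProduct.rid k M).toLinearMap ∘ₗ TensorProduct.map LinearMap.id lam
  have hLam : ∀ (m : M) (n' : N), Lam (m ⊗ₜ[k] n') = lam n' • m := by
    intro m n'
    simp [Lam]
  have key : ∀ w : TensorProduct k R S, ∃ r : R,
      Lam (GrSeg.act k R S M N w (x ⊗ₜ[k] y)) = r • x := by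
    intro w
    induction w using TensorProduct.induction_on with
    | zero => exact ⟨0, by simp⟩
    | tmul a b =>
      refine ⟨lam (b • y) • a, ?_⟩
      rw [GrSeg.act_tmul, hLam, smul_assoc]
    | add w₁ w₂ h₁ h₂ =>
      obtain ⟨r₁, hr₁⟩ := h₁
      obtain ⟨r₂, hr₂⟩ := h₂
      refine ⟨r₁ + r₂, ?_⟩
      rw [map_add, LinearMap.add_apply, map_add, hr₁, hr₂, add_smul]
  obtain ⟨r, hr⟩ := key (ψ t)
  rw [hq, hLam, hlam, one_smul] at hr
  -- take the degree `d` component of `r`
  refine ⟨(DirectSum.decompose 𝒜 r d : R), SetLike.coe_mem _, ?_⟩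
  have hcomp : ∀ r : R, ((DirectSum.decompose ℳ (r • x) (n + d) : ℳ (n + d)) : M) =
      (DirectSum.decompose 𝒜 r d : R) • x := by
    intro r
    induction r using DirectSum.Decomposition.inductionOn 𝒜 with
    | zero => simp
    | @homogeneous c a =>
      have hax : (a : R) • x ∈ ℳ (c + n) := SetLike.GradedSMul.smul_mem a.2 hx
      by_cases hc : c = d
      · subst hc
        rw [DirectSum.decompose_coe, DirectSum.of_eq_same]
        have hax' : (a : R) • x ∈ ℳ (n + c) := by rwa [add_comm] at hax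
        exact DirectSum.decompose_of_mem_same ℳ hax'
      · rw [DirectSum.decompose_coe, DirectSum.of_eq_of_ne _ _ _ (fun h => hc h.symm)]
        rw [ZeroMemClass.coe_zero, zero_smul]
        exact DirectSum.decompose_of_mem_ne ℳ hax (by omega)
    | add a b ha hb =>
      rw [add_smul, DirectSum.decompose_add, DirectSum.add_apply, AddMemClass.coe_add, ha, hb,
        DirectSum.decompose_add, DirectSum.add_apply, Submodule.coe_add, add_smul]
  rw [← hcomp r, ← hr]
  exact DirectSum.decompose_of_mem_same ℳ hz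

end Groth.Agent.S19749
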