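import Groth.Statements.S19750
import Groth.Agent.Lib.Helper99.Segre

set_option autoImplicit false
universe u
open scoped TensorProduct
open GrSegre

namespace Groth.Agent.S19750


section Helpers

variable {k : Type u} [Field k] {R : Type u} [CommRing R] [Algebra k R] (𝒜 : ℤ → Submodule k R)
  [GradedAlgebra 𝒜]

/-- in a standard graded ring, `R_{m+1} = R_1 R_m` for `m ≥ 0` -/
theorem std_step
    (hstd : Ideal.span (⋃ n ∈ Set.Ioi (0 : ℤ), (𝒜 n : Set R)) =
      Ideal.span ((𝒜 1 : Submodule k R) : Set R))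
    (m : ℤ) (hm : 0 ≤ m) {x : R} (hx : x ∈ 𝒜 (m + 1)) :
    x ∈ Submodule.span k {z : R | ∃ u ∈ 𝒜 1, ∃ v ∈ 𝒜 m, z = u * v} := by
  classical
  have hx1 : x ∈ Ideal.span ((𝒜 1 : Submodule k R) : Set R) := by
    rw [← hstd]
    apply Ideal.subset_span
    simp only [Set.mem_iUnion, Set.mem_Ioi, SetLike.mem_coe]
    exact ⟨m + 1, by omega, hx⟩
  rw [Ideal.span, Submodule.mem_span_set'] at hx1
  obtain ⟨N, f, g, hfg⟩ := hx1
  have hdec : (DirectSum.decompose 𝒜 x (m + 1) : R) = x := DirectSum.decompose_of_mem_same 𝒜 hx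
  rw [← hdec, ← hfg, DirectSum.decompose_sum, DFinsupp.finsetSum_apply,
    AddSubmonoidClass.coe_finsetSum]
  refine sum_mem fun i _ => ?_
  have hg : (g i : R) ∈ 𝒜 1 := (g i).2
  rw [smul_eq_mul, DirectSum.coe_decompose_mul_add_of_right_mem 𝒜 hg, mul_comm]
  exact Submodule.subset_span ⟨g i, hg, _, SetLike.coe_mem _, rfl⟩

end Helpers

/-- Let R and S be graded rings defined over a field k, both generated over k by their degree-one parts
and of positive Krull dimension, T = R # S with irrelevant ideal T_+, and let a ≥ b be integers.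
Then the number of generators ν_T(R(a) # S(b)) = dim_k (R(a) # S(b)) / T_+ (R(a) # S(b)) equals
dim_k R_{a−b}. Here a graded ring defined over k is a commutative k-algebra of finite type, graded
in nonnegative degrees by k-subspaces with degree-zero part k·1; the Segre product T = R # S = ⊕_n
R_n ⊗_k S_n is presented abstractly as a graded k-algebra T with an injective k-algebra homomorphism
ψ : T → R ⊗_k S carrying T_n onto the k-span of the elementary tensors a ⊗ b with a ∈ R_n, b ∈ S_n;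
the Segre product R(a) # S(b) = ⊕_n R_{n+a} ⊗_k S_{n+b} of the shifted modules is presented
abstractly as a graded T-module P with an injective k-linear map φ : P → R ⊗_k S carrying P_n onto
the k-span of the tensors x ⊗ y with x ∈ R_{n+a}, y ∈ S_{n+b} and turning the action of t ∈ T into
that of ψ(t); T_+ is the ideal spanned by the T_n with n > 0. -/
theorem result (k : Type u) [Field k] (R : Type u) [CommRing R] [Algebra k R] (𝒜 : ℤ → Submodule k R) [GradedAlgebra 𝒜] (hposR : ∀ n : ℤ, n < 0 → 𝒜 n = ⊥) (h0R : 𝒜 0 = Submodule.span k {(1 : R)}) [Algebra.FiniteType k R] (S : Type u) [CommRing S] [Algebra k S] (ℬ : ℤ → Submodule k S) [GradedAlgebra ℬ] (hposS : ∀ n : ℤ, n < 0 → ℬ n = ⊥) (h0S : ℬ 0 = Submodule.span k {(1 : S)}) [Algebra.FiniteType k S] (T : Type u) [CommRing T] [Algebra k T] (𝒯 : ℤ → Submodule k T) [GradedAlgebra 𝒯] (ψ : T →ₐ[k] TensorProduct k R S) (hT : GrSeg.IsSegreRing 𝒜 ℬ 𝒯 ψ) (hstdR : Ideal.span (⋃ n ∈ Set.Ioi (0 : ℤ), (𝒜 n :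 Set R)) = Ideal.span ((𝒜 1 : Submodule k R) : Set R)) (hstdS : Ideal.span (⋃ n ∈ Set.Ioi (0 : ℤ), (ℬ n : Set S)) = Ideal.span ((ℬ 1 : Submodule k S) : Set S)) (hr1 : 1 ≤ ringKrullDim R) (hs1 : 1 ≤ ringKrullDim S) (mT : HomogeneousIdeal 𝒯) (hmT : mT.toIdeal = Ideal.span (⋃ n ∈ Set.Ioi (0 : ℤ), (𝒯 n : Set T))) (a b : ℤ) (hab : b ≤ a) (P : Type u) [AddCommGroup P] [Module T P] [Module k P] [IsScalarTower k T P] (𝒬 : ℤ → AddSubgroup P) [DirectSum.Decomposition 𝒬] (φ : P →ₗ[k] TensorProduct k R S) (hP : GrSeg.IsSegreMod ψ (fun n : ℤ => 𝒜 (n + a)) (fun n : ℤ => ℬ (n + b)) 𝒬 φ) : Module.finrank k (P ⧸ (mT.toIdeal • (⊤ : Submodule T P))) = Module.finrank k (𝒜 (a - b)) := by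
  open Groth.Agent.Lib.Helper99.Segre in
  classical
  set W : Submodule T P := mT.toIdeal • (⊤ : Submodule T P) with hW
  have hRact : ∀ c n : ℤ, ∀ x ∈ 𝒜 c, ∀ y ∈ (fun n : ℤ => 𝒜 (n + a)) n,
      x • y ∈ (fun n : ℤ => 𝒜 (n + a)) (n + c) := by
    intro c n x hx y hy
    show x * y ∈ 𝒜 (n + c + a)
    have := SetLike.GradedMul.mul_mem hx hy
    have e : c + (n + a) = n + c + a := by ring
    rwa [e] at this
  have hSact : ∀ c n : ℤ, ∀ x ∈ ℬ c, ∀ y ∈ (fun n : ℤ => ℬ (n + b)) n,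
      x • y ∈ (fun n : ℤ => ℬ (n + b)) (n + c) := by
    intro c n x hx y hy
    show x * y ∈ ℬ (n + c + b)
    have := SetLike.GradedMul.mul_mem hx hy
    have e : c + (n + b) = n + c + b := by ring
    rwa [e] at this
  have hsmul : ∀ c n : ℤ, ∀ t ∈ 𝒯 c, ∀ p ∈ 𝒬 n, t • p ∈ 𝒬 (n + c) :=
    fun c n t ht p hp => smul_mem_piece hT hP (hRact c n) (hSact c n) ht hp
  have hlow : ∀ n : ℤ, n < -b → ∀ p ∈ 𝒬 n, p = 0 := by
    intro n hn p hp
    apply hP.injective
    rw [map_zero]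
    have h1 := (mem_piece_iff hP).mp hp
    have h2 : GrSeg.segrePiece k (fun n : ℤ => 𝒜 (n + a)) (fun n : ℤ => ℬ (n + b)) n = ⊥ := by
      rw [eq_bot_iff]
      apply Submodule.span_le.mpr
      rintro _ ⟨x, _, y, hy, rfl⟩
      have hy' : y ∈ ℬ (n + b) := hy
      rw [hposS (n + b) (by omega)] at hy'
      rw [(Submodule.mem_bot k).mp hy', TensorProduct.tmul_zero]
      exact zero_mem _
    rw [h2] at h1
    exact (Submodule.mem_bot k).mp h1
  -- (A) `W` has no components in degrees `≤ -b`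
  have hWgt : ∀ p ∈ W, ∀ n : ℤ, n ≤ -b → ((DirectSum.decompose 𝒬 p n : 𝒬 n) : P) = 0 := by
    have key : ∀ r ∈ mT.toIdeal, ∀ (p : P) (n : ℤ), n ≤ -b →
        ((DirectSum.decompose 𝒬 (r • p) n : 𝒬 n) : P) = 0 := by
      intro r hr
      rw [hmT] at hr
      induction hr using Submodule.span_induction with
      | mem r hr =>
        simp only [Set.mem_iUnion, Set.mem_Ioi] at hr
        obtain ⟨c, hc, hr⟩ := hr
        intro p
        induction p using DirectSum.Decomposition.inductionOn 𝒬 with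
        | zero => intro n _; simp
        | @homogeneous j p =>
          intro n hn
          by_cases hj : j < -b
          · rw [hlow j hj p p.2]; simp
          · exact DirectSum.decompose_of_mem_ne 𝒬 (hsmul c j r hr p p.2) (by omega)
        | add p p' hp hp' =>
          intro n hn
          rw [smul_add, DirectSum.decompose_add, DirectSum.add_apply, AddMemClass.coe_add,
            hp n hn, hp' n hn, add_zero]
      | zero => intro p n _; simp
      | add r r' _ _ hr hr' =>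
        intro p n hn
        rw [add_smul, DirectSum.decompose_add, DirectSum.add_apply, AddMemClass.coe_add,
          hr p n hn, hr' p n hn, add_zero]
      | smul s r _ hr =>
        intro p n hn
        rw [smul_eq_mul, mul_comm, mul_smul]
        exact hr (s • p) n hn
    intro p hp
    refine Submodule.smul_induction_on (p := fun p => ∀ n : ℤ, n ≤ -b →
      ((DirectSum.decompose 𝒬 p n : 𝒬 n) : P) = 0) hp (fun r hr q _ => key r hr q) ?_
    intro x y hx hy n hn
    rw [DirectSum.decompose_add, DirectSum.add_apply, AddMemClass.coe_add, hx n hn, hy n hn,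
      add_zero]
  -- (B) pieces of degree `> -b` lie in `W`
  have hT1 : ∀ t ∈ 𝒯 1, t ∈ mT.toIdeal := by
    intro t ht
    rw [hmT]
    apply Ideal.subset_span
    simp only [Set.mem_iUnion, Set.mem_Ioi]
    exact ⟨1, by omega, ht⟩
  have hpieceW : ∀ n : ℤ, -b ≤ n → ∀ p ∈ 𝒬 (n + 1), p ∈ W := by
    intro n hn p hp
    have h1 := (mem_piece_iff hP).mp hp
    suffices hle : GrSeg.segrePiece k (fun n : ℤ => 𝒜 (n + a)) (fun n : ℤ => ℬ (n + b)) (n + 1) ≤
        (W.restrictScalars k).map φ by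
      obtain ⟨q, hq, hqp⟩ := hle h1
      rw [← hP.injective hqp]
      exact hq
    apply Submodule.span_le.mpr
    rintro _ ⟨x, hx, y, hy, rfl⟩
    have hx' : x ∈ 𝒜 ((n + a) + 1) := by
      have : x ∈ 𝒜 (n + 1 + a) := hx
      have e : n + 1 + a = n + a + 1 := by ring
      rwa [e] at this
    have hy' : y ∈ ℬ ((n + b) + 1) := by
      have : y ∈ ℬ (n + 1 + b) := hy
      have e : n + 1 + b = n + b + 1 := by ring
      rwa [e] at this
    have hxs := std_step 𝒜 hstdR (n + a) (by omega) hx'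
    have hys := std_step ℬ hstdS (n + b) (by omega) hy'
    refine tmul_mem_of_mem_span ((W.restrictScalars k).map φ) ?_ hxs hys
    rintro _ ⟨u, hu, x', hx'', rfl⟩ _ ⟨v, hv, y', hy'', rfl⟩
    obtain ⟨t, ht, htψ⟩ := exists_psi_eq_tmul hT (tmul_mem_segrePiece (k := k) hu hv)
    have hq : x' ⊗ₜ[k] y' ∈ φ '' (𝒬 n : Set P) := by
      rw [hP.image_piece n]
      exact tmul_mem_segrePiece (k := k) (ℳ := fun n : ℤ => 𝒜 (n + a))
        (𝒩 := fun n : ℤ => ℬ (n + b)) hx'' hy''
    obtain ⟨q, _, hqφ⟩ := hq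
    have hmemW : t • q ∈ W := Submodule.smul_mem_smul (hT1 t ht) Submodule.mem_top
    have hφtq : φ (t • q) = (u * x') ⊗ₜ[k] (v * y') := by
      rw [hP.map_smul, htψ, hqφ, GrSeg.act_tmul, smul_eq_mul, smul_eq_mul]
    rw [← hφtq]
    exact Submodule.mem_map_of_mem (f := φ) (p := W.restrictScalars k) hmemW
  -- the map
  let e := LinearEquiv.ofInjective φ hP.injective
  have hmem : ∀ x : 𝒜 (a - b), (((TensorProduct.mk k R S).flip 1) ∘ₗ (𝒜 (a - b)).subtype) x ∈
      LinearMap.range φ := by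
    intro x
    show (x : R) ⊗ₜ[k] (1 : S) ∈ LinearMap.range φ
    have hx : (x : R) ∈ 𝒜 (-b + a) := by
      have e : -b + a = a - b := by ring
      rw [e]; exact x.2
    have h1 : (1 : S) ∈ ℬ (-b + b) := by
      rw [neg_add_cancel]; exact SetLike.one_mem_graded ℬ
    have hq : (x : R) ⊗ₜ[k] (1 : S) ∈ φ '' (𝒬 (-b) : Set P) := by
      rw [hP.image_piece (-b)]
      exact tmul_mem_segrePiece (k := k) (ℳ := fun n : ℤ => 𝒜 (n + a))
        (𝒩 := fun n : ℤ => ℬ (n + b)) hx h1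
    obtain ⟨q, _, hq⟩ := hq
    exact ⟨q, hq⟩
  let Θ₀ : 𝒜 (a - b) →ₗ[k] P := e.symm.toLinearMap ∘ₗ
    (LinearMap.codRestrict (LinearMap.range φ)
      (((TensorProduct.mk k R S).flip 1) ∘ₗ (𝒜 (a - b)).subtype) hmem)
  have hΘ₀ : ∀ x : 𝒜 (a - b), φ (Θ₀ x) = (x : R) ⊗ₜ[k] (1 : S) := by
    intro x
    have : e (Θ₀ x) = ⟨(x : R) ⊗ₜ[k] (1 : S), hmem x⟩ := e.apply_symm_apply _
    exact congrArg Subtype.val this
  have hΘ₀piece : ∀ x : 𝒜 (a - b), Θ₀ x ∈ 𝒬 (-b) := by
    intro x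
    rw [mem_piece_iff hP, hΘ₀]
    have hx : (x : R) ∈ 𝒜 (-b + a) := by
      have e : -b + a = a - b := by ring
      rw [e]; exact x.2
    have h1 : (1 : S) ∈ ℬ (-b + b) := by
      rw [neg_add_cancel]; exact SetLike.one_mem_graded ℬ
    exact tmul_mem_segrePiece (k := k) (ℳ := fun n : ℤ => 𝒜 (n + a))
      (𝒩 := fun n : ℤ => ℬ (n + b)) hx h1
  let Θ : 𝒜 (a - b) →ₗ[k] (P ⧸ W) := (W.mkQ.restrictScalars k) ∘ₗ Θ₀
  have hΘ : ∀ x, Θ x = W.mkQ (Θ₀ x) := fun _ => rfl
  have hSnt : Nontrivial S := by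
    by_contra h
    rw [not_nontrivial_iff_subsingleton] at h
    have : ringKrullDim S = ⊥ := ringKrullDim_eq_bot_of_subsingleton
    rw [this] at hs1
    simp at hs1
  have hinj : Function.Injective Θ := by
    rw [injective_iff_map_eq_zero]
    intro x hx
    rw [hΘ, Submodule.mkQ_apply, Submodule.Quotient.mk_eq_zero] at hx
    have h1 := hWgt _ hx (-b) le_rfl
    rw [DirectSum.decompose_of_mem_same 𝒬 (hΘ₀piece x)] at h1
    have h2 := hΘ₀ x
    rw [h1, map_zero] at h2
    apply Subtype.ext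
    exact eq_zero_of_tmul_one_eq_zero h2.symm
  have hsurj : Function.Surjective Θ := by
    intro z
    obtain ⟨p, rfl⟩ := W.mkQ_surjective z
    -- `p ≡ p_{-b}` mod `W`
    set p0 : P := ((DirectSum.decompose 𝒬 p (-b) : 𝒬 (-b)) : P) with hp0
    have hp0mem : p0 ∈ 𝒬 (-b) := SetLike.coe_mem _
    have hsub : p - p0 ∈ W := by
      rw [← DirectSum.sum_support_decompose 𝒬 (p - p0)]
      refine sum_mem fun n _ => ?_
      rw [DirectSum.decompose_sub, DirectSum.sub_apply, AddSubgroupClass.coe_sub]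
      rcases lt_trichotomy n (-b) with hn | hn | hn
      · rw [hlow n hn _ (SetLike.coe_mem _), zero_sub, DirectSum.decompose_of_mem_ne 𝒬 hp0mem
          (by omega), neg_zero]
        exact zero_mem _
      · subst hn
        rw [DirectSum.decompose_of_mem_same 𝒬 hp0mem, sub_self]
        exact zero_mem _
      · rw [DirectSum.decompose_of_mem_ne 𝒬 hp0mem (by omega), sub_zero]
        obtain ⟨m, rfl⟩ : ∃ m : ℤ, n = m + 1 := ⟨n - 1, by ring⟩
        exact hpieceW m (by omega) _ (SetLike.coe_mem _)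
    -- `φ p0 = x ⊗ 1`
    have h1 := (mem_piece_iff hP).mp hp0mem
    have hle : GrSeg.segrePiece k (fun n : ℤ => 𝒜 (n + a)) (fun n : ℤ => ℬ (n + b)) (-b) ≤
        (𝒜 (a - b)).map ((TensorProduct.mk k R S).flip 1) := by
      apply Submodule.span_le.mpr
      rintro _ ⟨x, hx, y, hy, rfl⟩
      have hx' : x ∈ 𝒜 (a - b) := by
        have : x ∈ 𝒜 (-b + a) := hx
        have e : -b + a = a - b := by ring
        rwa [e] at this
      have hy' : y ∈ ℬ 0 := by
        have : y ∈ ℬ (-b + b) := hy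
        rwa [neg_add_cancel] at this
      rw [h0S, Submodule.mem_span_singleton] at hy'
      obtain ⟨c, rfl⟩ := hy'
      have h5 : x ⊗ₜ[k] (c • (1 : S)) = ((TensorProduct.mk k R S).flip 1) (c • x) := by
        show x ⊗ₜ[k] (c • (1 : S)) = (c • x) ⊗ₜ[k] (1 : S)
        rw [TensorProduct.smul_tmul]
      rw [h5]
      exact Submodule.mem_map_of_mem (Submodule.smul_mem _ _ hx')
    obtain ⟨x, hx, hxφ⟩ := hle h1
    refine ⟨⟨x, hx⟩, ?_⟩
    rw [hΘ]
    have h2 : Θ₀ ⟨x, hx⟩ = p0 := by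
      apply hP.injective
      rw [hΘ₀, ← hxφ]
      rfl
    rw [h2, Submodule.mkQ_apply, Submodule.mkQ_apply, eq_comm, Submodule.Quotient.eq]
    exact hsub
  exact ((LinearEquiv.ofBijective Θ ⟨hinj, hsurj⟩).finrank_eq).symm

end Groth.Agent.S19750
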