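import Groth.Statements.S19751
import Groth.Agent.Lib.Helper99.GrDual

set_option autoImplicit false
universe u
open GrDual

namespace Groth.Agent.S19751

/-- Let R be a graded ring defined over a field k with m = R_+, let F and M be finitely generated graded
R-modules and f : F → M a surjective homomorphism of graded R-modules, with dual f^* : M^* → F^* on
graded k-duals. Then f is minimal, that is Ker f ⊆ m F, if and only if f^* is essential: an
injective homomorphism of graded modules such that every nonzero graded submodule of F^* meets its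
image. Here a graded ring defined over k is a commutative k-algebra of finite type, graded in
nonnegative degrees by k-subspaces with degree-zero part k·1, and R_+ is the ideal spanned by the
R_n with n > 0; the graded k-dual M^* = ⊕_n Hom_k(M_{−n}, k) of a graded R-module M (with r ∈ R
acting by (r f)(x) = f(r x)) is presented abstractly as a graded R-module D with a k-bilinear
pairing β : D × M → k compatible with the R-actions, under which D_n pairs to zero with M_m for m ≠
−n and is identified with the full dual space of M_{−n}; f^* is presented as the R-linear map g :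
M^* → F^* with β_F(g d, x) = β_M(d, f x). -/
theorem result (k : Type u) [Field k] (R : Type u) [CommRing R] [Algebra k R] (𝒜 : ℤ → Submodule k R) [GradedAlgebra 𝒜] (hposR : ∀ n : ℤ, n < 0 → 𝒜 n = ⊥) (h0R : 𝒜 0 = Submodule.span k {(1 : R)}) [Algebra.FiniteType k R] (mR : HomogeneousIdeal 𝒜) (hmR : mR.toIdeal = Ideal.span (⋃ n ∈ Set.Ioi (0 : ℤ), (𝒜 n : Set R))) (F : Type u) [AddCommGroup F] [Module R F] [Module k F] [IsScalarTower k R F] (ℱ : ℤ → AddSubgroup F) [DirectSum.Decomposition ℱ] [SetLike.GradedSMul 𝒜 ℱ] [Module.Finite R F] (M : Type u) [AddCommGroup M] [Module R M] [Module k M] [IsScalarTower k R M] (ℳ : ℤ → AddSubgroup M) [DirectSum.Decomposition ℳ] [SetLike.GradedSMul 𝒜 ℳ] [Module.Finite R M] (f : F →ₗ[R] M) (hf : Function.Surjective f) (hfgr : GrLC.IsGrHom ℱ ℳ f) (DM : Type u) [AddCommGroup DM] [Module R DM] [Module k DM] [IsScalarTower k R DM] (𝒟M : ℤ → AddSubgroup DM) [DirectSum.Decomposition 𝒟M] [SetLike.GradedSMul 𝒜 𝒟M] (βM : DM →ₗ[k] M →ₗ[k] k) (hDM : GrSeg.IsGDual R ℳ 𝒟M βM) (DF : Type u) [AddCommGroup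 DF] [Module R DF] [Module k DF] [IsScalarTower k R DF] (𝒟F : ℤ → AddSubgroup DF) [DirectSum.Decomposition 𝒟F] [SetLike.GradedSMul 𝒜 𝒟F] (βF : DF →ₗ[k] F →ₗ[k] k) (hDF : GrSeg.IsGDual R ℱ 𝒟F βF) (g : DM →ₗ[R] DF) (hg : GrSeg.IsGDualMap βM βF f g) : LinearMap.ker f ≤ mR.toIdeal • (⊤ : Submodule R F) ↔ GrLC.IsStarEss 𝒟M 𝒟F g := by
  open Groth.Agent.Lib.Helper99.GrDual in
  classical
  have hAm : ∀ (c : ℤ), 0 < c → ∀ a ∈ 𝒜 c, a ∈ mR.toIdeal := by
    intro c hc a ha
    rw [hmR]
    apply Ideal.subset_span
    simp only [Set.mem_iUnion, Set.mem_Ioi]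
    exact ⟨c, hc, ha⟩
  -- `m F` is a graded submodule
  have hmFgr : ∀ z ∈ mR.toIdeal • (⊤ : Submodule R F), ∀ j : ℤ,
      ((DirectSum.decompose ℱ z j : ℱ j) : F) ∈ mR.toIdeal • (⊤ : Submodule R F) := by
    have key : ∀ r ∈ mR.toIdeal, ∀ (n : F) (j : ℤ),
        ((DirectSum.decompose ℱ (r • n) j : ℱ j) : F) ∈ mR.toIdeal • (⊤ : Submodule R F) := by
      intro r hr
      rw [hmR] at hr
      induction hr using Submodule.span_induction with
      | mem r hr =>
        simp only [Set.mem_iUnion, Set.mem_Ioi] at hr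
        obtain ⟨c, hc, hr⟩ := hr
        intro n j
        rw [decompose_smul_homogeneous 𝒜 ℱ hr]
        exact Submodule.smul_mem_smul (hAm c hc r hr) trivial
      | zero =>
        intro n j
        simp
      | add r r' _ _ hr hr' =>
        intro n j
        rw [add_smul, DirectSum.decompose_add, DirectSum.add_apply, AddMemClass.coe_add]
        exact add_mem (hr n j) (hr' n j)
      | smul s r _ hr =>
        intro n j
        rw [smul_eq_mul, mul_comm, mul_smul]
        exact hr (s • n) j
    intro z hz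
    refine Submodule.smul_induction_on (p := fun z => ∀ j : ℤ,
      ((DirectSum.decompose ℱ z j : ℱ j) : F) ∈ mR.toIdeal • (⊤ : Submodule R F)) hz
      (fun r hr n _ => key r hr n) ?_
    intro a b ha hb j
    rw [DirectSum.decompose_add, DirectSum.add_apply, AddMemClass.coe_add]
    exact add_mem (ha j) (hb j)
  have hfcomp : ∀ (x : F) (j : ℤ), f ((DirectSum.decompose ℱ x j : ℱ j) : F) =
      ((DirectSum.decompose ℳ (f x) j : ℳ j) : M) :=
    fun x j => (decompose_map_of_grHom ℱ ℳ f hfgr x j).symm
  have hginj : Function.Injective g := by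
    rw [injective_iff_map_eq_zero]
    intro d hd
    apply beta_injective hDM
    apply LinearMap.ext
    intro m
    obtain ⟨x, rfl⟩ := hf m
    rw [← hg d x, hd, map_zero, LinearMap.zero_apply, map_zero, LinearMap.zero_apply]
  have hggr : GrLC.IsGrHom 𝒟M 𝒟F g := by
    intro n d hd
    rw [mem_piece_iff hDF]
    intro m hm x hx
    rw [hg d x]
    exact vanish' hDM hd (hfgr m x hx) hm
  constructor
  · intro hmin
    refine ⟨hginj, hggr, ?_⟩
    intro P hP hPne
    have : IsArtinian R DF := isArtinian_dual_of_finite 𝒜 hposR h0R ℱ 𝒟F hDF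
    obtain ⟨n, y, hyP, hyn, hy0, hysoc⟩ :=
      exists_mem_socle_of_ne_bot 𝒜 hposR 𝒟F P (fun x hx m => hP m hx) hPne
    have hyann : ∀ r ∈ mR.toIdeal, r • y = 0 := by
      intro r hr
      rw [hmR] at hr
      induction hr using Submodule.span_induction with
      | mem r hr =>
        simp only [Set.mem_iUnion, Set.mem_Ioi] at hr
        obtain ⟨c, hc, hr⟩ := hr
        exact hysoc c hc r hr
      | zero => exact zero_smul _ _
      | add r r' _ _ hr hr' => rw [add_smul, hr, hr', add_zero]
      | smul s r _ hr => rw [smul_assoc, hr, smul_zero]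
    have hvan : ∀ z ∈ mR.toIdeal • (⊤ : Submodule R F), βF y z = 0 := by
      intro z hz
      refine Submodule.smul_induction_on (p := fun z => βF y z = 0) hz ?_ ?_
      · intro r hr n _
        rw [← hDF.map_smul, hyann r hr, map_zero, LinearMap.zero_apply]
      · intro a b ha hb
        rw [map_add, ha, hb, add_zero]
    have hker : ∀ z ∈ LinearMap.ker f, βF y z = 0 := fun z hz => hvan z (hmin hz)
    obtain ⟨σ, hσ⟩ := LinearMap.exists_rightInverse_of_surjective (f.restrictScalars k)
      (LinearMap.range_eq_top.mpr hf)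
    have hσ' : ∀ m, f (σ m) = m := fun m => LinearMap.congr_fun hσ m
    let φ : M →ₗ[k] k := (βF y) ∘ₗ σ
    have hφf : ∀ x : F, φ (f x) = βF y x := by
      intro x
      show βF y (σ (f x)) = βF y x
      have : σ (f x) - x ∈ LinearMap.ker f := by
        rw [LinearMap.mem_ker, map_sub, hσ', sub_self]
      have h2 := hker _ this
      rw [map_sub, sub_eq_zero] at h2
      exact h2
    have hφ0 : ∀ j : ℤ, n + j ≠ 0 → ∀ m : M, m ∈ ℳ j → φ m = 0 := by
      intro j hj m hm
      obtain ⟨x, rfl⟩ := hf m
      have h1 : f x = f ((DirectSum.decompose ℱ x j : ℱ j) : F) := by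
        rw [hfcomp, DirectSum.decompose_of_mem_same ℳ hm]
      rw [h1, hφf]
      exact vanish' hDF hyn (SetLike.coe_mem _) hj
    obtain ⟨d, _, hdφ⟩ := exists_of_homogeneous hDM (n := n) φ hφ0
    have hgd : g d = y := by
      apply beta_injective hDF
      apply LinearMap.ext
      intro x
      rw [hg d x, hdφ, hφf]
    intro hbot
    have h8 : y ∈ P ⊓ LinearMap.range g := ⟨hyP, ⟨d, hgd⟩⟩
    rw [hbot] at h8
    exact hy0 ((Submodule.mem_bot R).mp h8)
  · intro hess x hx
    by_contra hxm
    obtain ⟨j, hj⟩ : ∃ j : ℤ, ((DirectSum.decompose ℱ x j : ℱ j) : F) ∉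
        mR.toIdeal • (⊤ : Submodule R F) := by
      by_contra hcon
      push Not at hcon
      apply hxm
      rw [← DirectSum.sum_support_decompose ℱ x]
      exact sum_mem (fun i _ => hcon i)
    set x' : F := ((DirectSum.decompose ℱ x j : ℱ j) : F) with hx'
    have hx'j : x' ∈ ℱ j := SetLike.coe_mem _
    have hx'ker : f x' = 0 := by
      rw [hx', hfcomp, LinearMap.mem_ker.mp hx]
      simp
    obtain ⟨l, hlx, hlm⟩ := Submodule.exists_dual_map_eq_bot_of_notMem
      (p := (mR.toIdeal • (⊤ : Submodule R F)).restrictScalars k) (x := x') hj inferInstance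
    have hlm' : ∀ z ∈ mR.toIdeal • (⊤ : Submodule R F), l z = 0 := by
      intro z hz
      have : l z ∈ ((mR.toIdeal • (⊤ : Submodule R F)).restrictScalars k).map l :=
        Submodule.mem_map_of_mem hz
      rw [hlm] at this
      simpa using this
    let l' : F →ₗ[k] k := l ∘ₗ (pieceSub 𝒜 ℱ j).subtype ∘ₗ componentMap 𝒜 ℱ j
    have hl' : ∀ z : F, l' z = l ((DirectSum.decompose ℱ z j : ℱ j) : F) := fun _ => rfl
    have hl'x : l' x' ≠ 0 := by
      rw [hl', DirectSum.decompose_of_mem_same ℱ hx'j]
      exact hlx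
    have hl'0 : ∀ i : ℤ, -j + i ≠ 0 → ∀ z : F, z ∈ ℱ i → l' z = 0 := by
      intro i hi z hz
      rw [hl', DirectSum.decompose_of_mem_ne ℱ hz (by omega)]
      simp
    have hl'm : ∀ z ∈ mR.toIdeal • (⊤ : Submodule R F), l' z = 0 := by
      intro z hz
      rw [hl']
      exact hlm' _ (hmFgr z hz j)
    obtain ⟨y, hyj, hyl⟩ := exists_of_homogeneous hDF (n := -j) l' hl'0
    have hy0 : y ≠ 0 := by
      intro h
      apply hl'x
      rw [← hyl, h, map_zero, LinearMap.zero_apply]
    have hysoc : y ∈ socle 𝒜 (M := DF) := by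
      intro c hc a ha
      apply beta_injective hDF
      apply LinearMap.ext
      intro z
      rw [hDF.map_smul, hyl, map_zero, LinearMap.zero_apply]
      exact hl'm _ (Submodule.smul_mem_smul (hAm c hc a ha) trivial)
    have hPhom : (Submodule.span R ({y} : Set DF)).IsHomogeneous 𝒟F := by
      intro i z hz
      exact span_homogeneous_component_mem 𝒜 𝒟F _
        (fun w hw => ⟨-j, by rw [Set.mem_singleton_iff.mp hw]; exact hyj⟩) hz i
    have hPne : Submodule.span R ({y} : Set DF) ≠ ⊥ := by
      intro h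
      apply hy0
      have : y ∈ Submodule.span R ({y} : Set DF) := Submodule.mem_span_singleton_self y
      rw [h] at this
      exact (Submodule.mem_bot R).mp this
    have h9 := hess.essential _ hPhom hPne
    obtain ⟨z, hz, hz0⟩ := Submodule.exists_mem_ne_zero_of_ne_bot h9
    obtain ⟨hzP, d, hdz⟩ := hz
    obtain ⟨r, hr⟩ := Submodule.mem_span_singleton.mp hzP
    obtain ⟨c, hc⟩ := exists_smul_one_of_mem_zero 𝒜 h0R (DirectSum.decompose 𝒜 r 0 : 𝒜 0).2
    have hzc : z = c • y := by
      rw [← hr, socle_smul_eq 𝒜 hposR hysoc r, hc, smul_assoc, one_smul]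
    have hc0 : c ≠ 0 := by
      intro h
      apply hz0
      rw [hzc, h, zero_smul]
    have h10 : βF z x' = 0 := by
      rw [← hdz, hg d x', hx'ker, map_zero]
    rw [hzc, map_smul, LinearMap.smul_apply, hyl, smul_eq_mul] at h10
    exact (mul_ne_zero hc0 hl'x) h10

end Groth.Agent.S19751
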