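import Groth.Statements.S19752
import Groth.Agent.Lib.Helper99.GrDual

set_option autoImplicit false
universe u
open GrDual

namespace Groth.Agent.S19752


open Groth.Agent.Lib.Helper99.GrDual in
/-- the graded dual of `R` is *injective -/
theorem isStarInj_dual (k : Type u) [Field k] (R : Type u) [CommRing R] [Algebra k R]
    (𝒜 : ℤ → Submodule k R) [GradedAlgebra 𝒜]
    (D : Type u) [AddCommGroup D] [Module R D] [Module k D] [IsScalarTower k R D]
    (𝒟 : ℤ → AddSubgroup D) [DirectSum.Decomposition 𝒟] [SetLike.GradedSMul 𝒜 𝒟]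
    (β : D →ₗ[k] R →ₗ[k] k) (hD : GrSeg.IsGDual R 𝒜 𝒟 β) : GrLC.IsStarInj 𝒜 𝒟 := by
  classical
  intro A B f hfgr hfinj g hggr
  let _ : Module k A.carrier := Module.compHom A.carrier (algebraMap k R)
  have : IsScalarTower k R A.carrier := IsScalarTower.of_algebraMap_smul (fun _ _ => rfl)
  let _ : Module k B.carrier := Module.compHom B.carrier (algebraMap k R)
  have : IsScalarTower k R B.carrier := IsScalarTower.of_algebraMap_smul (fun _ _ => rfl)
  let lg : A.carrier →ₗ[k] k := (β.flip 1) ∘ₗ (g.restrictScalars k)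
  have hlg : ∀ a, lg a = β (g a) 1 := fun _ => rfl
  have hlg0 : ∀ n : ℤ, n ≠ 0 → ∀ a : A.carrier, a ∈ A.gr n → lg a = 0 := by
    intro n hn a ha
    rw [hlg]
    exact vanish' hD (hggr n a ha) (SetLike.one_mem_graded 𝒜) (by omega)
  obtain ⟨p, hp⟩ := LinearMap.exists_leftInverse_of_injective (f.restrictScalars k)
    (LinearMap.ker_eq_bot.mpr hfinj)
  have hp' : ∀ a, p (f a) = a := fun a => LinearMap.congr_fun hp a
  let l' : B.carrier →ₗ[k] k :=
    lg ∘ₗ p ∘ₗ (pieceSub 𝒜 B.gr 0).subtype ∘ₗ componentMap 𝒜 B.gr 0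
  have hl' : ∀ b, l' b = lg (p ((DirectSum.decompose B.gr b 0 : B.gr 0) : B.carrier)) :=
    fun _ => rfl
  have hl'0 : ∀ n : ℤ, n ≠ 0 → ∀ b : B.carrier, b ∈ B.gr n → l' b = 0 := by
    intro n hn b hb
    rw [hl', DirectSum.decompose_of_mem_ne B.gr hb hn]
    simp
  have hl'f : ∀ a, l' (f a) = lg a := by
    intro a
    rw [hl', decompose_map_of_grHom A.gr B.gr f hfgr a 0, hp',
      ← functional_eq_component A.gr lg hlg0]
  obtain ⟨h, hh1, hh2⟩ := exists_hom_of_functional 𝒜 B.gr hD l' hl'0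
  refine ⟨h, fun n b hb => ?_, ?_⟩
  · have := hh2 n b hb
    rwa [sub_zero] at this
  · apply LinearMap.ext
    intro a
    apply beta_injective hD
    apply LinearMap.ext
    intro r
    show β (h (f a)) r = β (g a) r
    rw [hh1, ← map_smul f, hl'f, hlg, map_smul g, hD.map_smul, smul_eq_mul, mul_one]

/-- Let R = ⊕_{n ≥ 0} R_n be a Noetherian graded ring with R_0 = k a field, m = R_+ and k = R/m. Then
the graded k-dual R^* = ⊕_n Hom_k(R_{−n}, k) is the injective envelope of R/m in the category of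
graded R-modules: for every injective homomorphism of graded R-modules e : R/m → R^*, the module R^*
is an injective object of the graded category and every nonzero graded submodule of R^* meets the
image of e. Here a graded ring defined over k is a commutative k-algebra of finite type, graded in
nonnegative degrees by k-subspaces with degree-zero part k·1, and R_+ is the ideal spanned by the
R_n with n > 0 (a Noetherian such ring is the same as one of finite type over k); the graded k-dual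
M^* = ⊕_n Hom_k(M_{−n}, k) of a graded R-module M (with r ∈ R acting by (r f)(x) = f(r x)) is
presented abstractly as a graded R-module D with a k-bilinear pairing β : D × M → k compatible with
the R-actions, under which D_n pairs to zero with M_m for m ≠ −n and is identified with the full
dual space of M_{−n}. -/
theorem result (k : Type u) [Field k] (R : Type u) [CommRing R] [Algebra k R] (𝒜 : ℤ → Submodule k R) [GradedAlgebra 𝒜] (hposR : ∀ n : ℤ, n < 0 → 𝒜 n = ⊥) (h0R : 𝒜 0 = Submodule.span k {(1 : R)}) [Algebra.FiniteType k R] (mR : HomogeneousIdeal 𝒜) (hmR : mR.toIdeal = Ideal.span (⋃ n ∈ Set.Ioi (0 : ℤ), (𝒜 n : Set R))) (D : Type u) [AddCommGroup D] [Module R D] [Module k D] [IsScalarTower k R D] (𝒟 : ℤ → AddSubgroup D) [DirectSum.Decomposition 𝒟] [SetLike.GradedSMul 𝒜 𝒟] (β : D →ₗ[k] R →ₗ[k] k) (hD : GrSeg.IsGDual R 𝒜 𝒟 β) (e : (R ⧸ mR.toIdeal) →ₗ[R] D) (he : Function.Injective e) (hegr : GrLC.IsGrHom (GrLC.quotGr 𝒜 mR) 𝒟 e) : GrLC.IsStarInjHull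 𝒜 (GrLC.quotGr 𝒜 mR) 𝒟 e := by
  open Groth.Agent.Lib.Helper99.GrDual in
  classical
  set u : R ⧸ mR.toIdeal := Ideal.Quotient.mk _ 1 with hu
  have hu0 : u ∈ GrLC.quotGr 𝒜 mR 0 := ⟨1, SetLike.one_mem_graded 𝒜, rfl⟩
  have he0 : e u ∈ 𝒟 0 := hegr 0 u hu0
  -- if `1 ∈ m` everything is trivial
  have h1m : (1 : R) ∈ mR.toIdeal → ∀ d : D, d = 0 := by
    intro h d
    have hle : mR.toIdeal ≤ gradedGE 𝒜 hposR 𝒜 1 := by
      rw [hmR]
      apply Ideal.span_le.mpr
      intro r hr
      simp only [Set.mem_iUnion, Set.mem_Ioi] at hr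
      obtain ⟨n, hn, hr⟩ := hr
      exact piece_le_gradedGE 𝒜 hposR 𝒜 (by omega) hr
    have h2 := hle h 0 (by omega)
    rw [DirectSum.decompose_of_mem_same 𝒜 (SetLike.one_mem_graded 𝒜)] at h2
    rw [← one_smul R d, h2, zero_smul]
  have h𝒟0 : ∀ d ∈ 𝒟 0, β d 1 = 0 → d = 0 := by
    intro d hd h1
    apply eq_zero' hD (n := 0) (m := 0) (by omega) hd
    intro x hx
    obtain ⟨c, rfl⟩ := exists_smul_one_of_mem_zero 𝒜 h0R hx
    rw [map_smul, h1, smul_zero]
  have h𝒟0range : ∀ d ∈ 𝒟 0, d ∈ LinearMap.range e := by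
    intro d hd
    by_cases hd0 : d = 0
    · rw [hd0]; exact zero_mem _
    have hne : β (e u) 1 ≠ 0 := by
      intro h
      have h2 : e u = 0 := h𝒟0 _ he0 h
      have h3 : u = 0 := he (by rw [h2, map_zero])
      rw [hu, Ideal.Quotient.eq_zero_iff_mem] at h3
      exact hd0 (h1m h3 d)
    set c : k := β d 1 / β (e u) 1 with hc
    have h4 : d - c • e u = 0 := by
      apply h𝒟0 _ (sub_mem hd (piece_smul_mem hD he0 c))
      rw [map_sub, LinearMap.sub_apply, map_smul, LinearMap.smul_apply, smul_eq_mul, hc,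
        div_mul_cancel₀ _ hne, sub_self]
    rw [sub_eq_zero] at h4
    refine ⟨algebraMap k R c • u, ?_⟩
    rw [map_smul, algebraMap_smul, h4]
  refine ⟨⟨he, hegr, ?_⟩, isStarInj_dual k R 𝒜 D 𝒟 β hD⟩
  intro P hP hPne
  obtain ⟨d, hdP, hd0⟩ := Submodule.exists_mem_ne_zero_of_ne_bot hPne
  obtain ⟨n, hn⟩ : ∃ n : ℤ, ((DirectSum.decompose 𝒟 d n : 𝒟 n) : D) ≠ 0 := by
    by_contra hcon
    push Not at hcon
    exact hd0 (eq_zero_of_decompose_eq_zero 𝒟 hcon)
  set d' : D := ((DirectSum.decompose 𝒟 d n : 𝒟 n) : D) with hd'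
  have hd'P : d' ∈ P := hP n hdP
  have hd'n : d' ∈ 𝒟 n := SetLike.coe_mem _
  obtain ⟨r, hr, hrd⟩ : ∃ r : R, r ∈ 𝒜 (-n) ∧ β d' r ≠ 0 := by
    by_contra hcon
    push Not at hcon
    exact hn (eq_zero' hD (n := n) (m := -n) (by omega) hd'n hcon)
  have h5 : r • d' ∈ 𝒟 0 := by
    have := smul_mem_piece 𝒜 𝒟 hr hd'n
    rwa [neg_add_cancel] at this
  have h6 : r • d' ≠ 0 := by
    intro h
    apply hrd
    have h7 := hD.map_smul r d' 1
    rw [h, map_zero, LinearMap.zero_apply, smul_eq_mul, mul_one] at h7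
    exact h7.symm
  intro hbot
  have h8 : r • d' ∈ P ⊓ LinearMap.range e := ⟨P.smul_mem r hd'P, h𝒟0range _ h5⟩
  rw [hbot] at h8
  exact h6 ((Submodule.mem_bot R).mp h8)

end Groth.Agent.S19752
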