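import Groth.Statements.S1976
import Groth.Agent.Lib.Helper10.WEMax
import Groth.Agent.Lib.Helper4.IndCriterion
import Groth.Agent.Lib.Helper3.WeaklyEtale
import Groth.Agent.S0736
-- import your own Groth.Agent.* helpers here

set_option autoImplicit false
universe u
open CategoryTheory
open EtAlg

namespace Groth.Agent.S1976

open Groth.Agent.Lib.Helper10.WE

/-- (2) ⇔ (3): a K-algebra B over a field K is weakly etale exactly when it can be written as a filtered
colimit of etale K-algebras, and in that case its finitely generated K-subalgebras are etale. -/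
theorem result (K : Type u) [Field K] (B : Type u) [CommRing B] [Algebra K B] :
    (Algebra.WeaklyEtale K B ↔ EtPBC.IsIndEtale K B) ∧
    (Algebra.WeaklyEtale K B → ∀ S : Subalgebra K B, S.FG → Algebra.Etale K S) := by
  have key : Algebra.WeaklyEtale K B → ∀ S : Subalgebra K B, S.FG → Algebra.Etale K S := by
    intro hWE S hS
    have h1 : Algebra.WeaklyEtale K S := by
      rw [weaklyEtale_subalgebra_iff]
      intro x _
      exact exists_monic_separable_aeval_eq_zero K B x
    have h2 : Algebra.FormallyUnramified K S :=
      Groth.Agent.Lib.Helper3.formallyUnramified_of_weaklyEtale K S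
    have h3 : Algebra.FiniteType K S := (Subalgebra.fg_iff_finiteType S).mp hS
    have h4 : Algebra.FormallyEtale K S := Algebra.FormallyEtale.of_formallyUnramified_of_field K S
    exact ⟨h4, Algebra.FinitePresentation.of_finiteType.mp h3⟩
  refine ⟨⟨fun hWE => ?_, fun h => Groth.Agent.S0736.result K B h⟩, key⟩
  rw [Groth.Agent.Lib.Helper4.isIndEtale_iff_hasFactorization]
  intro P _ _ hP φ
  have hfg : φ.range.FG := by
    rw [← Algebra.map_top]
    exact Subalgebra.FG.map φ (Algebra.FiniteType.out)
  have hE : Algebra.Etale K φ.range := key hWE φ.range hfg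
  exact ⟨φ.range, inferInstance, inferInstance, hE, φ.rangeRestrict, φ.range.val,
    AlgHom.ext fun x => rfl⟩

end Groth.Agent.S1976
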