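import Groth.Statements.S19760
import Groth.Agent.Lib.Helper99.GrDual

set_option autoImplicit false
universe u
open GrDual

namespace Groth.Agent.S19760

/-- Let R = ⊕_{n ≥ 0} R_n be a Noetherian graded ring with R_0 = k a field and R^* = ⊕_n Hom_k(R_{−n},
k) its graded k-dual. A graded R-module M is Artinian exactly when, for some t and some integer
shifts n_1, …, n_t, it embeds as a graded module into the direct sum of the shifted duals R^*(n_1),
…, R^*(n_t), that is, when there is an injective R-linear map M → (R^*)^t whose i-th component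
carries M_g into R^*_{g+n_i} for every g. Here a graded ring defined over k is a commutative
k-algebra of finite type, graded in nonnegative degrees by k-subspaces with degree-zero part k·1,
and R_+ is the ideal spanned by the R_n with n > 0 (a Noetherian such ring is the same as one of
finite type over k); the graded k-dual M^* = ⊕_n Hom_k(M_{−n}, k) of a graded R-module M (with r ∈ R
acting by (r f)(x) = f(r x)) is presented abstractly as a graded R-module D with a k-bilinear
pairing β : D × M → k compatible with the R-actions, under which D_n pairs to zero with M_m for m ≠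
−n and is identified with the full dual space of M_{−n}. -/
theorem result (k : Type u) [Field k] (R : Type u) [CommRing R] [Algebra k R] (𝒜 : ℤ → Submodule k R) [GradedAlgebra 𝒜] (hposR : ∀ n : ℤ, n < 0 → 𝒜 n = ⊥) (h0R : 𝒜 0 = Submodule.span k {(1 : R)}) [Algebra.FiniteType k R] (D : Type u) [AddCommGroup D] [Module R D] [Module k D] [IsScalarTower k R D] (𝒟 : ℤ → AddSubgroup D) [DirectSum.Decomposition 𝒟] [SetLike.GradedSMul 𝒜 𝒟] (β : D →ₗ[k] R →ₗ[k] k) (hD : GrSeg.IsGDual R 𝒜 𝒟 β) (M : Type u) [AddCommGroup M] [Module R M] [Module k M] [IsScalarTower k R M] (ℳ : ℤ → AddSubgroup M) [DirectSum.Decomposition ℳ] [SetLike.GradedSMul 𝒜 ℳ] : IsArtinian R M ↔ ∃ (t : ℕ) (sh : Fin t → ℤ) (f : M →ₗ[R] (Fin t → D)), Function.Injective f ∧ ∀ (i : Fin t) (g : ℤ) (x : M), x ∈ ℳ g → f x i ∈ 𝒟 (g + sh i) := by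
  open Groth.Agent.Lib.Helper99.GrDual in
  classical
  constructor
  · intro hart
    have hfinM : ∀ n, Module.Finite k (pieceSub 𝒜 ℳ n) :=
      finite_piece_of_isArtinian 𝒜 hposR h0R ℳ
    obtain ⟨T, hT⟩ := exists_finset_socle_degrees 𝒜 hposR h0R ℳ
    have hΨ : ∀ m : ℤ, ∃ Ψ : Finset (Module.Dual k (pieceSub 𝒜 ℳ m)),
        Submodule.span k (Ψ : Set (Module.Dual k (pieceSub 𝒜 ℳ m))) = ⊤ :=
      fun m => (Module.Finite.fg_top (R := k) (M := Module.Dual k (pieceSub 𝒜 ℳ m)))
    choose Ψ hΨ using hΨ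
    let I : Finset (Σ m : ℤ, Module.Dual k (pieceSub 𝒜 ℳ m)) := T.sigma Ψ
    let e : I ≃ Fin (Fintype.card I) := Fintype.equivFin I
    let lam : (Σ m : ℤ, Module.Dual k (pieceSub 𝒜 ℳ m)) → (M →ₗ[k] k) :=
      fun p => p.2 ∘ₗ componentMap 𝒜 ℳ p.1
    have hlam : ∀ (p : Σ m : ℤ, Module.Dual k (pieceSub 𝒜 ℳ m)) (g : ℤ), g ≠ p.1 →
        ∀ x : M, x ∈ ℳ g → lam p x = 0 := by
      intro p g hg x hx
      show p.2 (componentMap 𝒜 ℳ p.1 x) = 0
      rw [componentMap_of_mem_ne 𝒜 ℳ hg hx, map_zero]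
    choose h hh1 hh2 using fun p => exists_hom_of_functional 𝒜 ℳ hD (lam p) (hlam p)
    let f : M →ₗ[R] (Fin (Fintype.card I) → D) :=
      LinearMap.pi (fun i => h ((e.symm i : I) : Σ m : ℤ, Module.Dual k (pieceSub 𝒜 ℳ m)))
    have hf : ∀ (x : M) (i : Fin (Fintype.card I)), f x i =
        h ((e.symm i : I) : Σ m : ℤ, Module.Dual k (pieceSub 𝒜 ℳ m)) x := fun _ _ => rfl
    refine ⟨Fintype.card I,
      fun i => -((e.symm i : I) : Σ m : ℤ, Module.Dual k (pieceSub 𝒜 ℳ m)).1, f, ?_, ?_⟩
    · rw [← LinearMap.ker_eq_bot]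
      by_contra hne
      have hNgr : ∀ x ∈ LinearMap.ker f, ∀ m : ℤ,
          ((DirectSum.decompose ℳ x m : ℳ m) : M) ∈ LinearMap.ker f := by
        intro x hx m
        rw [LinearMap.mem_ker] at hx ⊢
        funext i
        rw [hf]
        set p := ((e.symm i : I) : Σ m : ℤ, Module.Dual k (pieceSub 𝒜 ℳ m)) with hp
        have h1 := decompose_map_of_degree ℳ 𝒟 (h p) (-p.1)
          (fun g b hb => by rw [← sub_eq_add_neg]; exact hh2 p g b hb) x m
        rw [← h1]
        have h2 : h p x = 0 := by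
          have := congrFun hx i
          rwa [hf] at this
        rw [h2]
        simp
      obtain ⟨m, y, hyN, hym, hy0, hysoc⟩ :=
        exists_mem_socle_of_ne_bot 𝒜 hposR ℳ (LinearMap.ker f) hNgr hne
      have hmT : m ∈ T := by
        by_contra hcon
        exact hy0 (hT y hysoc m hym hcon)
      have hex : ∃ ψ ∈ Ψ m, ψ (⟨y, hym⟩ : pieceSub 𝒜 ℳ m) ≠ 0 := by
        by_contra hcon
        push Not at hcon
        apply hy0
        have hall : ∀ ψ : Module.Dual k (pieceSub 𝒜 ℳ m),
            ψ (⟨y, hym⟩ : pieceSub 𝒜 ℳ m) = 0 := by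
          intro ψ
          have hψ : ψ ∈ Submodule.span k (Ψ m : Set (Module.Dual k (pieceSub 𝒜 ℳ m))) := by
            rw [hΨ m]; trivial
          induction hψ using Submodule.span_induction with
          | mem ψ hψ => exact hcon ψ hψ
          | zero => rfl
          | add a b _ _ ha hb => rw [LinearMap.add_apply, ha, hb, add_zero]
          | smul c a _ ha => rw [LinearMap.smul_apply, ha, smul_zero]
        have := (Module.forall_dual_apply_eq_zero_iff k (⟨y, hym⟩ : pieceSub 𝒜 ℳ m)).mp hall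
        exact congrArg Subtype.val this
      obtain ⟨ψ, hψ, hψy⟩ := hex
      have hpI : (⟨m, ψ⟩ : Σ m : ℤ, Module.Dual k (pieceSub 𝒜 ℳ m)) ∈ I :=
        Finset.mem_sigma.mpr ⟨hmT, hψ⟩
      have h1 : f y (e ⟨_, hpI⟩) = h ⟨m, ψ⟩ y := by
        rw [hf, Equiv.symm_apply_apply]
      have h2 : h ⟨m, ψ⟩ y = 0 := by
        rw [← h1, LinearMap.mem_ker.mp hyN]
        rfl
      apply hψy
      have h3 := hh1 ⟨m, ψ⟩ y 1
      rw [h2, map_zero, LinearMap.zero_apply, one_smul] at h3
      have h4 : componentMap 𝒜 ℳ m y = ⟨y, hym⟩ := Subtype.ext (componentMap_of_mem 𝒜 ℳ hym)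
      rw [← h4]
      exact h3.symm
    · intro i g x hx
      rw [hf, ← sub_eq_add_neg]
      exact hh2 _ g x hx
  · rintro ⟨t, sh, f, hf, _⟩
    have : IsArtinian R D := isArtinian_dual_of_finite 𝒜 hposR h0R 𝒜 𝒟 hD
    exact isArtinian_of_injective f hf

end Groth.Agent.S19760
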