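import Groth.Statements.S19762
import Groth.Agent.Lib.Helper99.GrDual

set_option autoImplicit false
universe u
open GrDual

namespace Groth.Agent.S19762

/-- Let R = ⊕_{n ≥ 0} R_n be a Noetherian graded ring with R_0 = k a field. The graded k-dual is an
equivalence between Noetherian graded R-modules and the opposite category of Artinian graded
R-modules; on morphisms: for finitely generated graded R-modules F and M, every homomorphism of
graded R-modules g : M^* → F^* is f^* for a unique homomorphism of graded R-modules f : F → M. Here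
a graded ring defined over k is a commutative k-algebra of finite type, graded in nonnegative
degrees by k-subspaces with degree-zero part k·1, and R_+ is the ideal spanned by the R_n with n > 0
(a Noetherian such ring is the same as one of finite type over k); the graded k-dual M^* = ⊕_n
Hom_k(M_{−n}, k) of a graded R-module M (with r ∈ R acting by (r f)(x) = f(r x)) is presented
abstractly as a graded R-module D with a k-bilinear pairing β : D × M → k compatible with the
R-actions, under which D_n pairs to zero with M_m for m ≠ −n and is identified with the full dual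
space of M_{−n}; f^* = g means β_F(g d, x) = β_M(d, f x) for all d and x. -/
theorem result (k : Type u) [Field k] (R : Type u) [CommRing R] [Algebra k R] (𝒜 : ℤ → Submodule k R) [GradedAlgebra 𝒜] (hposR : ∀ n : ℤ, n < 0 → 𝒜 n = ⊥) (h0R : 𝒜 0 = Submodule.span k {(1 : R)}) [Algebra.FiniteType k R] (F : Type u) [AddCommGroup F] [Module R F] [Module k F] [IsScalarTower k R F] (ℱ : ℤ → AddSubgroup F) [DirectSum.Decomposition ℱ] [SetLike.GradedSMul 𝒜 ℱ] [Module.Finite R F] (M : Type u) [AddCommGroup M] [Module R M] [Module k M] [IsScalarTower k R M] (ℳ : ℤ → AddSubgroup M) [DirectSum.Decomposition ℳ] [SetLike.GradedSMul 𝒜 ℳ] [Module.Finite R M] (DM : Type u) [AddCommGroup DM] [Module R DM] [Module k DM] [IsScalarTower k R DM] (𝒟M : ℤ → AddSubgroup DM) [DirectSum.Decomposition 𝒟M] [SetLike.GradedSMul 𝒜 𝒟M] (βM : DM →ₗ[k] M →ₗ[k] k) (hDM : GrSeg.IsGDual R ℳ 𝒟M βM) (DF : Type u) [AddCommGroup DF] [Module R DF] [Module k DF] [IsScalarTower k R DF] (𝒟F : ℤ → AddSubgroup DF) [DirectSum.Decomposition 𝒟F] [SetLike.GradedSMul 𝒜 𝒟F] (βF : DF →ₗ[k] F →ₗ[k] k)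 (hDF : GrSeg.IsGDual R ℱ 𝒟F βF) (g : DM →ₗ[R] DF) (hg : GrLC.IsGrHom 𝒟M 𝒟F g) : ∃! f : F →ₗ[R] M, GrLC.IsGrHom ℱ ℳ f ∧ GrSeg.IsGDualMap βM βF f g := by
  open Groth.Agent.Lib.Helper99.GrDual in
  classical
  have : IsNoetherianRing R := Algebra.FiniteType.isNoetherianRing k R
  have : IsNoetherian R M := isNoetherian_of_isNoetherianRing_of_finite R M
  have hfinM : ∀ n, Module.Finite k (pieceSub 𝒜 ℳ n) :=
    finite_piece_of_isNoetherian 𝒜 hposR h0R ℳ
  have hflip : GrSeg.IsGDual R 𝒟M ℳ βM.flip :=
    isGDual_flip hDM (pieceSub 𝒜 ℳ) (fun _ _ => Iff.rfl)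
  have hinj : ∀ y y' : M, (∀ d : DM, βM d y = βM d y') → y = y' := by
    intro y y' h
    apply beta_injective hflip
    apply LinearMap.ext
    intro d
    rw [LinearMap.flip_apply, LinearMap.flip_apply]
    exact h d
  have key : ∀ x : F, ∃ y : M, ∀ d : DM, βM d y = βF (g d) x := by
    intro x
    let φ : DM →ₗ[k] k := (βF.flip x) ∘ₗ (g.restrictScalars k)
    have hφ : ∀ d : DM, φ d = βF (g d) x := fun _ => rfl
    obtain ⟨y, hy⟩ := exists_of_finite_support hflip φ
      ((DirectSum.decompose ℱ x).support.image (fun i => -i)) (by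
        intro m hm d hd
        rw [hφ, beta_eq_component_right hDF (n := m) (m := -m) (by omega) (hg m d hd) x]
        have : -m ∉ (DirectSum.decompose ℱ x).support := by
          intro h
          apply hm
          rw [Finset.mem_image]
          exact ⟨-m, h, by omega⟩
        rw [DFinsupp.notMem_support_iff] at this
        rw [this]
        simp)
    refine ⟨y, fun d => ?_⟩
    have := LinearMap.congr_fun hy d
    rw [LinearMap.flip_apply, hφ] at this
    exact this
  choose f hf using key
  let f' : F →ₗ[R] M :=
    { toFun := f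
      map_add' := fun x x' => hinj _ _ (fun d => by
        rw [hf, map_add, map_add, hf, hf])
      map_smul' := fun r x => hinj _ _ (fun d => by
        rw [RingHom.id_apply]
        calc βM d (f (r • x)) = βF (g d) (r • x) := hf _ _
          _ = βF (r • g d) x := (hDF.map_smul r (g d) x).symm
          _ = βF (g (r • d)) x := by rw [LinearMap.map_smul]
          _ = βM (r • d) (f x) := (hf x (r • d)).symm
          _ = βM d (r • f x) := hDM.map_smul r d (f x)) }
  have hf' : ∀ x, f' x = f x := fun _ => rfl
  refine ⟨f', ⟨?_, ?_⟩, ?_⟩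
  · intro n x hx
    rw [mem_piece_iff hflip]
    intro m hm d hd
    rw [LinearMap.flip_apply, hf', hf]
    exact vanish' hDF (hg m d hd) hx (by omega)
  · intro d x
    rw [hf', hf]
  · rintro f'' ⟨_, h2⟩
    apply LinearMap.ext
    intro x
    apply hinj
    intro d
    rw [hf', hf, ← h2 d x]

end Groth.Agent.S19762
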