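import Groth.Statements.S19767
-- import your own Groth.Agent.* helpers here
import Groth.Agent.Lib.Helper40.KLCalc

set_option autoImplicit false
universe u
open CategoryTheory MonoidalCategory CartesianMonoidalCategory MonObj GrpObj AlgebraicGeometry
open AbVar

namespace Groth.Agent.S19767

open Groth.Agent.Lib.Helper40.PicCalc Groth.Agent.Lib.Helper40.KLCalc

/-- Let X be an abelian variety over a field k (a proper, geometrically integral k-group scheme), L an
invertible O_X-module, T a k-scheme, x : T → X a T-valued point with translation t_x : X_T → X_T,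
and L_T the inverse image of L on X_T = X ×_k T. If an O_T-module M satisfies L_T ⊗ pr_T^*M ≅
t_x^*L_T (that is, t_x^*L_T ⊗ L_T⁻¹ ≅ pr_T^*M), then M ≅ x^*L (existence of an isomorphism). (The
published statement takes M invertible; invertibility is not needed.) -/
theorem result (k : Type u) [Field k] (X : Over (Spec (CommRingCat.of k)))
    [GrpObj X] [IsProper X.hom] [GeometricallyIntegral X.hom] (L : X.left.Modules) (hL : PicF.IsInvertible L)
    (T : Over (Spec (CommRingCat.of k))) (x : T ⟶ X) (M : T.left.Modules)
    (h : Nonempty (CohB1.tensorMod ((Scheme.Modules.pullback (fst X T).left).obj L)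
          ((Scheme.Modules.pullback (snd X T).left).obj M) ≅
        (Scheme.Modules.pullback (ThetaGrp.transl X x ≫ fst X T).left).obj L)) :
    Nonempty (M ≅ (Scheme.Modules.pullback x.left).obj L) := by
  obtain ⟨e⟩ := h
  have hℓ : IsInv (cl L) := isInv_cl hL
  have h1 : pb (fst X T).left (cl L) * pb (snd X T).left (cl M) =
      pb (ThetaGrp.transl X x ≫ fst X T).left (cl L) := cl_eq_of_iso e
  have hν : IsInv (pb (snd X T).left (cl M)) := (hℓ.pb _).of_mul_eq (hℓ.pb _) h1
  have h2 : cl M = pb x.left (cl L) := by
    calc cl M = 1 * pb (𝟙 T : T ⟶ T).left (cl M) := by rw [_root_.one_mul, pbo_id]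
      _ = pb (es X T ≫ fst X T).left (cl L) * pb (es X T ≫ snd X T).left (cl M) := by
          rw [pbo_congr (es_fst X T), pb_one_hom X L hL T, pbo_congr (es_snd X T)]
      _ = pb (es X T).left (pb (fst X T).left (cl L)) *
            pb (es X T).left (pb (snd X T).left (cl M)) := by
          rw [pbo_comp, pbo_comp]
      _ = pb (es X T).left (pb (fst X T).left (cl L) * pb (snd X T).left (cl M)) :=
          (pb_mul _ (hℓ.pb _) hν).symm
      _ = pb (es X T).left (pb (ThetaGrp.transl X x ≫ fst X T).left (cl L)) := by rw [h1]
      _ = pb (es X T ≫ ThetaGrp.transl X x ≫ fst X T).left (cl L) := pbo_comp _ _ _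
      _ = pb x.left (cl L) := pbo_congr (es_transl_fst X x) _
  exact cl_eq_iff.1 h2

end Groth.Agent.S19767
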