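import Groth.Statements.S19770
-- import your own Groth.Agent.* helpers here
import Groth.Agent.Lib.Helper40.KLCalc

set_option autoImplicit false
universe u
open CategoryTheory MonoidalCategory CartesianMonoidalCategory MonObj GrpObj AlgebraicGeometry
open AbVar

namespace Groth.Agent.S19770

open Groth.Agent.Lib.Helper40.PicCalc Groth.Agent.Lib.Helper40.KLCalc

/-- Let X be an abelian variety over a field k (a proper, geometrically integral k-group scheme), L an
invertible O_X-module, i : K → X a closed immersion exhibiting K as K(L) (the maximal closed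
subscheme over which the Mumford bundle m^*L ⊗ p_1^*L⁻¹ ⊗ p_2^*L⁻¹, restricted to X ×_k K, is the
inverse image of an invertible module on K, with its universal property), and B a k-group scheme
with a homomorphism j : B → X that factors through i. Write M = j^*L. Then M ⊗ [-1]^*M ≅ O_B, where
[-1] : B → B is the inversion (existence of an isomorphism). (The published statement assumes k
algebraically closed and takes for B the reduced identity component of K(L), an abelian subvariety;
the argument — restrict the Mumford bundle to B × B and pull back along (1, -1) — applies to any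
group scheme over k mapping homomorphically into K(L).) -/
theorem result (k : Type u) [Field k] (X : Over (Spec (CommRingCat.of k)))
    [GrpObj X] [IsProper X.hom] [GeometricallyIntegral X.hom] (L : X.left.Modules) (hL : PicF.IsInvertible L)
    (K : Over (Spec (CommRingCat.of k))) (i : K ⟶ X) (hK : ThetaGrp.IsKL X L i)
    (B : Over (Spec (CommRingCat.of k))) [GrpObj B] (j : B ⟶ X) [IsMonHom j] (hj : ∃ y : B ⟶ K, y ≫ i = j) :
    Nonempty (CohB1.tensorMod ((Scheme.Modules.pullback j.left).obj L)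
        ((Scheme.Modules.pullback ((𝟙 B)⁻¹ ≫ j).left).obj L) ≅ Coh.structureModule B.left) := by
  have hℓ : IsInv (cl L) := isInv_cl hL
  obtain ⟨M, hM, ⟨e⟩⟩ := (hK.univ B j).2 hj
  have h1 : pb (snd X B).left (cl M) * pb (fst X B).left (cl L) *
      pb (snd X B ≫ j).left (cl L) = pb ((X ◁ j) ≫ μ[X]).left (cl L) := cl_eq_of_iso e
  have hM1 : cl M = 1 := cl_eq_one X L hL j (cl M) (isInv_cl hM) h1
  rw [hM1, pb_one, _root_.one_mul] at h1
  obtain ⟨g, hg⟩ : ∃ g : B ⟶ X ⊗ B, g = lift ((𝟙 B)⁻¹ ≫ j) (𝟙 B) := ⟨_, rfl⟩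
  have hg1 : g ≫ fst X B = (𝟙 B)⁻¹ ≫ j := by rw [hg, lift_fst]
  have hg2 : g ≫ snd X B ≫ j = j := by rw [hg, ← Category.assoc, lift_snd, Category.id_comp]
  have hg3 : g ≫ (X ◁ j) ≫ μ[X] = 1 := by
    rw [whisker_mul, ThetaGrp.transl_fst, MonObj.comp_mul, hg1, hg2]
    calc ((𝟙 B)⁻¹ ≫ j) * j = ((𝟙 B)⁻¹ ≫ j) * (𝟙 B ≫ j) := by rw [Category.id_comp]
      _ = ((𝟙 B)⁻¹ * 𝟙 B) ≫ j := (MonObj.mul_comp _ _ _).symm
      _ = 1 := by rw [_root_.inv_mul_cancel, MonObj.one_comp]
  have h3 : pb ((𝟙 B)⁻¹ ≫ j).left (cl L) * pb j.left (cl L) = 1 := by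
    calc pb ((𝟙 B)⁻¹ ≫ j).left (cl L) * pb j.left (cl L)
        = pb (g ≫ fst X B).left (cl L) * pb (g ≫ snd X B ≫ j).left (cl L) := by
          rw [pbo_congr hg1, pbo_congr hg2]
      _ = pb g.left (pb (fst X B).left (cl L)) * pb g.left (pb (snd X B ≫ j).left (cl L)) := by
          rw [pbo_comp, pbo_comp]
      _ = pb g.left (pb (fst X B).left (cl L) * pb (snd X B ≫ j).left (cl L)) :=
          (pb_mul _ (hℓ.pb _) (hℓ.pb _)).symm
      _ = pb g.left (pb ((X ◁ j) ≫ μ[X]).left (cl L)) := by rw [h1]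
      _ = pb (g ≫ (X ◁ j) ≫ μ[X]).left (cl L) := pbo_comp _ _ _
      _ = pb (1 : B ⟶ X).left (cl L) := pbo_congr hg3 _
      _ = 1 := pb_one_hom X L hL B
  refine cl_eq_iff.1 ?_
  show pb j.left (cl L) * pb ((𝟙 B)⁻¹ ≫ j).left (cl L) = 1
  rw [_root_.mul_comm]
  exact h3

end Groth.Agent.S19770
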