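import Groth.Statements.S19804
import Mathlib

set_option autoImplicit false
open scoped TensorProduct
universe u v w
open Brauer

namespace Groth.Agent.S19804

/-- Let R be a commutative ring with Spec R connected, A an Azumaya R-algebra and e an idempotent
element of A. If for some nonzero commutative R-algebra R' the element 1 ⊗ e of R' ⊗_R A is 0, then
e = 0; and if 1 ⊗ e = 1 in R' ⊗_R A, then e = 1. (The published statement is for an Azumaya algebra
over a connected scheme S and base change to an arbitrary nonempty S-scheme T; this row takes S and
T affine.) -/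
theorem result {R : Type u} [CommRing R]
    [ConnectedSpace (PrimeSpectrum R)] {A : Type v} [Ring A] [Algebra R A] [IsAzumaya R A]
    (e : A) (he : IsIdempotentElem e) (R' : Type w) [CommRing R'] [Nontrivial R'] [Algebra R R'] :
    ((1 : R') ⊗ₜ[R] e = (0 : R' ⊗[R] A) → e = 0) ∧ ((1 : R') ⊗ₜ[R] e = (1 : R' ⊗[R] A) → e = 1) := by
  have key : ∀ e : A, IsIdempotentElem e → (1 : R') ⊗ₜ[R] e = (0 : R' ⊗[R] A) → e = 0 := by
    intro e he h0
    let f : A →ₗ[R] A := LinearMap.mulLeft R e
    have hff : ∀ a, f (f a) = f a := by
      intro a
      simp only [f, LinearMap.mulLeft_apply, ← mul_assoc, he.eq]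
    let M : Submodule R A := LinearMap.range f
    have hsplit : f.rangeRestrict.comp M.subtype = LinearMap.id := by
      ext ⟨m, a, rfl⟩
      simp only [LinearMap.comp_apply, Submodule.subtype_apply, LinearMap.id_apply]
      exact hff a
    haveI : Module.Projective R M := Module.Projective.of_split M.subtype f.rangeRestrict hsplit
    haveI : Module.Finite R M := Module.Finite.range f
    haveI : Module.FinitePresentation R M := Module.finitePresentation_of_projective R M
    -- base change is trivial
    have hsub : Subsingleton (R' ⊗[R] M) := by
      have hinj : Function.Injective (LinearMap.lTensor R' M.subtype) := by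
        have h1 : (LinearMap.lTensor R' f.rangeRestrict).comp (LinearMap.lTensor R' M.subtype) =
            LinearMap.id := by
          rw [← LinearMap.lTensor_comp, hsplit, LinearMap.lTensor_id]
        exact Function.LeftInverse.injective (g := LinearMap.lTensor R' f.rangeRestrict)
          (fun z ↦ by rw [← LinearMap.comp_apply, h1, LinearMap.id_apply])
      have hzero : ∀ z : R' ⊗[R] M, LinearMap.lTensor R' M.subtype z = 0 := by
        intro z
        induction z using TensorProduct.induction_on with
        | zero => simp
        | tmul r m =>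
          obtain ⟨m, a, rfl⟩ := m
          rw [LinearMap.lTensor_tmul, Submodule.subtype_apply]
          have : r ⊗ₜ[R] (f a) = ((1 : R') ⊗ₜ[R] e) * (r ⊗ₜ[R] a) := by
            rw [Algebra.TensorProduct.tmul_mul_tmul, one_mul]; rfl
          rw [this, h0, zero_mul]
        | add x y hx hy => rw [map_add, hx, hy, add_zero]
      refine ⟨fun x y ↦ hinj ?_⟩
      rw [hzero x, hzero y]
    obtain ⟨q'⟩ : Nonempty (PrimeSpectrum R') := inferInstance
    have hrk0 : Module.rankAtStalk (R := R) M (q'.comap (algebraMap R R')) = 0 := by
      rw [← Module.rankAtStalk_baseChange]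
      have := Module.rankAtStalk_eq_zero_of_subsingleton (R := R') (M := R' ⊗[R] M)
      rw [this]; rfl
    have hconst : Module.rankAtStalk (R := R) M = 0 := by
      funext p
      have hlc := Module.isLocallyConstant_rankAtStalk (R := R) (M := M)
      rw [hlc.apply_eq_of_preconnectedSpace p (q'.comap (algebraMap R R')), hrk0]
      rfl
    have hMsub : Subsingleton M := Module.rankAtStalk_eq_zero_iff_subsingleton.mp hconst
    have heM : e ∈ M := ⟨1, by simp [f]⟩
    have := Subsingleton.elim (⟨e, heM⟩ : M) 0
    exact congrArg Subtype.val this
  refine ⟨key e he, fun h1 ↦ ?_⟩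
  have h2 : (1 : R') ⊗ₜ[R] (1 - e) = (0 : R' ⊗[R] A) := by
    rw [TensorProduct.tmul_sub, h1, ← Algebra.TensorProduct.one_def, sub_self]
  have := key (1 - e) he.one_sub h2
  rw [sub_eq_zero] at this
  exact this.symm

end Groth.Agent.S19804
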