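import Groth.Statements.S19809
import Groth.Agent.Lib.Helper83.BinaryForms

set_option autoImplicit false
universe u
open RatCurv

namespace Groth.Agent.S19809


open MvPolynomial Groth.Agent.Lib.Helper83

/-- Step 4: no nonzero cubic `g` has `g · N_2 ⊆ V`. -/
theorem no_cubic (K : Type u) [Field K] [IsAlgClosed K]
    (V : Submodule K (MvPolynomial (Fin 2) K))
    (hdim : Module.finrank K ↥V = 4)
    (hsep : ∀ e ∈ MvPolynomial.homogeneousSubmodule (Fin 2) K 2, e ≠ 0 →
      ∀ F ∈ MvPolynomial.homogeneousSubmodule (Fin 2) K 5, ∃ v ∈ V,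
        ∃ h ∈ MvPolynomial.homogeneousSubmodule (Fin 2) K 3, F = v + e * h)
    (g : MvPolynomial (Fin 2) K) (hg : g ∈ homogeneousSubmodule (Fin 2) K 3)
    (hgV : ∀ h ∈ homogeneousSubmodule (Fin 2) K 2, g * h ∈ V) : g = 0 := by
  by_contra hg0
  obtain ⟨l, hl, e, he, rfl⟩ := exists_linear_factor K 2 g hg
  have he0 : e ≠ 0 := fun h => hg0 (by rw [h, mul_zero])
  have : FiniteDimensional K V := Module.finite_of_finrank_pos (by rw [hdim]; norm_num)
  set E := (homogeneousSubmodule (Fin 2) K 3).map (LinearMap.mulLeft K e) with hE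
  set G := (homogeneousSubmodule (Fin 2) K 2).map (LinearMap.mulLeft K (l * e)) with hG
  have hsup : homogeneousSubmodule (Fin 2) K 5 ≤ V ⊔ E := by
    intro F hF
    obtain ⟨v, hv, h, hh, rfl⟩ := hsep e he he0 F hF
    exact Submodule.add_mem_sup hv ⟨h, hh, rfl⟩
  have hinf : G ≤ V ⊓ E := by
    rintro _ ⟨h, hh, rfl⟩
    refine ⟨hgV h hh, l * h, ?_, ?_⟩
    · exact IsHomogeneous.mul (m := 1) (n := 2) hl hh
    · simp only [LinearMap.mulLeft_apply]; ring
  have h1 := Submodule.finrank_sup_add_finrank_inf_eq V E
  have h2 : Module.finrank K E = 4 := finrank_map_mulLeft K 3 e he0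
  have h3 : Module.finrank K G = 3 := finrank_map_mulLeft K 2 (l * e) hg0
  have h4 := Submodule.finrank_mono hsup
  have h5 := Submodule.finrank_mono hinf
  rw [finrank_homogeneousSubmodule_fin_two] at h4
  omega


/-- The pencil of hyperplanes of `N_5` containing `V`. -/
theorem exists_pencil (K : Type u) [Field K]
    (V : Submodule K (MvPolynomial (Fin 2) K))
    (hV : V ≤ MvPolynomial.homogeneousSubmodule (Fin 2) K 5) (hdim : Module.finrank K ↥V = 4) :
    ∃ W : K → Submodule K (MvPolynomial (Fin 2) K),
      (∀ t, V ≤ W t) ∧ (∀ t, W t ≤ homogeneousSubmodule (Fin 2) K 5) ∧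
      (∀ t, Module.finrank K (W t) = 5) ∧ (∀ t s, t ≠ s → W t ⊓ W s ≤ V) := by
  have hq := finrank_quotient_restrictTo K 5 V hV
  have hQ : Module.finrank K (homogeneousSubmodule (Fin 2) K 5 ⧸ restrictTo K 5 V) = 2 := by omega
  let b : Module.Basis (Fin 2) K (homogeneousSubmodule (Fin 2) K 5 ⧸ restrictTo K 5 V) :=
    Module.finBasisOfFinrankEq K _ hQ
  let φ : K → (homogeneousSubmodule (Fin 2) K 5 →ₗ[K] K) := fun t =>
    (b.coord 0 + t • b.coord 1) ∘ₗ (restrictTo K 5 V).mkQ
  have hφ : ∀ t x, φ t x = b.coord 0 (Submodule.Quotient.mk x) + t * b.coord 1 (Submodule.Quotient.mk x) := by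
    intro t x
    simp [φ]
  refine ⟨fun t => (LinearMap.ker (φ t)).map (homogeneousSubmodule (Fin 2) K 5).subtype,
    ?_, ?_, ?_, ?_⟩
  · intro t v hv
    refine ⟨⟨v, hV hv⟩, ?_, rfl⟩
    have h0 : (Submodule.Quotient.mk (⟨v, hV hv⟩ : homogeneousSubmodule (Fin 2) K 5) :
        homogeneousSubmodule (Fin 2) K 5 ⧸ restrictTo K 5 V) = 0 := by
      rw [Submodule.Quotient.mk_eq_zero]
      exact hv
    simp only [SetLike.mem_coe, LinearMap.mem_ker, hφ, h0, map_zero, mul_zero, add_zero]
  · intro t
    exact Submodule.map_subtype_le _ _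
  · intro t
    have hinj : Function.Injective (homogeneousSubmodule (Fin 2) K 5).subtype :=
      Submodule.injective_subtype _
    show Module.finrank K ((LinearMap.ker (φ t)).map (homogeneousSubmodule (Fin 2) K 5).subtype) = 5
    rw [← (Submodule.equivMapOfInjective _ hinj (LinearMap.ker (φ t))).finrank_eq]
    have h1 := LinearMap.finrank_range_add_finrank_ker (φ t)
    rw [finrank_homogeneousSubmodule_fin_two] at h1
    have hsurj : Function.Surjective (φ t) := by
      obtain ⟨x, hx⟩ := Submodule.Quotient.mk_surjective (restrictTo K 5 V) (b 0)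
      have hx1 : φ t x = 1 := by
        rw [hφ, hx]
        simp [Module.Basis.coord_apply]
      intro c
      exact ⟨c • x, by rw [map_smul, hx1, smul_eq_mul, mul_one]⟩
    rw [LinearMap.range_eq_top.2 hsurj, finrank_top, Module.finrank_self] at h1
    omega
  · rintro t s hts x ⟨⟨y, hy, rfl⟩, ⟨y', hy', hyy'⟩⟩
    have : y' = y := Subtype.ext hyy'
    subst this
    rw [SetLike.mem_coe, LinearMap.mem_ker, hφ] at hy hy'
    have h1 : b.coord 1 (Submodule.Quotient.mk y') = 0 := by
      have : (t - s) * b.coord 1 (Submodule.Quotient.mk y') = 0 := by linear_combination hy - hy'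
      rcases mul_eq_zero.1 this with h | h
      · exact absurd (sub_eq_zero.1 h) hts
      · exact h
    have h0 : b.coord 0 (Submodule.Quotient.mk y') = 0 := by
      rw [h1, mul_zero, add_zero] at hy
      exact hy
    have hq0 : (Submodule.Quotient.mk y' : homogeneousSubmodule (Fin 2) K 5 ⧸ restrictTo K 5 V) = 0 := by
      rw [← Module.Basis.forall_coord_eq_zero_iff b]
      intro i
      fin_cases i
      · exact h0
      · exact h1
    rw [Submodule.Quotient.mk_eq_zero] at hq0
    exact hq0

/-- A smooth rational quintic curve C ⊂ P^3 has a one-parameter family of 3-secant lines. Stated, as for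
the nondegenerate case, through binary forms: C is the image of P^1 under a 4-dimensional linear
series V of binary quintic forms which separates every length-2 subscheme of P^1 (for every nonzero
quadratic form e, the forms of V together with the multiples of e span all quintic forms), so that
P^1 → P(V^*) = P^3 is a closed embedding; the linear forms on P^3 are the elements of V, a line L ⊂
P^3 is the 2-dimensional space of linear forms vanishing on it, and L ∩ C has length at least 3
exactly when that space is contained in g · K[s,t]_2 for a cubic form g. The conclusion: there are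
infinitely many pairwise non-proportional nonzero cubic forms g with dim (V ∩ g · K[s,t]_2) ≥ 2,
i.e. for every finite set of cubics there is such a g proportional to none of them. (The ground
field is algebraically closed of characteristic zero in place of the complex numbers; the third
printed assertion, on curves all of whose 3-secants are 4-secant, is not stated.) -/
theorem result (K : Type u) [Field K] [IsAlgClosed K]
    [CharZero K] (V : Submodule K (MvPolynomial (Fin 2) K))
    (hV : V ≤ MvPolynomial.homogeneousSubmodule (Fin 2) K 5) (hdim : Module.finrank K ↥V = 4)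
    (hsep : ∀ e ∈ MvPolynomial.homogeneousSubmodule (Fin 2) K 2, e ≠ 0 →
      ∀ F ∈ MvPolynomial.homogeneousSubmodule (Fin 2) K 5, ∃ v ∈ V,
        ∃ h ∈ MvPolynomial.homogeneousSubmodule (Fin 2) K 3, F = v + e * h)
    (F : Finset (MvPolynomial (Fin 2) K)) :
    ∃ g ∈ MvPolynomial.homogeneousSubmodule (Fin 2) K 3, g ≠ 0 ∧
      2 ≤ Module.finrank K ↥(V ⊓ (MvPolynomial.homogeneousSubmodule (Fin 2) K 2).map (LinearMap.mulLeft K g)) ∧
      ∀ g' ∈ F, ∀ c : K, g ≠ c • g' := by
  classical
  have hVfin : FiniteDimensional K V := Module.finite_of_finrank_pos (by rw [hdim]; norm_num)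
  obtain ⟨W, hVW, hW5, hWdim, hWW⟩ := exists_pencil K V hV hdim
  have hWfin : ∀ t, FiniteDimensional K (W t) := fun t =>
    Module.finite_of_finrank_pos (by rw [hWdim]; norm_num)
  -- the cubic attached to each member of the pencil
  have hex : ∀ t : K, ∃ g ∈ homogeneousSubmodule (Fin 2) K 3, g ≠ 0 ∧
      ∀ h ∈ homogeneousSubmodule (Fin 2) K 2, g * h ∈ W t := fun t =>
    exists_ne_zero_mul_mem K 3 2 1 (W t) (hW5 t) (by rw [hWdim]) (by norm_num)
  choose g hg3 hg0 hgW using hex
  have hrank : ∀ t, 2 ≤ Module.finrank K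
      ↥(V ⊓ (homogeneousSubmodule (Fin 2) K 2).map (LinearMap.mulLeft K (g t))) := by
    intro t
    have := hWfin t
    set G := (homogeneousSubmodule (Fin 2) K 2).map (LinearMap.mulLeft K (g t)) with hG
    have hGW : G ≤ W t := by
      rintro _ ⟨h, hh, rfl⟩
      exact hgW t h hh
    have h1 := Submodule.finrank_sup_add_finrank_inf_eq V G
    have h2 : Module.finrank K G = 3 := finrank_map_mulLeft K 2 (g t) (hg0 t)
    have h3 := Submodule.finrank_mono (sup_le (hVW t) hGW)
    rw [hWdim] at h3
    omega
  by_contra hcon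
  push Not at hcon
  have hbad : ∀ t : K, ∃ g' ∈ F, ∃ c : K, g t = c • g' := fun t =>
    hcon (g t) (hg3 t) (hg0 t) (hrank t)
  choose g' hg'F c hc using hbad
  have hinj : Function.Injective (fun t : K => (⟨g' t, hg'F t⟩ : F)) := by
    intro t s hts
    have hts' : g' t = g' s := congrArg Subtype.val hts
    by_contra hne
    have hcs : c s ≠ 0 := by
      intro h0
      apply hg0 s
      rw [hc s, h0, zero_smul]
    have hgt : g t = (c t / c s) • g s := by
      rw [hc s, smul_smul, div_mul_cancel₀ _ hcs, hc t, hts']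
    have hgV : ∀ h ∈ homogeneousSubmodule (Fin 2) K 2, g t * h ∈ V := by
      intro h hh
      apply hWW t s hne
      refine ⟨hgW t h hh, ?_⟩
      rw [hgt, smul_mul_assoc]
      exact (W s).smul_mem _ (hgW s h hh)
    exact hg0 t (no_cubic K V hdim hsep (g t) (hg3 t) hgV)
  exact not_injective_infinite_finite _ hinj

end Groth.Agent.S19809
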