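import Groth.Statements.S1982
import Groth.Agent.S7132
import Groth.Agent.Lib.Helper10.RamTower
import Groth.Agent.Lib.Helper10.SolCore2
import Groth.Agent.Lib.Helper10.RamIdx
-- import your own Groth.Agent.* helpers here

set_option autoImplicit false
set_option linter.style.haveILetI false
universe u
open EtAlg
open Groth.Agent.Lib.Helper10.RamTower Groth.Agent.Lib.Helper10.SolCore Groth.Agent.Lib.Helper10.SolCore2 Groth.Agent.Lib.Helper10.VNRGen Groth.Agent.Lib.Helper10.RamIdx
open IsLocalRing

namespace Groth.Agent.S1982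

/-- Suppose A -> B makes the discrete valuation ring B an extension of the discrete valuation ring A,
write K ⊂ L for their fraction fields and e for the ramification index; assume the residue
characteristic of A is zero, or it is p with p not dividing e and the residue field extension of A
-> B separable (in the general sense, i.e. geometrically reduced; it need not be algebraic). Let
K₁/K be a finite extension. Then for every compositum M of L and K₁ and every valuation subring W of
M dominating B such that e divides the ramification index of A -> W ∩ K₁, the extension W ∩ K₁ -> W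
is weakly unramified with separable (geometrically reduced) residue field extension. -/
theorem result (A B K L : Type u) [CommRing A] [IsDomain A] [IsDiscreteValuationRing A]
    [CommRing B] [IsDomain B] [IsDiscreteValuationRing B] [Algebra A B] [IsLocalHom (algebraMap A B)]
    (hinj : Function.Injective (algebraMap A B))
    [Field K] [Field L] [Algebra A K] [IsFractionRing A K] [Algebra B L] [IsFractionRing B L]
    [Algebra K L] [Algebra A L] [IsScalarTower A K L] [IsScalarTower A B L]
    (htame : CharZero (IsLocalRing.ResidueField A) ∨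
      ∃ p : ℕ, p.Prime ∧ CharP (IsLocalRing.ResidueField A) p ∧
        ¬ p ∣ Ideal.ramificationIdx' (IsLocalRing.maximalIdeal A) (IsLocalRing.maximalIdeal B) ∧
        Algebra.IsGeometricallyReduced (IsLocalRing.ResidueField A) (IsLocalRing.ResidueField B))
    (K₁ : Type u) [Field K₁] [Algebra K K₁] [FiniteDimensional K K₁] :
    EtRam.ForallLocalExt B K L K₁ (fun M _ W f =>
      ∀ hA : ∀ a : A, (algebraMap K K₁) (algebraMap A K a) ∈ W.comap f,
        letI : Algebra A (W.comap f) := (RingHom.codRestrict ((algebraMap K K₁).comp (algebraMap A K)) (W.comap f) hA).toAlgebra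
        letI : Algebra (W.comap f) W := (EtRam.inclOfComap W f).toAlgebra
        Ideal.ramificationIdx' (IsLocalRing.maximalIdeal A) (IsLocalRing.maximalIdeal B) ∣
          Ideal.ramificationIdx' (IsLocalRing.maximalIdeal A) (IsLocalRing.maximalIdeal (W.comap f)) →
        EtRam.IsWeaklyUnramified (W.comap f) W ∧
          @Algebra.IsGeometricallyReduced (IsLocalRing.ResidueField (W.comap f)) (IsLocalRing.ResidueField W) _ _
            (IsLocalRing.ResidueField.map (EtRam.inclOfComap W f)).toAlgebra) := by
  classical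
  intro M _ _ _ _ _ _ hM W hW hA hdvd
  -- the valuation subring of `K₁`
  have hfK : ∀ k : K, algebraMap K₁ M (algebraMap K K₁ k) = algebraMap L M (algebraMap K L k) := by
    intro k
    rw [← IsScalarTower.algebraMap_apply K K₁ M, ← IsScalarTower.algebraMap_apply K L M]
  have hfA : ∀ a : A, algebraMap K₁ M (((algebraMap K K₁).comp (algebraMap A K)) a) =
      ((algebraMap L M).comp (algebraMap B L)) (algebraMap A B a) := by
    intro a
    simp only [RingHom.comp_apply]
    rw [hfK, ← IsScalarTower.algebraMap_apply A K L, ← IsScalarTower.algebraMap_apply A B L]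
  have hV₁ : EtRam.Dominates A ((algebraMap K K₁).comp (algebraMap A K))
      (W.comap (algebraMap K₁ M)) :=
    ⟨hA, fun a ha => by
      rw [valuation_comap_lt_one_iff, hfA]
      exact hW.2 _ (map_nonunit (algebraMap A B) a ha)⟩
  letI algAV : Algebra A (W.comap (algebraMap K₁ M)) :=
    (RingHom.codRestrict ((algebraMap K K₁).comp (algebraMap A K)) _ hA).toAlgebra
  haveI locAV : IsLocalHom (algebraMap A (W.comap (algebraMap K₁ M))) :=
    isLocalHom_of_dominates A _ _ hV₁
  haveI dvrV : IsDiscreteValuationRing (W.comap (algebraMap K₁ M)) :=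
    isDiscreteValuationRing_of_dominates A K K₁ _ hV₁
  letI algBW : Algebra B W :=
    (RingHom.codRestrict ((algebraMap L M).comp (algebraMap B L)) W hW.1).toAlgebra
  haveI locBW : IsLocalHom (algebraMap B W) := isLocalHom_of_dominates B _ W hW
  -- `M` is finite over `L`
  haveI finLM : FiniteDimensional L M := by
    let bs := Module.finBasis K K₁
    have hsub : Set.range (algebraMap K₁ M) ⊆
        Algebra.adjoin L (Set.range (fun i => algebraMap K₁ M (bs i))) := by
      rintro _ ⟨x, rfl⟩
      rw [← bs.sum_repr x, map_sum]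
      refine Subalgebra.sum_mem _ (fun i _ => ?_)
      rw [Algebra.smul_def, map_mul, hfK]
      exact Subalgebra.mul_mem _ (Subalgebra.algebraMap_mem _ _)
        (Algebra.subset_adjoin ⟨i, rfl⟩)
    have htop : Algebra.adjoin L (Set.range (fun i => algebraMap K₁ M (bs i))) = ⊤ := by
      rw [eq_top_iff, ← hM]
      exact Algebra.adjoin_le hsub
    have hfg : (Algebra.adjoin L (Set.range (fun i => algebraMap K₁ M (bs i)))).toSubmodule.FG := by
      apply fg_adjoin_of_finite (Set.finite_range _)
      rintro _ ⟨i, rfl⟩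
      have h1 : IsIntegral K (bs i) := Algebra.IsIntegral.isIntegral _
      have h2 : IsIntegral K (algebraMap K₁ M (bs i)) := h1.algebraMap
      exact h2.tower_top
    rw [htop] at hfg
    exact ⟨by simpa using hfg⟩
  haveI dvrW : IsDiscreteValuationRing W := isDiscreteValuationRing_of_dominates B L M W hW
  -- residue field of `V₁` is algebraic over that of `A`
  letI algAK₁ : Algebra A K₁ := ((algebraMap K K₁).comp (algebraMap A K)).toAlgebra
  haveI : IsScalarTower A K K₁ := IsScalarTower.of_algebraMap_eq (fun _ => rfl)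
  haveI : IsScalarTower A (W.comap (algebraMap K₁ M)) K₁ :=
    IsScalarTower.of_algebraMap_eq (fun _ => rfl)
  have hAVinj : Function.Injective (algebraMap A (W.comap (algebraMap K₁ M))) := fun a b hab =>
    ((algebraMap K K₁).injective.comp (IsFractionRing.injective A K)) (congrArg Subtype.val hab)
  haveI finRes : Module.Finite (ResidueField A) (ResidueField (W.comap (algebraMap K₁ M))) :=
    (Groth.Agent.S7132.result A (W.comap (algebraMap K₁ M)) K K₁ hAVinj).1
  haveI algRes : Algebra.IsAlgebraic (ResidueField A)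
    (ResidueField (W.comap (algebraMap K₁ M))) := Algebra.IsAlgebraic.of_finite _ _
  -- the two maps into `W`
  have hcomp : ∀ a, (algebraMap B W) (algebraMap A B a) =
      (EtRam.inclOfComap W (algebraMap K₁ M)) (algebraMap A (W.comap (algebraMap K₁ M)) a) :=
    fun a => Subtype.ext (hfA a).symm
  -- uniformizers and ramification indices
  obtain ⟨πA, hπA⟩ := IsDiscreteValuationRing.exists_irreducible A
  obtain ⟨πB, hπB⟩ := IsDiscreteValuationRing.exists_irreducible B
  obtain ⟨π₁, hπ₁⟩ := IsDiscreteValuationRing.exists_irreducible (W.comap (algebraMap K₁ M))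
  have hπBm : maximalIdeal B = Ideal.span {πB} := hπB.maximalIdeal_eq
  have hπm : maximalIdeal (W.comap (algebraMap K₁ M)) = Ideal.span {π₁} := hπ₁.maximalIdeal_eq
  obtain ⟨uB, huB, hepos⟩ := exists_unit_mul_pow_ramificationIdx hinj hπA hπB
  obtain ⟨u₁, hu₁, he₁pos⟩ := exists_unit_mul_pow_ramificationIdx hAVinj hπA hπ₁
  set e := Ideal.ramificationIdx' (maximalIdeal A) (maximalIdeal B) with he
  set e₁ := Ideal.ramificationIdx' (maximalIdeal A)
    (maximalIdeal (W.comap (algebraMap K₁ M))) with he₁
  obtain ⟨d, hd⟩ : e ∣ e₁ := hdvd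
  have hdpos : 0 < d := by
    rcases Nat.eq_zero_or_pos d with h0 | h0
    · rw [h0, mul_zero] at hd; omega
    · exact h0
  -- tameness data
  have htame' : Algebra.IsGeometricallyReduced (ResidueField A) (ResidueField B) ∧
      (e : ResidueField A) ≠ 0 := by
    rcases htame with h0 | ⟨p, hp, hchar, hpe, hgr⟩
    · exact ⟨geomReduced_of_charZero _ _, Nat.cast_ne_zero.mpr (by omega)⟩
    · refine ⟨hgr, ?_⟩
      rw [Ne, CharP.cast_eq_zero_iff (ResidueField A) p]
      exact hpe
  obtain ⟨hgr, hek⟩ := htame'
  -- the element θ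
  let β := algebraMap B W
  let ν := EtRam.inclOfComap W (algebraMap K₁ M)
  have hνπ0 : ((ν π₁ : W) : M) ≠ 0 := by
    intro h0
    have h2 : (π₁ : K₁) = 0 := (algebraMap K₁ M).injective (by rw [map_zero]; exact h0)
    exact hπ₁.ne_zero (Subtype.ext h2)
  have hrel : β (uB : B) * β πB ^ e = ν (u₁ : W.comap (algebraMap K₁ M)) * (ν π₁ ^ d) ^ e := by
    rw [← pow_mul, mul_comm d e, ← hd, ← map_pow, ← map_mul, ← map_pow, ← map_mul, ← huB, ← hu₁]
    exact hcomp πA
  have hβu : IsUnit (β (uB : B)) := uB.isUnit.map β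
  have hνu : IsUnit (ν (u₁ : W.comap (algebraMap K₁ M))) := u₁.isUnit.map ν
  have hθmem : ((β πB : W) : M) / ((ν π₁ : W) : M) ^ d ∈ W := by
    rw [← ValuationSubring.valuation_le_one_iff]
    have h1 : W.valuation (((β πB : W) : M) / ((ν π₁ : W) : M) ^ d) ^ e = 1 := by
      have h2 : (((β πB : W) : M) / ((ν π₁ : W) : M) ^ d) ^ e * ((β (uB : B) : W) : M) =
          ((ν (u₁ : W.comap (algebraMap K₁ M)) : W) : M) := by
        have h3 := congrArg (fun w : W => (w : M)) hrel
        simp only [MulMemClass.coe_mul, SubmonoidClass.coe_pow] at h3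
        rw [div_pow]
        field_simp
        linear_combination h3
      have h4 := congrArg W.valuation h2
      rw [map_mul, map_pow, (ValuationSubring.valuation_eq_one_iff W _).mp hβu,
        (ValuationSubring.valuation_eq_one_iff W _).mp hνu, mul_one] at h4
      exact h4
    exact (pow_le_one_iff (by omega : e ≠ 0)).mp (le_of_eq h1)
  let θ : W := ⟨_, hθmem⟩
  have hθ : β πB = θ * ν π₁ ^ d := by
    apply Subtype.ext
    show ((β πB : W) : M) = (((β πB : W) : M) / ((ν π₁ : W) : M) ^ d) * ((ν π₁ : W) : M) ^ d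
    rw [div_mul_cancel₀ _ (pow_ne_zero _ hνπ0)]
  have hθe : θ ^ e * β (uB : B) = ν (u₁ : W.comap (algebraMap K₁ M)) := by
    have hne : (ν π₁ ^ d) ^ e ≠ 0 := by
      apply pow_ne_zero
      apply pow_ne_zero
      intro h0
      exact hνπ0 (congrArg Subtype.val h0)
    apply mul_right_cancel₀ hne
    rw [← hrel, hθ]
    ring
  have hvnr := vnr_mod_uniformizer_kummer β ν hcomp πB hπBm π₁ hπm θ d hdpos hθ e hepos hek
    (uB : B) uB.isUnit (u₁ : W.comap (algebraMap K₁ M)) u₁.isUnit hθe
  set S := Subring.closure (Set.range β ∪ Set.range ν ∪ {θ}) with hS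
  have hβS : ∀ b, β b ∈ S := fun b => Subring.subset_closure (Or.inl (Or.inl ⟨b, rfl⟩))
  have hνS : ∀ v, ν v ∈ S := fun v => Subring.subset_closure (Or.inl (Or.inr ⟨v, rfl⟩))
  -- fractions
  have hfracM : ∀ x : M, ∃ c₁ ∈ S, ∃ c₂ ∈ S, c₂ ≠ 0 ∧ x * (c₂ : M) = (c₁ : M) := by
    intro x
    have hx : x ∈ Algebra.adjoin L (Set.range (algebraMap K₁ M)) := hM ▸ Algebra.mem_top
    induction hx using Algebra.adjoin_induction with
    | mem y hy =>
      obtain ⟨k, rfl⟩ := hy
      obtain ⟨⟨v₁, v₂⟩, hv⟩ := IsLocalization.surj (nonZeroDivisors (W.comap (algebraMap K₁ M))) k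
      refine ⟨_, hνS v₁, _, hνS v₂, ?_, ?_⟩
      · intro h0
        have h1 : algebraMap K₁ M ((v₂ : W.comap (algebraMap K₁ M)) : K₁) = 0 :=
          congrArg Subtype.val h0
        have h2 : ((v₂ : W.comap (algebraMap K₁ M)) : K₁) = 0 :=
          (algebraMap K₁ M).injective (by rw [h1, map_zero])
        exact nonZeroDivisors.ne_zero v₂.2 (Subtype.ext h2)
      · show algebraMap K₁ M k * algebraMap K₁ M ((v₂ : W.comap (algebraMap K₁ M)) : K₁) =
          algebraMap K₁ M (v₁ : K₁)
        rw [← map_mul]
        exact congrArg _ hv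
    | algebraMap l =>
      obtain ⟨⟨b₁, b₂⟩, hb⟩ := IsLocalization.surj (nonZeroDivisors B) l
      refine ⟨_, hβS b₁, _, hβS b₂, ?_, ?_⟩
      · intro h0
        have h1 : algebraMap L M (algebraMap B L (b₂ : B)) = 0 := congrArg Subtype.val h0
        have h2 : (b₂ : B) = 0 := by
          apply IsFractionRing.injective B L
          apply (algebraMap L M).injective
          rw [h1, map_zero, map_zero]
        exact nonZeroDivisors.ne_zero b₂.2 h2
      · show algebraMap L M l * algebraMap L M (algebraMap B L (b₂ : B)) =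
          algebraMap L M (algebraMap B L b₁)
        rw [← map_mul]
        exact congrArg _ hb
    | add y z _ _ hy hz =>
      obtain ⟨c₁, hc₁, c₂, hc₂, hc₂0, hc⟩ := hy
      obtain ⟨d₁, hd₁, d₂, hd₂, hd₂0, hd'⟩ := hz
      refine ⟨c₁ * d₂ + d₁ * c₂, S.add_mem (S.mul_mem hc₁ hd₂) (S.mul_mem hd₁ hc₂), c₂ * d₂,
        S.mul_mem hc₂ hd₂, mul_ne_zero hc₂0 hd₂0, ?_⟩
      push_cast
      linear_combination (d₂ : M) * hc + (c₂ : M) * hd'
    | mul y z _ _ hy hz =>
      obtain ⟨c₁, hc₁, c₂, hc₂, hc₂0, hc⟩ := hy
      obtain ⟨d₁, hd₁, d₂, hd₂, hd₂0, hd'⟩ := hz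
      refine ⟨c₁ * d₁, S.mul_mem hc₁ hd₁, c₂ * d₂, S.mul_mem hc₂ hd₂, mul_ne_zero hc₂0 hd₂0, ?_⟩
      push_cast
      linear_combination (z * (d₂ : M)) * hc + (c₁ : M) * hd'
  have hfrac : ∀ w : W, ∃ c₁ ∈ S, ∃ c₂ ∈ S, c₂ ≠ 0 ∧ w * c₂ = c₁ := by
    intro w
    obtain ⟨c₁, hc₁, c₂, hc₂, hc₂0, hc⟩ := hfracM (w : M)
    exact ⟨c₁, hc₁, c₂, hc₂, hc₂0, Subtype.ext hc⟩
  have hπS : ν π₁ ∈ S := hνS π₁
  have hπmW : ν π₁ ∈ maximalIdeal W :=
    map_nonunit ν π₁ (by rw [hπm]; exact Ideal.mem_span_singleton_self _)
  have hπ0 : ν π₁ ≠ 0 := fun h0 => hνπ0 (congrArg Subtype.val h0)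
  have hmW := maximalIdeal_eq_span S _ hπS hπmW hπ0 hvnr hfrac
  refine ⟨?_, ?_⟩
  · show (maximalIdeal (W.comap (algebraMap K₁ M))).map ν = maximalIdeal W
    rw [hπm, Ideal.map_span, Set.image_singleton, hmW]
  · letI algA_W : Algebra A W := ((algebraMap B W).comp (algebraMap A B)).toAlgebra
    haveI : IsScalarTower A B W := IsScalarTower.of_algebraMap_eq (fun _ => rfl)
    haveI locAW : IsLocalHom (algebraMap A W) := by
      show IsLocalHom ((algebraMap B W).comp (algebraMap A B))
      infer_instance
    letI algκ : Algebra (ResidueField (W.comap (algebraMap K₁ M))) (ResidueField W) :=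
      (ResidueField.map ν).toAlgebra
    haveI : IsScalarTower (ResidueField A) (ResidueField (W.comap (algebraMap K₁ M)))
        (ResidueField W) := by
      refine IsScalarTower.of_algebraMap_eq (fun r => ?_)
      obtain ⟨a, rfl⟩ := residue_surjective r
      show algebraMap (ResidueField A) (ResidueField W) (residue A a) =
        ResidueField.map ν
          (algebraMap (ResidueField A) (ResidueField (W.comap (algebraMap K₁ M))) (residue A a))
      rw [ResidueField.algebraMap_residue, ResidueField.algebraMap_residue,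
        ResidueField.map_residue, ← hcomp]
      rfl
    have hub : residue B (uB : B) ≠ 0 := by
      rw [Ne, residue_eq_zero_iff]
      exact fun h => (mem_maximalIdeal _).mp h uB.isUnit
    have huv : residue (W.comap (algebraMap K₁ M)) (u₁ : W.comap (algebraMap K₁ M)) ≠ 0 := by
      rw [Ne, residue_eq_zero_iff]
      exact fun h => (mem_maximalIdeal _).mp h u₁.isUnit
    have ht : (residue W θ) ^ e * algebraMap (ResidueField B) (ResidueField W) (residue B (uB : B)) =
        algebraMap (ResidueField (W.comap (algebraMap K₁ M))) (ResidueField W)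
          (residue _ (u₁ : W.comap (algebraMap K₁ M))) := by
      have := congrArg (residue W) hθe
      rw [map_mul, map_pow] at this
      exact this
    apply geomReduced_of_generated_kummer (kA := ResidueField A) (kB := ResidueField B)
      (residue W θ) e hepos hek _ hub _ huv ht
    intro z
    obtain ⟨w, rfl⟩ := residue_surjective z
    obtain ⟨c, hcS, hwc⟩ := exists_sub_mem S _ hπS hπmW hπ0 hvnr hfrac w
    have hres : residue W w = residue W c := by
      rw [← sub_eq_zero, ← map_sub, residue_eq_zero_iff]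
      exact hwc
    rw [hres]
    have h1 : residue W c ∈ (S.map (residue W)) := ⟨c, hcS, rfl⟩
    rw [hS, RingHom.map_closure] at h1
    refine Subring.closure_mono ?_ h1
    rintro _ ⟨x, (hx | hx) | hx, rfl⟩
    · obtain ⟨b, rfl⟩ := hx
      exact Or.inl (Or.inl ⟨residue B b, rfl⟩)
    · obtain ⟨v, rfl⟩ := hx
      exact Or.inl (Or.inr ⟨residue _ v, rfl⟩)
    · rw [Set.mem_singleton_iff] at hx
      rw [hx]
      exact Or.inr rfl

end Groth.Agent.S1982
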