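import Groth.Statements.S1984
import Groth.Agent.S7132
import Groth.Agent.Lib.Helper10.RamTower
import Groth.Agent.Lib.Helper10.RamIdx
import Groth.Agent.Lib.Helper10.TotRam
-- import your own Groth.Agent.* helpers here

set_option autoImplicit false
set_option linter.style.haveILetI false
universe u
open EtAlg
open Groth.Agent.Lib.Helper10.RamTower Groth.Agent.Lib.Helper10.RamIdx Groth.Agent.Lib.Helper10.TotRam
open IsLocalRing

namespace Groth.Agent.S1984

open TensorProduct in
theorem core (A B K L : Type u) [CommRing A] [IsDomain A] [IsDiscreteValuationRing A]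
    [CommRing B] [IsDomain B] [IsDiscreteValuationRing B] [Algebra A B] [IsLocalHom (algebraMap A B)]
    (hinj : Function.Injective (algebraMap A B))
    [Field K] [Field L] [Algebra A K] [IsFractionRing A K] [Algebra B L] [IsFractionRing B L]
    [Algebra K L] [Algebra A L] [IsScalarTower A K L] [IsScalarTower A B L]
    (hw : EtRam.IsWeaklyUnramified A B) (K₁ : Type u) [Field K₁] [Algebra K K₁] [FiniteDimensional K K₁]
    [Algebra.IsSeparable K K₁] (ht : EtRam.IsTotallyRamified A ((algebraMap K K₁).comp (algebraMap A K)))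
    (M : Type u) [Field M] [Algebra K M] [Algebra L M] [Algebra K₁ M] [IsScalarTower K L M]
    [IsScalarTower K K₁ M]
    (hM : Algebra.adjoin L (Set.range (algebraMap K₁ M)) = ⊤) (W : ValuationSubring M)
    (hW : EtRam.Dominates B ((algebraMap L M).comp (algebraMap B L)) W) :
    (maximalIdeal (W.comap (algebraMap K₁ M))).map (EtRam.inclOfComap W (algebraMap K₁ M)) =
      maximalIdeal W ∧ Module.finrank L M = Module.finrank K K₁ := by
  classical
  have hfK : ∀ k : K, algebraMap K₁ M (algebraMap K K₁ k) = algebraMap L M (algebraMap K L k) := by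
    intro k
    rw [← IsScalarTower.algebraMap_apply K K₁ M, ← IsScalarTower.algebraMap_apply K L M]
  have hfA : ∀ a : A, algebraMap K₁ M (((algebraMap K K₁).comp (algebraMap A K)) a) =
      ((algebraMap L M).comp (algebraMap B L)) (algebraMap A B a) := by
    intro a
    simp only [RingHom.comp_apply]
    rw [hfK, ← IsScalarTower.algebraMap_apply A K L, ← IsScalarTower.algebraMap_apply A B L]
  have hV₁ : EtRam.Dominates A ((algebraMap K K₁).comp (algebraMap A K))
      (W.comap (algebraMap K₁ M)) :=
    ⟨fun a => by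
      show algebraMap K₁ M _ ∈ W
      rw [hfA]; exact hW.1 _,
    fun a ha => by
      rw [valuation_comap_lt_one_iff, hfA]
      exact hW.2 _ (map_nonunit (algebraMap A B) a ha)⟩
  letI algAV : Algebra A (W.comap (algebraMap K₁ M)) :=
    (RingHom.codRestrict ((algebraMap K K₁).comp (algebraMap A K)) _ hV₁.1).toAlgebra
  haveI locAV : IsLocalHom (algebraMap A (W.comap (algebraMap K₁ M))) :=
    isLocalHom_of_dominates A _ _ hV₁
  haveI dvrV : IsDiscreteValuationRing (W.comap (algebraMap K₁ M)) :=
    isDiscreteValuationRing_of_dominates A K K₁ _ hV₁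
  letI algBW : Algebra B W :=
    (RingHom.codRestrict ((algebraMap L M).comp (algebraMap B L)) W hW.1).toAlgebra
  haveI locBW : IsLocalHom (algebraMap B W) := isLocalHom_of_dominates B _ W hW
  -- the surjection `L ⊗ K₁ → M`
  let Ψ : L ⊗[K] K₁ →ₐ[L] M :=
    Algebra.TensorProduct.productLeftAlgHom (Algebra.ofId L M) (IsScalarTower.toAlgHom K K₁ M)
  have hΨ : Function.Surjective Ψ := by
    have hrange : Ψ.range = ⊤ := by
      rw [eq_top_iff, ← hM]
      apply Algebra.adjoin_le
      rintro _ ⟨k, rfl⟩
      exact ⟨1 ⊗ₜ k, by simp [Ψ]⟩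
    intro x
    have hx : x ∈ Ψ.range := hrange ▸ Algebra.mem_top
    exact hx
  haveI finLT : Module.Finite L (L ⊗[K] K₁) := inferInstance
  haveI finLM : FiniteDimensional L M := Module.Finite.of_surjective Ψ.toLinearMap hΨ
  have hdle : Module.finrank L M ≤ Module.finrank K K₁ := by
    have h1 := LinearMap.finrank_le_finrank_of_surjective (f := Ψ.toLinearMap) hΨ
    rwa [Module.finrank_baseChange] at h1
  haveI dvrW : IsDiscreteValuationRing W := isDiscreteValuationRing_of_dominates B L M W hW
  -- towers
  letI algVW : Algebra (W.comap (algebraMap K₁ M)) W :=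
    (EtRam.inclOfComap W (algebraMap K₁ M)).toAlgebra
  haveI locVW : IsLocalHom (algebraMap (W.comap (algebraMap K₁ M)) W) :=
    EtRam.isLocalHom_inclOfComap W (algebraMap K₁ M)
  letI algA_W : Algebra A W := ((algebraMap B W).comp (algebraMap A B)).toAlgebra
  haveI : IsScalarTower A B W := IsScalarTower.of_algebraMap_eq (fun _ => rfl)
  haveI locAW : IsLocalHom (algebraMap A W) := by
    show IsLocalHom ((algebraMap B W).comp (algebraMap A B))
    infer_instance
  haveI : IsScalarTower A (W.comap (algebraMap K₁ M)) W :=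
    IsScalarTower.of_algebraMap_eq (fun a => Subtype.ext (hfA a).symm)
  have hBWinj : Function.Injective (algebraMap B W) := fun a b hab =>
    ((algebraMap L M).injective.comp (IsFractionRing.injective B L)) (congrArg Subtype.val hab)
  have hAWinj : Function.Injective (algebraMap A W) := hBWinj.comp hinj
  have hVWinj : Function.Injective (algebraMap (W.comap (algebraMap K₁ M)) W) := fun a b hab =>
    Subtype.ext ((algebraMap K₁ M).injective (congrArg Subtype.val hab))
  have hA0 : maximalIdeal A ≠ ⊥ := IsDiscreteValuationRing.not_a_field A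
  have ht1 := ramificationIdx_tower (R := A) (S := W.comap (algebraMap K₁ M)) (T := W)
    hAWinj hVWinj hA0
  have ht2 := ramificationIdx_tower (R := A) (S := B) (T := W) hAWinj hBWinj hA0
  have heAV := ramificationIdx_eq_finrank A K K₁ (W.comap (algebraMap K₁ M)) hV₁ ht
  have heAB : Ideal.ramificationIdx' (maximalIdeal A) (maximalIdeal B) = 1 := by
    obtain ⟨π, hπ⟩ := IsDiscreteValuationRing.exists_irreducible B
    have hmB : maximalIdeal B = Ideal.span {π} := hπ.maximalIdeal_eq
    apply Ideal.ramificationIdx'_spec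
    · rw [pow_one]; exact hw.le
    · have hw' : (maximalIdeal A).map (algebraMap A B) = maximalIdeal B := hw
      rw [hw', hmB, Ideal.span_singleton_pow, Ideal.span_singleton_le_span_singleton]
      intro h3
      have h4 : π ^ 2 ∣ π ^ 1 := by simpa using h3
      have := (pow_dvd_pow_iff hπ.ne_zero hπ.not_isUnit).mp h4
      omega
  letI algBM : Algebra B M := ((algebraMap L M).comp (algebraMap B L)).toAlgebra
  haveI : IsScalarTower B L M := IsScalarTower.of_algebraMap_eq (fun _ => rfl)
  haveI : IsScalarTower B W M := IsScalarTower.of_algebraMap_eq (fun _ => rfl)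
  obtain ⟨hfin, hef⟩ := Groth.Agent.S7132.result B W L M hBWinj
  haveI := hfin
  have hfpos : 0 < Module.finrank (ResidueField B) (ResidueField W) := Module.finrank_pos
  obtain ⟨π₁, hπ₁⟩ := IsDiscreteValuationRing.exists_irreducible (W.comap (algebraMap K₁ M))
  obtain ⟨πW, hπW⟩ := IsDiscreteValuationRing.exists_irreducible W
  obtain ⟨u, hu, hepos⟩ := exists_unit_mul_pow_ramificationIdx hVWinj hπ₁ hπW
  have hnpos : 0 < Module.finrank K K₁ := Module.finrank_pos
  set n := Module.finrank K K₁ with hn
  set d := Module.finrank L M with hd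
  set eVW := Ideal.ramificationIdx' (maximalIdeal (W.comap (algebraMap K₁ M))) (maximalIdeal W)
    with heVW
  set eBW := Ideal.ramificationIdx' (maximalIdeal B) (maximalIdeal W) with heBW
  set f := Module.finrank (ResidueField B) (ResidueField W) with hf
  have h1 : n * eVW = eBW := by
    rw [← heAV, ← ht1, ht2, heAB, one_mul]
  have h2 : eBW ≤ d := le_trans (Nat.le_mul_of_pos_right _ hfpos) hef
  have h3 : n * eVW ≤ n * 1 := by rw [h1, mul_one]; exact h2.trans hdle
  have h4 : eVW ≤ 1 := Nat.le_of_mul_le_mul_left h3 hnpos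
  have h5 : eVW = 1 := le_antisymm h4 hepos
  refine ⟨?_, ?_⟩
  · rw [hπ₁.maximalIdeal_eq, Ideal.map_span, Set.image_singleton, hπW.maximalIdeal_eq]
    have hu' : (EtRam.inclOfComap W (algebraMap K₁ M)) π₁ = u * πW := by
      have := hu
      rw [h5, pow_one] at this
      exact this
    rw [hu']
    exact Ideal.span_singleton_eq_span_singleton.mpr ⟨u⁻¹, by rw [mul_comm, ← mul_assoc]; simp⟩
  · rw [h5, mul_one] at h1
    omega

open TensorProduct in
/-- Let A -> B be a weakly unramified extension of discrete valuation rings with fraction fields K ⊂ L,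
and K₁/K a finite separable extension which is totally ramified with respect to A. Then L ⊗_K K₁ is
a field and K₁ is a weak solution for A -> B (the valuation ring of L ⊗_K K₁ over B is weakly
unramified over that of K₁ over A). -/
theorem result (A B K L : Type u) [CommRing A] [IsDomain A] [IsDiscreteValuationRing A]
    [CommRing B] [IsDomain B] [IsDiscreteValuationRing B] [Algebra A B] [IsLocalHom (algebraMap A B)]
    (hinj : Function.Injective (algebraMap A B))
    [Field K] [Field L] [Algebra A K] [IsFractionRing A K] [Algebra B L] [IsFractionRing B L]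
    [Algebra K L] [Algebra A L] [IsScalarTower A K L] [IsScalarTower A B L]
    (hw : EtRam.IsWeaklyUnramified A B) (K₁ : Type u) [Field K₁] [Algebra K K₁] [FiniteDimensional K K₁]
    [Algebra.IsSeparable K K₁] (ht : EtRam.IsTotallyRamified A ((algebraMap K K₁).comp (algebraMap A K))) :
    IsField (L ⊗[K] K₁) ∧ EtRam.IsWeakSolution B K L K₁ := by
  classical
  refine ⟨?_, ?_⟩
  · -- field part
    have hrankT : Module.finrank L (L ⊗[K] K₁) = Module.finrank K K₁ := Module.finrank_baseChange
    have hnpos : 0 < Module.finrank K K₁ := Module.finrank_pos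
    haveI : Nontrivial (L ⊗[K] K₁) :=
      Module.nontrivial_of_finrank_pos (R := L) (by rw [hrankT]; exact hnpos)
    obtain ⟨m, hm⟩ := Ideal.exists_maximal (L ⊗[K] K₁)
    letI fM : Field ((L ⊗[K] K₁) ⧸ m) := Ideal.Quotient.field m
    letI algK₁M : Algebra K₁ ((L ⊗[K] K₁) ⧸ m) :=
      ((Ideal.Quotient.mk m).comp
        (Algebra.TensorProduct.includeRight : K₁ →ₐ[K] L ⊗[K] K₁).toRingHom).toAlgebra
    have hK₁M : ∀ k : K₁, algebraMap K₁ ((L ⊗[K] K₁) ⧸ m) k = Ideal.Quotient.mk m (1 ⊗ₜ k) :=
      fun k => rfl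
    have hLM : ∀ l : L, algebraMap L ((L ⊗[K] K₁) ⧸ m) l = Ideal.Quotient.mk m (l ⊗ₜ 1) :=
      fun l => rfl
    haveI : IsScalarTower K K₁ ((L ⊗[K] K₁) ⧸ m) := by
      refine IsScalarTower.of_algebraMap_eq (fun k => ?_)
      rw [hK₁M, IsScalarTower.algebraMap_apply K L ((L ⊗[K] K₁) ⧸ m), hLM]
      congr 1
      rw [Algebra.algebraMap_eq_smul_one, Algebra.algebraMap_eq_smul_one, TensorProduct.smul_tmul]
    have hM : Algebra.adjoin L (Set.range (algebraMap K₁ ((L ⊗[K] K₁) ⧸ m))) = ⊤ := by
      rw [eq_top_iff]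
      rintro x -
      obtain ⟨t, rfl⟩ := Ideal.Quotient.mk_surjective x
      induction t using TensorProduct.induction_on with
      | zero => rw [map_zero]; exact Subalgebra.zero_mem _
      | tmul l k =>
        have h1 : (l ⊗ₜ[K] k : L ⊗[K] K₁) = (l ⊗ₜ 1) * (1 ⊗ₜ k) := by
          rw [Algebra.TensorProduct.tmul_mul_tmul, mul_one, one_mul]
        rw [h1, map_mul, ← hLM, ← hK₁M]
        exact Subalgebra.mul_mem _ (Subalgebra.algebraMap_mem _ _)
          (Algebra.subset_adjoin ⟨k, rfl⟩)
      | add x y hx hy => rw [map_add]; exact Subalgebra.add_mem _ hx hy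
    obtain ⟨W, hW1, hW2⟩ := Groth.Agent.Lib.Helper39.KA.exists_valuationSubring_dominating
      ((algebraMap L ((L ⊗[K] K₁) ⧸ m)).comp (algebraMap B L))
    have hW : EtRam.Dominates B ((algebraMap L ((L ⊗[K] K₁) ⧸ m)).comp (algebraMap B L)) W :=
      ⟨hW1, fun b hb => (ValuationSubring.mem_nonunits_iff W).mp (hW2 b hb)⟩
    have hdim := (core A B K L hinj hw K₁ ht ((L ⊗[K] K₁) ⧸ m) hM W hW).2
    haveI finLT : Module.Finite L (L ⊗[K] K₁) := inferInstance
    have hsurj : Function.Surjective (Ideal.Quotient.mkₐ L m).toLinearMap :=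
      Ideal.Quotient.mk_surjective
    haveI finLM : FiniteDimensional L ((L ⊗[K] K₁) ⧸ m) :=
      Module.Finite.of_surjective (Ideal.Quotient.mkₐ L m).toLinearMap hsurj
    have hinjm : Function.Injective (Ideal.Quotient.mkₐ L m).toLinearMap :=
      (LinearMap.injective_iff_surjective_of_finrank_eq_finrank
        (by rw [hrankT, hdim])).mpr hsurj
    have hm0 : m = ⊥ := by
      rw [eq_bot_iff]
      intro x hx
      have h1 : Ideal.Quotient.mk m x = 0 := Ideal.Quotient.eq_zero_iff_mem.mpr hx
      have h2 : (Ideal.Quotient.mkₐ L m).toLinearMap x = (Ideal.Quotient.mkₐ L m).toLinearMap 0 := by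
        rw [map_zero]; exact h1
      exact hinjm h2
    rw [Ring.isField_iff_maximal_bot, ← hm0]
    exact hm
  · intro M _ _ _ _ _ _ hM W hW
    exact (core A B K L hinj hw K₁ ht M hM W hW).1

end Groth.Agent.S1984
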