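import Groth.Statements.S1985
import Groth.Agent.Lib.Helper88.NagataDescent
import Groth.Agent.Lib.Helper88.CohenNagata
-- import your own Groth.Agent.* helpers here

set_option autoImplicit false
universe u
open EtAlg

namespace Groth.Agent.S1985

open Groth.Agent.Lib.Helper88 in
/-- Let A -> B be an extension of discrete valuation rings whose extension of fraction fields L/K is
separable. If B is a Nagata ring then so is A. -/
theorem result (A B K L : Type u) [CommRing A] [IsDomain A] [IsDiscreteValuationRing A]
    [CommRing B] [IsDomain B] [IsDiscreteValuationRing B] [Algebra A B] [IsLocalHom (algebraMap A B)]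
    (hinj : Function.Injective (algebraMap A B))
    [Field K] [Field L] [Algebra A K] [IsFractionRing A K] [Algebra B L] [IsFractionRing B L]
    [Algebra K L] [Algebra A L] [IsScalarTower A K L] [IsScalarTower A B L] [Algebra.IsSeparable K L] (hB : CAlg.IsNagata B) :
    CAlg.IsNagata A := by
  -- `B` is faithfully flat over `A`
  haveI : Module.IsTorsionFree A B :=
    Module.IsTorsionFree.comap (S := B) (algebraMap A B)
      (fun r hr => isRegular_of_ne_zero (by
        rw [Ne, map_eq_zero_iff _ hinj]
        exact hr.ne_zero))
      (fun r m => algebraMap_smul B r m)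
  haveI : Module.Flat A B := inferInstance
  haveI : Module.FaithfullyFlat A B := Module.FaithfullyFlat.of_flat_of_isLocalHom
  -- `L` as an algebra over `FractionRing A`
  let F := FractionRing A
  let e : F ≃ₐ[A] K := FractionRing.algEquiv A K
  letI : Algebra F L := ((algebraMap K L).comp (e : F →+* K)).toAlgebra
  haveI : IsScalarTower A F L := IsScalarTower.of_algebraMap_eq (fun x => by
    change algebraMap A L x = algebraMap K L (e (algebraMap A F x))
    rw [e.commutes, ← IsScalarTower.algebraMap_apply A K L])
  haveI : Algebra.IsSeparable F L :=
    Algebra.IsSeparable.of_equiv_equiv e.symm.toRingEquiv (RingEquiv.refl L) (by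
      ext x
      change algebraMap K L (e (e.symm x)) = algebraMap K L x
      rw [e.apply_symm_apply])
  have hA : CAlg.IsN2 A :=
    NagataDescent.isN2_of_faithfullyFlat_of_isReduced A B L hB (IsFractionRing.injective B L)
      (fun K' _ _ _ => NagataDescent.isReduced_tensor_of_isSeparable)
  refine ⟨inferInstance, fun p hp => ?_⟩
  by_cases hp0 : p = ⊥
  · subst hp0
    exact isN2_of_ringEquiv (RingEquiv.quotientBot A).symm hA
  · haveI : p.IsMaximal := hp.isMaximal hp0
    letI : Field (A ⧸ p) := Ideal.Quotient.field p
    exact CohenNagata.isN2_of_isField (A ⧸ p)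

end Groth.Agent.S1985
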