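import Groth.Statements.S19856
import Mathlib.RingTheory.IntegralDomain
import Mathlib.RingTheory.LocalRing.ResidueField.Basic
import Mathlib.RingTheory.Filtration
import Mathlib.RingTheory.DiscreteValuationRing.Basic

set_option autoImplicit false
universe u v
open CAlg

namespace Groth.Agent.S19856

open IsLocalRing

section aux
variable {O : Type u} [CommRing O] [IsDomain O] [IsDiscreteValuationRing O]
  {G : Type v} [Group G] [MulSemiringAction G O]

/-- `(g • π)^j - π^j ∈ m^(j+1)` when `g • π - π ∈ m^2`. -/
theorem pow_sub_pow_mem (g : G) (π : O) (hπm : π ∈ maximalIdeal O)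
    (hgπm : g • π ∈ maximalIdeal O)
    (hπ2 : g • π - π ∈ maximalIdeal O ^ 2) (j : ℕ) :
    (g • π) ^ j - π ^ j ∈ maximalIdeal O ^ (j + 1) := by
  induction j with
  | zero => simp
  | succ j ih =>
    have e : (g • π) ^ (j + 1) - π ^ (j + 1) =
        (g • π) * ((g • π) ^ j - π ^ j) + (g • π - π) * π ^ j := by ring
    rw [e]
    refine Ideal.add_mem _ ?_ ?_
    · have := Ideal.mul_mem_mul hgπm ih
      rwa [← pow_succ'] at this
    · have := Ideal.mul_mem_mul hπ2 (Ideal.pow_mem_pow hπm j)
      rwa [← pow_add, add_comm 2 j] at this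

/-- If `g` moves everything by `m^j` (`j ≥ 1`) and `π` by `m^2`, it moves `m^j` by `m^(j+1)`. -/
theorem key_step (g : G) (π : O) (hπ : maximalIdeal O = Ideal.span {π})
    (hπ2 : g • π - π ∈ maximalIdeal O ^ 2)
    (j : ℕ) (hj : 1 ≤ j) (h : ∀ a : O, g • a - a ∈ maximalIdeal O ^ j) :
    ∀ x ∈ maximalIdeal O ^ j, g • x - x ∈ maximalIdeal O ^ (j + 1) := by
  intro x hx
  have hπm : π ∈ maximalIdeal O := by rw [hπ]; exact Ideal.mem_span_singleton_self π
  have hgπm : g • π ∈ maximalIdeal O := by
    have h1 : g • π - π ∈ maximalIdeal O := Ideal.pow_le_self (by norm_num) hπ2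
    have := Ideal.add_mem _ h1 hπm
    simpa using this
  rw [hπ, Ideal.span_singleton_pow, Ideal.mem_span_singleton'] at hx
  obtain ⟨y, rfl⟩ := hx
  have e : g • (y * π ^ j) - y * π ^ j =
      ((g • π) ^ j - π ^ j) * (g • y) + π ^ j * (g • y - y) := by
    rw [smul_mul', smul_pow']
    ring
  rw [e]
  refine Ideal.add_mem _ (Ideal.mul_mem_right _ _ (pow_sub_pow_mem g π hπm hgπm hπ2 j)) ?_
  have := Ideal.mul_mem_mul (Ideal.pow_mem_pow hπm j) (h y)
  rw [← pow_add] at this
  exact Ideal.pow_le_pow_right (by omega) this

/-- Iterating: `g^i • a - a ≡ i (g • a - a)` modulo `m^(j+1)`. -/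
theorem iterate_step (g : G) (π : O) (hπ : maximalIdeal O = Ideal.span {π})
    (hπ2 : g • π - π ∈ maximalIdeal O ^ 2)
    (j : ℕ) (hj : 1 ≤ j) (h : ∀ a : O, g • a - a ∈ maximalIdeal O ^ j) (a : O) (i : ℕ) :
    g ^ i • a - a - (i : O) * (g • a - a) ∈ maximalIdeal O ^ (j + 1) := by
  induction i with
  | zero => simp
  | succ i ih =>
    set b := g ^ i • a - a with hb
    have hbm : b ∈ maximalIdeal O ^ j := by
      have h1 : (i : O) * (g • a - a) ∈ maximalIdeal O ^ j := Ideal.mul_mem_left _ _ (h a)
      have h2 : b - (i : O) * (g • a - a) ∈ maximalIdeal O ^ j :=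
        Ideal.pow_le_pow_right (Nat.le_succ j) ih
      have := Ideal.add_mem _ h2 h1
      simpa using this
    have hk := key_step g π hπ hπ2 j hj h b hbm
    have e : g ^ (i + 1) • a - a - ((i + 1 : ℕ) : O) * (g • a - a) =
        (b - (i : O) * (g • a - a)) + (g • b - b) := by
      have : g ^ (i + 1) • a = g • (g ^ i • a) := by rw [pow_succ', mul_smul]
      rw [this]
      have hb' : g ^ i • a = b + a := by rw [hb]; ring
      rw [hb', smul_add]
      push_cast
      ring
    rw [e]
    exact Ideal.add_mem _ ih hk

end aux

theorem trivial_of_moves_pi_sq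
    (O : Type u) [CommRing O] [IsDomain O] [IsDiscreteValuationRing O]
    (G : Type v) [Group G] [Finite G] [MulSemiringAction G O] [FaithfulSMul G O]
    (htriv : ∀ (g : G) (a : O), g • a - a ∈ IsLocalRing.maximalIdeal O)
    (hcard : ((Nat.card G : ℕ) : IsLocalRing.ResidueField O) ≠ 0)
    (g : G) (π : O) (hπ : maximalIdeal O = Ideal.span {π})
    (hπ2 : g • π - π ∈ maximalIdeal O ^ 2) : g = 1 := by
  -- the order of g is a unit in O
  have hn : IsUnit ((orderOf g : ℕ) : O) := by
    have hdvd : orderOf g ∣ Nat.card G := orderOf_dvd_natCard g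
    obtain ⟨c, hc⟩ := hdvd
    have : ((orderOf g : ℕ) : ResidueField O) ≠ 0 := by
      intro h0
      apply hcard
      rw [hc, Nat.cast_mul, h0, zero_mul]
    by_contra hnu
    have hmem : ((orderOf g : ℕ) : O) ∈ maximalIdeal O := by
      rwa [mem_maximalIdeal, mem_nonunits_iff]
    apply this
    have := (residue_eq_zero_iff _).mpr hmem
    simpa using this
  have hall : ∀ j : ℕ, 1 ≤ j → ∀ a : O, g • a - a ∈ maximalIdeal O ^ j := by
    intro j hj
    induction j, hj using Nat.le_induction with
    | base => intro a; simpa using htriv g a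
    | succ j hj ih =>
      intro a
      have h1 := iterate_step g π hπ hπ2 j hj ih a (orderOf g)
      rw [pow_orderOf_eq_one, one_smul, sub_self, zero_sub, neg_mem_iff] at h1
      obtain ⟨u, hu⟩ := hn
      have := Ideal.mul_mem_left _ (↑u⁻¹ : O) h1
      rwa [← mul_assoc, ← hu, Units.inv_mul, one_mul] at this
  apply FaithfulSMul.eq_of_smul_eq_smul (α := O)
  intro a
  rw [one_smul]
  have hmem : g • a - a ∈ ⨅ i, maximalIdeal O ^ i := by
    rw [Ideal.mem_iInf]
    intro i
    rcases Nat.eq_zero_or_pos i with rfl | hi
    · simp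
    · exact hall i hi a
  rw [Ideal.iInf_pow_eq_bot_of_isLocalRing _ Ideal.IsPrime.ne_top'] at hmem
  exact sub_eq_zero.mp hmem

/-- Ring-level form: let O be a discrete valuation ring and G a finite group acting faithfully on O by
ring automorphisms, such that every element of G acts trivially on the residue field of O (that is,
g • a - a lies in the maximal ideal for all a) and such that the order of G is nonzero in the
residue field of O. Then G is cyclic. (The source states this for a finite group of order invertible
in an algebraically closed field k acting faithfully on a smooth connected k-variety and the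
subgroup of elements fixing pointwise a codimension-one irreducible component of the ramification
locus, applied to the local ring at the generic point of that component; it is stated here for an
arbitrary discrete valuation ring with a faithful action. The source also shows that this subgroup
is nontrivial; that geometric part is not stated.) -/
theorem result
    (O : Type u) [CommRing O] [IsDomain O] [IsDiscreteValuationRing O]
    (G : Type v) [Group G] [Finite G] [MulSemiringAction G O] [FaithfulSMul G O]
    (htriv : ∀ (g : G) (a : O), g • a - a ∈ IsLocalRing.maximalIdeal O)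
    (hcard : ((Nat.card G : ℕ) : IsLocalRing.ResidueField O) ≠ 0) :
    IsCyclic G := by
  classical
  obtain ⟨π, hπirr⟩ := IsDiscreteValuationRing.exists_irreducible O
  have hπ : maximalIdeal O = Ideal.span {π} := (IsDiscreteValuationRing.irreducible_iff_uniformizer π).mp hπirr
  have hπm : π ∈ maximalIdeal O := by rw [hπ]; exact Ideal.mem_span_singleton_self π
  have hπ0 : π ≠ 0 := hπirr.ne_zero
  have hdvd : ∀ g : G, π ∣ g • π := by
    intro g
    have h1 := Ideal.add_mem _ (htriv g π) hπm
    rw [sub_add_cancel, hπ, Ideal.mem_span_singleton] at h1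
    exact h1
  choose u hu using hdvd
  have hu1 : u 1 = 1 := by
    have := hu 1
    rw [one_smul] at this
    exact (mul_left_cancel₀ hπ0 (by rw [mul_one]; exact this)).symm
  have humul : ∀ g h : G, u (g * h) = u g * g • u h := by
    intro g h
    apply mul_left_cancel₀ hπ0
    rw [← hu (g * h), mul_smul, hu h, smul_mul', hu g]
    ring
  let f : G →* ResidueField O :=
    { toFun := fun g => residue O (u g)
      map_one' := by rw [hu1, map_one]
      map_mul' := by
        intro g h
        rw [humul, map_mul]
        congr 1
        have := htriv g (u h)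
        rw [← residue_eq_zero_iff, map_sub, sub_eq_zero] at this
        exact this }
  refine isCyclic_of_injective_ringHom f ?_
  rw [injective_iff_map_eq_one]
  intro g hg
  have hg' : residue O (u g) = 1 := hg
  have h1 : u g - 1 ∈ maximalIdeal O := by
    rw [← residue_eq_zero_iff, map_sub, hg', map_one, sub_self]
  have hπ2 : g • π - π ∈ maximalIdeal O ^ 2 := by
    have e : g • π - π = π * (u g - 1) := by rw [hu g]; ring
    rw [e, pow_two]
    exact Ideal.mul_mem_mul hπm h1
  exact trivial_of_moves_pi_sq O G htriv hcard g π hπ hπ2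

end Groth.Agent.S19856
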