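import Groth.Statements.S19866
import Mathlib
-- import your own Groth.Agent.* helpers here

set_option autoImplicit false
universe v₁ v₂ u₁ u₂
open CategoryTheory
open FibCat

namespace Groth.Agent.S19866

section PRE
set_option backward.isDefEq.respectTransparency false
set_option backward.isDefEq.respectTransparency.types false
open Pseudofunctor Pseudofunctor.CoGrothendieck Opposite CategoryTheory.Functor


variable {𝒮 : Type u₁} [Category.{v₁} 𝒮]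

theorem eqToHom_base {F : Pseudofunctor (LocallyDiscrete 𝒮ᵒᵖ) Cat.{v₂, u₂}}
    {x y : CoGrothendieck F} (h : x = y) :
    (eqToHom h).base = eqToHom (congrArg CoGrothendieck.base h) := by
  subst h; rfl

theorem map_toLoc (F : 𝒮ᵒᵖ ⥤ Cat.{v₂, u₂}) {R S : 𝒮} (f : R ⟶ S) :
    F.toPseudofunctor'.map f.op.toLoc = F.map f.op := rfl

theorem fiber_eq_aux (F : 𝒮ᵒᵖ ⥤ Cat.{v₂, u₂})
    {x y : CoGrothendieck F.toPseudofunctor'} (h : x = y) :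
    x.fiber = (F.toPseudofunctor'.map (eqToHom h).base.op.toLoc).toFunctor.obj y.fiber := by
  subst h
  rw [map_toLoc]
  show x.fiber = (F.map (𝟙 x.base).op).toFunctor.obj x.fiber
  rw [op_id, F.map_id]; rfl

theorem eqToHom_fiber (F : 𝒮ᵒᵖ ⥤ Cat.{v₂, u₂})
    {x y : CoGrothendieck F.toPseudofunctor'} (h : x = y) :
    (eqToHom h).fiber = eqToHom (fiber_eq_aux F h) := by
  subst h
  simp [Cat.eqToHom_app]

theorem obj_eq (F : 𝒮ᵒᵖ ⥤ Cat.{v₂, u₂}) {R : 𝒮} {x y : (F.obj (op R) : Cat.{v₂,u₂})} (h : x = y) :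
    (⟨R, x⟩ : CoGrothendieck F.toPseudofunctor') = ⟨R, y⟩ := by subst h; rfl

theorem L_norm (F : 𝒮ᵒᵖ ⥤ Cat.{v₂, u₂}) :
    (Cleavage.ofCoGrothendieck F.toPseudofunctor').IsNormalised := by
  intro S a ha
  subst ha
  obtain ⟨S, x⟩ := a
  have h : (Cleavage.ofCoGrothendieck F.toPseudofunctor').obj (a := ⟨S, x⟩) rfl (𝟙 S) = ⟨S, x⟩ := by
    show (⟨S, (F.map (𝟙 S ≫ eqToHom rfl).op).toFunctor.obj x⟩ : CoGrothendieck F.toPseudofunctor') = ⟨S, x⟩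
    apply obj_eq
    rw [eqToHom_refl, Category.comp_id, op_id, F.map_id]; rfl
  refine ⟨h, ?_⟩
  apply Hom.ext
  · rw [eqToHom_fiber]
    show 𝟙 _ = _
    simp
    rfl
  · rw [eqToHom_base]
    show 𝟙 S ≫ eqToHom rfl = _
    simp
    rfl

theorem mapComp_inv_app (F : 𝒮ᵒᵖ ⥤ Cat.{v₂, u₂}) {a b c : LocallyDiscrete 𝒮ᵒᵖ} (f : a ⟶ b) (g : b ⟶ c)
    (x : (F.toPseudofunctor'.obj a : Cat.{v₂,u₂})) :
    (F.toPseudofunctor'.mapComp f g).inv.toNatTrans.app x =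
      eqToHom (by
        obtain ⟨f⟩ := f; obtain ⟨g⟩ := g
        show (F.map f ≫ F.map g).toFunctor.obj x = (F.map (f ≫ g)).toFunctor.obj x
        rw [F.map_comp]) := by
  simp [Cat.eqToHom_app]

theorem lift_fiber (F : Pseudofunctor (LocallyDiscrete 𝒮ᵒᵖ) Cat.{v₂, u₂}) {R S : 𝒮} {a : CoGrothendieck F}
    (ha : (CoGrothendieck.forget F).obj a = S) (f : R ⟶ S) :
    ((Cleavage.ofCoGrothendieck F).lift ha f).fiber = 𝟙 _ := rfl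

theorem L_comp (F : 𝒮ᵒᵖ ⥤ Cat.{v₂, u₂}) ⦃S T U : 𝒮⦄ (f : T ⟶ S) (g : U ⟶ T)
    ⦃a : CoGrothendieck F.toPseudofunctor'⦄
    (ha : (CoGrothendieck.forget F.toPseudofunctor').obj a = S) :
    ∃ h : (Cleavage.ofCoGrothendieck F.toPseudofunctor').obj
        ((Cleavage.ofCoGrothendieck F.toPseudofunctor').obj_proj ha f) g =
        (Cleavage.ofCoGrothendieck F.toPseudofunctor').obj ha (g ≫ f),
      (Cleavage.ofCoGrothendieck F.toPseudofunctor').lift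
        ((Cleavage.ofCoGrothendieck F.toPseudofunctor').obj_proj ha f) g ≫
        (Cleavage.ofCoGrothendieck F.toPseudofunctor').lift ha f =
      eqToHom h ≫ (Cleavage.ofCoGrothendieck F.toPseudofunctor').lift ha (g ≫ f) := by
  subst ha
  obtain ⟨S, x⟩ := a
  have h : (Cleavage.ofCoGrothendieck F.toPseudofunctor').obj
        ((Cleavage.ofCoGrothendieck F.toPseudofunctor').obj_proj (a := ⟨S, x⟩) rfl f) g =
        (Cleavage.ofCoGrothendieck F.toPseudofunctor').obj (a := ⟨S, x⟩) rfl (g ≫ f) := by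
    show (⟨U, (F.map (g ≫ eqToHom rfl).op).toFunctor.obj ((F.map (f ≫ eqToHom rfl).op).toFunctor.obj x)⟩ :
      CoGrothendieck F.toPseudofunctor') = ⟨U, (F.map ((g ≫ f) ≫ eqToHom rfl).op).toFunctor.obj x⟩
    apply obj_eq
    simp only [eqToHom_refl, Category.comp_id, op_comp, F.map_comp]
    rfl
  refine ⟨h, ?_⟩
  apply Hom.ext
  · simp only [categoryStruct_comp_fiber, eqToHom_fiber, mapComp_inv_app, lift_fiber]
    simp
  · simp only [categoryStruct_comp_base, eqToHom_base]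
    show (g ≫ eqToHom _) ≫ (f ≫ eqToHom _) = eqToHom _ ≫ ((g ≫ f) ≫ eqToHom _)
    simp

theorem L_split (F : 𝒮ᵒᵖ ⥤ Cat.{v₂, u₂}) :
    (Cleavage.ofCoGrothendieck F.toPseudofunctor').IsSplitting :=
  ⟨L_norm F, L_comp F⟩

universe v₃ u₃ v₄ u₄
variable {𝒳 : Type u₃} [Category.{v₃} 𝒳] {𝒴 : Type u₄} [Category.{v₄} 𝒴]

theorem lift_comp_iff (q : 𝒴 ⥤ 𝒮) (Φ : 𝒳 ⥤ 𝒴) {R S : 𝒮} (f : R ⟶ S) {a b : 𝒳} (φ : a ⟶ b) :
    (Φ ⋙ q).IsHomLift f φ ↔ q.IsHomLift f (Φ.map φ) := by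
  constructor
  · intro h
    cases h
    exact CategoryTheory.IsHomLift.map q (Φ.map φ)
  · intro h
    have h1 : q.obj (Φ.obj a) = R := IsHomLift.domain_eq q f (Φ.map φ)
    have h2 : q.obj (Φ.obj b) = S := IsHomLift.codomain_eq q f (Φ.map φ)
    subst h1 h2
    have h3 : f = q.map (Φ.map φ) := IsHomLift.eq_of_isHomLift q f (Φ.map φ)
    subst h3
    exact CategoryTheory.IsHomLift.map (Φ ⋙ q) φ

theorem cart_of_ff (q : 𝒴 ⥤ 𝒮) (Φ : 𝒳 ⥤ 𝒴) [Φ.Full] [Φ.Faithful] {R S : 𝒮} (f : R ⟶ S) {a b : 𝒳}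
    (φ : a ⟶ b) [hc : q.IsCartesian f (Φ.map φ)] : (Φ ⋙ q).IsCartesian f φ := by
  haveI : (Φ ⋙ q).IsHomLift f φ := (lift_comp_iff q Φ f φ).2 inferInstance
  refine ⟨?_⟩
  intro a' φ' hφ'
  haveI : q.IsHomLift f (Φ.map φ') := (lift_comp_iff q Φ f φ').1 hφ'
  refine ⟨Φ.preimage (IsCartesian.map q f (Φ.map φ) (Φ.map φ')), ⟨?_, ?_⟩, ?_⟩
  · rw [lift_comp_iff, Φ.map_preimage]
    infer_instance
  · apply Φ.map_injective
    rw [Φ.map_comp, Φ.map_preimage, IsCartesian.fac]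
  · rintro χ ⟨h1, h2⟩
    apply Φ.map_injective
    rw [Φ.map_preimage]
    haveI : q.IsHomLift (𝟙 R) (Φ.map χ) := (lift_comp_iff q Φ _ χ).1 h1
    apply IsCartesian.map_uniq
    rw [← Φ.map_comp, h2]

section transport
variable (q : 𝒴 ⥤ 𝒮) (Φ : 𝒳 ⥤ 𝒴) (Ψ : 𝒴 ⥤ 𝒳) (h₁ : Φ ⋙ Ψ = 𝟭 𝒳) (h₂ : Ψ ⋙ Φ = 𝟭 𝒴)
  (L : Cleavage q)

include h₁ h₂ in
theorem isEquiv_Φ : Φ.IsEquivalence :=
  (CategoryTheory.Equivalence.mk Φ Ψ (eqToIso h₁.symm) (eqToIso h₂)).isEquivalence_functor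

def Kobj {R S : 𝒮} {a : 𝒳} (ha : (Φ ⋙ q).obj a = S) (f : R ⟶ S) : 𝒳 :=
  Ψ.obj (L.obj (a := Φ.obj a) ha f)

def Klift {R S : 𝒮} {a : 𝒳} (ha : (Φ ⋙ q).obj a = S) (f : R ⟶ S) : Kobj q Φ Ψ L ha f ⟶ a :=
  Ψ.map (L.lift (a := Φ.obj a) ha f) ≫ eqToHom (Functor.congr_obj h₁ a)

theorem map_Klift {R S : 𝒮} {a : 𝒳} (ha : (Φ ⋙ q).obj a = S) (f : R ⟶ S) :
    Φ.map (Klift q Φ Ψ h₁ L ha f) =
      eqToHom (Functor.congr_obj h₂ _) ≫ L.lift (a := Φ.obj a) ha f := by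
  unfold Klift
  rw [Φ.map_comp, eqToHom_map]
  have := Functor.congr_hom h₂ (L.lift (a := Φ.obj a) ha f)
  simp only [Functor.comp_map, Functor.id_map] at this
  rw [this]
  simp

include h₂ in
theorem cart_Klift {R S : 𝒮} {a : 𝒳} (ha : (Φ ⋙ q).obj a = S) (f : R ⟶ S) :
    (Φ ⋙ q).IsCartesian f (Klift q Φ Ψ h₁ L ha f) := by
  haveI := isEquiv_Φ Φ Ψ h₁ h₂
  haveI : q.IsCartesian f (Φ.map (Klift q Φ Ψ h₁ L ha f)) := by
    rw [map_Klift q Φ Ψ h₁ h₂]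
    have hR : q.obj (Φ.obj (Ψ.obj (L.obj (a := Φ.obj a) ha f))) = R := by
      rw [show Φ.obj (Ψ.obj (L.obj (a := Φ.obj a) ha f)) = L.obj (a := Φ.obj a) ha f from
        Functor.congr_obj h₂ _]
      exact L.obj_proj _ _
    haveI : q.IsHomLift (𝟙 R) (eqToIso (Functor.congr_obj h₂ (L.obj (a := Φ.obj a) ha f))).hom := by
      rw [eqToIso.hom]
      exact IsHomLift.eqToHom_domain_lift_id _ hR
    exact IsCartesian.of_iso_comp (p := q) (f := f) (φ := L.lift (a := Φ.obj a) ha f)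
      (eqToIso (Functor.congr_obj h₂ (L.obj (a := Φ.obj a) ha f)))
  exact cart_of_ff q Φ f _

def K : Cleavage (Φ ⋙ q) where
  obj ha f := Kobj q Φ Ψ L ha f
  lift ha f := Klift q Φ Ψ h₁ L ha f
  isCartesian ha f := cart_Klift q Φ Ψ h₁ h₂ L ha f

include h₂ in
theorem K_norm (hL : L.IsNormalised) : (K q Φ Ψ h₁ h₂ L).IsNormalised := by
  intro S a ha
  obtain ⟨h', hl⟩ := hL (a := Φ.obj a) ha
  have h : (K q Φ Ψ h₁ h₂ L).obj ha (𝟙 S) = a := by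
    show Ψ.obj (L.obj (a := Φ.obj a) ha (𝟙 S)) = a
    rw [h']
    exact Functor.congr_obj h₁ a
  refine ⟨h, ?_⟩
  show Ψ.map (L.lift (a := Φ.obj a) ha (𝟙 S)) ≫ eqToHom (Functor.congr_obj h₁ a) = _
  rw [hl, eqToHom_map, eqToHom_trans]

theorem L_obj_congr {y' y : 𝒴} (e : y' = y) {T U : 𝒮} (hy' : q.obj y' = T) (hy : q.obj y = T)
    (g : U ⟶ T) :
    ∃ h : L.obj hy' g = L.obj hy g, L.lift hy' g = eqToHom h ≫ L.lift hy g ≫ eqToHom e.symm := by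
  subst e
  exact ⟨rfl, by simp⟩

include h₂ in
theorem K_comp (hL : L.IsSplitting) ⦃S T U : 𝒮⦄ (f : T ⟶ S) (g : U ⟶ T) ⦃a : 𝒳⦄
    (ha : (Φ ⋙ q).obj a = S) :
    ∃ h : (K q Φ Ψ h₁ h₂ L).obj ((K q Φ Ψ h₁ h₂ L).obj_proj ha f) g =
        (K q Φ Ψ h₁ h₂ L).obj ha (g ≫ f),
      (K q Φ Ψ h₁ h₂ L).lift ((K q Φ Ψ h₁ h₂ L).obj_proj ha f) g ≫ (K q Φ Ψ h₁ h₂ L).lift ha f =
        eqToHom h ≫ (K q Φ Ψ h₁ h₂ L).lift ha (g ≫ f) := by
  obtain ⟨h', hl⟩ := (hL.2 : ∀ ⦃S T U : 𝒮⦄ (f : T ⟶ S) (g : U ⟶ T) ⦃a : 𝒴⦄ (ha : q.obj a = S), _) f g (a := Φ.obj a) ha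
  have e : Φ.obj ((K q Φ Ψ h₁ h₂ L).obj ha f) = L.obj (a := Φ.obj a) ha f :=
    Functor.congr_obj h₂ _
  obtain ⟨h'', hl'⟩ := L_obj_congr q L e ((K q Φ Ψ h₁ h₂ L).obj_proj ha f)
    (L.obj_proj (a := Φ.obj a) ha f) g
  have h : (K q Φ Ψ h₁ h₂ L).obj ((K q Φ Ψ h₁ h₂ L).obj_proj ha f) g =
        (K q Φ Ψ h₁ h₂ L).obj ha (g ≫ f) := by
    show Ψ.obj (L.obj (a := Φ.obj ((K q Φ Ψ h₁ h₂ L).obj ha f)) _ g) =
      Ψ.obj (L.obj (a := Φ.obj a) ha (g ≫ f))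
    rw [h'', h']
  refine ⟨h, ?_⟩
  show (Ψ.map (L.lift (a := Φ.obj ((K q Φ Ψ h₁ h₂ L).obj ha f)) _ g) ≫ eqToHom _) ≫
    (Ψ.map (L.lift (a := Φ.obj a) ha f) ≫ eqToHom _) =
    eqToHom h ≫ (Ψ.map (L.lift (a := Φ.obj a) ha (g ≫ f)) ≫ eqToHom _)
  rw [hl']
  simp only [Functor.map_comp, eqToHom_map, Category.assoc, eqToHom_trans_assoc, eqToHom_refl,
    Category.id_comp]
  rw [← Ψ.map_comp_assoc, hl]
  simp only [Functor.map_comp, eqToHom_map, Category.assoc, eqToHom_trans_assoc]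

end transport

theorem main {𝒮 : Type u₁} [Category.{v₁} 𝒮] {𝒳 : Type u₂} [Category.{v₂} 𝒳]
    (p : 𝒳 ⥤ 𝒮) (F : 𝒮ᵒᵖ ⥤ Cat.{v₂, u₂})
    (Φ : 𝒳 ⥤ Pseudofunctor.CoGrothendieck F.toPseudofunctor')
    (Ψ : Pseudofunctor.CoGrothendieck F.toPseudofunctor' ⥤ 𝒳)
    (h₁ : Φ ⋙ Ψ = 𝟭 𝒳) (h₂ : Ψ ⋙ Φ = 𝟭 _)
    (h₃ : Φ ⋙ Pseudofunctor.CoGrothendieck.forget F.toPseudofunctor' = p) :
    ∃ K : FibCat.Cleavage p, K.IsSplitting := by
  subst h₃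
  exact ⟨K _ Φ Ψ h₁ h₂ (Cleavage.ofCoGrothendieck F.toPseudofunctor'),
    K_norm _ Φ Ψ h₁ h₂ _ (L_split F).1, K_comp _ Φ Ψ h₁ h₂ _ (L_split F)⟩

end PRE

/-- Let p : 𝒳 → 𝒮 be a functor, F : 𝒮ᵒᵖ → Cat a strict functor, and suppose 𝒳 is isomorphic over 𝒮 to
the category of pairs (U, x), x an object of F(U), built from F: there are functors Φ : 𝒳 → ∫F and Ψ
: ∫F → 𝒳 inverse to each other on the nose with Φ followed by the projection equal to p. Then 𝒳 has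
a cleavage over 𝒮 which is a splitting: the chosen transport morphism over each identity is the
identity, and the chosen transport morphism of g at f^* a followed by that of f at a is the chosen
transport morphism of g ≫ f at a. In particular the inverse-image functors of that cleavage satisfy
(fg)^* = g^* f^* on the nose, which is the published conclusion; no fibredness hypothesis is needed,
𝒳 being fibred as a consequence. -/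
theorem result {𝒮 : Type u₁} [Category.{v₁} 𝒮] {𝒳 : Type u₂} [Category.{v₂} 𝒳]
    (p : 𝒳 ⥤ 𝒮) (F : 𝒮ᵒᵖ ⥤ Cat.{v₂, u₂})
    (Φ : 𝒳 ⥤ Pseudofunctor.CoGrothendieck F.toPseudofunctor')
    (Ψ : Pseudofunctor.CoGrothendieck F.toPseudofunctor' ⥤ 𝒳)
    (h₁ : Φ ⋙ Ψ = 𝟭 𝒳) (h₂ : Ψ ⋙ Φ = 𝟭 _)
    (h₃ : Φ ⋙ Pseudofunctor.CoGrothendieck.forget F.toPseudofunctor' = p) :
    ∃ K : FibCat.Cleavage p, K.IsSplitting := by
  exact main p F Φ Ψ h₁ h₂ h₃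

end Groth.Agent.S19866
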