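import Groth.Statements.S19868
import Groth.Agent.Lib.Helper26.JacobsonThm
import Groth.Agent.Lib.Helper26.Lie3

set_option autoImplicit false
universe u v
open PLie

namespace Groth.Agent.S19868

open Groth.Agent.Lib.Helper26

section helpers

variable {K : Type u} [Field K]

open DualNumber

theorem pow_four_decomp {n : Type*} [Fintype n] [DecidableEq n]
    (N M : Matrix n n (DualNumber K)) (hN : N * N = 0) :
    (N + (ε : DualNumber K) • M) ^ 4 = 0 := by
  have h2 : (N + (ε : DualNumber K) • M) ^ 2 = (ε : DualNumber K) • (N * M + M * N) := by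
    rw [pow_two, add_mul, mul_add, mul_add, hN, smul_mul_assoc, Matrix.mul_smul,
      Matrix.mul_smul, smul_mul_assoc, smul_smul, DualNumber.eps_mul_eps, zero_smul, smul_add]
    abel
  have h4 : (4 : ℕ) = 2 * 2 := rfl
  rw [h4, pow_mul, h2, pow_two, smul_mul_assoc, Matrix.mul_smul, smul_smul,
    DualNumber.eps_mul_eps, zero_smul]

/-- matrix of `ad x` -/
def M0 (a b c d e f : K) : Matrix (Fin 3) (Fin 3) (DualNumber K) :=
  !![0, a • ε, d • ε; 0, b • ε, e • ε; 0, c • ε, f • ε]

/-- matrix of `ad y` -/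
def M1 (a b c g h i : K) : Matrix (Fin 3) (Fin 3) (DualNumber K) :=
  !![-(a • ε), 0, 1 + g • ε; -(b • ε), 0, h • ε; -(c • ε), 0, i • ε]

/-- matrix of `ad z` -/
def M2 (d e f g h i : K) : Matrix (Fin 3) (Fin 3) (DualNumber K) :=
  !![-(d • ε), -(1 + g • ε), 0; -(e • ε), -(h • ε), 0; -(f • ε), -(i • ε), 0]

theorem M0_sq (a b c d e f : K) : M0 a b c d e f * M0 a b c d e f = 0 := by
  apply Matrix.ext
  intro r s
  fin_cases r <;> fin_cases s <;> simp [M0]

theorem M1_sq (a g h i : K) :
    M1 a 0 0 g h i * M1 a 0 0 g h i = ((i - a) • ε : DualNumber K) • M1 a 0 0 g h i := by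
  apply Matrix.ext
  intro r s
  fin_cases r <;> fin_cases s <;>
    (apply TrivSqZeroExt.ext <;> simp [M1, Matrix.mul_apply, Fin.sum_univ_three] <;> ring)

theorem M2_sq (d g h i : K) :
    M2 d 0 0 g h i * M2 d 0 0 g h i = ((-(h + d)) • ε : DualNumber K) • M2 d 0 0 g h i := by
  apply Matrix.ext
  intro r s
  fin_cases r <;> fin_cases s <;>
    (apply TrivSqZeroExt.ext <;> simp [M2, Matrix.mul_apply, Fin.sum_univ_three] <;> ring)

theorem M1_cube (a b c g h i : K) :
    M1 a b c g h i * M1 a b c g h i * M1 a b c g h i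
      = ((-c) • ε : DualNumber K) • M1 a b c g h i := by
  apply Matrix.ext
  intro r s
  fin_cases r <;> fin_cases s <;>
    (apply TrivSqZeroExt.ext <;> simp [M1, Matrix.mul_apply, Fin.sum_univ_three] <;> ring)

theorem M2_cube (d e f g h i : K) :
    M2 d e f g h i * M2 d e f g h i * M2 d e f g h i
      = (e • ε : DualNumber K) • M2 d e f g h i := by
  apply Matrix.ext
  intro r s
  fin_cases r <;> fin_cases s <;>
    (apply TrivSqZeroExt.ext <;> simp [M2, Matrix.mul_apply, Fin.sum_univ_three] <;> ring)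

theorem M0_decomp (a b c d e f : K) : M0 a b c d e f = 0 + (ε : DualNumber K) •
    (!![0, TrivSqZeroExt.inl a, TrivSqZeroExt.inl d; 0, TrivSqZeroExt.inl b, TrivSqZeroExt.inl e;
      0, TrivSqZeroExt.inl c, TrivSqZeroExt.inl f] : Matrix (Fin 3) (Fin 3) (DualNumber K)) := by
  apply Matrix.ext
  intro r s
  fin_cases r <;> fin_cases s <;>
    (apply TrivSqZeroExt.ext <;> simp [M0])

theorem M1_decomp (a b c g h i : K) : M1 a b c g h i =
    (!![0, 0, 1; 0, 0, 0; 0, 0, 0] : Matrix (Fin 3) (Fin 3) (DualNumber K)) + (ε : DualNumber K) •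
    (!![-TrivSqZeroExt.inl a, 0, TrivSqZeroExt.inl g; -TrivSqZeroExt.inl b, 0, TrivSqZeroExt.inl h;
      -TrivSqZeroExt.inl c, 0, TrivSqZeroExt.inl i] : Matrix (Fin 3) (Fin 3) (DualNumber K)) := by
  apply Matrix.ext
  intro r s
  fin_cases r <;> fin_cases s <;>
    (apply TrivSqZeroExt.ext <;> simp [M1])

theorem M2_decomp (d e f g h i : K) : M2 d e f g h i =
    (!![0, -1, 0; 0, 0, 0; 0, 0, 0] : Matrix (Fin 3) (Fin 3) (DualNumber K)) + (ε : DualNumber K) •
    (!![-TrivSqZeroExt.inl d, -TrivSqZeroExt.inl g, 0; -TrivSqZeroExt.inl e, -TrivSqZeroExt.inl h, 0;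
      -TrivSqZeroExt.inl f, -TrivSqZeroExt.inl i, 0] : Matrix (Fin 3) (Fin 3) (DualNumber K)) := by
  apply Matrix.ext
  intro r s
  fin_cases r <;> fin_cases s <;>
    (apply TrivSqZeroExt.ext <;> simp [M2])

theorem M0_pow4 (a b c d e f : K) : M0 a b c d e f ^ 4 = 0 := by
  rw [M0_decomp]
  apply pow_four_decomp
  simp

theorem M1_pow4 (a b c g h i : K) : M1 a b c g h i ^ 4 = 0 := by
  rw [M1_decomp]
  apply pow_four_decomp
  apply Matrix.ext
  intro r s
  fin_cases r <;> fin_cases s <;> simp

theorem M2_pow4 (d e f g h i : K) : M2 d e f g h i ^ 4 = 0 := by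
  rw [M2_decomp]
  apply pow_four_decomp
  apply Matrix.ext
  intro r s
  fin_cases r <;> fin_cases s <;> simp

theorem nec1 (a b c d e f g h i : K) (α β γ : DualNumber K)
    (h1 : M1 a b c g h i * M1 a b c g h i
      = α • M0 a b c d e f + β • M1 a b c g h i + γ • M2 d e f g h i) : b = 0 ∧ c = 0 := by
  have e01 := congrArg TrivSqZeroExt.fst (congrFun (congrFun h1 0) 1)
  have e02 := congrArg TrivSqZeroExt.fst (congrFun (congrFun h1 0) 2)
  have e00 := congrArg TrivSqZeroExt.snd (congrFun (congrFun h1 0) 0)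
  have e11 := congrArg TrivSqZeroExt.snd (congrFun (congrFun h1 1) 1)
  have e12 := congrArg TrivSqZeroExt.snd (congrFun (congrFun h1 1) 2)
  simp [M0, M1, M2, Matrix.mul_apply, Fin.sum_univ_three] at e01 e02 e00 e11 e12
  generalize TrivSqZeroExt.fst α = α0 at *
  generalize TrivSqZeroExt.fst β = β0 at *
  generalize TrivSqZeroExt.fst γ = γ0 at *
  constructor
  · have hbb : b * b = 0 := by
      linear_combination (-b) * e12 + e * e11 + (b * h) * e02 - (e * h) * e01
    exact mul_self_eq_zero.mp hbb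
  · linear_combination (-1) * e00 - a * e02 + d * e01

theorem nec2 (a b c d e f g h i : K) (α β γ : DualNumber K)
    (h2 : M2 d e f g h i * M2 d e f g h i
      = α • M0 a b c d e f + β • M1 a b c g h i + γ • M2 d e f g h i) : e = 0 := by
  have z02 := congrArg TrivSqZeroExt.fst (congrFun (congrFun h2 0) 2)
  have z00 := congrArg TrivSqZeroExt.snd (congrFun (congrFun h2 0) 0)
  have z10 := congrArg TrivSqZeroExt.snd (congrFun (congrFun h2 1) 0)
  simp [M0, M1, M2, Matrix.mul_apply, Fin.sum_univ_three] at z02 z00 z10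
  generalize TrivSqZeroExt.fst α = α0 at *
  generalize TrivSqZeroExt.fst β = β0 at *
  generalize TrivSqZeroExt.fst γ = γ0 at *
  have hee : e * e = 0 := by
    linear_combination e * z00 - d * z10 + (e * a - d * b) * z02
  exact mul_self_eq_zero.mp hee

end helpers

open DualNumber in
/-- Let K be a field of prime characteristic p, K[ε] the ring of dual numbers (taken with its
characteristic-p structure) and a, …, i ∈ K. Let L be a Lie algebra over K[ε], free as a module with
basis x = bs 0, y = bs 1, z = bs 2 and brackets [x,y] = aε x + bε y + cε z, [x,z] = dε x + eε y + fε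
z, [y,z] = (1 + gε) x + hε y + iε z, a first-order deformation of the Heisenberg algebra (the Jacobi
identity forces b + f = 0). Then L carries a p-mapping over K[ε] if and only if b = c = e = 0 when p
= 2; for odd p there is no condition. (The published statement is about the singularity of the point
h_3 in the restrictable locus of the rank-one-centre stratum of the moduli scheme of based
three-dimensional Lie algebras over the prime field; this row states the restrictability criterion
for the first-order deformations of h_3 asserted in its proof, over any field of characteristic p in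
place of the prime field.) -/
theorem result (K : Type u) [Field K] (p : ℕ) [Fact p.Prime] [CharP K p]
    [CharP (DualNumber K) p] (a b c d e f g h i : K)
    (L : Type v) [LieRing L] [LieAlgebra (DualNumber K) L] (bs : Module.Basis (Fin 3) (DualNumber K) L)
    (hxy : ⁅bs 0, bs 1⁆ = (a • ε : DualNumber K) • bs 0 + (b • ε : DualNumber K) • bs 1 + (c • ε : DualNumber K) • bs 2)
    (hxz : ⁅bs 0, bs 2⁆ = (d • ε : DualNumber K) • bs 0 + (e • ε : DualNumber K) • bs 1 + (f • ε : DualNumber K) • bs 2)
    (hyz : ⁅bs 1, bs 2⁆ = (1 + g • ε : DualNumber K) • bs 0 + (h • ε : DualNumber K) • bs 1 + (i • ε : DualNumber K) • bs 2) :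
    Nonempty (PLie.PMap (DualNumber K) p L) ↔ (p = 2 → b = 0 ∧ c = 0 ∧ e = 0) := by
  have hpP : p.Prime := Fact.out
  obtain ⟨A, hA⟩ : ∃ A : Fin 3 → DualNumber K, A = ![a • ε, b • ε, c • ε] := ⟨_, rfl⟩
  obtain ⟨B, hB⟩ : ∃ B : Fin 3 → DualNumber K, B = ![d • ε, e • ε, f • ε] := ⟨_, rfl⟩
  obtain ⟨C, hC⟩ : ∃ C : Fin 3 → DualNumber K, C = ![1 + g • ε, h • ε, i • ε] := ⟨_, rfl⟩
  have hxy' : ⁅bs 0, bs 1⁆ = A 0 • bs 0 + A 1 • bs 1 + A 2 • bs 2 := by simpa [hA] using hxy
  have hxz' : ⁅bs 0, bs 2⁆ = B 0 • bs 0 + B 1 • bs 1 + B 2 • bs 2 := by simpa [hB] using hxz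
  have hyz' : ⁅bs 1, bs 2⁆ = C 0 • bs 0 + C 1 • bs 1 + C 2 • bs 2 := by simpa [hC] using hyz
  have key := fun j n w => Lie3.ad_pow_eq_ad_iff bs hxy' hxz' hyz' j n w
  have keys := fun j n c m => Lie3.ad_pow_eq_ad_smul_iff bs hxy' hxz' hyz' j n c m
  have key0 := fun j n => Lie3.ad_pow_eq_ad_zero_iff bs hxy' hxz' hyz' j n
  have hT0 : Lie3.T A B C 0 = M0 a b c d e f := by
    simp [Lie3.T, M0, hA, hB]
  have hT1 : Lie3.T A B C 1 = M1 a b c g h i := by
    simp [Lie3.T, M1, hA, hC]
  have hT2 : Lie3.T A B C 2 = M2 d e f g h i := by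
    simp [Lie3.T, M2, hB, hC]
  -- the Jacobi identity
  have hbf : b + f = 0 := by
    have hJ := Lie3.jacobi_matrix bs hxy' hxz' hyz'
    rw [Fin.sum_univ_three, hT0, hT1, hT2] at hJ
    have h00 := congrArg TrivSqZeroExt.snd (congrFun (congrFun hJ 0) 0)
    simp [hC, M0, M1, M2, Matrix.mul_apply, Fin.sum_univ_three] at h00
    linear_combination h00
  have hf : f = -b := by linear_combination hbf
  constructor
  · -- necessity
    rintro ⟨φ⟩ hp2
    subst hp2
    have h1 := (key 1 2 (φ (bs 1))).mp (φ.ad_map (bs 1)).symm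
    have h2 := (key 2 2 (φ (bs 2))).mp (φ.ad_map (bs 2)).symm
    rw [Fin.sum_univ_three, hT0, hT1, hT2, pow_two] at h1 h2
    obtain ⟨hb, hc⟩ := nec1 a b c d e f g h i _ _ _ h1
    exact ⟨hb, hc, nec2 a b c d e f g h i _ _ _ h2⟩
  · -- sufficiency
    intro hcond
    by_cases hp2 : p = 2
    · obtain ⟨hb, hc, he⟩ := hcond hp2
      subst hp2
      have hf0 : f = 0 := by rw [hf, hb, neg_zero]
      subst hb hc he hf0
      have hy0 : LieAlgebra.ad (DualNumber K) L (bs 0) ^ 2 = LieAlgebra.ad (DualNumber K) L 0 := by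
        rw [key0, hT0, pow_two, M0_sq]
      have hy1 : LieAlgebra.ad (DualNumber K) L (bs 1) ^ 2 =
          LieAlgebra.ad (DualNumber K) L (((i - a) • ε : DualNumber K) • bs 1) := by
        rw [keys, hT1, pow_two, M1_sq]
      have hy2 : LieAlgebra.ad (DualNumber K) L (bs 2) ^ 2 =
          LieAlgebra.ad (DualNumber K) L (((-(h + d)) • ε : DualNumber K) • bs 2) := by
        rw [keys, hT2, pow_two, M2_sq]
      obtain ⟨φ, -⟩ := JacobsonThm.exists_pmap_of_basis 2 bs
        ![0, ((i - a) • ε : DualNumber K) • bs 1, ((-(h + d)) • ε : DualNumber K) • bs 2] (by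
          intro j
          fin_cases j
          · exact hy0
          · exact hy1
          · exact hy2)
      exact ⟨φ⟩
    · by_cases hp3 : p = 3
      · subst hp3
        have hy0 : LieAlgebra.ad (DualNumber K) L (bs 0) ^ 3 = LieAlgebra.ad (DualNumber K) L 0 := by
          rw [key0, hT0, pow_succ, pow_two, M0_sq, zero_mul]
        have hy1 : LieAlgebra.ad (DualNumber K) L (bs 1) ^ 3 =
            LieAlgebra.ad (DualNumber K) L (((-c) • ε : DualNumber K) • bs 1) := by
          rw [keys, hT1, pow_succ, pow_two, M1_cube]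
        have hy2 : LieAlgebra.ad (DualNumber K) L (bs 2) ^ 3 =
            LieAlgebra.ad (DualNumber K) L ((e • ε : DualNumber K) • bs 2) := by
          rw [keys, hT2, pow_succ, pow_two, M2_cube]
        obtain ⟨φ, -⟩ := JacobsonThm.exists_pmap_of_basis 3 bs
          ![0, ((-c) • ε : DualNumber K) • bs 1, (e • ε : DualNumber K) • bs 2] (by
            intro j
            fin_cases j
            · exact hy0
            · exact hy1
            · exact hy2)
        exact ⟨φ⟩
      · have hp4 : 4 ≤ p := by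
          have h2 := hpP.two_le
          by_contra hlt
          have : p = 2 ∨ p = 3 := by omega
          rcases this with h | h
          · exact hp2 h
          · exact hp3 h
        obtain ⟨φ, -⟩ := JacobsonThm.exists_pmap_of_basis p bs (fun _ => 0) (by
          intro j
          rw [key0]
          apply pow_eq_zero_of_le hp4
          fin_cases j
          · exact hT0 ▸ M0_pow4 a b c d e f
          · exact hT1 ▸ M1_pow4 a b c g h i
          · exact hT2 ▸ M2_pow4 d e f g h i)
        exact ⟨φ⟩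

end Groth.Agent.S19868
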