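import Groth.Statements.S1987
import Mathlib
-- import your own Groth.Agent.* helpers here

set_option autoImplicit false
universe u
open Polynomial
open EtAlg

namespace Groth.Agent.S1987

section helpers

variable (A : Type u) [CommRing A] [IsDomain A] [IsDiscreteValuationRing A] (π : A)
  (hπ : Irreducible π) (n : ℕ) (hn : 2 ≤ n)

include hπ hn in
theorem irr : Irreducible (X ^ n - C π : A[X]) := by
  have hn0 : n ≠ 0 := by omega
  have hmonic : (X ^ n - C π : A[X]).Monic := monic_X_pow_sub_C π hn0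
  have hdeg : (X ^ n - C π : A[X]).natDegree = n := natDegree_X_pow_sub_C
  have hprime : Prime π := hπ.prime
  have hP : (Ideal.span {π}).IsPrime := (Ideal.span_singleton_prime hπ.ne_zero).mpr hprime
  refine Polynomial.IsEisensteinAt.irreducible (𝓟 := Ideal.span {π}) ?_ hP hmonic.isPrimitive
    (by rw [hdeg]; omega)
  refine ⟨?_, ?_, ?_⟩
  · rw [hmonic.leadingCoeff]
    exact fun h => hP.ne_top ((Ideal.eq_top_iff_one _).mpr h)
  · intro k hk
    rw [hdeg] at hk
    rw [coeff_sub, coeff_X_pow, if_neg (by omega), zero_sub, coeff_C]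
    split_ifs
    · exact (Ideal.neg_mem_iff _).mpr (Ideal.mem_span_singleton_self π)
    · simp
  · rw [coeff_sub, coeff_X_pow, if_neg (by omega), zero_sub, coeff_C_zero,
      Ideal.span_singleton_pow, Ideal.neg_mem_iff, Ideal.mem_span_singleton]
    rintro ⟨c, hc⟩
    have h2 : π * 1 = π * (π * c) := by
      rw [mul_one]
      conv_lhs => rw [hc]
      ring
    have h1 := mul_left_cancel₀ hπ.ne_zero h2
    exact hπ.not_isUnit (IsUnit.of_mul_eq_one c h1.symm)

theorem root_pow :
    AdjoinRoot.root (X ^ n - C π : A[X]) ^ n = AdjoinRoot.of (X ^ n - C π : A[X]) π := by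
  have h := AdjoinRoot.mk_self (f := (X ^ n - C π : A[X]))
  rw [map_sub, map_pow, AdjoinRoot.mk_X, AdjoinRoot.mk_C, sub_eq_zero] at h
  exact h

theorem decomp (b : AdjoinRoot (X ^ n - C π : A[X])) :
    ∃ (a0 : A) (b' : AdjoinRoot (X ^ n - C π : A[X])),
      b = AdjoinRoot.of (X ^ n - C π : A[X]) a0 + AdjoinRoot.root (X ^ n - C π : A[X]) * b' := by
  obtain ⟨p, rfl⟩ := AdjoinRoot.mk_surjective b
  refine ⟨p.coeff 0, AdjoinRoot.mk _ p.divX, ?_⟩
  conv_lhs => rw [← Polynomial.divX_mul_X_add p]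
  rw [map_add, map_mul, AdjoinRoot.mk_X, AdjoinRoot.mk_C, add_comm, mul_comm]

include hπ hn in
theorem root_mem_max (M : Ideal (AdjoinRoot (X ^ n - C π : A[X]))) (hM : M.IsMaximal) :
    AdjoinRoot.root (X ^ n - C π : A[X]) ∈ M := by
  have hn0 : n ≠ 0 := by omega
  have hmonic : (X ^ n - C π : A[X]).Monic := monic_X_pow_sub_C π hn0
  haveI : Module.Finite A (AdjoinRoot (X ^ n - C π : A[X])) := hmonic.finite_adjoinRoot
  haveI : Algebra.IsIntegral A (AdjoinRoot (X ^ n - C π : A[X])) := Algebra.IsIntegral.of_finite _ _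
  have h1 : (M.comap (algebraMap A (AdjoinRoot (X ^ n - C π : A[X])))).IsMaximal :=
    Ideal.isMaximal_comap_of_isIntegral_of_isMaximal M
  have h2 := IsLocalRing.eq_maximalIdeal h1
  have h3 : π ∈ M.comap (algebraMap A (AdjoinRoot (X ^ n - C π : A[X]))) := by
    rw [h2, IsLocalRing.mem_maximalIdeal, mem_nonunits_iff]
    exact hπ.not_isUnit
  rw [Ideal.mem_comap, AdjoinRoot.algebraMap_eq, ← root_pow] at h3
  exact hM.isPrime.mem_of_pow_mem n h3

include hπ hn in
theorem nonunit_iff (b : AdjoinRoot (X ^ n - C π : A[X])) :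
    ¬ IsUnit b ↔ b ∈ Ideal.span {AdjoinRoot.root (X ^ n - C π : A[X])} := by
  haveI hdom : IsDomain (AdjoinRoot (X ^ n - C π : A[X])) :=
    AdjoinRoot.isDomain_of_prime (irr A π hπ n hn).prime
  constructor
  · intro hb
    obtain ⟨M, hM, hbM⟩ := exists_max_ideal_of_mem_nonunits (mem_nonunits_iff.mpr hb)
    obtain ⟨a0, b', rfl⟩ := decomp A π n b
    have hroot := root_mem_max A π hπ n hn M hM
    have ha0M : AdjoinRoot.of (X ^ n - C π : A[X]) a0 ∈ M := by
      have := M.sub_mem hbM (M.mul_mem_right b' hroot)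
      simpa using this
    have ha0 : ¬ IsUnit a0 := by
      intro hu
      exact hM.ne_top (Ideal.eq_top_of_isUnit_mem _ ha0M (hu.map _))
    have ha0' : a0 ∈ IsLocalRing.maximalIdeal A := by
      rw [IsLocalRing.mem_maximalIdeal, mem_nonunits_iff]; exact ha0
    rw [hπ.maximalIdeal_eq, Ideal.mem_span_singleton] at ha0'
    obtain ⟨c, rfl⟩ := ha0'
    refine Ideal.add_mem _ ?_ (Ideal.mul_mem_right _ _ (Ideal.mem_span_singleton_self _))
    rw [map_mul, ← root_pow]
    have hpow : AdjoinRoot.root (X ^ n - C π : A[X]) ^ n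
        = AdjoinRoot.root (X ^ n - C π : A[X]) ^ (n - 1) * AdjoinRoot.root (X ^ n - C π : A[X]) := by
      rw [← pow_succ]
      congr 1
      omega
    rw [hpow, mul_assoc]
    exact Ideal.mul_mem_left _ _ (Ideal.mul_mem_right _ _ (Ideal.mem_span_singleton_self _))
  · intro hb hu
    obtain ⟨c, rfl⟩ := Ideal.mem_span_singleton'.mp hb
    have hru : IsUnit (AdjoinRoot.root (X ^ n - C π : A[X])) := isUnit_of_mul_isUnit_right hu
    obtain ⟨M, hM⟩ := Ideal.exists_maximal (AdjoinRoot (X ^ n - C π : A[X]))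
    exact hM.ne_top (Ideal.eq_top_of_isUnit_mem _ (root_mem_max A π hπ n hn M hM) hru)

include hπ hn in
theorem maxIdeal_eq [IsLocalRing (AdjoinRoot (X ^ n - C π : A[X]))] :
    IsLocalRing.maximalIdeal (AdjoinRoot (X ^ n - C π : A[X]))
      = Ideal.span {AdjoinRoot.root (X ^ n - C π : A[X])} := by
  ext b
  rw [IsLocalRing.mem_maximalIdeal, mem_nonunits_iff]
  exact nonunit_iff A π hπ n hn b

include hπ hn in
theorem totRam [IsDomain (AdjoinRoot (X ^ n - C π : A[X]))]
    [IsDiscreteValuationRing (AdjoinRoot (X ^ n - C π : A[X]))]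
    (K₁ : Type u) [Field K₁] [Algebra (AdjoinRoot (X ^ n - C π : A[X])) K₁]
    [IsFractionRing (AdjoinRoot (X ^ n - C π : A[X])) K₁] :
    EtRam.IsTotallyRamified A ((algebraMap (AdjoinRoot (X ^ n - C π : A[X])) K₁).comp
      (algebraMap A (AdjoinRoot (X ^ n - C π : A[X])))) := by
  classical
  have hn0 : n ≠ 0 := by omega
  obtain ⟨ι, hι⟩ : ∃ ι : AdjoinRoot (X ^ n - C π : A[X]) →+* K₁,
      ι = algebraMap (AdjoinRoot (X ^ n - C π : A[X])) K₁ := ⟨_, rfl⟩
  obtain ⟨x, hx⟩ : ∃ x : AdjoinRoot (X ^ n - C π : A[X]),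
      x = AdjoinRoot.root (X ^ n - C π : A[X]) := ⟨_, rfl⟩
  obtain ⟨g, hg⟩ : ∃ g : A →+* K₁, g = (algebraMap (AdjoinRoot (X ^ n - C π : A[X])) K₁).comp
      (algebraMap A (AdjoinRoot (X ^ n - C π : A[X]))) := ⟨_, rfl⟩
  rw [← hg]
  have hgof : ∀ a : A, g a = ι (AdjoinRoot.of (X ^ n - C π : A[X]) a) := by
    intro a
    rw [hg, hι, RingHom.comp_apply, AdjoinRoot.algebraMap_eq]
  have hιinj : Function.Injective ι := by
    rw [hι]; exact IsFractionRing.injective _ _
  have hxn : x ^ n = AdjoinRoot.of (X ^ n - C π : A[X]) π := by rw [hx]; exact root_pow A π n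
  have hιxn : ι x ^ n = g π := by rw [hgof, ← hxn, map_pow]
  have hofinj : Function.Injective (AdjoinRoot.of (X ^ n - C π : A[X])) := by
    apply AdjoinRoot.of.injective_of_degree_ne_zero
    rw [degree_X_pow_sub_C (by omega) π]
    exact_mod_cast hn0
  have hx0 : x ≠ 0 := by
    intro h
    rw [h, zero_pow hn0] at hxn
    exact hπ.ne_zero (hofinj (by rw [← hxn, map_zero]))
  have hιx0 : ι x ≠ 0 := fun h => hx0 (hιinj (by rw [h, map_zero]))
  have hnu : ∀ b : AdjoinRoot (X ^ n - C π : A[X]), ¬ IsUnit b ↔ b ∈ Ideal.span {x} := by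
    intro b; rw [hx]; exact nonunit_iff A π hπ n hn b
  have hπmax : π ∈ IsLocalRing.maximalIdeal A := by
    rw [IsLocalRing.mem_maximalIdeal, mem_nonunits_iff]; exact hπ.not_isUnit
  -- images of maximal-ideal elements are nonunits upstairs
  have hofnu : ∀ a : A, a ∈ IsLocalRing.maximalIdeal A →
      ¬ IsUnit (AdjoinRoot.of (X ^ n - C π : A[X]) a) := by
    intro a ha
    rw [hπ.maximalIdeal_eq, Ideal.mem_span_singleton] at ha
    obtain ⟨c, rfl⟩ := ha
    rw [hnu, map_mul, ← hxn]
    have hpow : x ^ n = x ^ (n - 1) * x := by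
      rw [← pow_succ]; congr 1; omega
    rw [hpow, mul_assoc]
    exact Ideal.mul_mem_left _ _ (Ideal.mul_mem_right _ _ (Ideal.mem_span_singleton_self _))
  -- characterisation of dominating valuation subrings
  have key : ∀ V : ValuationSubring K₁, EtRam.Dominates A g V →
      (∀ y : K₁, y ∈ V ↔ ∃ b, ι b = y) ∧ V.valuation (ι x) < 1 := by
    intro V hV
    obtain ⟨h1, h2⟩ := hV
    have hπV : V.valuation (g π) < 1 := h2 π hπmax
    have hxV : ι x ∈ V := by
      by_contra hnot
      have hinv : (ι x)⁻¹ ∈ V := (V.mem_or_inv_mem (ι x)).resolve_left hnot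
      have hid : ι x = (ι x) ^ n * ((ι x)⁻¹) ^ (n - 1) := by
        have hpow : ι x ^ n = ι x ^ (n - 1) * ι x := by
          rw [← pow_succ]; congr 1; omega
        rw [hpow, inv_pow]
        field_simp
      apply hnot
      rw [hid, hιxn]
      exact V.mul_mem _ _ (h1 π) (V.pow_mem hinv _)
    have hxlt : V.valuation (ι x) < 1 := by
      have hle : V.valuation (ι x) ≤ 1 := (V.valuation_le_one_iff _).mpr hxV
      by_contra hnot
      have heq : V.valuation (ι x) = 1 := le_antisymm hle (not_lt.mp hnot)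
      have : V.valuation (g π) = 1 := by rw [← hιxn, map_pow, heq, one_pow]
      rw [this] at hπV
      exact lt_irrefl _ hπV
    have hsup : ∀ b, ι b ∈ V := by
      intro b
      obtain ⟨p, rfl⟩ := AdjoinRoot.mk_surjective b
      induction p using Polynomial.induction_on' with
      | add p q hp hq =>
        rw [map_add, map_add]
        exact V.add_mem _ _ hp hq
      | monomial i a =>
        rw [← C_mul_X_pow_eq_monomial, map_mul, map_pow, AdjoinRoot.mk_X, AdjoinRoot.mk_C,
          map_mul, map_pow, ← hx]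
        refine V.mul_mem _ _ ?_ (V.pow_mem hxV i)
        have := h1 a
        rw [hgof] at this
        exact this
    refine ⟨fun y => ⟨fun hy => ?_, fun ⟨b, hb⟩ => hb ▸ hsup b⟩, hxlt⟩
    by_cases hy0 : y = 0
    · exact ⟨0, by rw [hy0, map_zero]⟩
    have hint := ValuationRing.isInteger_or_isInteger (AdjoinRoot (X ^ n - C π : A[X])) y
    rcases hint with ⟨b, hb⟩ | ⟨b, hb⟩
    · exact ⟨b, by rw [hι]; exact hb⟩
    · rw [← hι] at hb
      by_cases hbu : IsUnit b
      · obtain ⟨u, rfl⟩ := hbu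
        refine ⟨((u⁻¹ : (AdjoinRoot (X ^ n - C π : A[X]))ˣ) : AdjoinRoot (X ^ n - C π : A[X])), ?_⟩
        have hmul : ι ((u⁻¹ : (AdjoinRoot (X ^ n - C π : A[X]))ˣ) : AdjoinRoot (X ^ n - C π : A[X]))
            * ι (u : AdjoinRoot (X ^ n - C π : A[X])) = 1 := by
          rw [← map_mul, Units.inv_mul, map_one]
        rw [hb] at hmul
        have := eq_inv_of_mul_eq_one_left hmul
        rw [inv_inv] at this
        exact this
      · exfalso
        rw [hnu] at hbu
        obtain ⟨c, rfl⟩ := Ideal.mem_span_singleton'.mp hbu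
        rw [map_mul] at hb
        have hinvV : (ι x)⁻¹ ∈ V := by
          have h3 : (ι x)⁻¹ = y * ι c := by
            have hyinv : y * y⁻¹ = 1 := mul_inv_cancel₀ hy0
            rw [← hb] at hyinv
            have : ι x * (y * ι c) = 1 := by rw [← hyinv]; ring
            exact (eq_inv_of_mul_eq_one_right this).symm ▸ rfl
          rw [h3]
          exact V.mul_mem _ _ hy (hsup c)
        have hmem : ι x ∈ V.nonunits := hxlt
        rw [ValuationSubring.mem_nonunits_iff_or] at hmem
        rcases hmem with h | h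
        · exact hιx0 h
        · exact h hinvV
  refine ⟨?_, ?_, ?_⟩
  · -- existence
    obtain ⟨V0, hV0⟩ : ∃ V0 : ValuationSubring K₁, ∀ y : K₁, y ∈ V0 ↔ ∃ b, ι b = y := by
      refine ⟨(ValuationRing.valuation (AdjoinRoot (X ^ n - C π : A[X])) K₁).valuationSubring,
        fun y => ?_⟩
      rw [Valuation.mem_valuationSubring_iff, ← Valuation.mem_integer_iff,
        ValuationRing.mem_integer_iff, hι]
    refine ⟨V0, fun a => (hV0 _).mpr ⟨_, (hgof a).symm⟩, fun a ha => ?_⟩
    change g a ∈ V0.nonunits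
    rw [ValuationSubring.mem_nonunits_iff_or]
    by_cases h0 : g a = 0
    · exact Or.inl h0
    · right
      intro hinv
      obtain ⟨b, hb⟩ := (hV0 _).mp hinv
      apply hofnu a ha
      have : ι (AdjoinRoot.of (X ^ n - C π : A[X]) a * b) = ι 1 := by
        rw [map_mul, hb, ← hgof, map_one, mul_inv_cancel₀ h0]
      exact IsUnit.of_mul_eq_one b (hιinj this)
  · -- uniqueness
    intro V V' hV hV'
    ext y
    rw [(key V hV).1 y, (key V' hV').1 y]
  · -- residue field
    intro V h r
    obtain ⟨⟨y, hy⟩, rfl⟩ := Ideal.Quotient.mk_surjective r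
    obtain ⟨hmem, hxlt⟩ := key V h
    obtain ⟨b, hb⟩ := (hmem y).mp hy
    obtain ⟨a0, b', hbb⟩ := decomp A π n b
    refine ⟨a0, ?_⟩
    show Ideal.Quotient.mk _ _ = Ideal.Quotient.mk _ _
    rw [Ideal.Quotient.eq, ValuationSubring.valuation_lt_one_iff]
    have hb'V : ι b' ∈ V := (hmem _).mpr ⟨b', rfl⟩
    have hval : ((RingHom.codRestrict g V h.1 a0 - ⟨y, hy⟩ : V) : K₁) = - (ι x * ι b') := by
      rw [AddSubgroupClass.coe_sub]
      show g a0 - y = _
      rw [← hb, hbb, map_add, map_mul, ← hgof, ← hx]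
      ring
    rw [hval, Valuation.map_neg, map_mul]
    calc V.valuation (ι x) * V.valuation (ι b') ≤ V.valuation (ι x) * 1 :=
          mul_le_mul' le_rfl ((V.valuation_le_one_iff _).mpr hb'V)
      _ = V.valuation (ι x) := mul_one _
      _ < 1 := hxlt

end helpers

/-- Let A be a discrete valuation ring with uniformizer π and n ≥ 2, and let A' = A[x]/(x^n - π). Then
x^n - π is irreducible over A, A' is an integrally closed discrete valuation ring (so it is the
integral closure of A in its fraction field K₁ = K(π^{1/n}), of degree n over K), the maximal ideal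
of A generates the n-th power of the maximal ideal of A' (ramification index n), and K₁ is totally
ramified with respect to A. -/
theorem result (A : Type u) [CommRing A] [IsDomain A] [IsDiscreteValuationRing A] (π : A)
    (hπ : Irreducible π) (n : ℕ) (hn : 2 ≤ n) :
    Irreducible (X ^ n - C π : A[X]) ∧
    ∃ (_ : IsDomain (AdjoinRoot (X ^ n - C π : A[X]))) (_ : IsDiscreteValuationRing (AdjoinRoot (X ^ n - C π : A[X]))),
      IsIntegrallyClosed (AdjoinRoot (X ^ n - C π : A[X])) ∧
      (IsLocalRing.maximalIdeal A).map (algebraMap A (AdjoinRoot (X ^ n - C π : A[X]))) = IsLocalRing.maximalIdeal (AdjoinRoot (X ^ n - C π : A[X])) ^ n ∧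
      ∀ (K₁ : Type u) [Field K₁] [Algebra (AdjoinRoot (X ^ n - C π : A[X])) K₁] [IsFractionRing (AdjoinRoot (X ^ n - C π : A[X])) K₁],
        EtRam.IsTotallyRamified A ((algebraMap (AdjoinRoot (X ^ n - C π : A[X])) K₁).comp (algebraMap A (AdjoinRoot (X ^ n - C π : A[X])))) := by
  have hirr := irr A π hπ n hn
  refine ⟨hirr, ?_⟩
  have hn0 : n ≠ 0 := by omega
  have hmonic : (X ^ n - C π : A[X]).Monic := monic_X_pow_sub_C π hn0
  haveI hdom : IsDomain (AdjoinRoot (X ^ n - C π : A[X])) :=
    AdjoinRoot.isDomain_of_prime hirr.prime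
  have hloc : IsLocalRing (AdjoinRoot (X ^ n - C π : A[X])) := by
    apply IsLocalRing.of_nonunits_add
    intro a b ha hb
    rw [mem_nonunits_iff, nonunit_iff A π hπ n hn] at ha hb ⊢
    exact Ideal.add_mem _ ha hb
  haveI := hloc
  have hmax := maxIdeal_eq A π hπ n hn
  haveI : Module.Finite A (AdjoinRoot (X ^ n - C π : A[X])) := hmonic.finite_adjoinRoot
  haveI hnoeth : IsNoetherianRing (AdjoinRoot (X ^ n - C π : A[X])) :=
    IsNoetherianRing.of_finite A _
  have hofinj : Function.Injective (AdjoinRoot.of (X ^ n - C π : A[X])) := by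
    apply AdjoinRoot.of.injective_of_degree_ne_zero
    rw [degree_X_pow_sub_C (by omega) π]
    exact_mod_cast hn0
  have hx0 : AdjoinRoot.root (X ^ n - C π : A[X]) ≠ 0 := by
    intro h
    have h2 := root_pow A π n
    rw [h, zero_pow hn0] at h2
    exact hπ.ne_zero (hofinj (by rw [← h2, map_zero]))
  have hnf : ¬ IsField (AdjoinRoot (X ^ n - C π : A[X])) := by
    rw [IsLocalRing.isField_iff_maximalIdeal_eq, hmax, Ideal.span_singleton_eq_bot]
    exact hx0
  have hprinc : (IsLocalRing.maximalIdeal (AdjoinRoot (X ^ n - C π : A[X]))).IsPrincipal :=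
    ⟨⟨AdjoinRoot.root (X ^ n - C π : A[X]), hmax⟩⟩
  have hdvr : IsDiscreteValuationRing (AdjoinRoot (X ^ n - C π : A[X])) :=
    ((IsDiscreteValuationRing.TFAE (AdjoinRoot (X ^ n - C π : A[X])) hnf).out 4 0).mp hprinc
  refine ⟨hdom, hdvr, ?_, ?_, ?_⟩
  · haveI := hdvr
    infer_instance
  · rw [hπ.maximalIdeal_eq, Ideal.map_span, Set.image_singleton, AdjoinRoot.algebraMap_eq,
      ← root_pow, ← Ideal.span_singleton_pow]
    congr 1
    exact (maxIdeal_eq A π hπ n hn).symm
  · intro K₁ _ _ _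
    haveI := hdvr
    exact totRam A π hπ n hn K₁

end Groth.Agent.S1987
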