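import Groth.Statements.S1989
import Groth.Agent.Lib.Helper10.RamTower
-- import your own Groth.Agent.* helpers here

set_option autoImplicit false
set_option linter.style.haveILetI false
universe u
open EtAlg
open Groth.Agent.Lib.Helper10.RamTower

namespace Groth.Agent.S1989

/-- Let K be the fraction field of a discrete valuation ring A, and K ⊂ L ⊂ M finite separable
extensions. If M is tamely ramified, respectively unramified, with respect to A, then so is L. -/
theorem result (A K : Type u) [CommRing A] [IsDomain A] [IsDiscreteValuationRing A] [Field K] [Algebra A K] [IsFractionRing A K] (L M : Type u) [Field L] [Field M]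
    [Algebra K L] [Algebra K M] [Algebra L M] [IsScalarTower K L M] [FiniteDimensional K M] [Algebra.IsSeparable K M] :
    (EtRam.IsTamelyRamified A ((algebraMap K M).comp (algebraMap A K)) →
      EtRam.IsTamelyRamified A ((algebraMap K L).comp (algebraMap A K))) ∧
    (EtRam.IsUnramifiedExt A ((algebraMap K M).comp (algebraMap A K)) →
      EtRam.IsUnramifiedExt A ((algebraMap K L).comp (algebraMap A K))) := by
  classical
  have hLfin : FiniteDimensional K L := FiniteDimensional.left K L M
  have hgLM : ∀ a, algebraMap L M (((algebraMap K L).comp (algebraMap A K)) a) =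
      ((algebraMap K M).comp (algebraMap A K)) a := fun a => by
    simp only [RingHom.comp_apply]
    rw [← IsScalarTower.algebraMap_apply K L M]
  have hinjL : Function.Injective ((algebraMap K L).comp (algebraMap A K)) :=
    (algebraMap K L).injective.comp (IsFractionRing.injective A K)
  have hinjM : Function.Injective ((algebraMap K M).comp (algebraMap A K)) :=
    (algebraMap K M).injective.comp (IsFractionRing.injective A K)
  have hmA : IsLocalRing.maximalIdeal A ≠ ⊥ := IsDiscreteValuationRing.not_a_field A
  refine ⟨fun h1 V hV => ?_, fun h1 V hV => ?_⟩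
  · intro instLoc
    obtain ⟨W, hWV'⟩ := exists_comap_eq (algebraMap L M) V
    subst hWV'
    have hW : EtRam.Dominates A ((algebraMap K M).comp (algebraMap A K)) W :=
      ⟨fun a => by rw [← hgLM]; exact hV.1 a,
      fun a ha => by
        rw [← hgLM, ← valuation_comap_lt_one_iff]; exact hV.2 a ha⟩
    have hWV : EtRam.Dominates (W.comap (algebraMap L M))
        ((algebraMap L M).comp (W.comap (algebraMap L M)).subtype) W :=
      ⟨fun v => v.2, fun v hv => by
        rw [ValuationSubring.valuation_lt_one_iff] at hv
        exact (valuation_comap_lt_one_iff W _ _).mp hv⟩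
    letI algAW : Algebra A W :=
      (RingHom.codRestrict ((algebraMap K M).comp (algebraMap A K)) W hW.1).toAlgebra
    letI algAV : Algebra A (W.comap (algebraMap L M)) :=
      (RingHom.codRestrict ((algebraMap K L).comp (algebraMap A K)) _ hV.1).toAlgebra
    letI algVW : Algebra (W.comap (algebraMap L M)) W :=
      (RingHom.codRestrict ((algebraMap L M).comp (W.comap (algebraMap L M)).subtype) W
        hWV.1).toAlgebra
    haveI : IsScalarTower A (W.comap (algebraMap L M)) W :=
      IsScalarTower.of_algebraMap_eq (fun a => Subtype.ext (hgLM a).symm)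
    haveI locAW : IsLocalHom (algebraMap A W) := isLocalHom_of_dominates A _ W hW
    haveI locVW : IsLocalHom (algebraMap (W.comap (algebraMap L M)) W) :=
      isLocalHom_of_dominates _ _ W hWV
    haveI dvrV : IsDiscreteValuationRing (W.comap (algebraMap L M)) :=
      isDiscreteValuationRing_of_dominates A K L _ hV
    haveI dvrW : IsDiscreteValuationRing W := isDiscreteValuationRing_of_dominates A K M W hW
    have hAWinj : Function.Injective (algebraMap A W) := fun a b hab =>
      hinjM (congrArg Subtype.val hab)
    have hVWinj : Function.Injective (algebraMap (W.comap (algebraMap L M)) W) := fun a b hab =>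
      Subtype.ext ((algebraMap L M).injective (congrArg Subtype.val hab))
    obtain ⟨hs, he⟩ := h1 W hW
    refine ⟨isSeparable_bot (T := W) hs, fun p hp hchar hdvd => he p hp hchar ?_⟩
    rw [ramificationIdx_tower (S := (W.comap (algebraMap L M))) hAWinj hVWinj hmA]
    exact Dvd.dvd.mul_right hdvd _
  · intro instLoc
    obtain ⟨W, hWV'⟩ := exists_comap_eq (algebraMap L M) V
    subst hWV'
    have hW : EtRam.Dominates A ((algebraMap K M).comp (algebraMap A K)) W :=
      ⟨fun a => by rw [← hgLM]; exact hV.1 a,
      fun a ha => by
        rw [← hgLM, ← valuation_comap_lt_one_iff]; exact hV.2 a ha⟩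
    have hWV : EtRam.Dominates (W.comap (algebraMap L M))
        ((algebraMap L M).comp (W.comap (algebraMap L M)).subtype) W :=
      ⟨fun v => v.2, fun v hv => by
        rw [ValuationSubring.valuation_lt_one_iff] at hv
        exact (valuation_comap_lt_one_iff W _ _).mp hv⟩
    letI algAW : Algebra A W :=
      (RingHom.codRestrict ((algebraMap K M).comp (algebraMap A K)) W hW.1).toAlgebra
    letI algAV : Algebra A (W.comap (algebraMap L M)) :=
      (RingHom.codRestrict ((algebraMap K L).comp (algebraMap A K)) _ hV.1).toAlgebra
    letI algVW : Algebra (W.comap (algebraMap L M)) W :=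
      (RingHom.codRestrict ((algebraMap L M).comp (W.comap (algebraMap L M)).subtype) W
        hWV.1).toAlgebra
    haveI : IsScalarTower A (W.comap (algebraMap L M)) W :=
      IsScalarTower.of_algebraMap_eq (fun a => Subtype.ext (hgLM a).symm)
    haveI locAW : IsLocalHom (algebraMap A W) := isLocalHom_of_dominates A _ W hW
    haveI locVW : IsLocalHom (algebraMap (W.comap (algebraMap L M)) W) :=
      isLocalHom_of_dominates _ _ W hWV
    haveI dvrV : IsDiscreteValuationRing (W.comap (algebraMap L M)) :=
      isDiscreteValuationRing_of_dominates A K L _ hV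
    haveI dvrW : IsDiscreteValuationRing W := isDiscreteValuationRing_of_dominates A K M W hW
    have hAVinj : Function.Injective (algebraMap A (W.comap (algebraMap L M))) := fun a b hab =>
      hinjL (congrArg Subtype.val hab)
    obtain ⟨hw, hs⟩ := h1 W hW
    exact ⟨weaklyUnramified_bot (T := W) hAVinj hmA hw, isSeparable_bot (T := W) hs⟩

end Groth.Agent.S1989
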