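import Groth.Statements.S19890
import Mathlib.RingTheory.UniqueFactorizationDomain.Kaplansky
import Mathlib.RingTheory.Flat.EquationalCriterion
import Mathlib.RingTheory.Flat.FaithfullyFlat.Algebra
import Mathlib.RingTheory.Ideal.AssociatedPrime.Localization
import Mathlib.RingTheory.UniqueFactorizationDomain.GCDMonoid

set_option autoImplicit false
universe u
open CAlg

namespace Groth.Agent.S19890

variable {R R' : Type u} [CommRing R] [CommRing R'] [Algebra R R']

/-- flatness: the colon ideal `(a : b)` commutes with flat base change (the non-trivial inclusion) -/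
theorem mem_map_of_dvd [Module.Flat R R'] (a b : R) (p : Ideal R)
    (hp : ∀ r, a ∣ r * b → r ∈ p) (x' : R')
    (h : algebraMap R R' a ∣ x' * algebraMap R R' b) : x' ∈ p.map (algebraMap R R') := by
  obtain ⟨y', hy'⟩ := h
  have hrel : ∑ i : Fin 2, (![b, -a] : Fin 2 → R) i • (![x', y'] : Fin 2 → R') i = 0 := by
    rw [Fin.sum_univ_two]
    simp only [Matrix.cons_val_zero, Matrix.cons_val_one, Algebra.smul_def, map_neg]
    rw [mul_comm, hy']; ring
  obtain ⟨k, c, y, h1, h2⟩ := Module.Flat.isTrivialRelation_of_sum_smul_eq_zero hrel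
  have hx' : x' = ∑ j, c 0 j • y j := h1 0
  rw [hx']
  refine Submodule.sum_mem _ fun j _ => ?_
  rw [Algebra.smul_def]
  apply Ideal.mul_mem_right
  apply Ideal.mem_map_of_mem
  apply hp
  have := h2 j
  rw [Fin.sum_univ_two] at this
  simp only [Matrix.cons_val_zero, Matrix.cons_val_one] at this
  refine ⟨c 1 j, ?_⟩
  linear_combination this

/-- in a GCD domain colon ideals of principal ideals are principal -/
theorem exists_dvd_iff [IsDomain R'] [UniqueFactorizationMonoid R'] (a' b' : R') (ha' : a' ≠ 0) :
    ∃ c' : R', ∀ x' : R', a' ∣ x' * b' ↔ c' ∣ x' := by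
  classical
  letI : GCDMonoid R' := UniqueFactorizationMonoid.toGCDMonoid R'
  obtain ⟨c', d', hc', hd', hu⟩ := extract_gcd a' b'
  have hg : gcd a' b' ≠ 0 := fun h => ha' (by rw [hc', h, zero_mul])
  refine ⟨c', fun x' => ?_⟩
  constructor
  · intro h
    rw [hc'] at h
    conv at h => rhs; rw [hd', mul_left_comm]
    have h2 : c' ∣ x' * d' := (mul_dvd_mul_iff_left hg).mp h
    have hrel : IsRelPrime c' d' := (gcd_isUnit_iff_isRelPrime).mp hu
    exact hrel.dvd_of_dvd_mul_right h2
  · intro h
    obtain ⟨t, rfl⟩ := h
    refine ⟨t * d', ?_⟩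
    rw [hc']
    conv_lhs => rw [hd']
    ring


/-- Let R → R' be a faithfully flat ring map between Noetherian integrally closed local domains. Then
unique factorization descends along this map: when R' is a UFD, so is R. (The first assertion of the
lemma, descent of principality for an ideal whose extension to R' is principal, is a separate
statement.) -/
theorem result
    (R R' : Type u) [CommRing R] [CommRing R'] [IsDomain R] [IsDomain R']
    [IsNoetherianRing R] [IsNoetherianRing R'] [IsLocalRing R] [IsLocalRing R']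
    [IsIntegrallyClosed R] [IsIntegrallyClosed R']
    [Algebra R R'] [Module.FaithfullyFlat R R'] [UniqueFactorizationMonoid R'] :
    UniqueFactorizationMonoid R := by
  classical
  rw [UniqueFactorizationMonoid.iff_exists_prime_mem_of_isPrime]
  intro I hIn _
  rcases I.ne_bot_iff.mp hIn with ⟨a, haI, ha0⟩
  rcases Ideal.exists_minimalPrimes_le (I.span_singleton_le_iff_mem.mpr haI) with ⟨p, hpmin, hpl⟩
  have hpprime : p.IsPrime := hpmin.isPrime
  have hap : a ∈ p := hpmin.1.2 (Ideal.mem_span_singleton_self a)
  have hinj : Function.Injective (algebraMap R R') :=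
    FaithfulSMul.algebraMap_injective R R'
  -- `p` is an associated prime of `R/(a)`
  have hass : p ∈ associatedPrimes R (R ⧸ Ideal.span {a}) := by
    apply Module.associatedPrimes.minimalPrimes_annihilator_subset_associatedPrimes R
    rwa [Ideal.annihilator_quotient]
  obtain ⟨b, hb⟩ : ∃ b : R, ∀ r, r ∈ p ↔ a ∣ r * b := by
    obtain ⟨-, z, hz⟩ := (isAssociatedPrime_iff (R := R)).mp hass
    obtain ⟨b, rfl⟩ := Ideal.Quotient.mk_surjective z
    refine ⟨b, fun r => ?_⟩
    rw [hz, Submodule.mem_colon_singleton, Submodule.mem_bot, ← Ideal.mem_span_singleton,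
      ← Ideal.Quotient.eq_zero_iff_mem, map_mul]
    rfl
  -- the extension of `p` is principal
  have ha' : algebraMap R R' a ≠ 0 := fun h => ha0 (hinj (by rw [h, map_zero]))
  obtain ⟨c', hc'⟩ := exists_dvd_iff (algebraMap R R' a) (algebraMap R R' b) ha'
  have hmap : p.map (algebraMap R R') = Ideal.span {c'} := by
    apply le_antisymm
    · rw [Ideal.map_le_iff_le_comap]
      intro r hr
      rw [Ideal.mem_comap, Ideal.mem_span_singleton, ← hc', ← map_mul]
      exact map_dvd (algebraMap R R') ((hb r).mp hr)
    · rw [Ideal.span_singleton_le_iff_mem]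
      exact mem_map_of_dvd a b p (fun r hr => (hb r).mpr hr) c' ((hc' c').mpr dvd_rfl)
  have hc'0 : c' ≠ 0 := by
    intro h
    rw [h] at hmap
    have : algebraMap R R' a ∈ p.map (algebraMap R R') := Ideal.mem_map_of_mem _ hap
    rw [hmap, Ideal.mem_span_singleton, zero_dvd_iff] at this
    exact ha' this
  -- some element of `p` generates the extension
  obtain ⟨x, hxp, s', hs', hxs⟩ : ∃ x ∈ p, ∃ s' : R', IsUnit s' ∧ algebraMap R R' x = c' * s' := by
    by_contra hcon
    push Not at hcon
    have hle : p.map (algebraMap R R') ≤ Ideal.span {c'} * IsLocalRing.maximalIdeal R' := by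
      rw [Ideal.map_le_iff_le_comap]
      intro r hr
      rw [Ideal.mem_comap, Ideal.mem_span_singleton_mul]
      have : algebraMap R R' r ∈ Ideal.span {c'} := hmap ▸ Ideal.mem_map_of_mem _ hr
      rw [Ideal.mem_span_singleton] at this
      obtain ⟨s', hs'⟩ := this
      refine ⟨s', ?_, hs'.symm⟩
      rw [IsLocalRing.mem_maximalIdeal]
      intro hu
      exact hcon r hr s' hu hs'
    have hc'mem : c' ∈ Ideal.span {c'} * IsLocalRing.maximalIdeal R' :=
      hle (hmap ▸ Ideal.mem_span_singleton_self c')
    rw [Ideal.mem_span_singleton_mul] at hc'mem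
    obtain ⟨t, ht, hct⟩ := hc'mem
    have : t = 1 := by
      have h1 : c' * t = c' * 1 := by rw [hct, mul_one]
      exact mul_left_cancel₀ hc'0 h1
    rw [this, IsLocalRing.mem_maximalIdeal] at ht
    exact ht isUnit_one
  have hpx : p = Ideal.span {x} := by
    have h1 : (Ideal.span {x}).map (algebraMap R R') = p.map (algebraMap R R') := by
      rw [hmap, Ideal.map_span, Set.image_singleton, hxs]
      exact Ideal.span_singleton_mul_right_unit hs' c'
    rw [← Ideal.comap_map_eq_self_of_faithfullyFlat (B := R') p, ← h1,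
      Ideal.comap_map_eq_self_of_faithfullyFlat]
  have hx0 : x ≠ 0 := by
    intro h
    rw [h] at hpx
    have : a ∈ Ideal.span {(0 : R)} := hpx ▸ hap
    rw [Ideal.mem_span_singleton, zero_dvd_iff] at this
    exact ha0 this
  refine ⟨x, hpl hxp, ?_⟩
  rw [← Ideal.span_singleton_prime hx0, ← hpx]
  exact hpprime

end Groth.Agent.S19890
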