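import Groth.Statements.S19895
-- import your own Groth.Agent.* helpers here
import Groth.Agent.Lib.Helper72.VerlindeF
open Groth.Agent.Lib.Helper72.Verlinde

set_option autoImplicit false
open Complex
open VerlindeComb

namespace Groth.Agent.S19895

/-- Fix integers r ≥ 2 and k ≥ 1, and two partitions λ, λ' with k ≥ λ_1 ≥ ⋯ ≥ λ_{r-1} ≥ λ_r = 0 and k ≥
λ'_1 ≥ ⋯ ≥ λ'_{r-1} ≥ λ'_r = 0 such that λ is not equivalent to the dual partition λ'* = (k − λ'_r,
…, k − λ'_1), two integer vectors being equivalent when their difference is a constant vector (a, …,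
a). For an integer vector v with r + k > v_1 > ⋯ > v_{r-1} > v_r = 0 put z(v)_j = exp(2πi v_j / (r +
k)), let S_μ(v) = det(z(v)_j^{μ_i + r − i}) / det(z(v)_j^{r − i}) be the Schur value and P(v) =
∏_{i<j} (2 sin(π (v_i − v_j)/(r + k)))². Then the sum over all such v of exp(−2πi (|λ| + |λ'|) (v_1
+ ⋯ + v_r) / (r (r + k))) · S_λ(v) · S_{λ'}(v) · P(v) vanishes; that is, the genus-zero Verlinde
number of rank r, degree 0 and level k with two parabolic points of types λ, λ' is zero. (Only the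
vanishing case is stated; the complementary case, where the number equals 1, is not part of this
statement. The source allows r = 1, where the non-equivalence hypothesis cannot hold.) Indices are
0-based below: lam i stands for λ_{i+1}. -/
theorem result (r k : ℕ) (hr : 2 ≤ r)
    (hk : 1 ≤ k) (lam lam' : Fin r → ℕ) (hlam : Antitone lam) (hlamk : ∀ i, lam i ≤ k)
    (hlam0 : ∀ i : Fin r, (i : ℕ) = r - 1 → lam i = 0)
    (hlam' : Antitone lam') (hlam'k : ∀ i, lam' i ≤ k) (hlam'0 : ∀ i : Fin r, (i : ℕ) = r - 1 → lam' i = 0)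
    (hne : ¬ ∃ a : ℤ, ∀ i, (lam i : ℤ) - ((k - lam' (Fin.rev i) : ℕ) : ℤ) = a)
    (z : (Fin r → ℕ) → Fin r → ℂ)
    (hz : ∀ v j, z v j = Complex.exp (2 * Real.pi * Complex.I * (v j : ℂ) / ((r : ℂ) + k)))
    (S : (Fin r → ℕ) → (Fin r → ℕ) → ℂ)
    (hS : ∀ μ v, S μ v = (Matrix.of fun i j : Fin r => z v j ^ (μ i + (r - 1 - (i : ℕ)))).det /
        (Matrix.of fun i j : Fin r => z v j ^ (r - 1 - (i : ℕ))).det)
    (P : (Fin r → ℕ) → ℝ)
    (hP : ∀ v, P v = ∏ p ∈ (Finset.univ : Finset (Fin r × Fin r)).filter (fun p => p.1 < p.2),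
        ((2 : ℝ) * Real.sin (Real.pi * ((v p.1 : ℝ) - (v p.2 : ℝ)) / ((r : ℝ) + k))) ^ 2) :
    (∑ v ∈ (Finset.univ : Finset (Fin r → Fin (r + k))).filter
        (fun v : Fin r → Fin (r + k) => StrictAnti v ∧ ∀ i : Fin r, (i : ℕ) = r - 1 → (v i : ℕ) = 0),
      Complex.exp (-(2 * Real.pi * Complex.I * (((∑ i, lam i) + (∑ i, lam' i) : ℕ) : ℂ) *
          ((∑ j, (v j : ℕ) : ℕ) : ℂ) / ((r : ℂ) * ((r : ℂ) + k)))) *
        S lam (fun j => (v j : ℕ)) * S lam' (fun j => (v j : ℕ)) * (P (fun j => (v j : ℕ)) : ℂ)) = 0 := by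
  classical
  have hN0 : r + k ≠ 0 := by omega
  have : NeZero (r + k) := ⟨hN0⟩
  have hr0 : r ≠ 0 := by omega
  have hcast : ((r : ℂ) + k) = ((r + k : ℕ) : ℂ) := by push_cast; rfl
  set lamd : Fin r → ℕ := fun i => k - lam' (Fin.rev i) with hlamd
  have hlamdk : ∀ i, lamd i ≤ k := fun i => Nat.sub_le _ _
  have hlamdA : Antitone lamd := by
    intro i j hij
    have h1 : lam' (Fin.rev i) ≤ lam' (Fin.rev j) := hlam' (Fin.rev_le_rev.mpr hij)
    simp only [hlamd]
    omega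
  set a : Fin r → ℤ := fun i => ((lam i + (r - 1 - (i : ℕ)) : ℕ) : ℤ) with ha
  set b : Fin r → ℤ := fun i => ((lamd i + (r - 1 - (i : ℕ)) : ℕ) : ℤ) with hb
  have haSA : StrictAnti a := strictAnti_add_rho lam hlam
  have hbSA : StrictAnti b := strictAnti_add_rho lamd hlamdA
  have hsa : ∀ i j, a i - a j < ((r + k : ℕ) : ℤ) := by
    intro i j
    have := hlamk i
    have := i.2
    simp only [ha]
    push_cast
    omega
  have hsb : ∀ i j, b i - b j < ((r + k : ℕ) : ℤ) := by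
    intro i j
    have := hlamdk i
    have := i.2
    simp only [hb]
    push_cast
    omega
  have hne' : ¬ ∃ c : ℤ, ∀ i, a i - b i = c := by
    rintro ⟨c, hc⟩
    apply hne
    refine ⟨c, fun i => ?_⟩
    have h := hc i
    simp only [ha, hb, hlamd] at h
    omega
  have horth := twisted_orth (N := r + k) hr0 a b haSA hbSA hsa hsb hne'
  rw [← horth]
  refine Finset.sum_congr rfl (fun v hvmem => ?_)
  simp only [Dset, Finset.mem_filter, Finset.mem_univ, true_and] at hvmem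
  have hv' : StrictAnti (fun j => (v j : ℕ)) := fun i j hij => hvmem.1 hij
  have hinj := not_dvd_of_strictAnti (N := r + k) (fun j => (v j : ℕ)) hv' (fun i => (v i).2)
  have hw : (fun j => (((v j : ℕ)) : ℤ)) = lift v := rfl
  have hzv : ∀ j, z (fun j => (v j : ℕ)) j =
      Complex.exp (2 * Real.pi * Complex.I * (((v j : ℕ)) : ℂ) / ((r + k : ℕ) : ℂ)) := by
    intro j; rw [hz, hcast]
  rw [hS, hS, schur_eq (r + k) _ (fun j => (v j : ℕ)) hzv, schur_eq (r + k) _ (fun j => (v j : ℕ)) hzv, hw]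
  set w := lift v with hwdef
  have hA0 : altZ (r + k) (rho r) w ≠ 0 := altZ_rho_ne_zero hN0 w hinj
  -- P
  have hPv : ((P (fun j => (v j : ℕ)) : ℝ) : ℂ) =
      altZ (r + k) (rho r) w * (starRingEnd ℂ) (altZ (r + k) (rho r) w) := by
    rw [Complex.mul_conj, hP]
    have := normSq_altZ_rho (r + k) w
    rw [show (fun i : Fin r => ((r - 1 - (i : ℕ) : ℕ) : ℤ)) = rho r from rfl] at this
    rw [this]
    congr 1
    refine Finset.prod_congr rfl (fun p _ => ?_)
    simp only [hwdef, Groth.Agent.Lib.Helper72.Verlinde.lift]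
    push_cast
    rfl
  rw [hPv, conj_altZ_rho]
  -- the second alternant
  have hY : altZ (r + k) (fun i => ((lam' i + (r - 1 - (i : ℕ)) : ℕ) : ℤ)) w =
      sgnRev r * zeta (r + k) ^ ((((r + k : ℕ) : ℤ) - 1) * ∑ j, w j) *
        altZ (r + k) (fun i => - b i) w := by
    have h := altZ_dual k lamd hlamdk w
    rw [conj_altZ] at h
    rw [← h]
    congr 1
    funext i
    simp only [hlamd, Fin.rev_rev]
    have := hlam'k i
    congr 1
    omega
  rw [hY]
  -- the phase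
  have hE : Complex.exp (-(2 * Real.pi * Complex.I * (((∑ i, lam i) + (∑ i, lam' i) : ℕ) : ℂ) *
          ((∑ j, (v j : ℕ) : ℕ) : ℂ) / ((r : ℂ) * ((r : ℂ) + k)))) =
      zeta (r * (r + k)) ^ (-((((∑ i, lam i) + (∑ i, lam' i) : ℕ) : ℤ) * ∑ j, w j)) := by
    rw [← exp_eq_zeta_zpow]
    congr 1
    simp only [hwdef, Groth.Agent.Lib.Helper72.Verlinde.lift]
    push_cast
    ring
  rw [hE]
  have hk' : zeta (r + k) ^ ((k : ℤ) * ∑ j, w j) =
      zeta (r * (r + k)) ^ ((r : ℤ) * ((k : ℤ) * ∑ j, w j)) := (zeta_mul_zpow hr0 _).symm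
  have hsum : ∑ i, a i - ∑ i, b i = (((∑ i, lam i) + (∑ i, lam' i) : ℕ) : ℤ) - (r : ℤ) * k := by
    have h1 : ∑ i, a i = ((∑ i, lam i : ℕ) : ℤ) + ∑ i, rho r i := by
      simp only [ha]
      push_cast
      rw [Finset.sum_add_distrib]
      rfl
    have h2 : ∑ i, b i = (r : ℤ) * k - ((∑ i, lam' i : ℕ) : ℤ) + ∑ i, rho r i := by
      have h3 : ∀ i, b i = ((k : ℤ) - (lam' (Fin.rev i) : ℤ)) + rho r i := by
        intro i
        simp only [hb, hlamd, rho]
        have := hlam'k (Fin.rev i)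
        omega
      simp_rw [h3]
      rw [Finset.sum_add_distrib, Finset.sum_sub_distrib, sum_rho_rev (fun i => (lam' i : ℤ))]
      simp
    rw [h1, h2]
    push_cast
    ring
  unfold FF
  rw [hsum]
  have hzr : zeta (r * (r + k)) ≠ 0 := zeta_ne_zero _
  have hexp : zeta (r * (r + k)) ^ (-(((((∑ i, lam i) + (∑ i, lam' i) : ℕ) : ℤ) - (r : ℤ) * k) * ∑ j, w j)) =
      zeta (r * (r + k)) ^ (-((((∑ i, lam i) + (∑ i, lam' i) : ℕ) : ℤ) * ∑ j, w j)) *
        zeta (r + k) ^ ((k : ℤ) * ∑ j, w j) := by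
    rw [hk', ← zpow_add₀ hzr]
    congr 1
    ring
  rw [hexp]
  have hZ : zeta (r + k) ^ ((((r + k : ℕ) : ℤ) - 1) * ∑ j, w j) =
      zeta (r + k) ^ ((k : ℤ) * ∑ j, w j) * zeta (r + k) ^ (((r : ℤ) - 1) * ∑ j, w j) := by
    rw [← zpow_add₀ (zeta_ne_zero _)]
    congr 1
    push_cast
    ring
  rw [hZ, zpow_neg]
  have hZ0 : zeta (r + k) ^ (((r : ℤ) - 1) * ∑ j, w j) ≠ 0 := zpow_ne_zero _ (zeta_ne_zero _)
  have hss := sgnRev_mul_self r
  field_simp
  have hZZ : zeta (r + k) ^ (((r : ℤ) - 1) * ∑ j, w j) *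
      zeta (r + k) ^ (-(((r : ℤ) - 1) * ∑ j, w j)) = 1 := by
    rw [← zpow_add₀ (zeta_ne_zero _)]; simp
  have hss' : sgnRev r ^ 2 = 1 := by rw [pow_two]; exact hss
  rw [show (fun i : Fin r => ((lam i + (r - 1 - (i : ℕ)) : ℕ) : ℤ)) = a from rfl]
  linear_combination (altZ (r + k) a w * zeta (r + k) ^ ((k : ℤ) * ∑ j, w j) *
      zeta (r + k) ^ (((r : ℤ) - 1) * ∑ j, w j) * altZ (r + k) (fun i => -b i) w *
      zeta (r + k) ^ (-(((r : ℤ) - 1) * ∑ j, w j))) * hss' +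
    (altZ (r + k) a w * zeta (r + k) ^ ((k : ℤ) * ∑ j, w j) * altZ (r + k) (fun i => -b i) w) * hZZ

end Groth.Agent.S19895
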