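import Groth.Statements.S1990
import Groth.Agent.Lib.Helper10.RamTower
-- import your own Groth.Agent.* helpers here

set_option autoImplicit false
set_option linter.style.haveILetI false
universe u
open EtAlg
open Groth.Agent.Lib.Helper10.RamTower

namespace Groth.Agent.S1990

/-- Let K be the fraction field of a discrete valuation ring A, and K ⊂ L ⊂ M finite separable
extensions. If L/K is tamely ramified (resp. unramified) with respect to A and M/L is tamely
ramified (resp. unramified) with respect to every valuation subring of L dominating A, then M/K is
tamely ramified (resp. unramified) with respect to A. -/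
theorem result (A K : Type u) [CommRing A] [IsDomain A] [IsDiscreteValuationRing A] [Field K] [Algebra A K] [IsFractionRing A K] (L M : Type u) [Field L] [Field M]
    [Algebra K L] [Algebra K M] [Algebra L M] [IsScalarTower K L M] [FiniteDimensional K M] [Algebra.IsSeparable K M] :
    (EtRam.IsTamelyRamified A ((algebraMap K L).comp (algebraMap A K)) →
      (∀ (V : ValuationSubring L), EtRam.Dominates A ((algebraMap K L).comp (algebraMap A K)) V →
        EtRam.IsTamelyRamified V ((algebraMap L M).comp V.subtype)) →
      EtRam.IsTamelyRamified A ((algebraMap K M).comp (algebraMap A K))) ∧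
    (EtRam.IsUnramifiedExt A ((algebraMap K L).comp (algebraMap A K)) →
      (∀ (V : ValuationSubring L), EtRam.Dominates A ((algebraMap K L).comp (algebraMap A K)) V →
        EtRam.IsUnramifiedExt V ((algebraMap L M).comp V.subtype)) →
      EtRam.IsUnramifiedExt A ((algebraMap K M).comp (algebraMap A K))) := by
  classical
  have hLfin : FiniteDimensional K L := FiniteDimensional.left K L M
  have hgLM : ∀ a, algebraMap L M (((algebraMap K L).comp (algebraMap A K)) a) =
      ((algebraMap K M).comp (algebraMap A K)) a := fun a => by
    simp only [RingHom.comp_apply]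
    rw [← IsScalarTower.algebraMap_apply K L M]
  have hinjM : Function.Injective ((algebraMap K M).comp (algebraMap A K)) :=
    (algebraMap K M).injective.comp (IsFractionRing.injective A K)
  have hmA : IsLocalRing.maximalIdeal A ≠ ⊥ := IsDiscreteValuationRing.not_a_field A
  refine ⟨fun h1 h2 W hW => ?_, fun h1 h2 W hW => ?_⟩
  · intro instLoc
    let V : ValuationSubring L := W.comap (algebraMap L M)
    have hV : EtRam.Dominates A ((algebraMap K L).comp (algebraMap A K)) V :=
      ⟨fun a => by
        show algebraMap L M _ ∈ W
        rw [hgLM]; exact hW.1 a,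
      fun a ha => by
        rw [valuation_comap_lt_one_iff, hgLM]; exact hW.2 a ha⟩
    have hWV : EtRam.Dominates V ((algebraMap L M).comp V.subtype) W :=
      ⟨fun v => v.2, fun v hv => by
        rw [ValuationSubring.valuation_lt_one_iff] at hv
        exact (valuation_comap_lt_one_iff W _ _).mp hv⟩
    letI algAW : Algebra A W :=
      (RingHom.codRestrict ((algebraMap K M).comp (algebraMap A K)) W hW.1).toAlgebra
    letI algAV : Algebra A V :=
      (RingHom.codRestrict ((algebraMap K L).comp (algebraMap A K)) V hV.1).toAlgebra
    letI algVW : Algebra V W :=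
      (RingHom.codRestrict ((algebraMap L M).comp V.subtype) W hWV.1).toAlgebra
    haveI : IsScalarTower A V W :=
      IsScalarTower.of_algebraMap_eq (fun a => Subtype.ext (hgLM a).symm)
    haveI locAV : IsLocalHom (algebraMap A V) := isLocalHom_of_dominates A _ V hV
    haveI locVW : IsLocalHom (algebraMap V W) := isLocalHom_of_dominates V _ W hWV
    haveI dvrV : IsDiscreteValuationRing V := isDiscreteValuationRing_of_dominates A K L V hV
    haveI dvrW : IsDiscreteValuationRing W := isDiscreteValuationRing_of_dominates A K M W hW
    have hAWinj : Function.Injective (algebraMap A W) := fun a b hab =>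
      hinjM (congrArg Subtype.val hab)
    have hVWinj : Function.Injective (algebraMap V W) := fun a b hab =>
      Subtype.ext ((algebraMap L M).injective (congrArg Subtype.val hab))
    obtain ⟨hs1, he1⟩ := h1 V hV
    obtain ⟨hs2, he2⟩ := h2 V hV W hWV
    refine ⟨isSeparable_trans hs1 hs2, fun p hp hchar hdvd => ?_⟩
    rw [ramificationIdx_tower (S := V) hAWinj hVWinj hmA] at hdvd
    rcases (Nat.Prime.dvd_mul hp).mp hdvd with h | h
    · exact he1 p hp hchar h
    · haveI : CharP (IsLocalRing.ResidueField V) p :=
        charP_of_injective_algebraMap
          (algebraMap (IsLocalRing.ResidueField A) (IsLocalRing.ResidueField V)).injective p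
      exact he2 p hp this h
  · intro instLoc
    let V : ValuationSubring L := W.comap (algebraMap L M)
    have hV : EtRam.Dominates A ((algebraMap K L).comp (algebraMap A K)) V :=
      ⟨fun a => by
        show algebraMap L M _ ∈ W
        rw [hgLM]; exact hW.1 a,
      fun a ha => by
        rw [valuation_comap_lt_one_iff, hgLM]; exact hW.2 a ha⟩
    have hWV : EtRam.Dominates V ((algebraMap L M).comp V.subtype) W :=
      ⟨fun v => v.2, fun v hv => by
        rw [ValuationSubring.valuation_lt_one_iff] at hv
        exact (valuation_comap_lt_one_iff W _ _).mp hv⟩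
    letI algAW : Algebra A W :=
      (RingHom.codRestrict ((algebraMap K M).comp (algebraMap A K)) W hW.1).toAlgebra
    letI algAV : Algebra A V :=
      (RingHom.codRestrict ((algebraMap K L).comp (algebraMap A K)) V hV.1).toAlgebra
    letI algVW : Algebra V W :=
      (RingHom.codRestrict ((algebraMap L M).comp V.subtype) W hWV.1).toAlgebra
    haveI : IsScalarTower A V W :=
      IsScalarTower.of_algebraMap_eq (fun a => Subtype.ext (hgLM a).symm)
    haveI locAV : IsLocalHom (algebraMap A V) := isLocalHom_of_dominates A _ V hV
    haveI locVW : IsLocalHom (algebraMap V W) := isLocalHom_of_dominates V _ W hWV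
    obtain ⟨hw1, hs1⟩ := h1 V hV
    obtain ⟨hw2, hs2⟩ := h2 V hV W hWV
    exact ⟨weaklyUnramified_trans (S := V) hw1 hw2, isSeparable_trans hs1 hs2⟩

end Groth.Agent.S1990
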