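import Groth.Statements.S19904
import Mathlib.CategoryTheory.Limits.Types.Pullbacks
import Mathlib.CategoryTheory.Limits.Shapes.Pullback.IsPullback.Basic
import Mathlib.CategoryTheory.Limits.FunctorCategory.Shapes.Pullbacks
-- import your own Groth.Agent.* helpers here

set_option autoImplicit false
universe u v
open CategoryTheory
open ArtFun

namespace Groth.Agent.S19904

/-- For functors F, G, G' on Artinian local Λ-algebras with residue field k and morphisms φ : F → G, ψ :
G' → G: if φ is smooth then the base change F ×_G G' → G' (second projection of the fibre product of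
functors) is smooth. -/
theorem result {Λ : Type u} {k : Type u} [CommRing Λ] [Field k] [Algebra Λ k]
    [IsNoetherianRing Λ] [Module.Finite Λ k]
    {F G G' : ArtFun.Art Λ k ⥤ Type v} (φ : F ⟶ G) (ψ : G' ⟶ G) (hφ : ArtFun.IsSmooth φ) :
    ArtFun.IsSmooth (Limits.pullback.snd φ ψ) := by
  intro B A μ hμ
  -- pointwise pullback squares
  have hB : IsPullback ((Limits.pullback.fst φ ψ).app B) ((Limits.pullback.snd φ ψ).app B)
      (φ.app B) (ψ.app B) :=
    IsPullback.map ((evaluation _ _).obj B) (IsPullback.of_hasPullback φ ψ)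
  have hA : IsPullback ((Limits.pullback.fst φ ψ).app A) ((Limits.pullback.snd φ ψ).app A)
      (φ.app A) (ψ.app A) :=
    IsPullback.map ((evaluation _ _).obj A) (IsPullback.of_hasPullback φ ψ)
  rintro ⟨⟨pA, gB⟩, hcompat⟩
  change (Limits.pullback.snd φ ψ).app A pA = G'.map μ gB at hcompat
  -- the F-component
  set xA := (Limits.pullback.fst φ ψ).app A pA with hxA
  have h1 : φ.app A xA = G.map μ (ψ.app B gB) := by
    have hw := ConcreteCategory.congr_hom hA.w pA
    simp only [types_comp_apply] at hw
    rw [hxA, hw, hcompat]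
    exact NatTrans.naturality_apply ψ μ gB
  obtain ⟨xB, hxB⟩ := hφ μ hμ ⟨(xA, ψ.app B gB), h1⟩
  have hxB1 : F.map μ xB = xA := congrArg (fun t => t.1.1) hxB
  have hxB2 : φ.app B xB = ψ.app B gB := congrArg (fun t => t.1.2) hxB
  obtain ⟨pB, hpB1, hpB2⟩ := Limits.Types.exists_of_isPullback hB xB gB hxB2
  refine ⟨pB, ?_⟩
  apply Subtype.ext
  apply Prod.ext
  · change (Limits.pullback φ ψ).map μ pB = pA
    apply Limits.Types.ext_of_isPullback hA
    · rw [NatTrans.naturality_apply, hpB1, hxB1]
    · rw [NatTrans.naturality_apply, hpB2, hcompat]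
  · exact hpB2

end Groth.Agent.S19904
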