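import Groth.Statements.S19907
import Groth.Agent.Lib.Helper9.H1EtaleLift
-- import your own Groth.Agent.* helpers here

set_option autoImplicit false
universe u
open CategoryTheory TensorProduct
open ArtFun

namespace Groth.Agent.S19907

/-- Let Λ be a Noetherian ring with a finite ring map to a field k, let k' ⊂ k be the image of Λ and m_Λ
the kernel, so that m_Λ/m_Λ² = H₁(L_{k'/Λ}) (Λ → k' being surjective with kernel m_Λ). If k is
separable over k', the canonical map m_Λ/m_Λ² ⊗_{k'} k → H₁(L_{k/Λ}) is an isomorphism. Stated for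
H₁(L_{k'/Λ}) in place of m_Λ/m_Λ²: the k-linear base change of the functoriality map H₁(L_{k'/Λ}) →
H₁(L_{k/Λ}) is bijective. (The general construction of the map and the case k = k' are the other
assertions of the source; only the separable case is stated here.) -/
theorem result {Λ : Type u} {k : Type u} [CommRing Λ] [Field k] [Algebra Λ k]
    [IsNoetherianRing Λ] [Module.Finite Λ k]
    [Algebra.IsSeparable (↥(algebraMap Λ k).range) k] :
    letI : Algebra Λ (↥(algebraMap Λ k).range) := (algebraMap Λ k).rangeRestrict.toAlgebra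
    letI : IsScalarTower Λ (↥(algebraMap Λ k).range) k := IsScalarTower.of_algebraMap_eq (fun _ ↦ rfl)
    Function.Bijective ((Algebra.H1Cotangent.map Λ Λ (↥(algebraMap Λ k).range) k).liftBaseChange k) := by
  letI i1 : Algebra Λ (↥(algebraMap Λ k).range) := (algebraMap Λ k).rangeRestrict.toAlgebra
  haveI i2 : IsScalarTower Λ (↥(algebraMap Λ k).range) k :=
    IsScalarTower.of_algebraMap_eq (fun _ ↦ rfl)
  change Function.Bijective
    ((Algebra.H1Cotangent.map Λ Λ (↥(algebraMap Λ k).range) k).liftBaseChange k)
  have hS : Function.Surjective (algebraMap Λ (↥(algebraMap Λ k).range)) :=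
    (algebraMap Λ k).rangeRestrict_surjective
  have hkerS : RingHom.ker (algebraMap Λ (↥(algebraMap Λ k).range)) = RingHom.ker (algebraMap Λ k) :=
    (algebraMap Λ k).ker_rangeRestrict
  -- the kernel is maximal
  haveI : Algebra.IsIntegral Λ k := Algebra.IsIntegral.of_finite Λ k
  haveI hmax : (RingHom.ker (algebraMap Λ k)).IsMaximal := by
    have := Ideal.isMaximal_comap_of_isIntegral_of_isMaximal (R := Λ) (⊥ : Ideal k)
    exact this
  letI : Field (Λ ⧸ RingHom.ker (algebraMap Λ k)) := Ideal.Quotient.field _
  letI algF : Algebra (Λ ⧸ RingHom.ker (algebraMap Λ k)) k :=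
    (RingHom.kerLift (algebraMap Λ k)).toAlgebra
  haveI : IsScalarTower Λ (Λ ⧸ RingHom.ker (algebraMap Λ k)) k :=
    IsScalarTower.of_algebraMap_eq (fun _ => rfl)
  haveI : Module.Finite (Λ ⧸ RingHom.ker (algebraMap Λ k)) k :=
    Module.Finite.of_restrictScalars_finite Λ _ k
  -- the comparison map F → k'
  let e' : (Λ ⧸ RingHom.ker (algebraMap Λ k)) →+* (↥(algebraMap Λ k).range) :=
    Ideal.Quotient.lift _ (algebraMap Λ k).rangeRestrict (fun a ha => by
      rw [← RingHom.mem_ker, (algebraMap Λ k).ker_rangeRestrict]; exact ha)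
  have he'surj : Function.Surjective e' :=
    Ideal.Quotient.lift_surjective_of_surjective _ _ (algebraMap Λ k).rangeRestrict_surjective
  have he'comp : (algebraMap (↥(algebraMap Λ k).range) k).comp e' =
      algebraMap (Λ ⧸ RingHom.ker (algebraMap Λ k)) k :=
    Ideal.Quotient.ringHom_ext (RingHom.ext fun _ => rfl)
  haveI : Algebra.IsSeparable (Λ ⧸ RingHom.ker (algebraMap Λ k)) k := by
    refine ⟨fun x => ?_⟩
    have hsep : (minpoly (↥(algebraMap Λ k).range) x).Separable :=
      Algebra.IsSeparable.isSeparable (↥(algebraMap Λ k).range) x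
    obtain ⟨q, hq⟩ := Polynomial.map_surjective e' he'surj (minpoly (↥(algebraMap Λ k).range) x)
    have hqsep : q.Separable := (Polynomial.separable_map e').mp (hq ▸ hsep)
    have hq0 : Polynomial.aeval x q = 0 := by
      rw [Polynomial.aeval_def, ← he'comp, ← Polynomial.eval₂_map, hq, ← Polynomial.aeval_def,
        minpoly.aeval]
    exact hqsep.of_dvd (minpoly.dvd _ x hq0)
  obtain ⟨θ, f, hfm, hf0, hfu, hsurj, hk⟩ :=
    Groth.Agent.Lib.Helper9.H1EtaleLift.exists_primitive_data (Λ := Λ)
      (F := Λ ⧸ RingHom.ker (algebraMap Λ k)) (k := k) Ideal.Quotient.mk_surjective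
  haveI : Module.Flat (↥(algebraMap Λ k).range) k := by
    haveI : Algebra.IsIntegral (↥(algebraMap Λ k).range) k :=
      Algebra.IsIntegral.tower_top (R := Λ)
    have hfld : IsField (↥(algebraMap Λ k).range) :=
      isField_of_isIntegral_of_isField (R := ↥(algebraMap Λ k).range) (S := k)
        Subtype.val_injective (Field.toIsField k)
    letI := hfld.toField
    infer_instance
  refine Groth.Agent.Lib.Helper9.H1EtaleLift.bijective_of_primitive hS θ f hfm hf0 hfu hsurj ?_
  intro p hp
  have := hk p hp
  rwa [hkerS, ← Ideal.mk_ker (I := RingHom.ker (algebraMap Λ k))]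

end Groth.Agent.S19907
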