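import Groth.Statements.S9306
import Groth.Agent.Lib.Helper10.ValLoc
-- import your own Groth.Agent.* helpers here

set_option autoImplicit false
set_option linter.style.haveILetI false
universe u
open EtRam
open Groth.Agent.Lib.Helper10.RamTower Groth.Agent.Lib.Helper10.ValLoc
open scoped TensorProduct

namespace Groth.Agent.S9306

open TensorProduct in
/-- Let A → B be an injective local homomorphism of discrete valuation rings with fraction fields K ⊆ L,
and let K' be a finite separable extension of K that is unramified relative to A. Then every field F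
onto which K' ⊗_K L surjects is, as an extension of L, unramified relative to B. (The published
statement also records that K' ⊗_K L is a finite product of fields, whose factors are these F; this
row does not state that part.) -/
theorem result (A B K L K' : Type u) [CommRing A] [IsDomain A]
    [IsDiscreteValuationRing A] [CommRing B] [IsDomain B] [IsDiscreteValuationRing B] [Algebra A B]
    [IsLocalHom (algebraMap A B)] (hinj : Function.Injective (algebraMap A B))
    [Field K] [Field L] [Field K'] [Algebra A K] [IsFractionRing A K] [Algebra B L] [IsFractionRing B L]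
    [Algebra K L] [Algebra A L] [IsScalarTower A K L] [IsScalarTower A B L]
    [Algebra K K'] [FiniteDimensional K K'] [Algebra.IsSeparable K K']
    (h : EtRam.IsUnramifiedExt A ((algebraMap K K').comp (algebraMap A K)))
    (F : Type u) [Field F] [Algebra (K' ⊗[K] L) F] (hF : Function.Surjective (algebraMap (K' ⊗[K] L) F)) :
    EtRam.IsUnramifiedExt B ((algebraMap (K' ⊗[K] L) F).comp
      ((Algebra.TensorProduct.includeRight : L →ₐ[K] K' ⊗[K] L).toRingHom.comp (algebraMap B L))) := by
  classical
  intro W hW
  intro instLoc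
  let φ' : K' →+* F := (algebraMap (K' ⊗[K] L) F).comp
    (Algebra.TensorProduct.includeLeft : K' →ₐ[K] K' ⊗[K] L).toRingHom
  let φL : L →+* F := (algebraMap (K' ⊗[K] L) F).comp
    (Algebra.TensorProduct.includeRight : L →ₐ[K] K' ⊗[K] L).toRingHom
  have hcompat : ∀ k : K, φ' (algebraMap K K' k) = φL (algebraMap K L k) := by
    intro k
    show algebraMap (K' ⊗[K] L) F ((Algebra.TensorProduct.includeLeft : K' →ₐ[K] K' ⊗[K] L)
        (algebraMap K K' k)) =
      algebraMap (K' ⊗[K] L) F ((Algebra.TensorProduct.includeRight : L →ₐ[K] K' ⊗[K] L)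
        (algebraMap K L k))
    rw [AlgHom.commutes, AlgHom.commutes]
  let gB : B →+* F := (algebraMap (K' ⊗[K] L) F).comp
    ((Algebra.TensorProduct.includeRight : L →ₐ[K] K' ⊗[K] L).toRingHom.comp (algebraMap B L))
  have hgA : ∀ a, φ' (((algebraMap K K').comp (algebraMap A K)) a) = gB (algebraMap A B a) := by
    intro a
    show φ' (algebraMap K K' (algebraMap A K a)) = φL (algebraMap B L (algebraMap A B a))
    rw [hcompat, ← IsScalarTower.algebraMap_apply A K L, ← IsScalarTower.algebraMap_apply A B L]
  let V : ValuationSubring K' := W.comap φ'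
  have hV : EtRam.Dominates A ((algebraMap K K').comp (algebraMap A K)) V :=
    ⟨fun a => by
      show φ' _ ∈ W
      rw [hgA]; exact hW.1 _,
    fun a ha => by
      rw [valuation_comap_lt_one_iff, hgA]
      exact hW.2 _ (map_nonunit (algebraMap A B) a ha)⟩
  letI algBW : Algebra B W := (RingHom.codRestrict gB W hW.1).toAlgebra
  letI algAV : Algebra A V :=
    (RingHom.codRestrict ((algebraMap K K').comp (algebraMap A K)) V hV.1).toAlgebra
  haveI locAV : IsLocalHom (algebraMap A V) := isLocalHom_of_dominates A _ V hV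
  haveI dvrV : IsDiscreteValuationRing V := isDiscreteValuationRing_of_dominates A K K' V hV
  obtain ⟨hwu, hsep⟩ := h V hV
  haveI essAV : Algebra.EssFiniteType A V := essFiniteType_of_dominates A K K' V hV
  haveI unrAV : Algebra.FormallyUnramified A V :=
    Algebra.FormallyUnramified.of_map_maximalIdeal hwu
  letI algBF : Algebra B F := gB.toAlgebra
  letI algVF : Algebra V F := (φ'.comp V.subtype).toAlgebra
  letI algAF : Algebra A F := (gB.comp (algebraMap A B)).toAlgebra
  haveI : IsScalarTower A B F := IsScalarTower.of_algebraMap_eq (fun _ => rfl)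
  haveI : IsScalarTower A V F := IsScalarTower.of_algebraMap_eq (fun a => (hgA a).symm)
  haveI : IsScalarTower B W F := IsScalarTower.of_algebraMap_eq (fun _ => rfl)
  let ψ : B ⊗[A] V →ₐ[B] F :=
    Algebra.TensorProduct.productLeftAlgHom (Algebra.ofId B F) (IsScalarTower.toAlgHom A V F)
  have hψ : ∀ (b : B) (v : V), ψ (b ⊗ₜ v) = gB b * φ' (v : K') := fun b v => rfl
  haveI : Algebra.FormallyUnramified B ψ.range :=
    Algebra.FormallyUnramified.of_surjective ψ.rangeRestrict ψ.rangeRestrict_surjective
  haveI : Algebra.EssFiniteType B ψ.range :=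
    Algebra.EssFiniteType.of_surjective ψ.rangeRestrict ψ.rangeRestrict_surjective
  have hCW : ∀ x : ψ.range, (x : F) ∈ W := by
    rintro ⟨_, t, rfl⟩
    show ψ t ∈ W
    induction t using TensorProduct.induction_on with
    | zero => rw [map_zero]; exact W.zero_mem
    | tmul b v => rw [hψ]; exact W.mul_mem _ _ (hW.1 b) v.2
    | add x y hx hy => rw [map_add]; exact W.add_mem _ _ hx hy
  let ιC : ψ.range →+* W :=
    { toFun := fun x => ⟨x, hCW x⟩
      map_one' := rfl
      map_mul' := fun _ _ => rfl
      map_zero' := rfl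
      map_add' := fun _ _ => rfl }
  letI : Algebra ψ.range W := ιC.toAlgebra
  haveI : IsScalarTower B ψ.range W := IsScalarTower.of_algebraMap_eq (fun b => rfl)
  have hinjCW : Function.Injective (algebraMap ψ.range W) := fun x y hxy =>
    Subtype.ext (congrArg (fun z : W => (z : F)) hxy)
  let P : Ideal ψ.range := (IsLocalRing.maximalIdeal W).comap (algebraMap ψ.range W)
  haveI : P.IsPrime := Ideal.comap_isPrime _ _
  obtain ⟨π, hπ⟩ := IsDiscreteValuationRing.exists_irreducible B
  have hmB : IsLocalRing.maximalIdeal B = Ideal.span {π} := hπ.maximalIdeal_eq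
  have hP : IsLocalRing.maximalIdeal B ≤ P.comap (algebraMap B ψ.range) := by
    intro b hb
    show algebraMap ψ.range W (algebraMap B ψ.range b) ∈ IsLocalRing.maximalIdeal W
    rw [← IsScalarTower.algebraMap_apply]
    exact map_nonunit (algebraMap B W) b hb
  have hgBinj : Function.Injective gB := by
    have : gB = φL.comp (algebraMap B L) := rfl
    rw [this]
    exact φL.injective.comp (IsFractionRing.injective B L)
  have hπ0 : algebraMap B ψ.range π ≠ 0 := by
    intro h0
    have h1 : gB π = 0 := congrArg (fun z : ψ.range => (z : F)) h0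
    exact hπ.ne_zero (hgBinj (by rw [h1, map_zero]))
  haveI : IsDiscreteValuationRing (Localization.AtPrime P) :=
    isDiscreteValuationRing_localization_of_unramified P hP π hmB hπ0
  have hfrac : ∀ x : F, ∃ c₁ c₂ : ψ.range, c₂ ≠ 0 ∧
      x * ((algebraMap ψ.range W c₂ : W) : F) = ((algebraMap ψ.range W c₁ : W) : F) := by
    intro x
    obtain ⟨t, rfl⟩ := hF x
    induction t using TensorProduct.induction_on with
    | zero => exact ⟨0, 1, one_ne_zero, by simp⟩
    | tmul k' l =>
      obtain ⟨⟨v₁, v₂⟩, hv⟩ := IsLocalization.surj (nonZeroDivisors V) k'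
      obtain ⟨⟨b₁, b₂⟩, hb⟩ := IsLocalization.surj (nonZeroDivisors B) l
      have hv₂ : ((v₂ : V) : K') ≠ 0 := fun h0 =>
        nonZeroDivisors.ne_zero v₂.2 (Subtype.ext h0)
      have hb₂ : (b₂ : B) ≠ 0 := nonZeroDivisors.ne_zero b₂.2
      refine ⟨ψ.rangeRestrict (b₁ ⊗ₜ v₁), ψ.rangeRestrict ((b₂ : B) ⊗ₜ (v₂ : V)), ?_, ?_⟩
      · intro h0
        have h1 : gB (b₂ : B) * φ' ((v₂ : V) : K') = 0 :=
          congrArg (fun z : ψ.range => (z : F)) h0
        rcases mul_eq_zero.mp h1 with h2 | h2
        · exact hb₂ (hgBinj (by rw [h2, map_zero]))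
        · exact hv₂ (φ'.injective (by rw [h2, map_zero]))
      · show algebraMap (K' ⊗[K] L) F (k' ⊗ₜ l) * (gB (b₂ : B) * φ' ((v₂ : V) : K')) =
          gB b₁ * φ' ((v₁ : V) : K')
        have h1 : algebraMap (K' ⊗[K] L) F (k' ⊗ₜ l) = φ' k' * φL l := by
          show _ = algebraMap (K' ⊗[K] L) F (k' ⊗ₜ 1) * algebraMap (K' ⊗[K] L) F (1 ⊗ₜ l)
          rw [← map_mul, Algebra.TensorProduct.tmul_mul_tmul, mul_one, one_mul]
        have h2 : φ' k' * φ' ((v₂ : V) : K') = φ' ((v₁ : V) : K') := by
          rw [← map_mul]; exact congrArg φ' hv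
        have h3 : φL l * gB (b₂ : B) = gB b₁ := by
          show φL l * φL (algebraMap B L b₂) = φL (algebraMap B L b₁)
          rw [← map_mul]; exact congrArg φL hb
        rw [h1]
        linear_combination (φL l * gB (b₂ : B)) * h2 + φ' ((v₁ : V) : K') * h3
    | add x y hx hy =>
      obtain ⟨c₁, c₂, hc₂, hc⟩ := hx
      obtain ⟨d₁, d₂, hd₂, hd⟩ := hy
      refine ⟨c₁ * d₂ + d₁ * c₂, c₂ * d₂, mul_ne_zero hc₂ hd₂, ?_⟩
      rw [map_add, map_mul, map_add, map_mul, map_mul]
      push_cast
      linear_combination ((algebraMap ψ.range W d₂ : W) : F) * hc +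
        ((algebraMap ψ.range W c₂ : W) : F) * hd
  haveI : IsLocalization.AtPrime W P :=
    isLocalization_atPrime_of_valuationRing W hinjCW hfrac P rfl
  haveI : Algebra.EssFiniteType ψ.range W :=
    Algebra.EssFiniteType.of_isLocalization W P.primeCompl
  haveI : Algebra.EssFiniteType B W := Algebra.EssFiniteType.comp B ψ.range W
  haveI : Algebra.FormallyUnramified ψ.range W :=
    Algebra.FormallyUnramified.of_isLocalization P.primeCompl
  haveI hBW : Algebra.FormallyUnramified B W := Algebra.FormallyUnramified.comp B ψ.range W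
  obtain ⟨h1, h2⟩ := Algebra.FormallyUnramified.iff_map_maximalIdeal_eq.mp hBW
  exact ⟨h2, h1⟩

end Groth.Agent.S9306
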