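import Groth.Statements.S9307
import Groth.Agent.Lib.Helper10.TameKill
import Groth.Agent.Lib.Helper10.KummerExt2
-- import your own Groth.Agent.* helpers here

set_option autoImplicit false
set_option linter.style.haveILetI false
universe u
open EtRam
open Groth.Agent.Lib.Helper10.RamTower Groth.Agent.Lib.Helper10.KummerDVR
  Groth.Agent.Lib.Helper10.KummerExt Groth.Agent.Lib.Helper10.KummerExt2
  Groth.Agent.Lib.Helper10.TameKill
open scoped TensorProduct
open Polynomial

namespace Groth.Agent.S9307

open TensorProduct in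
/-- Let A → B be an injective local homomorphism of discrete valuation rings with fraction fields K ⊆ L,
and let K' be a finite separable extension of K that is tamely ramified relative to A. Then every
field F onto which K' ⊗_K L surjects is, as an extension of L, tamely ramified relative to B. (The
published statement also records that K' ⊗_K L is a finite product of fields, whose factors are
these F; this row does not state that part.) -/
theorem result (A B K L K' : Type u) [CommRing A] [IsDomain A]
    [IsDiscreteValuationRing A] [CommRing B] [IsDomain B] [IsDiscreteValuationRing B] [Algebra A B]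
    [IsLocalHom (algebraMap A B)] (hinj : Function.Injective (algebraMap A B))
    [Field K] [Field L] [Field K'] [Algebra A K] [IsFractionRing A K] [Algebra B L] [IsFractionRing B L]
    [Algebra K L] [Algebra A L] [IsScalarTower A K L] [IsScalarTower A B L]
    [Algebra K K'] [FiniteDimensional K K'] [Algebra.IsSeparable K K']
    (h : EtRam.IsTamelyRamified A ((algebraMap K K').comp (algebraMap A K)))
    (F : Type u) [Field F] [Algebra (K' ⊗[K] L) F] (hF : Function.Surjective (algebraMap (K' ⊗[K] L) F)) :
    EtRam.IsTamelyRamified B ((algebraMap (K' ⊗[K] L) F).comp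
      ((Algebra.TensorProduct.includeRight : L →ₐ[K] K' ⊗[K] L).toRingHom.comp (algebraMap B L))) := by
  classical
  let φ' : K' →+* F := (algebraMap (K' ⊗[K] L) F).comp
    (Algebra.TensorProduct.includeLeft : K' →ₐ[K] K' ⊗[K] L).toRingHom
  let φL : L →+* F := (algebraMap (K' ⊗[K] L) F).comp
    (Algebra.TensorProduct.includeRight : L →ₐ[K] K' ⊗[K] L).toRingHom
  have hcompat : ∀ k : K, φ' (algebraMap K K' k) = φL (algebraMap K L k) := by
    intro k
    show algebraMap (K' ⊗[K] L) F ((Algebra.TensorProduct.includeLeft : K' →ₐ[K] K' ⊗[K] L)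
        (algebraMap K K' k)) =
      algebraMap (K' ⊗[K] L) F ((Algebra.TensorProduct.includeRight : L →ₐ[K] K' ⊗[K] L)
        (algebraMap K L k))
    rw [AlgHom.commutes, AlgHom.commutes]
  let gB : B →+* F := (algebraMap (K' ⊗[K] L) F).comp
    ((Algebra.TensorProduct.includeRight : L →ₐ[K] K' ⊗[K] L).toRingHom.comp (algebraMap B L))
  letI algK'F : Algebra K' F := φ'.toAlgebra
  letI algLF : Algebra L F := φL.toAlgebra
  letI algKF : Algebra K F := (φL.comp (algebraMap K L)).toAlgebra
  haveI : IsScalarTower K L F := IsScalarTower.of_algebraMap_eq (fun _ => rfl)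
  haveI : IsScalarTower K K' F := IsScalarTower.of_algebraMap_eq (fun k => (hcompat k).symm)
  letI algBF : Algebra B F := gB.toAlgebra
  haveI : IsScalarTower B L F := IsScalarTower.of_algebraMap_eq (fun _ => rfl)
  have hFadj : Algebra.adjoin L (Set.range (algebraMap K' F)) = ⊤ := by
    rw [eq_top_iff]
    rintro x -
    obtain ⟨t, rfl⟩ := hF x
    induction t using TensorProduct.induction_on with
    | zero => rw [map_zero]; exact Subalgebra.zero_mem _
    | tmul k' l =>
      have h1 : algebraMap (K' ⊗[K] L) F (k' ⊗ₜ l) = φL l * φ' k' := by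
        show _ = algebraMap (K' ⊗[K] L) F (1 ⊗ₜ l) * algebraMap (K' ⊗[K] L) F (k' ⊗ₜ 1)
        rw [← map_mul, Algebra.TensorProduct.tmul_mul_tmul, mul_one, one_mul]
      rw [h1]
      exact Subalgebra.mul_mem _ (Subalgebra.algebraMap_mem _ l) (Algebra.subset_adjoin ⟨k', rfl⟩)
    | add x y hx hy => rw [map_add]; exact Subalgebra.add_mem _ hx hy
  have hgBinj : Function.Injective gB := by
    have : gB = φL.comp (algebraMap B L) := rfl
    rw [this]
    exact φL.injective.comp (IsFractionRing.injective B L)
  -- the exponent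
  set N := Module.finrank K K' with hN
  set n := ∏ k ∈ (Finset.Icc 1 N).filter
    (fun k : ℕ => ((k : ℕ) : IsLocalRing.ResidueField A) ≠ 0), k with hn_def
  have hn : 1 ≤ n := by
    show 0 < n
    rw [hn_def]
    apply Finset.prod_pos
    intro k hk
    exact (Finset.mem_Icc.mp (Finset.mem_filter.mp hk).1).1
  have hnκ : ((n : ℕ) : IsLocalRing.ResidueField A) ≠ 0 := by
    rw [hn_def, Nat.cast_prod, Finset.prod_ne_zero_iff]
    intro k hk
    exact (Finset.mem_filter.mp hk).2
  have hdiv : ∀ k : ℕ, 0 < k → k ≤ N → ((k : ℕ) : IsLocalRing.ResidueField A) ≠ 0 → k ∣ n := by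
    intro k hk0 hkN hkκ
    exact Finset.dvd_prod_of_mem _ (Finset.mem_filter.mpr ⟨Finset.mem_Icc.mpr ⟨hk0, hkN⟩, hkκ⟩)
  have hnκB : ((n : ℕ) : IsLocalRing.ResidueField B) ≠ 0 := by
    have h1 : ((n : ℕ) : IsLocalRing.ResidueField B) =
        algebraMap (IsLocalRing.ResidueField A) (IsLocalRing.ResidueField B)
          ((n : ℕ) : IsLocalRing.ResidueField A) := (map_natCast _ n).symm
    rw [h1]
    exact (_root_.map_ne_zero _).mpr hnκ
  obtain ⟨πB, hπB⟩ := IsDiscreteValuationRing.exists_irreducible B
  have hdeg : 0 < (X ^ n - C (algebraMap B F πB) : F[X]).degree := by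
    rw [degree_X_pow_sub_C (by omega)]
    exact_mod_cast hn
  obtain ⟨g, hgirr, hg⟩ := exists_irreducible_of_degree_pos hdeg
  haveI : Fact (Irreducible g) := ⟨hgirr⟩
  have hg0 : g ≠ 0 := hgirr.ne_zero
  haveI domB' : IsDomain (AdjoinRoot (X ^ n - C πB : B[X])) := isDomain B πB hπB n hn
  haveI locB' : IsLocalRing (AdjoinRoot (X ^ n - C πB : B[X])) := isLocalRing B πB hπB n hn
  haveI dvrB' : IsDiscreteValuationRing (AdjoinRoot (X ^ n - C πB : B[X])) :=
    isDiscreteValuationRing B πB hπB n hn
  haveI locBB' : IsLocalHom (algebraMap B (AdjoinRoot (X ^ n - C πB : B[X]))) :=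
    isLocalHom_algebraMap B πB hπB n hn
  have hunr := isUnramifiedExt_liftHom A B K L K' F hinj hFadj h πB hπB n hn hdiv g hg
  haveI finLF : FiniteDimensional L F := finite_of_adjoin_range K L K' F hFadj
  haveI finFF' : FiniteDimensional F (AdjoinRoot g) := (AdjoinRoot.powerBasis hg0).finite
  haveI finLF' : FiniteDimensional L (AdjoinRoot g) := Module.Finite.trans F (AdjoinRoot g)
  intro W hW
  intro instLoc
  obtain ⟨W', hW'W⟩ := exists_comap_eq (algebraMap F (AdjoinRoot g)) W
  subst hW'W
  letI algBW : Algebra B (W'.comap (algebraMap F (AdjoinRoot g))) :=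
    (RingHom.codRestrict gB _ hW.1).toAlgebra
  have hπBm : πB ∈ IsLocalRing.maximalIdeal B := by
    rw [hπB.maximalIdeal_eq]; exact Ideal.mem_span_singleton_self _
  have hW'B' : EtRam.Dominates (AdjoinRoot (X ^ n - C πB : B[X])) (liftHom B πB n F g hg) W' := by
    apply dominates_liftHom B πB hπB n hn F g hg W'
    · intro b; exact hW.1 b
    · rw [← valuation_comap_lt_one_iff]; exact hW.2 πB hπBm
  have hW'B : EtRam.Dominates B ((algebraMap L (AdjoinRoot g)).comp (algebraMap B L)) W' :=
    ⟨fun b => hW.1 b, fun b hb => by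
      have := hW.2 b hb
      rw [valuation_comap_lt_one_iff] at this
      exact this⟩
  have hWW' : EtRam.Dominates (W'.comap (algebraMap F (AdjoinRoot g)))
      ((algebraMap F (AdjoinRoot g)).comp (W'.comap (algebraMap F (AdjoinRoot g))).subtype) W' :=
    ⟨fun v => v.2, fun v hv => by
      rw [ValuationSubring.valuation_lt_one_iff] at hv
      exact (valuation_comap_lt_one_iff W' _ _).mp hv⟩
  letI algBW' : Algebra B W' :=
    (RingHom.codRestrict ((algebraMap L (AdjoinRoot g)).comp (algebraMap B L)) W' hW'B.1).toAlgebra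
  letI algB'W' : Algebra (AdjoinRoot (X ^ n - C πB : B[X])) W' :=
    (RingHom.codRestrict (liftHom B πB n F g hg) W' hW'B'.1).toAlgebra
  letI algWW' : Algebra (W'.comap (algebraMap F (AdjoinRoot g))) W' :=
    (RingHom.codRestrict ((algebraMap F (AdjoinRoot g)).comp
      (W'.comap (algebraMap F (AdjoinRoot g))).subtype) W' hWW'.1).toAlgebra
  haveI : IsScalarTower B (W'.comap (algebraMap F (AdjoinRoot g))) W' :=
    IsScalarTower.of_algebraMap_eq (fun b => Subtype.ext rfl)
  haveI : IsScalarTower B (AdjoinRoot (X ^ n - C πB : B[X])) W' :=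
    IsScalarTower.of_algebraMap_eq (fun b => Subtype.ext (by
      show ((algebraMap L (AdjoinRoot g)).comp (algebraMap B L)) b =
        liftHom B πB n F g hg (algebraMap B (AdjoinRoot (X ^ n - C πB : B[X])) b)
      rw [AdjoinRoot.algebraMap_eq, liftHom_of]; rfl))
  haveI locBW' : IsLocalHom (algebraMap B W') := isLocalHom_of_dominates B _ W' hW'B
  haveI locB'W' : IsLocalHom (algebraMap (AdjoinRoot (X ^ n - C πB : B[X])) W') :=
    isLocalHom_of_dominates _ _ W' hW'B'
  haveI locWW' : IsLocalHom (algebraMap (W'.comap (algebraMap F (AdjoinRoot g))) W') :=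
    isLocalHom_of_dominates _ _ W' hWW'
  haveI dvrW : IsDiscreteValuationRing (W'.comap (algebraMap F (AdjoinRoot g))) :=
    isDiscreteValuationRing_of_dominates B L F _ hW
  haveI dvrW' : IsDiscreteValuationRing W' :=
    isDiscreteValuationRing_of_dominates B L (AdjoinRoot g) W' hW'B
  have hBW'inj : Function.Injective (algebraMap B W') := fun a b hab =>
    hgBinj ((algebraMap F (AdjoinRoot g)).injective (congrArg Subtype.val hab))
  have hWW'inj : Function.Injective (algebraMap (W'.comap (algebraMap F (AdjoinRoot g))) W') :=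
    fun a b hab => Subtype.ext ((algebraMap F (AdjoinRoot g)).injective (congrArg Subtype.val hab))
  have hliftinj := liftHom_injective B πB hπB n hn F g hg hgBinj
  have hB'W'inj : Function.Injective (algebraMap (AdjoinRoot (X ^ n - C πB : B[X])) W') :=
    fun a b hab => hliftinj (congrArg Subtype.val hab)
  have hmB : IsLocalRing.maximalIdeal B ≠ ⊥ := IsDiscreteValuationRing.not_a_field B
  obtain ⟨hw, hs⟩ := hunr W' hW'B'
  have ht1 := ramificationIdx_tower (R := B) (S := W'.comap (algebraMap F (AdjoinRoot g))) (T := W')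
    hBW'inj hWW'inj hmB
  have ht2 := ramificationIdx_tower (R := B) (S := AdjoinRoot (X ^ n - C πB : B[X])) (T := W')
    hBW'inj hB'W'inj hmB
  rw [ramificationIdx_eq B πB hπB n hn] at ht2
  have he1' : Ideal.ramificationIdx' (IsLocalRing.maximalIdeal (AdjoinRoot (X ^ n - C πB : B[X])))
      (IsLocalRing.maximalIdeal W') = 1 := by
    obtain ⟨ϖ, hϖ⟩ := IsDiscreteValuationRing.exists_irreducible W'
    have hmW : IsLocalRing.maximalIdeal W' = Ideal.span {ϖ} := hϖ.maximalIdeal_eq
    have hw' : (IsLocalRing.maximalIdeal (AdjoinRoot (X ^ n - C πB : B[X]))).map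
        (algebraMap (AdjoinRoot (X ^ n - C πB : B[X])) W') = IsLocalRing.maximalIdeal W' := hw
    apply Ideal.ramificationIdx'_spec
    · rw [pow_one]; exact hw'.le
    · rw [hw', hmW, Ideal.span_singleton_pow, Ideal.span_singleton_le_span_singleton]
      intro h3
      have h4 : ϖ ^ 2 ∣ ϖ ^ 1 := by simpa using h3
      have := (pow_dvd_pow_iff hϖ.ne_zero hϖ.not_isUnit).mp h4
      omega
  rw [he1', mul_one] at ht2
  refine ⟨?_, ?_⟩
  · have hsB' := isSeparable_residueField B πB hπB n hn
    have hsBW' := isSeparable_trans (R := B) (S := AdjoinRoot (X ^ n - C πB : B[X])) (T := W')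
      hsB' hs
    exact isSeparable_bot (R := B) (S := W'.comap (algebraMap F (AdjoinRoot g))) (T := W') hsBW'
  · intro p hp hchar hdvd
    apply hnκB
    rw [CharP.cast_eq_zero_iff (IsLocalRing.ResidueField B) p, ← ht2, ht1]
    exact Dvd.dvd.mul_right hdvd _

end Groth.Agent.S9307
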