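import Groth.Statements.S1991
import Groth.Agent.S1989
import Groth.Agent.S1990
import Groth.Agent.S9306
import Groth.Agent.S9307
import Groth.Agent.Lib.Helper10.GalClosure
import Groth.Agent.Lib.Helper10.RamTower
-- import your own Groth.Agent.* helpers here

set_option autoImplicit false
set_option linter.style.haveILetI false
universe u
open EtAlg
open Groth.Agent.Lib.Helper10.RamTower Groth.Agent.Lib.Helper10.GalClosure
open scoped TensorProduct

namespace Groth.Agent.S1991

section core

variable (A K : Type u) [CommRing A] [IsDomain A] [IsDiscreteValuationRing A] [Field K]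
  [Algebra A K] [IsFractionRing A K]

theorem comp_core (L₁ L₂ F : Type u) [Field L₁] [Field L₂] [Field F] [Algebra K L₁] [Algebra K L₂]
    [Algebra K F] [FiniteDimensional K L₁] [FiniteDimensional K L₂] [Algebra.IsSeparable K L₁]
    [Algebra.IsSeparable K L₂] [FiniteDimensional K F] [Algebra.IsSeparable K F]
    (f₁ : L₁ →ₐ[K] F) (f₂ : L₂ →ₐ[K] F)
    (hsurj : Function.Surjective (Algebra.TensorProduct.productMap f₁ f₂)) :
    (EtRam.IsUnramifiedExt A ((algebraMap K L₁).comp (algebraMap A K)) →
      EtRam.IsUnramifiedExt A ((algebraMap K L₂).comp (algebraMap A K)) →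
      EtRam.IsUnramifiedExt A ((algebraMap K F).comp (algebraMap A K))) ∧
    (EtRam.IsTamelyRamified A ((algebraMap K L₁).comp (algebraMap A K)) →
      EtRam.IsTamelyRamified A ((algebraMap K L₂).comp (algebraMap A K)) →
      EtRam.IsTamelyRamified A ((algebraMap K F).comp (algebraMap A K))) := by
  classical
  letI algL₂F : Algebra L₂ F := f₂.toRingHom.toAlgebra
  haveI : IsScalarTower K L₂ F := IsScalarTower.of_algebraMap_eq (fun k => (f₂.commutes k).symm)
  letI algTF : Algebra (L₁ ⊗[K] L₂) F := (Algebra.TensorProduct.productMap f₁ f₂).toRingHom.toAlgebra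
  have hF : Function.Surjective (algebraMap (L₁ ⊗[K] L₂) F) := hsurj
  letI algAL₂ : Algebra A L₂ := ((algebraMap K L₂).comp (algebraMap A K)).toAlgebra
  haveI : IsScalarTower A K L₂ := IsScalarTower.of_algebraMap_eq (fun _ => rfl)
  have hkey : ∀ (V : ValuationSubring L₂),
      (algebraMap (L₁ ⊗[K] L₂) F).comp
        ((Algebra.TensorProduct.includeRight : L₂ →ₐ[K] L₁ ⊗[K] L₂).toRingHom.comp
          (algebraMap V L₂)) = (algebraMap L₂ F).comp V.subtype := by
    intro V
    ext v
    show Algebra.TensorProduct.productMap f₁ f₂ (1 ⊗ₜ (v : L₂)) = f₂ v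
    rw [Algebra.TensorProduct.productMap_apply_tmul, map_one, one_mul]
  have hS := Groth.Agent.S1990.result A K L₂ F
  refine ⟨fun h₁ h₂ => hS.2 h₂ (fun V hV => ?_), fun h₁ h₂ => hS.1 h₂ (fun V hV => ?_)⟩
  · letI algAV : Algebra A V :=
      (RingHom.codRestrict ((algebraMap K L₂).comp (algebraMap A K)) V hV.1).toAlgebra
    haveI locAV : IsLocalHom (algebraMap A V) := isLocalHom_of_dominates A _ V hV
    haveI dvrV : IsDiscreteValuationRing V := isDiscreteValuationRing_of_dominates A K L₂ V hV
    haveI : IsScalarTower A V L₂ := IsScalarTower.of_algebraMap_eq (fun _ => rfl)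
    have hinj : Function.Injective (algebraMap A V) := fun a b hab =>
      ((algebraMap K L₂).injective.comp (IsFractionRing.injective A K)) (congrArg Subtype.val hab)
    have H := Groth.Agent.S9306.result A V K L₂ L₁ hinj h₁ F hF
    rw [hkey V] at H
    exact H
  · letI algAV : Algebra A V :=
      (RingHom.codRestrict ((algebraMap K L₂).comp (algebraMap A K)) V hV.1).toAlgebra
    haveI locAV : IsLocalHom (algebraMap A V) := isLocalHom_of_dominates A _ V hV
    haveI dvrV : IsDiscreteValuationRing V := isDiscreteValuationRing_of_dominates A K L₂ V hV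
    haveI : IsScalarTower A V L₂ := IsScalarTower.of_algebraMap_eq (fun _ => rfl)
    have hinj : Function.Injective (algebraMap A V) := fun a b hab =>
      ((algebraMap K L₂).injective.comp (IsFractionRing.injective A K)) (congrArg Subtype.val hab)
    have H := Groth.Agent.S9307.result A V K L₂ L₁ hinj h₁ F hF
    rw [hkey V] at H
    exact H

theorem sub_core (L M : Type u) [Field L] [Field M] [Algebra K L] [Algebra K M]
    [FiniteDimensional K M] [Algebra.IsSeparable K M] (f : L →ₐ[K] M) :
    (EtRam.IsTamelyRamified A ((algebraMap K M).comp (algebraMap A K)) →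
      EtRam.IsTamelyRamified A ((algebraMap K L).comp (algebraMap A K))) ∧
    (EtRam.IsUnramifiedExt A ((algebraMap K M).comp (algebraMap A K)) →
      EtRam.IsUnramifiedExt A ((algebraMap K L).comp (algebraMap A K))) := by
  letI algLM : Algebra L M := f.toRingHom.toAlgebra
  haveI : IsScalarTower K L M := IsScalarTower.of_algebraMap_eq (fun k => (f.commutes k).symm)
  exact Groth.Agent.S1989.result A K L M

theorem goodUnr : GoodClass K (fun (E : Type u) [Field E] [Algebra K E] =>
    EtRam.IsUnramifiedExt A ((algebraMap K E).comp (algebraMap A K))) where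
  sub L M _ _ _ _ _ _ f h := (sub_core A K L M f).2 h
  comp L₁ L₂ F _ _ _ _ _ _ _ _ _ _ _ _ f₁ f₂ hsurj h₁ h₂ := (comp_core A K L₁ L₂ F f₁ f₂ hsurj).1 h₁ h₂

theorem goodTame : GoodClass K (fun (E : Type u) [Field E] [Algebra K E] =>
    EtRam.IsTamelyRamified A ((algebraMap K E).comp (algebraMap A K))) where
  sub L M _ _ _ _ _ _ f h := (sub_core A K L M f).1 h
  comp L₁ L₂ F _ _ _ _ _ _ _ _ _ _ _ _ f₁ f₂ hsurj h₁ h₂ := (comp_core A K L₁ L₂ F f₁ f₂ hsurj).2 h₁ h₂

end core

/-- Let A be a discrete valuation ring with fraction field K. A finite separable extension L/K that is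
unramified (resp. tamely ramified) with respect to A embeds over K into a finite Galois extension of
K that is unramified (resp. tamely ramified) with respect to A; and two finite separable extensions
of K that are unramified (resp. tamely ramified) with respect to A embed over K into a common finite
separable extension with the same property. -/
theorem result (A K : Type u) [CommRing A] [IsDomain A] [IsDiscreteValuationRing A] [Field K] [Algebra A K] [IsFractionRing A K] :
    (∀ (L : Type u) [Field L] [Algebra K L] [FiniteDimensional K L] [Algebra.IsSeparable K L],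
      (EtRam.IsUnramifiedExt A ((algebraMap K L).comp (algebraMap A K)) →
        ∃ (M : Type u) (_ : Field M) (_ : Algebra K M) (_ : FiniteDimensional K M) (_ : IsGalois K M) (_ : L →ₐ[K] M),
          EtRam.IsUnramifiedExt A ((algebraMap K M).comp (algebraMap A K))) ∧
      (EtRam.IsTamelyRamified A ((algebraMap K L).comp (algebraMap A K)) →
        ∃ (M : Type u) (_ : Field M) (_ : Algebra K M) (_ : FiniteDimensional K M) (_ : IsGalois K M) (_ : L →ₐ[K] M),
          EtRam.IsTamelyRamified A ((algebraMap K M).comp (algebraMap A K)))) ∧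
    (∀ (L₁ L₂ : Type u) [Field L₁] [Field L₂] [Algebra K L₁] [Algebra K L₂] [FiniteDimensional K L₁] [FiniteDimensional K L₂]
      [Algebra.IsSeparable K L₁] [Algebra.IsSeparable K L₂],
      (EtRam.IsUnramifiedExt A ((algebraMap K L₁).comp (algebraMap A K)) →
        EtRam.IsUnramifiedExt A ((algebraMap K L₂).comp (algebraMap A K)) →
        ∃ (M : Type u) (_ : Field M) (_ : Algebra K M) (_ : FiniteDimensional K M) (_ : Algebra.IsSeparable K M)
          (_ : L₁ →ₐ[K] M) (_ : L₂ →ₐ[K] M), EtRam.IsUnramifiedExt A ((algebraMap K M).comp (algebraMap A K))) ∧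
      (EtRam.IsTamelyRamified A ((algebraMap K L₁).comp (algebraMap A K)) →
        EtRam.IsTamelyRamified A ((algebraMap K L₂).comp (algebraMap A K)) →
        ∃ (M : Type u) (_ : Field M) (_ : Algebra K M) (_ : FiniteDimensional K M) (_ : Algebra.IsSeparable K M)
          (_ : L₁ →ₐ[K] M) (_ : L₂ →ₐ[K] M), EtRam.IsTamelyRamified A ((algebraMap K M).comp (algebraMap A K)))) := by
  refine ⟨fun L _ _ _ _ => ⟨fun h => ?_, fun h => ?_⟩, fun L₁ L₂ _ _ _ _ _ _ _ _ =>
    ⟨fun h₁ h₂ => ?_, fun h₁ h₂ => ?_⟩⟩
  · exact exists_galois (goodUnr A K) L h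
  · exact exists_galois (goodTame A K) L h
  · exact exists_common (goodUnr A K) L₁ L₂ h₁ h₂
  · exact exists_common (goodTame A K) L₁ L₂ h₁ h₂

end Groth.Agent.S1991
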