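import Groth.Statements.S19912
-- import your own Groth.Agent.* helpers here
import Mathlib
import Groth.Agent.S0558

set_option autoImplicit false
universe u
open CategoryTheory CategoryTheory.Limits AlgebraicGeometry
open Models

namespace Groth.Agent.S19912

/-- `Spec O_x → X → Spec R` is `Spec` of the structure map `R → O_x`. -/
theorem fromSpecStalk_comp {R : Type u} [CommRing R] {X : Scheme.{u}}
    (p : X ⟶ Spec (CommRingCat.of R)) (x : X) :
    X.fromSpecStalk x ≫ p =
      Spec.map (CommRingCat.ofHom ((X.presheaf.germ ⊤ x trivial).hom.comp (Coh.toGlobal p))) := by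
  have h1 := Scheme.toSpecΓ_naturality p
  rw [← SpecMap_ΓSpecIso_hom] at h1
  have h2 : p = X.toSpecΓ ≫ Spec.map (p.appTop) ≫
        Spec.map (Scheme.ΓSpecIso (CommRingCat.of R)).inv := by
    rw [← Category.assoc, ← h1, Category.assoc, ← Spec.map_comp, Iso.inv_hom_id, Spec.map_id,
      Category.comp_id]
  conv_lhs => rw [h2]
  rw [Scheme.fromSpecStalk_toSpecΓ_assoc, ← Spec.map_comp, ← Spec.map_comp]
  rfl

/-- algebra core -/
theorem core {R O V : Type u} [CommRing R] [IsDomain R] [IsDiscreteValuationRing R]
    [CommRing O] [IsRegularLocalRing O]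
    [CommRing V] [IsDomain V] [IsDiscreteValuationRing V]
    (φ : R →+* O) (ψ : O →+* V) [IsLocalHom ψ]
    (hV : Ideal.map (ψ.comp φ) (IsLocalRing.maximalIdeal R) = IsLocalRing.maximalIdeal V) :
    IsRegularLocalRing (O ⧸ Ideal.map φ (IsLocalRing.maximalIdeal R)) := by
  obtain ⟨π, hπ⟩ := IsDiscreteValuationRing.exists_irreducible R
  have hm : IsLocalRing.maximalIdeal R = Ideal.span {π} := hπ.maximalIdeal_eq
  have hmap : Ideal.map φ (IsLocalRing.maximalIdeal R) = Ideal.span {φ π} := by
    rw [hm, Ideal.map_span, Set.image_singleton]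
  have hV' : IsLocalRing.maximalIdeal V = Ideal.span {ψ (φ π)} := by
    rw [← hV, hm, Ideal.map_span, Set.image_singleton]
    rfl
  have hirr : Irreducible (ψ (φ π)) :=
    (IsDiscreteValuationRing.irreducible_iff_uniformizer _).mpr hV'
  have h1 : φ π ∈ IsLocalRing.maximalIdeal O := by
    rw [IsLocalRing.mem_maximalIdeal]
    intro hu
    exact hirr.not_isUnit (hu.map ψ)
  have h2 : φ π ∉ IsLocalRing.maximalIdeal O ^ 2 := by
    intro h
    have h3 : ψ (φ π) ∈ IsLocalRing.maximalIdeal V ^ 2 := by
      have := Ideal.mem_map_of_mem ψ h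
      rw [Ideal.map_pow] at this
      refine Ideal.pow_right_mono ?_ 2 this
      rw [Ideal.map_le_iff_le_comap]
      intro z hz
      rw [Ideal.mem_comap, IsLocalRing.mem_maximalIdeal]
      intro hu
      exact (IsLocalRing.mem_maximalIdeal _).mp hz (isUnit_of_map_unit ψ z hu)
    rw [hV', Ideal.span_singleton_pow, Ideal.mem_span_singleton] at h3
    obtain ⟨c, hc⟩ := h3
    -- ϖ = ϖ^2 c ⇒ ϖ (1 - ϖ c) = 0 ⇒ 1 = ϖ c, ϖ unit
    have hne : ψ (φ π) ≠ 0 := hirr.ne_zero
    have : ψ (φ π) * 1 = ψ (φ π) * (ψ (φ π) * c) := by rw [mul_one]; nth_rw 1 [hc]; ring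
    have h4 := mul_left_cancel₀ hne this
    exact hirr.not_isUnit (IsUnit.of_mul_eq_one _ h4.symm)
  obtain ⟨hreg, -⟩ := Groth.Agent.S0558.isRegularLocalRing_quot O (φ π) h1 h2
  rw [hmap]
  exact hreg

/-- Let R be a discrete valuation ring with fraction field K and YR a scheme over Spec R. Let V be a
discrete valuation ring which is an R-algebra in such a way that the maximal ideal of R generates
the maximal ideal of V (ramification index one), and let σ : Spec V -> YR be a morphism over Spec R
sending the closed point of Spec V to y. If the local ring of YR at y is regular, then the local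
ring at y of the special fibre of YR, namely O_{YR,y}/𝔪_R O_{YR,y}, is regular. (The published
statement takes YR a normal projective flat model of a smooth projective geometrically connected
curve Y over K and phrases the hypothesis through a point Q of Y rational over an extension L of K
unramified over K with y in the closure of Q: by the valuative criterion such a point yields a
morphism as above from the spectrum of the localization of the integral closure of R in L at a
maximal ideal over y, which is the form used here.) -/
theorem result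
    (R : Type u) [CommRing R] [IsDomain R] [IsDiscreteValuationRing R]
    (YR : Over (Spec (CommRingCat.of R)))
    (V : Type u) [CommRing V] [IsDomain V] [IsDiscreteValuationRing V] [Algebra R V]
    (hV : Ideal.map (algebraMap R V) (IsLocalRing.maximalIdeal R) = IsLocalRing.maximalIdeal V)
    (σ : Spec (CommRingCat.of V) ⟶ YR.left)
    (hσ : σ ≫ YR.hom = Spec.map (CommRingCat.ofHom (algebraMap R V)))
    (y : YR.left) (hy : σ.base (IsLocalRing.closedPoint V) = y)
    (hreg : IsRegularLocalRing (YR.left.presheaf.stalk y)) :
    IsRegularLocalRing (YR.left.presheaf.stalk y ⧸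
      Ideal.map (Models.stalkHom R YR y) (IsLocalRing.maximalIdeal R)) := by
  subst hy
  have hcomp : (Scheme.stalkClosedPointTo σ).hom.comp
      (Models.stalkHom R YR (σ.base (IsLocalRing.closedPoint V))) = algebraMap R V := by
    have h1 := Scheme.Spec_stalkClosedPointTo_fromSpecStalk σ
    have h2 := fromSpecStalk_comp YR.hom (σ.base (IsLocalRing.closedPoint V))
    have h3 : Spec.map (CommRingCat.ofHom ((Scheme.stalkClosedPointTo σ).hom.comp
        (Models.stalkHom R YR (σ.base (IsLocalRing.closedPoint V))))) =
        Spec.map (CommRingCat.ofHom (algebraMap R V)) := by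
      calc Spec.map (CommRingCat.ofHom ((Scheme.stalkClosedPointTo σ).hom.comp
            (Models.stalkHom R YR (σ.base (IsLocalRing.closedPoint V)))))
          = Spec.map (CommRingCat.ofHom ((YR.left.presheaf.germ ⊤
              (σ.base (IsLocalRing.closedPoint V)) trivial).hom.comp (Coh.toGlobal YR.hom)) ≫
              Scheme.stalkClosedPointTo σ) := rfl
        _ = Spec.map (Scheme.stalkClosedPointTo σ) ≫
              (YR.left.fromSpecStalk (σ.base (IsLocalRing.closedPoint V)) ≫ YR.hom) := by
            rw [Spec.map_comp, h2]
        _ = σ ≫ YR.hom := by rw [← Category.assoc]; exact congrArg (· ≫ YR.hom) h1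
        _ = _ := hσ
    have h4 := Spec.map_injective h3
    exact congrArg CommRingCat.Hom.hom h4
  exact core (Models.stalkHom R YR _) (Scheme.stalkClosedPointTo σ).hom (by rw [hcomp]; exact hV)

end Groth.Agent.S19912
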