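import Groth.Statements.S19919
import Groth.Agent.Lib.Helper27.DPGeneral

set_option autoImplicit false
universe u v w
open DPow
open Groth.Agent.Lib.Helper27.DPGen

namespace Groth.Agent.S19919

/-- Let R be a commutative ring and P = R⟨X_1, …, X_N⟩ the divided power polynomial algebra over R,
presented concretely as an R-algebra P with elements x i n = X_i^[n] (i < N, n ≥ 0) such that
X_i^[0] = 1, X_i^[n] · X_i^[m] = C(n+m, n) X_i^[n+m], and the monomials ∏_i X_i^[e_i] form an
R-basis of P; let P_+ be the ideal generated by the X_i^[n] with n ≥ 1 and γ the divided power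
structure on P_+ with γ_n(X_i^[1]) = X_i^[n]. Then (P, P_+, γ) is the free divided power R-algebra
on N variables: for every commutative R-algebra S, every ideal J of S with a divided power structure
δ and every family s_1, …, s_N of elements of J there is exactly one R-algebra homomorphism φ : P →
S that is a divided power morphism from (P_+, γ) to (J, δ) and satisfies φ(X_i^[1]) = s_i for all i. -/
theorem result (R : Type u) [CommRing R] (N : ℕ)
    (P : Type v) [CommRing P] [Algebra R P] (x : Fin N → ℕ → P)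
    (hx0 : ∀ i, x i 0 = 1)
    (hxmul : ∀ i n m, x i n * x i m = ((n + m).choose n : P) * x i (n + m))
    (b : Module.Basis (Fin N →₀ ℕ) R P) (hb : ∀ e : Fin N →₀ ℕ, b e = e.prod (fun i k => x i k))
    (γ : DividedPowers (Ideal.span {y : P | ∃ (i : Fin N) (n : ℕ), 1 ≤ n ∧ y = x i n}))
    (hγ : ∀ (i : Fin N) (n : ℕ), γ.dpow n (x i 1) = x i n)
    (S : Type w) [CommRing S] [Algebra R S] (J : Ideal S) (δ : DividedPowers J)
    (s : Fin N → S) (hs : ∀ i, s i ∈ J) :
    ∃! φ : P →ₐ[R] S, γ.IsDPMorphism δ φ.toRingHom ∧ ∀ i, φ (x i 1) = s i := by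
  classical
  have hmonS : ∀ (A : Type w) [CommRing A] (y : Fin N → ℕ → A) (hy0 : ∀ i, y i 0 = 1) (i : Fin N)
      (k : ℕ), mon y (Finsupp.single i k) = y i k := by
    intro A _ y hy0 i k
    unfold mon
    rw [Finset.prod_eq_single i]
    · rw [Finsupp.single_eq_same]
    · intro j _ hj
      rw [Finsupp.single_eq_of_ne hj, hy0]
    · intro h; exact absurd (Finset.mem_univ i) h
  have hbmon : ∀ e : Fin N →₀ ℕ, b e = mon x e := by
    intro e
    rw [hb, Finsupp.prod_fintype _ _ (fun i => hx0 i)]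
    rfl
  have hxb : ∀ (i : Fin N) (n : ℕ), b (Finsupp.single i n) = x i n := by
    intro i n
    rw [hb, Finsupp.prod_single_index (hx0 i)]
  have hb0 : b 0 = 1 := by rw [hbmon]; exact mon_zero x hx0
  have hbmul : ∀ e e' : Fin N →₀ ℕ,
      b e * b e' = ((binom (κ := Fin N) e e' : ℕ) : R) • b (e + e') := by
    intro e e'
    rw [hbmon, hbmon, hbmon, mon_mul x hxmul, Finsupp.coe_add, Algebra.smul_def, map_natCast]
  set x' : Fin N → ℕ → S := fun i n => δ.dpow n (s i) with hx'
  have hx'0 : ∀ i, x' i 0 = 1 := fun i => δ.dpow_zero (hs i)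
  have hx'mul : ∀ i n m, x' i n * x' i m = ((n + m).choose n : S) * x' i (n + m) :=
    fun i n m => δ.mul_dpow (hs i)
  have hb'0 : mon x' ((0 : Fin N →₀ ℕ) : Fin N → ℕ) = 1 := mon_zero x' hx'0
  have hb'mul : ∀ e e' : Fin N →₀ ℕ, mon x' e * mon x' e' =
      ((binom (κ := Fin N) e e' : ℕ) : R) • mon x' ((e + e' : Fin N →₀ ℕ) : Fin N → ℕ) := by
    intro e e'
    rw [mon_mul x' hx'mul, Finsupp.coe_add, Algebra.smul_def, map_natCast]
  obtain ⟨φ, hφ⟩ := exists_algHom_of_basis (Z := R) (A := P) (B := S) (ι := Fin N →₀ ℕ) b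
    (fun (e e' : Fin N →₀ ℕ) => ((binom (κ := Fin N) e e' : ℕ) : R)) hb0 hbmul
    (fun e => mon x' e) hb'0 hb'mul
  have hφx : ∀ (i : Fin N) (n : ℕ), φ (x i n) = δ.dpow n (s i) := by
    intro i n
    rw [← hxb, hφ]
    exact hmonS S x' hx'0 i n
  have hx1mem : ∀ i, x i 1 ∈ Ideal.span {y : P | ∃ (i : Fin N) (n : ℕ), 1 ≤ n ∧ y = x i n} :=
    fun i => Ideal.subset_span ⟨i, 1, le_rfl, rfl⟩
  have hγx : ∀ (i : Fin N) (n k : ℕ), k ≠ 0 →
      γ.dpow n (x i k) = (Nat.uniformBell n k : P) * x i (n * k) := by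
    intro i n k hk
    rw [← hγ i k, γ.dpow_comp hk (hx1mem i), hγ]
  refine ⟨φ, ⟨?_, fun i => ?_⟩, ?_⟩
  · refine DividedPowers.IsDPMorphism.on_span γ δ rfl ?_ ?_
    · rintro _ ⟨i, n, hn, rfl⟩
      change φ (x i n) ∈ J
      rw [hφx]
      exact δ.dpow_mem (by omega) (hs i)
    · rintro n _ ⟨i, k, hk, rfl⟩
      have hk0 : k ≠ 0 := by omega
      change φ (γ.dpow n (x i k)) = δ.dpow n (φ (x i k))
      rw [hγx i n k hk0, map_mul, map_natCast, hφx, hφx, δ.dpow_comp hk0 (hs i)]
  · rw [hφx, δ.dpow_one (hs i)]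
  · rintro φ' ⟨hφ'1, hφ'2⟩
    have hφ'x : ∀ (i : Fin N) (n : ℕ), φ' (x i n) = δ.dpow n (s i) := by
      intro i n
      rw [← hγ i n, ← hφ'2 i]
      exact (hφ'1.dpow_comp (x i 1) (hx1mem i)).symm
    apply AlgHom.toLinearMap_injective
    refine b.ext fun e => ?_
    change φ' (b e) = φ (b e)
    rw [hφ, hbmon]
    unfold mon
    rw [map_prod]
    exact Finset.prod_congr rfl fun i _ => hφ'x i (e i)

end Groth.Agent.S19919
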