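import Groth.Statements.S1992
import Mathlib.RingTheory.Localization.Integral
import Mathlib.RingTheory.Polynomial.ScaleRoots
import Mathlib.FieldTheory.IsAlgClosed.Basic
import Mathlib.FieldTheory.IsSepClosed
-- import your own Groth.Agent.* helpers here

set_option autoImplicit false
universe u
open Polynomial
open EtAlg

namespace Groth.Agent.S1992

/-- Over a localization of an absolutely integrally closed ring, every monic polynomial splits. -/
theorem splits_of_monic {A : Type u} [CommRing A]
    (hA : ∀ f : A[X], f.Monic → ∃ s : Multiset A, f = (s.map fun a => X - C a).prod)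
    (M : Submonoid A) (L : Type u) [CommRing L] [Algebra A L] [IsLocalization M L]
    (g : L[X]) (hg : g.Monic) : g.Splits := by
  set u : L := algebraMap A L (IsLocalization.commonDenom M g.support g.coeff) with hu
  have hunit : IsUnit u := IsLocalization.map_units L (IsLocalization.commonDenom M g.support g.coeff)
  have hlift : g.scaleRoots u ∈ Polynomial.lifts (algebraMap A L) :=
    IsLocalization.scaleRoots_commonDenom_mem_lifts M g (by rw [hg.leadingCoeff]; exact one_mem _)
  obtain ⟨h, hh1, -, hh2⟩ := lifts_and_natDegree_eq_and_monic hlift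
    ((Polynomial.monic_scaleRoots_iff u).2 hg)
  obtain ⟨s, hs⟩ := hA h hh2
  have hsplit : h.Splits := by
    rw [hs]
    apply Splits.multisetProd
    intro q hq
    rw [Multiset.mem_map] at hq
    obtain ⟨a, -, rfl⟩ := hq
    exact Splits.X_sub_C a
  have h2 : (g.scaleRoots u).Splits := hh1 ▸ hsplit.map (algebraMap A L)
  obtain ⟨v, hv⟩ := hunit
  have h3 := h2.scaleRoots ((v⁻¹ : Lˣ) : L)
  rwa [← Polynomial.scaleRoots_mul, ← hv, Units.mul_inv, Polynomial.scaleRoots_one] at h3

/-- Let A be an absolutely integrally closed ring, i.e. every monic polynomial over A is a product of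
linear factors X - a. Then for every prime p of A the localization A_p is a strictly henselian local
ring (henselian with separably closed residue field). -/
theorem result (A : Type u) [CommRing A]
    (hA : ∀ f : A[X], f.Monic → ∃ s : Multiset A, f = (s.map fun a => X - C a).prod)
    (p : Ideal A) [p.IsPrime] :
    EtCoh.IsStrictlyHenselianLocalRing (Localization.AtPrime p) := by
  have hsp : ∀ g : (Localization.AtPrime p)[X], g.Monic → g.Splits :=
    fun g hg => splits_of_monic hA p.primeCompl (Localization.AtPrime p) g hg
  have hHens : HenselianLocalRing (Localization.AtPrime p) := by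
    refine ⟨?_⟩
    intro f hf a₀ h₁ _
    obtain ⟨m, hm⟩ := splits_iff_exists_multiset'.1 (hsp f hf)
    rw [hf.leadingCoeff, map_one, one_mul] at hm
    have hev : f.eval a₀ = (m.map (fun c => a₀ + c)).prod := by
      rw [hm, Polynomial.eval_multiset_prod, Multiset.map_map]
      congr 1
      apply Multiset.map_congr rfl
      intro c _
      simp
    rw [hev] at h₁
    obtain ⟨x, hx, hxm⟩ := (Ideal.IsPrime.multiset_prod_mem_iff_exists_mem
      (IsLocalRing.maximalIdeal.isMaximal _).isPrime _).1 h₁
    rw [Multiset.mem_map] at hx
    obtain ⟨c, hc, rfl⟩ := hx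
    refine ⟨-c, ?_, ?_⟩
    · rw [Polynomial.IsRoot.def, hm, Polynomial.eval_multiset_prod]
      apply Multiset.prod_eq_zero
      rw [Multiset.map_map, Multiset.mem_map]
      exact ⟨c, hc, by simp⟩
    · have : -c - a₀ = -(a₀ + c) := by ring
      rw [this]
      exact neg_mem hxm
  refine ⟨hHens, ?_⟩
  have : IsAlgClosed (IsLocalRing.ResidueField (Localization.AtPrime p)) := by
    refine ⟨fun q => ?_⟩
    by_cases hq0 : q = 0
    · rw [hq0]; exact Splits.zero
    -- normalize to a monic polynomial
    have hmon : (q * C q.leadingCoeff⁻¹).Monic := monic_mul_leadingCoeff_inv hq0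
    have hlift : (q * C q.leadingCoeff⁻¹) ∈
        Polynomial.lifts (IsLocalRing.residue (Localization.AtPrime p)) := by
      rw [Polynomial.lifts_iff_coeff_lifts]
      intro n
      exact Set.mem_range.2 (IsLocalRing.residue_surjective _)
    obtain ⟨g, hg1, -, hg2⟩ := lifts_and_natDegree_eq_and_monic hlift hmon
    have h1 : (q * C q.leadingCoeff⁻¹).Splits := hg1 ▸ (hsp g hg2).map _
    have h2 : q = (q * C q.leadingCoeff⁻¹) * C q.leadingCoeff := by
      rw [mul_assoc, ← C_mul, inv_mul_cancel₀ (leadingCoeff_ne_zero.2 hq0), C_1, mul_one]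
    rw [h2]
    exact h1.mul (Splits.C _)
  infer_instance

end Groth.Agent.S1992
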