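import Groth.Statements.S1994
import Groth.Agent.Lib.Helper90.PairHzNoeth
-- import your own Groth.Agent.* helpers here

set_option autoImplicit false
universe u
open EtAlg

namespace Groth.Agent.S1994

/-- Let (A, I) be a pair with A Noetherian and B a henselization of the pair. Then B is Noetherian and
flat over A, and the induced map of adic completions, from the I-adic completion of A to the IB-adic
completion of B, is bijective. -/
theorem result (A : Type u) [CommRing A] [IsNoetherianRing A] (I : Ideal A)
    (B : Type u) [CommRing B] [Algebra A B] (hB : Hens2.IsPairHenselization A I B) :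
    IsNoetherianRing B ∧ Module.Flat A B ∧
      Function.Bijective (AdicCompletion.map I (Algebra.linearMap A B) :
        AdicCompletion I A → AdicCompletion I B) := by
  classical
  have hflat : Module.Flat A B := Groth.Agent.Lib.Helper90.PairHz.flat_of_isPairHenselization I hB
  refine ⟨Groth.Agent.Lib.Helper90.PairHz.isNoetherianRing_of_isPairHenselization I hB, hflat, ?_, ?_⟩
  · -- injective
    rw [injective_iff_map_eq_zero]
    intro x hx
    apply AdicCompletion.ext
    intro n
    have h1 : (AdicCompletion.map I (Algebra.linearMap A B) x).val n = 0 := by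
      rw [hx]
      rfl
    rw [AdicCompletion.map_val_apply] at h1
    obtain ⟨a, ha⟩ := Submodule.Quotient.mk_surjective _ (x.val n)
    rw [← ha, LinearMap.reduceModIdeal_apply, Submodule.Quotient.mk_eq_zero] at h1
    have h2 : algebraMap A B a ∈ (I ^ n).map (algebraMap A B) := by
      have : (Algebra.linearMap A B) a ∈ (I ^ n • ⊤ : Submodule A B) := h1
      rw [Ideal.smul_top_eq_map] at this
      exact this
    have h3 : a ∈ I ^ n :=
      (Groth.Agent.Lib.Helper90.PairHz.quotBij_pow_of_isPairHenselization I hB n).inj a h2
    rw [← ha]
    change Submodule.Quotient.mk a = 0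
    rw [Submodule.Quotient.mk_eq_zero]
    have : (I ^ n • ⊤ : Submodule A A) = I ^ n := by
      rw [smul_eq_mul, Ideal.mul_top]
    rw [this]
    exact h3
  · -- surjective
    apply AdicCompletion.map_surjective_of_mkQ_comp_surjective
    intro y
    obtain ⟨b, rfl⟩ := Submodule.Quotient.mk_surjective _ y
    obtain ⟨a, ha⟩ :=
      (Groth.Agent.Lib.Helper90.PairHz.quotBij_of_isPairHenselization I hB).surj b
    refine ⟨a, ?_⟩
    rw [LinearMap.comp_apply, Submodule.mkQ_apply, Eq.comm, Submodule.Quotient.eq,
      Ideal.smul_top_eq_map]
    exact ha

end Groth.Agent.S1994
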