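import Groth.Statements.S1995
import Groth.Agent.Lib.Helper10.HenselProd
import Groth.Agent.Lib.Helper90.PairHzUnique
import Groth.Agent.Lib.Helper37.HenselIdem
import Groth.Agent.Lib.Helper37.HenselQuot
-- import your own Groth.Agent.* helpers here

set_option autoImplicit false
universe u
open EtAlg

namespace Groth.Agent.S1995

open Groth.Agent.Lib.Helper10 Groth.Agent.Lib.Helper37

section CRT

variable {A : Type u} [CommRing A] {n : ℕ} (I : Fin n → Ideal A)

/-- CRT elements: `a i ≡ 1 mod I i` and `a i ≡ 0 mod I j` for `j ≠ i`. -/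
theorem exists_crt_elements (hI : Pairwise fun i j => I i ⊔ I j = ⊤) :
    ∃ a : Fin n → A, ∀ i, a i - 1 ∈ I i ∧ ∀ j, j ≠ i → a i ∈ I j := by
  classical
  have hcop : Pairwise (Function.onFun IsCoprime I) :=
    fun i j hij => (Ideal.isCoprime_iff_sup_eq).mpr (hI hij)
  have key : ∀ i, ∃ r : A, ∀ j, r - (if j = i then (1 : A) else 0) ∈ I j :=
    fun i => Ideal.exists_forall_sub_mem_ideal hcop _
  choose a ha using key
  refine ⟨a, fun i => ⟨by simpa using ha i i, fun j hj => by simpa [hj] using ha i j⟩⟩

variable {I} {a : Fin n → A} (ha : ∀ i, a i - 1 ∈ I i ∧ ∀ j, j ≠ i → a i ∈ I j)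
include ha

theorem crt_mul_mem {i : Fin n} {y : A} (hy : y ∈ I i) : a i * y ∈ ⨅ j, I j := by
  rw [Ideal.mem_iInf]
  intro l
  by_cases hl : l = i
  · subst hl
    exact Ideal.mul_mem_left _ _ hy
  · exact Ideal.mul_mem_right _ _ ((ha i).2 l hl)

theorem crt_sq_mem (i : Fin n) : a i * a i - a i ∈ ⨅ j, I j := by
  have : a i * a i - a i = a i * (a i - 1) := by ring
  rw [this]
  exact crt_mul_mem ha (ha i).1

theorem crt_orth_mem {i j : Fin n} (hij : i ≠ j) : a i * a j ∈ ⨅ l, I l := by
  rw [Ideal.mem_iInf]
  intro l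
  by_cases hl : l = i
  · subst hl
    exact Ideal.mul_mem_left _ _ ((ha j).2 l hij)
  · exact Ideal.mul_mem_right _ _ ((ha i).2 l hl)

theorem crt_sum_mem : ∑ i, a i - 1 ∈ ⨅ l, I l := by
  classical
  rw [Ideal.mem_iInf]
  intro l
  rw [← Finset.add_sum_erase Finset.univ a (Finset.mem_univ l)]
  have : a l + ∑ x ∈ Finset.univ.erase l, a x - 1 = (a l - 1) + ∑ x ∈ Finset.univ.erase l, a x := by
    ring
  rw [this]
  refine Ideal.add_mem _ (ha l).1 (Ideal.sum_mem _ fun x hx => ?_)
  exact (ha x).2 l (Finset.ne_of_mem_erase hx).symm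

end CRT

section Main

variable {A : Type u} [CommRing A] {n : ℕ} (I : Fin n → Ideal A)
  (hI : Pairwise fun i j => I i ⊔ I j = ⊤)
  (Bi : Fin n → Type u) [∀ i, CommRing (Bi i)] [∀ i, Algebra A (Bi i)]
  (hBi : ∀ i, Hens2.IsPairHenselization A (I i) (Bi i))

include hI hBi in
theorem map_eq_pi : (⨅ i, I i).map (algebraMap A (∀ i, Bi i)) =
    Ideal.pi fun i => (I i).map (algebraMap A (Bi i)) := by
  classical
  obtain ⟨a, ha⟩ := exists_crt_elements I hI
  apply le_antisymm
  · rw [Ideal.map_le_iff_le_comap]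
    intro x hx i
    exact Ideal.mem_map_of_mem _ ((Ideal.mem_iInf.mp hx) i)
  · intro x hx
    rw [← Finset.univ_sum_single x]
    refine Ideal.sum_mem _ fun i _ => ?_
    have hxi : x i ∈ (I i).map (algebraMap A (Bi i)) := hx i
    -- `algebraMap (a i)` is a unit of `Bi i`
    have hu : IsUnit (algebraMap A (Bi i) (a i)) := by
      have h1 : algebraMap A (Bi i) (a i) - 1 ∈ Ideal.jacobson (⊥ : Ideal (Bi i)) := by
        apply (hBi i).1.jac
        have := Ideal.mem_map_of_mem (algebraMap A (Bi i)) (ha i).1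
        rwa [map_sub, map_one] at this
      have := (Ideal.mem_jacobson_bot.mp h1) 1
      rwa [mul_one, sub_add_cancel] at this
    obtain ⟨v, hv⟩ := hu.exists_right_inv
    generalize x i = y at hxi
    refine Submodule.span_induction (p := fun y _ => (Pi.single i y : ∀ i, Bi i) ∈
      (⨅ i, I i).map (algebraMap A (∀ i, Bi i))) ?_ ?_ ?_ ?_ hxi
    · rintro _ ⟨y₀, hy₀, rfl⟩
      have h1 : (Pi.single i (algebraMap A (Bi i) y₀) : ∀ i, Bi i) =
          algebraMap A (∀ i, Bi i) (a i * y₀) * Pi.single i v := by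
        funext j
        by_cases hj : j = i
        · subst hj
          simp only [Pi.single_eq_same, Pi.mul_apply, Pi.algebraMap_apply, map_mul]
          calc algebraMap A (Bi j) y₀ = algebraMap A (Bi j) y₀ * (algebraMap A (Bi j) (a j) * v) := by
                rw [hv, mul_one]
            _ = _ := by ring
        · simp [Pi.single_eq_of_ne hj]
      rw [h1]
      exact Ideal.mul_mem_right _ _ (Ideal.mem_map_of_mem _ (crt_mul_mem ha hy₀))
    · simp
    · intro y y' _ _ h1 h2
      rw [Pi.single_add]
      exact Ideal.add_mem _ h1 h2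
    · intro b y _ h1
      have : (Pi.single i (b • y) : ∀ i, Bi i) = Pi.single i b * Pi.single i y := by
        rw [smul_eq_mul, Pi.single_mul]
      rw [this]
      exact Ideal.mul_mem_left _ _ h1

end Main

section Univ

variable {A : Type u} [CommRing A] {n : ℕ} (I : Fin n → Ideal A)
  (hI : Pairwise fun i j => I i ⊔ I j = ⊤)
  (Bi : Fin n → Type u) [∀ i, CommRing (Bi i)] [∀ i, Algebra A (Bi i)]
  (hBi : ∀ i, Hens2.IsPairHenselization A (I i) (Bi i))

include hI hBi in
theorem isPairHenselization_pi :
    Hens2.IsPairHenselization A (⨅ i, I i) (∀ i, Bi i) := by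
  classical
  refine ⟨?_, ?_⟩
  · rw [map_eq_pi I hI Bi hBi]
    haveI : ∀ i, HenselianRing (Bi i) ((I i).map (algebraMap A (Bi i))) := fun i => (hBi i).1
    exact henselianRing_pi Bi _
  intro C _ K f hK hle
  obtain ⟨a, ha⟩ := exists_crt_elements I hI
  have hfK : ∀ x ∈ ⨅ i, I i, f x ∈ K := fun x hx => hle (Ideal.mem_map_of_mem f hx)
  set c : Fin n → C := fun i => f (a i) with hc
  -- lift the idempotents
  have hKmap : K.map (algebraMap C C) = K := by
    rw [Algebra.algebraMap_self, Ideal.map_id]
  have hlift : ∀ i, ∃ e : C, IsIdempotentElem e ∧ e - c i ∈ K := by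
    intro i
    have h1 : c i * c i - c i ∈ K.map (algebraMap C C) := by
      rw [hKmap]
      have := hfK _ (crt_sq_mem ha i)
      rwa [map_sub, map_mul] at this
    obtain ⟨e, he, he'⟩ := exists_idempotent_lift (A := C) (B := C) K (c i) h1
    rw [hKmap] at he'
    exact ⟨e, he, he'⟩
  choose e he hec using hlift
  have hjac : K ≤ Ideal.jacobson ⊥ := hK.jac
  have horth : ∀ i j, i ≠ j → e i * e j = 0 := by
    intro i j hij
    apply eq_of_isIdempotentElem_of_sub_mem_jacobson ((he i).mul (he j)) IsIdempotentElem.zero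
    apply hjac
    have h1 : c i * c j ∈ K := by
      have := hfK _ (crt_orth_mem ha hij)
      rwa [map_mul] at this
    have h2 : e i * e j - 0 = (e i - c i) * e j + c i * (e j - c j) + c i * c j := by ring
    rw [h2]
    exact K.add_mem (K.add_mem (K.mul_mem_right _ (hec i)) (K.mul_mem_left _ (hec j))) h1
  have hsum : ∑ i, e i = 1 := by
    have hid : IsIdempotentElem (∑ i, e i) := by
      unfold IsIdempotentElem
      rw [Finset.sum_mul_sum]
      refine Finset.sum_congr rfl fun i _ => ?_
      rw [Finset.sum_eq_single i]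
      · exact (he i).eq
      · intro j _ hj
        exact horth i j hj.symm
      · intro h
        exact absurd (Finset.mem_univ i) h
    apply eq_of_isIdempotentElem_of_sub_mem_jacobson hid IsIdempotentElem.one
    apply hjac
    have h1 : ∑ i, c i - 1 ∈ K := by
      have := hfK _ (crt_sum_mem ha)
      rwa [map_sub, map_sum, map_one] at this
    have h2 : ∑ i, e i - 1 = ∑ i, (e i - c i) + (∑ i, c i - 1) := by
      rw [Finset.sum_sub_distrib]
      ring
    rw [h2]
    exact K.add_mem (K.sum_mem fun i _ => hec i) h1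
  -- the quotients
  set 𝔠 : Fin n → Ideal C := fun i => Ideal.span {1 - e i} with h𝔠
  set π : ∀ i, C →+* C ⧸ 𝔠 i := fun i => Ideal.Quotient.mk (𝔠 i) with hπ
  have hπe : ∀ i, π i (e i) = 1 := by
    intro i
    have : π i (1 - e i) = 0 :=
      Ideal.Quotient.eq_zero_iff_mem.mpr (Ideal.mem_span_singleton_self _)
    rw [map_sub, map_one, sub_eq_zero] at this
    exact this.symm
  have hcop : Pairwise (Function.onFun IsCoprime 𝔠) := by
    intro i j hij
    show IsCoprime (𝔠 i) (𝔠 j)
    rw [Ideal.isCoprime_iff_sup_eq, Ideal.eq_top_iff_one]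
    have h1 : e j ∈ 𝔠 i := by
      have : e j = e j * (1 - e i) := by
        rw [mul_sub, mul_one, mul_comm, horth i j hij, sub_zero]
      rw [this]
      exact Ideal.mul_mem_left _ _ (Ideal.mem_span_singleton_self _)
    have h2 : 1 - e j ∈ 𝔠 j := Ideal.mem_span_singleton_self _
    have := Submodule.add_mem_sup h1 h2
    rwa [add_sub_cancel] at this
  set Ψ : C →+* ∀ i, C ⧸ 𝔠 i := Pi.ringHom π with hΨ
  have hΨinj : Function.Injective Ψ := by
    rw [injective_iff_map_eq_zero]
    intro x hx
    have hxe : ∀ i, x * e i = 0 := by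
      intro i
      have h1 : π i x = 0 := congrFun hx i
      have h2 : x ∈ 𝔠 i := Ideal.Quotient.eq_zero_iff_mem.mp h1
      obtain ⟨r, hr⟩ := Ideal.mem_span_singleton'.mp h2
      rw [← hr, mul_assoc, sub_mul, one_mul, (he i).eq, sub_self, mul_zero]
    calc x = x * ∑ i, e i := by rw [hsum, mul_one]
      _ = ∑ i, x * e i := Finset.mul_sum _ _ _
      _ = 0 := Finset.sum_eq_zero fun i _ => hxe i
  have hΨsurj : Function.Surjective Ψ := by
    intro y
    obtain ⟨r, hr⟩ := Ideal.pi_quotient_surjective hcop y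
    exact ⟨r, funext hr⟩
  -- henselian quotients and the maps `g i`
  have hhens : ∀ i, HenselianRing (C ⧸ 𝔠 i) (K.map (π i)) := fun i =>
    henselianRing_map_of_surjective (π i) Ideal.Quotient.mk_surjective K
  have hle' : ∀ i, (I i).map ((π i).comp f) ≤ K.map (π i) := by
    intro i
    rw [Ideal.map_le_iff_le_comap]
    intro y hy
    rw [Ideal.mem_comap, RingHom.comp_apply]
    have h1 : π i (f y) = π i (e i * f y) := by rw [map_mul, hπe, one_mul]
    rw [h1]
    apply Ideal.mem_map_of_mem
    have h2 : f (a i * y) ∈ K := hfK _ (crt_mul_mem ha hy)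
    have h3 : e i * f y = (e i - c i) * f y + f (a i * y) := by
      rw [map_mul]; ring
    rw [h3]
    exact K.add_mem (K.mul_mem_right _ (hec i)) h2
  have hgi := fun i => (hBi i).2 (C ⧸ 𝔠 i) (K.map (π i)) ((π i).comp f) (hhens i) (hle' i)
  choose g hg hguniq using hgi
  set G : (∀ i, Bi i) →+* ∀ i, C ⧸ 𝔠 i :=
    Pi.ringHom (fun i => (g i).comp (Pi.evalRingHom Bi i)) with hG
  set Ψe : C ≃+* ∀ i, C ⧸ 𝔠 i := RingEquiv.ofBijective Ψ ⟨hΨinj, hΨsurj⟩ with hΨe
  refine ⟨Ψe.symm.toRingHom.comp G, ?_, ?_⟩
  · -- existence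
    ext x
    apply hΨinj
    show Ψe (Ψe.symm (G (algebraMap A (∀ i, Bi i) x))) = Ψ (f x)
    rw [RingEquiv.apply_symm_apply]
    funext i
    have := congrArg (fun φ => φ x) (hg i)
    exact this
  · -- uniqueness
    intro g' hg'
    have hg'a : ∀ x, g' (algebraMap A (∀ i, Bi i) x) = f x :=
      fun x => congrArg (fun φ => φ x) hg'
    -- `g'` maps the ideal into `K`
    have hg'K : ∀ z ∈ (⨅ i, I i).map (algebraMap A (∀ i, Bi i)), g' z ∈ K := by
      have : (⨅ i, I i).map (algebraMap A (∀ i, Bi i)) ≤ K.comap g' := by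
        rw [Ideal.map_le_iff_le_comap]
        intro x hx
        rw [Ideal.mem_comap, Ideal.mem_comap, hg'a]
        exact hfK x hx
      exact fun z hz => this hz
    have hU1 : ∀ i, g' (Pi.single i 1) = e i := by
      intro i
      have hid : IsIdempotentElem (g' (Pi.single i (1 : Bi i))) := by
        unfold IsIdempotentElem
        rw [← map_mul, ← Pi.single_mul, one_mul]
      apply eq_of_isIdempotentElem_of_sub_mem_jacobson hid (he i)
      apply hjac
      have h1 : (Pi.single i (1 : Bi i) - algebraMap A (∀ i, Bi i) (a i) : ∀ i, Bi i) ∈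
          (⨅ i, I i).map (algebraMap A (∀ i, Bi i)) := by
        rw [map_eq_pi I hI Bi hBi]
        intro j
        by_cases hj : j = i
        · subst hj
          simp only [Pi.sub_apply, Pi.single_eq_same, Pi.algebraMap_apply]
          have := Ideal.mem_map_of_mem (algebraMap A (Bi j)) (ha j).1
          rw [map_sub, map_one] at this
          have h2 := neg_mem this
          rwa [neg_sub] at h2
        · simp only [Pi.sub_apply, Pi.single_eq_of_ne hj, Pi.algebraMap_apply, zero_sub]
          exact neg_mem (Ideal.mem_map_of_mem _ ((ha i).2 j hj))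
      have h2 := hg'K _ h1
      rw [map_sub, hg'a] at h2
      have h3 : g' (Pi.single i 1) - e i = (g' (Pi.single i 1) - f (a i)) - (e i - c i) := by
        simp only [hc]; ring
      rw [h3]
      exact K.sub_mem h2 (hec i)
    -- the induced maps `h i`
    let h : ∀ i, Bi i →+* C ⧸ 𝔠 i := fun i =>
      { toFun := fun b => π i (g' (Pi.single i b))
        map_one' := by rw [hU1, hπe]
        map_mul' := fun x y => by rw [Pi.single_mul, map_mul, map_mul]
        map_zero' := by rw [Pi.single_zero, map_zero, map_zero]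
        map_add' := fun x y => by rw [Pi.single_add, map_add, map_add] }
    have hh : ∀ i, h i = g i := by
      intro i
      apply hguniq i
      ext x
      show π i (g' (Pi.single i (algebraMap A (Bi i) x))) = π i (f x)
      have : (Pi.single i (algebraMap A (Bi i) x) : ∀ i, Bi i) =
          algebraMap A (∀ i, Bi i) x * Pi.single i 1 := by
        funext j
        by_cases hj : j = i
        · subst hj; simp
        · simp [Pi.single_eq_of_ne hj]
      rw [this, map_mul, hg'a, hU1, map_mul, hπe, mul_one]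
    refine RingHom.ext fun x => ?_
    apply hΨinj
    show Ψ (g' x) = Ψe (Ψe.symm (G x))
    rw [RingEquiv.apply_symm_apply]
    funext i
    show π i (g' x) = g i (x i)
    rw [← hh i]
    show π i (g' x) = π i (g' (Pi.single i (x i)))
    have h1 : (Pi.single i (x i) : ∀ i, Bi i) = x * Pi.single i 1 := by
      funext j
      by_cases hj : j = i
      · subst hj; simp
      · simp [Pi.single_eq_of_ne hj]
    rw [h1, map_mul, hU1, map_mul, hπe, mul_one]

end Univ


/-- Let I_1, …, I_n be pairwise comaximal ideals of a ring A, B a henselization of the pair (A, I_1 ∩ …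
∩ I_n) and B_i a henselization of (A, I_i) for each i. Then B is isomorphic as an A-algebra to the
product of the B_i (any such isomorphism is the natural comparison map, by the universal property). -/
theorem result (A : Type u) [CommRing A] {n : ℕ} (I : Fin n → Ideal A)
    (hI : Pairwise fun i j => I i ⊔ I j = ⊤) (B : Type u) [CommRing B] [Algebra A B]
    (hB : Hens2.IsPairHenselization A (⨅ i, I i) B) (Bi : Fin n → Type u) [∀ i, CommRing (Bi i)] [∀ i, Algebra A (Bi i)]
    (hBi : ∀ i, Hens2.IsPairHenselization A (I i) (Bi i)) :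
    Nonempty (B ≃ₐ[A] ∀ i, Bi i) := by
  have h := isPairHenselization_pi I hI Bi hBi
  exact Groth.Agent.Lib.Helper90.PairHz.nonempty_algEquiv_of_isPairHenselization (⨅ i, I i) hB h

end Groth.Agent.S1995
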