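import Groth.Statements.S1996
-- import your own Groth.Agent.* helpers here

set_option autoImplicit false
universe u
open EtAlg

namespace Groth.Agent.S1996

open TensorProduct

/-- Descent of flatness: if `T` is faithfully flat over `S` and flat over `R`, then `S` is flat
over `R`. -/
theorem flat_of_flat_of_faithfullyFlat (R S T : Type*) [CommRing R] [CommRing S] [CommRing T]
    [Algebra R S] [Algebra S T] [Algebra R T] [IsScalarTower R S T] [Module.FaithfullyFlat S T]
    [Module.Flat R T] : Module.Flat R S := by
  rw [Module.Flat.iff_lTensor_preserves_injective_linearMap]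
  intro N P _ _ _ _ f hf
  have h1 : Function.Injective (f.baseChange S) ↔ Function.Injective (f.lTensor S) := by
    rfl
  rw [← h1, ← Module.FaithfullyFlat.lTensor_injective_iff_injective S T]
  have key : ∀ x, (AlgebraTensorModule.cancelBaseChange R S S T P)
      (LinearMap.lTensor T (f.baseChange S) x) =
      (f.lTensor T) (AlgebraTensorModule.cancelBaseChange R S S T N x) := by
    intro x
    induction x using TensorProduct.induction_on with
    | zero => simp
    | add x y hx hy => simp only [map_add, hx, hy]
    | tmul t y =>
      induction y using TensorProduct.induction_on with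
      | zero => simp
      | add x y hx hy => simp only [map_add, tmul_add, hx, hy]
      | tmul s n => simp
  intro x y hxy
  have h2 := congrArg (AlgebraTensorModule.cancelBaseChange R S S T P) hxy
  rw [key, key] at h2
  have h3 := Module.Flat.lTensor_preserves_injective_linearMap (M := T) f hf h2
  exact (AlgebraTensorModule.cancelBaseChange R S S T N).injective h3

/-- Ring-hom version: if `g ∘ f` is flat and `g` is faithfully flat then `f` is flat. -/
theorem ringHom_flat_of_comp {R S T : Type*} [CommRing R] [CommRing S] [CommRing T]
    (f : R →+* S) [Algebra S T] [Module.FaithfullyFlat S T]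
    (h : ((algebraMap S T).comp f).Flat) : f.Flat := by
  let _ : Algebra R S := f.toAlgebra
  let _ : Algebra R T := ((algebraMap S T).comp f).toAlgebra
  have : IsScalarTower R S T := IsScalarTower.of_algebraMap_eq (fun _ => rfl)
  have : Module.Flat R T := h
  exact flat_of_flat_of_faithfullyFlat R S T

/-- Let A -> B -> C be ring maps with B -> C faithfully flat. Weak etaleness of A -> C then implies weak
etaleness of A -> B. -/
theorem result (A B C : Type u) [CommRing A] [CommRing B] [CommRing C] [Algebra A B]
    [Algebra B C] [Algebra A C] [IsScalarTower A B C] [Module.FaithfullyFlat B C] [Algebra.WeaklyEtale A C] :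
    Algebra.WeaklyEtale A B := by
  have hBflat : Module.Flat A B := flat_of_flat_of_faithfullyFlat A B C
  refine ⟨hBflat, ?_⟩
  apply ringHom_flat_of_comp (T := C)
  -- the map B → C as an A-algebra hom
  let j : B →ₐ[A] C := IsScalarTower.toAlgHom A B C
  have hj : j.Flat := by
    change (algebraMap B C).Flat
    rw [RingHom.flat_algebraMap_iff]
    infer_instance
  have hφ : (Algebra.TensorProduct.map j j).Flat := RingHom.Flat.tensorProductMap hj hj
  have hμ := Algebra.WeaklyEtale.flat_lmul' A C
  have hcomp := RingHom.Flat.comp hφ hμ
  convert hcomp using 1
  ext x <;> simp [j]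

end Groth.Agent.S1996
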