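import Groth.Statements.S1997
import Mathlib

set_option autoImplicit false
universe u
open CategoryTheory
open EtAlg

namespace Groth.Agent.S1997

open TensorProduct

/-- a submodule of a flat module is flat when all ideals are flat -/
theorem flat_of_injective_of_ideals_flat {A : Type u} [CommRing A]
    (hA : ∀ I : Ideal A, Module.Flat A I)
    {N F : Type u} [AddCommGroup N] [Module A N] [AddCommGroup F] [Module A F] [Module.Flat A F]
    (f : N →ₗ[A] F) (hf : Function.Injective f) : Module.Flat A N := by
  rw [Module.Flat.iff_rTensor_injective']
  intro I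
  haveI := hA I
  have h1 : Function.Injective (f.lTensor I) :=
    Module.Flat.lTensor_preserves_injective_linearMap f hf
  have h2 : Function.Injective (I.subtype.rTensor F) :=
    Module.Flat.rTensor_preserves_injective_linearMap _ (Submodule.subtype_injective _)
  have h3 : (f.lTensor A) ∘ₗ (I.subtype.rTensor N) = (I.subtype.rTensor F) ∘ₗ (f.lTensor I) := by
    ext x n
    simp
  have h4 : Function.Injective ((f.lTensor A) ∘ₗ (I.subtype.rTensor N)) := by
    rw [h3]
    exact h2.comp h1
  exact Function.Injective.of_comp h4

theorem result (A B : Type u) [CommRing A] [CommRing B] [Algebra A B]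
    (hA : ∀ I : Ideal A, Module.Flat A I) [Module.Flat A B] (hinj : Function.Injective (algebraMap A B))
    (hepi : Epi (CommRingCat.ofHom (algebraMap A B))) : IsIntegrallyClosedIn A B := by
  rw [isIntegrallyClosedIn_iff]
  refine ⟨hinj, ?_⟩
  intro x hx
  have hepi' : Algebra.IsEpi A B := CommRingCat.epi_iff_epi.mp hepi
  let A' : Subalgebra A B := Algebra.adjoin A {x}
  haveI : Module.Finite A A' := by
    have := (hx.fg_adjoin_singleton)
    exact Module.Finite.iff_fg.mpr this
  haveI : Module.Flat A A' :=
    flat_of_injective_of_ideals_flat hA (Subalgebra.val A').toLinearMap Subtype.val_injective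
  -- A' ⊗ A' → B ⊗ B injective
  have hι : Function.Injective (TensorProduct.map (Subalgebra.val A').toLinearMap
      (Subalgebra.val A').toLinearMap) := by
    have : TensorProduct.map (Subalgebra.val A').toLinearMap (Subalgebra.val A').toLinearMap =
      ((Subalgebra.val A').toLinearMap.lTensor B) ∘ₗ ((Subalgebra.val A').toLinearMap.rTensor A') := by
      ext a b
      simp
    rw [this]
    exact (Module.Flat.lTensor_preserves_injective_linearMap _ Subtype.val_injective).comp
      (Module.Flat.rTensor_preserves_injective_linearMap _ Subtype.val_injective)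
  have hepiA' : Algebra.IsEpi A A' := by
    rw [Algebra.isEpi_iff_forall_one_tmul_eq]
    intro a
    apply hι
    simp only [TensorProduct.map_tmul, AlgHom.toLinearMap_apply, Subalgebra.coe_val, map_one]
    exact ((Algebra.isEpi_iff_forall_one_tmul_eq (R := A) (A := B)).mp hepi') a
  rw [Algebra.isEpi_iff_surjective_algebraMap_of_finite] at hepiA'
  obtain ⟨y, hy⟩ := hepiA' ⟨x, Algebra.subset_adjoin rfl⟩
  refine ⟨y, ?_⟩
  have := congrArg (Subalgebra.val A') hy
  simpa using this

end Groth.Agent.S1997
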