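import Groth.Statements.S19974
import Mathlib.Algebra.TrivSqZeroExt.Basic
import Mathlib.Algebra.Algebra.Bilinear
import Mathlib.Tactic.Abel
import Mathlib.Tactic.NoncommRing
-- import your own Groth.Agent.* helpers here

set_option autoImplicit false
universe u v w x
open scoped BigOperators
open DefMod

namespace Groth.Agent.S19974


section Ore

variable {K : Type u} [Field K] {O : Type v} [CommRing O] [Algebra K O] (δ : Derivation K O O)
  {D : Type w} [Ring D] [Algebra K D] (ι : O →ₐ[K] D) (d : D)

/-- the linear map `c ↦ Σ ι (c i) * d ^ i` -/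
noncomputable def βl : (ℕ →₀ O) →ₗ[K] D :=
  Finsupp.lsum K (fun i => (LinearMap.mulRight K (d ^ i)).comp ι.toLinearMap)

theorem βl_apply (c : ℕ →₀ O) : βl ι d c = c.sum (fun i f => ι f * d ^ i) := by
  simp only [βl, Finsupp.lsum_apply, LinearMap.coe_comp, AlgHom.coe_toLinearMap]
  rfl

theorem βl_single (i : ℕ) (f : O) : βl ι d (Finsupp.single i f) = ι f * d ^ i := by
  rw [βl_apply, Finsupp.sum_single_index]
  simp

variable (hd : ∀ f : O, d * ι f = ι f * d + ι (δ f))
  (hbasis : Function.Bijective (fun c : ℕ →₀ O => c.sum (fun i f => ι f * d ^ i)))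

include hbasis in
theorem βl_bijective : Function.Bijective (βl ι d) := by
  have : (βl ι d : (ℕ →₀ O) → D) = (fun c : ℕ →₀ O => c.sum (fun i f => ι f * d ^ i)) := by
    funext c
    exact βl_apply ι d c
  rw [this]
  exact hbasis

include hbasis in
/-- induction principle: a property of elements of `D` that holds for `0`, is additive and holds
for the monomials `ι f * d ^ i` holds everywhere -/
theorem induction_D {p : D → Prop} (h0 : p 0) (hadd : ∀ P Q, p P → p Q → p (P + Q))
    (hmon : ∀ (f : O) (i : ℕ), p (ι f * d ^ i)) (P : D) : p P := by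
  obtain ⟨c, rfl⟩ := (βl_bijective ι d hbasis).2 P
  induction c using Finsupp.induction_linear with
  | zero => simpa using h0
  | add c c' h h' => rw [map_add]; exact hadd _ _ h h'
  | single i f => rw [βl_single]; exact hmon f i

include hd hbasis in
/-- The universal property of the ring of differential operators `D = O[∂]`. -/
theorem exists_algHom {T : Type x} [Ring T] [Algebra K T] (j : O →ₐ[K] T) (t : T)
    (ht : ∀ f : O, t * j f = j f * t + j (δ f)) :
    ∃ Φ : D →ₐ[K] T, (∀ f, Φ (ι f) = j f) ∧ Φ d = t := by
  classical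
  let β : (ℕ →₀ O) ≃ₗ[K] D := LinearEquiv.ofBijective (βl ι d) (βl_bijective ι d hbasis)
  let Φ : D →ₗ[K] T := (βl j t) ∘ₗ β.symm.toLinearMap
  have hΦ : ∀ f i, Φ (ι f * d ^ i) = j f * t ^ i := by
    intro f i
    have h1 : β (Finsupp.single i f) = ι f * d ^ i := βl_single ι d i f
    have h2 : β.symm (ι f * d ^ i) = Finsupp.single i f := by
      rw [← h1, LinearEquiv.symm_apply_apply]
    change βl j t (β.symm (ι f * d ^ i)) = _
    rw [h2, βl_single]
  -- Claim A
  have hA : ∀ f P, Φ (ι f * P) = j f * Φ P := by
    intro f P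
    induction P using induction_D ι d hbasis with
    | h0 => simp
    | hadd P Q hP hQ => rw [mul_add, map_add, map_add, hP, hQ, mul_add]
    | hmon g i =>
      rw [← mul_assoc, ← map_mul, hΦ, hΦ, map_mul, mul_assoc]
  -- Claim B
  have hB : ∀ P, Φ (d * P) = t * Φ P := by
    intro P
    induction P using induction_D ι d hbasis with
    | h0 => simp
    | hadd P Q hP hQ => rw [mul_add, map_add, map_add, hP, hQ, mul_add]
    | hmon g i =>
      rw [← mul_assoc, hd, add_mul, map_add, mul_assoc, ← pow_succ', hΦ, hΦ, hΦ, ← mul_assoc, ht,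
        add_mul, mul_assoc, ← pow_succ']
  have hBpow : ∀ (i : ℕ) P, Φ (d ^ i * P) = t ^ i * Φ P := by
    intro i
    induction i with
    | zero => intro P; simp
    | succ i ih => intro P; rw [pow_succ', mul_assoc, hB, ih, pow_succ', mul_assoc]
  have hmul : ∀ P Q, Φ (P * Q) = Φ P * Φ Q := by
    intro P Q
    induction P using induction_D ι d hbasis with
    | h0 => simp
    | hadd P P' hP hP' => rw [add_mul, map_add, map_add, hP, hP', add_mul]
    | hmon g i => rw [mul_assoc, hA, hBpow, hΦ, mul_assoc]
  have hone : Φ 1 = 1 := by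
    have := hΦ 1 0
    simpa using this
  refine ⟨AlgHom.ofLinearMap Φ hone hmul, ?_, ?_⟩
  · intro f
    have := hΦ f 0
    simpa using this
  · have := hΦ 1 1
    simpa using this

include hbasis in
/-- A derivation-like map vanishing on the generators vanishes. -/
theorem derivLike_eq_zero {M : Type x} [Ring M] [Algebra K M] (ρ : D →ₐ[K] M)
    (Δ : D →ₗ[K] M) (hΔ : ∀ P Q : D, Δ (P * Q) = Δ P * ρ Q + ρ P * Δ Q)
    (h1 : ∀ f, Δ (ι f) = 0) (h2 : Δ d = 0) : Δ = 0 := by
  have hpow : ∀ i : ℕ, Δ (d ^ i) = 0 := by
    intro i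
    induction i with
    | zero =>
      have := hΔ 1 1
      simp only [mul_one, map_one, one_mul] at this
      have h3 : Δ 1 + Δ 1 = Δ 1 + 0 := by rw [add_zero]; exact this.symm
      simpa using add_left_cancel h3
    | succ i ih => rw [pow_succ, hΔ, ih, h2]; simp
  ext P
  induction P using induction_D ι d hbasis with
  | h0 => simp
  | hadd P Q hP hQ => rw [map_add, hP, hQ]; simp
  | hmon f i => rw [hΔ, h1, hpow]; simp

include hbasis in
/-- Algebra homomorphisms out of `D` are determined by their values on the generators. -/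
theorem algHom_ext_D {M : Type x} [Ring M] [Algebra K M] (φ ψ : D →ₐ[K] M)
    (h1 : ∀ f, φ (ι f) = ψ (ι f)) (h2 : φ d = ψ d) : φ = ψ := by
  ext P
  induction P using induction_D ι d hbasis with
  | h0 => simp
  | hadd P Q hP hQ => rw [map_add, map_add, hP, hQ]
  | hmon f i => rw [map_mul, map_mul, map_pow, map_pow, h1, h2]

end Ore

/-- Let K be a field of characteristic 0, O a commutative K-algebra with a K-linear derivation δ, and D
the ring of differential operators O[∂], presented abstractly as a K-algebra D with an algebra map ι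
: O → D and an element ∂ of D such that ∂ ι(f) = ι(f) ∂ + ι(δ f) for every f in O and such that
every element of D is in a unique way a finite sum of terms ι(f_i) ∂^i. Let E be a left D-module,
given as a K-vector space with a K-algebra map ρ : D → End_K(E), which is finite free as an
O-module. A K-derivation of D with values in the D-bimodule End_K(E) is a K-linear map s with s(PQ)
= s(P) ρ(Q) + ρ(P) s(Q); a K-derivation of O with values in End_K(E) is a K-linear map r with r(fg)
= r(f) ρ(ι g) + ρ(ι f) r(g). Then: (a) for every K-derivation s of D into End_K(E), the pair (r, v)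
= (s ∘ ι, s(∂)) satisfies the identity [r(f), ρ(∂)] + [ρ(ι f), v] + r(δ f) = 0 for all f in O; (b)
conversely, for every K-derivation r of O into End_K(E) and every v in End_K(E) satisfying that
identity for all f, there is exactly one K-derivation s of D into End_K(E) with s ∘ ι = r and s(∂) =
v. In other words s ↦ (s ∘ ι, s(∂)) maps the K-derivations of D injectively onto the pairs
satisfying the identity. -/
theorem result
    (K : Type u) [Field K] [CharZero K]
    (O : Type v) [CommRing O] [Algebra K O] (δ : Derivation K O O)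
    (D : Type w) [Ring D] [Algebra K D] (ι : O →ₐ[K] D) (d : D)
    (hd : ∀ f : O, d * ι f = ι f * d + ι (δ f))
    (hbasis : Function.Bijective (fun c : ℕ →₀ O => c.sum (fun i f => ι f * d ^ i)))
    (E : Type x) [AddCommGroup E] [Module K E] (ρ : D →ₐ[K] Module.End K E)
    (hE : ∃ (n : ℕ) (b : Fin n → E), Function.Bijective (fun c : Fin n → O => ∑ i, ρ (ι (c i)) (b i))) :
    (∀ s : D →ₗ[K] Module.End K E, (∀ P Q : D, s (P * Q) = s P * ρ Q + ρ P * s Q) →
      ∀ f : O, (s (ι f) * ρ d - ρ d * s (ι f)) + (ρ (ι f) * s d - s d * ρ (ι f)) + s (ι (δ f)) = 0) ∧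
    ∀ (r : O →ₗ[K] Module.End K E) (v : Module.End K E),
      (∀ f g : O, r (f * g) = r f * ρ (ι g) + ρ (ι f) * r g) →
      (∀ f : O, (r f * ρ d - ρ d * r f) + (ρ (ι f) * v - v * ρ (ι f)) + r (δ f) = 0) →
      ∃! s : D →ₗ[K] Module.End K E,
        (∀ P Q : D, s (P * Q) = s P * ρ Q + ρ P * s Q) ∧ s ∘ₗ ι.toLinearMap = r ∧ s d = v := by
  classical
  refine ⟨?_, ?_⟩
  · -- (a)
    intro s hs f
    have h := congrArg s (hd f)
    rw [hs, map_add, hs] at h
    -- h : s d * ρ (ι f) + ρ d * s (ι f) = s (ι f) * ρ d + ρ (ι f) * s d + s (ι (δ f))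
    have : (s (ι f) * ρ d - ρ d * s (ι f)) + (ρ (ι f) * s d - s d * ρ (ι f)) + s (ι (δ f)) =
        (s (ι f) * ρ d + ρ (ι f) * s d + s (ι (δ f))) - (s d * ρ (ι f) + ρ d * s (ι f)) := by
      abel
    rw [this, ← h, sub_self]
  · -- (b)
    intro r v hr hid
    -- r 1 = 0
    have hr1 : r 1 = 0 := by
      have := hr 1 1
      simp only [mul_one, map_one, one_mul] at this
      have h3 : r 1 + r 1 = r 1 + 0 := by rw [add_zero]; exact this.symm
      simpa using add_left_cancel h3
    -- the algebra map j : O → T = End[ε]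
    let jl : O →ₗ[K] TrivSqZeroExt (Module.End K E) (Module.End K E) :=
      { toFun := fun f => TrivSqZeroExt.inl (ρ (ι f)) + TrivSqZeroExt.inr (r f)
        map_add' := by
          intro f g
          apply TrivSqZeroExt.ext <;> simp
        map_smul' := by
          intro c f
          apply TrivSqZeroExt.ext <;> simp }
    have hjl_fst : ∀ f, (jl f).fst = ρ (ι f) := by intro f; simp [jl]
    have hjl_snd : ∀ f, (jl f).snd = r f := by intro f; simp [jl]
    let j : O →ₐ[K] TrivSqZeroExt (Module.End K E) (Module.End K E) := AlgHom.ofLinearMap jl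
      (by
        apply TrivSqZeroExt.ext
        · rw [hjl_fst]; simp
        · rw [hjl_snd, hr1]; simp)
      (by
        intro f g
        apply TrivSqZeroExt.ext
        · rw [TrivSqZeroExt.fst_mul, hjl_fst, hjl_fst, hjl_fst, map_mul, map_mul]
        · rw [TrivSqZeroExt.snd_mul, hjl_fst, hjl_fst, hjl_snd, hjl_snd, hjl_snd, hr]
          simp only [smul_eq_mul, MulOpposite.smul_eq_mul_unop, MulOpposite.unop_op]
          rw [add_comm])
    have hj_fst : ∀ f, (j f).fst = ρ (ι f) := hjl_fst
    have hj_snd : ∀ f, (j f).snd = r f := hjl_snd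
    clear_value j
    let t : TrivSqZeroExt (Module.End K E) (Module.End K E) := TrivSqZeroExt.inl (ρ d) + TrivSqZeroExt.inr v
    have ht_fst : t.fst = ρ d := by simp [t]
    have ht_snd : t.snd = v := by simp [t]
    clear_value t
    have ht : ∀ f : O, t * j f = j f * t + j (δ f) := by
      intro f
      apply TrivSqZeroExt.ext
      · rw [TrivSqZeroExt.fst_mul, TrivSqZeroExt.fst_add, TrivSqZeroExt.fst_mul, ht_fst, hj_fst,
          hj_fst, ← map_mul, hd, map_add, map_mul]
      · rw [TrivSqZeroExt.snd_mul, TrivSqZeroExt.snd_add, TrivSqZeroExt.snd_mul, ht_fst, ht_snd,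
          hj_fst, hj_snd, hj_snd]
        simp only [smul_eq_mul, MulOpposite.smul_eq_mul_unop, MulOpposite.unop_op]
        have h := hid f
        have : ρ d * r f + v * ρ (ι f) =
            (ρ (ι f) * v + r f * ρ d + r (δ f)) -
              ((r f * ρ d - ρ d * r f) + (ρ (ι f) * v - v * ρ (ι f)) + r (δ f)) := by
          abel
        rw [this, h, sub_zero]
    obtain ⟨Φ, hΦ1, hΦ2⟩ := exists_algHom δ ι d hd hbasis j t ht
    -- first component of Φ is ρ
    have hfst : ∀ P, (Φ P).fst = ρ P := by
      have : (TrivSqZeroExt.fstHom K (Module.End K E) (Module.End K E)).comp Φ = ρ := by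
        apply algHom_ext_D ι d hbasis
        · intro f
          simp only [AlgHom.comp_apply, hΦ1]
          exact hj_fst f
        · simp only [AlgHom.comp_apply, hΦ2]
          exact ht_fst
      intro P
      rw [← this]
      rfl
    let s : D →ₗ[K] Module.End K E :=
      { toFun := fun P => (Φ P).snd
        map_add' := by intro P Q; rw [map_add, TrivSqZeroExt.snd_add]
        map_smul' := by intro c P; rw [map_smul, TrivSqZeroExt.snd_smul]; rfl }
    have hs : ∀ P Q : D, s (P * Q) = s P * ρ Q + ρ P * s Q := by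
      intro P Q
      change (Φ (P * Q)).snd = (Φ P).snd * ρ Q + ρ P * (Φ Q).snd
      rw [map_mul, TrivSqZeroExt.snd_mul, hfst, hfst]
      simp only [smul_eq_mul, MulOpposite.smul_eq_mul_unop, MulOpposite.unop_op]
      rw [add_comm]
    refine ⟨s, ⟨hs, ?_, ?_⟩, ?_⟩
    · ext f : 1
      change (Φ (ι f)).snd = r f
      rw [hΦ1, hj_snd]
    · change (Φ d).snd = v
      rw [hΦ2, ht_snd]
    · rintro s' ⟨hs', hs'ι, hs'd⟩
      have : s' - s = 0 := by
        apply derivLike_eq_zero ι d hbasis ρ (s' - s)
        · intro P Q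
          simp only [LinearMap.sub_apply, hs', hs]
          noncomm_ring
        · intro f
          have h1 : s' (ι f) = r f := LinearMap.congr_fun hs'ι f
          have h2 : s (ι f) = r f := by
            change (Φ (ι f)).snd = r f
            rw [hΦ1, hj_snd]
          simp [h1, h2]
        · have h2 : s d = v := by
            change (Φ d).snd = v
            rw [hΦ2, ht_snd]
          simp [hs'd, h2]
      exact sub_eq_zero.1 this

end Groth.Agent.S19974
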