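import Groth.Statements.S19975
import Groth.Agent.Lib.Helper47.EtQc2
import Groth.Agent.Lib.Helper47.TorsColim2
import Groth.Agent.Lib.Helper47.ExtLocalize
import Groth.Agent.Lib.Helper47.LocKer
-- import your own Groth.Agent.* helpers here

set_option autoImplicit false
universe u
open CategoryTheory Opposite AlgebraicGeometry
open EtCoh

namespace Groth.Agent.S19975

open Groth.Agent.Lib.Helper47 CategoryTheory.Limits

/-- a sieve of the small etale site containing all arrows from affine schemes is covering -/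
lemma mem_of_forall_affine {X : Scheme.{u}} (U : X.Etale) (R : Sieve U)
    (h : ∀ (V : X.Etale) (f : V ⟶ U), IsAffine V.left → R f) :
    R ∈ X.smallEtaleTopology U := by
  choose W hW hvW _ using fun v : U.left =>
    exists_isAffineOpen_mem_and_subset (X := U.left) (x := v) (U := ⊤) trivial
  let V : U.left → X.Etale := fun v => Scheme.Etale.mk ((W v).ι ≫ U.hom)
  let g : ∀ v, V v ⟶ U := fun v => MorphismProperty.Over.homMk (W v).ι rfl
  refine X.smallEtaleTopology.superset_covering ?_ (?_ : Sieve.ofArrows V g ∈ _)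
  · rintro Z _ ⟨Z', a, _, ⟨v⟩, rfl⟩
    have : IsAffine (W v).toScheme := hW v
    exact R.downward_closed (h (V v) (g v) (hW v)) a
  · rw [Scheme.ofArrows_mem_smallEtaleTopology_iff]
    ext x
    simp only [Set.mem_iUnion, Set.mem_univ, iff_true]
    exact ⟨x, ⟨x, hvW x⟩, rfl⟩

/-- a cofinal divisibility chain in a submonoid of the integers -/
lemma exists_chain (S : Submonoid ℤ) : ∃ mS : ℕ → ℤ, (∀ k, mS k ∈ S) ∧
    (∀ k, mS k ∣ mS (k + 1)) ∧ ∀ s ∈ S, ∃ k, s ∣ mS k := by
  have : Nonempty S := ⟨⟨1, S.one_mem⟩⟩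
  obtain ⟨e, he⟩ := exists_surjective_nat S
  refine ⟨fun k => ∏ i ∈ Finset.range (k + 1), (e i : ℤ), ?_, ?_, ?_⟩
  · intro k
    exact S.prod_mem (fun i _ => (e i).2)
  · intro k
    exact ⟨_, Finset.prod_range_succ _ _⟩
  · intro s hs
    obtain ⟨k, hk⟩ := he ⟨s, hs⟩
    refine ⟨k, ?_⟩
    have := Finset.dvd_prod_of_mem (fun i => (e i : ℤ)) (Finset.mem_range.2 (Nat.lt_succ_self k))
    rwa [hk] at this

lemma nsmul_eq_of_dvd {M : Type*} [AddCommGroup M] {c a : ℤ} (h : c ∣ a) (x : M) :
    ∃ d : ℤ, a.natAbs • x = d • (c • x) := by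
  obtain ⟨d, hd⟩ := Int.dvd_natAbs.2 h
  refine ⟨d, ?_⟩
  rw [← natCast_zsmul, hd, mul_comm, mul_smul]



/-- In the case of the small etale topos of a quasi-compact quasi-separated scheme X (X is then a
coherent object of it), let R = S⁻¹ℤ be a localization of the ring of integers at a multiplicative
subset S, and let φ : F ⟶ G be a morphism of abelian etale sheaves on X which exhibits G as F ⊗ R:
over every affine scheme U etale over X, the map on sections F(U) → G(U) is a localization of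
ℤ-modules at S. Then for every i the induced map on etale cohomology Hⁱ(X, F) → Hⁱ(X, G) is a
localization at S, i.e. the natural map Hⁱ(X, F) ⊗ R → Hⁱ(X, F ⊗ R) is invertible. (The source
states this for a coherent object of an arbitrary topos; the tensor product F ⊗ R is rendered
through its characterisation on affine etale schemes over X.) -/
theorem result (X : Scheme.{u})
    [CompactSpace X] [QuasiSeparatedSpace X] (S : Submonoid ℤ)
    (F G : EtCoh.Ab X) (φ : F ⟶ G)
    (hφ : ∀ U : X.Etale, IsAffine U.left →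
      IsLocalizedModule S (φ.hom.app (op U)).hom.toIntLinearMap)
    (i : ℕ) : IsLocalizedModule S ((EtCoh.HF X i).map φ).hom.toIntLinearMap := by
  obtain ⟨mS, hmS, hdvd, hcof⟩ := exists_chain S
  let m : ℕ → ℕ := fun k => (mS k).natAbs
  have hm : ∀ k, m k ∣ m (k + 1) := fun k => Int.natAbs_dvd_natAbs.2 (hdvd k)
  let P : X.Etale → Prop := fun V => IsAffine V.left
  have hP : ∀ (U : X.Etale) (R : Sieve U), (∀ (V : X.Etale) (f : V ⟶ U), P V → R f) →
      R ∈ X.smallEtaleTopology U := mem_of_forall_affine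
  -- kernel and cokernel are locally killed by the chain
  have hk : ∀ V, P V → ∀ x : F.obj.obj (op V), φ.hom.app (op V) x = 0 → ∃ k, m k • x = 0 := by
    intro V hV x hx
    have := hφ V hV
    obtain ⟨c, hc⟩ := IsLocalizedModule.exists_of_eq (S := S)
      (f := (φ.hom.app (op V)).hom.toIntLinearMap) (x₁ := x) (x₂ := 0)
      (hx.trans (map_zero _).symm)
    obtain ⟨k, hk⟩ := hcof c.1 c.2
    refine ⟨k, ?_⟩
    obtain ⟨d, hd⟩ := nsmul_eq_of_dvd hk x
    have hc' : (c : ℤ) • x = 0 := hc.trans (smul_zero _)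
    rw [hd, hc', smul_zero]
  have hc : ∀ V, P V → ∀ y : G.obj.obj (op V), ∃ k, ∃ x : F.obj.obj (op V),
      m k • y = φ.hom.app (op V) x := by
    intro V hV y
    have := hφ V hV
    obtain ⟨⟨x, c⟩, hxc⟩ := IsLocalizedModule.surj S (φ.hom.app (op V)).hom.toIntLinearMap y
    obtain ⟨k, hk⟩ := hcof c.1 c.2
    obtain ⟨d, hd⟩ := nsmul_eq_of_dvd hk y
    refine ⟨k, d • x, ?_⟩
    have hxc' : (c : ℤ) • y = φ.hom.app (op V) x := hxc
    rw [hd, hxc', map_zsmul]
  have hKer := LocKer.kernel_locKilled φ m P hP hk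
  have hCoker := LocKer.cokernel_locKilled φ m P hP hc
  -- cohomology commutes with the relevant colimits
  let e : ULift.{u + 1} ℕ ≌ ℕ := OrderIso.equivalence ULift.orderIso
  have : IsFiltered (ULift.{u + 1} ℕ) := IsFiltered.of_equivalence e.symm
  have : HasColimitsOfShape ℕ (EtCoh.Ab X) := hasColimitsOfShape_of_equivalence e
  have : HasExactColimitsOfShape ℕ (EtCoh.Ab X) := HasExactColimitsOfShape.of_domain_equivalence _ e
  have hpres : ∀ n, PreservesColimitsOfShape ℕ (EtCoh.HF X n) :=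
    fun n => EtQc.preservesColimitsOfShape_HF_nat X n
  have hadd : ∀ n, (EtCoh.HF X n).Additive := fun n => by unfold EtCoh.HF; infer_instance
  have hKE : ∀ (n : ℕ) (x : Sheaf.H (kernel φ) n), ∃ s ∈ S, s • x = 0 := by
    intro n x
    have := hpres n
    have := hadd n
    obtain ⟨k, hk⟩ := TorsColim.exists_nsmul_eq_zero (kernel φ) m hm hKer
      (EtCoh.HF X n) x
    exact ⟨mS k, hmS k, natAbs_nsmul_eq_zero.1 hk⟩
  have hCE : ∀ (n : ℕ) (x : Sheaf.H (cokernel φ) n), ∃ s ∈ S, s • x = 0 := by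
    intro n x
    have := hpres n
    have := hadd n
    obtain ⟨k, hk⟩ := TorsColim.exists_nsmul_eq_zero (cokernel φ) m hm hCoker
      (EtCoh.HF X n) x
    exact ⟨mS k, hmS k, natAbs_nsmul_eq_zero.1 hk⟩
  -- members of `S` act invertibly on `G` and on its cohomology
  have hunit : ∀ s ∈ S, Function.Bijective (fun y : (EtCoh.HF X i).obj G => (s : ℤ) • y) := by
    intro s hs
    have hiso : IsIso ((s • 𝟙 G : G ⟶ G)) := by
      refine LocKer.isIso_of_bijective_on P hP (G := G) (G' := G) _ ?_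
      intro V hV
      have := hφ V hV
      have hu := IsLocalizedModule.map_units (S := S) (φ.hom.app (op V)).hom.toIntLinearMap
        ⟨s, hs⟩
      have hb := (Module.End.isUnit_iff _).1 hu
      have h2 : ((s • 𝟙 G : G ⟶ G)).hom.app (op V) = s • 𝟙 (G.obj.obj (op V)) := by
        have := (sheafToPresheaf X.smallEtaleTopology AddCommGrpCat.{u + 1} ⋙
          (evaluation _ _).obj (op V)).map_zsmul (f := 𝟙 G) (r := s)
        simpa using this
      rw [h2]
      have h3 : ⇑(ConcreteCategory.hom (s • 𝟙 (G.obj.obj (op V)))) =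
          ⇑(algebraMap ℤ (Module.End ℤ (G.obj.obj (op V))) s) := by
        ext y
        simp
      rw [h3]
      exact hb
    have := hadd i
    have hiso' : IsIso ((EtCoh.HF X i).map (s • 𝟙 G : G ⟶ G)) := inferInstance
    have h4 : (EtCoh.HF X i).map (s • 𝟙 G : G ⟶ G) = s • 𝟙 _ := by
      rw [(EtCoh.HF X i).map_zsmul, (EtCoh.HF X i).map_id]
    have hb := ConcreteCategory.bijective_of_isIso ((EtCoh.HF X i).map (s • 𝟙 G : G ⟶ G))
    rw [h4] at hb
    have h5 : ⇑(ConcreteCategory.hom (s • 𝟙 ((EtCoh.HF X i).obj G))) =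
        (fun y : (EtCoh.HF X i).obj G => (s : ℤ) • y) := by
      ext y
      simp
    rw [h5] at hb
    exact hb
  -- assemble
  have hmap : ∀ x : Sheaf.H F i, ((EtCoh.HF X i).map φ).hom.toIntLinearMap x =
      x.comp (Abelian.Ext.mk₀ φ) (add_zero i) := fun x => rfl
  refine ⟨?_, ?_, ?_⟩
  · rintro ⟨s, hs⟩
    rw [Module.End.isUnit_iff]
    have h6 : ⇑(algebraMap ℤ (Module.End ℤ ((EtCoh.HF X i).obj G)) (⟨s, hs⟩ : S)) =
        (fun y : (EtCoh.HF X i).obj G => (s : ℤ) • y) := by
      ext y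
      simp
    rw [h6]
    exact hunit s hs
  · intro y
    obtain ⟨s, hs, x, hx⟩ := ExtLocalize.surj φ _ S hKE hCE i y
    exact ⟨(x, ⟨s, hs⟩), hx⟩
  · intro x₁ x₂ h
    let a₁ : Sheaf.H F i := x₁
    let a₂ : Sheaf.H F i := x₂
    have h' : (a₁ - a₂).comp (Abelian.Ext.mk₀ φ) (add_zero i) = 0 := by
      have h1 : a₁.comp (Abelian.Ext.mk₀ φ) (add_zero i) =
        a₂.comp (Abelian.Ext.mk₀ φ) (add_zero i) := h
      have h3 := map_sub ((Abelian.Ext.mk₀ φ).postcomp _ (add_zero i)) a₁ a₂
      refine h3.trans ?_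
      exact sub_eq_zero.2 h1
    obtain ⟨s, hs, hx⟩ := ExtLocalize.inj φ _ S hKE hCE i (a₁ - a₂) h'
    refine ⟨⟨s, hs⟩, ?_⟩
    have h2 : s • a₁ = s • a₂ := by
      rw [smul_sub, sub_eq_zero] at hx
      exact hx
    exact h2

end Groth.Agent.S19975
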