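import Groth.Statements.S1998
import Mathlib.Algebra.Polynomial.Lifts
import Mathlib.RingTheory.Ideal.Quotient.Operations
-- import your own Groth.Agent.* helpers here

set_option autoImplicit false
universe u
open EtAlg

namespace Groth.Agent.S1998

/-- Let (A_j, I_j) be a directed system of henselian pairs (ring maps A_j -> A_k for j ≤ k carrying I_j
into I_k). Then the direct limit A of the A_j together with the ideal generated by the images of the
I_j is a henselian pair. -/
theorem result {ι : Type u} [Preorder ι] [IsDirected ι (· ≤ ·)] [Nonempty ι]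
    (G : ι → Type u) [∀ i, CommRing (G i)] (f : ∀ i j, i ≤ j → G i →+* G j)
    [DirectedSystem G fun i j h => f i j h] (I : ∀ i, Ideal (G i))
    (hI : ∀ i j (h : i ≤ j), (I i).map (f i j h) ≤ I j) (hh : ∀ i, HenselianRing (G i) (I i)) :
    HenselianRing (Ring.DirectLimit G fun i j h => f i j h)
      (⨆ i, (I i).map (Ring.DirectLimit.of G (fun i j h => f i j h) i)) := by
  classical
  -- notation
  set o := Ring.DirectLimit.of G (fun i j h => f i j h) with ho
  have hof : ∀ i j (h : i ≤ j) (x : G i), o j (f i j h x) = o i x := fun i j h x =>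
    Ring.DirectLimit.of_f h x
  have hofc : ∀ i j (h : i ≤ j), (o j).comp (f i j h) = o i := fun i j h =>
    RingHom.ext (hof i j h)
  have hmm : ∀ i j k (hij : i ≤ j) (hjk : j ≤ k) (x : G i),
      f j k hjk (f i j hij x) = f i k (hij.trans hjk) x := fun i j k hij hjk x =>
    DirectedSystem.map_map' (f := f) hij hjk x
  have hImem : ∀ i j (h : i ≤ j) (x : G i), x ∈ I i → f i j h x ∈ I j := fun i j h x hx =>
    hI i j h (Ideal.mem_map_of_mem _ hx)
  -- equality in the limit is equality at a finite stage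
  have heq : ∀ i j (x : G i) (y : G j), o i x = o j y →
      ∃ k, ∃ (hik : i ≤ k) (hjk : j ≤ k), f i k hik x = f j k hjk y := by
    intro i j x y hxy
    obtain ⟨k0, hik0, hjk0⟩ := exists_ge_ge i j
    have h0 : o k0 (f i k0 hik0 x - f j k0 hjk0 y) = 0 := by
      rw [map_sub, hof, hof, hxy, sub_self]
    obtain ⟨k, hk0k, hk⟩ := Ring.DirectLimit.of.zero_exact (f' := f) h0
    refine ⟨k, hik0.trans hk0k, hjk0.trans hk0k, ?_⟩
    rw [map_sub, hmm, hmm, sub_eq_zero] at hk
    exact hk
  -- description of the ideal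
  let S : Ideal (Ring.DirectLimit G fun i j h => f i j h) :=
    { carrier := {z | ∃ i, ∃ x ∈ I i, o i x = z}
      zero_mem' := by
        obtain ⟨i⟩ := ‹Nonempty ι›
        exact ⟨i, 0, (I i).zero_mem, map_zero _⟩
      add_mem' := by
        rintro _ _ ⟨i, x, hx, rfl⟩ ⟨j, y, hy, rfl⟩
        obtain ⟨k, hik, hjk⟩ := exists_ge_ge i j
        refine ⟨k, f i k hik x + f j k hjk y,
          (I k).add_mem (hImem i k hik x hx) (hImem j k hjk y hy), ?_⟩
        rw [map_add, hof, hof]
      smul_mem' := by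
        rintro c _ ⟨i, x, hx, rfl⟩
        obtain ⟨j, y, rfl⟩ := Ring.DirectLimit.exists_of c
        obtain ⟨k, hik, hjk⟩ := exists_ge_ge i j
        refine ⟨k, f j k hjk y * f i k hik x, (I k).mul_mem_left _ (hImem i k hik x hx), ?_⟩
        rw [map_mul, hof, hof, smul_eq_mul] }
  have hJS : (⨆ i, (I i).map (o i)) ≤ S := by
    apply iSup_le
    intro i
    rw [Ideal.map_le_iff_le_comap]
    intro x hx
    exact ⟨i, x, hx, rfl⟩
  have hmemJ : ∀ i (x : G i), x ∈ I i → o i x ∈ (⨆ i, (I i).map (o i)) := fun i x hx =>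
    (le_iSup (fun i => (I i).map (o i)) i) (Ideal.mem_map_of_mem _ hx)
  -- membership is detected at a finite stage
  have hE : ∀ i (x : G i), o i x ∈ (⨆ i, (I i).map (o i)) →
      ∃ k, ∃ (hik : i ≤ k), f i k hik x ∈ I k := by
    intro i x hx
    obtain ⟨j, y, hy, hyx⟩ := hJS hx
    obtain ⟨k, hjk, hik, hk⟩ := heq j i y x hyx
    exact ⟨k, hik, hk ▸ hImem j k hjk y hy⟩
  constructor
  · -- Jacobson radical
    intro z hz
    obtain ⟨i, x, hx, rfl⟩ := hJS hz
    rw [Ideal.mem_jacobson_bot]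
    intro y
    obtain ⟨j, y', rfl⟩ := Ring.DirectLimit.exists_of y
    obtain ⟨k, hik, hjk⟩ := exists_ge_ge i j
    have h1 : f i k hik x ∈ Ideal.jacobson (⊥ : Ideal (G k)) := (hh k).jac (hImem i k hik x hx)
    have h2 := (Ideal.mem_jacobson_bot.1 h1) (f j k hjk y')
    have h3 := h2.map (o k)
    rwa [map_add, map_mul, map_one, hof, hof] at h3
  · intro F hF a₀ h₁ h₂
    -- descend the data to a finite stage
    obtain ⟨i₁, p₀, hp₀⟩ := Ring.DirectLimit.Polynomial.exists_of (f' := f) F
    have hlift : F ∈ Polynomial.lifts (o i₁) := by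
      rw [Polynomial.mem_lifts]
      exact ⟨p₀, hp₀⟩
    obtain ⟨p₁, hp₁, -, hp₁m⟩ := Polynomial.lifts_and_natDegree_eq_and_monic hlift hF
    obtain ⟨i₂, a₂, ha₂⟩ := Ring.DirectLimit.exists_of a₀
    obtain ⟨u, hu⟩ := h₂
    obtain ⟨b₀, hb₀⟩ := Ideal.Quotient.mk_surjective (u⁻¹).val
    have hb : F.derivative.eval a₀ * b₀ - 1 ∈ (⨆ i, (I i).map (o i)) := by
      rw [← Ideal.Quotient.eq, map_mul, ← hu, hb₀, Units.mul_inv, map_one]
    obtain ⟨i₃, b₃, hb₃⟩ := Ring.DirectLimit.exists_of b₀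
    obtain ⟨i₁₂, h1, h2⟩ := exists_ge_ge i₁ i₂
    obtain ⟨i, h12, h3⟩ := exists_ge_ge i₁₂ i₃
    -- everything at stage i
    have hpi : (p₁.map (f i₁ i (h1.trans h12))).map (o i) = F := by
      rw [Polynomial.map_map, hofc, hp₁]
    have hai : o i (f i₂ i (h2.trans h12) a₂) = a₀ := by rw [hof, ha₂]
    have hbi : o i (f i₃ i h3 b₃) = b₀ := by rw [hof, hb₃]
    have key : ∃ (p : Polynomial (G i)) (a b : G i),
        p.Monic ∧ p.map (o i) = F ∧ o i a = a₀ ∧ o i b = b₀ :=
      ⟨_, _, _, hp₁m.map _, hpi, hai, hbi⟩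
    clear hpi hai hbi
    obtain ⟨p, a, b, hpm, hpi, hai, hbi⟩ := key
    have hev : ∀ (q : Polynomial (G i)), o i (q.eval a) = (q.map (o i)).eval a₀ := by
      intro q
      rw [← hai, Polynomial.eval_map, Polynomial.eval₂_at_apply]
    have hx₁ : o i (p.eval a) ∈ (⨆ i, (I i).map (o i)) := by
      rw [hev, hpi]; exact h₁
    have hx₂ : o i (p.derivative.eval a * b - 1) ∈ (⨆ i, (I i).map (o i)) := by
      rw [map_sub, map_mul, map_one, hev, ← Polynomial.derivative_map, hpi, hbi]; exact hb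
    obtain ⟨k₁, hik₁, hk₁⟩ := hE i _ hx₁
    obtain ⟨k₂, hik₂, hk₂⟩ := hE i _ hx₂
    obtain ⟨k, hk₁k, hk₂k⟩ := exists_ge_ge k₁ k₂
    have hik : i ≤ k := hik₁.trans hk₁k
    have hk₁' : f i k hik (p.eval a) ∈ I k := by
      have := hImem k₁ k hk₁k _ hk₁
      rwa [hmm] at this
    have hk₂' : f i k hik (p.derivative.eval a * b - 1) ∈ I k := by
      have := hImem k₂ k hk₂k _ hk₂
      rwa [hmm] at this
    -- stage k
    have hevk : ∀ (q : Polynomial (G i)) (c : G i),
        (q.map (f i k hik)).eval (f i k hik c) = f i k hik (q.eval c) := by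
      intro q c
      rw [Polynomial.eval_map, Polynomial.eval₂_at_apply]
    have hunit : IsUnit (Ideal.Quotient.mk (I k)
        ((p.map (f i k hik)).derivative.eval (f i k hik a))) := by
      rw [Polynomial.derivative_map, hevk]
      apply IsUnit.of_mul_eq_one (Ideal.Quotient.mk (I k) (f i k hik b))
      rw [← map_mul, ← map_one (Ideal.Quotient.mk (I k)), Ideal.Quotient.eq, ← map_mul,
        ← map_one (f i k hik), ← map_sub]
      exact hk₂'
    obtain ⟨r, hr, hra⟩ := (hh k).is_henselian (p.map (f i k hik)) (hpm.map _) (f i k hik a)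
      (by rw [hevk]; exact hk₁') hunit
    refine ⟨o k r, ?_, ?_⟩
    · rw [Polynomial.IsRoot.def, ← hpi, ← hofc i k hik, ← Polynomial.map_map,
        Polynomial.eval_map, Polynomial.eval₂_at_apply, hr, map_zero]
    · have : o k r - a₀ = o k (r - f i k hik a) := by
        rw [map_sub, hof, hai]
      rw [this]
      exact hmemJ k _ hra

end Groth.Agent.S1998
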