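import Groth.Statements.S1999
import Groth.Agent.Lib.Helper9.RamifConcrete
-- import your own Groth.Agent.* helpers here

set_option autoImplicit false
universe u
open scoped Pointwise
open EtAlg

namespace Groth.Agent.S1999

/-- Parts (2)–(5) in the case of part (6): let A be a discrete valuation ring with fraction field K, L/K
a finite Galois extension with group G, B the integral closure of A in L, m a maximal ideal of B
whose residue field is separable over that of A, and e the ramification index of m over A. Let D be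
the decomposition group (stabilizer of m), I the inertia group (elements acting trivially on B/m)
and P the wild inertia group, here the elements of D acting trivially on B/m² (the description valid
in the separable residue field case). Then P ≤ I, P is normal in D, P is a p-group if the residue
characteristic is p > 0 and trivial if it is 0, and I/P is cyclic of order the prime-to-p part of e
and isomorphic to a subgroup of the e-th roots of unity of B/m — more precisely to the full group of
e-th roots of unity of B/m. -/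
theorem result (A K L B : Type u) [CommRing A] [IsDomain A] [IsDiscreteValuationRing A]
    [CommRing B] [IsDomain B] [Field K] [Field L] [Algebra A K] [Algebra B L] [IsFractionRing A K] [IsFractionRing B L]
    [Algebra A B] [Algebra K L] [Algebra A L] [IsScalarTower A K L] [IsScalarTower A B L] [IsIntegralClosure B A L]
    [FiniteDimensional K L] [IsGalois K L] (m : Ideal B) [m.IsMaximal]
    [Algebra.IsSeparable (A ⧸ m.comap (algebraMap A B)) (B ⧸ m)] :
    letI := IsIntegralClosure.MulSemiringAction A K L B
    let D : Subgroup (L ≃ₐ[K] L) := MulAction.stabilizer (L ≃ₐ[K] L) m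
    let I : Subgroup (L ≃ₐ[K] L) := m.inertia (L ≃ₐ[K] L)
    let P : Subgroup (L ≃ₐ[K] L) := D ⊓ (m ^ 2).inertia (L ≃ₐ[K] L)
    let e : ℕ := Ideal.ramificationIdx' (IsLocalRing.maximalIdeal A) m
    P ≤ I ∧ I ≤ D ∧ (P.subgroupOf D).Normal ∧
    (∀ p : ℕ, p.Prime → CharP (A ⧸ m.comap (algebraMap A B)) p → IsPGroup p P) ∧
    (CharZero (A ⧸ m.comap (algebraMap A B)) → P = ⊥) ∧
    (∀ [(P.subgroupOf I).Normal],
      IsCyclic (I ⧸ P.subgroupOf I) ∧
      (∀ p : ℕ, p.Prime → CharP (A ⧸ m.comap (algebraMap A B)) p → Nat.card (I ⧸ P.subgroupOf I) = e / p ^ e.factorization p) ∧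
      (CharZero (A ⧸ m.comap (algebraMap A B)) → Nat.card (I ⧸ P.subgroupOf I) = e) ∧
      Nonempty (I ⧸ P.subgroupOf I ≃* ↥(rootsOfUnity e (B ⧸ m)))) := by
  letI := IsIntegralClosure.MulSemiringAction A K L B
  intro D I P e
  have hint : Algebra.IsIntegral A B := IsIntegralClosure.isIntegral_algebra A L
  have hG : IsGaloisGroup (L ≃ₐ[K] L) A B := IsGaloisGroup.of_isFractionRing _ _ _ K L
  haveI := IsIntegralClosure.isDedekindDomain A K L B
  haveI : SMulCommClass (L ≃ₐ[K] L) A B := hG.commutes
  haveI : FaithfulSMul (L ≃ₐ[K] L) B := hG.faithful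
  haveI : (m.comap (algebraMap A B)).IsMaximal := Ideal.IsMaximal.under A m
  letI : Field (A ⧸ m.comap (algebraMap A B)) := Ideal.Quotient.field _
  have hmne : m ≠ ⊥ := Groth.Agent.Lib.Helper9.RamifConcrete.ne_bot A K L B m
  have hfaith : ∀ σ : (L ≃ₐ[K] L), (∀ x : B, σ • x = x) → σ = 1 := fun σ h =>
    eq_of_smul_eq_smul (fun x : B => by rw [h x, one_smul])
  have hinjq : Function.Injective (algebraMap (A ⧸ m.comap (algebraMap A B)) (B ⧸ m)) :=
    (algebraMap (A ⧸ m.comap (algebraMap A B)) (B ⧸ m)).injective
  have hPI : P ≤ I := Groth.Agent.Lib.Helper9.RamifGroups.wild_le_inertia m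
  have hpg : ∀ p : ℕ, p.Prime → CharP (A ⧸ m.comap (algebraMap A B)) p → IsPGroup p P := by
    intro p hp hchar
    haveI : CharP (B ⧸ m) p := charP_of_injective_algebraMap hinjq p
    exact Groth.Agent.Lib.Helper9.RamifGroups.isPGroup_wild hfaith p hp
  have hbot : CharZero (A ⧸ m.comap (algebraMap A B)) → P = ⊥ := by
    intro hchar
    haveI : CharZero (B ⧸ m) := charZero_of_injective_algebraMap hinjq
    exact Groth.Agent.Lib.Helper9.RamifGroups.wild_eq_bot hfaith
  refine ⟨hPI, Ideal.inertia_le_stabilizer m,
    Groth.Agent.Lib.Helper9.RamifGroups.wild_normal m, hpg, hbot, ?_⟩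
  intro hnormal
  obtain ⟨θ, hθ⟩ := Groth.Agent.Lib.Helper9.RamifGroups.exists_theta_ker (G := (L ≃ₐ[K] L))
    (A := A) hmne (Groth.Agent.Lib.Helper9.RamifConcrete.exists_sep_poly A B m)
  have hcard : Nat.card I = e := Groth.Agent.Lib.Helper9.RamifConcrete.card_inertia A K L B m
  refine ⟨Groth.Agent.Lib.Helper9.TameCount.isCyclic_quot θ _ hθ, ?_, ?_, ?_⟩
  · intro p hp hchar
    haveI : CharP (B ⧸ m) p := charP_of_injective_algebraMap hinjq p
    have hN : IsPGroup p (P.subgroupOf I) := (hpg p hp hchar).comap_subtype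
    rw [← hcard]
    exact Groth.Agent.Lib.Helper9.TameCount.card_quot_of_pGroup θ _ hθ p hp hN
  · intro hchar
    have hN : P.subgroupOf I = ⊥ := by rw [hbot hchar]; exact Subgroup.bot_subgroupOf _
    rw [← hcard]
    exact Groth.Agent.Lib.Helper9.TameCount.card_quot_of_eq_bot _ hN
  · rw [← hcard]
    apply Groth.Agent.Lib.Helper9.TameCount.nonempty_mulEquiv θ _ hθ
    rcases CharP.exists (A ⧸ m.comap (algebraMap A B)) with ⟨p, hchar⟩
    rcases CharP.char_is_prime_or_zero (A ⧸ m.comap (algebraMap A B)) p with hp | hp0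
    · haveI : CharP (B ⧸ m) p := charP_of_injective_algebraMap hinjq p
      have hN : IsPGroup p (P.subgroupOf I) := (hpg p hp hchar).comap_subtype
      exact Groth.Agent.Lib.Helper9.TameCount.card_rootsOfUnity_le_of_pGroup θ _ hθ p hp hN
    · subst hp0
      haveI : CharZero (A ⧸ m.comap (algebraMap A B)) := CharP.charP_to_charZero _
      have hN : P.subgroupOf I = ⊥ := by rw [hbot inferInstance]; exact Subgroup.bot_subgroupOf _
      exact Groth.Agent.Lib.Helper9.TameCount.card_rootsOfUnity_le_of_eq_bot _ hN

end Groth.Agent.S1999
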