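import Groth.Statements.S19996
import Mathlib
-- import your own Groth.Agent.* helpers here

set_option autoImplicit false
universe u
open WildQuot

namespace Groth.Agent.S19996

section helpers
open PowerSeries

namespace PS

variable {k : Type u} [Field k]

local notation "v" => PowerSeries.order

theorem order_sub_ge (a b : PowerSeries k) : min (v a) (v b) ≤ v (a - b) := by
  rw [sub_eq_add_neg]
  have := min_order_le_order_add a (-b)
  rwa [order_neg] at this

theorem isUnit_iff_order_eq_zero (x : PowerSeries k) : IsUnit x ↔ v x = 0 := by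
  constructor
  · exact order_zero_of_unit
  · intro h
    rw [isUnit_iff_constantCoeff]
    by_contra hc
    have : constantCoeff x = 0 := by
      by_contra h0
      exact hc (isUnit_iff_ne_zero.mpr h0)
    have := order_ne_zero_iff_constCoeff_eq_zero.mpr this
    exact this h

theorem one_le_order_iff_not_isUnit (x : PowerSeries k) : 1 ≤ v x ↔ ¬ IsUnit x := by
  rw [isUnit_iff_order_eq_zero, Order.one_le_iff_ne_zero]

/-- decomposition x = X^d * w with w a unit -/
theorem exists_eq_X_pow_mul_unit (x : PowerSeries k) (hx : x ≠ 0) :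
    ∃ (d : ℕ) (w : PowerSeries k), IsUnit w ∧ x = X ^ d * w ∧ v x = d := by
  refine ⟨(v x).toNat, divXPowOrder x, ?_, X_pow_order_mul_divXPowOrder.symm,
    (coe_toNat_order hx).symm⟩
  rw [isUnit_iff_constantCoeff, constantCoeff_divXPowOrder]
  exact isUnit_iff_ne_zero.mpr (coeff_order hx)

theorem X_pow_dvd_of_le_order (x : PowerSeries k) (n : ℕ) (h : (n : ℕ∞) ≤ v x) : X ^ n ∣ x := by
  rw [X_pow_dvd_iff]
  intro i hi
  apply coeff_of_lt_order
  exact lt_of_lt_of_le (by exact_mod_cast hi) h

variable (σ : PowerSeries k ≃ₐ[k] PowerSeries k)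

include σ in
theorem not_isUnit_map {x : PowerSeries k} (hx : ¬ IsUnit x) : ¬ IsUnit (σ x) := by
  intro h
  apply hx
  have := h.map σ.symm
  simpa using this

theorem one_le_order_map {x : PowerSeries k} (hx : 1 ≤ v x) : 1 ≤ v (σ x) := by
  rw [one_le_order_iff_not_isUnit] at hx ⊢
  exact not_isUnit_map σ hx

/-- linear coefficient of σ x for x in the maximal ideal -/
theorem coeff_one_map {x : PowerSeries k} (hx : 1 ≤ v x) :
    coeff 1 (σ x) = coeff 1 x * coeff 1 (σ X) := by
  have h2 : X ^ 2 ∣ x - C (coeff 1 x) * X := by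
    rw [X_pow_dvd_iff]
    intro i hi
    interval_cases i
    · have : coeff 0 x = 0 := coeff_of_lt_order 0 (lt_of_lt_of_le (by norm_num) hx)
      rw [coeff_zero_eq_constantCoeff_apply] at this
      simp [this]
    · simp
  obtain ⟨y, hy⟩ := h2
  have hx' : x = C (coeff 1 x) * X + X ^ 2 * y := by rw [← hy]; ring
  have hσ : σ x = C (coeff 1 x) * σ X + (σ X) ^ 2 * σ y := by
    conv_lhs => rw [hx']
    rw [map_add, map_mul, map_mul, map_pow]
    congr 2
    exact σ.commutes (coeff 1 x)
  have h1 : 1 ≤ v (σ X) := one_le_order_map σ (by rw [order_X])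
  have h3 : (2 : ℕ∞) ≤ v ((σ X) ^ 2 * σ y) := by
    calc (2 : ℕ∞) ≤ 2 • v (σ X) := by
          rw [nsmul_eq_mul]
          calc (2 : ℕ∞) = 2 * 1 := by norm_num
            _ ≤ 2 * v (σ X) := by gcongr
      _ = v ((σ X) ^ 2) := (order_pow _ _).symm
      _ ≤ v ((σ X) ^ 2) + v (σ y) := le_self_add
      _ = v ((σ X) ^ 2 * σ y) := (order_mul _ _).symm
  have h4 : coeff 1 ((σ X) ^ 2 * σ y) = 0 :=
    coeff_of_lt_order 1 (lt_of_lt_of_le (by norm_num) h3)
  rw [hσ, map_add, h4, add_zero, coeff_C_mul]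


theorem iterate_facts (j : ℕ) :
    1 ≤ v (σ^[j] X) ∧ coeff 1 (σ^[j] (X : PowerSeries k)) = (coeff 1 (σ X)) ^ j := by
  induction j with
  | zero => simp [order_X]
  | succ j ih =>
    rw [Function.iterate_succ_apply']
    refine ⟨one_le_order_map σ ih.1, ?_⟩
    rw [coeff_one_map σ ih.1, ih.2, pow_succ]

variable (p : ℕ) [Fact p.Prime] [CharP k p]

include p in
theorem coeff_one_map_X (hσp : σ ^ p = 1) : coeff 1 (σ (X : PowerSeries k)) = 1 := by
  have h1 : σ^[p] (X : PowerSeries k) = X := by
    rw [← AlgEquiv.coe_pow, hσp]; rfl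
  have h2 := (iterate_facts σ p).2
  rw [h1, coeff_one_X] at h2
  set c := coeff 1 (σ (X : PowerSeries k)) with hc
  have h3 : (c - 1) ^ p = 0 := by
    rw [sub_pow_char, ← h2, one_pow, sub_self]
  have := pow_eq_zero_iff (Fact.out : p.Prime).ne_zero |>.mp h3
  exact sub_eq_zero.mp this

include p in
theorem one_le_break (hσp : σ ^ p = 1) (m : ℕ)
    (hm : v (σ X - X) = ((m + 1 : ℕ) : ℕ∞)) : 1 ≤ m := by
  by_contra h
  have hm0 : m = 0 := by omega
  subst hm0
  have h1 := (order_eq_nat.mp hm).1
  apply h1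
  rw [map_sub, coeff_one_map_X σ p hσp, coeff_one_X, sub_self]

include p in
theorem order_map_X (hσp : σ ^ p = 1) (m : ℕ)
    (hm : v (σ X - X) = ((m + 1 : ℕ) : ℕ∞)) : v (σ (X : PowerSeries k)) = 1 := by
  have hm1 := one_le_break σ p hσp m hm
  have h : σ (X : PowerSeries k) = X + (σ X - X) := by ring
  rw [h, order_add_of_order_ne, hm, order_X]
  · apply min_eq_left
    exact_mod_cast Nat.le_add_left 1 m
  · rw [hm, order_X]
    intro h1
    have : (1 : ℕ) = m + 1 := by exact_mod_cast h1
    omega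

include p in
theorem order_map (hσp : σ ^ p = 1) (m : ℕ)
    (hm : v (σ X - X) = ((m + 1 : ℕ) : ℕ∞)) (x : PowerSeries k) : v (σ x) = v x := by
  by_cases hx : x = 0
  · rw [hx, map_zero]
  obtain ⟨d, w, hw, hxw, hd⟩ := exists_eq_X_pow_mul_unit x hx
  have hσw : IsUnit (σ w) := hw.map σ
  rw [hxw, map_mul, map_pow, order_mul, order_mul, order_pow, order_pow,
    order_map_X σ p hσp m hm, order_X, order_zero_of_unit hσw, order_zero_of_unit hw]

omit [Fact p.Prime] [CharP k p] in
theorem map_coe_poly (P : Polynomial k) :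
    σ (P : PowerSeries k) = Polynomial.aeval (σ X) P := by
  have : ((σ : PowerSeries k ≃ₐ[k] PowerSeries k) : PowerSeries k →+* PowerSeries k).comp
      Polynomial.coeToPowerSeries.ringHom = (Polynomial.aeval (σ (X : PowerSeries k))).toRingHom := by
    apply Polynomial.ringHom_ext
    · intro a
      have : σ (C a) = C a := σ.commutes a
      simp [this]
    · simp
  exact DFunLike.congr_fun this P

omit [Fact p.Prime] [CharP k p] in
theorem coe_poly_eq_aeval (P : Polynomial k) :
    (P : PowerSeries k) = Polynomial.aeval (X : PowerSeries k) P := by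
  have : (Polynomial.coeToPowerSeries.ringHom : Polynomial k →+* PowerSeries k) =
      (Polynomial.aeval (X : PowerSeries k)).toRingHom := by
    apply Polynomial.ringHom_ext
    · intro a
      simp
    · simp
  exact DFunLike.congr_fun this P

omit [Fact p.Prime] [CharP k p] in
theorem sub_dvd_map_poly_sub (P : Polynomial k) :
    (σ X - X) ∣ σ (P : PowerSeries k) - (P : PowerSeries k) := by
  rw [map_coe_poly, coe_poly_eq_aeval P, Polynomial.aeval_def, Polynomial.aeval_def,
    Polynomial.eval₂_eq_eval_map, Polynomial.eval₂_eq_eval_map]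
  exact Polynomial.sub_dvd_eval_sub _ _ _

include p in
/-- Lemma 1: σ acts trivially modulo X^(m+1). -/
theorem le_order_map_sub (hσp : σ ^ p = 1) (m : ℕ)
    (hm : v (σ X - X) = ((m + 1 : ℕ) : ℕ∞)) (w : PowerSeries k) :
    ((m + 1 : ℕ) : ℕ∞) ≤ v (σ w - w) := by
  set P := trunc (m + 1) w with hP
  have hdvd : X ^ (m + 1) ∣ w - (P : PowerSeries k) := by
    rw [X_pow_dvd_iff]
    intro i hi
    rw [map_sub, coeff_coe_trunc_of_lt hi, sub_self]
  obtain ⟨r, hr⟩ := hdvd
  have hw : w = (P : PowerSeries k) + X ^ (m + 1) * r := by rw [← hr]; ring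
  have h1 : σ w - w = (σ (P : PowerSeries k) - (P : PowerSeries k)) +
      (σ (X ^ (m + 1) * r) - X ^ (m + 1) * r) := by
    conv_lhs => rw [hw]
    rw [map_add]; ring
  rw [h1]
  refine le_trans ?_ (min_order_le_order_add _ _)
  apply le_min
  · obtain ⟨q, hq⟩ := sub_dvd_map_poly_sub σ P
    rw [hq, order_mul, hm]
    exact le_self_add
  · refine le_trans ?_ (order_sub_ge _ _)
    have h2 : ((m + 1 : ℕ) : ℕ∞) ≤ v (X ^ (m + 1) * r) := by
      rw [order_mul, order_X_pow]
      exact le_self_add
    rw [order_map σ p hσp m hm]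
    exact le_min h2 h2

include p in
/-- Lemma 2: if `x` has order `d` prime to `p` then `σ x - x` has order `d + m`. -/
theorem order_map_sub (hσp : σ ^ p = 1) (m : ℕ)
    (hm : v (σ X - X) = ((m + 1 : ℕ) : ℕ∞)) (x : PowerSeries k) (d : ℕ) (hd : v x = d)
    (hdk : (d : k) ≠ 0) : v (σ x - x) = ((d + m : ℕ) : ℕ∞) := by
  have hm1 := one_le_break σ p hσp m hm
  have hx0 : x ≠ 0 := by
    intro h
    rw [h, order_zero] at hd
    exact ENat.top_ne_natCast d hd
  obtain ⟨d', w, hw, hxw, hd'⟩ := exists_eq_X_pow_mul_unit x hx0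
  have hdd : d' = d := by
    rw [hd] at hd'
    exact_mod_cast hd'.symm
  subst hdd
  -- σ X = X * ε
  set ε := divXPowOrder (σ (X : PowerSeries k)) with hε
  have hσX : σ (X : PowerSeries k) = X * ε := by
    have := X_pow_order_mul_divXPowOrder (f := σ (X : PowerSeries k))
    rw [order_map_X σ p hσp m hm] at this
    simpa using this.symm
  have hδ : σ (X : PowerSeries k) - X = X * (ε - 1) := by rw [hσX]; ring
  have hvε : v (ε - 1) = m := by
    have h1 : v (σ (X : PowerSeries k) - X) = 1 + v (ε - 1) := by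
      rw [hδ, order_mul, order_X]
    rw [hm] at h1
    have hne : v (ε - 1) ≠ ⊤ := by
      intro h
      rw [h] at h1
      simp at h1
    obtain ⟨a, ha⟩ := ENat.ne_top_iff_exists.mp hne
    rw [← ha] at h1 ⊢
    have : m + 1 = 1 + a := by exact_mod_cast h1
    have : a = m := by omega
    rw [this]
  have hcε : constantCoeff ε = 1 := by
    have h1 : constantCoeff (ε - 1) = 0 := by
      apply order_ne_zero_iff_constCoeff_eq_zero.mp
      rw [hvε]
      exact_mod_cast (by omega : m ≠ 0)
    rw [map_sub, map_one] at h1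
    exact sub_eq_zero.mp h1
  -- geometric sum
  set G := ∑ i ∈ Finset.range d', ε ^ i with hG
  have hGeq : ε ^ d' - 1 = (ε - 1) * G := (mul_geom_sum ε d').symm
  have hGunit : IsUnit G := by
    rw [isUnit_iff_constantCoeff, hG, map_sum]
    simp only [map_pow, hcε, one_pow, Finset.sum_const, Finset.card_range, nsmul_eq_mul, mul_one]
    exact isUnit_iff_ne_zero.mpr hdk
  have hσw : IsUnit (σ w) := hw.map σ
  have hmain : σ x - x = X ^ d' * ((ε - 1) * G * σ w + (σ w - w)) := by
    rw [hxw, map_mul, map_pow, hσX, ← hGeq]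
    ring
  have h1 : v ((ε - 1) * G * σ w) = m := by
    rw [order_mul, order_mul, hvε, order_zero_of_unit hGunit, order_zero_of_unit hσw]
    simp
  have h2 : ((m + 1 : ℕ) : ℕ∞) ≤ v (σ w - w) := le_order_map_sub σ p hσp m hm w
  have h3 : v ((ε - 1) * G * σ w + (σ w - w)) = m := by
    rw [order_add_of_order_ne, h1]
    · apply min_eq_left
      refine le_trans ?_ h2
      exact_mod_cast Nat.le_succ m
    · rw [h1]
      intro h
      rw [← h] at h2
      have : m + 1 ≤ m := by exact_mod_cast h2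
      omega
  rw [hmain, order_mul, order_X_pow, h3]
  norm_cast

include p in
theorem dvd_of_exists (hσp : σ ^ p = 1) (m : ℕ)
    (hm : v (σ X - X) = ((m + 1 : ℕ) : ℕ∞)) (s a : PowerSeries k) (hs : v s = 1) (ha : σ a = a)
    (hsa : σ s = s + a) : p ∣ m + 1 := by
  have h1 : v (σ s - s) = ((1 + m : ℕ) : ℕ∞) :=
    order_map_sub σ p hσp m hm s 1 (by rw [hs]; rfl) (by simp)
  have h2 : σ s - s = a := by rw [hsa]; ring
  rw [h2] at h1
  by_contra hnd
  have hk : ((m + 1 : ℕ) : k) ≠ 0 := by
    rw [Ne, CharP.cast_eq_zero_iff k p]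
    exact hnd
  have h3 := order_map_sub σ p hσp m hm a (m + 1) (by rw [h1, add_comm]) hk
  rw [ha, sub_self, order_zero] at h3
  exact ENat.top_ne_natCast _ h3

/-- the operator `x ↦ σ x - x` -/
noncomputable def D (x : PowerSeries k) : PowerSeries k := σ x - x

include p in
theorem D_iterate_p (hσp : σ ^ p = 1) (x : PowerSeries k) : (D σ)^[p] x = 0 := by
  let S : Module.End k (PowerSeries k) := σ.toLinearMap
  have hpoly : ((Polynomial.X : Polynomial k) - 1) ^ p = Polynomial.X ^ p - 1 := by
    rw [sub_pow_char, one_pow]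
  have h1 := congrArg (Polynomial.aeval S) hpoly
  simp only [map_pow, map_sub, Polynomial.aeval_X, map_one] at h1
  have hSp : S ^ p = 1 := by
    ext1 y
    rw [Module.End.pow_apply]
    have : ∀ j : ℕ, (⇑S)^[j] y = σ^[j] y := by
      intro j
      induction j with
      | zero => rfl
      | succ j ih => rw [Function.iterate_succ_apply', Function.iterate_succ_apply', ih]; rfl
    rw [this, ← AlgEquiv.coe_pow, hσp]
    rfl
  rw [hSp, sub_self] at h1
  have h2 : ((S - 1) ^ p) x = 0 := by rw [h1]; rfl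
  rw [Module.End.pow_apply] at h2
  have h3 : (⇑(S - 1) : PowerSeries k → PowerSeries k) = D σ := by
    funext y
    rfl
  rw [h3] at h2
  exact h2

include p in
theorem order_D_iterate (hσp : σ ^ p = 1) (m : ℕ)
    (hm : v (σ X - X) = ((m + 1 : ℕ) : ℕ∞)) (hdvd : p ∣ m + 1) (i : ℕ) (hi : i + 2 ≤ p) :
    v ((D σ)^[i] (X ^ (1 + 2 * m))) = ((1 + 2 * m + i * m : ℕ) : ℕ∞) := by
  induction i with
  | zero => simp [order_X_pow]
  | succ i ih =>
    have ih' := ih (by omega)
    rw [Function.iterate_succ_apply']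
    have hk : ((1 + 2 * m + i * m : ℕ) : k) ≠ 0 := by
      rw [Ne, CharP.cast_eq_zero_iff k p]
      intro hd
      have h1 : (1 + 2 * m + i * m) + (i + 1) = (i + 2) * (m + 1) := by ring
      have h2 : p ∣ (1 + 2 * m + i * m) + (i + 1) := by
        rw [h1]; exact Dvd.dvd.mul_left hdvd _
      have h3 : p ∣ i + 1 := (Nat.dvd_add_right hd).mp h2
      have := Nat.le_of_dvd (by omega) h3
      omega
    have := order_map_sub σ p hσp m hm _ _ ih' hk
    show v (σ _ - _) = _
    rw [this]
    congr 1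
    ring

include p in
theorem order_iterate_X (hσp : σ ^ p = 1) (m : ℕ)
    (hm : v (σ X - X) = ((m + 1 : ℕ) : ℕ∞)) (i : ℕ) : v (σ^[i] (X : PowerSeries k)) = 1 := by
  induction i with
  | zero => simp [order_X]
  | succ i ih => rw [Function.iterate_succ_apply', order_map σ p hσp m hm, ih]

/-- the norm of `X` -/
noncomputable def tt : PowerSeries k := ∏ i ∈ Finset.range p, σ^[i] (X : PowerSeries k)

include p in
theorem map_tt (hσp : σ ^ p = 1) : σ (tt σ p) = tt σ p := by
  have hp : σ^[p] (X : PowerSeries k) = X := by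
    rw [← AlgEquiv.coe_pow, hσp]; rfl
  have h1 : σ (tt σ p) = ∏ i ∈ Finset.range p, σ^[i + 1] (X : PowerSeries k) := by
    rw [tt, map_prod]
    apply Finset.prod_congr rfl
    intro i _
    rw [Function.iterate_succ_apply']
  have h2 := Finset.prod_range_succ' (fun i => σ^[i] (X : PowerSeries k)) p
  have h3 := Finset.prod_range_succ (fun i => σ^[i] (X : PowerSeries k)) p
  rw [h3, hp] at h2
  have h4 : (X : PowerSeries k) ≠ 0 := X_ne_zero
  rw [h1]
  exact (mul_right_cancel₀ h4 h2).symm

include p in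
theorem order_tt (hσp : σ ^ p = 1) (m : ℕ)
    (hm : v (σ X - X) = ((m + 1 : ℕ) : ℕ∞)) : v (tt σ p) = p := by
  rw [tt, order_prod]
  simp [order_iterate_X σ p hσp m hm]

include p in
theorem exists_of_dvd (hσp : σ ^ p = 1) (m : ℕ)
    (hm : v (σ X - X) = ((m + 1 : ℕ) : ℕ∞)) (hdvd : p ∣ m + 1) :
    ∃ s a : PowerSeries k, v s = 1 ∧ σ a = a ∧ σ s = s + a := by
  have hp2 : 2 ≤ p := (Fact.out : p.Prime).two_le
  set z := (D σ)^[p - 2] (X ^ (1 + 2 * m)) with hz
  have hvz : v z = ((1 + p * m : ℕ) : ℕ∞) := by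
    rw [hz, order_D_iterate σ p hσp m hm hdvd (p - 2) (by omega)]
    congr 1
    have : p = (p - 2) + 2 := by omega
    conv_rhs => rw [this]
    ring
  -- D (D z) = 0
  have hDDz : D σ (D σ z) = 0 := by
    have h := D_iterate_p σ p hσp (X ^ (1 + 2 * m))
    have hp' : p = (p - 2) + 1 + 1 := by omega
    rw [hp', Function.iterate_succ_apply', Function.iterate_succ_apply'] at h
    exact h
  set t := tt σ p with ht
  have hσt : σ t = t := map_tt σ p hσp
  have hvt : v (t ^ m) = ((m * p : ℕ) : ℕ∞) := by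
    rw [order_pow, order_tt σ p hσp m hm]
    simp
  have htm0 : t ^ m ≠ 0 := by
    intro h
    rw [h, order_zero] at hvt
    exact ENat.top_ne_natCast _ hvt
  obtain ⟨d, e, he, hte, hd⟩ := exists_eq_X_pow_mul_unit (t ^ m) htm0
  have hdmp : d = m * p := by
    rw [hvt] at hd
    exact_mod_cast hd.symm
  subst hdmp
  obtain ⟨z', hz'⟩ := X_pow_dvd_of_le_order z (m * p) (by
    rw [hvz]
    exact_mod_cast (by nlinarith : m * p ≤ 1 + p * m))
  obtain ⟨e', rfl⟩ := he
  set s := (↑e'⁻¹ : PowerSeries k) * z' with hs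
  have hzs : z = t ^ m * s := by
    rw [hz', hte, hs]
    have : (↑e' : PowerSeries k) * ↑e'⁻¹ = 1 := Units.mul_inv e'
    calc X ^ (m * p) * z' = X ^ (m * p) * (↑e' * ↑e'⁻¹) * z' := by rw [this, mul_one]
      _ = _ := by ring
  have hvs : v s = 1 := by
    have h1 : v z = v (t ^ m) + v s := by rw [hzs, order_mul]
    rw [hvz, hvt] at h1
    have hne : v s ≠ ⊤ := by
      intro h
      rw [h, add_top] at h1
      exact ENat.top_ne_natCast _ h1.symm
    obtain ⟨a, ha⟩ := ENat.ne_top_iff_exists.mp hne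
    rw [← ha] at h1 ⊢
    have h2 : 1 + p * m = m * p + a := by exact_mod_cast h1
    have : a = 1 := by nlinarith
    rw [this]
    rfl
  have hσtm : σ (t ^ m) = t ^ m := by rw [map_pow, hσt]
  have hDz : D σ z = t ^ m * (σ s - s) := by
    show σ z - z = _
    rw [hzs, map_mul, hσtm]
    ring
  have hDDz' : D σ (D σ z) = t ^ m * (σ (σ s - s) - (σ s - s)) := by
    rw [hDz]
    show σ (t ^ m * (σ s - s)) - t ^ m * (σ s - s) = _
    rw [map_mul, hσtm]
    ring
  rw [hDDz'] at hDDz
  have ha : σ (σ s - s) - (σ s - s) = 0 := by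
    rcases mul_eq_zero.mp hDDz with h | h
    · exact absurd h htm0
    · exact h
  refine ⟨s, σ s - s, hvs, sub_eq_zero.mp ha, by ring⟩

end PS

end helpers

/-- Let `k` be a field of characteristic `p > 0`, `A = k[[u]]`, and `σ` a `k`-algebra automorphism of
`A` of order exactly `p` with ramification break `m`, i.e. `σ u - u` has order `m + 1`. Then `p`
divides `m + 1` if and only if there are a uniformizer `s` of `A` (a power series of order `1`) and
a `σ`-invariant power series `a` with `σ s = s + a`. (The published statement has a third equivalent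
condition, that `Spec A` is a torsor under the effective model of the action; this row omits it.) -/
theorem result
    (p : ℕ) [Fact p.Prime] (k : Type u) [Field k] [CharP k p]
    (σ : PowerSeries k ≃ₐ[k] PowerSeries k) (hσp : σ ^ p = 1) (hσ1 : σ ≠ 1)
    (m : ℕ) (hm : (σ PowerSeries.X - PowerSeries.X).order = ((m + 1 : ℕ) : ℕ∞)) :
    p ∣ m + 1 ↔
      ∃ s a : PowerSeries k, s.order = 1 ∧ σ a = a ∧ σ s = s + a := by
  constructor
  · intro h
    exact PS.exists_of_dvd σ p hσp m hm h
  · rintro ⟨s, a, hs, ha, hsa⟩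
    exact PS.dvd_of_exists σ p hσp m hm s a hs ha hsa

end Groth.Agent.S19996
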