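import Groth.Statements.S2000
import Groth.Agent.Lib.Helper10.BLGlue

set_option autoImplicit false
universe u
open TensorProduct
open EtAlg

namespace Groth.Agent.S2000

open Groth.Agent.Lib.Helper10.BL

/-- Beauville–Laszlo, essential surjectivity with glueability: take a glueing pair (R -> R', f). Fix an
R'-module M', an R-module M₁ on which multiplication by f is bijective (i.e. an R_f-module), and α
an R'-linear isomorphism from the localization of M' at f to R' ⊗_R M₁ (an isomorphism of
R'_f-modules). Then there is an R-module M, glueable for (R -> R', f), with an R'-isomorphism R' ⊗_R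
M ≅ M' and an R-isomorphism M_f ≅ M₁ under which α becomes the canonical identification (R' ⊗_R M)_f
= R' ⊗_R M_f. -/
theorem result (R R' : Type u) [CommRing R] [CommRing R'] [Algebra R R'] (f : R)
    (hRR : EtGlue.IsGlueingPair R R' f) (M' : Type u) [AddCommGroup M'] [Module R' M'] (M₁ : Type u) [AddCommGroup M₁]
    [Module R M₁] (hf : Function.Bijective fun x : M₁ => f • x)
    (α : LocalizedModule (Submonoid.powers (algebraMap R R' f)) M' ≃ₗ[R'] R' ⊗[R] M₁) :
    ∃ (M : Type u) (_ : AddCommGroup M) (_ : Module R M) (_ : EtGlue.IsGlueable R R' f M)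
      (e' : R' ⊗[R] M ≃ₗ[R'] M') (e₁ : LocalizedModule (Submonoid.powers f) M ≃ₗ[R] M₁),
      ∀ m : M, α (LocalizedModule.mkLinearMap (Submonoid.powers (algebraMap R R' f)) M' (e' ((1 : R') ⊗ₜ[R] m))) =
        (1 : R') ⊗ₜ[R] e₁ (LocalizedModule.mkLinearMap (Submonoid.powers f) M m) := by
  letI : Module R M' := Module.compHom M' (algebraMap R R')
  haveI : IsScalarTower R R' M' := IsScalarTower.of_algebraMap_smul (fun r x => rfl)
  let β : M' →ₗ[R'] R' ⊗[R] M₁ :=
    α.toLinearMap ∘ₗ LocalizedModule.mkLinearMap (Submonoid.powers (algebraMap R R' f)) M'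
  have hβ1 : ∀ x' : M', β x' = 0 → ∃ n : ℕ, (algebraMap R R' f) ^ n • x' = 0 := by
    intro x' h
    have h' : LocalizedModule.mkLinearMap (Submonoid.powers (algebraMap R R' f)) M' x' = 0 := by
      apply α.injective
      rw [map_zero]
      exact h
    rw [IsLocalizedModule.eq_zero_iff (Submonoid.powers (algebraMap R R' f))] at h'
    obtain ⟨⟨_, n, rfl⟩, hn⟩ := h'
    exact ⟨n, hn⟩
  have hβ2 : ∀ w : R' ⊗[R] M₁, ∃ (n : ℕ) (x' : M'), β x' = (algebraMap R R' f) ^ n • w := by
    intro w
    obtain ⟨⟨x', ⟨_, n, rfl⟩⟩, hx'⟩ := IsLocalizedModule.surj (Submonoid.powers (algebraMap R R' f))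
      (LocalizedModule.mkLinearMap (Submonoid.powers (algebraMap R R' f)) M') (α.symm w)
    refine ⟨n, x', ?_⟩
    change α (LocalizedModule.mkLinearMap (Submonoid.powers (algebraMap R R' f)) M' x') = _
    rw [← hx']
    change α ((algebraMap R R' f) ^ n • α.symm w) = _
    rw [map_smul, LinearEquiv.apply_symm_apply]
  have hloc := isLocalizedModule_glueSnd hf hβ1 hβ2
  have hglue : EtGlue.IsGlueable R R' f (glueModule M' M₁ β) := by
    rw [isGlueable_iff_of_isGlueingPair _ hRR]
    rintro m ⟨n, hn⟩ hm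
    have h1 : glueFst M' M₁ β m = 0 := by
      have := congrArg (gluePsi M' M₁ β) hm
      rwa [gluePsi_tmul, one_smul, map_zero] at this
    have h2 : glueSnd M' M₁ β m = 0 := by
      apply eq_zero_of_pow_smul_eq_zero hf _ n
      rw [← map_smul, hn, map_zero]
    apply Subtype.ext
    exact Prod.ext h1 h2
  refine ⟨glueModule M' M₁ β, inferInstance, inferInstance, hglue,
    LinearEquiv.ofBijective (gluePsi M' M₁ β)
      ⟨gluePsi_injective hf hβ1 hβ2 hRR, gluePsi_surjective hβ2 hRR.1⟩,
    IsLocalizedModule.iso (Submonoid.powers f) (glueSnd M' M₁ β), ?_⟩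
  intro m
  have h1 : IsLocalizedModule.iso (Submonoid.powers f) (glueSnd M' M₁ β)
      (LocalizedModule.mkLinearMap (Submonoid.powers f) (glueModule M' M₁ β) m) =
      glueSnd M' M₁ β m := by
    rw [LocalizedModule.mkLinearMap_apply, IsLocalizedModule.iso_mk_one]
  rw [h1, LinearEquiv.ofBijective_apply, gluePsi_tmul, one_smul]
  exact beta_glueFst m

end Groth.Agent.S2000
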