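import Groth.Statements.S20018
import Mathlib
-- import your own Groth.Agent.* helpers here

set_option autoImplicit false
open CAlg

namespace Groth.Agent.S20018


section helpers
open PowerSeries

variable {R : Type*} [CommRing R]

theorem coeff_mul_factor_lt (Q : PowerSeries R) (b : R) (N j : ℕ) (hj : j < N + 1) :
    coeff j (Q * (1 - C b * X ^ (N + 1))) = coeff j Q := by
  have : Q * (1 - C b * X ^ (N + 1)) = Q - X ^ (N + 1) * (C b * Q) := by ring
  rw [this, map_sub, coeff_X_pow_mul', if_neg (by omega), sub_zero]

theorem coeff_mul_factor_eq (Q : PowerSeries R) (hQ : constantCoeff Q = 1) (b : R) (N : ℕ) :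
    coeff (N + 1) (Q * (1 - C b * X ^ (N + 1))) = coeff (N + 1) Q - b := by
  have : Q * (1 - C b * X ^ (N + 1)) = Q - X ^ (N + 1) * (C b * Q) := by ring
  rw [this, map_sub, coeff_X_pow_mul', if_pos le_rfl, Nat.sub_self, coeff_C_mul,
    coeff_zero_eq_constantCoeff_apply, hQ, mul_one]

/-- partial products, defined recursively -/
noncomputable def Qseq (x : PowerSeries R) : ℕ → PowerSeries R
  | 0 => 1
  | N + 1 => Qseq x N * (1 - C (coeff (N + 1) (Qseq x N) - coeff (N + 1) x) * X ^ (N + 1))

noncomputable def alpha (x : PowerSeries R) (N : ℕ) : R :=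
  coeff (N + 1) (Qseq x N) - coeff (N + 1) x

theorem Qseq_succ (x : PowerSeries R) (N : ℕ) :
    Qseq x (N + 1) = Qseq x N * (1 - C (alpha x N) * X ^ (N + 1)) := rfl

theorem Qseq_eq_prod (x : PowerSeries R) (N : ℕ) :
    Qseq x N = ∏ i ∈ Finset.range N, (1 - C (alpha x i) * X ^ (i + 1) : PowerSeries R) := by
  induction N with
  | zero => simp [Qseq]
  | succ N ih => rw [Finset.prod_range_succ, ← ih, Qseq_succ]

theorem coeff_Qseq (x : PowerSeries R) (hx : constantCoeff x = 1) (N : ℕ) :
    ∀ j, j < N + 1 → coeff j (Qseq x N) = coeff j x := by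
  induction N with
  | zero =>
    intro j hj
    have : j = 0 := by omega
    subst this
    simp [Qseq, hx]
  | succ N ih =>
    intro j hj
    rw [Qseq_succ]
    by_cases hjN : j < N + 1
    · rw [coeff_mul_factor_lt _ _ _ _ hjN, ih j hjN]
    · have : j = N + 1 := by omega
      subst this
      have hQ : constantCoeff (Qseq x N) = 1 := by
        rw [← coeff_zero_eq_constantCoeff_apply, ih 0 (by omega),
          coeff_zero_eq_constantCoeff_apply, hx]
      rw [coeff_mul_factor_eq _ hQ, alpha]
      ring

end helpers

open PowerSeries in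
/-- Product expansion of big Witt vectors: let R be a commutative ring and x ∈ 1 + tR[[t]] a formal
power series with constant term 1. Then x can be written uniquely as an infinite product ∏_{i ≥ 1}
(1 - α_i t^i) with α_i ∈ R. The infinite product is expressed through its truncations: there is a
unique sequence α : ℕ → R (α i standing for the coefficient attached to t^{i+1}) such that for every
N the series x and the finite product ∏_{i=0}^{N} (1 - α_i t^{i+1}) agree modulo t^{N+2}. -/
theorem result
    (R : Type*) [CommRing R] (x : PowerSeries R) (hx : PowerSeries.constantCoeff x = 1) :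
    ∃! α : ℕ → R, ∀ N : ℕ,
      PowerSeries.trunc (N + 2) x =
        PowerSeries.trunc (N + 2) (∏ i ∈ Finset.range (N + 1),
          (1 - PowerSeries.C (α i) * PowerSeries.X ^ (i + 1) : PowerSeries R)) := by
  refine ⟨alpha x, ?_, ?_⟩
  · intro N
    rw [← Qseq_eq_prod]
    ext j
    rw [coeff_trunc, coeff_trunc]
    split_ifs with h
    · exact (coeff_Qseq x hx (N + 1) j h).symm
    · rfl
  · intro β hβ
    funext N
    induction N using Nat.strong_induction_on with
    | _ N ih =>
      have hprod : ∏ i ∈ Finset.range N, (1 - C (β i) * X ^ (i + 1) : PowerSeries R) = Qseq x N := by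
        rw [Qseq_eq_prod]
        apply Finset.prod_congr rfl
        intro i hi
        rw [ih i (Finset.mem_range.mp hi)]
      have h1 := hβ N
      rw [Finset.prod_range_succ, hprod] at h1
      have h2 := congrArg (fun P => Polynomial.coeff P (N + 1)) h1
      simp only [coeff_trunc, if_pos (Nat.lt_succ_self (N + 1))] at h2
      have hQ : constantCoeff (Qseq x N) = 1 := by
        rw [← coeff_zero_eq_constantCoeff_apply, coeff_Qseq x hx N 0 (by omega),
          coeff_zero_eq_constantCoeff_apply, hx]
      rw [coeff_mul_factor_eq _ hQ] at h2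
      rw [alpha, h2]
      ring

end Groth.Agent.S20018
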