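import Groth.Statements.S20022
import Mathlib
import Groth.Agent.Lib.Helper66.GradedUnit
-- import your own Groth.Agent.* helpers here

set_option autoImplicit false
universe u
open GrLC

namespace Groth.Agent.S20022

/-- Let R be a commutative ℤ-graded ring whose degree-zero subring R_0 is a field k and which is the
Laurent polynomial ring k[T, T⁻¹] on a homogeneous invertible element T of positive degree d, in the
following intrinsic sense: T is a unit lying in R_d, and every nonzero homogeneous element of degree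
n equals a·T^j for some a ∈ R_0 and some integer j with j·d = n (so R_n = 0 unless d divides n, and
R_{jd} = k·T^j). Then every graded R-module M is free in the graded sense: M has an R-basis
consisting of homogeneous elements. (The other case of condition (2), R = k concentrated in degree
zero, is not included.) -/
theorem result (R : Type u) [CommRing R]
    (𝒜 : ℤ → AddSubgroup R) [GradedRing 𝒜] (h0 : IsField (GrLC.deg0 𝒜))
    (d : ℤ) (hd : 0 < d) (T : Rˣ) (hT : (T : R) ∈ 𝒜 d)
    (hA : ∀ (n : ℤ) (x : R), x ∈ 𝒜 n → x ≠ 0 →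
      ∃ j : ℤ, ∃ a ∈ 𝒜 0, j * d = n ∧ x = a * ((T ^ j : Rˣ) : R))
    (M : Type u) [AddCommGroup M] [Module R M] (ℳ : ℤ → AddSubgroup M)
    [DirectSum.Decomposition ℳ] [SetLike.GradedSMul 𝒜 ℳ] :
    ∃ (κ : Type u) (b : Module.Basis κ R M), ∀ i : κ, SetLike.IsHomogeneousElem ℳ (b i) := by
  classical
  letI : Field (GrLC.deg0 𝒜) := h0.toField
  have hTj : ∀ j : ℤ, ((T ^ j : Rˣ) : R) ∈ 𝒜 (j * d) := fun j => by
    have := Groth.Agent.Lib.Helper66.GradedUnit.zpow_mem 𝒜 T hT j
    rwa [smul_eq_mul] at this
  have hdvd : ∀ n : ℤ, ∀ x ∈ 𝒜 n, x ≠ 0 → d ∣ n := by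
    intro n x hx hx0
    obtain ⟨j, a, ha, hj, -⟩ := hA n x hx hx0
    exact ⟨j, by rw [← hj, mul_comm]⟩
  let Mr : ℤ → Submodule (GrLC.deg0 𝒜) M := fun r => GrLC.comp 𝒜 ℳ r
  let ρ : Type := {r : ℤ // 0 ≤ r ∧ r < d}
  let B : ∀ r : ρ, Module.Basis (Module.Free.ChooseBasisIndex (GrLC.deg0 𝒜) (Mr r.1))
      (GrLC.deg0 𝒜) (Mr r.1) := fun r => Module.Free.chooseBasis _ _
  let κ : Type u := Σ r : ρ, Module.Free.ChooseBasisIndex (GrLC.deg0 𝒜) (Mr r.1)
  let v : κ → M := fun x => ((B x.1 x.2 : Mr x.1.1) : M)
  have hv : ∀ x : κ, v x ∈ ℳ x.1.1 := fun x => (B x.1 x.2).2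
  -- spanning
  have hspan_homog : ∀ n : ℤ, ∀ x ∈ ℳ n, x ∈ Submodule.span R (Set.range v) := by
    intro n x hx
    have hr : 0 ≤ n % d ∧ n % d < d := ⟨Int.emod_nonneg n hd.ne', Int.emod_lt_of_pos n hd⟩
    have hn : n = n / d * d + n % d := (Int.ediv_mul_add_emod n d).symm
    have hy : ((T ^ (-(n / d)) : Rˣ) : R) • x ∈ ℳ (n % d) := by
      have h1 := SetLike.GradedSMul.smul_mem (A := 𝒜) (B := ℳ) (hTj (-(n / d))) hx
      rw [vadd_eq_add] at h1
      have h2 : -(n / d) * d + n = n % d := by
        rw [Int.emod_def]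
        ring
      rwa [h2] at h1
    have hxy : x = ((T ^ (n / d) : Rˣ) : R) • (((T ^ (-(n / d)) : Rˣ) : R) • x) := by
      rw [smul_smul, ← Units.val_mul, ← zpow_add, add_neg_cancel, zpow_zero, Units.val_one,
        one_smul]
    rw [hxy]
    apply Submodule.smul_mem
    have hyB := (B ⟨n % d, hr⟩).mem_span (⟨_, hy⟩ : Mr (n % d))
    have key : ∀ z : Mr (n % d),
        z ∈ Submodule.span (GrLC.deg0 𝒜) (Set.range (B ⟨n % d, hr⟩)) →
          (z : M) ∈ Submodule.span R (Set.range v) := by
      intro z hz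
      induction hz using Submodule.span_induction with
      | mem z hz =>
        obtain ⟨i, rfl⟩ := hz
        exact Submodule.subset_span ⟨⟨⟨n % d, hr⟩, i⟩, rfl⟩
      | zero => exact zero_mem _
      | add a b _ _ ha hb => exact add_mem ha hb
      | smul k z _ hz => exact Submodule.smul_mem _ (k : R) hz
    exact key ⟨_, hy⟩ hyB
  have hspan : ⊤ ≤ Submodule.span R (Set.range v) := by
    intro x _
    rw [← DirectSum.sum_support_decompose ℳ x]
    exact Submodule.sum_mem _ (fun n _ => hspan_homog n _ (SetLike.coe_mem _))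
  -- independence
  have hli : LinearIndependent R v := by
    rw [linearIndependent_iff']
    intro s g hg x hx
    have hdeg : ∀ n : ℤ, ∑ y ∈ s, (DirectSum.decompose 𝒜 (g y) (n - y.1.1) : R) • v y = 0 := by
      intro n
      have h1 : (DirectSum.decompose ℳ (∑ y ∈ s, g y • v y) n : M) = 0 := by
        rw [hg]
        simp
      rw [DirectSum.decompose_sum, DFinsupp.finsetSum_apply, AddSubmonoidClass.coe_finsetSum] at h1
      rw [← h1]
      apply Finset.sum_congr rfl
      intro y _
      exact (Groth.Agent.Lib.Helper66.Graded.decompose_smul_of_mem 𝒜 ℳ (hv y) (g y) n).symm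
    have hcomp : ∀ m : ℤ, (DirectSum.decompose 𝒜 (g x) m : R) = 0 := by
      intro m
      by_contra hne
      obtain ⟨j, hj⟩ := hdvd m _ (SetLike.coe_mem _) hne
      -- coefficients
      let a : κ → R := fun y =>
        (DirectSum.decompose 𝒜 (g y) (m + x.1.1 - y.1.1) : R) * ((T ^ (-j) : Rˣ) : R)
      have hzero : ∀ y : κ, y.1 ≠ x.1 →
          (DirectSum.decompose 𝒜 (g y) (m + x.1.1 - y.1.1) : R) = 0 := by
        intro y hyx
        by_contra hne'
        obtain ⟨j', hj'⟩ := hdvd _ _ (SetLike.coe_mem _) hne'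
        apply hyx
        apply Subtype.ext
        have h1 : d ∣ x.1.1 - y.1.1 := ⟨j' - j, by rw [mul_sub, ← hj', ← hj]; ring⟩
        have h2 := x.1.2
        have h3 := y.1.2
        have h4 : x.1.1 - y.1.1 = 0 := by
          apply Int.eq_zero_of_abs_lt_dvd h1
          rw [abs_lt]
          constructor <;> omega
        omega
      have ha0 : ∀ y : κ, a y ∈ 𝒜 0 := by
        intro y
        by_cases hyx : y.1 = x.1
        · have h1 : (DirectSum.decompose 𝒜 (g y) (m + x.1.1 - y.1.1) : R) ∈ 𝒜 m := by
            have : m + x.1.1 - y.1.1 = m := by rw [hyx]; ring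
            rw [this]
            exact SetLike.coe_mem _
          have h2 := SetLike.GradedMul.mul_mem h1 (hTj (-j))
          have h3 : m + -j * d = 0 := by rw [hj]; ring
          rwa [h3] at h2
        · change (DirectSum.decompose 𝒜 (g y) (m + x.1.1 - y.1.1) : R) * _ ∈ 𝒜 0
          rw [hzero y hyx, zero_mul]
          exact zero_mem _
      have hsum : ∑ y ∈ s, a y • v y = 0 := by
        have h1 := hdeg (m + x.1.1)
        have h2 : ∑ y ∈ s, a y • v y = ((T ^ (-j) : Rˣ) : R) •
            ∑ y ∈ s, (DirectSum.decompose 𝒜 (g y) (m + x.1.1 - y.1.1) : R) • v y := by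
          rw [Finset.smul_sum]
          apply Finset.sum_congr rfl
          intro y _
          rw [smul_smul, mul_comm]
        rw [h2, h1, smul_zero]
      -- restrict to the block of `x`
      let emb : Module.Free.ChooseBasisIndex (GrLC.deg0 𝒜) (Mr x.1.1) → κ := fun i => ⟨x.1, i⟩
      have hinj : Set.InjOn emb (emb ⁻¹' (s : Set κ)) := by
        intro i _ i' _ h
        exact eq_of_heq (Sigma.mk.inj h).2
      have hsum' : ∑ i ∈ s.preimage emb hinj,
          (⟨a (emb i), ha0 _⟩ : GrLC.deg0 𝒜) • ((B x.1 i : Mr x.1.1) : M) = 0 := by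
        have h1 := Finset.sum_preimage emb s hinj (fun y => a y • v y) (by
          intro y _ hy
          have hyx : y.1 ≠ x.1 := by
            intro h
            apply hy
            obtain ⟨r, i⟩ := y
            simp only at h
            subst h
            exact ⟨i, rfl⟩
          change ((DirectSum.decompose 𝒜 (g y) (m + x.1.1 - y.1.1) : R) *
            ((T ^ (-j) : Rˣ) : R)) • v y = 0
          rw [hzero y hyx, zero_mul, zero_smul])
        rw [← hsum, ← h1]
        rfl
      have hliK : LinearIndependent (GrLC.deg0 𝒜) (fun i => ((B x.1 i : Mr x.1.1) : M)) :=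
        (B x.1).linearIndependent.map' (Mr x.1.1).subtype (Submodule.ker_subtype _)
      have hx' : x.2 ∈ s.preimage emb hinj := by
        rw [Finset.mem_preimage]
        exact hx
      have h5 := linearIndependent_iff'.mp hliK _ _ hsum' x.2 hx'
      have h6 : a x = 0 := congrArg Subtype.val h5
      apply hne
      have h7 : (DirectSum.decompose 𝒜 (g x) m : R) = a x * ((T ^ j : Rˣ) : R) := by
        change _ = (DirectSum.decompose 𝒜 (g x) (m + x.1.1 - x.1.1) : R) * _ * _
        rw [mul_assoc, ← Units.val_mul, ← zpow_add, neg_add_cancel, zpow_zero, Units.val_one,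
          mul_one, add_sub_cancel_right]
      rw [h7, h6, zero_mul]
    have : DirectSum.decompose 𝒜 (g x) = 0 := by
      ext m
      rw [hcomp m]
      simp
    simpa using congrArg (DirectSum.decompose 𝒜).symm this
  refine ⟨κ, Module.Basis.mk hli hspan, fun i => ⟨i.1.1, ?_⟩⟩
  rw [Module.Basis.mk_apply]
  exact hv i

end Groth.Agent.S20022
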