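import Groth.Statements.S20025
import Mathlib
-- import your own Groth.Agent.* helpers here

set_option autoImplicit false
universe u
open InvQ

namespace Groth.Agent.S20025

section
open W4c6intromoduli MvPolynomial
variable {k : Type u} [Field k]

/-- the linear form `m X0 - l X1`. -/
noncomputable def lin (l m : k) : MvPolynomial (Fin 2) k := C m * X 0 - C l * X 1

theorem binForm_eq (la mu : Fin 4 → k) :
    binForm la mu = lin (la 0) (mu 0) * lin (la 1) (mu 1) * lin (la 2) (mu 2) * lin (la 3) (mu 3) := by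
  unfold binForm lin
  rw [Fin.prod_univ_four]

theorem lin_smul (c l m : k) : lin (c * l) (c * m) = C c * lin l m := by
  unfold lin
  rw [map_mul, map_mul]
  ring

theorem subst_X (M : Matrix (Fin 2) (Fin 2) k) (i : Fin 2) :
    subst M (X i) = C (M i 0) * X 0 + C (M i 1) * X 1 := by
  unfold subst
  rw [aeval_X, Fin.sum_univ_two]

theorem subst_F1 (M : Matrix (Fin 2) (Fin 2) k) :
    subst M (X 0 ^ 2 * X 1 * (X 0 - X 1)) =
      (subst M (X 0)) ^ 2 * subst M (X 1) * (subst M (X 0) - subst M (X 1)) := by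
  simp only [map_mul, map_pow, map_sub]

theorem subst_F2 (M : Matrix (Fin 2) (Fin 2) k) :
    subst M (X 0 ^ 2 * X 1 ^ 2) = (subst M (X 0)) ^ 2 * (subst M (X 1)) ^ 2 := by
  simp only [map_mul, map_pow]

theorem eval_subst_X (M : Matrix (Fin 2) (Fin 2) k) (i : Fin 2) (x0 x1 : k) :
    MvPolynomial.eval ![x0, x1] (subst M (X i)) = M i 0 * x0 + M i 1 * x1 := by
  rw [subst_X]
  simp

theorem prop_scalar {l1 m1 l0 m0 : k} (h1 : l1 ≠ 0 ∨ m1 ≠ 0) (h0 : l0 ≠ 0 ∨ m0 ≠ 0)
    (h : l0 * m1 = l1 * m0) : ∃ t : k, t ≠ 0 ∧ l0 = t * l1 ∧ m0 = t * m1 := by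
  rcases h1 with h1 | h1
  · have e : l1⁻¹ * l1 = 1 := inv_mul_cancel₀ h1
    have hl : l0 = l0 * l1⁻¹ * l1 := by linear_combination (-l0) * e
    have hm : m0 = l0 * l1⁻¹ * m1 := by linear_combination (-m0) * e - l1⁻¹ * h
    refine ⟨l0 * l1⁻¹, ?_, hl, hm⟩
    intro ht
    rw [ht, zero_mul] at hl hm
    rcases h0 with h0 | h0
    · exact h0 hl
    · exact h0 hm
  · have e : m1⁻¹ * m1 = 1 := inv_mul_cancel₀ h1
    have hm : m0 = m0 * m1⁻¹ * m1 := by linear_combination (-m0) * e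
    have hl : l0 = m0 * m1⁻¹ * l1 := by linear_combination (-l0) * e + m1⁻¹ * h
    refine ⟨m0 * m1⁻¹, ?_, hl, hm⟩
    intro ht
    rw [ht, zero_mul] at hl hm
    rcases h0 with h0 | h0
    · exact h0 hl
    · exact h0 hm

theorem step_exists (f : MvPolynomial (Fin 2) k) (l0 m0 l1 m1 l2 m2 l3 m3 : k)
    (hf : f = lin l0 m0 * lin l1 m1 * lin l2 m2 * lin l3 m3)
    (hP : l0 ≠ 0 ∨ m0 ≠ 0) (hP' : l1 ≠ 0 ∨ m1 ≠ 0)
    (hprop : l0 * m1 = l1 * m0) (hQ : l1 * m2 ≠ l2 * m1) (hR : l1 * m3 ≠ l3 * m1) :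
    (∃ (M : Matrix (Fin 2) (Fin 2) k) (c : k), IsUnit M.det ∧ c ≠ 0 ∧
        f = C c * subst M (X 0 ^ 2 * X 1 * (X 0 - X 1))) ∨
    (∃ (M : Matrix (Fin 2) (Fin 2) k) (c : k), IsUnit M.det ∧ c ≠ 0 ∧
        f = C c * subst M (X 0 ^ 2 * X 1 ^ 2)) := by
  obtain ⟨t, ht0, htl, htm⟩ := prop_scalar hP' hP hprop
  have hf' : f = C t * (lin l1 m1 ^ 2 * lin l2 m2 * lin l3 m3) := by
    rw [hf, htl, htm, lin_smul]
    ring
  by_cases hQR : l2 * m3 = l3 * m2
  · right
    have hQ0 : l2 ≠ 0 ∨ m2 ≠ 0 := by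
      by_contra hcon
      push Not at hcon
      apply hQ
      rw [hcon.1, hcon.2]
      ring
    have hR0 : l3 ≠ 0 ∨ m3 ≠ 0 := by
      by_contra hcon
      push Not at hcon
      apply hR
      rw [hcon.1, hcon.2]
      ring
    obtain ⟨s, hs0, hsl, hsm⟩ := prop_scalar hQ0 hR0 (show l3 * m2 = l2 * m3 by rw [hQR])
    refine ⟨!![m1, -l1; m2, -l2], t * s, ?_, mul_ne_zero ht0 hs0, ?_⟩
    · rw [Matrix.det_fin_two_of]
      have e : m1 * -l2 - -l1 * m2 = l1 * m2 - l2 * m1 := by ring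
      rw [e]
      exact isUnit_iff_ne_zero.mpr (sub_ne_zero.mpr hQ)
    · rw [hf', hsl, hsm, lin_smul, subst_F2, subst_X, subst_X]
      simp only [Matrix.of_apply, Matrix.cons_val', Matrix.cons_val_zero, Matrix.cons_val_one,
        Matrix.cons_val_fin_one, lin, map_mul, map_neg]
      ring
  · left
    obtain ⟨al, hal⟩ : ∃ x, x = l3 * m2 - l2 * m3 := ⟨_, rfl⟩
    obtain ⟨be, hbe⟩ : ∃ x, x = -(l1 * m3 - l3 * m1) := ⟨_, rfl⟩
    obtain ⟨ga, hga⟩ : ∃ x, x = l1 * m2 - l2 * m1 := ⟨_, rfl⟩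
    have hal0 : al ≠ 0 := by
      rw [hal]
      exact sub_ne_zero.mpr (fun h => hQR h.symm)
    have hbe0 : be ≠ 0 := by
      rw [hbe]
      exact neg_ne_zero.mpr (sub_ne_zero.mpr hR)
    have hga0 : ga ≠ 0 := by
      rw [hga]
      exact sub_ne_zero.mpr hQ
    have hw0 : al ^ 2 * be * ga ≠ 0 := mul_ne_zero (mul_ne_zero (pow_ne_zero 2 hal0) hbe0) hga0
    refine ⟨!![al * m1, -(al * l1); be * m2, -(be * l2)], t * (al ^ 2 * be * ga)⁻¹, ?_,
      mul_ne_zero ht0 (inv_ne_zero hw0), ?_⟩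
    · rw [Matrix.det_fin_two_of]
      have e : al * m1 * -(be * l2) - -(al * l1) * (be * m2) = al * be * (l1 * m2 - l2 * m1) := by
        ring
      rw [e, ← hga]
      exact isUnit_iff_ne_zero.mpr (mul_ne_zero (mul_ne_zero hal0 hbe0) hga0)
    · rw [hf', subst_F1, subst_X, subst_X]
      simp only [Matrix.of_apply, Matrix.cons_val', Matrix.cons_val_zero, Matrix.cons_val_one,
        Matrix.cons_val_fin_one]
      have hL : (C (al * m1) * X 0 + C (-(al * l1)) * X 1) ^ 2 *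
          (C (be * m2) * X 0 + C (-(be * l2)) * X 1) *
          ((C (al * m1) * X 0 + C (-(al * l1)) * X 1) -
            (C (be * m2) * X 0 + C (-(be * l2)) * X 1)) =
          C (al ^ 2 * be * ga) * (lin l1 m1 ^ 2 * lin l2 m2 * lin l3 m3) := by
        rw [hal, hbe, hga]
        simp only [lin, map_mul, map_sub, map_neg, map_pow]
        ring
      have hone : (C ((al ^ 2 * be * ga)⁻¹) : MvPolynomial (Fin 2) k) * C (al ^ 2 * be * ga) = 1 := by
        rw [← map_mul, inv_mul_cancel₀ hw0, map_one]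
      have hc : (C (t * (al ^ 2 * be * ga)⁻¹) : MvPolynomial (Fin 2) k) =
          C t * C ((al ^ 2 * be * ga)⁻¹) := map_mul _ _ _
      rw [hL, hc]
      linear_combination (-(C t * (lin l1 m1 ^ 2 * lin l2 m2 * lin l3 m3))) * hone

theorem not_both (f : MvPolynomial (Fin 2) k)
    (hA : ∃ (M : Matrix (Fin 2) (Fin 2) k) (c : k), IsUnit M.det ∧ c ≠ 0 ∧
        f = C c * subst M (X 0 ^ 2 * X 1 * (X 0 - X 1)))
    (hB : ∃ (M : Matrix (Fin 2) (Fin 2) k) (c : k), IsUnit M.det ∧ c ≠ 0 ∧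
        f = C c * subst M (X 0 ^ 2 * X 1 ^ 2)) : False := by
  obtain ⟨M1, c1, hM1, hc1, h1⟩ := hA
  obtain ⟨M2, c2, hM2, hc2, h2⟩ := hB
  have h := h1.symm.trans h2
  have key : ∀ x0 x1 : k,
      c1 * ((M1 0 0 * x0 + M1 0 1 * x1) ^ 2 * (M1 1 0 * x0 + M1 1 1 * x1) *
        ((M1 0 0 * x0 + M1 0 1 * x1) - (M1 1 0 * x0 + M1 1 1 * x1))) =
      c2 * ((M2 0 0 * x0 + M2 0 1 * x1) ^ 2 * (M2 1 0 * x0 + M2 1 1 * x1) ^ 2) := by
    intro x0 x1
    have hev := congrArg (MvPolynomial.eval ![x0, x1]) h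
    simp only [map_mul, map_pow, map_sub, eval_C, eval_subst_X] at hev
    exact hev
  rw [Matrix.det_fin_two, isUnit_iff_ne_zero] at hM1 hM2
  obtain ⟨a, ha⟩ : ∃ x, x = M1 0 0 := ⟨_, rfl⟩
  obtain ⟨b, hb⟩ : ∃ x, x = M1 0 1 := ⟨_, rfl⟩
  obtain ⟨c, hc⟩ : ∃ x, x = M1 1 0 := ⟨_, rfl⟩
  obtain ⟨d, hd⟩ : ∃ x, x = M1 1 1 := ⟨_, rfl⟩
  obtain ⟨p, hp⟩ : ∃ x, x = M2 0 0 := ⟨_, rfl⟩
  obtain ⟨q, hq⟩ : ∃ x, x = M2 0 1 := ⟨_, rfl⟩
  obtain ⟨r, hr⟩ : ∃ x, x = M2 1 0 := ⟨_, rfl⟩
  obtain ⟨s, hs⟩ : ∃ x, x = M2 1 1 := ⟨_, rfl⟩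
  rw [← ha, ← hb, ← hc, ← hd] at hM1
  rw [← hp, ← hq, ← hr, ← hs] at hM2
  simp only [← ha, ← hb, ← hc, ← hd, ← hp, ← hq, ← hr, ← hs] at key
  obtain ⟨u1, hu1⟩ : ∃ x, x = -(p * b) + q * a := ⟨_, rfl⟩
  obtain ⟨u2, hu2⟩ : ∃ x, x = -(r * b) + s * a := ⟨_, rfl⟩
  obtain ⟨v1, hv1⟩ : ∃ x, x = p * d - q * c := ⟨_, rfl⟩
  obtain ⟨v2, hv2⟩ : ∃ x, x = r * d - s * c := ⟨_, rfl⟩
  have sq0 : ∀ z : k, c2 * z ^ 2 = 0 → z = 0 := by
    intro z hz
    rcases mul_eq_zero.mp hz with h0 | h0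
    · exact absurd h0 hc2
    · exact pow_eq_zero_iff (two_ne_zero) |>.mp h0
  have hu : u1 * u2 = 0 := by
    apply sq0
    rw [hu1, hu2]
    linear_combination (-1 : k) * key (-b) a
  have hv : v1 * v2 = 0 := by
    apply sq0
    rw [hv1, hv2]
    linear_combination (-1 : k) * key d (-c)
  have hw : (v1 + u1) * (v2 + u2) = 0 := by
    apply sq0
    rw [hu1, hu2, hv1, hv2]
    linear_combination (-1 : k) * key (d - b) (a - c)
  have hN : v1 * u2 - u1 * v2 ≠ 0 := by
    have e : v1 * u2 - u1 * v2 = (p * s - q * r) * (a * d - b * c) := by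
      rw [hu1, hu2, hv1, hv2]
      ring
    rw [e]
    exact mul_ne_zero hM2 hM1
  rcases mul_eq_zero.mp hu with h0 | h0
  · have hv1' : v1 ≠ 0 := by
      intro h'
      apply hN
      rw [h0, h']
      ring
    have hv2' : v2 = 0 := (mul_eq_zero.mp hv).resolve_left hv1'
    apply hN
    rw [h0, hv2'] at hw
    rw [h0, hv2']
    linear_combination hw
  · have hv2' : v2 ≠ 0 := by
      intro h'
      apply hN
      rw [h0, h']
      ring
    have hv1' : v1 = 0 := (mul_eq_zero.mp hv).resolve_right hv2'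
    apply hN
    rw [h0, hv1'] at hw
    rw [h0, hv1']
    linear_combination (-1 : k) * hw

theorem xor_of_or_not_and {a b : Prop} (h : a ∨ b) (hn : a → b → False) : Xor a b := by
  rcases h with ha | hb
  · exact Or.inl ⟨ha, fun hb => hn ha hb⟩
  · exact Or.inr ⟨hb, fun ha => hn ha hb⟩

end

/-- For the special fibre of the invariant map, over a field in which 2 and 3 are nonzero, consider a
split binary quartic f = ∏_i (μ_i X₀ − λ_i X₁) given by four root points (λ_i, μ_i) ≠ (0, 0), with a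
double zero (vanishing discriminant ∏_{i<j} (λ_j μ_i − λ_i μ_j)²) and no triple zero (no three root
points pairwise proportional); these are the forms of the fibre over the special point P³/Q² = 6 of
the invariant map. Then exactly one of the two alternatives holds: f is a nonzero constant times the
form X₀² X₁ (X₀ − X₁) after an invertible linear substitution of the variables, or f is a nonzero
constant times X₀² X₁² after such a substitution. So this fibre consists of exactly two classes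
under substitutions and scalars (one double zero and two simple zeros; two double zeros). (The
dimensions of the two orbits and which of them is open or closed in the fibre are not part of this
row; stated for split forms over any such field.) -/
theorem result (k : Type u) [Field k]
    (h2 : (2 : k) ≠ 0) (h3 : (3 : k) ≠ 0) (la mu : Fin 4 → k)
    (hne : ∀ i, la i ≠ 0 ∨ mu i ≠ 0) (hd : W4c6intromoduli.disc la mu = 0)
    (h3z : ∀ i j l : Fin 4, i ≠ j → j ≠ l → i ≠ l →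
      ¬ (la i * mu j = la j * mu i ∧ la j * mu l = la l * mu j)) :
    Xor
      (∃ (M : Matrix (Fin 2) (Fin 2) k) (c : k), IsUnit M.det ∧ c ≠ 0 ∧
        W4c6intromoduli.binForm la mu =
          MvPolynomial.C c * W4c6intromoduli.subst M
            (MvPolynomial.X 0 ^ 2 * MvPolynomial.X 1 * (MvPolynomial.X 0 - MvPolynomial.X 1)))
      (∃ (M : Matrix (Fin 2) (Fin 2) k) (c : k), IsUnit M.det ∧ c ≠ 0 ∧
        W4c6intromoduli.binForm la mu =
          MvPolynomial.C c * W4c6intromoduli.subst M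
            (MvPolynomial.X 0 ^ 2 * MvPolynomial.X 1 ^ 2)) := by
  have hex : ∃ i j : Fin 4, i < j ∧ la j * mu i - la i * mu j = 0 := by
    unfold W4c6intromoduli.disc at hd
    obtain ⟨p, hp, hp0⟩ := Finset.prod_eq_zero_iff.mp hd
    exact ⟨p.1, p.2, (Finset.mem_filter.mp hp).2, (pow_eq_zero_iff (two_ne_zero)).mp hp0⟩
  refine xor_of_or_not_and ?_ (fun hA hB => not_both _ hA hB)
  have step : ∀ i j l m : Fin 4, i ≠ j → j ≠ l → i ≠ l → j ≠ m → i ≠ m →
      la j * mu i - la i * mu j = 0 →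
      W4c6intromoduli.binForm la mu = lin (la i) (mu i) * lin (la j) (mu j) * lin (la l) (mu l) *
        lin (la m) (mu m) →
      ((∃ (M : Matrix (Fin 2) (Fin 2) k) (c : k), IsUnit M.det ∧ c ≠ 0 ∧
        W4c6intromoduli.binForm la mu =
          MvPolynomial.C c * W4c6intromoduli.subst M
            (MvPolynomial.X 0 ^ 2 * MvPolynomial.X 1 * (MvPolynomial.X 0 - MvPolynomial.X 1))) ∨
      (∃ (M : Matrix (Fin 2) (Fin 2) k) (c : k), IsUnit M.det ∧ c ≠ 0 ∧
        W4c6intromoduli.binForm la mu =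
          MvPolynomial.C c * W4c6intromoduli.subst M
            (MvPolynomial.X 0 ^ 2 * MvPolynomial.X 1 ^ 2))) := by
    intro i j l m hij hjl hil hjm him h0 hf
    have hprop : la i * mu j = la j * mu i := by linear_combination (-1 : k) * h0
    exact step_exists (W4c6intromoduli.binForm la mu) (la i) (mu i) (la j) (mu j) (la l) (mu l)
      (la m) (mu m) hf (hne i) (hne j) hprop
      (fun h => h3z i j l hij hjl hil ⟨hprop, h⟩) (fun h => h3z i j m hij hjm him ⟨hprop, h⟩)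
  obtain ⟨i, j, hij, h0⟩ := hex
  have six : ∀ i j : Fin 4, i < j → (i = 0 ∧ j = 1) ∨ (i = 0 ∧ j = 2) ∨ (i = 0 ∧ j = 3) ∨
      (i = 1 ∧ j = 2) ∨ (i = 1 ∧ j = 3) ∨ (i = 2 ∧ j = 3) := by decide
  rcases six i j hij with ⟨rfl, rfl⟩ | ⟨rfl, rfl⟩ | ⟨rfl, rfl⟩ | ⟨rfl, rfl⟩ | ⟨rfl, rfl⟩ | ⟨rfl, rfl⟩
  · exact step 0 1 2 3 (by decide) (by decide) (by decide) (by decide) (by decide) h0
      (by rw [binForm_eq])
  · exact step 0 2 1 3 (by decide) (by decide) (by decide) (by decide) (by decide) h0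
      (by rw [binForm_eq]; ring)
  · exact step 0 3 1 2 (by decide) (by decide) (by decide) (by decide) (by decide) h0
      (by rw [binForm_eq]; ring)
  · exact step 1 2 0 3 (by decide) (by decide) (by decide) (by decide) (by decide) h0
      (by rw [binForm_eq]; ring)
  · exact step 1 3 0 2 (by decide) (by decide) (by decide) (by decide) (by decide) h0
      (by rw [binForm_eq]; ring)
  · exact step 2 3 0 1 (by decide) (by decide) (by decide) (by decide) (by decide) h0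
      (by rw [binForm_eq]; ring)

end Groth.Agent.S20025
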