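import Groth.Statements.S2006
import Groth.Agent.Lib.Helper10.BL

set_option autoImplicit false
universe u
open TensorProduct
open EtAlg

namespace Groth.Agent.S2006

open Groth.Agent.Lib.Helper10.BL

variable {R R' : Type u} [CommRing R] [CommRing R'] [Algebra R R'] {f : R}
variable {M : Type u} [AddCommGroup M] [Module R M]

/-- finitely many elements of `M` whose images generate `R' ⊗ M` -/
theorem exists_finset_tensor (h : Module.Finite R' (R' ⊗[R] M)) :
    ∃ A : Finset M, Submodule.span R' ((TensorProduct.mk R R' M 1) '' (A : Set M)) = ⊤ := by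
  classical
  have htop : Submodule.span R' (Set.range (TensorProduct.mk R R' M 1)) = ⊤ := by
    have := Submodule.baseChange_top (R := R) (M := M) R'
    rw [Submodule.baseChange_eq_span, Submodule.map_top] at this
    exact this
  have hfg : (Submodule.span R' (Set.range (TensorProduct.mk R R' M 1))).FG := by
    rw [htop]; exact h.1
  obtain ⟨s', hs', hspan⟩ := (Submodule.fg_span_iff_fg_span_finset_subset _).mp hfg
  choose g hg using fun x : s' => hs' x.2
  refine ⟨Finset.univ.image g, ?_⟩
  rw [← htop, hspan]
  congr 1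
  ext x
  simp only [Finset.coe_image, Finset.coe_univ, Set.image_univ, Set.mem_image, Set.mem_range,
    Finset.mem_coe]
  constructor
  · rintro ⟨_, ⟨y, rfl⟩, rfl⟩
    rw [hg y]; exact y.2
  · intro hx
    exact ⟨g ⟨x, hx⟩, ⟨⟨x, hx⟩, rfl⟩, hg ⟨x, hx⟩⟩

/-- finitely many elements of `M` whose images generate `M_f` -/
theorem exists_finset_loc
    (h : Module.Finite (Localization.Away f) (LocalizedModule (Submonoid.powers f) M)) :
    ∃ B : Finset M, Submodule.span (Localization.Away f)
      ((LocalizedModule.mkLinearMap (Submonoid.powers f) M) '' (B : Set M)) = ⊤ := by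
  classical
  have htop : Submodule.span (Localization.Away f)
      (Set.range (LocalizedModule.mkLinearMap (Submonoid.powers f) M)) = ⊤ := by
    have := span_eq_top_of_isLocalizedModule (Localization.Away f) (Submonoid.powers f)
      (LocalizedModule.mkLinearMap (Submonoid.powers f) M) (v := Set.univ) (by simp)
    rwa [Set.image_univ] at this
  have hfg : (Submodule.span (Localization.Away f)
      (Set.range (LocalizedModule.mkLinearMap (Submonoid.powers f) M))).FG := by
    rw [htop]; exact h.1
  obtain ⟨s', hs', hspan⟩ := (Submodule.fg_span_iff_fg_span_finset_subset _).mp hfg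
  choose g hg using fun x : s' => hs' x.2
  refine ⟨Finset.univ.image g, ?_⟩
  rw [← htop, hspan]
  congr 1
  ext x
  simp only [Finset.coe_image, Finset.coe_univ, Set.image_univ, Set.mem_image, Set.mem_range,
    Finset.mem_coe]
  constructor
  · rintro ⟨_, ⟨y, rfl⟩, rfl⟩
    rw [hg y]; exact y.2
  · intro hx
    exact ⟨g ⟨x, hx⟩, ⟨⟨x, hx⟩, rfl⟩, hg ⟨x, hx⟩⟩

/-- if the images of `B ⊆ N` generate `M_f` then `M/N` is `f`-power torsion -/
theorem exists_pow_smul_mem (N : Submodule R M) (B : Set M) (hB : B ⊆ N)
    (hspan : Submodule.span (Localization.Away f)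
      ((LocalizedModule.mkLinearMap (Submonoid.powers f) M) '' B) = ⊤) (m : M) :
    ∃ n : ℕ, f ^ n • m ∈ N := by
  have key : ∀ y : LocalizedModule (Submonoid.powers f) M,
      ∃ (n : ℕ) (b : M), b ∈ N ∧ f ^ n • y = LocalizedModule.mkLinearMap (Submonoid.powers f) M b := by
    intro y
    have hy : y ∈ Submodule.span (Localization.Away f)
      ((LocalizedModule.mkLinearMap (Submonoid.powers f) M) '' B) := by rw [hspan]; trivial
    induction hy using Submodule.span_induction with
    | mem x hx =>
      obtain ⟨b, hb, rfl⟩ := hx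
      exact ⟨0, b, hB hb, by simp⟩
    | zero => exact ⟨0, 0, N.zero_mem, by simp⟩
    | add x y _ _ hx hy =>
      obtain ⟨n₁, b₁, hb₁, h₁⟩ := hx
      obtain ⟨n₂, b₂, hb₂, h₂⟩ := hy
      refine ⟨n₁ + n₂, f ^ n₂ • b₁ + f ^ n₁ • b₂, N.add_mem (N.smul_mem _ hb₁) (N.smul_mem _ hb₂), ?_⟩
      rw [smul_add, map_add, map_smul, map_smul, ← h₁, ← h₂, ← mul_smul, ← mul_smul, ← pow_add,
        ← pow_add, add_comm n₂ n₁]
    | smul a x _ hx =>
      obtain ⟨n, b, hb, h⟩ := hx
      obtain ⟨r, ⟨_, k, rfl⟩, rfl⟩ := IsLocalization.exists_mk'_eq (Submonoid.powers f) a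
      refine ⟨k + n, r • b, N.smul_mem _ hb, ?_⟩
      rw [map_smul, ← h]
      have ha : (f ^ (k + n)) • (IsLocalization.mk' (Localization.Away f) r
          (⟨f ^ k, k, rfl⟩ : Submonoid.powers f)) = algebraMap R (Localization.Away f) (r * f ^ n) := by
        rw [Algebra.smul_def, pow_add, map_mul, mul_comm (algebraMap _ _ (f ^ k)), mul_assoc,
          IsLocalization.mk'_spec' (Localization.Away f) r (⟨f ^ k, k, rfl⟩ : Submonoid.powers f),
          map_mul, mul_comm]
      rw [← smul_assoc, ha, algebraMap_smul, mul_smul]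
  obtain ⟨n, b, hb, h⟩ := key (LocalizedModule.mkLinearMap (Submonoid.powers f) M m)
  rw [← map_smul, ← sub_eq_zero, ← map_sub, mkLinearMap_eq_zero_iff] at h
  obtain ⟨k, hk⟩ := h
  refine ⟨k + n, ?_⟩
  rw [smul_sub, sub_eq_zero, ← mul_smul, ← pow_add] at hk
  rw [hk]
  exact N.smul_mem _ hb

/-- Let R -> R' induce bijections R/f^n R -> R'/f^n R' for all n > 0 and let M be an R-module. Then M is
finitely generated if and only if R' ⊗_R M is finitely generated over R' and M_f is finitely
generated over R_f. -/
theorem result (R R' : Type u) [CommRing R] [CommRing R'] [Algebra R R'] (f : R)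
    (hq : EtGlue.QuotPowBijective R R' f) (M : Type u) [AddCommGroup M] [Module R M] :
    Module.Finite R M ↔ Module.Finite R' (R' ⊗[R] M) ∧
      Module.Finite (Localization.Away f) (LocalizedModule (Submonoid.powers f) M) := by
  classical
  constructor
  · intro h
    exact ⟨inferInstance, Module.Finite.of_isLocalizedModule (Submonoid.powers f)
      (LocalizedModule.mkLinearMap (Submonoid.powers f) M)⟩
  · rintro ⟨h1, h2⟩
    obtain ⟨A, hA⟩ := exists_finset_tensor h1
    obtain ⟨B, hB⟩ := exists_finset_loc h2
    set N : Submodule R M := Submodule.span R ((A : Set M) ∪ (B : Set M)) with hN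
    have hNfg : N.FG := by
      rw [hN, ← Finset.coe_union]
      exact Submodule.fg_span (Finset.finite_toSet _)
    have hAN : (A : Set M) ⊆ N := fun a ha => Submodule.subset_span (Or.inl ha)
    have hBN : (B : Set M) ⊆ N := fun a ha => Submodule.subset_span (Or.inr ha)
    have htors : ∀ t : M ⧸ N, ∃ n : ℕ, f ^ n • t = 0 := by
      intro t
      obtain ⟨m, rfl⟩ := Submodule.mkQ_surjective N t
      obtain ⟨n, hn⟩ := exists_pow_smul_mem N B hBN hB m
      exact ⟨n, by rw [← map_smul, Submodule.mkQ_apply, Submodule.Quotient.mk_eq_zero]; exact hn⟩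
    have hzero : ∀ z : R' ⊗[R] M, LinearMap.baseChange R' N.mkQ z = 0 := by
      intro z
      have hz : z ∈ Submodule.span R' ((TensorProduct.mk R R' M 1) '' (A : Set M)) := by
        rw [hA]; trivial
      induction hz using Submodule.span_induction with
      | mem x hx =>
        obtain ⟨a, ha, rfl⟩ := hx
        rw [TensorProduct.mk_apply, LinearMap.baseChange_tmul, Submodule.mkQ_apply,
          (Submodule.Quotient.mk_eq_zero N).mpr (hAN ha), TensorProduct.tmul_zero]
      | zero => simp
      | add x y _ _ hx hy => rw [map_add, hx, hy, add_zero]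
      | smul a x _ hx => rw [map_smul, hx, smul_zero]
    have hbij := bijective_mk_of_torsion hq htors
    have hNtop : N = ⊤ := by
      rw [eq_top_iff]
      intro m _
      rw [← Submodule.Quotient.mk_eq_zero N]
      apply hbij.1
      rw [TensorProduct.mk_apply, TensorProduct.mk_apply, TensorProduct.tmul_zero]
      have := hzero ((1 : R') ⊗ₜ[R] m)
      rwa [LinearMap.baseChange_tmul] at this
    rw [Module.finite_def, ← hNtop]
    exact hNfg

end Groth.Agent.S2006
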