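import Groth.Statements.S2003
import Groth.Agent.Lib.Helper10.BLFlat
import Groth.Agent.S2006

set_option autoImplicit false
universe u
open TensorProduct
open EtAlg

namespace Groth.Agent.S2003

open Groth.Agent.Lib.Helper10.BL

theorem finite_of_exact {A : Type u} [CommRing A] {L F M : Type u} [AddCommGroup L] [Module A L]
    [AddCommGroup F] [Module A F] [AddCommGroup M] [Module A M] (j : L →ₗ[A] F) (π : F →ₗ[A] M)
    (hj : Function.Injective j) (hex : Function.Exact j π) (hπ : Function.Surjective π)
    [Module.Finite A F] [Module.FinitePresentation A M] : Module.Finite A L := by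
  have hker : (LinearMap.ker π).FG := Module.FinitePresentation.fg_ker π hπ
  have hrange : (LinearMap.range j).FG := by
    rw [← LinearMap.exact_iff.mp hex]; exact hker
  have : Module.Finite A (LinearMap.range j) := Module.Finite.iff_fg.mpr hrange
  exact Module.Finite.equiv (LinearEquiv.ofInjective j hj).symm

/-- Let (R -> R', f) be a glueing pair and M any R-module. Then M is finite projective over R exactly
when both of its base changes are: R' ⊗_R M over R', and M_f over R_f. -/
theorem result (R R' : Type u) [CommRing R] [CommRing R'] [Algebra R R'] (f : R)
    (hRR : EtGlue.IsGlueingPair R R' f) (M : Type u) [AddCommGroup M] [Module R M] :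
    (Module.Finite R M ∧ Module.Projective R M) ↔
      (Module.Finite R' (R' ⊗[R] M) ∧ Module.Projective R' (R' ⊗[R] M)) ∧
      (Module.Finite (Localization.Away f) (LocalizedModule (Submonoid.powers f) M) ∧
        Module.Projective (Localization.Away f) (LocalizedModule (Submonoid.powers f) M)) := by
  constructor
  · rintro ⟨hfin, hproj⟩
    exact ⟨⟨inferInstance, inferInstance⟩,
      ⟨Module.Finite.of_isLocalizedModule (Submonoid.powers f)
        (LocalizedModule.mkLinearMap (Submonoid.powers f) M), inferInstance⟩⟩
  · rintro ⟨⟨hfin', hproj'⟩, ⟨hfinf, hprojf⟩⟩
    have hfin : Module.Finite R M := (Groth.Agent.S2006.result R R' f hRR.1 M).mpr ⟨hfin', hfinf⟩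
    have hMf : Module.Flat (Localization.Away f) (LocalizedModule (Submonoid.powers f) M) :=
      inferInstance
    have hM' : Module.Flat R' (R' ⊗[R] M) := inferInstance
    have hflat : Module.Flat R M := flat_of_glueingPair hRR M hMf hM'
    refine ⟨hfin, ?_⟩
    obtain ⟨n, π, hπ⟩ := Module.Finite.exists_fin' R M
    have hj : Function.Injective (LinearMap.ker π).subtype := Submodule.injective_subtype _
    have hex : Function.Exact (LinearMap.ker π).subtype π := LinearMap.exact_subtype_ker_map π
    have hsep : ∀ p : (Fin n → R), (∀ l : (Fin n → R) →ₗ[R] R, l p = 0) → p = 0 := by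
      intro p hp
      funext i
      exact hp (LinearMap.proj i)
    -- `R' ⊗ L` finite
    have hj' := injective_lTensor_of_flat_localization (R' := R') (L := LinearMap.ker π)
      (F := Fin n → R) (M := M) (LinearMap.ker π).subtype π hRR hj hex hπ hsep hMf
    have hjb : Function.Injective ((LinearMap.ker π).subtype.baseChange R') := hj'
    have hexb : Function.Exact ((LinearMap.ker π).subtype.baseChange R') (π.baseChange R') :=
      lTensor_exact R' hex hπ
    have hπb : Function.Surjective (π.baseChange R') := LinearMap.lTensor_surjective R' hπ
    have : Module.FinitePresentation R' (R' ⊗[R] M) := Module.finitePresentation_of_projective _ _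
    have hL' : Module.Finite R' (R' ⊗[R] LinearMap.ker π) :=
      finite_of_exact ((LinearMap.ker π).subtype.baseChange R') (π.baseChange R') hjb hexb hπb
    -- `L_f` finite
    have : Module.FinitePresentation (Localization.Away f)
        (LocalizedModule (Submonoid.powers f) M) := Module.finitePresentation_of_projective _ _
    have : Module.Finite (Localization.Away f) (LocalizedModule (Submonoid.powers f) (Fin n → R)) :=
      Module.Finite.of_isLocalizedModule (Submonoid.powers f)
        (LocalizedModule.mkLinearMap (Submonoid.powers f) (Fin n → R))
    have hLf : Module.Finite (Localization.Away f)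
        (LocalizedModule (Submonoid.powers f) (LinearMap.ker π)) :=
      finite_of_exact (A := Localization.Away f)
        (L := LocalizedModule (Submonoid.powers f) (LinearMap.ker π))
        (F := LocalizedModule (Submonoid.powers f) (Fin n → R))
        (M := LocalizedModule (Submonoid.powers f) M)
        (LocalizedModule.map (Submonoid.powers f) (LinearMap.ker π).subtype)
        (LocalizedModule.map (Submonoid.powers f) π)
        (LocalizedModule.map_injective _ _ hj) (LocalizedModule.map_exact _ _ π hex)
        (LocalizedModule.map_surjective _ π hπ)
    have hL : Module.Finite R (LinearMap.ker π) :=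
      (Groth.Agent.S2006.result R R' f hRR.1 (LinearMap.ker π)).mpr ⟨hL', hLf⟩
    have hfp : Module.FinitePresentation R M :=
      Module.finitePresentation_of_free_of_surjective π hπ (Module.Finite.iff_fg.mp hL)
    exact Module.Flat.projective_of_finitePresentation

end Groth.Agent.S2003
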