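import Groth.Statements.S2007
import Groth.Agent.Lib.Helper10.BLGlue
import Groth.Agent.S2009

set_option autoImplicit false
universe u
open TensorProduct
open EtAlg

namespace Groth.Agent.S2007

open Groth.Agent.Lib.Helper10.BL

section

variable {R S : Type u} [CommRing R] [CommRing S] [Algebra R S] (I : Ideal R)
variable {N : Type u} [AddCommGroup N] [Module R N]
variable {M' : Type u} [AddCommGroup M'] [Module S M'] [Module R M'] [IsScalarTower R S M']
variable (φ : M' →ₗ[S] S ⊗[R] N)

theorem psi_surjective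
    (hsurj : ∀ s : S, ∃ r : R, s - algebraMap R S r ∈ I.map (algebraMap R S))
    (hcoker : ∀ y : S ⊗[R] N, ∃ n : ℕ, ∀ a ∈ I ^ n, algebraMap R S a • y ∈ LinearMap.range φ) :
    Function.Surjective (gluePsi M' N φ) := by
  have key : ∀ w : S ⊗[R] N, ∃ (z : S ⊗[R] glueModule M' N φ) (y : N),
      w = φ (gluePsi M' N φ z) + (1 : S) ⊗ₜ[R] y := by
    intro w
    induction w using TensorProduct.induction_on with
    | zero => exact ⟨0, 0, by simp⟩
    | add a b ha hb =>
      obtain ⟨za, ya, rfl⟩ := ha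
      obtain ⟨zb, yb, rfl⟩ := hb
      refine ⟨za + zb, ya + yb, ?_⟩
      rw [map_add, map_add, TensorProduct.tmul_add]
      abel
    | tmul s y0 =>
      obtain ⟨k, hk⟩ := hcoker ((1 : S) ⊗ₜ[R] y0)
      obtain ⟨r, hr⟩ := Groth.Agent.S2009.exists_sub_mem_pow I hsurj k s
      have hspan : ∀ e ∈ (I ^ k).map (algebraMap R S),
          ∃ z : S ⊗[R] glueModule M' N φ, e ⊗ₜ[R] y0 = φ (gluePsi M' N φ z) := by
        intro e he
        unfold Ideal.map at he
        induction he using Submodule.span_induction with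
        | mem x hx =>
          obtain ⟨a, ha, rfl⟩ := hx
          obtain ⟨x', hx'⟩ := hk a ha
          have hmem : (x', a • y0) ∈ glueModule M' N φ := by
            rw [mem_glueModule]
            simp only
            rw [hx', TensorProduct.tmul_smul, algebraMap_smul]
          refine ⟨(1 : S) ⊗ₜ[R] (⟨_, hmem⟩ : glueModule M' N φ), ?_⟩
          rw [gluePsi_tmul, one_smul]
          change _ = φ x'
          rw [hx', TensorProduct.smul_tmul', smul_eq_mul, mul_one]
        | zero => exact ⟨0, by simp⟩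
        | add x y _ _ hx hy =>
          obtain ⟨zx, hzx⟩ := hx
          obtain ⟨zy, hzy⟩ := hy
          exact ⟨zx + zy, by rw [TensorProduct.add_tmul, hzx, hzy, map_add, map_add]⟩
        | smul c x _ hx =>
          obtain ⟨zx, hzx⟩ := hx
          refine ⟨c • zx, ?_⟩
          rw [map_smul, map_smul, ← hzx, smul_eq_mul, TensorProduct.smul_tmul', smul_eq_mul]
      obtain ⟨z, hz⟩ := hspan _ hr
      refine ⟨z, r • y0, ?_⟩
      rw [← hz, TensorProduct.sub_tmul, TensorProduct.tmul_smul,
        ← algebraMap_smul S r ((1 : S) ⊗ₜ[R] y0), TensorProduct.smul_tmul', smul_eq_mul, mul_one]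
      abel
  intro x'
  obtain ⟨z, y, hzy⟩ := key (φ x')
  have hmem : (x' - gluePsi M' N φ z, y) ∈ glueModule M' N φ := by
    rw [mem_glueModule]
    simp only
    rw [map_sub, hzy]
    abel
  refine ⟨z + (1 : S) ⊗ₜ[R] (⟨_, hmem⟩ : glueModule M' N φ), ?_⟩
  rw [map_add, gluePsi_tmul, one_smul]
  change gluePsi M' N φ z + (x' - gluePsi M' N φ z) = x'
  abel

theorem psi_injective [Module.Flat R S]
    (hsurj : ∀ s : S, ∃ r : R, s - algebraMap R S r ∈ I.map (algebraMap R S))
    (hinj : ∀ r : R, algebraMap R S r ∈ I.map (algebraMap R S) → r ∈ I)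
    (hker : ∀ x : M', φ x = 0 → ∃ n : ℕ, ∀ a ∈ I ^ n, algebraMap R S a • x = 0) :
    Function.Injective (gluePsi M' N φ) := by
  rw [injective_iff_map_eq_zero]
  intro z hz
  have h1 : LinearMap.lTensor S (glueSnd M' N φ) z = 0 := by
    rw [← beta_gluePsi, hz, map_zero]
  have hex0 : Function.Exact (LinearMap.ker (glueSnd M' N φ)).subtype (glueSnd M' N φ) :=
    LinearMap.exact_subtype_ker_map (glueSnd M' N φ)
  have hex : Function.Exact (LinearMap.lTensor S (LinearMap.ker (glueSnd M' N φ)).subtype)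
      (LinearMap.lTensor S (glueSnd M' N φ)) :=
    Module.Flat.lTensor_exact S (N := ↥(LinearMap.ker (glueSnd M' N φ)))
      (N' := ↥(glueModule M' N φ)) (N'' := N) hex0
  obtain ⟨y, rfl⟩ := (hex z).mp h1
  -- the kernel of `glueSnd` is `I`-power torsion
  have htors : ∀ t : LinearMap.ker (glueSnd M' N φ), ∃ n : ℕ, ∀ a ∈ I ^ n, a • t = 0 := by
    rintro ⟨t, ht⟩
    rw [LinearMap.mem_ker] at ht
    have h0 : φ (glueFst M' N φ t) = 0 := by
      rw [beta_glueFst, ht, TensorProduct.tmul_zero]
    obtain ⟨n, hn⟩ := hker _ h0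
    refine ⟨n, fun a ha => ?_⟩
    apply Subtype.ext
    apply Subtype.ext
    apply Prod.ext
    · change a • (glueFst M' N φ t) = 0
      rw [← algebraMap_smul S]
      exact hn a ha
    · change a • (glueSnd M' N φ t) = 0
      rw [ht, smul_zero]
  obtain ⟨k₀, rfl⟩ := (Groth.Agent.S2009.bijective_of_torsion I hsurj hinj
    (↥(LinearMap.ker (glueSnd M' N φ))) htors).2 y
  rw [TensorProduct.mk_apply, LinearMap.lTensor_tmul, Submodule.subtype_apply] at hz ⊢
  rw [gluePsi_tmul, one_smul] at hz
  have hk2 : glueSnd M' N φ (k₀ : glueModule M' N φ) = 0 := k₀.2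
  have : (k₀ : glueModule M' N φ) = 0 := by
    apply Subtype.ext
    exact Prod.ext hz hk2
  rw [this, TensorProduct.tmul_zero]

end

/-- Let R -> S be a flat ring map and I a finitely generated ideal of R such that R/I -> S/IS is
bijective. Let N be an R-module, M' an S-module and φ : M' -> S ⊗_R N an S-linear map whose kernel
and cokernel are I-power torsion (every element of the kernel, resp. of the target modulo the image,
is killed by some power of I). Then there are an R-module M, an R-linear map ψ : M -> N and an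
S-isomorphism S ⊗_R M ≅ M' identifying φ with the base change of ψ. -/
theorem result (R S : Type u) [CommRing R] [CommRing S] [Algebra R S] [Module.Flat R S] (I : Ideal R)
    (hI : I.FG) (hq : Function.Bijective (Ideal.quotientMap (I.map (algebraMap R S)) (algebraMap R S) Ideal.le_comap_map))
    (N : Type u) [AddCommGroup N] [Module R N] (M' : Type u) [AddCommGroup M'] [Module S M'] (φ : M' →ₗ[S] S ⊗[R] N)
    (hker : ∀ x : M', φ x = 0 → ∃ n : ℕ, ∀ a ∈ I ^ n, algebraMap R S a • x = 0)
    (hcoker : ∀ y : S ⊗[R] N, ∃ n : ℕ, ∀ a ∈ I ^ n, algebraMap R S a • y ∈ LinearMap.range φ) :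
    ∃ (M : Type u) (_ : AddCommGroup M) (_ : Module R M) (ψ : M →ₗ[R] N) (e : S ⊗[R] M ≃ₗ[S] M'),
      φ ∘ₗ e.toLinearMap = ψ.baseChange S := by
  let _ : Module R M' := Module.compHom M' (algebraMap R S)
  have : IsScalarTower R S M' := IsScalarTower.of_algebraMap_smul (fun r x => rfl)
  have hsurj : ∀ s : S, ∃ r : R, s - algebraMap R S r ∈ I.map (algebraMap R S) := by
    intro s
    obtain ⟨q, hq'⟩ := hq.2 (Ideal.Quotient.mk _ s)
    obtain ⟨r, rfl⟩ := Ideal.Quotient.mk_surjective q
    refine ⟨r, ?_⟩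
    rw [Ideal.quotientMap_mk] at hq'
    rw [← Ideal.Quotient.eq]
    exact hq'.symm
  have hinj : ∀ r : R, algebraMap R S r ∈ I.map (algebraMap R S) → r ∈ I := by
    intro r hr
    rw [← Ideal.Quotient.eq_zero_iff_mem]
    apply hq.1
    rw [Ideal.quotientMap_mk, map_zero, Ideal.Quotient.eq_zero_iff_mem]
    exact hr
  refine ⟨glueModule M' N φ, inferInstance, inferInstance, glueSnd M' N φ,
    LinearEquiv.ofBijective (gluePsi M' N φ)
      ⟨psi_injective I φ hsurj hinj hker, psi_surjective I φ hsurj hcoker⟩, ?_⟩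
  apply LinearMap.ext
  intro z
  rw [LinearMap.comp_apply, LinearEquiv.coe_coe, LinearEquiv.ofBijective_apply, beta_gluePsi]
  rfl

end Groth.Agent.S2007
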