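import Groth.Statements.S2008
import Mathlib

set_option autoImplicit false
universe u
open TensorProduct
open EtAlg

namespace Groth.Agent.S2008

variable {R S : Type u} [CommRing R] [CommRing S] [Algebra R S] (I : Ideal R)

/-- the auxiliary condition: maximal ideals containing `I` do not generate the unit ideal of `S` -/
def P : Prop := ∀ 𝔪 : Ideal R, 𝔪.IsMaximal → I ≤ 𝔪 → 𝔪.map (algebraMap R S) ≠ ⊤

theorem P_of_spec (h2 : Function.Surjective (PrimeSpectrum.comap
    (Ideal.quotientMap (I.map (algebraMap R S)) (algebraMap R S) Ideal.le_comap_map))) :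
    P (S := S) I := by
  intro 𝔪 h𝔪 hI
  have hprime : (𝔪.map (Ideal.Quotient.mk I)).IsPrime :=
    Ideal.map_isPrime_of_surjective Ideal.Quotient.mk_surjective (by rw [Ideal.mk_ker]; exact hI)
  obtain ⟨q', hq'⟩ := h2 ⟨𝔪.map (Ideal.Quotient.mk I), hprime⟩
  have hq'' : Ideal.comap (Ideal.quotientMap (I.map (algebraMap R S)) (algebraMap R S)
      Ideal.le_comap_map) q'.asIdeal = 𝔪.map (Ideal.Quotient.mk I) := by
    rw [← PrimeSpectrum.comap_asIdeal, hq']
  have hle : 𝔪.map (algebraMap R S) ≤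
      Ideal.comap (Ideal.Quotient.mk (I.map (algebraMap R S))) q'.asIdeal := by
    rw [Ideal.map_le_iff_le_comap]
    intro a ha
    rw [Ideal.mem_comap, Ideal.mem_comap, ← Ideal.quotientMap_mk (f := algebraMap R S)
      (H := Ideal.le_comap_map), ← Ideal.mem_comap, hq'']
    exact Ideal.mem_map_of_mem _ ha
  intro htop
  rw [htop, top_le_iff] at hle
  exact (Ideal.comap_ne_top _ q'.isPrime.ne_top) hle

theorem nontrivial_tensor_quot_of_map_ne_top (J : Ideal R) (hJ : J.map (algebraMap R S) ≠ ⊤) :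
    Nontrivial (S ⊗[R] (R ⧸ J)) := by
  have h1 : (J • ⊤ : Submodule R S) ≠ ⊤ := by
    rw [Ideal.smul_top_eq_map]
    intro h
    exact hJ ((Submodule.restrictScalars_eq_top_iff _ _ _).mp h)
  have : Nontrivial (S ⧸ (J • ⊤ : Submodule R S)) := Submodule.Quotient.nontrivial_iff.mpr h1
  exact (TensorProduct.tensorQuotEquivQuotSMul S J).toEquiv.nontrivial

theorem three_of_P [Module.Flat R S] (hP : P (S := S) I) (M : Type u) [AddCommGroup M] [Module R M]
    (hM : ∀ (a : R) (m : M), a ∈ I → a • m = 0) (hnt : Nontrivial M) : Nontrivial (S ⊗[R] M) := by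
  obtain ⟨m, hm⟩ := exists_ne (0 : M)
  set J : Ideal R := LinearMap.ker (LinearMap.toSpanSingleton R M m) with hJ
  have hJI : I ≤ J := fun a ha => by
    rw [hJ, LinearMap.mem_ker, LinearMap.toSpanSingleton_apply]
    exact hM a m ha
  have hJtop : J ≠ ⊤ := by
    intro h
    have : (1 : R) ∈ J := by rw [h]; trivial
    rw [hJ, LinearMap.mem_ker, LinearMap.toSpanSingleton_apply, one_smul] at this
    exact hm this
  obtain ⟨𝔪, h𝔪, hJ𝔪⟩ := Ideal.exists_le_maximal J hJtop
  have h1 : J.map (algebraMap R S) ≠ ⊤ := by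
    intro h
    apply hP 𝔪 h𝔪 (hJI.trans hJ𝔪)
    rw [eq_top_iff, ← h]
    exact Ideal.map_mono hJ𝔪
  have := nontrivial_tensor_quot_of_map_ne_top (S := S) J h1
  let g : R ⧸ J →ₗ[R] M := Submodule.liftQ J (LinearMap.toSpanSingleton R M m) le_rfl
  have hg : Function.Injective g := by
    rw [← LinearMap.ker_eq_bot]
    exact Submodule.ker_liftQ_eq_bot _ _ _ le_rfl
  exact (Module.Flat.lTensor_preserves_injective_linearMap (M := S) g hg).nontrivial

theorem four_of_three [Module.Flat R S]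
    (h3 : ∀ (M : Type u) [AddCommGroup M] [Module R M], (∀ (a : R) (m : M), a ∈ I → a • m = 0) →
      Nontrivial M → Nontrivial (S ⊗[R] M))
    (M : Type u) [AddCommGroup M] [Module R M]
    (hM : ∀ m : M, ∃ n : ℕ, ∀ a ∈ I ^ n, a • m = 0) (hnt : Nontrivial M) :
    Nontrivial (S ⊗[R] M) := by
  classical
  obtain ⟨m, hm⟩ := exists_ne (0 : M)
  have hex := hM m
  have hn0 : Nat.find hex ≠ 0 := by
    intro h0
    have := Nat.find_spec hex 1 (by rw [h0, pow_zero, Ideal.one_eq_top]; trivial)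
    rw [one_smul] at this
    exact hm this
  obtain ⟨k, hk⟩ := Nat.exists_eq_succ_of_ne_zero hn0
  have hmin : ¬ ∀ a ∈ I ^ k, a • m = 0 := Nat.find_min hex (by omega)
  push_neg at hmin
  obtain ⟨b, hb, hbm⟩ := hmin
  let N : Submodule R M :=
    { carrier := {x | ∀ a ∈ I, a • x = 0}
      add_mem' := fun {x y} hx hy a ha => by rw [smul_add, hx a ha, hy a ha, add_zero]
      zero_mem' := fun a _ => smul_zero a
      smul_mem' := fun c x hx a ha => by rw [smul_comm, hx a ha, smul_zero] }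
  have hmN : b • m ∈ N := by
    intro a ha
    rw [← mul_smul]
    apply Nat.find_spec hex
    rw [hk, Nat.succ_eq_add_one, pow_succ']
    exact Ideal.mul_mem_mul ha hb
  have hNnt : Nontrivial N := ⟨⟨⟨b • m, hmN⟩, 0, fun h => hbm (congrArg Subtype.val h)⟩⟩
  have := h3 N (fun a x ha => Subtype.ext (x.2 a ha)) hNnt
  exact (Module.Flat.lTensor_preserves_injective_linearMap (M := S) N.subtype
    N.injective_subtype).nontrivial

theorem P_of_three
    (h3 : ∀ (M : Type u) [AddCommGroup M] [Module R M], (∀ (a : R) (m : M), a ∈ I → a • m = 0) →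
      Nontrivial M → Nontrivial (S ⊗[R] M)) : P (S := S) I := by
  intro 𝔪 h𝔪 hI htop
  have hnt : Nontrivial (R ⧸ 𝔪) := Ideal.Quotient.nontrivial_iff.mpr h𝔪.ne_top
  have := h3 (R ⧸ 𝔪) (fun a m ha => by
    obtain ⟨r, rfl⟩ := Ideal.Quotient.mk_surjective m
    rw [← Ideal.Quotient.mk_eq_mk, ← Submodule.Quotient.mk_smul, Ideal.Quotient.mk_eq_mk,
      Ideal.Quotient.eq_zero_iff_mem, smul_eq_mul]
    exact 𝔪.mul_mem_right _ (hI ha)) hnt
  have h2 : Nontrivial (S ⧸ (𝔪 • ⊤ : Submodule R S)) :=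
    (TensorProduct.tensorQuotEquivQuotSMul S 𝔪).symm.toEquiv.nontrivial
  rw [Submodule.Quotient.nontrivial_iff, Ideal.smul_top_eq_map, htop] at h2
  exact h2 (by simp)

theorem one_of_P [Module.Flat R S] (hP : P (S := S) I) :
    Module.FaithfullyFlat (R ⧸ I) (S ⧸ I.map (algebraMap R S)) := by
  have hflat : Module.Flat (R ⧸ I) (S ⧸ I.map (algebraMap R S)) :=
    Module.Flat.of_linearEquiv
      (Algebra.TensorProduct.quotIdealMapEquivQuotTensor S I).toLinearEquiv
  refine ⟨fun 𝔫 h𝔫 => ?_⟩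
  intro htop
  have h𝔪 : (𝔫.comap (Ideal.Quotient.mk I)).IsMaximal :=
    Ideal.comap_isMaximal_of_surjective _ Ideal.Quotient.mk_surjective
  have hI : I ≤ 𝔫.comap (Ideal.Quotient.mk I) := by
    intro a ha
    rw [Ideal.mem_comap, Ideal.Quotient.eq_zero_iff_mem.mpr ha]
    exact 𝔫.zero_mem
  apply hP _ h𝔪 hI
  rw [Ideal.smul_top_eq_map, Submodule.restrictScalars_eq_top_iff] at htop
  -- 𝔫 S/IS = ⊤, so 𝔪 S + I S = S
  have h𝔫 : 𝔫 = (𝔫.comap (Ideal.Quotient.mk I)).map (Ideal.Quotient.mk I) :=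
    (Ideal.map_comap_of_surjective _ Ideal.Quotient.mk_surjective 𝔫).symm
  rw [h𝔫, Ideal.map_map] at htop
  have hcomp : (algebraMap (R ⧸ I) (S ⧸ I.map (algebraMap R S))).comp (Ideal.Quotient.mk I) =
      (Ideal.Quotient.mk (I.map (algebraMap R S))).comp (algebraMap R S) := by
    ext a
    rfl
  rw [hcomp, ← Ideal.map_map] at htop
  have := congrArg (Ideal.comap (Ideal.Quotient.mk (I.map (algebraMap R S)))) htop
  rw [Ideal.comap_map_of_surjective _ Ideal.Quotient.mk_surjective, Ideal.comap_top,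
    ← RingHom.ker_eq_comap_bot, Ideal.mk_ker] at this
  rw [← this, eq_comm, sup_eq_left]
  exact Ideal.map_mono hI

/-- For a ring map R -> S and an ideal I of R the following are equivalent: (1) S is flat over R and
S/IS is faithfully flat over R/I; (2) S is flat over R and Spec(S/IS) -> Spec(R/I) is surjective;
(3) S is flat over R and S ⊗_R M is nonzero for every nonzero R-module M killed by I; (4) S is flat
over R and S ⊗_R M is nonzero for every nonzero I-power torsion R-module M. (Faithfulness of base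
change on these subcategories is stated as detection of nonzero objects, which is equivalent for an
exact functor.) -/
theorem result (R S : Type u) [CommRing R] [CommRing S] [Algebra R S] (I : Ideal R) :
    List.TFAE [
      Module.Flat R S ∧ Module.FaithfullyFlat (R ⧸ I) (S ⧸ I.map (algebraMap R S)),
      Module.Flat R S ∧ Function.Surjective (PrimeSpectrum.comap (Ideal.quotientMap (I.map (algebraMap R S)) (algebraMap R S) Ideal.le_comap_map)),
      Module.Flat R S ∧ ∀ (M : Type u) [AddCommGroup M] [Module R M], (∀ (a : R) (m : M), a ∈ I → a • m = 0) →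
        Nontrivial M → Nontrivial (S ⊗[R] M),
      Module.Flat R S ∧ ∀ (M : Type u) [AddCommGroup M] [Module R M], (∀ m : M, ∃ n : ℕ, ∀ a ∈ I ^ n, a • m = 0) →
        Nontrivial M → Nontrivial (S ⊗[R] M)] := by
  tfae_have 1 → 2 := by
    rintro ⟨hf, hff⟩
    exact ⟨hf, PrimeSpectrum.comap_surjective_of_faithfullyFlat
      (A := R ⧸ I) (B := S ⧸ I.map (algebraMap R S))⟩
  tfae_have 2 → 3 := by
    rintro ⟨hf, h2⟩
    exact ⟨hf, fun M _ _ hM hnt => three_of_P I (P_of_spec I h2) M hM hnt⟩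
  tfae_have 3 → 4 := by
    rintro ⟨hf, h3⟩
    exact ⟨hf, fun M _ _ hM hnt => four_of_three I h3 M hM hnt⟩
  tfae_have 4 → 1 := by
    rintro ⟨hf, h4⟩
    refine ⟨hf, one_of_P I (P_of_three I fun M _ _ hM hnt => h4 M (fun m => ⟨1, fun a ha => ?_⟩) hnt)⟩
    rw [pow_one] at ha
    exact hM a m ha
  tfae_finish

end Groth.Agent.S2008
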