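import Groth.Statements.S2010
import Groth.Agent.Lib.Helper10.ExtTorsionConcrete
import Groth.Agent.Lib.Helper32.YonedaExt
import Groth.Agent.S2009
-- import your own Groth.Agent.* helpers here

set_option autoImplicit false
universe u
open TensorProduct
open EtAlg

namespace Groth.Agent.S2010

/-- Let R -> S be flat and I a finitely generated ideal with R/I -> S/IS bijective; let N be an R-module
and M an I-power torsion R-module. For every short exact sequence 0 -> S ⊗_R N -> E' -> S ⊗_R M -> 0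
of S-modules there are a short exact sequence 0 -> N -> E -> M -> 0 of R-modules and an R-linear map
E -> E' making the two squares with the maps n ↦ 1 ⊗ n and m ↦ 1 ⊗ m commute. -/
theorem result (R S : Type u) [CommRing R] [CommRing S] [Algebra R S] [Module.Flat R S] (I : Ideal R)
    (hI : I.FG) (hq : Function.Bijective (Ideal.quotientMap (I.map (algebraMap R S)) (algebraMap R S) Ideal.le_comap_map))
    (N M : Type u) [AddCommGroup N] [Module R N] [AddCommGroup M] [Module R M]
    (hM : ∀ m : M, ∃ n : ℕ, ∀ a ∈ I ^ n, a • m = 0)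
    (E' : Type u) [AddCommGroup E'] [Module S E'] [Module R E'] [IsScalarTower R S E'] (i' : S ⊗[R] N →ₗ[S] E') (p' : E' →ₗ[S] S ⊗[R] M)
    (hi' : Function.Injective i') (hp' : Function.Surjective p') (hex' : LinearMap.range i' = LinearMap.ker p') :
    ∃ (E : Type u) (_ : AddCommGroup E) (_ : Module R E) (i : N →ₗ[R] E) (p : E →ₗ[R] M) (g : E →ₗ[R] E'),
      Function.Injective i ∧ Function.Surjective p ∧ LinearMap.range i = LinearMap.ker p ∧
      (∀ n : N, g (i n) = i' ((1 : S) ⊗ₜ[R] n)) ∧ (∀ e : E, p' (g e) = (1 : S) ⊗ₜ[R] p e) := by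
  classical
  -- the hypotheses on `R/I → S/IS`, elementwise
  have hsurj : ∀ s : S, ∃ r : R, s - algebraMap R S r ∈ I.map (algebraMap R S) := by
    intro s
    obtain ⟨r, hr⟩ := hq.2 (Ideal.Quotient.mk _ s)
    obtain ⟨r, rfl⟩ := Ideal.Quotient.mk_surjective r
    refine ⟨r, ?_⟩
    rw [Ideal.quotientMap_mk, Ideal.Quotient.eq] at hr
    have := (Ideal.neg_mem_iff _).mpr hr
    simpa using this
  have hinj : ∀ r : R, algebraMap R S r ∈ I.map (algebraMap R S) → r ∈ I := by
    intro r hr
    have h0 : Ideal.quotientMap (I.map (algebraMap R S)) (algebraMap R S) Ideal.le_comap_map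
        (Ideal.Quotient.mk I r) = 0 := by
      rw [Ideal.quotientMap_mk, Ideal.Quotient.eq_zero_iff_mem]
      exact hr
    have h1 := hq.1 (h0.trans (map_zero _).symm)
    exact Ideal.Quotient.eq_zero_iff_mem.mp h1
  obtain ⟨s, hsI⟩ := hI
  have hsub : ∀ a ∈ s, a ∈ I := fun a ha => hsI ▸ Ideal.subset_span ha
  let M' : ModuleCat.{u} R := ModuleCat.of R M
  let N' : ModuleCat.{u} R := ModuleCat.of R N
  have hM' : ∀ a ∈ s, ∀ m : M', ∃ k : ℕ, a ^ k • m = 0 := by
    intro a ha m
    obtain ⟨k, hk⟩ := hM m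
    exact ⟨k, hk _ (Ideal.pow_mem_pow (hsub a ha) k)⟩
  have htors : ∀ Y : ModuleCat.{u} R, (∀ a ∈ s, ∀ y : Y, ∃ k : ℕ, a ^ k • y = 0) →
      ∀ y : Y, ∃ n : ℕ, ∀ a ∈ I ^ n, a • y = 0 := by
    intro Y hY y
    have hle : I ≤ Ideal.radical (LinearMap.ker (LinearMap.toSpanSingleton R Y y)) := by
      rw [← hsI, Ideal.span_le]
      intro a ha
      obtain ⟨k, hk⟩ := hY a ha y
      exact ⟨k, by rw [LinearMap.mem_ker, LinearMap.toSpanSingleton_apply]; exact hk⟩
    obtain ⟨k, hk⟩ := Ideal.exists_pow_le_of_le_radical_of_fg hle ⟨s, hsI⟩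
    refine ⟨k, fun a ha => ?_⟩
    have := hk ha
    rw [LinearMap.mem_ker, LinearMap.toSpanSingleton_apply] at this
    exact this
  have hbase : ∀ Y : ModuleCat.{u} R, (∀ a ∈ s, ∀ y : Y, ∃ k : ℕ, a ^ k • y = 0) →
      Function.Bijective (TensorProduct.mk R S Y 1) :=
    fun Y hY => Groth.Agent.S2009.bijective_of_torsion I hsurj hinj Y (htors Y hY)
  have hP := Groth.Agent.Lib.Helper10.ExtTorsion.postBij_tMap (B := S) M' s hM' hbase N' 1
  -- the given extension as a short exact sequence of `R`-modules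
  let X₁ : ModuleCat.{u} R := ModuleCat.of R (S ⊗[R] N)
  let X₂ : ModuleCat.{u} R := ModuleCat.of R E'
  let X₃ : ModuleCat.{u} R := ModuleCat.of R (S ⊗[R] M)
  let f' : X₁ ⟶ X₂ := ModuleCat.ofHom (i'.restrictScalars R)
  let g' : X₂ ⟶ X₃ := ModuleCat.ofHom (p'.restrictScalars R)
  have w' : CategoryTheory.CategoryStruct.comp f' g' = 0 := by
    apply ModuleCat.hom_ext
    apply LinearMap.ext
    intro x
    show p' (i' x) = 0
    have : i' x ∈ LinearMap.ker p' := hex' ▸ LinearMap.mem_range_self i' x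
    exact this
  let S' : CategoryTheory.ShortComplex (ModuleCat.{u} R) := CategoryTheory.ShortComplex.mk f' g' w'
  have hS' : S'.ShortExact := by
    refine CategoryTheory.ShortComplex.ShortExact.mk' ?_ ?_ ?_
    · rw [CategoryTheory.ShortComplex.moduleCat_exact_iff_range_eq_ker]
      show LinearMap.range (i'.restrictScalars R) = LinearMap.ker (p'.restrictScalars R)
      ext x
      have := congrArg (fun T : Submodule S E' => x ∈ T) hex'
      simpa using this
    · exact (ModuleCat.mono_iff_injective _).mpr hi'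
    · exact (ModuleCat.epi_iff_surjective _).mpr hp'
  let ηN : N' ⟶ X₁ := Groth.Agent.Lib.Helper10.ExtTorsion.tMap S N'
  let ηM : M' ⟶ X₃ := Groth.Agent.Lib.Helper10.ExtTorsion.tMap S M'
  -- lift the class
  obtain ⟨c, hc⟩ := hP.2 ((CategoryTheory.Abelian.Ext.mk₀ ηM).comp hS'.extClass (zero_add 1))
  obtain ⟨E, i, p, w, hS, hcl⟩ := Groth.Agent.Lib.Helper32.YonedaExt.exists_shortExact_extClass_eq c
  have hcomp : hS.extClass.comp (CategoryTheory.Abelian.Ext.mk₀ ηN) (add_zero 1) =
      (CategoryTheory.Abelian.Ext.mk₀ ηM).comp hS'.extClass (zero_add 1) := by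
    rw [hcl]; exact hc
  obtain ⟨g, hg1, hg2⟩ := Groth.Agent.Lib.Helper32.YonedaExt.exists_hom_of_extClass_comp
    hS hS' ηN ηM hcomp
  refine ⟨E, inferInstance, inferInstance, i.hom, p.hom, g.hom, ?_, ?_, ?_, ?_, ?_⟩
  · exact (ModuleCat.mono_iff_injective i).mp hS.mono_f
  · exact (ModuleCat.epi_iff_surjective p).mp hS.epi_g
  · have := (CategoryTheory.ShortComplex.moduleCat_exact_iff_range_eq_ker _).mp hS.exact
    exact this
  · intro n
    have := CategoryTheory.ConcreteCategory.congr_hom hg1 n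
    exact this
  · intro e
    have := CategoryTheory.ConcreteCategory.congr_hom hg2 e
    exact this

end Groth.Agent.S2010
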