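import Groth.Statements.S9832
import Mathlib
import Groth.Agent.Lib.Helper48.JacPunct
-- import your own Groth.Agent.* helpers here

set_option autoImplicit false
universe u
open Props

namespace Groth.Agent.S9832

/-- For a Noetherian ring R and an ideal I inside the Jacobson radical of R, the complement of V(I) in
Spec R is a Jacobson topological space. -/
theorem result (R : Type u) [CommRing R] [IsNoetherianRing R]
    (I : Ideal R) (hI : I ≤ (⊥ : Ideal R).jacobson) :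
    JacobsonSpace ↥((PrimeSpectrum.zeroLocus (I : Set R))ᶜ) := by
  rw [jacobsonSpace_iff_locallyClosed]
  rintro Z ⟨⟨p, hpU⟩, hpZ⟩ hZlc
  obtain ⟨O, C, hOo, hCc, rfl⟩ := hZlc
  obtain ⟨hpO, hpC⟩ := hpZ
  obtain ⟨O', hO'o, rfl⟩ := isOpen_induced_iff.mp hOo
  have hUo : IsOpen ((PrimeSpectrum.zeroLocus (I : Set R))ᶜ) :=
    (PrimeSpectrum.isClosed_zeroLocus _).isOpen_compl
  obtain ⟨_, ⟨f, rfl⟩, hpf, hfO⟩ :=
    PrimeSpectrum.isTopologicalBasis_basic_opens.exists_subset_of_mem_open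
      (show p ∈ O' ∩ (PrimeSpectrum.zeroLocus (I : Set R))ᶜ from ⟨hpO, hpU⟩) (hO'o.inter hUo)
  obtain ⟨q, ⟨hqprime, hpq, hfq⟩, hqmax⟩ :=
    set_has_maximal_iff_noetherian.mpr (inferInstance : IsNoetherian R R)
      {q : Ideal R | q.IsPrime ∧ p.asIdeal ≤ q ∧ f ∉ q}
      ⟨p.asIdeal, p.2, le_rfl, (PrimeSpectrum.mem_basicOpen f p).mp hpf⟩
  have hq'fO : (⟨q, hqprime⟩ : PrimeSpectrum R) ∈
      O' ∩ (PrimeSpectrum.zeroLocus (I : Set R))ᶜ :=
    hfO ((PrimeSpectrum.mem_basicOpen f ⟨q, hqprime⟩).mpr hfq)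
  have hq'U : (⟨q, hqprime⟩ : PrimeSpectrum R) ∈ (PrimeSpectrum.zeroLocus (I : Set R))ᶜ :=
    hq'fO.2
  have hspec : (⟨p, hpU⟩ : ↥((PrimeSpectrum.zeroLocus (I : Set R))ᶜ)) ⤳
      ⟨⟨q, hqprime⟩, hq'U⟩ := by
    rw [subtype_specializes_iff]
    exact (PrimeSpectrum.le_iff_specializes _ _).mp
      ((PrimeSpectrum.asIdeal_le_asIdeal p ⟨q, hqprime⟩).mp hpq)
  refine ⟨⟨⟨q, hqprime⟩, hq'U⟩, ⟨hq'fO.1, hspec.mem_closed hCc hpC⟩, ?_⟩
  show IsClosed ({⟨⟨q, hqprime⟩, hq'U⟩} : Set ↥((PrimeSpectrum.zeroLocus (I : Set R))ᶜ))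
  have hset : ({⟨⟨q, hqprime⟩, hq'U⟩} : Set ↥((PrimeSpectrum.zeroLocus (I : Set R))ᶜ)) =
      Subtype.val ⁻¹' (PrimeSpectrum.zeroLocus (q : Set R)) := by
    ext ⟨y, hyU⟩
    simp only [Set.mem_singleton_iff, Set.mem_preimage, Subtype.mk.injEq,
      PrimeSpectrum.mem_zeroLocus, SetLike.coe_subset_coe]
    constructor
    · intro h
      rw [h]
    · intro hqy
      by_contra hne
      have hlt : q < y.asIdeal := lt_of_le_of_ne hqy (fun h => hne (PrimeSpectrum.ext h.symm))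
      have hynm : ¬ y.asIdeal.IsMaximal := by
        intro hmax
        apply hyU
        rw [PrimeSpectrum.mem_zeroLocus, SetLike.coe_subset_coe]
        exact hI.trans (show sInf {J : Ideal R | ⊥ ≤ J ∧ J.IsMaximal} ≤ _ from
          sInf_le ⟨bot_le, hmax⟩)
      obtain ⟨m, hm, hym⟩ := Ideal.exists_le_maximal y.asIdeal y.2.ne_top
      have hlt2 : y.asIdeal < m := lt_of_le_of_ne hym (fun h => hynm (h ▸ hm))
      haveI := hm.isPrime
      haveI := y.2
      refine Groth.Agent.Lib.Helper48.JacPunct.no_chain q y.asIdeal m hlt hlt2 f hfq ?_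
      intro q2 hq2 hqq2
      by_contra hfq2
      exact hqmax q2 ⟨hq2, hpq.trans hqq2.le, hfq2⟩ hqq2
  rw [hset]
  exact (PrimeSpectrum.isClosed_zeroLocus _).preimage continuous_subtype_val

end Groth.Agent.S9832
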