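import Groth.Statements.S2011
import Mathlib
import Groth.Agent.S9832
-- import your own Groth.Agent.* helpers here

set_option autoImplicit false
universe u
open EtAlg

namespace Groth.Agent.S2011

/-- Let A be a Noetherian ring and I an ideal contained in the Jacobson radical of A (a Zariski pair).
Then for every f in I the localization A_f is a Jacobson ring. -/
theorem result (A : Type u) [CommRing A] [IsNoetherianRing A] (I : Ideal A)
    (hI : I ≤ (⊥ : Ideal A).jacobson) (f : A) (hf : f ∈ I) : IsJacobsonRing (Localization.Away f) := by
  rw [PrimeSpectrum.isJacobsonRing_iff_jacobsonSpace]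
  haveI := Groth.Agent.S9832.result A I hI
  have hemb := PrimeSpectrum.localization_away_isOpenEmbedding (Localization.Away f) f
  have hrange := PrimeSpectrum.localization_away_comap_range (Localization.Away f) f
  have hUo : IsOpen ((PrimeSpectrum.zeroLocus (I : Set A))ᶜ) :=
    (PrimeSpectrum.isClosed_zeroLocus _).isOpen_compl
  have hsub : ∀ y : PrimeSpectrum (Localization.Away f),
      PrimeSpectrum.comap (algebraMap A (Localization.Away f)) y ∈
        (PrimeSpectrum.zeroLocus (I : Set A))ᶜ := by
    intro y hy
    have h1 : PrimeSpectrum.comap (algebraMap A (Localization.Away f)) y ∈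
        (PrimeSpectrum.basicOpen f : Set (PrimeSpectrum A)) := by
      rw [← hrange]
      exact ⟨y, rfl⟩
    exact h1 (hy hf)
  have hg : Topology.IsOpenEmbedding
      (fun y : PrimeSpectrum (Localization.Away f) =>
        (⟨PrimeSpectrum.comap (algebraMap A (Localization.Away f)) y, hsub y⟩ :
          ↥((PrimeSpectrum.zeroLocus (I : Set A))ᶜ))) := by
    rw [← Topology.IsOpenEmbedding.of_comp_iff _ hUo.isOpenEmbedding_subtypeVal]
    exact hemb
  exact JacobsonSpace.of_isOpenEmbedding hg

end Groth.Agent.S2011
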