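import Groth.Statements.S2012
import Mathlib.RingTheory.Flat.EquationalCriterion
import Mathlib.RingTheory.Finiteness.ModuleFinitePresentation
import Mathlib.RingTheory.IntegralClosure.IsIntegralClosure.Basic
import Mathlib.RingTheory.Nakayama
-- import your own Groth.Agent.* helpers here

set_option autoImplicit false
universe u
open EtAlg

namespace Groth.Agent.S2012

/-- Let A be a ring and I an ideal contained in its Jacobson radical. Let B be an A-algebra which is
flat, integral and of finite presentation over A and such that A/I -> B/IB is bijective. Then A -> B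
is bijective. -/
theorem result (A B : Type u) [CommRing A] [CommRing B] [Algebra A B]
    (I : Ideal A) (hI : I ≤ (⊥ : Ideal A).jacobson) [Module.Flat A B] [Algebra.IsIntegral A B] [Algebra.FinitePresentation A B]
    (hq : Function.Bijective (Ideal.quotientMap (I.map (algebraMap A B)) (algebraMap A B) Ideal.le_comap_map)) :
    Function.Bijective (algebraMap A B) := by
  have hfin : Module.Finite A B := Algebra.IsIntegral.finite
  have hfp : Module.FinitePresentation A B :=
    Module.FinitePresentation.of_finite_of_finitePresentation A B
  have hproj : Module.Projective A B := Module.Flat.projective_of_finitePresentation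
  -- the quotient map in elementwise form
  have hqm : ∀ a : A, Ideal.quotientMap (I.map (algebraMap A B)) (algebraMap A B)
      Ideal.le_comap_map (Ideal.Quotient.mk I a) =
      Ideal.Quotient.mk (I.map (algebraMap A B)) (algebraMap A B a) := fun a => by simp
  -- surjectivity by Nakayama
  have hsurj : Function.Surjective (algebraMap A B) := by
    have htop : (⊤ : Submodule A B) ≤ LinearMap.range (Algebra.linearMap A B) := by
      apply Submodule.le_of_le_smul_of_le_jacobson_bot (I := I) Module.Finite.fg_top hI
      intro b _
      obtain ⟨x, hx⟩ := hq.2 (Ideal.Quotient.mk _ b)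
      obtain ⟨a, rfl⟩ := Ideal.Quotient.mk_surjective x
      rw [hqm, Ideal.Quotient.eq] at hx
      have hb : b = algebraMap A B a + (b - algebraMap A B a) := by ring
      rw [hb]
      apply Submodule.add_mem_sup
      · exact ⟨a, rfl⟩
      · rw [Ideal.smul_top_eq_map]
        have := (I.map (algebraMap A B)).neg_mem hx
        simpa using this
    intro b
    obtain ⟨a, ha⟩ := htop (Submodule.mem_top (x := b))
    exact ⟨a, ha⟩
  refine ⟨?_, hsurj⟩
  -- injectivity: split the surjection using projectivity
  obtain ⟨s, hs⟩ := Module.projective_lifting_property (Algebra.linearMap A B)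
    (LinearMap.id : B →ₗ[A] B) hsurj
  have hs' : ∀ b : B, algebraMap A B (s b) = b := fun b => by
    have := LinearMap.congr_fun hs b
    simpa using this
  set e : A := 1 - s 1 with he
  have he0 : algebraMap A B e = 0 := by
    rw [he, map_sub, map_one, hs', sub_self]
  have hker : ∀ k : A, algebraMap A B k = 0 → k = k * e := by
    intro k hk
    have h1 : s (algebraMap A B k) = k * s 1 := by
      rw [Algebra.algebraMap_eq_smul_one, map_smul, smul_eq_mul]
    rw [hk, map_zero] at h1
    rw [he, mul_sub, mul_one, ← h1, sub_zero]
  have heI : e ∈ I := by
    rw [← Ideal.Quotient.eq_zero_iff_mem]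
    apply hq.1
    rw [hqm, he0, map_zero, map_zero]
  have hunit : IsUnit (1 - e) := by
    have := (Ideal.mem_jacobson_bot.1 (hI heI)) (-1)
    have h2 : e * -1 + 1 = 1 - e := by ring
    rwa [h2] at this
  have hee : e * (1 - e) = 0 := by
    have := hker e he0
    rw [mul_sub, mul_one, ← this, sub_self]
  have he_zero : e = 0 := by
    obtain ⟨u, hu⟩ := hunit
    have : e * (u : A) = 0 := by rw [hu]; exact hee
    calc e = e * (u : A) * ((u⁻¹ : Aˣ) : A) := by rw [mul_assoc, Units.mul_inv, mul_one]
      _ = 0 := by rw [this, zero_mul]
  rw [injective_iff_map_eq_zero]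
  intro k hk
  rw [hker k hk, he_zero, mul_zero]

end Groth.Agent.S2012
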