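import Groth.Statements.S2014
import Mathlib

set_option autoImplicit false
universe u
open EtAlg

namespace Groth.Agent.S2014

theorem result (R : Type u) [CommRing R] [IsNoetherianRing R] [IsLocalRing R]
    (hdim : ringKrullDim R = 1) (x : R) (hx : x ∈ IsLocalRing.maximalIdeal R) (hmin : ∀ p ∈ minimalPrimes R, x ∉ p) :
    (Set.ncard (minimalPrimes R) : ℕ∞) ≤ Module.length R (R ⧸ Ideal.span {x}) := by
  classical
  have hfin : (minimalPrimes R).Finite := minimalPrimes.finite_of_isNoetherianRing R
  have hlen : Module.length R (R ⧸ Ideal.span {x}) = Order.coheight (Ideal.span {x} : Ideal R) :=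
    Module.length_quotient
  rw [hlen]
  -- induction over finite sets of minimal primes
  have key : ∀ S : Finset (Ideal R), (∀ p ∈ S, p ∈ minimalPrimes R) →
      (S.card : ℕ∞) ≤ Order.coheight (S.inf id ⊔ Ideal.span {x} : Ideal R) := by
    intro S
    induction S using Finset.induction_on with
    | empty => intro _; simp
    | insert p S hpS ih =>
      intro hS
      have hS' : ∀ q ∈ S, q ∈ minimalPrimes R := fun q hq => hS q (Finset.mem_insert_of_mem hq)
      have hp : p ∈ minimalPrimes R := hS p (Finset.mem_insert_self p S)
      have hpprime : p.IsPrime := hp.1.1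
      have ih' := ih hS'
      rw [Finset.card_insert_of_notMem hpS, Finset.inf_insert, id]
      have hlt : (p ⊓ S.inf id) ⊔ Ideal.span {x} < S.inf id ⊔ Ideal.span {x} := by
        refine lt_of_le_of_ne (sup_le_sup_right inf_le_right _) ?_
        intro heq
        -- Nakayama
        have h1 : S.inf id ≤ (p ⊓ S.inf id) ⊔ Ideal.span {x} • S.inf id := by
          intro a ha
          have ha' : a ∈ (p ⊓ S.inf id) ⊔ Ideal.span {x} := by
            rw [heq]; exact Ideal.mem_sup_left ha
          obtain ⟨b, hb, c, hc, rfl⟩ := Submodule.mem_sup.mp ha'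
          obtain ⟨r, rfl⟩ := Ideal.mem_span_singleton'.mp hc
          have hr : r ∈ S.inf id := by
            rw [Submodule.mem_finsetInf]
            intro q hq
            have hq' := hS' q hq
            have hxq : x ∉ q := hmin q hq'
            have h2 : r * x ∈ q := by
              have h3 : b + r * x ∈ q := (Finset.inf_le hq : S.inf id ≤ id q) ha
              have h4 : b ∈ q := (Finset.inf_le hq : S.inf id ≤ id q) hb.2
              have : r * x = (b + r * x) - b := by ring
              rw [this]
              exact Ideal.sub_mem _ h3 h4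
            exact (hq'.1.1.mem_or_mem h2).resolve_right hxq
          refine Submodule.add_mem_sup hb ?_
          rw [mul_comm]
          exact Submodule.smul_mem_smul (Ideal.mem_span_singleton_self x) hr
        have hjac : Ideal.span {x} ≤ Ideal.jacobson (⊥ : Ideal R) := by
          rw [IsLocalRing.jacobson_eq_maximalIdeal ⊥ bot_ne_top, Ideal.span_singleton_le_iff_mem]
          exact hx
        have h5 : S.inf id ≤ p ⊓ S.inf id :=
          Submodule.le_of_le_smul_of_le_jacobson_bot (IsNoetherian.noetherian _) hjac h1
        have h6 : S.inf id ≤ p := le_trans h5 inf_le_left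
        obtain ⟨q, hq, hqp⟩ := (Ideal.IsPrime.inf_le' hpprime).mp h6
        have hq' := hS' q hq
        have : q = p := le_antisymm hqp (hp.2 ⟨hq'.1.1, bot_le⟩ hqp)
        exact hpS (this ▸ hq)
      calc ((S.card + 1 : ℕ) : ℕ∞) = (S.card : ℕ∞) + 1 := by push_cast; rfl
        _ ≤ Order.coheight (S.inf id ⊔ Ideal.span {x} : Ideal R) + 1 := by gcongr
        _ ≤ Order.coheight ((p ⊓ S.inf id) ⊔ Ideal.span {x} : Ideal R) :=
          Order.coheight_add_one_le hlt
  have h7 := key hfin.toFinset (fun p hp => hfin.mem_toFinset.mp hp)
  rw [Set.ncard_eq_toFinset_card _ hfin]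
  refine le_trans h7 ?_
  exact Order.coheight_anti le_sup_right

end Groth.Agent.S2014
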