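import Groth.Statements.S2015
import Mathlib

set_option autoImplicit false
universe u
open EtAlg

namespace Groth.Agent.S2015

open Submodule

theorem exists_dvd_all_finset {B : Type*} [CommRing B] (hB : ∀ a b : B, a ∣ b ∨ b ∣ a)
    (T : Finset B) (hT : T.Nonempty) : ∃ d ∈ T, ∀ t ∈ T, d ∣ t := by
  classical
  induction hT using Finset.Nonempty.cons_induction with
  | singleton a =>
    exact ⟨a, Finset.mem_singleton_self a, fun t ht => by rw [Finset.mem_singleton.mp ht]⟩
  | cons a s ha hs ih =>
    obtain ⟨d, hd, hdt⟩ := ih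
    rcases hB a d with h | h
    · refine ⟨a, Finset.mem_cons_self a s, fun t ht => ?_⟩
      rcases Finset.mem_cons.mp ht with rfl | ht
      · exact dvd_rfl
      · exact h.trans (hdt t ht)
    · refine ⟨d, Finset.mem_cons.mpr (Or.inr hd), fun t ht => ?_⟩
      rcases Finset.mem_cons.mp ht with rfl | ht
      · exact h
      · exact hdt t ht

theorem step {R : Type u} [CommRing R] (hR : ∀ a b : R, a ∣ b ∨ b ∣ a) {n : ℕ} (M : Type u)
    [AddCommGroup M] [Module R M] [Module.FinitePresentation R M] (x : Fin (n + 1) → M)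
    (hx : span R (Set.range x) = ⊤) :
    ∃ (d : R) (M'' : Submodule R M) (x' : Fin n → M''), Module.FinitePresentation R M'' ∧
      span R (Set.range x') = ⊤ ∧ Nonempty (M ≃ₗ[R] (R ⧸ Ideal.span {d}) × M'') := by
  classical
  let π : (Fin (n + 1) → R) →ₗ[R] M := Fintype.linearCombination R x
  have hπx : ∀ w, π w = ∑ j, w j • x j := fun w => Fintype.linearCombination_apply R x w
  have hπ : Function.Surjective π := by
    rw [← LinearMap.range_eq_top, Fintype.range_linearCombination, hx]
  obtain ⟨S, hS⟩ := Module.FinitePresentation.fg_ker π hπ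
  let T : Finset R := insert 0 (S.biUnion fun k => Finset.univ.image k)
  obtain ⟨d, hdT, hd⟩ := exists_dvd_all_finset hR T (Finset.insert_nonempty _ _)
  have hdiv : ∀ v ∈ LinearMap.ker π, ∀ j, d ∣ v j := by
    intro v hv
    rw [← hS] at hv
    induction hv using span_induction with
    | mem k hk =>
      intro j
      exact hd (k j) (Finset.mem_insert_of_mem (Finset.mem_biUnion.mpr
        ⟨k, hk, Finset.mem_image_of_mem _ (Finset.mem_univ j)⟩))
    | zero => intro j; exact dvd_zero d
    | add a b _ _ ha hb => intro j; exact dvd_add (ha j) (hb j)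
    | smul r a _ ha => intro j; exact Dvd.dvd.mul_left (ha j) r
  have hk₀ : ∃ k₀ ∈ LinearMap.ker π, ∃ j₀, k₀ j₀ = d := by
    rcases Finset.mem_insert.mp hdT with rfl | h
    · exact ⟨0, zero_mem _, 0, rfl⟩
    · obtain ⟨k, hk, hkd⟩ := Finset.mem_biUnion.mp h
      obtain ⟨j, _, rfl⟩ := Finset.mem_image.mp hkd
      exact ⟨k, hS ▸ subset_span hk, j, rfl⟩
  obtain ⟨k₀, hk₀K, j₀, hk₀d⟩ := hk₀
  choose q hq using fun j => hdiv k₀ hk₀K j
  let u : Fin (n + 1) → R := Function.update q j₀ 1
  have huj₀ : u j₀ = 1 := Function.update_self ..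
  have hu : k₀ = d • u := by
    funext j
    by_cases hj : j = j₀
    · subst hj
      rw [Pi.smul_apply, huj₀, smul_eq_mul, mul_one, hk₀d]
    · rw [Pi.smul_apply, smul_eq_mul]
      change k₀ j = d * Function.update q j₀ 1 j
      rw [Function.update_of_ne hj, hq j]
  let y : M := π u
  have hdy : d • y = 0 := by
    rw [← map_smul, ← hu]
    exact LinearMap.mem_ker.mp hk₀K
  have hann : ∀ r : R, r • y = 0 → d ∣ r := by
    intro r hr
    have h1 : r • u ∈ LinearMap.ker π := by
      rw [LinearMap.mem_ker, map_smul]; exact hr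
    have h2 := hdiv _ h1 j₀
    rwa [Pi.smul_apply, huj₀, smul_eq_mul, mul_one] at h2
  let x' : Fin n → M := fun i => x (j₀.succAbove i)
  let M'' : Submodule R M := span R (Set.range x')
  have hM'' : ∀ z ∈ M'', ∃ w : Fin (n + 1) → R, w j₀ = 0 ∧ π w = z := by
    intro z hz
    induction hz using span_induction with
    | mem z hz =>
      obtain ⟨i, rfl⟩ := hz
      refine ⟨Pi.single (j₀.succAbove i) 1, ?_, ?_⟩
      · rw [Pi.single_apply, if_neg (Fin.succAbove_ne j₀ i).symm]
      · rw [hπx]
        simp [Pi.single_apply, x']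
    | zero => exact ⟨0, rfl, map_zero _⟩
    | add a b _ _ ha hb =>
      obtain ⟨w, hw0, hw⟩ := ha
      obtain ⟨w', hw0', hw'⟩ := hb
      exact ⟨w + w', by rw [Pi.add_apply, hw0, hw0', add_zero], by rw [map_add, hw, hw']⟩
    | smul r a _ ha =>
      obtain ⟨w, hw0, hw⟩ := ha
      exact ⟨r • w, by rw [Pi.smul_apply, hw0, smul_zero], by rw [map_smul, hw]⟩
  have hdisj : Disjoint (span R {y}) M'' := by
    rw [Submodule.disjoint_def]
    intro z hz1 hz2
    obtain ⟨r, rfl⟩ := mem_span_singleton.mp hz1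
    obtain ⟨w, hw0, hw⟩ := hM'' _ hz2
    have h1 : r • u - w ∈ LinearMap.ker π := by
      rw [LinearMap.mem_ker, map_sub, map_smul, hw, sub_self]
    have h2 := hdiv _ h1 j₀
    rw [Pi.sub_apply, Pi.smul_apply, huj₀, hw0, smul_eq_mul, mul_one, sub_zero] at h2
    obtain ⟨c, rfl⟩ := h2
    rw [mul_comm, mul_smul, hdy, smul_zero]
  have hy_eq : y = x j₀ + ∑ i : Fin n, u (j₀.succAbove i) • x' i := by
    change π u = _
    rw [hπx, Fin.sum_univ_succAbove _ j₀, huj₀, one_smul]
  have hcodisj : Codisjoint (span R {y}) M'' := by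
    rw [codisjoint_iff, eq_top_iff, ← hx, span_le]
    rintro _ ⟨j, rfl⟩
    by_cases hj : j = j₀
    · subst hj
      have h1 : x j = y - ∑ i : Fin n, u (j.succAbove i) • x' i := eq_sub_of_add_eq hy_eq.symm
      rw [h1]
      exact sub_mem (mem_sup_left (mem_span_singleton_self y))
        (mem_sup_right (sum_mem fun i _ => smul_mem _ _ (subset_span ⟨i, rfl⟩)))
    · obtain ⟨i, rfl⟩ := Fin.exists_succAbove_eq hj
      exact mem_sup_right (subset_span ⟨i, rfl⟩)
  have hcompl : IsCompl (span R {y}) M'' := ⟨hdisj, hcodisj⟩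
  -- the cyclic part
  have hker : LinearMap.ker (LinearMap.toSpanSingleton R M y) = Ideal.span {d} := by
    ext r
    rw [LinearMap.mem_ker, LinearMap.toSpanSingleton_apply, Ideal.mem_span_singleton]
    constructor
    · exact hann r
    · rintro ⟨c, rfl⟩
      rw [mul_comm, mul_smul, hdy, smul_zero]
  let e₁ : (R ⧸ Ideal.span {d}) ≃ₗ[R] span R {y} :=
    (Submodule.quotEquivOfEq _ _ hker.symm).trans
      ((LinearMap.quotKerEquivRange (LinearMap.toSpanSingleton R M y)).trans
        (LinearEquiv.ofEq _ _ (LinearMap.range_toSpanSingleton y)))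
  let e₂ : M ≃ₗ[R] (span R {y}) × M'' := (Submodule.prodEquivOfIsCompl _ _ hcompl).symm
  -- finite presentation of the complement
  have hfp : Module.FinitePresentation R M'' := by
    have h1 : Module.FinitePresentation R (M ⧸ span R {y}) :=
      Module.finitePresentation_of_surjective (span R {y}).mkQ (Submodule.mkQ_surjective _) (by
        rw [Submodule.ker_mkQ]
        exact Submodule.fg_span_singleton y)
    exact Module.FinitePresentation.of_equiv (Submodule.quotientEquivOfIsCompl _ _ hcompl)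
  let x'' : Fin n → M'' := fun i => ⟨x' i, subset_span ⟨i, rfl⟩⟩
  have hx'' : span R (Set.range x'') = ⊤ := by
    apply Submodule.map_injective_of_injective M''.subtype_injective
    rw [Submodule.map_span, Submodule.map_top, Submodule.range_subtype, ← Set.range_comp]
    rfl
  exact ⟨d, M'', x'', hfp, hx'', ⟨e₂.trans (LinearEquiv.prodCongr e₁.symm (LinearEquiv.refl R M''))⟩⟩

theorem main {R : Type u} [CommRing R] (hR : ∀ a b : R, a ∣ b ∨ b ∣ a) :
    ∀ (n : ℕ) (M : Type u) [AddCommGroup M] [Module R M] [Module.FinitePresentation R M]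
      (x : Fin n → M), span R (Set.range x) = ⊤ →
      ∃ f : Fin n → R, Nonempty (M ≃ₗ[R] ((i : Fin n) → R ⧸ Ideal.span {f i})) := by
  intro n
  induction n with
  | zero =>
    intro M _ _ _ x hx
    have : Subsingleton M := by
      rw [← Submodule.subsingleton_iff R, ← subsingleton_iff_bot_eq_top, ← hx]
      simp
    exact ⟨fun i => i.elim0, ⟨LinearEquiv.ofSubsingleton _ _⟩⟩
  | succ n ih =>
    intro M _ _ _ x hx
    obtain ⟨d, M'', x', hfp, hx', ⟨e⟩⟩ := step hR M x hx
    obtain ⟨f', ⟨e'⟩⟩ := ih M'' x' hx'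
    refine ⟨Fin.cons d f', ⟨?_⟩⟩
    exact (e.trans (LinearEquiv.prodCongr (LinearEquiv.refl R _) e')).trans
      (Fin.consLinearEquiv R (fun i : Fin (n + 1) => R ⧸ Ideal.span {(Fin.cons d f' : Fin (n + 1) → R) i}))

end Groth.Agent.S2015

namespace Groth.Agent.S2015

/-- Let R be a nonzero ring such that for all a, b in R either a divides b or b divides a. Then each
finitely presented R-module decomposes as a direct sum of finitely many cyclic modules R/fR. -/
theorem result (R : Type u) [CommRing R] [Nontrivial R] (h : ∀ a b : R, a ∣ b ∨ b ∣ a)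
    (M : Type u) [AddCommGroup M] [Module R M] [Module.FinitePresentation R M] :
    ∃ (n : ℕ) (f : Fin n → R), Nonempty (M ≃ₗ[R] ((i : Fin n) → R ⧸ Ideal.span {f i})) := by
  obtain ⟨n, x, hx⟩ := Module.Finite.exists_fin (R := R) (M := M)
  exact ⟨n, main h n M x hx⟩

end Groth.Agent.S2015
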