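import Groth.Statements.S2017
-- import your own Groth.Agent.* helpers here

set_option autoImplicit false
universe u
open EtAlg

namespace Groth.Agent.S2017

/-- Let R be a Noetherian ring, A, B, C R-algebras of finite type, f : A -> B a surjective R-algebra map
and g : C -> B an R-algebra map making B a finite C-module. Then the fibre product A ×_B C (the
equalizer of f ∘ pr₁ and g ∘ pr₂ in A × C) is an R-algebra of finite type. -/
theorem result (R A B C : Type u) [CommRing R] [IsNoetherianRing R] [CommRing A] [CommRing B]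
    [CommRing C] [Algebra R A] [Algebra R B] [Algebra R C] [Algebra.FiniteType R A] [Algebra.FiniteType R B]
    [Algebra.FiniteType R C] (f : A →ₐ[R] B) (hf : Function.Surjective f) (g : C →ₐ[R] B)
    (hg : (g.toRingHom).Finite) :
    Algebra.FiniteType R ↥(AlgHom.equalizer (f.comp (AlgHom.fst R A C)) (g.comp (AlgHom.snd R A C))) := by
  classical
  set D := AlgHom.equalizer (f.comp (AlgHom.fst R A C)) (g.comp (AlgHom.snd R A C)) with hD
  have hmemD : ∀ x : A × C, x ∈ D ↔ f x.1 = g x.2 := fun x => Iff.rfl
  refine ⟨fg_of_fg_of_fg (A := R) (B := D) (C := A × C) ?_ ?_ Subtype.val_injective⟩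
  · exact (inferInstance : Algebra.FiniteType R (A × C)).out
  · letI := g.toRingHom.toAlgebra
    have hfin : Module.Finite C B := hg
    obtain ⟨T, hT⟩ := hfin.fg_top
    have hlift : ∀ b : B, ∃ a : A, f a = b := hf
    choose σ hσ using hlift
    let G : Finset (A × C) := insert ((1 : A), (1 : C)) (T.image (fun b => (σ b, (0 : C))))
    refine ⟨G, ?_⟩
    rw [eq_top_iff]
    have hsmul : ∀ (c : C) (b : B), c • b = g c * b := fun c b => rfl
    have hone : ((1 : A), (1 : C)) ∈ Submodule.span D (G : Set (A × C)) :=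
      Submodule.subset_span (by simp [G])
    have hDmem : ∀ x : A × C, x ∈ D → x ∈ Submodule.span D (G : Set (A × C)) := by
      intro x hx
      have : x = (⟨x, hx⟩ : D) • ((1 : A), (1 : C)) := by
        ext <;> simp [Subalgebra.smul_def]
      rw [this]
      exact Submodule.smul_mem _ _ hone
    have hker : ∀ a : A, f a = 0 → (a, (0 : C)) ∈ Submodule.span D (G : Set (A × C)) := by
      intro a ha
      exact hDmem _ (by rw [hmemD]; simp [ha])
    have hind : ∀ b : B, b ∈ Submodule.span C (T : Set B) →
        ∃ a : A, f a = b ∧ (a, (0 : C)) ∈ Submodule.span D (G : Set (A × C)) := by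
      intro b hb
      induction hb using Submodule.span_induction with
      | mem b hbT =>
        exact ⟨σ b, hσ b, Submodule.subset_span (by
          simp only [G, Finset.coe_insert, Finset.coe_image, Set.mem_insert_iff, Set.mem_image]
          exact Or.inr ⟨b, hbT, rfl⟩)⟩
      | zero => exact ⟨0, map_zero f, by
          have h0 : (((0 : A), (0 : C)) : A × C) = 0 := rfl
          rw [h0]; exact Submodule.zero_mem _⟩
      | add b₁ b₂ _ _ h₁ h₂ =>
        obtain ⟨a₁, ha₁, hm₁⟩ := h₁
        obtain ⟨a₂, ha₂, hm₂⟩ := h₂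
        refine ⟨a₁ + a₂, by rw [map_add, ha₁, ha₂], ?_⟩
        have : ((a₁ + a₂, (0 : C)) : A × C) = (a₁, 0) + (a₂, 0) := by ext <;> simp
        rw [this]
        exact Submodule.add_mem _ hm₁ hm₂
      | smul c b _ h =>
        obtain ⟨a, ha, hm⟩ := h
        have hd : ((σ (g c), c) : A × C) ∈ D := by rw [hmemD]; exact hσ _
        refine ⟨σ (g c) * a, by rw [map_mul, hσ, ha, hsmul], ?_⟩
        have : ((σ (g c) * a, (0 : C)) : A × C) = (⟨(σ (g c), c), hd⟩ : D) • ((a, (0 : C)) : A × C) := by
          ext <;> simp [Subalgebra.smul_def]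
        rw [this]
        exact Submodule.smul_mem _ _ hm
    rintro ⟨a, c⟩ -
    have hd : ((σ (g c), c) : A × C) ∈ D := by rw [hmemD]; exact hσ _
    obtain ⟨a₁, ha₁, hm₁⟩ := hind (f (a - σ (g c))) (by rw [hT]; exact Submodule.mem_top)
    have h2 : (a - σ (g c) - a₁, (0 : C)) ∈ Submodule.span D (G : Set (A × C)) :=
      hker _ (by rw [map_sub, ha₁, sub_self])
    have : ((a, c) : A × C) = (σ (g c), c) + ((a₁, 0) + (a - σ (g c) - a₁, 0)) := by
      ext <;> simp
    rw [this]
    exact Submodule.add_mem _ (hDmem _ hd) (Submodule.add_mem _ hm₁ h2)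

end Groth.Agent.S2017
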