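import Groth.Statements.S2018
-- import your own Groth.Agent.* helpers here

set_option autoImplicit false
universe u
open EtAlg

namespace Groth.Agent.S2018

/-- Let g : A' -> A be a surjective ring map and f : B -> A an integral ring map. Then the projection
from the fibre product B ×_A A' (the equalizer of f ∘ pr₁ and g ∘ pr₂ in B × A') to A' is integral. -/
theorem result (A A' B : Type u) [CommRing A] [CommRing A'] [CommRing B] (g : A' →+* A)
    (hg : Function.Surjective g) (f : B →+* A) (hf : f.IsIntegral) :
    ((RingHom.snd B A').comp ((f.comp (RingHom.fst B A')).eqLocus (g.comp (RingHom.snd B A'))).subtype).IsIntegral := by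
  intro a'
  set E := (f.comp (RingHom.fst B A')).eqLocus (g.comp (RingHom.snd B A')) with hE
  set π : E →+* A' := (RingHom.snd B A').comp E.subtype with hπ
  rcases subsingleton_or_nontrivial A' with hA' | hA'
  · have : a' = π 0 := Subsingleton.elim _ _
    rw [this]; exact π.isIntegralElem_map
  have hEnt : Nontrivial E := π.domain_nontrivial
  let ρ : E →+* B := (RingHom.fst B A').comp E.subtype
  have hρ : Function.Surjective ρ := by
    intro b
    obtain ⟨c, hc⟩ := hg (f b)
    exact ⟨⟨(b, c), by simp [hE, RingHom.mem_eqLocus, hc]⟩, rfl⟩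
  have hcomm : g.comp π = f.comp ρ := by
    ext ⟨x, hx⟩
    exact hx.symm
  obtain ⟨P, hPmonic, hP⟩ := hf (g a')
  obtain ⟨Q, hQP, -, hQmonic⟩ := Polynomial.lifts_and_natDegree_eq_and_monic (f := ρ) (p := P)
    ((Polynomial.mem_lifts _).2 (Polynomial.map_surjective ρ hρ P)) hPmonic
  have hk : g (Polynomial.eval₂ π a' Q) = 0 := by
    rw [Polynomial.hom_eval₂, hcomm, ← Polynomial.eval₂_map, hQP]; exact hP
  letI := π.toAlgebra
  have hmem : ((0 : B), Polynomial.eval₂ π a' Q * a') ∈ E := by
    simp [hE, RingHom.mem_eqLocus, hk]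
  have key : IsIntegral E a' := by
    refine IsIntegral.of_aeval_monic (p := Q * Polynomial.X) (hQmonic.mul Polynomial.monic_X) ?_ ?_
    · rw [Polynomial.natDegree_mul_X hQmonic.ne_zero]; exact Nat.succ_ne_zero _
    · have : Polynomial.aeval a' (Q * Polynomial.X) = algebraMap E A' ⟨_, hmem⟩ := by
        rw [map_mul, Polynomial.aeval_X, Polynomial.aeval_def]
        rfl
      rw [this]
      exact isIntegral_algebraMap
  exact key

end Groth.Agent.S2018
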