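import Groth.Statements.S6916
import Mathlib.LinearAlgebra.TensorProduct.RightExactness

set_option autoImplicit false
universe u
open TensorProduct
open EtAlg

namespace Groth.Agent.S6916

/-- Let `B' = B ×_A A'` be a fibre square of rings with `A' → A` surjective and `L'` any `B'`-module.
Then the canonical map from `L'` to the glueing of `(L' ⊗_{B'} B, L' ⊗_{B'} A')` is surjective:
every pair `(x, y) ∈ (B ⊗_{B'} L') × (A' ⊗_{B'} L')` with equal images in `A ⊗_{B'} L'` is of the
form `(1 ⊗ l, 1 ⊗ l)`. (It is in general not injective.) -/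
theorem result (B' B A' A : Type u) [CommRing B'] [CommRing B] [CommRing A'] [CommRing A]
    [Algebra B' B] [Algebra B' A'] [Algebra B A] [Algebra A' A] [Algebra B' A] [IsScalarTower B' B A] [IsScalarTower B' A' A]
    (hsq : EtMil.IsFibreSquare B' B A' A)
    (L' : Type u) [AddCommGroup L'] [Module B' L'] (x : B ⊗[B'] L') (y : A' ⊗[B'] L')
    (hxy : (IsScalarTower.toAlgHom B' B A).toLinearMap.rTensor L' x = (IsScalarTower.toAlgHom B' A' A).toLinearMap.rTensor L' y) :
    ∃ l : L', (1 : B) ⊗ₜ[B'] l = x ∧ (1 : A') ⊗ₜ[B'] l = y := by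
  let tB : B →ₗ[B'] A := (IsScalarTower.toAlgHom B' B A).toLinearMap
  let tA : A' →ₗ[B'] A := (IsScalarTower.toAlgHom B' A' A).toLinearMap
  let g : (B × A') →ₗ[B'] A := tB.coprod (-tA)
  let f : B' →ₗ[B'] (B × A') := (Algebra.linearMap B' B).prod (Algebra.linearMap B' A')
  have hfg : Function.Exact f g := by
    intro p
    obtain ⟨b, a'⟩ := p
    constructor
    · intro h
      have h' : algebraMap B A b = algebraMap A' A a' := by
        have : algebraMap B A b - algebraMap A' A a' = 0 := by
          simpa [g, tB, tA, sub_eq_add_neg] using h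
        exact sub_eq_zero.mp this
      obtain ⟨b', ⟨hb1, hb2⟩, _⟩ := hsq.2 b a' h'
      exact ⟨b', by simp [f, hb1, hb2]⟩
    · rintro ⟨b', hb'⟩
      have h1 : algebraMap B' B b' = b := by
        have := congrArg Prod.fst hb'
        simpa [f] using this
      have h2 : algebraMap B' A' b' = a' := by
        have := congrArg Prod.snd hb'
        simpa [f] using this
      have : algebraMap B A b - algebraMap A' A a' = 0 := by
        rw [← h1, ← h2, ← IsScalarTower.algebraMap_apply, ← IsScalarTower.algebraMap_apply, sub_self]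
      simpa [g, tB, tA, sub_eq_add_neg] using this
  have hg : Function.Surjective g := by
    intro a
    obtain ⟨a', ha'⟩ := hsq.1 a
    exact ⟨(0, -a'), by simp [g, tB, tA, ha']⟩
  have hex := rTensor_exact L' hfg hg
  let z : (B × A') ⊗[B'] L' :=
    (LinearMap.inl B' B A').rTensor L' x + (LinearMap.inr B' B A').rTensor L' y
  have hz : g.rTensor L' z = 0 := by
    simp only [z, map_add, ← LinearMap.rTensor_comp_apply]
    have e1 : g ∘ₗ LinearMap.inl B' B A' = tB := by
      ext b; simp [g]
    have e2 : g ∘ₗ LinearMap.inr B' B A' = -tA := by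
      ext a; simp [g]
    rw [e1, e2, LinearMap.rTensor_neg, LinearMap.neg_apply, hxy, add_neg_cancel]
  obtain ⟨w, hw⟩ := (hex z).mp hz
  refine ⟨TensorProduct.lid B' L' w, ?_, ?_⟩
  · have h1 : (LinearMap.fst B' B A').rTensor L' z = x := by
      simp only [z, map_add, ← LinearMap.rTensor_comp_apply]
      have e1 : LinearMap.fst B' B A' ∘ₗ LinearMap.inl B' B A' = LinearMap.id := by
        ext b; simp
      have e2 : LinearMap.fst B' B A' ∘ₗ LinearMap.inr B' B A' = 0 := by
        ext a; simp
      rw [e1, e2, LinearMap.rTensor_id, LinearMap.rTensor_zero]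
      simp
    rw [← h1, ← hw, ← LinearMap.rTensor_comp_apply]
    have hw' : w = (1 : B') ⊗ₜ[B'] (TensorProduct.lid B' L' w) := by
      rw [← TensorProduct.lid_symm_apply, LinearEquiv.symm_apply_apply]
    conv_rhs => rw [hw']
    rw [LinearMap.rTensor_tmul]
    simp [f]
  · have h1 : (LinearMap.snd B' B A').rTensor L' z = y := by
      simp only [z, map_add, ← LinearMap.rTensor_comp_apply]
      have e1 : LinearMap.snd B' B A' ∘ₗ LinearMap.inl B' B A' = 0 := by
        ext b; simp
      have e2 : LinearMap.snd B' B A' ∘ₗ LinearMap.inr B' B A' = LinearMap.id := by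
        ext a; simp
      rw [e1, e2, LinearMap.rTensor_id, LinearMap.rTensor_zero]
      simp
    rw [← h1, ← hw, ← LinearMap.rTensor_comp_apply]
    have hw' : w = (1 : B') ⊗ₜ[B'] (TensorProduct.lid B' L' w) := by
      rw [← TensorProduct.lid_symm_apply, LinearEquiv.symm_apply_apply]
    conv_rhs => rw [hw']
    rw [LinearMap.rTensor_tmul]
    simp [f]

end Groth.Agent.S6916
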