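import Groth.Statements.S2020
import Groth.Agent.Lib.Helper56.MilnorGlue
import Groth.Agent.S6916

set_option autoImplicit false
universe u
open TensorProduct
open EtAlg

namespace Groth.Agent.S2020

/-- Let B' → B, B' → A', B → A and A' → A be ring homomorphisms forming a commutative square that is a
fibre product, B' = B ×_A A', with A' → A surjective. (1) Given a flat B-module N, a flat A'-module
M' and an A-linear isomorphism φ : A ⊗_B N ≅ A ⊗_{A'} M', the glued module N ×_φ M' (pairs (n, m')
with φ(1 ⊗ n) = 1 ⊗ m') is a flat B'-module. (2) For every flat B'-module L', the map L' → (B ⊗_{B'}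
L') × (A' ⊗_{B'} L') is injective, and any pair (x, y) whose two images in A ⊗_{B'} L' agree comes
from an element of L'. -/
theorem result (B' B A' A : Type u) [CommRing B'] [CommRing B] [CommRing A'] [CommRing A]
    [Algebra B' B] [Algebra B' A'] [Algebra B A] [Algebra A' A] [Algebra B' A] [IsScalarTower B' B A] [IsScalarTower B' A' A]
    (hsq : EtMil.IsFibreSquare B' B A' A) :
    (∀ (N M' : Type u) [AddCommGroup N] [Module B N] [Module B' N] [IsScalarTower B' B N]
    [AddCommGroup M'] [Module A' M'] [Module B' M'] [IsScalarTower B' A' M'] (φ : A ⊗[B] N ≃ₗ[A] A ⊗[A'] M'), Module.Flat B N → Module.Flat A' M' → Module.Flat B' ↥(EtMil.glue B' φ)) ∧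
    (∀ (L' : Type u) [AddCommGroup L'] [Module B' L'], Module.Flat B' L' →
      Function.Injective (fun l : L' => (((1 : B) ⊗ₜ[B'] l : B ⊗[B'] L'), ((1 : A') ⊗ₜ[B'] l : A' ⊗[B'] L'))) ∧
      ∀ (x : B ⊗[B'] L') (y : A' ⊗[B'] L'),
        (IsScalarTower.toAlgHom B' B A).toLinearMap.rTensor L' x = (IsScalarTower.toAlgHom B' A' A).toLinearMap.rTensor L' y →
          ∃ l : L', (1 : B) ⊗ₜ[B'] l = x ∧ (1 : A') ⊗ₜ[B'] l = y) := by
  constructor
  · intro N M' _ _ _ _ _ _ _ _ φ hN hM'
    have e₁ : B ⊗[B'] ↥(EtMil.glue B' φ) ≃ₗ[B] N :=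
      LinearEquiv.ofBijective _ (Groth.Agent.Lib.Helper56.Milnor.glueFst_bijective φ hsq)
    have e₂ : A' ⊗[B'] ↥(EtMil.glue B' φ) ≃ₗ[A'] M' :=
      LinearEquiv.ofBijective _ (Groth.Agent.Lib.Helper56.Milnor.glueSnd_bijective φ hsq)
    have : Module.Flat B (B ⊗[B'] ↥(EtMil.glue B' φ)) := Module.Flat.of_linearEquiv e₁
    have : Module.Flat A' (A' ⊗[B'] ↥(EtMil.glue B' φ)) := Module.Flat.of_linearEquiv e₂
    exact Groth.Agent.Lib.Helper56.Milnor.flat_of_flat _ hsq
  · intro L' _ _ hL'
    refine ⟨?_, fun x y hxy => Groth.Agent.S6916.result B' B A' A hsq L' x y hxy⟩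
    let f : B' →ₗ[B'] (B × A') := (Algebra.linearMap B' B).prod (Algebra.linearMap B' A')
    have hf : Function.Injective f := by
      intro x y hxy
      have h1 := congrArg Prod.fst hxy
      have h2 := congrArg Prod.snd hxy
      exact Groth.Agent.Lib.Helper56.Milnor.ext' hsq h1 h2
    have hfL : Function.Injective (f.rTensor L') :=
      Module.Flat.rTensor_preserves_injective_linearMap f hf
    have key : ∀ l : L', ((1 : B) ⊗ₜ[B'] l : B ⊗[B'] L') = 0 → ((1 : A') ⊗ₜ[B'] l : A' ⊗[B'] L') = 0 →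
        l = 0 := by
      intro l h1 h2
      have h3 : f.rTensor L' ((1 : B') ⊗ₜ[B'] l) = 0 := by
        have : f.rTensor L' ((1 : B') ⊗ₜ[B'] l) =
            (LinearMap.inl B' B A').rTensor L' ((1 : B) ⊗ₜ[B'] l) +
              (LinearMap.inr B' B A').rTensor L' ((1 : A') ⊗ₜ[B'] l) := by
          have hf1 : f 1 = ((1 : B), (1 : A')) := by
            change (algebraMap B' B 1, algebraMap B' A' 1) = _
            rw [map_one, map_one]
          simp only [LinearMap.rTensor_tmul, hf1, LinearMap.inl_apply, LinearMap.inr_apply,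
            ← TensorProduct.add_tmul, Prod.mk_add_mk, add_zero, zero_add]
        rw [this, h1, h2, map_zero, map_zero, add_zero]
      have h4 : ((1 : B') ⊗ₜ[B'] l : B' ⊗[B'] L') = 0 := hfL (h3.trans (map_zero _).symm)
      have h5 := congrArg (TensorProduct.lid B' L') h4
      rwa [TensorProduct.lid_tmul, one_smul, map_zero] at h5
    intro l₁ l₂ h
    have h1 := congrArg Prod.fst h
    have h2 := congrArg Prod.snd h
    simp only at h1 h2
    have := key (l₁ - l₂) (by rw [TensorProduct.tmul_sub, h1, sub_self])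
      (by rw [TensorProduct.tmul_sub, h2, sub_self])
    exact sub_eq_zero.mp this

end Groth.Agent.S2020
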