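import Groth.Statements.S2021
import Groth.Agent.Lib.Helper56.MilnorGlue
import Mathlib.RingTheory.Flat.EquationalCriterion

set_option autoImplicit false
universe u
open TensorProduct
open EtAlg

namespace Groth.Agent.S2021

/-- Let B' = B ×_A A' be a fibre product of rings with A' -> A surjective, N a B-module, M' an A'-module
and φ : A ⊗_B N ≅ A ⊗_{A'} M'. If N and M' are finitely generated then so is the glued B'-module N
×_φ M'; if N and M' are finite projective then N ×_φ M' is finite projective over B'. -/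
theorem result (B' B A' A : Type u) [CommRing B'] [CommRing B] [CommRing A'] [CommRing A]
    [Algebra B' B] [Algebra B' A'] [Algebra B A] [Algebra A' A] [Algebra B' A] [IsScalarTower B' B A] [IsScalarTower B' A' A]
    (hsq : EtMil.IsFibreSquare B' B A' A)
    (N M' : Type u) [AddCommGroup N] [Module B N] [Module B' N] [IsScalarTower B' B N]
    [AddCommGroup M'] [Module A' M'] [Module B' M'] [IsScalarTower B' A' M'] (φ : A ⊗[B] N ≃ₗ[A] A ⊗[A'] M') :
    (Module.Finite B N → Module.Finite A' M' → Module.Finite B' ↥(EtMil.glue B' φ)) ∧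
    (Module.Finite B N → Module.Projective B N → Module.Finite A' M' → Module.Projective A' M' →
      Module.Finite B' ↥(EtMil.glue B' φ) ∧ Module.Projective B' ↥(EtMil.glue B' φ)) := by
  have e₁ : B ⊗[B'] ↥(EtMil.glue B' φ) ≃ₗ[B] N :=
    LinearEquiv.ofBijective _ (Groth.Agent.Lib.Helper56.Milnor.glueFst_bijective φ hsq)
  have e₂ : A' ⊗[B'] ↥(EtMil.glue B' φ) ≃ₗ[A'] M' :=
    LinearEquiv.ofBijective _ (Groth.Agent.Lib.Helper56.Milnor.glueSnd_bijective φ hsq)
  have hfin : Module.Finite B N → Module.Finite A' M' → Module.Finite B' ↥(EtMil.glue B' φ) := by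
    intro h1 h2
    have : Module.Finite B (B ⊗[B'] ↥(EtMil.glue B' φ)) := Module.Finite.equiv e₁.symm
    have : Module.Finite A' (A' ⊗[B'] ↥(EtMil.glue B' φ)) := Module.Finite.equiv e₂.symm
    exact Groth.Agent.Lib.Helper56.Milnor.finite_of_finite _ hsq
  refine ⟨hfin, ?_⟩
  intro h1 h1' h2 h2'
  refine ⟨hfin h1 h2, ?_⟩
  have : Module.Finite B (B ⊗[B'] ↥(EtMil.glue B' φ)) := Module.Finite.equiv e₁.symm
  have : Module.Finite A' (A' ⊗[B'] ↥(EtMil.glue B' φ)) := Module.Finite.equiv e₂.symm
  have : Module.Projective B (B ⊗[B'] ↥(EtMil.glue B' φ)) := Module.Projective.of_equiv e₁.symm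
  have : Module.Projective A' (A' ⊗[B'] ↥(EtMil.glue B' φ)) := Module.Projective.of_equiv e₂.symm
  have : Module.FinitePresentation B (B ⊗[B'] ↥(EtMil.glue B' φ)) :=
    Module.finitePresentation_of_projective _ _
  have : Module.FinitePresentation A' (A' ⊗[B'] ↥(EtMil.glue B' φ)) :=
    Module.finitePresentation_of_projective _ _
  have : Module.Flat B' ↥(EtMil.glue B' φ) := Groth.Agent.Lib.Helper56.Milnor.flat_of_flat _ hsq
  have : Module.FinitePresentation B' ↥(EtMil.glue B' φ) :=
    Groth.Agent.Lib.Helper56.Milnor.finitePresentation_of_flat _ hsq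
  exact Module.Flat.projective_of_finitePresentation

end Groth.Agent.S2021
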