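import Groth.Statements.S2026
import Groth.Agent.Lib.Helper62.ElemStdPerm
import Groth.Agent.S2108
import Groth.Agent.S2032
import Mathlib.RingTheory.Smooth.StandardSmoothCotangent

set_option autoImplicit false
universe u
open Smoothing

namespace Groth.Agent.S2026


set_option linter.style.haveILetI false

open Function MvPolynomial
open Groth.Agent.Lib.Helper62.ElemStdPerm

section

variable {R A : Type u} [CommRing R] [CommRing A] [Algebra R A] [Algebra.FinitePresentation R A]

/-- elementary standard elements vanish on the singular locus. -/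
lemma elem_mem (a : A) (ha : Smoothing.IsElementaryStandard R A a) :
    a ∈ Smoothing.singularIdeal R A := by
  haveI hss : Algebra.IsStandardSmooth R (Localization.Away a) := Groth.Agent.S2032.result a ha
  have hsub : ↑(PrimeSpectrum.basicOpen a) ⊆ Algebra.smoothLocus R A :=
    Algebra.basicOpen_subset_smoothLocus_iff_smooth.mpr inferInstance
  unfold Smoothing.singularIdeal
  rw [PrimeSpectrum.mem_vanishingIdeal]
  intro x hx
  by_contra hax
  exact hx (hsub hax)

/-- strictly standard elements vanish on the singular locus. -/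
lemma strict_mem (a : A) (ha : Smoothing.IsStrictlyStandard R A a) :
    a ∈ Smoothing.singularIdeal R A := by
  classical
  obtain ⟨P, hspan, hkt⟩ := ha
  unfold Smoothing.singularIdeal
  rw [PrimeSpectrum.mem_vanishingIdeal]
  intro x hx
  by_contra hax
  have hex : ∃ cols : Fin P.c → Fin P.n,
      P.hom (Smoothing.jacobianMinor P.rel (Fin.castLE P.hcm) cols) ∉ x.asIdeal := by
    by_contra hall
    push Not at hall
    apply hax
    have hle : Ideal.span (Set.range fun cols : Fin P.c → Fin P.n =>
        P.hom (Smoothing.jacobianMinor P.rel (Fin.castLE P.hcm) cols)) ≤ x.asIdeal := by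
      rw [Ideal.span_le]
      rintro _ ⟨cols, rfl⟩
      exact hall cols
    exact hle hspan
  obtain ⟨cols, hcols⟩ := hex
  have hinj : Injective cols := by
    intro i j hij
    by_contra hne
    apply hcols
    have : Smoothing.jacobianMinor P.rel (Fin.castLE P.hcm) cols = 0 := by
      unfold Smoothing.jacobianMinor
      apply Matrix.det_zero_of_column_eq hne
      intro k
      simp only [Matrix.of_apply, hij]
    rw [this, map_zero]
    exact x.asIdeal.zero_mem
  obtain ⟨ã, hã⟩ := P.surj a
  have hlead : Ideal.span (P.rel '' {j' : Fin P.m | (j' : ℕ) < P.c}) ≤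
      Ideal.span (Set.range (P.rel ∘ (Fin.castLEEmb P.hcm))) := by
    apply Ideal.span_mono
    rintro _ ⟨j', hj', rfl⟩
    exact ⟨⟨j', hj'⟩, rfl⟩
  have hes : Smoothing.IsElementaryStandard R A
      (a * P.hom (Smoothing.jacobianMinor P.rel (Fin.castLE P.hcm) cols)) := by
    refine isElementaryStandard_of_rows_cols P.rel P.hom P.surj P.ker_eq (Fin.castLEEmb P.hcm)
      ⟨cols, hinj⟩ _ a rfl ?_
    intro a₁ ha₁ ℓ
    have h1 : a₁ - ã * Smoothing.jacobianMinor P.rel (Fin.castLE P.hcm) cols ∈
        Ideal.span (Set.range P.rel) := by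
      rw [← P.ker_eq, RingHom.mem_ker]
      change P.hom _ = 0
      rw [map_sub, map_mul, hã, sub_eq_zero]
      exact ha₁
    have h2 : a₁ * P.rel ℓ =
        (a₁ - ã * Smoothing.jacobianMinor P.rel (Fin.castLE P.hcm) cols) * P.rel ℓ +
        Smoothing.jacobianMinor P.rel (Fin.castLE P.hcm) cols * (ã * P.rel ℓ) := by ring
    rw [h2]
    refine Submodule.add_mem _ (Ideal.mem_sup_right ?_) (Ideal.mul_mem_left _ _ ?_)
    · rw [pow_two]
      exact Ideal.mul_mem_mul h1 (Ideal.subset_span ⟨ℓ, rfl⟩)
    · by_cases hℓ : P.c ≤ (ℓ : ℕ)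
      · exact sup_le_sup_right hlead _ (hkt ã hã ℓ hℓ)
      · push Not at hℓ
        exact Ideal.mem_sup_left (Ideal.mul_mem_left _ _ (Ideal.subset_span ⟨⟨ℓ, hℓ⟩, rfl⟩))
  have hmem := elem_mem _ hes
  unfold Smoothing.singularIdeal at hmem
  rw [PrimeSpectrum.mem_vanishingIdeal] at hmem
  rcases Ideal.IsPrime.mem_or_mem x.2 (hmem x hx) with h | h
  · exact hax h
  · exact hcols h

/-- the singular ideal is contained in the radical of the elementary standard elements. -/
lemma le_radical_elem : Smoothing.singularIdeal R A ≤
    (Ideal.span {a : A | Smoothing.IsElementaryStandard R A a}).radical := by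
  classical
  intro g hg
  rw [Ideal.radical_eq_sInf, Ideal.mem_sInf]
  rintro q ⟨hle, hq⟩
  by_contra hgq
  haveI := hq
  have hsm : (⟨q, hq⟩ : PrimeSpectrum A) ∈ Algebra.smoothLocus R A := by
    by_contra hns
    unfold Smoothing.singularIdeal at hg
    rw [PrimeSpectrum.mem_vanishingIdeal] at hg
    exact hgq (hg ⟨q, hq⟩ hns)
  haveI : Algebra.IsSmoothAt R q := hsm
  obtain ⟨n, φ, hφ, hfg⟩ := (inferInstance : Algebra.FinitePresentation R A).out
  obtain ⟨S, hS⟩ := hfg
  let f : Fin S.card → MvPolynomial (Fin n) R := fun i => (S.equivFin.symm i).1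
  have hrange : Set.range f = ↑S := by
    ext x
    constructor
    · rintro ⟨i, rfl⟩
      exact (S.equivFin.symm i).2
    · intro hx
      exact ⟨S.equivFin ⟨x, hx⟩, by simp [f]⟩
  have hker : RingHom.ker φ.toRingHom = Ideal.span (Set.range f) := by
    rw [hrange]
    exact hS.symm
  obtain ⟨a, haq, c, rows, cols, a', haa, hkill⟩ := Groth.Agent.S2108.result f φ hφ hker q
  have hes := isElementaryStandard_of_rows_cols f φ hφ hker rows cols a a' haa hkill
  exact haq (hle (Ideal.subset_span hes))

end

/-- For a finitely presented `R`-algebra `A`, the singular ideal (functions vanishing on the non-smooth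
locus) coincides with the radical of the ideal spanned by all strictly standard elements, and
equally with the radical of the ideal spanned by all elementary standard elements. -/
theorem result {R A : Type u} [CommRing R] [CommRing A]
    [Algebra R A] [Algebra.FinitePresentation R A] :
    Smoothing.singularIdeal R A = (Ideal.span {a : A | Smoothing.IsStrictlyStandard R A a}).radical ∧
      Smoothing.singularIdeal R A =
        (Ideal.span {a : A | Smoothing.IsElementaryStandard R A a}).radical := by
  have hrad : (Smoothing.singularIdeal R A).IsRadical := by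
    unfold Smoothing.singularIdeal
    exact PrimeSpectrum.isRadical_vanishingIdeal _
  have h1 : (Ideal.span {a : A | Smoothing.IsElementaryStandard R A a}).radical ≤
      (Ideal.span {a : A | Smoothing.IsStrictlyStandard R A a}).radical := by
    apply Ideal.radical_mono
    apply Ideal.span_mono
    rintro a ⟨P, ⟨a', haa⟩, hkt⟩
    refine ⟨P, ?_, hkt⟩
    rw [haa]
    exact Ideal.mul_mem_left _ _ (Ideal.subset_span ⟨Fin.castLE P.hcn, rfl⟩)
  have h2 : (Ideal.span {a : A | Smoothing.IsStrictlyStandard R A a}).radical ≤
      Smoothing.singularIdeal R A := by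
    rw [hrad.radical_le_iff, Ideal.span_le]
    exact fun a ha => strict_mem a ha
  have h3 : (Ideal.span {a : A | Smoothing.IsElementaryStandard R A a}).radical ≤
      Smoothing.singularIdeal R A := by
    rw [hrad.radical_le_iff, Ideal.span_le]
    exact fun a ha => elem_mem a ha
  exact ⟨le_antisymm (le_radical_elem.trans h1) h2, le_antisymm le_radical_elem h3⟩

end Groth.Agent.S2026
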