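import Groth.Statements.S2029
import Mathlib
import Groth.Agent.Lib.Helper57.S2029Core
import Groth.Agent.S2025
-- import your own Groth.Agent.* helpers here

set_option autoImplicit false
universe u
open Smoothing

namespace Groth.Agent.S2029

open MvPolynomial TensorProduct



section rescale
variable {T : Type u} [CommRing T] {Z : Type*}

/-- scaling each variable by a constant -/
noncomputable def scaleHom (v : Z → T) : MvPolynomial Z T →ₐ[T] MvPolynomial Z T :=
  aeval (fun w => C (v w) * X w)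

theorem scaleHom_X (v : Z → T) (w : Z) : scaleHom v (X w) = C (v w) * X w := by
  simp [scaleHom]

theorem scaleHom_comp (v v' : Z → T) (h : ∀ w, v w * v' w = 1) :
    (scaleHom v).comp (scaleHom v') = AlgHom.id T _ := by
  apply MvPolynomial.algHom_ext
  intro w
  rw [AlgHom.comp_apply, scaleHom_X, map_mul, MvPolynomial.algHom_C, scaleHom_X, ← mul_assoc]
  change C (v' w) * C (v w) * X w = X w
  rw [← C_mul, mul_comm (v' w), h, C_1, one_mul]

theorem pderiv_scaleHom (v : Z → T) (z : Z) (f : MvPolynomial Z T) :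
    pderiv z (scaleHom v f) = C (v z) * scaleHom v (pderiv z f) := by
  classical
  induction f using MvPolynomial.induction_on with
  | C a => simp [scaleHom]
  | add p q hp hq => rw [map_add, map_add, hp, hq, map_add, map_add, mul_add]
  | mul_X p w hp =>
    rw [map_mul, scaleHom_X, pderiv_mul, hp, pderiv_C_mul, pderiv_X]
    have h2 : pderiv z (p * X w) = pderiv z p * X w + p * pderiv z (X w) := pderiv_mul
    rw [h2, pderiv_X, map_add, map_mul, map_mul, scaleHom_X]
    by_cases hzw : z = w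
    · subst hzw
      simp only [Pi.single_eq_same, map_one, mul_one]
      ring
    · rw [Pi.single_eq_of_ne' hzw]
      simp only [mul_zero, add_zero, map_zero]
      ring

theorem ker_comp_scale {B' : Type u} [CommRing B'] [Algebra T B'] {c : ℕ}
    (π : MvPolynomial Z T →ₐ[T] B') (ρ : Fin c → MvPolynomial Z T)
    (hker : ∀ x, π x = 0 ↔ x ∈ Ideal.span (Set.range ρ))
    (θ θ' : MvPolynomial Z T →ₐ[T] MvPolynomial Z T)
    (h1' : ∀ x, θ (θ' x) = x) (h2' : ∀ x, θ' (θ x) = x) (x : MvPolynomial Z T) :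
    π (θ' x) = 0 ↔ x ∈ Ideal.span (Set.range fun j => θ (ρ j)) := by
  rw [hker]
  constructor
  · intro hm
    have h3 : (θ : MvPolynomial Z T →+* MvPolynomial Z T) (θ' x) ∈
        Ideal.map (θ : MvPolynomial Z T →+* MvPolynomial Z T) (Ideal.span (Set.range ρ)) :=
      Ideal.mem_map_of_mem _ hm
    rw [Ideal.map_span] at h3
    have e : (θ : MvPolynomial Z T →+* MvPolynomial Z T) (θ' x) = x := h1' x
    rw [e] at h3
    have e2 : (⇑(θ : MvPolynomial Z T →+* MvPolynomial Z T) '' Set.range ρ) =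
        Set.range fun j => θ (ρ j) := by
      ext y
      constructor
      · rintro ⟨_, ⟨j, rfl⟩, rfl⟩
        exact ⟨j, rfl⟩
      · rintro ⟨j, rfl⟩
        exact ⟨_, ⟨j, rfl⟩, rfl⟩
    rw [e2] at h3
    exact h3
  · intro hm
    have hle : Ideal.span (Set.range fun j => θ (ρ j)) ≤
        Ideal.comap (θ' : MvPolynomial Z T →+* MvPolynomial Z T) (Ideal.span (Set.range ρ)) := by
      rw [Ideal.span_le]
      rintro _ ⟨j, rfl⟩
      rw [SetLike.mem_coe, Ideal.mem_comap]
      have : (θ' : MvPolynomial Z T →+* MvPolynomial Z T) (θ (ρ j)) = ρ j := h2' _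
      rw [this]
      exact Ideal.subset_span ⟨j, rfl⟩
    exact hle hm

theorem det_scale {c : ℕ} (ρ : Fin c → MvPolynomial Z T) (cols : Fin c → Z) (v : Z → T) :
    Matrix.det (Matrix.of fun j k => pderiv (cols k) (scaleHom v (ρ j))) =
      scaleHom v (Matrix.det (Matrix.of fun j k => pderiv (cols k) (ρ j))) *
        ∏ k, (C (v (cols k)) : MvPolynomial Z T) := by
  classical
  have hM : (Matrix.of fun j k => pderiv (cols k) (scaleHom v (ρ j))) =
      ((scaleHom v).mapMatrix (Matrix.of fun j k => pderiv (cols k) (ρ j))) *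
        Matrix.diagonal (fun k => (C (v (cols k)) : MvPolynomial Z T)) := by
    refine Matrix.ext fun j k => ?_
    rw [Matrix.mul_diagonal]
    simp only [Matrix.of_apply, AlgHom.mapMatrix_apply, Matrix.map_apply]
    rw [pderiv_scaleHom, mul_comm]
  rw [hM, Matrix.det_mul, Matrix.det_diagonal, ← AlgHom.map_det]

theorem rescale {B' : Type u} [CommRing B'] [Algebra T B'] {N c : ℕ}
    (π : MvPolynomial (Fin N) T →ₐ[T] B') (hπ : Function.Surjective π)
    (ρ : Fin c → MvPolynomial (Fin N) T)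
    (hker : RingHom.ker π.toRingHom = Ideal.span (Set.range ρ)) (cols : Fin c → Fin N)
    (hunit : IsUnit (π (Matrix.det (Matrix.of fun j k => pderiv (cols k) (ρ j)))))
    (u : Fin N → Tˣ) :
    ∃ (π' : MvPolynomial (Fin N) T →ₐ[T] B') (ρ' : Fin c → MvPolynomial (Fin N) T),
      Function.Surjective π' ∧ RingHom.ker π'.toRingHom = Ideal.span (Set.range ρ') ∧
      IsUnit (π' (Matrix.det (Matrix.of fun j k => pderiv (cols k) (ρ' j)))) ∧
      ∀ z, π' (X z) = (u z : T) • π (X z) := by
  classical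
  set θ' : MvPolynomial (Fin N) T →ₐ[T] MvPolynomial (Fin N) T := scaleHom fun z => (u z : T)
    with hθ'
  set θ : MvPolynomial (Fin N) T →ₐ[T] MvPolynomial (Fin N) T :=
    scaleHom fun z => ((u z)⁻¹ : Tˣ) with hθ
  have h1 : θ.comp θ' = AlgHom.id T _ := scaleHom_comp _ _ (fun w => by simp)
  have h2 : θ'.comp θ = AlgHom.id T _ := scaleHom_comp _ _ (fun w => by simp)
  have h1' : ∀ x, θ (θ' x) = x := fun x => AlgHom.congr_fun h1 x
  have h2' : ∀ x, θ' (θ x) = x := fun x => AlgHom.congr_fun h2 x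
  have hker' : ∀ x, π x = 0 ↔ x ∈ Ideal.span (Set.range ρ) := by
    intro x
    rw [← hker, RingHom.mem_ker]
    rfl
  refine ⟨π.comp θ', fun j => θ (ρ j), ?_, ?_, ?_, ?_⟩
  · intro b
    obtain ⟨p, rfl⟩ := hπ b
    exact ⟨θ p, by rw [AlgHom.comp_apply, h2']⟩
  · ext x
    rw [RingHom.mem_ker]
    exact ker_comp_scale π ρ hker' θ θ' h1' h2' x
  · rw [hθ, det_scale, ← hθ, map_mul, AlgHom.comp_apply, h2']
    refine hunit.mul ?_
    rw [map_prod]
    have : ∀ k : Fin c, IsUnit ((π.comp θ') (C (((u (cols k))⁻¹ : Tˣ) : T))) := by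
      intro k
      rw [MvPolynomial.algHom_C]
      exact ((u (cols k))⁻¹).isUnit.map (algebraMap T B')
    exact (Finset.univ.prod_induction _ IsUnit (fun _ _ ha hb => ha.mul hb) isUnit_one
      (fun k _ => this k))
  · intro z
    rw [AlgHom.comp_apply, hθ', scaleHom_X, map_mul, MvPolynomial.algHom_C, Algebra.smul_def]

end rescale



section graph
variable {S : Type u} [CommRing S] {κ : Type} 

theorem sub_C_aeval_mem (cv : κ → S) (p : MvPolynomial κ S) :
    p - C (aeval cv p) ∈ Ideal.span (Set.range fun k => (X k - C (cv k) : MvPolynomial κ S)) := by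
  induction p using MvPolynomial.induction_on with
  | C a => simp
  | add p q hp hq =>
    have : p + q - C (aeval cv (p + q)) = (p - C (aeval cv p)) + (q - C (aeval cv q)) := by
      rw [map_add, C_add]; ring
    rw [this]
    exact Ideal.add_mem _ hp hq
  | mul_X p k hp =>
    have : p * X k - C (aeval cv (p * X k)) =
        (p - C (aeval cv p)) * X k + C (aeval cv p) * (X k - C (cv k)) := by
      rw [map_mul, aeval_X, C_mul]; ring
    rw [this]
    exact Ideal.add_mem _ (Ideal.mul_mem_right _ _ hp)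
      (Ideal.mul_mem_left _ _ (Ideal.subset_span ⟨k, rfl⟩))

theorem ker_aeval_eq (cv : κ → S) :
    Ideal.span (Set.range fun k => (X k - C (cv k) : MvPolynomial κ S)) =
      RingHom.ker (aeval cv : MvPolynomial κ S →ₐ[S] S) := by
  apply le_antisymm
  · rw [Ideal.span_le]
    rintro _ ⟨k, rfl⟩
    simp [RingHom.mem_ker]
  · intro p hp
    have h := sub_C_aeval_mem cv p
    have : aeval cv p = 0 := hp
    rwa [this, C_0, sub_zero] at h

/-- the "graph" pre-submersive presentation of `S` over itself with prescribed generators -/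
noncomputable def graphPre (cv : κ → S) : Algebra.PreSubmersivePresentation S S κ κ where
  val := cv
  σ' x := C x
  aeval_val_σ' x := by simp
  relation k := X k - C (cv k)
  span_range_relation_eq_ker := by
    rw [Algebra.Generators.ker_eq_ker_aeval_val]
    exact ker_aeval_eq cv
  map := id
  map_inj := Function.injective_id

theorem graphPre_jacobian [Finite κ] (cv : κ → S) : (graphPre cv).jacobian = 1 := by
  classical
  cases nonempty_fintype κ
  rw [Algebra.PreSubmersivePresentation.jacobian_eq_jacobiMatrix_det]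
  have : (graphPre cv).jacobiMatrix = (1 : Matrix κ κ _) := by
    refine Matrix.ext fun i j => ?_
    rw [Algebra.PreSubmersivePresentation.jacobiMatrix_apply]
    change pderiv i (X j - C (cv j)) = _
    simp [Matrix.one_apply, pderiv_X, Pi.single_apply, eq_comm]
  rw [this, Matrix.det_one, map_one]

/-- the "graph" presentation of `S` over itself with prescribed generators -/
noncomputable def graphPres [Finite κ] (cv : κ → S) : Algebra.SubmersivePresentation S S κ κ where
  __ := graphPre cv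
  jacobian_isUnit := by
    rw [graphPre_jacobian]
    exact isUnit_one

theorem graphPres_val [Finite κ] (cv : κ → S) : (graphPres cv).val = cv := rfl

end graph

section data

theorem exists_data {T B' : Type u} [CommRing T] [CommRing B'] [Algebra T B']
    [Algebra.IsStandardSmooth T B'] {a : ℕ} (cv : Fin a → B') :
    ∃ (N c : ℕ) (π : MvPolynomial (Fin N) T →ₐ[T] B') (ρ : Fin c → MvPolynomial (Fin N) T)
      (cols : Fin c ↪ Fin N) (emb : Fin a ↪ Fin N),
      Function.Surjective π ∧ RingHom.ker π.toRingHom = Ideal.span (Set.range ρ) ∧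
      IsUnit (π (Matrix.det (Matrix.of fun j k => pderiv (cols k) (ρ j)))) ∧
      ∀ k, π (X (emb k)) = cv k := by
  classical
  obtain ⟨ι, σ, _, _, ⟨PP0⟩⟩ := Algebra.IsStandardSmooth.out (R := T) (S := B')
  let Q := graphPres cv
  let PP1 := Q.comp PP0
  let e := (Finite.equivFin (Fin a ⊕ ι)).symm
  let f := (Finite.equivFin (Fin a ⊕ σ)).symm
  let PP := PP1.reindex e f
  refine ⟨_, _, aeval PP.val, PP.relation, ⟨PP.map, PP.map_inj⟩,
    ⟨fun k => e.symm (Sum.inl k), fun k k' hk => Sum.inl_injective (e.symm.injective hk)⟩,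
    PP.aeval_val_surjective, ?_, ?_, ?_⟩
  · rw [PP.span_range_relation_eq_ker, Algebra.Generators.ker_eq_ker_aeval_val]
    rfl
  · have h1 := PP.jacobian_isUnit
    rw [Algebra.PreSubmersivePresentation.jacobian_eq_jacobiMatrix_det,
      Algebra.Generators.algebraMap_apply] at h1
    have h2 : (Matrix.of fun j k => pderiv ((⟨PP.map, PP.map_inj⟩ : Fin _ ↪ Fin _) k)
        (PP.relation j)) = PP.jacobiMatrix.transpose := by
      refine Matrix.ext fun j k => ?_
      rw [Matrix.transpose_apply, Algebra.PreSubmersivePresentation.jacobiMatrix_apply]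
      rfl
    rw [h2, Matrix.det_transpose]
    exact h1
  · intro k
    rw [aeval_X]
    change PP1.val (e (e.symm (Sum.inl k))) = cv k
    rw [Equiv.apply_symm_apply]
    rfl

end data


section final
open Groth.Agent.Lib.Helper57.S2029Core

theorem core_ss {R A Λ T B' : Type u} [CommRing R] [CommRing A] [Algebra R A]
    [Algebra.FinitePresentation R A] [CommRing Λ] [Algebra R Λ] (φ : A →ₐ[R] Λ) (S : Submonoid R)
    [CommRing T] [Algebra R T] [IsLocalization S T] [CommRing B'] [Algebra T B']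
    [Algebra.IsStandardSmooth T B'] (g : T ⊗[R] A →ₐ[T] B') (h : B' →ₐ[T] T ⊗[R] Λ)
    (hgh : h.comp g = Algebra.TensorProduct.map (AlgHom.id T T) φ) :
    ∃ (B : Type u) (_ : CommRing B) (_ : Algebra R B) (α : A →ₐ[R] B) (β : B →ₐ[R] Λ),
      β.comp α = φ ∧ ∃ s ∈ S, Smoothing.IsElementaryStandard R B (algebraMap R B s) := by
  classical
  obtain ⟨a, ψ, hψ, hψfg⟩ := Algebra.FinitePresentation.out (R := R) (A := A)
  obtain ⟨tA, gA, hgA⟩ := Submodule.fg_iff_exists_fin_generating_family.1 hψfg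
  have hψker : RingHom.ker ψ.toRingHom = Ideal.span (Set.range gA) := hgA.symm
  let cv : Fin a → B' := fun k => g (1 ⊗ₜ ψ (X k))
  obtain ⟨N, c, π, ρ, cols, emb, hπ, hker, hunit, hemb⟩ := exists_data (T := T) cv
  have hsurj : ∀ z : Fin N, ∃ x : Λ × S, x.2 • h (π (X z)) = (1 : T) ⊗ₜ[R] x.1 := fun z =>
    IsLocalizedModule.surj S (TensorProduct.mk R T Λ 1) (h (π (X z)))
  let lamu : Fin N → Λ × S := fun z =>
    if hz : ∃ k, emb k = z then (φ (ψ (X hz.choose)), 1) else (hsurj z).choose
  have hlamu_emb : ∀ k, lamu (emb k) = (φ (ψ (X k)), 1) := by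
    intro k
    have hz : ∃ k', emb k' = emb k := ⟨k, rfl⟩
    have : hz.choose = k := emb.injective hz.choose_spec
    simp only [lamu, dif_pos hz, this]
  have hlamu : ∀ z, (lamu z).2 • h (π (X z)) = (1 : T) ⊗ₜ[R] (lamu z).1 := by
    intro z
    by_cases hz : ∃ k, emb k = z
    · obtain ⟨k, rfl⟩ := hz
      rw [hlamu_emb, hemb]
      change (1 : S) • h (g (1 ⊗ₜ ψ (X k))) = _
      rw [one_smul]
      have := AlgHom.congr_fun hgh ((1 : T) ⊗ₜ[R] ψ (X k))
      rw [AlgHom.comp_apply, Algebra.TensorProduct.map_tmul] at this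
      rw [this]
      rfl
    · simp only [lamu, dif_neg hz]
      exact (hsurj z).choose_spec
  let u : Fin N → Tˣ := fun z => (IsLocalization.map_units T (lamu z).2).unit
  have hu : ∀ z, ((u z : Tˣ) : T) = algebraMap R T ((lamu z).2 : R) := fun z => IsUnit.unit_spec _
  obtain ⟨π', ρ', hπ', hker', hunit', hX⟩ := rescale π hπ ρ hker cols hunit u
  refine core_data φ S g h ψ hψ gA hψker π' hπ' ρ' hker' cols hunit' emb ?_
    (fun z => (lamu z).1) ?_ ?_
  · intro k
    rw [hX, hu, hlamu_emb, hemb]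
    change algebraMap R T ((1 : S) : R) • cv k = cv k
    rw [Submonoid.coe_one, map_one, one_smul]
  · intro z
    rw [hX, hu, map_smul, algebraMap_smul]
    exact hlamu z
  · intro k
    rw [hlamu_emb]

end final


theorem result' {R A Λ Rₛ B' : Type u} [CommRing R] [CommRing A] [Algebra R A]
    [Algebra.FinitePresentation R A] [CommRing Λ] [Algebra R Λ] (φ : A →ₐ[R] Λ) (S : Submonoid R)
    [CommRing Rₛ] [Algebra R Rₛ] [IsLocalization S Rₛ] [CommRing B'] [Algebra Rₛ B']
    [Algebra.Smooth Rₛ B'] (g : Rₛ ⊗[R] A →ₐ[Rₛ] B') (h : B' →ₐ[Rₛ] Rₛ ⊗[R] Λ)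
    (hgh : h.comp g = Algebra.TensorProduct.map (AlgHom.id Rₛ Rₛ) φ) :
    ∃ (B : Type u) (_ : CommRing B) (_ : Algebra R B) (α : A →ₐ[R] B) (β : B →ₐ[R] Λ),
      β.comp α = φ ∧ ∃ s ∈ S, Smoothing.IsElementaryStandard R B (algebraMap R B s) := by
  obtain ⟨B'', _, _, _, _, -, ⟨ρr⟩, hss⟩ := Groth.Agent.S2025.result (R := Rₛ) (A := B')
  let g'' : Rₛ ⊗[R] A →ₐ[Rₛ] B'' := (IsScalarTower.toAlgHom Rₛ B' B'').comp g
  let h'' : B'' →ₐ[Rₛ] Rₛ ⊗[R] Λ := h.comp (ρr.restrictScalars Rₛ)
  have hh : h''.comp g'' = Algebra.TensorProduct.map (AlgHom.id Rₛ Rₛ) φ := by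
    rw [← hgh]
    apply AlgHom.ext
    intro x
    change h (ρr (algebraMap B' B'' (g x))) = h (g x)
    rw [AlgHom.commutes]
    rfl
  exact core_ss φ S g'' h'' hh

open TensorProduct in
/-- Let `R → A → Λ` with `A` finitely presented over `R`, `S ⊆ R` a multiplicative subset and `R_S` the
localization. If `R_S ⊗ A → R_S ⊗ Λ` factors through a smooth `R_S`-algebra, then `A → Λ` factors
through an `R`-algebra `B` in which some element of `S` is elementary standard over `R`. -/
theorem result {R A Λ Rₛ B' : Type u} [CommRing R] [CommRing A] [Algebra R A]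
    [Algebra.FinitePresentation R A] [CommRing Λ] [Algebra R Λ] (φ : A →ₐ[R] Λ) (S : Submonoid R)
    [CommRing Rₛ] [Algebra R Rₛ] [IsLocalization S Rₛ] [CommRing B'] [Algebra Rₛ B']
    [Algebra.Smooth Rₛ B'] (g : Rₛ ⊗[R] A →ₐ[Rₛ] B') (h : B' →ₐ[Rₛ] Rₛ ⊗[R] Λ)
    (hgh : h.comp g = Algebra.TensorProduct.map (AlgHom.id Rₛ Rₛ) φ) :
    ∃ (B : Type u) (_ : CommRing B) (_ : Algebra R B) (α : A →ₐ[R] B) (β : B →ₐ[R] Λ),
      β.comp α = φ ∧ ∃ s ∈ S, Smoothing.IsElementaryStandard R B (algebraMap R B s) :=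
  result' φ S g h hgh

end Groth.Agent.S2029
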