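import Groth.Statements.S2031
import Mathlib
import Groth.Agent.Lib.Helper57.S2030Aux
import Groth.Agent.S2030
-- import your own Groth.Agent.* helpers here

set_option autoImplicit false
universe u
open Smoothing

namespace Groth.Agent.S2031

open TensorProduct
open Groth.Agent.Lib.Helper57.S2030Aux
open Groth.Agent.S2030 (dT gT exact_T surj_T)

/-- A Cauchy–Binet style expansion over all column functions. -/
theorem det_mul_expand {T : Type*} [CommRing T] {c n : ℕ} (J : Matrix (Fin c) (Fin n) T)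
    (B : Matrix (Fin n) (Fin c) T) :
    (J * B).det = ∑ I : Fin c → Fin n, (∏ i, B (I i) i) * (J.submatrix id I).det := by
  rw [← Matrix.det_transpose]
  have h1 : (J * B).transpose = fun i => ∑ k, B k i • (fun j => J j k) := by
    ext i j
    simp [Matrix.mul_apply, mul_comm]
  have h2 : (J * B).transpose.det = Matrix.detRowAlternating
      (fun i => ∑ k, B k i • (fun j => J j k)) := by
    rw [h1]; rfl
  rw [h2]
  have h3 := (Matrix.detRowAlternating (n := Fin c) (R := T)).toMultilinearMap.map_sum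
    (fun i k => B k i • (fun j => J j k))
  change Matrix.detRowAlternating (fun i => ∑ k, B k i • (fun j => J j k)) = _ at h3
  rw [h3]
  refine Finset.sum_congr rfl fun I _ => ?_
  have h4 := (Matrix.detRowAlternating (n := Fin c) (R := T)).toMultilinearMap.map_smul_univ
    (fun i => B (I i) i) (fun i => (fun j => J j (I i)))
  change Matrix.detRowAlternating (fun i => B (I i) i • (fun j => J j (I i))) = _ at h4
  change Matrix.detRowAlternating (fun i => B (I i) i • (fun j => J j (I i))) = _
  rw [h4, smul_eq_mul]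
  congr 1
  rw [← Matrix.det_transpose (J.submatrix id I)]
  rfl


theorem proj_of_equiv {T M : Type u} [CommRing T] [AddCommGroup M] [Module T M] {p q : ℕ}
    (e : (M × (Fin p → T)) ≃ₗ[T] (Fin q → T)) : Module.Projective T M := by
  refine Module.Projective.of_split (e.toLinearMap ∘ₗ LinearMap.inl T M (Fin p → T))
    (LinearMap.fst T M (Fin p → T) ∘ₗ e.symm.toLinearMap) ?_
  refine LinearMap.ext fun x => ?_
  simp

/-- kernel of a map out of a product that only depends on the first factor -/
noncomputable def kerProdEquiv {T F1 F2 Ω : Type u} [CommRing T] [AddCommGroup F1] [Module T F1]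
    [AddCommGroup F2] [Module T F2] [AddCommGroup Ω] [Module T Ω]
    (g : F1 × F2 →ₗ[T] Ω) (hg : ∀ v : F2, g (0, v) = 0) :
    LinearMap.ker g ≃ₗ[T] LinearMap.ker (g ∘ₗ LinearMap.inl T F1 F2) × F2 where
  toFun x := (⟨x.1.1, by
    have h := x.2
    rw [LinearMap.mem_ker] at h ⊢
    have h2 : (x.1.1, x.1.2) = (x.1.1, 0) + ((0 : F1), x.1.2) := by simp
    have h3 : g (x.1.1, x.1.2) = 0 := h
    rw [h2, map_add, hg, add_zero] at h3
    exact h3⟩, x.1.2)
  map_add' x y := rfl
  map_smul' r x := rfl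
  invFun y := ⟨(y.1.1, y.2), by
    have h := y.1.2
    rw [LinearMap.mem_ker] at h ⊢
    have h2 : (y.1.1, y.2) = (y.1.1, 0) + ((0 : F1), y.2) := by simp
    rw [h2, map_add, hg, add_zero]
    exact h⟩
  left_inv x := rfl
  right_inv y := rfl

theorem free_ker {T M' F1 Ω : Type u} [CommRing T] [AddCommGroup M'] [Module T M']
    [AddCommGroup F1] [Module T F1] [AddCommGroup Ω] [Module T Ω] {p q : ℕ}
    (d : M' →ₗ[T] F1 × (Fin q → T)) (g : F1 × (Fin q → T) →ₗ[T] Ω) (hex : Function.Exact d g)
    (hinj : Function.Injective d) (hsurj : Function.Surjective g)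
    (hg : ∀ v : (Fin q → T), g (0, v) = 0)
    (e : (Ω × (Fin p → T)) ≃ₗ[T] (Fin q → T)) :
    Nonempty (M' ≃ₗ[T] F1 × (Fin p → T)) := by
  haveI : Module.Projective T Ω := proj_of_equiv e
  set g0 : F1 →ₗ[T] Ω := g ∘ₗ LinearMap.inl T F1 (Fin q → T) with hg0
  have hgg0 : ∀ u v, g (u, v) = g0 u := by
    intro u v
    have h2 : (u, v) = (u, 0) + ((0 : F1), v) := by simp
    rw [h2, map_add, hg, add_zero]
    rfl
  have hsurj0 : Function.Surjective g0 := by
    intro ω
    obtain ⟨⟨u, v⟩, huv⟩ := hsurj ω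
    exact ⟨u, by rw [← hgg0 u v, huv]⟩
  obtain ⟨s, hs⟩ := Module.projective_lifting_property g0 LinearMap.id hsurj0
  have E1 : F1 ≃ₗ[T] LinearMap.ker g0 × Ω :=
    ((LinearMap.exact_subtype_ker_map g0).splitSurjectiveEquiv
      (Submodule.injective_subtype _) ⟨s, hs⟩).1
  have E2 : LinearMap.ker g ≃ₗ[T] LinearMap.ker g0 × (Fin q → T) := kerProdEquiv g hg
  have hrange : LinearMap.range d = LinearMap.ker g := (LinearMap.exact_iff.mp hex).symm
  have E3 : M' ≃ₗ[T] LinearMap.ker g :=
    (LinearEquiv.ofInjective d hinj).trans (LinearEquiv.ofEq _ _ hrange)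
  exact ⟨E3.trans (E2.trans (((LinearEquiv.refl T _).prodCongr e.symm).trans
    ((LinearEquiv.prodAssoc T _ _ _).symm.trans (E1.symm.prodCongr (LinearEquiv.refl T _)))))⟩

theorem free_of_basis {T M' M0 Ω : Type u} [CommRing T] [AddCommGroup M'] [Module T M']
    [AddCommGroup M0] [Module T M0] [AddCommGroup Ω] [Module T Ω] {n0 p q : ℕ}
    (dT : M' →ₗ[T] M0) (g : M0 →ₗ[T] Ω) (hex : Function.Exact dT g)
    (hinj : Function.Injective dT) (hsurj : Function.Surjective g)
    (b0 : Module.Basis (Fin (n0 + q)) T M0) (hb : ∀ i : Fin q, g (b0 (Fin.natAdd n0 i)) = 0)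
    (e : (Ω × (Fin p → T)) ≃ₗ[T] (Fin q → T)) :
    Nonempty (Module.Basis (Fin (n0 + p)) T M') := by
  let ψ : M0 ≃ₗ[T] (Fin n0 → T) × (Fin q → T) :=
    b0.equivFun.trans ((LinearEquiv.funCongrLeft T T finSumFinEquiv).trans
      (LinearEquiv.sumArrowLequivProdArrow (Fin n0) (Fin q) T T))
  have hex' : Function.Exact (ψ.toLinearMap ∘ₗ dT) (g ∘ₗ ψ.symm.toLinearMap) := by
    intro x
    constructor
    · intro hx
      obtain ⟨m, hm⟩ := (hex (ψ.symm x)).1 hx
      exact ⟨m, by simp [hm]⟩
    · rintro ⟨m, rfl⟩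
      have := (hex (dT m)).2 ⟨m, rfl⟩
      simpa using this
  have hinj' : Function.Injective (ψ.toLinearMap ∘ₗ dT) := ψ.injective.comp hinj
  have hsurj' : Function.Surjective (g ∘ₗ ψ.symm.toLinearMap) := hsurj.comp ψ.symm.surjective
  have hg' : ∀ v : Fin q → T, (g ∘ₗ ψ.symm.toLinearMap) (0, v) = 0 := by
    intro v
    have h1 : ψ.symm (0, v) = ∑ k, (Sum.elim (0 : Fin n0 → T) v (finSumFinEquiv.symm k)) • b0 k := by
      change b0.equivFun.symm _ = _
      rw [Module.Basis.equivFun_symm_apply]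
      rfl
    change g (ψ.symm (0, v)) = 0
    rw [h1, map_sum, Fin.sum_univ_add]
    simp [hb]
  obtain ⟨E⟩ := free_ker _ _ hex' hinj' hsurj' hg' e
  let E' : M' ≃ₗ[T] (Fin (n0 + p) → T) :=
    E.trans ((LinearEquiv.sumArrowLequivProdArrow (Fin n0) (Fin p) T T).symm.trans
      (LinearEquiv.funCongrLeft T T finSumFinEquiv.symm))
  exact ⟨Module.Basis.ofEquivFun E'⟩

section
variable {R A : Type u} [CommRing R] [CommRing A] [Algebra R A] (a : A)
  (P : MarkedPresentation R A)

theorem dT_inj [Algebra.FormallySmooth R (Localization.Away a)] :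
    Function.Injective (dT a P) := by
  haveI : Algebra.FormallySmooth R (G P).toExtension.Ring :=
    inferInstanceAs (Algebra.FormallySmooth R (MvPolynomial (Fin P.n) R))
  have e1 := Algebra.tensorH1CotangentOfIsLocalization R (Localization.Away a) (Submonoid.powers a)
  have e2 := (G P).toExtension.equivH1CotangentOfFormallySmooth
  have e3 : (Localization.Away a) ⊗[A] (G P).toExtension.H1Cotangent ≃ₗ[A]
      (Localization.Away a) ⊗[A] Algebra.H1Cotangent R A := LinearEquiv.lTensor _ e2
  haveI : Subsingleton ((Localization.Away a) ⊗[A] Algebra.H1Cotangent R A) :=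
    e1.toEquiv.subsingleton
  haveI : Subsingleton ((Localization.Away a) ⊗[A] (G P).toExtension.H1Cotangent) :=
    e3.toEquiv.subsingleton
  have hex : Function.Exact ((G P).toExtension.h1Cotangentι.lTensor (Localization.Away a))
      ((G P).toExtension.cotangentComplex.lTensor (Localization.Away a)) :=
    Module.Flat.lTensor_exact (Localization.Away a) (LinearMap.exact_subtype_ker_map _)
  rw [injective_iff_map_eq_zero]
  intro x hx
  obtain ⟨w, rfl⟩ := (hex x).1 hx
  rw [Subsingleton.elim w 0, map_zero]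

theorem exists_retraction [Algebra.FormallySmooth R (Localization.Away a)] :
    ∃ ρ, ρ ∘ₗ dT a P = LinearMap.id := by
  haveI : Algebra.FormallyEtale A (Localization.Away a) :=
    Algebra.FormallyEtale.of_isLocalization (Submonoid.powers a)
  have eΩ := KaehlerDifferential.tensorKaehlerEquivOfFormallyEtale R A (Localization.Away a)
  haveI : Module.Projective (Localization.Away a) ((Localization.Away a) ⊗[A] Ω[A⁄R]) :=
    Module.Projective.of_equiv eΩ.symm
  have hsec := Module.projective_lifting_property (gT a P) LinearMap.id (surj_T a P)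
  exact (((exact_T a P).split_tfae (dT_inj a P) (surj_T a P)).out 0 1).1 hsec

theorem gT_b0 (k : Fin P.n) :
    gT a P (b0 a P k) = 1 ⊗ₜ KaehlerDifferential.D R A (P.hom (MvPolynomial.X k)) := by
  rw [b0, Module.Basis.baseChange_apply, gT, LinearMap.baseChange_tmul,
    Algebra.Generators.toKaehler_cotangentSpaceBasis]
  rfl

theorem minor_mem [Algebra.FormallySmooth R (Localization.Away a)]
    (β : Module.Basis (Fin P.c) (Localization.Away a)
      ((Localization.Away a) ⊗[A] (G P).toExtension.Cotangent))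
    (hβ : ∀ j, β j = z a P j) :
    ∃ e : ℕ, a ^ e ∈ Ideal.span (Set.range fun cols : Fin P.c → Fin P.n =>
        P.hom (jacobianMinor P.rel (Fin.castLE P.hcm) cols)) := by
  obtain ⟨ρ, hρ⟩ := exists_retraction a P
  have hρ' : ∀ w, ρ (dT a P w) = w := fun w => LinearMap.congr_fun hρ w
  let B : Matrix (Fin P.n) (Fin P.c) (Localization.Away a) :=
    Matrix.of fun k i => β.repr (ρ (b0 a P k)) i
  have hJB : Jmat a P * B = 1 := by
    ext j i
    have h1 : dT a P (z a P j) = ∑ k, Jmat a P j k • b0 a P k := by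
      rw [← (b0 a P).sum_repr (dT a P (z a P j))]
      refine Finset.sum_congr rfl fun k _ => ?_
      rw [hJ]
    have h2 : β.repr (ρ (dT a P (z a P j))) i = ∑ k, Jmat a P j k * B k i := by
      rw [h1, map_sum, map_sum, Finsupp.finset_sum_apply]
      refine Finset.sum_congr rfl fun k _ => ?_
      rw [map_smul, map_smul, Finsupp.smul_apply, smul_eq_mul]
      rfl
    rw [Matrix.mul_apply, ← h2, hρ', ← hβ, Module.Basis.repr_self, Matrix.one_apply,
      Finsupp.single_apply]
  have hdet := det_mul_expand (Jmat a P) B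
  rw [hJB, Matrix.det_one] at hdet
  set 𝔞 : Ideal A := Ideal.span (Set.range fun cols : Fin P.c → Fin P.n =>
        P.hom (jacobianMinor P.rel (Fin.castLE P.hcm) cols)) with h𝔞
  have h1 : algebraMap A (Localization.Away a) 1 ∈ 𝔞.map (algebraMap A (Localization.Away a)) := by
    rw [map_one, hdet]
    refine Ideal.sum_mem _ fun I _ => Ideal.mul_mem_left _ _ ?_
    rw [det_Jmat]
    exact Ideal.mem_map_of_mem _ (Ideal.subset_span ⟨I, rfl⟩)
  obtain ⟨m, ⟨e, rfl⟩, hm⟩ :=
    (IsLocalization.algebraMap_mem_map_algebraMap_iff (Submonoid.powers a) _ 𝔞 1).1 h1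
  exact ⟨e, by simpa using hm⟩

theorem mkI_sub (x x' : II P) : mkI P (x - x') = mkI P x - mkI P x' :=
  map_sub Algebra.Extension.Cotangent.mk
    (⟨x.1, mem_ker_of_mem P x.1 x.2⟩ : (G P).toExtension.ker) ⟨x'.1, mem_ker_of_mem P x'.1 x'.2⟩

theorem exists_lead_rep (m : (G P).toExtension.Cotangent)
    (hm : m ∈ Submodule.span A ((y P) '' {j' : Fin P.m | (j' : ℕ) < P.c})) :
    ∃ k, ∃ hk : k ∈ Ideal.span (P.rel '' {j' : Fin P.m | (j' : ℕ) < P.c}),
      m = mkI P ⟨k, lead_le P hk⟩ := by
  induction hm using Submodule.span_induction with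
  | mem x hx =>
    obtain ⟨j, hj, rfl⟩ := hx
    exact ⟨P.rel j, Ideal.subset_span ⟨j, hj, rfl⟩, rfl⟩
  | zero => exact ⟨0, Submodule.zero_mem _, (mkI_zero P).symm⟩
  | add x x' _ _ h1 h2 =>
    obtain ⟨k, hk, rfl⟩ := h1
    obtain ⟨k', hk', rfl⟩ := h2
    refine ⟨k + k', Submodule.add_mem _ hk hk', ?_⟩
    rw [← mkI_add]
    rfl
  | smul r x _ h1 =>
    obtain ⟨k, hk, rfl⟩ := h1
    obtain ⟨r', rfl⟩ := P.surj r
    refine ⟨r' * k, Ideal.mul_mem_left _ _ hk, ?_⟩
    rw [← mkI_smul]
    rfl

theorem mem_of_mkI_mem (x : II P)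
    (hx : mkI P x ∈ Submodule.span A ((y P) '' {j' : Fin P.m | (j' : ℕ) < P.c})) :
    x.1 ∈ Ideal.span (P.rel '' {j' : Fin P.m | (j' : ℕ) < P.c}) ⊔ (II P) ^ 2 := by
  obtain ⟨k, hk, e⟩ := exists_lead_rep P _ hx
  have h0 : mkI P (x - ⟨k, lead_le P hk⟩) = 0 := by
    rw [mkI_sub, e, sub_self]
  have h1 : x.1 - k ∈ (II P) ^ 2 := by
    have h2 : (x.1 - k) ∈ (G P).toExtension.ker ^ 2 :=
      (Algebra.Extension.Cotangent.mk_eq_zero_iff _).1 h0
    have h3 : (G P).toExtension.ker ^ 2 = (II P) ^ 2 := by rw [ker_eq'] <;> rfl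
    rw [h3] at h2
    exact h2
  have : x.1 = k + (x.1 - k) := by ring
  rw [this]
  exact Submodule.add_mem_sup hk h1

theorem killsTail_of_smul_mem (b : A)
    (hb : ∀ j : Fin P.m, P.c ≤ (j : ℕ) →
      b • y P j ∈ Submodule.span A ((y P) '' {j' : Fin P.m | (j' : ℕ) < P.c})) :
    KillsTail P b := by
  intro a' ha' j hj
  have e1 : b • y P j = mkI P (a' • ⟨P.rel j, Ideal.subset_span ⟨j, rfl⟩⟩) := by
    rw [mkI_smul, ha', y_eq]
  have h := hb j hj
  rw [e1] at h
  exact mem_of_mkI_mem P _ h

theorem exists_pow_smul_y_mem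
    (β : Module.Basis (Fin P.c) (Localization.Away a)
      ((Localization.Away a) ⊗[A] (G P).toExtension.Cotangent))
    (hβ : ∀ j, β j = z a P j) (j : Fin P.m) :
    ∃ e : ℕ, a ^ e • y P j ∈ Submodule.span A ((y P) '' {j' : Fin P.m | (j' : ℕ) < P.c}) := by
  set N := Submodule.span A ((y P) '' {j' : Fin P.m | (j' : ℕ) < P.c}) with hN
  let f : (G P).toExtension.Cotangent →ₗ[A] (Localization.Away a) ⊗[A] (G P).toExtension.Cotangent :=
    TensorProduct.mk A (Localization.Away a) (G P).toExtension.Cotangent 1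
  have hloc : N.localized' (Localization.Away a) (Submonoid.powers a) f = ⊤ := by
    rw [hN, Submodule.localized'_span, eq_top_iff, ← β.span_eq]
    apply Submodule.span_mono
    rintro _ ⟨i, rfl⟩
    refine ⟨y P (Fin.castLE P.hcm i), ⟨Fin.castLE P.hcm i, ?_, rfl⟩, ?_⟩
    · exact i.2
    · rw [hβ]; rfl
  have hmem : f (y P j) ∈ N.localized' (Localization.Away a) (Submonoid.powers a) f := by
    rw [hloc]; trivial
  obtain ⟨m, hm, s, hs⟩ := (Submodule.mem_localized' _ _ _ _ _).1 hmem
  rw [IsLocalizedModule.mk'_eq_iff] at hs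
  obtain ⟨s, l, rfl⟩ := s
  have hs' : f m = f (a ^ l • y P j) := by
    rw [hs, map_smul]
    rfl
  obtain ⟨⟨_, k, rfl⟩, hc⟩ := (IsLocalizedModule.eq_iff_exists (Submonoid.powers a) f).1 hs'
  refine ⟨k + l, ?_⟩
  have : a ^ (k + l) • y P j = a ^ k • m := by
    rw [pow_add, mul_smul]
    exact hc.symm
  rw [this]
  exact Submodule.smul_mem _ _ hm

theorem strictlyStandard_pow [Algebra.FormallySmooth R (Localization.Away a)]
    (β : Module.Basis (Fin P.c) (Localization.Away a)
      ((Localization.Away a) ⊗[A] (G P).toExtension.Cotangent))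
    (hβ : ∀ j, β j = z a P j) :
    ∃ e₀ : ℕ, ∀ n : ℕ, e₀ ≤ n → IsStrictlyStandard R A (a ^ n) := by
  obtain ⟨e1, he1⟩ := minor_mem a P β hβ
  choose e he using exists_pow_smul_y_mem a P β hβ
  refine ⟨e1 + ∑ j, e j, fun n hn => ⟨P, ?_, ?_⟩⟩
  · have : a ^ n = a ^ (n - e1) * a ^ e1 := by
      rw [← pow_add]; congr 1; omega
    rw [this]
    exact Ideal.mul_mem_left _ _ he1
  · apply killsTail_of_smul_mem
    intro j _
    have hj : e j ≤ n := by
      have : e j ≤ ∑ j, e j := Finset.single_le_sum (f := e) (fun _ _ => Nat.zero_le _) (Finset.mem_univ j)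
      omega
    have : a ^ n • y P j = a ^ (n - e j) • (a ^ e j • y P j) := by
      rw [smul_smul, ← pow_add]; congr 2; omega
    rw [this]
    exact Submodule.smul_mem _ _ (he j)

theorem exists_lead {c : ℕ}
    (β0 : Module.Basis (Fin c) (Localization.Away a)
      ((Localization.Away a) ⊗[A] (G P).toExtension.Cotangent)) :
    ∃ (f : Fin c → MvPolynomial (Fin P.n) R) (hf : ∀ j, f j ∈ II P)
      (β : Module.Basis (Fin c) (Localization.Away a)
        ((Localization.Away a) ⊗[A] (G P).toExtension.Cotangent)),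
      ∀ j, β j = (1 : Localization.Away a) ⊗ₜ[A] mkI P ⟨f j, hf j⟩ := by
  let ι : (G P).toExtension.Cotangent →ₗ[A] (Localization.Away a) ⊗[A] (G P).toExtension.Cotangent :=
    TensorProduct.mk A (Localization.Away a) (G P).toExtension.Cotangent 1
  have h1 : ∀ j, ∃ (l : ℕ) (x : MvPolynomial (Fin P.n) R) (hx : x ∈ II P),
      algebraMap A (Localization.Away a) (a ^ l) • β0 j = (1 : Localization.Away a) ⊗ₜ[A] mkI P ⟨x, hx⟩ := by
    intro j
    obtain ⟨⟨m, ⟨_, l, rfl⟩⟩, hm⟩ := IsLocalizedModule.surj (Submonoid.powers a) ι (β0 j)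
    obtain ⟨⟨x, hx⟩, rfl⟩ := Algebra.Extension.Cotangent.mk_surjective m
    have hx' : x ∈ II P := by
      have := hx
      rw [ker_eq'] at this
      exact this
    refine ⟨l, x, hx', ?_⟩
    rw [algebraMap_smul]
    exact hm
  choose l f hf h using h1
  refine ⟨f, hf, β0.isUnitSMul (w := fun j => algebraMap A (Localization.Away a) (a ^ l j))
    (fun j => IsLocalization.map_units _ (⟨a ^ l j, l j, rfl⟩ : Submonoid.powers a)), fun j => ?_⟩
  rw [Module.Basis.isUnitSMul_apply]
  exact h j

/-- the marked presentation with the new leading relations put in front -/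
@[reducible] noncomputable def mkP (c : ℕ) (hcn : c ≤ P.n) (f : Fin c → MvPolynomial (Fin P.n) R)
    (hf : ∀ j, f j ∈ II P) : MarkedPresentation R A where
  n := P.n
  m := c + P.m
  c := c
  hcn := hcn
  hcm := Nat.le_add_right _ _
  rel := Fin.append f P.rel
  hom := P.hom
  surj := P.surj
  ker_eq := by
    rw [P.ker_eq]
    apply le_antisymm
    · apply Ideal.span_mono
      rintro _ ⟨j, rfl⟩
      exact ⟨Fin.natAdd c j, by simp⟩
    · rw [Ideal.span_le]
      rintro _ ⟨j, rfl⟩
      induction j using Fin.addCases with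
      | left j => rw [Fin.append_left]; exact hf j
      | right j => rw [Fin.append_right]; exact Ideal.subset_span ⟨j, rfl⟩

theorem exists_basis [Algebra.FormallySmooth R (Localization.Away a)] (n0 p q : ℕ)
    (hn : P.n = n0 + q)
    (hX : ∀ k : Fin P.n, n0 ≤ (k : ℕ) → P.hom (MvPolynomial.X k) = 0)
    (e : (Ω[Localization.Away a⁄R] × (Fin p → Localization.Away a)) ≃ₗ[Localization.Away a]
      (Fin q → Localization.Away a)) :
    Nonempty (Module.Basis (Fin (n0 + p)) (Localization.Away a)
      ((Localization.Away a) ⊗[A] (G P).toExtension.Cotangent)) := by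
  haveI : Algebra.FormallyEtale A (Localization.Away a) :=
    Algebra.FormallyEtale.of_isLocalization (Submonoid.powers a)
  have eΩ := KaehlerDifferential.tensorKaehlerEquivOfFormallyEtale R A (Localization.Away a)
  let e' : (((Localization.Away a) ⊗[A] Ω[A⁄R]) × (Fin p → Localization.Away a))
      ≃ₗ[Localization.Away a] (Fin q → Localization.Away a) :=
    (eΩ.prodCongr (LinearEquiv.refl (Localization.Away a) _)).trans e
  refine free_of_basis (dT a P) (gT a P) (exact_T a P) (dT_inj a P) (surj_T a P)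
    ((b0 a P).reindex (finCongr hn)) ?_ e'
  intro i
  rw [Module.Basis.reindex_apply, gT_b0, hX _ ?_, map_zero, tmul_zero]
  simp

theorem z_mkP (c : ℕ) (hcn : c ≤ P.n) (f : Fin c → MvPolynomial (Fin P.n) R)
    (hf : ∀ j, f j ∈ II P) (j : Fin c) :
    z a (mkP P c hcn f hf) j = (1 : Localization.Away a) ⊗ₜ[A] mkI P ⟨f j, hf j⟩ := by
  have h : (mkP P c hcn f hf).rel (Fin.castLE (mkP P c hcn f hf).hcm j) = f j :=
    Fin.append_left f P.rel j
  change (1 : Localization.Away a) ⊗ₜ[A] Algebra.Extension.Cotangent.mk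
      (⟨_, _⟩ : (G P).toExtension.ker) =
    (1 : Localization.Away a) ⊗ₜ[A] Algebra.Extension.Cotangent.mk
      (⟨_, _⟩ : (G P).toExtension.ker)
  congr 2
  exact Subtype.ext h

include P in
theorem strictlyStandard_zero : IsStrictlyStandard R A 0 := by
  refine ⟨P, Submodule.zero_mem _, ?_⟩
  intro a' ha' j _
  apply Submodule.mem_sup_right
  have h1 : a' ∈ Ideal.span (Set.range P.rel) := by
    rw [← P.ker_eq]
    exact ha'
  rw [sq]
  exact Ideal.mul_mem_mul h1 (Ideal.subset_span ⟨j, rfl⟩)

end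

theorem result' {R A : Type u} [CommRing R] [CommRing A]
    [Algebra R A] [Algebra.FinitePresentation R A] (a : A) [Algebra.Smooth R (Localization.Away a)]
    (p q : ℕ) (e : (Ω[Localization.Away a⁄R] × (Fin p → Localization.Away a)) ≃ₗ[Localization.Away a]
      (Fin q → Localization.Away a)) :
    ∃ e₀ : ℕ, ∀ n : ℕ, e₀ ≤ n → Smoothing.IsStrictlyStandard R A (a ^ n) := by
  obtain ⟨n0, f0, hf0, -⟩ := Algebra.FinitePresentation.out (R := R) (A := A)
  let hom : MvPolynomial (Fin (n0 + q)) R →ₐ[R] A :=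
    MvPolynomial.aeval (Fin.append (fun i => f0 (MvPolynomial.X i)) (fun _ => 0))
  have hsurj : Function.Surjective hom := by
    intro x
    obtain ⟨w, rfl⟩ := hf0 x
    refine ⟨MvPolynomial.rename (Fin.castAdd q) w, ?_⟩
    change MvPolynomial.aeval _ (MvPolynomial.rename (Fin.castAdd q) w) = _
    rw [MvPolynomial.aeval_rename]
    have : (Fin.append (fun i => f0 (MvPolynomial.X i)) (fun _ => (0 : A))) ∘ Fin.castAdd q =
        fun i => f0 (MvPolynomial.X i) := by
      ext i; simp
    rw [this, aeval_eq f0]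
  have hker : (RingHom.ker hom.toRingHom).FG :=
    Algebra.FinitePresentation.ker_fG_of_surjective hom hsurj
  obtain ⟨m1, g, hg⟩ := Submodule.fg_iff_exists_fin_generating_family.1 hker
  let P0 : MarkedPresentation R A :=
    { n := n0 + q, m := m1, c := 0, hcn := Nat.zero_le _, hcm := Nat.zero_le _, rel := g,
      hom := hom, surj := hsurj, ker_eq := hg.symm }
  by_cases hT : Subsingleton (Localization.Away a)
  · have h1 : algebraMap A (Localization.Away a) 1 = 0 := Subsingleton.elim _ _
    obtain ⟨⟨_, N, rfl⟩, hN⟩ := (IsLocalization.map_eq_zero_iff (Submonoid.powers a) _ _).1 h1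
    refine ⟨N, fun n hn => ?_⟩
    have : a ^ n = 0 := by
      have h2 : a ^ N = 0 := by simpa using hN
      have : a ^ n = a ^ (n - N) * a ^ N := by rw [← pow_add]; congr 1; omega
      rw [this, h2, mul_zero]
    rw [this]
    exact strictlyStandard_zero P0
  · haveI : Nontrivial (Localization.Away a) := not_subsingleton_iff_nontrivial.1 hT
    haveI : Algebra.FormallySmooth R (Localization.Away a) := Algebra.Smooth.formallySmooth
    have hpq : p ≤ q := by
      refine le_of_fin_surjective (Localization.Away a)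
        ((LinearMap.snd (Localization.Away a) _ _) ∘ₗ e.symm.toLinearMap) ?_
      exact (Prod.snd_surjective).comp e.symm.surjective
    have hX : ∀ k : Fin P0.n, n0 ≤ (k : ℕ) → P0.hom (MvPolynomial.X k) = 0 := by
      intro k hk
      change MvPolynomial.aeval _ (MvPolynomial.X k) = 0
      rw [MvPolynomial.aeval_X]
      induction k using Fin.addCases with
      | left i => exact absurd hk (by simp)
      | right i => simp
    obtain ⟨β0⟩ := exists_basis a P0 n0 p q rfl hX e
    obtain ⟨f, hf, β, hβ⟩ := exists_lead a P0 β0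
    exact strictlyStandard_pow a (mkP P0 (n0 + p) (Nat.add_le_add_left hpq n0) f hf) β
      (fun j => (hβ j).trans (z_mkP a P0 (n0 + p) _ f hf j).symm)


/-- Let `A` be a finitely presented `R`-algebra and `a ∈ A` such that `A_a` is smooth over `R` with
stably free module of differentials. Then `a^e` is strictly standard in `A` over `R` for all
sufficiently large `e`. -/
theorem result {R A : Type u} [CommRing R] [CommRing A]
    [Algebra R A] [Algebra.FinitePresentation R A] (a : A) [Algebra.Smooth R (Localization.Away a)]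
    (p q : ℕ) (e : (Ω[Localization.Away a⁄R] × (Fin p → Localization.Away a)) ≃ₗ[Localization.Away a]
      (Fin q → Localization.Away a)) :
    ∃ e₀ : ℕ, ∀ n : ℕ, e₀ ≤ n → Smoothing.IsStrictlyStandard R A (a ^ n) :=
  result' a p q e

end Groth.Agent.S2031
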