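import Groth.Statements.S2043
import Groth.Agent.S0536
import Groth.Agent.Lib.Helper90.PairHzFactor
-- import your own Groth.Agent.* helpers here

set_option autoImplicit false
universe u
open CAlg

namespace Groth.Agent.S2043

open Groth.Agent.Lib.Helper90 in

/-- Let `I ⊆ A` be an ideal, `B` a smooth `A`-algebra and `B → A/I` an `A`-algebra map. Then there is an
étale `A`-algebra `A'` with `A/I → A'/IA'` bijective and an `A`-algebra map `B → A'` lifting the
given map. -/
theorem result {A B : Type u} [CommRing A] [CommRing B] [Algebra A B]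
    [Algebra.Smooth A B] (I : Ideal A) (σ : B →ₐ[A] A ⧸ I) :
    ∃ (A' : Type u) (_ : CommRing A') (_ : Algebra A A'), Algebra.Etale A A' ∧
      Function.Bijective (algebraMap (A ⧸ I) (A' ⧸ I.map (algebraMap A A'))) ∧
      ∃ τ : B →ₐ[A] A', ∀ b : B,
        Ideal.Quotient.mk (I.map (algebraMap A A')) (τ b) =
          algebraMap (A ⧸ I) (A' ⧸ I.map (algebraMap A A')) (σ b) := by
  classical
  have hH : HenselianRing (PairHz.Hz I) (I.map (algebraMap A (PairHz.Hz I))) :=
    (PairHz.isPairHenselization_Hz I).1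
  have hQ : PairHz.QuotBij I (PairHz.Hz I) := PairHz.quotBij_Hz I
  -- the map `A/I → H/IH`
  let κ : A ⧸ I →ₐ[A] PairHz.Hz I ⧸ I.map (algebraMap A (PairHz.Hz I)) :=
    Ideal.quotientMapₐ (I.map (algebraMap A (PairHz.Hz I))) (Algebra.ofId A (PairHz.Hz I))
      (Ideal.le_comap_map)
  have hκ : ∀ a : A, κ (Ideal.Quotient.mk I a) =
      Ideal.Quotient.mk _ (algebraMap A (PairHz.Hz I) a) := fun a => rfl
  obtain ⟨τ, hτ⟩ := Groth.Agent.S0536.result A B (PairHz.Hz I)
    (I.map (algebraMap A (PairHz.Hz I))) (κ.comp σ)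
  have hτ' : ∀ b : B, Ideal.Quotient.mk (I.map (algebraMap A (PairHz.Hz I))) (τ b) = κ (σ b) :=
    fun b => AlgHom.congr_fun hτ b
  obtain ⟨A', _, _, hA', φ, hφ⟩ := PairHz.exists_good_factor I B τ
  refine ⟨A', inferInstance, inferInstance, hA'.1, hA'.2, φ, fun b => ?_⟩
  obtain ⟨a, ha⟩ := Ideal.Quotient.mk_surjective (σ b)
  rw [← ha, Ideal.Quotient.algebraMap_quotient_map_quotient, Ideal.Quotient.eq]
  -- reduce to `H`
  have hA'Q : PairHz.QuotBij I A' := hA'.quotBij I
  obtain ⟨a', ha'⟩ := hA'Q.surj (φ b - algebraMap A A' a)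
  have h1 : PairHz.ofGood I A' hA' (φ b) = τ b := AlgHom.congr_fun hφ b
  have h2 : τ b - algebraMap A (PairHz.Hz I) a ∈ I.map (algebraMap A (PairHz.Hz I)) := by
    rw [← Ideal.Quotient.eq, hτ', ← ha, hκ]
  have h3 : PairHz.ofGood I A' hA' (φ b - algebraMap A A' a - algebraMap A A' a') ∈
      I.map (algebraMap A (PairHz.Hz I)) :=
    PairHz.map_mem_map_of_algHom I (PairHz.ofGood I A' hA') ha'
  rw [map_sub, map_sub, h1, AlgHom.commutes, AlgHom.commutes] at h3
  have h4 : algebraMap A (PairHz.Hz I) a' ∈ I.map (algebraMap A (PairHz.Hz I)) := by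
    have := Ideal.sub_mem _ h2 h3
    rwa [sub_sub_cancel] at this
  have h5 : a' ∈ I := hQ.inj a' h4
  have h6 : algebraMap A A' a' ∈ I.map (algebraMap A A') := Ideal.mem_map_of_mem _ h5
  have := Ideal.add_mem _ ha' h6
  rwa [sub_add_cancel] at this

end Groth.Agent.S2043
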