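import Groth.Statements.S2044
import Groth.Agent.Lib.Helper90.EtaleNbhdProj
-- import your own Groth.Agent.* helpers here

set_option autoImplicit false
universe u
open CAlg

namespace Groth.Agent.S2044

open TensorProduct in
/-- Let `I ⊆ A` be an ideal and `P` a finite projective `A/I`-module. Then there is an étale `A`-algebra
`A'` with `A/I → A'/IA'` bijective and a finite projective `A'`-module whose reduction modulo `IA'`
is the base change of `P`. -/
theorem result {A : Type u} [CommRing A] (I : Ideal A) (P : Type u)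
    [AddCommGroup P] [Module (A ⧸ I) P] [Module.Finite (A ⧸ I) P] [Module.Projective (A ⧸ I) P] :
    ∃ (A' : Type u) (_ : CommRing A') (_ : Algebra A A'), Algebra.Etale A A' ∧
      Function.Bijective (algebraMap (A ⧸ I) (A' ⧸ I.map (algebraMap A A'))) ∧
      ∃ (P' : Type u) (_ : AddCommGroup P') (_ : Module A' P'), Module.Finite A' P' ∧
        Module.Projective A' P' ∧
        Nonempty (((A' ⧸ I.map (algebraMap A A')) ⊗[A'] P') ≃ₗ[A' ⧸ I.map (algebraMap A A')]
          ((A' ⧸ I.map (algebraMap A A')) ⊗[A ⧸ I] P)) := by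
  classical
  obtain ⟨n, f, g, -, -, hfg⟩ := Module.Finite.exists_comp_eq_id_of_projective (A ⧸ I) P
  set pbar := LinearMap.toMatrix' (g ∘ₗ f) with hpbar
  have hp : IsIdempotentElem pbar := by
    change pbar * pbar = pbar
    rw [hpbar, ← LinearMap.toMatrix'_comp]
    congr 1
    rw [LinearMap.comp_assoc, ← LinearMap.comp_assoc f g f, hfg, LinearMap.id_comp]
  obtain ⟨A', _, _, hA', hbij, p', hp', hpp⟩ :=
    Groth.Agent.Lib.Helper90.EtaleNbhd.exists_etale_lift_idempotent_matrix I n pbar hp
  refine ⟨A', inferInstance, inferInstance, hA', hbij, ?_⟩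
  let ε' : (Fin n → A') →ₗ[A'] (Fin n → A') := Matrix.toLin' p'
  have hε' : ε' ∘ₗ ε' = ε' := by
    change Matrix.toLin' p' ∘ₗ Matrix.toLin' p' = Matrix.toLin' p'
    rw [← Matrix.toLin'_mul, hp'.eq]
  let i₁ : LinearMap.range ε' →ₗ[A'] (Fin n → A') := (LinearMap.range ε').subtype
  let s₁ : (Fin n → A') →ₗ[A'] LinearMap.range ε' := ε'.rangeRestrict
  have his : i₁ ∘ₗ s₁ = ε' := LinearMap.subtype_comp_codRestrict _ _ _
  have h₁ : s₁ ∘ₗ i₁ = LinearMap.id := by
    apply LinearMap.ext
    rintro ⟨x, y, rfl⟩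
    apply Subtype.ext
    change ε' (ε' y) = ε' y
    exact congr($hε' y)
  refine ⟨LinearMap.range ε', inferInstance, inferInstance, Module.Finite.range ε',
    Module.Projective.of_split i₁ s₁ h₁, ?_⟩
  apply Groth.Agent.Lib.Helper90.EtaleNbhd.nonempty_baseChange_linearEquiv_of_matrix_eq
    n i₁ s₁ h₁ g f hfg
  rw [his]
  change (LinearMap.toMatrix' (Matrix.toLin' p')).map _ = _
  rw [LinearMap.toMatrix'_toLin']
  exact hpp

end Groth.Agent.S2044
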