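import Groth.Statements.S2045
-- import your own Groth.Agent.* helpers here
import Groth.Agent.Lib.Helper15.GRingLoc
import Groth.Agent.Lib.Helper15.HensFormalFibre
set_option linter.style.haveILetI false

set_option autoImplicit false
universe u
open CAlg

namespace Groth.Agent.S2045

/-- If `R` is a Noetherian local G-ring then its henselization is a G-ring. -/
theorem result {R S : Type u} [CommRing R] [IsLocalRing R] [IsNoetherianRing R]
    (hR : CAlg.IsGRing R) [CommRing S] [IsLocalRing S] [Algebra R S] [IsLocalHom (algebraMap R S)]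
    [Hensel.IsHenselization R S] : CAlg.IsGRing S := by
  haveI : IsNoetherianRing S :=
    (Groth.Agent.Lib.Helper37.Hz.isNoetherianRing_iff_of_isHenselization R S).mp inferInstance
  have hRm := hR.2 (IsLocalRing.maximalIdeal R)
  have hM : (IsLocalRing.maximalIdeal R).primeCompl ≤ IsUnit.submonoid R := by
    intro a ha
    by_contra hu
    exact ha ((IsLocalRing.mem_maximalIdeal a).mpr hu)
  let e : R ≃ₐ[R] Localization.AtPrime (IsLocalRing.maximalIdeal R) :=
    IsLocalization.atUnits R (IsLocalRing.maximalIdeal R).primeCompl hM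
  have hRc : CAlg.IsRegularHom R (AdicCompletion (IsLocalRing.maximalIdeal R) R) :=
    Groth.Agent.Lib.Helper69.GRingLocal.regular_completion_of_ringEquiv e.symm.toRingEquiv hRm
  have hSc : CAlg.IsRegularHom S (EGA4.Cpl S) :=
    Groth.Agent.Lib.Helper15.HensFormalFibre.isRegularHom_cpl_of_isHenselization R S hRc
  exact Groth.Agent.Lib.Helper15.GRingLoc.isGRing_of_isRegularHom_cpl S hSc

end Groth.Agent.S2045
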