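import Groth.Statements.S2047
-- import your own Groth.Agent.* helpers here
import Groth.Agent.Lib.Helper15.GRingLoc
set_option linter.style.haveILetI false

set_option autoImplicit false
universe u
open CAlg

namespace Groth.Agent.S2047

/-- A Noetherian ring `R` is a G-ring if and only if for every maximal ideal `𝔪` the completion map of
`R_𝔪` is a regular ring map. -/
theorem result {R : Type u} [CommRing R] [IsNoetherianRing R] :
    CAlg.IsGRing R ↔ ∀ (m : Ideal R) [m.IsMaximal],
      CAlg.IsRegularHom (Localization.AtPrime m)
        (AdicCompletion (IsLocalRing.maximalIdeal (Localization.AtPrime m)) (Localization.AtPrime m)) := by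
  constructor
  · intro h m hm
    exact h.2 m
  · intro H
    refine ⟨inferInstance, ?_⟩
    intro p hp
    obtain ⟨m, hm, hpm⟩ := Ideal.exists_le_maximal p hp.ne_top
    haveI := hm
    haveI : IsNoetherianRing (Localization.AtPrime m) :=
      IsLocalization.isNoetherianRing m.primeCompl _ inferInstance
    have hG : CAlg.IsGRing (Localization.AtPrime m) :=
      Groth.Agent.Lib.Helper15.GRingLoc.isGRing_of_isRegularHom_cpl _ (H m)
    have key : ∀ (𝔮 : Ideal (Localization.AtPrime m)) [𝔮.IsPrime],
        CAlg.IsRegularHom
          (Localization.AtPrime (𝔮.comap (algebraMap R (Localization.AtPrime m))))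
          (AdicCompletion (IsLocalRing.maximalIdeal
            (Localization.AtPrime (𝔮.comap (algebraMap R (Localization.AtPrime m)))))
            (Localization.AtPrime (𝔮.comap (algebraMap R (Localization.AtPrime m))))) := by
      intro 𝔮 _
      let e := IsLocalization.localizationLocalizationAtPrimeIsoLocalization m.primeCompl 𝔮
      exact Groth.Agent.Lib.Helper69.GRingLocal.regular_completion_of_ringEquiv
        e.symm.toRingEquiv (hG.2 𝔮)
    have hdisj : Disjoint (m.primeCompl : Set R) (p : Set R) := by
      rw [Set.disjoint_left]
      intro a ha hap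
      exact ha (hpm hap)
    have hex : ∃ (𝔮 : Ideal (Localization.AtPrime m)) (_ : 𝔮.IsPrime),
        𝔮.comap (algebraMap R (Localization.AtPrime m)) = p :=
      ⟨p.map (algebraMap R (Localization.AtPrime m)),
        IsLocalization.isPrime_of_isPrime_disjoint m.primeCompl _ p hp hdisj,
        IsLocalization.comap_map_of_isPrime_disjoint m.primeCompl _ hp hdisj⟩
    obtain ⟨𝔮, h𝔮, rfl⟩ := hex
    exact key 𝔮

end Groth.Agent.S2047
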