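import Groth.Statements.S2048
import Groth.Agent.Lib.Helper96.DerivFT
import Groth.Agent.Lib.Helper88.CohenStruct2
import Groth.Agent.Lib.Helper64.CRingQuot

set_option autoImplicit false
universe u
open CAlg

namespace Groth.Agent.S2048

/-- Let `p` be a prime and `B` a domain of characteristic `p`, finitely generated as an algebra over
some complete Noetherian local ring. If `f ∈ B` has no `p`-th root in the fraction field of `B`,
then some derivation `D : B → B` has `D(f) ≠ 0`. -/
theorem result {R B : Type u} [CommRing R] [IsLocalRing R]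
    [IsNoetherianRing R] [IsAdicComplete (IsLocalRing.maximalIdeal R) R] [CommRing B] [IsDomain B]
    [Algebra R B] [Algebra.FiniteType R B] (p : ℕ) [Fact p.Prime] [CharP B p] (f : B)
    (hf : ∀ x : FractionRing B, x ^ p ≠ algebraMap B (FractionRing B) f) :
    ∃ D : Derivation ℤ B B, D f ≠ 0 := by
  classical
  have hI' : RingHom.ker (algebraMap R B) ≠ ⊤ := (RingHom.ker_isPrime (algebraMap R B)).ne_top
  haveI := Groth.Agent.Lib.Helper64.isLocalRing_quotient (RingHom.ker (algebraMap R B)) hI'
  haveI := Groth.Agent.Lib.Helper64.isAdicComplete_quotient (RingHom.ker (algebraMap R B)) hI'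
  haveI : (RingHom.ker (algebraMap R B)).IsPrime := RingHom.ker_isPrime _
  have hg : Function.Injective (RingHom.kerLift (algebraMap R B)) :=
    RingHom.kerLift_injective _
  have hgft : (RingHom.kerLift (algebraMap R B)).FiniteType := by
    have h1 : (algebraMap R B).FiniteType := RingHom.finiteType_algebraMap.mpr inferInstance
    have h2 : algebraMap R B = (RingHom.kerLift (algebraMap R B)).comp
        (Ideal.Quotient.mk (RingHom.ker (algebraMap R B))) := by
      ext a; rfl
    rw [h2] at h1
    exact RingHom.FiniteType.of_comp_finiteType h1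
  obtain ⟨Λ, _, n, φ, hΛ, hφinj, hφfin, -⟩ :=
    Groth.Agent.Lib.Helper88.CohenStruct2.exists_finite_injective
      (R ⧸ RingHom.ker (algebraMap R B))
  have hψ : Function.Injective ((RingHom.kerLift (algebraMap R B)).comp φ) := hg.comp hφinj
  have hψft : ((RingHom.kerLift (algebraMap R B)).comp φ).FiniteType :=
    hgft.comp hφfin.to_finiteType
  have hp0 : ((p : ℕ) : MvPowerSeries (Fin n) Λ) = 0 := by
    apply hψ
    rw [map_natCast, CharP.cast_eq_zero, map_zero]
  have hpΛ : ((p : ℕ) : Λ) = 0 := by
    have := congrArg (MvPowerSeries.constantCoeff (σ := Fin n) (R := Λ)) hp0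
    simpa using this
  rcases hΛ with hfield | ⟨-, hchar0⟩
  · letI : Field Λ := hfield.toField
    haveI : CharP Λ p := by
      refine (CharP.charP_iff_prime_eq_zero (Fact.out : p.Prime)).mpr hpΛ
    letI : Algebra (MvPowerSeries (Fin n) Λ) B :=
      ((RingHom.kerLift (algebraMap R B)).comp φ).toAlgebra
    haveI : Algebra.FiniteType (MvPowerSeries (Fin n) Λ) B := hψft
    exact Groth.Agent.Lib.Helper96.DerivFT.exists_derivation_ne_zero_of_finiteType_powerSeries
      p Λ n hψ f hf
  · exfalso
    haveI := hchar0
    exact (Nat.cast_ne_zero.mpr (Fact.out : p.Prime).ne_zero) hpΛ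

end Groth.Agent.S2048
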