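import Groth.Statements.S2055
import Groth.Agent.Lib.Helper65.TorsionTensor
import Mathlib

set_option autoImplicit false
universe u
open CAlg

namespace Groth.Agent.S2055

open TensorProduct Groth.Agent.Lib.Helper65.TorsionTensor

section
variable {R S : Type u} [CommRing R] [CommRing S] [Algebra R S]

theorem a_n (I : Ideal R)
    (h1 : ∀ s : S, ∃ r : R, s - algebraMap R S r ∈ I • (⊤ : Submodule R S)) :
    ∀ (n : ℕ) (s : S), ∃ r : R, s - Algebra.linearMap R S r ∈ I ^ n • (⊤ : Submodule R S) := by
  intro n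
  induction n with
  | zero =>
    intro s
    refine ⟨0, ?_⟩
    rw [pow_zero, Ideal.one_eq_top, Submodule.top_smul]
    exact Submodule.mem_top
  | succ n ih =>
    have key : ∀ y ∈ I ^ n • (⊤ : Submodule R S),
        ∃ r' : R, y - Algebra.linearMap R S r' ∈ I ^ (n + 1) • (⊤ : Submodule R S) := by
      intro y hy
      refine Submodule.smul_induction_on
        (p := fun y => ∃ r' : R, y - Algebra.linearMap R S r' ∈ I ^ (n + 1) • (⊤ : Submodule R S))
        hy ?_ ?_
      · intro i hi s' _
        obtain ⟨r₁, hr₁⟩ := h1 s'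
        refine ⟨i * r₁, ?_⟩
        have : i • s' - Algebra.linearMap R S (i * r₁) = i • (s' - algebraMap R S r₁) := by
          rw [smul_sub, Algebra.linearMap_apply, map_mul, Algebra.smul_def, Algebra.smul_def]
        rw [this, pow_succ, mul_smul]
        exact Submodule.smul_mem_smul hi hr₁
      · rintro y z ⟨r₁, h₁⟩ ⟨r₂, h₂⟩
        refine ⟨r₁ + r₂, ?_⟩
        have : y + z - Algebra.linearMap R S (r₁ + r₂) =
            (y - Algebra.linearMap R S r₁) + (z - Algebra.linearMap R S r₂) := by
          rw [map_add]; abel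
        rw [this]
        exact Submodule.add_mem _ h₁ h₂
    intro s
    obtain ⟨r, hr⟩ := ih s
    obtain ⟨r', hr'⟩ := key _ hr
    refine ⟨r + r', ?_⟩
    have : s - Algebra.linearMap R S (r + r') =
        (s - Algebra.linearMap R S r) - Algebra.linearMap R S r' := by
      rw [map_add]; abel
    rw [this]; exact hr'

theorem b_n [Module.Flat R S] (I : Ideal R)
    (h1 : ∀ s : S, ∃ r : R, s - algebraMap R S r ∈ I • (⊤ : Submodule R S))
    (h2 : ∀ r : R, algebraMap R S r ∈ I • (⊤ : Submodule R S) → r ∈ I) :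
    ∀ (n : ℕ) (r : R), Algebra.linearMap R S r ∈ I ^ n • (⊤ : Submodule R S) →
      r ∈ I ^ n • (⊤ : Submodule R R) := by
  intro n
  induction n with
  | zero =>
    intro r _
    rw [pow_zero, Ideal.one_eq_top, Submodule.top_smul]
    exact Submodule.mem_top
  | succ n ih =>
    intro r hr
    have hle : I ^ (n + 1) • (⊤ : Submodule R S) ≤ I ^ n • (⊤ : Submodule R S) :=
      Submodule.smul_mono_left (Ideal.pow_le_pow_right (Nat.le_succ n))
    have hrn : r ∈ I ^ n := by
      have := ih r (hle hr)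
      rwa [smul_eq_mul, Ideal.mul_top] at this
    rw [smul_eq_mul, Ideal.mul_top]
    -- the module T = I^n / I^(n+1) inside R / I^(n+1)
    obtain ⟨T, hT⟩ : ∃ T : Submodule R (R ⧸ I ^ (n + 1)),
        T = Submodule.map (Submodule.mkQ (I ^ (n + 1))) (I ^ n) := ⟨_, rfl⟩
    have hTkill : ∀ i ∈ I, ∀ t : T, i • t = 0 := by
      intro i hi t
      obtain ⟨t, ht⟩ := t
      apply Subtype.ext
      rw [hT] at ht
      obtain ⟨x, hx, rfl⟩ := ht
      rw [Submodule.coe_smul, Submodule.coe_zero, ← map_smul, Submodule.mkQ_apply,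
        Submodule.Quotient.mk_eq_zero, smul_eq_mul, pow_succ']
      exact Ideal.mul_mem_mul hi hx
    have ht₀ : Submodule.mkQ (I ^ (n + 1)) r ∈ T := by
      rw [hT]; exact Submodule.mem_map_of_mem hrn
    have hbij := rTensor_bijective_of_killed (E := T) (Algebra.linearMap R S) I h1
      (fun a ha => by
        rw [smul_eq_mul, Ideal.mul_top]; exact h2 a ha) hTkill
    -- 1 ⊗ t₀ = 0 in S ⊗ T
    have hzero : (1 : S) ⊗ₜ[R] (⟨_, ht₀⟩ : T) = 0 := by
      have hinj := Module.Flat.lTensor_preserves_injective_linearMap (M := S) T.subtype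
        (Submodule.subtype_injective T)
      apply hinj
      rw [map_zero, LinearMap.lTensor_tmul, Submodule.subtype_apply]
      apply (TensorProduct.tensorQuotEquivQuotSMul S (I ^ (n + 1))).injective
      rw [map_zero]
      change (TensorProduct.tensorQuotEquivQuotSMul S (I ^ (n + 1)))
        ((1 : S) ⊗ₜ[R] (Ideal.Quotient.mk (I ^ (n + 1)) r)) = 0
      rw [TensorProduct.tensorQuotEquivQuotSMul_tmul_mk, Submodule.Quotient.mk_eq_zero]
      have : r • (1 : S) = Algebra.linearMap R S r := by
        rw [Algebra.linearMap_apply, Algebra.algebraMap_eq_smul_one]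
      rw [this]
      exact hr
    have h3 : (Algebra.linearMap R S).rTensor T ((1 : R) ⊗ₜ[R] (⟨_, ht₀⟩ : T)) = 0 := by
      rw [LinearMap.rTensor_tmul, Algebra.linearMap_apply, map_one, hzero]
    have h4 : (1 : R) ⊗ₜ[R] (⟨_, ht₀⟩ : T) = 0 := hbij.1 (by rw [h3, map_zero])
    have h5 := congrArg (TensorProduct.lid R T) h4
    rw [TensorProduct.lid_tmul, one_smul, map_zero] at h5
    have h6 : Submodule.mkQ (I ^ (n + 1)) r = 0 := congrArg Subtype.val h5
    rwa [Submodule.mkQ_apply, Submodule.Quotient.mk_eq_zero] at h6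

/-- `e ↦ 1 ⊗ e` is bijective for `I`-power torsion `E`. -/
theorem mk_bijective [Module.Flat R S] (I : Ideal R)
    (h1 : ∀ s : S, ∃ r : R, s - algebraMap R S r ∈ I • (⊤ : Submodule R S))
    (h2 : ∀ r : R, algebraMap R S r ∈ I • (⊤ : Submodule R S) → r ∈ I)
    {E : Type u} [AddCommGroup E] [Module R E]
    (hE : ∀ e : E, ∃ n : ℕ, ∀ r ∈ I ^ n, r • e = 0) :
    Function.Bijective (TensorProduct.mk R S E 1) := by
  have hb := rTensor_bijective_of_torsion (E := E) (Algebra.linearMap R S) I (a_n I h1)
    (b_n I h1 h2) hE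
  have : ⇑(TensorProduct.mk R S E 1) =
      ⇑((Algebra.linearMap R S).rTensor E) ∘ ⇑(TensorProduct.lid R E).symm := by
    funext e
    simp
  rw [this]
  exact hb.comp (TensorProduct.lid R E).symm.bijective

end

section
variable {R S : Type u} [CommRing R] [CommRing S] [Algebra R S]

/-- the `I`-power torsion submodule -/
def tors (I : Ideal R) (N : Type u) [AddCommGroup N] [Module R N] : Submodule R N where
  carrier := {y | ∃ n : ℕ, ∀ a ∈ I ^ n, a • y = 0}
  zero_mem' := ⟨0, fun a _ => smul_zero a⟩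
  add_mem' := by
    rintro x y ⟨n, hn⟩ ⟨m, hm⟩
    refine ⟨max n m, fun a ha => ?_⟩
    rw [smul_add, hn a (Ideal.pow_le_pow_right (le_max_left n m) ha),
      hm a (Ideal.pow_le_pow_right (le_max_right n m) ha), add_zero]
  smul_mem' := by
    rintro c x ⟨n, hn⟩
    exact ⟨n, fun a ha => by rw [smul_comm, hn a ha, smul_zero]⟩

theorem tors_torsion (I : Ideal R) (N : Type u) [AddCommGroup N] [Module R N] :
    ∀ e : tors I N, ∃ n : ℕ, ∀ r ∈ I ^ n, r • e = 0 := by
  rintro ⟨y, n, hn⟩
  exact ⟨n, fun r hr => Subtype.ext (hn r hr)⟩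

/-- flat base change of the `I^n`-torsion: elements of `S ⊗ N` killed by a f.g. ideal `J` come from
`S ⊗ N[J]`. -/
theorem mem_range_of_killed [Module.Flat R S] (J : Ideal R) (hJ : J.FG)
    {N : Type u} [AddCommGroup N] [Module R N] (K : Submodule R N)
    (hK : ∀ x : N, (∀ a ∈ J, a • x = 0) → x ∈ K)
    (y : S ⊗[R] N) (hy : ∀ a ∈ J, a • y = 0) :
    y ∈ LinearMap.range (K.subtype.lTensor S) := by
  classical
  obtain ⟨G, hG⟩ := hJ
  let ψ : N →ₗ[R] (G → N) := LinearMap.pi (fun g => (g : R) • LinearMap.id)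
  have hex := Module.Flat.lTensor_exact S (LinearMap.exact_subtype_ker_map ψ)
  have hψy : ψ.lTensor S y = 0 := by
    apply (TensorProduct.piRight R R S (fun _ : G => N)).injective
    rw [map_zero]
    funext g
    have hcomp : (LinearMap.proj g ∘ₗ (TensorProduct.piRight R R S (fun _ : G => N)).toLinearMap ∘ₗ
        ψ.lTensor S) = (g : R) • LinearMap.id := by
      refine TensorProduct.ext' fun s x => ?_
      simp [ψ, TensorProduct.tmul_smul]
    have := LinearMap.congr_fun hcomp y
    simp only [LinearMap.comp_apply, LinearMap.proj_apply, LinearEquiv.coe_coe,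
      LinearMap.smul_apply, LinearMap.id_apply] at this
    rw [this, Pi.zero_apply]
    exact hy g (hG ▸ Ideal.subset_span g.2)
  obtain ⟨z, hz⟩ := (hex y).mp hψy
  have hle : LinearMap.ker ψ ≤ K := by
    intro x hx
    apply hK
    intro a ha
    rw [← hG] at ha
    refine Submodule.span_induction (p := fun a _ => a • x = 0) ?_ ?_ ?_ ?_ ha
    · intro g hg
      have := congrFun (LinearMap.mem_ker.mp hx) ⟨g, hg⟩
      simpa [ψ] using this
    · exact zero_smul _ _
    · intro a b _ _ ha hb; rw [add_smul, ha, hb, add_zero]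
    · intro c a _ ha; rw [smul_eq_mul, mul_smul, ha, smul_zero]
  refine ⟨(Submodule.inclusion hle).lTensor S z, ?_⟩
  rw [← hz, ← LinearMap.comp_apply, ← LinearMap.lTensor_comp]
  rfl

end

open TensorProduct in
theorem result {R S M N : Type u} [CommRing R] [CommRing S]
    [Algebra R S] [Module.Flat R S] (I : Ideal R) (hI : I.FG)
    (hq : Function.Bijective (algebraMap (R ⧸ I) (S ⧸ I.map (algebraMap R S))))
    [AddCommGroup M] [Module R M] [AddCommGroup N] [Module R N]
    (hMN : (∀ x : M, ∃ n : ℕ, ∀ a ∈ I ^ n, a • x = 0) ∨ (∀ y : N, ∃ n : ℕ, ∀ a ∈ I ^ n, a • y = 0)) :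
    Function.Bijective (fun f : M →ₗ[R] N => LinearMap.baseChange S f) := by
  classical
  have h1 : ∀ s : S, ∃ r : R, s - algebraMap R S r ∈ I • (⊤ : Submodule R S) := by
    intro s
    obtain ⟨rb, hrb⟩ := hq.2 (Ideal.Quotient.mk _ s)
    obtain ⟨r, rfl⟩ := Ideal.Quotient.mk_surjective rb
    refine ⟨r, ?_⟩
    rw [Ideal.smul_top_eq_map]
    have : Ideal.Quotient.mk (I.map (algebraMap R S)) (algebraMap R S r) =
        Ideal.Quotient.mk _ s := hrb
    rw [Ideal.Quotient.eq] at this
    have h := Ideal.neg_mem_iff _ |>.mpr this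
    rwa [neg_sub] at h
  have h2 : ∀ r : R, algebraMap R S r ∈ I • (⊤ : Submodule R S) → r ∈ I := by
    intro r hr
    rw [Ideal.smul_top_eq_map] at hr
    have : algebraMap (R ⧸ I) (S ⧸ I.map (algebraMap R S)) (Ideal.Quotient.mk I r) = 0 :=
      Ideal.Quotient.eq_zero_iff_mem.mpr hr
    have := hq.1 (this.trans (map_zero _).symm)
    exact Ideal.Quotient.eq_zero_iff_mem.mp this
  have hbc : ∀ (f : M →ₗ[R] N) (m : M), f.baseChange S ((1 : S) ⊗ₜ[R] m) = (1 : S) ⊗ₜ[R] f m :=
    fun f m => LinearMap.baseChange_tmul _ _ _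
  rcases hMN with hM | hN
  · -- M torsion
    have hJinj : Function.Injective (fun x : tors I N => (1 : S) ⊗ₜ[R] (x : N)) := by
      have hb := mk_bijective I h1 h2 (tors_torsion I N)
      have hinj := Module.Flat.lTensor_preserves_injective_linearMap (M := S) (tors I N).subtype
        (Submodule.subtype_injective _)
      intro x y hxy
      apply hb.1
      apply hinj
      simpa using hxy
    constructor
    · intro f f' hff'
      dsimp only at hff'
      ext m
      have h3 : (1 : S) ⊗ₜ[R] f m = (1 : S) ⊗ₜ[R] f' m := by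
        rw [← hbc, ← hbc, hff']
      obtain ⟨n, hn⟩ := hM m
      have hmem : ∀ g : M →ₗ[R] N, g m ∈ tors I N := fun g =>
        ⟨n, fun a ha => by rw [← map_smul, hn a ha, map_zero]⟩
      have := @hJinj ⟨f m, hmem f⟩ ⟨f' m, hmem f'⟩ h3
      exact congrArg Subtype.val this
    · intro g
      -- for each m, g (1 ⊗ m) = 1 ⊗ x for a unique x in tors
      have hex : ∀ m : M, ∃ x : tors I N, (1 : S) ⊗ₜ[R] (x : N) = g ((1 : S) ⊗ₜ[R] m) := by
        intro m
        obtain ⟨n, hn⟩ := hM m
        have hkill : ∀ a ∈ I ^ n, a • g ((1 : S) ⊗ₜ[R] m) = 0 := by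
          intro a ha
          have : a • g ((1 : S) ⊗ₜ[R] m) = g ((1 : S) ⊗ₜ[R] (a • m)) := by
            rw [TensorProduct.tmul_smul, ← algebraMap_smul S a ((1 : S) ⊗ₜ[R] m), map_smul,
              algebraMap_smul]
          rw [this, hn a ha, TensorProduct.tmul_zero, map_zero]
        have hmem := mem_range_of_killed (S := S) (I ^ n) (hI.pow) (tors I N)
          (fun x hx => ⟨n, hx⟩) _ hkill
        obtain ⟨z, hz⟩ := hmem
        obtain ⟨x, rfl⟩ := (mk_bijective I h1 h2 (tors_torsion I N)).2 z
        exact ⟨x, by rw [← hz]; simp⟩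
      choose F hF using hex
      have hFadd : ∀ m m', F (m + m') = F m + F m' := by
        intro m m'
        apply hJinj
        dsimp only
        rw [hF, Submodule.coe_add, TensorProduct.tmul_add, map_add,
          TensorProduct.tmul_add (1 : S) (F m : N), hF, hF]
      have hFsmul : ∀ (c : R) m, F (c • m) = c • F m := by
        intro c m
        apply hJinj
        dsimp only
        rw [hF, Submodule.coe_smul, TensorProduct.tmul_smul,
          TensorProduct.tmul_smul c (1 : S) (F m : N), hF,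
          ← algebraMap_smul S c ((1 : S) ⊗ₜ[R] m), map_smul, algebraMap_smul]
      let f : M →ₗ[R] N := (tors I N).subtype ∘ₗ
        { toFun := F, map_add' := hFadd, map_smul' := hFsmul }
      refine ⟨f, ?_⟩
      dsimp only
      apply TensorProduct.AlgebraTensorModule.ext
      intro s m
      rw [LinearMap.baseChange_tmul]
      have : s ⊗ₜ[R] m = s • ((1 : S) ⊗ₜ[R] m) := by
        rw [TensorProduct.smul_tmul', smul_eq_mul, mul_one]
      rw [this, map_smul, ← hF m]
      rw [TensorProduct.smul_tmul', smul_eq_mul, mul_one]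
      rfl
  · -- N torsion
    have hb := mk_bijective I h1 h2 hN
    constructor
    · intro f f' hff'
      dsimp only at hff'
      ext m
      apply hb.1
      change (1 : S) ⊗ₜ[R] f m = (1 : S) ⊗ₜ[R] f' m
      rw [← hbc, ← hbc, hff']
    · intro g
      let e := LinearEquiv.ofBijective (TensorProduct.mk R S N 1) hb
      let f : M →ₗ[R] N := e.symm.toLinearMap ∘ₗ (g.restrictScalars R) ∘ₗ (TensorProduct.mk R S M 1)
      refine ⟨f, ?_⟩
      dsimp only
      apply TensorProduct.AlgebraTensorModule.ext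
      intro s m
      rw [LinearMap.baseChange_tmul]
      have h4 : (1 : S) ⊗ₜ[R] f m = g ((1 : S) ⊗ₜ[R] m) := by
        have : e (f m) = g ((1 : S) ⊗ₜ[R] m) := by
          simp [f]
        rw [← this]; rfl
      have : s ⊗ₜ[R] m = s • ((1 : S) ⊗ₜ[R] m) := by
        rw [TensorProduct.smul_tmul', smul_eq_mul, mul_one]
      rw [this, map_smul, ← h4, TensorProduct.smul_tmul', smul_eq_mul, mul_one]

end Groth.Agent.S2055
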