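import Groth.Statements.S2057
import Mathlib
import Groth.Agent.S2056

set_option autoImplicit false
universe u
open CAlg


namespace Groth.Agent.S2057

open TensorProduct

variable {R : Type u} [CommRing R] {M : Type u} [AddCommGroup M] [Module R M] {n m : ℕ}
  (col : Fin m → (Fin n → R))

theorem sum_smul_single (c : Fin n → R) : ∑ i, c i • (Pi.single i 1 : Fin n → R) = c := by
  ext i'
  simp [Finset.sum_apply, Pi.single_apply]

theorem piScalarRight_sum (x : Fin n → M) (i : Fin n) :
    TensorProduct.piScalarRight R R M (Fin n)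
      (∑ i', x i' ⊗ₜ[R] (Pi.single i' 1 : Fin n → R)) i = x i := by
  simp [Finset.sum_apply, Pi.single_apply]

theorem piScalarRight_sum_col (z : Fin m → M) (i : Fin n) :
    TensorProduct.piScalarRight R R M (Fin n) (∑ j, z j ⊗ₜ[R] col j) i = ∑ j, col j i • z j := by
  simp [Finset.sum_apply]

theorem sum_tmul_eq_zero_of_eq (x : Fin n → M) (z : Fin m → M)
    (hx : ∀ i, x i = ∑ j, col j i • z j) :
    ∑ i, x i ⊗ₜ[R] (Submodule.span R (Set.range col)).mkQ (Pi.single i 1) = 0 := by
  have h0 : ∀ j, (Submodule.span R (Set.range col)).mkQ (col j) = 0 := fun j => by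
    rw [Submodule.mkQ_apply, Submodule.Quotient.mk_eq_zero]
    exact Submodule.subset_span ⟨j, rfl⟩
  calc ∑ i, x i ⊗ₜ[R] (Submodule.span R (Set.range col)).mkQ (Pi.single i 1)
      = ∑ i, ∑ j, z j ⊗ₜ[R] (Submodule.span R (Set.range col)).mkQ
          (col j i • (Pi.single i 1 : Fin n → R)) := by
        refine Finset.sum_congr rfl fun i _ => ?_
        rw [hx i, sum_tmul]
        refine Finset.sum_congr rfl fun j _ => ?_
        rw [map_smul, smul_tmul]
    _ = ∑ j, z j ⊗ₜ[R] (Submodule.span R (Set.range col)).mkQ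
          (∑ i, col j i • (Pi.single i 1 : Fin n → R)) := by
        rw [Finset.sum_comm]
        refine Finset.sum_congr rfl fun j _ => ?_
        rw [map_sum, tmul_sum]
    _ = 0 := by
        refine Finset.sum_eq_zero fun j _ => ?_
        rw [sum_smul_single, h0, tmul_zero]

theorem exists_of_sum_tmul_eq_zero (x : Fin n → M)
    (h : ∑ i, x i ⊗ₜ[R] (Submodule.span R (Set.range col)).mkQ (Pi.single i 1) = 0) :
    ∃ z : Fin m → M, ∀ i, x i = ∑ j, col j i • z j := by
  set K := Submodule.span R (Set.range col) with hK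
  have hex : Function.Exact (LinearMap.lTensor M K.subtype) (LinearMap.lTensor M K.mkQ) :=
    lTensor_exact M (LinearMap.exact_subtype_mkQ K) K.mkQ_surjective
  have h' : LinearMap.lTensor M K.mkQ (∑ i, x i ⊗ₜ[R] (Pi.single i 1 : Fin n → R)) = 0 := by
    rw [map_sum]
    simpa using h
  obtain ⟨w, hw⟩ := (hex _).1 h'
  have claim : ∀ w : M ⊗[R] K, ∃ z : Fin m → M,
      LinearMap.lTensor M K.subtype w = ∑ j, z j ⊗ₜ[R] col j := by
    intro w
    induction w using TensorProduct.induction_on with
    | zero => exact ⟨0, by simp⟩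
    | tmul a k =>
      obtain ⟨c, hc⟩ := (Submodule.mem_span_range_iff_exists_fun R).1 k.2
      refine ⟨fun j => c j • a, ?_⟩
      rw [LinearMap.lTensor_tmul, Submodule.subtype_apply, ← hc, tmul_sum]
      refine Finset.sum_congr rfl fun j _ => ?_
      rw [smul_tmul]
    | add w1 w2 h1 h2 =>
      obtain ⟨z1, h1⟩ := h1
      obtain ⟨z2, h2⟩ := h2
      refine ⟨z1 + z2, ?_⟩
      rw [map_add, h1, h2, ← Finset.sum_add_distrib]
      refine Finset.sum_congr rfl fun j _ => ?_
      rw [Pi.add_apply, add_tmul]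
  obtain ⟨z, hz⟩ := claim w
  refine ⟨z, fun i => ?_⟩
  have := congrArg (fun t => TensorProduct.piScalarRight R R M (Fin n) t i) (hw.symm.trans hz)
  simp only [piScalarRight_sum, piScalarRight_sum_col] at this
  exact this

theorem eq_sum_tmul_single (t : M ⊗[R] (Fin n → R)) :
    t = ∑ i, (TensorProduct.piScalarRight R R M (Fin n) t i) ⊗ₜ[R] (Pi.single i 1 : Fin n → R) := by
  apply (TensorProduct.piScalarRight R R M (Fin n)).injective
  ext i
  rw [piScalarRight_sum]

end Groth.Agent.S2057

namespace Groth.Agent.S2057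

/-- An injective linear map `f : M₁ → M₂` is universally injective if and only if: whenever elements
`x_i` of `M₁` satisfy `f(x_i) = Σ_j a_{ij} y_j` for some `y_j ∈ M₂` and scalars `a_{ij}`, there are
`z_j ∈ M₁` with `x_i = Σ_j a_{ij} z_j`. -/
theorem result {R M₁ M₂ : Type u} [CommRing R] [AddCommGroup M₁]
    [Module R M₁] [AddCommGroup M₂] [Module R M₂] (f : M₁ →ₗ[R] M₂) (hf : Function.Injective f) :
    CAlgX.UniversallyInjective R f ↔
      ∀ (n m : ℕ) (x : Fin n → M₁) (y : Fin m → M₂) (a : Fin n → Fin m → R),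
        (∀ i, f (x i) = ∑ j, a i j • y j) → ∃ z : Fin m → M₁, ∀ i, x i = ∑ j, a i j • z j := by
  classical
  constructor
  · intro hUI n m x y a hxy
    let col : Fin m → (Fin n → R) := fun j i => a i j
    have h2 : ∑ i, f (x i) ⊗ₜ[R] (Submodule.span R (Set.range col)).mkQ (Pi.single i 1) = 0 :=
      Groth.Agent.S2057.sum_tmul_eq_zero_of_eq col (fun i => f (x i)) y hxy
    have h1 : ∑ i, x i ⊗ₜ[R] (Submodule.span R (Set.range col)).mkQ (Pi.single i 1) = 0 := by
      apply hUI ((Fin n → R) ⧸ Submodule.span R (Set.range col))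
      rw [map_sum, map_zero]
      simpa using h2
    exact Groth.Agent.S2057.exists_of_sum_tmul_eq_zero col x h1
  · intro hcrit
    rw [Groth.Agent.S2056.result]
    intro Q _ _ hQ
    obtain ⟨n, K, e, hKfg⟩ := Module.FinitePresentation.exists_fin R Q
    obtain ⟨m, col, hcol⟩ := Submodule.fg_iff_exists_fin_generating_family.1 hKfg
    subst hcol
    -- injectivity for the model quotient
    have hinj' : Function.Injective
        (f.rTensor ((Fin n → R) ⧸ Submodule.span R (Set.range col))) := by
      rw [injective_iff_map_eq_zero]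
      intro ξ hξ
      obtain ⟨t, rfl⟩ := LinearMap.lTensor_surjective M₁
        (Submodule.span R (Set.range col)).mkQ_surjective ξ
      rw [Groth.Agent.S2057.eq_sum_tmul_single t] at hξ ⊢
      set x := fun i => TensorProduct.piScalarRight R R M₁ (Fin n) t i with hx
      rw [map_sum] at hξ ⊢
      simp only [LinearMap.lTensor_tmul] at hξ ⊢
      rw [map_sum] at hξ
      simp only [LinearMap.rTensor_tmul] at hξ
      obtain ⟨y, hy⟩ := Groth.Agent.S2057.exists_of_sum_tmul_eq_zero col (fun i => f (x i)) hξ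
      obtain ⟨z, hz⟩ := hcrit n m x y (fun i j => col j i) hy
      exact Groth.Agent.S2057.sum_tmul_eq_zero_of_eq col x z hz
    -- transport along `e`
    rw [injective_iff_map_eq_zero]
    intro ξ hξ
    have hcomm : f.rTensor ((Fin n → R) ⧸ Submodule.span R (Set.range col))
        (LinearMap.lTensor M₁ e.toLinearMap ξ) = LinearMap.lTensor M₂ e.toLinearMap (f.rTensor Q ξ) := by
      rw [← LinearMap.comp_apply, ← LinearMap.comp_apply, LinearMap.rTensor_comp_lTensor,
        LinearMap.lTensor_comp_rTensor]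
    rw [hξ, map_zero] at hcomm
    have h0 := (injective_iff_map_eq_zero _).1 hinj' _ hcomm
    have hinj2 : Function.Injective (LinearMap.lTensor M₁ e.toLinearMap) :=
      (LinearEquiv.lTensor M₁ e).injective
    exact hinj2 (by rw [h0, map_zero])

end Groth.Agent.S2057
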