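import Groth.Statements.S2058
import Mathlib
import Groth.Agent.Lib.Helper29.Depth
import Groth.Agent.Lib.Helper29.DepthZero

set_option autoImplicit false
universe u
open CAlg

namespace Groth.Agent.S2058

open IsLocalRing

/-- principal maximal ideal generated by a regular element: regular of dimension one. -/
theorem regular_of_principal {R : Type u} [CommRing R] [IsLocalRing R] [IsNoetherianRing R]
    (a : R) (ha : maximalIdeal R = Ideal.span {a}) (hreg : a ∈ nonZeroDivisors R) :
    IsRegularLocalRing R ∧ ringKrullDim R = 1 := by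
  have h1 : ((maximalIdeal R).spanFinrank : WithBot ℕ∞) ≤ 1 := by
    rw [ha]
    have := Submodule.spanFinrank_span_le_ncard_of_finite (R := R) (Set.finite_singleton a)
    rw [Set.ncard_singleton] at this
    exact_mod_cast this
  have h2 : ringKrullDim R ≤ 1 := (ringKrullDim_le_spanFinrank_maximalIdeal R).trans h1
  have h3 : (1 : WithBot ℕ∞) ≤ ringKrullDim R := by
    have h := ringKrullDim_quotient_succ_le_of_nonZeroDivisor hreg
    have hnt : Nontrivial (R ⧸ Ideal.span {a}) := by
      rw [Ideal.Quotient.nontrivial_iff, ← ha]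
      exact (maximalIdeal.isMaximal R).ne_top
    have h0 : (0 : WithBot ℕ∞) ≤ ringKrullDim (R ⧸ Ideal.span {a}) := ringKrullDim_nonneg_of_nontrivial
    calc (1 : WithBot ℕ∞) = 0 + 1 := by simp
      _ ≤ ringKrullDim (R ⧸ Ideal.span {a}) + 1 := by gcongr
      _ ≤ ringKrullDim R := h
  exact ⟨IsRegularLocalRing.of_spanFinrank_maximalIdeal_le R (h1.trans h3), le_antisymm h2 h3⟩


/-- depth zero case -/
theorem case_zero {R : Type u} [CommRing R] [IsLocalRing R] [IsNoetherianRing R]
    (h1 : ¬ IsArtinianRing R) (h3 : maximalIdeal R ∈ associatedPrimes R R) :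
    ∃ (R' : Type u) (_ : CommRing R') (_ : Algebra R R'), Nontrivial R' ∧ Module.Finite R R' ∧
      ¬ Function.Bijective (algebraMap R R') ∧
      (∃ n : ℕ, (∀ x : R, algebraMap R R' x = 0 → ∀ a ∈ IsLocalRing.maximalIdeal R ^ n, a * x = 0) ∧
        (∀ y : R', ∀ a ∈ IsLocalRing.maximalIdeal R ^ n, a • y ∈ Set.range (algebraMap R R'))) ∧
      IsLocalRing.maximalIdeal R ∉ associatedPrimes R R' := by
  -- the chain of annihilators of powers of the maximal ideal
  let J : ℕ →o Ideal R :=
    ⟨fun n => Submodule.annihilator (maximalIdeal R ^ n : Ideal R), fun a b hab r hr => by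
      rw [Submodule.mem_annihilator] at hr ⊢
      intro c hc
      exact hr c (Ideal.pow_le_pow_right hab hc)⟩
  obtain ⟨N, hN⟩ := monotone_stabilizes_iff_noetherian.2 (inferInstance : IsNoetherian R R) J
  have hJmem : ∀ n r, r ∈ J n ↔ ∀ a ∈ maximalIdeal R ^ n, a * r = 0 := by
    intro n r
    change r ∈ Submodule.annihilator (maximalIdeal R ^ n : Ideal R) ↔ _
    rw [Submodule.mem_annihilator]
    constructor
    · intro h a ha; rw [mul_comm]; exact h a ha
    · intro h a ha; rw [smul_eq_mul, mul_comm]; exact h a ha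
  have hIne : J N ≠ ⊤ := by
    intro h
    apply h1
    rw [isArtinianRing_iff_isNilpotent_maximalIdeal]
    refine ⟨N, ?_⟩
    rw [Ideal.zero_eq_bot, eq_bot_iff]
    intro a ha
    have h1 : (1 : R) ∈ J N := by rw [h]; trivial
    have := (hJmem N 1).1 h1 a ha
    simpa using this
  obtain ⟨hprime, r, hr⟩ := isAssociatedPrime_iff.1 h3
  have hr' : ∀ a, a ∈ maximalIdeal R ↔ a * r = 0 := by
    intro a
    rw [hr, Submodule.mem_colon_singleton, Submodule.mem_bot, smul_eq_mul]
  have hr0 : r ≠ 0 := by
    rintro rfl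
    have : (1 : R) ∈ maximalIdeal R := (hr' 1).2 (by simp)
    exact (maximalIdeal.isMaximal R).ne_top ((Ideal.eq_top_iff_one _).2 this)
  have hrJ : r ∈ J N := by
    have h1 : r ∈ J 1 := by
      rw [hJmem]
      intro a ha
      rw [pow_one] at ha
      exact (hr' a).1 ha
    by_cases h : 1 ≤ N
    · exact J.monotone h h1
    · have : N = 0 := by omega
      rw [hN 1 (by omega)]
      exact h1
  refine ⟨R ⧸ J N, inferInstance, inferInstance, Ideal.Quotient.nontrivial_iff.2 hIne, inferInstance, ?_, ⟨N, ?_, ?_⟩, ?_⟩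
  · intro hb
    apply hr0
    apply hb.1
    rw [map_zero]
    exact Ideal.Quotient.eq_zero_iff_mem.2 hrJ
  · intro x hx a ha
    have : x ∈ J N := Ideal.Quotient.eq_zero_iff_mem.1 hx
    exact (hJmem N x).1 this a ha
  · intro y a _
    obtain ⟨y', rfl⟩ := Ideal.Quotient.mk_surjective y
    exact ⟨a * y', by rw [Algebra.smul_def]; rfl⟩
  · intro hass
    obtain ⟨_, w, hw⟩ := isAssociatedPrime_iff.1 hass
    obtain ⟨w', rfl⟩ := Ideal.Quotient.mk_surjective w
    have hw' : ∀ a, a ∈ maximalIdeal R ↔ a * w' ∈ J N := by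
      intro a
      rw [hw, Submodule.mem_colon_singleton, Submodule.mem_bot, ← Ideal.Quotient.eq_zero_iff_mem]
      rfl
    have hwJ : w' ∈ J (N + 1) := by
      rw [hJmem]
      intro a ha
      rw [pow_succ] at ha
      refine Submodule.mul_induction_on ha ?_ ?_
      · intro b hb c hc
        have := (hJmem N _).1 ((hw' c).1 hc) b hb
        rw [mul_assoc]; exact this
      · intro b c hb hc
        rw [add_mul, hb, hc, add_zero]
    rw [← hN (N + 1) (by omega)] at hwJ
    have : (1 : R) ∈ maximalIdeal R := by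
      rw [hw' 1, one_mul]; exact hwJ
    exact (maximalIdeal.isMaximal R).ne_top ((Ideal.eq_top_iff_one _).2 this)

/-- depth one case -/
theorem case_one {R : Type u} [CommRing R] [IsLocalRing R] [IsNoetherianRing R]
    (h2 : ¬ (IsRegularLocalRing R ∧ ringKrullDim R = 1))
    (x y : R) (hxm : x ∈ maximalIdeal R) (hx : x ∈ nonZeroDivisors R)
    (hy : y ∉ Ideal.span {x}) (hmy : ∀ a ∈ maximalIdeal R, ∃ b, a * y = x * b) :
    ∃ (R' : Type u) (_ : CommRing R') (_ : Algebra R R'), Nontrivial R' ∧ Module.Finite R R' ∧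
      ¬ Function.Bijective (algebraMap R R') ∧
      (∃ n : ℕ, (∀ x : R, algebraMap R R' x = 0 → ∀ a ∈ IsLocalRing.maximalIdeal R ^ n, a * x = 0) ∧
        (∀ y : R', ∀ a ∈ IsLocalRing.maximalIdeal R ^ n, a • y ∈ Set.range (algebraMap R R'))) ∧
      IsLocalRing.maximalIdeal R ∉ associatedPrimes R R' := by
  have hxreg : ∀ w : R, x * w = 0 → w = 0 := fun w hw =>
    (mem_nonZeroDivisors_iff.1 hx).1 w hw
  -- all the `b` lie in the maximal ideal
  have hB : ∀ a ∈ maximalIdeal R, ∀ b, a * y = x * b → b ∈ maximalIdeal R := by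
    intro a₀ ha₀ u hu
    by_contra hum
    have huu : IsUnit u := by
      by_contra h
      exact hum ((mem_maximalIdeal u).2 h)
    obtain ⟨v, rfl⟩ := huu
    apply h2
    -- y is regular
    have hyreg : ∀ w : R, y * w = 0 → w = 0 := by
      intro w hw
      have : x * ((v : R) * w) = 0 := by
        rw [← mul_assoc, ← hu, mul_assoc, hw, mul_zero]
      have := hxreg _ this
      simpa using congrArg (fun t => (↑v⁻¹ : R) * t) this
    have ha₀reg : a₀ ∈ nonZeroDivisors R := by
      rw [mem_nonZeroDivisors_iff]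
      refine ⟨fun w hw => ?_, fun w hw => ?_⟩
      · have : x * ((v : R) * w) = 0 := by
          rw [← mul_assoc, ← hu, mul_assoc, mul_comm y, ← mul_assoc, hw, zero_mul]
        have := hxreg _ this
        simpa using congrArg (fun t => (↑v⁻¹ : R) * t) this
      · rw [mul_comm] at hw
        have : x * ((v : R) * w) = 0 := by
          rw [← mul_assoc, ← hu, mul_assoc, mul_comm y, ← mul_assoc, hw, zero_mul]
        have := hxreg _ this
        simpa using congrArg (fun t => (↑v⁻¹ : R) * t) this
    refine regular_of_principal a₀ ?_ ha₀reg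
    apply le_antisymm
    · intro a ha
      obtain ⟨b, hb⟩ := hmy a ha
      have hx' : x = (↑v⁻¹ : R) * (a₀ * y) := by rw [hu, ← mul_assoc, mul_comm _ x, mul_assoc]; simp
      have : y * (a - (↑v⁻¹ : R) * b * a₀) = 0 := by
        have : y * a = y * ((↑v⁻¹ : R) * b * a₀) := by
          rw [mul_comm y a, hb]
          conv_lhs => rw [hx']
          ring
        rw [mul_sub, this, sub_self]
      have := hyreg _ this
      rw [sub_eq_zero] at this
      rw [this]
      exact Ideal.mul_mem_left _ _ (Ideal.mem_span_singleton_self _)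
    · rw [Ideal.span_singleton_le_iff_mem]; exact ha₀
  -- the ring R' = (m : m) in the total ring of fractions
  let K := FractionRing R
  have hinj : Function.Injective (algebraMap R K) := IsFractionRing.injective R K
  let S : Subalgebra R K :=
    { carrier := {w : K | ∀ a ∈ maximalIdeal R, ∃ b ∈ maximalIdeal R,
        w * algebraMap R K a = algebraMap R K b}
      mul_mem' := by
        intro w₁ w₂ h₁ h₂ a ha
        obtain ⟨b, hb, hb'⟩ := h₂ a ha
        obtain ⟨c, hc, hc'⟩ := h₁ b hb
        exact ⟨c, hc, by rw [mul_assoc, hb', hc']⟩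
      add_mem' := by
        intro w₁ w₂ h₁ h₂ a ha
        obtain ⟨b, hb, hb'⟩ := h₁ a ha
        obtain ⟨c, hc, hc'⟩ := h₂ a ha
        exact ⟨b + c, Ideal.add_mem _ hb hc, by rw [add_mul, hb', hc', map_add]⟩
      algebraMap_mem' := by
        intro r a ha
        exact ⟨r * a, Ideal.mul_mem_left _ _ ha, by rw [map_mul]⟩ }
  have hSmem : ∀ w : K, w ∈ S ↔ ∀ a ∈ maximalIdeal R, ∃ b ∈ maximalIdeal R,
      w * algebraMap R K a = algebraMap R K b := fun w => Iff.rfl
  have hxu : IsUnit (algebraMap R K x) := IsLocalization.map_units K ⟨x, hx⟩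
  -- the element z = y / x
  obtain ⟨z, hz⟩ : ∃ z : K, z * algebraMap R K x = algebraMap R K y := by
    obtain ⟨u, hu⟩ := hxu
    exact ⟨algebraMap R K y * ↑u⁻¹, by rw [← hu, mul_assoc, Units.inv_mul, mul_one]⟩
  have hzS : z ∈ S := by
    rw [hSmem]
    intro a ha
    obtain ⟨b, hb⟩ := hmy a ha
    refine ⟨b, hB a ha b hb, ?_⟩
    apply hxu.mul_right_cancel
    rw [mul_assoc, mul_comm (algebraMap R K a), ← mul_assoc, hz, ← map_mul, ← map_mul, mul_comm y,
      hb, mul_comm]
  have hzR : z ∉ Set.range (algebraMap R K) := by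
    rintro ⟨r, hr⟩
    apply hy
    rw [Ideal.mem_span_singleton']
    refine ⟨r, ?_⟩
    apply hinj
    rw [map_mul, hr, hz]
  refine ⟨S, inferInstance, inferInstance, inferInstance, ?_, ?_, ⟨1, ?_, ?_⟩, ?_⟩
  · -- finiteness: w ↦ w * x embeds S into R
    let ψ : S →ₗ[R] K :=
      { toFun := fun w => (w : K) * algebraMap R K x
        map_add' := fun a b => by simp [add_mul]
        map_smul' := fun r a => by simp [Algebra.smul_def, mul_assoc] }
    have hψ : ∀ w, ψ w ∈ LinearMap.range (Algebra.linearMap R K) := by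
      intro w
      obtain ⟨b, _, hb⟩ := w.2 x hxm
      exact ⟨b, hb.symm⟩
    let ψ' : S →ₗ[R] LinearMap.range (Algebra.linearMap R K) := ψ.codRestrict _ hψ
    have hψ'inj : Function.Injective ψ' := by
      intro a b hab
      have : (a : K) * algebraMap R K x = (b : K) * algebraMap R K x :=
        congrArg Subtype.val hab
      exact Subtype.ext (hxu.mul_right_cancel this)
    haveI : IsNoetherian R (LinearMap.range (Algebra.linearMap R K)) :=
      isNoetherian_of_surjective (Algebra.linearMap R K).rangeRestrict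
        (LinearMap.range_rangeRestrict _)
    exact Module.Finite.of_injective ψ' hψ'inj
  · intro hb
    obtain ⟨r, hr⟩ := hb.2 ⟨z, hzS⟩
    apply hzR
    exact ⟨r, congrArg Subtype.val hr⟩
  · intro r hr a _
    have : algebraMap R K r = 0 := congrArg Subtype.val hr
    rw [hinj (this.trans (map_zero _).symm), mul_zero]
  · intro w a ha
    rw [pow_one] at ha
    obtain ⟨b, _, hb⟩ := w.2 a ha
    refine ⟨b, Subtype.ext ?_⟩
    change algebraMap R K b = ((a • w : S) : K)
    rw [← hb, Algebra.smul_def, mul_comm]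
    rfl
  · intro hass
    refine Groth.Agent.Lib.Helper29.DepthLib.not_mem_of_isSMulRegular hass (x := x) ?_ hxm
    intro w₁ w₂ h
    have h' : algebraMap R K x * (w₁ : K) = algebraMap R K x * (w₂ : K) := by
      have := congrArg Subtype.val h
      simpa [Algebra.smul_def] using this
    exact Subtype.ext (hxu.mul_left_cancel h')

theorem result {R : Type u} [CommRing R] [IsLocalRing R] [IsNoetherianRing R]
    (h1 : ¬ IsArtinianRing R) (h2 : ¬ (IsRegularLocalRing R ∧ ringKrullDim R = 1))
    (h3 : LocCoh.depth R R ≤ 1) :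
    ∃ (R' : Type u) (_ : CommRing R') (_ : Algebra R R'), Nontrivial R' ∧ Module.Finite R R' ∧
      ¬ Function.Bijective (algebraMap R R') ∧
      (∃ n : ℕ, (∀ x : R, algebraMap R R' x = 0 → ∀ a ∈ IsLocalRing.maximalIdeal R ^ n, a * x = 0) ∧
        (∀ y : R', ∀ a ∈ IsLocalRing.maximalIdeal R ^ n, a • y ∈ Set.range (algebraMap R R'))) ∧
      IsLocalRing.maximalIdeal R ∉ associatedPrimes R R' := by
  by_cases h0 : LocCoh.depth R R = 0
  · exact case_zero h1
      ((Groth.Agent.Lib.Helper29.depth_eq_zero_iff_maximalIdeal_mem_ass R R).1 h0)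
  · have hne := Groth.Agent.Lib.Helper29.maximalIdeal_smul_top_ne_top R R
    rw [Groth.Agent.Lib.Helper29.depth_eq_zero_iff_forall_not_isSMulRegular R R hne] at h0
    push Not at h0
    obtain ⟨x, hxm, hxreg⟩ := h0
    have hxnzd : x ∈ nonZeroDivisors R := by
      rw [mem_nonZeroDivisors_iff]
      refine ⟨fun w hw => ?_, fun w hw => ?_⟩
      · exact hxreg (by simpa using hw)
      · rw [mul_comm] at hw
        exact hxreg (by simpa using hw)
    have hd := Groth.Agent.Lib.Helper29.DepthLib.depth_quotSMulTop_add_one R R hxm hxreg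
    have hd0 : LocCoh.depth R (QuotSMulTop x R) = 0 := by
      rw [← hd] at h3
      have : LocCoh.depth R (QuotSMulTop x R) + 1 ≤ 0 + 1 := by simpa using h3
      have := (ENat.add_le_add_iff_right (by simp : (1 : ℕ∞) ≠ ⊤)).1 this
      exact le_antisymm this bot_le
    have hass := (Groth.Agent.Lib.Helper29.depth_eq_zero_iff_maximalIdeal_mem_ass R
      (QuotSMulTop x R)).1 hd0
    obtain ⟨_, ybar, hybar⟩ := isAssociatedPrime_iff.1 hass
    obtain ⟨y, rfl⟩ := Submodule.Quotient.mk_surjective _ ybar
    have hmem : ∀ a, a ∈ maximalIdeal R ↔ ∃ b, a * y = x * b := by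
      intro a
      rw [hybar, Submodule.mem_colon_singleton, Submodule.mem_bot, ← Submodule.Quotient.mk_smul,
        Submodule.Quotient.mk_eq_zero, Submodule.mem_smul_pointwise_iff_exists]
      constructor
      · rintro ⟨b, _, hb⟩
        exact ⟨b, hb.symm⟩
      · rintro ⟨b, hb⟩
        exact ⟨b, trivial, by rw [smul_eq_mul, smul_eq_mul, ← hb]⟩
    refine case_one h2 x y hxm hxnzd ?_ (fun a ha => (hmem a).1 ha)
    intro hy
    obtain ⟨b, hb⟩ := Ideal.mem_span_singleton'.1 hy
    have : (1 : R) ∈ maximalIdeal R := (hmem 1).2 ⟨b, by rw [one_mul, ← hb, mul_comm]⟩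
    exact (maximalIdeal.isMaximal R).ne_top ((Ideal.eq_top_iff_one _).2 this)
end Groth.Agent.S2058
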