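import Groth.Statements.S2059
import Mathlib

set_option autoImplicit false
universe u

namespace Groth.Agent.S2059

open Cardinal

/-- rank of an algebra generated by `s` is at most `max #s ℵ₀`. -/
theorem rank_le_of_adjoin_eq_top {k S : Type u} [Field k] [CommRing S] [Algebra k S]
    (s : Set S) (hs : Algebra.adjoin k s = ⊤) : Module.rank k S ≤ max #s ℵ₀ := by
  let φ : MvPolynomial s k →ₐ[k] S := MvPolynomial.aeval (fun x : s => (x : S))
  have hφ : Function.Surjective φ := by
    have h1 : φ.range = Algebra.adjoin k s := by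
      have := MvPolynomial.aeval_range (R := k) (fun x : s => (x : S))
      rw [Subtype.range_coe] at this
      exact this
    rw [hs] at h1
    intro x
    have : x ∈ φ.range := by rw [h1]; trivial
    exact this
  have h2 := LinearMap.rank_le_of_surjective φ.toLinearMap hφ
  refine h2.trans ?_
  rw [MvPolynomial.rank_eq]
  rcases isEmpty_or_nonempty s with he | hne
  · have : #(s →₀ ℕ) = 1 := by
      rw [Cardinal.eq_one_iff_unique]
      exact ⟨inferInstance, inferInstance⟩
    rw [this]
    exact (Cardinal.one_le_aleph0).trans (le_max_right _ _)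
  · rw [Cardinal.mk_finsupp_nat]

/-- a field extension of small rank is algebraic -/
theorem isAlgebraic_of_rank_lt {k K : Type u} [Field k] [Field K] [Algebra k K]
    (h : Module.rank k K < #k) : Algebra.IsAlgebraic k K := by
  constructor
  intro t
  by_contra ht
  have ht' : Transcendental k t := ht
  have := ht'.linearIndependent_sub_inv.cardinal_lift_le_rank
  rw [Cardinal.lift_id, Cardinal.lift_id] at this
  exact absurd (this.trans_lt h) (lt_irrefl _)

/-- quotients of algebras of small rank by maximal ideals are algebraic -/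
theorem isAlgebraic_quotient_of_rank_lt {k T : Type u} [Field k] [CommRing T] [Algebra k T]
    (h : Module.rank k T < #k) (m : Ideal T) [m.IsMaximal] : Algebra.IsAlgebraic k (T ⧸ m) := by
  letI : Field (T ⧸ m) := Ideal.Quotient.field m
  apply isAlgebraic_of_rank_lt
  refine lt_of_le_of_lt ?_ h
  exact LinearMap.rank_le_of_surjective (Ideal.Quotient.mkₐ k m).toLinearMap
    (Ideal.Quotient.mkₐ_surjective k m)

theorem exists_maximal_algebraic {k T : Type u} [Field k] [CommRing T] [Nontrivial T]
    [Algebra k T] (h : Module.rank k T < #k) :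
    ∃ m : Ideal T, m.IsMaximal ∧ Algebra.IsAlgebraic k (T ⧸ m) := by
  obtain ⟨m, hm⟩ := Ideal.exists_maximal T
  exact ⟨m, hm, isAlgebraic_quotient_of_rank_lt h m⟩

open Polynomial in
/-- Rabinowitsch: in an algebra of small rank over an uncountable field, primes are intersections
of maximal ideals. -/
theorem jacobson_le_of_rank_lt {k S : Type u} [Field k] [CommRing S] [Algebra k S]
    (h : Module.rank k S < #k) (hk : ℵ₀ < #k) (P : Ideal S) [P.IsPrime] : P.jacobson ≤ P := by
  intro f hf
  by_contra hfP
  let D := S ⧸ P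
  let fb : D := Ideal.Quotient.mk P f
  have hfb : fb ≠ 0 := fun h0 => hfP (Ideal.Quotient.eq_zero_iff_mem.mp h0)
  let g : D[X] := C fb * X - 1
  let T := D[X] ⧸ Ideal.span {g}
  -- T is nontrivial
  have hg : ¬ IsUnit g := by
    intro hu
    have h1 : g.natDegree = 1 := by
      have : g = C fb * X + C (-1) := by simp [g, sub_eq_add_neg]
      rw [this]
      exact Polynomial.natDegree_linear hfb
    have h2 := Polynomial.natDegree_eq_zero_of_isUnit hu
    omega
  haveI : Nontrivial T := by
    apply Ideal.Quotient.nontrivial_iff.mpr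
    intro htop
    exact hg (Ideal.span_singleton_eq_top.mp htop)
  -- rank bound
  have hrD : Module.rank k D ≤ Module.rank k S :=
    LinearMap.rank_le_of_surjective (Ideal.Quotient.mkₐ k P).toLinearMap
      (Ideal.Quotient.mkₐ_surjective k P)
  have hrDX : Module.rank k D[X] = ℵ₀ * Module.rank k D := by
    have e : D[X] ≃ₗ[k] (ℕ →₀ D) := ((Polynomial.toFinsuppIsoLinear D).restrictScalars k).trans
      (AddMonoidAlgebra.coeffLinearEquiv k)
    rw [e.rank_eq, rank_finsupp]
    simp
  have hrT : Module.rank k T < #k := by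
    have h1 : Module.rank k T ≤ Module.rank k D[X] :=
      LinearMap.rank_le_of_surjective (Ideal.Quotient.mkₐ k (Ideal.span {g})).toLinearMap
        (Ideal.Quotient.mkₐ_surjective k _)
    refine lt_of_le_of_lt h1 ?_
    rw [hrDX]
    exact Cardinal.mul_lt_of_lt hk.le hk (lt_of_le_of_lt hrD h)
  obtain ⟨m', hm', halg⟩ := exists_maximal_algebraic (k := k) (T := T) hrT
  let χ : S →ₐ[k] T := (Ideal.Quotient.mkₐ k (Ideal.span {g})).comp
    ((Polynomial.CAlgHom (R := k) (A := D)).comp (Ideal.Quotient.mkₐ k P))
  let q : Ideal S := Ideal.comap χ.toRingHom m'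
  haveI : q.IsPrime := Ideal.comap_isPrime _ _
  let ι : (S ⧸ q) →ₐ[k] (T ⧸ m') := Ideal.quotientMapₐ m' χ (le_refl _)
  have hι : Function.Injective ι := Ideal.quotientMap_injective
  haveI : Algebra.IsAlgebraic k (S ⧸ q) := Algebra.IsAlgebraic.of_injective ι hι
  haveI : Algebra.IsIntegral k (S ⧸ q) := Algebra.IsAlgebraic.isIntegral
  have hfield : IsField (S ⧸ q) :=
    (Algebra.IsIntegral.isField_iff_isField (FaithfulSMul.algebraMap_injective k (S ⧸ q))).mp
      (Field.toIsField k)
  haveI hqmax : q.IsMaximal := Ideal.Quotient.maximal_of_isField q hfield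
  have hPq : P ≤ q := by
    intro p hp
    change χ p ∈ m'
    have : χ p = 0 := by
      change Ideal.Quotient.mk _ (C (Ideal.Quotient.mk P p)) = 0
      rw [Ideal.Quotient.eq_zero_iff_mem.mpr hp, map_zero, map_zero]
    rw [this]
    exact zero_mem _
  have hfq : f ∈ q := by
    have := hf
    rw [Ideal.jacobson, Submodule.mem_sInf] at this
    exact this q ⟨hPq, hqmax⟩
  -- contradiction : χ f is a unit
  have hunit : χ f * Ideal.Quotient.mk _ X = 1 := by
    change Ideal.Quotient.mk (Ideal.span {g}) (C fb) * Ideal.Quotient.mk _ X = 1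
    rw [← map_mul, ← sub_eq_zero, ← map_one (Ideal.Quotient.mk (Ideal.span {g})), ← map_sub]
    exact Ideal.Quotient.eq_zero_iff_mem.mpr (Ideal.subset_span rfl)
  have : (1 : T) ∈ m' := by
    rw [← hunit]
    exact Ideal.mul_mem_right _ _ hfq
  exact hm'.ne_top ((Ideal.eq_top_iff_one _).mpr this)

theorem result {k S : Type u} [Field k] [CommRing S] [Algebra k S]
    (s : Set S) (hs : Algebra.adjoin k s = ⊤) (hcard : Cardinal.mk s < Cardinal.mk k) :
    (∀ (m : Ideal S) [m.IsMaximal], Algebra.IsAlgebraic k (S ⧸ m)) ∧ IsJacobsonRing S := by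
  rcases s.finite_or_infinite with hfin | hinf
  · haveI : Algebra.FiniteType k S := ⟨Subalgebra.fg_def.mpr ⟨s, hfin, hs⟩⟩
    refine ⟨?_, isJacobsonRing_of_finiteType (A := k)⟩
    intro m hm
    letI : Field (S ⧸ m) := Ideal.Quotient.field m
    haveI : Algebra.FiniteType k (S ⧸ m) :=
      Algebra.FiniteType.of_surjective (Ideal.Quotient.mkₐ k m) (Ideal.Quotient.mkₐ_surjective k m)
    haveI := finite_of_finite_type_of_isJacobsonRing k (S ⧸ m)
    exact Algebra.IsAlgebraic.of_finite k (S ⧸ m)
  · have hs_inf : ℵ₀ ≤ #s := Cardinal.aleph0_le_mk_iff.mpr hinf.to_subtype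
    have hrank : Module.rank k S < #k := by
      refine lt_of_le_of_lt (rank_le_of_adjoin_eq_top s hs) ?_
      rw [max_eq_left hs_inf]
      exact hcard
    refine ⟨fun m hm => isAlgebraic_quotient_of_rank_lt hrank m, ?_⟩
    rw [isJacobsonRing_iff_prime_eq]
    intro P hP
    exact le_antisymm (jacobson_le_of_rank_lt hrank (lt_of_le_of_lt hs_inf hcard) P)
      Ideal.le_jacobson

end Groth.Agent.S2059
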