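import Groth.Statements.S2060
import Groth.Agent.Lib.Helper35.SmallExtLift
import Mathlib.RingTheory.Smooth.Locus
import Mathlib.RingTheory.Etale.Basic
import Mathlib.RingTheory.LocalRing.Module

set_option autoImplicit false
universe u
open CAlg

namespace Groth.Agent.S2060

section Helpers
open IsLocalRing Groth.Agent.Lib.Helper35

theorem forward {R S : Type u} [CommRing R] [CommRing S] [Algebra R S] (q : Ideal S) [q.IsPrime]
    (hsm : Algebra.IsSmoothAt R q)
    (B' B : Type u) [CommRing B'] [CommRing B] [IsLocalRing B'] [IsLocalRing B]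
    [Algebra R B'] [Algebra R B] (π : B' →ₐ[R] B)
    (hπ : Function.Surjective π)
    (hsmall : ∃ t : B', RingHom.ker π.toRingHom = Ideal.span {t} ∧
      ∀ a ∈ IsLocalRing.maximalIdeal B', a * t = 0)
    (g : S →ₐ[R] B) (hg : (IsLocalRing.maximalIdeal B).comap g = q) :
    ∃ g' : S →ₐ[R] B', π.comp g' = g := by
  obtain ⟨t, hker, ht⟩ := hsmall
  haveI : Algebra.FormallySmooth R (Localization.AtPrime q) := hsm
  have hunit : ∀ y : q.primeCompl, IsUnit (g y) := by
    intro y
    by_contra hy
    have : (y : S) ∈ (maximalIdeal B).comap g := (mem_maximalIdeal _).mpr hy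
    rw [hg] at this
    exact y.2 this
  let ĝ : Localization.AtPrime q →ₐ[R] B :=
    IsLocalization.liftAlgHom (M := q.primeCompl) (f := g) hunit
  have hkerm : RingHom.ker π.toRingHom ≤ maximalIdeal B' :=
    le_maximalIdeal (RingHom.ker_ne_top _)
  have htm : t ∈ maximalIdeal B' := hkerm (hker ▸ Ideal.subset_span rfl)
  have hnil : IsNilpotent (RingHom.ker (π : B' →+* B)) := by
    refine ⟨2, ?_⟩
    change RingHom.ker π.toRingHom ^ 2 = 0
    rw [hker, pow_two, Ideal.span_singleton_mul_span_singleton, ht t htm]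
    simp
  let G := Algebra.FormallySmooth.liftOfSurjective ĝ π hπ hnil
  refine ⟨G.comp (IsScalarTower.toAlgHom R S _), ?_⟩
  rw [← AlgHom.comp_assoc, Algebra.FormallySmooth.comp_liftOfSurjective]
  ext s
  simp [ĝ]

theorem backward {R S : Type u} [CommRing R] [IsNoetherianRing R]
    [CommRing S] [Algebra R S] [Algebra.FiniteType R S] (q : Ideal S) [q.IsPrime]
    (H : ∀ (B' B : Type u) [CommRing B'] [CommRing B] [IsLocalRing B'] [IsLocalRing B]
        [IsArtinianRing B'] [IsArtinianRing B] [Algebra R B'] [Algebra R B] (π : B' →ₐ[R] B),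
        Function.Surjective π →
        (∃ t : B', RingHom.ker π.toRingHom = Ideal.span {t} ∧
          ∀ a ∈ IsLocalRing.maximalIdeal B', a * t = 0) →
        ∀ g : S →ₐ[R] B, (IsLocalRing.maximalIdeal B).comap g = q →
          ∃ g' : S →ₐ[R] B', π.comp g' = g) :
    Algebra.IsSmoothAt R q := by
  obtain ⟨n, ψ, hψ⟩ := (Algebra.FiniteType.iff_quotient_mvPolynomial''
    (R := R) (S := S)).mp inferInstance
  let Q : Ideal (MvPolynomial (Fin n) R) := q.comap (ψ : MvPolynomial (Fin n) R →+* S)
  haveI : Q.IsPrime := Ideal.comap_isPrime _ _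
  let σ : Localization.AtPrime Q →+* Localization.AtPrime q :=
    Localization.localRingHom Q q (ψ : MvPolynomial (Fin n) R →+* S) rfl
  have hσ : Function.Surjective σ := by
    intro z
    obtain ⟨s, t, rfl⟩ := IsLocalization.exists_mk'_eq q.primeCompl z
    obtain ⟨a, rfl⟩ := hψ s
    obtain ⟨b, hb⟩ := hψ t.1
    have hbQ : b ∈ Q.primeCompl := by
      show b ∉ Q
      intro hbq
      apply t.2
      rw [← hb]
      exact hbq
    refine ⟨IsLocalization.mk' _ a ⟨b, hbQ⟩, ?_⟩
    rw [Localization.localRingHom_mk']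
    congr 1
    exact Subtype.ext hb
  letI : Algebra (Localization.AtPrime Q) (Localization.AtPrime q) := σ.toAlgebra
  haveI : IsScalarTower R (Localization.AtPrime Q) (Localization.AtPrime q) :=
    IsScalarTower.of_algebraMap_eq fun r => by
      show algebraMap R (Localization.AtPrime q) r = σ (algebraMap R (Localization.AtPrime Q) r)
      rw [IsScalarTower.algebraMap_apply R (MvPolynomial (Fin n) R) (Localization.AtPrime Q),
        Localization.localRingHom_to_map,
        IsScalarTower.algebraMap_apply R S (Localization.AtPrime q)]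
      simp
  haveI : Algebra.FormallySmooth R (Localization.AtPrime Q) :=
    Algebra.FormallySmooth.comp R (MvPolynomial (Fin n) R) (Localization.AtPrime Q)
  haveI : Algebra.EssFiniteType R (Localization.AtPrime Q) :=
    Algebra.EssFiniteType.comp R (MvPolynomial (Fin n) R) (Localization.AtPrime Q)
  haveI : Module.Free (Localization.AtPrime Q) Ω[(Localization.AtPrime Q)⁄R] :=
    Module.free_of_flat_of_isLocalRing
  haveI : IsNoetherianRing (MvPolynomial (Fin n) R) := inferInstance
  haveI : IsNoetherianRing (Localization.AtPrime Q) :=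
    IsLocalization.isNoetherianRing Q.primeCompl _ inferInstance
  show Algebra.FormallySmooth R (Localization.AtPrime q)
  refine formallySmooth_of_small_lifts (A := R) (P := Localization.AtPrime Q)
    (B := Localization.AtPrime q) hσ ?_
  intro K' c hK'top ⟨m, hm⟩ hmJ hcJ hImap
  have hJm : RingHom.ker (algebraMap (Localization.AtPrime Q) (Localization.AtPrime q)) ≤
      maximalIdeal (Localization.AtPrime Q) := le_maximalIdeal (RingHom.ker_ne_top _)
  haveI : Nontrivial (Localization.AtPrime Q ⧸ K') := Ideal.Quotient.nontrivial_iff.mpr hK'top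
  haveI : IsLocalRing (Localization.AtPrime Q ⧸ K') :=
    IsLocalRing.of_surjective' (Ideal.Quotient.mk K') Ideal.Quotient.mk_surjective
  have hmT : maximalIdeal (Localization.AtPrime Q ⧸ K') =
      (maximalIdeal (Localization.AtPrime Q)).map (Ideal.Quotient.mk K') :=
    (map_maximalIdeal_of_surjective _ Ideal.Quotient.mk_surjective).symm
  haveI : IsArtinianRing (Localization.AtPrime Q ⧸ K') := by
    rw [isArtinianRing_iff_isNilpotent_maximalIdeal]
    refine ⟨m, ?_⟩
    rw [hmT, ← Ideal.map_pow, Ideal.zero_eq_bot, Ideal.map_eq_bot_iff_le_ker, Ideal.mk_ker]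
    exact hm
  obtain ⟨I, hI⟩ : ∃ I : Ideal (Localization.AtPrime Q ⧸ K'),
    I = (RingHom.ker (algebraMap (Localization.AtPrime Q) (Localization.AtPrime q))).map
      (Ideal.Quotient.mk K') := ⟨_, rfl⟩
  rw [← hI] at hImap ⊢
  have hIm : I ≤ maximalIdeal (Localization.AtPrime Q ⧸ K') := by
    rw [hmT, hI]
    exact Ideal.map_mono hJm
  have hItop : I ≠ ⊤ := fun h =>
    (maximalIdeal.isMaximal (Localization.AtPrime Q ⧸ K')).ne_top (top_le_iff.mp (h ▸ hIm))
  haveI : Nontrivial ((Localization.AtPrime Q ⧸ K') ⧸ I) :=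
    Ideal.Quotient.nontrivial_iff.mpr hItop
  haveI : IsLocalRing ((Localization.AtPrime Q ⧸ K') ⧸ I) :=
    IsLocalRing.of_surjective' (Ideal.Quotient.mk I) Ideal.Quotient.mk_surjective
  haveI : IsArtinianRing ((Localization.AtPrime Q ⧸ K') ⧸ I) := inferInstance
  let π : (Localization.AtPrime Q ⧸ K') →ₐ[R] (Localization.AtPrime Q ⧸ K') ⧸ I :=
    Ideal.Quotient.mkₐ R I
  have hπ : Function.Surjective π := Ideal.Quotient.mk_surjective
  haveI hπloc : IsLocalHom (π : (Localization.AtPrime Q ⧸ K') →+*
      (Localization.AtPrime Q ⧸ K') ⧸ I) :=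
    IsLocalHom.of_surjective (π : (Localization.AtPrime Q ⧸ K') →+*
      (Localization.AtPrime Q ⧸ K') ⧸ I) hπ
  let qB : Localization.AtPrime Q →ₐ[R] (Localization.AtPrime Q ⧸ K') ⧸ I :=
    π.comp (Ideal.Quotient.mkₐ R K')
  have hqBsurj : Function.Surjective qB := hπ.comp Ideal.Quotient.mk_surjective
  have hqB : RingHom.ker (algebraMap (Localization.AtPrime Q) (Localization.AtPrime q)) ≤
      RingHom.ker (qB : Localization.AtPrime Q →+* (Localization.AtPrime Q ⧸ K') ⧸ I) := by
    intro x hx
    rw [RingHom.mem_ker]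
    show Ideal.Quotient.mk I (Ideal.Quotient.mk K' x) = 0
    rw [Ideal.Quotient.eq_zero_iff_mem, hI]
    exact Ideal.mem_map_of_mem _ hx
  let liftB : Localization.AtPrime q →+* (Localization.AtPrime Q ⧸ K') ⧸ I :=
    (algebraMap (Localization.AtPrime Q) (Localization.AtPrime q)).liftOfSurjective hσ
      ⟨(qB : Localization.AtPrime Q →+* (Localization.AtPrime Q ⧸ K') ⧸ I), hqB⟩
  have hliftB : ∀ x : Localization.AtPrime Q,
      liftB (algebraMap (Localization.AtPrime Q) (Localization.AtPrime q) x) = qB x := fun x =>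
    RingHom.liftOfSurjective_comp_apply _ hσ ⟨(qB : Localization.AtPrime Q →+* (Localization.AtPrime Q ⧸ K') ⧸ I), hqB⟩ x
  have hliftBsurj : Function.Surjective liftB := by
    intro b
    obtain ⟨x, rfl⟩ := hqBsurj b
    exact ⟨_, hliftB x⟩
  haveI : IsLocalHom liftB := IsLocalHom.of_surjective _ hliftBsurj
  let g : S →ₐ[R] (Localization.AtPrime Q ⧸ K') ⧸ I :=
    { toRingHom := liftB.comp (algebraMap S (Localization.AtPrime q))
      commutes' := fun r => by
        show liftB (algebraMap S (Localization.AtPrime q) (algebraMap R S r)) = _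
        rw [← IsScalarTower.algebraMap_apply R S (Localization.AtPrime q),
          IsScalarTower.algebraMap_apply R (Localization.AtPrime Q) (Localization.AtPrime q),
          hliftB]
        exact qB.commutes r }
  have hgq : (maximalIdeal ((Localization.AtPrime Q ⧸ K') ⧸ I)).comap g = q := by
    ext s
    rw [Ideal.mem_comap]
    show liftB (algebraMap S (Localization.AtPrime q) s) ∈ _ ↔ _
    rw [← Ideal.mem_comap, maximalIdeal_comap liftB,
      IsLocalization.AtPrime.to_map_mem_maximal_iff (Localization.AtPrime q) q]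
  have hsmall : ∃ t : Localization.AtPrime Q ⧸ K', RingHom.ker π.toRingHom = Ideal.span {t} ∧
      ∀ a ∈ maximalIdeal (Localization.AtPrime Q ⧸ K'), a * t = 0 := by
    refine ⟨Ideal.Quotient.mk K' c, ?_, ?_⟩
    · rw [← hImap]
      exact Ideal.mk_ker
    · intro a ha
      rw [hmT] at ha
      obtain ⟨a₀, ha₀, rfl⟩ := (Ideal.mem_map_iff_of_surjective _
        Ideal.Quotient.mk_surjective).mp ha
      rw [← map_mul, Ideal.Quotient.eq_zero_iff_mem]
      exact hmJ (Ideal.mul_mem_mul ha₀ hcJ)
  obtain ⟨g', hg'⟩ := H (Localization.AtPrime Q ⧸ K') ((Localization.AtPrime Q ⧸ K') ⧸ I) π hπ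
    hsmall g hgq
  have hunit' : ∀ y : q.primeCompl, IsUnit (g' y) := by
    intro y
    have h1 : IsUnit (g (y : S)) := by
      show IsUnit (liftB (algebraMap S (Localization.AtPrime q) y))
      exact (IsLocalization.map_units (Localization.AtPrime q) y).map liftB
    have h2 : π (g' y) = g y := congr($hg' y)
    rw [← h2] at h1
    exact isUnit_of_map_unit (π : (Localization.AtPrime Q ⧸ K') →+*
      (Localization.AtPrime Q ⧸ K') ⧸ I) _ h1
  let ĝ' : Localization.AtPrime q →ₐ[R] Localization.AtPrime Q ⧸ K' :=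
    IsLocalization.liftAlgHom (M := q.primeCompl) (f := g') hunit'
  refine ⟨ĝ', fun x => ?_⟩
  rw [← Ideal.Quotient.eq]
  -- compare two ring homs out of the localization
  let φ₁ : Localization.AtPrime Q →+* (Localization.AtPrime Q ⧸ K') ⧸ I :=
    (Ideal.Quotient.mk I).comp ((ĝ' : Localization.AtPrime q →+* Localization.AtPrime Q ⧸ K').comp
      (algebraMap (Localization.AtPrime Q) (Localization.AtPrime q)))
  have hφ : φ₁ = (qB : Localization.AtPrime Q →+* (Localization.AtPrime Q ⧸ K') ⧸ I) := by
    apply IsLocalization.ringHom_ext Q.primeCompl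
    ext a
    · show Ideal.Quotient.mk I (ĝ' (σ (algebraMap _ _ (MvPolynomial.C a)))) =
        qB (algebraMap _ _ (MvPolynomial.C a))
      rw [Localization.localRingHom_to_map]
      have h1 : ĝ' (algebraMap S (Localization.AtPrime q) (ψ (MvPolynomial.C a))) =
          g' (ψ (MvPolynomial.C a)) := IsLocalization.lift_eq _ _
      rw [RingHom.coe_coe, h1]
      have h2 : π (g' (ψ (MvPolynomial.C a))) = g (ψ (MvPolynomial.C a)) := congr($hg' _)
      show π (g' (ψ (MvPolynomial.C a))) = _
      rw [h2]
      show liftB (algebraMap S (Localization.AtPrime q) (ψ (MvPolynomial.C a))) = _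
      rw [← hliftB]
      congr 1
      exact (Localization.localRingHom_to_map Q q (ψ : MvPolynomial (Fin n) R →+* S) rfl _).symm
    · show Ideal.Quotient.mk I (ĝ' (σ (algebraMap _ _ (MvPolynomial.X a)))) =
        qB (algebraMap _ _ (MvPolynomial.X a))
      rw [Localization.localRingHom_to_map]
      have h1 : ĝ' (algebraMap S (Localization.AtPrime q) (ψ (MvPolynomial.X a))) =
          g' (ψ (MvPolynomial.X a)) := IsLocalization.lift_eq _ _
      rw [RingHom.coe_coe, h1]
      have h2 : π (g' (ψ (MvPolynomial.X a))) = g (ψ (MvPolynomial.X a)) := congr($hg' _)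
      show π (g' (ψ (MvPolynomial.X a))) = _
      rw [h2]
      show liftB (algebraMap S (Localization.AtPrime q) (ψ (MvPolynomial.X a))) = _
      rw [← hliftB]
      congr 1
      exact (Localization.localRingHom_to_map Q q (ψ : MvPolynomial (Fin n) R →+* S) rfl _).symm
  exact congr($hφ x)

end Helpers

/-- Let `R` be Noetherian, `S` of finite type over `R` and `𝔮` a prime of `S`. Then `R → S` is smooth at
`𝔮` if and only if for every surjection `B' → B` of Artinian local `R`-algebras whose kernel is
principal and killed by the maximal ideal of `B'`, every `R`-algebra map `S → B` under which the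
maximal ideal pulls back to `𝔮` lifts to `B'`. -/
theorem result {R S : Type u} [CommRing R] [IsNoetherianRing R]
    [CommRing S] [Algebra R S] [Algebra.FiniteType R S] (q : Ideal S) [q.IsPrime] :
    Algebra.IsSmoothAt R q ↔
      ∀ (B' B : Type u) [CommRing B'] [CommRing B] [IsLocalRing B'] [IsLocalRing B]
        [IsArtinianRing B'] [IsArtinianRing B] [Algebra R B'] [Algebra R B] (π : B' →ₐ[R] B),
        Function.Surjective π →
        (∃ t : B', RingHom.ker π.toRingHom = Ideal.span {t} ∧
          ∀ a ∈ IsLocalRing.maximalIdeal B', a * t = 0) →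
        ∀ g : S →ₐ[R] B, (IsLocalRing.maximalIdeal B).comap g = q →
          ∃ g' : S →ₐ[R] B', π.comp g' = g := by
  constructor
  · intro hsm B' B _ _ _ _ _ _ _ _ π hπ hsmall g hg
    exact forward q hsm B' B π hπ hsmall g hg
  · intro H
    exact backward q H

end Groth.Agent.S2060
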