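import Groth.Statements.S2061
import Groth.Agent.S0562
import Groth.Agent.S0563

set_option autoImplicit false
universe u
open CategoryTheory
open CAlg

namespace Groth.Agent.S2061

open IsLocalRing in
/-- The residue field of a regular local ring of dimension `d` has projective dimension exactly
`d`. -/
theorem projectiveDimension_residueField (R : Type u) [CommRing R] [IsRegularLocalRing R]
    (d : ℕ) (hd : ringKrullDim R = d) :
    projectiveDimension (ModuleCat.of R (IsLocalRing.ResidueField R)) = d := by
  obtain ⟨x, hx⟩ := Groth.Agent.S0561.exists_generators R d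
    (Groth.Agent.S0561.spanFinrank_eq_nat R d hd)
  have reg := Groth.Agent.S0559.result R d hd x hx
  have hlist : Ideal.ofList (List.ofFn x) = maximalIdeal R := by
    rw [← hx]
    have : {r | r ∈ List.ofFn x} = Set.range x := by
      ext r
      rw [Set.mem_ofPred_eq, List.mem_ofFn]
      rfl
    unfold Ideal.ofList
    rw [this]
  have h1 := ModuleCat.projectiveDimension_quotient_eq_length.{u} (List.ofFn x) reg
  let e : Shrink.{u} (R ⧸ Ideal.ofList (List.ofFn x)) ≃ₗ[R] IsLocalRing.ResidueField R :=
    ((Shrink.linearEquiv R (R ⧸ Ideal.ofList (List.ofFn x))).trans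
      (Submodule.quotEquivOfEq _ _ hlist)).trans
      (Groth.Agent.Lib.Helper29.residueFieldLinearEquiv R)
  rw [projectiveDimension_eq_of_iso e.toModuleIso, List.length_ofFn] at h1
  exact h1

/-- For a Noetherian local ring `R` write `𝔪` for its maximal ideal and `κ` for its residue field. The
projective dimension of `κ` as an `R`-module is at least the `κ`-dimension of `𝔪/𝔪²`: if `κ` has
projective dimension less than `d` then `dim_κ 𝔪/𝔪² < d`. -/
theorem result {R : Type u} [CommRing R] [IsLocalRing R]
    [IsNoetherianRing R] (d : ℕ)
    (hd : HasProjectiveDimensionLT (ModuleCat.of R (IsLocalRing.ResidueField R)) d) :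
    Module.finrank (IsLocalRing.ResidueField R) (IsLocalRing.CotangentSpace R) < d := by
  have hreg : IsRegularLocalRing R := Groth.Agent.S0562.result R d hd
  have hdim : ringKrullDim R = ((IsLocalRing.maximalIdeal R).spanFinrank : ℕ) :=
    IsRegularLocalRing.spanFinrank_maximalIdeal.symm
  have h1 := projectiveDimension_residueField R _ hdim
  have h2 : projectiveDimension (ModuleCat.of R (IsLocalRing.ResidueField R)) < d :=
    projectiveDimension_lt_iff.mpr hd
  rw [h1] at h2
  rw [← IsLocalRing.spanFinrank_maximalIdeal_eq_finrank_cotangentSpace]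
  exact_mod_cast h2

end Groth.Agent.S2061
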