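import Groth.Statements.S2064
import Groth.Agent.Lib.Helper29.AcyclicDepth
import Groth.Agent.Lib.Helper29.CM

set_option autoImplicit false
universe u
open CategoryTheory
open CAlg

namespace Groth.Agent.S2064

/-- Let `R` be a Noetherian local ring and `0 → M_e → M_{e-1} → … → M_0` a complex of finite `R`-modules
with `depth(M_j) ≥ j`. If `i > 0` is the largest index at which the complex is not exact, then the
homology at `M_i` has depth at least one. -/
theorem result {R : Type u} [CommRing R] [IsLocalRing R] [IsNoetherianRing R]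
    (C : ChainComplex (ModuleCat.{u} R) ℕ) (e : ℕ) (hzero : ∀ j, e < j → Limits.IsZero (C.X j))
    (hfin : ∀ j, Module.Finite R (C.X j)) (hdepth : ∀ j, j ≤ e → (j : ℕ∞) ≤ LocCoh.depth R (C.X j))
    (i : ℕ) (hi : 0 < i) (hnot : ¬ C.ExactAt i) (habove : ∀ j, i < j → C.ExactAt j) :
    1 ≤ LocCoh.depth R (C.homology i) := by
  obtain ⟨i₀, rfl⟩ : ∃ i₀, i = i₀ + 1 := ⟨i - 1, by omega⟩
  have hfin' : ∀ j, Module.Finite R ((fun j => (C.X j : Type u)) j) := hfin
  let d : ∀ j, (C.X (j + 1)) →ₗ[R] (C.X j) := fun j => (C.d (j + 1) j).hom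
  have hd : ∀ j, (d j).comp (d (j + 1)) = 0 := by
    intro j
    have := C.d_comp_d (j + 1 + 1) (j + 1) j
    exact congrArg ModuleCat.Hom.hom this
  have hzero' : ∀ j, e < j → Subsingleton (C.X j) := fun j hj =>
    ModuleCat.subsingleton_of_isZero (hzero j hj)
  have hex : ∀ k, i₀ + 1 ≤ k → Function.Exact (d (k + 1)) (d k) := by
    intro k hk
    have h1 := habove (k + 1) (by omega)
    rw [C.exactAt_iff' (k + 1 + 1) (k + 1) k (by simp) (by simp)] at h1
    exact (CategoryTheory.ShortComplex.ShortExact.moduleCat_exact_iff_function_exact _).1 h1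
  let S := C.sc' (i₀ + 1 + 1) (i₀ + 1) i₀
  have key := Groth.Agent.Lib.Helper29.AcyclicDepth.one_le_depth_homology
    (fun j => (C.X j : Type u)) d hd e hzero' hdepth i₀ hex S.moduleCatToCycles (fun x => rfl)
  let eiso : C.homology (i₀ + 1) ≅ S.moduleCatLeftHomologyData.H :=
    (C.homologyIsoSc' (i₀ + 1 + 1) (i₀ + 1) i₀ (by simp) (by simp)) ≪≫ S.moduleCatHomologyIso
  rw [Groth.Agent.Lib.Helper29.CMLib.depth_congr eiso.toLinearEquiv]
  exact key

end Groth.Agent.S2064
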