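import Groth.Statements.S2071
import Mathlib
-- import your own Groth.Agent.* helpers here

set_option autoImplicit false
universe u
open CAlg

namespace Groth.Agent.S2071

open Polynomial in
theorem exists_conj {k k' : Type u} [Field k] [Field k'] [Algebra k k'] (x : k')
    (hs : IsSeparable k x) (hx : x ∉ Set.range (algebraMap k k')) :
    ∃ (L : Type u) (_ : Field L) (ι : k' →+* L) (x' : L), x' ≠ ι x ∧
      ∀ q : Polynomial k, Polynomial.aeval x q = 0 →
        Polynomial.eval₂ (ι.comp (algebraMap k k')) x' q = 0 := by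
  classical
  set φ : k →+* AlgebraicClosure k' := (algebraMap k' (AlgebraicClosure k')).comp (algebraMap k k')
    with hφ
  have hint : IsIntegral k x := hs.isIntegral
  have hsepP : ((minpoly k x).map φ).Separable := Polynomial.Separable.map hs
  have hsplit : ((minpoly k x).map φ).Splits := IsAlgClosed.splits _
  have hdeg : 2 ≤ ((minpoly k x).map φ).natDegree := by
    rw [Polynomial.natDegree_map]
    have h1 := minpoly.natDegree_pos hint
    have h2 : (minpoly k x).natDegree ≠ 1 := by
      intro h
      apply hx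
      have := (minpoly.natDegree_eq_one_iff).1 h
      exact this
    omega
  have hcard : ((minpoly k x).map φ).roots.toFinset.card = ((minpoly k x).map φ).natDegree := by
    rw [Multiset.toFinset_card_of_nodup (Polynomial.nodup_roots hsepP)]
    exact (Polynomial.splits_iff_card_roots.1 hsplit)
  obtain ⟨x', hx'mem, hx'ne⟩ := Finset.exists_mem_ne (by omega : 1 < ((minpoly k x).map φ).roots.toFinset.card)
    (algebraMap k' (AlgebraicClosure k') x)
  refine ⟨AlgebraicClosure k', inferInstance, algebraMap k' (AlgebraicClosure k'), x', hx'ne, fun q hq => ?_⟩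
  change Polynomial.eval₂ φ x' q = 0
  obtain ⟨r, rfl⟩ := minpoly.dvd k x hq
  rw [Polynomial.eval₂_mul]
  have : Polynomial.eval₂ φ x' (minpoly k x) = 0 := by
    rw [← Polynomial.eval_map]
    rw [Multiset.mem_toFinset, Polynomial.mem_roots'] at hx'mem
    exact hx'mem.2
  rw [this, zero_mul]


open Polynomial in
theorem finite_roots_of_unity (F : Type*) [Field F] [NumberField F] :
    {z : F | ∃ n : ℕ, 0 < n ∧ z ^ n = 1}.Finite := by
  refine (NumberField.Embeddings.finite_of_norm_le F ℂ 1).subset ?_
  rintro z ⟨n, hn, hz⟩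
  refine ⟨⟨X ^ n - 1, monic_X_pow_sub_C 1 hn.ne', by simp [hz]⟩, fun φ => le_of_eq ?_⟩
  have : (φ z) ^ n = 1 := by rw [← map_pow, hz, map_one]
  exact Complex.norm_eq_one_of_pow_eq_one this hn.ne'

theorem alg_bot_of_map {K L : Type*} [Field K] [Field L] (ι : K →+* L) (y : K)
    (h : IsAlgebraic (⊥ : Subfield L) (ι y)) : IsAlgebraic (⊥ : Subfield K) y := by
  have hmap : ∀ u : (⊥ : Subfield K), (ι.comp (⊥ : Subfield K).subtype) u ∈ (⊥ : Subfield L) := by
    intro u
    rw [← Subfield.map_bot ι]
    exact Subfield.mem_map.2 ⟨u, u.2, rfl⟩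
  let f : (⊥ : Subfield K) →+* (⊥ : Subfield L) :=
    (ι.comp (⊥ : Subfield K).subtype).codRestrict (⊥ : Subfield L) hmap
  have hsurj : Function.Surjective f := by
    rintro ⟨v, hv⟩
    have hv' := hv
    rw [← Subfield.map_bot ι] at hv'
    obtain ⟨u, hu, rfl⟩ := Subfield.mem_map.1 hv'
    exact ⟨⟨u, hu⟩, Subtype.ext rfl⟩
  exact h.of_ringHom_of_comp_eq f ι hsurj ι.injective (by ext; rfl)

theorem alg_rat_of_bot {L : Type*} [Field L] [CharZero L] (y : L)
    (h : IsAlgebraic (⊥ : Subfield L) y) : IsAlgebraic ℚ y := by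
  have hmap : ∀ u : ℚ, algebraMap ℚ L u ∈ (⊥ : Subfield L) := by
    intro u
    rw [Subfield.bot_eq_of_charZero]
    exact ⟨u, rfl⟩
  let f : ℚ →+* (⊥ : Subfield L) := (algebraMap ℚ L).codRestrict (⊥ : Subfield L) hmap
  have hsurj : Function.Surjective f := by
    rintro ⟨v, hv⟩
    have hv' := hv
    rw [Subfield.bot_eq_of_charZero] at hv'
    obtain ⟨u, rfl⟩ := hv'
    exact ⟨u, Subtype.ext rfl⟩
  exact h.of_ringHom_of_comp_eq f (RingHom.id L) hsurj Function.injective_id (by ext; rfl)

open Polynomial in
theorem caseB {k k' : Type u} [Field k] [Field k'] [Algebra k k']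
    (hpow : ∀ x : k', ∃ n : ℕ, 0 < n ∧ x ^ n ∈ Set.range (algebraMap k k'))
    (x : k') (hs : IsSeparable k x) (hx : x ∉ Set.range (algebraMap k k')) :
    (∀ y : k', IsAlgebraic (⊥ : Subfield k') y) ∧ ¬ CharZero k' := by
  classical
  obtain ⟨L, _, ι, x', hne, hconj⟩ := exists_conj x hs hx
  obtain ⟨j, hj⟩ : ∃ j : k →+* L, j = ι.comp (algebraMap k k') := ⟨_, rfl⟩
  rw [← hj] at hconj
  have hιinj : Function.Injective ι := ι.injective
  have hjinj : Function.Injective j := j.injective
  have hstep : ∀ c : k, ∃ n : ℕ, 0 < n ∧ (x' + j c) ^ n = (ι x + j c) ^ n := by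
    intro c
    obtain ⟨n, hn, a, ha⟩ := hpow (x + algebraMap k k' c)
    refine ⟨n, hn, ?_⟩
    have h1 := hconj ((Polynomial.X + Polynomial.C c) ^ n - Polynomial.C a) (by simp [ha])
    simp only [Polynomial.eval₂_sub, Polynomial.eval₂_pow, Polynomial.eval₂_add,
      Polynomial.eval₂_X, Polynomial.eval₂_C] at h1
    rw [sub_eq_zero] at h1
    rw [h1]
    have : ι x + j c = ι (x + algebraMap k k' c) := by simp [hj]
    rw [this, ← map_pow, ← ha, hj]
    rfl
  have hden : ∀ c : k, ι x + j c ≠ 0 := by
    intro c h0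
    apply hx
    have : ι (x + algebraMap k k' c) = 0 := by simpa [hj] using h0
    have h2 : x + algebraMap k k' c = 0 := hιinj (by rw [this, map_zero])
    exact ⟨-c, by rw [map_neg]; linear_combination -h2⟩
  set z : k → L := fun c => (x' + j c) / (ι x + j c) with hz
  have hz1 : ∀ c, ∃ n : ℕ, 0 < n ∧ z c ^ n = 1 := by
    intro c
    obtain ⟨n, hn, h⟩ := hstep c
    exact ⟨n, hn, by rw [hz]; simp only; rw [div_pow, h, div_self (pow_ne_zero _ (hden c))]⟩
  have hz2 : ∀ c, z c ≠ 1 := by
    intro c h1
    apply hne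
    have := (div_eq_one_iff_eq (hden c)).1 h1
    exact add_right_cancel this
  have hzmul : ∀ c, x' + j c = z c * (ι x + j c) := fun c => (div_mul_cancel₀ _ (hden c)).symm
  have hzalg : ∀ c, IsAlgebraic (⊥ : Subfield L) (z c) := by
    intro c
    obtain ⟨n, hn, h⟩ := hz1 c
    exact IsIntegral.isAlgebraic ⟨X ^ n - 1, monic_X_pow_sub_C 1 hn.ne', by simp [h]⟩
  have hx'ζ : x' = z 0 * ι x := by
    have := hzmul 0
    simpa using this
  -- key relation
  have hrel : ∀ c, ι x * (z 0 - z c) = j c * (z c - 1) := by
    intro c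
    have := hzmul c
    rw [hx'ζ] at this
    linear_combination this
  have hXalg : IsAlgebraic (⊥ : Subfield L) (ι x) := by
    have h1 := hrel 1
    rw [map_one, one_mul] at h1
    have hne1 : z 0 - z 1 ≠ 0 := by
      intro h0
      rw [h0, mul_zero] at h1
      exact hz2 1 (sub_eq_zero.1 h1.symm)
    have : ι x = (z 1 - 1) * (z 0 - z 1)⁻¹ := (eq_mul_inv_iff_mul_eq₀ hne1).2 h1
    rw [this]
    exact ((hzalg 1).sub isAlgebraic_one).mul ((hzalg 0).sub (hzalg 1)).inv
  have hjalg : ∀ c, IsAlgebraic (⊥ : Subfield L) (j c) := by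
    intro c
    have h1 := hrel c
    have hne1 : z c - 1 ≠ 0 := sub_ne_zero.2 (hz2 c)
    have : j c = ι x * (z 0 - z c) * (z c - 1)⁻¹ := (eq_mul_inv_iff_mul_eq₀ hne1).2 h1.symm
    rw [this]
    exact (hXalg.mul ((hzalg 0).sub (hzalg c))).mul ((hzalg c).sub isAlgebraic_one).inv
  have hkalg : ∀ c : k, IsAlgebraic (⊥ : Subfield k') (algebraMap k k' c) := by
    intro c
    apply alg_bot_of_map ι
    have := hjalg c
    rw [hj] at this
    exact this
  refine ⟨?_, ?_⟩
  · intro y
    obtain ⟨n, hn, a, ha⟩ := hpow y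
    apply IsAlgebraic.of_pow hn
    rw [← ha]
    exact hkalg a
  · intro hchar
    haveI : CharZero L := (RingHom.charZero_iff hιinj).1 hchar
    have hx'alg : IsAlgebraic (⊥ : Subfield L) x' := by rw [hx'ζ]; exact (hzalg 0).mul hXalg
    have hXint : IsIntegral ℚ (ι x) := (alg_rat_of_bot _ hXalg).isIntegral
    have hx'int : IsIntegral ℚ x' := (alg_rat_of_bot _ hx'alg).isIntegral
    let F : IntermediateField ℚ L := IntermediateField.adjoin ℚ {ι x, x'}
    haveI : FiniteDimensional ℚ F := IntermediateField.finiteDimensional_adjoin_pair hXint hx'int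
    haveI : NumberField F := ⟨⟩
    have hXF : ι x ∈ F := IntermediateField.subset_adjoin ℚ _ (by simp)
    have hx'F : x' ∈ F := IntermediateField.subset_adjoin ℚ _ (by simp)
    have hcF : ∀ c : ℕ, j (c : k) ∈ F := fun c => by
      rw [map_natCast]; exact natCast_mem F c
    have hzF : ∀ c : ℕ, z (c : k) ∈ F := fun c =>
      F.div_mem (F.add_mem hx'F (hcF c)) (F.add_mem hXF (hcF c))
    let g : ℕ → F := fun c => ⟨z (c : k), hzF c⟩
    have hginj : Function.Injective g := by
      intro c c' h
      have h1 : z (c : k) = z (c' : k) := congrArg Subtype.val h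
      have r1 := hrel (c : k)
      have r2 := hrel (c' : k)
      rw [h1] at r1
      have h2 : j (c : k) * (z (c' : k) - 1) = j (c' : k) * (z (c' : k) - 1) := by
        rw [← r1, ← r2]
      have h3 := mul_right_cancel₀ (sub_ne_zero.2 (hz2 _)) h2
      rw [map_natCast, map_natCast] at h3
      exact Nat.cast_injective h3
    have hfin := finite_roots_of_unity F
    have hmem : ∀ c, g c ∈ {z : F | ∃ n : ℕ, 0 < n ∧ z ^ n = 1} := by
      intro c
      obtain ⟨n, hn, h⟩ := hz1 (c : k)
      exact ⟨n, hn, Subtype.ext (by simpa [g] using h)⟩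
    exact Set.infinite_of_injective_forall_mem hginj hmem hfin


/-- For a field extension `k'/k`, every element of `k'` has a positive power in `k` if and only if
either `k' = k`, or the characteristic is a prime `p` and either `k'/k` is purely inseparable or
`k'` is algebraic over its prime field. -/
theorem result {k k' : Type u} [Field k] [Field k'] [Algebra k k'] :
    (∀ x : k', ∃ n : ℕ, 0 < n ∧ x ^ n ∈ Set.range (algebraMap k k')) ↔
      Function.Surjective (algebraMap k k') ∨
        ∃ p : ℕ, p.Prime ∧ CharP k' p ∧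
          (IsPurelyInseparable k k' ∨ Algebra.IsAlgebraic (⊥ : Subfield k') k') := by
  classical
  constructor
  · intro hpow
    by_cases hsurj : Function.Surjective (algebraMap k k')
    · exact Or.inl hsurj
    right
    have hint : ∀ x : k', IsIntegral k x := fun x => by
      obtain ⟨n, hn, a, ha⟩ := hpow x
      exact ⟨Polynomial.X ^ n - Polynomial.C a, Polynomial.monic_X_pow_sub_C a hn.ne',
        by simp [ha]⟩
    obtain ⟨p, hp⟩ := CharP.exists k'
    by_cases hB : ∃ x : k', IsSeparable k x ∧ x ∉ Set.range (algebraMap k k')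
    · obtain ⟨x, hs, hx⟩ := hB
      obtain ⟨halg, hnz⟩ := caseB hpow x hs hx
      have hpp : p.Prime := by
        rcases CharP.char_is_prime_or_zero k' p with h | h
        · exact h
        · subst h; exact absurd (CharP.charP_to_charZero k') hnz
      exact ⟨p, hpp, hp, Or.inr ⟨halg⟩⟩
    · have hB' : ∀ x : k', IsSeparable k x → x ∈ Set.range (algebraMap k k') := by
        intro x hs
        by_contra hx
        exact hB ⟨x, hs, hx⟩
      have hpp : p.Prime := by
        rcases CharP.char_is_prime_or_zero k' p with h | h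
        · exact h
        · subst h
          exfalso
          haveI : CharZero k' := CharP.charP_to_charZero k'
          haveI : CharZero k := (RingHom.charZero_iff (algebraMap k k').injective).2 inferInstance
          apply hsurj
          intro x
          have hs : IsSeparable k x := (minpoly.irreducible (hint x)).separable
          exact hB' x hs
      refine ⟨p, hpp, hp, Or.inl ?_⟩
      rw [isPurelyInseparable_iff]
      exact fun x => ⟨hint x, fun hs => hB' x hs⟩
  · rintro (hsurj | ⟨p, hpp, hp, hPI | halg⟩)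
    · intro x
      obtain ⟨a, rfl⟩ := hsurj x
      exact ⟨1, one_pos, a, by rw [pow_one]⟩
    · intro x
      haveI : CharP k p := (algebraMap k k').charP (algebraMap k k').injective p
      haveI : Fact p.Prime := ⟨hpp⟩
      haveI : ExpChar k p := ExpChar.prime hpp
      obtain ⟨n, hn⟩ := IsPurelyInseparable.pow_mem k p x
      exact ⟨p ^ n, pow_pos hpp.pos n, hn⟩
    · intro y
      by_cases hy0 : y = 0
      · exact ⟨1, one_pos, 0, by rw [hy0, map_zero, pow_one]⟩
      haveI : Fact p.Prime := ⟨hpp⟩
      letI := Subfield.fintypeBot k' p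
      have hyint : IsIntegral (⊥ : Subfield k') y := (halg.isAlgebraic y).isIntegral
      haveI : FiniteDimensional (⊥ : Subfield k') (IntermediateField.adjoin (⊥ : Subfield k') {y}) :=
        IntermediateField.adjoin.finiteDimensional hyint
      haveI : Finite (IntermediateField.adjoin (⊥ : Subfield k') {y}) :=
        Module.finite_of_finite (⊥ : Subfield k')
      let y' : IntermediateField.adjoin (⊥ : Subfield k') {y} :=
        IntermediateField.AdjoinSimple.gen (⊥ : Subfield k') y
      have hy' : y' ≠ 0 := by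
        intro h
        apply hy0
        have := congrArg Subtype.val h
        simpa [y'] using this
      obtain ⟨n, hn, hun⟩ := (isOfFinOrder_iff_pow_eq_one.1 (isOfFinOrder_of_finite (Units.mk0 y' hy')))
      refine ⟨n, hn, 1, ?_⟩
      have h1 : y' ^ n = 1 := by
        have := congrArg Units.val hun
        simpa using this
      have h2 := congrArg Subtype.val h1
      rw [map_one]
      simpa [y'] using h2.symm

end Groth.Agent.S2071
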