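import Groth.Statements.S2073
import Mathlib.RingTheory.NoetherNormalization
import Mathlib.RingTheory.Localization.Integral
import Mathlib.RingTheory.Localization.BaseChange
import Mathlib.RingTheory.MvPolynomial.Localization
import Mathlib.RingTheory.FiniteStability

set_option autoImplicit false
universe u
open CAlg

namespace Groth.Agent.S2073
open TensorProduct MvPolynomial

section
variable {R S : Type u} [CommRing R] [IsDomain R] [CommRing S] [Algebra R S]

theorem nontrivial_tensor (hinj : Function.Injective (algebraMap R S)) :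
    Nontrivial (FractionRing R ⊗[R] S) := by
  refine ⟨⟨1, 0, ?_⟩⟩
  intro h
  have h1 : TensorProduct.mk R (FractionRing R) S 1 1 = TensorProduct.mk R (FractionRing R) S 1 0 := by
    simpa [Algebra.TensorProduct.one_def] using h
  obtain ⟨c, hc⟩ := IsLocalizedModule.exists_of_eq (S := nonZeroDivisors R) h1
  rw [smul_zero, Submonoid.smul_def, Algebra.smul_def, mul_one] at hc
  have : (c : R) = 0 := hinj (by rw [hc, map_zero])
  exact nonZeroDivisors.coe_ne_zero c this

/-- Step 1: normalization over the fraction field with `y` in `S` -/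
theorem exists_normalization [Algebra.FiniteType R S] (hinj : Function.Injective (algebraMap R S)) :
    ∃ (d : ℕ) (y : Fin d → S)
      (g : MvPolynomial (Fin d) (FractionRing R) →ₐ[FractionRing R] (FractionRing R ⊗[R] S)),
      Function.Injective g ∧ g.IsIntegral ∧ ∀ i, g (X i) = 1 ⊗ₜ y i := by
  classical
  haveI := nontrivial_tensor hinj
  obtain ⟨d, g, hg_inj, hg_int⟩ :=
    exists_integral_inj_algHom_of_fg (FractionRing R) (FractionRing R ⊗[R] S)
  have hsurj : ∀ i : Fin d, ∃ (yc : S × nonZeroDivisors R),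
      yc.2 • g (X i) = TensorProduct.mk R (FractionRing R) S 1 yc.1 := fun i =>
    IsLocalizedModule.surj (nonZeroDivisors R) (TensorProduct.mk R (FractionRing R) S 1) (g (X i))
  choose yc hyc using hsurj
  let c : Fin d → FractionRing R := fun i => algebraMap R (FractionRing R) (yc i).2
  have hc : ∀ i, c i ≠ 0 := fun i =>
    IsFractionRing.to_map_ne_zero_of_mem_nonZeroDivisors (yc i).2.2
  let σ : MvPolynomial (Fin d) (FractionRing R) →ₐ[FractionRing R]
      MvPolynomial (Fin d) (FractionRing R) := aeval (fun i => C (c i) * X i)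
  let τ : MvPolynomial (Fin d) (FractionRing R) →ₐ[FractionRing R]
      MvPolynomial (Fin d) (FractionRing R) := aeval (fun i => C (c i)⁻¹ * X i)
  have hστ : σ.comp τ = AlgHom.id _ _ := by
    apply MvPolynomial.algHom_ext
    intro i
    simp only [AlgHom.comp_apply, τ, σ, aeval_X, map_mul, AlgHom.id_apply, aeval_C,
      MvPolynomial.algebraMap_eq]
    rw [← mul_assoc, ← C_mul, inv_mul_cancel₀ (hc i), C_1, one_mul]
  have hτσ : τ.comp σ = AlgHom.id _ _ := by
    apply MvPolynomial.algHom_ext
    intro i
    simp only [AlgHom.comp_apply, τ, σ, aeval_X, map_mul, AlgHom.id_apply, aeval_C,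
      MvPolynomial.algebraMap_eq]
    rw [← mul_assoc, ← C_mul, mul_inv_cancel₀ (hc i), C_1, one_mul]
  have hσsurj : Function.Surjective σ := fun p => ⟨τ p, DFunLike.congr_fun hστ p⟩
  have hσinj : Function.Injective σ := fun p q h => by
    have := congrArg τ h
    rwa [← AlgHom.comp_apply, ← AlgHom.comp_apply, hτσ] at this
  refine ⟨d, fun i => (yc i).1, g.comp σ, hg_inj.comp hσinj, ?_, ?_⟩
  · exact RingHom.IsIntegral.trans σ.toRingHom g.toRingHom
      (RingHom.isIntegral_of_surjective _ hσsurj) hg_int
  · intro i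
    rw [AlgHom.comp_apply]
    simp only [σ, aeval_X]
    rw [C_mul', map_smul]
    have := hyc i
    rw [Submonoid.smul_def, ← algebraMap_smul (FractionRing R)] at this
    exact this

theorem comm_lemma {d : ℕ} (y : Fin d → S)
    (g : MvPolynomial (Fin d) (FractionRing R) →ₐ[FractionRing R] (FractionRing R ⊗[R] S))
    (hgy : ∀ i, g (X i) = 1 ⊗ₜ y i) (p : MvPolynomial (Fin d) R) :
    g (MvPolynomial.map (algebraMap R (FractionRing R)) p) =
      (Algebra.TensorProduct.includeRight : S →ₐ[R] FractionRing R ⊗[R] S) (aeval y p) := by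
  have : (g.restrictScalars R).comp (MvPolynomial.mapAlgHom (Algebra.ofId R (FractionRing R))) =
      (Algebra.TensorProduct.includeRight : S →ₐ[R] FractionRing R ⊗[R] S).comp (aeval y) := by
    apply MvPolynomial.algHom_ext
    intro i
    simp [hgy]
  exact DFunLike.congr_fun this p

/-- Step 2: a nonzero multiple of any element is integral over `R[y]` -/
theorem exists_integral_smul {d : ℕ} (y : Fin d → S)
    (g : MvPolynomial (Fin d) (FractionRing R) →ₐ[FractionRing R] (FractionRing R ⊗[R] S))
    (hg_int : g.IsIntegral) (hgy : ∀ i, g (X i) = 1 ⊗ₜ y i) (s : S) :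
    ∃ r : R, r ≠ 0 ∧ IsIntegral (Algebra.adjoin R (Set.range y)) (r • s) := by
  classical
  let ψ : MvPolynomial (Fin d) R →ₐ[R] S := aeval y
  let ι : S →ₐ[R] FractionRing R ⊗[R] S := Algebra.TensorProduct.includeRight
  letI iPK : Algebra (MvPolynomial (Fin d) R) (MvPolynomial (Fin d) (FractionRing R)) :=
    MvPolynomial.algebraMvPolynomial
  letI iPS : Algebra (MvPolynomial (Fin d) R) S := ψ.toRingHom.toAlgebra
  letI iKT : Algebra (MvPolynomial (Fin d) (FractionRing R)) (FractionRing R ⊗[R] S) :=
    g.toRingHom.toAlgebra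
  letI iST : Algebra S (FractionRing R ⊗[R] S) := Algebra.TensorProduct.rightAlgebra
  letI iPT : Algebra (MvPolynomial (Fin d) R) (FractionRing R ⊗[R] S) :=
    ((algebraMap (MvPolynomial (Fin d) (FractionRing R)) (FractionRing R ⊗[R] S)).comp
      (algebraMap (MvPolynomial (Fin d) R) (MvPolynomial (Fin d) (FractionRing R)))).toAlgebra
  haveI : IsScalarTower (MvPolynomial (Fin d) R) (MvPolynomial (Fin d) (FractionRing R))
      (FractionRing R ⊗[R] S) := IsScalarTower.of_algebraMap_eq (fun _ => rfl)
  have hcomm : ∀ p : MvPolynomial (Fin d) R,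
      g (MvPolynomial.map (algebraMap R (FractionRing R)) p) = ι (ψ p) := by
    intro p
    have : (g.restrictScalars R).comp (MvPolynomial.mapAlgHom (Algebra.ofId R (FractionRing R))) =
        ι.comp ψ := by
      apply MvPolynomial.algHom_ext
      intro i
      simp [hgy, ψ, ι]
    exact DFunLike.congr_fun this p
  haveI : IsScalarTower (MvPolynomial (Fin d) R) S (FractionRing R ⊗[R] S) :=
    IsScalarTower.of_algebraMap_eq (fun p => hcomm p)
  haveI hloc1 : IsLocalization ((nonZeroDivisors R).map (C : R →+* MvPolynomial (Fin d) R))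
      (MvPolynomial (Fin d) (FractionRing R)) :=
    MvPolynomial.isLocalization (nonZeroDivisors R) (FractionRing R)
  have hloc2' : IsLocalization (Algebra.algebraMapSubmonoid S (nonZeroDivisors R))
      (FractionRing R ⊗[R] S) :=
    (isLocalizedModule_iff_isLocalization (S := nonZeroDivisors R) (A := S)
      (Aₛ := FractionRing R ⊗[R] S)).mp inferInstance
  have hsub : Algebra.algebraMapSubmonoid S
      ((nonZeroDivisors R).map (C : R →+* MvPolynomial (Fin d) R)) =
      Algebra.algebraMapSubmonoid S (nonZeroDivisors R) := by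
    ext x
    simp only [Algebra.algebraMapSubmonoid, Submonoid.mem_map]
    constructor
    · rintro ⟨_, ⟨r, hr, rfl⟩, rfl⟩
      exact ⟨r, hr, (aeval_C y r).symm⟩
    · rintro ⟨r, hr, rfl⟩
      exact ⟨C r, ⟨r, hr, rfl⟩, aeval_C y r⟩
  haveI hloc2 : IsLocalization (Algebra.algebraMapSubmonoid S
      ((nonZeroDivisors R).map (C : R →+* MvPolynomial (Fin d) R)))
      (FractionRing R ⊗[R] S) := by
    rw [hsub]; exact hloc2'
  -- integrality of ι s over K[X]
  have hint : IsIntegral (MvPolynomial (Fin d) (FractionRing R)) (ι s) := hg_int (ι s)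
  obtain ⟨m, hm⟩ := IsIntegral.exists_multiple_integral_of_isLocalization
    ((nonZeroDivisors R).map (C : R →+* MvPolynomial (Fin d) R)) (ι s) hint
  obtain ⟨_, ⟨r, hr, rfl⟩⟩ := m
  have heq : (⟨C r, ⟨r, hr, rfl⟩⟩ : (nonZeroDivisors R).map (C : R →+* MvPolynomial (Fin d) R)) •
      ι s = algebraMap S (FractionRing R ⊗[R] S) (r • s) := by
    rw [Submonoid.smul_def, Algebra.smul_def]
    show g (MvPolynomial.map (algebraMap R (FractionRing R)) (C r)) * ι s = ι (r • s)
    rw [hcomm, ← map_mul]
    congr 1
    simp [ψ, Algebra.smul_def]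
  have hm' : IsIntegral (MvPolynomial (Fin d) R)
      (algebraMap S (FractionRing R ⊗[R] S) (r • s)) := by
    rw [← heq]
    exact hm
  obtain ⟨m₂, hm₂, hint₂⟩ := IsLocalization.exists_isIntegral_smul_of_isIntegral_map
    (Sₘ := FractionRing R ⊗[R] S) ((nonZeroDivisors R).map (C : R →+* MvPolynomial (Fin d) R)) hm'
  obtain ⟨r₂, hr₂, rfl⟩ := hm₂
  refine ⟨r₂ * r, mul_ne_zero (nonZeroDivisors.ne_zero hr₂) (nonZeroDivisors.ne_zero hr), ?_⟩
  have hx : (C r₂ : MvPolynomial (Fin d) R) • (r • s) = (r₂ * r) • s := by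
    rw [Algebra.smul_def]
    show ψ (C r₂) * (r • s) = _
    simp [ψ, Algebra.smul_def, mul_assoc]
  rw [hx] at hint₂
  -- transfer to the subalgebra
  obtain ⟨p, hpm, hp⟩ := hint₂
  have hrange : ∀ q : MvPolynomial (Fin d) R, ψ q ∈ Algebra.adjoin R (Set.range y) := by
    intro q
    rw [Algebra.adjoin_range_eq_range_aeval]
    exact ⟨q, rfl⟩
  let ψ' : MvPolynomial (Fin d) R →+* Algebra.adjoin R (Set.range y) :=
    ψ.toRingHom.codRestrict (Algebra.adjoin R (Set.range y)) hrange
  refine ⟨p.map ψ', hpm.map ψ', ?_⟩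
  rw [Polynomial.eval₂_map]
  exact hp

end

/-- Let `R` be a domain and `R → S` an injective ring map of finite type. Then there are elements `y_1,
…, y_d` of `S` algebraically independent over `R`, a finitely generated `R`-subalgebra `S'` of `S`
containing them and integral over `R[y_1, …, y_d]`, and a nonzero `f ∈ R` such that every element of
`S` lands in `S'` after multiplication by a power of `f`. -/
theorem result {R S : Type u} [CommRing R] [IsDomain R] [CommRing S] [Algebra R S]
    [Algebra.FiniteType R S] (hinj : Function.Injective (algebraMap R S)) :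
    ∃ (d : ℕ) (y : Fin d → S) (S' : Subalgebra R S), AlgebraicIndependent R y ∧ (∀ i, y i ∈ S') ∧ S'.FG ∧
      (∀ s ∈ S', IsIntegral (Algebra.adjoin R (Set.range y)) s) ∧
      ∃ f : R, f ≠ 0 ∧ ∀ s : S, ∃ n : ℕ, (f ^ n) • s ∈ S' := by
  classical
  obtain ⟨d, y, g, hg_inj, hg_int, hgy⟩ := exists_normalization hinj
  obtain ⟨G, hG⟩ := (Algebra.FiniteType.out : (⊤ : Subalgebra R S).FG)
  have hr : ∀ s : S, ∃ r : R, r ≠ 0 ∧ IsIntegral (Algebra.adjoin R (Set.range y)) (r • s) :=
    exists_integral_smul y g hg_int hgy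
  choose r hr0 hrint using hr
  let f : R := ∏ s ∈ G, r s
  have hf0 : f ≠ 0 := Finset.prod_ne_zero_iff.mpr (fun s _ => hr0 s)
  have hfint : ∀ s ∈ G, IsIntegral (Algebra.adjoin R (Set.range y)) (f • s) := by
    intro s hs
    have : f = (∏ t ∈ G.erase s, r t) * r s := (Finset.prod_erase_mul G r hs).symm
    rw [this, mul_smul]
    exact (hrint s).smul _
  let S' : Subalgebra R S :=
    Algebra.adjoin R ((Finset.univ.image y ∪ G.image (fun s => f • s) : Finset S) : Set S)
  refine ⟨d, y, S', ?_, ?_, ⟨_, rfl⟩, ?_, f, hf0, ?_⟩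
  · intro p q hpq
    have h1 := comm_lemma y g hgy p
    have h2 := comm_lemma y g hgy q
    change aeval y p = aeval y q at hpq
    rw [hpq, ← h2] at h1
    exact MvPolynomial.map_injective _ (IsFractionRing.injective R (FractionRing R)) (hg_inj h1)
  · intro i
    apply Algebra.subset_adjoin
    simp
  · intro s hs
    have hle : S' ≤ (integralClosure (Algebra.adjoin R (Set.range y)) S).restrictScalars R := by
      apply Algebra.adjoin_le
      intro x hx
      simp only [Finset.coe_union, Finset.coe_image, Finset.coe_univ, Set.image_univ,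
        Set.mem_union, Set.mem_range, Set.mem_image, Finset.mem_coe] at hx
      rcases hx with ⟨i, rfl⟩ | ⟨s, hs, rfl⟩
      · exact isIntegral_algebraMap
          (x := (⟨y i, Algebra.subset_adjoin ⟨i, rfl⟩⟩ : Algebra.adjoin R (Set.range y)))
      · exact hfint s hs
    exact hle hs
  · intro s
    have hs : s ∈ Algebra.adjoin R (G : Set S) := by rw [hG]; trivial
    induction hs using Algebra.adjoin_induction with
    | mem x hx =>
      refine ⟨1, ?_⟩
      rw [pow_one]
      apply Algebra.subset_adjoin
      simp only [Finset.coe_union, Finset.coe_image, Set.mem_union, Set.mem_image, Finset.mem_coe]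
      exact Or.inr ⟨x, hx, rfl⟩
    | algebraMap a =>
      refine ⟨0, ?_⟩
      rw [pow_zero, one_smul]
      exact S'.algebraMap_mem a
    | add x z _ _ hx hz =>
      obtain ⟨n, hn⟩ := hx
      obtain ⟨m, hm⟩ := hz
      refine ⟨n + m, ?_⟩
      rw [smul_add]
      apply S'.add_mem
      · rw [pow_add, mul_comm, mul_smul]
        exact S'.smul_mem hn _
      · rw [pow_add, mul_smul]
        exact S'.smul_mem hm _
    | mul x z _ _ hx hz =>
      obtain ⟨n, hn⟩ := hx
      obtain ⟨m, hm⟩ := hz
      refine ⟨n + m, ?_⟩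
      have : f ^ (n + m) • (x * z) = (f ^ n • x) * (f ^ m • z) := by
        rw [pow_add, smul_mul_smul_comm]
      rw [this]
      exact S'.mul_mem hn hm

end Groth.Agent.S2073

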