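import Groth.Statements.S2076
import Groth.Agent.Lib.Helper24.Lim8Closed
-- import your own Groth.Agent.* helpers here

set_option autoImplicit false
universe u
open CategoryTheory AlgebraicGeometry
open Lim

namespace Groth.Agent.S2076

/-- Let `X = lim X_i` be a cofiltered limit of quasi-compact schemes over `S` with affine transition
morphisms and `h : Y → X` a closed immersion with `Y → S` locally of finite type. Then `Y → X_i` is
a closed immersion for some `i`. -/
theorem result {I : Type u} [SmallCategory I] [IsCofiltered I] (S : Scheme.{u})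
    (D : I ⥤ Over S) (c : Limits.Cone D) (hc : Limits.IsLimit c)
    [∀ (i j : I) (f : i ⟶ j), IsAffineHom (D.map f).left] [∀ i, CompactSpace (D.obj i).left]
    {Y : Scheme.{u}} (h : Y ⟶ c.pt.left) [IsClosedImmersion h] [LocallyOfFiniteType (h ≫ c.pt.hom)] :
    ∃ i : I, IsClosedImmersion (h ≫ (c.π.app i).left) := by
  obtain ⟨i₀⟩ := IsCofiltered.nonempty (C := I)
  let D' : I ⥤ Scheme.{u} := D ⋙ Over.forget S
  let c' : Limits.Cone D' := (Over.forget S).mapCone c
  have hc' : Limits.IsLimit c' := Limits.isLimitOfPreserves (Over.forget S) hc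
  let t : D' ⟶ (Functor.const I).obj S :=
    { app i := (D.obj i).hom
      naturality i j f := by simp [D'] }
  have h1 : ∀ {i j : I} (f : i ⟶ j), IsAffineHom (D'.map f) := fun {i j} f ↦
    inferInstanceAs (IsAffineHom (D.map f).left)
  have h2 : CompactSpace (D'.obj i₀) := inferInstanceAs (CompactSpace (D.obj i₀).left)
  have h3 : LocallyOfFiniteType ((h : Y ⟶ c'.pt) ≫ c'.π.app i₀ ≫ t.app i₀) := by
    have e : ((h : Y ⟶ c'.pt) ≫ c'.π.app i₀ ≫ t.app i₀) = h ≫ c.pt.hom := by
      simp only [c', t, Functor.mapCone_π_app, Over.forget_map]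
      congr 1
      exact Over.w (c.π.app i₀)
    rw [e]; infer_instance
  obtain ⟨i, -, hi⟩ := @Groth.Agent.Lib.Helper24.Lim8.exists_isClosedImmersion_comp_π _ _ D' c' hc'
    _ h1 S t Y h ‹IsClosedImmersion h› i₀ h2 h3
  exact ⟨i, hi⟩

end Groth.Agent.S2076
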