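import Groth.Statements.S2083
import Groth.Agent.Lib.Helper29.CM
-- import your own Groth.Agent.* helpers here

set_option autoImplicit false
universe u
open CAlg

namespace Groth.Agent.S2083

/-- Let `R` be a Noetherian local ring, `M` a finite Cohen–Macaulay `R`-module and `g` a member of the
maximal ideal for which the support of `M/gM` has dimension exactly one less than that of `M`. Then
`g` is a nonzerodivisor on `M`, and the quotient `M/gM` is again Cohen–Macaulay, with depth one
smaller than that of `M`. -/
theorem result {R M : Type u} [CommRing R] [IsLocalRing R] [IsNoetherianRing R]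
    [AddCommGroup M] [Module R M] [Module.Finite R M] (hM : LocCoh.IsCohenMacaulayModule R M) (g : R)
    (hg : g ∈ IsLocalRing.maximalIdeal R)
    (hdim : Module.supportDim R (M ⧸ Ideal.span {g} • (⊤ : Submodule R M)) + 1 = Module.supportDim R M) :
    IsSMulRegular M g ∧ LocCoh.IsCohenMacaulayModule R (M ⧸ Ideal.span {g} • (⊤ : Submodule R M)) ∧
      LocCoh.depth R (M ⧸ Ideal.span {g} • (⊤ : Submodule R M)) + 1 = LocCoh.depth R M := by
  let e : (M ⧸ Ideal.span {g} • (⊤ : Submodule R M)) ≃ₗ[R] QuotSMulTop g M :=
    Submodule.quotEquivOfEq _ _ (Submodule.ideal_span_singleton_smul g ⊤)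
  have hdim' : Module.supportDim R (QuotSMulTop g M) + 1 = Module.supportDim R M := by
    rw [← Module.supportDim_eq_of_equiv e]; exact hdim
  have hreg := Groth.Agent.Lib.Helper29.CMLib.isSMulRegular_of_isCM_of_supportDim R M hM hg hdim'
  have hnt := Groth.Agent.Lib.Helper29.CMLib.nontrivial_of_isCM R M hM
  refine ⟨hreg, (Groth.Agent.Lib.Helper29.CMLib.isCohenMacaulayModule_congr e).2
    (Groth.Agent.Lib.Helper29.CMLib.isCM_quotSMulTop R M hM hg hreg), ?_⟩
  rw [Groth.Agent.Lib.Helper29.CMLib.depth_congr e]
  exact Groth.Agent.Lib.Helper29.DepthLib.depth_quotSMulTop_add_one R M hg hreg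

end Groth.Agent.S2083
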