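import Groth.Statements.S2084
import Groth.Agent.Lib.Helper29.CM
import Groth.Agent.Lib.Helper29.SuppLoc
import Groth.Agent.Lib.Helper29.DepthLoc

set_option autoImplicit false
universe u
open CAlg

namespace Groth.Agent.S2084

open Groth.Agent.Lib.Helper29 in
theorem supportDim_eq_of_support_univ {R M : Type u} [CommRing R] [AddCommGroup M] [Module R M]
    (hsupp : Module.support R M = Set.univ) : Module.supportDim R M = ringKrullDim R := by
  unfold Module.supportDim ringKrullDim
  rw [hsupp]
  exact Order.krullDim_eq_of_orderIso OrderIso.Set.univ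

theorem support_localized_univ {R M : Type u} [CommRing R] [AddCommGroup M] [Module R M]
    (hsupp : Module.support R M = Set.univ) (q : Ideal R) [q.IsPrime] :
    Module.support (Localization.AtPrime q) (LocalizedModule q.primeCompl M) = Set.univ := by
  ext Q
  simp only [Set.mem_univ, iff_true]
  rw [Groth.Agent.Lib.Helper29.SuppLoc.mem_support_iff_comap_mem_support q.primeCompl
    (LocalizedModule.mkLinearMap q.primeCompl M) Q, hsupp]
  exact Set.mem_univ _

/-- `dim R = dim R/p + ht p` when `R` has a CM module with full support. -/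
theorem dim_eq_add_height {R M : Type u} [CommRing R] [IsLocalRing R] [IsNoetherianRing R]
    [AddCommGroup M] [Module R M] [Module.Finite R M] (hM : LocCoh.IsCohenMacaulayModule R M)
    (hsupp : Module.support R M = Set.univ) (p : Ideal R) [hp : p.IsPrime] :
    ringKrullDim R = ringKrullDim (R ⧸ p) + (p.height : WithBot ℕ∞) := by
  have hmem : (⟨p, hp⟩ : PrimeSpectrum R) ∈ Module.support R M := by rw [hsupp]; exact Set.mem_univ _
  have h := (Groth.Agent.Lib.Helper29.CMLib.isCM_localizedModule_and_dim R M hM ⟨p, hp⟩ hmem).2
  rw [Groth.Agent.Lib.Helper29.CMLib.supportDim_quotient_smul_top_eq R M ⟨p, hp⟩ hmem,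
    supportDim_eq_of_support_univ hsupp,
    supportDim_eq_of_support_univ (support_localized_univ hsupp p),
    IsLocalization.AtPrime.ringKrullDim_eq_height p (Localization.AtPrime p)] at h
  exact h


/-- Height of `q/p` is one when `p ⋖ q` in the prime spectrum. -/
theorem height_map_mk_eq_one {R : Type u} [CommRing R] (p q : PrimeSpectrum R) (hcov : p ⋖ q) :
    (q.asIdeal.map (Ideal.Quotient.mk p.asIdeal)).height = 1 := by
  have hpq : p.asIdeal ≤ q.asIdeal := hcov.1.le
  have hprime : (q.asIdeal.map (Ideal.Quotient.mk p.asIdeal)).IsPrime :=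
    Ideal.map_isPrime_of_surjective Ideal.Quotient.mk_surjective (by rw [Ideal.mk_ker]; exact hpq)
  have hcomap : (q.asIdeal.map (Ideal.Quotient.mk p.asIdeal)).comap (Ideal.Quotient.mk p.asIdeal)
      = q.asIdeal := by
    rw [Ideal.comap_map_of_surjective _ Ideal.Quotient.mk_surjective, ← RingHom.ker_eq_comap_bot,
      Ideal.mk_ker]
    exact sup_eq_left.2 hpq
  apply le_antisymm
  · have : (q.asIdeal.map (Ideal.Quotient.mk p.asIdeal)).height ≤ ((1 : ℕ) : ℕ∞) := by
      rw [Ideal.height_le_iff]
      intro Q hQ hlt
      -- comap Q is a prime between p and q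
      let Q' : PrimeSpectrum R := ⟨Q.comap (Ideal.Quotient.mk p.asIdeal), inferInstance⟩
      have h1 : p ≤ Q' := by
        change p.asIdeal ≤ Q.comap (Ideal.Quotient.mk p.asIdeal)
        intro x hx
        rw [Ideal.mem_comap, Ideal.Quotient.eq_zero_iff_mem.2 hx]
        exact Q.zero_mem
      have h2 : Q' < q := by
        rw [← PrimeSpectrum.asIdeal_lt_asIdeal]
        change Q.comap (Ideal.Quotient.mk p.asIdeal) < q.asIdeal
        rw [← hcomap]
        refine lt_of_le_of_ne (Ideal.comap_mono hlt.le) ?_
        intro heq
        have := congrArg (Ideal.map (Ideal.Quotient.mk p.asIdeal)) heq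
        rw [Ideal.map_comap_of_surjective _ Ideal.Quotient.mk_surjective,
          Ideal.map_comap_of_surjective _ Ideal.Quotient.mk_surjective] at this
        exact hlt.ne this
      have h3 : Q' = p := by
        by_contra hne
        exact hcov.2 (lt_of_le_of_ne h1 (Ne.symm hne)) h2
      have hQ0 : Q = ⊥ := by
        have h4 : Q.comap (Ideal.Quotient.mk p.asIdeal) = p.asIdeal := congrArg (·.asIdeal) h3
        rw [← Ideal.map_comap_of_surjective _ Ideal.Quotient.mk_surjective Q, h4, Ideal.map_quotient_self]
      rw [hQ0, Ideal.height_bot]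
      exact zero_lt_one
    exact_mod_cast this
  · by_contra hlt
    have h0 : (q.asIdeal.map (Ideal.Quotient.mk p.asIdeal)).height = 0 := by
      exact Order.lt_one_iff.1 (not_le.1 hlt)
    rw [Ideal.height_eq_zero_iff_eq_bot] at h0
    have : q.asIdeal ≤ p.asIdeal := by
      rw [← hcomap, h0, ← RingHom.ker_eq_comap_bot, Ideal.mk_ker]
    exact hcov.1.not_ge this


/-- `ht q = ht p + 1` for `p ⋖ q` when `R` has a CM module with full support. -/
theorem height_succ_of_covBy {R M : Type u} [CommRing R] [IsLocalRing R] [IsNoetherianRing R]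
    [AddCommGroup M] [Module R M] [Module.Finite R M] (hM : LocCoh.IsCohenMacaulayModule R M)
    (hsupp : Module.support R M = Set.univ) (p q : PrimeSpectrum R) (hcov : p ⋖ q) :
    q.asIdeal.height = p.asIdeal.height + 1 := by
  have hpq : p.asIdeal ≤ q.asIdeal := hcov.1.le
  have hmem : q ∈ Module.support R M := by rw [hsupp]; exact Set.mem_univ _
  have hMq := (Groth.Agent.Lib.Helper29.CMLib.isCM_localizedModule_and_dim R M hM q hmem).1
  have hdisj : Disjoint (q.asIdeal.primeCompl : Set R) (p.asIdeal : Set R) := by
    rw [Set.disjoint_left]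
    intro x hx hxp
    exact hx (hpq hxp)
  have hP : (p.asIdeal.map (algebraMap R (Localization.AtPrime q.asIdeal))).IsPrime :=
    IsLocalization.isPrime_of_isPrime_disjoint q.asIdeal.primeCompl _ p.asIdeal inferInstance hdisj
  have h := dim_eq_add_height hMq (support_localized_univ hsupp q.asIdeal)
    (p.asIdeal.map (algebraMap R (Localization.AtPrime q.asIdeal)))
  rw [IsLocalization.AtPrime.ringKrullDim_eq_height q.asIdeal (Localization.AtPrime q.asIdeal),
    Groth.Agent.Lib.Helper29.DepthLoc.ringKrullDim_localization_quotient_eq_height R p.asIdeal q.asIdeal hpq,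
    IsLocalization.height_map_of_disjoint q.asIdeal.primeCompl p.asIdeal hdisj,
    height_map_mk_eq_one p q hcov] at h
  have h' : (q.asIdeal.height : WithBot ℕ∞) = ((p.asIdeal.height + 1 : ℕ∞) : WithBot ℕ∞) := by
    rw [h, add_comm]
    rfl
  exact_mod_cast h'

/-- Let `R` be a Noetherian local ring admitting a finite Cohen–Macaulay module whose support is all of
`Spec R`. Then every maximal chain of prime ideals (starting at a minimal prime, ending at the
maximal ideal, with no prime strictly between consecutive members) has length equal to the dimension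
of `R`. -/
theorem result {R M : Type u} [CommRing R] [IsLocalRing R] [IsNoetherianRing R]
    [AddCommGroup M] [Module R M] [Module.Finite R M] (hM : LocCoh.IsCohenMacaulayModule R M)
    (hsupp : Module.support R M = Set.univ) (s : LTSeries (PrimeSpectrum R))
    (hhead : s.head.asIdeal ∈ minimalPrimes R) (hlast : s.last.asIdeal = IsLocalRing.maximalIdeal R)
    (hsat : ∀ i : Fin s.length, s (Fin.castSucc i) ⋖ s (Fin.succ i)) :
    (s.length : WithBot ℕ∞) = ringKrullDim R := by
  have key : ∀ i : Fin (s.length + 1), (s i).asIdeal.height = ((i : ℕ) : ℕ∞) := by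
    intro i
    induction i using Fin.induction with
    | zero =>
      have : (s 0).asIdeal.height = 0 := Ideal.height_eq_zero_iff.2 hhead
      rw [this]
      simp
    | succ i ih =>
      rw [height_succ_of_covBy hM hsupp _ _ (hsat i), ih]
      simp
  have hlast' : (s (Fin.last s.length)).asIdeal.height = ((s.length : ℕ) : ℕ∞) := by
    rw [key]
    simp
  have h2 : (s (Fin.last s.length)).asIdeal = IsLocalRing.maximalIdeal R := hlast
  rw [h2] at hlast'
  rw [← IsLocalRing.maximalIdeal_height_eq_ringKrullDim, hlast']
  rfl

end Groth.Agent.S2084
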