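import Groth.Statements.S2088
import Groth.Agent.Lib.Helper65.Gonf5

set_option autoImplicit false
universe u

namespace Groth.Agent.S2088

open Groth.Agent.Lib.Helper65.Gonf IsLocalRing

theorem result {R K : Type u} [CommRing R] [IsLocalRing R] [Field K]
    [Algebra (IsLocalRing.ResidueField R) K] :
    ∃ (R' : Type u) (_ : CommRing R') (_ : IsLocalRing R') (_ : Algebra R R') (_ : IsLocalHom (algebraMap R R')),
      Module.Flat R R' ∧ (IsLocalRing.maximalIdeal R).map (algebraMap R R') = IsLocalRing.maximalIdeal R' ∧
      Nonempty (IsLocalRing.ResidueField R' ≃ₐ[IsLocalRing.ResidueField R] K) := by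
  obtain ⟨s, hs⟩ := exists_surjective_stage R K
  letI := s.isLocalRing
  have hloc : IsLocalHom (algebraMap R s.B) := by
    constructor
    intro r hr
    by_contra hu
    have h1 : residue R r = 0 := (residue_eq_zero_iff r).mpr ((mem_maximalIdeal r).mpr hu)
    have h2 : s.res (algebraMap R s.B r) = 0 := by rw [s.res_algebraMap, h1, map_zero]
    exact (s.res_eq_zero_iff _).mp h2 hr
  refine ⟨s.B, inferInstance, s.isLocalRing, inferInstance, hloc, s.flat, s.maximalIdeal_eq.symm, ?_⟩
  haveI : IsLocalHom s.res := by
    constructor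
    intro b hb
    exact s.isUnit_of_res_ne_zero b hb.ne_zero
  let e : ResidueField s.B ≃+* K := RingEquiv.ofBijective (ResidueField.lift s.res)
    ⟨(ResidueField.lift s.res).injective, by
      intro a
      obtain ⟨b, rfl⟩ := hs a
      exact ⟨residue s.B b, ResidueField.lift_residue_apply s.res b⟩⟩
  refine ⟨AlgEquiv.ofRingEquiv (f := e) ?_⟩
  intro y
  obtain ⟨r, rfl⟩ := residue_surjective y
  show ResidueField.lift s.res (algebraMap (ResidueField R) (ResidueField s.B) (residue R r)) = _
  have : algebraMap (ResidueField R) (ResidueField s.B) (residue R r) =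
      residue s.B (algebraMap R s.B r) := rfl
  rw [this, ResidueField.lift_residue_apply, s.res_algebraMap]

end Groth.Agent.S2088
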