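import Groth.Statements.S2090
import Groth.Agent.Lib.Helper29.Acyclic
import Groth.Agent.Lib.Helper29.ReesGor
import Groth.Agent.Lib.Helper49.Serre
import Groth.Agent.Lib.Helper29.Spread

set_option autoImplicit false
universe u
open CAlg

namespace Groth.Agent.S2090

/-- Let `R` be Noetherian and `φ : M → N` a map of `R`-modules with `M` finite. Suppose that for every
prime `𝔭` either `φ_𝔭` is bijective, or `M_𝔭` has depth at least two and `𝔭` is not an associated
prime of `N`. Then `φ` is bijective. -/
theorem result {R M N : Type u} [CommRing R] [IsNoetherianRing R] [AddCommGroup M]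
    [Module R M] [Module.Finite R M] [AddCommGroup N] [Module R N] (φ : M →ₗ[R] N)
    (h : ∀ (p : Ideal R) [p.IsPrime],
      Function.Bijective (LocalizedModule.map p.primeCompl φ) ∨
        (2 ≤ LocCoh.depth (Localization.AtPrime p) (LocalizedModule p.primeCompl M) ∧
          p ∉ associatedPrimes R N)) :
    Function.Bijective φ := by
  classical
  -- injectivity
  have hinj : Function.Injective φ := by
    rw [← LinearMap.ker_eq_bot]
    by_contra hK
    have hnt : Nontrivial (LinearMap.ker φ) := Submodule.nontrivial_iff_ne_bot.2 hK
    obtain ⟨p, hp⟩ := associatedPrimes.nonempty R (LinearMap.ker φ)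
    have hpM : p ∈ associatedPrimes R M :=
      associatedPrimes.subset_of_injective (LinearMap.ker φ).subtype_injective hp
    obtain ⟨hpp, k, hk⟩ := isAssociatedPrime_iff.1 hp
    rcases h p with hb | ⟨hd, -⟩
    · -- `k/1` is killed by `φ_p`
      have h0 : LocalizedModule.map p.primeCompl φ (LocalizedModule.mk (k : M) 1) = 0 := by
        rw [LocalizedModule.map_mk]
        have : φ (k : M) = 0 := k.2
        rw [this, LocalizedModule.zero_mk]
      have h1 : LocalizedModule.mk (k : M) (1 : p.primeCompl) = 0 :=
        hb.1 (by rw [h0, map_zero])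
      rw [Groth.Agent.Lib.Helper29.Spread.mk_eq_zero_iff' M] at h1
      obtain ⟨s, hs⟩ := h1
      have hsp : (s : R) ∈ p := by
        have h2 : (s : R) ∈ (⊥ : Submodule R (LinearMap.ker φ)).colon {k} := by
          rw [Submodule.mem_colon_singleton, Submodule.mem_bot]
          exact Subtype.ext hs
        exact hk ▸ h2
      exact s.2 hsp
    · have h0 := (Groth.Agent.Lib.Helper49.Serre.depth_localizedModule_eq_zero_iff M p).2 hpM
      rw [h0] at hd
      simp at hd
  refine ⟨hinj, ?_⟩
  -- surjectivity
  rw [← LinearMap.range_eq_top]
  by_contra hQ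
  have hnt : Nontrivial (N ⧸ LinearMap.range φ) := Submodule.Quotient.nontrivial_iff.2 hQ
  obtain ⟨p, hp⟩ := associatedPrimes.nonempty R (N ⧸ LinearMap.range φ)
  obtain ⟨hpp, q, hq⟩ := isAssociatedPrime_iff.1 hp
  obtain ⟨n, rfl⟩ := Submodule.Quotient.mk_surjective _ q
  have hmemp : ∀ a : R, a ∈ p ↔ a • n ∈ LinearMap.range φ := by
    intro a
    rw [hq, Submodule.mem_colon_singleton, Submodule.mem_bot, ← Submodule.Quotient.mk_smul,
      Submodule.Quotient.mk_eq_zero]
  -- it suffices to show that `n/1` is in the range of `φ_p`
  have hkey : LocalizedModule.mk n (1 : p.primeCompl) ∈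
      LinearMap.range (LocalizedModule.map p.primeCompl φ) → False := by
    rintro ⟨x, hx⟩
    induction x using LocalizedModule.induction_on with
    | h m s =>
      rw [LocalizedModule.map_mk, LocalizedModule.mk_eq] at hx
      obtain ⟨u, hu⟩ := hx
      have : ((u * s : p.primeCompl) : R) ∈ p := by
        rw [hmemp]
        refine ⟨(u : R) • m, ?_⟩
        rw [map_smul]
        have hu' : (u : R) • φ m = (u : R) • ((s : R) • n) := by
          simpa [Submonoid.smul_def] using hu
        rw [hu', Submonoid.coe_mul, mul_smul]
      exact (u * s).2 this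
  apply hkey
  rcases h p with hb | ⟨hd, hpN⟩
  · exact LinearMap.range_eq_top.2 hb.2 ▸ Submodule.mem_top
  · -- the acyclicity-type argument over `A = R_p`
    have hinjp : Function.Injective (LocalizedModule.map p.primeCompl φ) :=
      LocalizedModule.map_injective p.primeCompl φ hinj
    set φp := LocalizedModule.map p.primeCompl φ with hφp
    let C := LinearMap.range φp
    let Z := C ⊔ Submodule.span (Localization.AtPrime p) {LocalizedModule.mk n (1 : p.primeCompl)}
    have hCZ : C ≤ Z := le_sup_left
    have hF0 : Subsingleton (CategoryTheory.Abelian.Ext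
        (ModuleCat.of (Localization.AtPrime p)
          (Localization.AtPrime p ⧸ IsLocalRing.maximalIdeal (Localization.AtPrime p)))
        (ModuleCat.of (Localization.AtPrime p) (LocalizedModule p.primeCompl N)) 0) := by
      apply Groth.Agent.Lib.Helper29.MatFac.subsingleton_ext_zero_of_forall
      intro g
      by_contra hg
      have hx : g (Submodule.Quotient.mk 1) ≠ 0 := by
        intro h0
        apply hg
        refine LinearMap.ext fun a => ?_
        obtain ⟨a, rfl⟩ := Submodule.Quotient.mk_surjective _ a
        have : (Submodule.Quotient.mk a :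
            Localization.AtPrime p ⧸ IsLocalRing.maximalIdeal (Localization.AtPrime p)) =
            a • Submodule.Quotient.mk 1 := by
          rw [← Submodule.Quotient.mk_smul, smul_eq_mul, mul_one]
        rw [this, map_smul, h0, smul_zero]
        rfl
      have hass : IsLocalRing.maximalIdeal (Localization.AtPrime p) ∈
          associatedPrimes (Localization.AtPrime p) (LocalizedModule p.primeCompl N) := by
        refine isAssociatedPrime_iff.2 ⟨inferInstance, g (Submodule.Quotient.mk 1), ?_⟩
        apply le_antisymm
        · intro a ha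
          rw [Submodule.mem_colon_singleton, Submodule.mem_bot, ← map_smul,
            ← Submodule.Quotient.mk_smul, smul_eq_mul, mul_one,
            (Submodule.Quotient.mk_eq_zero _).2 ha, map_zero]
        · apply IsLocalRing.le_maximalIdeal
          rw [Ne, Ideal.eq_top_iff_one, Submodule.mem_colon_singleton, Submodule.mem_bot, one_smul]
          exact hx
      rw [← Module.associatedPrimes.preimage_comap_associatedPrimes_eq_associatedPrimes_of_isLocalizedModule
        p.primeCompl (Localization.AtPrime p) (LocalizedModule.mkLinearMap p.primeCompl N),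
        Set.mem_preimage] at hass
      have hcm : (IsLocalRing.maximalIdeal (Localization.AtPrime p)).comap
          (algebraMap R (Localization.AtPrime p)) = p :=
        IsLocalization.AtPrime.under_maximalIdeal (Localization.AtPrime p) p
      rw [hcm] at hass
      exact hpN hass
    have hC1 : Subsingleton (CategoryTheory.Abelian.Ext
        (ModuleCat.of (Localization.AtPrime p)
          (Localization.AtPrime p ⧸ IsLocalRing.maximalIdeal (Localization.AtPrime p)))
        (ModuleCat.of (Localization.AtPrime p) C) 1) := by
      have h1 := (Groth.Agent.Lib.Helper29.DepthSES.natCast_le_idealDepth_iff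
        (IsLocalRing.maximalIdeal (Localization.AtPrime p)) (LocalizedModule p.primeCompl M) 2).1
        (by exact_mod_cast hd) 1 (by norm_num)
      let e : LocalizedModule p.primeCompl M ≃ₗ[Localization.AtPrime p] C :=
        LinearEquiv.ofInjective φp hinjp
      exact Groth.Agent.Lib.Helper29.ReesGor.subsingleton_ext_of_iso_right e.symm.toModuleIso 1 h1
    have h3 : ∀ (P : Ideal (Localization.AtPrime p)), P.IsPrime →
        P ≠ IsLocalRing.maximalIdeal (Localization.AtPrime p) → ∀ z ∈ Z, ∃ s ∉ P, s • z ∈ C := by
      intro P hP hPne z hz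
      have hlt : P < IsLocalRing.maximalIdeal (Localization.AtPrime p) :=
        lt_of_le_of_ne (IsLocalRing.le_maximalIdeal hP.ne_top) hPne
      obtain ⟨s, hsm, hsP⟩ := Set.exists_of_ssubset hlt
      refine ⟨s, hsP, ?_⟩
      obtain ⟨c, hc, y, hy, rfl⟩ := Submodule.mem_sup.1 hz
      obtain ⟨r, rfl⟩ := Submodule.mem_span_singleton.1 hy
      rw [smul_add]
      refine C.add_mem (C.smul_mem s hc) ?_
      rw [smul_comm]
      refine C.smul_mem r ?_
      -- `s • (n/1) ∈ C` for `s` in the maximal ideal
      obtain ⟨a, t, rfl⟩ := IsLocalization.exists_mk'_eq p.primeCompl s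
      have hap : a ∈ p := by
        have hsm' : IsLocalization.mk' (Localization.AtPrime p) a t ∈
            IsLocalRing.maximalIdeal (Localization.AtPrime p) := hsm
        rwa [IsLocalization.AtPrime.mk'_mem_maximal_iff (Localization.AtPrime p) p] at hsm'
      obtain ⟨m, hm⟩ := (hmemp a).1 hap
      refine ⟨LocalizedModule.mk m t, ?_⟩
      rw [hφp, LocalizedModule.map_mk, hm, ← Localization.mk_eq_mk', LocalizedModule.mk_smul_mk,
        mul_one]
    have := Groth.Agent.Lib.Helper29.Acyclic.le_of_ext' (LocalizedModule p.primeCompl N) C Z hCZ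
      hF0 hC1 h3
    exact this (Submodule.mem_sup_right (Submodule.mem_span_singleton_self _))

end Groth.Agent.S2090
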