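import Groth.Statements.S2093
-- import your own Groth.Agent.* helpers here
import Groth.Agent.Lib.Helper15.ZariskiCpl

set_option autoImplicit false
universe u
open CAlg

namespace Groth.Agent.S2093


theorem isDiscreteValuationRing_of_regular {R : Type u} [CommRing R] [IsDomain R]
    [IsNoetherianRing R] {x : R} (hx : x ≠ 0) (p : Ideal R) [hp : p.IsPrime]
    (hpx : p ∈ (Ideal.span {x}).minimalPrimes)
    [IsRegularLocalRing (Localization.AtPrime p)] :
    IsDiscreteValuationRing (Localization.AtPrime p) := by
  have hxp : x ∈ p := hpx.1.2 (Ideal.mem_span_singleton_self x)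
  have hle : p.height ≤ 1 := Ideal.height_le_one_of_isPrincipal_of_mem_minimalPrimes _ p hpx
  have hne : p.height ≠ 0 := by
    intro h0
    rw [Ideal.height_eq_zero_iff, IsDomain.minimalPrimes_eq_singleton_bot,
      Set.mem_singleton_iff] at h0
    rw [h0, Ideal.mem_bot] at hxp
    exact hx hxp
  have hht : p.height = 1 := le_antisymm hle (Order.one_le_iff_ne_zero.mpr hne)
  have hdim : ringKrullDim (Localization.AtPrime p) = 1 := by
    rw [IsLocalization.AtPrime.ringKrullDim_eq_height p, hht]; rfl
  have hreg := (IsRegularLocalRing.iff_finrank_cotangentSpace (Localization.AtPrime p)).mp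
    inferInstance
  rw [hdim] at hreg
  rw [← IsLocalRing.finrank_CotangentSpace_eq_one_iff]
  exact_mod_cast hreg

/-- Let `(R, 𝔪)` be a Noetherian local domain and `x ∈ 𝔪` nonzero such that `R/xR` has no embedded
associated primes, and for every associated prime `𝔭` of `R/xR` the local ring `R_𝔭` is regular and
the completion of `R/𝔭` is reduced. Then the completion of `R` is reduced. -/
theorem result {R : Type u} [CommRing R] [IsDomain R] [IsLocalRing R]
    [IsNoetherianRing R] (x : R) (hx : x ≠ 0) (hxm : x ∈ IsLocalRing.maximalIdeal R)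
    (hemb : ∀ p ∈ associatedPrimes R (R ⧸ Ideal.span {x}), p ∈ (Ideal.span {x}).minimalPrimes)
    (hreg : ∀ p ∈ associatedPrimes R (R ⧸ Ideal.span {x}), ∀ (_ : p.IsPrime),
      IsRegularLocalRing (Localization.AtPrime p) ∧
        IsReduced (AdicCompletion ((IsLocalRing.maximalIdeal R).map (Ideal.Quotient.mk p)) (R ⧸ p))) :
    IsReduced (AdicCompletion (IsLocalRing.maximalIdeal R) R) := by
  have hregx : IsSMulRegular R x := (IsRegular.of_ne_zero hx).left.isSMulRegular
  apply Groth.Agent.Lib.Helper15.ZariskiCpl.isReduced_adicCompletion_of_zariski R x hxm hregx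
  · intro p hp
    have hprime : p.IsPrime := hp.isPrime
    obtain ⟨h1, -⟩ := hreg p hp hprime
    have := isDiscreteValuationRing_of_regular hx p (hemb p hp)
    exact Groth.Agent.Lib.Helper15.Zariski.locData_of_isDiscreteValuationRing hregx p
  · intro p hp
    have hprime : p.IsPrime := hp.isPrime
    exact ⟨_, rfl, (hreg p hp hprime).2⟩

end Groth.Agent.S2093
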