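import Groth.Statements.S2094
import Mathlib

set_option autoImplicit false
universe u
open CAlg


namespace Groth.Agent.S2094

section
variable {A M : Type u} [CommRing A] [AddCommGroup M] [Module A M]

/-- the algebra map `Sym M → A ⊕ Q` attached to a linear map `M → Q`. -/
noncomputable def toTSZ {Q : Type u} [AddCommGroup Q] [Module A Q] [Module Aᵐᵒᵖ Q]
    [IsCentralScalar A Q] (φ : M →ₗ[A] Q) : SymmetricAlgebra A M →ₐ[A] TrivSqZeroExt A Q :=
  SymmetricAlgebra.lift (TrivSqZeroExt.inrHom A Q ∘ₗ φ)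

theorem toTSZ_ι {Q : Type u} [AddCommGroup Q] [Module A Q] [Module Aᵐᵒᵖ Q]
    [IsCentralScalar A Q] (φ : M →ₗ[A] Q) (m : M) :
    toTSZ φ (SymmetricAlgebra.ι A M m) = TrivSqZeroExt.inr (φ m) := by
  simp [toTSZ, SymmetricAlgebra.lift_ι_apply]

theorem projective_of_formallySmooth [Module Aᵐᵒᵖ M] [IsCentralScalar A M]
    [Algebra.FormallySmooth A (SymmetricAlgebra A M)] : Module.Projective A M := by
  let π : (M →₀ A) →ₗ[A] M := Finsupp.linearCombination A id
  have hπ : Function.Surjective π := Finsupp.linearCombination_id_surjective A M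
  let g : TrivSqZeroExt A (M →₀ A) →ₐ[A] TrivSqZeroExt A M := TrivSqZeroExt.map π
  have hg : Function.Surjective g := by
    intro x
    obtain ⟨y, hy⟩ := hπ x.snd
    refine ⟨TrivSqZeroExt.inl x.fst + TrivSqZeroExt.inr y, ?_⟩
    simp [g, hy, TrivSqZeroExt.inl_fst_add_inr_snd_eq]
  have hker : IsNilpotent (RingHom.ker (g : TrivSqZeroExt A (M →₀ A) →+* TrivSqZeroExt A M)) := by
    refine ⟨2, ?_⟩
    change RingHom.ker (g : TrivSqZeroExt A (M →₀ A) →+* TrivSqZeroExt A M) ^ 2 = ⊥
    rw [eq_bot_iff]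
    refine (le_of_eq (pow_two (RingHom.ker
      (g : TrivSqZeroExt A (M →₀ A) →+* TrivSqZeroExt A M)))).trans ?_
    rw [Ideal.mul_le]
    intro x hx y hy
    have hx0 : x.fst = 0 := by
      have := congrArg TrivSqZeroExt.fst (RingHom.mem_ker.mp hx)
      simpa [g] using this
    have hy0 : y.fst = 0 := by
      have := congrArg TrivSqZeroExt.fst (RingHom.mem_ker.mp hy)
      simpa [g] using this
    rw [Ideal.mem_bot]
    ext <;> simp [hx0, hy0]
  let f : SymmetricAlgebra A M →ₐ[A] TrivSqZeroExt A M := toTSZ LinearMap.id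
  let l := Algebra.FormallySmooth.liftOfSurjective f g hg hker
  let s : M →ₗ[A] (M →₀ A) :=
    TrivSqZeroExt.sndHom A (M →₀ A) ∘ₗ l.toLinearMap ∘ₗ SymmetricAlgebra.ι A M
  refine Module.Projective.of_split s π ?_
  ext m
  have h1 : g (l (SymmetricAlgebra.ι A M m)) = f (SymmetricAlgebra.ι A M m) :=
    Algebra.FormallySmooth.liftOfSurjective_apply f g hg hker _
  have h2 := congrArg TrivSqZeroExt.snd h1
  simpa [g, f, s, toTSZ_ι] using h2

theorem eq_top_of_adjoin_eq_top (N : Submodule A M)
    (h : Algebra.adjoin A (SymmetricAlgebra.ι A M '' (N : Set M)) = ⊤) : N = ⊤ := by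
  letI : Module Aᵐᵒᵖ (M ⧸ N) :=
    Module.compHom _ ((RingHom.id A).fromOpposite fun _ _ => mul_comm _ _)
  haveI : IsCentralScalar A (M ⧸ N) := ⟨fun _ _ => rfl⟩
  let h1 : SymmetricAlgebra A M →ₐ[A] TrivSqZeroExt A (M ⧸ N) := toTSZ N.mkQ
  let h2 : SymmetricAlgebra A M →ₐ[A] TrivSqZeroExt A (M ⧸ N) := toTSZ 0
  have h12 : h1 = h2 := by
    apply AlgHom.ext_of_adjoin_eq_top h
    rintro _ ⟨n, hn, rfl⟩
    simp [h1, h2, toTSZ_ι, (Submodule.Quotient.mk_eq_zero N).mpr hn]
  rw [eq_top_iff]
  intro m _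
  have h3 : (h1 (SymmetricAlgebra.ι A M m)).snd = (h2 (SymmetricAlgebra.ι A M m)).snd := by
    rw [h12]
  simp only [h1, h2, toTSZ_ι, TrivSqZeroExt.snd_inr, LinearMap.zero_apply,
    Submodule.mkQ_apply] at h3
  exact (Submodule.Quotient.mk_eq_zero N).mp h3

theorem exists_fg_adjoin (x : SymmetricAlgebra A M) :
    ∃ N : Submodule A M, N.FG ∧ x ∈ Algebra.adjoin A (SymmetricAlgebra.ι A M '' (N : Set M)) := by
  induction x using SymmetricAlgebra.induction with
  | algebraMap r => exact ⟨⊥, Submodule.fg_bot, Subalgebra.algebraMap_mem _ r⟩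
  | ι m =>
    exact ⟨Submodule.span A {m}, Submodule.fg_span_singleton m,
      Algebra.subset_adjoin ⟨m, Submodule.mem_span_singleton_self m, rfl⟩⟩
  | mul a b ha hb =>
    obtain ⟨N1, h1, ha⟩ := ha
    obtain ⟨N2, h2, hb⟩ := hb
    refine ⟨N1 ⊔ N2, h1.sup h2, Subalgebra.mul_mem _ ?_ ?_⟩
    · exact Algebra.adjoin_mono (Set.image_mono (SetLike.coe_subset_coe.mpr le_sup_left)) ha
    · exact Algebra.adjoin_mono (Set.image_mono (SetLike.coe_subset_coe.mpr le_sup_right)) hb
  | add a b ha hb =>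
    obtain ⟨N1, h1, ha⟩ := ha
    obtain ⟨N2, h2, hb⟩ := hb
    refine ⟨N1 ⊔ N2, h1.sup h2, Subalgebra.add_mem _ ?_ ?_⟩
    · exact Algebra.adjoin_mono (Set.image_mono (SetLike.coe_subset_coe.mpr le_sup_left)) ha
    · exact Algebra.adjoin_mono (Set.image_mono (SetLike.coe_subset_coe.mpr le_sup_right)) hb

theorem exists_fg_adjoin_finset (T : Finset (SymmetricAlgebra A M)) :
    ∃ N : Submodule A M, N.FG ∧
      (T : Set (SymmetricAlgebra A M)) ⊆ Algebra.adjoin A (SymmetricAlgebra.ι A M '' (N : Set M)) := by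
  classical
  induction T using Finset.induction_on with
  | empty => exact ⟨⊥, Submodule.fg_bot, by simp⟩
  | insert a T _ ih =>
    obtain ⟨N1, h1, hT⟩ := ih
    obtain ⟨N2, h2, ha⟩ := exists_fg_adjoin a
    refine ⟨N1 ⊔ N2, h1.sup h2, ?_⟩
    rw [Finset.coe_insert, Set.insert_subset_iff]
    refine ⟨?_, hT.trans ?_⟩
    · exact Algebra.adjoin_mono (Set.image_mono (SetLike.coe_subset_coe.mpr le_sup_right)) ha
    · exact Algebra.adjoin_mono (Set.image_mono (SetLike.coe_subset_coe.mpr le_sup_left))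

theorem finite_of_finiteType [Algebra.FiniteType A (SymmetricAlgebra A M)] : Module.Finite A M := by
  obtain ⟨T, hT⟩ := (Algebra.FiniteType.out : (⊤ : Subalgebra A (SymmetricAlgebra A M)).FG)
  obtain ⟨N, hN, hTN⟩ := exists_fg_adjoin_finset T
  have : Algebra.adjoin A (SymmetricAlgebra.ι A M '' (N : Set M)) = ⊤ := by
    rw [eq_top_iff, ← hT]
    exact Algebra.adjoin_le hTN
  have hN' := eq_top_of_adjoin_eq_top N this
  exact ⟨hN' ▸ hN⟩

theorem formallySmooth_of_projective [Module.Projective A M] :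
    Algebra.FormallySmooth A (SymmetricAlgebra A M) := by
  refine Algebra.FormallySmooth.of_comp_surjective fun B _ _ I hI f => ?_
  obtain ⟨h, hh⟩ := Module.projective_lifting_property (Ideal.Quotient.mkₐ A I).toLinearMap
    (f.toLinearMap ∘ₗ SymmetricAlgebra.ι A M) Ideal.Quotient.mk_surjective
  refine ⟨SymmetricAlgebra.lift h, ?_⟩
  apply SymmetricAlgebra.algHom_ext
  ext m
  simpa [SymmetricAlgebra.lift_ι_apply] using congr($hh m)

theorem finitePresentation_of_finite_projective [Module.Finite A M] [Module.Projective A M] :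
    Algebra.FinitePresentation A (SymmetricAlgebra A M) := by
  obtain ⟨n, p, i, hp, hi, hpi⟩ := Module.Finite.exists_comp_eq_id_of_projective A M
  haveI : Algebra.FinitePresentation A (SymmetricAlgebra A (Fin n → A)) :=
    Algebra.FinitePresentation.equiv
      (SymmetricAlgebra.equivMvPolynomial (Pi.basisFun A (Fin n))).symm
  let r : SymmetricAlgebra A (Fin n → A) →ₐ[A] SymmetricAlgebra A M :=
    SymmetricAlgebra.lift (SymmetricAlgebra.ι A M ∘ₗ p)
  let s : SymmetricAlgebra A M →ₐ[A] SymmetricAlgebra A (Fin n → A) :=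
    SymmetricAlgebra.lift (SymmetricAlgebra.ι A _ ∘ₗ i)
  have hrs : ∀ y, r (s y) = y := by
    have : r.comp s = AlgHom.id A _ := by
      apply SymmetricAlgebra.algHom_ext
      ext m
      simpa [r, s, SymmetricAlgebra.lift_ι_apply] using congrArg _ congr($hpi m)
    exact fun y => congr($this y)
  have hr : Function.Surjective r := fun y => ⟨s y, hrs y⟩
  refine Algebra.FinitePresentation.of_surjective hr ?_
  let x : Fin n → SymmetricAlgebra A (Fin n → A) := fun j => SymmetricAlgebra.ι A _ (Pi.single j 1)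
  let J : Ideal (SymmetricAlgebra A (Fin n → A)) :=
    Ideal.span (Set.range fun j => x j - s (r (x j)))
  have hJ : RingHom.ker r.toRingHom = J := by
    apply le_antisymm
    · intro g hg
      have key : (Ideal.Quotient.mkₐ A J).comp (s.comp r) = Ideal.Quotient.mkₐ A J := by
        apply SymmetricAlgebra.algHom_ext
        apply (Pi.basisFun A (Fin n)).ext
        intro j
        simp only [Pi.basisFun_apply, LinearMap.comp_apply, AlgHom.toLinearMap_apply,
          AlgHom.comp_apply, Ideal.Quotient.mkₐ_eq_mk]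
        refine (Ideal.Quotient.eq.mpr ?_).symm
        exact Ideal.subset_span ⟨j, rfl⟩
      have h1 := congr($key g)
      have hg0 : r g = 0 := hg
      simp only [AlgHom.comp_apply, hg0, map_zero, Ideal.Quotient.mkₐ_eq_mk] at h1
      exact Ideal.Quotient.eq_zero_iff_mem.mp h1.symm
    · refine Ideal.span_le.mpr ?_
      rintro _ ⟨j, rfl⟩
      change r (x j - s (r (x j))) = 0
      rw [map_sub, hrs, sub_self]
  rw [hJ]
  exact Submodule.fg_span (Set.finite_range _)

end

end Groth.Agent.S2094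

namespace Groth.Agent.S2094

/-- The symmetric algebra of an `A`-module is a smooth `A`-algebra exactly when the module is finite
projective. -/
theorem result {A M : Type u} [CommRing A] [AddCommGroup M] [Module A M] :
    Algebra.Smooth A (SymmetricAlgebra A M) ↔ Module.Finite A M ∧ Module.Projective A M := by
  constructor
  · intro h
    letI : Module Aᵐᵒᵖ M :=
      Module.compHom M ((RingHom.id A).fromOpposite fun _ _ => mul_comm _ _)
    haveI : IsCentralScalar A M := ⟨fun _ _ => rfl⟩
    exact ⟨finite_of_finiteType, projective_of_formallySmooth⟩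
  · rintro ⟨h1, h2⟩
    exact ⟨formallySmooth_of_projective, finitePresentation_of_finite_projective⟩

end Groth.Agent.S2094
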