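import Groth.Statements.S2095
-- import your own Groth.Agent.* helpers here

set_option autoImplicit false
universe u
open CAlg

namespace Groth.Agent.S2095

open TensorProduct in
/-- Let `R → S` be a ring map, `𝔫 ⊆ S` an ideal and `R → R'` a ring map admitting an `R`-linear
retraction. If `R' → R' ⊗ S` is formally smooth for the adic topology of the extension of `𝔫`, then
`R → S` is formally smooth for the `𝔫`-adic topology. -/
theorem result {R S R' : Type u} [CommRing R] [CommRing S] [Algebra R S]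
    (𝔫 : Ideal S) [CommRing R'] [Algebra R R'] (ρ : R' →ₗ[R] R) (hρ : ∀ r : R, ρ (algebraMap R R' r) = r)
    (h : CAlgX.IsAdicFormallySmooth R' (R' ⊗[R] S)
      (𝔫.map (Algebra.TensorProduct.includeRight : S →ₐ[R] R' ⊗[R] S))) :
    CAlgX.IsAdicFormallySmooth R S 𝔫 := by
  intro C _ _ J hJ u hu
  obtain ⟨m, hm⟩ := hu
  have hJ2 : ∀ x ∈ J, ∀ y ∈ J, x * y = 0 := by
    intro x hx y hy
    have := Ideal.mul_mem_mul hx hy
    rw [← pow_two, hJ] at this
    exact (Submodule.mem_bot _).mp this
  let ι : C →ₐ[R] R' ⊗[R] C := Algebra.TensorProduct.includeRight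
  let J' : Ideal (R' ⊗[R] C) := J.map ι
  have hJ'bot : J' ^ 2 = ⊥ := by
    rw [pow_two, ← Ideal.map_mul, ← pow_two, hJ, Ideal.map_bot]
  have hJ'sq : ∀ x ∈ J', ∀ y ∈ J', x * y = 0 := by
    intro x hx y hy
    have := Ideal.mul_mem_mul hx hy
    rw [← pow_two, hJ'bot] at this
    exact (Submodule.mem_bot _).mp this
  have hJJ' : J ≤ J'.comap ι := Ideal.le_comap_map
  let u'' : S →ₐ[R] (R' ⊗[R] C) ⧸ J' := (Ideal.quotientMapₐ J' ι hJJ').comp u
  let u' : R' ⊗[R] S →ₐ[R'] (R' ⊗[R] C) ⧸ J' :=
    Algebra.TensorProduct.lift (Algebra.ofId R' _) u'' (fun _ _ => Commute.all _ _)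
  obtain ⟨v', hv'⟩ := h (R' ⊗[R] C) J' hJ'bot u' ⟨m, by
      have h1 : (𝔫.map (Algebra.TensorProduct.includeRight : S →ₐ[R] R' ⊗[R] S)) ^ m ≤
            RingHom.ker u'.toRingHom := by
        rw [← Ideal.map_pow, Ideal.map_le_iff_le_comap]
        intro b hb
        rw [Ideal.mem_comap, RingHom.mem_ker]
        change u' ((1 : R') ⊗ₜ[R] b) = 0
        rw [Algebra.TensorProduct.lift_tmul, map_one, one_mul]
        change (Ideal.quotientMapₐ J' ι hJJ') (u b) = 0
        rw [hm b hb, map_zero]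
      intro x hx
      exact h1 hx⟩
  let V : S →ₐ[R] R' ⊗[R] C := (v'.restrictScalars R).comp Algebra.TensorProduct.includeRight
  let Rr : R' ⊗[R] C →ₗ[R] C := (TensorProduct.lid R C).toLinearMap ∘ₗ (ρ.rTensor C)
  have hr1 : ρ 1 = 1 := by rw [← map_one (algebraMap R R'), hρ]
  have hR_tmul : ∀ a' c, Rr (a' ⊗ₜ c) = ρ a' • c := by
    intro a' c
    simp [Rr]
  have hRι : ∀ c, Rr (ι c) = c := by
    intro c
    change Rr ((1 : R') ⊗ₜ c) = c
    rw [hR_tmul, hr1, one_smul]
  have hR_lin : ∀ c x, Rr (ι c * x) = c * Rr x := by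
    intro c x
    induction x using TensorProduct.induction_on with
    | zero => simp
    | tmul a' c' =>
      change Rr ((1 : R') ⊗ₜ c * a' ⊗ₜ c') = _
      rw [Algebra.TensorProduct.tmul_mul_tmul, one_mul, hR_tmul, hR_tmul, mul_smul_comm]
    | add x y hx hy => rw [mul_add, map_add, hx, hy, map_add, mul_add]
  have hRJ : ∀ x ∈ J', Rr x ∈ J := by
    intro x hx
    have h1 : ∀ y, Rr (y * x) ∈ J := by
      change x ∈ Ideal.span (ι '' J) at hx
      induction hx using Submodule.span_induction with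
      | mem x hx =>
        obtain ⟨j, hj, rfl⟩ := hx
        intro y
        rw [mul_comm, hR_lin]
        exact J.mul_mem_right _ hj
      | zero => intro y; rw [mul_zero, map_zero]; exact J.zero_mem
      | add a b _ _ ha hb => intro y; rw [mul_add, map_add]; exact J.add_mem (ha y) (hb y)
      | smul a x _ hx =>
        intro y
        rw [smul_eq_mul, ← mul_assoc]
        exact hx (y * a)
    have := h1 1
    rwa [one_mul] at this
  have hc : ∀ b, ∃ c, Ideal.Quotient.mk J c = u b ∧ V b - ι c ∈ J' := by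
    intro b
    obtain ⟨c, hc⟩ := Ideal.Quotient.mk_surjective (u b)
    refine ⟨c, hc, ?_⟩
    rw [← Ideal.Quotient.eq]
    have h1 := congr($hv' ((1 : R') ⊗ₜ[R] b))
    change Ideal.Quotient.mk J' (V b) = u' ((1 : R') ⊗ₜ[R] b) at h1
    rw [h1, Algebra.TensorProduct.lift_tmul, map_one, one_mul]
    change (Ideal.quotientMapₐ J' ι hJJ') (u b) = _
    rw [← hc]
    rfl
  have key : ∀ x y c c', x - ι c ∈ J' → y - ι c' ∈ J' → Rr (x * y) = Rr x * Rr y := by
    intro x y c c' hx hy
    have hx' : x = ι c + (x - ι c) := by ring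
    have hy' : y = ι c' + (y - ι c') := by ring
    have e1 : x * y = ι c * ι c' + ι c * (y - ι c') + ι c' * (x - ι c) +
        (x - ι c) * (y - ι c') := by ring
    rw [e1, hJ'sq _ hx _ hy, add_zero, map_add, map_add, hR_lin, hR_lin, hR_lin, hRι]
    have e2 : Rr x = c + Rr (x - ι c) := by
      conv_lhs => rw [hx', map_add, hRι]
    have e3 : Rr y = c' + Rr (y - ι c') := by
      conv_lhs => rw [hy', map_add, hRι]
    rw [e2, e3, add_mul, mul_add, mul_add, hJ2 _ (hRJ _ hx) _ (hRJ _ hy)]
    ring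
  let v : S →ₐ[R] C :=
    { toFun := fun b => Rr (V b)
      map_one' := by
        rw [map_one]
        exact (hRι 1)
      map_mul' := by
        intro b b'
        obtain ⟨c, -, h1⟩ := hc b
        obtain ⟨c', -, h2⟩ := hc b'
        rw [map_mul]
        exact key _ _ c c' h1 h2
      map_zero' := by rw [map_zero, map_zero]
      map_add' := by intro b b'; rw [map_add, map_add]
      commutes' := by
        intro a
        rw [V.commutes, ← ι.commutes, hRι] }
  refine ⟨v, ?_⟩
  ext b
  obtain ⟨c, hcu, h1⟩ := hc b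
  change Ideal.Quotient.mk J (Rr (V b)) = u b
  have e2 : Rr (V b) = c + Rr (V b - ι c) := by
    conv_lhs => rw [show V b = ι c + (V b - ι c) by ring, map_add, hRι]
  rw [e2, map_add, Ideal.Quotient.eq_zero_iff_mem.mpr (hRJ _ h1), add_zero, hcu]

end Groth.Agent.S2095
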