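import Groth.Statements.S2097
import Mathlib.RingTheory.Noetherian.Nilpotent
-- import your own Groth.Agent.* helpers here

set_option autoImplicit false
universe u
open CAlg

namespace Groth.Agent.S2097

/-- Let `R → S` be smooth, `A` an `R`-algebra and `I ⊆ A` an ideal all of whose elements are nilpotent.
Every `R`-algebra map `S → A/I` lifts to an `R`-algebra map `S → A`. -/
theorem result {R S A : Type u} [CommRing R] [CommRing S] [Algebra R S] [Algebra.Smooth R S]
    [CommRing A] [Algebra R A] (I : Ideal A) (hI : ∀ x ∈ I, IsNilpotent x) (g : S →ₐ[R] A ⧸ I) :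
    ∃ f : S →ₐ[R] A, (Ideal.Quotient.mkₐ R I).comp f = g := by
  classical
  obtain ⟨n, π, hπ, hK⟩ := (inferInstance : Algebra.FinitePresentation R S).out
  obtain ⟨T, hT⟩ := hK
  -- lift the images of the variables
  have hch : ∀ i : Fin n, ∃ a : A, Ideal.Quotient.mk I a = g (π (MvPolynomial.X i)) :=
    fun i => Ideal.Quotient.mk_surjective _
  choose a ha using hch
  let ev : MvPolynomial (Fin n) R →ₐ[R] A := MvPolynomial.aeval a
  have hev : (Ideal.Quotient.mkₐ R I).comp ev = g.comp π := by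
    apply MvPolynomial.algHom_ext
    intro i
    simp [ev, ha]
  let I0 : Ideal A := Ideal.span (ev '' (T : Set (MvPolynomial (Fin n) R)))
  have hI0le : I0 ≤ I := by
    refine Ideal.span_le.mpr ?_
    rintro _ ⟨t, ht, rfl⟩
    have h1 : t ∈ RingHom.ker π.toRingHom := by
      rw [← hT]; exact Ideal.subset_span ht
    have h2 : (Ideal.Quotient.mkₐ R I) (ev t) = g (π t) := AlgHom.congr_fun hev t
    have h3 : π t = 0 := h1
    rw [h3, map_zero] at h2
    exact Ideal.Quotient.eq_zero_iff_mem.mp h2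
  have hI0fg : I0.FG := ⟨T.image ev, by simp [I0]⟩
  have hI0nil : IsNilpotent I0 := by
    rw [Ideal.FG.isNilpotent_iff_le_nilradical hI0fg]
    intro x hx
    exact hI x (hI0le hx)
  -- descend `ev` to `S → A ⧸ I0`
  have hker : RingHom.ker π.toRingHom ≤
      RingHom.ker ((Ideal.Quotient.mkₐ R I0).comp ev).toRingHom := by
    rw [← hT]
    refine Ideal.span_le.mpr ?_
    intro t ht
    change (Ideal.Quotient.mkₐ R I0) (ev t) = 0
    exact Ideal.Quotient.eq_zero_iff_mem.mpr (Ideal.subset_span ⟨t, ht, rfl⟩)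
  let g0 : S →ₐ[R] A ⧸ I0 := AlgHom.liftOfSurjective π hπ ((Ideal.Quotient.mkₐ R I0).comp ev) hker
  obtain ⟨f, hf⟩ := Algebra.FormallySmooth.exists_lift I0 hI0nil g0
  refine ⟨f, ?_⟩
  -- check on the image of `π`
  apply AlgHom.ext
  intro s
  obtain ⟨P, rfl⟩ := hπ s
  have h4 : Ideal.Quotient.mk I0 (f (π P)) = Ideal.Quotient.mk I0 (ev P) := by
    have := AlgHom.congr_fun hf (π P)
    simpa [g0] using this
  have h5 : f (π P) - ev P ∈ I := hI0le (Ideal.Quotient.eq.mp h4)
  have h6 : Ideal.Quotient.mk I (f (π P)) = Ideal.Quotient.mk I (ev P) := Ideal.Quotient.eq.mpr h5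
  have h7 : (Ideal.Quotient.mkₐ R I) (ev P) = g (π P) := AlgHom.congr_fun hev P
  change Ideal.Quotient.mk I (f (π P)) = g (π P)
  rw [h6]
  exact h7

end Groth.Agent.S2097
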