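import Groth.Statements.S2098
import Mathlib
-- import your own Groth.Agent.* helpers here

set_option autoImplicit false
universe u
open CAlg

namespace Groth.Agent.S2098

/-- a linear map sends `J • ⊤` into `J • ⊤`. -/
theorem map_mem_smul_top {R : Type*} [CommRing R] (J : Ideal R) {M N : Type*} [AddCommGroup M]
    [Module R M] [AddCommGroup N] [Module R N] (h : M →ₗ[R] N) (a : M)
    (ha : a ∈ J • (⊤ : Submodule R M)) : h a ∈ J • (⊤ : Submodule R N) := by
  refine Submodule.smul_induction_on ha ?_ ?_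
  · intro i hi m _
    rw [map_smul]
    exact Submodule.smul_mem_smul hi Submodule.mem_top
  · intro x y hx hy
    rw [map_add]
    exact add_mem hx hy

/-- membership in `J • ⊤` of a finite product can be tested componentwise. -/
theorem pi_mem_smul_top {R : Type*} [CommRing R] (J : Ideal R) {N : Type*} [AddCommGroup N]
    [Module R N] {m : ℕ} (v : Fin m → N) (hv : ∀ j, v j ∈ J • (⊤ : Submodule R N)) :
    v ∈ J • (⊤ : Submodule R (Fin m → N)) := by
  have : v = ∑ j, LinearMap.single R (fun _ : Fin m => N) j (v j) := by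
    ext i
    simp [Finset.sum_apply, Pi.single_apply]
  rw [this]
  exact Submodule.sum_mem _ (fun j _ => map_mem_smul_top J _ _ (hv j))

/-- Let `R` be Noetherian, `I` an ideal inside the Jacobson radical and `u : N → M` a map of finite
`R`-modules. If for arbitrarily large `n` the induced map `N/IⁿN → M/IⁿM` has a left inverse, then
`u` has a left inverse. -/
theorem result {R M N : Type u} [CommRing R] [IsNoetherianRing R] (I : Ideal R)
    (hI : I ≤ (⊥ : Ideal R).jacobson) [AddCommGroup M] [Module R M] [Module.Finite R M] [AddCommGroup N] [Module R N]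
    [Module.Finite R N] (u : N →ₗ[R] M)
    (h : ∀ n₀ : ℕ, ∃ n, n₀ ≤ n ∧ ∃ s : (M ⧸ (I ^ n) • (⊤ : Submodule R M)) →ₗ[R] (N ⧸ (I ^ n) • (⊤ : Submodule R N)),
      ∀ x : N, s (Submodule.Quotient.mk (u x)) = Submodule.Quotient.mk x) :
    ∃ s : M →ₗ[R] N, s.comp u = LinearMap.id := by
  classical
  -- a finite presentation of `M`
  obtain ⟨b, π, hπ⟩ := Module.Finite.exists_fin' R M
  obtain ⟨m, ψ, hψ⟩ := Module.Finite.exists_fin' R (LinearMap.ker π)
  let κ : (Fin m → R) →ₗ[R] (Fin b → R) := (LinearMap.ker π).subtype ∘ₗ ψ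
  have hκπ : ∀ g, π (κ g) = 0 := fun g => (ψ g).2
  have hκrange : ∀ f, π f = 0 → ∃ g, κ g = f := by
    intro f hf
    obtain ⟨g, hg⟩ := hψ ⟨f, hf⟩
    exact ⟨g, congrArg Subtype.val hg⟩
  -- restriction to the relations
  let ρ : ((Fin b → R) →ₗ[R] N) →ₗ[R] (Fin m → N) :=
    LinearMap.pi (fun j => LinearMap.applyₗ (κ (Pi.single j 1)))
  have hρ : ∀ t j, ρ t j = t (κ (Pi.single j 1)) := fun t j => rfl
  have hρ0 : ∀ t, ρ t = 0 → ∀ g, t (κ g) = 0 := by
    intro t ht g
    have h1 : t ∘ₗ κ = 0 := by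
      apply LinearMap.pi_ext
      intro j x
      have : (Pi.single j x : Fin m → R) = x • Pi.single j 1 := by
        ext i; simp [Pi.single_apply]
      rw [this, map_smul, LinearMap.zero_apply, LinearMap.comp_apply]
      have := congrFun ht j
      rw [hρ] at this
      rw [this]; simp
    exact LinearMap.congr_fun h1 g
  -- Artin–Rees
  obtain ⟨c, hc⟩ := Ideal.exists_pow_inf_eq_pow_smul I (LinearMap.range ρ)
  obtain ⟨n, hn, sn, hsn⟩ := h (c + 1)
  -- lift `sn` to the free module
  let qN := (I ^ n • (⊤ : Submodule R N)).mkQ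
  let qM := (I ^ n • (⊤ : Submodule R M)).mkQ
  obtain ⟨t, ht⟩ := Module.projective_lifting_property qN (sn ∘ₗ qM ∘ₗ π)
    (Submodule.mkQ_surjective _)
  have ht' : ∀ f, qN (t f) = sn (qM (π f)) := fun f => LinearMap.congr_fun ht f
  -- `ρ t ∈ I^n • ⊤`
  have hρt : ρ t ∈ I ^ n • (⊤ : Submodule R (Fin m → N)) := by
    apply pi_mem_smul_top
    intro j
    rw [hρ]
    have : qN (t (κ (Pi.single j 1))) = 0 := by
      rw [ht', hκπ, map_zero, map_zero]
    rwa [Submodule.mkQ_apply, Submodule.Quotient.mk_eq_zero] at this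
  have hmem : ρ t ∈ I ^ n • (⊤ : Submodule R (Fin m → N)) ⊓ LinearMap.range ρ := ⟨hρt, ⟨t, rfl⟩⟩
  rw [hc n (by omega)] at hmem
  have hle : I ^ (n - c) • (I ^ c • (⊤ : Submodule R (Fin m → N)) ⊓ LinearMap.range ρ) ≤
      Submodule.map ρ (I ^ (n - c) • (⊤ : Submodule R ((Fin b → R) →ₗ[R] N))) := by
    rw [Submodule.map_smul'', Submodule.map_top]
    exact Submodule.smul_mono le_rfl inf_le_right
  obtain ⟨t', ht'mem, ht'ρ⟩ := hle hmem
  have ht'val : ∀ f, t' f ∈ I ^ (n - c) • (⊤ : Submodule R N) := fun f =>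
    map_mem_smul_top (I ^ (n - c)) (LinearMap.applyₗ f) t' ht'mem
  -- descend `t - t'` to `M`
  have hker : LinearMap.ker π ≤ LinearMap.ker (t - t') := by
    intro f hf
    obtain ⟨g, rfl⟩ := hκrange f hf
    rw [LinearMap.mem_ker]
    exact hρ0 (t - t') (by rw [map_sub, ht'ρ, sub_self]) g
  let s : M →ₗ[R] N :=
    ((LinearMap.ker π).liftQ (t - t') hker) ∘ₗ (π.quotKerEquivOfSurjective hπ).symm.toLinearMap
  have hsπ : ∀ f, s (π f) = t f - t' f := by
    intro f
    have : (π.quotKerEquivOfSurjective hπ).symm (π f) = Submodule.Quotient.mk f := by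
      rw [LinearEquiv.symm_apply_eq]; rfl
    show ((LinearMap.ker π).liftQ (t - t') hker) ((π.quotKerEquivOfSurjective hπ).symm (π f)) = _
    rw [this]; rfl
  -- `s ∘ u ≡ id` modulo `I N`
  have hI1 : I ^ (n - c) • (⊤ : Submodule R N) ≤ I • (⊤ : Submodule R N) := by
    apply Submodule.smul_mono_left
    exact Ideal.pow_le_self (by omega)
  have hIn : I ^ n • (⊤ : Submodule R N) ≤ I • (⊤ : Submodule R N) := by
    apply Submodule.smul_mono_left
    exact Ideal.pow_le_self (by omega)
  have hsu : ∀ x : N, s (u x) - x ∈ I • (⊤ : Submodule R N) := by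
    intro x
    obtain ⟨f, hf⟩ := hπ (u x)
    rw [← hf, hsπ]
    have h1 : qN (t f) = qN x := by
      rw [ht', hf]
      exact hsn x
    have h2 : t f - x ∈ I ^ n • (⊤ : Submodule R N) := by
      rw [← Submodule.Quotient.mk_eq_zero, Submodule.Quotient.mk_sub]
      exact sub_eq_zero.mpr h1
    have : t f - t' f - x = (t f - x) - t' f := by abel
    rw [this]
    exact sub_mem (hIn h2) (hI1 (ht'val f))
  let e : N →ₗ[R] N := s ∘ₗ u
  have hesurj : Function.Surjective e := by
    rw [← LinearMap.range_eq_top, eq_top_iff]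
    apply Submodule.le_of_le_smul_of_le_jacobson_bot (Module.Finite.fg_top) hI
    intro x _
    have : x = e x + (x - e x) := by abel
    rw [this]
    refine Submodule.add_mem_sup ⟨x, rfl⟩ ?_
    have := hsu x
    rw [← neg_sub] 
    exact neg_mem this
  have heinj : Function.Injective e := OrzechProperty.injective_of_surjective_endomorphism e hesurj
  let eq : N ≃ₗ[R] N := LinearEquiv.ofBijective e ⟨heinj, hesurj⟩
  refine ⟨eq.symm.toLinearMap ∘ₗ s, ?_⟩
  ext x
  show eq.symm (s (u x)) = x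
  rw [LinearEquiv.symm_apply_eq]
  rfl

end Groth.Agent.S2098
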