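import Groth.Statements.S2105
import Groth.Agent.S2104
import Mathlib

set_option autoImplicit false
universe u
open CAlg

namespace Groth.Agent.S2105

open Groth.Agent.S2104 (Kz sum_Kz hg_lift)

section helpers
variable {A : Type u} [CommRing A] {n m : ℕ}

theorem castAdd_ne_natAdd (i : Fin n) (j : Fin m) : Fin.castAdd m i ≠ Fin.natAdd n j := by
  intro h
  have := congrArg Fin.val h
  simp at this
  omega

theorem append_single_left (i : Fin n) (x : A) :
    Fin.append (Pi.single i x : Fin n → A) (0 : Fin m → A) = Pi.single (Fin.castAdd m i) x := by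
  classical
  ext k
  refine Fin.addCases (fun i' => ?_) (fun j' => ?_) k
  · rw [Fin.append_left]
    simp only [Pi.single_apply, Fin.castAdd_inj]
  · rw [Fin.append_right]
    simp only [Pi.single_apply, Pi.zero_apply]
    rw [if_neg (castAdd_ne_natAdd i j').symm]

theorem append_single_right (j : Fin m) (x : A) :
    Fin.append (0 : Fin n → A) (Pi.single j x : Fin m → A) = Pi.single (Fin.natAdd n j) x := by
  classical
  ext k
  refine Fin.addCases (fun i' => ?_) (fun j' => ?_) k
  · rw [Fin.append_left]
    simp only [Pi.single_apply, Pi.zero_apply]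
    rw [if_neg (castAdd_ne_natAdd i' j)]
  · rw [Fin.append_right]
    simp only [Pi.single_apply, Fin.natAdd_inj]

theorem append_add (x y : Fin n → A) (x' y' : Fin m → A) :
    Fin.append (x + y) (x' + y') = Fin.append x x' + Fin.append y y' := by
  ext k
  refine Fin.addCases (fun i' => ?_) (fun j' => ?_) k <;> simp

theorem append_sub (x y : Fin n → A) (x' y' : Fin m → A) :
    Fin.append (x - y) (x' - y') = Fin.append x x' - Fin.append y y' := by
  ext k
  refine Fin.addCases (fun i' => ?_) (fun j' => ?_) k <;> simp

theorem append_smul (a : A) (x : Fin n → A) (x' : Fin m → A) :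
    Fin.append (a • x) (a • x') = a • Fin.append x x' := by
  ext k
  refine Fin.addCases (fun i' => ?_) (fun j' => ?_) k <;> simp

theorem append_zero_zero : Fin.append (0 : Fin n → A) (0 : Fin m → A) = 0 := by
  ext k
  refine Fin.addCases (fun i' => ?_) (fun j' => ?_) k <;> simp

theorem Kz_left (f : Fin n → A) (g : Fin m → A) (a : Fin n → A) (ha : a ∈ Kz f) :
    Fin.append a (0 : Fin m → A) ∈ Kz (Fin.append f g) := by
  refine Submodule.span_induction ?_ ?_ ?_ ?_ ha
  · rintro _ ⟨i, j, rfl⟩
    have : Fin.append (Pi.single i (f j) - Pi.single j (f i) : Fin n → A) (0 : Fin m → A) =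
        Pi.single (Fin.castAdd m i) (Fin.append f g (Fin.castAdd m j)) -
          Pi.single (Fin.castAdd m j) (Fin.append f g (Fin.castAdd m i)) := by
      rw [show (0 : Fin m → A) = 0 - 0 by simp, append_sub, append_single_left, append_single_left,
        Fin.append_left, Fin.append_left]
    rw [this]
    exact Submodule.subset_span ⟨_, _, rfl⟩
  · rw [append_zero_zero]; exact Submodule.zero_mem _
  · intro x y _ _ hx hy
    rw [show (0 : Fin m → A) = 0 + 0 by simp, append_add]
    exact Submodule.add_mem _ hx hy
  · intro c x _ hx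
    rw [show (0 : Fin m → A) = c • 0 by simp, append_smul]
    exact Submodule.smul_mem _ _ hx

theorem Kz_right (f : Fin n → A) (g : Fin m → A) (b : Fin m → A) (hb : b ∈ Kz g) :
    Fin.append (0 : Fin n → A) b ∈ Kz (Fin.append f g) := by
  refine Submodule.span_induction ?_ ?_ ?_ ?_ hb
  · rintro _ ⟨i, j, rfl⟩
    have : Fin.append (0 : Fin n → A) (Pi.single i (g j) - Pi.single j (g i) : Fin m → A) =
        Pi.single (Fin.natAdd n i) (Fin.append f g (Fin.natAdd n j)) -
          Pi.single (Fin.natAdd n j) (Fin.append f g (Fin.natAdd n i)) := by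
      rw [show (0 : Fin n → A) = 0 - 0 by simp, append_sub, append_single_right,
        append_single_right, Fin.append_right, Fin.append_right]
    rw [this]
    exact Submodule.subset_span ⟨_, _, rfl⟩
  · rw [append_zero_zero]; exact Submodule.zero_mem _
  · intro x y _ _ hx hy
    rw [show (0 : Fin n → A) = 0 + 0 by simp, append_add]
    exact Submodule.add_mem _ hx hy
  · intro c x _ hx
    rw [show (0 : Fin n → A) = c • 0 by simp, append_smul]
    exact Submodule.smul_mem _ _ hx

end helpers
/-- Appending to an `H_1`-regular sequence `f` a sequence `g` whose image modulo the ideal `(f)` is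
`H_1`-regular yields an `H_1`-regular sequence. -/
theorem result {A : Type u} [CommRing A] {n m : ℕ} (f : Fin n → A)
    (g : Fin m → A) (hf : CAlgX.IsH1Regular f)
    (hg : CAlgX.IsH1Regular (fun j => Ideal.Quotient.mk (Ideal.span (Set.range f)) (g j))) :
    CAlgX.IsH1Regular (Fin.append f g) := by
  classical
  intro a ha
  change a ∈ Kz (Fin.append f g)
  set I := Ideal.span (Set.range f) with hI
  set aX : Fin n → A := fun i => a (Fin.castAdd m i) with haX
  set aY : Fin m → A := fun j => a (Fin.natAdd n j) with haY
  have hsum : ∑ i, aX i * f i + ∑ j, aY j * g j = 0 := by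
    rw [Fin.sum_univ_add] at ha
    simpa only [Fin.append_left, Fin.append_right] using ha
  have hYI : ∑ j, aY j * g j ∈ I := by
    have : ∑ j, aY j * g j = -∑ i, aX i * f i := by linear_combination hsum
    rw [this]
    apply neg_mem
    apply Ideal.sum_mem
    intro i _
    exact Ideal.mul_mem_left _ _ (Ideal.subset_span ⟨i, rfl⟩)
  obtain ⟨w, hw, hws⟩ := hg_lift I g hg aY hYI
  have hs : ∀ j, ∃ c : Fin n → A, ∑ i, c i * f i = aY j - w j := fun j =>
    Ideal.mem_span_range_iff_exists_fun.mp (hws j)
  choose c hc using hs
  set a' : Fin n → A := fun i => aX i + ∑ j, c j i * g j with ha'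
  have ha'0 : ∑ i, a' i * f i = 0 := by
    have h1 : ∑ i, a' i * f i = ∑ i, aX i * f i + ∑ j, (∑ i, c j i * f i) * g j := by
      simp only [ha', add_mul, Finset.sum_add_distrib, Finset.sum_mul]
      congr 1
      rw [Finset.sum_comm]
      apply Finset.sum_congr rfl
      intro j _
      apply Finset.sum_congr rfl
      intro i _
      ring
    have h2 : ∑ j, g j * w j = 0 := sum_Kz g w hw
    rw [h1]
    simp only [hc, sub_mul, Finset.sum_sub_distrib]
    have h3 : ∑ j, w j * g j = 0 := by simpa only [mul_comm] using h2
    rw [h3, sub_zero]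
    exact hsum
  have ha'K : a' ∈ Kz f := hf a' ha'0
  -- the mixed part
  set F := Fin.append f g with hF
  set mix : Fin (n + m) → A := ∑ j : Fin m, ∑ i : Fin n, c j i •
    (Pi.single (Fin.natAdd n j) (F (Fin.castAdd m i)) -
      Pi.single (Fin.castAdd m i) (F (Fin.natAdd n j)) : Fin (n + m) → A) with hmix
  have hmixK : mix ∈ Kz F := by
    apply Submodule.sum_mem
    intro j _
    apply Submodule.sum_mem
    intro i _
    exact Submodule.smul_mem _ _ (Submodule.subset_span ⟨_, _, rfl⟩)
  have hdecomp : a = Fin.append a' (0 : Fin m → A) + Fin.append (0 : Fin n → A) w + mix := by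
    ext k
    refine Fin.addCases (fun i' => ?_) (fun j' => ?_) k
    · simp only [Pi.add_apply, Fin.append_left, Pi.zero_apply, hmix, Finset.sum_apply,
        Pi.smul_apply, Pi.sub_apply, Pi.single_apply, smul_eq_mul, hF, Fin.append_right,
        Fin.castAdd_inj]
      simp only [if_neg (castAdd_ne_natAdd i' _), zero_sub, mul_neg, mul_ite, mul_zero,
        Finset.sum_neg_distrib, Finset.sum_ite_eq, Finset.mem_univ, if_true, ha', haX]
      ring
    · simp only [Pi.add_apply, Fin.append_right, Pi.zero_apply, hmix, Finset.sum_apply,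
        Pi.smul_apply, Pi.sub_apply, Pi.single_apply, smul_eq_mul, hF, Fin.append_left,
        Fin.natAdd_inj]
      simp only [if_neg (castAdd_ne_natAdd _ j').symm, sub_zero, mul_ite, mul_zero]
      rw [Finset.sum_comm]
      simp only [Finset.sum_ite_eq, Finset.mem_univ, if_true, hc]
      simp only [haY]
      ring
  rw [hdecomp]
  exact Submodule.add_mem _ (Submodule.add_mem _ (Kz_left f g a' ha'K) (Kz_right f g w hw)) hmixK

end Groth.Agent.S2105
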