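import Groth.Statements.S7237
import Mathlib.Algebra.TrivSqZeroExt.Basic
-- import your own Groth.Agent.* helpers here

set_option autoImplicit false
universe u
open TensorProduct
open FlatMor

namespace Groth.Agent.S7237

section aux

variable (A : Type u) [CommRing A] (M : Type u) [AddCommGroup M] [Module A M]

/-- The algebra map `Sym M → Sym M ⊕ (Sym M ⊗ M)` sending `ι m` to `(ι m, 1 ⊗ m)`. -/
noncomputable def phi : SymmetricAlgebra A M →ₐ[A]
    TrivSqZeroExt (SymmetricAlgebra A M) (SymmetricAlgebra A M ⊗[A] M) :=
  SymmetricAlgebra.lift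
    ((TrivSqZeroExt.inlAlgHom A (SymmetricAlgebra A M) (SymmetricAlgebra A M ⊗[A] M)).toLinearMap ∘ₗ
        SymmetricAlgebra.ι A M +
      ((TrivSqZeroExt.inrHom (SymmetricAlgebra A M) (SymmetricAlgebra A M ⊗[A] M)).restrictScalars A) ∘ₗ
        (TensorProduct.mk A (SymmetricAlgebra A M) M 1))

lemma phi_ι (m : M) : phi A M (SymmetricAlgebra.ι A M m) =
    TrivSqZeroExt.inl (SymmetricAlgebra.ι A M m) + TrivSqZeroExt.inr ((1 : SymmetricAlgebra A M) ⊗ₜ[A] m) := by
  simp [phi]

lemma fst_phi (x : SymmetricAlgebra A M) : (phi A M x).fst = x := by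
  have : (TrivSqZeroExt.fstHom A (SymmetricAlgebra A M) (SymmetricAlgebra A M ⊗[A] M)).comp (phi A M) =
      AlgHom.id A (SymmetricAlgebra A M) := by
    apply SymmetricAlgebra.algHom_ext
    ext m
    simp [phi_ι]
  exact congr($this x)

/-- The derivation `Sym M → Sym M ⊗ M` with `ι m ↦ 1 ⊗ m`. -/
noncomputable def der : Derivation A (SymmetricAlgebra A M) (SymmetricAlgebra A M ⊗[A] M) where
  toFun x := (phi A M x).snd
  map_add' x y := by simp
  map_smul' r x := by simp
  map_one_eq_zero' := by simp
  leibniz' x y := by
    simp [TrivSqZeroExt.snd_mul, fst_phi, add_comm]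

lemma der_ι (m : M) : der A M (SymmetricAlgebra.ι A M m) = (1 : SymmetricAlgebra A M) ⊗ₜ[A] m := by
  change (phi A M (SymmetricAlgebra.ι A M m)).snd = _
  simp [phi_ι]

end aux

/-- Let A be a ring and M a finitely generated A-module, and let C = Sym_A(M) be the symmetric algebra
of M with its canonical A-linear map ι : M → C. Then Ω_{C/A} = M ⊗_A C: the C-linear map C ⊗_A M →
Ω_{C/A} obtained by extending scalars in the A-linear map m ↦ d(ι m), d being the universal
A-derivation of C, is bijective. (The published lemma also computes the whole naive cotangent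
complex of the presentation of C attached to a surjection A^m → M with kernel K, namely as K ⊗_A C →
⊕_j C dy_j; only its consequence for Ω is asserted here.) -/
theorem result (A : Type u) [CommRing A] (M : Type u)
    [AddCommGroup M] [Module A M] [Module.Finite A M] :
    Function.Bijective (LinearMap.liftBaseChange (SymmetricAlgebra A M)
      ((KaehlerDifferential.D A (SymmetricAlgebra A M)).toLinearMap.restrictScalars A ∘ₗ SymmetricAlgebra.ι A M)) := by
  set g := LinearMap.liftBaseChange (SymmetricAlgebra A M)
      ((KaehlerDifferential.D A (SymmetricAlgebra A M)).toLinearMap.restrictScalars A ∘ₗ SymmetricAlgebra.ι A M) with hg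
  set h : Ω[SymmetricAlgebra A M⁄A] →ₗ[SymmetricAlgebra A M] SymmetricAlgebra A M ⊗[A] M :=
    (der A M).liftKaehlerDifferential with hh
  have hgι : ∀ m : M, g ((1 : SymmetricAlgebra A M) ⊗ₜ[A] m) =
      KaehlerDifferential.D A (SymmetricAlgebra A M) (SymmetricAlgebra.ι A M m) := by
    intro m
    simp [hg]
  have h1 : h ∘ₗ g = LinearMap.id := by
    apply TensorProduct.AlgebraTensorModule.curry_injective
    ext m
    simp [hgι, hh, der_ι]
  have h2 : g ∘ₗ h = LinearMap.id := by
    have hder : (g.compDer (der A M)) = KaehlerDifferential.D A (SymmetricAlgebra A M) := by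
      ext x
      induction x using SymmetricAlgebra.induction with
      | algebraMap r => simp
      | ι m => simp [der_ι, hgι]
      | mul a b ha hb => rw [Derivation.leibniz, Derivation.leibniz, ha, hb]
      | add a b ha hb => rw [map_add, map_add, ha, hb]
    apply Derivation.liftKaehlerDifferential_unique
    ext x
    have := congr($hder x)
    simpa [hh] using this
  refine ⟨?_, ?_⟩
  · intro a b hab
    have := congr(h $hab)
    simpa [← LinearMap.comp_apply, h1] using this
  · intro y
    exact ⟨h y, by simpa using congr($h2 y)⟩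

end Groth.Agent.S7237
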