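import Groth.Statements.S2110
import Mathlib
import Groth.Agent.S7237
import Groth.Agent.S2030
import Groth.Agent.S2031
-- import your own Groth.Agent.* helpers here

set_option autoImplicit false
universe u
open Smoothing

namespace Groth.Agent.S2110

open TensorProduct KaehlerDifferential Smoothing
open Groth.Agent.Lib.Helper57.S2030Aux


theorem fs_S {A : Type u} [CommRing A] {M : Type u} [AddCommGroup M] [Module A M] (a : A)
    [Module.Projective (Localization.Away a) (Localization.Away a ⊗[A] M)] :
    Algebra.FormallySmooth A (Localization.Away (algebraMap A (SymmetricAlgebra A M) a)) := by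
  refine Algebra.FormallySmooth.of_comp_surjective ?_
  intro B _ _ J hJ g
  have hu1 : IsUnit (algebraMap A (Localization.Away (algebraMap A (SymmetricAlgebra A M) a)) a) := by
    rw [IsScalarTower.algebraMap_apply A (SymmetricAlgebra A M)
      (Localization.Away (algebraMap A (SymmetricAlgebra A M) a))]
    exact IsLocalization.Away.algebraMap_isUnit _
  have hu2 : IsUnit (Ideal.Quotient.mk J (algebraMap A B a)) := by
    have := hu1.map g
    rwa [AlgHom.commutes] at this
  have hu : IsUnit (algebraMap A B a) := (IsNilpotent.isUnit_quotient_mk_iff ⟨2, hJ⟩).1 hu2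
  letI algTB : Algebra (Localization.Away a) B := (IsLocalization.Away.lift a hu).toAlgebra
  haveI : IsScalarTower A (Localization.Away a) B :=
    IsScalarTower.of_algebraMap_eq (fun x => (IsLocalization.Away.lift_eq a hu x).symm)
  haveI : IsScalarTower A (Localization.Away a) (B ⧸ J) :=
    IsScalarTower.of_algebraMap_eq (fun x => by
      rw [IsScalarTower.algebraMap_apply (Localization.Away a) B (B ⧸ J),
        ← IsScalarTower.algebraMap_apply A (Localization.Away a) B,
        ← IsScalarTower.algebraMap_apply A B (B ⧸ J)])
  -- the linear map to lift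
  let lbar : M →ₗ[A] B ⧸ J := (g.toLinearMap ∘ₗ
    (IsScalarTower.toAlgHom A (SymmetricAlgebra A M)
      (Localization.Away (algebraMap A (SymmetricAlgebra A M) a))).toLinearMap) ∘ₗ
      SymmetricAlgebra.ι A M
  let lbarT : Localization.Away a ⊗[A] M →ₗ[Localization.Away a] B ⧸ J :=
    LinearMap.liftBaseChange (Localization.Away a) lbar
  obtain ⟨L, hL⟩ := Module.projective_lifting_property
    (Ideal.Quotient.mkₐ (Localization.Away a) J).toLinearMap lbarT
    (Ideal.Quotient.mkₐ_surjective (Localization.Away a) J)
  let l : M →ₗ[A] B := (L.restrictScalars A) ∘ₗ (TensorProduct.mk A (Localization.Away a) M 1)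
  have hl : ∀ m, Ideal.Quotient.mk J (l m) = lbar m := by
    intro m
    have := congrArg (fun f => f ((1 : Localization.Away a) ⊗ₜ[A] m)) hL
    simp only [LinearMap.coe_comp, Function.comp_apply, AlgHom.coe_toLinearMap,
      Ideal.Quotient.mkₐ_eq_mk] at this
    rw [show l m = L ((1 : Localization.Away a) ⊗ₜ[A] m) from rfl, this]
    simp [lbarT]
  let l0 : SymmetricAlgebra A M →ₐ[A] B := SymmetricAlgebra.lift l
  have hunit : ∀ y : Submonoid.powers (algebraMap A (SymmetricAlgebra A M) a), IsUnit (l0 y) := by
    rintro ⟨_, k, rfl⟩
    simp only [map_pow, AlgHom.commutes]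
    exact hu.pow k
  refine ⟨IsLocalization.liftAlgHom (M := Submonoid.powers (algebraMap A (SymmetricAlgebra A M) a))
    (f := l0) hunit, ?_⟩
  apply IsLocalization.algHom_ext (Submonoid.powers (algebraMap A (SymmetricAlgebra A M) a))
  apply SymmetricAlgebra.algHom_ext
  refine LinearMap.ext fun m => ?_
  change Ideal.Quotient.mk J (IsLocalization.liftAlgHom hunit
    (algebraMap (SymmetricAlgebra A M) _ (SymmetricAlgebra.ι A M m))) =
    g (algebraMap (SymmetricAlgebra A M) _ (SymmetricAlgebra.ι A M m))
  rw [IsLocalization.liftAlgHom_apply, IsLocalization.lift_eq]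
  change Ideal.Quotient.mk J (l0 (SymmetricAlgebra.ι A M m)) = _
  rw [show l0 (SymmetricAlgebra.ι A M m) = l m from SymmetricAlgebra.lift_ι_apply l m, hl]
  rfl


theorem finiteType_sym {A : Type u} [CommRing A] {M : Type u} [AddCommGroup M] [Module A M]
    [Module.Finite A M] : Algebra.FiniteType A (SymmetricAlgebra A M) := by
  classical
  obtain ⟨s, hs⟩ := Module.Finite.fg_top (R := A) (M := M)
  refine ⟨s.image (SymmetricAlgebra.ι A M), ?_⟩
  rw [eq_top_iff]
  rintro x -
  induction x using SymmetricAlgebra.induction with
  | algebraMap r => exact Subalgebra.algebraMap_mem _ r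
  | ι m =>
    have hm : m ∈ Submodule.span A (s : Set M) := hs ▸ Submodule.mem_top
    induction hm using Submodule.span_induction with
    | mem x hx =>
      refine Algebra.subset_adjoin ?_
      simp only [Finset.coe_image, Set.mem_image, Finset.mem_coe]
      exact ⟨x, hx, rfl⟩
    | zero => rw [map_zero]; exact zero_mem _
    | add x y _ _ hx hy => rw [map_add]; exact add_mem hx hy
    | smul r x _ hx => rw [map_smul]; exact Subalgebra.smul_mem _ hx r
  | mul a b ha hb => exact mul_mem ha hb
  | add a b ha hb => exact add_mem ha hb


theorem key {R A : Type u} [CommRing R] [CommRing A] [Algebra R A] {M : Type u} [AddCommGroup M]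
    [Module A M] [Module.Finite A M] [Algebra R (SymmetricAlgebra A M)]
    [IsScalarTower R A (SymmetricAlgebra A M)] (a : A) (n : ℕ)
    (e : ((Localization.Away a ⊗[A] Ω[A⁄R]) × (Localization.Away a ⊗[A] M)) ≃ₗ[Localization.Away a]
      (Fin n → Localization.Away a)) :
    Module.Free (Localization.Away (algebraMap A (SymmetricAlgebra A M) a))
      Ω[Localization.Away (algebraMap A (SymmetricAlgebra A M) a)⁄R] := by
  haveI : Module.Projective (Localization.Away a) (Localization.Away a ⊗[A] M) := by
    refine Module.Projective.of_split (e.toLinearMap ∘ₗ LinearMap.inr _ _ _)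
      (LinearMap.snd _ _ _ ∘ₗ e.symm.toLinearMap) ?_
    refine LinearMap.ext fun x => ?_
    simp
  haveI := fs_S (M := M) a
  -- Jacobi-Zariski
  have hinj : Function.Injective (mapBaseChange R A
      (Localization.Away (algebraMap A (SymmetricAlgebra A M) a))) := by
    rw [injective_iff_map_eq_zero]
    intro x hx
    obtain ⟨y, rfl⟩ := (Algebra.H1Cotangent.exact_δ_mapBaseChange R A
      (Localization.Away (algebraMap A (SymmetricAlgebra A M) a)) x).1 hx
    rw [Subsingleton.elim y 0, map_zero]
  have hex := KaehlerDifferential.exact_mapBaseChange_map R A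
    (Localization.Away (algebraMap A (SymmetricAlgebra A M) a))
  have hsurj := KaehlerDifferential.map_surjective R A
    (Localization.Away (algebraMap A (SymmetricAlgebra A M) a))
  obtain ⟨σ, hσ⟩ := Module.projective_lifting_property
    (KaehlerDifferential.map R A (Localization.Away (algebraMap A (SymmetricAlgebra A M) a))
      (Localization.Away (algebraMap A (SymmetricAlgebra A M) a))) LinearMap.id hsurj
  have e1 := (hex.splitSurjectiveEquiv hinj ⟨σ, hσ⟩).1
  haveI : Algebra.FormallyEtale (SymmetricAlgebra A M)
      (Localization.Away (algebraMap A (SymmetricAlgebra A M) a)) :=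
    Algebra.FormallyEtale.of_isLocalization
      (Submonoid.powers (algebraMap A (SymmetricAlgebra A M) a))
  have e2a := (KaehlerDifferential.tensorKaehlerEquivOfFormallyEtale A (SymmetricAlgebra A M)
    (Localization.Away (algebraMap A (SymmetricAlgebra A M) a))).symm
  have eC := LinearEquiv.ofBijective _ (Groth.Agent.S7237.result A M)
  have e2b : (Localization.Away (algebraMap A (SymmetricAlgebra A M) a)) ⊗[SymmetricAlgebra A M]
      Ω[SymmetricAlgebra A M⁄A] ≃ₗ[Localization.Away (algebraMap A (SymmetricAlgebra A M) a)]
      (Localization.Away (algebraMap A (SymmetricAlgebra A M) a)) ⊗[SymmetricAlgebra A M]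
        (SymmetricAlgebra A M ⊗[A] M) :=
    TensorProduct.AlgebraTensorModule.congr (LinearEquiv.refl _ _) eC.symm
  have e2c := TensorProduct.AlgebraTensorModule.cancelBaseChange A (SymmetricAlgebra A M)
    (Localization.Away (algebraMap A (SymmetricAlgebra A M) a))
    (Localization.Away (algebraMap A (SymmetricAlgebra A M) a)) M
  letI algTS : Algebra (Localization.Away a)
      (Localization.Away (algebraMap A (SymmetricAlgebra A M) a)) :=
    (Localization.awayMap (algebraMap A (SymmetricAlgebra A M)) a).toAlgebra
  haveI : IsScalarTower A (Localization.Away a)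
      (Localization.Away (algebraMap A (SymmetricAlgebra A M) a)) :=
    IsScalarTower.of_algebraMap_eq (fun x => by
      change _ = Localization.awayMap (algebraMap A (SymmetricAlgebra A M)) a (algebraMap A _ x)
      rw [Localization.awayMap, IsLocalization.Away.map, IsLocalization.map_eq,
        ← IsScalarTower.algebraMap_apply])
  have e3Ω := (TensorProduct.AlgebraTensorModule.cancelBaseChange A (Localization.Away a)
    (Localization.Away (algebraMap A (SymmetricAlgebra A M) a))
    (Localization.Away (algebraMap A (SymmetricAlgebra A M) a)) Ω[A⁄R]).symm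
  have e3M := (TensorProduct.AlgebraTensorModule.cancelBaseChange A (Localization.Away a)
    (Localization.Away (algebraMap A (SymmetricAlgebra A M) a))
    (Localization.Away (algebraMap A (SymmetricAlgebra A M) a)) M).symm
  have e4 := (TensorProduct.prodRight (Localization.Away a)
    (Localization.Away (algebraMap A (SymmetricAlgebra A M) a))
    (Localization.Away (algebraMap A (SymmetricAlgebra A M) a))
    (Localization.Away a ⊗[A] Ω[A⁄R]) (Localization.Away a ⊗[A] M)).symm
  have e5 : (Localization.Away (algebraMap A (SymmetricAlgebra A M) a)) ⊗[Localization.Away a]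
      ((Localization.Away a ⊗[A] Ω[A⁄R]) × (Localization.Away a ⊗[A] M)) ≃ₗ[
        Localization.Away (algebraMap A (SymmetricAlgebra A M) a)]
      (Localization.Away (algebraMap A (SymmetricAlgebra A M) a)) ⊗[Localization.Away a]
        (Fin n → Localization.Away a) :=
    TensorProduct.AlgebraTensorModule.congr (LinearEquiv.refl _ _) e
  exact Module.Free.of_equiv (e1.trans ((LinearEquiv.prodCongr e3Ω
    ((e2a.trans (e2b.trans e2c)).trans e3M)).trans (e4.trans e5))).symm


theorem finite_cot {R A : Type u} [CommRing R] [CommRing A] [Algebra R A]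
    (P : MarkedPresentation R A) : Module.Finite A (G P).toExtension.Cotangent :=
  ⟨⟨(Set.finite_range (y P)).toFinset, by rw [Set.Finite.coe_toFinset]; exact span_y P⟩⟩

theorem exists_equiv {R A : Type u} [CommRing R] [CommRing A] [Algebra R A]
    (P : MarkedPresentation R A) (a : A) [Algebra.FormallySmooth R (Localization.Away a)] :
    Nonempty (((Localization.Away a ⊗[A] Ω[A⁄R]) ×
      (Localization.Away a ⊗[A] (G P).toExtension.Cotangent)) ≃ₗ[Localization.Away a]
      (Fin P.n → Localization.Away a)) := by
  obtain ⟨ρ, hρ⟩ := Groth.Agent.S2031.exists_retraction a P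
  have es := ((Groth.Agent.S2030.exact_T a P).splitInjectiveEquiv (Groth.Agent.S2030.surj_T a P)
    ⟨ρ, hρ⟩).1
  exact ⟨(LinearEquiv.prodComm _ _ _).trans (es.symm.trans (b0 a P).equivFun)⟩



/-- Let `A` be a finitely presented `R`-algebra. There is an `A`-algebra `C` of finite type with an
`A`-algebra retraction `C → A` such that for every `a ∈ A` with `A_a` smooth over `R`, the module of
differentials of `C_a` over `R` is a free `C_a`-module. -/
theorem result {R A : Type u} [CommRing R] [CommRing A] [Algebra R A]
    [Algebra.FinitePresentation R A] :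
    ∃ (C : Type u) (_ : CommRing C) (_ : Algebra A C) (_ : Algebra R C) (_ : IsScalarTower R A C),
      Algebra.FiniteType A C ∧ Nonempty (C →ₐ[A] A) ∧
      ∀ a : A, Algebra.Smooth R (Localization.Away a) →
        Module.Free (Localization.Away (algebraMap A C a)) Ω[Localization.Away (algebraMap A C a)⁄R] := by
  obtain ⟨n0, f0, hf0, hker⟩ := Algebra.FinitePresentation.out (R := R) (A := A)
  obtain ⟨m1, g, hg⟩ := Submodule.fg_iff_exists_fin_generating_family.1 hker
  let P : MarkedPresentation R A :=
    { n := n0, m := m1, c := 0, hcn := Nat.zero_le _, hcm := Nat.zero_le _, rel := g,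
      hom := f0, surj := hf0, ker_eq := hg.symm }
  haveI := finite_cot P
  letI algRC : Algebra R (SymmetricAlgebra A (G P).toExtension.Cotangent) :=
    ((algebraMap A (SymmetricAlgebra A (G P).toExtension.Cotangent)).comp (algebraMap R A)).toAlgebra
  haveI tow : IsScalarTower R A (SymmetricAlgebra A (G P).toExtension.Cotangent) :=
    IsScalarTower.of_algebraMap_eq' rfl
  refine ⟨SymmetricAlgebra A (G P).toExtension.Cotangent, inferInstance, inferInstance, algRC, tow,
    finiteType_sym, ⟨SymmetricAlgebra.algebraMapInv⟩, ?_⟩
  intro a ha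
  haveI : Algebra.FormallySmooth R (Localization.Away a) := Algebra.Smooth.formallySmooth
  obtain ⟨e⟩ := exists_equiv P a
  exact @key R A _ _ _ _ _ _ _ algRC tow a P.n e

end Groth.Agent.S2110
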