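import Groth.Statements.S9630
import Mathlib
import Groth.Agent.Lib.Helper48.NilPrime
-- import your own Groth.Agent.* helpers here

set_option autoImplicit false
universe u
open CAlg

namespace Groth.Agent.S9630

open TensorProduct in
/-- For a field k and a k-algebra R the following are equivalent: (1) Spec(k' ⊗_k R) is irreducible for
every field extension k'/k; (2) the same for every finite separable extension k'/k; (3) Spec(k^sep
⊗_k R) is irreducible for the separable closure k^sep; (4) Spec(k̄ ⊗_k R) is irreducible for the
algebraic closure k̄. Here the test fields range over field extensions in the universe of k; this is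
equivalent to the unrestricted notion, since an algebraic closure of k suffices as a test. -/
theorem result {k R : Type u} [Field k] [CommRing R] [Algebra k R] :
    [∀ (k' : Type u) [Field k'] [Algebra k k'], IrreducibleSpace (PrimeSpectrum (k' ⊗[k] R)),
      ∀ (k' : Type u) [Field k'] [Algebra k k'] [Module.Finite k k'] [Algebra.IsSeparable k k'], IrreducibleSpace (PrimeSpectrum (k' ⊗[k] R)),
      IrreducibleSpace (PrimeSpectrum (SeparableClosure k ⊗[k] R)),
      IrreducibleSpace (PrimeSpectrum (AlgebraicClosure k ⊗[k] R))].TFAE := by
  simp only [PrimeSpectrum.irreducibleSpace_iff_isPrime_nilradical]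
  tfae_have 1 → 2 := fun h k' _ _ _ _ => h k'
  tfae_have 2 → 3 := by
    intro h
    apply Groth.Agent.Lib.Helper48.NP.np_of_forall_finite
    intro E hE
    haveI : Algebra.IsSeparable k E :=
      Algebra.isSeparable_tower_bot_of_isSeparable k E (SeparableClosure k)
    exact h E
  tfae_have 3 → 4 := fun h =>
    Groth.Agent.Lib.Helper48.NP.np_of_isPurelyInseparable (F := SeparableClosure k) h
  tfae_have 4 → 1 := by
    intro h k' _ _
    let f : AlgebraicClosure k →ₐ[k] AlgebraicClosure k' := IsAlgClosed.lift
    letI : Algebra (AlgebraicClosure k) (AlgebraicClosure k') := f.toRingHom.toAlgebra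
    haveI : IsScalarTower k (AlgebraicClosure k) (AlgebraicClosure k') :=
      IsScalarTower.of_algebraMap_eq (fun x => (f.commutes x).symm)
    have h1 : (nilradical (AlgebraicClosure k' ⊗[AlgebraicClosure k]
        (AlgebraicClosure k ⊗[k] R))).IsPrime :=
      Groth.Agent.Lib.Helper48.NP.np_tensor_of_isAlgClosed h
    have h2 : (nilradical (AlgebraicClosure k' ⊗[k] R)).IsPrime :=
      Groth.Agent.Lib.Helper48.NP.np_of_injective
        (Algebra.TensorProduct.cancelBaseChange k (AlgebraicClosure k)
          (AlgebraicClosure k) (AlgebraicClosure k') R).symm.toRingEquiv.toRingHom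
        (RingEquiv.injective _) h1
    have h_inj : Function.Injective (Algebra.TensorProduct.map
        (IsScalarTower.toAlgHom k k' (AlgebraicClosure k')) (AlgHom.id k R)) :=
      Module.Flat.rTensor_preserves_injective_linearMap _ (RingHom.injective _)
    exact Groth.Agent.Lib.Helper48.NP.np_of_injective
      (Algebra.TensorProduct.map
        (IsScalarTower.toAlgHom k k' (AlgebraicClosure k')) (AlgHom.id k R)).toRingHom h_inj h2
  tfae_finish

end Groth.Agent.S9630
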