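import Groth.Statements.S2112
import Mathlib
import Groth.Agent.Lib.Helper48.NilPrime
import Groth.Agent.Lib.Helper48.TensorFiber2
import Groth.Agent.S9630
-- import your own Groth.Agent.* helpers here

set_option autoImplicit false
universe u
open CAlg

namespace Groth.Agent.S2112

theorem hasUnique_iff {A : Type u} [CommRing A] :
    CAlgX.HasUniqueMinimalPrime A ↔ (nilradical A).IsPrime := by
  constructor
  · rintro ⟨p, hp, huniq⟩
    have hset : minimalPrimes A = {p} :=
      Set.eq_singleton_iff_unique_mem.mpr ⟨hp, fun q hq => huniq q hq⟩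
    have h1 : sInf (minimalPrimes A) = nilradical A := by
      rw [minimalPrimes, Ideal.sInf_minimalPrimes]
      rfl
    rw [← h1, hset, sInf_singleton]
    exact Ideal.minimalPrimes_isPrime hp
  · intro hN
    refine ⟨nilradical A, ?_, ?_⟩
    · exact ⟨⟨hN, bot_le⟩, fun q hq _ => @nilradical_le_prime _ _ q hq.1⟩
    · intro p hp
      have hp' : p.IsPrime := Ideal.minimalPrimes_isPrime hp
      have hle : nilradical A ≤ p := @nilradical_le_prime _ _ p hp'
      exact le_antisymm (hp.2 ⟨hN, bot_le⟩ hle) hle

open TensorProduct in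
/-- Let `k` be a separably closed field and `R`, `S` two `k`-algebras each having exactly one minimal
prime ideal. Then `R ⊗_k S` has exactly one minimal prime ideal. -/
theorem result {k R S : Type u} [Field k] [IsSepClosed k] [CommRing R] [CommRing S]
    [Algebra k R] [Algebra k S] (hR : CAlgX.HasUniqueMinimalPrime R) (hS : CAlgX.HasUniqueMinimalPrime S) :
    CAlgX.HasUniqueMinimalPrime (R ⊗[k] S) := by
  rw [hasUnique_iff] at hR hS ⊢
  haveI : IrreducibleSpace (PrimeSpectrum R) :=
    PrimeSpectrum.irreducibleSpace_iff_isPrime_nilradical.mpr hR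
  have h0 : (nilradical (k ⊗[k] S)).IsPrime :=
    Groth.Agent.Lib.Helper48.NP.np_of_injective
      (Algebra.TensorProduct.lid k S).toRingEquiv.toRingHom
      (Algebra.TensorProduct.lid k S).toRingEquiv.injective hS
  have h1 : (nilradical (AlgebraicClosure k ⊗[k] S)).IsPrime :=
    Groth.Agent.Lib.Helper48.NP.np_of_isPurelyInseparable (F := k) h0
  have h2 : IrreducibleSpace (PrimeSpectrum (AlgebraicClosure k ⊗[k] S)) :=
    PrimeSpectrum.irreducibleSpace_iff_isPrime_nilradical.mpr h1
  have h3 : ∀ (k' : Type u) [Field k'] [Algebra k k'],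
      IrreducibleSpace (PrimeSpectrum (k' ⊗[k] S)) :=
    ((Groth.Agent.S9630.result (k := k) (R := S)).out 3 0).mp h2
  exact PrimeSpectrum.irreducibleSpace_iff_isPrime_nilradical.mp
    (Groth.Agent.Lib.Helper48.irreducibleSpace_tensor k R S h3)

end Groth.Agent.S2112
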