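import Groth.Statements.S2114
-- import your own Groth.Agent.* helpers here
import Groth.Agent.Lib.Helper88.Japanese8

set_option autoImplicit false
universe u
open CAlg

namespace Groth.Agent.S2114

/-- Let `R ⊆ S` be an extension of domains which is of finite type and quasi-finite, with `R` Noetherian
and N-2 (integral closures in finite extensions of the fraction field are finite). Then `S` is N-2. -/
theorem result {R S : Type u} [CommRing R] [IsDomain R] [IsNoetherianRing R] [CommRing S]
    [IsDomain S] [Algebra R S] (hinj : Function.Injective (algebraMap R S)) [Algebra.FiniteType R S]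
    [Algebra.QuasiFinite R S] (hR : CAlg.IsN2 R) : CAlg.IsN2 S := by
  classical
  open Groth.Agent.Lib.Helper88 in
  -- for each prime, a basic open neighbourhood on which `S` is N-2
  have key : ∀ q : Ideal S, q.IsPrime → ∃ g : S, g ∉ q ∧ g ≠ 0 ∧
      ∀ [IsDomain (Localization.Away g)], CAlg.IsN2 (Localization.Away g) := by
    intro q hq
    obtain ⟨S', hS', r, hrq, hbij⟩ :=
      Algebra.QuasiFiniteAt.exists_fg_and_exists_notMem_and_awayMap_bijective (R := R) q
    haveI : Module.Finite R S' := ⟨(Submodule.fg_top _).mpr hS'⟩
    have hinj' : Function.Injective (algebraMap R S') := by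
      intro a b hab
      apply hinj
      have := congrArg (S'.val) hab
      simpa using this
    have h1 : CAlg.IsN2 S' := isN2_of_finite_extension R S' hinj' hR
    have hr0 : r ≠ 0 := by
      rintro rfl
      exact hrq (by simp)
    have hr0' : (r : S) ≠ 0 := by
      intro h
      exact hrq (by rw [h]; exact q.zero_mem)
    haveI : IsDomain (Localization.Away r) :=
      IsLocalization.isDomain_localization (powers_le_nonZeroDivisors_of_noZeroDivisors hr0)
    have h2 : CAlg.IsN2 (Localization.Away r) :=
      isN2_of_isLocalization S' (Submonoid.powers r) _ h1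
    refine ⟨(r : S), hrq, hr0', ?_⟩
    intro hd
    let e : Localization.Away r ≃+* Localization.Away (S'.val.toRingHom r) :=
      RingEquiv.ofBijective _ hbij
    exact isN2_of_ringEquiv e h2
  -- the good elements generate the unit ideal
  let P : Set S := {g | g ≠ 0 ∧ ∀ [IsDomain (Localization.Away g)], CAlg.IsN2 (Localization.Away g)}
  have htop : Ideal.span P = ⊤ := by
    by_contra hne
    obtain ⟨m, hm, hle⟩ := Ideal.exists_le_maximal _ hne
    obtain ⟨g, hgm, hg0, hg⟩ := key m hm.isPrime
    exact hgm (hle (Ideal.subset_span ⟨hg0, hg⟩))
  obtain ⟨T, hTP, hT⟩ := (Ideal.span_eq_top_iff_finite P).mp htop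
  haveI : ∀ i : T, IsDomain (Localization.Away (i : S)) := fun i =>
    IsLocalization.isDomain_localization
      (powers_le_nonZeroDivisors_of_noZeroDivisors (hTP i.2).1)
  rw [isN2_iff]
  apply isN2'_of_localizationSpan S (fun i : T => (i : S)) (by
      have : (Set.range fun i : T => (i : S)) = (T : Set S) := Subtype.range_coe
      rw [this]; exact hT)
    (fun i => Localization.Away (i : S))
  intro i
  rw [← isN2_iff]
  exact (hTP i.2).2

end Groth.Agent.S2114
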