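import Groth.Statements.S2119
import Mathlib

set_option autoImplicit false
universe u
open CAlg

namespace Groth.Agent.S2119

section
variable {A : Type u} [CommRing A] [IsDomain A] (P : Set A) (hP : ∀ p ∈ P, Prime p)

include hP in
lemma closure_ne_zero {s : A} (hs : s ∈ Submonoid.closure P) : s ≠ 0 := by
  induction hs using Submonoid.closure_induction with
  | mem x hx => exact (hP x hx).ne_zero
  | one => exact one_ne_zero
  | mul x y _ _ hx hy => exact mul_ne_zero hx hy

include hP in
/-- cancellation of elements of `S` against an element with no factor in `P` -/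
lemma cancel {s : A} (hs : s ∈ Submonoid.closure P) (a : A) (ha : ∀ p ∈ P, ¬ p ∣ a) :
    ∀ x z : A, s * x = a * z → a ∣ x := by
  induction hs using Submonoid.closure_induction with
  | mem p hp =>
    intro x z h
    have hpr := hP p hp
    have h1 : p ∣ a * z := ⟨x, h.symm⟩
    rcases hpr.dvd_or_dvd h1 with h2 | h2
    · exact absurd h2 (ha p hp)
    · obtain ⟨z', rfl⟩ := h2
      refine ⟨z', ?_⟩
      have : p * x = p * (a * z') := by rw [h]; ring
      exact mul_left_cancel₀ hpr.ne_zero this
  | one =>
    intro x z h
    rw [one_mul] at h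
    exact ⟨z, h⟩
  | mul s₁ s₂ _ _ h₁ h₂ =>
    intro x z h
    obtain ⟨z', hz'⟩ := h₁ (s₂ * x) z (by rw [← mul_assoc]; exact h)
    exact h₂ x z' hz'

include hP in
/-- splitting a factorization `s * a = b * c` -/
lemma split {s : A} (hs : s ∈ Submonoid.closure P) :
    ∀ a b c : A, s * a = b * c → ∃ s₁ ∈ Submonoid.closure P, ∃ s₂ ∈ Submonoid.closure P,
      ∃ b' c' : A, b = s₁ * b' ∧ c = s₂ * c' ∧ a = b' * c' := by
  induction hs using Submonoid.closure_induction with
  | mem p hp =>
    intro a b c h
    have hpr := hP p hp
    have h1 : p ∣ b * c := ⟨a, h.symm⟩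
    rcases hpr.dvd_or_dvd h1 with ⟨b', rfl⟩ | ⟨c', rfl⟩
    · refine ⟨p, Submonoid.subset_closure hp, 1, Submonoid.one_mem _, b', c, rfl, (one_mul c).symm, ?_⟩
      have : p * a = p * (b' * c) := by rw [h]; ring
      exact mul_left_cancel₀ hpr.ne_zero this
    · refine ⟨1, Submonoid.one_mem _, p, Submonoid.subset_closure hp, b, c', (one_mul b).symm, rfl, ?_⟩
      have : p * a = p * (b * c') := by rw [h]; ring
      exact mul_left_cancel₀ hpr.ne_zero this
  | one =>
    intro a b c h
    rw [one_mul] at h
    exact ⟨1, Submonoid.one_mem _, 1, Submonoid.one_mem _, b, c, (one_mul b).symm, (one_mul c).symm, h⟩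
  | mul s₁ s₂ _ _ h₁ h₂ =>
    intro a b c h
    obtain ⟨t₁, ht₁, t₂, ht₂, b', c', rfl, rfl, h'⟩ := h₁ (s₂ * a) b c (by rw [← mul_assoc]; exact h)
    obtain ⟨u₁, hu₁, u₂, hu₂, b'', c'', rfl, rfl, h''⟩ := h₂ a b' c' h'
    exact ⟨t₁ * u₁, Submonoid.mul_mem _ ht₁ hu₁, t₂ * u₂, Submonoid.mul_mem _ ht₂ hu₂, b'', c'',
      by ring, by ring, h''⟩

end
/-- Nagata's criterion for factoriality, final assertion: let `A` be a domain in which every nonzero
nonunit factors into irreducibles, and `S` the multiplicative subset generated by a set of prime
elements. If the localization `S⁻¹A` is a unique factorization domain, then so is `A`. -/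
theorem result {A : Type u} [CommRing A] [IsDomain A]
    (hfac : ∀ a : A, a ≠ 0 → ¬ IsUnit a → ∃ f : Multiset A, (∀ b ∈ f, Irreducible b) ∧ Associated f.prod a) (P : Set A)
    (hP : ∀ p ∈ P, Prime p) [IsDomain (Localization (Submonoid.closure P))]
    (hS : UniqueFactorizationMonoid (Localization (Submonoid.closure P))) : UniqueFactorizationMonoid A := by
  set S := Submonoid.closure P with hSdef
  let L := Localization S
  have hS0 : S ≤ nonZeroDivisors A := by
    intro s hs
    exact mem_nonZeroDivisors_of_ne_zero (closure_ne_zero P hP hs)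
  have hinj : Function.Injective (algebraMap A L) := IsLocalization.injective L hS0
  -- irreducible implies prime
  have hirr : ∀ a : A, Irreducible a → Prime a := by
    intro a ha
    by_cases hdiv : ∃ p ∈ P, p ∣ a
    · obtain ⟨p, hp, hpa⟩ := hdiv
      have hpr := hP p hp
      have : Associated p a := Irreducible.associated_of_dvd hpr.irreducible ha hpa
      exact this.prime hpr
    · push Not at hdiv
      -- `a` is irreducible in the localization
      have hirrL : Irreducible (algebraMap A L a) := by
        constructor
        · intro hu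
          obtain ⟨w, hw⟩ := hu.exists_right_inv
          obtain ⟨b, t, rfl⟩ := IsLocalization.exists_mk'_eq S w
          have h1 : algebraMap A L (a * b) = algebraMap A L t := by
            rw [map_mul, ← IsLocalization.mk'_spec L b t, ← mul_assoc, hw, one_mul]
          have h2 : a * b = t := hinj h1
          have h3 : a ∣ 1 := cancel P hP t.2 a hdiv 1 b (by rw [mul_one, h2])
          exact ha.not_isUnit (isUnit_of_dvd_one h3)
        · intro u v huv
          obtain ⟨b, s, rfl⟩ := IsLocalization.exists_mk'_eq S u
          obtain ⟨c, t, rfl⟩ := IsLocalization.exists_mk'_eq S v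
          have h1 : algebraMap A L ((s * t : S) * a) = algebraMap A L (b * c) := by
            rw [map_mul, map_mul, huv, Submonoid.coe_mul, map_mul,
              ← IsLocalization.mk'_spec L b s, ← IsLocalization.mk'_spec L c t]
            ring
          have h2 : ((s * t : S) : A) * a = b * c := hinj h1
          obtain ⟨s₁, hs₁, s₂, hs₂, b', c', rfl, rfl, habc⟩ := split P hP (s * t).2 a b c h2
          rcases ha.isUnit_or_isUnit habc with hb | hc
          · left
            have hub : IsUnit (algebraMap A L (s₁ * b')) := by
              rw [map_mul]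
              exact (IsLocalization.map_units L ⟨s₁, hs₁⟩).mul (hb.map _)
            have := IsLocalization.mk'_spec L (s₁ * b') s
            rw [← this] at hub
            exact isUnit_of_mul_isUnit_left hub
          · right
            have huc : IsUnit (algebraMap A L (s₂ * c')) := by
              rw [map_mul]
              exact (IsLocalization.map_units L ⟨s₂, hs₂⟩).mul (hc.map _)
            have := IsLocalization.mk'_spec L (s₂ * c') t
            rw [← this] at huc
            exact isUnit_of_mul_isUnit_left huc
      have hprL : Prime (algebraMap A L a) := UniqueFactorizationMonoid.irreducible_iff_prime.1 hirrL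
      refine ⟨ha.ne_zero, ha.not_isUnit, ?_⟩
      intro x y hxy
      have hdvd : algebraMap A L a ∣ algebraMap A L x * algebraMap A L y := by
        rw [← map_mul]; exact map_dvd _ hxy
      have key : ∀ x : A, algebraMap A L a ∣ algebraMap A L x → a ∣ x := by
        intro x hx
        obtain ⟨w, hw⟩ := hx
        obtain ⟨z, t, rfl⟩ := IsLocalization.exists_mk'_eq S w
        have h1 : algebraMap A L ((t : A) * x) = algebraMap A L (a * z) := by
          rw [map_mul, map_mul, hw, ← IsLocalization.mk'_spec L z t]
          ring
        exact cancel P hP t.2 a hdiv x z (hinj h1)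
      rcases hprL.dvd_or_dvd hdvd with h | h
      · exact Or.inl (key x h)
      · exact Or.inr (key y h)
  apply UniqueFactorizationMonoid.of_exists_prime_factors
  intro a ha
  by_cases hu : IsUnit a
  · exact ⟨0, by simp, by rw [Multiset.prod_zero]; exact (associated_one_iff_isUnit.2 hu).symm⟩
  · obtain ⟨f, hf, hfa⟩ := hfac a ha hu
    exact ⟨f, fun b hb => hirr b (hf b hb), hfa⟩

end Groth.Agent.S2119
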