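import Groth.Statements.S2120
import Mathlib.AlgebraicGeometry.Morphisms.Immersion

set_option autoImplicit false
universe u
open CategoryTheory AlgebraicGeometry
open Mor

namespace Groth.Agent.S2120

/-- Let `f : X → Y` be surjective and universally closed. If `X` is quasi-separated then so is `Y`; if
`X` is separated then so is `Y`. -/
theorem result {X Y : Scheme.{u}} (f : X ⟶ Y) [Surjective f] [UniversallyClosed f] :
    (QuasiSeparatedSpace X → QuasiSeparatedSpace Y) ∧ (X.IsSeparated → Y.IsSeparated) := by
  refine ⟨fun hX => ?_, fun hX => ?_⟩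
  · -- quasi-separated
    rw [quasiSeparatedSpace_iff_forall_affineOpens]
    intro U V
    have hU : IsCompact (f ⁻¹ᵁ U.1 : Set X) :=
      QuasiCompact.isCompact_preimage (f := f) _ U.1.2 U.2.isCompact
    have hV : IsCompact (f ⁻¹ᵁ V.1 : Set X) :=
      QuasiCompact.isCompact_preimage (f := f) _ V.1.2 V.2.isCompact
    have hUV : IsCompact ((f ⁻¹ᵁ U.1 : Set X) ∩ (f ⁻¹ᵁ V.1 : Set X)) :=
      QuasiSeparatedSpace.inter_isCompact _ _ (f ⁻¹ᵁ U.1).2 hU (f ⁻¹ᵁ V.1).2 hV
    have himg : f.base '' ((f ⁻¹ᵁ U.1 : Set X) ∩ (f ⁻¹ᵁ V.1 : Set X)) = (U.1 : Set Y) ∩ (V.1 : Set Y) := by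
      ext y
      constructor
      · rintro ⟨x, ⟨hx1, hx2⟩, rfl⟩
        exact ⟨hx1, hx2⟩
      · rintro ⟨hy1, hy2⟩
        obtain ⟨x, rfl⟩ := f.surjective y
        exact ⟨x, ⟨hy1, hy2⟩, rfl⟩
    rw [← himg]
    exact hUV.image f.continuous
  · -- separated
    have hXs : IsSeparated (Limits.terminal.from X) := inferInstance
    have hΔX : IsClosedImmersion (Limits.pullback.diagonal (Limits.terminal.from X)) :=
      IsSeparated.isClosedImmersion_diagonal
    let F : Limits.pullback (Limits.terminal.from X) (Limits.terminal.from X) ⟶
        Limits.pullback (Limits.terminal.from Y) (Limits.terminal.from Y) :=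
      Limits.pullback.map (Limits.terminal.from X) (Limits.terminal.from X)
        (Limits.terminal.from Y) (Limits.terminal.from Y) f f (𝟙 _)
        ((Category.comp_id _).trans (Limits.terminal.comp_from f).symm)
        ((Category.comp_id _).trans (Limits.terminal.comp_from f).symm)
    have hF : UniversallyClosed F :=
      MorphismProperty.pullbackMap (P := @UniversallyClosed) (i₁ := f) (i₂ := f)
        inferInstance inferInstance (Limits.terminal.comp_from f).symm
        (Limits.terminal.comp_from f).symm
    have hcomm : Limits.pullback.diagonal (Limits.terminal.from X) ≫ F =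
        f ≫ Limits.pullback.diagonal (Limits.terminal.from Y) := by
      apply Limits.pullback.hom_ext
      · simp only [F, Category.assoc, Limits.pullback.map, Limits.pullback.lift_fst,
          Limits.pullback.diagonal_fst_assoc, Limits.pullback.diagonal_fst, Category.comp_id]
      · simp only [F, Category.assoc, Limits.pullback.map, Limits.pullback.lift_snd,
          Limits.pullback.diagonal_snd_assoc, Limits.pullback.diagonal_snd, Category.comp_id]
    have hrange : Set.range (Limits.pullback.diagonal (Limits.terminal.from Y)).base =
        F.base '' Set.range (Limits.pullback.diagonal (Limits.terminal.from X)).base := by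
      have h1 : Set.range (f ≫ Limits.pullback.diagonal (Limits.terminal.from Y)).base =
          Set.range (Limits.pullback.diagonal (Limits.terminal.from Y)).base := by
        rw [Scheme.Hom.comp_base, TopCat.coe_comp, Set.range_comp, f.surjective.range_eq,
          Set.image_univ]
      rw [← h1, ← hcomm, Scheme.Hom.comp_base, TopCat.coe_comp, Set.range_comp]
    have hclosed : IsClosed (Set.range (Limits.pullback.diagonal (Limits.terminal.from Y)).base) := by
      rw [hrange]
      exact F.isClosedMap _ (Limits.pullback.diagonal (Limits.terminal.from X)).isClosedEmbedding.isClosed_range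
    have hΔY : IsClosedImmersion (Limits.pullback.diagonal (Limits.terminal.from Y)) :=
      IsClosedImmersion.of_isPreimmersion _ hclosed
    exact ⟨⟨hΔY⟩⟩

end Groth.Agent.S2120
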