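import Groth.Statements.S2126
import Groth.Agent.Lib.Ample.Helper50_Basis

set_option autoImplicit false
universe u
open CategoryTheory AlgebraicGeometry
open Mor

namespace Groth.Agent.S2126

/-- Let `X` be a quasi-compact scheme and `L` an invertible `O_X`-module. Then `L` is ample if and only
if the opens `X_s`, for `s` a global section of some positive tensor power of `L`, form a basis for
the topology of `X`. -/
theorem result {X : Scheme.{u}} [CompactSpace X] (L : X.Modules) (hL : PicF.IsInvertible L) :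
    CohB1.IsAmple L ↔
      TopologicalSpace.Opens.IsBasis
        {U : X.Opens | ∃ (n : ℕ) (s : Coh.structureModule X ⟶ CohB1.tensorPow L (n + 1)), U = CohB1.genLocus _ s} := by
  constructor
  · intro hamp
    rw [TopologicalSpace.Opens.isBasis_iff_nbhd]
    intro U x hxU
    obtain ⟨n, t, hxt, htU, -⟩ :=
      Groth.Agent.Lib.Ample.exists_affine_genLocus_nbhd_of_isAmple hamp x U hxU
    exact ⟨_, ⟨n, t, rfl⟩, hxt, htU⟩
  · intro hB
    rw [TopologicalSpace.Opens.isBasis_iff_nbhd] at hB
    refine ⟨hL, inferInstance, fun x => ?_⟩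
    obtain ⟨V, hVaff, hxV, -, hgen⟩ :=
      Groth.Agent.Lib.Ample.exists_isAffineOpen_forall_isGenerator_tensorPow hL x ⊤ trivial
    obtain ⟨W, ⟨n, s, rfl⟩, hxW, hWV⟩ := hB hxV
    obtain ⟨e, he⟩ := hgen (n + 1)
    exact ⟨n, s, hxW,
      Groth.Agent.Lib.Ample.isAffineOpen_genLocus_of_le_of_isGenerator s hVaff he hWV⟩

end Groth.Agent.S2126
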