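import Groth.Statements.S2131
import Mathlib.RingTheory.Localization.Module

set_option autoImplicit false
universe u
open CAlg

namespace Groth.Agent.S2131


/-- bijectivity after inverting `g` implies bijectivity at every prime not containing `g` -/
theorem bijective_at_prime_of_away {R M N : Type u} [CommRing R] [AddCommGroup M] [Module R M]
    [AddCommGroup N] [Module R N] (φ : M →ₗ[R] N) (g : R)
    (hbij : Function.Bijective (LocalizedModule.map (Submonoid.powers g) φ))
    (q : Ideal R) [q.IsPrime] (hg : g ∉ q) :
    Function.Bijective (LocalizedModule.map q.primeCompl φ) := by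
  have hpow : ∀ u : Submonoid.powers g, (u : R) ∈ q.primeCompl := by
    rintro ⟨_, k, rfl⟩
    exact q.primeCompl.pow_mem hg k
  constructor
  · rw [injective_iff_map_eq_zero]
    intro x hx
    induction x using LocalizedModule.induction_on with
    | h m s =>
      rw [LocalizedModule.map_mk, ← LocalizedModule.zero_mk (1 : q.primeCompl),
        LocalizedModule.mk_eq] at hx
      obtain ⟨t, ht⟩ := hx
      simp only [one_smul, smul_zero] at ht
      -- t • φ m = 0
      have h1 : LocalizedModule.map (Submonoid.powers g) φ
          (LocalizedModule.mk ((t : R) • m) (1 : Submonoid.powers g)) = 0 := by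
        rw [LocalizedModule.map_mk, map_smul]
        have : (t : R) • φ m = 0 := ht
        rw [this, LocalizedModule.zero_mk]
      have h2 := hbij.1 (h1.trans (map_zero _).symm)
      rw [← LocalizedModule.zero_mk (1 : Submonoid.powers g), LocalizedModule.mk_eq] at h2
      obtain ⟨u, hu⟩ := h2
      simp only [one_smul, smul_zero] at hu
      rw [← LocalizedModule.zero_mk (1 : q.primeCompl), LocalizedModule.mk_eq]
      refine ⟨⟨(u : R), hpow u⟩ * t, ?_⟩
      simp only [one_smul, smul_zero]
      rw [mul_smul]
      exact hu
  · intro y
    induction y using LocalizedModule.induction_on with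
    | h n s =>
      obtain ⟨x, hx⟩ := hbij.2 (LocalizedModule.mk n (1 : Submonoid.powers g))
      induction x using LocalizedModule.induction_on with
      | h m v =>
        rw [LocalizedModule.map_mk, LocalizedModule.mk_eq] at hx
        obtain ⟨u, hu⟩ := hx
        simp only [one_smul] at hu
        -- u • φ m = u • v • n
        refine ⟨LocalizedModule.mk m (⟨(v : R), hpow v⟩ * s), ?_⟩
        rw [LocalizedModule.map_mk, LocalizedModule.mk_eq]
        refine ⟨⟨(u : R), hpow u⟩, ?_⟩
        change (u : R) • (s : R) • φ m = (u : R) • ((v : R) * (s : R)) • n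
        have hu' : (u : R) • φ m = (u : R) • (v : R) • n := hu
        rw [smul_comm (u : R) (s : R), hu', mul_smul, smul_comm (s : R) (u : R),
          smul_comm (s : R) (v : R)]

/-- For an `R`-linear map from a finite module to a finitely presented module, the primes at which its
localization is bijective form an open subset of `Spec R`. -/
theorem result {R M N : Type u} [CommRing R] [AddCommGroup M] [Module R M] [Module.Finite R M]
    [AddCommGroup N] [Module R N] [Module.FinitePresentation R N] (φ : M →ₗ[R] N) :
    IsOpen {p : PrimeSpectrum R | Function.Bijective (LocalizedModule.map p.asIdeal.primeCompl φ)} := by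
  rw [isOpen_iff_forall_mem_open]
  intro p hp
  have hp' : Function.Bijective (LocalizedModule.map p.asIdeal.primeCompl φ) := hp
  rw [← IsLocalizedModule.map_bijective_iff_localizedModuleMap_bijective
    (LocalizedModule.mkLinearMap p.asIdeal.primeCompl M)
    (LocalizedModule.mkLinearMap p.asIdeal.primeCompl N)] at hp'
  obtain ⟨g, hg, hbij⟩ := Module.FinitePresentation.exists_notMem_bijective φ p.asIdeal
    (LocalizedModule.mkLinearMap p.asIdeal.primeCompl M)
    (LocalizedModule.mkLinearMap p.asIdeal.primeCompl N) hp'
  refine ⟨PrimeSpectrum.basicOpen g, ?_, (PrimeSpectrum.basicOpen g).isOpen, hg⟩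
  intro q hq
  exact bijective_at_prime_of_away φ g hbij q.asIdeal hq

end Groth.Agent.S2131
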