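import Groth.Statements.S2132
import Mathlib

set_option autoImplicit false
universe u
open CategoryTheory
open CAlg

namespace Groth.Agent.S2132

section
open CategoryTheory Limits Polynomial IsLocalRing

variable {J : Type u} [SmallCategory J] [IsFiltered J] (F : J ⥤ CommRingCat.{u})
  (c : Limits.Cocone F) (hc : Limits.IsColimit c)

include hc in
theorem exists_rep (x : c.pt) : ∃ (j : J) (y : F.obj j), (c.ι.app j).hom y = x :=
  Concrete.isColimit_exists_rep F hc x

include hc in
theorem exists_of_eq {i j : J} (x : F.obj i) (y : F.obj j)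
    (h : (c.ι.app i).hom x = (c.ι.app j).hom y) :
    ∃ (k : J) (f : i ⟶ k) (g : j ⟶ k), (F.map f).hom x = (F.map g).hom y :=
  Concrete.isColimit_exists_of_rep_eq F hc x y h

theorem ι_map {i k : J} (f : i ⟶ k) (x : F.obj i) :
    (c.ι.app k).hom ((F.map f).hom x) = (c.ι.app i).hom x := by
  have := c.w f
  rw [← this]
  rfl

include hc in
theorem isUnit_of_ι (hloc : ∀ (i j : J) (a : i ⟶ j), IsLocalHom (F.map a).hom) {j : J}
    (x : F.obj j) (h : IsUnit ((c.ι.app j).hom x)) : IsUnit x := by
  obtain ⟨z, hz⟩ := h.exists_right_inv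
  obtain ⟨k, y, rfl⟩ := exists_rep F c hc z
  let l := IsFiltered.max j k
  let a : j ⟶ l := IsFiltered.leftToMax j k
  let b : k ⟶ l := IsFiltered.rightToMax j k
  have h1 : (c.ι.app l).hom ((F.map a).hom x * (F.map b).hom y) = (c.ι.app l).hom 1 := by
    rw [map_mul, ι_map, ι_map, hz, map_one]
  obtain ⟨m, f, g, hfg⟩ := exists_of_eq F c hc _ _ h1
  have h2 : (F.map (a ≫ f)).hom x * (F.map f).hom ((F.map b).hom y) = 1 := by
    rw [map_mul, map_one] at hfg
    rw [← hfg, F.map_comp]
    rfl
  have h3 : IsUnit ((F.map (a ≫ f)).hom x) := IsUnit.of_mul_eq_one _ h2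
  have := hloc j m (a ≫ f)
  exact IsLocalHom.map_nonunit x h3

include hc in
theorem exists_stage_finset (s : Finset c.pt) :
    ∃ j : J, ∀ x ∈ s, x ∈ Set.range (c.ι.app j).hom := by
  classical
  induction s using Finset.induction_on with
  | empty =>
    have : Nonempty J := IsFiltered.nonempty
    exact ⟨Classical.arbitrary J, by simp⟩
  | insert x s hx ih =>
    obtain ⟨j, hj⟩ := ih
    obtain ⟨k, y, hy⟩ := exists_rep F c hc x
    refine ⟨IsFiltered.max j k, fun z hz => ?_⟩
    rcases Finset.mem_insert.mp hz with rfl | hz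
    · exact ⟨(F.map (IsFiltered.rightToMax j k)).hom y, by rw [ι_map, hy]⟩
    · obtain ⟨w, hw⟩ := hj z hz
      exact ⟨(F.map (IsFiltered.leftToMax j k)).hom w, by rw [ι_map, hw]⟩

include hc in
theorem isLocalRing_pt (hF : ∀ j, IsLocalRing (F.obj j))
    (hloc : ∀ (i j : J) (a : i ⟶ j), IsLocalHom (F.map a).hom) : IsLocalRing c.pt := by
  have hnt : Nontrivial c.pt := by
    refine ⟨⟨0, 1, fun h01 => ?_⟩⟩
    have : Nonempty J := IsFiltered.nonempty
    let j : J := Classical.arbitrary J
    have h1 : (c.ι.app j).hom 0 = (c.ι.app j).hom 1 := by rw [map_zero, map_one, h01]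
    obtain ⟨k, f, g, hfg⟩ := exists_of_eq F c hc _ _ h1
    rw [map_zero, map_one] at hfg
    have := hF k
    exact zero_ne_one hfg
  refine IsLocalRing.of_isUnit_or_isUnit_one_sub_self (fun a => ?_)
  obtain ⟨j, b, rfl⟩ := exists_rep F c hc a
  have := hF j
  rcases IsLocalRing.isUnit_or_isUnit_one_sub_self b with h | h
  · exact Or.inl (h.map _)
  · right
    have := h.map (c.ι.app j).hom
    rwa [map_sub, map_one] at this

end

/-- Let `F : J ⥤ CommRingCat` be a filtered diagram of henselian local rings with local transition maps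
and `c` a colimit cocone. Then the colimit is a henselian local ring. -/
theorem result {J : Type u} [SmallCategory J] [IsFiltered J] (F : J ⥤ CommRingCat.{u})
    (hF : ∀ j, HenselianLocalRing (F.obj j)) (hloc : ∀ (i j : J) (a : i ⟶ j), IsLocalHom (F.map a).hom)
    (c : Limits.Cocone F) (hc : Limits.IsColimit c) : HenselianLocalRing c.pt := by
  classical
  have hloc' : IsLocalRing c.pt :=
    isLocalRing_pt F c hc (fun j => (hF j).toIsLocalRing) hloc
  refine { toIsLocalRing := hloc', is_henselian := ?_ }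
  intro f hf a₀ h₁ h₂
  obtain ⟨j, hj⟩ := exists_stage_finset F c hc (insert a₀ f.coeffs)
  let φ : (F.obj j) →+* c.pt := (c.ι.app j).hom
  have hlift : f ∈ Polynomial.lifts φ := by
    rw [Polynomial.lifts_iff_coeffs_subset_range]
    intro x hx
    exact hj x (Finset.mem_insert_of_mem hx)
  obtain ⟨q, hq, -, hqm⟩ := Polynomial.lifts_and_degree_eq_and_monic hlift hf
  obtain ⟨b₀, hb₀⟩ := hj a₀ (Finset.mem_insert_self _ _)
  change φ b₀ = a₀ at hb₀
  have hHj := hF j
  have e1 : φ (q.eval b₀) = f.eval a₀ := by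
    rw [← hq, ← hb₀, Polynomial.eval_map_apply]
  have e2 : φ (q.derivative.eval b₀) = f.derivative.eval a₀ := by
    rw [← hq, ← hb₀, Polynomial.derivative_map, Polynomial.eval_map_apply]
  have hq1 : q.eval b₀ ∈ IsLocalRing.maximalIdeal (F.obj j) := by
    rw [IsLocalRing.mem_maximalIdeal, mem_nonunits_iff]
    intro hu
    rw [IsLocalRing.mem_maximalIdeal, mem_nonunits_iff] at h₁
    apply h₁
    rw [← e1]
    exact hu.map _
  have hq2 : IsUnit (q.derivative.eval b₀) := by
    apply isUnit_of_ι F c hc hloc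
    change IsUnit (φ _)
    rw [e2]
    exact h₂
  obtain ⟨b, hb, hbb⟩ := HenselianLocalRing.is_henselian q hqm b₀ hq1 hq2
  refine ⟨φ b, ?_, ?_⟩
  · rw [Polynomial.IsRoot.def] at hb ⊢
    rw [← hq, Polynomial.eval_map_apply, hb, map_zero]
  · rw [IsLocalRing.mem_maximalIdeal, mem_nonunits_iff] at hbb ⊢
    intro hu
    apply hbb
    apply isUnit_of_ι F c hc hloc
    change IsUnit (φ _)
    rw [map_sub, hb₀]
    exact hu

end Groth.Agent.S2132
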