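import Groth.Statements.S2133
import Mathlib

set_option autoImplicit false
universe u
open CAlg

namespace Groth.Agent.S2133

open TrivSqZeroExt in
/-- the ring map `r ↦ r + ε D r` into the dual numbers of an `R`-algebra `L`. -/
noncomputable def psiHom {R : Type*} [CommRing R] (L : Type*) [CommRing L] [Algebra R L]
    (D : Derivation ℤ R R) : R →+* DualNumber L where
  toFun r := inl (algebraMap R L r) + inr (algebraMap R L (D r))
  map_one' := by
    apply TrivSqZeroExt.ext <;> simp
  map_mul' a b := by
    apply TrivSqZeroExt.ext
    · simp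
    · simp only [snd_add, snd_inl, snd_inr, zero_add, DualNumber.snd_mul, fst_add, fst_inl,
        fst_inr, add_zero, Derivation.leibniz, smul_eq_mul, map_add, map_mul]
      ring
  map_zero' := by
    apply TrivSqZeroExt.ext <;> simp
  map_add' a b := by
    apply TrivSqZeroExt.ext
    · simp only [fst_add, fst_inl, fst_inr, add_zero, map_add]
    · simp only [snd_add, snd_inl, snd_inr, zero_add, map_add]

open TrivSqZeroExt in
theorem psiHom_fst {R : Type*} [CommRing R] (L : Type*) [CommRing L] [Algebra R L]
    (D : Derivation ℤ R R) (r : R) : (psiHom L D r).fst = algebraMap R L r := by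
  simp [psiHom]

open TrivSqZeroExt in
theorem psiHom_snd {R : Type*} [CommRing R] (L : Type*) [CommRing L] [Algebra R L]
    (D : Derivation ℤ R R) (r : R) : (psiHom L D r).snd = algebraMap R L (D r) := by
  simp [psiHom, Algebra.algebraMap_eq_smul_one]

/-- a derivation of `R` extends to a "derivation" of any localization away from `g`. -/
theorem exists_ext_localization {R : Type*} [CommRing R] (L : Type*) [CommRing L] [Algebra R L]
    (g : R) [IsLocalization.Away g L] (D : Derivation ℤ R R) :
    ∃ d : L → L, (∀ a b, d (a + b) = d a + d b) ∧ (∀ a b, d (a * b) = a * d b + b * d a) ∧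
      ∀ r : R, d (algebraMap R L r) = algebraMap R L (D r) := by
  have hu : IsUnit (psiHom L D g) := by
    rw [TrivSqZeroExt.isUnit_iff_isUnit_fst, psiHom_fst]
    exact IsLocalization.Away.algebraMap_isUnit g
  let Ψ : L →+* DualNumber L := IsLocalization.Away.lift g hu
  have hΨ : ∀ r : R, Ψ (algebraMap R L r) = psiHom L D r := fun r =>
    IsLocalization.Away.lift_eq g hu r
  have hfst : ∀ z : L, (Ψ z).fst = z := by
    have : ((TrivSqZeroExt.fstHom L L L).toRingHom.comp Ψ) = RingHom.id L := by
      refine IsLocalization.ringHom_ext (Submonoid.powers g) ?_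
      ext r
      simp only [RingHom.coe_comp, Function.comp_apply, RingHom.id_comp]
      rw [hΨ]
      exact psiHom_fst L D r
    intro z
    exact RingHom.congr_fun this z
  refine ⟨fun z => (Ψ z).snd, ?_, ?_, ?_⟩
  · intro a b
    simp [map_add]
  · intro a b
    simp only [map_mul, DualNumber.snd_mul, hfst]
    ring
  · intro r
    simp only [hΨ, psiHom_snd]

/-- Let `R → R'` be an injective ring map of finite type and `g ∈ R` a nonzerodivisor on `R'` such that
every element of `R'` lands in `R` after multiplication by a power of `g` (so `R_g = R'_g`). Then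
for every derivation `D` of `R` there is `N` such that `g^N D` extends to a derivation of `R'`. -/
theorem result {R R' : Type u} [CommRing R] [CommRing R'] [Algebra R R'] [Algebra.FiniteType R R']
    (hinj : Function.Injective (algebraMap R R')) (g : R) (hg : IsSMulRegular R' (algebraMap R R' g))
    (hloc : ∀ x : R', ∃ n : ℕ, (algebraMap R R' g) ^ n * x ∈ Set.range (algebraMap R R')) (D : Derivation ℤ R R) :
    ∃ (N : ℕ) (D' : Derivation ℤ R' R'), ∀ r : R, D' (algebraMap R R' r) = algebraMap R R' (g ^ N * D r) := by
  classical
  set g' : R' := algebraMap R R' g with hg'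
  let L := Localization.Away g'
  have hinjL : Function.Injective (algebraMap R' L) := by
    refine IsLocalization.injective L (M := Submonoid.powers g') ?_
    rintro _ ⟨n, rfl⟩
    exact (isLeftRegular_iff_isRegular.mp (IsSMulRegular.isLeftRegular (IsSMulRegular.pow n hg))).mem_nonZeroDivisors
  have hloc' : IsLocalization.Away g L :=
    { map_units := by
        rintro ⟨_, n, rfl⟩
        rw [IsScalarTower.algebraMap_apply R R' L, map_pow]
        exact IsLocalization.map_units L (⟨g' ^ n, n, rfl⟩ : Submonoid.powers g')
      surj := by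
        intro z
        obtain ⟨n, x, hx⟩ := IsLocalization.Away.surj g' z
        obtain ⟨m, r, hr⟩ := hloc x
        refine ⟨⟨r, ⟨g ^ (n + m), n + m, rfl⟩⟩, ?_⟩
        change z * algebraMap R L (g ^ (n + m)) = algebraMap R L r
        rw [IsScalarTower.algebraMap_apply R R' L, IsScalarTower.algebraMap_apply R R' L r,
          hr, map_pow, ← hg', pow_add, map_mul, ← mul_assoc, map_pow, hx, map_mul, map_pow]
        ring
      exists_of_eq := by
        intro x y hxy
        rw [IsScalarTower.algebraMap_apply R R' L, IsScalarTower.algebraMap_apply R R' L y] at hxy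
        have := hinjL hxy
        exact ⟨1, by rw [hinj this]⟩ }
  obtain ⟨d, hadd, hmul, hd⟩ := exists_ext_localization L g D
  -- finite generation
  obtain ⟨s, hs⟩ := (Algebra.FiniteType.out : (⊤ : Subalgebra R R').FG)
  have hgen : ∀ x ∈ s, ∃ n : ℕ, algebraMap R' L g' ^ n * d (algebraMap R' L x) ∈
      Set.range (algebraMap R' L) := by
    intro x _
    obtain ⟨n, a, ha⟩ := IsLocalization.Away.surj g' (d (algebraMap R' L x))
    exact ⟨n, a, by rw [← ha, mul_comm]⟩
  choose! n hn using hgen
  let N : ℕ := s.sup n
  have hN : ∀ x ∈ s, algebraMap R' L g' ^ N * d (algebraMap R' L x) ∈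
      Set.range (algebraMap R' L) := by
    intro x hx
    obtain ⟨a, ha⟩ := hn x hx
    have hle : n x ≤ N := Finset.le_sup hx
    refine ⟨g' ^ (N - n x) * a, ?_⟩
    rw [map_mul, ha, map_pow, ← mul_assoc, ← pow_add, Nat.sub_add_cancel hle]
  have hall : ∀ x : R', algebraMap R' L g' ^ N * d (algebraMap R' L x) ∈
      Set.range (algebraMap R' L) := by
    intro x
    have hx : x ∈ Algebra.adjoin R (s : Set R') := hs ▸ Algebra.mem_top
    induction hx using Algebra.adjoin_induction with
    | mem x hx => exact hN x hx
    | algebraMap r =>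
      refine ⟨g' ^ N * algebraMap R R' (D r), ?_⟩
      rw [map_mul, map_pow, ← IsScalarTower.algebraMap_apply R R' L r,
        ← IsScalarTower.algebraMap_apply R R' L (D r), hd]
    | add x y _ _ hx hy =>
      obtain ⟨a, ha⟩ := hx
      obtain ⟨b, hb⟩ := hy
      exact ⟨a + b, by rw [map_add, map_add, hadd, mul_add, ha, hb]⟩
    | mul x y _ _ hx hy =>
      obtain ⟨a, ha⟩ := hx
      obtain ⟨b, hb⟩ := hy
      refine ⟨x * b + y * a, ?_⟩
      rw [map_mul, hmul, map_add, map_mul, map_mul, hb, ha]
      ring
  choose e he using hall
  have he_add : ∀ x y, e (x + y) = e x + e y := by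
    intro x y
    apply hinjL
    rw [he, map_add, map_add, hadd, mul_add, he, he]
  have he_mul : ∀ x y, e (x * y) = x * e y + y * e x := by
    intro x y
    apply hinjL
    rw [he, map_mul, hmul, map_add, map_mul, map_mul, he, he]
    ring
  let eAdd : R' →+ R' := AddMonoidHom.mk' e he_add
  let D' : Derivation ℤ R' R' := Derivation.mk' eAdd.toIntLinearMap (by
    intro a b
    change e (a * b) = a • e b + b • e a
    rw [he_mul, smul_eq_mul, smul_eq_mul])
  refine ⟨N, D', fun r => ?_⟩
  change e (algebraMap R R' r) = _
  apply hinjL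
  rw [he, ← IsScalarTower.algebraMap_apply R R' L r, hd, map_mul, map_pow,
    IsScalarTower.algebraMap_apply R R' L (D r), map_mul, map_pow]

end Groth.Agent.S2133
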