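import Groth.Statements.S2134
import Mathlib

set_option autoImplicit false
universe u
open CAlg

namespace Groth.Agent.S2134

/-- support of a vector -/
noncomputable def supp {K : Type*} [Field K] {n : ℕ} (v : Fin n → K) : Finset (Fin n) := by
  classical exact Finset.univ.filter (fun i => v i ≠ 0)

theorem mem_supp {K : Type*} [Field K] {n : ℕ} (v : Fin n → K) (i : Fin n) :
    i ∈ supp v ↔ v i ≠ 0 := by
  classical
  simp [supp]

theorem supp_smul {K : Type*} [Field K] {n : ℕ} (v : Fin n → K) {c : K} (hc : c ≠ 0) :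
    supp (c • v) = supp v := by
  ext i
  simp [mem_supp, hc]

theorem supp_eq_empty {K : Type*} [Field K] {n : ℕ} (v : Fin n → K) (h : supp v = ∅) :
    v = 0 := by
  funext i
  by_contra hi
  have : i ∈ supp v := (mem_supp v i).mpr hi
  rw [h] at this
  simp at this

/-- Let `K/k` be a field extension and `(K_α)` a nonempty family of intermediate fields, directed
downwards, with intersection `k`. For a `K`-subspace `V` of `K^n` (`n ≥ 1`), `V` contains a nonzero
vector with all coordinates in `k` if and only if for every `α` it contains a nonzero vector with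
all coordinates in `K_α`. -/
theorem result {k K : Type u} [Field k] [Field K] [Algebra k K] {ι : Type u} [Nonempty ι]
    (F : ι → IntermediateField k K) (hdir : ∀ a b : ι, ∃ c, F c ≤ F a ⊓ F b) (hinf : ⨅ a, F a = ⊥) (n : ℕ) (hn : 1 ≤ n)
    (V : Submodule K (Fin n → K)) :
    (∃ v ∈ V, v ≠ 0 ∧ ∀ i, v i ∈ Set.range (algebraMap k K)) ↔
      ∀ a, ∃ v ∈ V, v ≠ 0 ∧ ∀ i, v i ∈ F a := by
  classical
  constructor
  · rintro ⟨v, hvV, hv0, hvk⟩ a
    refine ⟨v, hvV, hv0, fun i => ?_⟩
    obtain ⟨c, hc⟩ := hvk i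
    rw [← hc]
    exact (F a).algebraMap_mem c
  · intro hall
    -- the set of supports at level `a`
    let Sset : ι → Finset (Finset (Fin n)) := fun a =>
      Finset.univ.filter (fun σ => ∃ v ∈ V, v ≠ 0 ∧ (∀ i, v i ∈ F a) ∧ supp v = σ)
    have hmemS : ∀ a σ, σ ∈ Sset a ↔ ∃ v ∈ V, v ≠ 0 ∧ (∀ i, v i ∈ F a) ∧ supp v = σ := by
      intro a σ
      simp [Sset]
    have hmono : ∀ a c, F c ≤ F a → Sset c ⊆ Sset a := by
      intro a c hca σ hσ
      rw [hmemS] at hσ ⊢
      obtain ⟨v, hvV, hv0, hvc, hs⟩ := hσ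
      exact ⟨v, hvV, hv0, fun i => hca (hvc i), hs⟩
    -- choose a₀ with minimal number of supports
    obtain ⟨a₀, -, ha₀⟩ := WellFounded.has_min (measure (fun a : ι => (Sset a).card)).wf
      Set.univ Set.univ_nonempty
    have hstab : ∀ c, F c ≤ F a₀ → Sset c = Sset a₀ := by
      intro c hc
      refine Finset.eq_of_subset_of_card_le (hmono a₀ c hc) ?_
      have := ha₀ c (Set.mem_univ c)
      exact not_lt.mp this
    have hne : (Sset a₀).Nonempty := by
      obtain ⟨v, hvV, hv0, hva⟩ := hall a₀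
      exact ⟨supp v, (hmemS _ _).mpr ⟨v, hvV, hv0, hva, rfl⟩⟩
    obtain ⟨σ, hσS, hσmin⟩ := Finset.exists_min_image (Sset a₀) Finset.card hne
    obtain ⟨v₀, hv₀V, hv₀0, hv₀a, hv₀s⟩ := (hmemS _ _).mp hσS
    have hσne : σ.Nonempty := by
      rw [Finset.nonempty_iff_ne_empty]
      intro h
      exact hv₀0 (supp_eq_empty v₀ (hv₀s.trans h))
    obtain ⟨i₀, hi₀⟩ := hσne
    have hv₀i : v₀ i₀ ≠ 0 := (mem_supp v₀ i₀).mp (hv₀s ▸ hi₀)
    let v : Fin n → K := (v₀ i₀)⁻¹ • v₀
    have hvV : v ∈ V := V.smul_mem _ hv₀V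
    have hvi : v i₀ = 1 := by simp [v, hv₀i]
    have hv0 : v ≠ 0 := by
      intro h
      have : v i₀ = 0 := by rw [h]; rfl
      rw [hvi] at this
      exact one_ne_zero this
    have hva : ∀ i, v i ∈ F a₀ := by
      intro i
      change (v₀ i₀)⁻¹ * v₀ i ∈ F a₀
      exact (F a₀).mul_mem ((F a₀).inv_mem (hv₀a i₀)) (hv₀a i)
    have hvs : supp v = σ := by
      rw [← hv₀s]; exact supp_smul v₀ (inv_ne_zero hv₀i)
    have hkey : ∀ b, ∀ i, v i ∈ F b := by
      intro b
      obtain ⟨c, hc⟩ := hdir a₀ b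
      have hca : F c ≤ F a₀ := hc.trans inf_le_left
      have hcb : F c ≤ F b := hc.trans inf_le_right
      have hσc : σ ∈ Sset c := by rw [hstab c hca]; exact hσS
      obtain ⟨w₀, hw₀V, hw₀0, hw₀c, hw₀s⟩ := (hmemS _ _).mp hσc
      have hw₀i : w₀ i₀ ≠ 0 := (mem_supp w₀ i₀).mp (hw₀s ▸ hi₀)
      let w : Fin n → K := (w₀ i₀)⁻¹ • w₀
      have hwV : w ∈ V := V.smul_mem _ hw₀V
      have hwi : w i₀ = 1 := by simp [w, hw₀i]
      have hwc : ∀ i, w i ∈ F c := by
        intro i
        change (w₀ i₀)⁻¹ * w₀ i ∈ F c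
        exact (F c).mul_mem ((F c).inv_mem (hw₀c i₀)) (hw₀c i)
      have hws : supp w = σ := by
        rw [← hw₀s]; exact supp_smul w₀ (inv_ne_zero hw₀i)
      have hd : v - w = 0 := by
        by_contra hd0
        have hdS : supp (v - w) ∈ Sset a₀ := by
          rw [hmemS]
          refine ⟨v - w, V.sub_mem hvV hwV, hd0, fun i => ?_, rfl⟩
          exact (F a₀).sub_mem (hva i) (hca (hwc i))
        have hsub : supp (v - w) ⊆ σ.erase i₀ := by
          intro i hi
          rw [mem_supp] at hi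
          rw [Finset.mem_erase]
          constructor
          · rintro rfl
            apply hi
            simp [hvi, hwi]
          · by_contra hiσ
            apply hi
            have h1 : v i = 0 := by
              by_contra h; exact hiσ (hvs ▸ (mem_supp v i).mpr h)
            have h2 : w i = 0 := by
              by_contra h; exact hiσ (hws ▸ (mem_supp w i).mpr h)
            simp [h1, h2]
        have hlt : (supp (v - w)).card < σ.card :=
          lt_of_le_of_lt (Finset.card_le_card hsub) (Finset.card_erase_lt_of_mem hi₀)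
        exact absurd (hσmin _ hdS) (not_le.mpr hlt)
      have hvw : v = w := sub_eq_zero.mp hd
      intro i
      rw [hvw]
      exact hcb (hwc i)
    refine ⟨v, hvV, hv0, fun i => ?_⟩
    rw [← IntermediateField.mem_bot, ← hinf]
    have : v i ∈ (↑(⨅ a, F a) : Set K) := by
      rw [IntermediateField.coe_iInf]
      exact Set.mem_iInter.mpr (fun b => hkey b i)
    exact this

end Groth.Agent.S2134
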