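import Groth.Statements.S2138
import Mathlib
-- import your own Groth.Agent.* helpers here

set_option autoImplicit false
universe u
open CAlg

namespace Groth.Agent.S2138

section Aux
open TensorProduct IsLocalRing

variable {R S : Type u} [CommRing R] [CommRing S] [Algebra R S]

theorem reg_iff {A M : Type*} [Ring A] [AddCommGroup M] [Module A M] (t : A) :
    IsSMulRegular M t ↔ ∀ m : M, t • m = 0 → m = 0 :=
  isSMulRegular_iff_right_eq_zero_of_smul

theorem mem_sat {A : Type u} [CommRing A] (P : Ideal A) [P.IsPrime] (I : Ideal A) (x : A) :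
    x ∈ (I.map (algebraMap A (Localization.AtPrime P))).comap
        (algebraMap A (Localization.AtPrime P)) ↔ ∃ s, s ∉ P ∧ s * x ∈ I := by
  rw [Ideal.mem_comap, IsLocalization.algebraMap_mem_map_algebraMap_iff P.primeCompl]
  rfl

theorem tmul_one_eq_zero_iff (J : Ideal R) (y : S) :
    y ⊗ₜ[R] (1 : R ⧸ J) = 0 ↔ y ∈ J.map (algebraMap R S) := by
  have h : y ⊗ₜ[R] (1 : R ⧸ J) =
      Algebra.TensorProduct.quotIdealMapEquivTensorQuot S J (Ideal.Quotient.mk _ y) := rfl
  rw [h, map_eq_zero_iff _ (AlgEquiv.injective _), Ideal.Quotient.eq_zero_iff_mem]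

theorem mem_of_algebraMap_mem [Module.Flat R S] (p : Ideal R) [p.IsPrime]
    (hq : p.map (algebraMap R S) ≠ ⊤) (a : R) (ha : algebraMap R S a ∈ p.map (algebraMap R S)) :
    a ∈ p := by
  by_contra hap
  have hreg : IsSMulRegular (R ⧸ p) a := by
    rw [isSMulRegular_iff_right_eq_zero_of_smul]
    intro m hm
    obtain ⟨r, rfl⟩ := Ideal.Quotient.mk_surjective m
    rw [Algebra.smul_def, Ideal.Quotient.algebraMap_eq, ← map_mul,
      Ideal.Quotient.eq_zero_iff_mem] at hm
    rw [Ideal.Quotient.eq_zero_iff_mem]
    exact (Ideal.IsPrime.mem_or_mem ‹_› hm).resolve_left hap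
  have hreg' : IsSMulRegular (S ⊗[R] (R ⧸ p)) (algebraMap R S a) :=
    hreg.of_flat_of_isBaseChange (TensorProduct.isBaseChange R (R ⧸ p) S)
  have h0 : (algebraMap R S a) • ((1 : S) ⊗ₜ[R] (1 : R ⧸ p)) = 0 := by
    rw [TensorProduct.smul_tmul', smul_eq_mul, mul_one, tmul_one_eq_zero_iff]
    exact ha
  have h1 : (1 : S) ⊗ₜ[R] (1 : R ⧸ p) = 0 :=
    isSMulRegular_iff_right_eq_zero_of_smul.mp hreg' _ h0
  rw [tmul_one_eq_zero_iff] at h1
  exact hq ((Ideal.eq_top_iff_one _).mpr h1)

theorem regular_quot (p : Ideal R) [p.IsPrime] [(p.map (algebraMap R S)).IsPrime]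
    (t : S) (ht : t ∉ p.map (algebraMap R S)) : IsSMulRegular (S ⊗[R] (R ⧸ p)) t := by
  refine (reg_iff (M := S ⊗[R] (R ⧸ p)) t).mpr ?_
  intro w hw
  have h1 : Ideal.Quotient.mk (p.map (algebraMap R S)) t *
      (Algebra.TensorProduct.quotIdealMapEquivTensorQuot S p).symm w = 0 := by
    have : (Algebra.TensorProduct.quotIdealMapEquivTensorQuot S p).symm (t • w) = 0 := by
      rw [hw, map_zero]
    rwa [map_smul, Algebra.smul_def] at this
  have h2 : (Algebra.TensorProduct.quotIdealMapEquivTensorQuot S p).symm w = 0 := by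
    rcases mul_eq_zero.mp h1 with h | h
    · exact absurd (Ideal.Quotient.eq_zero_iff_mem.mp h) ht
    · exact h
  exact (map_eq_zero_iff _ (AlgEquiv.injective _)).mp h2

theorem exists_clear (p : Ideal R) [p.IsPrime] (z : S ⊗[R] p.ResidueField) :
    ∃ a : R, a ∉ p ∧ ∃ w : S ⊗[R] (R ⧸ p),
      a • z = ((IsScalarTower.toAlgHom R (R ⧸ p) p.ResidueField).toLinearMap.baseChange S) w := by
  induction z using TensorProduct.induction_on with
  | zero =>
    exact ⟨1, fun h => (Ideal.IsPrime.ne_top ‹_›) ((Ideal.eq_top_iff_one _).mpr h), 0, by simp⟩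
  | tmul s x =>
    obtain ⟨y, rfl⟩ := IsLocalRing.residue_surjective (R := Localization.AtPrime p) x
    obtain ⟨⟨r, a⟩, h⟩ := IsLocalization.surj p.primeCompl y
    refine ⟨a, a.2, s ⊗ₜ Ideal.Quotient.mk p r, ?_⟩
    rw [LinearMap.baseChange_tmul, ← TensorProduct.tmul_smul]
    congr 1
    show (a : R) • IsLocalRing.residue (Localization.AtPrime p) y =
      algebraMap (R ⧸ p) p.ResidueField (Ideal.Quotient.mk p r)
    rw [show algebraMap (R ⧸ p) p.ResidueField (Ideal.Quotient.mk p r) =
        algebraMap R p.ResidueField r from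
        (IsScalarTower.algebraMap_apply R (R ⧸ p) p.ResidueField r).symm, Algebra.smul_def,
      IsScalarTower.algebraMap_apply R (Localization.AtPrime p) p.ResidueField,
      IsScalarTower.algebraMap_apply R (Localization.AtPrime p) p.ResidueField,
      IsLocalRing.ResidueField.algebraMap_eq]
    show IsLocalRing.residue _ _ * IsLocalRing.residue _ _ = _
    rw [← map_mul, mul_comm]
    exact congrArg _ h
  | add z1 z2 h1 h2 =>
    obtain ⟨a1, ha1, w1, e1⟩ := h1
    obtain ⟨a2, ha2, w2, e2⟩ := h2
    refine ⟨a1 * a2, fun h => (Ideal.IsPrime.mem_or_mem ‹_› h).elim ha1 ha2,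
      a2 • w1 + a1 • w2, ?_⟩
    rw [smul_add, map_add, ← algebraMap_smul S a2 w1, ← algebraMap_smul S a1 w2, map_smul,
      map_smul, algebraMap_smul, algebraMap_smul, ← e1, ← e2, mul_smul, mul_comm, mul_smul]
    simp only [smul_comm a1 a2]

end Aux

section Aux2
open TensorProduct IsLocalRing

variable {R S : Type u} [CommRing R] [CommRing S] [Algebra R S]

theorem regular_residue [Module.Flat R S] (p : Ideal R) [p.IsPrime]
    [(p.map (algebraMap R S)).IsPrime]
    (t : S) (ht : t ∉ p.map (algebraMap R S)) : IsSMulRegular (S ⊗[R] p.ResidueField) t := by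
  refine (reg_iff (M := S ⊗[R] p.ResidueField) t).mpr ?_
  intro z hz
  obtain ⟨a, ha, w, hw⟩ := exists_clear (S := S) p z
  have hψinj : Function.Injective
      (IsScalarTower.toAlgHom R (R ⧸ p) p.ResidueField).toLinearMap :=
    Ideal.injective_algebraMap_quotient_residueField p
  have hinj : Function.Injective
      ((IsScalarTower.toAlgHom R (R ⧸ p) p.ResidueField).toLinearMap.baseChange S) := by
    rw [LinearMap.baseChange_eq_ltensor]
    exact Module.Flat.lTensor_preserves_injective_linearMap _ hψinj
  have h1 : ((IsScalarTower.toAlgHom R (R ⧸ p) p.ResidueField).toLinearMap.baseChange S)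
      (t • w) = 0 := by
    rw [map_smul, ← hw, smul_comm, hz, smul_zero]
  have h2 : t • w = 0 := (map_eq_zero_iff _ hinj).mp h1
  have h3 : w = 0 := (reg_iff (M := S ⊗[R] (R ⧸ p)) t).mp (regular_quot p t ht) w h2
  have h4 : a • z = 0 := by rw [hw, h3, map_zero]
  have hreg : IsSMulRegular p.ResidueField a := by
    refine (reg_iff (M := p.ResidueField) a).mpr ?_
    intro x hx
    rw [Algebra.smul_def, mul_eq_zero] at hx
    rcases hx with h | h
    · exact absurd (Ideal.algebraMap_residueField_eq_zero.mp h) ha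
    · exact h
  have hreg' : IsSMulRegular (S ⊗[R] p.ResidueField) (algebraMap R S a) :=
    hreg.of_flat_of_isBaseChange (TensorProduct.isBaseChange R p.ResidueField S)
  rw [← algebraMap_smul S a z] at h4
  exact (reg_iff (M := S ⊗[R] p.ResidueField) _).mp hreg' z h4

theorem regular_of_vectorSpace [Module.Flat R S] (p : Ideal R) [p.IsPrime]
    [(p.map (algebraMap R S)).IsPrime]
    (V : Type u) [AddCommGroup V] [Module R V] [Module p.ResidueField V]
    [IsScalarTower R p.ResidueField V]
    (t : S) (ht : t ∉ p.map (algebraMap R S)) : IsSMulRegular (S ⊗[R] V) t := by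
  classical
  let b := Module.Free.chooseBasis p.ResidueField V
  let e₁ : V ≃ₗ[R] (Module.Free.ChooseBasisIndex p.ResidueField V →₀ p.ResidueField) :=
    b.repr.restrictScalars R
  let Φ : S ⊗[R] V ≃ₗ[S]
      (Module.Free.ChooseBasisIndex p.ResidueField V →₀ S ⊗[R] p.ResidueField) :=
    (TensorProduct.AlgebraTensorModule.congr (LinearEquiv.refl S S) e₁).trans
      (TensorProduct.finsuppRight R S S p.ResidueField _)
  refine (reg_iff (M := S ⊗[R] V) t).mpr ?_
  intro z hz
  have h : t • Φ z = 0 := by rw [← map_smul, hz, map_zero]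
  have h' : Φ z = 0 := by
    ext i
    have := congrArg (fun f => f i) h
    simp only [Finsupp.smul_apply, Finsupp.zero_apply] at this
    exact (reg_iff (M := S ⊗[R] p.ResidueField) t).mp (regular_residue p t ht) _ this
  exact (map_eq_zero_iff _ Φ.injective).mp h'

theorem regular_of_torsion [Module.Flat R S] (p : Ideal R) [p.IsPrime]
    [(p.map (algebraMap R S)).IsPrime]
    (M : Type u) [AddCommGroup M] [Module R M]
    (h1 : ∀ s : R, s ∉ p → IsSMulRegular M s) (h2 : ∀ a ∈ p, ∀ m : M, a • m = 0)
    (t : S) (ht : t ∉ p.map (algebraMap R S)) : IsSMulRegular (S ⊗[R] M) t := by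
  have htors : Module.IsTorsionBySet (Localization.AtPrime p) (LocalizedModule p.primeCompl M)
      (maximalIdeal (Localization.AtPrime p) : Set (Localization.AtPrime p)) := by
    intro x a
    obtain ⟨a, ha⟩ := a
    induction x using LocalizedModule.induction_on with
    | h m s =>
      obtain ⟨r, s', rfl⟩ := IsLocalization.exists_mk'_eq p.primeCompl a
      rw [SetLike.mem_coe, IsLocalization.AtPrime.mk'_mem_maximal_iff (Localization.AtPrime p) p] at ha
      show IsLocalization.mk' _ r s' • LocalizedModule.mk m s = 0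
      rw [← Localization.mk_eq_mk', LocalizedModule.mk_smul_mk, h2 r ha,
        LocalizedModule.zero_mk]
  letI : Module p.ResidueField (LocalizedModule p.primeCompl M) := htors.module
  haveI : IsScalarTower R p.ResidueField (LocalizedModule p.primeCompl M) := by
    exact Module.IsTorsionBySet.isScalarTower htors
  have hV := regular_of_vectorSpace p (LocalizedModule p.primeCompl M) t ht
  have hj : Function.Injective (LocalizedModule.mkLinearMap p.primeCompl M) := by
    rw [injective_iff_map_eq_zero]
    intro m hm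
    obtain ⟨c, hc⟩ := (IsLocalizedModule.eq_zero_iff p.primeCompl
      (LocalizedModule.mkLinearMap p.primeCompl M)).mp hm
    exact (reg_iff (M := M) (c : R)).mp (h1 c c.2) m hc
  have hinj : Function.Injective ((LocalizedModule.mkLinearMap p.primeCompl M).baseChange S) := by
    rw [LinearMap.baseChange_eq_ltensor]
    exact Module.Flat.lTensor_preserves_injective_linearMap _ hj
  refine (reg_iff (M := S ⊗[R] M) t).mpr ?_
  intro z hz
  have : ((LocalizedModule.mkLinearMap p.primeCompl M).baseChange S) z = 0 :=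
    (reg_iff (M := S ⊗[R] (LocalizedModule p.primeCompl M)) t).mp hV _
      (by rw [← map_smul, hz, map_zero])
  exact (map_eq_zero_iff _ hinj).mp this

end Aux2

section Aux3
open TensorProduct IsLocalRing

variable {R S : Type u} [CommRing R] [CommRing S] [Algebra R S]

theorem regular_of_pow [Module.Flat R S] (p : Ideal R) [p.IsPrime]
    [(p.map (algebraMap R S)).IsPrime] :
    ∀ (n : ℕ) (M : Type u) [AddCommGroup M] [Module R M],
      (∀ s : R, s ∉ p → IsSMulRegular M s) → (∀ a ∈ p ^ n, ∀ m : M, a • m = 0) →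
      ∀ t : S, t ∉ p.map (algebraMap R S) → IsSMulRegular (S ⊗[R] M) t := by
  intro n
  induction n with
  | zero =>
    intro M _ _ _ h2 t _
    haveI : Subsingleton M := ⟨fun x y => by
      have hx := h2 1 (by simp) x
      have hy := h2 1 (by simp) y
      rw [one_smul] at hx hy
      rw [hx, hy]⟩
    refine (reg_iff (M := S ⊗[R] M) t).mpr ?_
    intro z _
    exact Subsingleton.elim _ _
  | succ n ih =>
    intro M _ _ h1 h2 t ht
    -- the p-torsion submodule
    have hM₁ : ∀ s : R, s ∉ p → IsSMulRegular (Submodule.torsionBySet R M (p : Set R)) s := by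
      intro s hs
      refine (reg_iff (M := Submodule.torsionBySet R M (p : Set R)) s).mpr ?_
      intro m hm
      have : s • (m : M) = 0 := by
        have := congrArg Subtype.val hm
        simpa using this
      exact Subtype.ext ((reg_iff (M := M) s).mp (h1 s hs) _ this)
    have hM₁' : ∀ a ∈ p, ∀ m : Submodule.torsionBySet R M (p : Set R), a • m = 0 := by
      intro a ha m
      apply Subtype.ext
      have := (Submodule.mem_torsionBySet_iff (p : Set R) (m : M)).mp m.2 ⟨a, ha⟩
      simpa using this
    have hQ : ∀ s : R, s ∉ p → IsSMulRegular (M ⧸ Submodule.torsionBySet R M (p : Set R)) s := by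
      intro s hs
      refine (reg_iff (M := M ⧸ Submodule.torsionBySet R M (p : Set R)) s).mpr ?_
      intro m hm
      obtain ⟨m, rfl⟩ := Submodule.Quotient.mk_surjective _ m
      rw [← Submodule.Quotient.mk_smul, Submodule.Quotient.mk_eq_zero,
        Submodule.mem_torsionBySet_iff] at hm
      rw [Submodule.Quotient.mk_eq_zero, Submodule.mem_torsionBySet_iff]
      intro b
      have := hm b
      rw [smul_comm] at this
      exact (reg_iff (M := M) s).mp (h1 s hs) _ this
    have hQ' : ∀ a ∈ p ^ n, ∀ m : M ⧸ Submodule.torsionBySet R M (p : Set R), a • m = 0 := by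
      intro a ha m
      obtain ⟨m, rfl⟩ := Submodule.Quotient.mk_surjective _ m
      rw [← Submodule.Quotient.mk_smul, Submodule.Quotient.mk_eq_zero,
        Submodule.mem_torsionBySet_iff]
      intro b
      rw [← mul_smul]
      exact h2 _ (by rw [pow_succ']; exact Ideal.mul_mem_mul b.2 ha) m
    have r1 := regular_of_torsion p (Submodule.torsionBySet R M (p : Set R)) hM₁ hM₁' t ht
    have r2 := ih (M ⧸ Submodule.torsionBySet R M (p : Set R)) hQ hQ' t ht
    have hinj : Function.Injective
        ((Submodule.torsionBySet R M (p : Set R)).subtype.baseChange S) := by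
      rw [LinearMap.baseChange_eq_ltensor]
      exact Module.Flat.lTensor_preserves_injective_linearMap _ (Submodule.injective_subtype _)
    have hex : Function.Exact ((Submodule.torsionBySet R M (p : Set R)).subtype.baseChange S)
        ((Submodule.torsionBySet R M (p : Set R)).mkQ.baseChange S) := by
      rw [LinearMap.baseChange_eq_ltensor, LinearMap.baseChange_eq_ltensor]
      exact lTensor_exact S (LinearMap.exact_subtype_mkQ _) (Submodule.mkQ_surjective _)
    refine (reg_iff (M := S ⊗[R] M) t).mpr ?_
    intro z hz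
    have hz2 : ((Submodule.torsionBySet R M (p : Set R)).mkQ.baseChange S) z = 0 :=
      (reg_iff (M := S ⊗[R] (M ⧸ Submodule.torsionBySet R M (p : Set R))) t).mp r2 _
        (by rw [← map_smul, hz, map_zero])
    obtain ⟨w, rfl⟩ := (hex z).mp hz2
    have hw : t • w = 0 := by
      apply hinj
      rw [map_smul, hz, map_zero]
    have : w = 0 :=
      (reg_iff (M := S ⊗[R] (Submodule.torsionBySet R M (p : Set R))) t).mp r1 w hw
    rw [this, map_zero]

end Aux3

/-- Let `R → S` be flat and `𝔭` a prime of `R` whose extension `𝔮 = 𝔭S` is prime. Then for every `n` the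
extension to `S` of the symbolic power `𝔭^{(n)}` (the contraction of `𝔭ⁿR_𝔭`) equals the symbolic
power `𝔮^{(n)}`. -/
theorem result {R S : Type u} [CommRing R] [CommRing S] [Algebra R S] [Module.Flat R S]
    (p : Ideal R) [p.IsPrime] [(p.map (algebraMap R S)).IsPrime] (n : ℕ) :
    (((p ^ n).map (algebraMap R (Localization.AtPrime p))).comap (algebraMap R (Localization.AtPrime p))).map
        (algebraMap R S) =
      (((p.map (algebraMap R S)) ^ n).map (algebraMap S (Localization.AtPrime (p.map (algebraMap R S))))).comap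
        (algebraMap S (Localization.AtPrime (p.map (algebraMap R S)))) := by
  apply le_antisymm
  · rw [Ideal.map_le_iff_le_comap]
    intro x hx
    rw [mem_sat] at hx
    obtain ⟨s, hs, hsx⟩ := hx
    rw [Ideal.mem_comap, mem_sat]
    refine ⟨algebraMap R S s, fun h => hs (mem_of_algebraMap_mem p
      (Ideal.IsPrime.ne_top inferInstance) s h), ?_⟩
    rw [← map_mul, ← Ideal.map_pow]
    exact Ideal.mem_map_of_mem _ hsx
  · intro y hy
    rw [mem_sat] at hy
    obtain ⟨t, ht, hty⟩ := hy
    have hpJ : p ^ n ≤ ((p ^ n).map (algebraMap R (Localization.AtPrime p))).comap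
        (algebraMap R (Localization.AtPrime p)) := Ideal.le_comap_map
    have hreg := regular_of_pow (S := S) p n
      (R ⧸ ((p ^ n).map (algebraMap R (Localization.AtPrime p))).comap
        (algebraMap R (Localization.AtPrime p))) ?_ ?_ t ht
    · rw [← tmul_one_eq_zero_iff]
      refine (reg_iff (M := TensorProduct R S (R ⧸ _)) t).mp hreg _ ?_
      rw [TensorProduct.smul_tmul', smul_eq_mul, tmul_one_eq_zero_iff]
      refine Ideal.map_mono hpJ ?_
      rwa [Ideal.map_pow]
    · intro s hs
      refine (reg_iff (M := R ⧸ _) s).mpr ?_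
      intro m hm
      obtain ⟨r, rfl⟩ := Ideal.Quotient.mk_surjective m
      rw [Algebra.smul_def, Ideal.Quotient.algebraMap_eq, ← map_mul,
        Ideal.Quotient.eq_zero_iff_mem, mem_sat] at hm
      obtain ⟨s', hs', h⟩ := hm
      rw [Ideal.Quotient.eq_zero_iff_mem, mem_sat]
      refine ⟨s' * s, fun h' => (Ideal.IsPrime.mem_or_mem ‹_› h').elim hs' hs, ?_⟩
      rwa [mul_assoc]
    · intro a ha m
      obtain ⟨r, rfl⟩ := Ideal.Quotient.mk_surjective m
      rw [Algebra.smul_def, Ideal.Quotient.algebraMap_eq, ← map_mul,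
        Ideal.Quotient.eq_zero_iff_mem]
      exact hpJ (Ideal.mul_mem_right _ _ ha)

end Groth.Agent.S2138
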