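import Groth.Statements.S2140
import Groth.Agent.Lib.Helper11.GenericFP

set_option autoImplicit false
universe u
open CAlg

namespace Groth.Agent.S2140

/-- Let `R → S` be an injective ring map of finite type between domains. Then there are nonzero `f ∈ R`
and `g ∈ S` such that `S_{fg}` is a finitely presented `R_f`-algebra. -/
theorem result {R S : Type u} [CommRing R] [IsDomain R] [CommRing S] [IsDomain S]
    [Algebra R S] [Algebra.FiniteType R S] (hinj : Function.Injective (algebraMap R S)) :
    ∃ (f : R) (g : S), f ≠ 0 ∧ g ≠ 0 ∧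
      ∀ (Rf Sfg : Type u) [CommRing Rf] [CommRing Sfg] [Algebra R Rf] [IsLocalization.Away f Rf]
        [Algebra S Sfg] [IsLocalization.Away (algebraMap R S f * g) Sfg] [Algebra Rf Sfg] [Algebra R Sfg]
        [IsScalarTower R S Sfg] [IsScalarTower R Rf Sfg], Algebra.FinitePresentation Rf Sfg := by
  classical
  obtain ⟨t, ht⟩ := (Algebra.FiniteType.out : (⊤ : Subalgebra R S).FG)
  obtain ⟨g, hg0, hfp⟩ := Groth.Agent.Lib.Helper11.GenericFP.core t.card R S hinj t rfl ht
  refine ⟨1, g, one_ne_zero, hg0, ?_⟩
  intro Rf Sfg _ _ _ _ _ hloc _ _ _ _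
  have hloc' : IsLocalization.Away g Sfg := by
    have h1 : algebraMap R S 1 * g = g := by rw [map_one, one_mul]
    rw [h1] at hloc
    exact hloc
  let e : Localization.Away g ≃ₐ[S] Sfg := IsLocalization.algEquiv (Submonoid.powers g) _ _
  have h2 : Algebra.FinitePresentation R Sfg :=
    Algebra.FinitePresentation.equiv (e.restrictScalars R)
  have h3' : Algebra.FinitePresentation R Rf := IsLocalization.Away.finitePresentation (1 : R)
  have h3 : Algebra.FiniteType R Rf := inferInstance
  exact Algebra.FinitePresentation.of_restrict_scalars_finitePresentation R Rf Sfg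

end Groth.Agent.S2140
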