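import Groth.Statements.S2141
import Groth.Agent.Lib.Helper62.DimLoc2

set_option autoImplicit false
set_option linter.style.haveILetI false
universe u
open CAlg

namespace Groth.Agent.S2141

open Groth.Agent.Lib.Helper62.DimLoc Groth.Agent.Lib.Helper73.DimFormula in
theorem ringKrullDim_quotient_eq_of_trdeg {k S : Type u} [Field k] [CommRing S] [Algebra k S]
    [Algebra.FiniteType k S] (p : Ideal S) [p.IsPrime] (r : ℕ)
    (hr : Algebra.trdeg k p.ResidueField = r) : ringKrullDim (S ⧸ p) = r := by
  obtain ⟨n, htn, hdn, -, -⟩ := exists_trdeg_eq_ringKrullDim k (S ⧸ p)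
  haveI : Algebra.IsAlgebraic (S ⧸ p) p.ResidueField :=
    IsLocalization.isAlgebraic p.ResidueField (nonZeroDivisors (S ⧸ p))
  have h1 : Algebra.trdeg k p.ResidueField = Algebra.trdeg k (S ⧸ p) :=
    trdeg_eq_of_isAlgebraic_top k
  rw [hr, htn] at h1
  have : r = n := by exact_mod_cast h1
  rw [hdn, this]


/-- Let `S` be of finite type over a field `k` and `𝔭` a prime of `S` whose residue field has
transcendence degree `r` over `k`. Then the local dimension of `Spec S` at `𝔭` equals `dim S_𝔭 + r`. -/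
theorem result {k S : Type u} [Field k] [CommRing S] [Algebra k S] [Algebra.FiniteType k S]
    (p : Ideal S) [p.IsPrime] (r : ℕ) (hr : Algebra.trdeg k p.ResidueField = r) :
    FlatMor.localDim (PrimeSpectrum S) ⟨p, inferInstance⟩ = ringKrullDim (Localization.AtPrime p) + (r : WithBot ℕ∞) := by
  haveI : IsNoetherianRing S := Algebra.FiniteType.isNoetherianRing k S
  rw [Groth.Agent.Lib.Helper62.DimLoc.localDim_eq_compDim k S ⟨p, inferInstance⟩,
    IsLocalization.AtPrime.ringKrullDim_eq_height p (Localization.AtPrime p)]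
  have hdp := ringKrullDim_quotient_eq_of_trdeg p r hr
  change Groth.Agent.Lib.Helper62.DimLoc.compDim p = _
  apply le_antisymm
  · rw [Groth.Agent.Lib.Helper62.DimLoc.compDim_le_iff]
    intro Q hQ hQp
    haveI : Q.IsPrime := hQ.1.1
    haveI : (p.map (Ideal.Quotient.mk Q)).IsPrime :=
      Ideal.map_isPrime_of_surjective Ideal.Quotient.mk_surjective (by rwa [Ideal.mk_ker])
    rw [Groth.Agent.Lib.Helper62.DimLoc.ringKrullDim_quotient_eq_height_map_add k S Q p hQp, hdp]
    gcongr
    exact WithBot.coe_le_coe.mpr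
      (Groth.Agent.Lib.Helper73.DimFormula.height_map_quotient_le Q p hQp)
  · obtain ⟨Q, hQ, hQp, hht⟩ :=
      Groth.Agent.Lib.Helper62.DimLoc.exists_minimalPrimes_height_map_eq p
    haveI : Q.IsPrime := hQ.1.1
    refine le_trans (le_of_eq ?_) (Groth.Agent.Lib.Helper62.DimLoc.le_compDim hQ hQp)
    rw [Groth.Agent.Lib.Helper62.DimLoc.ringKrullDim_quotient_eq_height_map_add k S Q p hQp, hdp,
      hht]

end Groth.Agent.S2141
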