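import Groth.Statements.S2143
import Groth.Agent.Lib.Helper62.DimLoc2

set_option autoImplicit false
set_option linter.style.haveILetI false
universe u
open CAlg

namespace Groth.Agent.S2143

/-- (1) = (3): let `S` be of finite type over a field `k` and `𝔭` a prime of `S`. The local dimension of
`Spec S` at `𝔭` is the infimum of `dim S_𝔪` over the maximal ideals `𝔪 ⊇ 𝔭`. -/
theorem result {k S : Type u} [Field k] [CommRing S] [Algebra k S] [Algebra.FiniteType k S]
    (p : Ideal S) [p.IsPrime] :
    FlatMor.localDim (PrimeSpectrum S) ⟨p, inferInstance⟩ =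
      ⨅ m : {m : Ideal S // m.IsMaximal ∧ p ≤ m}, ringKrullDim (Localization.AtPrime (hp := m.2.1.isPrime') m.1) := by
  rw [Groth.Agent.Lib.Helper62.DimLoc.localDim_eq_compDim k S ⟨p, inferInstance⟩]
  have hm : ∀ m : {m : Ideal S // m.IsMaximal ∧ p ≤ m},
      ringKrullDim (Localization.AtPrime (hp := m.2.1.isPrime') m.1) =
        Groth.Agent.Lib.Helper62.DimLoc.compDim m.1 := by
    intro m
    haveI := m.2.1
    rw [IsLocalization.AtPrime.ringKrullDim_eq_height m.1 (Localization.AtPrime m.1)]
    exact Groth.Agent.Lib.Helper62.DimLoc.height_eq_compDim_of_isMaximal k S m.1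
  simp_rw [hm]
  apply le_antisymm
  · exact le_iInf fun m => Groth.Agent.Lib.Helper62.DimLoc.compDim_mono m.2.2
  · obtain ⟨g, hg, hgP⟩ := Groth.Agent.Lib.Helper62.DimLoc.exists_notMem_forall_compDim_le k S p
    obtain ⟨m, hm, hpm, hgm⟩ :=
      Groth.Agent.Lib.Helper62.DimLoc.exists_isMaximal_ge_notMem k S p g hg
    exact le_trans (iInf_le _ ⟨m, hm, hpm⟩) (hgP m hm.isPrime hgm)

end Groth.Agent.S2143
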