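import Groth.Statements.S2145
import Groth.Agent.Lib.Helper65.SpreadOut

set_option autoImplicit false
universe u
open CAlg

namespace Groth.Agent.S2145

open Groth.Agent.Lib.Helper65.SpreadOut

theorem result {R S S' : Type u} [CommRing R] [CommRing S] [CommRing S'] [Algebra R S]
    [Algebra R S'] [Algebra.FinitePresentation R S] [Algebra.FinitePresentation R S'] (q : Ideal S) [q.IsPrime]
    (q' : Ideal S') [q'.IsPrime] (e : Localization.AtPrime q ≃ₐ[R] Localization.AtPrime q') :
    ∃ (g : S) (g' : S'), g ∉ q ∧ g' ∉ q' ∧ Nonempty (Localization.Away g ≃ₐ[R] Localization.Away g') := by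
  classical
  let φ : S →ₐ[R] Localization.AtPrime q' :=
    e.toAlgHom.comp (IsScalarTower.toAlgHom R S (Localization.AtPrime q))
  have hφ : ∀ s, φ s = e (algebraMap S _ s) := fun _ => rfl
  obtain ⟨t, ht, φt, hφt⟩ := exists_lift_away (R := R) (S := S) (C := S') q'.primeCompl
    (CT := Localization.AtPrime q') φ
  have hunit_t : IsUnit (algebraMap S' (Localization.AtPrime q') t) :=
    IsLocalization.map_units _ ⟨t, ht⟩
  let ι : Localization.Away t →ₐ[S'] Localization.AtPrime q' :=
    IsLocalization.Away.liftAlgHom (A := S') (R := S') (S := Localization.Away t) t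
      (f := Algebra.ofId S' _) hunit_t
  have hι : ∀ s, ι (φt s) = φ s := hφt ι
  letI algSB : Algebra S (Localization.Away t) := φt.toRingHom.toAlgebra
  have halg : ∀ s, algebraMap S (Localization.Away t) s = φt s := fun _ => rfl
  haveI : IsScalarTower R S (Localization.Away t) :=
    IsScalarTower.of_algebraMap_eq (fun r => (φt.commutes r).symm)
  haveI : Algebra.FinitePresentation S (Localization.Away t) :=
    Algebra.FinitePresentation.of_restrict_scalars_finitePresentation R S _
  let ρ : Localization.Away t →ₐ[S] Localization.AtPrime q :=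
    { toRingHom := e.symm.toAlgHom.toRingHom.comp ι.toRingHom
      commutes' := by
        intro a
        change e.symm (ι (algebraMap S (Localization.Away t) a)) = _
        rw [halg, hι, hφ, AlgEquiv.symm_apply_apply] }
  have hρ : ∀ b, ρ b = e.symm (ι b) := fun _ => rfl
  let T1 : Submonoid (Localization.Away t) :=
    (IsUnit.submonoid (Localization.AtPrime q')).comap ι.toRingHom.toMonoidHom
  have hT1 : ∀ x, x ∈ T1 ↔ IsUnit (ι x) := fun _ => Iff.rfl
  obtain ⟨f, hf, g1, hg1, ⟨E⟩⟩ := core_iso (A := S) (B := Localization.Away t) q.primeCompl T1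
    (AM := Localization.AtPrime q) ρ
    (by
      intro b hb
      rw [hρ, map_eq_zero_iff _ e.symm.injective] at hb
      obtain ⟨n, c, hc⟩ := IsLocalization.Away.surj t b
      have hc0 : algebraMap S' (Localization.AtPrime q') c = 0 := by
        have : ι (algebraMap S' _ c) = 0 := by rw [← hc, map_mul, hb, zero_mul]
        simpa [ι] using this
      obtain ⟨⟨s, hs⟩, hsc⟩ := (IsLocalization.map_eq_zero_iff q'.primeCompl _ c).mp hc0
      refine ⟨algebraMap S' _ s, ?_, ?_⟩
      · rw [hT1]
        have : ι (algebraMap S' _ s) = algebraMap S' _ s := by simp [ι]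
        rw [this]
        exact IsLocalization.map_units _ ⟨s, hs⟩
      · apply ((IsLocalization.Away.algebraMap_isUnit t).pow n).mul_left_eq_zero.mp
        rw [mul_assoc, hc, ← map_mul, hsc, map_zero])
    (by
      intro x hx
      rw [hρ]
      exact ((hT1 x).mp hx).map e.symm)
    (by
      intro a ha
      rw [hT1, halg, hι, hφ]
      exact (IsLocalization.map_units (Localization.AtPrime q) ⟨a, ha⟩).map e)
  -- Step 4
  set c : S' := (IsLocalization.Away.sec t g1).1 with hc
  have hassoc : Associated (algebraMap S' (Localization.Away t) c) g1 :=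
    IsLocalization.Away.associated_sec_fst t g1
  haveI : IsLocalization.Away (t * c) (Localization.Away g1) :=
    IsLocalization.Away.mul_of_associated (S := Localization.Away t) t c g1 hassoc
  let e2 : Localization.Away g1 ≃ₐ[S'] Localization.Away (t * c) :=
    IsLocalization.algEquiv (Submonoid.powers (t * c)) _ _
  have hcq : c ∉ q' := by
    intro hcq
    have h1 : IsUnit (ι (algebraMap S' _ c)) := by
      obtain ⟨u, hu⟩ := hassoc
      have : algebraMap S' (Localization.Away t) c = g1 * ↑u⁻¹ := by
        rw [← hu, mul_assoc, Units.mul_inv, mul_one]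
      rw [this, map_mul]
      exact ((hT1 g1).mp hg1).mul ((Units.isUnit _).map ι)
    have h2 : ι (algebraMap S' _ c) = algebraMap S' _ c := by simp [ι]
    rw [h2] at h1
    exact (IsLocalization.AtPrime.isUnit_to_map_iff (Localization.AtPrime q') q' c).mp h1 hcq
  refine ⟨f, t * c, hf, ?_, ?_⟩
  · intro h
    rcases (‹q'.IsPrime›).mem_or_mem h with h | h
    · exact ht h
    · exact hcq h
  · exact ⟨(E.restrictScalars R).trans (e2.restrictScalars R)⟩

end Groth.Agent.S2145
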