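import Groth.Statements.S2146
import Groth.Agent.Lib.Helper65.SpreadOut

set_option autoImplicit false
universe u
open CAlg

namespace Groth.Agent.S2146

open Groth.Agent.Lib.Helper65.SpreadOut

/-- Product decomposition from a retraction whose kernel is generated by an idempotent. -/
theorem exists_prod_of_retraction {Rf Sf : Type u} [CommRing Rf] [CommRing Sf] [Algebra Rf Sf]
    (σ : Sf →ₐ[Rf] Rf) (e : Sf) (he : IsIdempotentElem e)
    (hJ : RingHom.ker σ.toRingHom = Ideal.span {e}) :
    ∃ (C : Type u) (_ : CommRing C) (_ : Algebra Rf C), Nonempty (Sf ≃ₐ[Rf] (Rf × C)) := by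
  refine ⟨Sf ⧸ Ideal.span {1 - e}, inferInstance, inferInstance, ?_⟩
  have hσe : σ e = 0 := by
    have : e ∈ RingHom.ker σ.toRingHom := by rw [hJ]; exact Ideal.mem_span_singleton_self e
    exact this
  have hmk1 : Ideal.Quotient.mk (Ideal.span {1 - e}) (1 - e) = 0 :=
    Ideal.Quotient.eq_zero_iff_mem.mpr (Ideal.mem_span_singleton_self _)
  have hmke : Ideal.Quotient.mk (Ideal.span {1 - e}) e = 1 := by
    have h1 : Ideal.Quotient.mk (Ideal.span {1 - e}) e
        = Ideal.Quotient.mk (Ideal.span {1 - e}) 1 - Ideal.Quotient.mk (Ideal.span {1 - e}) (1 - e) := by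
      rw [← map_sub]; congr 1; ring
    rw [h1, hmk1, map_one, sub_zero]
  let Φ : Sf →ₐ[Rf] Rf × (Sf ⧸ Ideal.span {1 - e}) :=
    AlgHom.prod σ (Ideal.Quotient.mkₐ Rf (Ideal.span {1 - e}))
  have hinj : Function.Injective Φ := by
    rw [injective_iff_map_eq_zero]
    intro s hs
    have h1 : σ s = 0 := congrArg Prod.fst hs
    have h2 : Ideal.Quotient.mk (Ideal.span {1 - e}) s = 0 := congrArg Prod.snd hs
    have h1' : s ∈ Ideal.span {e} := by rw [← hJ]; exact h1
    obtain ⟨a, ha⟩ := Ideal.mem_span_singleton'.mp h1'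
    obtain ⟨a', ha'⟩ := Ideal.mem_span_singleton'.mp (Ideal.Quotient.eq_zero_iff_mem.mp h2)
    have he' : e * e = e := he
    have hse : s * e = s := by rw [← ha, mul_assoc, he']
    have hse0 : s * e = 0 := by
      rw [← ha', mul_assoc, sub_mul, one_mul, he', sub_self, mul_zero]
    rw [← hse, hse0]
  have hsurj : Function.Surjective Φ := by
    rintro ⟨r, c⟩
    obtain ⟨c0, rfl⟩ := Ideal.Quotient.mk_surjective c
    refine ⟨(1 - e) * algebraMap Rf Sf r + e * c0, ?_⟩
    refine Prod.ext ?_ ?_
    · change σ _ = r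
      rw [map_add, map_mul, map_mul, map_sub, hσe, map_one, AlgHom.commutes]
      simp
    · change Ideal.Quotient.mk _ _ = _
      rw [map_add, map_mul, map_mul, hmk1, hmke, zero_mul, zero_add, one_mul]
  exact ⟨AlgEquiv.ofBijective Φ ⟨hinj, hsurj⟩⟩

theorem result {R S : Type u} [CommRing R] [CommRing S] [Algebra R S]
    [Algebra.FinitePresentation R S] (q : Ideal S) [q.IsPrime] (p : Ideal R) [p.IsPrime] [q.LiesOver p]
    (h : Function.Bijective (Localization.localRingHom p q (algebraMap R S) (q.over_def p))) :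
    ∃ f : R, f ∉ p ∧ ∀ (Rf Sf : Type u) [CommRing Rf] [CommRing Sf] [Algebra R Rf] [IsLocalization.Away f Rf]
      [Algebra S Sf] [IsLocalization.Away (algebraMap R S f) Sf] [Algebra Rf Sf] [Algebra R Sf] [IsScalarTower R S Sf]
      [IsScalarTower R Rf Sf],
      ∃ (C : Type u) (_ : CommRing C) (_ : Algebra Rf C), Nonempty (Sf ≃ₐ[Rf] (Rf × C)) := by
  classical
  let hE := RingEquiv.ofBijective _ h
  let ρ : S →ₐ[R] Localization.AtPrime p :=
    { toRingHom := hE.symm.toRingHom.comp (algebraMap S (Localization.AtPrime q))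
      commutes' := by
        intro r
        change hE.symm (algebraMap S (Localization.AtPrime q) (algebraMap R S r)) = _
        rw [RingEquiv.symm_apply_eq]
        exact (Localization.localRingHom_to_map p q (algebraMap R S) (q.over_def p) r).symm }
  have hρ : ∀ s, ρ s = hE.symm (algebraMap S (Localization.AtPrime q) s) := fun _ => rfl
  obtain ⟨f, hf, ρf, g, hg, hu, hker⟩ := core (A := R) (B := S) p.primeCompl q.primeCompl
    (AM := Localization.AtPrime p) ρ
    (by
      intro b hb
      rw [hρ, map_eq_zero_iff _ hE.symm.injective] at hb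
      obtain ⟨⟨t, ht⟩, htb⟩ := (IsLocalization.map_eq_zero_iff q.primeCompl _ b).mp hb
      exact ⟨t, ht, htb⟩)
    (by
      intro t ht
      rw [hρ]
      exact (IsLocalization.map_units (Localization.AtPrime q) ⟨t, ht⟩).map hE.symm)
  refine ⟨f, hf, ?_⟩
  intro Rf Sf _ _ _ _ _ _ _ _ _ _
  let e0 : Localization.Away f ≃ₐ[R] Rf := IsLocalization.algEquiv (Submonoid.powers f) _ _
  let σ0 : S →ₐ[R] Rf := e0.toAlgHom.comp ρf
  have hσ0 : ∀ s, σ0 s = e0 (ρf s) := fun _ => rfl
  have hunit : IsUnit (σ0.toRingHom (algebraMap R S f)) := by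
    change IsUnit (σ0 (algebraMap R S f))
    rw [AlgHom.commutes]
    exact IsLocalization.Away.algebraMap_isUnit f
  let σr : Sf →+* Rf := IsLocalization.Away.lift (algebraMap R S f) hunit
  have hσr : ∀ s, σr (algebraMap S Sf s) = σ0 s := fun s => IsLocalization.Away.lift_eq _ hunit s
  have hcomm : ∀ r, σr (algebraMap Rf Sf r) = r := by
    have : (σr.comp (algebraMap Rf Sf)) = RingHom.id Rf := by
      apply IsLocalization.ringHom_ext (Submonoid.powers f)
      ext r
      simp only [RingHom.comp_apply, RingHom.id_apply]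
      rw [← IsScalarTower.algebraMap_apply R Rf Sf, IsScalarTower.algebraMap_apply R S Sf, hσr,
        AlgHom.commutes]
    exact fun r => RingHom.congr_fun this r
  let σ : Sf →ₐ[Rf] Rf := { σr with commutes' := hcomm }
  have hσ : ∀ s, σ (algebraMap S Sf s) = σ0 s := hσr
  have hσsurj : Function.Surjective σ := fun r => ⟨algebraMap Rf Sf r, hcomm r⟩
  -- the kernel is finitely generated
  have hfpS : Algebra.FinitePresentation R Sf :=
    Algebra.FinitePresentation.of_isLocalizationAway (algebraMap R S f)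
  have hfpR : Algebra.FinitePresentation R Rf := IsLocalization.Away.finitePresentation f
  have hFG : (RingHom.ker σ.toRingHom).FG :=
    Algebra.FinitePresentation.ker_fG_of_surjective (σ.restrictScalars R) hσsurj
  -- the kernel is killed by g
  have hkill : ∀ x, σ x = 0 → algebraMap S Sf g * x = 0 := by
    intro x hx
    obtain ⟨n, s, hs⟩ := IsLocalization.Away.surj (algebraMap R S f) x
    have hs0 : ρf s = 0 := by
      have : σ0 s = 0 := by rw [← hσ, ← hs, map_mul, hx, zero_mul]
      rw [hσ0] at this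
      exact (map_eq_zero_iff _ e0.injective).mp this
    obtain ⟨N, hN⟩ := hker s hs0
    have huf := IsLocalization.Away.algebraMap_isUnit (S := Sf) (algebraMap R S f)
    apply (huf.pow n).mul_left_eq_zero.mp
    rw [mul_assoc, hs]
    apply (huf.pow N).mul_right_eq_zero.mp
    rw [← map_pow, ← map_mul, ← map_mul, ← mul_assoc, hN, map_zero]
  -- idempotence
  have huσ : IsUnit (σ (algebraMap S Sf g)) := by
    rw [hσ, hσ0]; exact hu.map e0
  obtain ⟨u, hu'⟩ := huσ
  set J := RingHom.ker σ.toRingHom with hJ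
  have hJmem : ∀ x, x ∈ J ↔ σ x = 0 := fun x => Iff.rfl
  have hw : algebraMap S Sf g - algebraMap Rf Sf u ∈ J := by
    rw [hJmem, map_sub, AlgHom.commutes, ← hu']
    simp
  have hidem : IsIdempotentElem J := by
    apply le_antisymm Ideal.mul_le_right
    intro x hx
    have hx0 : algebraMap S Sf g * x = 0 := hkill x ((hJmem x).mp hx)
    have : x = (-(algebraMap Rf Sf (↑u⁻¹ : Rf)) * (algebraMap S Sf g - algebraMap Rf Sf u)) * x := by
      have h1 : algebraMap Rf Sf (↑u⁻¹ : Rf) * algebraMap Rf Sf (u : Rf) = 1 := by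
        rw [← map_mul, Units.inv_mul, map_one]
      calc x = (algebraMap Rf Sf (↑u⁻¹ : Rf) * algebraMap Rf Sf (u : Rf)) * x := by rw [h1, one_mul]
        _ = _ := by
          have : (-(algebraMap Rf Sf (↑u⁻¹ : Rf)) * (algebraMap S Sf g - algebraMap Rf Sf u)) * x
            = -(algebraMap Rf Sf (↑u⁻¹ : Rf)) * (algebraMap S Sf g * x)
              + (algebraMap Rf Sf (↑u⁻¹ : Rf) * algebraMap Rf Sf (u : Rf)) * x := by ring
          rw [this, hx0, mul_zero, zero_add]
    rw [this]
    exact Ideal.mul_mem_mul (J.mul_mem_left _ hw) hx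
  obtain ⟨e, he, hJe⟩ := (Ideal.isIdempotentElem_iff_of_fg J hFG).mp hidem
  exact exists_prod_of_retraction σ e he hJe

end Groth.Agent.S2146
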