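import Groth.Statements.S2148
import Groth.Agent.Lib.Helper84.PRoot9

set_option autoImplicit false
universe u
open CAlg

namespace Groth.Agent.S2148

/-- Let `k` be a perfect field of characteristic `p > 0` and `K` an extension field of `k`. For `a ∈ K`,
the differential `da` vanishes in `Ω_{K/k}` if and only if `a` is a `p`-th power in `K`. -/
theorem result {k K : Type u} [Field k] [Field K] [Algebra k K] (p : ℕ) [Fact p.Prime]
    [CharP k p] [PerfectRing k p] (a : K) :
    KaehlerDifferential.D k K a = 0 ↔ ∃ b : K, b ^ p = a := by
  constructor
  · intro h0
    by_contra hcon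
    push Not at hcon
    have : CharP K p := charP_of_injective_algebraMap (algebraMap k K).injective p
    -- `k` maps into the subfield of `p`-th powers
    have hmem : ∀ x : k, algebraMap k K x ∈ (frobenius K p).fieldRange := by
      intro x
      refine ⟨algebraMap k K ((frobeniusEquiv k p).symm x), ?_⟩
      rw [frobenius_def, ← map_pow, frobeniusEquiv_symm_pow_p]
    let _ : Algebra k (frobenius K p).fieldRange :=
      ((algebraMap k K).codRestrict (frobenius K p).fieldRange hmem).toAlgebra
    have : IsScalarTower k (frobenius K p).fieldRange K :=
      IsScalarTower.of_algebraMap_eq fun _ => rfl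
    have h1 := Groth.Agent.Lib.Helper84.PRoot.D_ne_zero_of_not_pow p a hcon
    apply h1
    have h2 : KaehlerDifferential.map k (frobenius K p).fieldRange K K
        (KaehlerDifferential.D k K a) =
        KaehlerDifferential.D (frobenius K p).fieldRange K a := by
      rw [KaehlerDifferential.map_D]
      rfl
    rw [← h2, h0, map_zero]
  · rintro ⟨b, rfl⟩
    have : CharP K p := charP_of_injective_algebraMap (algebraMap k K).injective p
    rw [Derivation.leibniz_pow, ← Nat.cast_smul_eq_nsmul K, CharP.cast_eq_zero, zero_smul]

end Groth.Agent.S2148
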