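import Groth.Statements.S2149
import Mathlib
-- import your own Groth.Agent.* helpers here

set_option autoImplicit false
universe u
open CAlg

namespace Groth.Agent.S2149

open TensorProduct

lemma key {R S M M' : Type u} [CommRing R] [CommRing S] [Algebra R S]
    [AddCommGroup M] [Module S M] [Module R M] [IsScalarTower R S M] [AddCommGroup M'] [Module S M']
    [Module R M'] [IsScalarTower R S M'] (u : M →ₗ[S] M') (m : Ideal S) [m.IsMaximal]
    (Q : Type u) [AddCommGroup Q] [Module R Q] :
    IsLocalizedModule.map m.primeCompl
      (AlgebraTensorModule.rTensor R Q (LocalizedModule.mkLinearMap m.primeCompl M))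
      (AlgebraTensorModule.rTensor R Q (LocalizedModule.mkLinearMap m.primeCompl M'))
      (AlgebraTensorModule.rTensor R Q u) =
    AlgebraTensorModule.rTensor R Q ((LocalizedModule.map m.primeCompl u).restrictScalars S) := by
  apply IsLocalizedModule.linearMap_ext m.primeCompl
    (AlgebraTensorModule.rTensor R Q (LocalizedModule.mkLinearMap m.primeCompl M))
    (AlgebraTensorModule.rTensor R Q (LocalizedModule.mkLinearMap m.primeCompl M'))
  rw [IsLocalizedModule.map_comp]
  ext a q
  simp [LocalizedModule.mkLinearMap_apply, LocalizedModule.map_mk]


/-- Let `R → S` be a ring map and `u : M → M'` a map of `S`-modules. Then `u`, viewed as an `R`-linear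
map, is universally injective exactly when, for every maximal ideal `𝔪` of `S`, the localized map
`M_𝔪 → M'_𝔪` is also universally injective as an `R`-linear map. -/
theorem result {R S M M' : Type u} [CommRing R] [CommRing S] [Algebra R S]
    [AddCommGroup M] [Module S M] [Module R M] [IsScalarTower R S M] [AddCommGroup M'] [Module S M'] [Module R M']
    [IsScalarTower R S M'] (u : M →ₗ[S] M') :
    CAlgX.UniversallyInjective R (u.restrictScalars R) ↔
      ∀ (m : Ideal S) [m.IsMaximal],
        CAlgX.UniversallyInjective R ((LocalizedModule.map m.primeCompl u).restrictScalars R) := by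
  constructor
  · intro H m hm Q _ _
    have hU : Function.Injective (AlgebraTensorModule.rTensor R Q u) := H Q
    have hmapinj := IsLocalizedModule.map_injective m.primeCompl
      (AlgebraTensorModule.rTensor R Q (LocalizedModule.mkLinearMap m.primeCompl M))
      (AlgebraTensorModule.rTensor R Q (LocalizedModule.mkLinearMap m.primeCompl M'))
      (AlgebraTensorModule.rTensor R Q u) hU
    rw [key (R := R) u m Q] at hmapinj
    exact hmapinj
  · intro H Q _ _
    rw [injective_iff_map_eq_zero]
    intro x hx
    by_contra hx0
    let I : Ideal S := LinearMap.ker (LinearMap.toSpanSingleton S (M ⊗[R] Q) x)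
    have hI : I ≠ ⊤ := by
      intro h
      have h1 : (1 : S) ∈ I := by rw [h]; exact Submodule.mem_top
      rw [LinearMap.mem_ker, LinearMap.toSpanSingleton_apply, one_smul] at h1
      exact hx0 h1
    obtain ⟨m, hm, hIm⟩ := I.exists_le_maximal hI
    have hcomm := key (R := R) u m Q
    have h1 : AlgebraTensorModule.rTensor R Q
        ((LocalizedModule.map m.primeCompl u).restrictScalars S)
        (AlgebraTensorModule.rTensor R Q (LocalizedModule.mkLinearMap m.primeCompl M) x) = 0 := by
      rw [← hcomm, IsLocalizedModule.map_apply]
      have h3 : AlgebraTensorModule.rTensor R Q u x = 0 := hx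
      rw [h3, map_zero]
    have h2 : AlgebraTensorModule.rTensor R Q (LocalizedModule.mkLinearMap m.primeCompl M) x
        = 0 := by
      have hinj := H m Q
      have h4 : ((LocalizedModule.map m.primeCompl u).restrictScalars R).rTensor Q
          (AlgebraTensorModule.rTensor R Q (LocalizedModule.mkLinearMap m.primeCompl M) x) =
          ((LocalizedModule.map m.primeCompl u).restrictScalars R).rTensor Q 0 := by
        rw [LinearMap.map_zero]; exact h1
      exact hinj h4
    obtain ⟨s, hs⟩ := (IsLocalizedModule.eq_zero_iff m.primeCompl
      (AlgebraTensorModule.rTensor R Q (LocalizedModule.mkLinearMap m.primeCompl M))).1 h2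
    apply s.2
    apply hIm
    rw [LinearMap.mem_ker, LinearMap.toSpanSingleton_apply]
    exact hs

end Groth.Agent.S2149
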