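import Groth.Statements.S2150
import Mathlib
import Groth.Agent.Lib.Helper48.NilPrime
import Groth.Agent.Lib.Helper48.TensorFiber2
import Groth.Agent.S9630
-- import your own Groth.Agent.* helpers here

set_option autoImplicit false
universe u
open CAlg

namespace Groth.Agent.S2150

open Polynomial IntermediateField TensorProduct

/-- coefficients of a monic factor (over `K`) of a separable polynomial over `k` are separable
over `k`. -/
theorem isSeparable_coeff_of_dvd {k K : Type u} [Field k] [Field K] [Algebra k K] {f : k[X]}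
    (hf : f.Separable) {g : K[X]} (hg : g.Monic) (hdvd : g ∣ f.map (algebraMap k K)) (n : ℕ) :
    IsSeparable k (g.coeff n) := by
  have hlift : g.map (algebraMap K (AlgebraicClosure K)) ∈ Polynomial.lifts
      (algebraMap (separableClosure k (AlgebraicClosure K)) (AlgebraicClosure K)) := by
    refine (IsAlgClosed.splits _).mem_lift_of_roots_mem_range (hg.map _) _ ?_
    intro x hx
    have h0 : aeval x f = 0 := by
      obtain ⟨q, hq⟩ := hdvd
      have h1 : f.map (algebraMap k (AlgebraicClosure K)) =
          g.map (algebraMap K _) * q.map (algebraMap K _) := by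
        rw [IsScalarTower.algebraMap_eq k K (AlgebraicClosure K), ← Polynomial.map_map, hq,
          Polynomial.map_mul]
      rw [aeval_def, ← eval_map, h1, eval_mul, (mem_roots'.mp hx).2.eq_zero, zero_mul]
    have hx' : IsSeparable k x := hf.of_dvd (minpoly.dvd k x h0)
    exact ⟨⟨x, mem_separableClosure_iff.mpr hx'⟩, rfl⟩
  obtain ⟨m, hm⟩ := (Polynomial.lifts_iff_coeff_lifts _).mp hlift n
  rw [coeff_map] at hm
  have h1 : IsSeparable k (algebraMap K (AlgebraicClosure K) (g.coeff n)) := by
    rw [← hm]
    exact mem_separableClosure_iff.mp m.2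
  rwa [IsSeparable, minpoly.algebraMap_eq (algebraMap K (AlgebraicClosure K)).injective] at h1

theorem backward {k K : Type u} [Field k] [Field K] [Algebra k K]
    (hsep : ∀ α : K, IsSeparable k α → α ∈ Set.range (algebraMap k K))
    (k' : Type u) [Field k'] [Algebra k k'] [Module.Finite k k'] [Algebra.IsSeparable k k'] :
    IsDomain (k' ⊗[k] K) := by
  let pb := Field.powerBasisOfFiniteOfSeparable k k'
  let σ : k' →ₐ[k] AlgebraicClosure K := IsAlgClosed.lift
  have hβ : IsIntegral k pb.gen := Algebra.IsIntegral.isIntegral _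
  have hr : IsIntegral K (σ pb.gen) := Algebra.IsIntegral.isIntegral _
  have hf_sep : (minpoly k pb.gen).Separable := Algebra.IsSeparable.isSeparable k pb.gen
  have haeval : aeval (σ pb.gen) (minpoly k pb.gen) = 0 := by
    rw [Polynomial.aeval_algHom_apply, minpoly.aeval, map_zero]
  have hdvd : minpoly K (σ pb.gen) ∣ (minpoly k pb.gen).map (algebraMap k K) :=
    minpoly.dvd K _ (by rw [Polynomial.aeval_map_algebraMap, haeval])
  have hg_monic : (minpoly K (σ pb.gen)).Monic := minpoly.monic hr
  have hlift : minpoly K (σ pb.gen) ∈ Polynomial.lifts (algebraMap k K) := by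
    rw [Polynomial.lifts_iff_coeff_lifts]
    intro n
    exact hsep _ (isSeparable_coeff_of_dvd hf_sep hg_monic hdvd n)
  obtain ⟨g₀, hg₀, hdeg, hmonic⟩ := Polynomial.lifts_and_natDegree_eq_and_monic hlift hg_monic
  have hg₀β : aeval pb.gen g₀ = 0 := by
    have h1 : σ (aeval pb.gen g₀) = 0 := by
      rw [← Polynomial.aeval_algHom_apply, ← Polynomial.aeval_map_algebraMap K, hg₀]
      exact minpoly.aeval K _
    exact (map_eq_zero σ).mp h1
  have hle1 : (minpoly k pb.gen).natDegree ≤ (minpoly K (σ pb.gen)).natDegree := by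
    rw [← hdeg]
    exact Polynomial.natDegree_le_of_dvd (minpoly.dvd k _ hg₀β) hmonic.ne_zero
  have hle2 : (minpoly K (σ pb.gen)).natDegree ≤ (minpoly k pb.gen).natDegree := by
    have h2 := Polynomial.natDegree_le_of_dvd hdvd (Polynomial.map_ne_zero (minpoly.ne_zero hβ))
    rwa [Polynomial.natDegree_map] at h2
  have hdim : (minpoly K (σ pb.gen)).natDegree = pb.dim := by
    rw [← pb.natDegree_minpoly]
    exact le_antisymm hle2 hle1
  have hli : LinearIndependent K (fun i : Fin pb.dim => (σ pb.gen) ^ (i : ℕ)) := by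
    have h0 := linearIndependent_pow (K := K) (σ pb.gen)
    rw [hdim] at h0
    exact h0
  let e : k' ≃ₐ[k] σ.fieldRange := σ.equivFieldRange
  let bA : Module.Basis (Fin pb.dim) k σ.fieldRange := pb.basis.map e.toLinearEquiv
  have hLD : σ.fieldRange.LinearDisjoint K := by
    apply IntermediateField.LinearDisjoint.of_basis_left bA
    have hfun : (σ.fieldRange.val ∘ bA) = fun i : Fin pb.dim => (σ pb.gen) ^ (i : ℕ) := by
      funext i
      simp [bA, e, PowerBasis.coe_basis]
    rw [hfun]
    exact hli
  haveI : IsDomain (σ.fieldRange ⊗[k] K) := hLD.isDomain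
  exact MulEquiv.isDomain _ (Algebra.TensorProduct.congr e AlgEquiv.refl).toMulEquiv

theorem forward_core {k K : Type u} [Field k] [Field K] [Algebra k K]
    (k' : Type u) [Field k'] [Algebra k k']
    (hirr : IrreducibleSpace (PrimeSpectrum (k' ⊗[k] K)))
    (α : K) (hα : IsSeparable k α) (α' : k') (hα' : aeval α' (minpoly k α) = 0)
    (ι : k' →ₐ[k] K) (hι : ι α' = α) (σ : k' →ₐ[k] AlgebraicClosure K)
    (hσ : σ α' ≠ algebraMap K (AlgebraicClosure K) α) : False := by
  have hT : (nilradical (K ⊗[k] k')).IsPrime :=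
    Groth.Agent.Lib.Helper48.NP.np_of_injective
      (Algebra.TensorProduct.comm k K k').toRingEquiv.toRingHom
      (Algebra.TensorProduct.comm k K k').toRingEquiv.injective
      (PrimeSpectrum.irreducibleSpace_iff_isPrime_nilradical.mp hirr)
  obtain ⟨-, hmul⟩ := (Groth.Agent.Lib.Helper48.NP.np_iff (A := K ⊗[k] k')).mp hT
  let φ₁ : K ⊗[k] k' →ₐ[K] AlgebraicClosure K :=
    Algebra.TensorProduct.lift (Algebra.ofId K (AlgebraicClosure K))
      ((IsScalarTower.toAlgHom k K (AlgebraicClosure K)).comp ι)
      (fun _ _ => Commute.all _ _)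
  let φ₂ : K ⊗[k] k' →ₐ[K] AlgebraicClosure K :=
    Algebra.TensorProduct.lift (Algebra.ofId K (AlgebraicClosure K)) σ
      (fun _ _ => Commute.all _ _)
  have hroot : (X - C α) ∣ (minpoly k α).map (algebraMap k K) := by
    rw [Polynomial.dvd_iff_isRoot, Polynomial.IsRoot.def, Polynomial.eval_map_algebraMap,
      minpoly.aeval]
  obtain ⟨g, hg⟩ := hroot
  have hx0 : aeval ((1 : K) ⊗ₜ[k] α') ((minpoly k α).map (algebraMap k K)) = 0 := by
    rw [Polynomial.aeval_map_algebraMap]
    have hx1 : ((1 : K) ⊗ₜ[k] α' : K ⊗[k] k') =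
        (Algebra.TensorProduct.includeRight : k' →ₐ[k] K ⊗[k] k') α' := rfl
    rw [hx1, Polynomial.aeval_algHom_apply, hα', map_zero]
  have hprod : aeval ((1 : K) ⊗ₜ[k] α') (X - C α : K[X]) *
      aeval ((1 : K) ⊗ₜ[k] α') g = 0 := by
    rw [← map_mul, ← hg, hx0]
  rcases hmul _ _ (by rw [hprod]; exact IsNilpotent.zero) with h1 | h1
  · have h2 : φ₂ (aeval ((1 : K) ⊗ₜ[k] α') (X - C α : K[X])) = 0 :=
      (h1.map φ₂).eq_zero
    rw [← Polynomial.aeval_algHom_apply] at h2
    have hφx : φ₂ ((1 : K) ⊗ₜ[k] α') = σ α' := by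
      simp [φ₂]
    rw [hφx] at h2
    simp at h2
    exact hσ (sub_eq_zero.mp h2)
  · have h2 : φ₁ (aeval ((1 : K) ⊗ₜ[k] α') g) = 0 := (h1.map φ₁).eq_zero
    rw [← Polynomial.aeval_algHom_apply] at h2
    have hφx : φ₁ ((1 : K) ⊗ₜ[k] α') =
        algebraMap K (AlgebraicClosure K) α := by
      simp [φ₁, hι]
    rw [hφx, Polynomial.aeval_algebraMap_apply] at h2
    have h3 : g.IsRoot α := by
      have h4 := (algebraMap K (AlgebraicClosure K)).injective (h2.trans (map_zero _).symm)
      simpa using h4
    have hsepK : ((minpoly k α).map (algebraMap k K)).Separable :=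
      Polynomial.Separable.map (f := algebraMap k K) hα
    rw [hg] at hsepK
    obtain ⟨g', hg'⟩ := Polynomial.dvd_iff_isRoot.mpr h3
    rw [hg'] at hsepK
    have hsq := hsepK.squarefree (X - C α) ⟨g', by ring⟩
    exact Polynomial.not_isUnit_X_sub_C α hsq

theorem forward {k K : Type u} [Field k] [Field K] [Algebra k K]
    (h : ∀ (k' : Type u) [Field k'] [Algebra k k'], IrreducibleSpace (PrimeSpectrum (k' ⊗[k] K)))
    (α : K) (hα : IsSeparable k α) : α ∈ Set.range (algebraMap k K) := by
  by_contra hnot
  have hint : IsIntegral k α := hα.isIntegral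
  have hdeg : 2 ≤ (minpoly k α).natDegree := by
    have h1 : (minpoly k α).natDegree ≠ 1 := fun h1 => hnot (by
      have h2 := (minpoly.natDegree_eq_one_iff).mp h1
      simpa using h2)
    have h0 := minpoly.natDegree_pos hint
    omega
  have hcard : Fintype.card ((minpoly k α).rootSet (AlgebraicClosure K)) =
      (minpoly k α).natDegree :=
    Polynomial.card_rootSet_eq_natDegree hα (IsAlgClosed.splits _)
  have ha₀ : algebraMap K (AlgebraicClosure K) α ∈ (minpoly k α).rootSet (AlgebraicClosure K) := by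
    rw [Polynomial.mem_rootSet]
    refine ⟨minpoly.ne_zero hint, ?_⟩
    rw [Polynomial.aeval_algebraMap_apply, minpoly.aeval, map_zero]
  obtain ⟨⟨b, hb⟩, hbne⟩ := Fintype.exists_ne_of_one_lt_card (by rw [hcard]; omega)
    (⟨_, ha₀⟩ : (minpoly k α).rootSet (AlgebraicClosure K))
  have hbne' : b ≠ algebraMap K (AlgebraicClosure K) α := fun hh => hbne (Subtype.ext hh)
  have hb' : b ∈ (minpoly k α).aroots (AlgebraicClosure K) := by
    rw [Polynomial.mem_rootSet] at hb
    rw [Polynomial.mem_aroots]
    exact hb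
  have hσ : ((algHomAdjoinIntegralEquiv k hint).symm ⟨b, hb'⟩) (AdjoinSimple.gen k α) = b :=
    algHomAdjoinIntegralEquiv_symm_apply_gen k hint ⟨b, hb'⟩
  refine forward_core k⟮α⟯ (h k⟮α⟯) α hα (AdjoinSimple.gen k α) ?_ k⟮α⟯.val rfl
    ((algHomAdjoinIntegralEquiv k hint).symm ⟨b, hb'⟩) (by rw [hσ]; exact hbne')
  rw [← IntermediateField.minpoly_gen k α, minpoly.aeval]

open TensorProduct in
/-- For a field extension `K/k`, the spectrum of `k' ⊗_k K` is irreducible for every field extension
`k'/k` (geometric irreducibility, extensions in the same universe) if and only if every element of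
`K` which is separable algebraic over `k` lies in `k`. -/
theorem result {k K : Type u} [Field k] [Field K] [Algebra k K] :
    (∀ (k' : Type u) [Field k'] [Algebra k k'], IrreducibleSpace (PrimeSpectrum (k' ⊗[k] K))) ↔
      ∀ α : K, IsSeparable k α → α ∈ Set.range (algebraMap k K) := by
  constructor
  · intro h α hα
    exact forward h α hα
  · intro hsep
    have key : ∀ (k' : Type u) [Field k'] [Algebra k k'] [Module.Finite k k']
        [Algebra.IsSeparable k k'], IrreducibleSpace (PrimeSpectrum (k' ⊗[k] K)) := by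
      intro k' _ _ _ _
      haveI := backward hsep k'
      infer_instance
    exact ((Groth.Agent.S9630.result (k := k) (R := K)).out 1 0).mp key

end Groth.Agent.S2150
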