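import Groth.Statements.S2154
import Groth.Agent.Lib.Helper24.Lim8Finite
import Groth.Agent.S9200
-- import your own Groth.Agent.* helpers here

set_option autoImplicit false
universe u
open CategoryTheory AlgebraicGeometry
open Lim

namespace Groth.Agent.S2154

/-- Let `S` be quasi-compact and quasi-separated and `X = lim X_i` a cofiltered limit of quasi-compact
quasi-separated `S`-schemes locally of finite type over `S`, with finite transition morphisms. If `X
→ S` is integral then `X_i → S` is finite for all `i` beyond some index. -/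
theorem result {I : Type u} [SmallCategory I] [IsCofiltered I] (S : Scheme.{u}) [CompactSpace S]
    [QuasiSeparatedSpace S] (D : I ⥤ Over S) (c : Limits.Cone D) (hc : Limits.IsLimit c)
    [∀ (i j : I) (f : i ⟶ j), IsFinite (D.map f).left] [∀ i, CompactSpace (D.obj i).left]
    [∀ i, QuasiSeparatedSpace (D.obj i).left] [∀ i, LocallyOfFiniteType (D.obj i).hom] [IsIntegralHom c.pt.hom] :
    ∃ i₀ : I, ∀ (i : I) (_ : i ⟶ i₀), IsFinite (D.obj i).hom := by
  obtain ⟨i₀⟩ := IsCofiltered.nonempty (C := I)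
  let D' : I ⥤ Scheme.{u} := D ⋙ Over.forget S
  let c' : Limits.Cone D' := (Over.forget S).mapCone c
  have hc' : Limits.IsLimit c' := Limits.isLimitOfPreserves (Over.forget S) hc
  let t : D' ⟶ (Functor.const I).obj S :=
    { app i := (D.obj i).hom
      naturality i j f := by simp [D'] }
  have hnat : ∀ {i j : I} (f : i ⟶ j), (D'.map f ≫ t.app j : D'.obj i ⟶ S) = t.app i := by
    intro i j f
    exact Over.w (D.map f)
  have h0 : ∀ {i j : I} (f : i ⟶ j), IsFinite (D'.map f) := fun {i j} f ↦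
    inferInstanceAs (IsFinite (D.map f).left)
  have h1 : ∀ (i j : I) (f : i ⟶ j), IsAffineHom (D'.map f) := fun i j f ↦
    inferInstanceAs (IsAffineHom (D.map f).left)
  have h2 : ∀ i, CompactSpace (D'.obj i) := fun i ↦ inferInstanceAs (CompactSpace (D.obj i).left)
  have h2' : ∀ i, QuasiSeparatedSpace (D'.obj i) :=
    fun i ↦ inferInstanceAs (QuasiSeparatedSpace (D.obj i).left)
  have h3 : ∀ i, LocallyOfFiniteType (t.app i) :=
    fun i ↦ inferInstanceAs (LocallyOfFiniteType (D.obj i).hom)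
  have hst : ∀ i : I, (c'.π.app i ≫ t.app i : c'.pt ⟶ S) = c.pt.hom := fun i ↦ Over.w (c.π.app i)
  have h4 : ∀ i, IsIntegralHom (c'.π.app i ≫ t.app i) := by
    intro i
    change IsIntegralHom (c'.π.app i ≫ t.app i : c'.pt ⟶ S)
    rw [hst i]; exact ‹IsIntegralHom c.pt.hom›
  have h5 : IsAffineHom (c'.π.app i₀ ≫ t.app i₀) := by
    have := h4 i₀
    infer_instance
  obtain ⟨i₁, hi₁⟩ := @Groth.Agent.S9200.result I _ _ S _ _ D' t c' hc' h1 h2 h2' i₀ h5
  have h6 : IsAffineHom (t.app i₁) := hi₁ i₁ (𝟙 i₁)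
  obtain ⟨j, -, hj⟩ := @Groth.Agent.Lib.Helper24.Lim8.exists_isFinite_app _ _ D' c' hc' _
    (fun {i j} f ↦ h0 f) S _ t i₁ h6 (h3 i₁) (h4 i₁)
  refine ⟨j, fun i f ↦ ?_⟩
  have e : (D.obj i).hom = D'.map f ≫ t.app j := (hnat f).symm
  rw [e]
  exact MorphismProperty.comp_mem @IsFinite _ _ (h0 f) hj

end Groth.Agent.S2154
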