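import Groth.Statements.S8915
import Groth.Agent.Lib.QCoh.Helper50_OmegaFT
import Groth.Agent.Lib.QCoh.Helper74_FittSheaf

set_option autoImplicit false
universe u
open CategoryTheory CategoryTheory.Limits AlgebraicGeometry TopologicalSpace
open SDiv

namespace Groth.Agent.S8915

/-- Let f : X ⟶ S be locally of finite type and quasi-separated. Then the closed subset of X defined by
the Fitting ideal Fit_0(Ω_{X/S}) is exactly the set of points at which f is not unramified, i.e.
which have no open neighbourhood on which f is formally unramified. The published statement does not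
assume f quasi-separated; this row does, because the module Ω_{X/S} used here is defined for
quasi-separated f. -/
theorem result {X S : Scheme.{u}} (f : X ⟶ S) [LocallyOfFiniteType f] [QuasiSeparated f]
    (x : ↥X) :
    x ∈ (Fitt.sheafIdeal (Omega.sheaf f) 0).support ↔ ¬ ∃ U : X.Opens, x ∈ U ∧ FormallyUnramified (U.ι ≫ f) := by
  have hft : (Omega.sheaf f).IsFiniteType := Groth.Agent.Lib.QCoh.OmegaFT.isFiniteType_omega f
  have hsupp := Groth.Agent.Lib.QCoh.FittSheaf74.support_zero_eq (Omega.sheaf f)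
  have h1 : x ∈ (Fitt.sheafIdeal (Omega.sheaf f) 0).support ↔
      ¬ Subsingleton ((Omega.sheaf f).presheaf.stalk x) := by
    change x ∈ ((Fitt.sheafIdeal (Omega.sheaf f) 0).support : Set X) ↔ _
    rw [hsupp]
    rfl
  rw [h1, not_iff_not]
  constructor
  · intro hx
    have hopen := Groth.Agent.Lib.QCoh.StalkLocal.isOpen_setOf_subsingleton_stalk (Omega.sheaf f)
    let U : X.Opens := ⟨_, hopen⟩
    refine ⟨U, hx, ⟨fun {V} hV {U₁} hU₁ e => ?_⟩⟩
    rw [Groth.Agent.Lib.QCoh.OmegaFT.formallyUnramified_comp_ι_appLE_iff f U hV hU₁ e]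
    refine ⟨fun a b => ?_⟩
    refine TopCat.Presheaf.section_ext
      (⟨(Omega.sheaf f).presheaf, (Omega.sheaf f).isSheaf⟩ : TopCat.Sheaf Ab X) _ a b fun y hy => ?_
    have hyU : y ∈ U := U.ι_image_le U₁ hy
    have : Subsingleton ((Omega.sheaf f).presheaf.stalk y) := hyU
    exact Subsingleton.elim _ _
  · rintro ⟨U, hxU, hfu⟩
    obtain ⟨_, ⟨V, hV, rfl⟩, hxV, -⟩ :=
      S.isBasis_affineOpens.exists_subset_of_mem_open (Set.mem_univ (f x)) isOpen_univ
    obtain ⟨_, ⟨U₁, hU₁, rfl⟩, hxU₁, hU₁V⟩ :=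
      (U : Scheme.{u}).isBasis_affineOpens.exists_subset_of_mem_open
        (show (⟨x, hxU⟩ : U) ∈ (((U.ι ≫ f) ⁻¹ᵁ V : (U : Scheme.{u}).Opens) : Set U) from hxV)
        ((U.ι ≫ f) ⁻¹ᵁ V).isOpen
    have h2 := hfu.formallyUnramified_appLE hV hU₁ hU₁V
    rw [Groth.Agent.Lib.QCoh.OmegaFT.formallyUnramified_comp_ι_appLE_iff f U hV hU₁ hU₁V] at h2
    have hx' : x ∈ U.ι ''ᵁ U₁ := ⟨⟨x, hxU⟩, hxU₁, rfl⟩
    rw [Groth.Agent.Lib.QCoh.stalk_subsingleton_iff_of_isAffineOpen (Omega.sheaf f)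
      (hU₁.image_of_isOpenImmersion U.ι) x hx']
    intro s
    refine ⟨1, ?_, Subsingleton.elim _ _⟩
    rw [Scheme.basicOpen_of_isUnit _ isUnit_one]
    exact hx'

end Groth.Agent.S8915
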