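import Groth.Statements.S2158
import Groth.Agent.S8915

set_option autoImplicit false
universe u
open CategoryTheory AlgebraicGeometry
open Mor


section S2158helpers
set_option linter.style.haveILetI false
open TopologicalSpace

namespace Groth.Agent.S2158

/-- the stalk of `Ω_{X/S}` at `x` vanishes iff some open neighbourhood of `x` is formally
unramified over `S` (from S8915). -/
theorem subsingleton_stalk_iff_exists {X S : Scheme.{u}} (f : X ⟶ S) [LocallyOfFiniteType f]
    [QuasiSeparated f] (x : X) :
    Subsingleton ((Omega.sheaf f).presheaf.stalk x) ↔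
      ∃ U : X.Opens, x ∈ U ∧ FormallyUnramified (U.ι ≫ f) := by
  have hft : (Omega.sheaf f).IsFiniteType := Groth.Agent.Lib.QCoh.OmegaFT.isFiniteType_omega f
  have hsupp := Groth.Agent.Lib.QCoh.FittSheaf74.support_zero_eq (Omega.sheaf f)
  have h1 : x ∈ (Fitt.sheafIdeal (Omega.sheaf f) 0).support ↔
      ¬ Subsingleton ((Omega.sheaf f).presheaf.stalk x) := by
    change x ∈ ((Fitt.sheafIdeal (Omega.sheaf f) 0).support : Set X) ↔ _
    rw [hsupp]
    rfl
  have h2 := Groth.Agent.S8915.result f x
  rw [h1] at h2
  exact not_iff_not.mp h2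

/-- formal unramifiedness of the stalk map from an unramified neighbourhood. -/
theorem stalkMap_of_exists {X S : Scheme.{u}} (f : X ⟶ S) (x : X)
    (h : ∃ U : X.Opens, x ∈ U ∧ FormallyUnramified (U.ι ≫ f)) :
    (f.stalkMap x).hom.FormallyUnramified := by
  obtain ⟨U, hxU, hfu⟩ := h
  let x' : (U : Scheme.{u}) := ⟨x, hxU⟩
  have hst := FormallyUnramified.stalkMap (U.ι ≫ f) x'
  have e := Scheme.Hom.stalkMap_comp U.ι f x'
  rw [e] at hst
  exact (RingHom.FormallyUnramified.respectsIso.cancel_right_isIso
    (f.stalkMap (U.ι x')) (U.ι.stalkMap x')).mp hst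


set_option backward.defeqAttrib.useBackward true in
set_option backward.isDefEq.respectTransparency false in
/-- a formally unramified stalk map forces the stalk of `Ω_{X/S}` to vanish. -/
theorem subsingleton_stalk_of_stalkMap {X S : Scheme.{u}} (f : X ⟶ S) [LocallyOfFiniteType f]
    [QuasiSeparated f] (x : X) (H : (f.stalkMap x).hom.FormallyUnramified) :
    Subsingleton ((Omega.sheaf f).presheaf.stalk x) := by
  obtain ⟨_, ⟨V, hV, rfl⟩, hxV, -⟩ :=
    S.isBasis_affineOpens.exists_subset_of_mem_open (Set.mem_univ (f x)) isOpen_univ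
  obtain ⟨_, ⟨U, hU, rfl⟩, hxU, hUV⟩ :=
    X.isBasis_affineOpens.exists_subset_of_mem_open hxV (V.2.preimage f.continuous)
  have hft := f.finiteType_appLE hV hU hUV
  algebraize [(f.appLE V U hUV).hom]
  let p := (hV.primeIdealOf ⟨f x, hUV hxU⟩).asIdeal
  let q := (hU.primeIdealOf ⟨x, hxU⟩).asIdeal
  have : q.LiesOver p :=
    ⟨congr($(IsAffineOpen.comap_primeIdealOf_appLE V hV U hU hUV hxU).1).symm⟩
  let := Localization.AtPrime.algebraOfLiesOver p q
  have h1 : Algebra.FormallyUnramified (Localization.AtPrime p) (Localization.AtPrime q) := by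
    rw [← RingHom.formallyUnramified_algebraMap]
    exact (RingHom.FormallyUnramified.respectsIso.arrow_mk_iso_iff
      (IsAffineOpen.arrowStalkMapIso f V hV U hU hUV hxU)).mp H
  have h2 : Algebra.IsUnramifiedAt Γ(S, V) q :=
    Algebra.FormallyUnramified.comp _ (Localization.AtPrime p) _
  have hess : Algebra.EssFiniteType Γ(S, V) Γ(X, U) := Algebra.EssFiniteType.of_finiteType _ _
  obtain ⟨r, hrq, hr⟩ := Algebra.exists_formallyUnramified_of_isUnramifiedAt (R := Γ(S, V)) q
  have hxr : x ∈ X.basicOpen r :=
    (Groth.Agent.Lib.QCoh.notMem_primeIdealOf_iff hU x hxU r).1 hrq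
  have hfu : (f.appLE V (X.basicOpen r) ((X.basicOpen_le r).trans hUV)).hom.FormallyUnramified := by
    have := hU.isLocalization_basicOpen r
    rw [← RingHom.formallyUnramified_algebraMap] at hr
    convert!
      RingHom.FormallyUnramified.respectsIso.1 _
        (IsLocalization.algEquiv (.powers r) _ Γ(X, X.basicOpen r)).toRingEquiv hr
    ext
    dsimp
    simp only [IsScalarTower.algebraMap_apply Γ(S, V) Γ(X, U) (Localization _),
      IsLocalization.map_eq]
    simp only [RingHom.algebraMap_toAlgebra, RingHomCompTriple.comp_apply, ← ConcreteCategory.comp_apply,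
      Scheme.Hom.appLE_map]
  rw [Groth.Agent.Lib.QCoh.OmegaFT.formallyUnramified_appLE_iff f (hU.basicOpen r) hV] at hfu
  rw [Groth.Agent.Lib.QCoh.stalk_subsingleton_iff_of_isAffineOpen (Omega.sheaf f)
    (hU.basicOpen r) x hxr]
  intro s
  refine ⟨1, ?_, Subsingleton.elim _ _⟩
  rw [Scheme.basicOpen_of_isUnit _ isUnit_one]
  exact hxr


/-- the local-ring criterion for formal unramifiedness of the stalk map. -/
theorem stalkMap_iff {X S : Scheme.{u}} (f : X ⟶ S) [LocallyOfFiniteType f] (x : X) :
    (f.stalkMap x).hom.FormallyUnramified ↔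
      ((IsLocalRing.maximalIdeal (S.presheaf.stalk (f.base x))).map (f.stalkMap x).hom =
          IsLocalRing.maximalIdeal (X.presheaf.stalk x) ∧
        (f.residueFieldMap x).hom.Finite ∧
        @Algebra.IsSeparable (S.residueField (f.base x)) (X.residueField x) _ _
          (f.residueFieldMap x).hom.toAlgebra) := by
  algebraize [(f.stalkMap x).hom]
  have hloc : IsLocalHom (algebraMap (S.presheaf.stalk (f x)) (X.presheaf.stalk x)) :=
    inferInstanceAs <| IsLocalHom (f.stalkMap x).hom
  have hess : Algebra.EssFiniteType (S.presheaf.stalk (f x)) (X.presheaf.stalk x) := by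
    rw [← RingHom.essFiniteType_algebraMap, RingHom.algebraMap_toAlgebra]
    exact LocallyOfFiniteType.stalkMap f x
  have halg : (f.residueFieldMap x).hom.toAlgebra =
      (inferInstance : Algebra (IsLocalRing.ResidueField (S.presheaf.stalk (f x)))
        (IsLocalRing.ResidueField (X.presheaf.stalk x))) := by
    refine Algebra.algebra_ext _ _ fun y ↦ ?_
    obtain ⟨y, rfl⟩ := IsLocalRing.residue_surjective y
    rfl
  constructor
  · intro H
    have H' : Algebra.FormallyUnramified (S.presheaf.stalk (f x)) (X.presheaf.stalk x) := H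
    refine ⟨Algebra.FormallyUnramified.map_maximalIdeal, ?_, ?_⟩
    · have hfin : Module.Finite (IsLocalRing.ResidueField (S.presheaf.stalk (f x)))
          (IsLocalRing.ResidueField (X.presheaf.stalk x)) := inferInstance
      change @Module.Finite (IsLocalRing.ResidueField (S.presheaf.stalk (f x)))
          (IsLocalRing.ResidueField (X.presheaf.stalk x)) _ _
          (f.residueFieldMap x).hom.toAlgebra.toModule
      rw [halg]
      exact hfin
    · have hsep : Algebra.IsSeparable (IsLocalRing.ResidueField (S.presheaf.stalk (f x)))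
          (IsLocalRing.ResidueField (X.presheaf.stalk x)) := inferInstance
      change @Algebra.IsSeparable (IsLocalRing.ResidueField (S.presheaf.stalk (f x)))
          (IsLocalRing.ResidueField (X.presheaf.stalk x)) _ _
          (f.residueFieldMap x).hom.toAlgebra
      rw [halg]
      exact hsep
  · rintro ⟨hm, -, hsep⟩
    have hsep' : Algebra.IsSeparable (IsLocalRing.ResidueField (S.presheaf.stalk (f x)))
        (IsLocalRing.ResidueField (X.presheaf.stalk x)) := by
      have h0 : @Algebra.IsSeparable (IsLocalRing.ResidueField (S.presheaf.stalk (f x)))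
          (IsLocalRing.ResidueField (X.presheaf.stalk x)) _ _
          (f.residueFieldMap x).hom.toAlgebra := hsep
      rw [halg] at h0
      exact h0
    have H' : Algebra.FormallyUnramified (S.presheaf.stalk (f x)) (X.presheaf.stalk x) :=
      Algebra.FormallyUnramified.of_map_maximalIdeal hm
    exact H'

end Groth.Agent.S2158
end S2158helpers

namespace Groth.Agent.S2158

/-- Let `f : X → S` be locally of finite type and quasi-separated (so that the diagonal is quasi-compact
and the prelude's sheaf of differentials is the conormal sheaf of the diagonal near every point), `x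
∈ X`, `s = f(x)`. Then the stalk `Ω_{X/S,x}` vanishes if and only if `𝔪_s O_{X,x} = 𝔪_x` and
`κ(x)/κ(s)` is a finite separable extension. -/
theorem result {X S : Scheme.{u}} (f : X ⟶ S) [LocallyOfFiniteType f] [QuasiSeparated f] (x : X) :
    Subsingleton ((Omega.sheaf f).presheaf.stalk x) ↔
      ((IsLocalRing.maximalIdeal (S.presheaf.stalk (f.base x))).map (f.stalkMap x).hom =
          IsLocalRing.maximalIdeal (X.presheaf.stalk x) ∧
        (f.residueFieldMap x).hom.Finite ∧
        @Algebra.IsSeparable (S.residueField (f.base x)) (X.residueField x) _ _ (f.residueFieldMap x).hom.toAlgebra) := by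

  rw [← Groth.Agent.S2158.stalkMap_iff f x]
  exact ⟨fun h => Groth.Agent.S2158.stalkMap_of_exists f x
    ((Groth.Agent.S2158.subsingleton_stalk_iff_exists f x).mp h),
    Groth.Agent.S2158.subsingleton_stalk_of_stalkMap f x⟩

end Groth.Agent.S2158
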