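import Groth.Statements.S2159
-- import your own Groth.Agent.* helpers here

set_option autoImplicit false
universe u
open CAlg

namespace Groth.Agent.S2159

/-- Given surjections `p₁ : P₁ → M` and `p₂ : P₂ → M` from projective modules, with kernels `K` and `L`,
there is an isomorphism `K ⊕ P₂ ≅ L ⊕ P₁`. -/
theorem result {R M P₁ P₂ : Type u} [CommRing R] [AddCommGroup M] [Module R M] [AddCommGroup P₁] [Module R P₁]
    [Module.Projective R P₁] [AddCommGroup P₂] [Module R P₂] [Module.Projective R P₂] (p₁ : P₁ →ₗ[R] M) (p₂ : P₂ →ₗ[R] M)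
    (h₁ : Function.Surjective p₁) (h₂ : Function.Surjective p₂) :
    Nonempty ((LinearMap.ker p₁ × P₂) ≃ₗ[R] (LinearMap.ker p₂ × P₁)) := by
  obtain ⟨s, hs⟩ := Module.projective_lifting_property p₁ p₂ h₁
  obtain ⟨t, ht⟩ := Module.projective_lifting_property p₂ p₁ h₂
  have hs' : ∀ b, p₁ (s b) = p₂ b := fun b => LinearMap.congr_fun hs b
  have ht' : ∀ a, p₂ (t a) = p₁ a := fun a => LinearMap.congr_fun ht a
  let A : (LinearMap.ker p₁ × P₂) →ₗ[R] P₁ :=
    (LinearMap.ker p₁).subtype ∘ₗ LinearMap.fst R _ _ + s ∘ₗ LinearMap.snd R _ _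
  let B : (LinearMap.ker p₂ × P₁) →ₗ[R] P₂ :=
    (LinearMap.ker p₂).subtype ∘ₗ LinearMap.fst R _ _ + t ∘ₗ LinearMap.snd R _ _
  have hA : ∀ x : LinearMap.ker p₁ × P₂, A x = x.1.1 + s x.2 := fun x => rfl
  have hB : ∀ x : LinearMap.ker p₂ × P₁, B x = x.1.1 + t x.2 := fun x => rfl
  let φ : (LinearMap.ker p₁ × P₂) →ₗ[R] (LinearMap.ker p₂ × P₁) :=
    (LinearMap.codRestrict (LinearMap.ker p₂) (LinearMap.snd R _ _ - t ∘ₗ A) (by
      intro x
      rw [LinearMap.mem_ker]
      simp only [LinearMap.sub_apply, LinearMap.snd_apply, LinearMap.comp_apply, map_sub, ht', hA,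
        map_add, hs']
      have := x.1.2
      rw [LinearMap.mem_ker] at this
      rw [this]; simp)).prod A
  let ψ : (LinearMap.ker p₂ × P₁) →ₗ[R] (LinearMap.ker p₁ × P₂) :=
    (LinearMap.codRestrict (LinearMap.ker p₁) (LinearMap.snd R _ _ - s ∘ₗ B) (by
      intro x
      rw [LinearMap.mem_ker]
      simp only [LinearMap.sub_apply, LinearMap.snd_apply, LinearMap.comp_apply, map_sub, hs', hB,
        map_add, ht']
      have := x.1.2
      rw [LinearMap.mem_ker] at this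
      rw [this]; simp)).prod B
  refine ⟨LinearEquiv.ofLinear φ ψ ?_ ?_⟩
  · apply LinearMap.ext
    rintro ⟨⟨l, hl⟩, a⟩
    apply Prod.ext
    · apply Subtype.ext
      simp [φ, ψ, hA, hB, A, B]
    · simp [φ, ψ, hA, hB, A, B]
  · apply LinearMap.ext
    rintro ⟨⟨k, hk⟩, b⟩
    apply Prod.ext
    · apply Subtype.ext
      simp [φ, ψ, hA, hB, A, B]
    · simp [φ, ψ, hA, hB, A, B]

end Groth.Agent.S2159
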