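import Groth.Statements.S2160
import Mathlib.RingTheory.Ideal.KrullsHeightTheorem
import Mathlib.RingTheory.Ideal.MinimalPrime.Noetherian
import Mathlib.RingTheory.Spectrum.Prime.Topology

set_option autoImplicit false
universe u
open CAlg

namespace Groth.Agent.S2160

/-- Let `R` be a Noetherian local domain of Krull dimension at least `2`. Then every nonempty open
subset of `Spec R` is infinite. -/
theorem result {R : Type u} [CommRing R] [IsDomain R] [IsLocalRing R] [IsNoetherianRing R]
    (hdim : 2 ≤ ringKrullDim R) (U : Set (PrimeSpectrum R)) (hU : IsOpen U) (hne : U.Nonempty) : U.Infinite := by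
  classical
  -- Step 1: a basic open `D(f)`, `f ≠ 0`, inside `U`
  obtain ⟨p, hp⟩ := hne
  obtain ⟨V, ⟨f, rfl⟩, hpf, hfU⟩ :=
    PrimeSpectrum.isTopologicalBasis_basic_opens.exists_subset_of_mem_open hp hU
  have hf0 : f ≠ 0 := by
    rintro rfl
    exact hpf (Ideal.zero_mem _)
  -- the set of height one primes
  let H : Set (PrimeSpectrum R) := {q | q.asIdeal.height = 1}
  -- every nonzero non-unit lies in a height one prime
  have hcover : ∀ x ∈ IsLocalRing.maximalIdeal R, x ≠ 0 → ∃ q ∈ H, x ∈ q.asIdeal := by
    intro x hx hx0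
    have hne : Ideal.span {x} ≠ ⊤ := by
      intro h
      rw [Ideal.span_singleton_eq_top] at h
      exact (IsLocalRing.mem_maximalIdeal x).1 hx h
    obtain ⟨q, hq⟩ := Ideal.nonempty_minimalPrimes hne
    have hqp : q.IsPrime := hq.isPrime
    have hxq : x ∈ q := hq.1.2 (Ideal.mem_span_singleton_self x)
    have h1 : q.height ≤ 1 :=
      Ideal.height_le_one_of_isPrincipal_of_mem_minimalPrimes (Ideal.span {x}) q hq
    have h0 : q.height ≠ 0 := by
      rw [Ne, Ideal.height_eq_zero_iff_eq_bot]
      rintro rfl
      exact hx0 (by simpa using hxq)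
    refine ⟨⟨q, hqp⟩, ?_, hxq⟩
    exact le_antisymm h1 (Order.one_le_iff_ne_zero.2 h0)
  -- Step 2: `H` is infinite
  have hH : H.Infinite := by
    intro hfin
    let s : Finset (Option (PrimeSpectrum R)) := insert none (hfin.toFinset.image some)
    let F : Option (PrimeSpectrum R) → Ideal R := fun o => o.elim ⊥ PrimeSpectrum.asIdeal
    have hprime : ∀ i ∈ s, i ≠ none → i ≠ none → (F i).IsPrime := by
      intro i _ hi _
      cases i with
      | none => exact absurd rfl hi
      | some q => exact q.isPrime
    have hsub : ((IsLocalRing.maximalIdeal R : Ideal R) : Set R) ⊆ ⋃ i ∈ (↑s : Set _), F i := by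
      intro x hx
      by_cases hx0 : x = 0
      · refine Set.mem_biUnion (x := none) (by simp [s]) ?_
        simp [F, hx0]
      · obtain ⟨q, hqH, hxq⟩ := hcover x hx hx0
        refine Set.mem_biUnion (x := some q) ?_ ?_
        · simp [s, hqH]
        · simpa [F] using hxq
    obtain ⟨i, hi, hle⟩ := (Ideal.subset_union_prime none none hprime).1 hsub
    have hmh : (IsLocalRing.maximalIdeal R).height ≤ 1 := by
      cases i with
      | none =>
        have : IsLocalRing.maximalIdeal R = ⊥ := le_bot_iff.1 hle
        rw [this, Ideal.height_bot]; exact zero_le_one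
      | some q =>
        have hq : q ∈ H := by simpa [s] using hi
        have hqm : IsLocalRing.maximalIdeal R = q.asIdeal :=
          (IsLocalRing.maximalIdeal.isMaximal R).eq_of_le q.isPrime.ne_top hle
        rw [hqm, hq]
    have : ringKrullDim R ≤ 1 := by
      rw [← IsLocalRing.maximalIdeal_height_eq_ringKrullDim]
      exact_mod_cast hmh
    have h21 : (2 : WithBot ℕ∞) ≤ 1 := hdim.trans this
    exact absurd h21 (by decide)
  -- Step 3: only finitely many height one primes contain `f`
  have hfin : (H ∩ {q | f ∈ q.asIdeal}).Finite := by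
    have hmin := Ideal.finite_minimalPrimes_of_isNoetherianRing R (Ideal.span {f})
    refine Set.Finite.of_finite_image (f := PrimeSpectrum.asIdeal) (hmin.subset ?_)
      (fun a _ b _ h => PrimeSpectrum.ext h)
    rintro _ ⟨q, ⟨hqH, hfq⟩, rfl⟩
    have := q.isPrime
    have hfh : q.asIdeal.FiniteHeight := ⟨Or.inr (by rw [hqH]; exact ENat.one_ne_top)⟩
    refine Ideal.mem_minimalPrimes_of_height_le
      ((Ideal.span_singleton_le_iff_mem _).2 hfq) ?_
    rw [hqH]
    exact Ideal.one_le_height_span_singleton_of_mem_nonZeroDivisors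
      (mem_nonZeroDivisors_of_ne_zero hf0)
  refine (hH.sdiff hfin).mono ?_
  rintro q ⟨hqH, hq⟩
  apply hfU
  intro hfq
  exact hq ⟨hqH, hfq⟩

end Groth.Agent.S2160
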