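import Groth.Statements.S2161
import Mathlib

set_option autoImplicit false
universe u
open CAlg

namespace Groth.Agent.S2161

section
open Polynomial TensorProduct

variable {R S : Type u} [CommRing R] [CommRing S] [Algebra R S]

theorem exists_monic_lift (x : S) (h : ∃ (n : ℕ) (P : Polynomial R), 0 < n ∧
    Polynomial.map (algebraMap R S) P = (Polynomial.X - Polynomial.C x) ^ n) :
    ∃ (n : ℕ) (Q : Polynomial R), 0 < n ∧ Q.Monic ∧
      Polynomial.map (algebraMap R S) Q = (Polynomial.X - Polynomial.C x) ^ n := by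
  obtain ⟨n, P, hn, hP⟩ := h
  have hl : (X - C x) ^ n ∈ Polynomial.lifts (algebraMap R S) :=
    (Polynomial.mem_lifts _).mpr ⟨P, hP⟩
  obtain ⟨Q, hQ, -, hQm⟩ :=
    Polynomial.lifts_and_natDegree_eq_and_monic hl ((monic_X_sub_C x).pow n)
  exact ⟨n, Q, hn, hQm, hQ⟩

theorem isIntegral_of_gen (G : Set S) (hG : Algebra.adjoin R G = ⊤)
    (hpow : ∀ x ∈ G, ∃ (n : ℕ) (P : Polynomial R), 0 < n ∧
      Polynomial.map (algebraMap R S) P = (Polynomial.X - Polynomial.C x) ^ n) :
    Algebra.IsIntegral R S := by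
  refine ⟨fun s => ?_⟩
  have hs : s ∈ Algebra.adjoin R G := hG ▸ Algebra.mem_top
  have hle : Algebra.adjoin R G ≤ integralClosure R S := by
    refine Algebra.adjoin_le ?_
    intro x hx
    obtain ⟨n, Q, hn, hQm, hQ⟩ := exists_monic_lift x (hpow x hx)
    refine ⟨Q, hQm, ?_⟩
    rw [← Polynomial.eval_map, hQ]
    simp [hn.ne']
  exact hle hs

theorem ringHom_eq_of_gen (G : Set S) (hG : Algebra.adjoin R G = ⊤)
    (hpow : ∀ x ∈ G, ∃ (n : ℕ) (P : Polynomial R), 0 < n ∧
      Polynomial.map (algebraMap R S) P = (Polynomial.X - Polynomial.C x) ^ n)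
    {Ω : Type*} [Field Ω] (θ₁ θ₂ : S →+* Ω)
    (h : θ₁.comp (algebraMap R S) = θ₂.comp (algebraMap R S)) : θ₁ = θ₂ := by
  let _ : Algebra R Ω := (θ₁.comp (algebraMap R S)).toAlgebra
  let Θ₁ : S →ₐ[R] Ω := { θ₁ with commutes' := fun r => rfl }
  let Θ₂ : S →ₐ[R] Ω := { θ₂ with commutes' := fun r => (RingHom.congr_fun h r).symm }
  have hΘ : Θ₁ = Θ₂ := by
    refine AlgHom.ext_of_adjoin_eq_top hG ?_
    intro x hx
    obtain ⟨n, P, hn, hP⟩ := hpow x hx
    have e1 : (X - C (θ₁ x)) ^ n = P.map (θ₁.comp (algebraMap R S)) := by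
      rw [← Polynomial.map_map, hP]; simp
    have e2 : (X - C (θ₂ x)) ^ n = P.map (θ₂.comp (algebraMap R S)) := by
      rw [← Polynomial.map_map, hP]; simp
    rw [← h] at e2
    have e3 : (X - C (θ₁ x)) ^ n = (X - C (θ₂ x)) ^ n := e1.trans e2.symm
    have e4 := congrArg (Polynomial.eval (θ₁ x)) e3
    simp only [eval_pow, eval_sub, eval_X, eval_C, sub_self, zero_pow hn.ne'] at e4
    have e5 : θ₁ x - θ₂ x = 0 := pow_eq_zero_iff hn.ne' |>.mp e4.symm
    exact sub_eq_zero.mp e5
  exact RingHom.ext fun s => DFunLike.congr_fun hΘ s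

theorem exists_amalgam {k K₁ K₂ : Type u} [Field k] [Field K₁] [Field K₂]
    (φ₁ : k →+* K₁) (φ₂ : k →+* K₂) :
    ∃ (Ω : Type u) (_ : Field Ω) (ψ₁ : K₁ →+* Ω) (ψ₂ : K₂ →+* Ω),
      ψ₁.comp φ₁ = ψ₂.comp φ₂ := by
  let _ : Algebra k K₁ := φ₁.toAlgebra
  let _ : Algebra k K₂ := φ₂.toAlgebra
  have hnt : Nontrivial (K₁ ⊗[k] K₂) := inferInstance
  obtain ⟨m, hm⟩ := Ideal.exists_maximal (K₁ ⊗[k] K₂)
  let _ : Field ((K₁ ⊗[k] K₂) ⧸ m) := Ideal.Quotient.field m
  refine ⟨(K₁ ⊗[k] K₂) ⧸ m, inferInstance,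
    (Ideal.Quotient.mk m).comp (Algebra.TensorProduct.includeLeftRingHom),
    (Ideal.Quotient.mk m).comp (Algebra.TensorProduct.includeRight : K₂ →ₐ[k] K₁ ⊗[k] K₂).toRingHom,
    ?_⟩
  ext x
  simp only [RingHom.coe_comp, Function.comp_apply]
  congr 1
  change (algebraMap k K₁ x) ⊗ₜ[k] (1 : K₂) = (1 : K₁) ⊗ₜ[k] (algebraMap k K₂ x)
  rw [Algebra.algebraMap_eq_smul_one, Algebra.algebraMap_eq_smul_one, TensorProduct.smul_tmul]

theorem comap_inj (G : Set S) (hG : Algebra.adjoin R G = ⊤)
    (hpow : ∀ x ∈ G, ∃ (n : ℕ) (P : Polynomial R), 0 < n ∧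
      Polynomial.map (algebraMap R S) P = (Polynomial.X - Polynomial.C x) ^ n)
    (p : Ideal R) [p.IsPrime] (q₁ q₂ : Ideal S) [q₁.IsPrime] [q₂.IsPrime]
    (h₁ : p = q₁.comap (algebraMap R S)) (h₂ : p = q₂.comap (algebraMap R S)) : q₁ = q₂ := by
  let φ₁ := Ideal.ResidueField.map p q₁ (algebraMap R S) h₁
  let φ₂ := Ideal.ResidueField.map p q₂ (algebraMap R S) h₂
  obtain ⟨Ω, _, ψ₁, ψ₂, hψ⟩ := exists_amalgam φ₁ φ₂
  let θ₁ : S →+* Ω := ψ₁.comp (algebraMap S q₁.ResidueField)
  let θ₂ : S →+* Ω := ψ₂.comp (algebraMap S q₂.ResidueField)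
  have hθ : θ₁.comp (algebraMap R S) = θ₂.comp (algebraMap R S) := by
    ext r
    change ψ₁ (algebraMap S q₁.ResidueField (algebraMap R S r)) =
      ψ₂ (algebraMap S q₂.ResidueField (algebraMap R S r))
    rw [← Ideal.ResidueField.map_algebraMap p q₁ _ h₁ r,
      ← Ideal.ResidueField.map_algebraMap p q₂ _ h₂ r]
    exact RingHom.congr_fun hψ _
  have hθ' := ringHom_eq_of_gen G hG hpow θ₁ θ₂ hθ
  have k₁ : ∀ s : S, θ₁ s = 0 ↔ s ∈ q₁ := by
    intro s
    change ψ₁ (algebraMap S q₁.ResidueField s) = 0 ↔ _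
    rw [map_eq_zero_iff _ ψ₁.injective, Ideal.algebraMap_residueField_eq_zero]
  have k₂ : ∀ s : S, θ₂ s = 0 ↔ s ∈ q₂ := by
    intro s
    change ψ₂ (algebraMap S q₂.ResidueField s) = 0 ↔ _
    rw [map_eq_zero_iff _ ψ₂.injective, Ideal.algebraMap_residueField_eq_zero]
  ext s
  rw [← k₁, ← k₂, hθ']

theorem pi_of_gen (G : Set S) (hG : Algebra.adjoin R G = ⊤)
    (hpow : ∀ x ∈ G, ∃ (n : ℕ) (P : Polynomial R), 0 < n ∧
      Polynomial.map (algebraMap R S) P = (Polynomial.X - Polynomial.C x) ^ n)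
    (q : Ideal S) [q.IsPrime] (p : Ideal R) [p.IsPrime] [q.LiesOver p] :
    @IsPurelyInseparable p.ResidueField q.ResidueField _ _
      (Ideal.ResidueField.mapₐ p q (Algebra.ofId R S) (q.over_def p)).toRingHom.toAlgebra := by
  let alg : Algebra p.ResidueField q.ResidueField :=
    (Ideal.ResidueField.mapₐ p q (Algebra.ofId R S) (q.over_def p)).toRingHom.toAlgebra
  have hcomm : ∀ r : R, algebraMap p.ResidueField q.ResidueField
      (algebraMap R p.ResidueField r) = algebraMap S q.ResidueField (algebraMap R S r) := by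
    intro r
    have h1 := Ideal.ResidueField.map_algebraMap p q (Algebra.ofId R S : R →+* S) (q.over_def p) r
    exact h1
  have hS : ∀ s : S, algebraMap S q.ResidueField s ∈
      perfectClosure p.ResidueField q.ResidueField := by
    intro s
    have hs : s ∈ Algebra.adjoin R G := hG ▸ Algebra.mem_top
    induction hs using Algebra.adjoin_induction with
    | mem x hx =>
      obtain ⟨n, P, hn, hP⟩ := hpow x hx
      rw [mem_perfectClosure_iff_natSepDegree_eq_one]
      have hP' : (P.map (algebraMap R p.ResidueField)).map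
          (algebraMap p.ResidueField q.ResidueField) =
          (X - C (algebraMap S q.ResidueField x)) ^ n := by
        rw [Polynomial.map_map]
        have hc : (algebraMap p.ResidueField q.ResidueField).comp (algebraMap R p.ResidueField) =
            (algebraMap S q.ResidueField).comp (algebraMap R S) := RingHom.ext hcomm
        rw [hc, ← Polynomial.map_map, hP]
        simp
      have hne : (X - C (algebraMap S q.ResidueField x)) ^ n ≠ 0 :=
        pow_ne_zero n (X_sub_C_ne_zero _)
      have hroot : Polynomial.aeval (algebraMap S q.ResidueField x)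
          (P.map (algebraMap R p.ResidueField)) = 0 := by
        rw [Polynomial.aeval_def, ← Polynomial.eval_map, hP']
        simp [hn.ne']
      have hP0 : P.map (algebraMap R p.ResidueField) ≠ 0 := by
        intro h0
        rw [h0, Polynomial.map_zero] at hP'
        exact hne hP'.symm
      have hint : IsIntegral p.ResidueField (algebraMap S q.ResidueField x) :=
        IsAlgebraic.isIntegral ⟨_, hP0, hroot⟩
      have hdvd := minpoly.dvd p.ResidueField (algebraMap S q.ResidueField x) hroot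
      have h1 : (minpoly p.ResidueField (algebraMap S q.ResidueField x)).natSepDegree ≤ 1 := by
        calc (minpoly p.ResidueField (algebraMap S q.ResidueField x)).natSepDegree
            = ((minpoly p.ResidueField (algebraMap S q.ResidueField x)).map
                (algebraMap p.ResidueField q.ResidueField)).natSepDegree :=
              (natSepDegree_map _ _ _).symm
          _ ≤ ((P.map (algebraMap R p.ResidueField)).map
                (algebraMap p.ResidueField q.ResidueField)).natSepDegree :=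
              natSepDegree_le_of_dvd _ _ (Polynomial.map_dvd _ hdvd) (by rw [hP']; exact hne)
          _ = 1 := by rw [hP', natSepDegree_X_sub_C_pow, if_neg hn.ne']
      have h2 : (minpoly p.ResidueField (algebraMap S q.ResidueField x)).natSepDegree ≠ 0 :=
        natSepDegree_ne_zero _ (minpoly.natDegree_pos hint).ne'
      omega
    | algebraMap r =>
      rw [← hcomm]
      exact (perfectClosure p.ResidueField q.ResidueField).algebraMap_mem _
    | add x y _ _ hx hy => rw [map_add]; exact add_mem hx hy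
    | mul x y _ _ hx hy => rw [map_mul]; exact mul_mem hx hy
  rw [isPurelyInseparable_iff_natSepDegree_eq_one]
  intro y
  rw [← mem_perfectClosure_iff_natSepDegree_eq_one]
  obtain ⟨a, b, -, rfl⟩ := IsFractionRing.div_surjective (A := S ⧸ q) y
  obtain ⟨a, rfl⟩ := Ideal.Quotient.mk_surjective a
  obtain ⟨b, rfl⟩ := Ideal.Quotient.mk_surjective b
  rw [Ideal.algebraMap_quotient_residueField_mk, Ideal.algebraMap_quotient_residueField_mk]
  exact div_mem (hS a) (hS b)

end

/-- Let R → S be a ring map whose kernel consists of nilpotent elements, and suppose S is generated as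
an R-algebra by elements x for which some power (T − x)ⁿ, n > 0, is the image of a polynomial over
R. Then Spec S → Spec R is a homeomorphism, and for every prime 𝔮 of S over 𝔭 the extension
κ(𝔮)/κ(𝔭) is purely inseparable. -/
theorem result {R S : Type u} [CommRing R] [CommRing S] [Algebra R S]
    (hker : ∀ r : R, algebraMap R S r = 0 → IsNilpotent r) (G : Set S) (hG : Algebra.adjoin R G = ⊤)
    (hpow : ∀ x ∈ G, ∃ (n : ℕ) (P : Polynomial R), 0 < n ∧
      Polynomial.map (algebraMap R S) P = (Polynomial.X - Polynomial.C x) ^ n) :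
    IsHomeomorph (PrimeSpectrum.comap (algebraMap R S)) ∧
      ∀ (q : Ideal S) [q.IsPrime] (p : Ideal R) [p.IsPrime] [q.LiesOver p],
        @IsPurelyInseparable p.ResidueField q.ResidueField _ _
          (Ideal.ResidueField.mapₐ p q (Algebra.ofId R S) (q.over_def p)).toRingHom.toAlgebra := by
  have hint : Algebra.IsIntegral R S := isIntegral_of_gen G hG hpow
  refine ⟨?_, fun q _ p _ _ => pi_of_gen G hG hpow q p⟩
  rw [isHomeomorph_iff_continuous_isClosedMap_bijective]
  refine ⟨PrimeSpectrum.continuous_comap _, ?_, ?_, ?_⟩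
  · exact PrimeSpectrum.isClosedMap_comap_of_isIntegral _ (algebraMap_isIntegral_iff.mpr hint)
  · intro q₁ q₂ h
    have h' : q₁.asIdeal.comap (algebraMap R S) = q₂.asIdeal.comap (algebraMap R S) :=
      congrArg PrimeSpectrum.asIdeal h
    exact PrimeSpectrum.ext (comap_inj G hG hpow (q₁.asIdeal.comap (algebraMap R S))
      q₁.asIdeal q₂.asIdeal rfl h')
  · intro p
    have hle : (⊥ : Ideal S).comap (algebraMap R S) ≤ p.asIdeal := by
      intro r hr
      have hr0 : algebraMap R S r = 0 := by simpa using hr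
      obtain ⟨n, hn⟩ := hker r hr0
      exact p.2.mem_of_pow_mem n (hn ▸ p.asIdeal.zero_mem)
    obtain ⟨Q, -, hQ, hQp⟩ := Ideal.exists_ideal_over_prime_of_isIntegral p.asIdeal ⊥ hle
    exact ⟨⟨Q, hQ⟩, PrimeSpectrum.ext hQp⟩

end Groth.Agent.S2161
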