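import Groth.Statements.S2163
import Mathlib.RingTheory.Flat.EquationalCriterion
import Mathlib.Algebra.Module.FinitePresentation

set_option autoImplicit false
universe u
open CAlg

namespace Groth.Agent.S2163

/-- A ring `R` is coherent — every finitely generated ideal is a finitely presented module — if and only
if for every index set `A` (in the same universe) the product module `R^A` is flat. -/
theorem result {R : Type u} [CommRing R] :
    (∀ I : Ideal R, I.FG → Module.FinitePresentation R I) ↔ ∀ (A : Type u), Module.Flat R (A → R) := by
  constructor
  · intro hcoh A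
    refine Module.Flat.of_forall_isTrivialRelation ?_
    intro l f x hfx
    let ψ : (Fin l → R) →ₗ[R] R := Fintype.linearCombination R f
    have hψ : ∀ v, ψ v = ∑ i, v i * f i := fun v => by
      simp [ψ, Fintype.linearCombination_apply]
    have hfg : (LinearMap.range ψ).FG := by
      rw [LinearMap.range_eq_map]
      exact Submodule.FG.map _ Module.Finite.fg_top
    have hfp : Module.FinitePresentation R (LinearMap.range ψ) := hcoh _ hfg
    have hK : (LinearMap.ker ψ).FG := by
      have := Module.FinitePresentation.fg_ker ψ.rangeRestrict ψ.surjective_rangeRestrict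
      rwa [LinearMap.ker_rangeRestrict] at this
    obtain ⟨k, b, hb⟩ := Submodule.fg_iff_exists_fin_generating_family.1 hK
    have hmem : ∀ α : A, (fun i => x i α) ∈ Submodule.span R (Set.range b) := by
      intro α
      rw [hb, LinearMap.mem_ker, hψ]
      have := congrFun hfx α
      simp only [Finset.sum_apply, Pi.smul_apply, smul_eq_mul, Pi.zero_apply] at this
      rw [← this]
      exact Finset.sum_congr rfl fun i _ => mul_comm _ _
    choose c hc using fun α => (Submodule.mem_span_range_iff_exists_fun R).1 (hmem α)
    refine ⟨k, fun i j => b j i, fun j α => c α j, ?_, ?_⟩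
    · intro i
      funext α
      have := congrFun (hc α) i
      simp only [Finset.sum_apply, Pi.smul_apply, smul_eq_mul] at this ⊢
      rw [← this]
      exact Finset.sum_congr rfl fun j _ => mul_comm _ _
    · intro j
      have hbj : b j ∈ LinearMap.ker ψ := by
        rw [← hb]; exact Submodule.subset_span ⟨j, rfl⟩
      rw [LinearMap.mem_ker, hψ] at hbj
      rw [← hbj]
      exact Finset.sum_congr rfl fun i _ => mul_comm _ _
  · intro hflat I hI
    obtain ⟨l, f, rfl⟩ := Submodule.fg_iff_exists_fin_generating_family.1 hI
    let ψ : (Fin l → R) →ₗ[R] R := Fintype.linearCombination R f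
    have hψ : ∀ v, ψ v = ∑ i, v i * f i := fun v => by
      simp [ψ, Fintype.linearCombination_apply]
    have hrange : LinearMap.range ψ = Submodule.span R (Set.range f) :=
      Fintype.range_linearCombination R f
    rw [← hrange]
    refine Module.finitePresentation_of_surjective ψ.rangeRestrict ψ.surjective_rangeRestrict ?_
    rw [LinearMap.ker_rangeRestrict]
    -- the kernel is finitely generated, by flatness of the product indexed by the kernel
    let K := LinearMap.ker ψ
    let x : Fin l → (K → R) := fun i κ => κ.1 i
    have hfx : ∑ i, f i • x i = 0 := by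
      funext κ
      simp only [Finset.sum_apply, Pi.smul_apply, smul_eq_mul, Pi.zero_apply, x]
      have := κ.2
      rw [LinearMap.mem_ker, hψ] at this
      rw [← this]
      exact Finset.sum_congr rfl fun i _ => mul_comm _ _
    have := hflat K
    obtain ⟨k, a, y, hx, ha⟩ := Module.Flat.isTrivialRelation_of_sum_smul_eq_zero hfx
    refine Submodule.fg_iff_exists_fin_generating_family.2 ⟨k, fun j i => a i j, ?_⟩
    apply le_antisymm
    · rw [Submodule.span_le]
      rintro _ ⟨j, rfl⟩
      rw [SetLike.mem_coe, LinearMap.mem_ker, hψ, ← ha j]
      exact Finset.sum_congr rfl fun i _ => mul_comm _ _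
    · intro v hv
      rw [Submodule.mem_span_range_iff_exists_fun]
      refine ⟨fun j => y j ⟨v, hv⟩, ?_⟩
      funext i
      have := congrFun (hx i) ⟨v, hv⟩
      simp only [Finset.sum_apply, Pi.smul_apply, smul_eq_mul, x] at this ⊢
      rw [this]
      exact Finset.sum_congr rfl fun j _ => mul_comm _ _

end Groth.Agent.S2163
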