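import Groth.Statements.S2167
import Groth.Agent.Lib.Helper29.RegIdeal

set_option autoImplicit false
universe u
open LCI

namespace Groth.Agent.S2167

/-- Equivalence of (2) and (3), special case with R already a regular local ring: for a regular local
ring R and a proper ideal I, the ideal I is generated by a regular sequence if and only if the
conormal module I/I^2 can be generated by (dim R - dim R/I) elements, the inequality below being the
additive form of that count. -/
theorem result {R : Type u} [CommRing R] [IsRegularLocalRing R]
    (I : Ideal R) (hI : I ≠ ⊤) :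
    (∃ rs : List R, Ideal.ofList rs = I ∧ RingTheory.Sequence.IsRegular R rs) ↔
      (((⊤ : Submodule (R ⧸ I) I.Cotangent).spanFinrank : WithBot ℕ∞) + ringKrullDim (R ⧸ I)
        ≤ ringKrullDim R) := by
  have hj : I ≤ Ideal.jacobson ⊥ :=
    (IsLocalRing.le_maximalIdeal hI).trans (IsLocalRing.maximalIdeal_le_jacobson _)
  rw [Groth.Agent.Lib.Helper29.RegIdeal.spanFinrank_cotangent I I.fg_of_isNoetherianRing hj]
  exact Groth.Agent.Lib.Helper29.RegIdeal.exists_isRegular_iff_of_isCM
    (Groth.Agent.S5671.isCM_of_regular R) I hI

end Groth.Agent.S2167
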