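import Groth.Statements.S2170
import Groth.Agent.Lib.Helper52.SymmForm

set_option autoImplicit false
open Finset
open Models

namespace Groth.Agent.S2170

/-- Let A be a symmetric real n × n matrix with non-negative off-diagonal entries and m a vector with
positive entries such that for every i, ∑_{j ≠ i} A_{ij} m_j ≤ −A_{ii} m_i. Then the kernel of A is
the span of the vectors equal to m on an index set I and zero off I, for those I such that A_{ij} =
0 whenever i ∈ I and j ∉ I and such that equality holds in the above inequality for every i ∈ I. The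
published statement omits the symmetry of A (without which it fails) and applies it only to
symmetric matrices; stated here with A symmetric. -/
theorem result {n : ℕ} (A : Matrix (Fin n) (Fin n) ℝ) (m : Fin n → ℝ)
    (hsymm : A.IsSymm) (hA : ∀ i j, i ≠ j → 0 ≤ A i j) (hm : ∀ i, 0 < m i)
    (hle : ∀ i, ∑ j ∈ univ.erase i, A i j * m j ≤ -(A i i * m i)) :
    LinearMap.ker (Matrix.mulVecLin A) = Submodule.span ℝ
      {x : Fin n → ℝ | ∃ I : Finset (Fin n), (∀ i ∈ I, ∀ j ∉ I, A i j = 0) ∧
        (∀ i ∈ I, ∑ j ∈ univ.erase i, A i j * m j = -(A i i * m i)) ∧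
        x = fun i => if i ∈ I then m i else 0} := by
  have hsum : ∀ i, ∑ j, A i j * m j = A i i * m i + ∑ j ∈ univ.erase i, A i j * m j := fun i =>
    (Finset.add_sum_erase univ (fun j => A i j * m j) (Finset.mem_univ i)).symm
  have hs : ∀ i, ∑ j, A i j * m j ≤ 0 := fun i => by rw [hsum i]; linarith [hle i]
  apply le_antisymm
  · intro x hx
    rw [LinearMap.mem_ker, Matrix.mulVecLin_apply] at hx
    have hform : dotProduct x (A.mulVec x) = 0 := by rw [hx]; simp
    obtain ⟨c1, c2⟩ := (Groth.Agent.Lib.Helper52.form_eq_zero_iff hsymm hA hm hs x).1 hform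
    let y : Fin n → ℝ := fun i => x i / m i
    let I : ℝ → Finset (Fin n) := fun c => univ.filter fun i => y i = c
    have hx_eq : x = ∑ c ∈ univ.image y, c • (fun i => if i ∈ I c then m i else 0) := by
      funext i
      rw [Finset.sum_apply]
      simp only [Pi.smul_apply, smul_eq_mul, I, Finset.mem_filter, Finset.mem_univ, true_and,
        mul_ite, mul_zero]
      rw [Finset.sum_ite_eq (univ.image y) (y i) (fun c => c * m i),
        if_pos (Finset.mem_image_of_mem y (Finset.mem_univ i))]
      simp only [y]
      rw [div_mul_cancel₀ _ (hm i).ne']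
    rw [hx_eq]
    refine Submodule.sum_mem _ fun c _ => ?_
    by_cases hc : c = 0
    · rw [hc, zero_smul]; exact Submodule.zero_mem _
    · refine Submodule.smul_mem _ c (Submodule.subset_span ⟨I c, ?_, ?_, rfl⟩)
      · intro i hi j hj
        simp only [I, Finset.mem_filter, Finset.mem_univ, true_and] at hi hj
        rcases c2 i j with h | h
        · exact h
        · exact absurd (h.symm.trans hi) hj
      · intro i hi
        simp only [I, Finset.mem_filter, Finset.mem_univ, true_and] at hi
        have hxi : x i ≠ 0 := by
          intro h0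
          apply hc
          rw [← hi]
          simp only [y]
          rw [h0, zero_div]
        rcases c1 i with h | h
        · rw [hsum i] at h; linarith
        · exact absurd h hxi
  · rw [Submodule.span_le]
    rintro x ⟨I, hI1, hI2, rfl⟩
    rw [SetLike.mem_coe, LinearMap.mem_ker, Matrix.mulVecLin_apply]
    funext i
    simp only [Matrix.mulVec, dotProduct, Pi.zero_apply]
    by_cases hi : i ∈ I
    · have h0 : ∑ j, A i j * m j = 0 := by rw [hsum i, hI2 i hi]; ring
      rw [← h0]
      refine Finset.sum_congr rfl fun j _ => ?_
      by_cases hj : j ∈ I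
      · rw [if_pos hj]
      · rw [if_neg hj, hI1 i hi j hj]; ring
    · refine Finset.sum_eq_zero fun j _ => ?_
      by_cases hj : j ∈ I
      · rw [if_pos hj, ← hsymm.apply i j, hI1 j hj i hi]; ring
      · rw [if_neg hj]; ring

end Groth.Agent.S2170
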