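import Groth.Statements.S2171
import Groth.Agent.Lib.Helper52.SymmForm

set_option autoImplicit false
open Finset
open Models

namespace Groth.Agent.S2171

/-- Let A be a symmetric real n by n matrix with non-negative off-diagonal entries, m a vector with
positive entries such that A m = 0, and assume no proper non-empty index set I has A i j = 0 for all
i in I and j outside I. Then x^t A x is at most 0 for every real vector x, with equality exactly
when x is a real multiple of m. -/
theorem result {n : ℕ} (A : Matrix (Fin n) (Fin n) ℝ)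
    (m : Fin n → ℝ) (hsymm : A.IsSymm) (hA : ∀ i j, i ≠ j → 0 ≤ A i j) (hm : ∀ i, 0 < m i)
    (hAm : A.mulVec m = 0)
    (hconn : ∀ I : Finset (Fin n), I.Nonempty → I ≠ univ → ∃ i ∈ I, ∃ j ∉ I, A i j ≠ 0)
    (x : Fin n → ℝ) :
    dotProduct x (A.mulVec x) ≤ 0 ∧ (dotProduct x (A.mulVec x) = 0 ↔ ∃ q : ℝ, x = q • m) := by
  have hs0 : ∀ i, ∑ j, A i j * m j = 0 := fun i => by
    simpa [Matrix.mulVec, dotProduct] using congrFun hAm i
  have hs : ∀ i, ∑ j, A i j * m j ≤ 0 := fun i => (hs0 i).le
  refine ⟨Groth.Agent.Lib.Helper52.form_nonpos hsymm hA hm hs x, ?_⟩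
  rw [Groth.Agent.Lib.Helper52.form_eq_zero_iff hsymm hA hm hs x]
  constructor
  · rintro ⟨-, c2⟩
    rcases Nat.eq_zero_or_pos n with hn | hn
    · subst hn
      exact ⟨0, funext fun i => i.elim0⟩
    · let i₀ : Fin n := ⟨0, hn⟩
      refine ⟨x i₀ / m i₀, ?_⟩
      let I : Finset (Fin n) := univ.filter fun i => x i / m i = x i₀ / m i₀
      have hI : I = univ := by
        by_contra hne
        obtain ⟨i, hi, j, hj, hij⟩ := hconn I ⟨i₀, by simp [I]⟩ hne
        rcases c2 i j with h | h
        · exact hij h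
        · apply hj
          simp only [I, Finset.mem_filter, Finset.mem_univ, true_and] at hi ⊢
          rw [← h, hi]
      funext i
      have hi : i ∈ I := hI ▸ Finset.mem_univ i
      simp only [I, Finset.mem_filter, Finset.mem_univ, true_and] at hi
      rw [Pi.smul_apply, smul_eq_mul, ← hi, div_mul_cancel₀ _ (hm i).ne']
  · rintro ⟨q, rfl⟩
    refine ⟨fun i => Or.inl (hs0 i), fun i j => Or.inr ?_⟩
    simp only [Pi.smul_apply, smul_eq_mul]
    rw [mul_div_cancel_right₀ _ (hm i).ne', mul_div_cancel_right₀ _ (hm j).ne']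

end Groth.Agent.S2171
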