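import Groth.Statements.S2172
import Mathlib
-- import your own Groth.Agent.* helpers here

set_option autoImplicit false
open Finset
open Models

namespace Groth.Agent.S2172

section PRE

variable {n : ℕ} (A : Matrix (Fin n) (Fin n) ℤ) (m : Fin n → ℤ) (ℓ : ℕ)

/-- reduction mod ℓ -/
def red (y : Fin n → ℤ) : Fin n → ZMod ℓ := fun i => (y i : ZMod ℓ)

/-- reduced matrix -/
def Abar : Matrix (Fin n) (Fin n) (ZMod ℓ) := fun i j => (A i j : ZMod ℓ)

lemma red_add (y z : Fin n → ℤ) : red ℓ (y + z) = red ℓ y + red ℓ z := by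
  funext i; simp [red]

lemma red_smul (c : ℤ) (y : Fin n → ℤ) : red ℓ (c • y) = (c : ZMod ℓ) • red ℓ y := by
  funext i; simp [red]

lemma Abar_red (y : Fin n → ℤ) : (Abar A ℓ).mulVec (red ℓ y) = red ℓ (A.mulVec y) := by
  funext i
  simp [Matrix.mulVec, dotProduct, red, Abar]

lemma red_ell_smul (x : Fin n → ℤ) : red ℓ ((ℓ : ℤ) • x) = 0 := by
  funext i; simp [red]

lemma red_eq_iff (y y' : Fin n → ℤ) : red ℓ y = red ℓ y' ↔ ∃ z : Fin n → ℤ, y' = y + (ℓ : ℤ) • z := by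
  constructor
  · intro h
    have h1 : ∀ i, (ℓ : ℤ) ∣ y' i - y i := fun i =>
      (ZMod.intCast_eq_intCast_iff_dvd_sub _ _ ℓ).mp (congrFun h i)
    choose z hz using h1
    refine ⟨z, ?_⟩
    funext i
    have := hz i
    simp only [Pi.add_apply, Pi.smul_apply, smul_eq_mul]
    linarith
  · rintro ⟨z, rfl⟩
    rw [red_add, red_smul]
    simp

/-- the relation between residue vectors and torsion classes -/
def rho (ybar : Fin n → ZMod ℓ) (t : (Fin n → ℤ) ⧸ LinearMap.range (Matrix.mulVecLin A)) : Prop :=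
  ∃ y x : Fin n → ℤ, red ℓ y = ybar ∧ A.mulVec y = (ℓ : ℤ) • x ∧ Submodule.Quotient.mk x = t

variable {A ℓ}

lemma rho_func (hℓ : ℓ ≠ 0) {ybar : Fin n → ZMod ℓ}
    {t t' : (Fin n → ℤ) ⧸ LinearMap.range (Matrix.mulVecLin A)}
    (h : rho A ℓ ybar t) (h' : rho A ℓ ybar t') : t = t' := by
  obtain ⟨y, x, hy, hA, rfl⟩ := h
  obtain ⟨y', x', hy', hA', rfl⟩ := h'
  obtain ⟨z, rfl⟩ := (red_eq_iff ℓ y y').mp (hy.trans hy'.symm)
  rw [Matrix.mulVec_add, Matrix.mulVec_smul, hA, ← smul_add] at hA'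
  have hx : x' = x + A.mulVec z := by
    funext i
    have := congrFun hA' i
    simp only [Pi.smul_apply, smul_eq_mul, Pi.add_apply] at this ⊢
    have hℓ' : (ℓ : ℤ) ≠ 0 := by exact_mod_cast hℓ
    exact (mul_left_cancel₀ hℓ' this).symm
  rw [hx, Submodule.Quotient.mk_add]
  have : (Submodule.Quotient.mk (A.mulVec z) : (Fin n → ℤ) ⧸ LinearMap.range (Matrix.mulVecLin A)) = 0 := by
    rw [Submodule.Quotient.mk_eq_zero]
    exact ⟨z, rfl⟩
  rw [this, add_zero]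

lemma rho_shift {m : Fin n → ℤ} (hAm : A.mulVec m = 0) {ybar : Fin n → ZMod ℓ}
    {t : (Fin n → ℤ) ⧸ LinearMap.range (Matrix.mulVecLin A)}
    (h : rho A ℓ ybar t) (c : ZMod ℓ) : rho A ℓ (ybar + c • red ℓ m) t := by
  obtain ⟨y, x, hy, hA, rfl⟩ := h
  obtain ⟨c', rfl⟩ := ZMod.intCast_surjective c
  refine ⟨y + c' • m, x, ?_, ?_, rfl⟩
  · rw [red_add, red_smul, hy]
  · rw [Matrix.mulVec_add, Matrix.mulVec_smul, hAm, smul_zero, add_zero, hA]

lemma rho_surj (t : (Fin n → ℤ) ⧸ LinearMap.range (Matrix.mulVecLin A))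
    (ht : t ∈ Submodule.torsionBy ℤ ((Fin n → ℤ) ⧸ LinearMap.range (Matrix.mulVecLin A)) (ℓ : ℤ)) :
    ∃ ybar : Fin n → ZMod ℓ, (Abar A ℓ).mulVec ybar = 0 ∧ rho A ℓ ybar t := by
  obtain ⟨x, rfl⟩ := Submodule.Quotient.mk_surjective _ t
  rw [Submodule.mem_torsionBy_iff, ← Submodule.Quotient.mk_smul, Submodule.Quotient.mk_eq_zero] at ht
  obtain ⟨y, hy⟩ := ht
  have hy' : A.mulVec y = (ℓ : ℤ) • x := hy
  refine ⟨red ℓ y, ?_, y, x, rfl, hy', rfl⟩
  rw [Abar_red, hy', red_ell_smul]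


section card
variable [Fact ℓ.Prime]

variable (A ℓ) in
/-- kernel of the reduced matrix -/
def Kbar : Submodule (ZMod ℓ) (Fin n → ZMod ℓ) := LinearMap.ker (Matrix.mulVecLin (Abar A ℓ))

variable (A ℓ) in
/-- the slice of the kernel -/
def K0 (i₀ : Fin n) : Submodule (ZMod ℓ) (Fin n → ZMod ℓ) :=
  Kbar A ℓ ⊓ LinearMap.ker (LinearMap.proj i₀ : (Fin n → ZMod ℓ) →ₗ[ZMod ℓ] ZMod ℓ)

lemma mem_Kbar (u : Fin n → ZMod ℓ) : u ∈ Kbar A ℓ ↔ (Abar A ℓ).mulVec u = 0 := Iff.rfl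

lemma redm_mem {m : Fin n → ℤ} (hAm : A.mulVec m = 0) : red ℓ m ∈ Kbar A ℓ := by
  rw [mem_Kbar, Abar_red, hAm]
  funext i; simp [red]

lemma card_le {m : Fin n → ℤ} (hAm : A.mulVec m = 0) (i₀ : Fin n) (hm0 : (m i₀ : ZMod ℓ) ≠ 0) :
    Nat.card (Submodule.torsionBy ℤ ((Fin n → ℤ) ⧸ LinearMap.range (Matrix.mulVecLin A)) (ℓ : ℤ))
      ≤ Nat.card (K0 A ℓ i₀) := by
  have key : ∀ t : Submodule.torsionBy ℤ ((Fin n → ℤ) ⧸ LinearMap.range (Matrix.mulVecLin A)) (ℓ : ℤ),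
      ∃ y₀ : K0 A ℓ i₀, rho A ℓ y₀.1 t.1 := by
    rintro ⟨t, ht⟩
    obtain ⟨ybar, hK, hρ⟩ := rho_surj t ht
    obtain ⟨c, hc⟩ : ∃ c : ZMod ℓ, c = - ybar i₀ / (m i₀ : ZMod ℓ) := ⟨_, rfl⟩
    refine ⟨⟨ybar + c • red ℓ m, ⟨?_, ?_⟩⟩, rho_shift hAm hρ c⟩
    · exact (Kbar A ℓ).add_mem hK ((Kbar A ℓ).smul_mem c (redm_mem hAm))
    · show (ybar + c • red ℓ m) i₀ = 0
      simp only [Pi.add_apply, Pi.smul_apply, smul_eq_mul, red, hc]
      field_simp
      ring
  choose f hf using key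
  apply Nat.card_le_card_of_injective f
  intro t t' htt
  apply Subtype.ext
  have h1 := hf t
  have h2 := hf t'
  rw [← htt] at h2
  exact rho_func (NeZero.ne ℓ) h1 h2

end card


section graph
variable [Fact ℓ.Prime]

variable (A) in
/-- the edge set -/
abbrev P := {p : Fin n × Fin n // p.1 < p.2 ∧ 0 < A p.1 p.2}

variable (A ℓ) in
/-- incidence matrix -/
def D : Matrix (P A) (Fin n) (ZMod ℓ) :=
  fun p i => (if p.1.2 = i then 1 else 0) - (if p.1.1 = i then 1 else 0)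

lemma D_mulVec (w : Fin n → ZMod ℓ) (p : P A) : (D A ℓ).mulVec w p = w p.1.2 - w p.1.1 := by
  simp [Matrix.mulVec, dotProduct, D, sub_mul, Finset.sum_sub_distrib]

lemma const_of_edges (hsymm : A.IsSymm) (hA : ∀ i j, i ≠ j → 0 ≤ A i j)
    (hconn : ∀ I : Finset (Fin n), I.Nonempty → I ≠ univ → ∃ i ∈ I, ∃ j ∉ I, A i j ≠ 0)
    (w : Fin n → ZMod ℓ) (hw : ∀ p : P A, w p.1.1 = w p.1.2) : ∀ i j, w j = w i := by
  intro i
  by_contra hne
  push Not at hne
  obtain ⟨j, hj⟩ := hne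
  obtain ⟨I, hI⟩ : ∃ I : Finset (Fin n), I = univ.filter (fun j => w j = w i) := ⟨_, rfl⟩
  have hmem : ∀ x, x ∈ I ↔ w x = w i := by intro x; rw [hI]; simp
  have hI1 : I.Nonempty := ⟨i, (hmem i).mpr rfl⟩
  have hI2 : I ≠ univ := by
    intro h
    have : j ∈ I := h ▸ mem_univ j
    exact hj ((hmem j).mp this)
  obtain ⟨a, ha, b, hb, hab⟩ := hconn I hI1 hI2
  have ha' : w a = w i := (hmem a).mp ha
  have hb' : w b ≠ w i := fun h => hb ((hmem b).mpr h)
  have hne : a ≠ b := by rintro rfl; exact hb' ha'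
  have hpos : 0 < A a b := lt_of_le_of_ne (hA a b hne) (Ne.symm hab)
  rcases lt_or_gt_of_ne hne with h | h
  · have := hw ⟨(a, b), h, hpos⟩
    exact hb' (this ▸ ha')
  · have hpos' : 0 < A b a := by rw [hsymm.apply a b]; exact hpos
    have := hw ⟨(b, a), h, hpos'⟩
    exact hb' (this.trans ha')

lemma finrank_ker_D (hn : 0 < n) (hsymm : A.IsSymm) (hA : ∀ i j, i ≠ j → 0 ≤ A i j)
    (hconn : ∀ I : Finset (Fin n), I.Nonempty → I ≠ univ → ∃ i ∈ I, ∃ j ∉ I, A i j ≠ 0) :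
    Module.finrank (ZMod ℓ) (LinearMap.ker (D A ℓ).mulVecLin) ≤ 1 := by
  have hle : LinearMap.ker (D A ℓ).mulVecLin ≤
      Submodule.span (ZMod ℓ) {fun _ : Fin n => (1 : ZMod ℓ)} := by
    intro w hw
    have hw' : ∀ p : P A, w p.1.1 = w p.1.2 := by
      intro p
      have := congrFun hw p
      rw [Matrix.mulVecLin_apply, D_mulVec] at this
      exact (sub_eq_zero.mp this).symm
    have hc := const_of_edges hsymm hA hconn w hw'
    rw [Submodule.mem_span_singleton]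
    refine ⟨w ⟨0, hn⟩, ?_⟩
    funext j
    simp [hc ⟨0, hn⟩ j]
  calc Module.finrank (ZMod ℓ) (LinearMap.ker (D A ℓ).mulVecLin)
      ≤ Module.finrank (ZMod ℓ) (Submodule.span (ZMod ℓ) {fun _ : Fin n => (1 : ZMod ℓ)}) :=
        Submodule.finrank_mono hle
    _ ≤ 1 := by
        have := finrank_span_le_card (R := ZMod ℓ) ({fun _ : Fin n => (1 : ZMod ℓ)} : Set (Fin n → ZMod ℓ))
        simpa using this

lemma finrank_ker_Dt (hn : 0 < n) (hsymm : A.IsSymm) (hA : ∀ i j, i ≠ j → 0 ≤ A i j)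
    (hconn : ∀ I : Finset (Fin n), I.Nonempty → I ≠ univ → ∃ i ∈ I, ∃ j ∉ I, A i j ≠ 0) :
    Module.finrank (ZMod ℓ) (LinearMap.ker (D A ℓ).transpose.mulVecLin) + n ≤
      Fintype.card (P A) + 1 := by
  have h1 := LinearMap.finrank_range_add_finrank_ker (D A ℓ).mulVecLin
  have h2 := LinearMap.finrank_range_add_finrank_ker (D A ℓ).transpose.mulVecLin
  have h3 : (D A ℓ).transpose.rank = (D A ℓ).rank := Matrix.rank_transpose _
  rw [Matrix.rank, Matrix.rank] at h3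
  rw [Module.finrank_fin_fun] at h1
  rw [Module.finrank_fintype_fun_eq_card] at h2
  have h4 := finrank_ker_D (ℓ := ℓ) hn hsymm hA hconn
  omega

variable (A ℓ) in
/-- the comparison map into the edge space -/
def theta (m : Fin n → ℤ) : (Fin n → ZMod ℓ) →ₗ[ZMod ℓ] (P A → ZMod ℓ) where
  toFun u p := (A p.1.1 p.1.2 : ZMod ℓ) * ((m p.1.1 : ZMod ℓ) * u p.1.2 - (m p.1.2 : ZMod ℓ) * u p.1.1)
  map_add' u v := by funext p; simp only [Pi.add_apply]; ring
  map_smul' c u := by funext p; simp only [Pi.smul_apply, smul_eq_mul, RingHom.id_apply]; ring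


lemma Abar_symm (hsymm : A.IsSymm) (i j : Fin n) : Abar A ℓ j i = Abar A ℓ i j := by
  simp only [Abar]; rw [hsymm.apply i j]

lemma Abar_zero_of (hA : ∀ i j, i ≠ j → 0 ≤ A i j) {i j : Fin n} (hij : i ≠ j)
    (h : ¬ 0 < A i j) : Abar A ℓ i j = 0 := by
  have : A i j = 0 := le_antisymm (not_lt.mp h) (hA i j hij)
  simp [Abar, this]

lemma Dt_theta {m : Fin n → ℤ} (hsymm : A.IsSymm) (hA : ∀ i j, i ≠ j → 0 ≤ A i j)
    (hAm : A.mulVec m = 0) (u : Fin n → ZMod ℓ) (hu : u ∈ Kbar A ℓ) :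
    (D A ℓ).transpose.mulVec (theta A ℓ m u) = 0 := by
  funext i
  -- notation
  obtain ⟨g, hg⟩ : ∃ g : Fin n → Fin n → ZMod ℓ, g = fun a b =>
      Abar A ℓ a b * ((m a : ZMod ℓ) * u b - (m b : ZMod ℓ) * u a) := ⟨_, rfl⟩
  obtain ⟨Fc, hFc⟩ : ∃ Fc : Fin n → Fin n → ZMod ℓ, Fc = fun a b =>
      if (a < b ∧ 0 < A a b) then g a b else 0 := ⟨_, rfl⟩
  have hu0 : ∑ j, Abar A ℓ i j * u j = 0 := by
    have := congrFun ((mem_Kbar u).mp hu) i
    simpa [Matrix.mulVec, dotProduct] using this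
  have hm0 : ∑ j, Abar A ℓ i j * (m j : ZMod ℓ) = 0 := by
    have := congrFun ((mem_Kbar _).mp (redm_mem (ℓ := ℓ) hAm)) i
    simpa [Matrix.mulVec, dotProduct, red] using this
  -- step 1: rewrite as a double sum
  have step1 : (D A ℓ).transpose.mulVec (theta A ℓ m u) i =
      ∑ a, ∑ b, ((if b = i then Fc a b else 0) - (if a = i then Fc a b else 0)) := by
    simp only [Matrix.mulVec, dotProduct, Matrix.transpose_apply]
    rw [← Fintype.sum_prod_type (f := fun q : Fin n × Fin n =>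
      ((if q.2 = i then Fc q.1 q.2 else 0) - (if q.1 = i then Fc q.1 q.2 else 0)))]
    have hsub : ∑ p : P A, D A ℓ p i * theta A ℓ m u p =
        ∑ q ∈ univ.filter (fun q : Fin n × Fin n => q.1 < q.2 ∧ 0 < A q.1 q.2),
          ((if q.2 = i then (1 : ZMod ℓ) else 0) - (if q.1 = i then 1 else 0)) * g q.1 q.2 := by
      rw [Finset.sum_subtype (univ.filter (fun q : Fin n × Fin n => q.1 < q.2 ∧ 0 < A q.1 q.2))
        (p := fun q : Fin n × Fin n => q.1 < q.2 ∧ 0 < A q.1 q.2) (by intro x; simp)]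
      refine Finset.sum_congr rfl (fun p _ => ?_)
      simp only [D, theta, LinearMap.coe_mk, AddHom.coe_mk, hg, Abar]
    rw [hsub, Finset.sum_filter]
    refine Finset.sum_congr rfl (fun q _ => ?_)
    rw [hFc]
    by_cases hq : q.1 < q.2 ∧ 0 < A q.1 q.2
    · simp only [hq, and_self, if_true]
      split_ifs <;> ring
    · simp only [hq, if_false]
      split_ifs <;> ring
  -- step 2: collapse the indicator sums
  have step2 : ∑ a, ∑ b, ((if b = i then Fc a b else 0) - (if a = i then Fc a b else 0)) =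
      ∑ j, (Fc j i - Fc i j) := by
    simp only [Finset.sum_sub_distrib]
    congr 1
    · refine Finset.sum_congr rfl (fun a _ => ?_)
      rw [Finset.sum_ite_eq' univ i (fun b => Fc a b)]
      simp
    · have : ∀ a, (∑ b, if a = i then Fc a b else 0) = if a = i then ∑ b, Fc a b else 0 := by
        intro a; split_ifs <;> simp
      simp only [this]
      rw [Finset.sum_ite_eq' univ i (fun a => ∑ b, Fc a b)]
      simp
  -- step 3: each term
  have step3 : ∀ j, Fc j i - Fc i j = - g i j := by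
    intro j
    rw [hFc]
    simp only
    rcases lt_trichotomy j i with h | h | h
    · have h' : ¬ i < j := not_lt.mpr h.le
      simp only [h, h', true_and, false_and, if_false, sub_zero]
      by_cases hp : 0 < A j i
      · simp only [hp, if_true, hg]
        rw [Abar_symm hsymm i j]
        ring
      · simp only [hp, if_false, hg]
        rw [← Abar_symm (ℓ := ℓ) hsymm i j, Abar_zero_of hA h.ne hp]
        ring
    · subst h
      simp only [lt_irrefl, false_and, if_false, hg]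
      ring
    · have h' : ¬ j < i := not_lt.mpr h.le
      simp only [h, h', true_and, false_and, if_false, zero_sub]
      by_cases hp : 0 < A i j
      · simp only [hp, if_true]
      · simp only [hp, if_false, hg]
        rw [Abar_zero_of hA h.ne hp]
        ring
  rw [step1, step2]
  simp only [step3, hg, Finset.sum_neg_distrib, Pi.zero_apply, neg_eq_zero]
  have : ∀ j, Abar A ℓ i j * ((m i : ZMod ℓ) * u j - (m j : ZMod ℓ) * u i) =
      (m i : ZMod ℓ) * (Abar A ℓ i j * u j) - u i * (Abar A ℓ i j * (m j : ZMod ℓ)) := by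
    intro j; ring
  simp only [this, Finset.sum_sub_distrib, ← Finset.mul_sum, hu0, hm0, mul_zero, sub_zero]


lemma ker_theta {m : Fin n → ℤ} (hn : 0 < n) (hsymm : A.IsSymm) (hA : ∀ i j, i ≠ j → 0 ≤ A i j)
    (hconn : ∀ I : Finset (Fin n), I.Nonempty → I ≠ univ → ∃ i ∈ I, ∃ j ∉ I, A i j ≠ 0)
    (hℓA : ∀ i j, A i j ≠ 0 → ¬ ((ℓ : ℤ) ∣ A i j)) (hℓm : ∀ i, ¬ ((ℓ : ℤ) ∣ m i))
    (u : Fin n → ZMod ℓ) (hθ : theta A ℓ m u = 0) : ∃ c : ZMod ℓ, u = c • red ℓ m := by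
  have hm' : ∀ i, (m i : ZMod ℓ) ≠ 0 :=
    fun i h => hℓm i ((CharP.intCast_eq_zero_iff (ZMod ℓ) ℓ _).mp h)
  obtain ⟨w, hw⟩ : ∃ w : Fin n → ZMod ℓ, w = fun i => u i / (m i : ZMod ℓ) := ⟨_, rfl⟩
  have hwe : ∀ p : P A, w p.1.1 = w p.1.2 := by
    intro p
    have := congrFun hθ p
    simp only [theta, LinearMap.coe_mk, AddHom.coe_mk, Pi.zero_apply] at this
    have hA0 : (A p.1.1 p.1.2 : ZMod ℓ) ≠ 0 := by
      intro h
      exact hℓA _ _ p.2.2.ne' ((CharP.intCast_eq_zero_iff (ZMod ℓ) ℓ _).mp h)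
    have h2 := (mul_eq_zero.mp this).resolve_left hA0
    rw [hw]
    simp only
    have h1 := hm' p.1.1
    have h1' := hm' p.1.2
    field_simp
    linear_combination -h2
  have hc := const_of_edges hsymm hA hconn w hwe
  refine ⟨w ⟨0, hn⟩, ?_⟩
  funext j
  have := hc ⟨0, hn⟩ j
  rw [← this, hw]
  simp only [Pi.smul_apply, smul_eq_mul, red]
  have h1 := hm' j
  field_simp

end graph

theorem main {n : ℕ} (A : Matrix (Fin n) (Fin n) ℤ)
    (m : Fin n → ℤ) (hsymm : A.IsSymm) (hA : ∀ i j, i ≠ j → 0 ≤ A i j)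
    (hAm : A.mulVec m = 0)
    (hconn : ∀ I : Finset (Fin n), I.Nonempty → I ≠ univ → ∃ i ∈ I, ∃ j ∉ I, A i j ≠ 0)
    (ℓ : ℕ) (hℓ : ℓ.Prime) (hℓA : ∀ i j, A i j ≠ 0 → ¬ ((ℓ : ℤ) ∣ A i j))
    (hℓm : ∀ i, ¬ ((ℓ : ℤ) ∣ m i)) :
    Nat.card (Submodule.torsionBy ℤ ((Fin n → ℤ) ⧸ LinearMap.range (Matrix.mulVecLin A)) (ℓ : ℤ))
      ≤ ℓ ^ ((univ.filter fun p : Fin n × Fin n => p.1 < p.2 ∧ 0 < A p.1 p.2).card + 1 - n) := by
  haveI : Fact ℓ.Prime := ⟨hℓ⟩
  rcases Nat.eq_zero_or_pos n with hn | hn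
  · subst hn
    have hsub : Subsingleton (Submodule.torsionBy ℤ
        ((Fin 0 → ℤ) ⧸ LinearMap.range (Matrix.mulVecLin A)) (ℓ : ℤ)) := by
      constructor
      intro a b
      apply Subtype.ext
      obtain ⟨x, hx⟩ := Submodule.Quotient.mk_surjective _ a.1
      obtain ⟨y, hy⟩ := Submodule.Quotient.mk_surjective _ b.1
      rw [← hx, ← hy, Subsingleton.elim x y]
    have h1 : Nat.card (Submodule.torsionBy ℤ
        ((Fin 0 → ℤ) ⧸ LinearMap.range (Matrix.mulVecLin A)) (ℓ : ℤ)) ≤ 1 :=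
      Finite.card_le_one_iff_subsingleton.mpr hsub
    exact h1.trans (Nat.one_le_pow _ _ hℓ.pos)
  · have hm0 : (m ⟨0, hn⟩ : ZMod ℓ) ≠ 0 :=
      fun h => hℓm _ ((CharP.intCast_eq_zero_iff (ZMod ℓ) ℓ _).mp h)
    have h1 := card_le (ℓ := ℓ) hAm ⟨0, hn⟩ hm0
    have h2 : Nat.card (K0 A ℓ ⟨0, hn⟩) = ℓ ^ Module.finrank (ZMod ℓ) (K0 A ℓ ⟨0, hn⟩) := by
      rw [Module.natCard_eq_pow_finrank (K := ZMod ℓ), Nat.card_zmod]
    have h3 : Module.finrank (ZMod ℓ) (K0 A ℓ ⟨0, hn⟩) < Module.finrank (ZMod ℓ) (Kbar A ℓ) := by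
      apply Submodule.finrank_lt_finrank_of_lt
      refine lt_of_le_of_ne inf_le_left ?_
      intro heq
      have hmem : red ℓ m ∈ K0 A ℓ ⟨0, hn⟩ := heq ▸ redm_mem hAm
      exact hm0 hmem.2
    have h4 : Module.finrank (ZMod ℓ) (Kbar A ℓ) ≤
        Module.finrank (ZMod ℓ) (LinearMap.ker (D A ℓ).transpose.mulVecLin) + 1 := by
      have hr := LinearMap.finrank_range_add_finrank_ker ((theta A ℓ m).domRestrict (Kbar A ℓ))
      have hrange : LinearMap.range ((theta A ℓ m).domRestrict (Kbar A ℓ)) ≤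
          LinearMap.ker (D A ℓ).transpose.mulVecLin := by
        rintro _ ⟨⟨u, hu⟩, rfl⟩
        exact Dt_theta hsymm hA hAm u hu
      have hker : Module.finrank (ZMod ℓ)
          (LinearMap.ker ((theta A ℓ m).domRestrict (Kbar A ℓ))) ≤ 1 := by
        have hle : LinearMap.ker ((theta A ℓ m).domRestrict (Kbar A ℓ)) ≤
            Submodule.span (ZMod ℓ) {(⟨red ℓ m, redm_mem hAm⟩ : Kbar A ℓ)} := by
          rintro ⟨u, hu⟩ hx
          have hx' : theta A ℓ m u = 0 := hx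
          obtain ⟨c, hc⟩ := ker_theta hn hsymm hA hconn hℓA hℓm u hx'
          rw [Submodule.mem_span_singleton]
          exact ⟨c, Subtype.ext hc.symm⟩
        calc _ ≤ Module.finrank (ZMod ℓ)
              (Submodule.span (ZMod ℓ) {(⟨red ℓ m, redm_mem hAm⟩ : Kbar A ℓ)}) :=
              Submodule.finrank_mono hle
          _ ≤ 1 := by
              have := finrank_span_le_card (R := ZMod ℓ)
                ({(⟨red ℓ m, redm_mem hAm⟩ : Kbar A ℓ)} : Set (Kbar A ℓ))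
              simpa using this
      have := Submodule.finrank_mono hrange
      omega
    have h5 := finrank_ker_Dt (ℓ := ℓ) hn hsymm hA hconn
    have h6 : Fintype.card (P A) =
        (univ.filter fun p : Fin n × Fin n => p.1 < p.2 ∧ 0 < A p.1 p.2).card :=
      Fintype.card_subtype _
    calc _ ≤ Nat.card (K0 A ℓ ⟨0, hn⟩) := h1
      _ = ℓ ^ Module.finrank (ZMod ℓ) (K0 A ℓ ⟨0, hn⟩) := h2
      _ ≤ _ := Nat.pow_le_pow_right hℓ.pos (by omega)

end PRE

/-- Let A be a symmetric integer n by n matrix with non-negative off-diagonal entries killing an integer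
vector m with positive entries, such that no proper non-empty index set is orthogonal to its
complement. Write e for the number of index pairs i < j where A i j > 0, and let l be a prime
dividing none of the nonzero entries of A and none of the m i. Then the l-torsion subgroup of the
cokernel of A on Z^n has at most l^(1 - n + e) elements, i.e. F_l-dimension at most 1 - n + e (the
exponent is written with truncated subtraction; e + 1 is never smaller than n here). -/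
theorem result {n : ℕ} (A : Matrix (Fin n) (Fin n) ℤ)
    (m : Fin n → ℤ) (hsymm : A.IsSymm) (hA : ∀ i j, i ≠ j → 0 ≤ A i j) (hm : ∀ i, 0 < m i)
    (hAm : A.mulVec m = 0)
    (hconn : ∀ I : Finset (Fin n), I.Nonempty → I ≠ univ → ∃ i ∈ I, ∃ j ∉ I, A i j ≠ 0)
    (ℓ : ℕ) (hℓ : ℓ.Prime) (hℓA : ∀ i j, A i j ≠ 0 → ¬ ((ℓ : ℤ) ∣ A i j))
    (hℓm : ∀ i, ¬ ((ℓ : ℤ) ∣ m i)) :
    Nat.card (Submodule.torsionBy ℤ ((Fin n → ℤ) ⧸ LinearMap.range (Matrix.mulVecLin A)) (ℓ : ℤ))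
      ≤ ℓ ^ ((univ.filter fun p : Fin n × Fin n => p.1 < p.2 ∧ 0 < A p.1 p.2).card + 1 - n) := by
  exact main A m hsymm hA hAm hconn ℓ hℓ hℓA hℓm

end Groth.Agent.S2172
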