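import Groth.Statements.S2173
-- import your own Groth.Agent.* helpers here

set_option autoImplicit false
open Finset
open Models Models.NumericalType

namespace Groth.Agent.S2173

/-- A double sum of a symmetric function is its diagonal plus twice its strictly upper part. -/
theorem sum_sum_symm {n : ℕ} (f : Fin n → Fin n → ℤ) (hf : ∀ i j, f i j = f j i) :
    ∑ i, ∑ j, f i j = ∑ i, f i i + 2 * ∑ i, ∑ j, (if i < j then f i j else 0) := by
  have hL : ∑ i, ∑ j, (if j < i then f i j else 0) = ∑ i, ∑ j, (if i < j then f i j else 0) := by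
    rw [Finset.sum_comm]
    refine Finset.sum_congr rfl fun i _ => Finset.sum_congr rfl fun j _ => ?_
    rw [hf j i]
  have hsplit : ∀ i j, f i j =
      (if j < i then f i j else 0) + (if i = j then f i j else 0) + (if i < j then f i j else 0) := by
    intro i j
    rcases lt_trichotomy i j with h | h | h
    · simp [h, h.ne, h.not_gt]
    · subst h; simp
    · simp [h, h.ne', h.not_gt]
  calc ∑ i, ∑ j, f i j
      = ∑ i, ∑ j, ((if j < i then f i j else 0) + (if i = j then f i j else 0) +
          (if i < j then f i j else 0)) :=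
        Finset.sum_congr rfl fun i _ => Finset.sum_congr rfl fun j _ => hsplit i j
    _ = ∑ i, ∑ j, (if j < i then f i j else 0) + ∑ i, ∑ j, (if i = j then f i j else 0) +
          ∑ i, ∑ j, (if i < j then f i j else 0) := by
        simp only [Finset.sum_add_distrib]
    _ = ∑ i, f i i + 2 * ∑ i, ∑ j, (if i < j then f i j else 0) := by
        rw [hL]
        have : ∑ i, ∑ j, (if i = j then f i j else 0) = ∑ i, f i i :=
          Finset.sum_congr rfl fun i _ => by simp
        rw [this]; ring

/-- For a numerical type the sum over i of m i * a i i is even; equivalently the rational number 1 + sum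
m_i (w_i (g_i - 1) - a_ii / 2) defining the genus is an integer. -/
theorem result {n : ℕ} (T : Models.NumericalType n) : (2 : ℤ) ∣ ∑ i, T.m i * T.a i i := by
  have hrow : ∀ i, ∑ j, T.a i j * T.m j = 0 := fun i => by
    simpa [Matrix.mulVec, dotProduct] using congrFun T.mulVec_m i
  have hQ : ∑ i, ∑ j, T.m i * T.a i j * T.m j = 0 := by
    refine Finset.sum_eq_zero fun i _ => ?_
    have : ∑ j, T.m i * T.a i j * T.m j = T.m i * ∑ j, T.a i j * T.m j := by
      rw [Finset.mul_sum]
      exact Finset.sum_congr rfl fun j _ => by ring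
    rw [this, hrow i, mul_zero]
  rw [sum_sum_symm (fun i j => T.m i * T.a i j * T.m j)
    (fun i j => by rw [T.symm.apply i j]; ring)] at hQ
  have hdiag : ∑ i, T.m i * T.a i i =
      ∑ i, T.m i * T.a i i * T.m i - 2 * ∑ i, (T.m i * (T.m i - 1) / 2) * T.a i i := by
    rw [Finset.mul_sum, ← Finset.sum_sub_distrib]
    refine Finset.sum_congr rfl fun i _ => ?_
    have h2 : (2 : ℤ) ∣ T.m i * (T.m i - 1) := by
      have := Int.even_mul_pred_self (T.m i)
      exact even_iff_two_dvd.1 this
    obtain ⟨k, hk⟩ := h2
    rw [hk, Int.mul_ediv_cancel_left _ (by norm_num : (2 : ℤ) ≠ 0)]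
    have : T.m i * T.m i = T.m i + 2 * k := by linarith
    calc T.m i * T.a i i = T.m i * T.m i * T.a i i - 2 * (k * T.a i i) := by rw [this]; ring
      _ = _ := by ring
  rw [hdiag]
  refine dvd_sub ?_ (dvd_mul_right _ _)
  have : ∑ i, T.m i * T.a i i * T.m i =
      -(2 * ∑ i, ∑ j, (if i < j then T.m i * T.a i j * T.m j else 0)) := by linarith
  rw [this]
  exact (dvd_mul_right _ _).neg_right

end Groth.Agent.S2173
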