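import Groth.Statements.S2179
-- import your own Groth.Agent.* helpers here

set_option autoImplicit false
open Finset
open Models Models.NumericalType

namespace Groth.Agent.S2179

/-- For a numerical type T, the map Z^n -> Z^n multiplying the i-th coordinate by w i induces a
well-defined injective homomorphism from Pic(T), the cokernel of (a i j / w i), to the cokernel of
the matrix a. -/
theorem result {n : ℕ} (T : Models.NumericalType n) :
    ∃ f : T.Pic →+ T.CokerA, Function.Injective f ∧
      ∀ x : Fin n → ℤ, f (Submodule.Quotient.mk x) = Submodule.Quotient.mk (fun i => T.w i * x i) := by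
  classical
  -- multiplication of the i-th coordinate by `w i`
  let D : (Fin n → ℤ) →ₗ[ℤ] (Fin n → ℤ) :=
    { toFun := fun x i => T.w i * x i
      map_add' := by intro x y; funext i; simp [mul_add]
      map_smul' := by intro c x; funext i; simp [mul_left_comm] }
  have hD : ∀ x i, D x i = T.w i * x i := fun _ _ => rfl
  have key : ∀ y : Fin n → ℤ, D (T.picMatrix.mulVec y) = T.a.mulVec y := by
    intro y
    funext i
    rw [hD]
    simp only [Matrix.mulVec, dotProduct, Finset.mul_sum]
    refine Finset.sum_congr rfl fun j _ => ?_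
    rw [← mul_assoc]
    congr 1
    exact Int.mul_ediv_cancel' (T.w_dvd i j)
  have hle : LinearMap.range (Matrix.mulVecLin T.picMatrix) ≤
      (LinearMap.range (Matrix.mulVecLin T.a)).comap D := by
    rintro _ ⟨y, rfl⟩
    rw [Submodule.mem_comap]
    exact ⟨y, by rw [Matrix.mulVecLin_apply, Matrix.mulVecLin_apply, key]⟩
  let F : T.Pic →ₗ[ℤ] T.CokerA := Submodule.mapQ _ _ D hle
  refine ⟨F.toAddMonoidHom, ?_, ?_⟩
  · rw [injective_iff_map_eq_zero]
    intro q hq
    obtain ⟨x, rfl⟩ := Submodule.Quotient.mk_surjective _ q
    have hq' : F (Submodule.Quotient.mk x) = 0 := hq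
    rw [Submodule.mapQ_apply, Submodule.Quotient.mk_eq_zero] at hq'
    obtain ⟨y, hy⟩ := hq'
    rw [Submodule.Quotient.mk_eq_zero]
    refine ⟨y, ?_⟩
    rw [Matrix.mulVecLin_apply] at hy ⊢
    rw [← key] at hy
    funext i
    have hi := congrFun hy i
    rw [hD, hD] at hi
    exact mul_left_cancel₀ (T.w_pos i).ne' hi
  · intro x
    rfl

end Groth.Agent.S2179
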