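import Groth.Statements.S2181
import Mathlib
import Groth.Agent.S2175
import Groth.Agent.S2180
-- import your own Groth.Agent.* helpers here

set_option autoImplicit false
open Finset
open Models Models.NumericalType

namespace Groth.Agent.S2181

theorem equiv_int_of_injective {G : Type*} [AddCommGroup G] [Nontrivial G] (g : G →+ ℤ)
    (hg : Function.Injective g) : Nonempty (G ≃+ ℤ) := by
  obtain ⟨d, hd⟩ := Int.subgroup_cyclic g.range
  have hdmem : d ∈ g.range := by
    rw [hd]; exact AddSubgroup.subset_closure (Set.mem_singleton d)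
  obtain ⟨x₀, hx₀⟩ := hdmem
  have hd0 : d ≠ 0 := by
    intro h0
    obtain ⟨a, b, hab⟩ := exists_pair_ne G
    apply hab
    apply hg
    have ha : g a ∈ g.range := ⟨a, rfl⟩
    have hb : g b ∈ g.range := ⟨b, rfl⟩
    rw [hd, h0, AddSubgroup.mem_closure_singleton] at ha hb
    obtain ⟨n1, h1⟩ := ha
    obtain ⟨n2, h2⟩ := hb
    rw [← h1, ← h2]; simp
  let h : ℤ →+ G := zmultiplesHom G x₀
  have hh : ∀ k : ℤ, h k = k • x₀ := fun k => rfl
  have hinj : Function.Injective h := by
    rw [injective_iff_map_eq_zero]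
    intro k hk
    have := congrArg g hk
    rw [hh, map_zsmul, hx₀, map_zero, smul_eq_mul] at this
    rcases mul_eq_zero.1 this with h1 | h1
    · exact h1
    · exact absurd h1 hd0
  have hsurj : Function.Surjective h := by
    intro x
    have hx : g x ∈ g.range := ⟨x, rfl⟩
    rw [hd, AddSubgroup.mem_closure_singleton] at hx
    obtain ⟨k, hk⟩ := hx
    refine ⟨k, hg ?_⟩
    rw [hh, map_zsmul, hx₀, hk]
  exact ⟨(AddEquiv.ofBijective h ⟨hinj, hsurj⟩).symm⟩

/-- The degree functional on `Pic`. -/
theorem exists_deg {n : ℕ} (T : Models.NumericalType n) :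
    ∃ φ : T.Pic →+ ℤ, ∀ d : Fin n → ℤ,
      φ (Submodule.Quotient.mk d) = ∑ i, T.m i * T.w i * d i := by
  let φ0 : (Fin n → ℤ) →ₗ[ℤ] ℤ :=
    { toFun := fun d => ∑ i, T.m i * T.w i * d i
      map_add' := fun x y => by
        rw [← Finset.sum_add_distrib]
        refine Finset.sum_congr rfl fun i _ => ?_
        simp only [Pi.add_apply]; ring
      map_smul' := fun c x => by
        simp only [Pi.smul_apply, smul_eq_mul, RingHom.id_apply]
        rw [Finset.mul_sum]
        refine Finset.sum_congr rfl fun i _ => ?_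
        ring }
  have hφ0 : ∀ d, φ0 d = ∑ i, T.m i * T.w i * d i := fun _ => rfl
  have hker : LinearMap.range (Matrix.mulVecLin T.picMatrix) ≤ LinearMap.ker φ0 := by
    rintro _ ⟨v, rfl⟩
    rw [LinearMap.mem_ker, hφ0]
    have h1 : ∀ i, T.m i * T.w i * (Matrix.mulVecLin T.picMatrix v) i =
        ∑ j, T.m i * T.a i j * v j := by
      intro i
      simp only [Matrix.mulVecLin_apply, Matrix.mulVec, dotProduct]
      rw [Finset.mul_sum]
      refine Finset.sum_congr rfl fun j _ => ?_
      have : T.picMatrix i j * T.w i = T.a i j := Int.ediv_mul_cancel (T.w_dvd i j)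
      rw [← this]; ring
    rw [Finset.sum_congr rfl fun i _ => h1 i, Finset.sum_comm]
    refine Finset.sum_eq_zero fun j _ => ?_
    have h2 := congrFun T.mulVec_m j
    simp only [Matrix.mulVec, dotProduct, Pi.zero_apply] at h2
    have : ∑ i, T.m i * T.a i j * v j = (∑ i, T.a j i * T.m i) * v j := by
      rw [Finset.sum_mul]
      refine Finset.sum_congr rfl fun i _ => ?_
      rw [T.symm.apply j i]; ring
    rw [this, h2, zero_mul]
  refine ⟨(Submodule.liftQ _ φ0 hker).toAddMonoidHom, fun d => ?_⟩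
  change Submodule.liftQ _ φ0 hker (Submodule.Quotient.mk d) = _
  rw [Submodule.liftQ_apply, hφ0]

theorem pic_nontrivial {n : ℕ} (T : Models.NumericalType n) : Nontrivial T.Pic := by
  classical
  obtain ⟨φ, hφ⟩ := exists_deg T
  let i0 : Fin n := ⟨0, T.pos⟩
  refine ⟨⟨Submodule.Quotient.mk (Pi.single i0 1), 0, fun h => ?_⟩⟩
  have := congrArg φ h
  rw [hφ, map_zero] at this
  rw [Finset.sum_eq_single i0] at this
  · simp only [Pi.single_eq_same, mul_one] at this
    have h1 := T.m_pos i0
    have h2 := T.w_pos i0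
    have : 0 < T.m i0 * T.w i0 := mul_pos h1 h2
    omega
  · intro j _ hj
    rw [Pi.single_eq_of_ne hj, mul_zero]
  · intro h; exact absurd (Finset.mem_univ _) h

/-- The permuted numerical type. -/
def perm {n : ℕ} (T : Models.NumericalType n) (σ : Equiv.Perm (Fin n)) : Models.NumericalType n where
  m := fun i => T.m (σ i)
  a := fun i j => T.a (σ i) (σ j)
  w := fun i => T.w (σ i)
  g := fun i => T.g (σ i)
  pos := T.pos
  m_pos := fun i => T.m_pos _
  w_pos := fun i => T.w_pos _
  g_nonneg := fun i => T.g_nonneg _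
  symm := Matrix.IsSymm.ext fun i j => T.symm.apply _ _
  offDiag_nonneg := fun i j hij => T.offDiag_nonneg _ _ (fun h => hij (σ.injective h))
  connected := by
    classical
    intro I hI hIu
    have hex : ∃ j0, j0 ∉ I := by
      by_contra hcon
      push Not at hcon
      exact hIu (Finset.eq_univ_iff_forall.mpr hcon)
    obtain ⟨j0, hj0⟩ := hex
    have hmem : ∀ x, x ∈ I.map σ.toEmbedding ↔ σ.symm x ∈ I := by
      intro x
      rw [Finset.mem_map_equiv]
    have h1 : (I.map σ.toEmbedding).Nonempty := hI.map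
    have h2 : I.map σ.toEmbedding ≠ Finset.univ := by
      intro hcon
      have : σ j0 ∈ I.map σ.toEmbedding := by rw [hcon]; exact Finset.mem_univ _
      rw [hmem, Equiv.symm_apply_apply] at this
      exact hj0 this
    obtain ⟨i', hi', j', hj', hne⟩ := T.connected _ h1 h2
    rw [hmem] at hi' hj'
    refine ⟨σ.symm i', hi', σ.symm j', hj', ?_⟩
    simpa using hne
  mulVec_m := by
    funext i
    simp only [Matrix.mulVec, dotProduct, Pi.zero_apply]
    rw [Equiv.sum_comp σ (fun j => T.a (σ i) j * T.m j)]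
    have := congrFun T.mulVec_m (σ i)
    simpa [Matrix.mulVec, dotProduct] using this
  w_dvd := fun i j => T.w_dvd _ _

theorem perm_genus {n : ℕ} (T : Models.NumericalType n) (σ : Equiv.Perm (Fin n)) :
    (perm T σ).genus = T.genus := by
  unfold Models.NumericalType.genus
  have h1 : ∑ i, (perm T σ).m i * (perm T σ).w i * ((perm T σ).g i - 1) =
      ∑ i, T.m i * T.w i * (T.g i - 1) :=
    Equiv.sum_comp σ (fun i => T.m i * T.w i * (T.g i - 1))
  have h2 : ∑ i, (perm T σ).m i * (perm T σ).a i i = ∑ i, T.m i * T.a i i :=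
    Equiv.sum_comp σ (fun i => T.m i * T.a i i)
  rw [h1, h2]

theorem perm_pic {n : ℕ} (T : Models.NumericalType n) (σ : Equiv.Perm (Fin n)) :
    Nonempty (T.Pic ≃+ (perm T σ).Pic) := by
  have key : ∀ v : Fin n → ℤ, (fun i => T.picMatrix.mulVec v (σ i)) =
      (perm T σ).picMatrix.mulVec (fun j => v (σ j)) := by
    intro v
    funext i
    simp only [Matrix.mulVec, dotProduct]
    exact (Equiv.sum_comp σ (fun j => T.picMatrix (σ i) j * v j)).symm
  refine ⟨(Submodule.Quotient.equiv _ _ (LinearEquiv.funCongrLeft ℤ ℤ σ) ?_).toAddEquiv⟩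
  ext u
  constructor
  · rintro ⟨_, ⟨v, rfl⟩, rfl⟩
    exact ⟨fun j => v (σ j), (key v).symm⟩
  · rintro ⟨v', rfl⟩
    refine ⟨T.picMatrix.mulVec (fun j => v' (σ.symm j)), ⟨_, rfl⟩, ?_⟩
    have := key (fun j => v' (σ.symm j))
    simp only [Equiv.symm_apply_apply] at this
    exact this

theorem exists_minusOne {n : ℕ} (T : Models.NumericalType (n + 2)) (hg : T.genus ≤ 0) :
    ∃ i, T.IsMinusOne i := by
  classical
  by_contra hcon
  push Not at hcon
  -- negative diagonal
  have hneg : ∀ i, ∃ k : ℤ, 1 ≤ k ∧ T.a i i = -(k * T.w i) := by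
    intro i
    have h1 : ({i} : Finset (Fin (n + 2))).Nonempty := Finset.singleton_nonempty i
    have h2 : ({i} : Finset (Fin (n + 2))) ≠ Finset.univ := by
      intro h
      have := congrArg Finset.card h
      rw [Finset.card_singleton, Finset.card_univ, Fintype.card_fin] at this
      omega
    obtain ⟨i', hi', j, hj, hij⟩ := T.connected _ h1 h2
    rw [Finset.mem_singleton] at hi' hj
    subst hi'
    have hji : j ≠ i' := hj
    have hpos : 0 < T.a i' j := lt_of_le_of_ne (T.offDiag_nonneg _ _ (Ne.symm hji)) (Ne.symm hij)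
    have hrow := congrFun T.mulVec_m i'
    simp only [Matrix.mulVec, dotProduct, Pi.zero_apply] at hrow
    rw [← Finset.add_sum_erase _ _ (Finset.mem_univ i')] at hrow
    have hrest : 0 < ∑ x ∈ Finset.univ.erase i', T.a i' x * T.m x := by
      refine Finset.sum_pos' (fun x hx => ?_) ⟨j, Finset.mem_erase.2 ⟨hji, Finset.mem_univ _⟩, ?_⟩
      · exact mul_nonneg (T.offDiag_nonneg _ _ (Ne.symm (Finset.ne_of_mem_erase hx))) (T.m_pos x).le
      · exact mul_pos hpos (T.m_pos j)
    have hdiag : T.a i' i' < 0 := by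
      have := T.m_pos i'
      nlinarith
    obtain ⟨c, hc⟩ := T.w_dvd i' i'
    refine ⟨-c, ?_, by rw [hc]; ring⟩
    have := T.w_pos i'
    rw [hc] at hdiag
    have : c < 0 := by
      by_contra h
      have : 0 ≤ T.w i' * c := mul_nonneg (T.w_pos i').le (not_lt.mp h)
      omega
    omega
  choose k hk1 hk using hneg
  obtain ⟨E, hE⟩ := Groth.Agent.S2175.even_sum_diag T.a T.symm T.m T.mulVec_m
  have hgen : T.genus = 1 + (∑ i, T.m i * T.w i * (T.g i - 1)) - E := by
    unfold Models.NumericalType.genus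
    rw [hE, Int.mul_ediv_cancel_left _ (by norm_num)]
  have hterm : ∀ i, 0 ≤ T.m i * T.w i * (2 * (T.g i - 1) + k i) := by
    intro i
    have h1 := T.m_pos i
    have h2 := T.w_pos i
    have h3 := T.g_nonneg i
    have h4 := hk1 i
    have h5 : 0 ≤ 2 * (T.g i - 1) + k i := by
      by_contra h
      have hg0 : T.g i = 0 := by omega
      have hk' : k i = 1 := by omega
      apply hcon i
      exact ⟨hg0, by rw [hk i, hk']; ring⟩
    positivity
  have hsum : 2 * (∑ i, T.m i * T.w i * (T.g i - 1)) - 2 * E =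
      ∑ i, T.m i * T.w i * (2 * (T.g i - 1) + k i) := by
    rw [← hE, Finset.mul_sum, ← Finset.sum_sub_distrib]
    refine Finset.sum_congr rfl fun i _ => ?_
    rw [hk i]; ring
  have : 0 ≤ ∑ i, T.m i * T.w i * (2 * (T.g i - 1) + k i) := Finset.sum_nonneg fun i _ => hterm i
  omega


/-- If the genus of a numerical type is at most 0 then its Picard group is infinite cyclic. -/
theorem result {n : ℕ} (T : Models.NumericalType n) (hg : T.genus ≤ 0) : Nonempty (T.Pic ≃+ ℤ) := by
  classical
  induction n with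
  | zero => exact absurd T.pos (lt_irrefl 0)
  | succ n ih =>
    haveI := pic_nontrivial T
    by_cases hn : n = 0
    · subst hn
      obtain ⟨φ, hφ⟩ := exists_deg T
      refine equiv_int_of_injective φ ?_
      rw [injective_iff_map_eq_zero]
      intro x hx
      obtain ⟨d, rfl⟩ := Submodule.Quotient.mk_surjective _ x
      rw [hφ, Fin.sum_univ_one] at hx
      have h1 := T.m_pos 0
      have h2 := T.w_pos 0
      have h3 : d 0 = 0 := by
        rcases mul_eq_zero.1 hx with h | h
        · rcases mul_eq_zero.1 h with h' | h' <;> omega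
        · exact h
      have : d = 0 := by
        funext i
        have hi : i = 0 := Fin.ext (by have := i.2; omega)
        rw [hi, h3]; rfl
      rw [this]; rfl
    · obtain ⟨n', rfl⟩ : ∃ n', n = n' + 1 := ⟨n - 1, by omega⟩
      obtain ⟨i₀, hi₀⟩ := exists_minusOne T hg
      let σ : Equiv.Perm (Fin (n' + 1 + 1)) := Equiv.swap (Fin.last (n' + 1)) i₀
      have hlast : (perm T σ).IsMinusOne (Fin.last (n' + 1)) := by
        change T.g (σ _) = 0 ∧ T.a (σ _) (σ _) = - T.w (σ _)
        rw [show σ (Fin.last (n' + 1)) = i₀ from Equiv.swap_apply_left _ _]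
        exact hi₀
      obtain ⟨⟨T', hT'⟩, hgen⟩ := Groth.Agent.S2175.result (perm T σ) hlast
      have hg' : T'.genus ≤ 0 := by rw [hgen T' hT', perm_genus]; exact hg
      obtain ⟨e'⟩ := ih T' hg'
      obtain ⟨f, hf, _⟩ := Groth.Agent.S2180.result (perm T σ) hlast T' hT'
      obtain ⟨e₁⟩ := perm_pic T σ
      refine equiv_int_of_injective ((e'.toAddMonoidHom.comp f).comp e₁.toAddMonoidHom) ?_
      exact (e'.injective.comp hf).comp e₁.injective

end Groth.Agent.S2181
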