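import Groth.Statements.S2183
import Groth.Agent.Lib.Helper11.NumTypeBound

set_option autoImplicit false
open Finset
open Models Models.NumericalType

namespace Groth.Agent.S2183

open Classical in
/-- Let T be a minimal numerical type with n > 1 indices and genus g at least 2, and let J be the set of
indices which are not (-2)-indices. Then J has at most 2g - 2 elements, and for j in J one has g j <
g, m j * |a j j| at most 6g - 6, and m i * a i j at most 6g - 6 for every index i. -/
theorem result {n : ℕ} (T : Models.NumericalType n) (hmin : T.IsMinimal) (hn : 1 < n) (hg : 2 ≤ T.genus) :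
    ((univ.filter fun j => ¬T.IsMinusTwo j).card : ℤ) ≤ 2 * T.genus - 2 ∧
      ∀ j, ¬T.IsMinusTwo j →
        T.g j < T.genus ∧ T.m j * |T.a j j| ≤ 6 * T.genus - 6 ∧
          ∀ i, T.m i * T.a i j ≤ 6 * T.genus - 6 := by
  refine ⟨?_, ?_⟩
  · -- cardinality bound
    have h1 : ((univ.filter fun j => ¬T.IsMinusTwo j).card : ℤ)
        = ∑ j ∈ univ.filter (fun j => ¬T.IsMinusTwo j), (1 : ℤ) := by simp
    rw [h1]
    calc ∑ j ∈ univ.filter (fun j => ¬T.IsMinusTwo j), (1 : ℤ)
        ≤ ∑ j ∈ univ.filter (fun j => ¬T.IsMinusTwo j), Lib.Helper11.tt T j := by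
          refine Finset.sum_le_sum fun j hj => ?_
          rw [Finset.mem_filter] at hj
          exact (Lib.Helper11.bounds_of_not_minusTwo T hmin hn j hj.2).1
      _ ≤ ∑ j, Lib.Helper11.tt T j :=
          Finset.sum_le_sum_of_subset_of_nonneg (Finset.filter_subset _ _)
            (fun j _ _ => Lib.Helper11.tt_nonneg T hmin hn j)
      _ ≤ 2 * T.genus - 2 := Lib.Helper11.sum_tt_le T
  · intro j hj
    obtain ⟨h1, h2, h3⟩ := Lib.Helper11.bounds_of_not_minusTwo T hmin hn j hj
    have h4 := Lib.Helper11.tt_le_genus T hmin hn j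
    have h5 : T.m j * |T.a j j| ≤ 6 * T.genus - 6 := by linarith
    refine ⟨by omega, h5, fun i => le_trans (Lib.Helper11.mul_a_le T i j) h5⟩

end Groth.Agent.S2183
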