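import Groth.Statements.S2188
import Mathlib
import Groth.Agent.Lib.Helper33.Vasconcelos

set_option autoImplicit false
universe u
open CategoryTheory
open LCI

namespace Groth.Agent.S2188

/-- Let R be a Noetherian local ring and I an ideal of finite projective dimension as an R-module. If F
is a direct summand of I/I^2 which is free of rank r over R/I, then there is a regular sequence x_1,
..., x_r of R inside I whose classes in I/I^2 generate F. -/
theorem result {R : Type u} [CommRing R]
    [IsNoetherianRing R] [IsLocalRing R] (I : Ideal R) (hI : I ≠ ⊤) (n : ℕ)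
    (hpd : HasProjectiveDimensionLT (ModuleCat.of R I) n)
    (F G : Submodule (R ⧸ I) I.Cotangent) (hFG : IsCompl F G) (r : ℕ)
    (e : F ≃ₗ[R ⧸ I] (Fin r → R ⧸ I)) :
    ∃ (x : Fin r → R) (hx : ∀ i, x i ∈ I), RingTheory.Sequence.IsRegular R (List.ofFn x) ∧
      Submodule.span (R ⧸ I) (Set.range fun i => I.toCotangent ⟨x i, hx i⟩) = F := by
  classical
  have hsurj : ∀ i : Fin r, ∃ a : I, I.toCotangent a = ((e.symm (Pi.single i 1) : F) : I.Cotangent) :=
    fun i => I.toCotangent_surjective _
  choose a ha using hsurj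
  let φ : Fin r → (I →ₗ[R] R ⧸ I) := fun i =>
    ((LinearMap.proj i ∘ₗ e.toLinearMap ∘ₗ Submodule.projectionOnto F G hFG).restrictScalars R)
      ∘ₗ I.toCotangent
  have hφ : ∀ i j, φ i (a j) = (Pi.single j (1 : R ⧸ I) : Fin r → R ⧸ I) i := by
    intro i j
    simp only [φ, LinearMap.coe_comp, LinearMap.coe_restrictScalars, Function.comp_apply,
      LinearEquiv.coe_coe, LinearMap.coe_proj, Function.eval]
    rw [ha j, Submodule.projectionOnto_apply_left, e.apply_symm_apply]
  obtain ⟨x, hx, hreg, hsq⟩ := Groth.Agent.Lib.Helper33.Vasconcelos.exists_weaklyRegular r R I hI n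
    hpd a φ (fun i => by rw [hφ, Pi.single_eq_same])
    (fun i j hij => by rw [hφ, Pi.single_eq_of_ne hij])
  have hIm : I ≤ IsLocalRing.maximalIdeal R := IsLocalRing.le_maximalIdeal hI
  refine ⟨x, hx, ?_, ?_⟩
  · rw [IsLocalRing.isRegular_iff_isWeaklyRegular_of_subset_maximalIdeal]
    · exact hreg
    · intro y hy
      rw [List.mem_ofFn] at hy
      obtain ⟨i, rfl⟩ := hy
      exact hIm (hx i)
  · have hcl : ∀ i, I.toCotangent ⟨x i, hx i⟩ = ((e.symm (Pi.single i 1) : F) : I.Cotangent) := by
      intro i
      rw [← ha i, Ideal.toCotangent_eq]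
      exact hsq i
    let b := (Pi.basisFun (R ⧸ I) (Fin r)).map e.symm
    have hb : ∀ i, b i = e.symm (Pi.single i 1) := fun i => by simp [b]
    have h1 : (fun i => I.toCotangent ⟨x i, hx i⟩) = F.subtype ∘ b := by
      funext i
      rw [hcl i, Function.comp_apply, hb]
      rfl
    rw [h1, Set.range_comp, ← Submodule.map_span, b.span_eq, Submodule.map_top,
      Submodule.range_subtype]

end Groth.Agent.S2188
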