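import Groth.Statements.S2190
import Groth.Agent.Lib.Helper11.NumType

set_option autoImplicit false
open Finset
open Models Models.NumericalType

namespace Groth.Agent.S2190

/-- A minimal numerical type of genus zero has a single index, with m = 1, a = 0, w = 1 and g = 0. -/
theorem result {n : ℕ} (T : Models.NumericalType n) (hmin : T.IsMinimal) (hg : T.genus = 0) :
    n = 1 ∧ ∀ i, T.m i = 1 ∧ T.a i i = 0 ∧ T.w i = 1 ∧ T.g i = 0 := by
  have hn1 : n = 1 := by
    by_contra hne
    have hn : 1 < n := by have := T.pos; omega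
    have := Lib.Helper11.one_le_genus_of_isMinimal T hmin hn
    omega
  subst hn1
  have huniv : ∀ i : Fin 1, i = 0 := fun i => Subsingleton.elim _ _
  have ha : T.a 0 0 = 0 := by
    have h := Lib.Helper11.row_sum T 0
    rw [Fin.sum_univ_one] at h
    rcases mul_eq_zero.1 h with h | h
    · exact h
    · exact absurd h (T.m_pos 0).ne'
  have hgen : T.genus = 1 + T.m 0 * T.w 0 * (T.g 0 - 1) := by
    unfold Models.NumericalType.genus
    rw [Fin.sum_univ_one, Fin.sum_univ_one, ha]
    simp
  rw [hgen] at hg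
  have hm := T.m_pos 0
  have hw := T.w_pos 0
  have hg0 := T.g_nonneg 0
  have hgz : T.g 0 = 0 := by
    by_contra hne
    have : 1 ≤ T.g 0 := by omega
    have : 0 ≤ T.m 0 * T.w 0 * (T.g 0 - 1) := by positivity
    omega
  rw [hgz] at hg
  have hmw : T.m 0 * T.w 0 = 1 := by linarith
  have hm1 : T.m 0 = 1 := by nlinarith
  have hw1 : T.w 0 = 1 := by nlinarith
  refine ⟨rfl, fun i => ?_⟩
  rw [huniv i]
  exact ⟨hm1, ha, hw1, hgz⟩

end Groth.Agent.S2190
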