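import Groth.Statements.S2220
import Mathlib
-- import your own Groth.Agent.* helpers here

set_option autoImplicit false
universe u
open AlgebraicGeometry
open Disc

namespace Groth.Agent.S2220

open TensorProduct CategoryTheory

lemma annihilator_map_le_of_flat {R S : Type*} [CommRing R] [CommRing S] [Algebra R S]
    [Module.Flat R S] (I : Ideal R) (hI : I.FG) :
    Submodule.annihilator (I.map (algebraMap R S)) ≤
      (Submodule.annihilator I).map (algebraMap R S) := by
  classical
  obtain ⟨s, hs⟩ := hI
  let f : R →ₗ[R] (s → R) :=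
    { toFun := fun x g => g.1 * x
      map_add' := fun x y => by ext g; simp [mul_add]
      map_smul' := fun c x => by ext g; simp [mul_left_comm] }
  have hker : ∀ a : R, a ∈ LinearMap.ker f → a ∈ Submodule.annihilator I := by
    intro a ha
    rw [Submodule.mem_annihilator]
    intro n hn
    rw [← hs] at hn
    refine Submodule.span_induction (p := fun n _ => a • n = 0) ?_ ?_ ?_ ?_ hn
    · intro g hg
      have h1 := congrFun (LinearMap.mem_ker.1 ha) ⟨g, hg⟩
      have h2 : g * a = 0 := h1
      rw [smul_eq_mul, mul_comm]; exact h2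
    · simp
    · intro x y _ _ hx hy; rw [smul_add, hx, hy, add_zero]
    · intro c x _ hx; rw [smul_comm, hx, smul_zero]
  intro y hy
  rw [Submodule.mem_annihilator] at hy
  have hy' : ∀ g : s, algebraMap R S g.1 * y = 0 := fun g => by
    have h1 := hy (algebraMap R S g.1)
      (Ideal.mem_map_of_mem _ (hs ▸ Submodule.subset_span g.2))
    rwa [smul_eq_mul, mul_comm] at h1
  have hz : (y ⊗ₜ[R] (1 : R) : S ⊗[R] R) ∈
      LinearMap.ker (TensorProduct.AlgebraTensorModule.lTensor S S f) := by
    rw [LinearMap.mem_ker, TensorProduct.AlgebraTensorModule.lTensor_tmul]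
    have h1 : f 1 = ∑ g : s, g.1 • (Pi.single g (1 : R) : s → R) := by
      ext g'
      simp [f, Finset.sum_apply, Pi.single_apply]
    rw [h1, TensorProduct.tmul_sum]
    refine Finset.sum_eq_zero fun g _ => ?_
    rw [TensorProduct.tmul_smul, TensorProduct.smul_tmul', Algebra.smul_def, hy' g,
      TensorProduct.zero_tmul]
  rw [Module.Flat.ker_lTensor_eq] at hz
  obtain ⟨w, hw⟩ := hz
  have key : ∀ w : S ⊗[R] LinearMap.ker f, TensorProduct.rid R S
      (TensorProduct.AlgebraTensorModule.lTensor S S (LinearMap.ker f).subtype w) ∈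
        (Submodule.annihilator I).map (algebraMap R S) := by
    intro w
    induction w using TensorProduct.induction_on with
    | zero => simp
    | tmul t a =>
      rw [TensorProduct.AlgebraTensorModule.lTensor_tmul, Submodule.subtype_apply,
        TensorProduct.rid_tmul, Algebra.smul_def]
      exact Ideal.mul_mem_right _ _ (Ideal.mem_map_of_mem _ (hker a.1 a.2))
    | add x y hx hy => rw [map_add, map_add]; exact add_mem hx hy
  have h3 := key w
  rw [hw, TensorProduct.rid_tmul, one_smul] at h3
  exact h3


/-- Part (2): for ring maps A -> B' -> B with B' of finite type over A and Spec B -> Spec B' an open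
immersion, the Noether different of B over A is the ideal generated by the image of that of B'. -/
theorem result {A B' B : Type u} [CommRing A] [CommRing B']
    [CommRing B] [Algebra A B'] [Algebra A B] [Algebra B' B] [IsScalarTower A B' B]
    [Algebra.FiniteType A B']
    (h : IsOpenImmersion (Spec.map (CommRingCat.ofHom (algebraMap B' B)))) :
    Disc.noetherDifferent A B = (Disc.noetherDifferent A B').map (algebraMap B' B) := by
  classical
  let ι : B' →ₐ[A] B := IsScalarTower.toAlgHom A B' B
  let φ : B' ⊗[A] B' →ₐ[A] B ⊗[A] B := Algebra.TensorProduct.map ι ι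
  let μ : B ⊗[A] B →ₐ[A] B := Algebra.TensorProduct.lmul' A
  let μ' : B' ⊗[A] B' →ₐ[A] B' := Algebra.TensorProduct.lmul' A
  let φr : B' ⊗[A] B' →+* B ⊗[A] B := φ.toRingHom
  let μr : B ⊗[A] B →+* B := μ.toRingHom
  let μr' : B' ⊗[A] B' →+* B' := μ'.toRingHom
  have hcomp : ∀ x, μr (φr x) = algebraMap B' B (μr' x) := by
    intro x
    induction x using TensorProduct.induction_on with
    | zero => simp
    | tmul a b =>
      show μ (φ (a ⊗ₜ b)) = algebraMap B' B (μ' (a ⊗ₜ b))
      simp [φ, μ, μ', ι]
    | add x y hx hy => simp only [map_add, hx, hy]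
  -- flatness
  have hflat0 : (algebraMap B' B).Flat := by
    have h1 : AlgebraicGeometry.Flat (Spec.map (CommRingCat.ofHom (algebraMap B' B))) :=
      inferInstance
    exact AlgebraicGeometry.Flat.SpecMap_iff.1 h1
  have hιflat : ι.toRingHom.Flat := hflat0
  have hφflat : φr.Flat := RingHom.Flat.tensorProductMap hιflat hιflat
  letI algT : Algebra (B' ⊗[A] B') (B ⊗[A] B) := φr.toAlgebra
  haveI : Module.Flat (B' ⊗[A] B') (B ⊗[A] B) := hφflat
  -- epi
  have hepi : ∀ (Q : Type u) [CommRing Q] (l r : B →+* Q),
      l.comp (algebraMap B' B) = r.comp (algebraMap B' B) → l = r := by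
    intro Q _ l r hlr
    have h1 : Spec.map (CommRingCat.ofHom l) ≫ Spec.map (CommRingCat.ofHom (algebraMap B' B)) =
        Spec.map (CommRingCat.ofHom r) ≫ Spec.map (CommRingCat.ofHom (algebraMap B' B)) := by
      rw [← Spec.map_comp, ← Spec.map_comp, ← CommRingCat.ofHom_comp, ← CommRingCat.ofHom_comp, hlr]
    have h2 := (cancel_mono _).1 h1
    have h3 := Spec.map_injective h2
    exact congrArg CommRingCat.Hom.hom h3
  have hI : RingHom.ker μr = Ideal.map φr (RingHom.ker μr') := by
    apply le_antisymm
    · have hgen := KaehlerDifferential.span_range_eq_ideal A B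
      change KaehlerDifferential.ideal A B ≤ _
      rw [← hgen, Ideal.span_le]
      rintro _ ⟨b, rfl⟩
      set K := Ideal.map φr (RingHom.ker μr') with hK
      let l : B →+* (B ⊗[A] B) ⧸ K :=
        (Ideal.Quotient.mk K).comp (Algebra.TensorProduct.includeLeftRingHom)
      let r : B →+* (B ⊗[A] B) ⧸ K :=
        (Ideal.Quotient.mk K).comp
          (Algebra.TensorProduct.includeRight (R := A) (A := B) (B := B)).toRingHom
      have hlr : l.comp (algebraMap B' B) = r.comp (algebraMap B' B) := by
        ext b'
        show Ideal.Quotient.mk K (algebraMap B' B b' ⊗ₜ 1) =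
          Ideal.Quotient.mk K (1 ⊗ₜ algebraMap B' B b')
        rw [Ideal.Quotient.eq]
        have h1 : (algebraMap B' B b' ⊗ₜ[A] (1 : B)) - (1 ⊗ₜ algebraMap B' B b') =
            φr (b' ⊗ₜ 1 - 1 ⊗ₜ b') := by
          show _ = φ (b' ⊗ₜ 1 - 1 ⊗ₜ b')
          simp [φ, ι]
        rw [h1]
        refine Ideal.mem_map_of_mem _ ?_
        rw [RingHom.mem_ker]
        show μ' (b' ⊗ₜ 1 - 1 ⊗ₜ b') = 0
        simp [μ']
      have hlr' := hepi _ l r hlr
      have hb : Ideal.Quotient.mk K (b ⊗ₜ 1) = Ideal.Quotient.mk K (1 ⊗ₜ b) :=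
        congrArg (fun F => F b) hlr'
      rw [Ideal.Quotient.eq] at hb
      have hb' := K.neg_mem hb
      rw [neg_sub] at hb'
      exact hb'
    · rw [Ideal.map_le_iff_le_comap]
      intro x hx
      rw [Ideal.mem_comap, RingHom.mem_ker, hcomp, (RingHom.mem_ker).1 hx, map_zero]
  have hfg : (RingHom.ker μr').FG := KaehlerDifferential.ideal_fg A B'
  have hJ : Submodule.annihilator (RingHom.ker μr) =
      Ideal.map φr (Submodule.annihilator (RingHom.ker μr')) := by
    apply le_antisymm
    · rw [hI]
      exact annihilator_map_le_of_flat (R := B' ⊗[A] B') (S := B ⊗[A] B) (RingHom.ker μr') hfg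
    · rw [Ideal.map_le_iff_le_comap]
      intro x hx
      rw [Ideal.mem_comap, Submodule.mem_annihilator]
      intro n hn
      rw [hI] at hn
      have hle : Ideal.map φr (RingHom.ker μr') ≤
          LinearMap.ker (LinearMap.mul (B ⊗[A] B) (B ⊗[A] B) (φr x)) := by
        rw [Ideal.map, Ideal.span_le]
        rintro _ ⟨i, hi, rfl⟩
        rw [SetLike.mem_coe, LinearMap.mem_ker, LinearMap.mul_apply', ← map_mul]
        have h1 : x • i = 0 := Submodule.mem_annihilator.1 hx i hi
        rw [smul_eq_mul] at h1
        rw [h1, map_zero]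
      have h2 := hle hn
      rw [LinearMap.mem_ker, LinearMap.mul_apply'] at h2
      rw [smul_eq_mul]; exact h2
  show Ideal.map μr (Submodule.annihilator (RingHom.ker μr)) =
    Ideal.map (algebraMap B' B) (Ideal.map μr' (Submodule.annihilator (RingHom.ker μr')))
  rw [hJ, Ideal.map_map, Ideal.map_map]
  congr 1
  exact RingHom.ext hcomp

end Groth.Agent.S2220
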