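import Groth.Statements.S2197
import Mathlib
import Groth.Agent.S2220
-- import your own Groth.Agent.* helpers here

set_option autoImplicit false
universe u
open Disc

namespace Groth.Agent.S2197

open TensorProduct

lemma transfer {A A' B B' : Type*} [CommRing A] [CommRing A'] [CommRing B] [CommRing B']
    [Algebra A B] [Algebra A' B'] (ι : B →+* B') (ψ : B ⊗[A] B →+* B' ⊗[A'] B') (hψ : ψ.Flat)
    (hcomp : ∀ x, (Algebra.TensorProduct.lmul' (S := B') A') (ψ x) =
      ι ((Algebra.TensorProduct.lmul' (S := B) A) x))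
    (hI : RingHom.ker (Algebra.TensorProduct.lmul' (S := B') A').toRingHom ≤
      Ideal.map ψ (RingHom.ker (Algebra.TensorProduct.lmul' (S := B) A).toRingHom))
    (hfg : (RingHom.ker (Algebra.TensorProduct.lmul' (S := B) A).toRingHom).FG) :
    Disc.noetherDifferent A' B' = (Disc.noetherDifferent A B).map ι := by
  classical
  let μr : B ⊗[A] B →+* B := (Algebra.TensorProduct.lmul' (S := B) A).toRingHom
  let μr' : B' ⊗[A'] B' →+* B' := (Algebra.TensorProduct.lmul' (S := B') A').toRingHom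
  let algT : Algebra (B ⊗[A] B) (B' ⊗[A'] B') := ψ.toAlgebra
  have : Module.Flat (B ⊗[A] B) (B' ⊗[A'] B') := hψ
  have hcomp' : ∀ x, μr' (ψ x) = ι (μr x) := hcomp
  have hI' : RingHom.ker μr' = Ideal.map ψ (RingHom.ker μr) := by
    apply le_antisymm hI
    rw [Ideal.map_le_iff_le_comap]
    intro x hx
    rw [Ideal.mem_comap, RingHom.mem_ker, hcomp', (RingHom.mem_ker).1 hx, map_zero]
  have hJ : Submodule.annihilator (RingHom.ker μr') =
      Ideal.map ψ (Submodule.annihilator (RingHom.ker μr)) := by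
    apply le_antisymm
    · rw [hI']
      exact Groth.Agent.S2220.annihilator_map_le_of_flat (R := B ⊗[A] B) (S := B' ⊗[A'] B')
        (RingHom.ker μr) hfg
    · rw [Ideal.map_le_iff_le_comap]
      intro x hx
      rw [Ideal.mem_comap, Submodule.mem_annihilator]
      intro n hn
      rw [hI'] at hn
      have hle : Ideal.map ψ (RingHom.ker μr) ≤
          LinearMap.ker (LinearMap.mul (B' ⊗[A'] B') (B' ⊗[A'] B') (ψ x)) := by
        rw [Ideal.map, Ideal.span_le]
        rintro _ ⟨i, hi, rfl⟩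
        rw [SetLike.mem_coe, LinearMap.mem_ker, LinearMap.mul_apply', ← map_mul]
        have h1 : x • i = 0 := Submodule.mem_annihilator.1 hx i hi
        rw [smul_eq_mul] at h1
        rw [h1, map_zero]
      have h2 := hle hn
      rw [LinearMap.mem_ker, LinearMap.mul_apply'] at h2
      rw [smul_eq_mul]; exact h2
  show Ideal.map μr' (Submodule.annihilator (RingHom.ker μr')) =
    Ideal.map ι (Ideal.map μr (Submodule.annihilator (RingHom.ker μr)))
  rw [hJ, Ideal.map_map, Ideal.map_map]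
  congr 1
  exact RingHom.ext hcomp'


/-- Part (2): let A -> B be a ring map of finite type and A -> A' a flat ring map, and let B' = B
tensor_A A'. Then the Noether different of B' over A' is the extension to B' of the Noether
different of B over A. -/
theorem result {A B A' B' : Type u} [CommRing A] [CommRing B]
    [CommRing A'] [CommRing B'] [Algebra A B] [Algebra A A'] [Algebra A B'] [Algebra B B']
    [Algebra A' B'] [IsScalarTower A B B'] [IsScalarTower A A' B']
    [Algebra.IsPushout A B A' B'] [Algebra.FiniteType A B] [Module.Flat A A'] :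
    Disc.noetherDifferent A' B' = (Disc.noetherDifferent A B).map (algebraMap B B') := by
  classical
  let ι' : B →ₐ[A] B' := IsScalarTower.toAlgHom A B B'
  have hBflat : Module.Flat B B' :=
    Module.Flat.isBaseChange (R := A) (S := B) (M := A') B' (Algebra.IsPushout.out)
  have hι'flat : ι'.toRingHom.Flat := (RingHom.flat_algebraMap_iff).2 hBflat
  let g : B ⊗[A] B →ₐ[A] B ⊗[A] B' := Algebra.TensorProduct.map (AlgHom.id A B) ι'
  have hid : (AlgHom.id A B).toRingHom.Flat := RingHom.Flat.id B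
  have hgflat : g.toRingHom.Flat := RingHom.Flat.tensorProductMap hid hι'flat
  let e : B' ⊗[A'] B' ≃ₐ[B] B ⊗[A] B' := Algebra.IsPushout.cancelBaseChangeAlg A B A' B' B'
  let ψ : B ⊗[A] B →+* B' ⊗[A'] B' := (e.symm.toAlgHom.toRingHom).comp g.toRingHom
  have hψ : ψ.Flat := RingHom.Flat.comp hgflat (RingHom.Flat.of_bijective e.symm.bijective)
  have hψ_tmul : ∀ b1 b2 : B, ψ (b1 ⊗ₜ b2) = algebraMap B B' b1 ⊗ₜ algebraMap B B' b2 := by
    intro b1 b2
    show e.symm (g (b1 ⊗ₜ b2)) = _
    simp [g, ι', e]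
  refine transfer (algebraMap B B') ψ hψ ?_ ?_ (KaehlerDifferential.ideal_fg A B)
  · intro x
    induction x using TensorProduct.induction_on with
    | zero => simp
    | tmul a b => rw [hψ_tmul]; simp
    | add x y hx hy => simp only [map_add, hx, hy]
  · change KaehlerDifferential.ideal A' B' ≤ _
    rw [← KaehlerDifferential.span_range_eq_ideal A' B', Ideal.span_le]
    rintro _ ⟨b', rfl⟩
    set K := Ideal.map ψ (RingHom.ker (Algebra.TensorProduct.lmul' (S := B) A).toRingHom) with hK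
    have hpo : Algebra.IsPushout A A' B B' := Algebra.IsPushout.symm inferInstance
    refine IsBaseChange.inductionOn hpo.out b'
      (fun b' => (1 : B') ⊗ₜ[A'] b' - b' ⊗ₜ[A'] (1 : B') ∈ K) ?_ ?_ ?_ ?_
    · simp
    · intro b
      have h1 : (1 : B') ⊗ₜ[A'] (algebraMap B B' b) - (algebraMap B B' b) ⊗ₜ[A'] (1 : B') =
          ψ (1 ⊗ₜ b - b ⊗ₜ 1) := by
        rw [map_sub, hψ_tmul, hψ_tmul, map_one]
      show (1 : B') ⊗ₜ[A'] (algebraMap B B' b) - (algebraMap B B' b) ⊗ₜ[A'] (1 : B') ∈ K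
      rw [h1]
      refine Ideal.mem_map_of_mem _ ?_
      rw [RingHom.mem_ker]
      show (Algebra.TensorProduct.lmul' (S := B) A) (1 ⊗ₜ b - b ⊗ₜ 1) = 0
      simp
    · intro a' n hn
      have h1 : (1 : B') ⊗ₜ[A'] (a' • n) - (a' • n) ⊗ₜ[A'] (1 : B') =
          a' • ((1 : B') ⊗ₜ[A'] n - n ⊗ₜ[A'] (1 : B')) := by
        rw [smul_sub, TensorProduct.tmul_smul, ← TensorProduct.smul_tmul' a' n (1 : B')]
      show (1 : B') ⊗ₜ[A'] (a' • n) - (a' • n) ⊗ₜ[A'] (1 : B') ∈ K
      rw [h1, Algebra.smul_def]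
      exact Ideal.mul_mem_left _ _ hn
    · intro n1 n2 h1 h2
      have h3 : (1 : B') ⊗ₜ[A'] (n1 + n2) - (n1 + n2) ⊗ₜ[A'] (1 : B') =
          ((1 : B') ⊗ₜ[A'] n1 - n1 ⊗ₜ[A'] 1) + ((1 : B') ⊗ₜ[A'] n2 - n2 ⊗ₜ[A'] 1) := by
        rw [TensorProduct.tmul_add, TensorProduct.add_tmul]; abel
      show (1 : B') ⊗ₜ[A'] (n1 + n2) - (n1 + n2) ⊗ₜ[A'] (1 : B') ∈ K
      rw [h3]; exact add_mem h1 h2

end Groth.Agent.S2197
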