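import Groth.Statements.S2203
import Mathlib.Algebra.Category.ModuleCat.Limits
import Mathlib.Algebra.Category.ModuleCat.Biproducts
import Mathlib.CategoryTheory.Preadditive.AdditiveFunctor
import Mathlib.CategoryTheory.Preadditive.FunctorCategory
import Mathlib.CategoryTheory.Limits.Preserves.Shapes.Zero

set_option autoImplicit false
universe u
open CategoryTheory
open QCohCat

namespace Groth.Agent.S2203


/-- scalar multiplication as a natural endomorphism of the identity functor -/
noncomputable def smulNat (A : Type u) [CommRing A] (a : A) : End (𝟭 (ModuleCat.{u} A)) where
  app M := ModuleCat.ofHom (a • (LinearMap.id : M →ₗ[A] M))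
  naturality := by
    intro M N f
    ext x
    simp

theorem smulNat_app (A : Type u) [CommRing A] (a : A) (M : ModuleCat.{u} A) (x : M) :
    ((smulNat A a).app M).hom x = a • x := rfl

theorem end_ext {A : Type u} [CommRing A] {η θ : End (𝟭 (ModuleCat.{u} A))}
    (h : ∀ (M : ModuleCat.{u} A) (m : M), (η.app M).hom m = (θ.app M).hom m) : η = θ :=
  NatTrans.ext (funext fun M => ModuleCat.hom_ext (LinearMap.ext (h M)))

/-- the centre of the module category is the ring -/
noncomputable def centerEquiv (A : Type u) [CommRing A] : A ≃+* End (𝟭 (ModuleCat.{u} A)) where
  toFun := smulNat A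
  invFun η := (η.app (ModuleCat.of A A)).hom (1 : A)
  left_inv a := by
    change a • (1 : A) = a
    simp
  right_inv η := by
    refine end_ext fun M m => ?_
    have h := η.naturality (ModuleCat.ofHom (LinearMap.toSpanSingleton A M m))
    have h' := congrArg (fun g => g.hom (1 : A)) h
    simp only [Functor.id_obj, Functor.id_map, ModuleCat.hom_comp, LinearMap.coe_comp,
      Function.comp_apply] at h'
    rw [smulNat_app]
    change (η.app M).hom ((LinearMap.toSpanSingleton A M m) (1 : A)) =
      (LinearMap.toSpanSingleton A M m) ((η.app (ModuleCat.of A A)).hom (1 : A)) at h'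
    rw [LinearMap.toSpanSingleton_apply, LinearMap.toSpanSingleton_apply, one_smul] at h'
    exact h'.symm
  map_mul' a b := by
    refine end_ext fun M m => ?_
    change (a * b) • m = a • (b • m)
    rw [mul_smul]
  map_add' a b := by
    refine end_ext fun M m => ?_
    change (a + b) • m = a • m + b • m
    rw [add_smul]


section Transport

variable {C D : Type*} [Category C] [Category D]

/-- transport of a natural endomorphism of the identity along an equivalence -/
noncomputable def transport (e : C ≌ D) (η : End (𝟭 C)) : End (𝟭 D) where
  app d := e.counitIso.inv.app d ≫ e.functor.map (η.app (e.inverse.obj d)) ≫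
    e.counitIso.hom.app d
  naturality := by
    intro d d' f
    have h1 : f ≫ e.counitIso.inv.app d' =
        e.counitIso.inv.app d ≫ e.functor.map (e.inverse.map f) :=
      e.counitIso.inv.naturality f
    have h2 : e.functor.map (e.inverse.map f) ≫ e.counitIso.hom.app d' =
        e.counitIso.hom.app d ≫ f := e.counitIso.hom.naturality f
    have h3 : e.inverse.map f ≫ η.app (e.inverse.obj d') =
        η.app (e.inverse.obj d) ≫ e.inverse.map f := η.naturality (e.inverse.map f)
    simp only [Functor.id_obj, Functor.id_map, Category.assoc]
    rw [← Category.assoc, h1, Category.assoc, ← Category.assoc (e.functor.map _),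
      ← Functor.map_comp, h3, Functor.map_comp, Category.assoc, h2]

theorem transport_app (e : C ≌ D) (η : End (𝟭 C)) (d : D) :
    (transport e η).app d = e.counitIso.inv.app d ≫ e.functor.map (η.app (e.inverse.obj d)) ≫
      e.counitIso.hom.app d := rfl

theorem transport_injective (e : C ≌ D) : Function.Injective (transport e) := by
  intro η η' h
  have key : ∀ d, η.app (e.inverse.obj d) = η'.app (e.inverse.obj d) := by
    intro d
    have hd := congrArg (fun θ : End (𝟭 D) => θ.app d) h
    simp only [transport_app] at hd
    have hd' := (cancel_epi _).1 hd
    have hd'' := (cancel_mono _).1 hd'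
    exact e.functor.map_injective hd''
  refine NatTrans.ext (funext fun c => ?_)
  have n1 := η.naturality (e.unitIso.hom.app c)
  have n2 := η'.naturality (e.unitIso.hom.app c)
  simp only [Functor.id_obj, Functor.id_map, Functor.comp_obj] at n1 n2
  have hk := key (e.functor.obj c)
  rw [← cancel_mono (e.unitIso.hom.app c)]
  change η.app c ≫ e.unitIso.hom.app c = η'.app c ≫ e.unitIso.hom.app c
  rw [← n1, ← n2]
  congr 1

theorem transport_surjective (e : C ≌ D) : Function.Surjective (transport e) := by
  intro θ
  refine ⟨{ app := fun c => e.functor.preimage (θ.app (e.functor.obj c)), naturality := ?_ }, ?_⟩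
  · intro c c' f
    apply e.functor.map_injective
    simp only [Functor.id_obj, Functor.id_map, Functor.map_comp, Functor.map_preimage]
    exact θ.naturality (e.functor.map f)
  · refine NatTrans.ext (funext fun d => ?_)
    rw [transport_app]
    simp only [Functor.map_preimage]
    have n := θ.naturality (e.counitIso.hom.app d)
    simp only [Functor.id_obj, Functor.id_map, Functor.comp_obj] at n
    rw [← n, ← Category.assoc]
    simp

end Transport


section TransportRing

variable {C D : Type*} [Category C] [Category D] [Preadditive C] [Preadditive D]

theorem end_mul_app (η θ : End (𝟭 C)) (c : C) : (η * θ).app c = θ.app c ≫ η.app c := rfl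

theorem end_one_app (c : C) : (1 : End (𝟭 C)).app c = 𝟙 c := rfl

theorem end_add_app (η θ : End (𝟭 C)) (c : C) : (η + θ).app c = η.app c + θ.app c := rfl

/-- the transport as a ring homomorphism -/
noncomputable def transportRingHom (e : C ≌ D) [e.functor.Additive] :
    End (𝟭 C) →+* End (𝟭 D) where
  toFun := transport e
  map_one' := by
    refine NatTrans.ext (funext fun d => ?_)
    rw [transport_app, end_one_app, end_one_app]
    simp
  map_mul' := by
    intro η θ
    refine NatTrans.ext (funext fun d => ?_)
    rw [end_mul_app, transport_app, transport_app, transport_app, end_mul_app]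
    simp
  map_zero' := by
    refine NatTrans.ext (funext fun d => ?_)
    rw [transport_app]
    change _ ≫ e.functor.map (0 : _ ⟶ _) ≫ _ = (0 : d ⟶ d)
    simp
  map_add' := by
    intro η θ
    refine NatTrans.ext (funext fun d => ?_)
    rw [end_add_app, transport_app, transport_app, transport_app, end_add_app]
    simp

/-- the transport as a ring isomorphism -/
noncomputable def transportRingEquiv (e : C ≌ D) [e.functor.Additive] :
    End (𝟭 C) ≃+* End (𝟭 D) :=
  RingEquiv.ofBijective (transportRingHom e)
    ⟨transport_injective e, transport_surjective e⟩

end TransportRing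

/-- Ring-isomorphism part of the statement: let A and B be commutative rings whose categories of modules
are equivalent. Then A and B are isomorphic as rings. (The source moreover describes the equivalence
as base change followed by tensoring with an invertible module.) -/
theorem result (A B : Type u) [CommRing A] [CommRing B]
    (F : ModuleCat.{u} A ≌ ModuleCat.{u} B) : Nonempty (A ≃+* B) := by
  haveI : F.functor.Additive := Functor.additive_of_preserves_binary_products F.functor
  exact ⟨(centerEquiv A).trans ((transportRingEquiv F).trans (centerEquiv B).symm)⟩

end Groth.Agent.S2203
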