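import Groth.Statements.S2207
import Mathlib
-- import your own Groth.Agent.* helpers here

set_option autoImplicit false
universe u v
open DPow

namespace Groth.Agent.S2207

section
variable {A : Type u} {B : Type v} [CommRing A] [CommRing B] [Algebra A B]
    (x : A) (γ : DividedPowers (Ideal.span {x}))

theorem mem_J_iff (y : B) :
    y ∈ (Ideal.span {x}).map (algebraMap A B) ↔ ∃ b, y = b * algebraMap A B x := by
  rw [Ideal.map_span, Set.image_singleton, Ideal.mem_span_singleton']
  constructor
  · rintro ⟨b, rfl⟩; exact ⟨b, rfl⟩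
  · rintro ⟨b, rfl⟩; exact ⟨b, rfl⟩

theorem xmem : x ∈ Ideal.span {x} := Ideal.subset_span rfl

theorem pow_swap {b b' : B} (h : b * algebraMap A B x = b' * algebraMap A B x) :
    ∀ n, n ≠ 0 → b ^ n * algebraMap A B x = b' ^ n * algebraMap A B x := by
  intro n hn
  induction n with
  | zero => exact absurd rfl hn
  | succ k ih =>
    rcases Nat.eq_zero_or_pos k with rfl | hk
    · simpa using h
    · have := ih (Nat.pos_iff_ne_zero.mp hk)
      calc b ^ (k+1) * algebraMap A B x = b ^ k * (b * algebraMap A B x) := by ring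
        _ = b' * (b ^ k * algebraMap A B x) := by rw [h]; ring
        _ = b' ^ (k+1) * algebraMap A B x := by rw [this]; ring

theorem key {b b' : B} (h : b * algebraMap A B x = b' * algebraMap A B x) (n : ℕ) :
    b ^ n * algebraMap A B (γ.dpow n x) = b' ^ n * algebraMap A B (γ.dpow n x) := by
  rcases Nat.eq_zero_or_pos n with rfl | hn
  · simp
  · have hn' : n ≠ 0 := Nat.pos_iff_ne_zero.mp hn
    obtain ⟨c, hc⟩ := Ideal.mem_span_singleton'.mp (γ.dpow_mem hn' (xmem x))
    rw [← hc, map_mul]
    calc b ^ n * (algebraMap A B c * algebraMap A B x)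
        = algebraMap A B c * (b ^ n * algebraMap A B x) := by ring
      _ = algebraMap A B c * (b' ^ n * algebraMap A B x) := by rw [pow_swap x h n hn']
      _ = _ := by ring

open Classical in
noncomputable def δfun (n : ℕ) (y : B) : B :=
  if h : ∃ b, y = b * algebraMap A B x then h.choose ^ n * algebraMap A B (γ.dpow n x) else 0

theorem δfun_eq (b : B) (n : ℕ) :
    δfun x γ n (b * algebraMap A B x) = b ^ n * algebraMap A B (γ.dpow n x) := by
  have h : ∃ b', b * algebraMap A B x = b' * algebraMap A B x := ⟨b, rfl⟩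
  rw [δfun, dif_pos h]
  exact key x γ h.choose_spec.symm n

noncomputable def δ : DividedPowers ((Ideal.span {x}).map (algebraMap A B)) where
  dpow := δfun x γ
  dpow_null {n y} hy := by
    rw [mem_J_iff] at hy
    rw [δfun, dif_neg hy]
  dpow_zero {y} hy := by
    obtain ⟨b, rfl⟩ := (mem_J_iff x y).mp hy
    rw [δfun_eq, γ.dpow_zero (xmem x)]; simp
  dpow_one {y} hy := by
    obtain ⟨b, rfl⟩ := (mem_J_iff x y).mp hy
    rw [δfun_eq, γ.dpow_one (xmem x)]; simp
  dpow_mem {n y} hn hy := by
    obtain ⟨b, rfl⟩ := (mem_J_iff x y).mp hy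
    rw [δfun_eq]
    exact Ideal.mul_mem_left _ _ (Ideal.mem_map_of_mem _ (γ.dpow_mem hn (xmem x)))
  dpow_add {n y z} hy hz := by
    obtain ⟨b, rfl⟩ := (mem_J_iff x y).mp hy
    obtain ⟨b', rfl⟩ := (mem_J_iff x z).mp hz
    rw [← add_mul, δfun_eq, (Commute.all b b').add_pow', Finset.sum_mul]
    refine Finset.sum_congr rfl fun k hk => ?_
    rw [δfun_eq, δfun_eq]
    have hk' : k.1 + k.2 = n := Finset.HasAntidiagonal.mem_antidiagonal.mp hk
    have := γ.mul_dpow (m := k.1) (n := k.2) (xmem x)
    calc n.choose k.1 • (b ^ k.1 * b' ^ k.2) * algebraMap A B (γ.dpow n x)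
        = (b ^ k.1 * b' ^ k.2) * algebraMap A B ((n.choose k.1 : A) * γ.dpow n x) := by
          rw [map_mul, map_natCast, nsmul_eq_mul]; ring
      _ = (b ^ k.1 * b' ^ k.2) * algebraMap A B (γ.dpow k.1 x * γ.dpow k.2 x) := by
          rw [this, hk']
      _ = _ := by rw [map_mul]; ring
  dpow_mul {n a y} hy := by
    obtain ⟨b, rfl⟩ := (mem_J_iff x y).mp hy
    rw [← mul_assoc, δfun_eq, δfun_eq, mul_pow, mul_assoc]
  mul_dpow {m n y} hy := by
    obtain ⟨b, rfl⟩ := (mem_J_iff x y).mp hy
    simp only [δfun_eq]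
    have := γ.mul_dpow (m := m) (n := n) (xmem x)
    calc b ^ m * algebraMap A B (γ.dpow m x) * (b ^ n * algebraMap A B (γ.dpow n x))
        = b ^ (m + n) * algebraMap A B (γ.dpow m x * γ.dpow n x) := by rw [map_mul]; ring
      _ = _ := by rw [this, map_mul, map_natCast]; ring
  dpow_comp {m n y} hn hy := by
    obtain ⟨b, rfl⟩ := (mem_J_iff x y).mp hy
    obtain ⟨c, hc⟩ := Ideal.mem_span_singleton'.mp (γ.dpow_mem hn (xmem x))
    have h1 : δfun x γ n (b * algebraMap A B x)
        = (b ^ n * algebraMap A B c) * algebraMap A B x := by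
      rw [δfun_eq, ← hc, map_mul]; ring
    rw [h1, δfun_eq, δfun_eq]
    have h2 := γ.dpow_comp (m := m) hn (xmem x)
    have h3 : γ.dpow m (γ.dpow n x) = c ^ m * γ.dpow m x := by
      rw [← hc, γ.dpow_mul (xmem x)]
    calc (b ^ n * algebraMap A B c) ^ m * algebraMap A B (γ.dpow m x)
        = b ^ (m * n) * algebraMap A B (c ^ m * γ.dpow m x) := by
          rw [map_mul, map_pow]; ring
      _ = _ := by rw [← h3, h2, map_mul, map_natCast]; ring

end


/-- Existence in case (2): let I = (x) be a principal ideal of A with a divided power structure and B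
any A-algebra. Then there is a divided power structure on I B for which A -> B is a homomorphism of
divided power rings. -/
theorem result {A : Type u} {B : Type v} [CommRing A] [CommRing B] [Algebra A B]
    (x : A) (γ : DividedPowers (Ideal.span {x})) :
    ∃ δ : DividedPowers ((Ideal.span {x}).map (algebraMap A B)), γ.IsDPMorphism δ (algebraMap A B) := by
  refine ⟨δ x γ, ⟨le_refl _, ?_⟩⟩
  intro n a ha
  obtain ⟨c, rfl⟩ := Ideal.mem_span_singleton'.mp ha
  change δfun x γ n (algebraMap A B (c * x)) = _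
  rw [map_mul, δfun_eq, γ.dpow_mul (xmem x), map_mul, map_pow]

end Groth.Agent.S2207
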