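import Groth.Statements.S2211
import Mathlib

set_option autoImplicit false
universe u
open DPow

namespace Groth.Agent.S2211

lemma not_dvd_of_modEq_one {p c : ℕ} (hp : p.Prime) (h : c ≡ 1 [MOD p]) : ¬ p ∣ c := by
  intro hd
  have h0 : c ≡ 0 [MOD p] := (Nat.modEq_zero_iff_dvd).2 hd
  have : 1 ≡ 0 [MOD p] := h.symm.trans h0
  have := (Nat.modEq_zero_iff_dvd).1 this
  exact hp.one_lt.ne' (Nat.dvd_one.1 this)

lemma choose_modEq_one (p : ℕ) (hp : p.Prime) (q r : ℕ) (hr : r < p) :
    Nat.choose (q * p + r) (q * p) ≡ 1 [MOD p] := by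
  haveI := Fact.mk hp
  have h := Choose.choose_modEq_choose_mod_mul_choose_div_nat (n := q * p + r) (k := q * p) (p := p)
  have h1 : (q * p + r) % p = r := by
    rw [Nat.add_comm, Nat.add_mul_mod_self_right, Nat.mod_eq_of_lt hr]
  have h2 : (q * p) % p = 0 := Nat.mul_mod_left _ _
  have h3 : (q * p + r) / p = q := by
    rw [Nat.add_comm, Nat.add_mul_div_right _ _ hp.pos, Nat.div_eq_of_lt hr, zero_add]
  have h4 : (q * p) / p = q := Nat.mul_div_cancel _ hp.pos
  rw [h1, h2, h3, h4, Nat.choose_zero_right, Nat.choose_self, mul_one] at h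
  exact h

lemma uniformBell_modEq_one (p : ℕ) (hp : p.Prime) (q : ℕ) :
    Nat.uniformBell q p ≡ 1 [MOD p] := by
  haveI := Fact.mk hp
  induction q with
  | zero => rw [Nat.uniformBell_zero_left]
  | succ q ih =>
    rw [Nat.uniformBell_succ_left]
    have h := Choose.choose_modEq_choose_mod_mul_choose_div_nat (n := q * p + p - 1) (k := p - 1)
      (p := p)
    have hp1 : 1 ≤ p := hp.pos
    have e : q * p + p - 1 = q * p + (p - 1) := by omega
    have h1 : (q * p + p - 1) % p = p - 1 := by
      rw [e, Nat.add_comm, Nat.add_mul_mod_self_right, Nat.mod_eq_of_lt (by omega)]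
    have h2 : (p - 1) % p = p - 1 := Nat.mod_eq_of_lt (by omega)
    have h3 : (q * p + p - 1) / p = q := by
      rw [e, Nat.add_comm, Nat.add_mul_div_right _ _ hp.pos, Nat.div_eq_of_lt (by omega), zero_add]
    have h4 : (p - 1) / p = 0 := Nat.div_eq_of_lt (by omega)
    rw [h1, h2, h3, h4, Nat.choose_self, Nat.choose_zero_right, mul_one] at h
    have := h.mul ih
    rwa [mul_one] at this
/-- First part: let p be a prime and A a ring in which every integer prime to p is invertible, I an
ideal of A. Two divided power structures on I coincide exactly when their p-th divided power maps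
agree on I. -/
theorem result {A : Type u} [CommRing A] (p : ℕ) (hp : p.Prime)
    (hA : ∀ n : ℕ, ¬ p ∣ n → IsUnit (n : A)) {I : Ideal A} (γ γ' : DividedPowers I) :
    γ = γ' ↔ ∀ x ∈ I, γ.dpow p x = γ'.dpow p x := by
  constructor
  · rintro rfl x _; rfl
  intro hpp
  apply DividedPowers.ext
  intro n
  induction n using Nat.strong_induction_on with
  | _ n ih =>
    intro x hx
    by_cases hnp : n < p
    · -- n! is a unit
      have hu : IsUnit ((n.factorial : ℕ) : A) := hA _ (by
        rw [hp.dvd_factorial]; omega)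
      apply hu.mul_left_cancel
      rw [γ.factorial_mul_dpow_eq_pow hx, γ'.factorial_mul_dpow_eq_pow hx]
    · push Not at hnp
      set q := n / p with hq
      set r := n % p with hr
      have hn : n = q * p + r := by rw [hq, hr, Nat.div_add_mod']
      have hrp : r < p := Nat.mod_lt _ hp.pos
      have hq1 : 1 ≤ q := (Nat.one_le_div_iff hp.pos).2 hnp
      by_cases hr0 : r = 0
      · -- n = q * p
        have hn' : n = q * p := by rw [hn, hr0, add_zero]
        have hqn : q < n := by
          rw [hn']
          have := hp.two_le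
          nlinarith
        have hu : IsUnit ((Nat.uniformBell q p : ℕ) : A) :=
          hA _ (not_dvd_of_modEq_one hp (uniformBell_modEq_one p hp q))
        apply hu.mul_left_cancel
        rw [hn', ← γ.dpow_comp hp.ne_zero hx, ← γ'.dpow_comp hp.ne_zero hx, ← hpp x hx]
        exact ih q hqn (γ.dpow_mem hp.ne_zero hx)
      · have hu : IsUnit ((Nat.choose (q * p + r) (q * p) : ℕ) : A) :=
          hA _ (not_dvd_of_modEq_one hp (choose_modEq_one p hp q r hrp))
        apply hu.mul_left_cancel
        have hqp : q * p < n := by omega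
        have hrn : r < n := by omega
        rw [hn, ← γ.mul_dpow hx, ← γ'.mul_dpow hx, ih _ (hn ▸ hqp) hx, ih _ (hn ▸ hrn) hx]

end Groth.Agent.S2211
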