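import Groth.Statements.S2217
import Groth.Agent.Lib.Helper83.GorFrob

set_option autoImplicit false
universe u
open Disc

namespace Groth.Agent.S2217

/-- Equivalence of (2) and (4) in the affine finite free case: let A be a Noetherian ring and B an
A-algebra which is finite free as an A-module (so A -> B is flat and quasi-finite). Then all fibre
rings kappa(p) tensor_A B are Gorenstein if and only if omega_{B/A} = Hom_A(B, A), with its B-module
structure through the argument, is an invertible B-module. -/
theorem result {A B : Type u} [CommRing A] [CommRing B]
    [Algebra A B] [IsNoetherianRing A] [Module.Finite A B] [Module.Free A B] :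
    (∀ (p : Ideal A) [p.IsPrime], LocCoh.IsGorensteinRing (p.Fiber B)) ↔
      Module.Invertible B (Disc.Omega A B) := by
  classical
  -- a basis indexed by `Fin n`
  let b₀ := Module.Free.chooseBasis A B
  let b : Module.Basis (Fin (Fintype.card (Module.Free.ChooseBasisIndex A B))) A B :=
    b₀.reindex (Fintype.equivFin _)
  constructor
  · intro h
    apply Groth.Agent.Lib.Helper83.GorFrob.invertible_of_det b
    intro q hq
    haveI : (q.comap (algebraMap A B)).IsPrime := Ideal.comap_isPrime _ _
    haveI := h (q.comap (algebraMap A B))
    obtain ⟨lam, hlam⟩ :=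
      Groth.Agent.Lib.Helper83.GorFrob.exists_det_notMem_of_isGorensteinRing_fiber b
        (q.comap (algebraMap A B))
    exact ⟨lam, fun hmem => hlam (Ideal.mem_comap.2 hmem)⟩
  · intro h p hp
    obtain ⟨lam, hlam⟩ := Groth.Agent.Lib.Helper83.GorFrob.exists_det_notMem_of_invertible b p
    exact Groth.Agent.Lib.Helper83.GorFrob.isGorensteinRing_fiber_of_det b p lam hlam

end Groth.Agent.S2217
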