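import Groth.Statements.S2218
import Mathlib

set_option autoImplicit false
universe u v
open Disc


namespace Groth.Agent.S2218

open TensorProduct

/-- A finite module over a domain has a functional not vanishing at any given torsion-free element. -/
theorem exists_functional {D M : Type*} [CommRing D] [IsDomain D] [AddCommGroup M] [Module D M]
    [Module.Finite D M] (m : M) (hm : ∀ d : D, d • m = 0 → d = 0) :
    ∃ ψ : M →ₗ[D] D, ψ m ≠ 0 := by
  classical
  let K := FractionRing D
  let V := K ⊗[D] M
  -- `1 ⊗ m ≠ 0`
  have hv : ((1 : K) ⊗ₜ[D] m : V) ≠ 0 := by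
    have hinj : Function.Injective (LinearMap.toSpanSingleton D M m) := by
      rw [← LinearMap.ker_eq_bot, LinearMap.ker_eq_bot']
      intro d hd
      exact hm d (by simpa using hd)
    have h2 := Module.Flat.lTensor_preserves_injective_linearMap (M := K)
      (LinearMap.toSpanSingleton D M m) hinj
    intro h0
    have h3 : (LinearMap.toSpanSingleton D M m).lTensor K ((1 : K) ⊗ₜ[D] (1 : D)) = 0 := by
      simpa using h0
    have h4 := h2 (h3.trans (map_zero _).symm)
    have h5 := congrArg (TensorProduct.rid D K) h4
    simp at h5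
  -- functional with value one
  obtain ⟨g, hg⟩ := LinearMap.exists_leftInverse_of_injective (LinearMap.toSpanSingleton K V
    ((1 : K) ⊗ₜ[D] m)) (by
      rw [LinearMap.ker_eq_bot']
      intro c hc
      have : c • ((1 : K) ⊗ₜ[D] m : V) = 0 := by simpa using hc
      exact (smul_eq_zero.mp this).resolve_right hv)
  have hg1 : g ((1 : K) ⊗ₜ[D] m) = 1 := by
    have := LinearMap.congr_fun hg 1
    simpa using this
  let μ : M →ₗ[D] K := g.restrictScalars D ∘ₗ TensorProduct.mk D K M 1
  have hμm : μ m = 1 := hg1
  have hfg : (LinearMap.range μ).FG := by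
    rw [LinearMap.range_eq_map]
    exact Submodule.FG.map _ Module.Finite.fg_top
  obtain ⟨d, hd, hint⟩ := FractionalIdeal.isFractional_of_fg (S := nonZeroDivisors D) hfg
  have hmem : ∀ y : M, (d • μ) y ∈ LinearMap.range (Algebra.linearMap D K) := by
    intro y
    obtain ⟨z, hz⟩ := hint (μ y) ⟨y, rfl⟩
    exact ⟨z, by simpa using hz⟩
  have hKinj : Function.Injective (Algebra.linearMap D K) := IsFractionRing.injective D K
  let ψ : M →ₗ[D] D := (LinearEquiv.ofInjective (Algebra.linearMap D K) hKinj).symm.toLinearMap ∘ₗ
    LinearMap.codRestrict _ (d • μ) hmem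
  refine ⟨ψ, fun h0 => ?_⟩
  have h1 : algebraMap D K (ψ m) = d • μ m := by
    change Algebra.linearMap D K (ψ m) = _
    rw [← LinearEquiv.ofInjective_apply (h := hKinj)]
    simp only [ψ, LinearMap.coe_comp, LinearEquiv.coe_coe, Function.comp_apply,
      LinearEquiv.apply_symm_apply]
    rfl
  rw [h0, map_zero, hμm, Algebra.smul_def, mul_one] at h1
  exact nonZeroDivisors.ne_zero hd (hKinj (by simpa using h1.symm))

end Groth.Agent.S2218

namespace Groth.Agent.S2218

/-- Special case: A -> B finite (the source allows quasi-finite maps). For a finite map of Noetherian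
rings and omega = Hom_A(B, A) with its B-module structure through the argument, the associated
primes of the B-module omega are exactly the primes of B whose contraction to A is an associated
prime of A. -/
theorem result {A : Type u} {B : Type v} [CommRing A] [CommRing B]
    [Algebra A B] [IsNoetherianRing A] [IsNoetherianRing B] [Module.Finite A B] :
    associatedPrimes B (Disc.Omega A B) =
      {q : Ideal B | q.IsPrime ∧ q.comap (algebraMap A B) ∈ associatedPrimes A A} := by
  classical
  ext q
  simp only [Set.mem_setOf_eq]
  constructor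
  · intro hq
    obtain ⟨hqp, Φ, hΦ⟩ := (isAssociatedPrime_iff).mp hq
    refine ⟨hqp, ?_⟩
    let N : Submodule A A := LinearMap.range Φ.toLinearMap
    have hann : Module.annihilator A N = q.comap (algebraMap A B) := by
      ext a
      rw [Module.mem_annihilator, Ideal.mem_comap, hΦ, Submodule.mem_colon_singleton,
        Submodule.mem_bot]
      constructor
      · intro h
        apply Disc.Omega.ext
        ext y
        have h1 := h ⟨Φ.toLinearMap y, y, rfl⟩
        have h2 : a • Φ.toLinearMap y = 0 := congrArg Subtype.val h1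
        rw [Disc.Omega.smul_toLinearMap_apply, ← Algebra.smul_def, map_smul, h2]
        rfl
      · rintro h ⟨n, y, rfl⟩
        apply Subtype.ext
        have h1 := congrArg (fun Ψ : Disc.Omega A B => Ψ.toLinearMap y) h
        simp only [Disc.Omega.smul_toLinearMap_apply, ← Algebra.smul_def, map_smul] at h1
        exact h1
    have h1 : q.comap (algebraMap A B) ∈ (Module.annihilator A N).minimalPrimes := by
      rw [hann, Ideal.minimalPrimes_eq_subsingleton_self]
      rfl
    have h2 := Module.associatedPrimes.minimalPrimes_annihilator_subset_associatedPrimes A N h1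
    exact associatedPrimes.subset_of_injective (f := N.subtype) N.injective_subtype h2
  · rintro ⟨hqp, hp⟩
    obtain ⟨hpp, x, hx⟩ := (isAssociatedPrime_iff).mp hp
    have hinj : Function.Injective
        (algebraMap (A ⧸ q.comap (algebraMap A B)) (B ⧸ q)) :=
      Ideal.algebraMap_quotient_injective
    haveI : IsScalarTower A (A ⧸ q.comap (algebraMap A B)) (B ⧸ q) :=
      IsScalarTower.of_algebraMap_eq (fun a => rfl)
    haveI : Module.Finite (A ⧸ q.comap (algebraMap A B)) (B ⧸ q) :=
      Module.Finite.of_restrictScalars_finite A _ _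
    obtain ⟨ψ, hψ⟩ := Groth.Agent.S2218.exists_functional
      (D := A ⧸ q.comap (algebraMap A B)) (M := B ⧸ q) 1 (by
      intro d hd
      rw [Algebra.smul_def, mul_one] at hd
      exact hinj (hd.trans (map_zero _).symm))
    have hker : (q.comap (algebraMap A B) : Submodule A A) ≤
        LinearMap.ker (LinearMap.toSpanSingleton A A x) := by
      intro a ha
      rw [hx, Submodule.mem_colon_singleton, Submodule.mem_bot] at ha
      simpa using ha
    let ιx : A ⧸ q.comap (algebraMap A B) →ₗ[A] A :=
      Submodule.liftQ _ (LinearMap.toSpanSingleton A A x) hker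
    have hιx : ∀ a : A, ιx (Ideal.Quotient.mk _ a) = a * x := fun a => by
      change (LinearMap.toSpanSingleton A A x) a = _
      simp
    have hιinj : ∀ d : A ⧸ q.comap (algebraMap A B), ιx d = 0 → d = 0 := by
      intro d hd
      obtain ⟨a, rfl⟩ := Ideal.Quotient.mk_surjective d
      rw [hιx] at hd
      rw [Ideal.Quotient.eq_zero_iff_mem, hx, Submodule.mem_colon_singleton, Submodule.mem_bot]
      simpa using hd
    let φ : B →ₗ[A] A := ιx ∘ₗ (ψ.restrictScalars A) ∘ₗ (Ideal.Quotient.mkₐ A q).toLinearMap
    have hφ : ∀ b, φ b = ιx (ψ (Ideal.Quotient.mk q b)) := fun b => rfl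
    refine (isAssociatedPrime_iff).mpr ⟨hqp, ⟨φ⟩, ?_⟩
    ext b
    rw [Submodule.mem_colon_singleton, Submodule.mem_bot]
    constructor
    · intro hb
      apply Disc.Omega.ext
      ext y
      rw [Disc.Omega.smul_toLinearMap_apply]
      change φ (b * y) = 0
      rw [hφ, Ideal.Quotient.eq_zero_iff_mem.mpr (q.mul_mem_right y hb), map_zero, map_zero]
    · intro hb
      by_contra hbq
      have hb0 : Ideal.Quotient.mk q b ≠ 0 := fun h => hbq (Ideal.Quotient.eq_zero_iff_mem.mp h)
      have halg : IsAlgebraic (A ⧸ q.comap (algebraMap A B)) (Ideal.Quotient.mk q b) :=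
        (Algebra.IsIntegral.isIntegral _).isAlgebraic
      obtain ⟨r, hr, c, hc⟩ := halg.exists_nonzero_dvd (mem_nonZeroDivisors_of_ne_zero hb0)
      obtain ⟨c, rfl⟩ := Ideal.Quotient.mk_surjective c
      have h1 := congrArg (fun Ψ : Disc.Omega A B => Ψ.toLinearMap c) hb
      simp only [Disc.Omega.smul_toLinearMap_apply] at h1
      change φ (b * c) = 0 at h1
      rw [hφ, map_mul, ← hc, Algebra.algebraMap_eq_smul_one, map_smul, smul_eq_mul] at h1
      exact (mul_ne_zero hr hψ) (hιinj _ h1)

end Groth.Agent.S2218
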