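import Groth.Statements.S2228
import Groth.Agent.Lib.Helper12.NoetherPairing

set_option autoImplicit false
universe u
open TensorProduct
open Disc

namespace Groth.Agent.S2228

/-- Special case: B finite free over the Noetherian ring A (the source allows flat quasi-finite maps).
Let J be the annihilator of the kernel of the multiplication map B tensor_A B -> B and omega =
Hom_A(B, A) with its B-module structure through the argument. Pairing xi = sum of b_i tensor c_i in
J with lambda in omega to the sum of lambda(b_i) c_i identifies J with the B-linear maps omega -> B: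
every B-linear Phi : omega -> B arises from exactly one xi in J in this way. -/
theorem result {A B : Type u} [CommRing A] [CommRing B] [Algebra A B]
    [IsNoetherianRing A] [Module.Finite A B] [Module.Free A B] (Φ : Disc.Omega A B →ₗ[B] B) :
    ∃! ξ : B ⊗[A] B,
      ξ ∈ Submodule.annihilator (RingHom.ker (Algebra.TensorProduct.lmul' (S := B) A)) ∧
        ∀ l : Disc.Omega A B,
          Φ l = TensorProduct.lift ((LinearMap.lsmul A B).comp l.toLinearMap) ξ := by
  classical
  let ι := Module.Free.ChooseBasisIndex A B
  let b : Module.Basis ι A B := Module.Free.chooseBasis A B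
  -- the candidate
  let ξ₀ : B ⊗[A] B := ∑ i, b i ⊗ₜ[A] Φ ⟨b.coord i⟩
  -- pairing of the candidate against any functional
  have hpair : ∀ l : B →ₗ[A] A, Lib.Helper12.pair l ξ₀ = Φ ⟨l⟩ := by
    intro l
    have hl : (⟨l⟩ : Disc.Omega A B) = ∑ i, algebraMap A B (l (b i)) • (⟨b.coord i⟩ : Disc.Omega A B) := by
      apply Disc.Omega.toLinearMap_injective
      apply b.ext
      intro j
      have : ∀ (s : Finset ι) (f : ι → Disc.Omega A B),
          (∑ i ∈ s, f i).toLinearMap = ∑ i ∈ s, (f i).toLinearMap := by
        intro s f
        induction s using Finset.induction_on with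
        | empty => simp
        | insert a s ha ih => rw [Finset.sum_insert ha, Finset.sum_insert ha, Disc.Omega.add_toLinearMap, ih]
      rw [this, LinearMap.sum_apply]
      simp only [Disc.Omega.smul_toLinearMap_apply]
      simp only [← Algebra.smul_def, map_smul, Module.Basis.coord_apply, Module.Basis.repr_self,
        smul_eq_mul]
      rw [Finset.sum_eq_single j]
      · simp
      · intro i _ hij
        simp [Ne.symm hij]
      · intro h; exact absurd (Finset.mem_univ j) h
    rw [hl, map_sum]
    simp only [map_sum, Lib.Helper12.pair_tmul, map_smul, smul_eq_mul, Algebra.smul_def]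
  refine ⟨ξ₀, ⟨?_, ?_⟩, ?_⟩
  · rw [Lib.Helper12.mem_annihilator_ker_iff]
    intro s
    apply Lib.Helper12.eq_of_pair_eq b
    intro i
    rw [Lib.Helper12.pair_mul_one_tmul, Lib.Helper12.pair_mul_tmul_one, hpair, hpair]
    have : (⟨b.coord i ∘ₗ LinearMap.mulLeft A s⟩ : Disc.Omega A B) = s • ⟨b.coord i⟩ := rfl
    rw [this, map_smul, smul_eq_mul, mul_comm]
  · intro l
    exact (hpair l.toLinearMap).symm
  · rintro ξ ⟨_, hξ⟩
    apply Lib.Helper12.eq_of_pair_eq b
    intro i
    rw [hpair]
    exact (hξ ⟨b.coord i⟩).symm

end Groth.Agent.S2228
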