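import Groth.Statements.S2221
import Groth.Agent.Lib.Helper12.NoetherPairing
import Groth.Agent.Lib.Helper12.InvertibleRankOne
import Groth.Agent.S2228

set_option autoImplicit false
universe u
open Disc

namespace Groth.Agent.S2221

/-- Affine finite free case: let A be a Noetherian ring and B an A-algebra which is finite free as an
A-module, and suppose omega = Hom_A(B, A) is an invertible B-module. Then the different of B over A
(the b with b omega inside B Trace) equals the Noether different of B over A. -/
theorem result {A B : Type u} [CommRing A]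
    [CommRing B] [Algebra A B] [IsNoetherianRing A] [Module.Finite A B] [Module.Free A B]
    [Module.Invertible B (Disc.Omega A B)] :
    Disc.differentSet A B = (Disc.noetherDifferent A B : Set B) := by
  classical
  let ι := Module.Free.ChooseBasisIndex A B
  let b : Module.Basis ι A B := Module.Free.chooseBasis A B
  let Tr : Disc.Omega A B := ⟨Algebra.trace A B⟩
  ext x
  constructor
  · intro hx
    have hx' : ∀ l : Disc.Omega A B, ∃ c : B, x • l = c • Tr := by
      intro l
      obtain ⟨c, hc⟩ := hx l.toLinearMap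
      exact ⟨c, Disc.Omega.ext (LinearMap.ext fun y => by simpa [Tr] using hc y)⟩
    let e := Module.Invertible.linearEquiv B (Disc.Omega A B)
    have key : ∀ t : TensorProduct B (Module.Dual B (Disc.Omega A B)) (Disc.Omega A B),
        ∃ Φ : Disc.Omega A B →ₗ[B] B, Φ Tr = x * contractLeft B _ t := by
      intro t
      induction t using TensorProduct.induction_on with
      | zero => exact ⟨0, by simp⟩
      | tmul Ψ l =>
        obtain ⟨c, hc⟩ := hx' l
        refine ⟨c • Ψ, ?_⟩
        rw [LinearMap.smul_apply, smul_eq_mul, contractLeft_apply, ← smul_eq_mul, ← map_smul,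
          ← hc, map_smul, smul_eq_mul]
      | add a b ha hb =>
        obtain ⟨Φa, ha⟩ := ha
        obtain ⟨Φb, hb⟩ := hb
        exact ⟨Φa + Φb, by rw [LinearMap.add_apply, ha, hb, map_add, mul_add]⟩
    obtain ⟨Φ, hΦ⟩ := key (e.symm 1)
    have h1 : contractLeft B _ (e.symm 1) = 1 := e.apply_symm_apply 1
    rw [h1, mul_one] at hΦ
    obtain ⟨ξ, ⟨hξJ, hξ⟩, -⟩ := Groth.Agent.S2228.result Φ
    have hmu : Algebra.TensorProduct.lmul' (S := B) A ξ = x := by
      rw [Lib.Helper12.lmul'_eq_pair_trace b ξ
        ((Lib.Helper12.mem_annihilator_ker_iff ξ).mp hξJ), ← hΦ]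
      exact (hξ Tr).symm
    show x ∈ Disc.noetherDifferent A B
    rw [← hmu]
    exact Ideal.mem_map_of_mem _ hξJ
  · intro hx
    have hsurj : Function.Surjective (Algebra.TensorProduct.lmul' (S := B) A) :=
      fun y => ⟨TensorProduct.tmul A y 1, by simp⟩
    obtain ⟨ξ, hξJ, rfl⟩ := (Ideal.mem_map_iff_of_surjective _ hsurj).mp hx
    have hξ := (Lib.Helper12.mem_annihilator_ker_iff ξ).mp hξJ
    intro φ
    refine ⟨Lib.Helper12.pairHom ξ hξ ⟨φ⟩, fun y => ?_⟩
    have h := Lib.Helper12.invertible_dual_smul_comm (Lib.Helper12.pairHom ξ hξ) Tr ⟨φ⟩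
    have h' := congrArg (fun w => w.toLinearMap y) h
    rw [Lib.Helper12.lmul'_eq_pair_trace b ξ hξ]
    simpa [Tr] using h'

end Groth.Agent.S2221
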