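import Groth.Statements.S2225
import Mathlib
import Groth.Agent.Lib.Helper33.PullbackStalk3
import Groth.Agent.Lib.Helper33.GorFlat
import Groth.Agent.S0342

set_option autoImplicit false
universe u
open CategoryTheory AlgebraicGeometry
open Models

namespace Groth.Agent.S2225

/-- Part (1), for the closed fibre: let R be a discrete valuation ring with fraction field K, C a smooth
proper curve over K and X a regular model of C over R (flat, of finite type, all local rings
regular). Then every local ring of the special fibre X_k is a Gorenstein local ring; together with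
flatness and regularity of the generic fibre this says X -> Spec R is a Gorenstein morphism. -/
theorem result (R : Type u) [CommRing R] [IsDomain R]
    [IsDiscreteValuationRing R] (C X : Scheme.{u})
    (f : C ⟶ Spec (CommRingCat.of (FractionRing R))) (p : X ⟶ Spec (CommRingCat.of R))
    (hC : Curve.IsSmoothProperCurve (FractionRing R) C f) (hX : Models.IsModel R X p C f)
    (hreg : Models.IsRegularScheme X) (x : ↥(Models.specialFibre R X p)) :
    LocCoh.IsGorensteinLocalRing ((Models.specialFibre R X p).presheaf.stalk x) := by
  obtain ⟨hflat, -, -, -⟩ := hX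
  let φ : CommRingCat.of R ⟶ CommRingCat.of (IsLocalRing.ResidueField R) :=
    CommRingCat.ofHom (algebraMap R (IsLocalRing.ResidueField R))
  have hφ : Function.Surjective φ.hom := IsLocalRing.residue_surjective
  let i : Models.specialFibre R X p ⟶ X := Limits.pullback.fst p (Spec.map φ)
  let q : Models.specialFibre R X p ⟶ Spec (CommRingCat.of (IsLocalRing.ResidueField R)) :=
    Limits.pullback.snd p (Spec.map φ)
  have hsq : IsPullback i q p (Spec.map φ) := IsPullback.of_hasPullback p (Spec.map φ)
  have hker := Groth.Agent.Lib.Helper33.PullbackStalk.ker_stalkMap p q i φ hφ hsq x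
  have hsurj := Groth.Agent.Lib.Helper33.PullbackStalk.stalkMap_surjective p q i φ hφ hsq x
  -- the local ring of `X`
  haveI : IsRegularLocalRing (X.presheaf.stalk (i.base x)) := hreg (i.base x)
  have hGor : LocCoh.IsGorensteinLocalRing (X.presheaf.stalk (i.base x)) :=
    Groth.Agent.S0342.result _
  -- uniformizer
  obtain ⟨ϖ, hϖ⟩ := IsDiscreteValuationRing.exists_irreducible R
  have hm : RingHom.ker φ.hom = Ideal.span {ϖ} := by
    rw [← hϖ.maximalIdeal_eq]
    exact IsLocalRing.ker_residue
  set g := (Groth.Agent.Lib.Helper33.PullbackStalk.gl p (i.base x)).hom with hg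
  have hker' : RingHom.ker (i.stalkMap x).hom = Ideal.span {g ϖ} := by
    rw [hker, hm, Ideal.map_span, Set.image_singleton]
  have hreg' : IsSMulRegular (X.presheaf.stalk (i.base x)) (g ϖ) :=
    Groth.Agent.Lib.Helper33.PullbackStalk.isSMulRegular_gl p (i.base x)
      (AlgebraicGeometry.Flat.stalkMap p (i.base x)) ϖ
      (mem_nonZeroDivisors_of_ne_zero hϖ.ne_zero)
  have hmem : g ϖ ∈ IsLocalRing.maximalIdeal (X.presheaf.stalk (i.base x)) := by
    rw [IsLocalRing.mem_maximalIdeal, mem_nonunits_iff]
    intro hu
    have h1 : g ϖ ∈ RingHom.ker (i.stalkMap x).hom := by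
      rw [hker']; exact Ideal.mem_span_singleton_self _
    rw [RingHom.mem_ker] at h1
    have := hu.map (i.stalkMap x).hom
    rw [h1] at this
    exact not_isUnit_zero this
  have hQ := (Groth.Agent.Lib.Helper33.GorFlat.rees _ (g ϖ) hmem hreg').1 hGor
  refine Groth.Agent.Lib.Helper33.PullbackStalk.gorenstein_of_ker_eq
    (Ideal.Quotient.mk (Ideal.span {g ϖ})) (i.stalkMap x).hom Ideal.Quotient.mk_surjective hsurj
    ?_ hQ
  rw [Ideal.mk_ker, hker']

end Groth.Agent.S2225
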