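import Groth.Statements.S2237
import Groth.Agent.Lib.Helper8.HDCount
import Groth.Agent.Lib.Helper8.Pack
import Groth.Agent.Lib.Helper33.GorFibreLCI
import Groth.Agent.Lib.Helper9.LCIFinPres

set_option autoImplicit false
universe u
attribute [local instance] HasDerivedCategory.standard
open LCI

namespace Groth.Agent.S2237

/-- Implication (2) to (5), affine form: let A -> B be flat, quasi-finite and a local complete
intersection homomorphism (finite type with a Koszul-regular presentation). Then for every prime q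
of B there are g in B outside q, a natural number n and polynomials f_1, ..., f_n in A[x_1, ...,
x_n] such that B_g is isomorphic as an A-algebra to A[x_1, ..., x_n]/(f_1, ..., f_n). -/
theorem result {A B : Type u} [CommRing A]
    [CommRing B] [Algebra A B] [Module.Flat A B] [Algebra.QuasiFinite A B] (hlci : LCI.IsLCI A B)
    (q : Ideal B) [q.IsPrime] :
    ∃ g : B, g ∉ q ∧ ∃ (n : ℕ) (f : Fin n → MvPolynomial (Fin n) A),
      Nonempty (Localization.Away g ≃ₐ[A]
        (MvPolynomial (Fin n) A ⧸ Ideal.span (Set.range f))) := by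
  classical
  obtain ⟨hft, n, φ, hφ, hK⟩ := hlci
  obtain ⟨I, hI⟩ : ∃ I : Ideal (MvPolynomial (Fin n) A), I = RingHom.ker φ.toRingHom := ⟨_, rfl⟩
  rw [← hI] at hK
  have hfg : I.FG := Groth.Agent.Lib.Helper9.LCIFinPres.fg_of_isKoszulRegularIdeal I hK
  let e : (MvPolynomial (Fin n) A ⧸ I) ≃ₐ[A] B :=
    (Ideal.quotientEquivAlgOfEq A hI).trans (Ideal.quotientKerAlgEquivOfSurjective hφ)
  have hemk : ∀ x, e (Ideal.Quotient.mk I x) = φ x := fun x => rfl
  have : Module.Flat A (MvPolynomial (Fin n) A ⧸ I) :=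
    Module.Flat.of_linearEquiv e.toLinearEquiv
  obtain ⟨𝔮, h𝔮⟩ : ∃ 𝔮 : Ideal (MvPolynomial (Fin n) A), 𝔮 = q.comap φ.toRingHom := ⟨_, rfl⟩
  have : 𝔮.IsPrime := by rw [h𝔮]; exact Ideal.comap_isPrime _ _
  have : (𝔮.under A).IsPrime := Ideal.comap_isPrime _ _
  have hI𝔮 : I ≤ 𝔮 := by
    intro x hx
    rw [h𝔮, Ideal.mem_comap]
    rw [hI, RingHom.mem_ker] at hx
    rw [hx]
    exact Ideal.zero_mem _
  have hfib := Groth.Agent.Lib.Helper33.GorFibreLCI.isKoszulRegularIdeal_baseChange (A := A)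
    (𝔮.under A).ResidueField I hK
  obtain ⟨f, hfI, hreg, hspan⟩ :=
    Groth.Agent.Lib.Helper8.HD.exists_list_fibre n I (𝔮.under A) 𝔮 hI𝔮 hfib
  have hfin : Module.Finite (𝔮.under A).ResidueField
      (TensorProduct A (𝔮.under A).ResidueField (MvPolynomial (Fin n) A ⧸ I)) :=
    Module.Finite.equiv (TensorProduct.AlgebraTensorModule.congr
      (LinearEquiv.refl (𝔮.under A).ResidueField (𝔮.under A).ResidueField)
      e.toLinearEquiv).symm
  have hlen := Groth.Agent.Lib.Helper8.HD.length_eq_of_finite_fibre n I (𝔮.under A) 𝔮 hI𝔮 hfin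
    f hfI hreg hspan
  obtain ⟨g₀, hg₀, -, hIg, -⟩ := Groth.Agent.Lib.Helper8.HD.local_main_of_list n I hfg
    (𝔮.under A) 𝔮 hI𝔮 f hfI hreg hspan
  obtain ⟨L, hL, ⟨ε⟩⟩ := Groth.Agent.Lib.Helper8.Pack.pack n I g₀ f hIg
  refine ⟨φ g₀, ?_, n + 1, fun i => L.get (Fin.cast (by rw [hL, hlen]) i), ⟨?_⟩⟩
  · intro h
    apply hg₀
    rw [h𝔮]
    exact h
  · have hspanL : Ideal.ofList L = Ideal.span (Set.range fun i : Fin (n + 1) =>
        L.get (Fin.cast (by rw [hL, hlen]) i)) := by
      unfold Ideal.ofList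
      congr 1
      ext x
      simp only [Set.mem_ofPred_eq, Set.mem_range]
      constructor
      · intro hx
        obtain ⟨i, rfl⟩ := List.mem_iff_get.1 hx
        exact ⟨Fin.cast (by rw [hL, hlen]) i, by simp⟩
      · rintro ⟨i, rfl⟩
        exact List.get_mem _ _
    have e1 : Localization.Away (Ideal.Quotient.mk I g₀) ≃ₐ[A] Localization.Away (φ g₀) :=
      IsLocalization.algEquivOfAlgEquiv (M := Submonoid.powers (Ideal.Quotient.mk I g₀))
        (T := Submonoid.powers (φ g₀)) (Localization.Away (Ideal.Quotient.mk I g₀))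
        (Localization.Away (φ g₀)) e (by rw [Submonoid.map_powers]; rfl)
    exact (e1.symm.trans ε).trans (Ideal.quotientEquivAlgOfEq A hspanL)

end Groth.Agent.S2237
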