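import Groth.Statements.S2325
import Groth.Agent.Lib.Ample.Helper50_GenOn

set_option autoImplicit false
universe u
open CategoryTheory CategoryTheory.Limits AlgebraicGeometry
open EGA2

namespace Groth.Agent.S2325

/-- Let X be a quasi-compact separated scheme (the source also allows a prescheme with Noetherian
underlying space), L an ample invertible module, and let F be an O_X-module that is quasi-coherent
and of finite type. For some n₀, the twist F ⊗ L^{⊗n} is generated by its global sections whenever n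
≥ n₀. -/
theorem result (X : Scheme.{u}) [CompactSpace X] [X.IsSeparated] (L : X.Modules) (hL : CohB1.IsAmple L)
    (F : X.Modules) (hF : Coh.IsCoh F) :
    ∃ n₀ : ℕ, ∀ n, n₀ ≤ n → Curv2.IsGloballyGenerated (CohB1.tensorMod F (CohB1.tensorPow L n)) := by
  classical
  obtain ⟨hLinv, _, hamp⟩ := hL
  obtain ⟨hFq, hFt⟩ := hF
  have hFq' : F.IsQuasicoherent := hFq
  have hFt' : F.IsFiniteType := hFt
  have hLq : L.IsQuasicoherent := Groth.Agent.Lib.QCoh.isQuasicoherent_of_isInvertible hLinv
  have hqs : QuasiSeparatedSpace X := inferInstance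
  choose n s hx haff using hamp
  -- finite subcover
  obtain ⟨T, hT⟩ := isCompact_univ.elim_finite_subcover
    (fun x : X => ((CohB1.genLocus _ (s x) : X.Opens) : Set X))
    (fun x => (CohB1.genLocus _ (s x)).isOpen)
    (fun y _ => Set.mem_iUnion.2 ⟨y, hx y⟩)
  -- for each x, a bound
  have key : ∀ x : X, ∃ N : ℕ, ∀ m, N ≤ m →
      Groth.Agent.Lib.Ample.GenOn (CohB1.tensorMod F (CohB1.tensorPow L m))
        (CohB1.genLocus _ (s x)) := by
    intro x
    have hM : PicF.IsInvertible (CohB1.tensorPow L (n x + 1)) :=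
      Groth.Agent.Lib.QCoh.isInvertible_tensorPow hLinv _
    have h1 : ∀ r : ℕ, ∃ k₀ : ℕ, ∀ k, k₀ ≤ k →
        Groth.Agent.Lib.Ample.GenOn (CohB1.tensorMod F (CohB1.tensorPow L (r + (n x + 1) * k)))
          (CohB1.genLocus _ (s x)) := by
      intro r
      have hLr : PicF.IsInvertible (CohB1.tensorPow L r) :=
        Groth.Agent.Lib.QCoh.isInvertible_tensorPow hLinv _
      have hLrq : (CohB1.tensorPow L r).IsQuasicoherent :=
        Groth.Agent.Lib.QCoh.isQuasicoherent_of_isInvertible hLr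
      have hLrt : (CohB1.tensorPow L r).IsFiniteType :=
        Groth.Agent.Lib.QCoh.isFiniteType_of_isInvertible hLr
      have hGq : (CohB1.tensorMod F (CohB1.tensorPow L r)).IsQuasicoherent :=
        Groth.Agent.Lib.QCoh.isQuasicoherent_tensorMod _ _
      have hGt : (CohB1.tensorMod F (CohB1.tensorPow L r)).IsFiniteType :=
        Groth.Agent.Lib.QCoh.isFiniteType_tensorMod _ _
      obtain ⟨k₀, hk₀⟩ := Groth.Agent.Lib.Ample.exists_genOn_twistIter
        (CohB1.tensorMod F (CohB1.tensorPow L r)) hM (s x)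
        (Groth.Agent.Lib.QCoh.finite_Γ_of_isAffineOpen (haff x) _)
      exact ⟨k₀, fun k hk => (hk₀ k hk).of_iso
        (Groth.Agent.Lib.Ample.twistIterPowIso F L r (n x + 1) k)⟩
    choose k₀ hk₀ using h1
    refine ⟨(n x + 1) * (Finset.range (n x + 1)).sup k₀, fun m hm => ?_⟩
    have hr : m % (n x + 1) < n x + 1 := Nat.mod_lt _ (Nat.succ_pos _)
    have hk : (Finset.range (n x + 1)).sup k₀ ≤ m / (n x + 1) := by
      rw [Nat.le_div_iff_mul_le (Nat.succ_pos _), mul_comm]
      exact hm
    have hk' : k₀ (m % (n x + 1)) ≤ m / (n x + 1) :=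
      (Finset.le_sup (Finset.mem_range.2 hr)).trans hk
    have h2 := hk₀ (m % (n x + 1)) (m / (n x + 1)) hk'
    rw [Nat.mod_add_div] at h2
    exact h2
  choose N hN using key
  refine ⟨T.sup N, fun m hm => ?_⟩
  have hLm : PicF.IsInvertible (CohB1.tensorPow L m) :=
    Groth.Agent.Lib.QCoh.isInvertible_tensorPow hLinv _
  have hLmq : (CohB1.tensorPow L m).IsQuasicoherent :=
    Groth.Agent.Lib.QCoh.isQuasicoherent_of_isInvertible hLm
  have hGq : (CohB1.tensorMod F (CohB1.tensorPow L m)).IsQuasicoherent :=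
    Groth.Agent.Lib.QCoh.isQuasicoherent_tensorMod _ _
  refine Groth.Agent.Lib.Ample.isGloballyGenerated_of_genOn
    (fun x : T => CohB1.genLocus _ (s x.1)) (fun x => haff x.1) ?_ ?_
  · intro y
    obtain ⟨x, hx'⟩ := Set.mem_iUnion.1 (hT (Set.mem_univ y))
    obtain ⟨hxT, hy⟩ := Set.mem_iUnion.1 hx'
    exact ⟨⟨x, hxT⟩, hy⟩
  · intro x
    exact hN x.1 m ((Finset.le_sup x.2).trans hm)

end Groth.Agent.S2325
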