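import Groth.Statements.S2327
import Groth.Agent.Lib.Ample.Helper50_TwistIso

set_option autoImplicit false
universe u
open CategoryTheory CategoryTheory.Limits AlgebraicGeometry
open EGA2

namespace Groth.Agent.S2327

/-- Let X be a quasi-compact separated scheme, L an invertible module and n > 0. Then L is ample if and
only if L^{⊗n} is ample. -/
theorem result (X : Scheme.{u}) [CompactSpace X] [X.IsSeparated] (L : X.Modules) (hL : PicF.IsInvertible L) (n : ℕ) (hn : 0 < n) :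
    CohB1.IsAmple L ↔ CohB1.IsAmple (CohB1.tensorPow L n) := by
  obtain ⟨n', rfl⟩ : ∃ n', n = n' + 1 := Nat.exists_eq_succ_of_ne_zero hn.ne'
  constructor
  · rintro ⟨_, hc, hamp⟩
    refine ⟨Groth.Agent.Lib.QCoh.isInvertible_tensorPow hL _, hc, fun x => ?_⟩
    obtain ⟨k, s, hxs, haff⟩ := hamp x
    have hM : PicF.IsInvertible (CohB1.tensorPow L (k + 1)) :=
      Groth.Agent.Lib.QCoh.isInvertible_tensorPow hL _
    have h1 := Groth.Agent.Lib.Ample.genLocus_secPow s hM n'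
    let e : CohB1.tensorPow (CohB1.tensorPow L (k + 1)) (n' + 1) ≅
        CohB1.tensorPow (CohB1.tensorPow L (n' + 1)) (k + 1) :=
      Groth.Agent.Lib.Ample.tensorPowMulIso L (k + 1) (n' + 1) ≪≫
        eqToIso (congrArg (CohB1.tensorPow L) (Nat.mul_comm _ _)) ≪≫
        (Groth.Agent.Lib.Ample.tensorPowMulIso L (n' + 1) (k + 1)).symm
    have h2 := Groth.Agent.Lib.Ample.genLocus_comp_iso
      (Groth.Agent.Lib.Ample.secPow s (n' + 1)) e
    refine ⟨k, Groth.Agent.Lib.Ample.secPow s (n' + 1) ≫ e.hom, ?_, ?_⟩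
    · rw [h2, h1]; exact hxs
    · rw [h2, h1]; exact haff
  · rintro ⟨_, hc, hamp⟩
    refine ⟨hL, hc, fun x => ?_⟩
    obtain ⟨k, s, hxs, haff⟩ := hamp x
    obtain ⟨k', hk'⟩ : ∃ k', (n' + 1) * (k + 1) = k' + 1 :=
      Nat.exists_eq_succ_of_ne_zero (Nat.mul_ne_zero (Nat.succ_ne_zero _) (Nat.succ_ne_zero _))
    let e : CohB1.tensorPow (CohB1.tensorPow L (n' + 1)) (k + 1) ≅ CohB1.tensorPow L (k' + 1) :=
      Groth.Agent.Lib.Ample.tensorPowMulIso L (n' + 1) (k + 1) ≪≫
        eqToIso (congrArg (CohB1.tensorPow L) hk')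
    have h2 := Groth.Agent.Lib.Ample.genLocus_comp_iso s e
    refine ⟨k', s ≫ e.hom, ?_, ?_⟩
    · rw [h2]; exact hxs
    · rw [h2]; exact haff

end Groth.Agent.S2327
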