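import Groth.Statements.S2329
import Groth.Agent.Lib.Ample.Helper50_Serre
import Groth.Agent.Lib.Ample.Tensor

set_option autoImplicit false
universe u
open CategoryTheory CategoryTheory.Limits AlgebraicGeometry
open EGA2

namespace Groth.Agent.S2329

/-- Let X be a quasi-compact separated scheme, L an ample invertible module and L' an invertible module.
Then there is n₀ > 0 such that L^{⊗n} ⊗ L' is ample and globally generated for every n ≥ n₀. -/
theorem result (X : Scheme.{u}) [CompactSpace X] [X.IsSeparated] (L L' : X.Modules) (hL : CohB1.IsAmple L) (hL' : PicF.IsInvertible L') :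
    ∃ n₀ : ℕ, 0 < n₀ ∧ ∀ n, n₀ ≤ n →
      CohB1.IsAmple (CohB1.tensorMod (CohB1.tensorPow L n) L') ∧ Curv2.IsGloballyGenerated (CohB1.tensorMod (CohB1.tensorPow L n) L') := by
  have hqs : QuasiSeparatedSpace X := inferInstance
  have hL'q : L'.IsQuasicoherent := Groth.Agent.Lib.QCoh.isQuasicoherent_of_isInvertible hL'
  have hL't : L'.IsFiniteType := Groth.Agent.Lib.QCoh.isFiniteType_of_isInvertible hL'
  obtain ⟨n₁, h₁⟩ := Groth.Agent.Lib.Ample.exists_forall_exists_genOn_of_isAmple hL L'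
  obtain ⟨n₂, h₂⟩ := Groth.Agent.Lib.Ample.exists_forall_mem_genLocus_of_isAmple hL hL'
  refine ⟨max n₁ n₂ + 1, Nat.succ_pos _, fun n hn => ?_⟩
  obtain ⟨m, rfl⟩ : ∃ m, n = m + 1 := Nat.exists_eq_succ_of_ne_zero (by omega)
  have hm₁ : n₁ ≤ m := by omega
  have hm₂ : n₂ ≤ m := by omega
  constructor
  · -- ampleness
    have hM' : PicF.IsInvertible (CohB1.tensorMod L' (CohB1.tensorPow L m)) :=
      Groth.Agent.Lib.QCoh.isInvertible_tensorMod hL'
        (Groth.Agent.Lib.QCoh.isInvertible_tensorPow hL.1 m)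
    have hamp : CohB1.IsAmple (CohB1.tensorMod L (CohB1.tensorMod L' (CohB1.tensorPow L m))) := by
      refine Groth.Agent.Lib.Ample.isAmple_tensorMod hL hM' (fun x => ?_)
      obtain ⟨t, ht⟩ := h₂ m hm₂ x
      refine ⟨0, Groth.Agent.Lib.Ample.homOfSec _ t ≫
        (Groth.Agent.Lib.QCoh.tensorPowOneIso _).inv, ?_⟩
      have := Groth.Agent.Lib.Ample.genLocus_comp_iso (Groth.Agent.Lib.Ample.homOfSec _ t)
        (Groth.Agent.Lib.QCoh.tensorPowOneIso (CohB1.tensorMod L' (CohB1.tensorPow L m))).symm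
      rw [Iso.symm_hom] at this
      rw [this]
      exact ht
    refine Groth.Agent.Lib.Ample.isAmple_of_iso ?_ hamp
    exact (Groth.Agent.Lib.QCoh.tensorModAssoc L L' (CohB1.tensorPow L m)).symm ≪≫
      Groth.Agent.Lib.QCoh.tensorModBraiding (CohB1.tensorMod L L') (CohB1.tensorPow L m) ≪≫
      (Groth.Agent.Lib.QCoh.tensorModAssoc (CohB1.tensorPow L m) L L').symm
  · -- global generation
    have hn₁ : n₁ ≤ m + 1 := by omega
    choose W hWaff hxW hgen using h₁ (m + 1) hn₁
    have hGq : (CohB1.tensorMod L' (CohB1.tensorPow L (m + 1))).IsQuasicoherent :=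
      Groth.Agent.Lib.QCoh.isQuasicoherent_of_isInvertible
        (Groth.Agent.Lib.QCoh.isInvertible_tensorMod hL'
          (Groth.Agent.Lib.QCoh.isInvertible_tensorPow hL.1 (m + 1)))
    have hgg := Groth.Agent.Lib.Ample.isGloballyGenerated_of_genOn W hWaff
      (fun x => ⟨x, hxW x⟩) hgen
    exact Groth.Agent.Lib.Ample.isGloballyGenerated_of_iso_h50
      (Groth.Agent.Lib.QCoh.tensorModBraiding L' (CohB1.tensorPow L (m + 1))) hgg

end Groth.Agent.S2329
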