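import Groth.Statements.S2330
import Groth.Agent.Lib.Ample.Helper50_VASections
import Groth.Agent.Lib.Proj.VeryAmpleConverse

set_option autoImplicit false
universe u
open CategoryTheory CategoryTheory.Limits AlgebraicGeometry
open EGA2

namespace Groth.Agent.S2330

/-- Let Y be affine, q : X → Y separated and of finite type, and L an invertible O_X-module. Then L is
ample if and only if some L^{⊗n} (n > 0) is very ample relative to q, in the sense that it is the
pullback of O(1) along an immersion of X into some P^m_Y over Y; moreover, if L is ample this holds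
for all n beyond some n₀. ('Very ample relative to q' in general means this with P(E) for a
quasi-coherent O_Y-module E in place of P^m_Y; for q of finite type over an affine base the two
agree, and the P^m_Y form is the one used here.) -/
theorem result {X Y : Scheme.{u}} [IsAffine Y] (q : X ⟶ Y) [IsSeparated q]
    [QuasiCompact q] [LocallyOfFiniteType q] (L : X.Modules) (hL : PicF.IsInvertible L) :
    (CohB1.IsAmple L ↔ ∃ n : ℕ, 0 < n ∧ RelAmple.IsRelVeryAmplePn q (CohB1.tensorPow L n)) ∧
      (CohB1.IsAmple L → ∃ n₀ : ℕ, ∀ n, n₀ ≤ n → RelAmple.IsRelVeryAmplePn q (CohB1.tensorPow L n)) := by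
  have hfwd : CohB1.IsAmple L → ∃ n₀ : ℕ, ∀ n, n₀ ≤ n →
      RelAmple.IsRelVeryAmplePn q (CohB1.tensorPow L n) := fun h =>
    Groth.Agent.Lib.Ample.VA.isRelVeryAmplePn_tensorPow_of_isAmple q h
  refine ⟨⟨fun h => ?_, ?_⟩, hfwd⟩
  · obtain ⟨n₀, hn₀⟩ := hfwd h
    exact ⟨n₀ + 1, Nat.succ_pos _, hn₀ _ (Nat.le_succ _)⟩
  · rintro ⟨n, hn, h⟩
    obtain ⟨k, rfl⟩ : ∃ k, n = k + 1 := Nat.exists_eq_succ_of_ne_zero hn.ne'
    have hqs : QuasiSeparatedSpace X := quasiSeparatedSpace_of_quasiSeparated q
    have h1 : CohB1.IsAmple (CohB1.tensorPow L (k + 1)) :=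
      Groth.Agent.Lib.Proj.VeryAmpleConverse.isAmple_of_isRelVeryAmplePn q h
    refine ⟨hL, h1.2.1, fun x => ?_⟩
    obtain ⟨m, s, hx, haff⟩ := h1.2.2 x
    obtain ⟨n', t', ht'⟩ :=
      Groth.Agent.Lib.Ample.exists_section_tensorPow_of_tensorPow_tensorPow k m s
    exact ⟨n', t', ht' ▸ hx, ht' ▸ haff⟩

end Groth.Agent.S2330
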