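import Groth.Statements.S2333
import Groth.Agent.Lib.Helper56.RelAmpleB

set_option autoImplicit false
universe u
open CategoryTheory CategoryTheory.Limits AlgebraicGeometry
open EGA2

namespace Groth.Agent.S2333

open Groth.Agent.Lib.Helper56.RelAmple in
/-- Let f : X → Y and g : Y → Z be morphisms of schemes with f quasi-compact, and L an O_X-module which
is ample relative to the composite g ∘ f. Then L is ample relative to f. (No separatedness
hypothesis on g is imposed.) -/
theorem result {X Y Z : Scheme.{u}} (f : X ⟶ Y) (g : Y ⟶ Z) [QuasiCompact f]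
    (L : X.Modules) (hL : RelAmple.IsRelAmple (f ≫ g) L) : RelAmple.IsRelAmple f L := by
  obtain ⟨_, h⟩ := hL
  refine ⟨inferInstance, fun V => ?_⟩
  apply isAmple_restrict_of_forall_exists_basicOpen _ (f.isCompact_preimage V.2.isCompact)
  intro x hx
  obtain ⟨Z₀, hZ₀, hz, -⟩ := TopologicalSpace.Opens.isBasis_iff_nbhd.1 Z.isBasis_affineOpens
    (U := ⊤) (x := g (f x)) trivial
  obtain ⟨h', hle, hyh⟩ := V.2.exists_basicOpen_le (V := g ⁻¹ᵁ Z₀) ⟨f x, hz⟩ hx
  refine ⟨f.app V.1 h', ?_, ?_⟩
  · rw [← Scheme.preimage_basicOpen]; exact hyh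
  · have hA := h ⟨Z₀, hZ₀⟩
    refine isAmple_restrict_of_le (A := (f ≫ g) ⁻¹ᵁ Z₀) ?_ ?_ hA
    · rw [← Scheme.preimage_basicOpen]
      intro p hp
      exact hle hp
    · rw [← Scheme.preimage_basicOpen]
      exact f.isCompact_preimage (V.2.basicOpen h').isCompact

end Groth.Agent.S2333
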