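import Groth.Statements.S2334
import Groth.Agent.S4450
-- import your own Groth.Agent.* helpers here

set_option autoImplicit false
universe u
open CategoryTheory CategoryTheory.Limits AlgebraicGeometry
open EGA2

namespace Groth.Agent.S2334

section Helpers

open CategoryTheory CategoryTheory.Limits AlgebraicGeometry

theorem main2334 {X Y : Scheme.{u}} [IsLocallyNoetherian Y] (f : X ⟶ Y) [LocallyOfFiniteType f] :
    IsSeparated f ↔ ∀ (A : Type u) [CommRing A] [IsDomain A] [IsDiscreteValuationRing A] (g₁ g₂ : (Spec (CommRingCat.of A)) ⟶ X),
      g₁ ≫ f = g₂ ≫ f → (Spec.map (CommRingCat.ofHom (algebraMap A (FractionRing A)))) ≫ g₁ = (Spec.map (CommRingCat.ofHom (algebraMap A (FractionRing A)))) ≫ g₂ → g₁ = g₂ := by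
  constructor
  · intro hsep A _ _ _ g₁ g₂ h1 h2
    have hu := IsSeparated.valuativeCriterion f
    have hc : CommSq (Spec.map (CommRingCat.ofHom (algebraMap A (FractionRing A))) ≫ g₁)
        (Spec.map (CommRingCat.ofHom (algebraMap A (FractionRing A)))) f (g₁ ≫ f) :=
      ⟨by simp⟩
    let S : ValuativeCommSq f := ⟨A, FractionRing A, _, _, hc⟩
    have hsub : Subsingleton S.commSq.LiftStruct := hu S
    let l₁ : S.commSq.LiftStruct := ⟨g₁, rfl, rfl⟩
    let l₂ : S.commSq.LiftStruct := ⟨g₂, h2.symm, h1.symm⟩
    exact congrArg CommSq.LiftStruct.l (Subsingleton.elim l₁ l₂)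
  · intro H
    have hX : IsLocallyNoetherian X := LocallyOfFiniteType.isLocallyNoetherian f
    have hqs1 : QuasiSeparated (terminal.from X) :=
      (quasiSeparatedSpace_iff_quasiSeparated X).mp inferInstance
    have hqs2 : QuasiSeparated (f ≫ terminal.from Y) := by
      rwa [terminalIsTerminal.hom_ext (f ≫ terminal.from Y) (terminal.from X)]
    have hqs : QuasiSeparated f := QuasiSeparated.of_comp f (terminal.from Y)
    have hqc : QuasiCompact (pullback.diagonal f) := QuasiSeparated.quasiCompact_diagonal
    have hlft : LocallyOfFiniteType (pullback.diagonal f) := by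
      have : LocallyOfFiniteType (pullback.diagonal f ≫ pullback.fst f f) := by
        rw [pullback.diagonal_fst]; infer_instance
      exact locallyOfFiniteType_of_comp (pullback.diagonal f) (pullback.fst f f)
    have hPnoeth : IsLocallyNoetherian (pullback f f) := inferInstance
    have hspec : SpecializingMap (pullback.diagonal f).base := by
      intro x z' hsp
      by_cases hz : z' = (pullback.diagonal f).base x
      · exact ⟨x, specializes_rfl, hz.symm⟩
      obtain ⟨A, h, hdvr, hcl, hgen⟩ :=
        Groth.Agent.S4450.result (pullback.diagonal f) x z' hsp hz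
      let g₁ := h ≫ pullback.fst f f
      let g₂ := h ≫ pullback.snd f f
      have hg12 : g₁ ≫ f = g₂ ≫ f := by
        simp only [g₁, g₂, Category.assoc, pullback.condition]
      have hgen1 : Spec.map (CommRingCat.ofHom A.subtype) ≫ g₁ = X.fromSpecResidueField x := by
        simp only [g₁, ← Category.assoc, hgen]
        simp
      have hgen2 : Spec.map (CommRingCat.ofHom A.subtype) ≫ g₂ = X.fromSpecResidueField x := by
        simp only [g₂, ← Category.assoc, hgen]
        simp
      -- comparison of fraction fields
      let e : FractionRing A ≃ₐ[A] X.residueField x := FractionRing.algEquiv A (X.residueField x)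
      have he : (algebraMap A (FractionRing A)) =
          (e.symm : X.residueField x →+* FractionRing A).comp A.subtype := by
        ext a
        exact (e.symm.commutes a).symm
      have hfac : Spec.map (CommRingCat.ofHom (algebraMap A (FractionRing A))) =
          Spec.map (CommRingCat.ofHom (e.symm : X.residueField x →+* FractionRing A)) ≫
            Spec.map (CommRingCat.ofHom A.subtype) := by
        rw [← Spec.map_comp, ← CommRingCat.ofHom_comp, ← he]
      have hg : g₁ = g₂ := by
        apply H A g₁ g₂ hg12
        rw [hfac, Category.assoc, Category.assoc, hgen1, hgen2]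
      have hh : h = g₁ ≫ pullback.diagonal f := by
        apply pullback.hom_ext
        · simp [g₁]
        · simp only [Category.assoc, pullback.diagonal_snd, Category.comp_id]
          exact hg.symm
      refine ⟨g₁.base (IsLocalRing.closedPoint A), ?_, ?_⟩
      · have h1 : g₁.base ((Spec.map (CommRingCat.ofHom A.subtype)).base
            (IsLocalRing.closedPoint (X.residueField x))) = x := by
          have h2 := congr(($hgen1).base (IsLocalRing.closedPoint (X.residueField x)))
          exact h2.trans (Scheme.fromSpecResidueField_apply x _)
        have h3 := (IsLocalRing.specializes_closedPoint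
          ((Spec.map (CommRingCat.ofHom A.subtype)).base
            (IsLocalRing.closedPoint (X.residueField x)))).map g₁.base.hom.continuous
        rw [h1] at h3
        exact h3
      · rw [← hcl, hh]
        rfl
    have hclosed : IsClosedMap (pullback.diagonal f).base :=
      (isClosedMap_iff_specializingMap (pullback.diagonal f)).mpr hspec
    exact ⟨IsClosedImmersion.of_isPreimmersion _ hclosed.isClosed_range⟩

end Helpers

/-- Locally Noetherian case of the valuative criterion of separatedness: let Y be a locally Noetherian
scheme and f : X → Y locally of finite type. Then f is separated if and only if for every discrete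
valuation ring A with fraction field K, any two morphisms Spec A → X with the same composite to Y
which agree on Spec K are equal. (In the general criterion the diagonal must be assumed
quasi-compact; that is automatic here.) -/
theorem result {X Y : Scheme.{u}} [IsLocallyNoetherian Y] (f : X ⟶ Y) [LocallyOfFiniteType f] :
    IsSeparated f ↔ ∀ (A : Type u) [CommRing A] [IsDomain A] [IsDiscreteValuationRing A] (g₁ g₂ : (Spec (CommRingCat.of A)) ⟶ X),
      g₁ ≫ f = g₂ ≫ f → (Spec.map (CommRingCat.ofHom (algebraMap A (FractionRing A)))) ≫ g₁ = (Spec.map (CommRingCat.ofHom (algebraMap A (FractionRing A)))) ≫ g₂ → g₁ = g₂ := by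
  exact main2334 f

end Groth.Agent.S2334
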