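import Groth.Statements.S2337
import Groth.Agent.Lib.Ample.Restrict

set_option autoImplicit false
universe u
open CategoryTheory CategoryTheory.Limits AlgebraicGeometry
open EGA2

namespace Groth.Agent.S2337

/-- Let f : X → Y be quasi-compact. Then f is quasi-affine (preimages of affine opens are quasi-affine)
if and only if O_X is ample relative to f. -/
theorem result {X Y : Scheme.{u}} (f : X ⟶ Y) [QuasiCompact f] :
    Mor2.IsQuasiAffine f ↔ RelAmple.IsRelAmple f (Coh.structureModule X) := by
  constructor
  · rintro ⟨hqc, h⟩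
    refine ⟨hqc, fun V => ?_⟩
    have := h V.1 V.2
    exact Groth.Agent.Lib.Ample.isAmple_of_isQuasiAffine _
      (Groth.Agent.Lib.QCoh.isInvertible_restrict _
        (Groth.Agent.Lib.QCoh.isInvertible_structureModule X))
  · rintro ⟨hqc, h⟩
    refine ⟨hqc, fun V hV => ?_⟩
    exact Groth.Agent.Lib.Ample.isQuasiAffine_of_isAmple_restrict_structureModule _ (h ⟨V, hV⟩)

end Groth.Agent.S2337
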