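import Groth.Statements.S2342
import Mathlib
-- import your own Groth.Agent.* helpers here

set_option autoImplicit false
universe u
open CategoryTheory CategoryTheory.Limits AlgebraicGeometry
open EGA2

namespace Groth.Agent.S2342

lemma exists_eq_or_mul_eq_one {A : Type*} [CommRing A] [IsDomain A] [ValuationRing A]
    (S : Type*) [CommRing S] [Algebra A S] (M : Submonoid A) [IsLocalization M S] (t : S) :
    ∃ c : A, t = algebraMap A S c ∨ t * algebraMap A S c = 1 := by
  obtain ⟨⟨a, s⟩, h⟩ := IsLocalization.surj M t
  simp only at h
  have hs : IsUnit (algebraMap A S s) := IsLocalization.map_units S s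
  rcases ValuationRing.dvd_total a (s : A) with ⟨c, hc⟩ | ⟨c, hc⟩
  · -- s = a * c
    refine ⟨c, Or.inr ?_⟩
    rw [hc, map_mul] at hs h
    have ha : IsUnit (algebraMap A S a) := isUnit_of_mul_isUnit_left hs
    apply ha.mul_left_cancel
    calc algebraMap A S a * (t * algebraMap A S c)
        = t * (algebraMap A S a * algebraMap A S c) := by ring
      _ = algebraMap A S a := h
      _ = algebraMap A S a * 1 := (mul_one _).symm
  · -- a = s * c
    refine ⟨c, Or.inl ?_⟩
    rw [hc, map_mul] at h
    apply hs.mul_left_cancel
    calc algebraMap A S s * t = t * algebraMap A S s := by ring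
      _ = algebraMap A S s * algebraMap A S c := h

set_option backward.isDefEq.respectTransparency.types false in
lemma stalkMap_bijective (A : Type u) [CommRing A] [IsDomain A] [ValuationRing A]
    (X : Scheme.{u}) [IsIntegral X] (f : X ⟶ Spec (CommRingCat.of A))
    (hξ : Function.Bijective (f.stalkMap (genericPoint X)).hom) (x' : X) :
    Function.Bijective (f.stalkMap x').hom := by
  set ξ := genericPoint X with hξdef
  have h : ξ ⤳ x' := (genericPoint_spec X).specializes trivial
  have hY : f ξ ⤳ f x' := f.base.hom.map_specializes h
  have sq : (Spec (CommRingCat.of A)).presheaf.stalkSpecializes hY ≫ f.stalkMap ξ =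
      f.stalkMap x' ≫ X.presheaf.stalkSpecializes h := f.stalkSpecializes_stalkMap ξ x' h
  have sq' : ∀ s, (f.stalkMap ξ).hom
      (((Spec (CommRingCat.of A)).presheaf.stalkSpecializes hY).hom s) =
      (X.presheaf.stalkSpecializes h).hom ((f.stalkMap x').hom s) := fun s => congr($sq s)
  have injX : Function.Injective (X.presheaf.stalkSpecializes h).hom :=
    IsFractionRing.injective (X.presheaf.stalk x') X.functionField
  have injY : Function.Injective
      ((Spec (CommRingCat.of A)).presheaf.stalkSpecializes hY).hom := by
    have hη : genericPoint (Spec (CommRingCat.of A)) ⤳ f ξ :=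
      (genericPoint_spec _).specializes trivial
    have hcomp := (Spec (CommRingCat.of A)).presheaf.stalkSpecializes_comp hη hY
    have hinj : Function.Injective
        ((Spec (CommRingCat.of A)).presheaf.stalkSpecializes (hη.trans hY)).hom :=
      IsFractionRing.injective ((Spec (CommRingCat.of A)).presheaf.stalk (f x'))
        (Spec (CommRingCat.of A)).functionField
    rw [← hcomp] at hinj
    exact Function.Injective.of_comp hinj
  letI k1 : Algebra A ((Spec (CommRingCat.of A)).presheaf.stalk (f ξ)) :=
    StructureSheaf.stalkAlgebra A (f ξ)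
  haveI : IsLocalization.AtPrime ((Spec (CommRingCat.of A)).presheaf.stalk (f ξ)) (f ξ).asIdeal :=
    StructureSheaf.IsLocalization.to_stalk A (f ξ)
  letI k2 : Algebra A ((Spec (CommRingCat.of A)).presheaf.stalk (f x')) :=
    StructureSheaf.stalkAlgebra A (f x')
  have halg : ∀ c : A, ((Spec (CommRingCat.of A)).presheaf.stalkSpecializes hY).hom
      (algebraMap A ((Spec (CommRingCat.of A)).presheaf.stalk (f x')) c) =
      algebraMap A ((Spec (CommRingCat.of A)).presheaf.stalk (f ξ)) c := fun c =>
    congr($(StructureSheaf.toStalk_stalkSpecializes (R := A) hY) c)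
  refine ⟨?_, ?_⟩
  · intro s₁ s₂ hs
    apply injY
    apply hξ.1
    rw [sq', sq', hs]
  · intro b
    obtain ⟨t, ht⟩ := hξ.2 ((X.presheaf.stalkSpecializes h).hom b)
    obtain ⟨c, hc | hc⟩ := exists_eq_or_mul_eq_one
      ((Spec (CommRingCat.of A)).presheaf.stalk (f ξ)) (f ξ).asIdeal.primeCompl t
    · refine ⟨algebraMap A _ c, ?_⟩
      apply injX
      rw [← sq', halg, ← hc, ht]
    · -- `b * stalkMap (alg c) = 1`
      have h1 : b * (f.stalkMap x').hom (algebraMap A _ c) = 1 := by
        apply injX
        rw [map_mul, ← sq', halg, ← ht, ← map_mul, hc, map_one, map_one]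
      have hu : IsUnit ((f.stalkMap x').hom (algebraMap A _ c)) :=
        IsUnit.of_mul_eq_one _ (by rw [mul_comm]; exact h1)
      have hu' : IsUnit (algebraMap A ((Spec (CommRingCat.of A)).presheaf.stalk (f x')) c) :=
        isUnit_of_map_unit (f.stalkMap x').hom _ hu
      obtain ⟨d, hd⟩ := hu'.exists_right_inv
      refine ⟨d, ?_⟩
      have h2 : (f.stalkMap x').hom (algebraMap A _ c) * (f.stalkMap x').hom d = 1 := by
        rw [← map_mul, hd, map_one]
      calc (f.stalkMap x').hom d = (b * (f.stalkMap x').hom (algebraMap A _ c)) *
            (f.stalkMap x').hom d := by rw [h1, one_mul]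
        _ = b * ((f.stalkMap x').hom (algebraMap A _ c) * (f.stalkMap x').hom d) := by ring
        _ = b := by rw [h2, mul_one]

lemma isDominant_SpecMap_of_injective {R S : CommRingCat.{u}} (φ : R ⟶ S)
    (hφ : Function.Injective φ.hom) : IsDominant (Spec.map φ) := by
  refine ⟨?_⟩
  change DenseRange (PrimeSpectrum.comap φ.hom)
  rw [DenseRange, dense_iff_closure_eq, PrimeSpectrum.closure_range_comap,
    (RingHom.injective_iff_ker_eq_bot _).mp hφ]
  simp

lemma residue_bijective_of_isField {R : Type*} [CommRing R] [IsLocalRing R] (h : IsField R) :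
    Function.Bijective (IsLocalRing.residue R) := by
  refine ⟨?_, IsLocalRing.residue_surjective⟩
  rw [RingHom.injective_iff_ker_eq_bot, IsLocalRing.ker_residue]
  exact IsLocalRing.isField_iff_maximalIdeal_eq.mp h

lemma stalkMap_bijective_of_residueFieldMap {X Y : Scheme.{u}} (f : X ⟶ Y) (x : X)
    (hX : IsField (X.presheaf.stalk x)) (hY : IsField (Y.presheaf.stalk (f x)))
    (hres : Function.Bijective (f.residueFieldMap x).hom) :
    Function.Bijective (f.stalkMap x).hom := by
  have h1 : Function.Bijective (X.residue x).hom := residue_bijective_of_isField hX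
  have h2 : Function.Bijective (Y.residue (f x)).hom := residue_bijective_of_isField hY
  have h3 := Scheme.residue_residueFieldMap f x
  have h4 : (X.residue x).hom ∘ (f.stalkMap x).hom =
      (f.residueFieldMap x).hom ∘ (Y.residue (f x)).hom := by
    ext s
    exact congr($h3 s).symm
  have h5 : Function.Bijective ((X.residue x).hom ∘ (f.stalkMap x).hom) := by
    rw [h4]
    exact hres.comp h2
  exact (Function.Bijective.of_comp_iff' h1 _).mp h5

set_option backward.isDefEq.respectTransparency.types false in
lemma injective_of_stalkMap_bijective {X Y : Scheme.{u}} [IsIntegral X] (f : X ⟶ Y)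
    [IsSeparated f] (hst : ∀ x, Function.Bijective (f.stalkMap x).hom) :
    Function.Injective f.base := by
  intro x' x'' hxx
  set ξ := genericPoint X with hξdef
  have h' : ξ ⤳ x' := (genericPoint_spec X).specializes trivial
  have h'' : ξ ⤳ x'' := (genericPoint_spec X).specializes trivial
  haveI : IsIso (f.stalkMap x'') := (ConcreteCategory.isIso_iff_bijective _).mpr (hst x'')
  have hsp : f x' ⤳ f x'' := hxx ▸ specializes_rfl
  -- the comparison map `O_{X,x''} ⟶ O_{X,x'}`
  let φ : X.presheaf.stalk x'' ⟶ X.presheaf.stalk x' :=
    inv (f.stalkMap x'') ≫ Y.presheaf.stalkSpecializes hsp ≫ f.stalkMap x'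
  have hφ : f.stalkMap x'' ≫ φ = Y.presheaf.stalkSpecializes hsp ≫ f.stalkMap x' := by
    simp [φ]
  let a : Spec (X.presheaf.stalk x') ⟶ X := X.fromSpecStalk x'
  let b : Spec (X.presheaf.stalk x') ⟶ X := Spec.map φ ≫ X.fromSpecStalk x''
  have hab : a ≫ f = b ≫ f := by
    simp only [a, b, Category.assoc]
    rw [← Scheme.SpecMap_stalkMap_fromSpecStalk, ← Scheme.SpecMap_stalkMap_fromSpecStalk,
      ← Spec.map_comp_assoc, hφ, Spec.map_comp, Category.assoc,
      Scheme.SpecMap_stalkSpecializes_fromSpecStalk]
  let ι : Spec X.functionField ⟶ Spec (X.presheaf.stalk x') :=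
    Spec.map (X.presheaf.stalkSpecializes h')
  haveI : IsDominant ι := isDominant_SpecMap_of_injective _
    (IsFractionRing.injective (X.presheaf.stalk x') X.functionField)
  have hφsp : φ ≫ X.presheaf.stalkSpecializes h' = X.presheaf.stalkSpecializes h'' := by
    rw [← cancel_epi (f.stalkMap x''), ← Category.assoc, hφ, Category.assoc,
      ← f.stalkSpecializes_stalkMap ξ x' h', ← f.stalkSpecializes_stalkMap ξ x'' h'',
      ← Category.assoc, TopCat.Presheaf.stalkSpecializes_comp]
  have hι : ι ≫ a = ι ≫ b := by
    simp only [ι, a, b]
    rw [Scheme.SpecMap_stalkSpecializes_fromSpecStalk, ← Spec.map_comp_assoc, hφsp,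
      Scheme.SpecMap_stalkSpecializes_fromSpecStalk]
  have heq : a = b := ext_of_isDominant_of_isSeparated f hab ι hι
  have ha : a (IsLocalRing.closedPoint _) = x' := Scheme.fromSpecStalk_closedPoint
  have hb : b (IsLocalRing.closedPoint _) = x'' := by
    simp only [b, Scheme.Hom.comp_apply]
    haveI : IsLocalHom φ.hom := by
      haveI : IsIso φ := by
        haveI : IsIso (Y.presheaf.stalkSpecializes hsp) := by
          have : Y.presheaf.stalkSpecializes hsp =
              (Y.presheaf.stalkCongr (Inseparable.of_eq hxx.symm)).hom := rfl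
          rw [this]
          infer_instance
        haveI : IsIso (f.stalkMap x') := (ConcreteCategory.isIso_iff_bijective _).mpr (hst x')
        dsimp only [φ]
        infer_instance
      exact isLocalHom_of_isIso φ
    have : (Spec.map φ) (IsLocalRing.closedPoint _) = IsLocalRing.closedPoint _ :=
      IsLocalRing.comap_closedPoint φ.hom
    rw [this, Scheme.fromSpecStalk_closedPoint]
  rw [← ha, ← hb, heq]

/-- Let A be a valuation ring with Y = Spec A, X an integral separated scheme and f : X → Y a morphism
which is closed as a map of topological spaces, such that the fibre over the generic point of Y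
consists of exactly one point x and the induced map from the residue field of the generic point of Y
to that of x is bijective. Then f is an isomorphism. -/
theorem result (A : Type u) [CommRing A] [IsDomain A] [ValuationRing A]
    (X : Scheme.{u}) [IsIntegral X] [X.IsSeparated] (f : X ⟶ Spec (CommRingCat.of A)) (hf : IsClosedMap f.base)
    (x : X) (hx : f.base ⁻¹' {genericPoint (Spec (CommRingCat.of A))} = {x})
    (hres : Function.Bijective (f.residueFieldMap x).hom) : IsIso f := by
  have hfx : f x = genericPoint (Spec (CommRingCat.of A)) := by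
    have : x ∈ f.base ⁻¹' {genericPoint (Spec (CommRingCat.of A))} := by
      rw [hx]; exact Set.mem_singleton x
    exact this
  have hξx : genericPoint X ⤳ x := (genericPoint_spec X).specializes trivial
  have hfξ : f (genericPoint X) = genericPoint (Spec (CommRingCat.of A)) := by
    have h1 : f (genericPoint X) ⤳ genericPoint (Spec (CommRingCat.of A)) :=
      hfx ▸ hξx.map f.continuous
    have h2 : genericPoint (Spec (CommRingCat.of A)) ⤳ f (genericPoint X) :=
      (genericPoint_spec _).specializes trivial
    exact (h1.antisymm h2).eq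
  have hξ : x = genericPoint X := by
    have : genericPoint X ∈ f.base ⁻¹' {genericPoint (Spec (CommRingCat.of A))} := hfξ
    rw [hx] at this
    exact this.symm
  subst hξ
  have hst_ξ : Function.Bijective (f.stalkMap (genericPoint X)).hom := by
    refine stalkMap_bijective_of_residueFieldMap f _ (Field.toIsField X.functionField) ?_ hres
    rw [hfξ]
    exact Field.toIsField (Spec (CommRingCat.of A)).functionField
  have hst := stalkMap_bijective A X f hst_ξ
  haveI : ∀ x, IsIso (f.stalkMap x) := fun x =>
    (ConcreteCategory.isIso_iff_bijective _).mpr (hst x)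
  have hinj : Function.Injective f.base := injective_of_stalkMap_bijective f hst
  have hsurj : Function.Surjective f.base := by
    rw [← Set.range_eq_univ]
    have hcl : IsClosed (Set.range f.base) := hf.isClosed_range
    have hmem : genericPoint (Spec (CommRingCat.of A)) ∈ Set.range f.base := ⟨_, hfξ⟩
    have h3 : closure {genericPoint (Spec (CommRingCat.of A))} ⊆ Set.range f.base :=
      hcl.closure_subset_iff.mpr (Set.singleton_subset_iff.mpr hmem)
    rw [(genericPoint_spec (Spec (CommRingCat.of A))).def] at h3
    exact Set.eq_univ_of_univ_subset h3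
  have hemb : Topology.IsOpenEmbedding f.base :=
    ((Equiv.ofBijective f.base ⟨hinj, hsurj⟩).toHomeomorphOfContinuousClosed
      f.continuous hf).isOpenEmbedding
  haveI : IsOpenImmersion f := IsOpenImmersion.of_isIso_stalkMap f hemb
  haveI : Epi f.base := (TopCat.epi_iff_surjective _).mpr hsurj
  exact IsOpenImmersion.isIso f

end Groth.Agent.S2342
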