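import Groth.Statements.S2343
import Groth.Agent.Lib.Helper61.HenselIsolatedScheme

set_option autoImplicit false
universe u
open CategoryTheory CategoryTheory.Limits AlgebraicGeometry
open EGA2

namespace Groth.Agent.S2343

/-- Let A be a complete Noetherian local ring, X a separated scheme locally of finite type over Spec A,
and x a point of X over the closed point which is isolated in its fibre. Then the local ring of X at
x is a finite A-module and the canonical morphism Spec O_{X,x} → X is both an open and a closed
immersion (X is the disjoint sum of Spec O_{X,x} and another open subscheme). -/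
theorem result (A : Type u) [CommRing A] [IsLocalRing A] [IsNoetherianRing A]
    [IsAdicComplete (IsLocalRing.maximalIdeal A) A] (X : Scheme.{u}) (f : X ⟶ Spec (CommRingCat.of A)) [LocallyOfFiniteType f] [IsSeparated f]
    (x : X) (hx : f.base x = IsLocalRing.closedPoint A)
    (hisol : IsOpen ((Subtype.val : (f.base ⁻¹' {IsLocalRing.closedPoint A}) → X) ⁻¹' {x})) :
    ((Scheme.ΓSpecIso (CommRingCat.of A)).inv ≫ f.appTop ≫ X.presheaf.germ ⊤ x trivial).hom.Finite ∧ IsOpenImmersion (X.fromSpecStalk x) ∧ IsClosedImmersion (X.fromSpecStalk x) := by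
  classical
  haveI : HenselianLocalRing A :=
    Groth.Agent.Lib.Helper61.HenselIsolated.henselianLocalRing_of_isAdicComplete A
  have hx' : f x = IsLocalRing.closedPoint A := hx
  have key : ∀ (y' : ↥(Spec (CommRingCat.of A))) (h : f x = y'),
      IsOpen ((Subtype.val : (f ⁻¹' {y'}) → X) ⁻¹' {x}) →
      IsOpen ({⟨x, rfl⟩} : Set (f ⁻¹' {f x})) := by
    intro y' h hop
    subst h
    convert hop using 1
    ext ⟨z, hz⟩
    simp [Subtype.ext_iff]
  have h3 := key _ hx' hisol
  have hq : f.QuasiFiniteAt x := by
    rw [Scheme.Hom.quasiFiniteAt_iff_isOpen_singleton_asFiber,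
      ← (f.fiberHomeo (f x)).isOpen_image]
    simpa only [Set.image_singleton, Scheme.Hom.asFiber, Homeomorph.apply_symm_apply] using h3
  exact Groth.Agent.Lib.Helper61.HenselIsolated.fromSpecStalk_of_quasiFiniteAt A f x hx' hq

end Groth.Agent.S2343
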