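import Groth.Statements.S2347
import Groth.Agent.Lib.Helper7.BiratIso

set_option autoImplicit false
universe u
open CategoryTheory CategoryTheory.Limits AlgebraicGeometry
open EGA2

namespace Groth.Agent.S2347

/-- Let X be an integral normal scheme, X' an integral scheme and g : X' → X an integral morphism. If g
has a rational section (a morphism s from a dense open U of X to X' with g ∘ s the inclusion of U),
then g is an isomorphism. -/
theorem result {X X' : Scheme.{u}} [IsIntegral X] [IsIntegral X'] (hX : Pi1.IsNormalScheme X)
    (g : X' ⟶ X) [IsIntegralHom g] (U : X.Opens) (hU : Dense (U : Set X)) (s : (U : Scheme.{u}) ⟶ X') (hs : s ≫ g = U.ι) :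
    IsIso g := by
  classical
  open Groth.Agent.Lib.Helper7 in
  have hne : Nonempty U := by
    obtain ⟨x, hx⟩ := hU.nonempty
    exact ⟨⟨x, hx⟩⟩
  let x : (U : Scheme.{u}) := genericPoint (U : Scheme.{u})
  have h1 : g (s x) = genericPoint X := by
    have h := congr($hs x)
    rw [Scheme.Hom.comp_apply] at h
    rw [h]
    exact genericPoint_eq_of_isOpenImmersion U.ι
  have h2 : s x = genericPoint X' := NormField.eq_genericPoint_of_isIntegralHom g (s x) h1
  refine BiratIso.isIso_of_isIntegralHom_of_birational' hX g (s x) h2 h1 ?_
  refine BiratIso.bijective_stalkMap_of_comp s g x h2 ?_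
  have h3 : IsIso ((s ≫ g).stalkMap x) := by
    rw [hs]; infer_instance
  exact (ConcreteCategory.isIso_iff_bijective _).mp h3

end Groth.Agent.S2347
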