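import Groth.Statements.S8851
import Groth.Agent.Lib.BlowUp.Helper18_Regular

set_option autoImplicit false
universe u
open CategoryTheory CategoryTheory.Limits AlgebraicGeometry TopologicalSpace
open SDiv

namespace Groth.Agent.S8851

/-- Let X be a reduced scheme, 𝓘 a quasi-coherent ideal sheaf on X and b : X' ⟶ X a blowing up of X in
𝓘. Then X' is reduced. -/
theorem result {X X' : Scheme.{u}} [IsReduced X] (𝓘 : X.IdealSheafData) (b : X' ⟶ X)
    (hb : BlowUp.IsBlowUp b 𝓘) : IsReduced X' := by
  set U₀ : X'.Opens := b ⁻¹ᵁ 𝓘.support.compl with hU₀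
  have hdense : CInt.IsSchematicallyDense U₀ := by
    apply Groth.Agent.Lib.BlowUp.isSchematicallyDense_of_isEffCartierIdeal (𝓘.comap b) hb.1
    intro x hx
    rw [Scheme.IdealSheafData.support_comap] at hx
    exact hx
  refine ⟨fun W => ⟨fun n hn => ?_⟩⟩
  apply hdense W
  rw [map_zero]
  apply Groth.Agent.Lib.QCoh.fn_eq_zero_of_germ_eq_zero
  intro y hy
  rw [TopCat.Presheaf.germ_res_apply]
  have hiso : IsIso (b.stalkMap y) :=
    Groth.Agent.Lib.BlowUp.isIso_stalkMap_of_isBlowUp 𝓘 b hb y hy.2
  have hred : _root_.IsReduced (X'.presheaf.stalk y) := by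
    have hinj : Function.Injective (inv (b.stalkMap y)).hom :=
      (ConcreteCategory.bijective_of_isIso (inv (b.stalkMap y))).1
    exact isReduced_of_injective (inv (b.stalkMap y)).hom hinj
  exact (hn.map (X'.presheaf.germ W y hy.1).hom).eq_zero

end Groth.Agent.S8851
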