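import Groth.Statements.S2348
import Groth.Agent.Lib.BlowUp.Helper18_GenericPts
import Groth.Agent.Lib.QCoh.Helper18_DenseGeneric
import Groth.Agent.S8851

set_option autoImplicit false
universe u
open CategoryTheory CategoryTheory.Limits AlgebraicGeometry
open EGA2

namespace Groth.Agent.S2348

/-- For an ideal of O_Y: let Y be an integral scheme, I a nonzero quasi-coherent ideal sheaf and b : X →
Y a blowing up of Y in I (characterised by its universal property). Then X is integral, b sends the
generic point of X to that of Y and induces a bijection on their residue fields (b is birational).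
The printed statement also asserts that b is surjective; the proof does not show this and it fails
when I is not of finite type, so it is left out. -/
theorem result {X Y : Scheme.{u}} [IsIntegral Y] (I : Y.IdealSheafData) (hI : I ≠ ⊥)
    (b : X ⟶ Y) (hb : BlowUp.IsBlowUp b I) :
    ∃ (_ : IsIntegral X), ∃ hgen : b.base (genericPoint X) = genericPoint Y,
      Function.Bijective (b.residueFieldMap (genericPoint X)).hom := by
  have hred : IsReduced X := Groth.Agent.S8851.result I b hb
  -- the generic point of `Y` is not in the centre
  have hne : I.support ≠ ⊤ := fun h => hI (Scheme.IdealSheafData.support_eq_top_iff.1 h)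
  have hη : genericPoint Y ∉ I.support := by
    intro hmem
    apply hne
    rw [eq_top_iff]
    intro y _
    exact (genericPoint_specializes y).mem_closed I.support.isClosed hmem
  obtain ⟨ξ, hξ⟩ := Groth.Agent.Lib.BlowUp.exists_map_eq_of_notMem_support I b hb _ hη
  set U₀ : X.Opens := b ⁻¹ᵁ I.support.compl with hU₀
  have hdense : Dense (U₀ : Set X) := by
    apply Groth.Agent.Lib.QCoh.dense_of_isSchematicallyDense
    apply Groth.Agent.Lib.BlowUp.isSchematicallyDense_of_isEffCartierIdeal (I.comap b) hb.1
    intro x hx
    rw [Scheme.IdealSheafData.support_comap] at hx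
    exact hx
  have hξU : ∀ x : X, x ∈ U₀ → ξ ⤳ x := by
    intro x hx
    have hsp : genericPoint Y ⤳ b x := genericPoint_specializes _
    obtain ⟨y', hy', hby'⟩ :=
      Groth.Agent.Lib.BlowUp.exists_specializes_of_specializes_map I b hb x hx _ hsp
    have : y' = ξ := Groth.Agent.Lib.BlowUp.eq_of_map_eq_of_notMem_support I b hb y' ξ
      (hby' ▸ hη) (hby'.trans hξ.symm)
    rw [← this]; exact hy'
  have hcl : closure ({ξ} : Set X) = Set.univ := by
    rw [← Set.univ_subset_iff, ← hdense.closure_eq]
    apply closure_minimal _ isClosed_closure
    intro x hx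
    exact (specializes_iff_mem_closure.1 (hξU x hx))
  have hirr : IrreducibleSpace X := by
    have h1 : IsIrreducible (closure ({ξ} : Set X)) := isIrreducible_singleton.closure
    rw [hcl] at h1
    exact (irreducibleSpace_def X).2 h1
  have hint : IsIntegral X := isIntegral_of_irreducibleSpace_of_isReduced X
  have hgenξ : genericPoint X = ξ := by
    have h1 : IsGenericPoint ξ (Set.univ : Set X) := hcl
    have h2 : IsGenericPoint (genericPoint X) (Set.univ : Set X) := by
      simpa using genericPoint_spec X
    exact h2.eq h1
  refine ⟨hint, ?_, ?_⟩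
  · rw [hgenξ]; exact hξ
  · have hns : b (genericPoint X) ∉ I.support := by rw [hgenξ, hξ]; exact hη
    have hiso : IsIso (b.stalkMap (genericPoint X)) :=
      Groth.Agent.Lib.BlowUp.isIso_stalkMap_of_isBlowUp I b hb _ hns
    refine ⟨(b.residueFieldMap (genericPoint X)).hom.injective, ?_⟩
    intro z
    obtain ⟨a, rfl⟩ := X.residue_surjective _ z
    obtain ⟨a₀, rfl⟩ := (ConcreteCategory.bijective_of_isIso (b.stalkMap (genericPoint X))).2 a
    refine ⟨Y.residue _ a₀, ?_⟩
    have := congrArg (fun φ => φ.hom a₀) (Scheme.residue_residueFieldMap b (genericPoint X))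
    exact this

end Groth.Agent.S2348
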