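import Groth.Statements.S2349
import Mathlib.AlgebraicGeometry.PullbackCarrier
-- import your own Groth.Agent.* helpers here

set_option autoImplicit false
universe u
open CategoryTheory CategoryTheory.Limits AlgebraicGeometry
open EGA2

namespace Groth.Agent.S2349

/-- Let f : X → Y be separated and of finite type, and let j_i : X_i → X and h_i : Y_i → Y (i in a
finite index type) be closed immersions with morphisms f_i : X_i → Y_i satisfying j_i ≫ f = f_i ≫
h_i, such that the images of the j_i cover X. Then f is proper if and only if every f_i is proper. -/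
theorem result {X Y : Scheme.{u}} (f : X ⟶ Y) [IsSeparated f] [LocallyOfFiniteType f] [QuasiCompact f]
    (ι : Type u) [Finite ι] (Xi Yi : ι → Scheme.{u}) (j : ∀ i, Xi i ⟶ X) (h : ∀ i, Yi i ⟶ Y) (fi : ∀ i, Xi i ⟶ Yi i)
    [∀ i, IsClosedImmersion (j i)] [∀ i, IsClosedImmersion (h i)] (hcomm : ∀ i, j i ≫ f = fi i ≫ h i)
    (hcov : ∀ x : X, ∃ i, x ∈ Set.range (j i).base) : IsProper f ↔ ∀ i, IsProper (fi i) := by
  constructor
  · intro hf i
    have : IsProper (fi i ≫ h i) := by rw [← hcomm]; infer_instance
    exact IsProper.of_comp (fi i) (h i)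
  · intro hfi
    have hprop : ∀ i, IsProper (j i ≫ f) := fun i => by rw [hcomm]; infer_instance
    have huc : UniversallyClosed f := by
      constructor
      intro X' Y' i₁ i₂ f' H
      have hcl : ∀ i, IsClosedMap (pullback.fst i₁ (j i) ≫ f').base := by
        intro i
        have s : IsPullback (pullback.snd i₁ (j i)) (pullback.fst i₁ (j i)) (j i) i₁ :=
          (IsPullback.of_hasPullback i₁ (j i)).flip
        have sq := s.paste_vert H.flip
        have : UniversallyClosed (pullback.fst i₁ (j i) ≫ f') :=
          MorphismProperty.of_isPullback (P := @UniversallyClosed) sq inferInstance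
        exact (pullback.fst i₁ (j i) ≫ f').isClosedMap
      intro Z hZ
      have hZeq : f'.base '' Z =
          ⋃ i, (pullback.fst i₁ (j i) ≫ f').base '' ((pullback.fst i₁ (j i)).base ⁻¹' Z) := by
        ext y
        simp only [Set.mem_image, Set.mem_iUnion, Set.mem_preimage]
        constructor
        · rintro ⟨x', hx'Z, rfl⟩
          obtain ⟨i, hi⟩ := hcov (i₁.base x')
          have hx'r : x' ∈ Set.range (pullback.fst i₁ (j i)).base := by
            rw [Scheme.Pullback.range_fst]
            exact hi
          obtain ⟨p, rfl⟩ := hx'r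
          exact ⟨i, p, hx'Z, rfl⟩
        · rintro ⟨i, p, hpZ, rfl⟩
          exact ⟨_, hpZ, rfl⟩
      rw [hZeq]
      exact isClosed_iUnion_of_finite fun i =>
        hcl i _ (hZ.preimage (pullback.fst i₁ (j i)).continuous)
    exact { }

end Groth.Agent.S2349
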