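import Groth.Statements.S2350
import Groth.Agent.Lib.Ample.GenLocus
import Groth.Agent.Lib.Helper56.ParaFLocal

set_option autoImplicit false
universe u
open CategoryTheory CategoryTheory.Limits AlgebraicGeometry
open EGA2

namespace Groth.Agent.S2350

/-- Let X be a scheme, L an invertible O_X-module and s a global section of L. Then the inclusion of the
open X_s (where s generates L) into X is an affine morphism. -/
theorem result (X : Scheme.{u}) (L : X.Modules) (hL : PicF.IsInvertible L) (s : Coh.structureModule X ⟶ L) :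
    IsAffineHom (CohB1.genLocus L s).ι := by
  refine isAffineHom_of_forall_exists_isAffineOpen _ fun x => ?_
  obtain ⟨T, hxT, ⟨i⟩⟩ := hL x
  obtain ⟨U, hU, hxU, hUT⟩ : ∃ U : X.Opens, U ∈ X.affineOpens ∧ x ∈ U ∧ U ≤ T :=
    (TopologicalSpace.Opens.isBasis_iff_nbhd.1 X.isBasis_affineOpens) hxT
  have hUaff : IsAffineOpen U := hU
  let i' := Groth.Agent.Lib.Helper56.ParaF.restrictIsoUnitOfLE L hUT i
  have h1 : U.ι ⁻¹ᵁ (CohB1.genLocus L s) = (U : Scheme.{u}).basicOpen
      (Groth.Agent.Lib.Ample.fnOf (Groth.Agent.Lib.Ample.restrictSec s U ≫ i'.hom)) := by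
    rw [← Groth.Agent.Lib.Ample.genLocus_restrictSec,
      ← Groth.Agent.Lib.Ample.genLocus_comp_iso (Groth.Agent.Lib.Ample.restrictSec s U) i',
      Groth.Agent.Lib.Ample.genLocus_unit]
  have hUsch : IsAffine (U : Scheme.{u}) := hUaff
  have h2 : IsAffineOpen (U.ι ⁻¹ᵁ (CohB1.genLocus L s)) := by
    rw [h1]; exact (isAffineOpen_top _).basicOpen _
  have h3 : IsAffineOpen (U.ι ''ᵁ (U.ι ⁻¹ᵁ (CohB1.genLocus L s))) :=
    h2.image_of_isOpenImmersion U.ι
  have h4 : (CohB1.genLocus L s).ι ''ᵁ ((CohB1.genLocus L s).ι ⁻¹ᵁ U) =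
      U.ι ''ᵁ (U.ι ⁻¹ᵁ (CohB1.genLocus L s)) := by
    rw [Scheme.Hom.image_preimage_eq_opensRange_inf, Scheme.Hom.image_preimage_eq_opensRange_inf,
      Scheme.Opens.opensRange_ι, Scheme.Opens.opensRange_ι, inf_comm]
  refine ⟨U, hxU, hUaff, ?_⟩
  rw [← (CohB1.genLocus L s).ι.isAffineOpen_iff_of_isOpenImmersion, h4]
  exact h3

end Groth.Agent.S2350
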