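import Groth.Statements.S2353
import Groth.Agent.Lib.Helper25.ValCenterUC

set_option autoImplicit false
universe u
open CategoryTheory CategoryTheory.Limits AlgebraicGeometry
open EGA2

namespace Groth.Agent.S2353

section Helpers

set_option linter.style.haveILetI false

open Groth.Agent.Lib.Helper25.ValCenter IsLocalRing

theorem dvrLiftAt_generic {X Y : Scheme.{u}} [IsIntegral X] [Y.IsSeparated] (f : X ⟶ Y)
    (h : ∀ (R : ValuationSubring X.functionField), IsDiscreteValuationRing R →
      ∀ (y : Y) (hy : f.base (genericPoint X) ⤳ y), ((∀ a : (Y.presheaf.stalk y), (Y.presheaf.stalkSpecializes hy ≫ f.stalkMap (genericPoint X)).hom a ∈ R) ∧ ∀ a ∈ IsLocalRing.maximalIdeal (Y.presheaf.stalk y), R.valuation ((Y.presheaf.stalkSpecializes hy ≫ f.stalkMap (genericPoint X)).hom a) < 1) →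
        ∃ x : X, ((∀ a : (X.presheaf.stalk x), algebraMap (X.presheaf.stalk x) X.functionField a ∈ R) ∧ ∀ a ∈ IsLocalRing.maximalIdeal (X.presheaf.stalk x), R.valuation (algebraMap (X.presheaf.stalk x) X.functionField a) < 1)) :
    DVRLiftAt (𝟙 X) f (genericPoint X) := by
  intro A hA y hy
  let ξ : X := genericPoint X
  let K : Type u := X.functionField
  let res : K →+* X.residueField ξ := (X.residue ξ).hom
  have hresinj : Function.Injective res := res.injective
  have hressurj : Function.Surjective res := Ideal.Quotient.mk_surjective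
  let R : ValuationSubring K := A.comap res
  let e₀ : R →+* A := (res.comp R.subtype).codRestrict A.toSubring (fun r => r.2)
  have he₀ : Function.Bijective e₀ := by
    constructor
    · intro a b hab
      have h1 : res a.1 = res b.1 := congrArg Subtype.val hab
      exact Subtype.ext (hresinj h1)
    · intro a
      obtain ⟨k, hk⟩ := hressurj a.1
      exact ⟨⟨k, by show res k ∈ A; rw [hk]; exact a.2⟩, Subtype.ext hk⟩
  let e : R ≃+* A := RingEquiv.ofBijective e₀ he₀
  have hRdvr : IsDiscreteValuationRing R := IsDiscreteValuationRing.RingEquivClass.isDiscreteValuationRing e.symm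
  let y₀ : Y := y (closedPoint A)
  let ψ : Y.presheaf.stalk y₀ ⟶ CommRingCat.of A := Scheme.stalkClosedPointTo y
  have hψ : Spec.map ψ ≫ Y.fromSpecStalk y₀ = y := Scheme.Spec_stalkClosedPointTo_fromSpecStalk y
  have hgen : y (Spec.map (CommRingCat.ofHom A.subtype) (closedPoint (X.residueField ξ))) =
      f ξ := by
    have h2 := congr(($hy).base (closedPoint (X.residueField ξ)))
    refine h2.trans ?_
    exact congrArg (𝟙 X ≫ f) (Scheme.fromSpecResidueField_apply ξ _)
  have hsp : f ξ ⤳ y₀ := by
    rw [← hgen]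
    exact (specializes_closedPoint _).map y.continuous
  let φ : Y.presheaf.stalk y₀ ⟶ X.functionField := Y.presheaf.stalkSpecializes hsp ≫ f.stalkMap ξ
  have key : φ ≫ X.residue ξ = ψ ≫ CommRingCat.ofHom A.subtype := by
    apply Spec.map_injective
    rw [← cancel_mono (Y.fromSpecStalk y₀)]
    have h1 : Spec.map (φ ≫ X.residue ξ) ≫ Y.fromSpecStalk y₀ = X.fromSpecResidueField ξ ≫ f := by
      rw [fromSpecResidueField_comp_eq f ξ y₀ hsp]
      simp only [φ, Category.assoc]
    have h2 : Spec.map (ψ ≫ CommRingCat.ofHom A.subtype) ≫ Y.fromSpecStalk y₀ =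
        X.fromSpecResidueField ξ ≫ f := by
      rw [Spec.map_comp, Category.assoc, hψ, hy, Category.id_comp]
    rw [h1, h2]
  have key' : ∀ a, res (φ.hom a) = ((ψ.hom a : A) : X.residueField ξ) := fun a =>
    congr($(key).hom a)
  have hφR : ∀ a, φ.hom a ∈ R := by
    intro a
    show res (φ.hom a) ∈ A
    rw [key']
    exact (ψ.hom a).2
  have hφm : ∀ a ∈ IsLocalRing.maximalIdeal (Y.presheaf.stalk y₀), R.valuation (φ.hom a) < 1 := by
    intro a ha
    have h1 : (⟨φ.hom a, hφR a⟩ : R) ∈ IsLocalRing.maximalIdeal R := by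
      rw [IsLocalRing.mem_maximalIdeal, mem_nonunits_iff]
      intro hu
      have h2 : IsUnit (e ⟨φ.hom a, hφR a⟩) := hu.map e
      have h3 : e ⟨φ.hom a, hφR a⟩ = ψ.hom a := Subtype.ext (key' a)
      rw [h3] at h2
      exact ha ((isUnit_map_iff ψ.hom a).mp h2)
    exact (R.valuation_lt_one_iff ⟨φ.hom a, hφR a⟩).mp h1
  obtain ⟨x, hx1, -⟩ := h R hRdvr y₀ hsp ⟨hφR, hφm⟩
  have hξx : ξ ⤳ x := (genericPoint_spec X).specializes trivial
  let σ : X.presheaf.stalk x ⟶ X.functionField := X.presheaf.stalkSpecializes hξx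
  have hσ : ∀ a, res (σ.hom a) ∈ A := fun a => hx1 a
  let θ : X.presheaf.stalk x ⟶ CommRingCat.of A :=
    CommRingCat.ofHom ((res.comp σ.hom).codRestrict A.toSubring hσ)
  have hθ : θ ≫ CommRingCat.ofHom A.subtype = σ ≫ X.residue ξ := by
    ext a; rfl
  have hl1 : Spec.map (CommRingCat.ofHom A.subtype) ≫ Spec.map θ ≫ X.fromSpecStalk x =
      X.fromSpecResidueField ξ := by
    rw [← Category.assoc, ← Spec.map_comp, hθ, Spec.map_comp, Category.assoc,
      Scheme.SpecMap_stalkSpecializes_fromSpecStalk hξx]
    rfl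
  refine ⟨Spec.map θ ≫ X.fromSpecStalk x, ?_, by rw [hl1, Category.comp_id]⟩
  have hdom : IsDominant (Spec.map (CommRingCat.ofHom A.subtype)) :=
    isDominant_specMap_of_injective _ Subtype.val_injective
  refine ext_of_isDominant (Spec.map (CommRingCat.ofHom A.subtype)) ?_
  rw [hy, Category.id_comp, ← Category.assoc, ← Category.assoc, Category.assoc _ (Spec.map θ), hl1]

theorem main2353 {X Y : Scheme.{u}} [IsIntegral X] [X.IsSeparated] [Y.IsSeparated]
    [IsLocallyNoetherian Y] (f : X ⟶ Y) [LocallyOfFiniteType f] [QuasiCompact f]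
    (h : ∀ (R : ValuationSubring X.functionField), IsDiscreteValuationRing R →
      ∀ (y : Y) (hy : f.base (genericPoint X) ⤳ y), ((∀ a : (Y.presheaf.stalk y), (Y.presheaf.stalkSpecializes hy ≫ f.stalkMap (genericPoint X)).hom a ∈ R) ∧ ∀ a ∈ IsLocalRing.maximalIdeal (Y.presheaf.stalk y), R.valuation ((Y.presheaf.stalkSpecializes hy ≫ f.stalkMap (genericPoint X)).hom a) < 1) →
        ∃ x : X, ((∀ a : (X.presheaf.stalk x), algebraMap (X.presheaf.stalk x) X.functionField a ∈ R) ∧ ∀ a ∈ IsLocalRing.maximalIdeal (X.presheaf.stalk x), R.valuation (algebraMap (X.presheaf.stalk x) X.functionField a) < 1)) :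
    IsProper f := by
  have hsep : IsSeparated f := inferInstance
  have huc : UniversallyClosed f := by
    apply universallyClosed_of_dvrLiftAt_generic
    intro η hη
    have hηgen : η = genericPoint X := by
      rw [irreducibleComponents_eq_singleton, Set.mem_singleton_iff] at hη
      have h1 : IsGenericPoint η (Set.univ : Set X) := hη
      exact h1.eq (genericPoint_spec X)
    subst hηgen
    exact dvrLiftAt_generic f h
  exact { }

end Helpers

/-- Let Y be an integral separated locally Noetherian scheme, X an integral separated scheme and f : X →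
Y dominant and of finite type, with generic point ξ of X. Suppose that for every discrete valuation
subring R of the function field K(X) and every point y of Y such that R dominates the local ring
O_{Y,y} (through O_{Y,y} → O_{Y,f(ξ)} → K(X): the image lies in R and the maximal ideal maps into
the maximal ideal of R), there is a point x of X whose local ring is dominated by R (through O_{X,x}
→ K(X)). Then f is proper. -/
theorem result {X Y : Scheme.{u}} [IsIntegral X] [IsIntegral Y] [X.IsSeparated] [Y.IsSeparated]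
    [IsLocallyNoetherian Y] (f : X ⟶ Y) [IsDominant f] [LocallyOfFiniteType f] [QuasiCompact f]
    (h : ∀ (R : ValuationSubring X.functionField), IsDiscreteValuationRing R →
      ∀ (y : Y) (hy : f.base (genericPoint X) ⤳ y), ((∀ a : (Y.presheaf.stalk y), (Y.presheaf.stalkSpecializes hy ≫ f.stalkMap (genericPoint X)).hom a ∈ R) ∧ ∀ a ∈ IsLocalRing.maximalIdeal (Y.presheaf.stalk y), R.valuation ((Y.presheaf.stalkSpecializes hy ≫ f.stalkMap (genericPoint X)).hom a) < 1) →
        ∃ x : X, ((∀ a : (X.presheaf.stalk x), algebraMap (X.presheaf.stalk x) X.functionField a ∈ R) ∧ ∀ a ∈ IsLocalRing.maximalIdeal (X.presheaf.stalk x), R.valuation (algebraMap (X.presheaf.stalk x) X.functionField a) < 1)) :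
    IsProper f := by
  exact main2353 f h

end Groth.Agent.S2353
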