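import Groth.Statements.S3842
-- import your own Groth.Agent.* helpers here

set_option autoImplicit false
universe u
open CategoryTheory CategoryTheory.Limits AlgebraicGeometry TopologicalSpace
open Rat20

namespace Groth.Agent.S3842


lemma inter_nonempty_of_dense_of_locallyFinite {X : Type*} [TopologicalSpace X]
    (hfin : ∀ x : X, ∃ W : Set X, IsOpen W ∧ x ∈ W ∧
      {Z ∈ irreducibleComponents X | (Z ∩ W).Nonempty}.Finite)
    (V : Set X) (hV : Dense V) (Z : Set X) (hZ : Z ∈ irreducibleComponents X) :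
    (Z ∩ V).Nonempty := by
  classical
  obtain ⟨x, hx⟩ := hZ.1.nonempty
  obtain ⟨W, hWo, hxW, hWfin⟩ := hfin x
  set F : Set (Set X) := {Z' ∈ irreducibleComponents X | (Z' ∩ W).Nonempty} \ {Z} with hF
  have hFfin : F.Finite := hWfin.subset Set.diff_subset
  have hFclosed : ∀ z ∈ F, IsClosed z := fun z hz =>
    isClosed_of_mem_irreducibleComponents z hz.1.1
  have hnot : ¬ (Z ∩ W ⊆ ⋃₀ F) := by
    intro hsub
    obtain ⟨z, hz, hZz⟩ := (isIrreducible_iff_sUnion_isClosed.mp hZ.1)
      (insert Wᶜ hFfin.toFinset) (by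
        intro z hz
        rw [Finset.mem_insert] at hz
        rcases hz with rfl | hz
        · exact hWo.isClosed_compl
        · exact hFclosed z (hFfin.mem_toFinset.mp hz)) (by
        intro y hy
        by_cases hyW : y ∈ W
        · obtain ⟨z, hz, hyz⟩ := hsub ⟨hy, hyW⟩
          exact ⟨z, by simp [hz], hyz⟩
        · exact ⟨Wᶜ, by simp, hyW⟩)
    rw [Finset.mem_insert] at hz
    rcases hz with rfl | hz
    · exact hZz hx hxW
    · have hzF : z ∈ F := hFfin.mem_toFinset.mp hz
      have : z = Z := le_antisymm (hZ.2 hzF.1.1.1 hZz) hZz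
      exact hzF.2 this
  rw [Set.not_subset] at hnot
  obtain ⟨z, ⟨hzZ, hzW⟩, hzF⟩ := hnot
  have hUc : IsClosed (⋃₀ F) := by
    rw [Set.sUnion_eq_biUnion]
    exact hFfin.isClosed_biUnion hFclosed
  have hO : IsOpen (W ∩ (⋃₀ F)ᶜ) := hWo.inter hUc.isOpen_compl
  have hOZ : W ∩ (⋃₀ F)ᶜ ⊆ Z := by
    rintro y ⟨hyW, hyF⟩
    by_contra hyZ
    apply hyF
    refine ⟨irreducibleComponent y, ⟨⟨irreducibleComponent_mem_irreducibleComponents y,
      ⟨y, mem_irreducibleComponent, hyW⟩⟩, ?_⟩, mem_irreducibleComponent⟩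
    intro h
    rw [Set.mem_singleton_iff] at h
    exact hyZ (h ▸ mem_irreducibleComponent)
  obtain ⟨y, hyO, hyV⟩ := hV.inter_open_nonempty _ hO ⟨z, hzW, hzF⟩
  exact ⟨y, hOZ hyO, hyV⟩

/-- a schematically dense open is dense -/
lemma dense_of_isSchematicallyDense {X : Scheme.{u}} (V : X.Opens)
    (hV : CInt.IsSchematicallyDense V) : Dense (V : Set X) := by
  rw [dense_iff_inter_open]
  intro W hW hne
  by_contra hemp
  rw [Set.not_nonempty_iff_eq_empty] at hemp
  let W' : X.Opens := ⟨W, hW⟩
  have hbot : W' ⊓ V = ⊥ := by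
    ext x
    simp only [Opens.coe_inf, Opens.coe_bot, Set.mem_empty_iff_false, iff_false]
    intro hx
    have : x ∈ W ∩ (V : Set X) := hx
    rw [hemp] at this
    exact this
  have hinj := hV W'
  have h0 : (1 : Γ(X, W')) = 0 := by
    apply hinj
    have : Subsingleton Γ(X, W' ⊓ V) := by
      rw [hbot]
      infer_instance
    exact Subsingleton.elim _ _
  have h1 : X.basicOpen (1 : Γ(X, W')) = W' := X.basicOpen_of_isUnit isUnit_one
  rw [h0, Scheme.basicOpen_zero] at h1
  obtain ⟨x, hx⟩ := hne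
  have : x ∈ (⊥ : X.Opens) := by rw [h1]; exact hx
  exact this

/-- a dense open of a reduced scheme is schematically dense -/
lemma isSchematicallyDense_of_dense {X : Scheme.{u}} [IsReduced X] (U : X.Opens)
    (hU : Dense (U : Set X)) : CInt.IsSchematicallyDense U := by
  intro V
  rw [injective_iff_map_eq_zero]
  intro s hs
  apply eq_zero_of_basicOpen_eq_bot
  have h1 : X.basicOpen ((X.presheaf.map (homOfLE (inf_le_left : V ⊓ U ≤ V)).op).hom s) =
      (V ⊓ U) ⊓ X.basicOpen s := Scheme.basicOpen_res _ _ _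
  rw [hs, Scheme.basicOpen_zero] at h1
  by_contra hne
  have hne' : (X.basicOpen s : Set X).Nonempty := by
    rw [Set.nonempty_iff_ne_empty]
    intro h
    apply hne
    ext x
    simp only [Opens.coe_bot, Set.mem_empty_iff_false, iff_false]
    intro hx
    have : x ∈ (X.basicOpen s : Set X) := hx
    rw [h] at this
    exact this
  obtain ⟨x, hxs, hxU⟩ := hU.inter_open_nonempty _ (X.basicOpen s).isOpen hne'
  have : x ∈ (V ⊓ U) ⊓ X.basicOpen s := ⟨⟨X.basicOpen_le s hxs, hxU⟩, hxs⟩
  rw [← h1] at this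
  exact this


/-- For the open subset U = X; the general case is the same statement over the open subscheme U: let f :
X' → X be a morphism of schemes with X' reduced, suppose the irreducible components of X form a
locally finite family and that every irreducible component of X' dominates an irreducible component
of X (the closure of its image is an irreducible component of X). Then for every schematically dense
open subset V of X, the preimage f⁻¹(V) is schematically dense in X'. -/
theorem result {X X' : Scheme.{u}} (f : X' ⟶ X) [IsReduced X']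
    (hfin : ∀ x : ↥X, ∃ W : X.Opens, x ∈ W ∧ {Z ∈ irreducibleComponents ↥X | (Z ∩ (W : Set ↥X)).Nonempty}.Finite)
    (hdom : ∀ Z' ∈ irreducibleComponents ↥X', closure (f '' Z') ∈ irreducibleComponents ↥X)
    (V : X.Opens) (hV : CInt.IsSchematicallyDense V) : CInt.IsSchematicallyDense (f ⁻¹ᵁ V) := by
  apply isSchematicallyDense_of_dense
  have hVd := dense_of_isSchematicallyDense V hV
  have hfin' : ∀ x : X, ∃ W : Set X, IsOpen W ∧ x ∈ W ∧
      {Z ∈ irreducibleComponents X | (Z ∩ W).Nonempty}.Finite := by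
    intro x
    obtain ⟨W, hxW, hW⟩ := hfin x
    exact ⟨W, W.isOpen, hxW, hW⟩
  rw [dense_iff_inter_open]
  intro N hN ⟨x', hx'⟩
  set Z' := irreducibleComponent x' with hZ'
  have hZ'mem : Z' ∈ irreducibleComponents X' := irreducibleComponent_mem_irreducibleComponents x'
  obtain ⟨y, hyZ, hyV⟩ := inter_nonempty_of_dense_of_locallyFinite hfin' V hVd _ (hdom Z' hZ'mem)
  -- V meets closure (f '' Z') hence f '' Z'
  obtain ⟨_, hzV, ⟨z', hz'Z, rfl⟩⟩ := mem_closure_iff.mp hyZ V V.isOpen hyV
  have hpre : IsPreirreducible Z' := hZ'mem.1.isPreirreducible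
  obtain ⟨w, hwZ, hwN, hwV⟩ := hpre N (f ⁻¹ᵁ V : X'.Opens) hN (f ⁻¹ᵁ V).isOpen
    ⟨x', mem_irreducibleComponent, hx'⟩ ⟨z', hz'Z, hzV⟩
  exact ⟨w, hwN, hwV⟩


end Groth.Agent.S3842
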