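import Groth.Statements.S5104
-- import your own Groth.Agent.* helpers here
import Groth.Agent.Lib.Helper67.PseudoMor

set_option autoImplicit false
universe u
open CategoryTheory CategoryTheory.Limits AlgebraicGeometry TopologicalSpace
open Rat20

namespace Groth.Agent.S5104

open Groth.Agent.Lib.Helper67.PseudoMor

/-- Let X be an S-scheme which is locally Noetherian, or reduced with locally finite set of irreducible
components; let Y be separated and locally of finite presentation over S, U a schematically dense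
open subset of X, h : U → Y an S-morphism (a pseudo-S-morphism ω of X into Y) and x a point of X.
Then ω is defined at x — some S-morphism from an open neighbourhood V of x to Y agrees with h on U ∩
V — if and only if the restriction of ω to Spec O_{X,x} is everywhere defined — some S-morphism Spec
O_{X,x} → Y agrees with h after pulling back to Spec O_{X,x} ×_X U. (The published statement does
not assume Y separated over S and compares morphisms only on some schematically dense open; this row
assumes Y separated over S, where the two readings agree.) -/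
theorem result {X Y S : Scheme.{u}} (pX : X ⟶ S) (pY : Y ⟶ S)
    [IsSeparated pY] [LocallyOfFinitePresentation pY]
    (hX : IsLocallyNoetherian X ∨ (IsReduced X ∧ ∀ x : ↥X, ∃ W : X.Opens, x ∈ W ∧
      {Z : Set ↥X | Z ∈ irreducibleComponents ↥X ∧ (Z ∩ (W : Set ↥X)).Nonempty}.Finite))
    (U : X.Opens) (hU : CInt.IsSchematicallyDense U) (h : (U : Scheme.{u}) ⟶ Y) (hh : h ≫ pY = U.ι ≫ pX)
    (x : ↥X) :
    (∃ (V : X.Opens) (v : (V : Scheme.{u}) ⟶ Y), x ∈ V ∧ v ≫ pY = V.ι ≫ pX ∧
        X.homOfLE (inf_le_right : U ⊓ V ≤ V) ≫ v = X.homOfLE (inf_le_left : U ⊓ V ≤ U) ≫ h) ↔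
      ∃ w : Spec (X.presheaf.stalk x) ⟶ Y, w ≫ pY = X.fromSpecStalk x ≫ pX ∧
        pullback.fst (X.fromSpecStalk x) U.ι ≫ w = pullback.snd (X.fromSpecStalk x) U.ι ≫ h := by
  constructor
  · rintro ⟨V, v, hxV, hv, hvh⟩
    refine ⟨V.fromSpecStalkOfMem x hxV ≫ v, ?_, ?_⟩
    · rw [Category.assoc, hv, ← Category.assoc, Scheme.Opens.fromSpecStalkOfMem_ι]
    · -- the pullback maps to `U ⊓ V`
      set π₁ := pullback.fst (X.fromSpecStalk x) U.ι with hπ₁
      set π₂ := pullback.snd (X.fromSpecStalk x) U.ι with hπ₂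
      have hc : π₁ ≫ X.fromSpecStalk x = π₂ ≫ U.ι := pullback.condition
      have hsub : Set.range (π₂ ≫ U.ι) ⊆ Set.range (U ⊓ V).ι := by
        rintro _ ⟨t, rfl⟩
        rw [Scheme.Opens.range_ι]
        refine ⟨?_, ?_⟩
        · rw [Scheme.Hom.comp_apply]
          exact (π₂ t).2
        · rw [← hc, Scheme.Hom.comp_apply]
          have : X.fromSpecStalk x (π₁ t) ∈ Set.range (X.fromSpecStalk x) := ⟨_, rfl⟩
          rw [Scheme.range_fromSpecStalk] at this
          exact this.mem_open V.isOpen hxV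
      let k := IsOpenImmersion.lift (U ⊓ V).ι (π₂ ≫ U.ι) hsub
      have hk : k ≫ (U ⊓ V).ι = π₂ ≫ U.ι := IsOpenImmersion.lift_fac _ _ _
      have hk1 : k ≫ X.homOfLE (inf_le_left : U ⊓ V ≤ U) = π₂ := by
        rw [← cancel_mono U.ι, Category.assoc, Scheme.homOfLE_ι, hk]
      have hk2 : k ≫ X.homOfLE (inf_le_right : U ⊓ V ≤ V) = π₁ ≫ V.fromSpecStalkOfMem x hxV := by
        rw [← cancel_mono V.ι, Category.assoc, Scheme.homOfLE_ι, hk, Category.assoc,
          Scheme.Opens.fromSpecStalkOfMem_ι, hc]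
      rw [← Category.assoc, ← hk2, Category.assoc, hvh, ← Category.assoc, hk1]
  · rintro ⟨w, hw, hwP⟩
    haveI : X.IsGermInjectiveAt x := by
      rcases hX with hN | ⟨hred, hfin⟩
      · haveI := hN; infer_instance
      · haveI := hred; exact isGermInjectiveAt_of_isReduced x (hfin x)
    obtain ⟨V, hxV, v, hv1, hv2⟩ := spread_out_of_isGermInjective' pX pY w hw
    have hP : pullback.fst (X.fromSpecStalk x) U.ι ≫ V.fromSpecStalkOfMem x hxV ≫ v =
        pullback.snd (X.fromSpecStalk x) U.ι ≫ h := by rw [← hv1]; exact hwP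
    rcases hX with hN | ⟨hred, hfin⟩
    · haveI := hN
      obtain ⟨V', hxV', hV'⟩ := exists_nhd_agree_of_isLocallyNoetherian (U ⊓ V)
        (X.homOfLE (inf_le_right : U ⊓ V ≤ V) ≫ v) (X.homOfLE (inf_le_left : U ⊓ V ≤ U) ≫ h) x
        (fun z hz => agree_on_fromSpecStalk U V h v x hxV hP z hz)
      refine ⟨V ⊓ V', X.homOfLE inf_le_left ≫ v, ⟨hxV, hxV'⟩, ?_, ?_⟩
      · rw [Category.assoc, hv2, ← Category.assoc, Scheme.homOfLE_ι]
      · have hle : U ⊓ (V ⊓ V') ≤ U ⊓ V := inf_le_inf_left U inf_le_left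
        have := hV' (U ⊓ (V ⊓ V')) hle (inf_le_right.trans inf_le_right)
        simp only [Scheme.homOfLE_homOfLE_assoc] at this
        rw [Scheme.homOfLE_homOfLE_assoc]
        exact this
    · haveI := hred
      obtain ⟨W₁, hxW₁, hW₁⟩ := exists_open_nhd_common_generization x (hfin x)
      have hxV'' : x ∈ V ⊓ W₁ := ⟨hxV, hxW₁⟩
      have hdense := dense_generizations x W₁ hW₁ (U ⊓ (V ⊓ W₁)) (inf_le_right.trans inf_le_right)
      have hP'' : pullback.fst (X.fromSpecStalk x) U.ι ≫ (V ⊓ W₁).fromSpecStalkOfMem x hxV'' ≫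
          X.homOfLE (inf_le_left : V ⊓ W₁ ≤ V) ≫ v = pullback.snd (X.fromSpecStalk x) U.ι ≫ h := by
        rw [← Category.assoc ((V ⊓ W₁).fromSpecStalkOfMem x hxV''), fromSpecStalkOfMem_homOfLE]
        exact hP
      refine ⟨V ⊓ W₁, X.homOfLE inf_le_left ≫ v, hxV'', ?_, ?_⟩
      · rw [Category.assoc, hv2, ← Category.assoc, Scheme.homOfLE_ι]
      · haveI : IsReduced ((U ⊓ (V ⊓ W₁) : X.Opens) : Scheme.{u}) :=
          isReduced_of_isOpenImmersion (U ⊓ (V ⊓ W₁)).ι
        refine ext_of_fromSpecResidueField_eq _ _ pY _ hdense ?_ ?_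
        · intro z hz
          have := agree_on_fromSpecStalk U (V ⊓ W₁) h (X.homOfLE inf_le_left ≫ v) x hxV'' hP'' z hz
          rw [Scheme.fromSpecResidueField, Category.assoc, Category.assoc, this]
        · rw [Category.assoc, Category.assoc, Category.assoc, hv2, hh, ← Category.assoc,
            ← Category.assoc, ← Category.assoc, Scheme.homOfLE_homOfLE, Scheme.homOfLE_ι,
            Scheme.homOfLE_ι]


end Groth.Agent.S5104
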