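import Groth.Statements.S6559
-- import your own Groth.Agent.* helpers here
import Mathlib
import Groth.Agent.S5104
import Groth.Agent.S3842
import Groth.Agent.Lib.Helper67.ExtendVal

set_option autoImplicit false
universe u
open CategoryTheory CategoryTheory.Limits AlgebraicGeometry
open Curves

namespace Groth.Agent.S6559

open CategoryTheory.Limits

lemma isDominant_of_specializes {W P : Scheme.{u}} (ι : W ⟶ P) (w₀ : W)
    (h : ∀ p : P, ι w₀ ⤳ p) : IsDominant ι := by
  refine ⟨fun p => ?_⟩
  have h1 : p ∈ closure ({ι w₀} : Set P) := specializes_iff_mem_closure.mp (h p)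
  exact closure_mono (Set.singleton_subset_iff.mpr (Set.mem_range_self w₀)) h1

/-- a map from the spectrum of a field to an open subscheme of `Spec R`, `R` a domain, hitting the
generic point, is dominant -/
lemma isDominant_of_fractionRing {R K : Type u} [CommRing R] [IsDomain R] [Field K] [Algebra R K]
    [IsFractionRing R K] {P : Scheme.{u}} (j : P ⟶ Spec (CommRingCat.of R)) [IsOpenImmersion j]
    (ι : Spec (CommRingCat.of K) ⟶ P)
    (hι : ι ≫ j = Spec.map (CommRingCat.ofHom (algebraMap R K))) : IsDominant ι := by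
  let w₀ : Spec (CommRingCat.of K) := IsLocalRing.closedPoint K
  apply isDominant_of_specializes ι w₀
  intro p
  rw [← j.isOpenEmbedding.isInducing.specializes_iff, ← Scheme.Hom.comp_apply, hι]
  refine (PrimeSpectrum.le_iff_specializes
    (x := ((Spec.map (CommRingCat.ofHom (algebraMap R K))) w₀ : PrimeSpectrum R))
    (y := (j p : PrimeSpectrum R))).mp ?_
  intro r hr
  have hr' : algebraMap R K r ∈ (IsLocalRing.closedPoint K).asIdeal := hr
  change algebraMap R K r ∈ IsLocalRing.maximalIdeal K at hr'
  rw [IsLocalRing.mem_maximalIdeal, mem_nonunits_iff, isUnit_iff_ne_zero, not_not] at hr'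
  have : r = 0 := (IsFractionRing.injective R K) (by rw [hr', map_zero])
  rw [this]
  exact Ideal.zero_mem _

theorem aux (k : Type u) [Field k]
    (X Y : Scheme.{u}) (pX : X ⟶ Spec (CommRingCat.of k)) (pY : Y ⟶ Spec (CommRingCat.of k))
    [IsIntegral X] [LocallyOfFiniteType pX]
    [IsProper pY]
    (U : X.Opens) (hU : (U : Set X).Nonempty) (f : (U : Scheme.{u}) ⟶ Y) (hf : f ≫ pY = U.ι ≫ pX)
    (x : X) (hdvr : IsDiscreteValuationRing (X.presheaf.stalk x)) :
    ∃ (U' : X.Opens) (hUU' : U ≤ U') (f' : (U' : Scheme.{u}) ⟶ Y), x ∈ U' ∧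
      f' ≫ pY = U'.ι ≫ pX ∧ X.homOfLE hUU' ≫ f' = f := by
  haveI : IsLocallyNoetherian (Spec (CommRingCat.of k)) := inferInstance
  haveI : IsLocallyNoetherian X := LocallyOfFiniteType.isLocallyNoetherian pX
  haveI : LocallyOfFinitePresentation pY := inferInstance
  have hηU : genericPoint X ∈ U :=
    ((genericPoint_spec X).mem_open_set_iff U.isOpen).mpr (by simpa using hU)
  have hUd : Dense (U : Set X) := U.isOpen.dense hU
  have hUsd := Groth.Agent.S3842.isSchematicallyDense_of_dense U hUd
  -- the valuative square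
  have hcomm : (U.fromSpecStalkOfMem (genericPoint X) hηU ≫ f) ≫ pY =
      Spec.map (CommRingCat.ofHom (algebraMap (X.presheaf.stalk x) X.functionField)) ≫
        (X.fromSpecStalk x ≫ pX) := by
    rw [Category.assoc, hf, ← Category.assoc, Scheme.Opens.fromSpecStalkOfMem_ι, ← Category.assoc]
    congr 1
    exact (Scheme.SpecMap_stalkSpecializes_fromSpecStalk
      ((genericPoint_spec X).specializes trivial)).symm
  haveI hdom : IsDomain (X.presheaf.stalk x) := inferInstance
  haveI hval : ValuationRing (X.presheaf.stalk x) := inferInstance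
  let sq : ValuativeCommSq pY :=
    { R := X.presheaf.stalk x
      commRing := inferInstance
      domain := hdom
      valuationRing := hval
      K := X.functionField
      i₁ := U.fromSpecStalkOfMem (genericPoint X) hηU ≫ f
      i₂ := X.fromSpecStalk x ≫ pX
      commSq := ⟨hcomm⟩ }
  have hex : ValuativeCriterion.Existence pY := by
    have h : UniversallyClosed pY := inferInstance
    rw [UniversallyClosed.eq_valuativeCriterion] at h
    exact h.1
  obtain ⟨⟨l, hl1, hl2⟩⟩ := (hex sq).exists_lift
  change Spec.map (CommRingCat.ofHom (algebraMap (X.presheaf.stalk x) X.functionField)) ≫ l =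
    U.fromSpecStalkOfMem (genericPoint X) hηU ≫ f at hl1
  change l ≫ pY = X.fromSpecStalk x ≫ pX at hl2
  -- agreement on the pullback
  have hw2 : pullback.fst (X.fromSpecStalk x) U.ι ≫ l =
      pullback.snd (X.fromSpecStalk x) U.ι ≫ f := by
    have hc : Spec.map (CommRingCat.ofHom (algebraMap (X.presheaf.stalk x) X.functionField)) ≫
        X.fromSpecStalk x = U.fromSpecStalkOfMem (genericPoint X) hηU ≫ U.ι := by
      rw [Scheme.Opens.fromSpecStalkOfMem_ι]
      exact Scheme.SpecMap_stalkSpecializes_fromSpecStalk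
        ((genericPoint_spec X).specializes trivial)
    haveI : IsReduced (pullback (X.fromSpecStalk x) U.ι) :=
      isReduced_of_isOpenImmersion (pullback.fst (X.fromSpecStalk x) U.ι)
    haveI : IsDominant (pullback.lift _ _ hc) :=
      @isDominant_of_fractionRing (X.presheaf.stalk x) X.functionField inferInstance hdom
        inferInstance inferInstance inferInstance _
        (pullback.fst (X.fromSpecStalk x) U.ι) inferInstance (pullback.lift _ _ hc)
        (pullback.lift_fst _ _ _)
    refine ext_of_isDominant_of_isSeparated pY ?_ (pullback.lift _ _ hc) ?_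
    · rw [Category.assoc, hl2, Category.assoc, hf, ← Category.assoc, pullback.condition,
        Category.assoc]
    · rw [← Category.assoc, pullback.lift_fst, ← Category.assoc, pullback.lift_snd, hl1]
  obtain ⟨V, v, hxV, hv, hvf⟩ := (Groth.Agent.S5104.result pX pY (Or.inl inferInstance) U hUsd f hf
    x).mpr ⟨l, hl2, hw2⟩
  obtain ⟨U', h₁, h₂, f', hf'1, hf'2, hext⟩ :=
    Groth.Agent.Lib.Helper67.ExtendVal.exists_glue₂ U V f v hvf.symm
  refine ⟨U', h₁, f', h₂ hxV, ?_, hf'1⟩
  apply hext
  · rw [← Category.assoc, hf'1, hf, ← Category.assoc, Scheme.homOfLE_ι]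
  · rw [← Category.assoc, hf'2, hv, ← Category.assoc, Scheme.homOfLE_ι]


/-- Let k be a field, X a curve over k (integral, separated and of finite type over k, of dimension
one), Y a proper variety over k (integral, proper over k), U ⊆ X a nonempty open and f : U → Y a
morphism over k. If the local ring of X at a closed point x is a discrete valuation ring, then f
extends to a k-morphism U' → Y on some open U' ⊇ U of X containing x. -/
theorem result (k : Type u) [Field k]
    (X Y : Scheme.{u}) [X.Over (Spec (CommRingCat.of k))] [Y.Over (Spec (CommRingCat.of k))]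
    [IsIntegral X] [IsSeparated (X ↘ (Spec (CommRingCat.of k)))] [LocallyOfFiniteType (X ↘ (Spec (CommRingCat.of k)))] [QuasiCompact (X ↘ (Spec (CommRingCat.of k)))] (hdX : topologicalKrullDim X = 1)
    [IsIntegral Y] [IsProper (Y ↘ (Spec (CommRingCat.of k)))]
    (U : X.Opens) (hU : (U : Set X).Nonempty) (f : (U : Scheme.{u}) ⟶ Y) (hf : f ≫ (Y ↘ (Spec (CommRingCat.of k))) = U.ι ≫ (X ↘ (Spec (CommRingCat.of k))))
    (x : X) (hx : IsClosed ({x} : Set X)) (hdvr : IsDiscreteValuationRing (X.presheaf.stalk x)) :
    ∃ (U' : X.Opens) (hUU' : U ≤ U') (f' : (U' : Scheme.{u}) ⟶ Y), x ∈ U' ∧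
      f' ≫ (Y ↘ (Spec (CommRingCat.of k))) = U'.ι ≫ (X ↘ (Spec (CommRingCat.of k))) ∧ X.homOfLE hUU' ≫ f' = f := by
  exact aux k X Y _ _ U hU f hf x hdvr

end Groth.Agent.S6559
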