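import Groth.Statements.S2354
-- import your own Groth.Agent.* helpers here
import Mathlib
import Groth.Agent.S5104
import Groth.Agent.S3842
import Groth.Agent.S2121
import Groth.Agent.S6559
import Groth.Agent.Lib.Helper67.ExtendVal
import Groth.Agent.Lib.Helper61.ExtendLocal
import Groth.Agent.Lib.Helper61.ValDominate
import Groth.Agent.Lib.Helper49.Serre4
import Groth.Agent.Lib.Helper91.GenPrime2

set_option autoImplicit false
universe u
open CategoryTheory CategoryTheory.Limits AlgebraicGeometry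
open EGA2

namespace Groth.Agent.S2354

/-- algebra core: a local ring `B` over a valuation ring `A` (local homomorphism `α`), mapping
(`ψ`) to a "fraction ring" `K` of `A` compatibly: then `ψ` has image in `A`. -/
lemma range_subset_of_valuationRing {A B K : Type u} [CommRing A] [IsDomain A] [ValuationRing A]
    [CommRing B] [IsLocalRing B] [CommRing K] [Nontrivial K]
    (φ : A →+* K) (α : A →+* B) [IsLocalHom α] (ψ : B →+* K) (hcomp : ψ.comp α = φ)
    (hfrac : ∀ k : K, ∃ a c : A, c ≠ 0 ∧ k * φ c = φ a)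
    (hunit : ∀ c : A, c ≠ 0 → IsUnit (φ c)) (t : B) : ψ t ∈ φ.range := by
  obtain ⟨a, c, hc, hac⟩ := hfrac (ψ t)
  obtain ⟨d, hd | hd⟩ := ValuationRing.cond a c
  · -- a * d = c
    have ha : a ≠ 0 := by
      rintro rfl
      rw [zero_mul] at hd
      exact hc hd.symm
    have h1 : ψ t * φ d = 1 := by
      have : (ψ t * φ d) * φ a = 1 * φ a := by
        calc (ψ t * φ d) * φ a = ψ t * (φ a * φ d) := by ring
          _ = ψ t * φ c := by rw [← map_mul, hd]
          _ = φ a := hac
          _ = 1 * φ a := (one_mul _).symm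
      exact (hunit a ha).mul_left_injective this
    by_cases hdu : IsUnit d
    · obtain ⟨u, rfl⟩ := hdu
      refine ⟨((u⁻¹ : Aˣ) : A), ?_⟩
      have h2 : φ ((u⁻¹ : Aˣ) : A) * φ (u : A) = 1 := by
        rw [← map_mul, Units.inv_mul, map_one]
      calc φ ((u⁻¹ : Aˣ) : A) = φ ((u⁻¹ : Aˣ) : A) * (ψ t * φ (u : A)) := by rw [h1, mul_one]
        _ = ψ t * (φ ((u⁻¹ : Aˣ) : A) * φ (u : A)) := by ring
        _ = ψ t := by rw [h2, mul_one]
    · exfalso
      have hαd : ¬ IsUnit (α d) := fun h => hdu (isUnit_of_map_unit α d h)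
      have hm : t * α d ∈ IsLocalRing.maximalIdeal B :=
        Ideal.mul_mem_left _ _ ((IsLocalRing.mem_maximalIdeal _).mpr hαd)
      have hu : IsUnit (1 - t * α d) := by
        by_contra hnu
        have h3 : (1 - t * α d) ∈ IsLocalRing.maximalIdeal B :=
          (IsLocalRing.mem_maximalIdeal _).mpr hnu
        have h4 : (1 : B) ∈ IsLocalRing.maximalIdeal B := by
          have := Ideal.add_mem _ h3 hm
          simpa using this
        exact (Ideal.ne_top_iff_one _).mp (IsLocalRing.maximalIdeal.isMaximal B).ne_top h4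
      have h5 : ψ (1 - t * α d) = 0 := by
        rw [map_sub, map_one, map_mul, ← RingHom.comp_apply, hcomp, h1, sub_self]
      have := hu.map ψ
      rw [h5] at this
      exact not_isUnit_zero this
  · -- c * d = a
    refine ⟨d, ?_⟩
    have : φ d * φ c = ψ t * φ c := by
      rw [hac, ← hd, map_mul, mul_comm]
    exact (hunit c hc).mul_left_injective this

lemma exists_factor_of_range_subset {A B K : Type u} [CommRing A] [CommRing B] [CommRing K]
    (φ : A →+* K) (hφ : Function.Injective φ) (ψ : B →+* K) (h : ∀ t, ψ t ∈ φ.range) :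
    ∃ ψ' : B →+* A, φ.comp ψ' = ψ := by
  let e : A ≃+* φ.range := RingEquiv.ofBijective φ.rangeRestrict
    ⟨fun a b hab => hφ (congrArg Subtype.val hab), φ.rangeRestrict_surjective⟩
  refine ⟨e.symm.toRingHom.comp (ψ.codRestrict φ.range h), ?_⟩
  ext t
  have h1 : e (e.symm (ψ.codRestrict φ.range h t)) = ψ.codRestrict φ.range h t :=
    e.apply_symm_apply _
  have h2 := congrArg Subtype.val h1
  exact h2

theorem exists_lift_of_isClosedMap {X Y : Scheme.{u}} (f : X ⟶ Y) (hcl : IsClosedMap f.base)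
    (V : Y.Opens) (s : (V : Scheme.{u}) ⟶ X) (hs : s ≫ f = V.ι)
    (y η : Y) (hηy : η ⤳ y) (hηV : η ∈ V)
    [IsDomain (Y.presheaf.stalk y)] [ValuationRing (Y.presheaf.stalk y)]
    (hinj : Function.Injective (Y.presheaf.stalkSpecializes hηy).hom)
    (hfrac : ∀ k : Y.presheaf.stalk η, ∃ a c : Y.presheaf.stalk y, c ≠ 0 ∧
      k * (Y.presheaf.stalkSpecializes hηy).hom c = (Y.presheaf.stalkSpecializes hηy).hom a)
    (hunit : ∀ c : Y.presheaf.stalk y, c ≠ 0 →
      IsUnit ((Y.presheaf.stalkSpecializes hηy).hom c)) :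
    ∃ w : Spec (Y.presheaf.stalk y) ⟶ X, w ≫ f = Y.fromSpecStalk y ∧
      Spec.map (Y.presheaf.stalkSpecializes hηy) ≫ w = V.fromSpecStalkOfMem η hηV ≫ s := by
  obtain ⟨g, hg⟩ : ∃ g, g = V.fromSpecStalkOfMem η hηV ≫ s := ⟨_, rfl⟩
  have hgf : g ≫ f = Y.fromSpecStalk η := by
    rw [hg, Category.assoc, hs, Scheme.Opens.fromSpecStalkOfMem_ι]
  obtain ⟨ξ, hξ⟩ : ∃ ξ, ξ = g (IsLocalRing.closedPoint _) := ⟨_, rfl⟩
  have hfξ : f ξ = η := by
    rw [hξ, ← Scheme.Hom.comp_apply, hgf, Scheme.fromSpecStalk_closedPoint]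
  have hy : y ∈ f '' closure {ξ} := by
    have hcl' : IsClosed (f '' closure {ξ}) := hcl _ isClosed_closure
    have hη : η ∈ f '' closure {ξ} := ⟨ξ, subset_closure rfl, hfξ⟩
    exact hηy.mem_closed hcl' hη
  obtain ⟨x, hx, rfl⟩ := hy
  have hξx : g (IsLocalRing.closedPoint _) ⤳ x := by
    rw [← hξ]; exact specializes_iff_mem_closure.mpr hx
  obtain ⟨ψ, hψdef⟩ : ∃ ψ : X.presheaf.stalk x ⟶ Y.presheaf.stalk η,
      ψ = X.presheaf.stalkSpecializes hξx ≫ Scheme.stalkClosedPointTo g := ⟨_, rfl⟩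
  have hψ : Spec.map ψ ≫ X.fromSpecStalk x = g := by
    rw [hψdef, Spec.map_comp, Category.assoc, Scheme.SpecMap_stalkSpecializes_fromSpecStalk,
      Scheme.Spec_stalkClosedPointTo_fromSpecStalk]
  have hcomp : f.stalkMap x ≫ ψ = Y.presheaf.stalkSpecializes hηy := by
    apply Spec.map_injective
    rw [← cancel_mono (Y.fromSpecStalk (f x))]
    rw [Spec.map_comp, Category.assoc, Scheme.SpecMap_stalkMap_fromSpecStalk, ← Category.assoc,
      hψ, hgf, Scheme.SpecMap_stalkSpecializes_fromSpecStalk]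
  have hrange := fun t => range_subset_of_valuationRing (Y.presheaf.stalkSpecializes hηy).hom
    (f.stalkMap x).hom ψ.hom (by rw [← CommRingCat.hom_comp, hcomp]) hfrac hunit t
  obtain ⟨ψ', hψ'⟩ := exists_factor_of_range_subset _ hinj ψ.hom hrange
  obtain ⟨ψc, hψc⟩ : ∃ ψc : X.presheaf.stalk x ⟶ Y.presheaf.stalk (f x), ψc.hom = ψ' :=
    ⟨CommRingCat.ofHom ψ', rfl⟩
  rw [← hψc] at hψ'
  have hψ'' : ψc ≫ Y.presheaf.stalkSpecializes hηy = ψ := by
    ext t
    exact congrFun (congrArg DFunLike.coe hψ') t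
  have hid : f.stalkMap x ≫ ψc = 𝟙 _ := by
    ext a
    apply hinj
    have h1 : (Y.presheaf.stalkSpecializes hηy).hom (ψc.hom ((f.stalkMap x).hom a)) =
        ψ.hom ((f.stalkMap x).hom a) := congrFun (congrArg DFunLike.coe hψ') _
    have h2 : ψ.hom ((f.stalkMap x).hom a) = (Y.presheaf.stalkSpecializes hηy).hom a := by
      rw [← hcomp]; rfl
    exact h1.trans h2
  refine ⟨Spec.map ψc ≫ X.fromSpecStalk x, ?_, ?_⟩
  · rw [Category.assoc, ← Scheme.SpecMap_stalkMap_fromSpecStalk, ← Category.assoc,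
      ← Spec.map_comp, hid, Spec.map_id, Category.id_comp]
  · rw [← Category.assoc, ← Spec.map_comp, hψ'', hψ, hg]

lemma isDominant_of_generic {A K : CommRingCat.{u}} (φ : A ⟶ K) [IsDomain A] [Nontrivial K]
    (hunit : ∀ c : A, c ≠ 0 → IsUnit (φ.hom c)) {P : Scheme.{u}} (j : P ⟶ Spec A)
    [IsOpenImmersion j] (ι : Spec K ⟶ P) (hι : ι ≫ j = Spec.map φ) : IsDominant ι := by
  obtain ⟨w₀⟩ : Nonempty (PrimeSpectrum K) := inferInstance
  apply Groth.Agent.S6559.isDominant_of_specializes ι w₀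
  intro p
  rw [← j.isOpenEmbedding.isInducing.specializes_iff, ← Scheme.Hom.comp_apply, hι]
  refine (PrimeSpectrum.le_iff_specializes
    (x := ((Spec.map φ) w₀ : PrimeSpectrum A))
    (y := (j p : PrimeSpectrum A))).mp ?_
  intro r hr
  have hr' : φ.hom r ∈ w₀.asIdeal := hr
  have : r = 0 := by
    by_contra hne
    exact w₀.isPrime.ne_top (Ideal.eq_top_of_isUnit_mem _ hr' (hunit r hne))
  rw [this]
  exact Ideal.zero_mem _

open Groth.Agent.Lib.Helper67.ExtendVal Groth.Agent.Lib.Helper91.GenPrime in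
theorem exists_local_extension {X Y : Scheme.{u}} [IsLocallyNoetherian Y] [IsReduced Y]
    (f : X ⟶ Y) [IsSeparated f] [LocallyOfFiniteType f] (hcl : IsClosedMap f.base)
    (V : Y.Opens) (hV : Dense (V : Set Y)) (s : (V : Scheme.{u}) ⟶ X) (hs : s ≫ f = V.ι)
    (y : Y) (hdom : IsDomain (Y.presheaf.stalk y)) (hval : ValuationRing (Y.presheaf.stalk y)) :
    ∃ (U' : Y.Opens) (hVU' : V ≤ U'), y ∈ U' ∧
      ∃ s' : (U' : Scheme.{u}) ⟶ X, s' ≫ f = U'.ι ≫ 𝟙 Y ∧ Y.homOfLE hVU' ≫ s' = s := by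
  haveI := hdom
  haveI := hval
  obtain ⟨η, hηdef⟩ : ∃ η, η = genPt y := ⟨_, rfl⟩
  have hηy : η ⤳ y := hηdef ▸ genPt_specializes y
  -- η ∈ V
  have hηV : η ∈ V := by
    obtain ⟨z, hz⟩ := Groth.Agent.S2121.exists_specializes_of_mem_closure_range V.ι y
      (by rw [Scheme.Opens.range_ι]; exact hV y)
    have h1 : genPt y ⤳ V.ι z := genPt_specializes_of_specializes y hz
    rw [hηdef]
    exact h1.mem_open V.isOpen z.2
  -- the prime of η is ⊥
  have hprime : primeOf hηy = ⊥ := by
    have h1 := Scheme.SpecMap_stalkSpecializes_fromSpecStalk hηy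
    have h2 : (Y.fromSpecStalk y) (Spec.map (Y.presheaf.stalkSpecializes hηy)
        (IsLocalRing.closedPoint _)) =
        (Y.fromSpecStalk y) (⟨⊥, Ideal.isPrime_bot⟩ : PrimeSpectrum (Y.presheaf.stalk y)) := by
      rw [← Scheme.Hom.comp_apply, h1, Scheme.fromSpecStalk_closedPoint, hηdef]
      rfl
    have h3 := (Y.fromSpecStalk y).isEmbedding.injective h2
    exact congrArg PrimeSpectrum.asIdeal h3
  letI alg := (Y.presheaf.stalkSpecializes hηy).hom.toAlgebra
  haveI hloc : IsLocalization (primeOf hηy).primeCompl (Y.presheaf.stalk η) :=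
    isLocalization_stalkSpecializes hηy
  have hmem : ∀ c : Y.presheaf.stalk y, c ≠ 0 → c ∈ (primeOf hηy).primeCompl := by
    intro c hc hc'
    rw [hprime] at hc'
    exact hc hc'
  have hinj : Function.Injective (Y.presheaf.stalkSpecializes hηy).hom :=
    IsLocalization.injective (M := (primeOf hηy).primeCompl) (Y.presheaf.stalk η)
      (Ideal.primeCompl_le_nonZeroDivisors _)
  have hfrac : ∀ k : Y.presheaf.stalk η, ∃ a c : Y.presheaf.stalk y, c ≠ 0 ∧
      k * (Y.presheaf.stalkSpecializes hηy).hom c = (Y.presheaf.stalkSpecializes hηy).hom a := by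
    intro k
    obtain ⟨⟨a, c⟩, hac⟩ := IsLocalization.surj (primeOf hηy).primeCompl k
    refine ⟨a, c.1, ?_, hac⟩
    intro h0
    apply c.2
    rw [h0]
    exact Ideal.zero_mem _
  have hunit : ∀ c : Y.presheaf.stalk y, c ≠ 0 →
      IsUnit ((Y.presheaf.stalkSpecializes hηy).hom c) := fun c hc =>
    IsLocalization.map_units (Y.presheaf.stalk η) (⟨c, hmem c hc⟩ : (primeOf hηy).primeCompl)
  obtain ⟨w, hw1, hw2⟩ := exists_lift_of_isClosedMap f hcl V s hs y η hηy hηV hinj hfrac hunit
  -- agreement on the pullback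
  have hw3 : pullback.fst (Y.fromSpecStalk y) V.ι ≫ w =
      pullback.snd (Y.fromSpecStalk y) V.ι ≫ s := by
    have hc : Spec.map (Y.presheaf.stalkSpecializes hηy) ≫ Y.fromSpecStalk y =
        V.fromSpecStalkOfMem η hηV ≫ V.ι := by
      rw [Scheme.Opens.fromSpecStalkOfMem_ι]
      exact Scheme.SpecMap_stalkSpecializes_fromSpecStalk hηy
    haveI : IsReduced (pullback (Y.fromSpecStalk y) V.ι) :=
      isReduced_of_isOpenImmersion (pullback.fst (Y.fromSpecStalk y) V.ι)
    haveI : IsDominant (pullback.lift _ _ hc) :=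
      isDominant_of_generic (Y.presheaf.stalkSpecializes hηy) hunit
        (pullback.fst (Y.fromSpecStalk y) V.ι) (pullback.lift _ _ hc) (pullback.lift_fst _ _ _)
    refine ext_of_isDominant_of_isSeparated f ?_ (pullback.lift _ _ hc) ?_
    · rw [Category.assoc, hw1, Category.assoc, hs, pullback.condition]
    · rw [← Category.assoc, pullback.lift_fst, ← Category.assoc, pullback.lift_snd, hw2]
  have hVsd := Groth.Agent.S3842.isSchematicallyDense_of_dense V hV
  obtain ⟨N, v, hyN, hv, hvs⟩ := (Groth.Agent.S5104.result (𝟙 Y) f (Or.inl inferInstance) V hVsd s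
    (by rw [hs, Category.comp_id]) y).mpr ⟨w, by rw [hw1, Category.comp_id], hw3⟩
  obtain ⟨U', h₁, h₂, f', hf'1, hf'2, hext⟩ :=
    Groth.Agent.Lib.Helper67.ExtendVal.exists_glue₂ V N s v hvs.symm
  refine ⟨U', h₁, h₂ hyN, f', ?_, hf'1⟩
  apply hext
  · rw [← Category.assoc, hf'1, hs, ← Category.assoc, Scheme.homOfLE_ι, Category.comp_id]
  · rw [← Category.assoc, hf'2, hv, ← Category.assoc, Scheme.homOfLE_ι]


/-- Extension over points of codimension ≤ 1: let Y be reduced and locally Noetherian with regular local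
ring at every point whose local ring has dimension at most one, f : X → Y separated, of finite type
and closed as a map, V a dense open of Y and s : V → X a section of f over V. Then s extends to a
section of f over an open U ⊇ V containing every point of Y whose local ring has dimension at most
one. (The source states that the indeterminacy locus has codimension ≥ 2 under the hypothesis that
the non-regular locus has codimension ≥ 2; with codimension measured by dimensions of local rings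
this pointwise form is equivalent.) -/
theorem result {X Y : Scheme.{u}} [IsLocallyNoetherian Y] [IsReduced Y]
    (hreg : ∀ y : Y, ringKrullDim (Y.presheaf.stalk y) ≤ 1 → IsRegularLocalRing (Y.presheaf.stalk y))
    (f : X ⟶ Y) [IsSeparated f] [LocallyOfFiniteType f] [QuasiCompact f] (hcl : IsClosedMap f.base)
    (V : Y.Opens) (hV : Dense (V : Set Y)) (s : (V : Scheme.{u}) ⟶ X) (hs : s ≫ f = V.ι) :
    ∃ (U : Y.Opens) (hVU : V ≤ U) (s' : (U : Scheme.{u}) ⟶ X), s' ≫ f = U.ι ∧ Y.homOfLE hVU ≫ s' = s ∧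
      ∀ y : Y, ringKrullDim (Y.presheaf.stalk y) ≤ 1 → y ∈ U := by
  have hloc : ∀ y ∈ {y : Y | ringKrullDim (Y.presheaf.stalk y) ≤ 1},
      ∃ (U' : Y.Opens) (hVU' : V ≤ U'), y ∈ U' ∧
        ∃ s' : (U' : Scheme.{u}) ⟶ X, s' ≫ f = U'.ι ≫ 𝟙 Y ∧ Y.homOfLE hVU' ≫ s' = s := by
    intro y hy
    haveI := hreg y hy
    obtain ⟨hdom, hic⟩ :=
      Groth.Agent.Lib.Helper49.Serre.isIntegrallyClosed_of_isRegularLocalRing_of_dim_le_one
        (Y.presheaf.stalk y) hy
    haveI := hdom
    haveI := hic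
    have hval : ValuationRing (Y.presheaf.stalk y) :=
      Groth.Agent.Lib.Helper61.ValDominate.valuationRing_of_dim_le_one _ hy
    exact exists_local_extension f hcl V hV s hs y hdom hval
  obtain ⟨U, hVU, s', h1, h2, h3⟩ :=
    Groth.Agent.Lib.Helper61.ExtendLocal.exists_extension_of_forall_local (𝟙 Y) f V hV s
      (by rw [hs, Category.comp_id]) {y | ringKrullDim (Y.presheaf.stalk y) ≤ 1} hloc
  exact ⟨U, hVU, s', by rw [h1, Category.comp_id], h2, fun y hy => h3 hy⟩

end Groth.Agent.S2354
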