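import Groth.Statements.S2358
import Groth.Agent.Lib.Helper7.BiratIso
import Groth.Agent.S5949

set_option autoImplicit false
universe u
open CategoryTheory CategoryTheory.Limits AlgebraicGeometry
open EGA2

namespace Groth.Agent.S2358

theorem quasiCompact_of_subsingleton {A X : Scheme.{u}} [Subsingleton A] (g : A ⟶ X) :
    QuasiCompact g := by
  refine ⟨fun U hU hU' => ?_⟩
  exact (Set.subsingleton_of_subsingleton).isCompact

theorem quasiCompact_fromSpecStalk_genericPoint (X : Scheme.{u}) [IsIntegral X] :
    QuasiCompact (X.fromSpecStalk (genericPoint X)) := by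
  have hW : IsField (X.presheaf.stalk (genericPoint X)) := Field.toIsField X.functionField
  letI := hW.toField
  haveI : Subsingleton (Spec (X.presheaf.stalk (genericPoint X))) :=
    inferInstanceAs (Subsingleton (PrimeSpectrum (X.presheaf.stalk (genericPoint X))))
  exact quasiCompact_of_subsingleton _

open Groth.Agent.Lib.Helper7 in
/-- The normalization of a normal integral scheme (in its function field) is an isomorphism. -/
theorem isIso_fromNormalization_of_isNormalScheme (X : Scheme.{u}) [IsIntegral X]
    (hX : Pi1.IsNormalScheme X)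
    [QuasiCompact (X.fromSpecStalk (genericPoint X))]
    [QuasiSeparated (X.fromSpecStalk (genericPoint X))] :
    IsIso (X.fromSpecStalk (genericPoint X)).fromNormalization := by
  haveI : IsDomain (X.presheaf.stalk (genericPoint X)) :=
    inferInstanceAs (IsDomain X.functionField)
  haveI : IsDominant (X.fromSpecStalk (genericPoint X)) :=
    Groth.Agent.S5949.isDominant_fromSpecStalk_genericPoint X
  exact BiratIso.isIso_of_isIntegralHom_of_birational hX _
    (NormField.fromNormalization_genericPoint _)
    (Groth.Agent.S5949.bijective_stalkMap_normalizationι X _ rfl)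

/-- Let X be an integral normal scheme, g : X' → X an integral morphism, U a dense open of X and s : U →
X' a section of g over U. Then there is a section of g over all of X extending s. -/
theorem result {X X' : Scheme.{u}} [IsIntegral X] (hX : Pi1.IsNormalScheme X)
    (g : X' ⟶ X) [IsIntegralHom g] (U : X.Opens) (hU : Dense (U : Set X)) (s : (U : Scheme.{u}) ⟶ X') (hs : s ≫ g = U.ι) :
    ∃ s' : X ⟶ X', s' ≫ g = 𝟙 X ∧ U.ι ≫ s' = s := by
  classical
  haveI := quasiCompact_fromSpecStalk_genericPoint X
  haveI : QuasiSeparated (X.fromSpecStalk (genericPoint X)) := inferInstance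
  set γ := X.fromSpecStalk (genericPoint X) with hγ
  haveI hν : IsIso γ.fromNormalization := isIso_fromNormalization_of_isNormalScheme X hX
  have hne : Nonempty U := by
    obtain ⟨x, hx⟩ := hU.nonempty
    exact ⟨⟨x, hx⟩⟩
  have hξU : genericPoint X ∈ U :=
    ((genericPoint_spec X).mem_open_set_iff U.isOpen).mpr (by simpa using hne)
  let j : Spec (X.presheaf.stalk (genericPoint X)) ⟶ (U : Scheme.{u}) :=
    U.fromSpecStalkOfMem (genericPoint X) hξU
  have hj : j ≫ U.ι = γ := Scheme.Opens.fromSpecStalkOfMem_ι U _ hξU
  let g₁ : Spec (X.presheaf.stalk (genericPoint X)) ⟶ X' := j ≫ s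
  have H : γ = g₁ ≫ g := by
    simp only [g₁, Category.assoc, hs, hj]
  let d : γ.normalization ⟶ X' := γ.normalizationDesc g₁ g H
  have hd : d ≫ g = γ.fromNormalization := γ.normalizationDesc_comp g₁ g H
  have htd : γ.toNormalization ≫ d = g₁ := γ.toNormalization_normalizationDesc g₁ g H
  refine ⟨inv γ.fromNormalization ≫ d, ?_, ?_⟩
  · rw [Category.assoc, hd, IsIso.inv_hom_id]
  · haveI : IsDominant j := by
      refine ⟨?_⟩
      have h1 : j (IsLocalRing.closedPoint _) = genericPoint (U : Scheme.{u}) := by
        apply U.ι.isOpenEmbedding.injective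
        rw [← Scheme.Hom.comp_apply, hj, genericPoint_eq_of_isOpenImmersion U.ι]
        exact Scheme.fromSpecStalk_closedPoint
      have h : Dense ({genericPoint (U : Scheme.{u})} : Set (U : Scheme.{u})) := by
        rw [dense_iff_closure_eq]
        exact (genericPoint_spec (U : Scheme.{u}))
      refine h.mono ?_
      rintro _ rfl
      exact ⟨_, h1⟩
    refine ext_of_isDominant_of_isSeparated g ?_ j ?_
    · rw [Category.assoc, Category.assoc, hd, IsIso.inv_hom_id, Category.comp_id, hs]
    · have h1 : (j ≫ U.ι) ≫ inv γ.fromNormalization ≫ d = j ≫ s := by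
        rw [hj]
        calc γ ≫ inv γ.fromNormalization ≫ d
            = (γ.toNormalization ≫ γ.fromNormalization) ≫ inv γ.fromNormalization ≫ d := by
              rw [γ.toNormalization_fromNormalization]
          _ = g₁ := by rw [Category.assoc, IsIso.hom_inv_id_assoc, htd]
      rw [← h1, Category.assoc]

end Groth.Agent.S2358
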