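import Groth.Statements.S2454
import Mathlib
import Groth.Agent.Lib.Helper96.SmoothNilp
import Groth.Agent.S2451

set_option autoImplicit false
universe u
open EGA41

namespace Groth.Agent.S2454

open IsLocalRing Groth.Agent.Lib.Helper96

/-- For a flat local homomorphism `A → B` with `𝔪_A B = 𝔪_B` and formally smooth residue field
extension, `B/𝔪_A^k B` is formally smooth over `A/𝔪_A^k` (nilpotent Stacks 031L). -/
theorem formallySmooth_quotient_pow {A B : Type u} [CommRing A] [IsLocalRing A] [CommRing B]
    [IsLocalRing B] [Algebra A B] [IsLocalHom (algebraMap A B)] [Module.Flat A B]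
    (hmax : (maximalIdeal A).map (algebraMap A B) = maximalIdeal B)
    [Algebra.FormallySmooth (ResidueField A) (ResidueField B)] (k : ℕ) (hk : 1 ≤ k) :
    (Ideal.quotientMap ((maximalIdeal A ^ k).map (algebraMap A B)) (algebraMap A B)
      Ideal.le_comap_map).FormallySmooth := by
  have hR : maximalIdeal A ^ k ≤ maximalIdeal A := Ideal.pow_le_self (by omega)
  have hS : (maximalIdeal A ^ k).map (algebraMap A B) ≤ maximalIdeal B := by
    rw [← hmax]; exact Ideal.map_mono hR
  have hkR : RingHom.ker (Ideal.Quotient.factor hR) =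
      (maximalIdeal A).map (Ideal.Quotient.mk (maximalIdeal A ^ k)) :=
    Ideal.Quotient.factor_ker hR
  have hkS : RingHom.ker (Ideal.Quotient.factor hS) =
      (maximalIdeal B).map (Ideal.Quotient.mk ((maximalIdeal A ^ k).map (algebraMap A B))) :=
    Ideal.Quotient.factor_ker hS
  refine formallySmooth_of_flat_of_nilpotent k _
    (flat_quotientMap (algebraMap A B) (RingHom.flat_algebraMap_iff.mpr inferInstance) _)
    (Ideal.Quotient.factor hR : A ⧸ maximalIdeal A ^ k →+* ResidueField A)
    (Ideal.Quotient.factor hS :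
      B ⧸ (maximalIdeal A ^ k).map (algebraMap A B) →+* ResidueField B)
    (algebraMap (ResidueField A) (ResidueField B))
    (Ideal.Quotient.factor_surjective hR) (Ideal.Quotient.factor_surjective hS) ?_ ?_ ?_
    (show (algebraMap (ResidueField A) (ResidueField B)).FormallySmooth from
      RingHom.formallySmooth_algebraMap.mpr inferInstance)
  · apply Ideal.Quotient.ringHom_ext
    ext a
    simp only [RingHom.comp_apply, Ideal.quotientMap_mk, Ideal.Quotient.factor_mk]
    exact (ResidueField.map_residue (algebraMap A B) a).symm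
  · rw [hkR, ← Ideal.map_pow, Ideal.map_quotient_self]
  · rw [hkS, hkR, Ideal.map_map, ← hmax, Ideal.map_map]
    congr 1

open IsLocalRing in
/-- Let A → B be a local homomorphism of Noetherian local rings making B a Cohen A-algebra. Then B, with
its adic topology, is formally smooth over A with its adic topology. -/
theorem result {A B : Type u} [CommRing A] [IsLocalRing A] [CommRing B] [IsLocalRing B]
    [Algebra A B] [IsLocalHom (algebraMap A B)] (h : EGA41.IsCohenAlgebra A B) :
    EGA41.IsFormallySmoothAdic A (maximalIdeal A) B (maximalIdeal B) := by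
  obtain ⟨-, -, -, hflat, hmax, hgr⟩ := h
  haveI := hflat
  haveI : Algebra.FormallySmooth (ResidueField A) (ResidueField B) :=
    Groth.Agent.S2451.result.mpr hgr
  intro C _ _ J hJ ⟨k, hk⟩ u _
  -- replace `k` by `k + 1`
  have hk1 : (maximalIdeal A ^ (k + 1)).map (algebraMap A C) = ⊥ := by
    rw [eq_bot_iff, ← hk]
    exact Ideal.map_mono (Ideal.pow_le_pow_right k.le_succ)
  have hsm := formallySmooth_quotient_pow (A := A) (B := B) hmax (k + 1) (by omega)
  have hkillA : ∀ a ∈ maximalIdeal A ^ (k + 1), algebraMap A C a = 0 := by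
    intro a ha
    have := Ideal.mem_map_of_mem (algebraMap A C) ha
    rwa [hk1, Ideal.mem_bot] at this
  letI : Algebra (A ⧸ maximalIdeal A ^ (k + 1)) C :=
    (Ideal.Quotient.lift _ (algebraMap A C) hkillA).toAlgebra
  letI : Algebra (A ⧸ maximalIdeal A ^ (k + 1))
      (B ⧸ (maximalIdeal A ^ (k + 1)).map (algebraMap A B)) :=
    (Ideal.quotientMap ((maximalIdeal A ^ (k + 1)).map (algebraMap A B)) (algebraMap A B)
      Ideal.le_comap_map).toAlgebra
  haveI : Algebra.FormallySmooth (A ⧸ maximalIdeal A ^ (k + 1))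
      (B ⧸ (maximalIdeal A ^ (k + 1)).map (algebraMap A B)) := hsm
  have hkillB : ∀ b ∈ (maximalIdeal A ^ (k + 1)).map (algebraMap A B),
      (u : B →+* C ⧸ J) b = 0 := by
    intro b hb
    have h1 : (maximalIdeal A ^ (k + 1)).map (algebraMap A B) ≤
        RingHom.ker (u : B →+* C ⧸ J) := by
      rw [Ideal.map_le_iff_le_comap]
      intro a ha
      rw [Ideal.mem_comap, RingHom.mem_ker]
      have : (u : B →+* C ⧸ J) (algebraMap A B a) = algebraMap A (C ⧸ J) a := u.commutes a
      rw [this, IsScalarTower.algebraMap_apply A C (C ⧸ J), hkillA a ha, map_zero]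
    exact h1 hb
  let ubar : (B ⧸ (maximalIdeal A ^ (k + 1)).map (algebraMap A B)) →ₐ[A ⧸ maximalIdeal A ^ (k + 1)]
      C ⧸ J :=
    { Ideal.Quotient.lift _ (u : B →+* C ⧸ J) hkillB with
      commutes' := fun a => by
        obtain ⟨a, rfl⟩ := Ideal.Quotient.mk_surjective a
        simp only [RingHom.toMonoidHom_eq_coe, OneHom.toFun_eq_coe, MonoidHom.toOneHom_coe,
          MonoidHom.coe_coe]
        have h1 : algebraMap (A ⧸ maximalIdeal A ^ (k + 1))
            (B ⧸ (maximalIdeal A ^ (k + 1)).map (algebraMap A B)) (Ideal.Quotient.mk _ a) =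
            Ideal.Quotient.mk _ (algebraMap A B a) := rfl
        have h2 : algebraMap (A ⧸ maximalIdeal A ^ (k + 1)) (C ⧸ J) (Ideal.Quotient.mk _ a) =
            Ideal.Quotient.mk J (algebraMap A C a) := rfl
        rw [h1, h2, Ideal.Quotient.lift_mk]
        exact u.commutes a }
  obtain ⟨vbar, hvbar⟩ := Algebra.FormallySmooth.exists_lift J hJ ubar
  refine ⟨{ (vbar : (B ⧸ (maximalIdeal A ^ (k + 1)).map (algebraMap A B)) →+* C).comp
      (Ideal.Quotient.mk _) with
    commutes' := fun a => by
      simp only [RingHom.toMonoidHom_eq_coe, OneHom.toFun_eq_coe, MonoidHom.toOneHom_coe,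
        MonoidHom.coe_coe, RingHom.coe_comp, RingHom.coe_coe, Function.comp_apply]
      have h1 : Ideal.Quotient.mk ((maximalIdeal A ^ (k + 1)).map (algebraMap A B))
          (algebraMap A B a) = algebraMap (A ⧸ maximalIdeal A ^ (k + 1))
            (B ⧸ (maximalIdeal A ^ (k + 1)).map (algebraMap A B)) (Ideal.Quotient.mk _ a) := rfl
      rw [h1, vbar.commutes]
      rfl }, ?_⟩
  ext b
  have := congrArg (fun f : (B ⧸ (maximalIdeal A ^ (k + 1)).map (algebraMap A B)) →ₐ[_] C ⧸ J =>
    f (Ideal.Quotient.mk _ b)) hvbar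
  simpa [ubar] using this

end Groth.Agent.S2454
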