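import Groth.Statements.S2456
import Mathlib
import Groth.Agent.Lib.Helper96.CohenLift

set_option autoImplicit false
universe u
open EGA41

namespace Groth.Agent.S2456

open IsLocalRing in
/-- Let W be a Cohen ring (a field of characteristic zero, or a complete discrete valuation ring with
maximal ideal generated by the residue characteristic), C a complete Noetherian local ring and J ≠ C
an ideal of C. Then every local homomorphism u : W → C/J is induced by a local homomorphism v : W →
C. -/
theorem result {W C : Type u} [CommRing W] [IsLocalRing W] (hW : EGA41.IsCohenRingEGA W)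
    [CommRing C] [IsLocalRing C] [IsNoetherianRing C] [IsAdicComplete (maximalIdeal C) C]
    (J : Ideal C) (hJ : J ≠ ⊤) [IsLocalRing (C ⧸ J)] (u : W →+* C ⧸ J) [IsLocalHom u] :
    ∃ v : W →+* C, IsLocalHom v ∧ (Ideal.Quotient.mk J).comp v = u := by
  have key : ∀ (𝔴 : Ideal W), Groth.Agent.Lib.Helper96.LiftSq.{u, u} W 𝔴 →
      (∀ x ∈ 𝔴, u x ∈ (maximalIdeal C).map (Ideal.Quotient.mk J)) →
      ∃ v : W →+* C, IsLocalHom v ∧ (Ideal.Quotient.mk J).comp v = u := by
    intro 𝔴 h1 h2
    obtain ⟨v, hv⟩ := Groth.Agent.Lib.Helper96.exists_lift_of_liftSq h1 hJ h2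
    refine ⟨v, ⟨fun a ha => ?_⟩, hv⟩
    have h3 : IsUnit (u a) := by
      rw [← hv]
      exact ha.map (Ideal.Quotient.mk J)
    exact IsLocalHom.map_nonunit a h3
  rcases hW with ⟨hfield, hchar⟩ | ⟨hdom, hdvr, hcomp, p, hp, hm⟩
  · letI : Field W := hfield.toField
    haveI : CharZero W := hchar
    refine key ⊥ (Groth.Agent.Lib.Helper96.liftSq_field_charZero W ⊥) ?_
    intro x hx
    rw [Ideal.mem_bot] at hx
    rw [hx, map_zero]
    exact Ideal.zero_mem _
  · refine key (maximalIdeal W) (Groth.Agent.Lib.Helper96.liftSq_cohenRing W p hp hm) ?_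
    intro x hx
    obtain ⟨c, hc⟩ := Ideal.Quotient.mk_surjective (u x)
    rw [← hc]
    refine Ideal.mem_map_of_mem _ ?_
    rw [IsLocalRing.mem_maximalIdeal, mem_nonunits_iff]
    intro hcu
    have h1 : IsUnit (u x) := hc ▸ hcu.map (Ideal.Quotient.mk J)
    exact (IsLocalRing.mem_maximalIdeal _).mp hx (IsLocalHom.map_nonunit x h1)

end Groth.Agent.S2456
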