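import Groth.Statements.S2457
import Mathlib
import Groth.Agent.Lib.Helper96.CohenLift

set_option autoImplicit false
universe u
open EGA41

namespace Groth.Agent.S2457

open IsLocalRing Groth.Agent.Lib.Helper96

theorem maximalIdeal_eq_bot_of_isField (W : Type u) [CommRing W] [IsLocalRing W]
    (h : IsField W) : maximalIdeal W = ⊥ := by
  rw [eq_bot_iff]
  intro x hx
  rw [Ideal.mem_bot]
  by_contra hx0
  obtain ⟨y, hy⟩ := h.mul_inv_cancel hx0
  exact (IsLocalRing.mem_maximalIdeal _).mp hx (IsUnit.of_mul_eq_one y hy)

/-- The structure of Cohen rings in the EGA sense, packaged uniformly. -/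
theorem cohenEGA_data (W : Type u) [CommRing W] [IsLocalRing W] (hW : EGA41.IsCohenRingEGA W) :
    ∃ p : ℕ, LiftSq.{u, u} W (maximalIdeal W) ∧ IsNoetherianRing W ∧
      IsAdicComplete (maximalIdeal W) W ∧
      maximalIdeal W = Ideal.span {(p : W)} ∧ CharP (ResidueField W) p ∧
      ((p = 0 ∧ IsField W) ∨ (p.Prime ∧ ∃ (_ : IsDomain W), IsDiscreteValuationRing W)) := by
  rcases hW with ⟨hfield, hchar⟩ | ⟨hdom, hdvr, hcomp, p, hp, hm⟩
  · have hbot := maximalIdeal_eq_bot_of_isField W hfield
    refine ⟨0, ?_, ?_, ?_, ?_, ?_, Or.inl ⟨rfl, hfield⟩⟩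
    · letI : Field W := hfield.toField
      haveI : CharZero W := hchar
      exact liftSq_field_charZero W _
    · letI : Field W := hfield.toField
      infer_instance
    · rw [hbot]
      exact IsAdicComplete.bot W
    · rw [hbot, Nat.cast_zero]
      exact (Ideal.span_singleton_eq_bot.mpr rfl).symm
    · haveI : CharZero (ResidueField W) := by
        refine charZero_of_injective_ringHom (f := residue W) ?_
        rw [injective_iff_map_eq_zero]
        intro x hx
        rw [residue_eq_zero_iff, hbot, Ideal.mem_bot] at hx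
        exact hx
      exact CharP.ofCharZero _
  · refine ⟨p, liftSq_cohenRing W p hp hm, inferInstance, hcomp, hm, ?_, Or.inr ⟨hp, hdom, hdvr⟩⟩
    rw [CharP.charP_iff_prime_eq_zero hp, ← map_natCast (residue W), residue_eq_zero_iff, hm]
    exact Ideal.mem_span_singleton_self _

/-- lifting a homomorphism of residue fields -/
theorem exists_lift_residue {W W' : Type u} [CommRing W] [IsLocalRing W] [CommRing W']
    [IsLocalRing W'] [IsNoetherianRing W'] [IsAdicComplete (maximalIdeal W') W']
    (hW : LiftSq.{u, u} W (maximalIdeal W)) (φ : ResidueField W →+* ResidueField W') :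
    ∃ v₀ : W →+* W', ∀ x, residue W' (v₀ x) = φ (residue W x) := by
  obtain ⟨v, hv⟩ := exists_lift_of_liftSq (J := maximalIdeal W')
    (u := (φ.comp (residue W) : W →+* W' ⧸ maximalIdeal W')) hW
    (IsLocalRing.maximalIdeal.isMaximal W').ne_top (fun x hx => by
      have : residue W x = 0 := (residue_eq_zero_iff x).mpr hx
      show φ (residue W x) ∈ _
      rw [this, map_zero]
      exact Ideal.zero_mem _)
  exact ⟨v, fun x => congrArg (fun f : W →+* W' ⧸ maximalIdeal W' => f x) hv⟩

open IsLocalRing in
/-- Let W and W' be Cohen rings with residue fields K and K' and u : K ≅ K' an isomorphism. Then u is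
induced by some isomorphism v : W ≅ W'. -/
theorem result {W W' : Type u} [CommRing W] [IsLocalRing W] [CommRing W'] [IsLocalRing W']
    (hW : EGA41.IsCohenRingEGA W) (hW' : EGA41.IsCohenRingEGA W') (u : ResidueField W ≃+* ResidueField W') :
    ∃ v : W ≃+* W', ∀ x : W, residue W' (v x) = u (residue W x) := by
  obtain ⟨p, hlift, -, hcompW, hmW, hcharW, hcaseW⟩ := cohenEGA_data W hW
  obtain ⟨p', -, hnoeth', hcomp', hmW', hcharW', hcaseW'⟩ := cohenEGA_data W' hW'
  -- equal residue characteristics
  have hpp : p = p' := by
    haveI : CharP (ResidueField W') p :=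
      (RingHom.charP_iff (u : ResidueField W →+* ResidueField W') u.injective p).mp hcharW
    exact CharP.eq (ResidueField W') this hcharW'
  subst hpp
  obtain ⟨v₀, hv₀⟩ := exists_lift_residue hlift (u : ResidueField W →+* ResidueField W')
  have hmap : (maximalIdeal W).map v₀ = maximalIdeal W' := by
    rw [hmW, hmW', Ideal.map_span, Set.image_singleton, map_natCast]
  -- surjectivity
  have hsurj : Function.Surjective v₀ := by
    haveI : IsHausdorff ((maximalIdeal W).map v₀) W' := by
      rw [hmap]; infer_instance
    apply surjective_of_mk_map_comp_surjective (I := maximalIdeal W) v₀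
    intro y
    obtain ⟨y', rfl⟩ := Ideal.Quotient.mk_surjective y
    obtain ⟨x, hx⟩ := residue_surjective (u.symm (residue W' y'))
    refine ⟨x, ?_⟩
    rw [RingHom.comp_apply, Ideal.Quotient.eq, hmap]
    have := hv₀ x
    rw [hx, RingEquiv.coe_toRingHom, RingEquiv.apply_symm_apply] at this
    exact Ideal.Quotient.eq.mp this
  -- injectivity
  have hinj : Function.Injective v₀ := by
    rcases hcaseW with ⟨-, hfield⟩ | ⟨hp, hdom, hdvr⟩
    · letI : Field W := hfield.toField
      exact v₀.injective
    · rcases hcaseW' with ⟨hp0, -⟩ | ⟨-, hdom', hdvr'⟩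
      · exact absurd hp0 hp.ne_zero
      · rw [injective_iff_map_eq_zero]
        intro x hx
        by_contra hx0
        have hirr : Irreducible (p : W) :=
          (IsDiscreteValuationRing.irreducible_iff_uniformizer _).mpr hmW
        obtain ⟨n, y, rfl⟩ := IsDiscreteValuationRing.eq_unit_mul_pow_irreducible hx0 hirr
        rw [map_mul, map_pow, map_natCast] at hx
        have hp0 : (p : W') ≠ 0 := by
          intro h0
          apply IsDiscreteValuationRing.not_a_field W'
          rw [hmW', h0]
          exact Ideal.span_singleton_eq_bot.mpr rfl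
        rcases mul_eq_zero.mp hx with h1 | h1
        · exact (y.isUnit.map v₀).ne_zero h1
        · exact pow_ne_zero n hp0 h1
  refine ⟨RingEquiv.ofBijective v₀ ⟨hinj, hsurj⟩, fun x => ?_⟩
  exact hv₀ x

end Groth.Agent.S2457
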