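import Groth.Statements.S2459
import Mathlib
import Groth.Agent.S2457
import Groth.Agent.Lib.Helper88.CohenExist
import Groth.Agent.Lib.Helper96.AdicSmoothPS

set_option autoImplicit false
universe u
open EGA41

namespace Groth.Agent.S2459

open IsLocalRing in
/-- An Artinian local ring is complete for its maximal ideal. -/
theorem isAdicComplete_of_isArtinianRing (A : Type u) [CommRing A] [IsLocalRing A]
    [IsArtinianRing A] : IsAdicComplete (maximalIdeal A) A := by
  have h1 : IsNilpotent (Ideal.jacobson (⊥ : Ideal A)) := IsArtinianRing.isNilpotent_jacobson_bot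
  rw [IsLocalRing.jacobson_eq_maximalIdeal ⊥ bot_ne_top] at h1
  obtain ⟨N, hN⟩ := h1
  exact Groth.Agent.Lib.Helper96.isAdicComplete_of_pow_eq_bot _ N hN

open IsLocalRing in
/-- Let A be an Artinian local ring with maximal ideal 𝔪 and residue field of characteristic p (p = 0
allowed). Then A is isomorphic to a quotient of a Cohen ring if and only if 𝔪 is generated by p·1. -/
theorem result {A : Type u} [CommRing A] [IsLocalRing A] [IsArtinianRing A]
    (p : ℕ) [CharP (ResidueField A) p] :
    (∃ (W : Type u) (_ : CommRing W) (I : Ideal W), EGA41.IsCohenRingEGA W ∧ Nonempty (A ≃+* W ⧸ I)) ↔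
      maximalIdeal A = Ideal.span {(p : A)} := by
  classical
  constructor
  · -- a quotient of a Cohen ring has maximal ideal generated by `p`
    rintro ⟨W, _, I, hW, ⟨e⟩⟩
    haveI : IsLocalRing W := by
      rcases hW with ⟨hfield, -⟩ | ⟨hdom, hdvr, -⟩
      · letI : Field W := hfield.toField
        infer_instance
      · infer_instance
    obtain ⟨q, -, -, -, hmW, hcharW, hcase⟩ := Groth.Agent.S2457.cohenEGA_data W hW
    let π : W →+* A := (e.symm : W ⧸ I →+* A).comp (Ideal.Quotient.mk I)
    have hπ : Function.Surjective π :=
      e.symm.surjective.comp Ideal.Quotient.mk_surjective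
    have hmA : maximalIdeal A = Ideal.span {(q : A)} := by
      rw [← IsLocalRing.map_maximalIdeal_of_surjective π hπ, hmW, Ideal.map_span,
        Set.image_singleton, map_natCast]
    have hqA : (q : ResidueField A) = 0 := by
      rw [← map_natCast (residue A), residue_eq_zero_iff, hmA]
      exact Ideal.mem_span_singleton_self _
    have hdvd : p ∣ q := (CharP.cast_eq_zero_iff (ResidueField A) p q).mp hqA
    rcases hcase with ⟨hq0, -⟩ | ⟨hq, -⟩
    · -- field case: `m_A = 0`
      subst hq0
      rw [hmA, Nat.cast_zero]
      have hp0 : (p : A) ∈ maximalIdeal A := by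
        rw [← residue_eq_zero_iff, map_natCast]
        exact CharP.cast_eq_zero _ p
      rw [hmA, Nat.cast_zero, Ideal.span_singleton_eq_bot.mpr rfl, Ideal.mem_bot] at hp0
      rw [hp0]
    · rcases (Nat.dvd_prime hq).mp hdvd with h1 | h1
      · exact absurd h1 (CharP.char_ne_one (ResidueField A) p)
      · rw [hmA, h1]
  · intro hmA
    rcases CharP.char_is_prime_or_zero (ResidueField A) p with hp | hp0
    · haveI : Fact p.Prime := ⟨hp⟩
      obtain ⟨Λ, _, _, hΛ, ⟨ε⟩⟩ :=
        Groth.Agent.Lib.Helper88.CohenExist.exists_cohenRing p (ResidueField A)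
      have hΛ' : EGA41.IsCohenRingEGA Λ := Or.inr hΛ
      obtain ⟨q, hlift, -, hcompΛ, hmΛ, hcharΛ, -⟩ := Groth.Agent.S2457.cohenEGA_data Λ hΛ'
      have hqp : q = p := by
        haveI : CharP (ResidueField A) q :=
          (RingHom.charP_iff (ε : ResidueField Λ →+* ResidueField A) ε.injective q).mp hcharΛ
        exact CharP.eq (ResidueField A) this ‹CharP (ResidueField A) p›
      subst hqp
      haveI : IsAdicComplete (maximalIdeal A) A := isAdicComplete_of_isArtinianRing A
      obtain ⟨v₀, hv₀⟩ := Groth.Agent.S2457.exists_lift_residue hlift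
        (ε : ResidueField Λ →+* ResidueField A)
      have hmap : (maximalIdeal Λ).map v₀ = maximalIdeal A := by
        rw [hmΛ, hmA, Ideal.map_span, Set.image_singleton, map_natCast]
      have hsurj : Function.Surjective v₀ := by
        haveI : IsHausdorff ((maximalIdeal Λ).map v₀) A := by
          rw [hmap]; infer_instance
        apply surjective_of_mk_map_comp_surjective (I := maximalIdeal Λ) v₀
        intro y
        obtain ⟨y', rfl⟩ := Ideal.Quotient.mk_surjective y
        obtain ⟨x, hx⟩ := residue_surjective (ε.symm (residue A y'))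
        refine ⟨x, ?_⟩
        rw [RingHom.comp_apply, Ideal.Quotient.eq, hmap]
        have := hv₀ x
        rw [hx, RingEquiv.coe_toRingHom, RingEquiv.apply_symm_apply] at this
        exact Ideal.Quotient.eq.mp this
      exact ⟨Λ, inferInstance, RingHom.ker v₀, hΛ',
        ⟨(RingHom.quotientKerEquivOfSurjective hsurj).symm⟩⟩
    · subst hp0
      have hbot : maximalIdeal A = ⊥ := by
        rw [hmA, Nat.cast_zero]; exact Ideal.span_singleton_eq_bot.mpr rfl
      have hfield : IsField A := by
        rw [IsLocalRing.isField_iff_maximalIdeal_eq]; exact hbot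
      haveI : CharZero (ResidueField A) := CharP.charP_to_charZero _
      have hinj : Function.Injective (residue A) := by
        rw [injective_iff_map_eq_zero]
        intro x hx
        rw [residue_eq_zero_iff, hbot, Ideal.mem_bot] at hx
        exact hx
      have hchar : CharZero A := (RingHom.charZero_iff hinj).mpr inferInstance
      exact ⟨A, inferInstance, ⊥, Or.inl ⟨hfield, hchar⟩, ⟨(RingEquiv.quotientBot A).symm⟩⟩

end Groth.Agent.S2459
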