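import Groth.Statements.S2458
import Mathlib
import Groth.Agent.S2459
import Groth.Agent.Lib.Helper13.CohenEq
import Groth.Agent.Lib.Helper88.CohenStruct
import Groth.Agent.Lib.Helper96.PSRegularDVR

set_option autoImplicit false
universe u
open EGA41

namespace Groth.Agent.S2458

open Groth.Agent.Lib.Helper76.PSCRing Groth.Agent.Lib.Helper76.PSComplete

open IsLocalRing in
/-- Let A be an Artinian local ring whose maximal ideal 𝔪 satisfies 𝔪² = 0. Then there is a regular
local ring B with maximal ideal 𝔫 such that A ≅ B/𝔫². -/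
theorem result {A : Type u} [CommRing A] [IsLocalRing A] [IsArtinianRing A]
    (h : maximalIdeal A ^ 2 = ⊥) :
    ∃ (B : Type u) (_ : CommRing B) (_ : IsRegularLocalRing B), Nonempty (A ≃+* B ⧸ IsLocalRing.maximalIdeal B ^ 2) := by
  classical
  haveI : IsAdicComplete (maximalIdeal A) A := Groth.Agent.S2459.isAdicComplete_of_isArtinianRing A
  obtain ⟨p, hp⟩ := CharP.exists (ResidueField A)
  have hpm : (p : A) ∈ maximalIdeal A := by
    rw [← residue_eq_zero_iff, map_natCast]
    exact CharP.cast_eq_zero _ p
  by_cases hpA : (p : A) = 0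
  · -- equal characteristic: coefficient field
    obtain ⟨σ, hσ⟩ := Groth.Agent.Lib.Helper13.CohenEq.exists_section_of_natCast_eq_zero p hpA
    obtain ⟨n, f, hsurj, hker, -⟩ :=
      Groth.Agent.Lib.Helper13.CohenEq.exists_surjective_of_section σ hσ
    have hmap : (maximalIdeal (MvPowerSeries (Fin n) (ResidueField A))).map f = maximalIdeal A :=
      IsLocalRing.map_maximalIdeal_of_surjective f hsurj
    have hkereq : RingHom.ker f = maximalIdeal (MvPowerSeries (Fin n) (ResidueField A)) ^ 2 := by
      refine le_antisymm hker ?_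
      intro F hF
      have h1 := Ideal.mem_map_of_mem f hF
      rw [Ideal.map_pow, hmap, h, Ideal.mem_bot] at h1
      exact h1
    exact ⟨MvPowerSeries (Fin n) (ResidueField A), inferInstance, inferInstance,
      ⟨(RingHom.quotientKerEquivOfSurjective hsurj).symm.trans (Ideal.quotEquivOfEq hkereq)⟩⟩
  · -- mixed characteristic: Cohen ring
    have hp0 : p ≠ 0 := by
      rintro rfl
      exact hpA (by simp)
    have hpp : p.Prime := (CharP.char_is_prime_or_zero (ResidueField A) p).resolve_right hp0
    obtain ⟨Λ, _, hdom, hdvr, v, hcomp, hmΛ, hres⟩ :=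
      Groth.Agent.Lib.Helper88.CohenStruct.exists_cohen_coefficient_ring A p hpp
    letI : Algebra Λ A := v.toAlgebra
    have halg : ∀ l, algebraMap Λ A l = v l := fun l => rfl
    have h𝔞eq : (maximalIdeal Λ).map (algebraMap Λ A) = Ideal.span {(p : A)} := by
      rw [hmΛ, Ideal.map_span, Set.image_singleton, map_natCast]
    have h𝔞 : (maximalIdeal Λ).map (algebraMap Λ A) ≤ maximalIdeal A := by
      rw [h𝔞eq, Ideal.span_singleton_le_iff_mem]; exact hpm
    obtain ⟨n, x, hgen, hmin⟩ := exists_min_gen ((maximalIdeal Λ).map (algebraMap Λ A)) h𝔞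
    have hxm : ∀ i, x i ∈ maximalIdeal A := fun i => by
      rw [hgen]; exact Ideal.mem_sup_right (Ideal.subset_span ⟨i, rfl⟩)
    obtain ⟨ψ, hψX, hψC⟩ := exists_ringHom (R := Λ) (maximalIdeal A) (algebraMap Λ A) x hxm
    have hmap : (maximalIdeal (MvPowerSeries (Fin n) Λ)).map ψ = maximalIdeal A := by
      rw [map_maximalIdeal_eq x ψ hψC hψX, ← hgen]
    have hsurj : Function.Surjective ψ := by
      refine surjective_of_map_maximalIdeal ψ hmap fun s => ?_
      obtain ⟨l, hl⟩ := hres (residue A s)
      refine ⟨MvPowerSeries.C l, ?_⟩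
      rw [hψC, halg, ← Ideal.Quotient.eq]
      exact hl.symm
    have hloc : ∀ r : Λ, algebraMap Λ A r ∈ maximalIdeal A → r ∈ maximalIdeal Λ := by
      intro r hr
      rw [IsLocalRing.mem_maximalIdeal, mem_nonunits_iff] at hr ⊢
      exact fun hu => hr (hu.map _)
    have hkereq : RingHom.ker ψ = maximalIdeal (MvPowerSeries (Fin n) Λ) ^ 2 := by
      refine le_antisymm ?_ ?_
      · intro F hF
        have h1 := ker_le_of_min_gen x ψ hψC hψX hloc hgen hmin F hF
        rw [hmΛ, Ideal.map_span, Set.image_singleton, Submodule.mem_sup] at h1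
        obtain ⟨y, hy, H, hH, rfl⟩ := h1
        rw [Ideal.mem_span_singleton'] at hy
        obtain ⟨G, rfl⟩ := hy
        have hψH : ψ H = 0 := by
          have h2 := Ideal.mem_map_of_mem ψ hH
          rw [Ideal.map_pow, hmap, h, Ideal.mem_bot] at h2
          exact h2
        have h3 : ψ G * (p : A) = 0 := by
          have := hF
          have hCp' : ψ (MvPowerSeries.C (p : Λ)) = (p : A) := by rw [hψC, map_natCast]
          rw [RingHom.mem_ker, map_add, hψH, add_zero, map_mul, hCp'] at this
          exact this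
        have hG : G ∈ maximalIdeal (MvPowerSeries (Fin n) Λ) := by
          rw [IsLocalRing.mem_maximalIdeal, mem_nonunits_iff]
          intro hu
          exact hpA ((hu.map ψ).mul_right_eq_zero.mp h3)
        have hCp : MvPowerSeries.C (p : Λ) ∈ maximalIdeal (MvPowerSeries (Fin n) Λ) := by
          rw [IsLocalRing.mem_maximalIdeal, mem_nonunits_iff, MvPowerSeries.isUnit_iff_constantCoeff,
            MvPowerSeries.constantCoeff_C]
          have : (p : Λ) ∈ maximalIdeal Λ := by
            rw [hmΛ]; exact Ideal.mem_span_singleton_self _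
          exact (IsLocalRing.mem_maximalIdeal _).mp this
        refine Ideal.add_mem _ ?_ hH
        rw [pow_two]
        exact Ideal.mul_mem_mul hG hCp
      · intro F hF
        have h1 := Ideal.mem_map_of_mem ψ hF
        rw [Ideal.map_pow, hmap, h, Ideal.mem_bot] at h1
        exact h1
    have hnotfield : ¬ IsField Λ := IsDiscreteValuationRing.not_isField Λ
    haveI : IsRegularLocalRing (MvPowerSeries (Fin n) Λ) :=
      Groth.Agent.Lib.Helper96.isRegularLocalRing_mvPowerSeries_of_principal Λ hnotfield
        (p : Λ) hmΛ n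
    exact ⟨MvPowerSeries (Fin n) Λ, inferInstance, inferInstance,
      ⟨(RingHom.quotientKerEquivOfSurjective hsurj).symm.trans (Ideal.quotEquivOfEq hkereq)⟩⟩

end Groth.Agent.S2458
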