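import Groth.Statements.S2463
-- import your own Groth.Agent.* helpers here
import Groth.Agent.Lib.Helper31.LeftInv
import Mathlib.RingTheory.Smooth.Locus

set_option autoImplicit false
universe u
open EGA41

namespace Groth.Agent.S2463

open Groth.Agent.Lib.Helper31.LeftInv

section Generic

variable {C : Type u} [CommRing C] (S : Submonoid C) {M N Q : Type u}
  [AddCommGroup M] [Module C M] [AddCommGroup N] [Module C N] [AddCommGroup Q] [Module C Q]

theorem subsingleton_localizedModule_ker_iff (u : M →ₗ[C] N) :
    Subsingleton (LocalizedModule S (LinearMap.ker u)) ↔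
      Function.Injective (LocalizedModule.map S u) := by
  have hexk : Function.Exact (LocalizedModule.map S (LinearMap.ker u).subtype)
      (LocalizedModule.map S u) :=
    LocalizedModule.map_exact S _ _ (LinearMap.exact_subtype_ker_map u)
  have hinj : Function.Injective (LocalizedModule.map S (LinearMap.ker u).subtype) :=
    LocalizedModule.map_injective S _ (Submodule.subtype_injective _)
  constructor
  · intro h
    rw [injective_iff_map_eq_zero]
    intro x hx
    obtain ⟨y, rfl⟩ := (hexk x).mp hx
    rw [Subsingleton.elim y 0, map_zero]
  · intro h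
    refine ⟨fun a b => hinj (h ?_)⟩
    rw [hexk.apply_apply_eq_zero, hexk.apply_apply_eq_zero]

theorem form_iff_of_exact [Module.Projective C N] (u : M →ₗ[C] N) (π : N →ₗ[C] Q)
    (hex : Function.Exact u π) (hπ : Function.Surjective π) :
    Form S u ↔ (Subsingleton (LocalizedModule S (LinearMap.ker u)) ∧
      Module.Projective (Localization S) (LocalizedModule S Q)) := by
  have hexS : Function.Exact (LocalizedModule.map S u) (LocalizedModule.map S π) :=
    LocalizedModule.map_exact S u π hex
  have hπS : Function.Surjective (LocalizedModule.map S π) :=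
    LocalizedModule.map_surjective S π hπ
  rw [subsingleton_localizedModule_ker_iff,
    Module.Projective.iff_split_of_projective (LocalizedModule.map S π) hπS,
    (hexS.split_tfae'.out 0 1 rfl rfl)]
  constructor
  · rintro ⟨w, hw⟩
    exact ⟨hπS, w.extendScalarsOfIsLocalization S (Localization S), by
      ext x; exact congr($hw x)⟩
  · rintro ⟨-, l, hl⟩
    exact ⟨l.restrictScalars C, by ext x; exact congr($hl x)⟩

end Generic

section Core

variable {A C : Type u} [CommRing A] [CommRing C] [Algebra A C]

theorem formallySmooth_localization_iff (P : Algebra.Extension.{u} A C)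
    [Algebra.FormallySmooth A P.Ring] (S : Submonoid C) :
    Algebra.FormallySmooth A (Localization S) ↔ Form S P.cotangentComplex := by
  rw [form_iff_of_exact S P.cotangentComplex P.toKaehler P.exact_cotangentComplex_toKaehler
    P.toKaehler_surjective, Algebra.formallySmooth_iff, and_comm]
  refine and_congr ?_ ?_
  · let e2 : LinearMap.ker P.cotangentComplex ≃ₗ[C] Algebra.H1Cotangent A C :=
      P.equivH1CotangentOfFormallySmooth
    have := IsLocalizedModule.iso S
      ((Algebra.H1Cotangent.map A A C (Localization S)) ∘ₗ e2.toLinearMap)
    exact this.subsingleton_congr.symm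
  · have := IsLocalizedModule.iso S (KaehlerDifferential.map A A C (Localization S))
    have := this.extendScalarsOfIsLocalization S (Localization S)
    exact ⟨fun H ↦ H.of_equiv' this.symm, fun H ↦ H.of_equiv' this⟩

end Core


section Tensor

open TensorProduct

/-- For a surjection `B → C`, tensoring over `B` or over `C` gives the same injectivity. -/
theorem injective_lTensor_iff_of_surjective {B C : Type u} [CommRing B] [CommRing C] [Algebra B C]
    (hsurj : Function.Surjective (algebraMap B C))
    (κ : Type u) [AddCommGroup κ] [Module B κ] [Module C κ] [IsScalarTower B C κ]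
    {M N M' : Type u} [AddCommGroup M] [Module B M] [Module C M] [IsScalarTower B C M]
    [AddCommGroup N] [Module B N] [Module C N] [IsScalarTower B C N]
    [AddCommGroup M'] [Module B M']
    (u : M →ₗ[C] N) (v : M' →ₗ[B] N) (e : M ≃ₗ[B] M') (h : ∀ x, v (e x) = u x) :
    Function.Injective (u.lTensor κ) ↔ Function.Injective (v.lTensor κ) := by
  haveI hcM : CompatibleSMul B C κ M := ⟨fun c m n => by
    obtain ⟨b, rfl⟩ := hsurj c
    rw [algebraMap_smul, algebraMap_smul, smul_tmul]⟩
  haveI hcN : CompatibleSMul B C κ N := ⟨fun c m n => by
    obtain ⟨b, rfl⟩ := hsurj c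
    rw [algebraMap_smul, algebraMap_smul, smul_tmul]⟩
  let θM : κ ⊗[B] M ≃ₗ[B] κ ⊗[C] M := TensorProduct.equivOfCompatibleSMul C B B κ M
  let θN : κ ⊗[B] N ≃ₗ[B] κ ⊗[C] N := TensorProduct.equivOfCompatibleSMul C B B κ N
  have key : ∀ x, θN ((v.lTensor κ) ((e.lTensor κ) x)) = (u.lTensor κ) (θM x) := by
    intro x
    induction x using TensorProduct.induction_on with
    | zero => simp
    | tmul c m => simp [θM, θN, TensorProduct.equivOfCompatibleSMul, h]
    | add x y hx hy => simp only [map_add, hx, hy]
  have hfun : ⇑(u.lTensor κ) = θN ∘ (v.lTensor κ) ∘ (e.lTensor κ) ∘ θM.symm := by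
    funext y
    obtain ⟨x, rfl⟩ := θM.surjective y
    simp [key]
  rw [hfun, EquivLike.comp_injective, ← Function.comp_assoc, EquivLike.injective_comp,
    EquivLike.injective_comp]

end Tensor


open TensorProduct KaehlerDifferential in
/-- Let B be a formally smooth A-algebra (discrete topologies), B → C a surjection with kernel J such
that J/J² is a finitely generated module (over B, equivalently over C), and p a prime of C. The
following are equivalent: the local ring C_p is formally smooth over A; the map κ(p) ⊗ J/J² → κ(p) ⊗
(C ⊗_B Ω_{B/A}) induced by d is injective (tensor products over B, which agree with those over C =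
B/J); there is f ∈ C outside p with C_f formally smooth over A. -/
theorem result {A B C : Type u} [CommRing A] [CommRing B] [CommRing C] [Algebra A B] [Algebra B C] [Algebra A C]
    [IsScalarTower A B C] [Algebra.FormallySmooth A B] (hsurj : Function.Surjective (algebraMap B C))
    [Module.Finite B (RingHom.ker (algebraMap B C)).Cotangent] (p : Ideal C) [p.IsPrime] :
    [Algebra.FormallySmooth A (Localization.AtPrime p),
     Function.Injective ((kerCotangentToTensor A B C).lTensor p.ResidueField),
     ∃ f : C, f ∉ p ∧ Algebra.FormallySmooth A (Localization.Away f)].TFAE := by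
  classical
  let P' : Algebra.Extension.{u} A C := ⟨B, _, Function.surjInv_eq hsurj⟩
  haveI : Algebra.FormallySmooth A P'.Ring := ‹_›
  haveI : Module.Finite B P'.Cotangent :=
    Module.Finite.equiv P'.cotangentEquivCotangentKer.symm
  haveI : Module.Finite C P'.Cotangent := Module.Finite.of_restrictScalars_finite B C _
  haveI : Module.Projective C P'.CotangentSpace := inferInstance
  have hS : ∀ S : Submonoid C, Algebra.FormallySmooth A (Localization S) ↔
      LI S P'.cotangentComplex := fun S =>
    (formallySmooth_localization_iff P' S).trans form_iff_LI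
  have h2 : LI p.primeCompl P'.cotangentComplex ↔
      Function.Injective ((kerCotangentToTensor A B C).lTensor p.ResidueField) := by
    rw [← injective_lTensor_iff_of_surjective hsurj p.ResidueField P'.cotangentComplex
      (kerCotangentToTensor A B C) P'.cotangentEquivCotangentKer (fun x => rfl)]
    exact ⟨injective_lTensor_of_LI p, LI_of_injective p⟩
  tfae_have 1 ↔ 2 := (hS p.primeCompl).trans h2
  tfae_have 1 → 3 := by
    intro h
    obtain ⟨f, hf, w₁, hw⟩ := (hS p.primeCompl).mp h
    exact ⟨f, hf, (hS (Submonoid.powers f)).mpr ⟨f, Submonoid.mem_powers f, w₁, hw⟩⟩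
  tfae_have 3 → 1 := by
    rintro ⟨f, hf, h⟩
    exact (hS p.primeCompl).mpr
      (LI.mono ((Submonoid.powers_le (P := p.primeCompl)).mpr hf) ((hS (Submonoid.powers f)).mp h))
  tfae_finish

end Groth.Agent.S2463
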