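import Groth.Statements.S2465
import Groth.Agent.Lib.Helper13.PBasisDer
open Groth.Agent.Lib.Helper13.PBasis

set_option autoImplicit false
universe u
open EGA41

namespace Groth.Agent.S2465

/-- Let p be a prime, B a ring of characteristic p, A → B injective with image containing all p-th
powers, (x_α) a p-basis of B over A, and L a B-module. (i) An additive derivation D : A → L extends
to a derivation of B if and only if D vanishes on the elements of A mapping to p-th powers. (ii) In
that case, for every family (y_α) in L there is a unique derivation D' of B into L extending D with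
D'(x_α) = y_α for all α. -/
theorem result (p : ℕ) [Fact p.Prime] {A B : Type u} [CommRing A] [CommRing B] [Algebra A B] [CharP B p]
    (hinj : Function.Injective (algebraMap A B)) (hpow : ∀ b : B, b ^ p ∈ Set.range (algebraMap A B))
    {ι : Type u} (x : ι → B) (hx : EGA41.IsPBasis p A x)
    (L : Type u) [AddCommGroup L] [Module B L] [Module A L] [IsScalarTower A B L] (D : Derivation ℤ A L) :
    ((∃ D' : Derivation ℤ B L, ∀ a : A, D' (algebraMap A B a) = D a) ↔ ∀ (a : A) (b : B), algebraMap A B a = b ^ p → D a = 0) ∧
    ((∀ (a : A) (b : B), algebraMap A B a = b ^ p → D a = 0) →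
      ∀ y : ι → L, ∃! D' : Derivation ℤ B L, (∀ a : A, D' (algebraMap A B a) = D a) ∧ ∀ i, D' (x i) = y i) := by
  classical
  have hind := linearIndependent_of_injective p x hinj hx.1
  have hgen := span_eq_top_of_pow_mem_range p x hpow hx.2
  choose c hc using fun i => hpow (x i)
  have part2 : (∀ (a : A) (b : B), algebraMap A B a = b ^ p → D a = 0) →
      ∀ y : ι → L, ∃! D' : Derivation ℤ B L,
        (∀ a : A, D' (algebraMap A B a) = D a) ∧ ∀ i, D' (x i) = y i := by
    intro H y
    obtain ⟨D₁, hD₁a, hD₁x⟩ := exists_int_derivation p x c hc hind hgen D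
      (fun q => H _ _ (algebraMap_cpow p c x hc q))
    obtain ⟨Dy, hDy⟩ := exists_derivation (R := A) p (CharP.cast_eq_zero B p) x c hc hind hgen y
    refine ⟨D₁ + Dy.restrictScalars ℤ, ⟨fun a => ?_, fun i => ?_⟩, ?_⟩
    · rw [Derivation.add_apply, hD₁a, Derivation.restrictScalars_apply,
        Derivation.map_algebraMap, add_zero]
    · rw [Derivation.add_apply, hD₁x, Derivation.restrictScalars_apply, hDy, zero_add]
    · rintro D₂ ⟨h2a, h2x⟩
      apply int_derivation_ext (R := A) p x hgen
      · intro a
        rw [h2a, Derivation.add_apply, hD₁a, Derivation.restrictScalars_apply,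
          Derivation.map_algebraMap, add_zero]
      · intro i
        rw [h2x, Derivation.add_apply, hD₁x, Derivation.restrictScalars_apply, hDy, zero_add]
  refine ⟨⟨?_, ?_⟩, part2⟩
  · rintro ⟨D', hD'⟩ a b hab
    rw [← hD', hab, Derivation.leibniz_pow]
    have : ((p : ℕ) : B) = 0 := CharP.cast_eq_zero B p
    rw [← Nat.cast_smul_eq_nsmul B, this, zero_smul]
  · intro H
    obtain ⟨D', ⟨h1, -⟩, -⟩ := part2 H 0
    exact ⟨D', h1⟩

end Groth.Agent.S2465
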