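import Groth.Statements.S2474
import Groth.Agent.Lib.Helper88.FinSubalg3
import Groth.Agent.Lib.Helper88.CohenNagata
import Groth.Agent.S0543
-- import your own Groth.Agent.* helpers here

set_option autoImplicit false
universe u
open EGA41

namespace Groth.Agent.S2474

open IsLocalRing in
/-- Let A be a Noetherian local domain with fraction field K, K' a finite extension of K and A' the
integral closure of A in K'. Then A' has only finitely many maximal ideals, and for every maximal
ideal 𝔪' of A' the field A'/𝔪' is a finite extension of the residue field of A (equivalently a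
finite A-module). -/
theorem result {A K' : Type u} [CommRing A] [IsDomain A] [IsLocalRing A] [IsNoetherianRing A]
    [Field K'] [Algebra A K'] [Algebra (FractionRing A) K'] [IsScalarTower A (FractionRing A) K'] [FiniteDimensional (FractionRing A) K'] :
    {m : Ideal (integralClosure A K') | m.IsMaximal}.Finite ∧
      ∀ (m : Ideal (integralClosure A K')), m.IsMaximal → Module.Finite A (integralClosure A K' ⧸ m) := by
  classical
  let Ah := AdicCompletion (IsLocalRing.maximalIdeal A) A
  haveI : IsNoetherianRing Ah := Groth.Agent.S0543.result A _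
  haveI : Module.Flat A Ah := inferInstance
  haveI : IsLocalHom (algebraMap A Ah) := inferInstance
  haveI : Module.FaithfullyFlat A Ah := Module.FaithfullyFlat.of_flat_of_isLocalHom
  have hNag : CAlg.IsNagata Ah := Groth.Agent.Lib.Helper88.CohenNagata.isNagata_of_complete Ah
  obtain ⟨Cα, hCα, hstab⟩ := Groth.Agent.Lib.Helper88.FinSubalg.exists_stable' (A := A) (B := Ah)
    (K' := K') (fun q _ _ => hNag.2 q)
  have hb : ∀ C : Subalgebra A K', Groth.Agent.Lib.Helper88.FinSubalg.P C → ∀ hle : Cα ≤ C,
      ∀ y : TensorProduct A ↥C Ah, ∃ x : TensorProduct A ↥Cα Ah,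
      IsNilpotent (Algebra.TensorProduct.map (Subalgebra.inclusion hle) (AlgHom.id A Ah) x - y) :=
    fun C hC hle y => (hstab C hC hle).2 y
  have hint : Cα ≤ integralClosure A K' :=
    Groth.Agent.Lib.Helper88.FinSubalg.le_integralClosure_of_P Cα hCα
  haveI := hCα.1
  have hf := Groth.Agent.Lib.Helper88.FinSubalg.isIntegral_inclusion Cα hint
  let β : Ah →ₐ[A] A ⧸ maximalIdeal A := AdicCompletion.evalOneₐ (maximalIdeal A)
  refine ⟨?_, ?_⟩
  · -- finitely many maximal ideals
    have hfin : ((maximalIdeal A).primesOver Cα).Finite :=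
      Algebra.QuasiFinite.finite_primesOver (maximalIdeal A)
    refine Set.Finite.of_finite_image (f := fun m' : Ideal (integralClosure A K') =>
      m'.comap (Subalgebra.inclusion hint).toRingHom) (hfin.subset ?_) ?_
    · rintro _ ⟨m', hm', rfl⟩
      haveI : m'.IsMaximal := hm'
      have hmax : (m'.comap (Subalgebra.inclusion hint).toRingHom).IsMaximal :=
        Ideal.isMaximal_comap_of_isIntegral_of_isMaximal' _ hf m'
      refine ⟨hmax.isPrime, ⟨?_⟩⟩
      haveI : Algebra.IsIntegral A Cα := Algebra.IsIntegral.of_finite A Cα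
      haveI := hmax
      haveI : ((m'.comap (Subalgebra.inclusion hint).toRingHom).comap (algebraMap A Cα)).IsMaximal :=
        Ideal.isMaximal_comap_of_isIntegral_of_isMaximal _
      exact (IsLocalRing.eq_maximalIdeal inferInstance).symm
    · intro m₁ hm₁ m₂ hm₂ h
      haveI : m₁.IsMaximal := hm₁
      haveI : m₂.IsMaximal := hm₂
      exact Groth.Agent.Lib.Helper88.FinSubalg.eq_of_comap_eq_of_stable (B := Ah) Cα hCα hb hint
        m₁ m₂ h.symm
  · intro m' hm'
    haveI : m'.IsMaximal := hm'
    have hsurj := Groth.Agent.Lib.Helper88.FinSubalg.surjective_mk_of_stable (B := Ah) β Cα hCα hb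
      hint m'
    exact Module.Finite.of_surjective
      ((Ideal.Quotient.mkₐ A m').comp (Subalgebra.inclusion hint)).toLinearMap hsurj

end Groth.Agent.S2474
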