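import Groth.Statements.S2477
import Mathlib
import Groth.Agent.Lib.Helper96.PSKaehler

set_option autoImplicit false
universe u
open EGA41

namespace Groth.Agent.S2477

open Groth.Agent.Lib.Helper76.PSComplete

open IsLocalRing in
/-- Let k be a field and A = k[[T_1, …, T_r]] with its usual k-algebra structure. Then the adic
completion Ω̂_{A/k} of Ω_{A/k} is a free A-module of rank r. -/
theorem result (k : Type u) [Field k] (r : ℕ) :
    Module.Finite (MvPowerSeries (Fin r) k) (AdicCompletion (maximalIdeal (MvPowerSeries (Fin r) k)) (Ω[MvPowerSeries (Fin r) k⁄k])) ∧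
    Module.Free (MvPowerSeries (Fin r) k) (AdicCompletion (maximalIdeal (MvPowerSeries (Fin r) k)) (Ω[MvPowerSeries (Fin r) k⁄k])) ∧
      Module.finrank (MvPowerSeries (Fin r) k) (AdicCompletion (maximalIdeal (MvPowerSeries (Fin r) k)) (Ω[MvPowerSeries (Fin r) k⁄k])) = r := by
  have key : ∀ J : Ideal (MvPowerSeries (Fin r) k), J = varIdeal (Fin r) k →
      Module.Finite (MvPowerSeries (Fin r) k)
        (AdicCompletion J (Ω[MvPowerSeries (Fin r) k⁄k])) ∧
      Module.Free (MvPowerSeries (Fin r) k)
        (AdicCompletion J (Ω[MvPowerSeries (Fin r) k⁄k])) ∧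
      Module.finrank (MvPowerSeries (Fin r) k)
        (AdicCompletion J (Ω[MvPowerSeries (Fin r) k⁄k])) = r := by
    rintro J rfl
    have e := Groth.Agent.Lib.Helper96.PSKaehler.equiv k r
    refine ⟨Module.Finite.equiv e, Module.Free.of_equiv e, ?_⟩
    rw [← e.finrank_eq, Module.finrank_fin_fun]
  exact key _ (maximalIdeal_eq_varIdeal k (Fin r))

end Groth.Agent.S2477
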