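import Groth.Statements.S2479
import Groth.Agent.Lib.Helper17.ProCScheme
import Groth.Agent.S3398

set_option autoImplicit false
universe u
open EGA41

namespace Groth.Agent.S2479

open AlgebraicGeometry CategoryTheory Topology in
/-- Let X be a quasi-compact and quasi-separated scheme and E ⊆ X. Then E = f(X') for some quasi-compact
morphism f : X' → X if and only if E is an intersection of a family of constructible subsets of X. -/
theorem result {X : Scheme.{u}} [CompactSpace X] [QuasiSeparatedSpace X] (E : Set X) :
    (∃ (X' : Scheme.{u}) (f : X' ⟶ X), QuasiCompact f ∧ Set.range f.base = E) ↔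
      ∃ S : Set (Set X), (∀ s ∈ S, IsConstructible s) ∧ E = ⋂₀ S := by
  constructor
  · rintro ⟨X', f, hf, rfl⟩
    have huniv : ProCons.IsProConstructible (Set.univ : Set X') := fun x =>
      ⟨Set.univ, isOpen_univ, trivial, ∅, fun _ h => absurd h (Set.notMem_empty _), by simp⟩
    have h1 := Groth.Agent.S3398.result f Set.univ huniv
    rw [Set.image_univ] at h1
    exact Groth.Agent.Lib.Helper17.isProC_preimage_of_isOpenEmbedding X h1 id
      Topology.IsOpenEmbedding.id
  · rintro ⟨S, hS, rfl⟩
    have hE : ProCons.IsProConstructible (⋂₀ S) := by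
      intro x
      refine ⟨Set.univ, isOpen_univ, trivial, (fun s => Subtype.val ⁻¹' s) '' S, ?_, ?_⟩
      · rintro _ ⟨s, hs, rfl⟩
        exact ((hS s hs).preimage_of_isOpenEmbedding
          isOpen_univ.isOpenEmbedding_subtypeVal).isLocallyConstructible
      · rw [Set.preimage_sInter, Set.sInter_image]
    obtain ⟨X', f, hX', hf⟩ := Groth.Agent.Lib.Helper17.exists_affine_range_eq X _ hE
    exact ⟨X', f, inferInstance, hf⟩

end Groth.Agent.S2479
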