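import Groth.Statements.S4553
-- import your own Groth.Agent.* helpers here
import Groth.Agent.S4542
import Mathlib.RingTheory.Ideal.Quotient.PowTransition

set_option autoImplicit false
universe u
open EGA41

namespace Groth.Agent.S4553

variable {A B : Type u} [CommRing A] [CommRing B] [Algebra A B]

/-- the lifting property against square-zero ideals killed by `𝔞` -/
def LiftProp (𝔞 : Ideal A) (𝔟 : Ideal B) : Prop :=
  ∀ (C : Type u) [CommRing C] [Algebra A C] (J : Ideal C), (∀ j ∈ J, ∀ j' ∈ J, j * j' = 0) →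
    (∀ a ∈ 𝔞, ∀ j ∈ J, algebraMap A C a * j = 0) →
    (∃ k : ℕ, (𝔞 ^ k).map (algebraMap A C) = ⊥) →
    ∀ u : B →ₐ[A] C ⧸ J, (∃ k : ℕ, ∀ x ∈ 𝔟 ^ k, u x = 0) →
      ∃ v : B →ₐ[A] C, (Ideal.Quotient.mkₐ A J).comp v = u

theorem LiftProp.lift_of_surjective {𝔞 : Ideal A} {𝔟 : Ideal B} (h : LiftProp 𝔞 𝔟)
    {D E : Type u} [CommRing D] [CommRing E] [Algebra A D] [Algebra A E] (π : D →ₐ[A] E)
    (hπ : Function.Surjective π)
    (hsq : ∀ j ∈ RingHom.ker π, ∀ j' ∈ RingHom.ker π, j * j' = 0)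
    (ha : ∀ a ∈ 𝔞, ∀ j ∈ RingHom.ker π, algebraMap A D a * j = 0)
    (hdisc : ∃ k : ℕ, (𝔞 ^ k).map (algebraMap A D) = ⊥)
    (g : B →ₐ[A] E) (hg : ∃ m : ℕ, ∀ x ∈ 𝔟 ^ m, g x = 0) :
    ∃ g' : B →ₐ[A] D, π.comp g' = g ∧ ∃ m : ℕ, ∀ x ∈ 𝔟 ^ m, g' x = 0 := by
  obtain ⟨m, hm⟩ := hg
  obtain ⟨g', hg'⟩ := h D (RingHom.ker π) hsq ha hdisc
    ((Ideal.quotientKerAlgEquivOfSurjective hπ).symm.toAlgHom.comp g)
    ⟨m, fun x hx => by simp [hm x hx]⟩
  have h1 : π.comp g' = g := by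
    ext b
    have h2 := congr((Ideal.quotientKerAlgEquivOfSurjective hπ) ($hg' b))
    simpa using h2
  refine ⟨g', h1, m * 2, fun x hx => ?_⟩
  have h3 : (𝔟 ^ m).map g'.toRingHom ≤ RingHom.ker π := by
    rw [Ideal.map_le_iff_le_comap]
    intro y hy
    have h4 := congr($h1 y)
    simp only [AlgHom.comp_apply] at h4
    simp only [Ideal.mem_comap, RingHom.mem_ker]
    exact h4.trans (hm y hy)
  have h4 : ((𝔟 ^ m) ^ 2).map g'.toRingHom ≤ ⊥ := by
    rw [Ideal.map_pow, pow_two]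
    refine (Ideal.mul_mono h3 h3).trans ?_
    rw [Ideal.mul_le]
    intro j hj j' hj'
    rw [hsq j hj j' hj']
    exact Ideal.zero_mem _
  rw [← pow_mul] at h4
  have h5 := h4 (Ideal.mem_map_of_mem _ hx)
  simpa using h5

theorem isFormallySmoothAdic_of_liftProp {𝔞 : Ideal A} {𝔟 : Ideal B} (h : LiftProp 𝔞 𝔟) :
    EGA41.IsFormallySmoothAdic A 𝔞 B 𝔟 := by
  intro C _ _ J hJ hdisc u hu
  obtain ⟨r, hr⟩ := hJ
  obtain ⟨k, hk⟩ := hdisc
  set 𝔪 : Ideal C := J ⊔ 𝔞.map (algebraMap A C) with h𝔪def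
  have h𝔪 : 𝔪 ^ (r * k) = ⊥ := by
    rw [eq_bot_iff, pow_mul]
    calc (𝔪 ^ r) ^ k ≤ (J ^ r ⊔ 𝔞.map (algebraMap A C)) ^ k :=
          Ideal.pow_right_mono (Groth.Agent.S4542.sup_pow_le _ _ _) _
      _ = ⊥ := by
        rw [hr, Ideal.zero_eq_bot, bot_sup_eq, ← Ideal.map_pow, hk]
  have hJ𝔪 : J ≤ 𝔪 := le_sup_left
  have ha𝔪 : ∀ a ∈ 𝔞, algebraMap A C a ∈ 𝔪 := fun a ha =>
    Ideal.mem_sup_right (Ideal.mem_map_of_mem _ ha)
  have claim : ∀ n : ℕ, ∀ K : Ideal C, ∀ hKJ : K ≤ J, J ⊓ 𝔪 ^ n ≤ K →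
      ∃ v : B →ₐ[A] C ⧸ K, (Ideal.Quotient.factorₐ A hKJ).comp v = u ∧
        ∃ m : ℕ, ∀ x ∈ 𝔟 ^ m, v x = 0 := by
    intro n
    induction n with
    | zero =>
      intro K hKJ hK
      have : K = J := le_antisymm hKJ (by simpa using hK)
      subst this
      refine ⟨u, ?_, hu⟩
      ext b
      obtain ⟨c, hc⟩ := Ideal.Quotient.mk_surjective (u b)
      rw [AlgHom.comp_apply, ← hc, Ideal.Quotient.factorₐ_apply_mk]
    | succ n ih =>
      intro K hKJ hK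
      have hK'J : K ⊔ (J ⊓ 𝔪 ^ n) ≤ J := sup_le hKJ inf_le_left
      obtain ⟨v', hv', hv'0⟩ := ih (K ⊔ (J ⊓ 𝔪 ^ n)) hK'J le_sup_right
      have hKK' : K ≤ K ⊔ (J ⊓ 𝔪 ^ n) := le_sup_left
      have hker : ∀ j ∈ RingHom.ker (Ideal.Quotient.factorₐ A hKK'),
          ∃ c ∈ J ⊓ 𝔪 ^ n, j = Ideal.Quotient.mk K c := by
        intro j hj
        obtain ⟨c, rfl⟩ := Ideal.Quotient.mk_surjective j
        rw [RingHom.mem_ker, Ideal.Quotient.factorₐ_apply_mk, Ideal.Quotient.eq_zero_iff_mem] at hj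
        obtain ⟨c1, hc1, c2, hc2, rfl⟩ := Submodule.mem_sup.mp hj
        refine ⟨c2, hc2, ?_⟩
        rw [map_add, Ideal.Quotient.eq_zero_iff_mem.mpr hc1, zero_add]
      obtain ⟨g', hg', hg'0⟩ := h.lift_of_surjective (Ideal.Quotient.factorₐ A hKK')
        (Ideal.Quotient.factor_surjective hKK')
        (by
          intro j hj j' hj'
          obtain ⟨c, hc, rfl⟩ := hker j hj
          obtain ⟨c', hc', rfl⟩ := hker j' hj'
          rw [← map_mul, Ideal.Quotient.eq_zero_iff_mem]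
          apply hK
          refine ⟨J.mul_mem_right _ hc.1, ?_⟩
          rw [pow_succ']
          exact Ideal.mul_mem_mul (hJ𝔪 hc.1) hc'.2)
        (by
          intro a ha j hj
          obtain ⟨c, hc, rfl⟩ := hker j hj
          rw [← Ideal.Quotient.mk_algebraMap, ← map_mul, Ideal.Quotient.eq_zero_iff_mem]
          apply hK
          refine ⟨J.mul_mem_left _ hc.1, ?_⟩
          rw [pow_succ']
          exact Ideal.mul_mem_mul (ha𝔪 a ha) hc.2)
        ⟨k, by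
          rw [eq_bot_iff, Ideal.map_le_iff_le_comap]
          intro a ha
          rw [Ideal.mem_comap, ← Ideal.Quotient.mk_algebraMap]
          have : algebraMap A C a ∈ (𝔞 ^ k).map (algebraMap A C) := Ideal.mem_map_of_mem _ ha
          rw [hk] at this
          rw [(Submodule.mem_bot C).mp this, map_zero]
          exact Ideal.zero_mem _⟩ v' hv'0
      refine ⟨g', ?_, hg'0⟩
      rw [← hv', ← hg', ← AlgHom.comp_assoc, Ideal.Quotient.factorₐ_comp]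
  obtain ⟨v, hv, -⟩ := claim (r * k) ⊥ bot_le (by rw [h𝔪]; simp)
  refine ⟨(AlgEquiv.quotientBot A C).toAlgHom.comp v, ?_⟩
  rw [← hv]
  ext b
  obtain ⟨c, hc⟩ := Ideal.Quotient.mk_surjective (v b)
  simp only [AlgHom.comp_apply, ← hc, Ideal.Quotient.factorₐ_apply_mk]
  rfl

theorem forward (𝔞 : Ideal A) (𝔟 : Ideal B) (h : EGA41.IsFormallySmoothAdic A 𝔞 B 𝔟) :
    EGA41.IsFormallySmoothAdic (A ⧸ 𝔞) ⊥ (B ⧸ 𝔞.map (algebraMap A B))
      (𝔟.map (Ideal.Quotient.mk (𝔞.map (algebraMap A B)))) := by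
  intro C _ _ J hJ _ u₀ hu₀
  letI : Algebra A C := ((algebraMap (A ⧸ 𝔞) C).comp (Ideal.Quotient.mk 𝔞)).toAlgebra
  haveI : IsScalarTower A (A ⧸ 𝔞) C := IsScalarTower.of_algebraMap_eq (fun _ => rfl)
  have h0 : ∀ a ∈ 𝔞, algebraMap A C a = 0 := by
    intro a ha
    change algebraMap (A ⧸ 𝔞) C (Ideal.Quotient.mk 𝔞 a) = 0
    rw [Ideal.Quotient.eq_zero_iff_mem.mpr ha, map_zero]
  let u : B →ₐ[A] C ⧸ J := (u₀.restrictScalars A).comp (Ideal.Quotient.mkₐ A _)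
  obtain ⟨k, hk⟩ := hu₀
  obtain ⟨v, hv⟩ := h C J hJ ⟨1, by
      rw [pow_one, eq_bot_iff, Ideal.map_le_iff_le_comap]
      intro a ha
      rw [Ideal.mem_comap, h0 a ha]
      exact Ideal.zero_mem _⟩ u ⟨k, fun x hx => by
      change u₀ (Ideal.Quotient.mk _ x) = 0
      apply hk
      rw [← Ideal.map_pow]
      exact Ideal.mem_map_of_mem _ hx⟩
  have hv0 : ∀ b ∈ 𝔞.map (algebraMap A B), v.toRingHom b = 0 := by
    intro b hb
    have : 𝔞.map (algebraMap A B) ≤ RingHom.ker v.toRingHom := by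
      rw [Ideal.map_le_iff_le_comap]
      intro a ha
      rw [Ideal.mem_comap, RingHom.mem_ker]
      change v (algebraMap A B a) = 0
      rw [v.commutes, h0 a ha]
    exact this hb
  let v₀ : B ⧸ 𝔞.map (algebraMap A B) →ₐ[A ⧸ 𝔞] C :=
    { Ideal.Quotient.lift (𝔞.map (algebraMap A B)) v.toRingHom hv0 with
      commutes' := by
        intro r
        obtain ⟨a, rfl⟩ := Ideal.Quotient.mk_surjective r
        change v (algebraMap A B a) = _
        rw [v.commutes]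
        rfl }
  refine ⟨v₀, ?_⟩
  ext x
  obtain ⟨b, rfl⟩ := Ideal.Quotient.mk_surjective x
  exact congr($hv b)



section Key

variable {C : Type u} [CommRing C] [Algebra A C] (J : Ideal C) (u : B →ₐ[A] C ⧸ J)
  (w : B →ₗ[A] C) (𝔠 : Ideal B)

/-- the pullback algebra `C ×_{C/J} B` -/
def EB : Subalgebra A (C × B) :=
  AlgHom.equalizer ((Ideal.Quotient.mkₐ A J).comp (AlgHom.fst A C B)) (u.comp (AlgHom.snd A C B))

theorem mem_EB (e : C × B) : e ∈ EB J u ↔ Ideal.Quotient.mk J e.1 = u e.2 := Iff.rfl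

theorem sub_mem_J (hw : ∀ b, Ideal.Quotient.mk J (w b) = u b) (e : EB J u) :
    (e : C × B).1 - w (e : C × B).2 ∈ J := by
  rw [← Ideal.Quotient.eq, hw]
  exact e.2

/-- the graph of `w` over `𝔠`, an ideal of `EB` -/
def graphIdeal : Ideal (EB J u) :=
  Ideal.span {e | (e : C × B).2 ∈ 𝔠 ∧ (e : C × B).1 = w (e : C × B).2}

/-- the extension `E = EB / graphIdeal` -/
def E : Type u := EB J u ⧸ graphIdeal J u w 𝔠

noncomputable instance : CommRing (E J u w 𝔠) :=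
  inferInstanceAs (CommRing (EB J u ⧸ graphIdeal J u w 𝔠))

/-- the quotient map -/
noncomputable def mkE : EB J u →+* E J u w 𝔠 := Ideal.Quotient.mk (graphIdeal J u w 𝔠)

theorem mkE_surjective : Function.Surjective (mkE J u w 𝔠) := Ideal.Quotient.mk_surjective

theorem mkE_eq_zero_iff (e : EB J u) : mkE J u w 𝔠 e = 0 ↔ e ∈ graphIdeal J u w 𝔠 :=
  Ideal.Quotient.eq_zero_iff_mem

theorem mkE_eq_iff (e e' : EB J u) :
    mkE J u w 𝔠 e = mkE J u w 𝔠 e' ↔ e - e' ∈ graphIdeal J u w 𝔠 :=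
  Ideal.Quotient.eq

/-- the projection to `B ⧸ 𝔠` -/
noncomputable def ρE (h : ∀ e ∈ graphIdeal J u w 𝔠, ((Ideal.Quotient.mk 𝔠).comp
    ((RingHom.snd C B).comp (EB J u).val.toRingHom)) e = 0) : E J u w 𝔠 →+* B ⧸ 𝔠 :=
  Ideal.Quotient.lift (graphIdeal J u w 𝔠) ((Ideal.Quotient.mk 𝔠).comp
    ((RingHom.snd C B).comp (EB J u).val.toRingHom)) h

theorem ρE_mkE (h : ∀ e ∈ graphIdeal J u w 𝔠, ((Ideal.Quotient.mk 𝔠).comp
    ((RingHom.snd C B).comp (EB J u).val.toRingHom)) e = 0) (e : EB J u) :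
    ρE J u w 𝔠 h (mkE J u w 𝔠 e) = Ideal.Quotient.mk 𝔠 (e : C × B).2 := rfl

/-- the structure map from `A ⧸ 𝔞` -/
noncomputable def algE (𝔞 : Ideal A) (h : ∀ a ∈ 𝔞, ((mkE J u w 𝔠).comp (algebraMap A (EB J u))) a = 0) :
    A ⧸ 𝔞 →+* E J u w 𝔠 :=
  Ideal.Quotient.lift 𝔞 ((mkE J u w 𝔠).comp (algebraMap A (EB J u))) h

variable (hw : ∀ b, Ideal.Quotient.mk J (w b) = u b)
  (F1 : ∀ c ∈ 𝔠, ∀ j ∈ J, j * w c = 0) (F2 : ∀ b, ∀ c ∈ 𝔠, w (b * c) = w b * w c)

include hw F1 F2 in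
/-- key property -/
theorem key (e : EB J u) (c : B) (hc : c ∈ 𝔠) : (e : C × B).1 * w c = w ((e : C × B).2 * c) := by
  rw [F2 _ c hc]
  have h1 := F1 c hc _ (sub_mem_J J u w hw e)
  rw [sub_mul, sub_eq_zero] at h1
  exact h1

include hw F1 F2 in
theorem mem_graphIdeal_iff (e : EB J u) :
    e ∈ graphIdeal J u w 𝔠 ↔ (e : C × B).2 ∈ 𝔠 ∧ (e : C × B).1 = w (e : C × B).2 := by
  constructor
  · intro he
    unfold graphIdeal at he
    induction he using Submodule.span_induction with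
    | mem e he => exact he
    | zero => exact ⟨𝔠.zero_mem, by simp⟩
    | add e e' _ _ he he' =>
      refine ⟨?_, ?_⟩
      · exact 𝔠.add_mem he.1 he'.1
      · change (e : C × B).1 + (e' : C × B).1 = w ((e : C × B).2 + (e' : C × B).2)
        rw [map_add, he.2, he'.2]
    | smul e' e _ he =>
      refine ⟨?_, ?_⟩
      · exact 𝔠.mul_mem_left _ he.1
      · change (e' : C × B).1 * (e : C × B).1 = w ((e' : C × B).2 * (e : C × B).2)
        rw [he.2, key J u w 𝔠 hw F1 F2 e' _ he.1]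
  · intro he
    exact Ideal.subset_span he

/-- the candidate lift on representatives -/
def Θ (e : EB J u) (b : B) : C := (e : C × B).1 + w (b - (e : C × B).2)

include hw F1 F2 in
theorem Θ_congr (e e' : EB J u) (b : B) (h : e - e' ∈ graphIdeal J u w 𝔠) :
    Θ J u w e b = Θ J u w e' b := by
  obtain ⟨h1, h2⟩ := (mem_graphIdeal_iff J u w 𝔠 hw F1 F2 _).mp h
  change (e : C × B).1 - (e' : C × B).1 = w ((e : C × B).2 - (e' : C × B).2) at h2
  unfold Θ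
  have h3 : (e : C × B).1 = (e' : C × B).1 + w ((e : C × B).2 - (e' : C × B).2) := by
    rw [← h2]; ring
  rw [h3, add_assoc, ← map_add]
  congr 2
  ring

include hw F1 F2 in
theorem Θ_mul (e e' : EB J u) (b b' : B) (h : b - (e : C × B).2 ∈ 𝔠)
    (h' : b' - (e' : C × B).2 ∈ 𝔠) :
    Θ J u w (e * e') (b * b') = Θ J u w e b * Θ J u w e' b' := by
  unfold Θ
  change (e : C × B).1 * (e' : C × B).1 + w (b * b' - (e : C × B).2 * (e' : C × B).2) = _
  rw [mul_add, add_mul, add_mul, key J u w 𝔠 hw F1 F2 e _ h', mul_comm (w _) (e' : C × B).1,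
    key J u w 𝔠 hw F1 F2 e' _ h, ← F2 _ _ h']
  simp only [add_assoc, ← map_add]
  congr 2
  ring

theorem Θ_add (e e' : EB J u) (b b' : B) :
    Θ J u w (e + e') (b + b') = Θ J u w e b + Θ J u w e' b' := by
  unfold Θ
  change (e : C × B).1 + (e' : C × B).1 + w (b + b' - ((e : C × B).2 + (e' : C × B).2)) = _
  rw [show b + b' - ((e : C × B).2 + (e' : C × B).2) =
    (b - (e : C × B).2) + (b' - (e' : C × B).2) by ring, map_add]
  ring

include hw in
theorem mk_Θ (e : EB J u) (b : B) : Ideal.Quotient.mk J (Θ J u w e b) = u b := by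
  unfold Θ
  rw [map_add, hw, map_sub, (mem_EB J u _).mp e.2]
  ring

end Key

theorem isNilpotent_of_mul_eq_zero {R : Type*} [CommRing R] (K : Ideal R)
    (h : ∀ x ∈ K, ∀ y ∈ K, x * y = 0) : IsNilpotent K := by
  refine ⟨2, ?_⟩
  rw [Ideal.zero_eq_bot, eq_bot_iff, pow_two, Ideal.mul_le]
  intro x hx y hy
  rw [h x hx y hy]
  exact Ideal.zero_mem _

theorem liftProp_of_proj (𝔞 : Ideal A) (𝔟 : Ideal B)
    (hproj : ∀ (n : ℕ) (P Q : Type u) [AddCommGroup P] [Module A P] [AddCommGroup Q] [Module A Q],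
      (∀ a ∈ 𝔞 ^ n, ∀ y : P, a • y = 0) → (∀ a ∈ 𝔞 ^ n, ∀ y : Q, a • y = 0) →
      ∀ f : P →ₗ[A] Q, Function.Surjective f → ∀ v : B →ₗ[A] Q, (∃ m : ℕ, ∀ x ∈ 𝔟 ^ m, v x = 0) →
        ∃ w : B →ₗ[A] P, (∃ m : ℕ, ∀ x ∈ 𝔟 ^ m, w x = 0) ∧ f ∘ₗ w = v)
    (h₀ : EGA41.IsFormallySmoothAdic (A ⧸ 𝔞) ⊥ (B ⧸ 𝔞.map (algebraMap A B))
        (𝔟.map (Ideal.Quotient.mk (𝔞.map (algebraMap A B))))) : LiftProp 𝔞 𝔟 := by
  intro C _ _ J hJ2 haJ hdisc u hu
  obtain ⟨k, hk⟩ := hdisc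
  obtain ⟨m, hm⟩ := hu
  have hkC : ∀ a ∈ 𝔞 ^ k, algebraMap A C a = 0 := by
    intro a ha
    have : algebraMap A C a ∈ (𝔞 ^ k).map (algebraMap A C) := Ideal.mem_map_of_mem _ ha
    rw [hk] at this
    exact (Submodule.mem_bot C).mp this
  obtain ⟨w, ⟨m', hm'⟩, hwu⟩ := hproj k C (C ⧸ J)
    (fun a ha y => by rw [Algebra.smul_def, hkC a ha, zero_mul])
    (fun a ha y => by rw [Algebra.smul_def, ← Ideal.Quotient.mk_algebraMap, hkC a ha, map_zero,
      zero_mul])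
    (Ideal.Quotient.mkₐ A J).toLinearMap Ideal.Quotient.mk_surjective u.toLinearMap ⟨m, hm⟩
  have hw : ∀ b, Ideal.Quotient.mk J (w b) = u b := fun b => congr($hwu b)
  have hw1 : w 1 - 1 ∈ J := by rw [← Ideal.Quotient.eq, hw, map_one, map_one]
  have hwJ : ∀ b b', w (b * b') - w b * w b' ∈ J := by
    intro b b'
    rw [← Ideal.Quotient.eq, hw, map_mul (Ideal.Quotient.mk J), hw, hw, map_mul]
  set N := max m m' with hN
  have hmN : ∀ x ∈ 𝔟 ^ N, u x = 0 :=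
    fun x hx => hm x (Ideal.pow_le_pow_right (le_max_left _ _) hx)
  have hm'N : ∀ x ∈ 𝔟 ^ N, w x = 0 :=
    fun x hx => hm' x (Ideal.pow_le_pow_right (le_max_right _ _) hx)
  -- the ideal 𝔠
  let 𝔠 : Ideal B :=
    { carrier := {c | (∀ j ∈ J, j * w c = 0) ∧ ∀ b, w (b * c) = w b * w c}
      add_mem' := by
        intro a b ha hb
        refine ⟨fun j hj => ?_, fun x => ?_⟩
        · rw [map_add, mul_add, ha.1 j hj, hb.1 j hj, add_zero]
        · rw [mul_add, map_add, map_add, ha.2, hb.2, mul_add]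
      zero_mem' := by
        refine ⟨fun j hj => ?_, fun x => ?_⟩
        · rw [map_zero, mul_zero]
        · rw [mul_zero, map_zero, mul_zero]
      smul_mem' := by
        intro b' c hc
        refine ⟨fun j hj => ?_, fun x => ?_⟩
        · rw [smul_eq_mul, hc.2, mul_left_comm, hc.1 j hj, mul_zero]
        · rw [smul_eq_mul, ← mul_assoc, hc.2, hc.2, ← mul_assoc]
          have h1 := hc.1 _ (hwJ x b')
          rw [sub_mul, sub_eq_zero] at h1
          exact h1 }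
  have F1 : ∀ c ∈ 𝔠, ∀ j ∈ J, j * w c = 0 := fun c hc => hc.1
  have F2 : ∀ b, ∀ c ∈ 𝔠, w (b * c) = w b * w c := fun b c hc => hc.2 b
  have h𝔞𝔠 : 𝔞.map (algebraMap A B) ≤ 𝔠 := by
    rw [Ideal.map_le_iff_le_comap]
    intro a ha
    refine ⟨fun j hj => ?_, fun x => ?_⟩
    · rw [Algebra.algebraMap_eq_smul_one, map_smul, Algebra.smul_def, ← mul_assoc,
        mul_comm j, haJ a ha j hj, zero_mul]
    · have h1 := haJ a ha _ hw1
      rw [mul_comm x, ← Algebra.smul_def, map_smul, Algebra.algebraMap_eq_smul_one a,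
        map_smul, Algebra.smul_def, Algebra.smul_def]
      rw [mul_sub, mul_one, sub_eq_zero] at h1
      rw [h1, mul_comm]
  have h𝔟𝔠 : 𝔟 ^ N ≤ 𝔠 := by
    intro c hc
    refine ⟨fun j hj => ?_, fun x => ?_⟩
    · rw [hm'N c hc, mul_zero]
    · rw [hm'N c hc, mul_zero, hm'N _ (Ideal.mul_mem_left _ x hc)]
  have hI := mem_graphIdeal_iff J u w 𝔠 hw F1 F2
  -- sections
  let σ : B → EB J u := fun b => ⟨(w b, b), (mem_EB J u _).mpr (hw b)⟩
  have hσI : ∀ c ∈ 𝔠, σ c ∈ graphIdeal J u w 𝔠 := fun c hc => (hI _).mpr ⟨hc, rfl⟩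
  let ρ : E J u w 𝔠 →+* B ⧸ 𝔠 := ρE J u w 𝔠 (fun e he => by
      rw [RingHom.comp_apply, Ideal.Quotient.eq_zero_iff_mem]
      exact ((hI e).mp he).1)
  have hJE : ∀ e : EB J u, mkE J u w 𝔠 e ∈ RingHom.ker ρ ↔ (e : C × B).2 ∈ 𝔠 := by
    intro e
    rw [RingHom.mem_ker]
    change Ideal.Quotient.mk 𝔠 (e : C × B).2 = 0 ↔ _
    exact Ideal.Quotient.eq_zero_iff_mem
  have hJEsq : ∀ x ∈ RingHom.ker ρ, ∀ y ∈ RingHom.ker ρ, x * y = 0 := by
    intro x hx y hy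
    obtain ⟨e, rfl⟩ := mkE_surjective J u w 𝔠 x
    obtain ⟨e', rfl⟩ := mkE_surjective J u w 𝔠 y
    rw [hJE] at hx hy
    rw [← map_mul, mkE_eq_zero_iff, hI]
    refine ⟨𝔠.mul_mem_left _ hy, ?_⟩
    change (e : C × B).1 * (e' : C × B).1 = w ((e : C × B).2 * (e' : C × B).2)
    have hj := sub_mem_J J u w hw e
    have hj' := sub_mem_J J u w hw e'
    have h1 : (e' : C × B).1 = w (e' : C × B).2 + ((e' : C × B).1 - w (e' : C × B).2) := by ring
    have h2 : (e : C × B).1 * ((e' : C × B).1 - w (e' : C × B).2) = 0 := by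
      have h3 : (e : C × B).1 = w (e : C × B).2 + ((e : C × B).1 - w (e : C × B).2) := by ring
      rw [h3, add_mul, mul_comm (w _), F1 _ hx _ hj', hJ2 _ hj _ hj', add_zero]
    rw [h1, mul_add, key J u w 𝔠 hw F1 F2 e _ hy, h2, add_zero]
  -- algebra structure over A ⧸ 𝔞
  have hAI : ∀ a ∈ 𝔞, ((mkE J u w 𝔠).comp (algebraMap A (EB J u))) a = 0 := by
    intro a ha
    rw [RingHom.comp_apply, mkE_eq_zero_iff, hI]
    refine ⟨h𝔞𝔠 (Ideal.mem_map_of_mem _ ha), ?_⟩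
    change algebraMap A C a = w (algebraMap A B a)
    have h1 := haJ a ha _ hw1
    rw [mul_sub, mul_one, sub_eq_zero] at h1
    rw [Algebra.algebraMap_eq_smul_one (A := B) a, map_smul, Algebra.smul_def, h1]
  letI algInst : Algebra (A ⧸ 𝔞) (E J u w 𝔠) := (algE J u w 𝔠 𝔞 hAI).toAlgebra
  -- the map u₀
  let φ : B →+* E J u w 𝔠 ⧸ RingHom.ker ρ :=
    { toFun := fun b => Ideal.Quotient.mk (RingHom.ker ρ) (mkE J u w 𝔠 (σ b))
      map_one' := by
        rw [← map_one (Ideal.Quotient.mk (RingHom.ker ρ)),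
          ← map_one (mkE J u w 𝔠), Ideal.Quotient.eq, ← map_sub, hJE]
        change (1 : B) - 1 ∈ 𝔠
        simp
      map_mul' := by
        intro b b'
        rw [← map_mul, ← map_mul, Ideal.Quotient.eq, ← map_sub, hJE]
        change b * b' - b * b' ∈ 𝔠
        simp
      map_zero' := by
        rw [← map_zero (Ideal.Quotient.mk (RingHom.ker ρ)),
          ← map_zero (mkE J u w 𝔠), Ideal.Quotient.eq, ← map_sub, hJE]
        change (0 : B) - 0 ∈ 𝔠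
        simp
      map_add' := by
        intro b b'
        rw [← map_add, ← map_add, Ideal.Quotient.eq, ← map_sub, hJE]
        change b + b' - (b + b') ∈ 𝔠
        simp }
  have hφ : ∀ b ∈ 𝔞.map (algebraMap A B), φ b = 0 := by
    intro b hb
    change Ideal.Quotient.mk (RingHom.ker ρ) (mkE J u w 𝔠 (σ b)) = 0
    rw [(mkE_eq_zero_iff J u w 𝔠 _).mpr (hσI b (h𝔞𝔠 hb)), map_zero]
  let u₀ : B ⧸ 𝔞.map (algebraMap A B) →ₐ[A ⧸ 𝔞] E J u w 𝔠 ⧸ RingHom.ker ρ :=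
    { Ideal.Quotient.lift (𝔞.map (algebraMap A B)) φ hφ with
      commutes' := by
        intro r
        obtain ⟨a, rfl⟩ := Ideal.Quotient.mk_surjective r
        change Ideal.Quotient.mk (RingHom.ker ρ) (mkE J u w 𝔠 (σ (algebraMap A B a))) =
          Ideal.Quotient.mk (RingHom.ker ρ) (mkE J u w 𝔠 (algebraMap A (EB J u) a))
        rw [Ideal.Quotient.eq, ← map_sub, hJE]
        change algebraMap A B a - algebraMap A B a ∈ 𝔠
        simp }
  obtain ⟨v₀, hv₀⟩ := h₀ (E J u w 𝔠) (RingHom.ker ρ) (isNilpotent_of_mul_eq_zero _ hJEsq)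
    ⟨1, by simp⟩ u₀ ⟨N, by
      intro x hx
      rw [← Ideal.map_pow] at hx
      obtain ⟨b, hb, rfl⟩ := (Ideal.mem_map_iff_of_surjective _ Ideal.Quotient.mk_surjective).mp hx
      change Ideal.Quotient.mk (RingHom.ker ρ) (mkE J u w 𝔠 (σ b)) = 0
      rw [(mkE_eq_zero_iff J u w 𝔠 _).mpr (hσI b (h𝔟𝔠 hb)), map_zero]⟩
  -- representatives
  have hrep : ∀ b : B, ∃ e : EB J u, mkE J u w 𝔠 e =
      v₀ (Ideal.Quotient.mk _ b) := fun b => mkE_surjective J u w 𝔠 _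
  choose rep hrepeq using hrep
  have hrep𝔠 : ∀ b, b - (rep b : C × B).2 ∈ 𝔠 := by
    intro b
    have h1 := congr($hv₀ (Ideal.Quotient.mk _ b))
    change Ideal.Quotient.mk (RingHom.ker ρ) (v₀ (Ideal.Quotient.mk _ b)) =
      Ideal.Quotient.mk (RingHom.ker ρ) (mkE J u w 𝔠 (σ b)) at h1
    rw [← hrepeq, Ideal.Quotient.eq, ← map_sub, hJE] at h1
    have h2 : (rep b : C × B).2 - b ∈ 𝔠 := h1
    have := 𝔠.neg_mem h2
    rwa [neg_sub] at this
  have hv_mul : ∀ b b', Θ J u w (rep (b * b')) (b * b') =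
      Θ J u w (rep b) b * Θ J u w (rep b') b' := by
    intro b b'
    rw [Θ_congr J u w 𝔠 hw F1 F2 (rep (b * b')) (rep b * rep b') (b * b') ?_,
      Θ_mul J u w 𝔠 hw F1 F2 _ _ _ _ (hrep𝔠 b) (hrep𝔠 b')]
    rw [← mkE_eq_iff, map_mul, hrepeq, hrepeq, hrepeq, map_mul, map_mul]
  have hv_add : ∀ b b', Θ J u w (rep (b + b')) (b + b') =
      Θ J u w (rep b) b + Θ J u w (rep b') b' := by
    intro b b'
    rw [Θ_congr J u w 𝔠 hw F1 F2 (rep (b + b')) (rep b + rep b') (b + b') ?_, Θ_add]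
    rw [← mkE_eq_iff, map_add, hrepeq, hrepeq, hrepeq, map_add, map_add]
  have hv_alg : ∀ a, Θ J u w (rep (algebraMap A B a)) (algebraMap A B a) = algebraMap A C a := by
    intro a
    rw [Θ_congr J u w 𝔠 hw F1 F2 (rep (algebraMap A B a)) (algebraMap A (EB J u) a) _ ?_]
    · unfold Θ
      change algebraMap A C a + w (algebraMap A B a - algebraMap A B a) = _
      simp
    · rw [← mkE_eq_iff, hrepeq]
      exact v₀.commutes (Ideal.Quotient.mk 𝔞 a)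
  let v : B →ₐ[A] C :=
    { toFun := fun b => Θ J u w (rep b) b
      map_one' := by rw [← map_one (algebraMap A B), hv_alg, map_one]
      map_mul' := hv_mul
      map_zero' := by rw [← map_zero (algebraMap A B), hv_alg, map_zero]
      map_add' := hv_add
      commutes' := hv_alg }
  refine ⟨v, ?_⟩
  ext b
  exact mk_Θ J u w hw (rep b) b


/-- Let A be 𝔞-adic (a preadmissible ring with ideal of definition 𝔞), B a topological A-algebra for the
𝔟-adic topology (a power of 𝔞 maps into 𝔟) which is a formally projective topological A-module, and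
put A₀ = A/𝔞, B₀ = B/𝔞B with the quotient topologies (A₀ discrete). Then B is a formally smooth
A-algebra if and only if B₀ is a formally smooth A₀-algebra. -/
theorem result {A B : Type u} [CommRing A] [CommRing B] [Algebra A B]
    (𝔞 : Ideal A) (𝔟 : Ideal B) (hAB : ∃ k : ℕ, (𝔞 ^ k).map (algebraMap A B) ≤ 𝔟)
    (hproj : ∀ (n : ℕ) (P Q : Type u) [AddCommGroup P] [Module A P] [AddCommGroup Q] [Module A Q],
      (∀ a ∈ 𝔞 ^ n, ∀ y : P, a • y = 0) → (∀ a ∈ 𝔞 ^ n, ∀ y : Q, a • y = 0) →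
      ∀ f : P →ₗ[A] Q, Function.Surjective f → ∀ v : B →ₗ[A] Q, (∃ m : ℕ, ∀ x ∈ 𝔟 ^ m, v x = 0) →
        ∃ w : B →ₗ[A] P, (∃ m : ℕ, ∀ x ∈ 𝔟 ^ m, w x = 0) ∧ f ∘ₗ w = v) :
    EGA41.IsFormallySmoothAdic A 𝔞 B 𝔟 ↔
      EGA41.IsFormallySmoothAdic (A ⧸ 𝔞) ⊥ (B ⧸ 𝔞.map (algebraMap A B))
        (𝔟.map (Ideal.Quotient.mk (𝔞.map (algebraMap A B)))) := by
  obtain ⟨_, _⟩ := hAB
  exact ⟨forward 𝔞 𝔟, fun h₀ => isFormallySmoothAdic_of_liftProp (liftProp_of_proj 𝔞 𝔟 hproj h₀)⟩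

end Groth.Agent.S4553
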