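import Groth.Statements.S2481
-- import your own Groth.Agent.* helpers here
import Groth.Agent.Lib.Helper31.SmallExt
import Groth.Agent.S4553

set_option autoImplicit false
universe u
open EGA41

namespace Groth.Agent.S2481

open IsLocalRing in
/-- a local homomorphism into an Artinian local ring kills a power of the maximal ideal -/
theorem exists_pow_map_eq_zero {S T : Type*} [CommRing S] [CommRing T] [IsLocalRing S]
    [IsLocalRing T] [IsArtinianRing T] (f : S →+* T) [IsLocalHom f] :
    ∃ k : ℕ, ∀ x ∈ maximalIdeal S ^ k, f x = 0 := by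
  obtain ⟨k, hk⟩ := (isArtinianRing_iff_isNilpotent_maximalIdeal T).mp inferInstance
  refine ⟨k, fun x hx => ?_⟩
  have h1 : f x ∈ (maximalIdeal S ^ k).map f := Ideal.mem_map_of_mem _ hx
  rw [Ideal.map_pow] at h1
  have h2 := Ideal.pow_right_mono (IsLocalRing.map_maximalIdeal_le f) k h1
  rw [hk] at h2
  exact h2


open IsLocalRing in
/-- Let A → B be a local homomorphism of Noetherian local rings with the adic topologies, K the residue
field of B. Then B is formally smooth over A if and only if: for every Artinian local ring C with a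
local homomorphism A → C, every nilpotent ideal J of C and every local A-algebra homomorphism u : B
→ C/J inducing a bijection of residue fields (so that C has residue field K and u induces the
identity on it), u is induced by a local A-algebra homomorphism B → C. -/
theorem result {A B : Type u} [CommRing A] [IsLocalRing A] [IsNoetherianRing A] [CommRing B] [IsLocalRing B] [IsNoetherianRing B]
    [Algebra A B] [IsLocalHom (algebraMap A B)] :
    EGA41.IsFormallySmoothAdic A (maximalIdeal A) B (maximalIdeal B) ↔
      ∀ (C : Type u) [CommRing C] [IsLocalRing C] [IsArtinianRing C] [Algebra A C] [IsLocalHom (algebraMap A C)]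
        (J : Ideal C), IsNilpotent J → ∀ [IsLocalRing (C ⧸ J)] (u : B →ₐ[A] C ⧸ J) [IsLocalHom u.toRingHom],
        Function.Bijective (ResidueField.map u.toRingHom) →
        ∃ f : B →ₐ[A] C, IsLocalHom f.toRingHom ∧ (Ideal.Quotient.mkₐ A J).comp f = u := by
  constructor
  · intro h C _ _ _ _ _ J hJ _ u _ _
    have h1 : ∃ k : ℕ, (maximalIdeal A ^ k).map (algebraMap A C) = ⊥ := by
      obtain ⟨k, hk⟩ := exists_pow_map_eq_zero (algebraMap A C)
      refine ⟨k, ?_⟩
      rw [eq_bot_iff, Ideal.map_le_iff_le_comap]
      intro x hx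
      rw [Ideal.mem_comap, hk x hx]
      exact Ideal.zero_mem _
    obtain ⟨v, hv⟩ := h C J hJ h1 u (exists_pow_map_eq_zero u.toRingHom)
    refine ⟨v, ⟨fun b hb => ?_⟩, hv⟩
    have h2 : IsUnit (u.toRingHom b) := by
      have h3 : u b = Ideal.Quotient.mk J (v b) := (congr($hv b)).symm
      change IsUnit (u b)
      rw [h3]
      exact hb.map _
    exact IsLocalHom.map_nonunit (f := u.toRingHom) b h2
  · intro h
    have hsmall : Groth.Agent.Lib.Helper31.SmallExt.SmallLift A B := by
      intro A' _ _ _ _ _ J hJ _ _ ψ _ hbij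
      obtain ⟨f, _, hf⟩ := h A' J ⟨2, hJ⟩ ψ hbij
      exact ⟨f, hf⟩
    have hsm := Groth.Agent.Lib.Helper31.SmallExt.isAdicFormallySmooth_of_smallLift hsmall
    apply Groth.Agent.S4553.isFormallySmoothAdic_of_liftProp
    intro C _ _ J hsq _ _ u hu
    refine hsm C J ?_ u hu
    rw [eq_bot_iff, pow_two, Ideal.mul_le]
    intro j hj j' hj'
    rw [hsq j hj j' hj']
    exact Ideal.zero_mem _

end Groth.Agent.S2481
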