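import Groth.Statements.S2482
import Groth.Agent.S7134
import Groth.Agent.S4542
import Groth.Agent.S4537

set_option autoImplicit false
universe u
open EGA41

namespace Groth.Agent.S2482

open IsLocalRing in
theorem injective_of_map_eq {A B : Type u} [CommRing A] [IsDomain A] [IsDiscreteValuationRing A]
    [CommRing B] [IsDomain B] [IsDiscreteValuationRing B]
    (u : A →+* B) (hu : (maximalIdeal A).map u = maximalIdeal B) : Function.Injective u := by
  rw [injective_iff_map_eq_zero]
  intro a ha
  by_contra hne
  obtain ⟨ϖ, hϖ⟩ := IsDiscreteValuationRing.exists_irreducible A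
  obtain ⟨n, w, rfl⟩ := IsDiscreteValuationRing.eq_unit_mul_pow_irreducible hne hϖ
  rw [map_mul, map_pow] at ha
  have hw : IsUnit (u (w : A)) := w.isUnit.map u
  have h0 : u ϖ = 0 := by
    rcases mul_eq_zero.mp ha with h | h
    · exact absurd h hw.ne_zero
    · exact pow_eq_zero_iff (n := n) (by
        rintro rfl; simp at h) |>.mp h
  have hm : maximalIdeal A = Ideal.span {ϖ} :=
    (IsDiscreteValuationRing.irreducible_iff_uniformizer ϖ).mp hϖ
  rw [hm, Ideal.map_span, Set.image_singleton, h0] at hu
  have := IsDiscreteValuationRing.not_a_field B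
  apply this
  rw [← hu]; simp


open IsLocalRing in
/-- (a) ⟹ (b): let A, B be complete discrete valuation rings and u : A → B a ring homomorphism with
u(𝔪_A)B = 𝔪_B, such that the residue field L of B is separable over the residue field K of A. Then
for every complete discrete valuation ring B', every homomorphism u' : A → B' with u'(𝔪_A)B' =
𝔪_{B'} and every isomorphism σ of residue fields L ≅ L' compatible with the maps from K, there is an
isomorphism w : B ≅ B' with u' = w ∘ u inducing σ on residue fields. -/
theorem result {A B B' : Type u} [CommRing A] [IsDomain A] [IsDiscreteValuationRing A] [IsAdicComplete (maximalIdeal A) A]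
    [CommRing B] [IsDomain B] [IsDiscreteValuationRing B] [IsAdicComplete (maximalIdeal B) B]
    [CommRing B'] [IsDomain B'] [IsDiscreteValuationRing B'] [IsAdicComplete (maximalIdeal B') B']
    (u : A →+* B) [IsLocalHom u] (hu : (maximalIdeal A).map u = maximalIdeal B)
    (hsep : letI := (ResidueField.map u).toAlgebra; Algebra.IsGeometricallyReduced (ResidueField A) (ResidueField B))
    (u' : A →+* B') [IsLocalHom u'] (hu' : (maximalIdeal A).map u' = maximalIdeal B')
    (σ : ResidueField B ≃+* ResidueField B') (hσ : (σ : ResidueField B →+* ResidueField B').comp (ResidueField.map u) = ResidueField.map u') :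
    ∃ w : B ≃+* B', (w : B →+* B').comp u = u' ∧ ∀ b : B, residue B' (w b) = σ (residue B b) := by
  have hinj : Function.Injective u := injective_of_map_eq u hu
  letI : Algebra A B := u.toAlgebra
  letI : Algebra A B' := u'.toAlgebra
  haveI : IsLocalHom (algebraMap A B) := ‹IsLocalHom u›
  haveI : IsLocalHom (algebraMap A B') := ‹IsLocalHom u'›
  have hinst : (ResidueField.map u).toAlgebra =
      (inferInstance : Algebra (ResidueField A) (ResidueField B)) := by
    apply Algebra.algebra_ext
    intro r
    obtain ⟨a, rfl⟩ := residue_surjective r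
    rfl
  have hsep' : Algebra.IsGeometricallyReduced (ResidueField A) (ResidueField B) := by
    have h := hsep
    rw [hinst] at h
    exact h
  have hfs : CAlgX.IsAdicFormallySmooth A B (maximalIdeal B) :=
    (Groth.Agent.S7134.result A B hinj).mpr ⟨hu, hsep'⟩
  have hfs' : EGA41.IsFormallySmoothAdic A ⊥ B (maximalIdeal B) :=
    (Groth.Agent.S4537.result _).mp hfs
  -- the map to the residue field
  let u₀ : B →ₐ[A] B' ⧸ maximalIdeal B' :=
    { toRingHom := (σ : ResidueField B →+* ResidueField B').comp (residue B)
      commutes' := by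
        intro a
        have := congrArg (fun φ => φ (residue A a)) hσ
        simp only [RingHom.comp_apply] at this
        exact this }
  haveI : IsHausdorff ((maximalIdeal B').map (Ideal.Quotient.mk (maximalIdeal B')))
      (B' ⧸ maximalIdeal B') := by
    have : (maximalIdeal B').map (Ideal.Quotient.mk (maximalIdeal B')) = ⊥ := by
      rw [Ideal.map_quotient_self]
    rw [this]
    refine ⟨fun x hx => ?_⟩
    have := hx 1
    rw [pow_one, Submodule.bot_smul, SModEq.bot] at this
    exact this
  obtain ⟨v, -, hv⟩ := Groth.Agent.S4542.result (A := A) (B := B) (C := B')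
    ⊥ (maximalIdeal B) (maximalIdeal B') hfs'
    ⟨1, by rw [pow_one, Ideal.map_bot]; exact bot_le⟩ (maximalIdeal B')
    ⟨1, by rw [pow_one]⟩ u₀
    ⟨1, by
      rw [pow_one, Ideal.map_le_iff_le_comap]
      intro b hb
      rw [Ideal.mem_comap]
      have : u₀ b = 0 := by
        show σ (residue B b) = 0
        rw [(residue_eq_zero_iff b).mpr hb, map_zero]
      show u₀ b ∈ _
      rw [this]; exact zero_mem _⟩
  have hres : ∀ b : B, residue B' (v b) = σ (residue B b) := by
    intro b
    exact DFunLike.congr_fun hv b
  have hvu : ∀ a : A, v (u a) = u' a := fun a => v.commutes a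
  obtain ⟨ϖ, hϖ⟩ := IsDiscreteValuationRing.exists_irreducible A
  have hmA : maximalIdeal A = Ideal.span {ϖ} :=
    (IsDiscreteValuationRing.irreducible_iff_uniformizer ϖ).mp hϖ
  have hmB : maximalIdeal B = Ideal.span {u ϖ} := by
    rw [← hu, hmA, Ideal.map_span, Set.image_singleton]
  have hmB' : maximalIdeal B' = Ideal.span {u' ϖ} := by
    rw [← hu', hmA, Ideal.map_span, Set.image_singleton]
  have hϖB : Irreducible (u ϖ) := (IsDiscreteValuationRing.irreducible_iff_uniformizer _).mpr hmB
  have hu'ϖ : u' ϖ ≠ 0 := by
    intro h
    rw [h] at hmB'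
    apply IsDiscreteValuationRing.not_a_field B'
    rw [hmB']; simp
  have hvinj : Function.Injective v := by
    rw [injective_iff_map_eq_zero]
    intro b hb
    by_contra hne
    obtain ⟨n, w, rfl⟩ := IsDiscreteValuationRing.eq_unit_mul_pow_irreducible hne hϖB
    rw [map_mul, map_pow, hvu] at hb
    have hw : IsUnit (v (w : B)) := w.isUnit.map v
    rcases mul_eq_zero.mp hb with h | h
    · exact hw.ne_zero h
    · exact pow_ne_zero n hu'ϖ h
  have hmap : (maximalIdeal B).map (v : B →+* B') = maximalIdeal B' := by
    rw [hmB, Ideal.map_span, Set.image_singleton, hmB']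
    congr 2
    exact hvu ϖ
  have hvsurj : Function.Surjective (v : B →+* B') := by
    haveI : IsHausdorff ((maximalIdeal B).map (v : B →+* B')) B' := by
      rw [hmap]; infer_instance
    apply surjective_of_mk_map_comp_surjective (I := maximalIdeal B)
    intro x
    obtain ⟨b', rfl⟩ := Ideal.Quotient.mk_surjective x
    obtain ⟨b, hb⟩ : ∃ b, σ (residue B b) = residue B' b' := by
      obtain ⟨r, hr⟩ := σ.surjective (residue B' b')
      obtain ⟨b, rfl⟩ := residue_surjective r
      exact ⟨b, hr⟩
    refine ⟨b, ?_⟩
    simp only [RingHom.comp_apply]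
    rw [Ideal.Quotient.eq, hmap]
    have h1 : residue B' (v b - b') = 0 := by
      rw [map_sub, hres, hb, sub_self]
    exact (residue_eq_zero_iff _).mp h1
  refine ⟨RingEquiv.ofBijective (v : B →+* B') ⟨hvinj, hvsurj⟩, ?_, ?_⟩
  · ext a
    exact hvu a
  · intro b
    exact hres b

end Groth.Agent.S2482
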